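import Groth.Statements.S7661
import Mathlib.RingTheory.Ideal.Operations
import Mathlib.Order.Preorder.Finite

set_option autoImplicit false
universe u
open CategoryTheory CategoryTheory.Limits AlgebraicGeometry
open Variety

namespace Groth.Agent.S7661

/-- Let A be a ring, I an ideal, p_1, …, p_r prime ideals with I ⊄ p_i for all i, and let f̄ ∈ A/I. Then
f̄ lifts to an element f ∈ A with f ∉ p_i for all i. -/
theorem result (A : Type u) [CommRing A] (I : Ideal A)
    (s : Finset (Ideal A)) (hs : ∀ p ∈ s, p.IsPrime) (hI : ∀ p ∈ s, ¬ I ≤ p) (fbar : A ⧸ I) :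
    ∃ f : A, Ideal.Quotient.mk I f = fbar ∧ ∀ p ∈ s, f ∉ p := by
  classical
  obtain ⟨f0, rfl⟩ := Ideal.Quotient.mk_surjective fbar
  -- the maximal elements of `s`, split according to whether they contain `f0`
  let s1 : Finset (Ideal A) := s.filter (fun p => Maximal (· ∈ s) p ∧ f0 ∈ p)
  let s2 : Finset (Ideal A) := s.filter (fun p => Maximal (· ∈ s) p ∧ f0 ∉ p)
  let J : Ideal A := I ⊓ s2.inf id
  have hJ : ¬ ((J : Set A) ⊆ ⋃ p ∈ (s1 : Set (Ideal A)), (id p : Ideal A)) := by
    rw [Ideal.subset_union_prime (f := id) ⊤ ⊤]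
    · rintro ⟨p, hp1, hJp⟩
      rw [Finset.mem_filter] at hp1
      obtain ⟨hps, hpmax, hf0p⟩ := hp1
      have hpprime : p.IsPrime := hs p hps
      rcases hpprime.inf_le.mp hJp with h1 | h2
      · exact hI p hps h1
      · obtain ⟨q, hq2, hqp⟩ := hpprime.inf_le'.mp h2
        rw [Finset.mem_filter] at hq2
        obtain ⟨hqs, hqmax, hf0q⟩ := hq2
        have hpq : p ≤ q := hqmax.le_of_ge hps hqp
        have : q = p := le_antisymm hqp hpq
        exact hf0q (this ▸ hf0p)
    · intro p hp1 _ _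
      rw [Finset.mem_filter] at hp1
      exact hs p hp1.1
  obtain ⟨i, hiJ, hi⟩ := Set.not_subset.mp hJ
  refine ⟨f0 + i, ?_, ?_⟩
  · rw [map_add, (Ideal.Quotient.eq_zero_iff_mem).mpr hiJ.1, add_zero]
  · intro p hp
    obtain ⟨q, hpq, hqmax⟩ := s.exists_le_maximal hp
    intro hfp
    have hfq : f0 + i ∈ q := hpq hfp
    by_cases hf0q : f0 ∈ q
    · -- q ∈ s1, so i ∉ q
      apply hi
      have hq1 : q ∈ s1 := Finset.mem_filter.mpr ⟨hqmax.prop, hqmax, hf0q⟩
      have hiq : i ∈ q := by
        have := q.sub_mem hfq hf0q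
        simpa using this
      exact Set.mem_biUnion (show q ∈ (s1 : Set (Ideal A)) from hq1) hiq
    · -- q ∈ s2, so i ∈ q
      have hq2 : q ∈ s2 := Finset.mem_filter.mpr ⟨hqmax.prop, hqmax, hf0q⟩
      have hiq : i ∈ q := by
        have h1 : s2.inf id ≤ q := Finset.inf_le (f := id) hq2
        exact h1 hiJ.2
      apply hf0q
      have := q.sub_mem hfq hiq
      simpa using this

end Groth.Agent.S7661
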