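import Groth.Statements.S7431
import Mathlib.CategoryTheory.Limits.Types.Pullbacks
import Mathlib.AlgebraicGeometry.Morphisms.OpenImmersion

set_option autoImplicit false
universe u
open CategoryTheory AlgebraicGeometry
open Lim

namespace Groth.Agent.S7431

section Algebra

variable {B B' R R' : Type u} [CommRing B] [CommRing B'] [CommRing R] [CommRing R']
  (s : B →+* R) (t : R' →+* R) (p : B' →+* B) (q : B' →+* R')

/-- Element-level description of a cartesian square of rings. -/
structure IsFibre : Prop where
  comm : ∀ b', s (p b') = t (q b')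
  ext : ∀ x y, p x = p y → q x = q y → x = y
  exists_ : ∀ b r', s b = t r' → ∃ b', p b' = b ∧ q b' = r'

theorem isFibre_of_isPullback
    (hsq : IsPullback (CommRingCat.ofHom p) (CommRingCat.ofHom q) (CommRingCat.ofHom s)
      (CommRingCat.ofHom t)) : IsFibre s t p q := by
  have h := hsq.map (forget CommRingCat)
  refine ⟨fun b' => ?_, fun x y h1 h2 => ?_, fun b r' hbr => ?_⟩
  · exact congr($(hsq.w) b')
  · exact Limits.Types.ext_of_isPullback h h1 h2
  · exact Limits.Types.exists_of_isPullback h b r' hbr

variable {s t p q}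

theorem IsFibre.awayMap_bijective (hF : IsFibre s t p q) (h : B')
    (hiso : Function.Bijective (Localization.awayMap s (p h))) :
    Function.Bijective (Localization.awayMap q h) := by
  have hgf : s (p h) = t (q h) := hF.comm h
  refine ⟨Localization.awayMap_injective_iff.mpr fun c hc => ?_,
    Localization.awayMap_surjective_iff.mpr fun r' => ?_⟩
  · have h1 : s (p c) = 0 := by rw [hF.comm, hc, map_zero]
    obtain ⟨n, hn⟩ := Localization.awayMap_injective_iff.mp hiso.1 (p c) h1
    refine ⟨n, hF.ext _ _ ?_ ?_⟩
    · rw [map_mul, map_pow, hn, map_zero]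
    · rw [map_mul, hc, mul_zero, map_zero]
  · obtain ⟨b, m, hb⟩ := Localization.awayMap_surjective_iff.mp hiso.2 (t r')
    have h1 : s b = t (q h ^ m * r') := by rw [hb, hgf, map_mul, map_pow]
    obtain ⟨b', -, hb'⟩ := hF.exists_ b _ h1
    exact ⟨b', m, hb'⟩

end Algebra

/-- Let `B' = B ×_R R'` be a cartesian square of rings with maps `s : B → R`, `t : R' → R`, and let `W'
= D(f_1) ∪ … ∪ D(f_n) ⊆ Spec R'` with `t(f_i) = s(g_i)` for elements `g_i ∈ B` such that `B_{g_i} →
R_{s(g_i)}` is an isomorphism for each `i`. Then the composite `W' → Spec R' → Spec B'`, the second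
map coming from `B' → R'`, is an open immersion. -/
theorem result {B B' R R' : Type u} [CommRing B] [CommRing B']
    [CommRing R] [CommRing R'] (s : B →+* R) (t : R' →+* R) (p : B' →+* B) (q : B' →+* R')
    (hsq : IsPullback (CommRingCat.ofHom p) (CommRingCat.ofHom q) (CommRingCat.ofHom s) (CommRingCat.ofHom t))
    {n : ℕ} (f : Fin n → R') (g : Fin n → B) (hfg : ∀ i, t (f i) = s (g i))
    (hiso : ∀ i, Function.Bijective (Localization.awayMap s (g i))) :
    IsOpenImmersion (Scheme.Opens.ι (X := Spec (CommRingCat.of R')) (⨆ i, PrimeSpectrum.basicOpen (f i)) ≫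
      Spec.map (CommRingCat.ofHom q)) := by
  have hF := isFibre_of_isPullback s t p q hsq
  choose h hp hq using fun i => hF.exists_ (g i) (f i) (hfg i).symm
  have hbij : ∀ i, Function.Bijective (Localization.awayMap q (h i)) := fun i =>
    hF.awayMap_bijective (h i) (by rw [hp i]; exact hiso i)
  have hsurj : ∀ i (r' : R'), ∃ (b' : B') (m : ℕ), q b' = f i ^ m * r' := fun i r' => by
    obtain ⟨b', m, hb'⟩ := Localization.awayMap_surjective_iff.mp (hbij i).2 r'
    exact ⟨b', m, by rw [hb', hq i]⟩
  set W' : (Spec (CommRingCat.of R')).Opens := ⨆ i, PrimeSpectrum.basicOpen (f i) with hW'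
  refine IsOpenImmersion.of_forall_source_exists _ ?_ ?_
  · -- injectivity on points
    intro x y hxy
    apply W'.ι.isOpenEmbedding.injective
    have hxy' : Spec.map (CommRingCat.ofHom q) (W'.ι x) = Spec.map (CommRingCat.ofHom q) (W'.ι y) := by
      simpa using hxy
    obtain ⟨i, hi⟩ := TopologicalSpace.Opens.mem_iSup.mp (show W'.ι x ∈ W' from x.2)
    have key : ∀ P P' : PrimeSpectrum R', PrimeSpectrum.comap q P = PrimeSpectrum.comap q P' →
        f i ∉ P.asIdeal → P.asIdeal ≤ P'.asIdeal := by
      intro P P' hPP' hfP r' hr'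
      have hfP' : f i ∉ P'.asIdeal := by
        intro hmem
        apply hfP
        have : h i ∈ (PrimeSpectrum.comap q P').asIdeal := by
          change q (h i) ∈ P'.asIdeal
          rw [hq i]; exact hmem
        rw [← hPP'] at this
        have : q (h i) ∈ P.asIdeal := this
        rwa [hq i] at this
      obtain ⟨b', m, hb'⟩ := hsurj i r'
      have h1 : b' ∈ (PrimeSpectrum.comap q P).asIdeal := by
        change q b' ∈ P.asIdeal
        rw [hb']; exact Ideal.mul_mem_left _ _ hr'
      rw [hPP'] at h1
      have h2 : f i ^ m * r' ∈ P'.asIdeal := by rw [← hb']; exact h1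
      exact (P'.isPrime.mem_or_mem h2).resolve_left fun h3 => hfP' (P'.isPrime.mem_of_pow_mem _ h3)
    have hxP : f i ∉ (W'.ι x).asIdeal := hi
    have hyP : f i ∉ (W'.ι y).asIdeal := by
      intro hmem
      apply hxP
      have : h i ∈ (PrimeSpectrum.comap q (W'.ι y)).asIdeal := by
        change q (h i) ∈ (W'.ι y).asIdeal
        rw [hq i]; exact hmem
      rw [show PrimeSpectrum.comap q (W'.ι y) = PrimeSpectrum.comap q (W'.ι x) from hxy'.symm] at this
      have : q (h i) ∈ (W'.ι x).asIdeal := this
      rwa [hq i] at this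
    exact PrimeSpectrum.ext (le_antisymm (key _ _ hxy' hxP) (key _ _ hxy'.symm hyP))
  · -- local structure
    intro x
    obtain ⟨i, hi⟩ := TopologicalSpace.Opens.mem_iSup.mp (show W'.ι x ∈ W' from x.2)
    let A := Localization.Away (q (h i))
    let j₀ : Spec (CommRingCat.of A) ⟶ Spec (CommRingCat.of R') :=
      Spec.map (CommRingCat.ofHom (algebraMap R' A))
    have hj₀ : IsOpenImmersion j₀ := inferInstance
    have hrange : Set.range j₀ = (PrimeSpectrum.basicOpen (q (h i)) : Set (PrimeSpectrum R')) :=
      PrimeSpectrum.localization_away_comap_range A (q (h i))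
    have hle : Set.range j₀ ⊆ Set.range W'.ι := by
      rw [hrange, Scheme.Opens.range_ι, hq i]
      exact fun z hz => TopologicalSpace.Opens.mem_iSup.mpr ⟨i, hz⟩
    let j : Spec (CommRingCat.of A) ⟶ W'.toScheme := IsOpenImmersion.lift W'.ι j₀ hle
    have hj : j ≫ W'.ι = j₀ := IsOpenImmersion.lift_fac _ _ _
    have hjo : IsOpenImmersion j := by
      have : IsOpenImmersion (j ≫ W'.ι) := by rw [hj]; exact hj₀
      exact IsOpenImmersion.of_comp j W'.ι
    refine ⟨_, j, hjo, ?_, ?_⟩
    · have : W'.ι x ∈ Set.range j₀ := by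
        rw [hrange, hq i]; exact hi
      obtain ⟨u, hu⟩ := this
      refine ⟨u, W'.ι.isOpenEmbedding.injective ?_⟩
      rw [← hu, ← hj]; rfl
    · rw [← Category.assoc, hj]
      have hcomp : CommRingCat.ofHom q ≫ CommRingCat.ofHom (algebraMap R' A) =
          CommRingCat.ofHom (algebraMap B' (Localization.Away (h i))) ≫
            CommRingCat.ofHom (Localization.awayMap q (h i)) := by
        ext b
        change algebraMap R' A (q b) =
          Localization.awayMap q (h i) (algebraMap B' (Localization.Away (h i)) b)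
        exact (IsLocalization.map_eq (S := Localization.Away (h i)) (Q := A) _ b).symm
      change IsOpenImmersion (Spec.map _ ≫ Spec.map _)
      rw [← Spec.map_comp, hcomp, Spec.map_comp]
      have : IsIso (CommRingCat.ofHom (Localization.awayMap q (h i))) :=
        (ConcreteCategory.isIso_iff_bijective _).mpr (hbij i)
      infer_instance

end Groth.Agent.S7431
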