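import Groth.Statements.S16572
import Mathlib
import Groth.Agent.Lib.MonicTower97
-- import your own Groth.Agent.* helpers here

set_option autoImplicit false
universe u
open CAlg

namespace Groth.Agent.S16572

open Polynomial

abbrev Idx (A : Type u) [CommRing A] := {P : Polynomial A // P.Monic ∧ 0 < P.natDegree}

noncomputable abbrev JJ (A : Type u) [CommRing A] : Ideal (MvPolynomial (Idx A) A) :=
  Ideal.span (Set.range fun P : Idx A => Polynomial.aeval (MvPolynomial.X (R := A) P) P.1)

abbrev TT (A : Type u) [CommRing A] := MvPolynomial (Idx A) A ⧸ JJ A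

/-- the tautological root of `P` -/
noncomputable def xx (A : Type u) [CommRing A] (P : Idx A) : TT A :=
  Ideal.Quotient.mk (JJ A) (MvPolynomial.X P)

theorem xx_root (A : Type u) [CommRing A] (P : Idx A) : Polynomial.aeval (xx A P) P.1 = 0 := by
  have h1 : Polynomial.aeval (xx A P) P.1 =
      Ideal.Quotient.mkₐ A (JJ A) (Polynomial.aeval (MvPolynomial.X (R := A) P) P.1) :=
    Polynomial.aeval_algHom_apply (Ideal.Quotient.mkₐ A (JJ A)) (MvPolynomial.X (R := A) P) P.1
  rw [h1]
  exact Ideal.Quotient.eq_zero_iff_mem.mpr (Ideal.subset_span ⟨P, rfl⟩)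

theorem surj (A : Type u) [CommRing A] :
    Function.Surjective (PrimeSpectrum.comap (algebraMap A (TT A))) := by
  intro p
  let Ω := AlgebraicClosure p.asIdeal.ResidueField
  have hroots : ∀ P : Idx A, ∃ x : Ω, Polynomial.aeval x P.1 = 0 := by
    intro P
    have hdeg : (P.1.map (algebraMap A Ω)).degree ≠ 0 := by
      rw [P.2.1.degree_map]
      exact (natDegree_pos_iff_degree_pos.mp P.2.2).ne'
    obtain ⟨x, hx⟩ := IsAlgClosed.exists_root _ hdeg
    refine ⟨x, ?_⟩
    rw [IsRoot.def, eval_map] at hx
    exact hx
  choose r hr using hroots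
  let θ₀ : MvPolynomial (Idx A) A →ₐ[A] Ω := MvPolynomial.aeval r
  have hθ₀ : ∀ a ∈ JJ A, θ₀ a = 0 := by
    intro a ha
    have hle : JJ A ≤ RingHom.ker (θ₀ : MvPolynomial (Idx A) A →+* Ω) := by
      rw [Ideal.span_le]
      rintro _ ⟨P, rfl⟩
      show θ₀ (Polynomial.aeval (MvPolynomial.X (R := A) P) P.1) = 0
      rw [← Polynomial.aeval_algHom_apply]
      have : θ₀ (MvPolynomial.X P) = r P := MvPolynomial.aeval_X r P
      rw [this]
      exact hr P
    exact hle ha
  let θ : TT A →ₐ[A] Ω := Ideal.Quotient.liftₐ (JJ A) θ₀ hθ₀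
  have hprime : (RingHom.ker (θ : TT A →+* Ω)).IsPrime := RingHom.ker_isPrime _
  refine ⟨⟨RingHom.ker (θ : TT A →+* Ω), hprime⟩, ?_⟩
  ext a
  show algebraMap A (TT A) a ∈ RingHom.ker (θ : TT A →+* Ω) ↔ a ∈ p.asIdeal
  rw [RingHom.mem_ker]
  have h1 : (θ : TT A →+* Ω) (algebraMap A (TT A) a) = algebraMap A Ω a := θ.commutes a
  rw [h1, IsScalarTower.algebraMap_apply A p.asIdeal.ResidueField Ω,
    map_eq_zero_iff _ (algebraMap p.asIdeal.ResidueField Ω).injective,
    Ideal.algebraMap_residueField_eq_zero]

theorem isIntegral_TT (A : Type u) [CommRing A] : Algebra.IsIntegral A (TT A) := by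
  refine ⟨fun t => ?_⟩
  obtain ⟨m, rfl⟩ := Ideal.Quotient.mk_surjective t
  have hle : (⊤ : Subalgebra A (MvPolynomial (Idx A) A)) ≤
      (integralClosure A (TT A)).comap (Ideal.Quotient.mkₐ A (JJ A)) := by
    rw [← MvPolynomial.adjoin_range_X, Algebra.adjoin_le_iff]
    rintro _ ⟨P, rfl⟩
    show IsIntegral A (xx A P)
    exact ⟨P.1, P.2.1, xx_root A P⟩
  exact hle (show m ∈ ⊤ from trivial)

theorem resField (A : Type u) [CommRing A] (Q : Ideal (TT A)) [Q.IsPrime] :
    IsAlgClosed Q.ResidueField ∧
      (Ideal.ResidueField.map (Q.comap (algebraMap A (TT A))) Q (algebraMap A (TT A)) rfl).IsIntegral := by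
  classical
  set p := Q.comap (algebraMap A (TT A)) with hp
  set ρ := Ideal.ResidueField.map p Q (algebraMap A (TT A)) rfl with hρ
  let _ : Algebra p.ResidueField Q.ResidueField := ρ.toAlgebra
  have hρalg : algebraMap p.ResidueField Q.ResidueField = ρ := RingHom.algebraMap_toAlgebra ρ
  have htower : IsScalarTower A p.ResidueField Q.ResidueField := by
    refine IsScalarTower.of_algebraMap_eq fun a => ?_
    rw [hρalg, hρ, Ideal.ResidueField.map_algebraMap,
      ← IsScalarTower.algebraMap_apply A (TT A) Q.ResidueField]
  have hintT := isIntegral_TT A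
  -- integrality of κ(Q) over κ(p)
  have hint : ∀ z : Q.ResidueField, IsIntegral p.ResidueField z := by
    have hT : ∀ t : TT A, IsIntegral p.ResidueField (algebraMap (TT A) Q.ResidueField t) := by
      intro t
      have h1 : IsIntegral A t := Algebra.IsIntegral.isIntegral t
      have h2 : IsIntegral A (algebraMap (TT A) Q.ResidueField t) := h1.algebraMap
      exact h2.tower_top
    intro z
    obtain ⟨a, b, _, rfl⟩ := IsFractionRing.div_surjective (A := TT A ⧸ Q) z
    obtain ⟨a', rfl⟩ := Ideal.Quotient.mk_surjective a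
    obtain ⟨b', rfl⟩ := Ideal.Quotient.mk_surjective b
    rw [div_eq_mul_inv]
    exact (hT a').mul (hT b').inv
  have hinteg : Algebra.IsIntegral p.ResidueField Q.ResidueField := ⟨hint⟩
  have halg : Algebra.IsAlgebraic p.ResidueField Q.ResidueField := inferInstance
  refine ⟨?_, ?_⟩
  · have hcl : IsAlgClosure p.ResidueField Q.ResidueField := by
      apply IsAlgClosure.of_exists_root
      intro f hfm hfirr
      have hfdeg : 0 < f.natDegree := hfirr.natDegree_pos
      let g : A →+* p.ResidueField := algebraMap A p.ResidueField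
      have hfrac : ∀ c : p.ResidueField, ∃ a b : A, g b ≠ 0 ∧ c = g a / g b := by
        intro c
        obtain ⟨a, b, hb, hab⟩ := IsFractionRing.div_surjective (A := A ⧸ p) c
        obtain ⟨a', rfl⟩ := Ideal.Quotient.mk_surjective a
        obtain ⟨b', rfl⟩ := Ideal.Quotient.mk_surjective b
        refine ⟨a', b', ?_, hab.symm⟩
        intro h0
        have : algebraMap (A ⧸ p) p.ResidueField (Ideal.Quotient.mk p b') = 0 := h0
        rw [map_eq_zero_iff _ (IsFractionRing.injective (A ⧸ p) p.ResidueField)] at this
        exact nonZeroDivisors.ne_zero hb this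
      obtain ⟨β, q, hβ, hq⟩ :=
        Groth.Agent.Lib.MonicTower97.exists_clear_denominators g hfrac f
      obtain ⟨G₀, hG₀map, hG₀deg⟩ := exists_degree_eq_of_mem_lifts (f := g) (p := q.map g)
        ((mem_lifts _).mpr ⟨q, rfl⟩)
      have hqne : q.map g ≠ 0 := by
        rw [hq]
        exact mul_ne_zero (by rw [Ne, C_eq_zero]; exact hβ) hfm.ne_zero
      have hqnat : (q.map g).natDegree = f.natDegree := by
        rw [hq, natDegree_C_mul hβ]
      have hG₀nat : G₀.natDegree = f.natDegree := by
        rw [natDegree_eq_of_degree_eq hG₀deg, hqnat]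
      have hG₀ne : G₀ ≠ 0 := by
        intro h0
        rw [h0, Polynomial.map_zero] at hG₀map
        exact hqne hG₀map.symm
      have hlc : g G₀.leadingCoeff = g β := by
        have : g G₀.leadingCoeff = (q.map g).leadingCoeff := by
          rw [leadingCoeff, leadingCoeff, ← coeff_map, hG₀map, hG₀nat, hqnat]
        rw [this, hq, leadingCoeff_mul, leadingCoeff_C, hfm.leadingCoeff, mul_one]
      let P : Idx A := ⟨integralNormalization G₀, monic_integralNormalization hG₀ne, by
        rw [natDegree_integralNormalization, hG₀nat]; exact hfdeg⟩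
      let φ : A →+* Q.ResidueField := algebraMap A Q.ResidueField
      have hφ : φ = ρ.comp g := by
        rw [← hρalg]
        exact IsScalarTower.algebraMap_eq A p.ResidueField Q.ResidueField
      set y : Q.ResidueField := algebraMap (TT A) Q.ResidueField (xx A P) with hy
      have hyroot : eval₂ φ y (integralNormalization G₀) = 0 := by
        have h1 := xx_root A P
        have h2 : Polynomial.aeval y P.1 = algebraMap (TT A) Q.ResidueField
            (Polynomial.aeval (xx A P) P.1) :=
          Polynomial.aeval_algHom_apply (IsScalarTower.toAlgHom A (TT A) Q.ResidueField)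
            (xx A P) P.1
        rw [h1, map_zero] at h2
        exact h2
      have hφlc : φ G₀.leadingCoeff ≠ 0 := by
        rw [hφ, RingHom.comp_apply, hlc]
        exact (map_ne_zero ρ).mpr hβ
      set x : Q.ResidueField := y / φ G₀.leadingCoeff with hx
      have hxy : φ G₀.leadingCoeff * x = y := by
        rw [hx, mul_div_cancel₀ _ hφlc]
      have h3 := integralNormalization_eval₂_leadingCoeff_mul
        (by rw [hG₀nat]; exact hfdeg : 1 ≤ G₀.natDegree) φ x
      rw [hxy, hyroot] at h3
      have h4 : eval₂ φ x G₀ = 0 := by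
        rcases mul_eq_zero.mp h3.symm with h | h
        · exact absurd h (pow_ne_zero _ hφlc)
        · exact h
      refine ⟨x, ?_⟩
      have h5 : eval₂ φ x G₀ = eval₂ ρ x (G₀.map g) := by
        rw [eval₂_map, hφ]
      rw [h5, hG₀map, hq, eval₂_mul, eval₂_C] at h4
      rcases mul_eq_zero.mp h4 with h | h
      · exact absurd h ((map_ne_zero ρ).mpr hβ)
      · rw [Polynomial.aeval_def, hρalg]
        exact h
    exact hcl.isAlgClosed
  · intro z
    have := hint z
    exact this

/-- Let A be a commutative ring and T the quotient of the polynomial ring over A in indeterminates X_P,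
one for each monic polynomial P over A of positive degree, by the ideal generated by the elements
P(X_P). Then the map on prime spectra Spec T → Spec A is surjective, and for every prime ideal Q of
T, with p its contraction to A, the residue field of Q is algebraically closed and integral over the
residue field of p under the induced map of residue fields (so it is an algebraic closure of it). -/
theorem result (A : Type u) [CommRing A] :
    Function.Surjective (PrimeSpectrum.comap (algebraMap A (MvPolynomial {P : Polynomial A // P.Monic ∧ 0 < P.natDegree} A ⧸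
      Ideal.span (Set.range fun P : {P : Polynomial A // P.Monic ∧ 0 < P.natDegree} =>
        Polynomial.aeval (MvPolynomial.X (R := A) P) P.1)))) ∧
    ∀ (Q : Ideal (MvPolynomial {P : Polynomial A // P.Monic ∧ 0 < P.natDegree} A ⧸
      Ideal.span (Set.range fun P : {P : Polynomial A // P.Monic ∧ 0 < P.natDegree} =>
        Polynomial.aeval (MvPolynomial.X (R := A) P) P.1))) [Q.IsPrime],
      IsAlgClosed Q.ResidueField ∧
      (Ideal.ResidueField.map (Q.comap (algebraMap A (MvPolynomial {P : Polynomial A // P.Monic ∧ 0 < P.natDegree} A ⧸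
      Ideal.span (Set.range fun P : {P : Polynomial A // P.Monic ∧ 0 < P.natDegree} =>
        Polynomial.aeval (MvPolynomial.X (R := A) P) P.1)))) Q (algebraMap A (MvPolynomial {P : Polynomial A // P.Monic ∧ 0 < P.natDegree} A ⧸
      Ideal.span (Set.range fun P : {P : Polynomial A // P.Monic ∧ 0 < P.natDegree} =>
        Polynomial.aeval (MvPolynomial.X (R := A) P) P.1))) rfl).IsIntegral := by
  exact ⟨surj A, fun Q _ => resField A Q⟩

end Groth.Agent.S16572
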