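import Groth.Statements.S1131
import Mathlib.AlgebraicGeometry.Sites.Fpqc

set_option autoImplicit false
set_option backward.isDefEq.respectTransparency false
open CategoryTheory CategoryTheory.Limits AlgebraicGeometry Opposite
universe u
open Desc

namespace Groth.Agent.S1131

theorem descend {X S : Scheme.{u}} (p : X ⟶ S) [Surjective p] [Flat p] [QuasiCompact p]
    (U U' : Over S) (f : pullback p U.hom ⟶ pullback p U'.hom)
    (hf : f ≫ pullback.fst p U'.hom = pullback.fst p U.hom)
    (key : ∀ {Z : Scheme.{u}} (g₁ g₂ : Z ⟶ pullback p U.hom),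
      g₁ ≫ pullback.snd p U.hom = g₂ ≫ pullback.snd p U.hom →
      g₁ ≫ (f ≫ pullback.snd p U'.hom) = g₂ ≫ (f ≫ pullback.snd p U'.hom)) :
    ∃ g : U ⟶ U', pullback.map p U.hom p U'.hom (𝟙 X) g.left (𝟙 S) (by simp) (by simp) = f := by
  let π := pullback.snd p U.hom
  let g : U.left ⟶ U'.left := EffectiveEpi.desc π (f ≫ pullback.snd p U'.hom) key
  have hg : π ≫ g = f ≫ pullback.snd p U'.hom := EffectiveEpi.fac _ _ _
  have hgS : g ≫ U'.hom = U.hom := by
    rw [← cancel_epi π, ← Category.assoc, hg, Category.assoc, ← pullback.condition,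
      ← Category.assoc, hf, pullback.condition]
  refine ⟨Over.homMk g hgS, ?_⟩
  apply pullback.hom_ext
  · simp [hf]
  · simpa using hg

/-- If p : X ⟶ S is surjective, flat and quasi-compact, then the functor sending a scheme over S to its
canonical descent datum relative to p is full. (Faithfulness, which needs no quasi-compactness, is a
companion statement.) (Descent data are taken in functor-of-points form, equivalent by the Yoneda
lemma to the usual form of an isomorphism over X ×_S X satisfying the cocycle condition.) -/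
theorem result {X S : Scheme.{u}} (p : X ⟶ S) [Surjective p] [Flat p] [QuasiCompact p] :
    (Desc.toDD p).Full := by
  refine ⟨fun {U U'} F => ?_⟩
  let f : pullback p U.hom ⟶ pullback p U'.hom := F.hom.left
  have hFw : f ≫ pullback.fst p U'.hom = pullback.fst p U.hom := Over.w F.hom
  have key : ∀ {Z : Scheme.{u}} (g₁ g₂ : Z ⟶ pullback p U.hom),
      g₁ ≫ pullback.snd p U.hom = g₂ ≫ pullback.snd p U.hom →
      g₁ ≫ (f ≫ pullback.snd p U'.hom) = g₂ ≫ (f ≫ pullback.snd p U'.hom) := by
    intro Z g₁ g₂ hg
    have hx : (g₁ ≫ pullback.fst p U.hom) ≫ p = (g₂ ≫ pullback.fst p U.hom) ≫ p := by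
      simp only [Category.assoc, pullback.condition]
      rw [← Category.assoc, hg, Category.assoc]
    have := F.comm (g₁ ≫ pullback.fst p U.hom) (g₂ ≫ pullback.fst p U.hom) hx ⟨g₁, rfl⟩
      ⟨g₁ ≫ f, by
        change (g₁ ≫ f) ≫ pullback.fst p U'.hom = _
        rw [Category.assoc, hFw]⟩ rfl
    have h2 := congr($this ≫ pullback.snd p U'.hom)
    have h3 : (canMap p U (g₁ ≫ pullback.fst p U.hom) (g₂ ≫ pullback.fst p U.hom) hx
        ⟨g₁, rfl⟩).1 = g₂ := by
      apply pullback.hom_ext
      · simp
      · simpa using hg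
    change (canMap p U' _ _ hx _).1 ≫ _ = ((canMap p U _ _ hx _).1 ≫ f) ≫ _ at h2
    rw [h3] at h2
    simpa using h2
  obtain ⟨g, hg⟩ := descend p U U' f hFw key
  refine ⟨g, ?_⟩
  ext
  exact hg

end Groth.Agent.S1131
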