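import Groth.Statements.S2483
import Groth.Agent.Lib.MacLane4H44
import Groth.Agent.Lib.ArtinSmoothField
import Mathlib

set_option autoImplicit false
universe u
open EGA41

namespace Groth.Agent.S2483

section helpers

open IsLocalRing

/-- two sections agree modulo every power of the maximal ideal when `Ω_{K/ℤ} = 0`. -/
lemma sub_mem_pow {C : Type u} [CommRing C] [IsLocalRing C]
    (hΩ : Subsingleton (Ω[ResidueField C⁄ℤ]))
    (u v : ResidueField C →+* C) (hu : ∀ x, residue C (u x) = x) (hv : ∀ x, residue C (v x) = x)
    (n : ℕ) : ∀ x, v x - u x ∈ maximalIdeal C ^ (n + 1) := by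
  induction n with
  | zero =>
    intro x
    rw [zero_add, pow_one, ← residue_eq_zero_iff, map_sub, hu, hv, sub_self]
  | succ n ih =>
    intro x
    let I : Ideal C := maximalIdeal C ^ (n + 1 + 1)
    let modK : Module (ResidueField C) (C ⧸ I) := Module.compHom (C ⧸ I) ((Ideal.Quotient.mk I).comp u)
    have hsmul : ∀ (a : ResidueField C) (z : C ⧸ I), a • z = Ideal.Quotient.mk I (u a) * z :=
      fun a z => rfl
    let D : Derivation ℤ (ResidueField C) (C ⧸ I) :=
      { toLinearMap := (((Ideal.Quotient.mk I).comp v).toAddMonoidHom -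
          ((Ideal.Quotient.mk I).comp u).toAddMonoidHom).toIntLinearMap
        map_one_eq_zero' := by
          change Ideal.Quotient.mk I (v 1) - Ideal.Quotient.mk I (u 1) = 0
          simp only [map_one, sub_self]
        leibniz' := by
          intro a b
          change Ideal.Quotient.mk I (v (a * b)) - Ideal.Quotient.mk I (u (a * b)) =
            a • (Ideal.Quotient.mk I (v b) - Ideal.Quotient.mk I (u b)) +
            b • (Ideal.Quotient.mk I (v a) - Ideal.Quotient.mk I (u a))
          rw [hsmul, hsmul, ← sub_eq_zero]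
          simp only [← map_sub, ← map_mul, ← map_add]
          rw [Ideal.Quotient.eq_zero_iff_mem]
          have h1 : v (a * b) - u (a * b) - (u a * (v b - u b) + u b * (v a - u a)) =
              (v a - u a) * (v b - u b) := by
            rw [map_mul, map_mul]; ring
          rw [h1]
          have h2 : (v a - u a) * (v b - u b) ∈ maximalIdeal C ^ (n + 1) * maximalIdeal C ^ (n + 1) :=
            Ideal.mul_mem_mul (ih a) (ih b)
          rw [← pow_add] at h2
          exact Ideal.pow_le_pow_right (by omega) h2 }
    have htower : @IsScalarTower ℤ (ResidueField C) (C ⧸ I) Algebra.toSMul _ _ := by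
      refine @IsScalarTower.mk _ _ _ _ _ _ (fun m a z => ?_)
      rw [Algebra.smul_def m a, eq_intCast, hsmul, hsmul, map_mul, map_mul, map_intCast,
        map_intCast, mul_assoc, ← zsmul_eq_mul]
    have hD : D x = 0 := by
      have h1 := Derivation.liftKaehlerDifferential_comp_D D x
      rw [← h1, Subsingleton.elim (KaehlerDifferential.D ℤ _ x) 0,
        map_zero]
    have hD' : D x = Ideal.Quotient.mk I (v x) - Ideal.Quotient.mk I (u x) := rfl
    rw [hD', ← map_sub, Ideal.Quotient.eq_zero_iff_mem] at hD
    exact hD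

/-- ring homomorphisms out of a lifted prime ring are unique. -/
lemma ulift_ringHom_ext {F : Type} [Semiring F] {R : Type*} [Semiring R] [Subsingleton (F →+* R)]
    (f g : ULift.{u} F →+* R) : f = g := by
  have h := Subsingleton.elim (f.comp (ULift.ringEquiv (R := F)).symm.toRingHom)
    (g.comp (ULift.ringEquiv (R := F)).symm.toRingHom)
  ext x
  exact DFunLike.congr_fun h x.down

open Groth.Agent.Lib.MacLaneH44 Groth.Agent.Lib.MacLane4H44 in
/-- MacLane's condition holds over a perfect field. -/
lemma LD_of_perfect (p : ℕ) [hp : Fact p.Prime] (k K : Type u) [Field k] [Field K] [Algebra k K]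
    [CharP k p] [PerfectRing k p] : LD p k K := by
  have hK : CharP K p := charP_of_injective_algebraMap (algebraMap k K).injective p
  intro n s hs
  rw [Fintype.linearIndependent_iff] at hs ⊢
  intro c hc i
  have hd : ∀ j, ∃ d : k, d ^ p = c j := fun j => by
    obtain ⟨d, hd⟩ := (PerfectRing.bijective_frobenius (R := k) (p := p)).2 (c j)
    exact ⟨d, hd⟩
  choose d hd using hd
  have h1 : (∑ j, d j • s j) ^ p = 0 := by
    rw [sum_pow_char]
    rw [← hc]
    apply Finset.sum_congr rfl
    intro j _
    rw [Algebra.smul_def, mul_pow, ← map_pow, hd, ← Algebra.smul_def]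
  have h2 : ∑ j, d j • s j = 0 := pow_eq_zero_iff (hp.out.ne_zero) |>.mp h1
  have h3 := hs d h2 i
  rw [← hd, h3, zero_pow hp.out.ne_zero]

open Groth.Agent.Lib.MacLaneH44 Groth.Agent.Lib.MacLane4H44 in
/-- every field is formally smooth over a field out of which ring homomorphisms are unique. -/
lemma exists_prime_field (K : Type u) [Field K] :
    ∃ (k₀ : Type u) (_ : Field k₀) (_ : Algebra k₀ K), Algebra.FormallySmooth k₀ K ∧
      ∀ (R : Type u) [CommRing R] (f g : k₀ →+* R), f = g := by
  obtain h0 | ⟨p, hp, hchar⟩ := CharP.exists' K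
  · let alg : Algebra (ULift.{u} ℚ) K :=
      ((algebraMap ℚ K).comp (ULift.ringEquiv (R := ℚ)).toRingHom).toAlgebra
    have hcz : CharZero (ULift.{u} ℚ) :=
      charZero_of_injective_ringHom (f := (ULift.ringEquiv (R := ℚ)).symm.toRingHom)
        (ULift.ringEquiv (R := ℚ)).symm.injective
    exact ⟨ULift.{u} ℚ, inferInstance, alg, formallySmooth_of_charZero _ K,
      fun R _ f g => ulift_ringHom_ext f g⟩
  · have hpf : Fact p.Prime := hp
    let alg : Algebra (PF.{u} p) K := (toField p K).toAlgebra
    have hLD := LD_of_perfect p (PF.{u} p) K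
    exact ⟨PF.{u} p, inferInstance, alg, (charP_main p (PF.{u} p) K).2.1.mpr hLD,
      fun R _ f g => ulift_ringHom_ext (F := ZMod p) f g⟩

/-- lifting ring homomorphisms from a field to a complete ring. -/
lemma exists_lift {C : Type u} [CommRing C] (I : Ideal C) [IsAdicComplete I C] (K : Type u) [Field K]
    (u : K →+* C) (v₂ : K →+* C ⧸ I) :
    ∃ v : K →+* C, ∀ x, Ideal.Quotient.mk I (v x) = v₂ x := by
  obtain ⟨k₀, _, _, hfs, huniq⟩ := exists_prime_field K
  let algC : Algebra k₀ C := (u.comp (algebraMap k₀ K)).toAlgebra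
  let v₂' : K →ₐ[k₀] C ⧸ I :=
    { v₂ with
      commutes' := fun c => by
        have h1 := huniq (C ⧸ I) (v₂.comp (algebraMap k₀ K)) (algebraMap k₀ (C ⧸ I))
        exact DFunLike.congr_fun h1 c }
  obtain ⟨g, hg⟩ := Algebra.FormallySmooth.exists_mkₐ_comp_eq_of_isAdicComplete (I := I) v₂'
  refine ⟨g.toRingHom, fun x => ?_⟩
  exact DFunLike.congr_fun hg x

end helpers

open IsLocalRing in
/-- Let C be a complete Noetherian local ring with maximal ideal 𝔍 ≠ 0 and residue field K, and u : K →
C a ring homomorphism which is a section of the residue map. Then u is the only such section if and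
only if Ω_{K/ℤ} = 0. -/
theorem result {C : Type u} [CommRing C] [IsLocalRing C] [IsNoetherianRing C] [IsAdicComplete (maximalIdeal C) C]
    (hm : maximalIdeal C ≠ ⊥) (u : ResidueField C →+* C) (hu : ∀ x, residue C (u x) = x) :
    (∀ v : ResidueField C →+* C, (∀ x, residue C (v x) = x) → v = u) ↔ Subsingleton (Ω[ResidueField C⁄ℤ]) := by
  classical
  constructor
  · intro huniq
    by_contra hns
    rw [not_subsingleton_iff_nontrivial] at hns
    obtain ⟨x₀, hx₀⟩ : ∃ x₀ : ResidueField C, KaehlerDifferential.D ℤ (ResidueField C) x₀ ≠ 0 := by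
      by_contra hall
      push Not at hall
      have h1 : (⊤ : Submodule (ResidueField C) (Ω[ResidueField C⁄ℤ])) = ⊥ := by
        rw [← KaehlerDifferential.span_range_derivation ℤ (ResidueField C), Submodule.span_eq_bot]
        rintro _ ⟨x, rfl⟩
        exact hall x
      exact top_ne_bot h1
    obtain ⟨f, hf⟩ : ∃ f : Module.Dual (ResidueField C) (Ω[ResidueField C⁄ℤ]),
        f (KaehlerDifferential.D ℤ _ x₀) ≠ 0 := by
      by_contra hall
      push Not at hall
      exact hx₀ ((Module.forall_dual_apply_eq_zero_iff (ResidueField C) _).mp hall)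
    let D₀ : ResidueField C → ResidueField C := fun x =>
      f (KaehlerDifferential.D ℤ (ResidueField C) x)
    have hδadd : ∀ x y, D₀ (x + y) = D₀ x + D₀ y := fun x y => by simp only [D₀, map_add]
    have hδmul : ∀ x y, D₀ (x * y) = x * D₀ y + y * D₀ x := fun x y => by
      simp only [D₀, Derivation.leibniz, map_add, map_smul, smul_eq_mul]
    have hδone : D₀ 1 = 0 := by simp only [D₀, Derivation.map_one_eq_zero, map_zero]
    have hδzero : D₀ 0 = 0 := by simp only [D₀, map_zero]
    have hD₀ : D₀ x₀ ≠ 0 := hf
    obtain ⟨t, ht, ht2⟩ : ∃ t ∈ maximalIdeal C, t ∉ maximalIdeal C ^ 2 := by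
      by_contra hall
      push Not at hall
      have hle : maximalIdeal C ≤ maximalIdeal C ^ 2 := fun t ht => hall t ht
      apply hm
      exact Submodule.eq_bot_of_le_smul_of_le_jacobson_bot (maximalIdeal C) (maximalIdeal C)
        (IsNoetherian.noetherian _) (by rw [smul_eq_mul, ← sq]; exact hle)
        (maximalIdeal_le_jacobson _)
    have hcomplete : IsAdicComplete (maximalIdeal C ^ 2) C :=
      Groth.Agent.Lib.ArtinSmoothField.isAdicComplete_sq _
    let v₂ : ResidueField C →+* C ⧸ (maximalIdeal C ^ 2) :=
      { toFun := fun x => Ideal.Quotient.mk _ (u x + t * u (D₀ x))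
        map_one' := by rw [hδone]; simp
        map_zero' := by rw [hδzero]; simp
        map_add' := fun x y => by
          rw [← map_add]
          congr 1
          rw [hδadd, map_add, map_add]
          ring
        map_mul' := fun x y => by
          rw [← map_mul, Ideal.Quotient.eq]
          have h1 : D₀ (x * y) = x * D₀ y + y * D₀ x := hδmul x y
          have h2 : u (x * y) + t * u (D₀ (x * y)) - (u x + t * u (D₀ x)) * (u y + t * u (D₀ y)) =
              - (t * t * (u (D₀ x) * u (D₀ y))) := by
            rw [h1, map_add, map_mul, map_mul, map_mul]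
            ring
          rw [h2, sq]
          exact neg_mem (Ideal.mul_mem_right _ _ (Ideal.mul_mem_mul ht ht)) }
    obtain ⟨v, hv⟩ := exists_lift (maximalIdeal C ^ 2) (ResidueField C) u v₂
    have hv' : ∀ x, v x - (u x + t * u (D₀ x)) ∈ maximalIdeal C ^ 2 := fun x =>
      Ideal.Quotient.eq.mp (hv x)
    have hvsec : ∀ x, residue C (v x) = x := by
      intro x
      have h2 : v x - u x ∈ maximalIdeal C := by
        have : v x - u x = (v x - (u x + t * u (D₀ x))) + t * u (D₀ x) := by ring
        rw [this]
        exact add_mem (Ideal.pow_le_self two_ne_zero (hv' x)) (Ideal.mul_mem_right _ _ ht)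
      rw [← residue_eq_zero_iff, map_sub, hu, sub_eq_zero] at h2
      exact h2
    have hvu := huniq v hvsec
    have h3 := hv' x₀
    rw [hvu] at h3
    have h4 : t * u (D₀ x₀) ∈ maximalIdeal C ^ 2 := by
      have : t * u (D₀ x₀) = - (u x₀ - (u x₀ + t * u (D₀ x₀))) := by ring
      rw [this]
      exact neg_mem h3
    have hunit : IsUnit (u (D₀ x₀)) := by
      by_contra hnu
      have : u (D₀ x₀) ∈ maximalIdeal C := (mem_maximalIdeal _).mpr hnu
      rw [← residue_eq_zero_iff, hu] at this
      exact hD₀ this
    exact ht2 ((Ideal.mul_unit_mem_iff_mem _ hunit).mp h4)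
  · intro hΩ v hv
    ext x
    have hmem : ∀ n, v x - u x ∈ maximalIdeal C ^ n := by
      intro n
      rcases n with _ | n
      · simp
      · exact sub_mem_pow hΩ u v hu hv n x
    have h3 := Ideal.iInf_pow_eq_bot_of_isLocalRing (maximalIdeal C)
      (maximalIdeal.isMaximal _).ne_top
    have h4 : v x - u x ∈ (⨅ n, maximalIdeal C ^ n) := by
      rw [Ideal.mem_iInf]; exact hmem
    rw [h3] at h4
    exact sub_eq_zero.mp h4

end Groth.Agent.S2483
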