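import Groth.Statements.S4541
import Groth.Agent.Lib.PBasis2H44

set_option autoImplicit false
universe u
open EGA41

namespace Groth.Agent.S4541

open Groth.Agent.Lib.PBasisH44 Groth.Agent.Lib.PBasis2H44

section Helpers

variable (p : ℕ) [Fact p.Prime] {A B : Type u} [CommRing A] [CharP A p]
    [PerfectRing A p] [CommRing B] [Algebra A B] [CharP B p] [IsReduced B]
    {ι : Type u} (x : ι → B)

omit [Fact (Nat.Prime p)] [CharP A p] in
theorem exists_pow_pow_eq (n : ℕ) (a : A) : ∃ α : A, α ^ p ^ n = a := by
  induction n generalizing a with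
  | zero => exact ⟨a, by simp⟩
  | succ n ih =>
    obtain ⟨β, hβ⟩ := (PerfectRing.bijective_frobenius (R := A) (p := p)).2 a
    obtain ⟨α, hα⟩ := ih β
    refine ⟨α, ?_⟩
    rw [pow_succ, pow_mul, hα]
    exact hβ

theorem lift_existsUnique (hx : EGA41.IsPBasis p A x)
    (E : Type u) [CommRing E] [Algebra A E] (R : Ideal E) (hR : IsNilpotent R)
    (v : B →ₐ[A] E ⧸ R) (z : ι → E) (hz : ∀ i, Ideal.Quotient.mk R (z i) = v (x i)) :
    ∃! w : B →ₐ[A] E, (Ideal.Quotient.mkₐ A R).comp w = v ∧ ∀ i, w (x i) = z i := by
  classical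
  rcases subsingleton_or_nontrivial E with hE | hE
  · let w : B →ₐ[A] E :=
      { toFun := fun _ => 0
        map_one' := Subsingleton.elim _ _
        map_mul' := fun _ _ => Subsingleton.elim _ _
        map_zero' := rfl
        map_add' := fun _ _ => Subsingleton.elim _ _
        commutes' := fun _ => Subsingleton.elim _ _ }
    have : Subsingleton (E ⧸ R) := (Ideal.Quotient.mk_surjective (I := R)).subsingleton
    refine ⟨w, ⟨AlgHom.ext fun b => Subsingleton.elim _ _, fun i => Subsingleton.elim _ _⟩, ?_⟩
    intro w' _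
    exact AlgHom.ext fun b => Subsingleton.elim _ _
  · have hp0 : ((p : ℕ) : E) = 0 := by
      have : ((p : ℕ) : A) = 0 := CharP.cast_eq_zero A p
      rw [← map_natCast (algebraMap A E), this, map_zero]
    have hcE : CharP E p := (CharP.charP_iff_prime_eq_zero (Fact.out : p.Prime)).2 hp0
    obtain ⟨N, hN⟩ := hR
    have hRq : R ^ p ^ N = ⊥ := by
      have hle : N ≤ p ^ N := (Nat.lt_pow_self (Fact.out : p.Prime).one_lt).le
      have := Ideal.pow_le_pow_right (I := R) hle
      rw [hN, Ideal.zero_eq_bot] at this
      exact le_bot_iff.1 this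
    let ψ : E ⧸ R →+* E := Ideal.Quotient.lift R (iterateFrobenius E p N) (by
      intro r hr
      have := Ideal.pow_mem_pow hr (p ^ N)
      rw [hRq] at this
      exact this)
    have hψ : ∀ e : E, ψ (Ideal.Quotient.mk R e) = e ^ p ^ N := fun e => rfl
    have hmkψ : ∀ t : E ⧸ R, Ideal.Quotient.mk R (ψ t) = t ^ p ^ N := by
      intro t
      obtain ⟨e, rfl⟩ := Ideal.Quotient.mk_surjective t
      rw [hψ, map_pow]
    let g : B →+* E := ψ.comp (v : B →+* E ⧸ R)
    have hgz : ∀ i, z i ^ p ^ N = g (x i) := by
      intro i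
      change _ = ψ (v (x i))
      rw [← hz i, hψ]
    obtain ⟨w₀, ⟨hw1, hw2⟩, hwu⟩ := existsUnique_ringHom_pow (A := A) p hx N g z hgz
    -- `w₀` lifts `v`
    have hlift : (Ideal.Quotient.mk R).comp w₀ = (v : B →+* E ⧸ R) := by
      let g' : B →+* E ⧸ R := (v : B →+* E ⧸ R).comp (iterateFrobenius B p N)
      have hg' : ∀ i, (v (x i)) ^ p ^ N = g' (x i) := by
        intro i
        change _ = v (x i ^ p ^ N)
        rw [map_pow]
      obtain ⟨u, -, huu⟩ := existsUnique_ringHom_pow (A := A) p hx N g' (fun i => v (x i)) hg'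
      have h1 : (Ideal.Quotient.mk R).comp w₀ = u := by
        apply huu
        refine ⟨fun b => ?_, fun i => ?_⟩
        · change Ideal.Quotient.mk R (w₀ (b ^ p ^ N)) = v (b ^ p ^ N)
          rw [hw1]
          change Ideal.Quotient.mk R (ψ (v b)) = _
          rw [hmkψ, map_pow]
        · change Ideal.Quotient.mk R (w₀ (x i)) = v (x i)
          rw [hw2, hz]
      have h2 : (v : B →+* E ⧸ R) = u := by
        apply huu
        exact ⟨fun b => rfl, fun i => rfl⟩
      rw [h1, h2]
    have hcomm : ∀ a : A, w₀ (algebraMap A B a) = algebraMap A E a := by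
      intro a
      obtain ⟨α, rfl⟩ := exists_pow_pow_eq p N a
      rw [map_pow, hw1]
      change ψ (v (algebraMap A B α)) = _
      rw [AlgHom.commutes, map_pow]
      exact hψ (algebraMap A E α)
    let w : B →ₐ[A] E := { w₀ with commutes' := hcomm }
    refine ⟨w, ⟨?_, hw2⟩, ?_⟩
    · exact AlgHom.coe_ringHom_injective hlift
    · rintro w' ⟨h1, h2⟩
      have : (w' : B →+* E) = w₀ := by
        apply hwu
        refine ⟨fun b => ?_, h2⟩
        change w' (b ^ p ^ N) = ψ (v b)
        rw [map_pow, ← h1]
        exact (hψ (w' b)).symm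
      exact AlgHom.coe_ringHom_injective this

end Helpers

/-- Let p be a prime, A a perfect ring of characteristic p and B a reduced A-algebra of characteristic p
which admits a p-basis (x_α) over A. Then B is a formally smooth A-algebra (discrete topologies);
more precisely, for every A-algebra E, every nilpotent ideal R of E, every A-algebra homomorphism v
: B → E/R and every family (z_α) of elements of E lifting the v(x_α), there is a unique A-algebra
homomorphism w : B → E lifting v with w(x_α) = z_α for all α. (The published statement assumes,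
instead of A perfect and B reduced, that the canonical map A^(p) ⊗_A B → B^(p), a ⊗ b ↦ a b^p with
Frobenius-twisted structures, is injective; when A is perfect that condition says exactly that B is
reduced, which is the case stated here. The published statement also treats admissible topological
E; only discrete E is stated.) -/
theorem result (p : ℕ) [Fact p.Prime] {A B : Type u} [CommRing A] [CharP A p]
    [PerfectRing A p] [CommRing B] [Algebra A B] [CharP B p] [IsReduced B]
    {ι : Type u} (x : ι → B) (hx : EGA41.IsPBasis p A x) :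
    Algebra.FormallySmooth A B ∧
    ∀ (E : Type u) [CommRing E] [Algebra A E] (R : Ideal E), IsNilpotent R →
      ∀ (v : B →ₐ[A] E ⧸ R) (z : ι → E), (∀ i, Ideal.Quotient.mk R (z i) = v (x i)) →
        ∃! w : B →ₐ[A] E, (Ideal.Quotient.mkₐ A R).comp w = v ∧ ∀ i, w (x i) = z i := by
  refine ⟨?_, fun E _ _ R hR v z hz => lift_existsUnique p x hx E R hR v z hz⟩
  apply Algebra.FormallySmooth.of_comp_surjective
  intro T _ _ I hI v
  have hnil : IsNilpotent I := ⟨2, by rw [hI, Ideal.zero_eq_bot]⟩
  obtain ⟨w, ⟨hw, -⟩, -⟩ := lift_existsUnique p x hx T I hnil v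
    (fun i => Function.surjInv Ideal.Quotient.mk_surjective (v (x i)))
    (fun i => Function.surjInv_eq Ideal.Quotient.mk_surjective (v (x i)))
  exact ⟨w, hw⟩

end Groth.Agent.S4541
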