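import Groth.Statements.S2462
import Mathlib.RingTheory.AdicCompletion.RingHom
import Mathlib.RingTheory.AdicCompletion.Noetherian
import Mathlib.RingTheory.Filtration

set_option autoImplicit false
universe u
open EGA41

namespace Groth.Agent.S2462

open IsLocalRing

section Glue

variable {A B C : Type u} [CommRing A] [CommRing B] [CommRing C] [Algebra A B] [Algebra A C]

/-- Gluing algebra maps into two quotients which agree in the quotient by the sum. -/
theorem exists_glue (I₀ I₁ I₂ I₃ : Ideal C) (h01 : I₀ ≤ I₁) (h02 : I₀ ≤ I₂) (h0 : I₁ ⊓ I₂ ≤ I₀)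
    (h13 : I₁ ≤ I₃) (h23 : I₂ ≤ I₃) (h3 : I₃ ≤ I₁ ⊔ I₂)
    (f₁ : B →ₐ[A] C ⧸ I₁) (f₂ : B →ₐ[A] C ⧸ I₂)
    (h : (Ideal.Quotient.factorₐ A h13).comp f₁ = (Ideal.Quotient.factorₐ A h23).comp f₂) :
    ∃ g : B →ₐ[A] C ⧸ I₀, (Ideal.Quotient.factorₐ A h01).comp g = f₁ ∧
      (Ideal.Quotient.factorₐ A h02).comp g = f₂ := by
  let φ : C ⧸ I₀ →ₐ[A] (C ⧸ I₁) × (C ⧸ I₂) :=
    AlgHom.prod (Ideal.Quotient.factorₐ A h01) (Ideal.Quotient.factorₐ A h02)
  have hφ : Function.Injective φ := by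
    rw [injective_iff_map_eq_zero]
    intro x hx
    obtain ⟨c, rfl⟩ := Ideal.Quotient.mk_surjective x
    have h1 : (Ideal.Quotient.mk I₁ c) = 0 := congrArg Prod.fst hx
    have h2 : (Ideal.Quotient.mk I₂ c) = 0 := congrArg Prod.snd hx
    rw [Ideal.Quotient.eq_zero_iff_mem] at h1 h2 ⊢
    exact h0 ⟨h1, h2⟩
  let F : B →ₐ[A] (C ⧸ I₁) × (C ⧸ I₂) := AlgHom.prod f₁ f₂
  have hF : ∀ b, F b ∈ φ.range := by
    intro b
    obtain ⟨c₁, hc₁⟩ := Ideal.Quotient.mk_surjective (f₁ b)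
    obtain ⟨c₂, hc₂⟩ := Ideal.Quotient.mk_surjective (f₂ b)
    have h4 : Ideal.Quotient.mk I₃ c₁ = Ideal.Quotient.mk I₃ c₂ := by
      have := congrArg (fun f => f b) h
      simp only [AlgHom.comp_apply] at this
      rw [← hc₁, ← hc₂] at this
      exact this
    rw [Ideal.Quotient.eq] at h4
    obtain ⟨i₁, hi₁, i₂, hi₂, h5⟩ := Submodule.mem_sup.mp (h3 h4)
    refine ⟨Ideal.Quotient.mk I₀ (c₁ - i₁), ?_⟩
    apply Prod.ext
    · change Ideal.Quotient.mk I₁ (c₁ - i₁) = f₁ b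
      rw [← hc₁, Ideal.Quotient.eq]
      simpa using I₁.neg_mem hi₁
    · change Ideal.Quotient.mk I₂ (c₁ - i₁) = f₂ b
      rw [← hc₂, Ideal.Quotient.eq]
      have : c₁ - i₁ - c₂ = i₂ := by linear_combination (-1 : C) * h5
      rw [this]
      exact hi₂
  let e := AlgEquiv.ofInjective φ hφ
  let g : B →ₐ[A] C ⧸ I₀ := (e.symm : φ.range →ₐ[A] C ⧸ I₀).comp (F.codRestrict φ.range hF)
  have hg : ∀ b, φ (g b) = F b := by
    intro b
    have : (e (g b) : (C ⧸ I₁) × (C ⧸ I₂)) = F b := by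
      rw [show g b = e.symm (F.codRestrict φ.range hF b) from rfl, AlgEquiv.apply_symm_apply]
      rfl
    exact this
  refine ⟨g, ?_, ?_⟩
  · ext b
    exact congrArg Prod.fst (hg b)
  · ext b
    exact congrArg Prod.snd (hg b)

end Glue

section Seq

variable {A B S : Type u} [CommRing A] [CommRing B] [CommRing S] [Algebra A B] [Algebra A S]
  (I : Ideal S) [IsAdicComplete I S]

/-- Build a map into a complete ring from a stepwise liftable property. -/
theorem exists_lift_of_step (P : ∀ n : ℕ, (B →ₐ[A] S ⧸ I ^ n) → Prop)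
    (h0 : ∃ v, P 0 v)
    (hstep : ∀ (n : ℕ) (v : B →ₐ[A] S ⧸ I ^ n), P n v →
      ∃ v' : B →ₐ[A] S ⧸ I ^ (n + 1), P (n + 1) v' ∧
        (Ideal.Quotient.factorₐ A (Ideal.pow_le_pow_right n.le_succ)).comp v' = v) :
    ∃ v : B →ₐ[A] S, ∀ n, P n ((Ideal.Quotient.mkₐ A (I ^ n)).comp v) := by
  classical
  choose nxt hnxt using hstep
  let seq : (n : ℕ) → {v : B →ₐ[A] S ⧸ I ^ n // P n v} := fun n =>
    Nat.rec (motive := fun n => {v : B →ₐ[A] S ⧸ I ^ n // P n v})
      ⟨h0.choose, h0.choose_spec⟩ (fun n w => ⟨nxt n w.1 w.2, (hnxt n w.1 w.2).1⟩) n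
  have hsucc : ∀ n, (Ideal.Quotient.factorₐ A (Ideal.pow_le_pow_right n.le_succ)).comp
      (seq (n + 1)).1 = (seq n).1 := fun n => (hnxt n (seq n).1 (seq n).2).2
  have hle : ∀ {m n : ℕ} (hmn : m ≤ n),
      (Ideal.Quotient.factorₐ A (Ideal.pow_le_pow_right hmn)).comp (seq n).1 = (seq m).1 := by
    intro m n hmn
    induction n, hmn using Nat.le_induction with
    | base =>
      rw [Ideal.Quotient.factorₐ_refl]
      rfl
    | succ n hmn ih =>
      rw [← Ideal.Quotient.factorₐ_comp _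
        (Ideal.pow_le_pow_right n.le_succ) (Ideal.pow_le_pow_right hmn), AlgHom.comp_assoc,
        hsucc, ih]
  refine ⟨IsAdicComplete.liftAlgHom I (fun n => (seq n).1) hle, fun n => ?_⟩
  rw [IsAdicComplete.mkₐ_comp_liftAlgHom]
  exact (seq n).2

end Seq

/-- Let A carry the 𝔞-adic and B the 𝔟-adic topology with B formally smooth over A; let C be a complete
Noetherian local A-algebra with 𝔞C inside the maximal ideal (continuity of A → C) and J ≠ C an
ideal. Then every A-algebra homomorphism u : B → C/J sending 𝔟 into the maximal ideal of C/J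
(continuity) is induced by an A-algebra homomorphism v : B → C sending 𝔟 into the maximal ideal of
C. -/
theorem result {A B C : Type u} [CommRing A] (𝔞 : Ideal A) [CommRing B] [Algebra A B] (𝔟 : Ideal B)
    (hB : EGA41.IsFormallySmoothAdic A 𝔞 B 𝔟)
    [CommRing C] [IsLocalRing C] [IsNoetherianRing C] [IsAdicComplete (maximalIdeal C) C] [Algebra A C]
    (hA : 𝔞.map (algebraMap A C) ≤ maximalIdeal C) (J : Ideal C) (hJ : J ≠ ⊤)
    (u : B →ₐ[A] C ⧸ J) (hu : 𝔟.map u.toRingHom ≤ (maximalIdeal C).map (Ideal.Quotient.mk J)) :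
    ∃ v : B →ₐ[A] C, 𝔟.map v.toRingHom ≤ maximalIdeal C ∧ (Ideal.Quotient.mkₐ A J).comp v = u := by
  have hJ𝔪 : J ≤ maximalIdeal C := IsLocalRing.le_maximalIdeal hJ
  have hub : ∀ b ∈ 𝔟, ∃ c ∈ maximalIdeal C, Ideal.Quotient.mk J c = u b := by
    intro b hb
    have h1 : u b ∈ (maximalIdeal C).map (Ideal.Quotient.mk J) :=
      hu (Ideal.mem_map_of_mem u.toRingHom hb)
    exact (Ideal.mem_map_iff_of_surjective _ Ideal.Quotient.mk_surjective).mp h1
  let P : ∀ n : ℕ, (B →ₐ[A] C ⧸ maximalIdeal C ^ n) → Prop := fun n v =>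
    (Ideal.Quotient.factorₐ A (le_sup_left : maximalIdeal C ^ n ≤ maximalIdeal C ^ n ⊔ J)).comp v =
      (Ideal.Quotient.factorₐ A (le_sup_right : J ≤ maximalIdeal C ^ n ⊔ J)).comp u ∧
    𝔟.map v.toRingHom ≤ (maximalIdeal C).map (Ideal.Quotient.mk (maximalIdeal C ^ n))
  have h0 : ∃ v, P 0 v := by
    have : Subsingleton (C ⧸ maximalIdeal C ^ 0) := by
      rw [Ideal.Quotient.subsingleton_iff]; simp
    have : Subsingleton (C ⧸ maximalIdeal C ^ 0 ⊔ J) := by
      rw [Ideal.Quotient.subsingleton_iff]; simp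
    refine ⟨default, ?_, ?_⟩
    · ext b
      exact Subsingleton.elim _ _
    · intro x _
      rw [Subsingleton.elim x 0]
      exact zero_mem _
  have hstep : ∀ (n : ℕ) (v : B →ₐ[A] C ⧸ maximalIdeal C ^ n), P n v →
      ∃ v' : B →ₐ[A] C ⧸ maximalIdeal C ^ (n + 1), P (n + 1) v' ∧
        (Ideal.Quotient.factorₐ A (Ideal.pow_le_pow_right n.le_succ)).comp v' = v := by
    rintro n v ⟨hv1, hv2⟩
    have hN0 : maximalIdeal C ^ (n + 1) ≤ maximalIdeal C ^ n ⊓ (maximalIdeal C ^ (n + 1) ⊔ J) :=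
      le_inf (Ideal.pow_le_pow_right n.le_succ) le_sup_left
    have h23 : maximalIdeal C ^ (n + 1) ⊔ J ≤ maximalIdeal C ^ n ⊔ J :=
      sup_le_sup_right (Ideal.pow_le_pow_right n.le_succ) J
    have h3 : maximalIdeal C ^ n ⊔ J ≤ maximalIdeal C ^ n ⊔ (maximalIdeal C ^ (n + 1) ⊔ J) :=
      sup_le le_sup_left (le_sup_right.trans le_sup_right)
    have hI₂𝔪 : maximalIdeal C ^ (n + 1) ⊔ J ≤ maximalIdeal C :=
      sup_le (Ideal.pow_le_self (Nat.succ_ne_zero n)) hJ𝔪
    let f₂ : B →ₐ[A] C ⧸ (maximalIdeal C ^ (n + 1) ⊔ J) :=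
      (Ideal.Quotient.factorₐ A (le_sup_right : J ≤ maximalIdeal C ^ (n + 1) ⊔ J)).comp u
    have hcompat : (Ideal.Quotient.factorₐ A
          (le_sup_left : maximalIdeal C ^ n ≤ maximalIdeal C ^ n ⊔ J)).comp v =
        (Ideal.Quotient.factorₐ A h23).comp f₂ := by
      rw [hv1, ← AlgHom.comp_assoc, Ideal.Quotient.factorₐ_comp]
    obtain ⟨g, hg1, hg2⟩ := exists_glue (maximalIdeal C ^ n ⊓ (maximalIdeal C ^ (n + 1) ⊔ J))
      (maximalIdeal C ^ n) (maximalIdeal C ^ (n + 1) ⊔ J) (maximalIdeal C ^ n ⊔ J)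
      inf_le_left inf_le_right le_rfl le_sup_left h23 h3 v f₂ hcompat
    -- the test ring and its nilpotent ideal
    let K : Ideal (C ⧸ maximalIdeal C ^ (n + 1)) :=
      (maximalIdeal C ^ n ⊓ (maximalIdeal C ^ (n + 1) ⊔ J)).map
        (Ideal.Quotient.mkₐ A (maximalIdeal C ^ (n + 1)))
    let e := DoubleQuot.quotQuotEquivQuotOfLEₐ A hN0
    let q : B →ₐ[A] (C ⧸ maximalIdeal C ^ (n + 1)) ⧸ K :=
      (e.symm : _ →ₐ[A] (C ⧸ maximalIdeal C ^ (n + 1)) ⧸ K).comp g
    have hmapbot : (maximalIdeal C ^ (n + 1)).map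
        (Ideal.Quotient.mk (maximalIdeal C ^ (n + 1))) = ⊥ := Ideal.map_quotient_self _
    have hKnil : IsNilpotent K := by
      refine ⟨n + 1, ?_⟩
      rw [Ideal.zero_eq_bot, eq_bot_iff]
      calc K ^ (n + 1) ≤ ((maximalIdeal C).map
              (Ideal.Quotient.mk (maximalIdeal C ^ (n + 1)))) ^ (n + 1) :=
            Ideal.pow_right_mono (Ideal.map_mono (inf_le_right.trans hI₂𝔪)) _
        _ = (maximalIdeal C ^ (n + 1)).map (Ideal.Quotient.mk (maximalIdeal C ^ (n + 1))) :=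
            (Ideal.map_pow _ _ _).symm
        _ = ⊥ := hmapbot
    have ha : ∃ k : ℕ, (𝔞 ^ k).map (algebraMap A (C ⧸ maximalIdeal C ^ (n + 1))) = ⊥ := by
      refine ⟨n + 1, ?_⟩
      rw [show algebraMap A (C ⧸ maximalIdeal C ^ (n + 1)) =
        (Ideal.Quotient.mk (maximalIdeal C ^ (n + 1))).comp (algebraMap A C) from rfl,
        ← Ideal.map_map, Ideal.map_pow, eq_bot_iff, ← hmapbot]
      exact Ideal.map_mono (Ideal.pow_right_mono hA _)
    have hq : ∃ k : ℕ, ∀ x ∈ 𝔟 ^ k, q x = 0 := by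
      refine ⟨n + 1, fun x hx => ?_⟩
      have hgx : g x = 0 := by
        obtain ⟨c, hc⟩ := Ideal.Quotient.mk_surjective (g x)
        have hv_x : v x = 0 := by
          have h1 : v x ∈ (𝔟 ^ (n + 1)).map v.toRingHom := Ideal.mem_map_of_mem v.toRingHom hx
          rw [Ideal.map_pow] at h1
          have h2 := Ideal.pow_right_mono hv2 (n + 1) h1
          rw [← Ideal.map_pow] at h2
          have h3 : (maximalIdeal C ^ (n + 1)).map (Ideal.Quotient.mk (maximalIdeal C ^ n)) = ⊥ :=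
            Ideal.map_mk_eq_bot_of_le (Ideal.pow_le_pow_right n.le_succ)
          rw [h3] at h2
          exact h2
        have hf₂_x : f₂ x = 0 := by
          have h1 : u x ∈ (𝔟 ^ (n + 1)).map u.toRingHom := Ideal.mem_map_of_mem u.toRingHom hx
          rw [Ideal.map_pow] at h1
          have h2 := Ideal.pow_right_mono hu (n + 1) h1
          rw [← Ideal.map_pow] at h2
          obtain ⟨c', hc', hcu⟩ :=
            (Ideal.mem_map_iff_of_surjective _ Ideal.Quotient.mk_surjective).mp h2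
          change Ideal.Quotient.factorₐ A
            (le_sup_right : J ≤ maximalIdeal C ^ (n + 1) ⊔ J) (u x) = 0
          rw [← hcu]
          change Ideal.Quotient.mk (maximalIdeal C ^ (n + 1) ⊔ J) c' = 0
          exact Ideal.Quotient.eq_zero_iff_mem.mpr (le_sup_left (a := maximalIdeal C ^ (n + 1)) hc')
        have hc1 : c ∈ maximalIdeal C ^ n := by
          have := congrArg (fun f => f x) hg1
          simp only [AlgHom.comp_apply] at this
          rw [← hc, hv_x] at this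
          exact Ideal.Quotient.eq_zero_iff_mem.mp this
        have hc2 : c ∈ maximalIdeal C ^ (n + 1) ⊔ J := by
          have := congrArg (fun f => f x) hg2
          simp only [AlgHom.comp_apply] at this
          rw [← hc, hf₂_x] at this
          exact Ideal.Quotient.eq_zero_iff_mem.mp this
        rw [← hc]
        exact Ideal.Quotient.eq_zero_iff_mem.mpr ⟨hc1, hc2⟩
      change e.symm (g x) = 0
      rw [hgx, map_zero]
    obtain ⟨v', hv'⟩ := hB (C ⧸ maximalIdeal C ^ (n + 1)) K hKnil ha q hq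
    have hv'g : (Ideal.Quotient.factorₐ A hN0).comp v' = g := by
      rw [← DoubleQuot.quotQuotEquivQuotOfLEₐ_comp_mkₐ, AlgHom.comp_assoc, hv']
      ext b
      change e (e.symm (g b)) = g b
      exact e.apply_symm_apply _
    have hP1 : (Ideal.Quotient.factorₐ A
          (le_sup_left : maximalIdeal C ^ (n + 1) ≤ maximalIdeal C ^ (n + 1) ⊔ J)).comp v' =
        (Ideal.Quotient.factorₐ A (le_sup_right : J ≤ maximalIdeal C ^ (n + 1) ⊔ J)).comp u := by
      rw [← Ideal.Quotient.factorₐ_comp A hN0 inf_le_right, AlgHom.comp_assoc, hv'g, hg2]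
    refine ⟨v', ⟨hP1, ?_⟩, ?_⟩
    · rw [Ideal.map_le_iff_le_comap]
      intro b hb
      rw [Ideal.mem_comap]
      obtain ⟨c, hc⟩ := Ideal.Quotient.mk_surjective (v' b)
      obtain ⟨c', hc', hcu⟩ := hub b hb
      have h1 := congrArg (fun f => f b) hP1
      simp only [AlgHom.comp_apply] at h1
      rw [← hc, ← hcu] at h1
      change Ideal.Quotient.mk (maximalIdeal C ^ (n + 1) ⊔ J) c =
        Ideal.Quotient.mk (maximalIdeal C ^ (n + 1) ⊔ J) c' at h1
      rw [Ideal.Quotient.eq] at h1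
      have hcm : c ∈ maximalIdeal C := by
        have := (maximalIdeal C).add_mem (hI₂𝔪 h1) hc'
        simpa using this
      change v' b ∈ _
      rw [← hc]
      exact Ideal.mem_map_of_mem _ hcm
    · rw [← Ideal.Quotient.factorₐ_comp A hN0 inf_le_left, AlgHom.comp_assoc, hv'g, hg1]
  obtain ⟨v, hv⟩ := exists_lift_of_step (A := A) (B := B) (maximalIdeal C) P h0 hstep
  have hJnt : Nontrivial (C ⧸ J) := Ideal.Quotient.nontrivial_iff.mpr hJ
  have hloc : IsLocalRing (C ⧸ J) :=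
    IsLocalRing.of_surjective' (Ideal.Quotient.mk J) Ideal.Quotient.mk_surjective
  have hmne : (maximalIdeal C).map (Ideal.Quotient.mk J) ≠ ⊤ := by
    intro htop
    have h1 : (1 : C ⧸ J) ∈ (maximalIdeal C).map (Ideal.Quotient.mk J) := by
      rw [htop]; trivial
    obtain ⟨c, hc, hc1⟩ := (Ideal.mem_map_iff_of_surjective _ Ideal.Quotient.mk_surjective).mp h1
    have h2 : c - 1 ∈ J := by
      rw [← Ideal.Quotient.eq, hc1, map_one]
    have h3 : (1 : C) ∈ maximalIdeal C := by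
      have := (maximalIdeal C).sub_mem hc (hJ𝔪 h2)
      simp at this
    exact (Ideal.ne_top_iff_one _).mp (IsLocalRing.maximalIdeal.isMaximal C).ne_top h3
  have hkrull := Ideal.iInf_pow_eq_bot_of_isLocalRing
    ((maximalIdeal C).map (Ideal.Quotient.mk J)) hmne
  have hcomp : (Ideal.Quotient.mkₐ A J).comp v = u := by
    ext b
    obtain ⟨c', hc'⟩ := Ideal.Quotient.mk_surjective (u b)
    have hd : Ideal.Quotient.mk J (v b - c') ∈
        ⨅ n, ((maximalIdeal C).map (Ideal.Quotient.mk J)) ^ n := by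
      rw [Ideal.mem_iInf]
      intro n
      have h1 := congrArg (fun f => f b) (hv n).1
      have h2 : Ideal.Quotient.mk (maximalIdeal C ^ n ⊔ J) (v b) =
          Ideal.Quotient.mk (maximalIdeal C ^ n ⊔ J) c' := by
        simp only [AlgHom.comp_apply] at h1
        rw [← hc'] at h1
        exact h1
      rw [Ideal.Quotient.eq] at h2
      obtain ⟨m, hm, j, hj, hmj⟩ := Submodule.mem_sup.mp h2
      rw [← hmj, map_add, Ideal.Quotient.eq_zero_iff_mem.mpr hj, add_zero, ← Ideal.map_pow]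
      exact Ideal.mem_map_of_mem _ hm
    rw [hkrull, Ideal.mem_bot, map_sub, sub_eq_zero] at hd
    change Ideal.Quotient.mk J (v b) = u b
    rw [hd, hc']
  refine ⟨v, ?_, hcomp⟩
  rw [Ideal.map_le_iff_le_comap]
  intro b hb
  rw [Ideal.mem_comap]
  obtain ⟨c, hc, hcu⟩ := hub b hb
  have h1 : Ideal.Quotient.mk J (v b) = u b := congrArg (fun f => f b) hcomp
  rw [← hcu, Ideal.Quotient.eq] at h1
  have := (maximalIdeal C).add_mem (hJ𝔪 h1) hc
  simpa using this

end Groth.Agent.S2462
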