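import Groth.Statements.S4537
import Mathlib.RingTheory.Ideal.Quotient.Nilpotent
import Mathlib.RingTheory.Ideal.Quotient.Operations

set_option autoImplicit false
universe u
open EGA41

namespace Groth.Agent.S4537

/-- The square-zero lifting property implies the nilpotent lifting property. -/
theorem lift_of_nilpotent_aux {A B : Type u} [CommRing A] [CommRing B] [Algebra A B]
    (𝔫 : Ideal B) (h : CAlgX.IsAdicFormallySmooth A B 𝔫)
    (C : Type u) [CommRing C] (J : Ideal C) (hJ : IsNilpotent J) :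
    ∀ [Algebra A C], IsNilpotent J → ∀ g : B →ₐ[A] C ⧸ J, (∃ k : ℕ, ∀ x ∈ 𝔫 ^ k, g x = 0) →
      ∃ f : B →ₐ[A] C, (Ideal.Quotient.mkₐ A J).comp f = g := by
  apply Ideal.IsNilpotent.induction_on (S := C) J hJ
  · intro C _ I hI _ _ g hg
    exact h C I hI g hg
  · intro C _ I J hIJ h₁ h₂ _ hJnil g hg
    obtain ⟨N, hN⟩ := hJnil
    have hInil : IsNilpotent I := ⟨N, by
      rw [Ideal.zero_eq_bot, eq_bot_iff, ← Ideal.zero_eq_bot, ← hN]
      exact Ideal.pow_right_mono hIJ N⟩
    have hJmapN : (J.map (Ideal.Quotient.mk I)) ^ N = ⊥ := by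
      rw [← Ideal.map_pow, hN, Ideal.zero_eq_bot, Ideal.map_bot]
    let e : ((C ⧸ I) ⧸ J.map (Ideal.Quotient.mk I)) ≃ₐ[A] C ⧸ J :=
      { (DoubleQuot.quotQuotEquivQuotSup I J).trans
          (Ideal.quotEquivOfEq (sup_eq_right.mpr hIJ)) with
        commutes' := fun x => rfl }
    obtain ⟨k, hk⟩ := hg
    obtain ⟨g', hg'⟩ := h₂ ⟨N, hJmapN⟩ (e.symm.toAlgHom.comp g) ⟨k, fun x hx => by
      simp [hk x hx]⟩
    have hg'k : ∀ x ∈ 𝔫 ^ (k * N), g' x = 0 := by
      intro x hx
      have h1 : (𝔫 ^ k).map g'.toRingHom ≤ J.map (Ideal.Quotient.mk I) := by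
        rw [Ideal.map_le_iff_le_comap]
        intro y hy
        rw [Ideal.mem_comap]
        have h2 := congrArg (fun f => f y) hg'
        simp only [AlgHom.comp_apply] at h2
        have h3 : Ideal.Quotient.mk (J.map (Ideal.Quotient.mk I)) (g' y) = 0 := by
          have : (Ideal.Quotient.mkₐ A (J.map (Ideal.Quotient.mk I))) (g' y) = 0 := by
            rw [h2, hk y hy]; simp
          exact this
        exact Ideal.Quotient.eq_zero_iff_mem.1 h3
      have h4 : g'.toRingHom x ∈ (𝔫 ^ (k * N)).map g'.toRingHom := Ideal.mem_map_of_mem _ hx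
      rw [pow_mul, Ideal.map_pow] at h4
      have h5 := Ideal.pow_right_mono h1 N h4
      rw [hJmapN] at h5
      exact h5
    obtain ⟨f, hf⟩ := h₁ hInil g' ⟨k * N, hg'k⟩
    refine ⟨f, ?_⟩
    rw [← hf] at hg'
    have e' := congr_arg e.toAlgHom.comp hg'
    conv_rhs at e' =>
      rw [← AlgHom.comp_assoc, AlgEquiv.comp_symm, AlgHom.id_comp]
    rw [← e']
    ext x
    rfl

/-- For a discrete base and an adic algebra: let A be a discrete ring and B an A-algebra with the 𝔫-adic
topology. If every continuous A-algebra map from B to a quotient C/J with J² = 0 lifts to C, then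
the same holds for every nilpotent J; hence the square-zero and the nilpotent forms of adic formal
smoothness agree. -/
theorem result {A B : Type u} [CommRing A] [CommRing B] [Algebra A B]
    (𝔫 : Ideal B) :
    CAlgX.IsAdicFormallySmooth A B 𝔫 ↔ EGA41.IsFormallySmoothAdic A ⊥ B 𝔫 := by
  constructor
  · intro h C _ _ J hJ _ u hu
    exact lift_of_nilpotent_aux 𝔫 h C J hJ hJ u hu
  · intro h C _ _ J hJ ψ hψ
    exact h C J ⟨2, hJ⟩ ⟨1, by simp⟩ ψ hψ

end Groth.Agent.S4537
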