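import Groth.Statements.S9318
import Mathlib.RingTheory.AdicCompletion.Completeness

set_option autoImplicit false
universe u
open CAlg

namespace Groth.Agent.S9318

section helpers
variable {S : Type u} [CommRing S] (𝔫 : Ideal S)

/-- easy direction: the `k`-th power of the extended ideal is killed by `evalₐ k`. -/
lemma evalₐ_eq_zero_of_mem (k : ℕ) (x : AdicCompletion 𝔫 S)
    (hx : x ∈ (𝔫.map (algebraMap S (AdicCompletion 𝔫 S))) ^ k) :
    AdicCompletion.evalₐ 𝔫 k x = 0 := by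
  rw [← Ideal.map_pow] at hx
  have : (𝔫 ^ k).map (algebraMap S (AdicCompletion 𝔫 S)) ≤
      RingHom.ker (AdicCompletion.evalₐ 𝔫 k).toRingHom := by
    rw [Ideal.map_le_iff_le_comap]
    intro s hs
    simp only [Ideal.mem_comap, RingHom.mem_ker, AlgHom.toRingHom_eq_coe, RingHom.coe_coe]
    rw [AdicCompletion.algebraMap_apply, Algebra.algebraMap_self, RingHom.id_apply,
      AdicCompletion.evalₐ_of]
    exact Ideal.Quotient.eq_zero_iff_mem.mpr hs
  exact this hx

/-- hard direction (needs `𝔫` finitely generated). -/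
lemma mem_of_evalₐ_eq_zero (h𝔫 : 𝔫.FG) (k : ℕ) (x : AdicCompletion 𝔫 S)
    (hx : AdicCompletion.evalₐ 𝔫 k x = 0) :
    x ∈ (𝔫.map (algebraMap S (AdicCompletion 𝔫 S))) ^ k := by
  have h1 : x ∈ (AdicCompletion.eval 𝔫 S k).ker := by
    rw [LinearMap.mem_ker]
    have h : (𝔫 ^ k • ⊤ : Ideal S) ≤ 𝔫 ^ k := by simp
    have := AdicCompletion.factor_evalₐ_eq_eval (I := 𝔫) (n := k) x (by simp)
    rw [← this, hx, map_zero]
  rw [← AdicCompletion.pow_smul_top_eq_ker_eval h𝔫] at h1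
  rw [← Ideal.map_pow]
  refine Submodule.smul_induction_on h1 ?_ ?_
  · intro a ha y _
    rw [Algebra.smul_def]
    exact Ideal.mul_mem_right _ _ (Ideal.mem_map_of_mem _ ha)
  · intro y z hy hz
    exact Ideal.add_mem _ hy hz

end helpers

/-- Let `R → S` be a ring map and `𝔫 ⊆ S` a finitely generated ideal, and let `S^` be the `𝔫`-adic
completion of `S`. Then `R → S` is formally smooth for the `𝔫`-adic topology if and only if `R → S^`
is formally smooth for the adic topology of the extension of `𝔫` to `S^`. No Noetherian hypothesis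
is made on `S`. -/
theorem result {R S : Type u} [CommRing R] [CommRing S]
    [Algebra R S] (𝔫 : Ideal S) (h𝔫 : 𝔫.FG) :
    CAlgX.IsAdicFormallySmooth R S 𝔫 ↔
      CAlgX.IsAdicFormallySmooth R (AdicCompletion 𝔫 S) (𝔫.map (algebraMap S (AdicCompletion 𝔫 S))) := by
  -- `R`-algebra versions of the canonical maps
  let ι : S →ₐ[R] AdicCompletion 𝔫 S :=
    { (algebraMap S (AdicCompletion 𝔫 S)) with commutes' := fun r => rfl }
  have hι : ∀ s, ι s = algebraMap S (AdicCompletion 𝔫 S) s := fun s => rfl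
  let evR : ∀ k, AdicCompletion 𝔫 S →ₐ[R] S ⧸ 𝔫 ^ k := fun k =>
    { (AdicCompletion.evalₐ 𝔫 k).toRingHom with
      commutes' := fun r => by
        show AdicCompletion.evalₐ 𝔫 k (algebraMap R _ r) = algebraMap R (S ⧸ 𝔫 ^ k) r
        rw [AdicCompletion.algebraMap_apply, AdicCompletion.evalₐ_of]; rfl }
  have hevR : ∀ k x, evR k x = AdicCompletion.evalₐ 𝔫 k x := fun k x => rfl
  have hev_ι : ∀ k s, evR k (ι s) = Ideal.Quotient.mk (𝔫 ^ k) s := by
    intro k s
    rw [hevR, hι, AdicCompletion.algebraMap_apply, Algebra.algebraMap_self, RingHom.id_apply,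
      AdicCompletion.evalₐ_of]
  constructor
  · intro h A _ _ J hJ ψ ⟨k, hk⟩
    -- lift the restriction to `S`
    obtain ⟨χ', hχ'⟩ := h A J hJ (ψ.comp ι) ⟨k, fun x hx => by
      rw [AlgHom.comp_apply]
      apply hk
      rw [← Ideal.map_pow]
      exact Ideal.mem_map_of_mem _ hx⟩
    have hχ'J : ∀ a ∈ 𝔫 ^ k, χ' a ∈ J := by
      intro a ha
      have h1 : (Ideal.Quotient.mkₐ R J) (χ' a) = ψ (ι a) := by
        rw [← AlgHom.comp_apply, hχ']; rfl
      have h2 : ψ (ι a) = 0 := by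
        apply hk
        rw [← Ideal.map_pow]
        exact Ideal.mem_map_of_mem _ ha
      rw [h2] at h1
      exact Ideal.Quotient.eq_zero_iff_mem.mp h1
    have hχ'0 : ∀ a ∈ 𝔫 ^ (k + k), χ' a = 0 := by
      intro a ha
      rw [pow_add] at ha
      have : (𝔫 ^ k * 𝔫 ^ k).map χ'.toRingHom ≤ ⊥ := by
        rw [Ideal.map_mul, ← hJ, sq]
        apply Ideal.mul_mono <;>
        · rw [Ideal.map_le_iff_le_comap]
          intro a ha
          exact hχ'J a ha
      have h3 := this (Ideal.mem_map_of_mem _ ha)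
      simpa using h3
    let χ'' : S ⧸ 𝔫 ^ (k + k) →ₐ[R] A := Ideal.Quotient.liftₐ (𝔫 ^ (k + k)) χ' hχ'0
    refine ⟨χ''.comp (evR (k + k)), ?_⟩
    ext x
    obtain ⟨s, hs⟩ := Ideal.Quotient.mk_surjective (AdicCompletion.evalₐ 𝔫 (k + k) x)
    have hker : AdicCompletion.evalₐ 𝔫 (k + k) (x - ι s) = 0 := by
      rw [map_sub, ← hevR (k + k) (ι s), hev_ι, hs, sub_self]
    have hmem : x - ι s ∈ (𝔫.map (algebraMap S (AdicCompletion 𝔫 S))) ^ k :=
      Ideal.pow_le_pow_right (Nat.le_add_right k k)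
        (mem_of_evalₐ_eq_zero 𝔫 h𝔫 (k + k) _ hker)
    have hψ : ψ x = ψ (ι s) := by
      have := hk _ hmem
      rw [map_sub, sub_eq_zero] at this
      exact this
    rw [hψ, AlgHom.comp_apply, AlgHom.comp_apply, hevR, ← hs]
    show (Ideal.Quotient.mkₐ R J) (χ' s) = ψ (ι s)
    rw [← AlgHom.comp_apply, hχ']; rfl
  · intro h A _ _ J hJ ψ ⟨k, hk⟩
    let ψ' : S ⧸ 𝔫 ^ k →ₐ[R] A ⧸ J := Ideal.Quotient.liftₐ (𝔫 ^ k) ψ hk
    obtain ⟨χ, hχ⟩ := h A J hJ (ψ'.comp (evR k)) ⟨k, fun x hx => by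
      rw [AlgHom.comp_apply, hevR, evalₐ_eq_zero_of_mem 𝔫 k x hx, map_zero]⟩
    refine ⟨χ.comp ι, ?_⟩
    ext s
    rw [← AlgHom.comp_assoc, hχ, AlgHom.comp_apply, AlgHom.comp_apply, hev_ι]
    rfl

end Groth.Agent.S9318
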