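import Groth.Statements.S9443
import Groth.Agent.S11741
import Groth.Agent.Lib.PowerSeriesLift50
import Mathlib

set_option autoImplicit false
universe u
open CAlg

namespace Groth.Agent.S9443

/-- A complete regular local ring R with a coefficient field k (a subfield mapping isomorphically onto
the residue field) is k-isomorphic to a power series ring over k in finitely many variables
(existence of an isomorphism only; the number of variables is then the dimension of R). -/
theorem result (R : Type u)
    [CommRing R] [IsRegularLocalRing R] [IsAdicComplete (IsLocalRing.maximalIdeal R) R]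
    (k : Type u) [Field k] [Algebra k R]
    (hk : Function.Bijective (algebraMap k (IsLocalRing.ResidueField R))) :
    ∃ d : ℕ, Nonempty (R ≃ₐ[k] MvPowerSeries (Fin d) k) := by
  classical
  have hsurj := (IsLocalRing.maximalIdeal R).toCotangent_surjective
  choose b hb using fun i : Fin (Module.finrank (IsLocalRing.ResidueField R)
    (IsLocalRing.CotangentSpace R)) =>
      hsurj (Module.finBasis (IsLocalRing.ResidueField R) (IsLocalRing.CotangentSpace R) i)
  obtain ⟨ψ, hψX, -⟩ := Groth.Agent.Lib.PowerSeriesLift50.exists_algHom (k := k)
    (IsLocalRing.maximalIdeal R) (fun i => (b i : R)) (fun i => (b i).2)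
  have hψ : ∀ i, ψ (MvPowerSeries.X i) ∈ IsLocalRing.maximalIdeal R := fun i => by
    rw [hψX]; exact (b i).2
  have hfam : (fun i => (IsLocalRing.maximalIdeal R).toCotangent ⟨ψ (MvPowerSeries.X i), hψ i⟩) =
      Module.finBasis (IsLocalRing.ResidueField R) (IsLocalRing.CotangentSpace R) := by
    funext i
    rw [← hb i]
    congr 1
    exact Subtype.ext (hψX i)
  have hR : Function.Surjective ((IsLocalRing.residue R).comp (algebraMap k R)) := by
    have h1 : (IsLocalRing.residue R).comp (algebraMap k R) =
        algebraMap k (IsLocalRing.ResidueField R) := by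
      ext x
      rfl
    rw [h1]
    exact hk.2
  have hbij := (Groth.Agent.S11741.result k R hR _ ψ hψ
    (by rw [hfam]; exact (Module.finBasis _ _).linearIndependent)
    (by rw [hfam]; exact (Module.finBasis _ _).span_eq)).1 inferInstance
  exact ⟨_, ⟨(AlgEquiv.ofBijective ψ hbij).symm⟩⟩

end Groth.Agent.S9443
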