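import Groth.Statements.S2453
import Groth.Agent.S2452
import Groth.Agent.S2462
import Groth.Agent.S4537
import Groth.Agent.S9318
import Groth.Agent.S9443
import Groth.Agent.S11740
import Groth.Agent.S11741
import Groth.Agent.Lib.AdicFSPow50
import Groth.Agent.Lib.AdicDim
import Groth.Agent.Lib.AdicNoeth
import Groth.Agent.Lib.PowerSeriesLift50
import Groth.Agent.Lib.MacLane4H44
import Mathlib

set_option autoImplicit false
universe u
open EGA41

namespace Groth.Agent.S2453

section helpers

open IsLocalRing

/-- a coefficient field of the completion containing the image of `k`, expressed through the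
residue field of `A`. -/
lemma exists_tau (k A : Type u) [Field k] [CommRing A] [Algebra k A]
    [IsNoetherianRing A] [IsLocalRing A] [Algebra.IsGeometricallyReduced k (ResidueField A)] :
    ∃ τ : ResidueField A →ₐ[k] AdicCompletion (maximalIdeal A) A,
      ∀ x : ResidueField A, residue (AdicCompletion (maximalIdeal A) A) (τ x) =
        ResidueField.map (algebraMap A (AdicCompletion (maximalIdeal A) A)) x := by
  classical
  have hNÂ : IsNoetherianRing (AdicCompletion (maximalIdeal A) A) :=
    Groth.Agent.Lib.AdicNoeth.isNoetherianRing_adicCompletion _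
  have hbij := AdicCompletion.residueField_map_bijective A
  let ρ : ResidueField A →ₐ[k] ResidueField (AdicCompletion (maximalIdeal A) A) :=
    { ResidueField.map (algebraMap A (AdicCompletion (maximalIdeal A) A)) with
      commutes' := fun c => by
        change ResidueField.map _ (residue A (algebraMap k A c)) = _
        rw [ResidueField.map_residue]
        rfl }
  let eρ : ResidueField A ≃ₐ[k] ResidueField (AdicCompletion (maximalIdeal A) A) :=
    AlgEquiv.ofBijective ρ hbij
  have hgr : Algebra.IsGeometricallyReduced k
      (ResidueField (AdicCompletion (maximalIdeal A) A)) :=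
    Algebra.IsGeometricallyReduced.of_injective eρ.symm.toAlgHom eρ.symm.injective
  obtain ⟨σ, hσ⟩ := Groth.Agent.S2452.result (k := k)
    (A := AdicCompletion (maximalIdeal A) A)
  refine ⟨σ.comp ρ, fun x => ?_⟩
  change residue _ (σ (ρ x)) = _
  rw [hσ]
  rfl

/-- Cohen presentation of the completion on a basis of its cotangent space. -/
lemma exists_presentation (k A : Type u) [Field k] [CommRing A] [Algebra k A]
    [IsNoetherianRing A] [IsLocalRing A] [Algebra.IsGeometricallyReduced k (ResidueField A)] :
    ∃ (τ : ResidueField A →ₐ[k] AdicCompletion (maximalIdeal A) A) (d : ℕ)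
      (ψ₀ : MvPowerSeries (Fin d) (ResidueField A) →+* AdicCompletion (maximalIdeal A) A),
      (∀ c, ψ₀ (MvPowerSeries.C c) = τ c) ∧ Function.Surjective ψ₀ ∧
      RingHom.ker ψ₀ ≤ maximalIdeal (MvPowerSeries (Fin d) (ResidueField A)) ^ 2 ∧
      (∀ i, ψ₀ (MvPowerSeries.X i) ∈ maximalIdeal (AdicCompletion (maximalIdeal A) A)) := by
  classical
  have hNÂ : IsNoetherianRing (AdicCompletion (maximalIdeal A) A) :=
    Groth.Agent.Lib.AdicNoeth.isNoetherianRing_adicCompletion _
  obtain ⟨τ, hτ⟩ := exists_tau k A
  let algK : Algebra (ResidueField A) (AdicCompletion (maximalIdeal A) A) := τ.toRingHom.toAlgebra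
  have hR : Function.Surjective ((residue (AdicCompletion (maximalIdeal A) A)).comp
      (algebraMap (ResidueField A) (AdicCompletion (maximalIdeal A) A))) := by
    intro y
    obtain ⟨x, hx⟩ := (AdicCompletion.residueField_map_bijective A).2 y
    refine ⟨x, ?_⟩
    rw [← hx]
    exact hτ x
  have hsurj := (maximalIdeal (AdicCompletion (maximalIdeal A) A)).toCotangent_surjective
  choose b hb using fun i : Fin (Module.finrank (ResidueField (AdicCompletion (maximalIdeal A) A))
    (CotangentSpace (AdicCompletion (maximalIdeal A) A))) =>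
      hsurj (Module.finBasis (ResidueField (AdicCompletion (maximalIdeal A) A))
        (CotangentSpace (AdicCompletion (maximalIdeal A) A)) i)
  obtain ⟨ψ, hψX, -⟩ := Groth.Agent.Lib.PowerSeriesLift50.exists_algHom (k := ResidueField A)
    (maximalIdeal (AdicCompletion (maximalIdeal A) A)) (fun i => (b i : AdicCompletion (maximalIdeal A) A))
    (fun i => (b i).2)
  have hψ : ∀ i, ψ (MvPowerSeries.X i) ∈ maximalIdeal (AdicCompletion (maximalIdeal A) A) :=
    fun i => by rw [hψX]; exact (b i).2
  have hfam : (fun i => (maximalIdeal (AdicCompletion (maximalIdeal A) A)).toCotangent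
      ⟨ψ (MvPowerSeries.X i), hψ i⟩) =
      Module.finBasis (ResidueField (AdicCompletion (maximalIdeal A) A))
        (CotangentSpace (AdicCompletion (maximalIdeal A) A)) := by
    funext i
    rw [← hb i]
    congr 1
    exact Subtype.ext (hψX i)
  have h40 := Groth.Agent.S11740.result (ResidueField A) (AdicCompletion (maximalIdeal A) A) hR _ ψ hψ
    (by rw [hfam]; exact (Module.finBasis _ _).linearIndependent)
    (by rw [hfam]; exact (Module.finBasis _ _).span_eq)
  refine ⟨τ, _, ψ.toRingHom, ?_, h40.1, h40.2, hψ⟩
  intro c
  have := ψ.commutes c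
  rw [MvPowerSeries.algebraMap_apply] at this
  have h2 : ψ (MvPowerSeries.C c) =
      algebraMap (ResidueField A) (AdicCompletion (maximalIdeal A) A) c := by
    simpa using this
  exact h2.trans rfl

end helpers

open IsLocalRing in
/-- Let k be a field and A a Noetherian local k-algebra with maximal ideal 𝔪 and residue field K
separable over k; give A the 𝔪-adic topology (k discrete). The following are equivalent: (a) A is
formally smooth over k; (b) the 𝔪-adic completion of A is isomorphic to some K[[T_1, …, T_n]] by an
isomorphism carrying the image of k in A to the image of k under k → K → K[[T]]; (b') the completion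
is isomorphic as a ring to some K[[T_1, …, T_n]]; (c) A is a regular local ring. -/
theorem result {k A : Type u} [Field k] [CommRing A] [IsLocalRing A] [IsNoetherianRing A] [Algebra k A]
    [Algebra.IsGeometricallyReduced k (ResidueField A)] :
    [CAlgX.IsAdicFormallySmooth k A (maximalIdeal A),
     ∃ (n : ℕ) (e : AdicCompletion (maximalIdeal A) A ≃+* MvPowerSeries (Fin n) (ResidueField A)),
       ∀ x : k, e (algebraMap A (AdicCompletion (maximalIdeal A) A) (algebraMap k A x)) =
         algebraMap (ResidueField A) (MvPowerSeries (Fin n) (ResidueField A)) (algebraMap k (ResidueField A) x),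
     ∃ n : ℕ, Nonempty (AdicCompletion (maximalIdeal A) A ≃+* MvPowerSeries (Fin n) (ResidueField A)),
     IsRegularLocalRing A].TFAE := by
  classical
  have hNÂ : IsNoetherianRing (AdicCompletion (maximalIdeal A) A) :=
    Groth.Agent.Lib.AdicNoeth.isNoetherianRing_adicCompletion _
  have hfsK : Algebra.FormallySmooth k (ResidueField A) :=
    (Groth.Agent.Lib.MacLane4H44.formallySmooth_iff_isGeometricallyReduced k (ResidueField A)).mpr
      inferInstance
  tfae_have 2 → 3 := by
    rintro ⟨n, e, -⟩
    exact ⟨n, ⟨e⟩⟩
  tfae_have 3 → 4 := by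
    rintro ⟨n, ⟨e⟩⟩
    have := Groth.Agent.S11741.isRegularLocalRing_mvPowerSeries (ResidueField A) n
    have hr : IsRegularLocalRing (AdicCompletion (maximalIdeal A) A) :=
      IsRegularLocalRing.of_ringEquiv e.symm
    exact (Groth.Agent.Lib.AdicDim.isRegularLocalRing_adicCompletion_iff A).mpr hr
  tfae_have 4 → 2 := by
    intro hreg
    have hregÂ : IsRegularLocalRing (AdicCompletion (maximalIdeal A) A) :=
      (Groth.Agent.Lib.AdicDim.isRegularLocalRing_adicCompletion_iff A).mp hreg
    obtain ⟨τ, hτ⟩ := exists_tau k A
    let algK : Algebra (ResidueField A) (AdicCompletion (maximalIdeal A) A) := τ.toRingHom.toAlgebra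
    have hk : Function.Bijective (@algebraMap (ResidueField A)
        (ResidueField (AdicCompletion (maximalIdeal A) A)) _ _
        (IsLocalRing.ResidueField.algebra (R := AdicCompletion (maximalIdeal A) A)
          (R₀ := ResidueField A))) := by
      have h1 : ∀ x, (@algebraMap (ResidueField A)
          (ResidueField (AdicCompletion (maximalIdeal A) A)) _ _
          (IsLocalRing.ResidueField.algebra (R := AdicCompletion (maximalIdeal A) A)
            (R₀ := ResidueField A))) x =
          ResidueField.map (algebraMap A (AdicCompletion (maximalIdeal A) A)) x := fun x => hτ x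
      have hb := AdicCompletion.residueField_map_bijective A
      refine ⟨fun x y hxy => hb.1 (by rw [← h1, ← h1, hxy]), fun y => ?_⟩
      obtain ⟨x, hx⟩ := hb.2 y
      exact ⟨x, by rw [h1, hx]⟩
    obtain ⟨d, ⟨e⟩⟩ := Groth.Agent.S9443.result (AdicCompletion (maximalIdeal A) A) (ResidueField A) hk
    refine ⟨d, e.toRingEquiv, fun x => ?_⟩
    have h2 : algebraMap A (AdicCompletion (maximalIdeal A) A) (algebraMap k A x) =
        algebraMap (ResidueField A) (AdicCompletion (maximalIdeal A) A)
          (algebraMap k (ResidueField A) x) := by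
      change _ = τ (algebraMap k (ResidueField A) x)
      rw [τ.commutes]
      rfl
    rw [h2]
    exact e.commutes _
  tfae_have 1 → 2 := by
    intro hfs
    obtain ⟨τ, d, ψ₀, hψC, hsurj, hker, hψX⟩ := exists_presentation k A
    have h1 : CAlgX.IsAdicFormallySmooth k (AdicCompletion (maximalIdeal A) A)
        ((maximalIdeal A).map (algebraMap A (AdicCompletion (maximalIdeal A) A))) :=
      (Groth.Agent.S9318.result (maximalIdeal A) (IsNoetherian.noetherian _)).mp hfs
    have h2 : EGA41.IsFormallySmoothAdic k (⊥ : Ideal k) (AdicCompletion (maximalIdeal A) A)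
        ((maximalIdeal A).map (algebraMap A (AdicCompletion (maximalIdeal A) A))) :=
      (Groth.Agent.S4537.result _).mp h1
    have hmÂ : maximalIdeal (AdicCompletion (maximalIdeal A) A) =
        (maximalIdeal A).map (algebraMap A (AdicCompletion (maximalIdeal A) A)) :=
      AdicCompletion.maximalIdeal_eq_map
    have hcP : IsAdicComplete (maximalIdeal (MvPowerSeries (Fin d) (ResidueField A)))
        (MvPowerSeries (Fin d) (ResidueField A)) := by
      rw [Groth.Agent.S11741.maximalIdeal_eq_span]
      infer_instance
    let ψk : MvPowerSeries (Fin d) (ResidueField A) →ₐ[k] AdicCompletion (maximalIdeal A) A :=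
      { ψ₀ with
        commutes' := fun c => by
          change ψ₀ (algebraMap k (MvPowerSeries (Fin d) (ResidueField A)) c) = _
          rw [MvPowerSeries.algebraMap_apply, hψC, τ.commutes] }
    have hψk : ∀ f, ψk f = ψ₀ f := fun f => rfl
    have hψk_surj : Function.Surjective ψk := hsurj
    let ē : (MvPowerSeries (Fin d) (ResidueField A) ⧸ RingHom.ker ψk) ≃ₐ[k]
        AdicCompletion (maximalIdeal A) A := Ideal.quotientKerAlgEquivOfSurjective hψk_surj
    have hē : ∀ f, ē (Ideal.Quotient.mk _ f) = ψk f := fun f => rfl
    let u : AdicCompletion (maximalIdeal A) A →ₐ[k]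
        MvPowerSeries (Fin d) (ResidueField A) ⧸ RingHom.ker ψk := ē.symm.toAlgHom
    have hu : ((maximalIdeal A).map (algebraMap A (AdicCompletion (maximalIdeal A) A))).map
        u.toRingHom ≤ (maximalIdeal (MvPowerSeries (Fin d) (ResidueField A))).map
          (Ideal.Quotient.mk (RingHom.ker ψk)) := by
      rw [← hmÂ, Ideal.map_le_iff_le_comap]
      intro y hy
      obtain ⟨f, rfl⟩ := hψk_surj y
      rw [Ideal.mem_comap]
      have h3 : u.toRingHom (ψk f) = Ideal.Quotient.mk _ f := by
        change ē.symm (ψk f) = _
        rw [← hē, AlgEquiv.symm_apply_apply]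
      rw [h3]
      apply Ideal.mem_map_of_mem
      rw [mem_maximalIdeal, mem_nonunits_iff]
      intro hf
      exact (mem_maximalIdeal _).mp hy (hf.map ψk)
    obtain ⟨v, hv𝔫, hvu⟩ := Groth.Agent.S2462.result (A := k)
      (B := AdicCompletion (maximalIdeal A) A) (C := MvPowerSeries (Fin d) (ResidueField A))
      (⊥ : Ideal k)
      ((maximalIdeal A).map (algebraMap A (AdicCompletion (maximalIdeal A) A))) h2
      (by rw [Ideal.map_bot]; exact bot_le)
      (RingHom.ker ψk) (RingHom.ker_ne_top _) u hu
    have hvψ : ∀ a, ψk (v a) = a := by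
      intro a
      rw [← hē]
      have h3 : Ideal.Quotient.mk (RingHom.ker ψk) (v a) = u a := DFunLike.congr_fun hvu a
      rw [h3]
      exact ē.apply_symm_apply a
    have hw : ∀ f, v (ψk f) - f ∈ RingHom.ker ψk := fun f => by
      rw [RingHom.mem_ker, map_sub, hvψ, sub_self]
    have hkerk : RingHom.ker ψk ≤ maximalIdeal (MvPowerSeries (Fin d) (ResidueField A)) ^ 2 := hker
    have hmapv : ((maximalIdeal A).map (algebraMap A (AdicCompletion (maximalIdeal A) A))).map
        v.toRingHom = maximalIdeal (MvPowerSeries (Fin d) (ResidueField A)) := by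
      apply le_antisymm hv𝔫
      apply Submodule.le_of_le_smul_of_le_jacobson_bot
        (I := maximalIdeal (MvPowerSeries (Fin d) (ResidueField A)))
        (IsNoetherian.noetherian _) (maximalIdeal_le_jacobson _)
      have hspan := Groth.Agent.S11741.maximalIdeal_eq_span (ResidueField A) d
      intro f hf
      rw [hspan] at hf
      refine Submodule.span_induction ?_ ?_ ?_ ?_ hf
      · rintro _ ⟨i, rfl⟩
        have h4 : (MvPowerSeries.X i : MvPowerSeries (Fin d) (ResidueField A)) =
            v (ψk (MvPowerSeries.X i)) - (v (ψk (MvPowerSeries.X i)) - MvPowerSeries.X i) := by ring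
        rw [h4]
        refine sub_mem (Submodule.mem_sup_left ?_) (Submodule.mem_sup_right ?_)
        · apply Ideal.mem_map_of_mem
          rw [← hmÂ]
          exact hψX i
        · rw [smul_eq_mul, ← sq]
          exact hkerk (hw _)
      · exact zero_mem _
      · intro x y _ _ hx hy
        exact add_mem hx hy
      · intro a x _ hx
        exact Ideal.mul_mem_left _ a hx
    have hcÂ : IsAdicComplete ((maximalIdeal A).map (algebraMap A (AdicCompletion (maximalIdeal A) A)))
        (AdicCompletion (maximalIdeal A) A) :=
      AdicCompletion.isAdicComplete_self _ (IsNoetherian.noetherian _)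
    have hvsurj : Function.Surjective v := by
      have haus : IsHausdorff (((maximalIdeal A).map
          (algebraMap A (AdicCompletion (maximalIdeal A) A))).map v.toRingHom)
          (MvPowerSeries (Fin d) (ResidueField A)) := by
        rw [hmapv]
        exact hcP.toIsHausdorff
      refine surjective_of_mk_map_comp_surjective v.toRingHom
        (I := (maximalIdeal A).map (algebraMap A (AdicCompletion (maximalIdeal A) A))) ?_
      intro z
      obtain ⟨f, rfl⟩ := Ideal.Quotient.mk_surjective z
      refine ⟨ψk f, ?_⟩
      simp only [RingHom.comp_apply]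
      rw [Ideal.Quotient.eq, hmapv]
      exact (Ideal.pow_le_self two_ne_zero) (hkerk (hw f))
    have hinj : Function.Injective ψ₀ := by
      rw [injective_iff_map_eq_zero]
      intro f hf
      obtain ⟨a, rfl⟩ := hvsurj f
      have h5 : a = 0 := by
        rw [← hvψ a]
        exact hf
      rw [h5, map_zero]
    refine ⟨d, (RingEquiv.ofBijective ψ₀ ⟨hinj, hsurj⟩).symm, fun x => ?_⟩
    rw [RingEquiv.symm_apply_eq]
    change _ = ψ₀ _
    rw [MvPowerSeries.algebraMap_apply, Algebra.algebraMap_self_apply, hψC, τ.commutes]
    rfl
  tfae_have 2 → 1 := by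
    rintro ⟨n, e, he⟩
    rw [Groth.Agent.S9318.result (maximalIdeal A) (IsNoetherian.noetherian _)]
    refine Groth.Agent.Lib.AdicFSPow50.isAdicFormallySmooth_of_ringEquiv e ?_ _
      (maximalIdeal (MvPowerSeries (Fin n) (ResidueField A))) ?_
      (Groth.Agent.Lib.AdicFSPow50.isAdicFormallySmooth_mvPowerSeries n _
        (Groth.Agent.Lib.AdicFSPow50.X_mem_maximalIdeal n))
    · intro r
      have h1 := he r
      have h2 : algebraMap k (AdicCompletion (maximalIdeal A) A) r =
          algebraMap A (AdicCompletion (maximalIdeal A) A) (algebraMap k A r) := rfl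
      rw [h2, h1, MvPowerSeries.algebraMap_apply, MvPowerSeries.algebraMap_apply]
      rfl
    · rw [← AdicCompletion.maximalIdeal_eq_map, Ideal.map_le_iff_le_comap]
      intro f hf
      rw [Ideal.mem_comap, mem_maximalIdeal, mem_nonunits_iff]
      intro hu
      apply (mem_maximalIdeal f).mp hf
      have := hu.map e.toRingHom
      simpa using this
  tfae_finish

end Groth.Agent.S2453
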