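import Groth.Statements.S2471
import Groth.Agent.Lib.KaehlerFS50

set_option autoImplicit false
set_option linter.style.haveILetI false
set_option linter.unusedSectionVars false
universe u
open EGA41

namespace Groth.Agent.S2471

section helpers

open IsLocalRing Groth.Agent.Lib.KaehlerFS50

variable {k A : Type u} [Field k] [CommRing A] [IsLocalRing A] [Algebra k A]

lemma exists_ext_of_torsion
    (hinj : Function.Injective ((KaehlerDifferential.mapBaseChange ℤ k A).lTensor (ResidueField A)))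
    {V : Type u} [AddCommGroup V] [Module A V] [Module k V] [IsScalarTower k A V]
    (hV : ∀ a ∈ maximalIdeal A, ∀ v : V, a • v = 0) (D₀ : Derivation ℤ k V) :
    ∃ D' : Derivation ℤ A V, ∀ c, D' (algebraMap k A c) = D₀ c := by
  have hM : Module.IsTorsionBySet A V (maximalIdeal A) := fun v a => hV a a.2 v
  letI : Module (ResidueField A) V := hM.module
  have hres : ∀ (x : A) (v : V), (residue A x : ResidueField A) • v = x • v :=
    fun x v => Module.IsTorsionBySet.mk_smul hM x v
  haveI : IsScalarTower A (ResidueField A) V := ⟨fun a l v => by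
    obtain ⟨b, rfl⟩ := IsLocalRing.residue_surjective l
    rw [Algebra.smul_def, IsLocalRing.ResidueField.algebraMap_eq, ← map_mul, hres, hres, mul_smul]⟩
  exact exists_ext_of_injective_lTensor hinj D₀

/-- base case: the square-zero ideal is killed by the maximal ideal. -/
theorem exists_algHom_of_killed
    (hinj : Function.Injective ((KaehlerDifferential.mapBaseChange ℤ k A).lTensor (ResidueField A)))
    {C : Type u} [CommRing C] [Algebra k C] (J : Ideal C) (hJ : J * J = ⊥) (g₀ : A →+* C)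
    (h1 : ∀ c : k, g₀ (algebraMap k A c) - algebraMap k C c ∈ J)
    (h2 : ∀ a ∈ maximalIdeal A, ∀ j ∈ J, g₀ a * j = 0) :
    ∃ g : A →ₐ[k] C, ∀ a, g a - g₀ a ∈ J := by
  have hJJ : ∀ x ∈ J, ∀ y ∈ J, x * y = 0 := by
    intro x hx y hy
    have : x * y ∈ J * J := Ideal.mul_mem_mul hx hy
    rwa [hJ, Ideal.mem_bot] at this
  letI modA : Module A J := Module.compHom J g₀
  have hsmulA : ∀ (a : A) (j : J), ((a • j : J) : C) = g₀ a * j := fun a j => rfl
  have hsmulk : ∀ (c : k) (j : J), ((c • j : J) : C) = algebraMap k C c * j := fun c j => by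
    rw [Submodule.coe_smul_of_tower, Algebra.smul_def]
  haveI : IsScalarTower k A J := ⟨fun c a j => by
    apply Subtype.ext
    rw [hsmulA, hsmulk, hsmulA, Algebra.smul_def, map_mul, mul_assoc]
    have h3 := hJJ _ (h1 c) _ (J.mul_mem_left (g₀ a) j.2)
    rw [sub_mul, sub_eq_zero] at h3
    exact h3⟩
  let φ : k →+ J := AddMonoidHom.mk'
    (fun c => ⟨g₀ (algebraMap k A c) - algebraMap k C c, h1 c⟩)
    (fun a b => by
      apply Subtype.ext
      simp only [map_add, Submodule.coe_add]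
      ring)
  let E : Derivation ℤ k J := Derivation.mk' φ.toIntLinearMap (fun a b => by
    apply Subtype.ext
    change g₀ (algebraMap k A (a * b)) - algebraMap k C (a * b) =
      ((a • (φ b) + b • (φ a) : J) : C)
    rw [Submodule.coe_add, hsmulk, hsmulk]
    change _ = algebraMap k C a * (g₀ (algebraMap k A b) - algebraMap k C b) +
      algebraMap k C b * (g₀ (algebraMap k A a) - algebraMap k C a)
    have h3 := hJJ _ (h1 a) _ (h1 b)
    rw [map_mul, map_mul, map_mul]
    linear_combination h3)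
  have hV : ∀ a ∈ maximalIdeal A, ∀ v : J, a • v = 0 := by
    intro a ha v
    apply Subtype.ext
    rw [hsmulA]
    exact h2 a ha v v.2
  obtain ⟨D', hD'⟩ := exists_ext_of_torsion hinj hV E
  have hD'E : ∀ c : k, ((D' (algebraMap k A c) : J) : C) =
      g₀ (algebraMap k A c) - algebraMap k C c := fun c => by rw [hD' c]; rfl
  let g : A →ₐ[k] C :=
    { toFun := fun a => g₀ a - (D' a : C)
      map_one' := by
        rw [map_one, Derivation.map_one_eq_zero]
        simp
      map_mul' := fun a b => by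
        rw [map_mul, Derivation.leibniz, Submodule.coe_add, hsmulA, hsmulA]
        have h3 := hJJ _ (D' a).2 _ (D' b).2
        linear_combination (-1 : C) * h3
      map_zero' := by
        rw [map_zero, map_zero]
        simp
      map_add' := fun a b => by
        rw [map_add, map_add, Submodule.coe_add]
        ring
      commutes' := fun c => by
        rw [hD'E]
        ring }
  refine ⟨g, fun a => ?_⟩
  change g₀ a - (D' a : C) - g₀ a ∈ J
  have : g₀ a - (D' a : C) - g₀ a = -(D' a : C) := by ring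
  rw [this]
  exact J.neg_mem (D' a).2

section RL

variable {k₀ : Type u} [Field k₀] [Algebra k₀ k] [Algebra k₀ A] [IsScalarTower k₀ k A]

lemma map_mul_le_of_sub_mem {C : Type u} [CommRing C] (J : Ideal C)
    (hJJ : ∀ x ∈ J, ∀ y ∈ J, x * y = 0) (g₀ g₁ : A →+* C) (hdiff : ∀ a, g₁ a - g₀ a ∈ J)
    (𝔪 : Ideal A) (K : Ideal C) (hK : K ≤ J) : 𝔪.map g₁ * K ≤ 𝔪.map g₀ * K := by
  rw [Ideal.mul_le]
  intro r hr s hs
  rw [Ideal.map] at hr
  induction hr using Submodule.span_induction with
  | mem x hx =>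
    obtain ⟨a, ha, rfl⟩ := hx
    have h1 : g₁ a * s = g₀ a * s := by
      have := hJJ _ (hdiff a) _ (hK hs)
      rw [sub_mul, sub_eq_zero] at this
      exact this
    rw [h1]
    exact Ideal.mul_mem_mul (Ideal.mem_map_of_mem _ ha) hs
  | zero => rw [zero_mul]; exact Ideal.zero_mem _
  | add x y _ _ hx hy => rw [add_mul]; exact Ideal.add_mem _ hx hy
  | smul c x _ hx => rw [smul_eq_mul, mul_assoc]; exact Ideal.mul_mem_left _ _ hx

lemma map_pow_mul_le_of_sub_mem {C : Type u} [CommRing C] (J : Ideal C)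
    (hJJ : ∀ x ∈ J, ∀ y ∈ J, x * y = 0) (g₀ g₁ : A →+* C) (hdiff : ∀ a, g₁ a - g₀ a ∈ J)
    (𝔪 : Ideal A) (K : Ideal C) (hK : K ≤ J) (i : ℕ) :
    (𝔪.map g₁) ^ i * K ≤ (𝔪.map g₀) ^ i * K := by
  induction i with
  | zero => simp
  | succ i ih =>
    rw [pow_succ', pow_succ', mul_assoc, mul_assoc]
    refine le_trans (Ideal.mul_mono_right ih) ?_
    exact map_mul_le_of_sub_mem J hJJ g₀ g₁ hdiff 𝔪 _ (le_trans Ideal.mul_le_right hK)

theorem exists_algHom_aux (hfs0 : CAlgX.IsAdicFormallySmooth k₀ A (maximalIdeal A))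
    (hinj : Function.Injective ((KaehlerDifferential.mapBaseChange ℤ k A).lTensor (ResidueField A)))
    (i : ℕ) :
    ∀ (C : Type u) [CommRing C] [Algebra k C] [Algebra k₀ C] [IsScalarTower k₀ k C] (J : Ideal C),
      J * J = ⊥ → ∀ g₀ : A →ₐ[k₀] C,
      (∀ c : k, g₀ (algebraMap k A c) - algebraMap k C c ∈ J) →
      (∃ m : ℕ, ∀ x ∈ maximalIdeal A ^ m, g₀ x ∈ J) →
      ((maximalIdeal A).map (g₀ : A →+* C)) ^ i * J = ⊥ →
      ∃ g : A →ₐ[k] C, ∀ a, g a - g₀ a ∈ J := by
  induction i with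
  | zero =>
    intro C _ _ _ _ J hJ g₀ h1 _ hi
    rw [pow_zero, Ideal.one_eq_top, Ideal.top_mul] at hi
    have h1' : ∀ c : k, g₀ (algebraMap k A c) = algebraMap k C c := by
      intro c
      have := h1 c
      rw [hi, Ideal.mem_bot, sub_eq_zero] at this
      exact this
    refine ⟨{ g₀.toRingHom with commutes' := h1' }, fun a => ?_⟩
    change g₀ a - g₀ a ∈ J
    rw [sub_self]
    exact J.zero_mem
  | succ i ih =>
    intro C _ _ _ _ J hJ g₀ h1 hcont hi
    have hJJ : ∀ x ∈ J, ∀ y ∈ J, x * y = 0 := by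
      intro x hx y hy
      have : x * y ∈ J * J := Ideal.mul_mem_mul hx hy
      rwa [hJ, Ideal.mem_bot] at this
    set I := (maximalIdeal A).map (g₀ : A →+* C) with hI
    set J' := I * J with hJ'
    have hJ'J : J' ≤ J := Ideal.mul_le_right
    have hJ'sq : J' * J' = ⊥ := by
      rw [eq_bot_iff, ← hJ]
      exact Ideal.mul_mono hJ'J hJ'J
    let mk' := Ideal.Quotient.mk J'
    have hmk' : Function.Surjective mk' := Ideal.Quotient.mk_surjective
    let gbar₀ : A →+* C ⧸ J' := mk'.comp (g₀ : A →+* C)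
    set Jbar := J.map mk' with hJbar
    have hJbar_sq : Jbar * Jbar = ⊥ := by
      rw [hJbar, ← Ideal.map_mul, hJ, Ideal.map_bot]
    have h1' : ∀ c : k, gbar₀ (algebraMap k A c) - algebraMap k (C ⧸ J') c ∈ Jbar := by
      intro c
      have : gbar₀ (algebraMap k A c) - algebraMap k (C ⧸ J') c =
          mk' (g₀ (algebraMap k A c) - algebraMap k C c) := by
        rw [map_sub]; rfl
      rw [this]
      exact Ideal.mem_map_of_mem _ (h1 c)
    have h2' : ∀ a ∈ maximalIdeal A, ∀ j ∈ Jbar, gbar₀ a * j = 0 := by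
      intro a ha j hj
      obtain ⟨j₀, hj₀, rfl⟩ := (Ideal.mem_map_iff_of_surjective mk' hmk').1 hj
      change mk' (g₀ a) * mk' j₀ = 0
      rw [← map_mul, Ideal.Quotient.eq_zero_iff_mem]
      exact Ideal.mul_mem_mul (Ideal.mem_map_of_mem _ ha) hj₀
    obtain ⟨gbar, hgbar⟩ := exists_algHom_of_killed hinj Jbar hJbar_sq gbar₀ h1' h2'
    obtain ⟨m, hm⟩ := hcont
    have hgbar_mem : ∀ x ∈ maximalIdeal A ^ m, gbar x ∈ Jbar := by
      intro x hx
      have : gbar x = (gbar x - gbar₀ x) + mk' (g₀ x) := by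
        change _ = (gbar x - gbar₀ x) + gbar₀ x
        ring
      rw [this]
      exact Ideal.add_mem _ (hgbar x) (Ideal.mem_map_of_mem _ (hm x hx))
    have hgbar_zero : ∀ x ∈ maximalIdeal A ^ (m + m), gbar x = 0 := by
      intro x hx
      rw [pow_add] at hx
      refine Submodule.mul_induction_on hx (fun y hy z hz => ?_) (fun y z hy hz => ?_)
      · rw [map_mul]
        have : gbar y * gbar z ∈ Jbar * Jbar :=
          Ideal.mul_mem_mul (hgbar_mem y hy) (hgbar_mem z hz)
        rwa [hJbar_sq, Ideal.mem_bot] at this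
      · rw [map_add, hy, hz, add_zero]
    have hJ'sq2 : J' ^ 2 = ⊥ := by rw [pow_two]; exact hJ'sq
    obtain ⟨g₁, hg₁⟩ := hfs0 C J' hJ'sq2 (gbar.restrictScalars k₀)
      ⟨m + m, fun x hx => hgbar_zero x hx⟩
    have hg₁' : ∀ a, mk' (g₁ a) = gbar a := fun a => DFunLike.congr_fun hg₁ a
    have hdiff : ∀ a, (g₁ : A →+* C) a - (g₀ : A →+* C) a ∈ J := by
      intro a
      have h3 : mk' (g₁ a - g₀ a) ∈ Jbar := by
        rw [map_sub, hg₁']
        exact hgbar a
      obtain ⟨j₀, hj₀, hj₀'⟩ := (Ideal.mem_map_iff_of_surjective mk' hmk').1 h3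
      have h4 : j₀ - (g₁ a - g₀ a) ∈ J' := Ideal.Quotient.eq.1 hj₀'
      have h5 : g₁ a - g₀ a = j₀ - (j₀ - (g₁ a - g₀ a)) := by ring
      change g₁ a - g₀ a ∈ J
      rw [h5]
      exact J.sub_mem hj₀ (hJ'J h4)
    have h1'' : ∀ c : k, g₁ (algebraMap k A c) - algebraMap k C c ∈ J' := by
      intro c
      rw [← Ideal.Quotient.eq]
      change mk' (g₁ (algebraMap k A c)) = _
      rw [hg₁', gbar.commutes]
      rfl
    have hcont'' : ∃ m : ℕ, ∀ x ∈ maximalIdeal A ^ m, g₁ x ∈ J' := by
      refine ⟨m + m, fun x hx => ?_⟩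
      rw [← Ideal.Quotient.eq_zero_iff_mem]
      change mk' (g₁ x) = 0
      rw [hg₁', hgbar_zero x hx]
    have hi'' : ((maximalIdeal A).map (g₁ : A →+* C)) ^ i * J' = ⊥ := by
      rw [eq_bot_iff]
      refine le_trans (map_pow_mul_le_of_sub_mem J hJJ (g₀ : A →+* C) (g₁ : A →+* C) hdiff
        (maximalIdeal A) J' hJ'J i) ?_
      rw [hJ', ← mul_assoc, ← pow_succ, hi]
    obtain ⟨g, hg⟩ := ih C J' hJ'sq g₁ h1'' hcont'' hi''
    refine ⟨g, fun a => ?_⟩
    have : g a - g₀ a = (g a - g₁ a) + (g₁ a - g₀ a) := by ring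
    rw [this]
    exact J.add_mem (hJ'J (hg a)) (hdiff a)

end RL

section Final

variable {k₀ : Type u} [Field k₀] [Algebra k₀ k] [Algebra k₀ A] [IsScalarTower k₀ k A]

theorem isAdicFormallySmooth_of_injective
    (hfs0 : CAlgX.IsAdicFormallySmooth k₀ A (maximalIdeal A))
    (hinj : Function.Injective ((KaehlerDifferential.mapBaseChange ℤ k A).lTensor (ResidueField A))) :
    CAlgX.IsAdicFormallySmooth k A (maximalIdeal A) := by
  intro C _ _ J hJ ψ hψ
  obtain ⟨m, hm⟩ := hψ
  letI algC : Algebra k₀ C := ((algebraMap k C).comp (algebraMap k₀ k)).toAlgebra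
  haveI : IsScalarTower k₀ k C := IsScalarTower.of_algebraMap_eq' rfl
  obtain ⟨g₀, hg₀⟩ := hfs0 C J hJ (ψ.restrictScalars k₀) ⟨m, hm⟩
  have hg₀' : ∀ a, Ideal.Quotient.mk J (g₀ a) = ψ a := fun a => DFunLike.congr_fun hg₀ a
  have hJ2 : J * J = ⊥ := by rw [← pow_two]; exact hJ
  have h1 : ∀ c : k, g₀ (algebraMap k A c) - algebraMap k C c ∈ J := by
    intro c
    rw [← Ideal.Quotient.eq, hg₀', ψ.commutes]
    rfl
  have hcont' : ∀ x ∈ maximalIdeal A ^ m, g₀ x ∈ J := fun x hx => by
    rw [← Ideal.Quotient.eq_zero_iff_mem, hg₀', hm x hx]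
  have hi : ((maximalIdeal A).map (g₀ : A →+* C)) ^ m * J = ⊥ := by
    rw [eq_bot_iff, ← hJ2, ← Ideal.map_pow]
    apply Ideal.mul_mono_left
    rw [Ideal.map_le_iff_le_comap]
    intro x hx
    exact hcont' x hx
  obtain ⟨g, hg⟩ := exists_algHom_aux hfs0 hinj m C J hJ2 g₀ h1 ⟨m, hcont'⟩ hi
  refine ⟨g, ?_⟩
  ext a
  change Ideal.Quotient.mk J (g a) = ψ a
  rw [← hg₀']
  exact Ideal.Quotient.eq.2 (hg a)

end Final

end helpers

open IsLocalRing in
/-- Let k be a field and A a Noetherian local k-algebra with maximal ideal 𝔪 and residue field K. Then A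
is formally smooth over k for the 𝔪-adic topology if and only if A is regular and the canonical map
Ω_{k/ℤ} ⊗_k K → Ω_{A/ℤ} ⊗_A K is injective. (The published criterion has a first condition that, for
Noetherian A, amounts to regularity of A; it is stated here for Noetherian A only.) -/
theorem result {k A : Type u} [Field k] [CommRing A] [IsLocalRing A] [IsNoetherianRing A] [Algebra k A] :
    CAlgX.IsAdicFormallySmooth k A (maximalIdeal A) ↔
      (IsRegularLocalRing A ∧ Function.Injective ((KaehlerDifferential.mapBaseChange ℤ k A).lTensor (ResidueField A))) := by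
  constructor
  · intro h
    exact ⟨(Groth.Agent.Lib.AdicFSField50.regular_of_isAdicFormallySmooth h).1,
      Groth.Agent.Lib.KaehlerFS50.injective_lTensor_of_ext
        (Groth.Agent.Lib.KaehlerFS50.exists_ext_of_isAdicFormallySmooth h)⟩
  · rintro ⟨hreg, hinj⟩
    obtain ⟨k₀, _, _, hk₀⟩ := Groth.Agent.Lib.AdicFSField50.exists_perfect_subfield k
    letI algA : Algebra k₀ A := ((algebraMap k A).comp (algebraMap k₀ k)).toAlgebra
    haveI : IsScalarTower k₀ k A := IsScalarTower.of_algebraMap_eq' rfl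
    haveI hgr : Algebra.IsGeometricallyReduced k₀ (ResidueField A) := (hk₀ (ResidueField A)).2
    have htfae := Groth.Agent.S2453.result (k := k₀) (A := A)
    have hfs0 : CAlgX.IsAdicFormallySmooth k₀ A (maximalIdeal A) := (htfae.out 3 0).1 hreg
    exact isAdicFormallySmooth_of_injective hfs0 hinj

end Groth.Agent.S2471
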