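import Groth.Statements.S4512
import Groth.Agent.Lib.AdicFSField50

set_option autoImplicit false
universe u
open EGA41

namespace Groth.Agent.S4512

open IsLocalRing in
/-- Let k be a field and A a Noetherian local k-algebra with residue field K, and suppose A is formally
smooth over k for the adic topology of its maximal ideal (k discrete). Then A is geometrically
regular over k, i.e. A ⊗_k k' is a regular ring for every finite extension k' of k; and the adic
completion of A is isomorphic, as a ring, to a power series ring K[[T_1, …, T_n]] (existence of a
ring isomorphism; no compatibility with k is asserted, and none holds in general when K is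
inseparable over k). -/
theorem result {k A : Type u} [Field k] [CommRing A]
    [IsLocalRing A] [IsNoetherianRing A] [Algebra k A] (h : CAlgX.IsAdicFormallySmooth k A (maximalIdeal A)) :
    CAlg.IsGeometricallyRegular k A ∧
      ∃ n : ℕ, Nonempty (AdicCompletion (maximalIdeal A) A ≃+* MvPowerSeries (Fin n) (ResidueField A)) := by
  open TensorProduct Groth.Agent.Lib.AdicFSField50 in
  refine ⟨?_, (regular_of_isAdicFormallySmooth h).2⟩
  intro k' _ _ hfin
  have hN : IsNoetherianRing (k' ⊗[k] A) := by
    have : IsNoetherianRing (A ⊗[k] k') := Algebra.FiniteType.isNoetherianRing A (A ⊗[k] k')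
    exact isNoetherianRing_of_ringEquiv _ (Algebra.TensorProduct.comm k A k').toRingEquiv
  apply Groth.Agent.Lib.H87Serre2.isRegularRing_of_maximal
  intro 𝔫 h𝔫
  have hfs := isAdicFormallySmooth_localization_baseChange (k' := k') h 𝔫
  exact (regular_of_isAdicFormallySmooth hfs).1

end Groth.Agent.S4512
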