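import Groth.Statements.S4576
import Mathlib.RingTheory.Smooth.Locus
import Mathlib.RingTheory.Etale.Kaehler
import Mathlib.Algebra.Module.FinitePresentation
import Mathlib.Algebra.Module.LocalizedModule.Exact

set_option autoImplicit false
set_option maxHeartbeats 400000
universe u
open EGA41

namespace Groth.Agent.S4576

section ModuleLemmas

variable {R : Type u} [CommRing R] (S : Submonoid R)
variable {M N Q : Type u} [AddCommGroup M] [Module R M] [AddCommGroup N] [Module R N]
  [AddCommGroup Q] [Module R Q]

/-- If `M → N → Q → 0` is exact, the kernel of `M → N` is `S`-torsion and `S⁻¹Q` is projective,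
then the localisation map `M → S⁻¹M` extends along `φ` to `N`. -/
theorem exists_retract_loc {Qp : Type u} [AddCommGroup Qp] [Module R Qp]
    [Module (Localization S) Qp] [IsScalarTower R (Localization S) Qp]
    (φ : M →ₗ[R] N) (π : N →ₗ[R] Q) (hex : Function.Exact φ π) (hπ : Function.Surjective π)
    (gQ : Q →ₗ[R] Qp) [IsLocalizedModule S gQ] [Module.Projective (Localization S) Qp]
    (htors : ∀ x, φ x = 0 → ∃ s ∈ S, s • x = 0) :
    ∃ lam : N →ₗ[R] LocalizedModule S M, lam ∘ₗ φ = LocalizedModule.mkLinearMap S M := by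
  set gM := LocalizedModule.mkLinearMap S M with hgM
  set gN := LocalizedModule.mkLinearMap S N with hgN
  set φp : LocalizedModule S M →ₗ[R] LocalizedModule S N := IsLocalizedModule.map S gM gN φ with hφp
  set πp : LocalizedModule S N →ₗ[R] Qp := IsLocalizedModule.map S gN gQ π with hπp
  have hexp : Function.Exact φp πp := IsLocalizedModule.map_exact S gM gN gQ φ π hex
  have hπps : Function.Surjective πp := IsLocalizedModule.map_surjective S gN gQ π hπ
  have hφpi : Function.Injective φp := by
    rw [injective_iff_map_eq_zero]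
    intro y hy
    obtain ⟨⟨m, s⟩, rfl⟩ := IsLocalizedModule.mk'_surjective S gM y
    simp only [Function.uncurry_apply_pair] at hy ⊢
    rw [hφp, IsLocalizedModule.map_mk', IsLocalizedModule.mk'_eq_zero,
      IsLocalizedModule.eq_zero_iff S] at hy
    obtain ⟨t, ht⟩ := hy
    rw [Submonoid.smul_def, ← map_smul] at ht
    obtain ⟨u, hu, hum⟩ := htors _ ht
    rw [IsLocalizedModule.mk'_eq_zero, IsLocalizedModule.eq_zero_iff S]
    exact ⟨⟨u, hu⟩ * t, by rw [mul_smul, Submonoid.smul_def, Submonoid.smul_def]; exact hum⟩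
  -- a section of `πp`
  let πp' : LocalizedModule S N →ₗ[Localization S] Qp :=
    πp.extendScalarsOfIsLocalization S (Localization S)
  obtain ⟨sec, hsec⟩ := Module.projective_lifting_property πp' LinearMap.id hπps
  have hsec' : πp ∘ₗ (sec.restrictScalars R) = LinearMap.id := by
    ext x
    exact LinearMap.congr_fun hsec x
  obtain ⟨-, l, hl⟩ := ((hexp.split_tfae'.out 0 1 rfl rfl).mp ⟨hφpi, _, hsec'⟩)
  refine ⟨l ∘ₗ gN, ?_⟩
  ext m
  have h1 : gN (φ m) = φp (gM m) := by
    rw [hφp, IsLocalizedModule.map_apply]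
  simp only [LinearMap.comp_apply, h1]
  exact LinearMap.congr_fun hl (gM m)

/-- Spreading out: a map `N → S⁻¹M` retracting `φ : M → N` (with `M` finite, `N` projective) comes,
up to an element of `S`, from a map `N → M`. -/
theorem exists_retract_up_to [Module.Finite R M] [Module.Projective R N]
    (φ : M →ₗ[R] N) (lam : N →ₗ[R] LocalizedModule S M)
    (hlam : lam ∘ₗ φ = LocalizedModule.mkLinearMap S M) :
    ∃ f ∈ S, ∃ l : N →ₗ[R] M, l ∘ₗ φ = f • LinearMap.id := by
  classical
  obtain ⟨ι, hι⟩ := Module.projective_def'.mp (inferInstance : Module.Projective R N)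
  set ρ : (N →₀ R) →ₗ[R] N := Finsupp.linearCombination R id with hρ
  obtain ⟨G, hG⟩ := (Module.Finite.fg_top : (⊤ : Submodule R M).FG)
  set I₀ : Finset N := G.biUnion (fun x => (ι (φ x)).support) with hI₀
  set F₀ : Submodule R (N →₀ R) := Finsupp.supported R R (I₀ : Set N) with hF₀
  have hrange : ∀ m, (ι ∘ₗ φ) m ∈ F₀ := by
    have h1 : (⊤ : Submodule R M) ≤ F₀.comap (ι ∘ₗ φ) := by
      rw [← hG, Submodule.span_le]
      intro x hx
      simp only [Submodule.comap_coe, Set.mem_preimage, SetLike.mem_coe, hF₀,
        Finsupp.mem_supported, LinearMap.comp_apply]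
      intro i hi
      exact Finset.mem_coe.mpr (Finset.mem_biUnion.mpr ⟨x, hx, hi⟩)
    intro m
    exact h1 (Submodule.mem_top)
  set φ₀ : M →ₗ[R] F₀ := LinearMap.codRestrict F₀ (ι ∘ₗ φ) hrange with hφ₀
  have : Finite (I₀ : Set N) := I₀.finite_toSet
  let e : F₀ ≃ₗ[R] ((I₀ : Set N) →₀ R) := Finsupp.supportedEquivFinsupp (I₀ : Set N)
  set lam₀ : ((I₀ : Set N) →₀ R) →ₗ[R] LocalizedModule S M :=
    lam ∘ₗ ρ ∘ₗ F₀.subtype ∘ₗ e.symm.toLinearMap with hlam₀
  have hlam₀φ₀ : lam₀ ∘ₗ (e.toLinearMap ∘ₗ φ₀) = LocalizedModule.mkLinearMap S M := by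
    rw [← hlam]
    ext m
    simp only [hlam₀, hφ₀, LinearMap.comp_apply, Submodule.subtype_apply,
      LinearEquiv.coe_coe, LinearEquiv.symm_apply_apply, LinearMap.codRestrict_apply]
    congr 1
    exact LinearMap.congr_fun hι (φ m)
  obtain ⟨l₀, s, hl₀⟩ := Module.FinitePresentation.exists_lift_of_isLocalizedModule S
    (LocalizedModule.mkLinearMap S M) lam₀
  have h2 : (LocalizedModule.mkLinearMap S M) ∘ₗ (l₀ ∘ₗ (e.toLinearMap ∘ₗ φ₀)) =
      (LocalizedModule.mkLinearMap S M) ∘ₗ ((s : R) • (LinearMap.id : M →ₗ[R] M)) := by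
    rw [← LinearMap.comp_assoc, hl₀, LinearMap.smul_comp, hlam₀φ₀, LinearMap.comp_smul,
      LinearMap.comp_id]
    rfl
  obtain ⟨t, ht⟩ := Module.Finite.exists_smul_of_comp_eq_of_isLocalizedModule S
    (LocalizedModule.mkLinearMap S M) _ _ h2
  refine ⟨(t : R) * (s : R), S.mul_mem t.2 s.2,
    ((t : R) • l₀) ∘ₗ e.toLinearMap ∘ₗ (Finsupp.restrictDom R R (I₀ : Set N)) ∘ₗ ι, ?_⟩
  have h3 : (Finsupp.restrictDom R R (I₀ : Set N)) ∘ₗ ι ∘ₗ φ = φ₀ := by
    ext m : 1
    have : (ι ∘ₗ φ) m = F₀.subtype (φ₀ m) := rfl
    simp only [LinearMap.comp_apply] at this ⊢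
    rw [this]
    exact LinearMap.congr_fun (Finsupp.restrictDom_comp_subtype (R := R) (M := R)
      (s := (I₀ : Set N))) (φ₀ m)
  rw [LinearMap.comp_assoc, LinearMap.comp_assoc, LinearMap.comp_assoc, h3, LinearMap.smul_comp]
  rw [Submonoid.smul_def, Submonoid.smul_def] at ht
  rw [ht, smul_smul]

end ModuleLemmas

open TensorProduct in
/-- If the cotangent complex `I/I² → C ⊗ Ω_{B/A}` of a formally smooth extension has a retraction
up to `f`, then every localisation of `C` in which `f` is invertible is formally smooth. -/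
theorem formallySmooth_of_retract {A C : Type u} [CommRing A] [CommRing C] [Algebra A C]
    (P : Algebra.Extension.{u} A C) [Algebra.FormallySmooth A P.Ring]
    (f : C) (l : P.CotangentSpace →ₗ[C] P.Cotangent)
    (hl : l ∘ₗ P.cotangentComplex = f • LinearMap.id)
    (S' : Submonoid C) (hf : f ∈ S') (T : Type u) [CommRing T] [Algebra C T] [Algebra A T]
    [IsScalarTower A C T] [IsLocalization S' T] :
    Algebra.FormallySmooth A T := by
  have hl' : ∀ m, l (P.cotangentComplex m) = f • m := fun m => LinearMap.congr_fun hl m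
  refine ⟨?_, ?_⟩
  · -- projectivity of `Ω[T⁄A]`
    haveI : Algebra.FormallyEtale C T := Algebra.FormallyEtale.of_isLocalization S'
    set φ := P.cotangentComplex with hφ
    set π := P.toKaehler with hπdef
    have hπ : Function.Surjective π := P.toKaehler_surjective
    have hex : Function.Exact φ π := P.exact_cotangentComplex_toKaehler
    set g : P.CotangentSpace →ₗ[C] P.CotangentSpace := f • LinearMap.id - φ ∘ₗ l with hg
    have hker : LinearMap.ker π ≤ LinearMap.ker g := by
      intro n hn
      obtain ⟨m, rfl⟩ := (hex n).mp hn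
      simp only [LinearMap.mem_ker, hg, LinearMap.sub_apply, LinearMap.smul_apply,
        LinearMap.id_apply, LinearMap.comp_apply, hl', map_smul, sub_self]
    set s : Ω[C⁄A] →ₗ[C] P.CotangentSpace :=
      (LinearMap.ker π).liftQ g hker ∘ₗ (π.quotKerEquivOfSurjective hπ).symm.toLinearMap with hs
    have hsπ : s ∘ₗ π = g := by
      refine LinearMap.ext fun n => ?_
      have : (π.quotKerEquivOfSurjective hπ).symm (π n) = Submodule.Quotient.mk n := by
        rw [LinearEquiv.symm_apply_eq]
        rfl
      simp only [hs, LinearMap.comp_apply, LinearEquiv.coe_coe, this, Submodule.liftQ_apply]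
    have hπs : π ∘ₗ s = f • LinearMap.id := by
      rw [← LinearMap.cancel_right hπ, LinearMap.comp_assoc, hsπ]
      refine LinearMap.ext fun n => ?_
      have h0 : π (φ (l n)) = 0 := hex.apply_apply_eq_zero _
      simp only [hg, LinearMap.comp_apply, LinearMap.sub_apply, LinearMap.smul_apply,
        LinearMap.id_apply, map_sub, map_smul, h0, sub_zero]
    obtain ⟨u, hu⟩ := IsLocalization.map_units T (⟨f, hf⟩ : S')
    have hproj : Module.Projective T (T ⊗[C] Ω[C⁄A]) := by
      refine Module.Projective.of_split ((↑u⁻¹ : T) • s.baseChange T) (π.baseChange T) ?_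
      rw [LinearMap.comp_smul, ← LinearMap.baseChange_comp, hπs, LinearMap.baseChange_smul,
        LinearMap.baseChange_id]
      refine LinearMap.ext fun x => ?_
      simp only [LinearMap.smul_apply, LinearMap.id_apply]
      rw [← algebraMap_smul T f x, smul_smul]
      simp only at hu
      rw [← hu, Units.inv_mul, one_smul]
    exact Module.Projective.of_equiv (KaehlerDifferential.tensorKaehlerEquivOfFormallyEtale A C T)
  · -- vanishing of `H¹`
    rw [IsLocalizedModule.subsingleton_iff S' (Algebra.H1Cotangent.map A A C T)]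
    intro y
    refine ⟨f, hf, ?_⟩
    obtain ⟨x, rfl⟩ := P.equivH1CotangentOfFormallySmooth.surjective y
    rw [← map_smul]
    have : f • x = 0 := by
      apply Subtype.ext
      have h1 : P.cotangentComplex x.1 = 0 := x.2
      have h2 := hl' x.1
      rw [h1, map_zero] at h2
      exact h2.symm
    rw [this, map_zero]


/-- Let B be a formally smooth A-algebra (discrete topologies), C = B/J a quotient with J/J² finitely
generated. Then the set of primes p of C with C_p formally smooth over A is open in Spec C. (The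
equivalent variant with C_p formally smooth over A_q, q the contraction of p to A, is not stated.) -/
theorem result {A B C : Type u} [CommRing A] [CommRing B] [CommRing C]
    [Algebra A B] [Algebra B C] [Algebra A C] [IsScalarTower A B C] [Algebra.FormallySmooth A B]
    (hsurj : Function.Surjective (algebraMap B C)) [Module.Finite B (RingHom.ker (algebraMap B C)).Cotangent] :
    IsOpen {p : PrimeSpectrum C | Algebra.FormallySmooth A (Localization.AtPrime p.asIdeal)} := by
  let P : Algebra.Extension.{u} A C := ⟨B, _, Function.surjInv_eq hsurj⟩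
  haveI : Algebra.FormallySmooth A P.Ring := ‹_›
  haveI hfin : Module.Finite C P.Cotangent := by
    have h1 : Module.Finite B P.Cotangent := by
      let e : P.ker.Cotangent ≃ₗ[P.Ring] P.Cotangent :=
        { __ := AddEquiv.refl _, map_smul' r m := by ext1; simp; rfl }
      exact Module.Finite.equiv (R := B) (M := (RingHom.ker (algebraMap B C)).Cotangent) e
    exact Module.Finite.of_restrictScalars_finite B C P.Cotangent
  haveI hproj : Module.Projective C P.CotangentSpace := by
    haveI : Module.Projective B Ω[B⁄A] := inferInstance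
    exact inferInstanceAs (Module.Projective C (TensorProduct B C Ω[B⁄A]))
  rw [isOpen_iff_forall_mem_open]
  intro p hp
  have hp' : Algebra.FormallySmooth A (Localization.AtPrime p.asIdeal) := hp
  obtain ⟨f, hf, l, hl⟩ : ∃ f ∈ p.asIdeal.primeCompl, ∃ l : P.CotangentSpace →ₗ[C] P.Cotangent,
      l ∘ₗ P.cotangentComplex = f • LinearMap.id := by
    have htors : ∀ x : P.Cotangent, P.cotangentComplex x = 0 →
        ∃ s ∈ p.asIdeal.primeCompl, s • x = 0 := by
      intro x hx
      let x' : P.H1Cotangent := ⟨x, hx⟩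
      have h0 : Algebra.H1Cotangent.map A A C (Localization.AtPrime p.asIdeal)
          (P.equivH1CotangentOfFormallySmooth x') = 0 := Subsingleton.elim _ _
      rw [IsLocalizedModule.eq_zero_iff p.asIdeal.primeCompl] at h0
      obtain ⟨s, hs⟩ := h0
      refine ⟨s, s.2, ?_⟩
      rw [Submonoid.smul_def] at hs
      have h1 : P.equivH1CotangentOfFormallySmooth ((s : C) • x') = 0 := by
        rw [map_smul]; exact hs
      have h2 : (s : C) • x' = 0 :=
        P.equivH1CotangentOfFormallySmooth.injective (by rw [h1, map_zero])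
      exact congrArg Subtype.val h2
    obtain ⟨lam, hlam⟩ := exists_retract_loc p.asIdeal.primeCompl P.cotangentComplex P.toKaehler
      P.exact_cotangentComplex_toKaehler P.toKaehler_surjective
      (KaehlerDifferential.map A A C (Localization.AtPrime p.asIdeal)) htors
    exact exists_retract_up_to _ _ lam hlam
  refine ⟨(PrimeSpectrum.basicOpen f : Set (PrimeSpectrum C)), ?_,
    (PrimeSpectrum.basicOpen f).isOpen, hf⟩
  intro q hq
  exact formallySmooth_of_retract P f l hl q.asIdeal.primeCompl hq (Localization.AtPrime q.asIdeal)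

end Groth.Agent.S4576
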