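import Groth.Statements.S3815
-- import your own Groth.Agent.* helpers here

set_option autoImplicit false
universe u
open scoped TensorProduct
open scoped BigOperators
open PP16

namespace Groth.Agent.S3815

section
variable (A B : Type u) [CommRing A] [CommRing B] [Algebra A B]
variable {M N : Type u} [AddCommGroup M] [Module A M] [Module B M] [IsScalarTower A B M]
    [AddCommGroup N] [Module A N] [Module B N] [IsScalarTower A B N]

/-- `(b ⊗ c) · D = b ∘ D ∘ c`. -/
noncomputable def Phi (D : M →ₗ[A] N) : (B ⊗[A] B) →ₗ[A] (M →ₗ[A] N) :=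
  TensorProduct.lift
    (LinearMap.mk₂ A
      (fun b c => ((LinearMap.lsmul B N b).restrictScalars A) ∘ₗ D ∘ₗ
        ((LinearMap.lsmul B M c).restrictScalars A))
      (fun b b' c => by ext m; simp [add_smul])
      (fun a b c => by ext m; simp)
      (fun b c c' => by ext m; simp [add_smul])
      (fun a b c => by ext m; simp))

@[simp] lemma Phi_tmul (D : M →ₗ[A] N) (b c : B) (m : M) :
    Phi A B D (b ⊗ₜ[A] c) m = b • D (c • m) := by
  simp [Phi]

lemma Phi_zero (t : B ⊗[A] B) : Phi A B (0 : M →ₗ[A] N) t = 0 := by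
  induction t with
  | zero => simp
  | tmul b c => ext m; simp
  | add x y hx hy => rw [map_add, hx, hy, add_zero]

lemma Phi_mul (D : M →ₗ[A] N) (t s : B ⊗[A] B) :
    Phi A B D (t * s) = Phi A B (Phi A B D s) t := by
  induction t with
  | zero => simp
  | add x y hx hy => rw [add_mul, map_add, map_add, hx, hy]
  | tmul b c =>
    induction s with
    | zero =>
      rw [mul_zero, map_zero, Phi_zero]
    | add x y hx hy =>
      rw [mul_add, map_add, hx, hy]
      ext m
      simp [smul_add]
    | tmul b' c' =>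
      ext m
      rw [Algebra.TensorProduct.tmul_mul_tmul, Phi_tmul, Phi_tmul, Phi_tmul, mul_smul, mul_smul,
        smul_comm c' c m]

lemma commutator_eq (D : M →ₗ[A] N) (b : B) :
    Diff16.commutator A B M N D b = Phi A B D ((1 : B) ⊗ₜ[A] b - b ⊗ₜ[A] (1 : B)) := by
  ext m
  simp [Diff16.commutator]


/-- `Phi D` kills `x * g` for `g ∈ I`, `x ∈ J` as soon as it kills `x * ζ_b` for all `x ∈ J`. -/
lemma Phi_mul_ideal (D : M →ₗ[A] N) (J : Ideal (B ⊗[A] B))
    (h : ∀ b : B, ∀ x ∈ J, Phi A B D (x * ((1 : B) ⊗ₜ[A] b - b ⊗ₜ[A] (1 : B))) = 0) :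
    ∀ g ∈ KaehlerDifferential.ideal A B, ∀ x ∈ J, Phi A B D (x * g) = 0 := by
  intro g hg
  rw [← KaehlerDifferential.span_range_eq_ideal] at hg
  induction hg using Submodule.span_induction with
  | mem y hy =>
    obtain ⟨b, rfl⟩ := hy
    exact h b
  | zero => intro x _; simp
  | add y z _ _ hy hz =>
    intro x hx
    rw [mul_add, map_add, hy x hx, hz x hx, add_zero]
  | smul s y _ hy =>
    intro x hx
    rw [smul_eq_mul, ← mul_assoc]
    exact hy (x * s) (J.mul_mem_right s hx)

lemma isDiffOpLE_iff (n : ℕ) (D : M →ₗ[A] N) :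
    Diff16.IsDiffOpLE A B M N n D ↔
      ∀ t ∈ (KaehlerDifferential.ideal A B) ^ (n + 1), Phi A B D t = 0 := by
  induction n generalizing D with
  | zero =>
    rw [zero_add, pow_one]
    constructor
    · intro h t ht
      have h1 : ∀ b : B, ∀ x ∈ (⊤ : Ideal (B ⊗[A] B)),
          Phi A B D (x * ((1 : B) ⊗ₜ[A] b - b ⊗ₜ[A] (1 : B))) = 0 := by
        intro b x _
        rw [Phi_mul, ← commutator_eq]
        have : Diff16.commutator A B M N D b = 0 := by
          ext m
          have := h b m
          simp [Diff16.commutator, this]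
        rw [this, Phi_zero]
      have := Phi_mul_ideal A B D ⊤ h1 t ht 1 trivial
      rwa [one_mul] at this
    · intro h b m
      have h1 := h _ (KaehlerDifferential.one_smul_sub_smul_one_mem_ideal A b)
      have h2 := LinearMap.congr_fun h1 m
      simp only [map_sub, LinearMap.sub_apply, Phi_tmul, one_smul, LinearMap.zero_apply] at h2
      exact sub_eq_zero.mp h2
  | succ n ih =>
    have hunf : Diff16.IsDiffOpLE A B M N (n + 1) D ↔
        ∀ b : B, Diff16.IsDiffOpLE A B M N n (Diff16.commutator A B M N D b) := Iff.rfl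
    rw [hunf]
    constructor
    · intro h t ht
      rw [pow_succ] at ht
      have h1 : ∀ b : B, ∀ x ∈ (KaehlerDifferential.ideal A B) ^ (n + 1),
          Phi A B D (x * ((1 : B) ⊗ₜ[A] b - b ⊗ₜ[A] (1 : B))) = 0 := by
        intro b x hx
        rw [Phi_mul, ← commutator_eq]
        exact (ih _).mp (h b) x hx
      have h2 := Phi_mul_ideal A B D _ h1
      refine Submodule.mul_induction_on ht (fun x hx g hg => h2 g hg x hx) ?_
      intro x y hx hy
      rw [map_add, hx, hy, add_zero]
    · intro h b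
      rw [ih]
      intro t ht
      rw [commutator_eq, ← Phi_mul]
      apply h
      rw [pow_succ]
      exact Ideal.mul_mem_mul ht (KaehlerDifferential.one_smul_sub_smul_one_mem_ideal A b)


variable (n : ℕ)

/-- `Phi D` descended to `P^n` when it kills `I^(n+1)`. -/
noncomputable def fQ (D : M →ₗ[A] N)
    (h : ∀ t ∈ (KaehlerDifferential.ideal A B) ^ (n + 1), Phi A B D t = 0) :
    PP16.P n A B →ₗ[A] (M →ₗ[A] N) :=
  (Submodule.liftQ (((KaehlerDifferential.ideal A B) ^ (n + 1)).restrictScalars A) (Phi A B D)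
    (fun t ht => h t ht)) ∘ₗ
    (Submodule.Quotient.restrictScalarsEquiv A ((KaehlerDifferential.ideal A B) ^ (n + 1))).symm.toLinearMap

lemma fQ_mk (D : M →ₗ[A] N)
    (h : ∀ t ∈ (KaehlerDifferential.ideal A B) ^ (n + 1), Phi A B D t = 0) (t : B ⊗[A] B) :
    fQ A B n D h (Ideal.Quotient.mk _ t) = Phi A B D t := by
  rfl


lemma Phi_right (D : M →ₗ[A] N) (r : B) (t : B ⊗[A] B) (m : M) :
    Phi A B D (((1 : B) ⊗ₜ[A] r) * t) m = Phi A B D t (r • m) := by
  induction t with
  | zero => simp
  | tmul b c =>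
    rw [Algebra.TensorProduct.tmul_mul_tmul, Phi_tmul, Phi_tmul, one_mul, mul_comm, mul_smul]
  | add x y hx hy =>
    rw [mul_add, map_add, LinearMap.add_apply, hx, hy, map_add, LinearMap.add_apply]

lemma Phi_left (D : M →ₗ[A] N) (r : B) (t : B ⊗[A] B) (m : M) :
    Phi A B D ((r ⊗ₜ[A] (1 : B)) * t) m = r • Phi A B D t m := by
  induction t with
  | zero => simp
  | tmul b c =>
    rw [Algebra.TensorProduct.tmul_mul_tmul, Phi_tmul, Phi_tmul, one_mul, mul_smul]
  | add x y hx hy =>
    rw [mul_add, map_add, LinearMap.add_apply, hx, hy, map_add, LinearMap.add_apply, smul_add]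

/-- The tautological map `P → Pr`. -/
def toPr (x : PP16.P n A B) : PP16.Pr n A B := x

lemma toPr_add (x y : PP16.P n A B) : toPr A B n (x + y) = toPr A B n x + toPr A B n y := rfl

lemma toPr_zero : toPr A B n 0 = 0 := rfl

lemma mk_tmul_eq (b c : B) (m : M) :
    (toPr A B n (Ideal.Quotient.mk _ (b ⊗ₜ[A] c))) ⊗ₜ[B] m =
      algebraMap B (PP16.P n A B) b • PP16.dM n A B M (c • m) := by
  change _ = algebraMap B (PP16.P n A B) b • ((1 : PP16.Pr n A B) ⊗ₜ[B] (c • m))
  rw [TensorProduct.tmul_smul, TensorProduct.smul_tmul', TensorProduct.smul_tmul']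
  congr 1
  change (Ideal.Quotient.mk ((KaehlerDifferential.ideal A B) ^ (n + 1))) (b ⊗ₜ[A] c) =
    (Ideal.Quotient.mk ((KaehlerDifferential.ideal A B) ^ (n + 1))) (b ⊗ₜ[A] (1 : B)) *
      ((Ideal.Quotient.mk ((KaehlerDifferential.ideal A B) ^ (n + 1))) ((1 : B) ⊗ₜ[A] c) *
        (1 : PP16.P n A B))
  rw [mul_one, ← map_mul, Algebra.TensorProduct.tmul_mul_tmul, mul_one, one_mul]

lemma key (D : M →ₗ[A] N) (u : PP16.PM n A B M →+ N)
    (h1 : ∀ (b : B) (t : PP16.PM n A B M), u (algebraMap B (PP16.P n A B) b • t) = b • u t)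
    (h2 : ∀ m : M, u (PP16.dM n A B M m) = D m) (t : B ⊗[A] B) (m : M) :
    u ((toPr A B n (Ideal.Quotient.mk _ t)) ⊗ₜ[B] m) = Phi A B D t m := by
  induction t with
  | zero =>
    rw [map_zero, toPr_zero, TensorProduct.zero_tmul, map_zero, map_zero, LinearMap.zero_apply]
  | tmul b c =>
    rw [mk_tmul_eq, h1, h2, Phi_tmul]
  | add x y hx hy =>
    rw [map_add, toPr_add, TensorProduct.add_tmul, map_add, hx, hy, map_add, LinearMap.add_apply]


/-- The additive map `Pr → M → N` built from `fQ`. -/
noncomputable def fAdd (D : M →ₗ[A] N)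
    (h : ∀ t ∈ (KaehlerDifferential.ideal A B) ^ (n + 1), Phi A B D t = 0) :
    PP16.Pr n A B →+ M →+ N where
  toFun x := (fQ A B n D h (show PP16.P n A B from x)).toAddMonoidHom
  map_zero' := by
    ext m
    change fQ A B n D h (0 : PP16.P n A B) m = 0
    rw [map_zero, LinearMap.zero_apply]
  map_add' x y := by
    ext m
    change fQ A B n D h ((show PP16.P n A B from x) + (show PP16.P n A B from y)) m = _
    rw [map_add, LinearMap.add_apply]
    rfl

lemma fAdd_mk (D : M →ₗ[A] N)
    (h : ∀ t ∈ (KaehlerDifferential.ideal A B) ^ (n + 1), Phi A B D t = 0) (t : B ⊗[A] B) (m : M) :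
    fAdd A B n D h (toPr A B n (Ideal.Quotient.mk _ t)) m = Phi A B D t m := rfl

lemma toPr_surj (x : PP16.Pr n A B) : ∃ t : B ⊗[A] B, toPr A B n (Ideal.Quotient.mk _ t) = x :=
  Ideal.Quotient.mk_surjective (show PP16.P n A B from x)

lemma fAdd_balanced (D : M →ₗ[A] N)
    (h : ∀ t ∈ (KaehlerDifferential.ideal A B) ^ (n + 1), Phi A B D t = 0)
    (r : B) (x : PP16.Pr n A B) (m : M) :
    fAdd A B n D h (r • x) m = fAdd A B n D h x (r • m) := by
  obtain ⟨t, rfl⟩ := toPr_surj A B n x
  have h0 : r • toPr A B n (Ideal.Quotient.mk _ t) =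
      toPr A B n (Ideal.Quotient.mk _ (((1 : B) ⊗ₜ[A] r) * t)) := by
    rw [map_mul]
    rfl
  rw [h0, fAdd_mk, fAdd_mk, Phi_right]

end


/-- Let B be an A-algebra, M and N two B-modules and D : M → N an A-linear map. Let P^n(M) = P^n_{B/A}
⊗_B M, the tensor product formed with the B-module structure of P^n_{B/A} through d^n, regarded as a
B-module through the first factor of P^n_{B/A}, with d^n_M : M → P^n(M), m ↦ 1 ⊗ m. Then D is a
differential operator of order at most n relative to A (order defined through iterated commutators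
with multiplication by elements of B) if and only if there is exactly one additive map u : P^n(M) →
N which is B-linear for the first-factor structure and satisfies u(1 ⊗ m) = D(m) for all m ∈ M. -/
theorem result (n : ℕ) (A B : Type u) [CommRing A] [CommRing B] [Algebra A B]
    (M N : Type u) [AddCommGroup M] [Module A M] [Module B M] [IsScalarTower A B M]
    [AddCommGroup N] [Module A N] [Module B N] [IsScalarTower A B N] (D : M →ₗ[A] N) :
    Diff16.IsDiffOpLE A B M N n D ↔
      ∃! u : PP16.PM n A B M →+ N,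
        (∀ (b : B) (t : PP16.PM n A B M), u (algebraMap B (PP16.P n A B) b • t) = b • u t) ∧
          ∀ m : M, u (PP16.dM n A B M m) = D m := by
  rw [isDiffOpLE_iff]
  constructor
  · intro h
    refine ⟨TensorProduct.liftAddHom (fAdd A B n D h) (fAdd_balanced A B n D h), ⟨?_, ?_⟩, ?_⟩
    · intro b t'
      induction t' using TensorProduct.induction_on with
      | zero => rw [smul_zero, map_zero, smul_zero]
      | add x y hx hy => rw [smul_add, map_add, hx, hy, map_add, smul_add]
      | tmul x m =>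
        obtain ⟨t, rfl⟩ := toPr_surj A B n x
        have h0 : algebraMap B (PP16.P n A B) b • toPr A B n (Ideal.Quotient.mk _ t) =
            toPr A B n (Ideal.Quotient.mk _ ((b ⊗ₜ[A] (1 : B)) * t)) := by
          rw [map_mul]
          rfl
        rw [TensorProduct.smul_tmul', h0, TensorProduct.liftAddHom_tmul,
          TensorProduct.liftAddHom_tmul, fAdd_mk, fAdd_mk, Phi_left]
    · intro m
      change TensorProduct.liftAddHom (fAdd A B n D h) (fAdd_balanced A B n D h)
        ((toPr A B n (Ideal.Quotient.mk _ ((1 : B) ⊗ₜ[A] (1 : B)))) ⊗ₜ[B] m) = D m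
      rw [TensorProduct.liftAddHom_tmul, fAdd_mk, Phi_tmul, one_smul, one_smul]
    · rintro u' ⟨h1, h2⟩
      apply AddMonoidHom.ext
      intro t'
      induction t' using TensorProduct.induction_on with
      | zero => rw [map_zero, map_zero]
      | add x y hx hy => rw [map_add, map_add, hx, hy]
      | tmul x m =>
        obtain ⟨t, rfl⟩ := toPr_surj A B n x
        rw [key A B n D u' h1 h2, TensorProduct.liftAddHom_tmul, fAdd_mk]
  · rintro ⟨u, ⟨h1, h2⟩, -⟩ t ht
    ext m
    rw [← key A B n D u h1 h2 t m, LinearMap.zero_apply]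
    have : (Ideal.Quotient.mk ((KaehlerDifferential.ideal A B) ^ (n + 1))) t = 0 :=
      Ideal.Quotient.eq_zero_iff_mem.mpr ht
    rw [this, toPr_zero, TensorProduct.zero_tmul, map_zero]

end Groth.Agent.S3815
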