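import Groth.Statements.S3818
-- import your own Groth.Agent.* helpers here
import Groth.Agent.Lib.DiffOp

set_option autoImplicit false
universe u
open scoped TensorProduct
open scoped BigOperators
open PP16

namespace Groth.Agent.S3818

open Groth.Agent.S2799 Groth.Agent.Lib.DiffOp

section
variable (A B : Type u) [CommRing A] [CommRing B] [Algebra A B]
variable {ι : Type} [Fintype ι] [DecidableEq ι] (z : ι → B)

/-- If `E` has order `≤ n+2` and all `[E, z i]` have order `≤ n` then `E` has order `≤ n+1`. -/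
lemma drop_one (hz : Submodule.span B (Set.range fun i => KaehlerDifferential.D A B (z i)) = ⊤)
    (n : ℕ) : ∀ E : B →ₗ[A] B, Diff16.IsDiffOpLE A B B B (n + 2) E →
      (∀ i, Diff16.IsDiffOpLE A B B B n (Diff16.commutator A B B B E (z i))) →
      Diff16.IsDiffOpLE A B B B (n + 1) E := by
  induction n with
  | zero =>
    intro E hE hc b
    apply linear_of_order_one A B z hz _ (hE b)
    intro i
    rw [commutator_commutator_comm]
    exact commutator_eq_zero_of_isDiffOpLE_zero A B B B _ (hc i) b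
  | succ n ih =>
    intro E hE hc b
    apply ih _ (hE b)
    intro i
    rw [commutator_commutator_comm]
    exact hc i b

lemma drop_many (hz : Submodule.span B (Set.range fun i => KaehlerDifferential.D A B (z i)) = ⊤)
    (n j : ℕ) : ∀ E : B →ₗ[A] B, Diff16.IsDiffOpLE A B B B (n + 1 + j) E →
      (∀ i, Diff16.IsDiffOpLE A B B B n (Diff16.commutator A B B B E (z i))) →
      Diff16.IsDiffOpLE A B B B (n + 1) E := by
  induction j with
  | zero => intro E hE _; exact hE
  | succ j ih =>
    intro E hE hc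
    apply ih E _ hc
    have h1 : n + 1 + (j + 1) = (n + j) + 2 := by omega
    have h2 : n + 1 + j = (n + j) + 1 := by omega
    rw [h1] at hE
    rw [h2]
    apply drop_one A B z hz (n + j) E hE
    intro i
    exact isDiffOpLE_of_le A B B B (Nat.le_add_right n j) _ (hc i)

lemma drop_any (hz : Submodule.span B (Set.range fun i => KaehlerDifferential.D A B (z i)) = ⊤)
    (n k : ℕ) (E : B →ₗ[A] B) (hE : Diff16.IsDiffOpLE A B B B k E)
    (hc : ∀ i, Diff16.IsDiffOpLE A B B B n (Diff16.commutator A B B B E (z i))) :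
    Diff16.IsDiffOpLE A B B B (n + 1) E := by
  apply drop_many A B z hz n k E _ hc
  exact isDiffOpLE_of_le A B B B (Nat.le_add_left k (n + 1)) _ hE


omit [DecidableEq ι] in
lemma prod_split {α : Type*} [CommMonoid α] [DecidableEq ι] (i : ι) (F G : ι → α)
    (h : ∀ j, j ≠ i → F j = G j) :
    ∏ j, F j = F i * ∏ j ∈ Finset.univ.erase i, G j := by
  rw [← Finset.mul_prod_erase Finset.univ F (Finset.mem_univ i)]
  congr 1
  exact Finset.prod_congr rfl (fun j hj => h j (Finset.ne_of_mem_erase hj))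

omit [CommRing A] [Algebra A B] in
lemma key_identity (i : ι) (q p' : ι → ℕ) :
    (((∏ j, Nat.choose ((q + Pi.single i 1 : ι → ℕ) j) ((p' + Pi.single i 1 : ι → ℕ) j) : ℕ) : B) *
        ∏ j, z j ^ ((q + Pi.single i 1 : ι → ℕ) j - (p' + Pi.single i 1 : ι → ℕ) j)) -
      z i * (((∏ j, Nat.choose (q j) ((p' + Pi.single i 1 : ι → ℕ) j) : ℕ) : B) *
        ∏ j, z j ^ (q j - (p' + Pi.single i 1 : ι → ℕ) j)) -
      ((∏ j, Nat.choose (q j) (p' j) : ℕ) : B) * ∏ j, z j ^ (q j - p' j) = 0 := by
  have hne : ∀ j, j ≠ i → (Pi.single i 1 : ι → ℕ) j = 0 := fun j hj => Pi.single_eq_of_ne hj 1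
  have e1 := prod_split i (fun j => Nat.choose ((q + Pi.single i 1 : ι → ℕ) j) ((p' + Pi.single i 1 : ι → ℕ) j))
    (fun j => Nat.choose (q j) (p' j)) (fun j hj => by simp [hne j hj])
  have e2 := prod_split i (fun j => z j ^ ((q + Pi.single i 1 : ι → ℕ) j - (p' + Pi.single i 1 : ι → ℕ) j))
    (fun j => z j ^ (q j - p' j)) (fun j hj => by simp [hne j hj])
  have e3 := prod_split i (fun j => Nat.choose (q j) ((p' + Pi.single i 1 : ι → ℕ) j))
    (fun j => Nat.choose (q j) (p' j)) (fun j hj => by simp [hne j hj])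
  have e4 := prod_split i (fun j => z j ^ (q j - (p' + Pi.single i 1 : ι → ℕ) j))
    (fun j => z j ^ (q j - p' j)) (fun j hj => by simp [hne j hj])
  have e5 := prod_split i (fun j => Nat.choose (q j) (p' j))
    (fun j => Nat.choose (q j) (p' j)) (fun j _ => rfl)
  have e6 := prod_split i (fun j => z j ^ (q j - p' j))
    (fun j => z j ^ (q j - p' j)) (fun j _ => rfl)
  rw [e1, e2, e3, e4, e5, e6]
  simp only [Pi.add_apply, Pi.single_eq_same, Nat.add_sub_add_right, Nat.choose_succ_succ]
  set R : ℕ := ∏ j ∈ Finset.univ.erase i, Nat.choose (q j) (p' j)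
  set W : B := ∏ j ∈ Finset.univ.erase i, z j ^ (q j - p' j)
  rcases Nat.lt_or_ge (q i) (p' i + 1) with h | h
  · rw [Nat.choose_eq_zero_of_lt h]
    push_cast
    ring
  · have hx : z i ^ (q i - p' i) = z i * z i ^ (q i - (p' i + 1)) := by
      rw [← pow_succ']
      congr 1
      omega
    rw [hx]
    push_cast
    ring

omit [CommRing A] [Algebra A B] in
lemma key_identity_zero (i : ι) (q p : ι → ℕ) (hp : p i = 0) :
    (((∏ j, Nat.choose ((q + Pi.single i 1 : ι → ℕ) j) (p j) : ℕ) : B) *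
        ∏ j, z j ^ ((q + Pi.single i 1 : ι → ℕ) j - p j)) -
      z i * (((∏ j, Nat.choose (q j) (p j) : ℕ) : B) * ∏ j, z j ^ (q j - p j)) = 0 := by
  have hne : ∀ j, j ≠ i → (Pi.single i 1 : ι → ℕ) j = 0 := fun j hj => Pi.single_eq_of_ne hj 1
  have e1 := prod_split i (fun j => Nat.choose ((q + Pi.single i 1 : ι → ℕ) j) (p j))
    (fun j => Nat.choose (q j) (p j)) (fun j hj => by simp [hne j hj])
  have e2 := prod_split i (fun j => z j ^ ((q + Pi.single i 1 : ι → ℕ) j - p j))
    (fun j => z j ^ (q j - p j)) (fun j hj => by simp [hne j hj])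
  have e5 := prod_split i (fun j => Nat.choose (q j) (p j))
    (fun j => Nat.choose (q j) (p j)) (fun j _ => rfl)
  have e6 := prod_split i (fun j => z j ^ (q j - p j))
    (fun j => z j ^ (q j - p j)) (fun j _ => rfl)
  rw [e1, e2, e5, e6]
  simp only [Pi.add_apply, Pi.single_eq_same, hp, Nat.choose_zero_right, Nat.sub_zero, pow_succ]
  push_cast
  ring


section family
variable (hz : Submodule.span B (Set.range fun i => KaehlerDifferential.D A B (z i)) = ⊤)
    (Dp : (ι → ℕ) → (B →ₗ[A] B)) (hD : ∀ p, ∃ k : ℕ, Diff16.IsDiffOpLE A B B B k (Dp p))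
    (hDz : ∀ p q : ι → ℕ, Dp p (∏ i, z i ^ q i) =
        ((∏ i, Nat.choose (q i) (p i) : ℕ) : B) * ∏ i, z i ^ (q i - p i))
include hz hD hDz

lemma comm_Dp_succ (p' : ι → ℕ) (i : ι) :
    Diff16.commutator A B B B (Dp (p' + Pi.single i 1)) (z i) = Dp p' := by
  obtain ⟨k, hk⟩ := hD (p' + Pi.single i 1)
  obtain ⟨k', hk'⟩ := hD p'
  have h1 : Diff16.IsDiffOpLE A B B B (max k k')
      (Diff16.commutator A B B B (Dp (p' + Pi.single i 1)) (z i)) :=
    isDiffOpLE_of_le A B B B (le_max_left k k') _ ((isDiffOpLE_succ A B B B k _ hk) (z i))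
  have h2 : Diff16.IsDiffOpLE A B B B (max k k') (Dp p') :=
    isDiffOpLE_of_le A B B B (le_max_right k k') _ hk'
  have h3 := isDiffOpLE_sub A B B B _ _ _ h1 h2
  have h4 := eq_zero_of_monomials A B z hz _ _ h3 (by
    intro q
    rw [LinearMap.sub_apply, commutator_apply, smul_eq_mul, smul_eq_mul, mul_monomial B z i q,
      hDz, hDz, hDz]
    exact key_identity B z i q p')
  exact sub_eq_zero.mp h4

lemma comm_Dp_zero (p : ι → ℕ) (i : ι) (hp : p i = 0) :
    Diff16.commutator A B B B (Dp p) (z i) = 0 := by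
  obtain ⟨k, hk⟩ := hD p
  have h1 : Diff16.IsDiffOpLE A B B B k (Diff16.commutator A B B B (Dp p) (z i)) :=
    (isDiffOpLE_succ A B B B k _ hk) (z i)
  exact eq_zero_of_monomials A B z hz _ _ h1 (by
    intro q
    rw [commutator_apply, smul_eq_mul, smul_eq_mul, mul_monomial B z i q, hDz, hDz]
    exact key_identity_zero B z i q p hp)

lemma order_Dp (n : ℕ) : ∀ p : ι → ℕ, ∑ i, p i = n → Diff16.IsDiffOpLE A B B B n (Dp p) := by
  induction n with
  | zero =>
    intro p hp
    obtain ⟨k, hk⟩ := hD p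
    apply linear_of_commute A B z hz k _ hk
    intro i
    apply comm_Dp_zero A B z hz Dp hD hDz p i
    exact (Finset.sum_eq_zero_iff.mp hp) i (Finset.mem_univ i)
  | succ n ih =>
    intro p hp
    obtain ⟨k, hk⟩ := hD p
    apply drop_any A B z hz n k _ hk
    intro i
    by_cases hpi : p i = 0
    · rw [comm_Dp_zero A B z hz Dp hD hDz p i hpi]
      exact isDiffOpLE_zero A B B B n
    · have hp' : p = (p - Pi.single i 1) + Pi.single i 1 := by
        funext j
        by_cases hj : j = i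
        · subst hj
          simp only [Pi.add_apply, Pi.sub_apply, Pi.single_eq_same]
          omega
        · simp [Pi.single_eq_of_ne hj]
      have hs : ∑ j, (p - Pi.single i 1 : ι → ℕ) j = n := by
        have : ∑ j, p j = ∑ j, (p - Pi.single i 1 : ι → ℕ) j + 1 := by
          conv_lhs => rw [hp']
          simp only [Pi.add_apply, Finset.sum_add_distrib]
          rw [Finset.sum_pi_single' i 1 Finset.univ]
          simp
        omega
      rw [hp', comm_Dp_succ A B z hz Dp hD hDz (p - Pi.single i 1) i]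
      exact ih _ hs


omit hz hD hDz in
lemma sum_add_single (q : ι → ℕ) (j : ι) :
    ∑ i, (q + Pi.single j 1 : ι → ℕ) i = ∑ i, q i + 1 := by
  simp only [Pi.add_apply, Finset.sum_add_distrib]
  rw [Finset.sum_pi_single' j 1 Finset.univ]
  simp

omit hD hDz in
lemma kill_low (m : ℕ) : ∀ E : B →ₗ[A] B, Diff16.IsDiffOpLE A B B B m E →
    (∀ q : ι → ℕ, ∑ i, q i ≤ m → E (∏ i, z i ^ q i) = 0) → E = 0 := by
  induction m with
  | zero =>
    intro E hE h
    ext b
    have h1 : E 1 = 0 := by simpa using h 0 (by simp)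
    have := hE b 1
    simp only [smul_eq_mul, mul_one] at this
    rw [this, h1, mul_zero, LinearMap.zero_apply]
  | succ m ih =>
    intro E hE h
    have hcomm : ∀ i, Diff16.commutator A B B B E (z i) = 0 := by
      intro j
      apply ih _ (hE (z j))
      intro q hq
      rw [commutator_apply, smul_eq_mul, smul_eq_mul, mul_monomial B z j q, h q (by omega),
        mul_zero, sub_zero]
      apply h
      rw [sum_add_single]
      omega
    have hlin := linear_of_commute A B z hz (m + 1) E hE hcomm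
    ext b
    have h1 : E 1 = 0 := by simpa using h 0 (by simp)
    have := hlin b 1
    simp only [smul_eq_mul, mul_one] at this
    rw [this, h1, mul_zero, LinearMap.zero_apply]

omit hz hD hDz in
lemma exists_lt_of_ne (p q : ι → ℕ) (h : ∑ i, q i ≤ ∑ i, p i) (hne : p ≠ q) : ∃ i, q i < p i := by
  by_contra hcon
  push Not at hcon
  have h1 : ∑ i, p i ≤ ∑ i, q i := Finset.sum_le_sum (fun i _ => hcon i)
  have h2 : ∑ i, p i = ∑ i, q i := le_antisymm h1 h
  have h3 := (Finset.sum_eq_sum_iff_of_le (fun i _ => hcon i)).mp h2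
  exact hne (funext fun i => h3 i (Finset.mem_univ i))

omit hz hD in
lemma Dp_mon_eq (p q : ι → ℕ) (h : ∑ i, q i ≤ ∑ i, p i) :
    Dp p (∏ i, z i ^ q i) = if p = q then 1 else 0 := by
  rw [hDz]
  split_ifs with hpq
  · subst hpq
    simp
  · obtain ⟨i, hi⟩ := exists_lt_of_ne p q h hpq
    rw [Finset.prod_eq_zero (Finset.mem_univ i) (Nat.choose_eq_zero_of_lt hi)]
    simp

/-- multi-indices of degree `< d`. -/
def Sd (ι : Type) [Fintype ι] [DecidableEq ι] (d : ℕ) : Finset (ι → ℕ) :=
  (Fintype.piFinset fun _ : ι => Finset.range d).filter (fun p => ∑ i, p i < d)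

omit hz hD hDz in
lemma mem_Sd (d : ℕ) (p : ι → ℕ) : p ∈ Sd ι d ↔ ∑ i, p i < d := by
  simp only [Sd, Finset.mem_filter, Fintype.mem_piFinset, Finset.mem_range, and_iff_right_iff_imp]
  intro h i
  exact lt_of_le_of_lt (Finset.single_le_sum (f := p) (fun _ _ => Nat.zero_le _) (Finset.mem_univ i)) h

omit hz hD in
lemma exists_coeffs (D : B →ₗ[A] B) (d : ℕ) : ∃ a : (ι → ℕ) → B,
    ∀ q : ι → ℕ, ∑ i, q i < d → (∑ p ∈ Sd ι d, a p • Dp p) (∏ i, z i ^ q i) = D (∏ i, z i ^ q i) := by
  induction d with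
  | zero => exact ⟨0, fun q hq => absurd hq (Nat.not_lt_zero _)⟩
  | succ d ih =>
    obtain ⟨a, ha⟩ := ih
    let E : B →ₗ[A] B := D - ∑ p ∈ Sd ι d, a p • Dp p
    refine ⟨fun p => if ∑ i, p i = d then E (∏ i, z i ^ p i) else a p, ?_⟩
    intro q hq
    have hfil : (Sd ι (d + 1)).filter (fun p => ∑ i, p i < d) = Sd ι d := by
      ext p
      simp only [Finset.mem_filter, mem_Sd]
      omega
    rw [← Finset.sum_filter_add_sum_filter_not (Sd ι (d + 1)) (fun p => ∑ i, p i < d), hfil,
      LinearMap.add_apply]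
    have e1 : ∑ p ∈ Sd ι d, (if ∑ i, p i = d then E (∏ i, z i ^ p i) else a p) • Dp p =
        ∑ p ∈ Sd ι d, a p • Dp p := by
      apply Finset.sum_congr rfl
      intro p hp
      rw [mem_Sd] at hp
      rw [if_neg (by omega)]
    have e2 : (∑ p ∈ (Sd ι (d + 1)).filter (fun p => ¬ ∑ i, p i < d),
          (if ∑ i, p i = d then E (∏ i, z i ^ p i) else a p) • Dp p) (∏ i, z i ^ q i) =
        if ∑ i, q i = d then E (∏ i, z i ^ q i) else 0 := by
      rw [LinearMap.sum_apply]
      have : ∀ p ∈ (Sd ι (d + 1)).filter (fun p => ¬ ∑ i, p i < d),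
          ((if ∑ i, p i = d then E (∏ i, z i ^ p i) else a p) • Dp p) (∏ i, z i ^ q i) =
            if p = q then E (∏ i, z i ^ q i) else 0 := by
        intro p hp
        simp only [Finset.mem_filter, mem_Sd] at hp
        have hpd : ∑ i, p i = d := by omega
        rw [LinearMap.smul_apply, if_pos hpd, Dp_mon_eq A B z Dp hDz p q (by omega)]
        split_ifs with hpq
        · subst hpq
          simp
        · simp
      rw [Finset.sum_congr rfl this, Finset.sum_ite_eq']
      simp only [Finset.mem_filter, mem_Sd]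
      by_cases hqd : ∑ i, q i = d
      · rw [if_pos hqd, if_pos]
        omega
      · rw [if_neg hqd, if_neg]
        omega
    rw [e1, e2]
    by_cases hqd : ∑ i, q i = d
    · rw [if_pos hqd]
      simp only [E, LinearMap.sub_apply]
      abel
    · rw [if_neg hqd, add_zero]
      exact ha q (by omega)


omit hz hD hDz in
lemma isDiffOpLE_sum (m : ℕ) (s : Finset (ι → ℕ)) (f : (ι → ℕ) → (B →ₗ[A] B))
    (h : ∀ p ∈ s, Diff16.IsDiffOpLE A B B B m (f p)) :
    Diff16.IsDiffOpLE A B B B m (∑ p ∈ s, f p) := by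
  induction s using Finset.induction_on with
  | empty => simpa using isDiffOpLE_zero A B B B m
  | insert x s hx ih =>
    rw [Finset.sum_insert hx]
    exact isDiffOpLE_add A B B B m _ _ (h x (Finset.mem_insert_self x s))
      (ih fun p hp => h p (Finset.mem_insert_of_mem hp))

lemma exists_repr (m : ℕ) (D : B →ₗ[A] B) (hDm : Diff16.IsDiffOpLE A B B B m D) :
    ∃ a : (ι → ℕ) → B, D = ∑ p ∈ Sd ι (m + 1), a p • Dp p := by
  obtain ⟨a, ha⟩ := exists_coeffs A B z Dp hDz D (m + 1)
  refine ⟨a, ?_⟩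
  have hE : Diff16.IsDiffOpLE A B B B m (D - ∑ p ∈ Sd ι (m + 1), a p • Dp p) := by
    apply isDiffOpLE_sub A B B B m _ _ hDm
    apply isDiffOpLE_sum
    intro p hp
    rw [mem_Sd] at hp
    apply isDiffOpLE_smul
    exact isDiffOpLE_of_le A B B B (Nat.le_of_lt_succ hp) _
      (order_Dp A B z hz Dp hD hDz (∑ i, p i) p rfl)
  have := kill_low A B z hz m _ hE (fun q hq => by
    rw [LinearMap.sub_apply, ha q (by omega), sub_self])
  exact sub_eq_zero.mp this

omit hz hD in
lemma indep (m : ℕ) (δ : {p : ι → ℕ // ∑ i, p i ≤ m} →₀ B)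
    (h : (δ.sum fun p c => c • Dp p.1) = 0) : δ = 0 := by
  by_contra hne
  have hne' : δ.support.Nonempty := Finsupp.support_nonempty_iff.mpr hne
  obtain ⟨p₀, hp₀, hmin⟩ := Finset.exists_min_image δ.support (fun p => ∑ i, p.1 i) hne'
  have h1 := LinearMap.congr_fun h (∏ i, z i ^ p₀.1 i)
  rw [Finsupp.sum, LinearMap.sum_apply, LinearMap.zero_apply] at h1
  have h2 : ∀ p ∈ δ.support, (δ p • Dp p.1) (∏ i, z i ^ p₀.1 i) = if p = p₀ then δ p₀ else 0 := by
    intro p hp
    rw [LinearMap.smul_apply, Dp_mon_eq A B z Dp hDz p.1 p₀.1 (hmin p hp)]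
    by_cases hpp : p = p₀
    · subst hpp
      simp
    · rw [if_neg hpp, if_neg (fun h' => hpp (Subtype.ext h'))]
      simp
  rw [Finset.sum_congr rfl h2, Finset.sum_ite_eq' δ.support p₀, if_pos hp₀] at h1
  exact (Finsupp.mem_support_iff.mp hp₀) h1

end family

end


/-- Last assertion (affine form, finite family): let B be an A-algebra, z_1, …, z_r elements of B whose
differentials generate the module of differentials, and (D_p) a family of differential operators B →
B (each of some finite order) with D_p(z^q) = (∏ binom(q_i, p_i)) z^(q-p). Then D_p has order at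
most |p|, and every differential operator B → B of order at most m relative to A can be written in
exactly one way as a B-linear combination ∑_{|p| ≤ m} a_p D_p. -/
theorem result (A B : Type u) [CommRing A] [CommRing B] [Algebra A B]
    (ι : Type) [Fintype ι] [DecidableEq ι] (z : ι → B)
    (hz : Submodule.span B (Set.range fun i => KaehlerDifferential.D A B (z i)) = ⊤)
    (Dp : (ι → ℕ) → (B →ₗ[A] B)) (hD : ∀ p, ∃ k : ℕ, Diff16.IsDiffOpLE A B B B k (Dp p))
    (hDz : ∀ p q : ι → ℕ, Dp p (∏ i, z i ^ q i) =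
        ((∏ i, Nat.choose (q i) (p i) : ℕ) : B) * ∏ i, z i ^ (q i - p i)) :
    (∀ p, Diff16.IsDiffOpLE A B B B (∑ i, p i) (Dp p)) ∧
      ∀ (m : ℕ) (D : B →ₗ[A] B), Diff16.IsDiffOpLE A B B B m D →
        ∃! a : {p : ι → ℕ // ∑ i, p i ≤ m} →₀ B, D = a.sum fun p c => c • Dp p.1 := by
  refine ⟨fun p => order_Dp A B z hz Dp hD hDz (∑ i, p i) p rfl, ?_⟩
  intro m D hDm
  obtain ⟨a, ha⟩ := exists_repr A B z hz Dp hD hDz m D hDm
  refine ⟨Finsupp.onFinset ((Sd ι (m + 1)).subtype (fun p => ∑ i, p i ≤ m)) (fun p => a p.1)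
    (fun p _ => by
      rw [Finset.mem_subtype, mem_Sd]
      exact Nat.lt_succ_of_le p.2), ?_, ?_⟩
  · change D = (Finsupp.onFinset ((Sd ι (m + 1)).subtype (fun p => ∑ i, p i ≤ m))
      (fun p => a p.1) _).sum fun p c => c • Dp p.1
    rw [Finsupp.onFinset_sum (g := fun (p : {p : ι → ℕ // ∑ i, p i ≤ m}) (c : B) => c • Dp p.1) _ (fun p => zero_smul _ _),
      Finset.sum_subtype_eq_sum_filter (s := Sd ι (m + 1)) (p := fun p => ∑ i, p i ≤ m)
        (fun p => a p • Dp p),
      Finset.filter_true_of_mem (fun p hp => Nat.le_of_lt_succ ((mem_Sd (m + 1) p).mp hp))]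
    exact ha
  · intro a' ha'
    have hsub : ((a' - Finsupp.onFinset ((Sd ι (m + 1)).subtype (fun p => ∑ i, p i ≤ m))
        (fun p => a p.1) (fun p _ => by
          rw [Finset.mem_subtype, mem_Sd]
          exact Nat.lt_succ_of_le p.2)).sum fun p c => c • Dp p.1) = 0 := by
      rw [Finsupp.sum_sub_index (fun p b₁ b₂ => sub_smul b₁ b₂ (Dp p.1)), ← ha',
        Finsupp.onFinset_sum (g := fun (p : {p : ι → ℕ // ∑ i, p i ≤ m}) (c : B) => c • Dp p.1) _ (fun p => zero_smul _ _),
        Finset.sum_subtype_eq_sum_filter (s := Sd ι (m + 1)) (p := fun p => ∑ i, p i ≤ m)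
          (fun p => a p • Dp p),
        Finset.filter_true_of_mem (fun p hp => Nat.le_of_lt_succ ((mem_Sd (m + 1) p).mp hp)),
        ← ha, sub_self]
    exact sub_eq_zero.mp (indep A B z Dp hDz m _ hsub)

end Groth.Agent.S3818
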