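import Groth.Statements.S3817
-- import your own Groth.Agent.* helpers here
import Groth.Agent.S3818

set_option autoImplicit false
universe u
open scoped TensorProduct
open scoped BigOperators
open PP16

namespace Groth.Agent.S3817

noncomputable section

section SymLift

variable {R : Type u} [CommRing R] {ι' : Type u} {M : Type*} [AddCommGroup M] [Module R M]
  {N : Type*} [AddCommGroup N] [Module R N]

/-- additive version of the lift of a symmetric multilinear map to the symmetric power. -/
def symLiftAdd (g : MultilinearMap R (fun _ : ι' => M) N)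
    (hg : ∀ (e : Equiv.Perm ι') (f : ι' → M), g (fun i => f (e i)) = g f) :
    SymmetricPower R ι' M →+ N :=
  AddCon.lift _ (PiTensorProduct.lift g).toAddMonoidHom (AddCon.addConGen_le.mpr (by
    rintro x y ⟨e, f⟩
    rw [AddCon.ker_rel, LinearMap.toAddMonoidHom_coe, PiTensorProduct.lift.tprod,
      PiTensorProduct.lift.tprod, hg]))

/-- the lift of a symmetric multilinear map to the symmetric power. -/
def symLift (g : MultilinearMap R (fun _ : ι' => M) N)
    (hg : ∀ (e : Equiv.Perm ι') (f : ι' → M), g (fun i => f (e i)) = g f) :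
    SymmetricPower R ι' M →ₗ[R] N where
  toFun := symLiftAdd g hg
  map_add' := map_add _
  map_smul' r x := by
    induction x using AddCon.induction_on with
    | H x =>
      change PiTensorProduct.lift g (r • x) = r • PiTensorProduct.lift g x
      rw [map_smul]

lemma symLift_tprod (g : MultilinearMap R (fun _ : ι' => M) N)
    (hg : ∀ (e : Equiv.Perm ι') (f : ι' → M), g (fun i => f (e i)) = g f) (f : ι' → M) :
    symLift g hg (SymmetricPower.tprod R f) = g f := by
  change PiTensorProduct.lift g (PiTensorProduct.tprod R f) = g f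
  rw [PiTensorProduct.lift.tprod]

end SymLift

section Fiber

lemma exists_fiber_fun {ι : Type} [Fintype ι] [DecidableEq ι] (ι' : Type u) [Fintype ι']
    (p : ι → ℕ) (h : ∑ i, p i = Fintype.card ι') :
    ∃ f : ι' → ι, ∀ i, (Finset.univ.filter (fun j => f j = i)).card = p i := by
  have hc : Fintype.card ι' = Fintype.card (Σ i, Fin (p i)) := by
    rw [Fintype.card_sigma, ← h]
    simp
  let e : ι' ≃ Σ i, Fin (p i) := Fintype.equivOfCardEq hc
  refine ⟨fun j => (e j).1, fun i => ?_⟩
  rw [← Fintype.card_subtype]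
  have e2 : {j // (e j).1 = i} ≃ Fin (p i) :=
    (e.subtypeEquiv (p := fun j => (e j).1 = i) (q := fun s => s.1 = i) (fun _ => Iff.rfl)).trans
      (Equiv.sigmaSubtype i)
  rw [Fintype.card_congr e2, Fintype.card_fin]

end Fiber

section Lambda

variable (A B : Type u) [CommRing A] [CommRing B] [Algebra A B]
variable {ι : Type} [Fintype ι] [DecidableEq ι]
variable (bs : Module.Basis ι B (KaehlerDifferential A B))
variable (ι' : Type u) [Fintype ι']

/-- the linear form `Ω → B[X_ι]` sending the basis to the variables. -/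
def Lin : KaehlerDifferential A B →ₗ[B] MvPolynomial ι B := bs.constr B (fun i => MvPolynomial.X i)

lemma Lin_basis (i : ι) : Lin A B bs (bs i) = MvPolynomial.X i := bs.constr_basis B _ i

/-- `Sym Ω → B[X_ι]`. -/
def Lam : SymmetricPower B ι' (KaehlerDifferential A B) →ₗ[B] MvPolynomial ι B :=
  symLift ((MultilinearMap.mkPiAlgebra B ι' (MvPolynomial ι B)).compLinearMap
      (fun _ => Lin A B bs))
    (by
      intro e f
      simp only [MultilinearMap.compLinearMap_apply, MultilinearMap.mkPiAlgebra_apply]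
      exact Equiv.prod_comp e (fun j => Lin A B bs (f j)))

lemma Lam_tprod (f : ι' → KaehlerDifferential A B) :
    Lam A B bs ι' (SymmetricPower.tprod B f) = ∏ j, Lin A B bs (f j) := by
  unfold Lam
  rw [symLift_tprod]
  simp only [MultilinearMap.compLinearMap_apply, MultilinearMap.mkPiAlgebra_apply]

/-- the exponent vector of `f : ι' → ι`. -/
def expo (f : ι' → ι) : ι →₀ ℕ := ∑ j, Finsupp.single (f j) 1

omit [Fintype ι] in
lemma expo_apply (f : ι' → ι) (i : ι) :
    expo ι' f i = (Finset.univ.filter (fun j => f j = i)).card := by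
  unfold expo
  rw [Finsupp.finset_sum_apply]
  simp only [Finsupp.single_apply]
  rw [Finset.card_filter]

lemma Lam_basis (f : ι' → ι) :
    Lam A B bs ι' (SymmetricPower.tprod B (fun j => bs (f j))) =
      MvPolynomial.monomial (expo ι' f) 1 := by
  rw [Lam_tprod]
  simp only [Lin_basis]
  unfold expo
  rw [MvPolynomial.monomial_sum_one]
  rfl

end Lambda

section
variable (A B : Type u) [CommRing A] [CommRing B] [Algebra A B]
variable {ι : Type} [Fintype ι] [DecidableEq ι] (z : ι → B)

/-- `ζ b = 1 ⊗ b − b ⊗ 1`. -/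
def zeta (b : B) : B ⊗[A] B := (1 : B) ⊗ₜ[A] b - b ⊗ₜ[A] (1 : B)

lemma zeta_mem (b : B) : zeta A B b ∈ KaehlerDifferential.ideal A B :=
  KaehlerDifferential.one_smul_sub_smul_one_mem_ideal A b

/-- the monomial `ζ^p` in the `ζ (z i)`. -/
def Zm (p : ι → ℕ) : B ⊗[A] B := ∏ i, zeta A B (z i) ^ p i

/-- `I^k` as a `B`-submodule (first factor). -/
def iBpow (k : ℕ) : Submodule B (B ⊗[A] B) := ((KaehlerDifferential.ideal A B) ^ k).restrictScalars B

lemma mem_iBpow (k : ℕ) (t : B ⊗[A] B) : t ∈ iBpow A B k ↔ t ∈ (KaehlerDifferential.ideal A B) ^ k :=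
  Iff.rfl

lemma iBpow_mul (a b : ℕ) : iBpow A B a * iBpow A B b = iBpow A B (a + b) := by
  unfold iBpow
  rw [pow_add]
  rfl

lemma iBpow_anti {a b : ℕ} (h : a ≤ b) : iBpow A B b ≤ iBpow A B a := by
  intro t ht
  exact Ideal.pow_le_pow_right h ht

lemma iBpow_zero : iBpow A B 0 = ⊤ := by
  unfold iBpow
  rw [pow_zero, Ideal.one_eq_top]
  rfl

/-- span of the `ζ (z i)`. -/
def G : Submodule B (B ⊗[A] B) := Submodule.span B (Set.range fun i => zeta A B (z i))

lemma S0 (hz : Submodule.span B (Set.range fun i => KaehlerDifferential.D A B (z i)) = ⊤) :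
    iBpow A B 1 ≤ G A B z ⊔ iBpow A B 2 := by
  intro g hg
  rw [mem_iBpow, pow_one] at hg
  have h1 : KaehlerDifferential.fromIdeal A B ⟨g, hg⟩ ∈
      Submodule.span B (Set.range fun i => KaehlerDifferential.D A B (z i)) := by
    rw [hz]; trivial
  rw [Submodule.mem_span_range_iff_exists_fun] at h1
  obtain ⟨c, hc⟩ := h1
  let y : KaehlerDifferential.ideal A B :=
    ∑ i, c i • (⟨zeta A B (z i), zeta_mem A B (z i)⟩ : KaehlerDifferential.ideal A B)
  have hy : (KaehlerDifferential.ideal A B).toCotangent y =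
      (KaehlerDifferential.ideal A B).toCotangent ⟨g, hg⟩ := by
    change KaehlerDifferential.fromIdeal A B y = KaehlerDifferential.fromIdeal A B ⟨g, hg⟩
    rw [← hc, map_sum]
    apply Finset.sum_congr rfl
    intro i _
    rw [LinearMap.map_smul_of_tower, KaehlerDifferential.D_apply]
    rfl
  rw [Ideal.toCotangent_eq] at hy
  have hyG : (y : B ⊗[A] B) ∈ G A B z := by
    simp only [y, Submodule.coe_sum, Submodule.coe_smul_of_tower]
    apply Submodule.sum_mem
    intro i _
    exact Submodule.smul_mem _ _ (Submodule.subset_span ⟨i, rfl⟩)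
  have : g = (y : B ⊗[A] B) + (g - y) := by ring
  rw [this]
  apply Submodule.add_mem_sup hyG
  rw [mem_iBpow]
  have h2 := (KaehlerDifferential.ideal A B ^ 2).neg_mem hy
  simpa using h2


/-- span of the monomials of degree exactly `k`. -/
def W (k : ℕ) : Submodule B (B ⊗[A] B) :=
  Submodule.span B ((Zm A B z) '' {p : ι → ℕ | ∑ i, p i = k})

/-- span of the monomials of degree at most `m`. -/
def U (m : ℕ) : Submodule B (B ⊗[A] B) :=
  Submodule.span B ((Zm A B z) '' {p : ι → ℕ | ∑ i, p i ≤ m})

lemma Zm_mem (p : ι → ℕ) : Zm A B z p ∈ (KaehlerDifferential.ideal A B) ^ (∑ i, p i) := by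
  unfold Zm
  rw [← Finset.prod_pow_eq_pow_sum]
  exact Ideal.prod_mem_prod (fun i _ => Ideal.pow_mem_pow (zeta_mem A B (z i)) (p i))

lemma W_le (k : ℕ) : W A B z k ≤ iBpow A B k := by
  apply Submodule.span_le.mpr
  rintro _ ⟨p, hp, rfl⟩
  have := Zm_mem A B z p
  rw [Set.mem_ofPred_eq.mp hp] at this
  exact this

lemma W_le_U {k m : ℕ} (h : k ≤ m) : W A B z k ≤ U A B z m := by
  apply Submodule.span_mono
  apply Set.image_mono
  intro p hp
  rw [Set.mem_ofPred_eq] at hp ⊢
  omega

lemma U_mono {m m' : ℕ} (h : m ≤ m') : U A B z m ≤ U A B z m' := by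
  apply Submodule.span_mono
  apply Set.image_mono
  intro p hp
  rw [Set.mem_ofPred_eq] at hp ⊢
  omega

lemma Zm_mul_zeta (p : ι → ℕ) (i : ι) :
    Zm A B z p * zeta A B (z i) = Zm A B z (p + Pi.single i 1) := by
  unfold Zm
  have h : ∏ j, zeta A B (z j) ^ (Pi.single i 1 : ι → ℕ) j = zeta A B (z i) := by
    rw [Fintype.prod_eq_single i, Pi.single_eq_same, pow_one]
    intro j hj
    rw [Pi.single_eq_of_ne hj, pow_zero]
  simp only [Pi.add_apply, pow_add, Finset.prod_mul_distrib]
  rw [h]

lemma WG (k : ℕ) : W A B z k * G A B z ≤ W A B z (k + 1) := by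
  unfold W G
  rw [Submodule.span_mul_span]
  apply Submodule.span_le.mpr
  rintro _ ⟨_, ⟨p, hp, rfl⟩, _, ⟨i, rfl⟩, rfl⟩
  apply Submodule.subset_span
  refine ⟨p + Pi.single i 1, ?_, (Zm_mul_zeta A B z p i).symm⟩
  rw [Set.mem_ofPred_eq] at hp ⊢
  rw [Groth.Agent.S3818.sum_add_single, hp]

lemma G_le : G A B z ≤ iBpow A B 1 := by
  apply Submodule.span_le.mpr
  rintro _ ⟨i, rfl⟩
  change _ ∈ (KaehlerDifferential.ideal A B) ^ 1
  rw [pow_one]
  exact zeta_mem A B (z i)

lemma top_le_W0 : (⊤ : Submodule B (B ⊗[A] B)) ≤ W A B z 0 ⊔ iBpow A B 1 := by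
  intro t ht
  clear ht
  induction t with
  | zero => exact Submodule.zero_mem _
  | add x y hx hy => exact Submodule.add_mem _ hx hy
  | tmul b c =>
    have h : b ⊗ₜ[A] c = (b * c) • Zm A B z 0 + (b ⊗ₜ[A] (1 : B)) * zeta A B c := by
      unfold Zm zeta
      simp only [Pi.zero_apply, pow_zero, Finset.prod_const_one]
      rw [mul_sub, Algebra.TensorProduct.tmul_mul_tmul, Algebra.TensorProduct.tmul_mul_tmul,
        Algebra.TensorProduct.one_def, TensorProduct.smul_tmul', smul_eq_mul]
      simp
    rw [h]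
    apply Submodule.add_mem_sup
    · apply Submodule.smul_mem
      apply Submodule.subset_span
      exact ⟨0, by simp, rfl⟩
    · change _ ∈ (KaehlerDifferential.ideal A B) ^ 1
      rw [pow_one]
      exact Ideal.mul_mem_left _ _ (zeta_mem A B c)

lemma S1 (hz : Submodule.span B (Set.range fun i => KaehlerDifferential.D A B (z i)) = ⊤)
    (k : ℕ) : iBpow A B k ≤ W A B z k ⊔ iBpow A B (k + 1) := by
  induction k with
  | zero =>
    rw [iBpow_zero]
    exact top_le_W0 A B z
  | succ k ih =>
    have h1 : iBpow A B (k + 1) = iBpow A B k * iBpow A B 1 := (iBpow_mul A B k 1).symm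
    rw [h1]
    refine le_trans (mul_le_mul' ih (S0 A B z hz)) ?_
    rw [Submodule.sup_mul, Submodule.mul_sup, Submodule.mul_sup]
    refine sup_le (sup_le ?_ ?_) (sup_le ?_ ?_)
    · exact le_trans (WG A B z k) le_sup_left
    · refine le_trans (mul_le_mul' (W_le A B z k) le_rfl) ?_
      rw [iBpow_mul]
      exact le_sup_right
    · refine le_trans (mul_le_mul' le_rfl (G_le A B z)) ?_
      rw [iBpow_mul]
      exact le_sup_right
    · rw [iBpow_mul]
      exact le_trans (iBpow_anti A B (by omega)) le_sup_right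

lemma S2 (hz : Submodule.span B (Set.range fun i => KaehlerDifferential.D A B (z i)) = ⊤)
    (m : ℕ) : (⊤ : Submodule B (B ⊗[A] B)) ≤ U A B z m ⊔ iBpow A B (m + 1) := by
  induction m with
  | zero =>
    refine le_trans (top_le_W0 A B z) ?_
    exact sup_le_sup_right (W_le_U A B z le_rfl) _
  | succ m ih =>
    refine le_trans ih ?_
    refine sup_le (le_trans (U_mono A B z (Nat.le_succ m)) le_sup_left) ?_
    refine le_trans (S1 A B z hz (m + 1)) ?_
    exact sup_le_sup_right (W_le_U A B z le_rfl) _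

/-- the product over `ι'` of `ζ (z (f j))` is the monomial with the exponent of `f`. -/
lemma prod_zeta_comp (ι' : Type u) [Fintype ι'] (f : ι' → ι) (p : ι → ℕ)
    (hf : ∀ i, (Finset.univ.filter (fun j => f j = i)).card = p i) :
    ∏ j, ((1 : B) ⊗ₜ[A] z (f j) - z (f j) ⊗ₜ[A] (1 : B)) = Zm A B z p := by
  unfold Zm
  change ∏ j, zeta A B (z (f j)) = _
  rw [← Finset.prod_fiberwise' Finset.univ f (fun i => zeta A B (z i))]
  apply Finset.prod_congr rfl
  intro i _
  rw [Finset.prod_const, hf i]

lemma GR (hB : PP16.IsDiffSmooth A B) (bs : Module.Basis ι B (KaehlerDifferential A B))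
    (hbs : ∀ i, bs i = KaehlerDifferential.D A B (z i)) (ι' : Type u) [Fintype ι']
    (a : (ι → ℕ) → B) (s : Finset (ι → ℕ)) (hs : ∀ p ∈ s, ∑ i, p i = Fintype.card ι')
    (h : ∑ p ∈ s, a p • Zm A B z p ∈ (KaehlerDifferential.ideal A B) ^ (Fintype.card ι' + 1)) :
    ∀ p ∈ s, a p = 0 := by
  obtain ⟨φ, hφ, hinj, -⟩ := hB.2 ι'
  choose f hf using fun x : {p // p ∈ s} => exists_fiber_fun ι' x.1 (hs x.1 x.2)
  -- the element of Sym
  let X : SymmetricPower B ι' (KaehlerDifferential A B) :=
    ∑ x ∈ s.attach, a x.1 • SymmetricPower.tprod B (fun j => KaehlerDifferential.D A B (z (f x j)))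
  -- elements of I^N
  let y : {p // p ∈ s} → ↥(((KaehlerDifferential.ideal A B) ^ (Fintype.card ι')).restrictScalars B) :=
    fun x => ⟨Zm A B z x.1, by
      have := Zm_mem A B z x.1
      rw [hs x.1 x.2] at this
      exact this⟩
  have hφX : φ X = Submodule.Quotient.mk (∑ x ∈ s.attach, a x.1 • y x) := by
    have h1 : φ X = ∑ x ∈ s.attach, a x.1 •
        (Submodule.Quotient.mk (y x) : PP16.grI A B (Fintype.card ι')) := by
      simp only [X, map_sum, map_smul]
      apply Finset.sum_congr rfl
      intro x _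
      rw [hφ]
      congr 1
      unfold PP16.zetaProd
      congr 1
      apply Subtype.ext
      exact prod_zeta_comp A B z ι' (f x) x.1 (hf x)
    rw [h1, ← Submodule.mkQ_apply, map_sum]
    apply Finset.sum_congr rfl
    intro x _
    rw [map_smul]
    rfl
  have hzero : φ X = 0 := by
    rw [hφX, Submodule.Quotient.mk_eq_zero, Submodule.mem_comap]
    change ((∑ x ∈ s.attach, a x.1 • y x :
      ↥(((KaehlerDifferential.ideal A B) ^ (Fintype.card ι')).restrictScalars B)) : B ⊗[A] B) ∈
        (KaehlerDifferential.ideal A B) ^ (Fintype.card ι' + 1)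
    rw [Submodule.coe_sum]
    simp only [Submodule.coe_smul, y]
    rw [Finset.sum_attach s (fun p => a p • Zm A B z p)]
    exact h
  have hX : X = 0 := hinj (by rw [hzero, map_zero])
  have hL : Lam A B bs ι' X = 0 := by rw [hX, map_zero]
  have hL2 : ∑ x ∈ s.attach, a x.1 • (MvPolynomial.monomial (expo ι' (f x)) (1 : B)) = 0 := by
    rw [← hL]
    simp only [X, map_sum, map_smul]
    apply Finset.sum_congr rfl
    intro x _
    congr 1
    rw [← Lam_basis A B bs ι' (f x)]
    congr 2
    funext j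
    rw [hbs]
  intro p hp
  have hc := congrArg (MvPolynomial.coeff (expo ι' (f ⟨p, hp⟩))) hL2
  rw [MvPolynomial.coeff_sum, MvPolynomial.coeff_zero] at hc
  rw [Finset.sum_eq_single ⟨p, hp⟩] at hc
  · simpa using hc
  · intro x _ hx
    rw [MvPolynomial.coeff_smul, MvPolynomial.coeff_monomial, if_neg, smul_zero]
    intro heq
    apply hx
    apply Subtype.ext
    funext i
    have := DFunLike.congr_fun heq i
    rw [expo_apply, expo_apply, hf, hf] at this
    exact this
  · intro hne
    exact absurd (Finset.mem_attach s _) hne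

open Groth.Agent.S3818 in
lemma indepT (hB : PP16.IsDiffSmooth A B) (bs : Module.Basis ι B (KaehlerDifferential A B))
    (hbs : ∀ i, bs i = KaehlerDifferential.D A B (z i)) (m : ℕ) (a : (ι → ℕ) → B)
    (h : ∑ p ∈ Sd ι (m + 1), a p • Zm A B z p ∈ (KaehlerDifferential.ideal A B) ^ (m + 1)) :
    ∀ k, k ≤ m → ∀ p : ι → ℕ, ∑ i, p i = k → a p = 0 := by
  intro k
  induction k using Nat.strong_induction_on with
  | _ k ih =>
    intro hk
    have hsplit := Finset.sum_filter_add_sum_filter_not (Sd ι (m + 1)) (fun p => ∑ i, p i = k)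
      (fun p => a p • Zm A B z p)
    have h2 : ∑ p ∈ (Sd ι (m + 1)).filter (fun p => ¬ ∑ i, p i = k), a p • Zm A B z p ∈
        iBpow A B (k + 1) := by
      apply Submodule.sum_mem
      intro p hp
      rw [Finset.mem_filter, mem_Sd] at hp
      rcases Nat.lt_or_ge (∑ i, p i) k with hlt | hge
      · rw [ih _ hlt (by omega) p rfl, zero_smul]
        exact Submodule.zero_mem _
      · apply Submodule.smul_mem
        have h3 : k + 1 ≤ ∑ i, p i := by omega
        exact iBpow_anti A B h3 (Zm_mem A B z p)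
    have h1 : ∑ p ∈ (Sd ι (m + 1)).filter (fun p => ∑ i, p i = k), a p • Zm A B z p ∈
        iBpow A B (k + 1) := by
      have h4 : ∑ p ∈ Sd ι (m + 1), a p • Zm A B z p ∈ iBpow A B (k + 1) :=
        iBpow_anti A B (a := k + 1) (b := m + 1) (by omega) h
      rw [← hsplit] at h4
      exact (Submodule.add_mem_iff_left _ h2).mp h4
    have hc : Fintype.card (ULift.{u} (Fin k)) = k := by simp
    have hG := GR A B z hB bs hbs (ULift.{u} (Fin k)) a
      ((Sd ι (m + 1)).filter (fun p => ∑ i, p i = k))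
      (fun p hp => by rw [hc]; exact (Finset.mem_filter.mp hp).2)
      (by rw [hc]; exact h1)
    intro p hp
    apply hG p
    rw [Finset.mem_filter, mem_Sd]
    exact ⟨by omega, hp⟩

/-- the family of monomials in `P^m`. -/
def vP (m : ℕ) (p : {p : ι → ℕ // ∑ i, p i ≤ m}) : PP16.P m A B :=
  Ideal.Quotient.mk _ (Zm A B z p.1)

lemma vP_eq (m : ℕ) (p : {p : ι → ℕ // ∑ i, p i ≤ m}) :
    vP A B z m p = ∏ i, (PP16.dn m A B (z i) - algebraMap B (PP16.P m A B) (z i)) ^ (p.1 i) := by
  unfold vP Zm
  rw [map_prod]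
  apply Finset.prod_congr rfl
  intro i _
  rw [map_pow]
  congr 1

open Groth.Agent.S3818 in
lemma vP_li (hB : PP16.IsDiffSmooth A B) (bs : Module.Basis ι B (KaehlerDifferential A B))
    (hbs : ∀ i, bs i = KaehlerDifferential.D A B (z i)) (m : ℕ) :
    LinearIndependent B (vP A B z m) := by
  let _ : Fintype {p : ι → ℕ // ∑ i, p i ≤ m} :=
    Fintype.subtype (Sd ι (m + 1)) (fun p => by rw [mem_Sd, Nat.lt_succ_iff])
  rw [Fintype.linearIndependent_iff]
  intro g hg
  let a : (ι → ℕ) → B := fun p => if h : ∑ i, p i ≤ m then g ⟨p, h⟩ else 0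
  have hsum : ∑ p ∈ Sd ι (m + 1), a p • Zm A B z p ∈ (KaehlerDifferential.ideal A B) ^ (m + 1) := by
    rw [← Ideal.Quotient.eq_zero_iff_mem, ← Ideal.Quotient.mkₐ_eq_mk B, map_sum]
    rw [← hg]
    rw [Finset.sum_subtype (Sd ι (m + 1)) (fun p => by rw [mem_Sd, Nat.lt_succ_iff])]
    apply Finset.sum_congr rfl
    intro x _
    rw [map_smul]
    simp only [a, dif_pos x.2]
    rfl
  intro x
  have := indepT A B z hB bs hbs m a hsum (∑ i, x.1 i) x.2 x.1 rfl
  simpa only [a, dif_pos x.2] using this

lemma vP_span (hz : Submodule.span B (Set.range fun i => KaehlerDifferential.D A B (z i)) = ⊤)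
    (m : ℕ) : ⊤ ≤ Submodule.span B (Set.range (vP A B z m)) := by
  intro x _
  obtain ⟨t, rfl⟩ := Ideal.Quotient.mk_surjective x
  have ht := S2 A B z hz m (Submodule.mem_top (x := t))
  obtain ⟨u, hu, j, hj, rfl⟩ := Submodule.mem_sup.mp ht
  have hj0 : Ideal.Quotient.mk ((KaehlerDifferential.ideal A B) ^ (m + 1)) j = 0 :=
    Ideal.Quotient.eq_zero_iff_mem.mpr hj
  rw [map_add, hj0, add_zero]
  have hmap : Submodule.map (Ideal.Quotient.mkₐ B ((KaehlerDifferential.ideal A B) ^ (m + 1))).toLinearMap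
      (U A B z m) ≤ Submodule.span B (Set.range (vP A B z m)) := by
    unfold U
    rw [Submodule.map_span]
    apply Submodule.span_mono
    rintro _ ⟨_, ⟨p, hp, rfl⟩, rfl⟩
    exact ⟨⟨p, hp⟩, rfl⟩
  exact hmap ⟨u, hu, rfl⟩

end


end


/-- (Affine form, finite family.) Let B be an A-algebra which is differentially smooth over A and (z_i)
a finite family of elements of B whose differentials form a basis of the module of differentials
Ω_{B/A}. Then for every m the monomials ζ^p with |p| ≤ m in the elements ζ_i = d^m z_i - z_i form a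
basis of the B-module P^m_{B/A} (first-factor structure); in particular the P^m are free of finite
rank. -/
theorem result (A B : Type u) [CommRing A] [CommRing B] [Algebra A B]
    (hB : PP16.IsDiffSmooth A B) (ι : Type) [Fintype ι] [DecidableEq ι] (z : ι → B)
    (hz : ∃ b : Module.Basis ι B (KaehlerDifferential A B), ∀ i, b i = KaehlerDifferential.D A B (z i)) (m : ℕ) :
    ∃ b : Module.Basis {p : ι → ℕ // ∑ i, p i ≤ m} B (PP16.P m A B),
      ∀ p, b p = ∏ i, (PP16.dn m A B (z i) - algebraMap B (PP16.P m A B) (z i)) ^ (p.1 i) := by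
  obtain ⟨bs, hbs⟩ := hz
  have hspan : Submodule.span B (Set.range fun i => KaehlerDifferential.D A B (z i)) = ⊤ := by
    have : (fun i => KaehlerDifferential.D A B (z i)) = bs := funext fun i => (hbs i).symm
    rw [this]
    exact bs.span_eq
  refine ⟨Module.Basis.mk (vP_li A B z hB bs hbs m) (vP_span A B z hspan m), fun p => ?_⟩
  rw [Module.Basis.mk_apply]
  exact vP_eq A B z m p

end Groth.Agent.S3817
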