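import Groth.Statements.S3816
-- import your own Groth.Agent.* helpers here
import Groth.Agent.S3815
import Groth.Agent.S3817

set_option autoImplicit false
universe u
open scoped TensorProduct
open scoped BigOperators
open PP16

namespace Groth.Agent.S3816

open Groth.Agent.S3815 Groth.Agent.S3817 Groth.Agent.S3818

noncomputable section

section
variable (A B : Type u) [CommRing A] [CommRing B] [Algebra A B]
variable {ι : Type} [Fintype ι] [DecidableEq ι] (z : ι → B)

/-- the operator `u ∘ d^m` attached to a `B`-linear functional on `P^m`. -/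
def opOf (m : ℕ) (u : PP16.P m A B →ₗ[B] B) : B →ₗ[A] B :=
  (u.restrictScalars A) ∘ₗ (PP16.dn m A B).toLinearMap

lemma opOf_apply (m : ℕ) (u : PP16.P m A B →ₗ[B] B) (x : B) :
    opOf A B m u x = u (PP16.dn m A B x) := rfl

lemma Phi_opOf (m : ℕ) (u : PP16.P m A B →ₗ[B] B) (t : B ⊗[A] B) (x : B) :
    Phi A B (opOf A B m u) t x = u (Ideal.Quotient.mk _ (t * ((1 : B) ⊗ₜ[A] x))) := by
  induction t with
  | zero => simp
  | add s t hs ht => rw [map_add, LinearMap.add_apply, hs, ht, add_mul, map_add, map_add]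
  | tmul b c =>
    rw [Phi_tmul, opOf_apply, Algebra.TensorProduct.tmul_mul_tmul, mul_one, smul_eq_mul,
      ← smul_eq_mul, ← map_smul]
    congr 1
    change b • Ideal.Quotient.mk _ ((1 : B) ⊗ₜ[A] (c * x)) = _
    rw [← Ideal.Quotient.mkₐ_eq_mk B, ← map_smul, TensorProduct.smul_tmul', smul_eq_mul, mul_one]

lemma opOf_order (m : ℕ) (u : PP16.P m A B →ₗ[B] B) :
    Diff16.IsDiffOpLE A B B B m (opOf A B m u) := by
  rw [isDiffOpLE_iff]
  intro t ht
  ext x
  rw [Phi_opOf, LinearMap.zero_apply]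
  have : Ideal.Quotient.mk ((KaehlerDifferential.ideal A B) ^ (m + 1)) (t * ((1 : B) ⊗ₜ[A] x)) = 0 :=
    Ideal.Quotient.eq_zero_iff_mem.mpr (Ideal.mul_mem_right _ _ ht)
  rw [this, map_zero]

/-- the class of `ζ (z i)` in `P^m`. -/
lemma mk_zeta (m : ℕ) (b : B) :
    Ideal.Quotient.mk ((KaehlerDifferential.ideal A B) ^ (m + 1)) (zeta A B b) =
      PP16.dn m A B b - algebraMap B (PP16.P m A B) b := by
  unfold zeta
  rw [map_sub]
  rfl

lemma prod_zbar_eq_mk (m : ℕ) (p' : ι → ℕ) :
    ∏ i, (PP16.dn m A B (z i) - algebraMap B (PP16.P m A B) (z i)) ^ (p' i) =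
      Ideal.Quotient.mk _ (Zm A B z p') := by
  unfold Zm
  rw [map_prod]
  apply Finset.prod_congr rfl
  intro i _
  rw [map_pow, mk_zeta]

lemma coordZ (m : ℕ) (bm : Module.Basis {p : ι → ℕ // ∑ i, p i ≤ m} B (PP16.P m A B))
    (hbm : ∀ p, bm p = ∏ i, (PP16.dn m A B (z i) - algebraMap B (PP16.P m A B) (z i)) ^ (p.1 i))
    (p : {p : ι → ℕ // ∑ i, p i ≤ m}) (hp : ∑ i, p.1 i = m) (p' : ι → ℕ) :
    bm.coord p (∏ i, (PP16.dn m A B (z i) - algebraMap B (PP16.P m A B) (z i)) ^ (p' i)) =
      if p' = p.1 then 1 else 0 := by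
  by_cases h : ∑ i, p' i ≤ m
  · rw [← hbm ⟨p', h⟩, Module.Basis.coord_apply, Module.Basis.repr_self, Finsupp.single_apply]
    by_cases hpp : p' = p.1
    · rw [if_pos hpp, if_pos (Subtype.ext hpp)]
    · rw [if_neg hpp, if_neg (fun h' => hpp (congrArg Subtype.val h'))]
  · have hne : p' ≠ p.1 := by
      intro h'
      rw [h'] at h
      omega
    rw [if_neg hne, prod_zbar_eq_mk]
    have : Ideal.Quotient.mk ((KaehlerDifferential.ideal A B) ^ (m + 1)) (Zm A B z p') = 0 := by
      rw [Ideal.Quotient.eq_zero_iff_mem]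
      exact Ideal.pow_le_pow_right (by omega) (Zm_mem A B z p')
    rw [this, map_zero]

lemma opOf_monomial (m : ℕ) (bm : Module.Basis {p : ι → ℕ // ∑ i, p i ≤ m} B (PP16.P m A B))
    (hbm : ∀ p, bm p = ∏ i, (PP16.dn m A B (z i) - algebraMap B (PP16.P m A B) (z i)) ^ (p.1 i))
    (p : {p : ι → ℕ // ∑ i, p i ≤ m}) (hp : ∑ i, p.1 i = m) (q : ι → ℕ) :
    opOf A B m (bm.coord p) (∏ i, z i ^ q i) =
      ((∏ i, Nat.choose (q i) (p.1 i) : ℕ) : B) * ∏ i, z i ^ (q i - p.1 i) := by
  rw [opOf_apply, map_prod]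
  have h1 : ∀ i, PP16.dn m A B (z i ^ q i) =
      ∑ k ∈ Finset.range (q i + 1),
        (PP16.dn m A B (z i) - algebraMap B (PP16.P m A B) (z i)) ^ k *
          (algebraMap B (PP16.P m A B) (z i)) ^ (q i - k) * ((q i).choose k : PP16.P m A B) := by
    intro i
    rw [map_pow, ← add_pow, sub_add_cancel]
  simp only [h1]
  rw [Finset.prod_univ_sum, map_sum]
  have h2 : ∀ p' ∈ Fintype.piFinset (fun i => Finset.range (q i + 1)),
      bm.coord p (∏ i, ((PP16.dn m A B (z i) - algebraMap B (PP16.P m A B) (z i)) ^ (p' i) *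
          (algebraMap B (PP16.P m A B) (z i)) ^ (q i - p' i) * ((q i).choose (p' i) : PP16.P m A B))) =
        if p' = p.1 then ((∏ i, Nat.choose (q i) (p.1 i) : ℕ) : B) * ∏ i, z i ^ (q i - p.1 i) else 0 := by
    intro p' _
    have h3 : ∏ i, ((PP16.dn m A B (z i) - algebraMap B (PP16.P m A B) (z i)) ^ (p' i) *
          (algebraMap B (PP16.P m A B) (z i)) ^ (q i - p' i) * ((q i).choose (p' i) : PP16.P m A B)) =
        (((∏ i, Nat.choose (q i) (p' i) : ℕ) : B) * ∏ i, z i ^ (q i - p' i)) •
          ∏ i, (PP16.dn m A B (z i) - algebraMap B (PP16.P m A B) (z i)) ^ (p' i) := by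
      rw [Algebra.smul_def, map_mul, map_prod, map_natCast, Nat.cast_prod,
        Finset.prod_mul_distrib, Finset.prod_mul_distrib]
      simp only [map_pow]
      ring
    rw [h3, map_smul, coordZ A B z m bm hbm p hp p', smul_eq_mul]
    by_cases hpp : p' = p.1
    · rw [if_pos hpp, if_pos hpp, mul_one, hpp]
    · rw [if_neg hpp, if_neg hpp, mul_zero]
  rw [Finset.sum_congr rfl h2, Finset.sum_ite_eq']
  split_ifs with hmem
  · rfl
  · rw [Fintype.mem_piFinset] at hmem
    push Not at hmem
    obtain ⟨i, hi⟩ := hmem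
    rw [Finset.mem_range] at hi
    have hlt : q i < p.1 i := by omega
    rw [Finset.prod_eq_zero (Finset.mem_univ i) (Nat.choose_eq_zero_of_lt hlt)]
    simp

section converse
variable (hz : Submodule.span B (Set.range fun i => KaehlerDifferential.D A B (z i)) = ⊤)
    (Dp : (ι → ℕ) → (B →ₗ[A] B)) (hD : ∀ p, ∃ k : ℕ, Diff16.IsDiffOpLE A B B B k (Dp p))
    (hDz : ∀ p q : ι → ℕ, Dp p (∏ i, z i ^ q i) =
        ((∏ i, Nat.choose (q i) (p i) : ℕ) : B) * ∏ i, z i ^ (q i - p i))
include hz hD hDz

omit hz hD hDz in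
lemma decomp (p : ι → ℕ) (i : ι) (hpi : p i ≠ 0) :
    p = (p - Pi.single i 1) + Pi.single i 1 ∧ ∑ j, (p - Pi.single i 1 : ι → ℕ) j + 1 = ∑ j, p j := by
  have hp' : p = (p - Pi.single i 1) + Pi.single i 1 := by
    funext j
    by_cases hj : j = i
    · subst hj
      simp only [Pi.add_apply, Pi.sub_apply, Pi.single_eq_same]
      omega
    · simp [Pi.single_eq_of_ne hj]
  refine ⟨hp', ?_⟩
  conv_rhs => rw [hp']
  rw [sum_add_single]

omit hz hD in
lemma Dp_zero_one : Dp 0 1 = 1 := by
  have := hDz 0 0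
  simpa using this

omit hz hD hDz in
lemma Phi_one (D : B →ₗ[A] B) : Phi A B D 1 = D := by
  ext x
  rw [Algebra.TensorProduct.one_def, Phi_tmul, one_smul, one_smul]

lemma Phi_Dp_Zm (n : ℕ) : ∀ p q : ι → ℕ, ∑ i, p i = n → ∑ i, q i = n →
    Phi A B (Dp q) (Zm A B z p) 1 = if p = q then 1 else 0 := by
  induction n with
  | zero =>
    intro p q hp hq
    have hp0 : p = 0 := funext fun i => (Finset.sum_eq_zero_iff.mp hp) i (Finset.mem_univ i)
    have hq0 : q = 0 := funext fun i => (Finset.sum_eq_zero_iff.mp hq) i (Finset.mem_univ i)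
    subst hp0 hq0
    have hZ : Zm A B z (0 : ι → ℕ) = 1 := by simp [Zm]
    rw [hZ, Phi_one, if_pos rfl]
    exact Dp_zero_one A B z Dp hDz
  | succ n ih =>
    intro p q hp hq
    have hex : ∃ i, p i ≠ 0 := by
      by_contra hcon
      push Not at hcon
      have : ∑ i, p i = 0 := Finset.sum_eq_zero (fun i _ => hcon i)
      omega
    obtain ⟨i, hpi⟩ := hex
    obtain ⟨hp', hsp⟩ := decomp p i hpi
    rw [hp', ← Zm_mul_zeta, Phi_mul]
    have hc : Phi A B (Dp q) (zeta A B (z i)) = Diff16.commutator A B B B (Dp q) (z i) :=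
      (commutator_eq A B (Dp q) (z i)).symm
    rw [hc]
    by_cases hqi : q i = 0
    · rw [comm_Dp_zero A B z hz Dp hD hDz q i hqi, Phi_zero, LinearMap.zero_apply, if_neg]
      intro h
      rw [← hp'] at h
      rw [h] at hpi
      exact hpi hqi
    · obtain ⟨hq', hsq⟩ := decomp q i hqi
      rw [hq', comm_Dp_succ A B z hz Dp hD hDz (q - Pi.single i 1) i,
        ih (p - Pi.single i 1) (q - Pi.single i 1) (by omega) (by omega)]
      by_cases hpq : (p - Pi.single i 1 : ι → ℕ) = q - Pi.single i 1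
      · rw [if_pos hpq, if_pos (by rw [hpq])]
      · rw [if_neg hpq, if_neg]
        intro h
        exact hpq (add_right_cancel h)

omit hz hD hDz in
lemma Phi_smul (D : B →ₗ[A] B) (c : B) (t : B ⊗[A] B) (x : B) :
    Phi A B D (c • t) x = c * Phi A B D t x := by
  have : c • t = (c ⊗ₜ[A] (1 : B)) * t := by
    rw [Algebra.smul_def, Algebra.TensorProduct.algebraMap_apply]
    rfl
  rw [this, Phi_left, smul_eq_mul]

lemma IND (n : ℕ) (s : Finset (ι → ℕ)) (hs : ∀ p ∈ s, ∑ i, p i = n) (a : (ι → ℕ) → B)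
    (h : ∑ p ∈ s, a p • Zm A B z p ∈ (KaehlerDifferential.ideal A B) ^ (n + 1)) :
    ∀ q ∈ s, a q = 0 := by
  intro q hq
  have hord := order_Dp A B z hz Dp hD hDz n q (hs q hq)
  rw [isDiffOpLE_iff] at hord
  have h1 := LinearMap.congr_fun (hord _ h) 1
  rw [map_sum, LinearMap.sum_apply, LinearMap.zero_apply] at h1
  have h2 : ∀ p ∈ s, Phi A B (Dp q) (a p • Zm A B z p) 1 = if p = q then a q else 0 := by
    intro p hp
    rw [Phi_smul, Phi_Dp_Zm A B z hz Dp hD hDz n p q (hs p hp) (hs q hq)]
    by_cases hpq : p = q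
    · rw [if_pos hpq, if_pos hpq, mul_one, hpq]
    · rw [if_neg hpq, if_neg hpq, mul_zero]
  rw [Finset.sum_congr rfl h2, Finset.sum_ite_eq' s q, if_pos hq] at h1
  exact h1

omit hz hD hDz in
lemma Zm_single (i : ι) : Zm A B z (Pi.single i 1) = zeta A B (z i) := by
  have h := Zm_mul_zeta A B z 0 i
  have hZ : Zm A B z (0 : ι → ℕ) = 1 := by simp [Zm]
  rw [hZ, one_mul, zero_add] at h
  exact h.symm

lemma dz_li : LinearIndependent B (fun i => KaehlerDifferential.D A B (z i)) := by
  rw [Fintype.linearIndependent_iff]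
  intro c hc j
  let y : KaehlerDifferential.ideal A B :=
    ∑ i, c i • (⟨zeta A B (z i), zeta_mem A B (z i)⟩ : KaehlerDifferential.ideal A B)
  have hy : (KaehlerDifferential.ideal A B).toCotangent y = 0 := by
    change KaehlerDifferential.fromIdeal A B y = 0
    rw [← hc, map_sum]
    apply Finset.sum_congr rfl
    intro i _
    rw [LinearMap.map_smul_of_tower, KaehlerDifferential.D_apply]
    rfl
  rw [Ideal.toCotangent_eq_zero] at hy
  let a : (ι → ℕ) → B := fun p => ∑ i, if p = Pi.single i 1 then c i else 0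
  have hinj : ∀ i k : ι, (Pi.single i 1 : ι → ℕ) = Pi.single k 1 ↔ i = k := by
    intro i k
    constructor
    · intro h
      by_contra hne
      have := congrFun h i
      rw [Pi.single_eq_same, Pi.single_eq_of_ne hne] at this
      exact one_ne_zero this
    · intro h; rw [h]
  have ha : ∀ i, a (Pi.single i 1) = c i := by
    intro i
    simp only [a, hinj]
    rw [Finset.sum_ite_eq Finset.univ i, if_pos (Finset.mem_univ i)]
  have hsum : ∑ p ∈ Finset.univ.image (fun i : ι => (Pi.single i 1 : ι → ℕ)), a p • Zm A B z p ∈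
      (KaehlerDifferential.ideal A B) ^ (1 + 1) := by
    rw [Finset.sum_image (fun i _ k _ h => (hinj i k).mp h)]
    simp only [ha, Zm_single]
    convert hy using 1
    simp only [y, Submodule.coe_sum, Submodule.coe_smul_of_tower]
  have := IND A B z hz Dp hD hDz 1 _ (by
    intro p hp
    obtain ⟨i, _, rfl⟩ := Finset.mem_image.mp hp
    rw [Finset.sum_pi_single' i 1 Finset.univ]
    simp) a hsum (Pi.single j 1) (Finset.mem_image_of_mem _ (Finset.mem_univ j))
  rw [ha] at this
  exact this

/-- the basis `dz_i` of `Ω`. -/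
def dzBasis : Module.Basis ι B (KaehlerDifferential A B) :=
  Module.Basis.mk (dz_li A B z hz Dp hD hDz) (le_of_eq hz.symm)

lemma dzBasis_apply (i : ι) :
    dzBasis A B z hz Dp hD hDz i = KaehlerDifferential.D A B (z i) := by
  unfold dzBasis
  rw [Module.Basis.mk_apply]

end converse

section phi
variable (bs : Module.Basis ι B (KaehlerDifferential A B))
    (hbs : ∀ i, bs i = KaehlerDifferential.D A B (z i))
variable (ι' : Type u) [Fintype ι']

/-- the class map `I^n → I^n/I^(n+1)`. -/
def cls (n : ℕ) : ↥(((KaehlerDifferential.ideal A B) ^ n).restrictScalars B) →ₗ[B] PP16.grI A B n :=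
  Submodule.mkQ _

lemma cls_eq_iff (n : ℕ) (x y : ↥(((KaehlerDifferential.ideal A B) ^ n).restrictScalars B)) :
    cls A B n x = cls A B n y ↔
      ((x : B ⊗[A] B) - (y : B ⊗[A] B)) ∈ (KaehlerDifferential.ideal A B) ^ (n + 1) := by
  unfold cls
  rw [Submodule.mkQ_apply, Submodule.mkQ_apply, Submodule.Quotient.eq, Submodule.mem_comap]
  rfl

lemma prod_zeta_mem (b : ι' → B) :
    ∏ j, zeta A B (b j) ∈ ((KaehlerDifferential.ideal A B) ^ (Fintype.card ι')).restrictScalars B := by
  have := PP16.prod_mem_pow (KaehlerDifferential.ideal A B) Finset.univ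
    (fun j => zeta A B (b j)) (fun j _ => zeta_mem A B (b j))
  simpa using this

lemma zetaProd_eq_cls (b : ι' → B) :
    PP16.zetaProd A B b = cls A B (Fintype.card ι') ⟨∏ j, zeta A B (b j), prod_zeta_mem A B ι' b⟩ :=
  rfl

open Classical in
/-- the symmetric multilinear map `Ω^ι' → I^n/I^(n+1)` in coordinates. -/
def gmap : MultilinearMap B (fun _ : ι' => KaehlerDifferential A B)
    (PP16.grI A B (Fintype.card ι')) :=
  ∑ f : ι' → ι, ((MultilinearMap.mkPiAlgebra B ι' B).compLinearMap
      (fun j => bs.coord (f j))).smulRight (PP16.zetaProd A B (fun j => z (f j)))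

open Classical in
lemma gmap_apply (ω : ι' → KaehlerDifferential A B) :
    gmap A B z bs ι' ω =
      ∑ f : ι' → ι, (∏ j, bs.coord (f j) (ω j)) • PP16.zetaProd A B (fun j => z (f j)) := by
  unfold gmap
  rw [MultilinearMap.sum_apply]
  apply Finset.sum_congr rfl
  intro f _
  rw [MultilinearMap.smulRight_apply, MultilinearMap.compLinearMap_apply,
    MultilinearMap.mkPiAlgebra_apply]

omit [Fintype ι] [DecidableEq ι] in
lemma zetaProd_perm (e : Equiv.Perm ι') (b : ι' → B) :
    PP16.zetaProd A B (fun j => b (e j)) = PP16.zetaProd A B b := by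
  rw [zetaProd_eq_cls, zetaProd_eq_cls]
  congr 1
  apply Subtype.ext
  exact Equiv.prod_comp e (fun j => zeta A B (b j))

open Classical in
lemma gmap_symm (e : Equiv.Perm ι') (ω : ι' → KaehlerDifferential A B) :
    gmap A B z bs ι' (fun j => ω (e j)) = gmap A B z bs ι' ω := by
  rw [gmap_apply, gmap_apply]
  apply Fintype.sum_equiv (Equiv.arrowCongr e (Equiv.refl ι))
  intro f
  have h1 : ∏ j, bs.coord (f j) (ω (e j)) =
      ∏ j, bs.coord ((Equiv.arrowCongr e (Equiv.refl ι)) f j) (ω j) := by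
    rw [← Equiv.prod_comp e (fun j => bs.coord ((Equiv.arrowCongr e (Equiv.refl ι)) f j) (ω j))]
    apply Finset.prod_congr rfl
    intro j _
    simp [Equiv.arrowCongr]
  have h2 : PP16.zetaProd A B (fun j => z (f j)) =
      PP16.zetaProd A B (fun j => z ((Equiv.arrowCongr e (Equiv.refl ι)) f j)) := by
    rw [← zetaProd_perm A B ι' e (fun j => z ((Equiv.arrowCongr e (Equiv.refl ι)) f j))]
    congr 1
    funext j
    simp [Equiv.arrowCongr]
  rw [h1, h2]

/-- the canonical map `Sym^n Ω → I^n/I^(n+1)`. -/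
def phiMap : SymmetricPower B ι' (KaehlerDifferential A B) →ₗ[B] PP16.grI A B (Fintype.card ι') :=
  symLift (gmap A B z bs ι') (gmap_symm A B z bs ι')

lemma phiMap_tprod (ω : ι' → KaehlerDifferential A B) :
    phiMap A B z bs ι' (SymmetricPower.tprod B ω) = gmap A B z bs ι' ω :=
  symLift_tprod _ _ ω

omit [Fintype ι] [DecidableEq ι] [Fintype ι'] in
lemma prod_congr_mod (s : Finset ι') (x x' : ι' → B ⊗[A] B)
    (hx : ∀ j ∈ s, x j ∈ KaehlerDifferential.ideal A B)
    (hx' : ∀ j ∈ s, x' j ∈ KaehlerDifferential.ideal A B)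
    (hd : ∀ j ∈ s, x j - x' j ∈ (KaehlerDifferential.ideal A B) ^ 2) :
    ∏ j ∈ s, x j - ∏ j ∈ s, x' j ∈ (KaehlerDifferential.ideal A B) ^ (s.card + 1) := by
  classical
  induction s using Finset.induction_on with
  | empty => simp
  | insert a s ha ih =>
    rw [Finset.prod_insert ha, Finset.prod_insert ha, Finset.card_insert_of_notMem ha]
    have h1 : x a * ∏ j ∈ s, x j - x' a * ∏ j ∈ s, x' j =
        (x a - x' a) * ∏ j ∈ s, x j + x' a * (∏ j ∈ s, x j - ∏ j ∈ s, x' j) := by ring
    rw [h1]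
    apply Ideal.add_mem
    · have h2 : ∏ j ∈ s, x j ∈ (KaehlerDifferential.ideal A B) ^ s.card :=
        PP16.prod_mem_pow _ s x (fun j hj => hx j (Finset.mem_insert_of_mem hj))
      have h3 := Ideal.mul_mem_mul (hd a (Finset.mem_insert_self a s)) h2
      rw [← pow_add] at h3
      exact Ideal.pow_le_pow_right (by omega) h3
    · have h2 := ih (fun j hj => hx j (Finset.mem_insert_of_mem hj))
        (fun j hj => hx' j (Finset.mem_insert_of_mem hj))
        (fun j hj => hd j (Finset.mem_insert_of_mem hj))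
      have h3 := Ideal.mul_mem_mul (hx' a (Finset.mem_insert_self a s)) h2
      rw [← pow_succ'] at h3
      exact h3

include hbs in
lemma zeta_congr (b : B) :
    zeta A B b - ∑ i, (bs.coord i (KaehlerDifferential.D A B b)) • zeta A B (z i) ∈
      (KaehlerDifferential.ideal A B) ^ 2 := by
  let y : KaehlerDifferential.ideal A B :=
    ∑ i, (bs.coord i (KaehlerDifferential.D A B b)) •
      (⟨zeta A B (z i), zeta_mem A B (z i)⟩ : KaehlerDifferential.ideal A B)
  have hy : (KaehlerDifferential.ideal A B).toCotangent ⟨zeta A B b, zeta_mem A B b⟩ =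
      (KaehlerDifferential.ideal A B).toCotangent y := by
    change KaehlerDifferential.D A B b = KaehlerDifferential.fromIdeal A B y
    rw [map_sum]
    conv_lhs => rw [← bs.sum_repr (KaehlerDifferential.D A B b)]
    apply Finset.sum_congr rfl
    intro i _
    rw [LinearMap.map_smul_of_tower, hbs i, KaehlerDifferential.D_apply]
    rfl
  rw [Ideal.toCotangent_eq] at hy
  convert hy using 2
  simp only [y, Submodule.coe_sum, Submodule.coe_smul_of_tower]

include hbs in
open Classical in
lemma gmap_D (b : ι' → B) :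
    gmap A B z bs ι' (fun j => KaehlerDifferential.D A B (b j)) = PP16.zetaProd A B b := by
  rw [gmap_apply]
  simp only [zetaProd_eq_cls]
  have h1 : ∑ f : ι' → ι, (∏ j, bs.coord (f j) (KaehlerDifferential.D A B (b j))) •
        cls A B (Fintype.card ι') ⟨∏ j, zeta A B (z (f j)), prod_zeta_mem A B ι' (fun j => z (f j))⟩ =
      cls A B (Fintype.card ι') (∑ f : ι' → ι, (∏ j, bs.coord (f j) (KaehlerDifferential.D A B (b j))) •
        ⟨∏ j, zeta A B (z (f j)), prod_zeta_mem A B ι' (fun j => z (f j))⟩) := by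
    rw [map_sum]
    apply Finset.sum_congr rfl
    intro f _
    rw [map_smul]
  rw [h1, cls_eq_iff, Submodule.coe_sum]
  simp only [Submodule.coe_smul]
  have h2 : ∑ f : ι' → ι, (∏ j, bs.coord (f j) (KaehlerDifferential.D A B (b j))) •
        ∏ j, zeta A B (z (f j)) =
      ∏ j, ∑ i, (bs.coord i (KaehlerDifferential.D A B (b j))) • zeta A B (z i) := by
    rw [Finset.prod_univ_sum, Fintype.piFinset_univ]
    apply Finset.sum_congr rfl
    intro f _
    simp only [Algebra.smul_def]
    rw [Finset.prod_mul_distrib, map_prod]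
  rw [h2]
  have h3 := prod_congr_mod A B ι' Finset.univ
    (fun j => ∑ i, (bs.coord i (KaehlerDifferential.D A B (b j))) • zeta A B (z i))
    (fun j => zeta A B (b j))
    (fun j _ => by
      apply Ideal.sum_mem
      intro i _
      exact ((KaehlerDifferential.ideal A B).restrictScalars B).smul_mem _ (zeta_mem A B (z i)))
    (fun j _ => zeta_mem A B (b j))
    (fun j _ => by
      have := (KaehlerDifferential.ideal A B ^ 2).neg_mem (zeta_congr A B z bs hbs (b j))
      simpa using this)
  simpa using h3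

include hbs in
lemma phi_surj (hz : Submodule.span B (Set.range fun i => KaehlerDifferential.D A B (z i)) = ⊤) :
    Function.Surjective (phiMap A B z bs ι') := by
  intro y
  obtain ⟨x, rfl⟩ := Submodule.mkQ_surjective _ y
  let K : Submodule B (B ⊗[A] B) :=
    Submodule.map (Submodule.subtype _)
      (Submodule.comap (cls A B (Fintype.card ι')) (LinearMap.range (phiMap A B z bs ι')))
  have hW : W A B z (Fintype.card ι') ≤ K := by
    apply Submodule.span_le.mpr
    rintro _ ⟨p, hp, rfl⟩
    rw [Set.mem_ofPred_eq] at hp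
    obtain ⟨f, hf⟩ := exists_fiber_fun ι' p hp
    refine ⟨⟨Zm A B z p, ?_⟩, ?_, rfl⟩
    · have := Zm_mem A B z p
      rw [hp] at this
      exact this
    · rw [SetLike.mem_coe, Submodule.mem_comap, LinearMap.mem_range]
      refine ⟨SymmetricPower.tprod B (fun j => KaehlerDifferential.D A B (z (f j))), ?_⟩
      rw [phiMap_tprod, gmap_D A B z bs hbs ι' (fun j => z (f j)), zetaProd_eq_cls]
      congr 1
      apply Subtype.ext
      exact prod_zeta_comp A B z ι' f p hf
  have hI : iBpow A B (Fintype.card ι' + 1) ≤ K := by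
    intro t ht
    refine ⟨⟨t, Ideal.pow_le_pow_right (Nat.le_succ _) ht⟩, ?_, rfl⟩
    rw [SetLike.mem_coe, Submodule.mem_comap, LinearMap.mem_range]
    refine ⟨0, ?_⟩
    rw [map_zero]
    symm
    rw [← map_zero (cls A B (Fintype.card ι')), cls_eq_iff]
    have ht' : t ∈ KaehlerDifferential.ideal A B ^ (Fintype.card ι' + 1) := ht
    simpa using ht'
  have hx : (x : B ⊗[A] B) ∈ K :=
    (le_trans (S1 A B z hz (Fintype.card ι')) (sup_le hW hI)) x.2
  obtain ⟨x', hx', hxx⟩ := hx
  rw [SetLike.mem_coe, Submodule.mem_comap, LinearMap.mem_range] at hx'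
  obtain ⟨X, hX⟩ := hx'
  refine ⟨X, ?_⟩
  rw [hX]
  congr 1
  exact Subtype.ext hxx

end phi

section inj

omit [Fintype ι] in
lemma exists_perm_of_fiber_card {ι' : Type u} [Fintype ι'] (f f' : ι' → ι)
    (h : ∀ i, (Finset.univ.filter (fun j => f j = i)).card =
      (Finset.univ.filter (fun j => f' j = i)).card) :
    ∃ σ : Equiv.Perm ι', ∀ j, f' j = f (σ j) := by
  have e : ∀ i, {j // f' j = i} ≃ {j // f j = i} := fun i =>
    Fintype.equivOfCardEq (by rw [Fintype.card_subtype, Fintype.card_subtype]; exact (h i).symm)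
  refine ⟨(Equiv.sigmaFiberEquiv f').symm.trans
    ((Equiv.sigmaCongrRight e).trans (Equiv.sigmaFiberEquiv f)), fun j => ?_⟩
  simp only [Equiv.trans_apply, Equiv.sigmaCongrRight_apply, Equiv.sigmaFiberEquiv_apply]
  exact ((e (f' j)) ⟨j, rfl⟩).2.symm

variable (bs : Module.Basis ι B (KaehlerDifferential A B))
variable (ι' : Type u) [Fintype ι']

open Classical in
lemma sym_span (X : SymmetricPower B ι' (KaehlerDifferential A B)) :
    X ∈ Submodule.span B (Set.range fun f : ι' → ι => SymmetricPower.tprod B (fun j => bs (f j))) := by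
  have hX : X ∈ Submodule.span B (Set.range (SymmetricPower.tprod B (ι := ι')
      (M := KaehlerDifferential A B))) := by
    rw [SymmetricPower.span_tprod_eq_top]; trivial
  refine Submodule.span_le.mpr ?_ hX
  rintro _ ⟨ω, rfl⟩
  have h1 : ω = fun j => ∑ i, (bs.coord i (ω j)) • bs i := by
    funext j
    exact (bs.sum_repr (ω j)).symm
  rw [h1, MultilinearMap.map_sum]
  apply Submodule.sum_mem
  intro f _
  rw [MultilinearMap.map_smul_univ]
  exact Submodule.smul_mem _ _ (Submodule.subset_span ⟨f, rfl⟩)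

/-- the exponent vector of `f`, as a function. -/
def efun (f : ι' → ι) : ι → ℕ := fun i => (Finset.univ.filter (fun j => f j = i)).card

omit [Fintype ι] in
lemma sum_efun [Fintype ι] (f : ι' → ι) : ∑ i, efun ι' f i = Fintype.card ι' := by
  unfold efun
  rw [← Finset.card_univ (α := ι')]
  exact (Finset.card_eq_sum_card_fiberwise (f := f) (t := Finset.univ)
    (fun j _ => Finset.mem_univ (f j))).symm

open Classical in
lemma phi_inj (hz : Submodule.span B (Set.range fun i => KaehlerDifferential.D A B (z i)) = ⊤)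
    (Dp : (ι → ℕ) → (B →ₗ[A] B)) (hD : ∀ p, ∃ k : ℕ, Diff16.IsDiffOpLE A B B B k (Dp p))
    (hDz : ∀ p q : ι → ℕ, Dp p (∏ i, z i ^ q i) =
        ((∏ i, Nat.choose (q i) (p i) : ℕ) : B) * ∏ i, z i ^ (q i - p i))
    (hbs : ∀ i, bs i = KaehlerDifferential.D A B (z i)) :
    Function.Injective (phiMap A B z bs ι') := by
  rw [injective_iff_map_eq_zero]
  intro X hX
  obtain ⟨c, hc⟩ := (Submodule.mem_span_range_iff_exists_fun B).mp (sym_span A B bs ι' X)
  -- representatives
  let T : (ι → ℕ) → SymmetricPower B ι' (KaehlerDifferential A B) := fun p =>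
    if h : ∃ f : ι' → ι, efun ι' f = p then SymmetricPower.tprod B (fun j => bs (h.choose j)) else 0
  have hT : ∀ f : ι' → ι, SymmetricPower.tprod B (fun j => bs (f j)) = T (efun ι' f) := by
    intro f
    have hex : ∃ f' : ι' → ι, efun ι' f' = efun ι' f := ⟨f, rfl⟩
    simp only [T, dif_pos hex]
    obtain ⟨σ, hσ⟩ := exists_perm_of_fiber_card hex.choose f
      (fun i => congrFun hex.choose_spec i)
    have : (fun j => bs (f j)) = fun j => (fun j' => bs (hex.choose j')) (σ j) := by
      funext j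
      rw [hσ j]
    rw [this]
    exact SymmetricPower.tprod_equiv σ (fun j' => bs (hex.choose j'))
  let s : Finset (ι → ℕ) := Finset.univ.image (efun ι' (ι := ι))
  let a : (ι → ℕ) → B := fun p => ∑ f ∈ Finset.univ.filter (fun f : ι' → ι => efun ι' f = p), c f
  have hXa : X = ∑ p ∈ s, a p • T p := by
    rw [← hc]
    simp only [hT]
    rw [← Finset.sum_fiberwise_of_maps_to (s := Finset.univ) (t := s) (g := efun ι' (ι := ι))
      (fun f _ => Finset.mem_image_of_mem _ (Finset.mem_univ f))]
    apply Finset.sum_congr rfl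
    intro p _
    simp only [a, Finset.sum_smul]
    apply Finset.sum_congr rfl
    intro f hf
    rw [(Finset.mem_filter.mp hf).2]
  -- compute φ X
  have hφ : phiMap A B z bs ι' X = cls A B (Fintype.card ι')
      (∑ f : ι' → ι, c f • ⟨∏ j, zeta A B (z (f j)), prod_zeta_mem A B ι' (fun j => z (f j))⟩) := by
    rw [← hc, map_sum, map_sum]
    apply Finset.sum_congr rfl
    intro f _
    rw [map_smul, map_smul]
    congr 1
    have : (fun j => bs (f j)) = fun j => KaehlerDifferential.D A B (z (f j)) := by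
      funext j
      rw [hbs]
    rw [this, phiMap_tprod, gmap_D A B z bs hbs ι' (fun j => z (f j)), zetaProd_eq_cls]
  have hmem : ∑ p ∈ s, a p • Zm A B z p ∈ (KaehlerDifferential.ideal A B) ^ (Fintype.card ι' + 1) := by
    rw [hφ, ← map_zero (cls A B (Fintype.card ι')), cls_eq_iff] at hX
    rw [Submodule.coe_sum] at hX
    simp only [Submodule.coe_smul, Submodule.coe_zero, sub_zero] at hX
    convert hX using 1
    rw [← Finset.sum_fiberwise_of_maps_to (s := Finset.univ) (t := s) (g := efun ι' (ι := ι))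
      (fun f _ => Finset.mem_image_of_mem _ (Finset.mem_univ f))]
    apply Finset.sum_congr rfl
    intro p _
    simp only [a, Finset.sum_smul]
    apply Finset.sum_congr rfl
    intro f hf
    rw [← (Finset.mem_filter.mp hf).2]
    congr 1
    exact (prod_zeta_comp A B z ι' f (efun ι' f) (fun i => rfl)).symm
  have ha := IND A B z hz Dp hD hDz (Fintype.card ι') s (by
    intro p hp
    obtain ⟨f, _, rfl⟩ := Finset.mem_image.mp hp
    exact sum_efun ι' f) a hmem
  rw [hXa]
  apply Finset.sum_eq_zero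
  intro p hp
  rw [ha p hp, zero_smul]

end inj

end

end


/-- a) iff b) (affine form, finite family): let B be an A-algebra and z_1, …, z_r elements of B whose
differentials generate the module of differentials of B over A. The following are equivalent: (a) B
is differentially smooth over A and (dz_i) is a basis of the module of differentials; (b) there is a
family (D_p), indexed by multi-indices p, of differential operators B → B (each of some finite
order) with D_p(z^q) = (∏ binom(q_i, p_i)) z^(q-p) for all p, q. -/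
theorem result (A B : Type u) [CommRing A] [CommRing B]
    [Algebra A B] (ι : Type) [Fintype ι] [DecidableEq ι] (z : ι → B)
    (hz : Submodule.span B (Set.range fun i => KaehlerDifferential.D A B (z i)) = ⊤) :
    (PP16.IsDiffSmooth A B ∧
        ∃ b : Module.Basis ι B (KaehlerDifferential A B), ∀ i, b i = KaehlerDifferential.D A B (z i)) ↔
      ∃ Dp : (ι → ℕ) → (B →ₗ[A] B),
        (∀ p, ∃ k : ℕ, Diff16.IsDiffOpLE A B B B k (Dp p)) ∧
        ∀ p q : ι → ℕ, Dp p (∏ i, z i ^ q i) =
          ((∏ i, Nat.choose (q i) (p i) : ℕ) : B) * ∏ i, z i ^ (q i - p i) := by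
  constructor
  · rintro ⟨hB, hbasis⟩
    choose bm hbm using fun m => Groth.Agent.S3817.result A B hB ι z hbasis m
    refine ⟨fun p => opOf A B (∑ i, p i) ((bm (∑ i, p i)).coord ⟨p, le_rfl⟩),
      fun p => ⟨∑ i, p i, opOf_order A B _ _⟩, fun p q => ?_⟩
    exact opOf_monomial A B z (∑ i, p i) (bm _) (hbm _) ⟨p, le_rfl⟩ rfl q
  · rintro ⟨Dp, hD, hDz⟩
    have hbs := dzBasis_apply A B z hz Dp hD hDz
    refine ⟨⟨Module.Projective.of_basis (dzBasis A B z hz Dp hD hDz), fun ι' _ =>
      ⟨phiMap A B z (dzBasis A B z hz Dp hD hDz) ι', fun b => ?_,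
        phi_inj A B z (dzBasis A B z hz Dp hD hDz) ι' hz Dp hD hDz hbs,
        phi_surj A B z (dzBasis A B z hz Dp hD hDz) hbs ι' hz⟩⟩,
      ⟨dzBasis A B z hz Dp hD hDz, hbs⟩⟩
    rw [phiMap_tprod, gmap_D A B z (dzBasis A B z hz Dp hD hDz) hbs ι' b]

end Groth.Agent.S3816
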