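import Groth.Statements.S3819
-- import your own Groth.Agent.* helpers here
import Groth.Agent.S3816

set_option autoImplicit false
universe u
open scoped TensorProduct
open PP16

namespace Groth.Agent.S3819

open Groth.Agent.S3817 Groth.Agent.S3816

noncomputable section

section deriv
variable (A B : Type u) [CommRing A] [CommRing B] [Algebra A B]

/-- the multiplication map as a `B`-algebra map. -/
abbrev mu : B ⊗[A] B →ₐ[B] B := Algebra.TensorProduct.lmul'' A

lemma mu_tmul (b c : B) : mu A B (b ⊗ₜ[A] c) = b * c := rfl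

lemma mem_ideal_iff (t : B ⊗[A] B) : t ∈ KaehlerDifferential.ideal A B ↔ mu A B t = 0 := Iff.rfl

lemma sub_mu_mem (c : B ⊗[A] B) :
    c - algebraMap B (B ⊗[A] B) (mu A B c) ∈ KaehlerDifferential.ideal A B := by
  rw [mem_ideal_iff, map_sub, AlgHom.commutes, Algebra.algebraMap_self, RingHom.id_apply, sub_self]

variable {A B}

/-- the `B`-linear derivation `1 ⊗ δ` of `B ⊗ B`. -/
def Del (δ : Derivation A B B) : B ⊗[A] B →ₗ[B] B ⊗[A] B :=
  LinearMap.baseChange B (δ : B →ₗ[A] B)

lemma Del_tmul (δ : Derivation A B B) (b c : B) : Del δ (b ⊗ₜ[A] c) = b ⊗ₜ[A] δ c := by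
  unfold Del
  rw [LinearMap.baseChange_tmul]
  rfl

lemma Del_mul (δ : Derivation A B B) (x y : B ⊗[A] B) :
    Del δ (x * y) = x * Del δ y + y * Del δ x := by
  induction x using TensorProduct.induction_on with
  | zero => simp
  | tmul a b =>
    induction y using TensorProduct.induction_on with
    | zero => simp
    | tmul c d =>
      rw [Algebra.TensorProduct.tmul_mul_tmul, Del_tmul, Del_tmul, Del_tmul, Derivation.leibniz,
        TensorProduct.tmul_add, Algebra.TensorProduct.tmul_mul_tmul,
        Algebra.TensorProduct.tmul_mul_tmul, smul_eq_mul, smul_eq_mul, mul_comm c a]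
    | add y z hy hz => rw [mul_add, map_add, hy, hz, map_add]; ring
  | add x z hx hz => rw [add_mul, map_add, hx, hz, map_add]; ring

lemma Del_one (δ : Derivation A B B) : Del δ (1 : B ⊗[A] B) = 0 := by
  rw [Algebra.TensorProduct.one_def, Del_tmul, Derivation.map_one_eq_zero, TensorProduct.tmul_zero]

lemma Del_pow_mem (δ : Derivation A B B) (k : ℕ) (t : B ⊗[A] B)
    (ht : t ∈ (KaehlerDifferential.ideal A B) ^ (k + 1)) :
    Del δ t ∈ (KaehlerDifferential.ideal A B) ^ k := by
  induction k generalizing t with
  | zero => rw [pow_zero, Ideal.one_eq_top]; trivial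
  | succ k ih =>
    rw [pow_succ] at ht
    refine Submodule.mul_induction_on ht ?_ ?_
    · intro x hx y hy
      rw [Del_mul]
      apply Ideal.add_mem
      · exact Ideal.mul_mem_right _ _ hx
      · have := Ideal.mul_mem_mul hy (ih x hx)
        rw [← pow_succ'] at this
        exact this
    · intro x y hx hy
      rw [map_add]
      exact Ideal.add_mem _ hx hy

variable {J : Type*}

/-- iterated derivations. -/
def E (δ : J → Derivation A B B) : List J → (B ⊗[A] B →ₗ[B] B ⊗[A] B)
  | [] => LinearMap.id
  | j :: l => (E δ l).comp (Del (δ j))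

lemma E_nil (δ : J → Derivation A B B) (t : B ⊗[A] B) : E δ [] t = t := rfl

lemma E_cons (δ : J → Derivation A B B) (j : J) (l : List J) (t : B ⊗[A] B) :
    E δ (j :: l) t = E δ l (Del (δ j) t) := rfl

lemma E_mem (δ : J → Derivation A B B) (l : List J) (k : ℕ) (t : B ⊗[A] B)
    (ht : t ∈ (KaehlerDifferential.ideal A B) ^ (l.length + k)) :
    E δ l t ∈ (KaehlerDifferential.ideal A B) ^ k := by
  induction l generalizing t with
  | nil => rw [E_nil]; simpa using ht
  | cons j l ih =>
    rw [E_cons]
    apply ih
    apply Del_pow_mem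
    have : (j :: l).length + k = l.length + k + 1 := by simp; omega
    rw [← this]
    exact ht

lemma mu_E_eq_zero (δ : J → Derivation A B B) (l : List J) (t : B ⊗[A] B)
    (ht : t ∈ (KaehlerDifferential.ideal A B) ^ (l.length + 1)) :
    mu A B (E δ l t) = 0 := by
  have := E_mem δ l 1 t ht
  rw [pow_one] at this
  exact this

lemma mu_E_mul (δ : J → Derivation A B B) (l : List J) (c w : B ⊗[A] B)
    (hw : w ∈ (KaehlerDifferential.ideal A B) ^ l.length) :
    mu A B (E δ l (c * w)) = mu A B c * mu A B (E δ l w) := by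
  have h1 : c * w = (mu A B c) • w + (c - algebraMap B (B ⊗[A] B) (mu A B c)) * w := by
    rw [Algebra.smul_def]; ring
  rw [h1, map_add, map_add, map_smul, map_smul, smul_eq_mul]
  have h2 : (c - algebraMap B (B ⊗[A] B) (mu A B c)) * w ∈
      (KaehlerDifferential.ideal A B) ^ (l.length + 1) := by
    rw [pow_succ']
    exact Ideal.mul_mem_mul (sub_mu_mem A B c) hw
  rw [mu_E_eq_zero δ l _ h2, add_zero]

end deriv

section perm
variable {A B : Type u} [CommRing A] [CommRing B] [Algebra A B]
variable {J : Type*} (δ : J → Derivation A B B) (x : J → B ⊗[A] B)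

/-- the monomial attached to a multiset of indices. -/
def X (m : Multiset J) : B ⊗[A] B := (m.map x).prod

lemma X_zero : X x (0 : Multiset J) = 1 := by simp [X]

lemma X_cons (k : J) (m : Multiset J) : X x (k ::ₘ m) = x k * X x m := by simp [X]

lemma X_mem (hx : ∀ j, x j ∈ KaehlerDifferential.ideal A B) (m : Multiset J) :
    X x m ∈ (KaehlerDifferential.ideal A B) ^ (Multiset.card m) := by
  induction m using Multiset.induction_on with
  | empty => simp [X_zero]
  | cons k m ih =>
    rw [X_cons, Multiset.card_cons, pow_succ']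
    exact Ideal.mul_mem_mul (hx k) ih

open Classical in
lemma Del_X (hx : ∀ j, x j ∈ KaehlerDifferential.ideal A B)
    (hdx : ∀ j k, mu A B (Del (δ j) (x k)) = if j = k then 1 else 0) (j : J) (m : Multiset J) :
    Del (δ j) (X x m) - (m.count j) • X x (m.erase j) ∈
      (KaehlerDifferential.ideal A B) ^ (Multiset.card m) := by
  induction m using Multiset.induction_on with
  | empty => simp [X_zero, Del_one]
  | cons k m ih =>
    rw [X_cons, Del_mul, Multiset.card_cons]
    have hXm := X_mem x hx m
    by_cases hjk : j = k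
    · subst hjk
      rw [Multiset.erase_cons_head, Multiset.count_cons_self]
      have hR : Del (δ j) (x j) - 1 ∈ KaehlerDifferential.ideal A B := by
        have := sub_mu_mem A B (Del (δ j) (x j))
        rw [hdx j j, if_pos rfl, map_one] at this
        exact this
      have hc : (m.count j) • (x j * X x (m.erase j)) = (m.count j) • X x m := by
        by_cases hjm : j ∈ m
        · rw [← X_cons, Multiset.cons_erase hjm]
        · rw [Multiset.count_eq_zero_of_notMem hjm, zero_smul, zero_smul]
      have h1 : x j * Del (δ j) (X x m) + X x m * Del (δ j) (x j) - (m.count j + 1) • X x m =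
          x j * (Del (δ j) (X x m) - (m.count j) • X x (m.erase j)) +
            X x m * (Del (δ j) (x j) - 1) +
            ((m.count j) • (x j * X x (m.erase j)) - (m.count j) • X x m) := by
        simp only [nsmul_eq_mul]
        push_cast
        ring
      rw [h1, hc, sub_self, add_zero]
      apply Ideal.add_mem
      · rw [pow_succ']
        exact Ideal.mul_mem_mul (hx j) ih
      · rw [pow_succ]
        exact Ideal.mul_mem_mul hXm hR
    · rw [Multiset.count_cons_of_ne hjk, Multiset.erase_cons_tail _ (Ne.symm hjk), X_cons]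
      have hR : Del (δ j) (x k) ∈ KaehlerDifferential.ideal A B := by
        rw [mem_ideal_iff, hdx j k, if_neg hjk]
      have h1 : x k * Del (δ j) (X x m) + X x m * Del (δ j) (x k) -
            (m.count j) • (x k * X x (m.erase j)) =
          x k * (Del (δ j) (X x m) - (m.count j) • X x (m.erase j)) +
            X x m * Del (δ j) (x k) := by
        simp only [nsmul_eq_mul]
        ring
      rw [h1]
      apply Ideal.add_mem
      · rw [pow_succ']
        exact Ideal.mul_mem_mul (hx k) ih
      · rw [pow_succ]
        exact Ideal.mul_mem_mul hXm hR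

open Classical in
/-- the permanent-like count. -/
def N : List J → Multiset J → ℕ
  | [], _ => 1
  | j :: l, m => m.count j * N l (m.erase j)

open Classical in
lemma N_ne_zero_iff (l : List J) (m : Multiset J) (h : Multiset.card m = l.length) :
    N l m ≠ 0 ↔ m = (l : Multiset J) := by
  induction l generalizing m with
  | nil =>
    simp only [N, List.length_nil, Multiset.card_eq_zero] at h ⊢
    simp [h]
  | cons j l ih =>
    simp only [N]
    constructor
    · intro hne
      have h1 : m.count j ≠ 0 := fun h0 => hne (by rw [h0, zero_mul])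
      have h2 : N l (m.erase j) ≠ 0 := fun h0 => hne (by rw [h0, mul_zero])
      have hjm : j ∈ m := Multiset.count_ne_zero.mp h1
      have hcard : Multiset.card (m.erase j) = l.length := by
        rw [Multiset.card_erase_of_mem hjm, h]; simp
      have := (ih (m.erase j) hcard).mp h2
      rw [← Multiset.cons_erase hjm, this]
      rfl
    · intro hm
      subst hm
      have h1 : ((j :: l : List J) : Multiset J) = j ::ₘ (l : Multiset J) := rfl
      rw [h1, Multiset.count_cons_self, Multiset.erase_cons_head]
      exact Nat.mul_ne_zero (Nat.succ_ne_zero _) ((ih (l : Multiset J) (by simp)).mpr rfl)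

open Classical in
lemma mu_E_X (hx : ∀ j, x j ∈ KaehlerDifferential.ideal A B)
    (hdx : ∀ j k, mu A B (Del (δ j) (x k)) = if j = k then 1 else 0)
    (l : List J) (m : Multiset J) (c : B ⊗[A] B) (h : Multiset.card m = l.length) :
    mu A B (E δ l (c * X x m)) = mu A B c * (N l m : B) := by
  induction l generalizing m c with
  | nil =>
    simp only [List.length_nil, Multiset.card_eq_zero] at h
    subst h
    simp [E_nil, X_zero, N]
  | cons j l ih =>
    rw [E_cons, Del_mul]
    have hXm := X_mem x hx m
    rw [h, List.length_cons] at hXm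
    have hB := Del_X δ x hx hdx j m
    rw [h, List.length_cons] at hB
    have h1 : c * Del (δ j) (X x m) + X x m * Del (δ j) c =
        (m.count j) • (c * X x (m.erase j)) +
          (c * (Del (δ j) (X x m) - (m.count j) • X x (m.erase j)) + X x m * Del (δ j) c) := by
      simp only [nsmul_eq_mul]
      ring
    have h2 : c * (Del (δ j) (X x m) - (m.count j) • X x (m.erase j)) + X x m * Del (δ j) c ∈
        (KaehlerDifferential.ideal A B) ^ (l.length + 1) :=
      Ideal.add_mem _ (Ideal.mul_mem_left _ _ hB) (Ideal.mul_mem_right _ _ hXm)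
    rw [h1, map_add, map_add, mu_E_eq_zero δ l _ h2, add_zero, map_nsmul, map_nsmul]
    simp only [N]
    by_cases hjm : j ∈ m
    · have hcard : Multiset.card (m.erase j) = l.length := by
        rw [Multiset.card_erase_of_mem hjm, h]; simp
      rw [ih (m.erase j) c hcard, nsmul_eq_mul]
      push_cast
      ring
    · rw [Multiset.count_eq_zero_of_notMem hjm, zero_smul, zero_mul, Nat.cast_zero, mul_zero]

end perm

section phi
variable (A B : Type u) [CommRing A] [CommRing B] [Algebra A B]

lemma exists_sec [Module.Projective B (KaehlerDifferential A B)] :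
    ∃ s : KaehlerDifferential A B →ₗ[B] ↥(KaehlerDifferential.ideal A B),
      ∀ ω, KaehlerDifferential.fromIdeal A B (s ω) = ω := by
  obtain ⟨h, hh⟩ := Module.projective_lifting_property
    ((KaehlerDifferential.fromIdeal A B).restrictScalars B) LinearMap.id
    (KaehlerDifferential.fromIdeal_surjective A B)
  exact ⟨h, fun ω => LinearMap.congr_fun hh ω⟩

variable {A B}
variable (s : KaehlerDifferential A B →ₗ[B] ↥(KaehlerDifferential.ideal A B))

/-- the section composed with the inclusion into `B ⊗ B`. -/
def xT : KaehlerDifferential A B →ₗ[B] B ⊗[A] B :=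
  ((KaehlerDifferential.ideal A B).subtype.restrictScalars B).comp s

lemma xT_apply (ω : KaehlerDifferential A B) : xT s ω = ((s ω : ↥(KaehlerDifferential.ideal A B)) : B ⊗[A] B) := rfl

lemma xT_mem (ω : KaehlerDifferential A B) : xT s ω ∈ KaehlerDifferential.ideal A B := (s ω).2

variable (ι' : Type u) [Fintype ι']

/-- the product multilinear map into `B ⊗ B`. -/
def gmT : MultilinearMap B (fun _ : ι' => KaehlerDifferential A B) (B ⊗[A] B) :=
  (MultilinearMap.mkPiAlgebra B ι' (B ⊗[A] B)).compLinearMap (fun _ => xT s)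

lemma gmT_apply (ω : ι' → KaehlerDifferential A B) : gmT s ι' ω = ∏ j, xT s (ω j) := by
  unfold gmT
  rw [MultilinearMap.compLinearMap_apply, MultilinearMap.mkPiAlgebra_apply]

lemma gmT_mem (ω : ι' → KaehlerDifferential A B) :
    gmT s ι' ω ∈ ((KaehlerDifferential.ideal A B) ^ (Fintype.card ι')).restrictScalars B := by
  rw [gmT_apply]
  have := PP16.prod_mem_pow (KaehlerDifferential.ideal A B) Finset.univ
    (fun j => xT s (ω j)) (fun j _ => xT_mem s (ω j))
  simpa using this

/-- the symmetric multilinear map `Ω^ι' → I^n/I^(n+1)`. -/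
def gm : MultilinearMap B (fun _ : ι' => KaehlerDifferential A B)
    (PP16.grI A B (Fintype.card ι')) :=
  (cls A B (Fintype.card ι')).compMultilinearMap ((gmT s ι').codRestrict _ (gmT_mem s ι'))

lemma gm_apply (ω : ι' → KaehlerDifferential A B) :
    gm s ι' ω = cls A B (Fintype.card ι') ⟨gmT s ι' ω, gmT_mem s ι' ω⟩ := rfl

lemma gm_symm (e : Equiv.Perm ι') (ω : ι' → KaehlerDifferential A B) :
    gm s ι' (fun j => ω (e j)) = gm s ι' ω := by
  rw [gm_apply, gm_apply]
  congr 1
  apply Subtype.ext
  change gmT s ι' (fun j => ω (e j)) = gmT s ι' ω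
  rw [gmT_apply, gmT_apply]
  exact Equiv.prod_comp e (fun j => xT s (ω j))

/-- the canonical map `Sym^n Ω → I^n/I^(n+1)`. -/
def phi : SymmetricPower B ι' (KaehlerDifferential A B) →ₗ[B] PP16.grI A B (Fintype.card ι') :=
  symLift (gm s ι') (gm_symm s ι')

lemma phi_tprod (ω : ι' → KaehlerDifferential A B) :
    phi s ι' (SymmetricPower.tprod B ω) = gm s ι' ω :=
  symLift_tprod _ _ ω

variable (hs : ∀ ω, KaehlerDifferential.fromIdeal A B (s ω) = ω)

include hs in
lemma xT_D (b : B) : xT s (KaehlerDifferential.D A B b) - zeta A B b ∈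
    (KaehlerDifferential.ideal A B) ^ 2 := by
  have h : (KaehlerDifferential.ideal A B).toCotangent (s (KaehlerDifferential.D A B b)) =
      (KaehlerDifferential.ideal A B).toCotangent ⟨zeta A B b, zeta_mem A B b⟩ := by
    change KaehlerDifferential.fromIdeal A B (s (KaehlerDifferential.D A B b)) = _
    rw [hs, KaehlerDifferential.D_apply]
    rfl
  rw [Ideal.toCotangent_eq] at h
  exact h

include hs in
lemma phi_D (b : ι' → B) :
    phi s ι' (SymmetricPower.tprod B (fun i => KaehlerDifferential.D A B (b i))) =
      PP16.zetaProd A B b := by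
  rw [phi_tprod, gm_apply, zetaProd_eq_cls, cls_eq_iff]
  change gmT s ι' _ - _ ∈ _
  rw [gmT_apply]
  have h3 := prod_congr_mod A B ι' Finset.univ
    (fun j => xT s (KaehlerDifferential.D A B (b j)))
    (fun j => zeta A B (b j))
    (fun j _ => xT_mem s _)
    (fun j _ => zeta_mem A B (b j))
    (fun j _ => xT_D s hs (b j))
  simpa using h3

end phi

section surj
variable (A B : Type u) [CommRing A] [CommRing B] [Algebra A B]

/-- products of `n` elements `ζ b`. -/
def PZ (n : ℕ) : Set (B ⊗[A] B) := Set.range (fun b : Fin n → B => ∏ j, zeta A B (b j))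

lemma iBpow_le (n : ℕ) :
    iBpow A B n ≤ Submodule.span B (PZ A B n) ⊔ iBpow A B (n + 1) := by
  induction n with
  | zero =>
    intro t _
    have h1 : t = (mu A B t) • (1 : B ⊗[A] B) + (t - algebraMap B (B ⊗[A] B) (mu A B t)) := by
      rw [Algebra.smul_def, mul_one]; ring
    rw [h1]
    apply Submodule.add_mem_sup
    · apply Submodule.smul_mem
      apply Submodule.subset_span
      exact ⟨fun _ => 0, by simp⟩
    · rw [mem_iBpow, zero_add, pow_one]
      exact sub_mu_mem A B t
  | succ n ih =>
    have hZ : iBpow A B 1 = Submodule.span B (Set.range (zeta A B)) := by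
      unfold iBpow
      rw [pow_one]
      exact (KaehlerDifferential.submodule_span_range_eq_ideal A B).symm
    have h1 : Submodule.span B (PZ A B n) * iBpow A B 1 ≤ Submodule.span B (PZ A B (n + 1)) := by
      rw [hZ, Submodule.span_mul_span]
      apply Submodule.span_mono
      rintro _ ⟨_, ⟨b, rfl⟩, _, ⟨c, rfl⟩, rfl⟩
      refine ⟨Fin.snoc b c, ?_⟩
      simp only
      rw [Fin.prod_univ_castSucc]
      simp
    calc iBpow A B (n + 1) = iBpow A B n * iBpow A B 1 := (iBpow_mul A B n 1).symm
      _ ≤ (Submodule.span B (PZ A B n) ⊔ iBpow A B (n + 1)) * iBpow A B 1 :=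
          mul_le_mul' ih le_rfl
      _ = Submodule.span B (PZ A B n) * iBpow A B 1 ⊔ iBpow A B (n + 1) * iBpow A B 1 :=
          Submodule.sup_mul _ _ _
      _ ≤ Submodule.span B (PZ A B (n + 1)) ⊔ iBpow A B (n + 1 + 1) :=
          sup_le_sup h1 (le_of_eq (iBpow_mul A B (n + 1) 1))

variable {A B}
variable (s : KaehlerDifferential A B →ₗ[B] ↥(KaehlerDifferential.ideal A B))
  (hs : ∀ ω, KaehlerDifferential.fromIdeal A B (s ω) = ω)
variable (ι' : Type u) [Fintype ι']

include hs in
lemma phi_surj : Function.Surjective (phi s ι') := by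
  intro y
  obtain ⟨x, rfl⟩ := Submodule.mkQ_surjective _ y
  let K : Submodule B (B ⊗[A] B) :=
    Submodule.map (Submodule.subtype _)
      (Submodule.comap (cls A B (Fintype.card ι')) (LinearMap.range (phi s ι')))
  have hW : Submodule.span B (PZ A B (Fintype.card ι')) ≤ K := by
    apply Submodule.span_le.mpr
    rintro _ ⟨b, rfl⟩
    have hprod : ∏ j : ι', zeta A B (b (Fintype.equivFin ι' j)) = ∏ k, zeta A B (b k) :=
      Equiv.prod_comp (Fintype.equivFin ι') (fun k => zeta A B (b k))
    refine ⟨⟨∏ k, zeta A B (b k), ?_⟩, ?_, rfl⟩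
    · rw [← hprod]
      exact prod_zeta_mem A B ι' (fun j => b (Fintype.equivFin ι' j))
    · rw [SetLike.mem_coe, Submodule.mem_comap, LinearMap.mem_range]
      refine ⟨SymmetricPower.tprod B
        (fun j => KaehlerDifferential.D A B (b (Fintype.equivFin ι' j))), ?_⟩
      rw [phi_D s ι' hs (fun j => b (Fintype.equivFin ι' j)), zetaProd_eq_cls]
      congr 1
      exact Subtype.ext hprod
  have hI : iBpow A B (Fintype.card ι' + 1) ≤ K := by
    intro t ht
    refine ⟨⟨t, Ideal.pow_le_pow_right (Nat.le_succ _) ht⟩, ?_, rfl⟩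
    rw [SetLike.mem_coe, Submodule.mem_comap, LinearMap.mem_range]
    refine ⟨0, ?_⟩
    rw [map_zero]
    symm
    rw [← map_zero (cls A B (Fintype.card ι')), cls_eq_iff]
    have ht' : t ∈ KaehlerDifferential.ideal A B ^ (Fintype.card ι' + 1) := ht
    simpa using ht'
  have hx : (x : B ⊗[A] B) ∈ K :=
    (le_trans (iBpow_le A B (Fintype.card ι')) (sup_le hW hI)) x.2
  obtain ⟨x', hx', hxx⟩ := hx
  rw [SetLike.mem_coe, Submodule.mem_comap, LinearMap.mem_range] at hx'
  obtain ⟨X, hX⟩ := hx'
  refine ⟨X, ?_⟩
  rw [hX]
  congr 1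
  exact Subtype.ext hxx

end surj

section inj

lemma exists_perm_of_map_eq {J : Type*} {ι' : Type*} [Fintype ι'] (f f' : ι' → J)
    (h : Finset.univ.val.map f = Finset.univ.val.map f') :
    ∃ σ : Equiv.Perm ι', ∀ j, f' j = f (σ j) := by
  classical
  have hc : ∀ i, Fintype.card {j // f' j = i} = Fintype.card {j // f j = i} := by
    intro i
    rw [Fintype.card_subtype, Fintype.card_subtype]
    have h1 := congrArg (Multiset.count i) h
    rw [Multiset.count_map, Multiset.count_map] at h1
    simp only [eq_comm (a := i)] at h1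
    exact h1.symm
  have e : ∀ i, {j // f' j = i} ≃ {j // f j = i} := fun i => Fintype.equivOfCardEq (hc i)
  refine ⟨(Equiv.sigmaFiberEquiv f').symm.trans
    ((Equiv.sigmaCongrRight e).trans (Equiv.sigmaFiberEquiv f)), fun j => ?_⟩
  simp only [Equiv.trans_apply, Equiv.sigmaCongrRight_apply, Equiv.sigmaFiberEquiv_apply]
  exact ((e (f' j)) ⟨j, rfl⟩).2.symm

variable {A B : Type u} [CommRing A] [CommRing B] [Algebra A B]
variable {J : Type*} (bs : Module.Basis J B (KaehlerDifferential A B))

lemma sym_span' (ι' : Type u) [Fintype ι'] (X : SymmetricPower B ι' (KaehlerDifferential A B)) :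
    X ∈ Submodule.span B
      (Set.range fun f : ι' → J => SymmetricPower.tprod B (fun j => bs (f j))) := by
  classical
  have hX : X ∈ Submodule.span B (Set.range (SymmetricPower.tprod B (ι := ι')
      (M := KaehlerDifferential A B))) := by
    rw [SymmetricPower.span_tprod_eq_top]; trivial
  refine Submodule.span_le.mpr ?_ hX
  rintro _ ⟨ω, rfl⟩
  have h1 : ω = fun j => ∑ i ∈ (bs.repr (ω j)).support, (bs.repr (ω j) i) • bs i := by
    funext j
    conv_lhs => rw [← bs.linearCombination_repr (ω j), Finsupp.linearCombination_apply]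
    rfl
  rw [h1, MultilinearMap.map_sum_finset]
  apply Submodule.sum_mem
  intro f _
  rw [MultilinearMap.map_smul_univ]
  exact Submodule.smul_mem _ _ (Submodule.subset_span ⟨f, rfl⟩)

lemma mu_Del_eq (lam : KaehlerDifferential A B →ₗ[B] B) (y : ↥(KaehlerDifferential.ideal A B)) :
    mu A B (Del (lam.compDer (KaehlerDifferential.D A B)) (y : B ⊗[A] B)) =
      lam (KaehlerDifferential.fromIdeal A B y) := by
  have key : ∀ t ∈ Submodule.span B (Set.range (zeta A B)),
      ∃ ht : t ∈ KaehlerDifferential.ideal A B,
        mu A B (Del (lam.compDer (KaehlerDifferential.D A B)) t) =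
          lam (KaehlerDifferential.fromIdeal A B ⟨t, ht⟩) := by
    intro t ht
    induction ht using Submodule.span_induction with
    | mem t h =>
      obtain ⟨b, rfl⟩ := h
      refine ⟨zeta_mem A B b, ?_⟩
      unfold zeta
      rw [map_sub, Del_tmul, Del_tmul, Derivation.map_one_eq_zero, TensorProduct.tmul_zero,
        sub_zero, mu_tmul, one_mul]
      rfl
    | zero =>
      refine ⟨zero_mem _, ?_⟩
      have : (⟨0, zero_mem _⟩ : ↥(KaehlerDifferential.ideal A B)) = 0 := rfl
      rw [this, map_zero, map_zero, map_zero, map_zero]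
    | add x y _ _ hx hy =>
      obtain ⟨hx1, hx2⟩ := hx
      obtain ⟨hy1, hy2⟩ := hy
      refine ⟨add_mem hx1 hy1, ?_⟩
      have : (⟨x + y, add_mem hx1 hy1⟩ : ↥(KaehlerDifferential.ideal A B)) =
          ⟨x, hx1⟩ + ⟨y, hy1⟩ := rfl
      rw [this, map_add, map_add, map_add, map_add, hx2, hy2]
    | smul a x _ hx =>
      obtain ⟨hx1, hx2⟩ := hx
      have hax : a • x ∈ KaehlerDifferential.ideal A B :=
        ((KaehlerDifferential.ideal A B).restrictScalars B).smul_mem a hx1
      refine ⟨hax, ?_⟩
      have : (⟨a • x, hax⟩ : ↥(KaehlerDifferential.ideal A B)) = a • ⟨x, hx1⟩ := rfl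
      rw [this, map_smul, map_smul, LinearMap.map_smul_of_tower, map_smul, hx2]
  have hy : (y : B ⊗[A] B) ∈ Submodule.span B (Set.range (zeta A B)) := by
    have h0 := KaehlerDifferential.submodule_span_range_eq_ideal A B
    have : (y : B ⊗[A] B) ∈ (KaehlerDifferential.ideal A B).restrictScalars B := y.2
    rw [← h0] at this
    exact this
  obtain ⟨_, h⟩ := key _ hy
  exact h

/-- the dual derivations of a basis of `Ω`. -/
def dl (j : J) : Derivation A B B := (bs.coord j).compDer (KaehlerDifferential.D A B)

variable (s : KaehlerDifferential A B →ₗ[B] ↥(KaehlerDifferential.ideal A B))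
  (hs : ∀ ω, KaehlerDifferential.fromIdeal A B (s ω) = ω)

include hs in
open Classical in
lemma hdx (j k : J) :
    mu A B (Del (dl bs j) (xT s (bs k))) = if j = k then 1 else 0 := by
  unfold dl
  rw [xT_apply, mu_Del_eq, hs, Module.Basis.coord_apply, Module.Basis.repr_self,
    Finsupp.single_apply]
  simp only [eq_comm]

end inj

section inj2
variable {A B : Type u} [CommRing A] [CommRing B] [Algebra A B]
variable {J : Type*} (bs : Module.Basis J B (KaehlerDifferential A B))
variable (s : KaehlerDifferential A B →ₗ[B] ↥(KaehlerDifferential.ideal A B))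
  (hs : ∀ ω, KaehlerDifferential.fromIdeal A B (s ω) = ω)

lemma natCast_isUnit [Algebra ℚ B] (n : ℕ) (hn : n ≠ 0) : IsUnit ((n : ℕ) : B) := by
  have h1 : ((n : ℕ) : B) = algebraMap ℚ B (n : ℚ) := (map_natCast _ n).symm
  rw [h1]
  exact (IsUnit.mk0 (n : ℚ) (Nat.cast_ne_zero.mpr hn)).map _

include bs hs in
lemma phi_inj [Algebra ℚ B] (ι' : Type u) [Fintype ι'] : Function.Injective (phi s ι') := by
  classical
  rw [injective_iff_map_eq_zero]
  intro Xs hX
  obtain ⟨c, hc⟩ := Finsupp.mem_span_range_iff_exists_finsupp.mp (sym_span' bs ι' Xs)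
  rw [Finsupp.sum] at hc
  set x : J → B ⊗[A] B := fun j => xT s (bs j) with hxdef
  have hx : ∀ j, x j ∈ KaehlerDifferential.ideal A B := fun j => xT_mem s (bs j)
  have hdx' := hdx bs s hs
  set mg : (ι' → J) → Multiset J := fun g => Finset.univ.val.map g with hmg
  have hcard : ∀ g, Multiset.card (mg g) = Fintype.card ι' := by
    intro g
    simp [mg]
  have hXg : ∀ g : ι' → J, gmT s ι' (fun i => bs (g i)) = X x (mg g) := by
    intro g
    rw [gmT_apply]
    simp only [X, mg, Multiset.map_map]
    rfl
  -- the relation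
  have hmem : ∑ g ∈ c.support, c g • X x (mg g) ∈
      (KaehlerDifferential.ideal A B) ^ (Fintype.card ι' + 1) := by
    have hφ : phi s ι' Xs = cls A B (Fintype.card ι')
        (∑ g ∈ c.support, c g • ⟨gmT s ι' (fun i => bs (g i)), gmT_mem s ι' _⟩) := by
      rw [← hc, map_sum, map_sum]
      apply Finset.sum_congr rfl
      intro g _
      rw [map_smul, map_smul, phi_tprod, gm_apply]
    rw [hφ, ← map_zero (cls A B (Fintype.card ι')), cls_eq_iff, Submodule.coe_sum] at hX
    simp only [Submodule.coe_smul, Submodule.coe_zero, sub_zero] at hX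
    convert hX using 1
    apply Finset.sum_congr rfl
    intro g _
    rw [hXg]
  -- coefficients vanish
  have ha : ∀ m : Multiset J, Multiset.card m = Fintype.card ι' →
      ∑ g ∈ c.support.filter (fun g => mg g = m), c g = 0 := by
    intro m hm
    have hl : ((m.toList : List J) : Multiset J) = m := Multiset.coe_toList m
    have hlen : m.toList.length = Fintype.card ι' := by
      rw [Multiset.length_toList, hm]
    have h0 := mu_E_eq_zero (dl bs) m.toList _ (by rw [hlen]; exact hmem)
    rw [map_sum, map_sum] at h0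
    have h1 : ∀ g ∈ c.support, mu A B (E (dl bs) m.toList (c g • X x (mg g))) =
        if mg g = m then c g * (N m.toList m : B) else 0 := by
      intro g _
      have h2 := mu_E_X (dl bs) x hx hdx' m.toList (mg g) 1 (by rw [hcard, hlen])
      rw [one_mul, map_one, one_mul] at h2
      rw [map_smul, map_smul, smul_eq_mul, h2]
      by_cases hgm : mg g = m
      · rw [if_pos hgm, hgm]
      · rw [if_neg hgm]
        have : N m.toList (mg g) = 0 := by
          by_contra hne
          have := (N_ne_zero_iff m.toList (mg g) (by rw [hcard, hlen])).mp hne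
          rw [hl] at this
          exact hgm this
        rw [this, Nat.cast_zero, mul_zero]
    rw [Finset.sum_congr rfl h1, ← Finset.sum_filter, ← Finset.sum_mul] at h0
    have hN : N m.toList m ≠ 0 :=
      (N_ne_zero_iff m.toList m (by rw [Multiset.length_toList])).mpr hl.symm
    exact (natCast_isUnit (B := B) _ hN).mul_left_eq_zero.mp h0
  -- conclude
  rw [← hc, ← Finset.sum_fiberwise_of_maps_to (s := c.support) (t := c.support.image mg) (g := mg)
    (fun g hg => Finset.mem_image_of_mem _ hg)]
  apply Finset.sum_eq_zero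
  intro m hm
  obtain ⟨g0, _, hg0⟩ := Finset.mem_image.mp hm
  have h3 : ∀ g ∈ c.support.filter (fun g => mg g = m),
      c g • SymmetricPower.tprod B (fun i => bs (g i)) =
        c g • SymmetricPower.tprod B (fun i => bs (g0 i)) := by
    intro g hg
    have hgm : mg g = m := (Finset.mem_filter.mp hg).2
    obtain ⟨σ, hσ⟩ := exists_perm_of_map_eq g0 g (by
      change mg g0 = mg g
      rw [hg0, hgm])
    have : (fun i => bs (g i)) = fun i => (fun i' => bs (g0 i')) (σ i) := by
      funext i
      rw [hσ i]
    rw [this]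
    congr 1
    exact SymmetricPower.tprod_equiv σ (fun i' => bs (g0 i'))
  rw [Finset.sum_congr rfl h3, ← Finset.sum_smul, ha m (by rw [← hg0, hcard]), zero_smul]

end inj2

end

/-- Let B be an A-algebra containing the rational numbers (a scheme of characteristic 0) whose module of
differentials over A is a free B-module, of any rank. Then B is differentially smooth over A. -/
theorem result (A B : Type u) [CommRing A] [CommRing B] [Algebra A B] [Algebra ℚ B]
    (hΩ : Module.Free B (KaehlerDifferential A B)) : PP16.IsDiffSmooth A B := by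
  have hP : Module.Projective B (KaehlerDifferential A B) := Module.Projective.of_free
  obtain ⟨s, hs⟩ := exists_sec A B
  refine ⟨hP, fun ι' _ => ⟨phi s ι', fun b => phi_D s ι' hs b,
    phi_inj (Module.Free.chooseBasis B (KaehlerDifferential A B)) s hs ι', phi_surj s hs ι'⟩⟩

end Groth.Agent.S3819
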