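import Groth.Statements.S3820
-- import your own Groth.Agent.* helpers here
import Groth.Agent.S3819
import Mathlib.RingTheory.MvPolynomial.Ideal
import Mathlib.LinearAlgebra.Multilinear.Basis
import Mathlib.RingTheory.Smooth.Basic

set_option autoImplicit false
universe u
open scoped TensorProduct
open PP16

namespace Groth.Agent.S3820

open Groth.Agent.S3817 Groth.Agent.S3816 Groth.Agent.S3819

noncomputable section

section PolyEmbed
variable {B : Type u} [CommRing B] {P : Type u} [AddCommGroup P] [Module B P]

/-- the variables as a linear map on the free module. -/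
def lamX : (P →₀ B) →ₗ[B] MvPolynomial P B :=
  Finsupp.linearCombination B (fun p : P => (MvPolynomial.X p : MvPolynomial P B))

lemma lamX_single (p : P) : lamX (B := B) (Finsupp.single p 1) = MvPolynomial.X p := by
  unfold lamX
  rw [Finsupp.linearCombination_single, one_smul]

lemma lamX_mem (f : P →₀ B) : lamX f ∈ MvPolynomial.idealOfVars P B := by
  unfold lamX
  rw [Finsupp.linearCombination_apply]
  apply Ideal.sum_mem
  intro p _
  exact Submodule.smul_of_tower_mem _ _ (Ideal.subset_span ⟨p, rfl⟩)

variable (ι' : Type u) [Fintype ι']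

open Classical in
lemma prod_X_eq (s : Multiset P) :
    (s.map (fun p => (MvPolynomial.X p : MvPolynomial P B))).prod =
      MvPolynomial.monomial (Multiset.toFinsupp s) 1 := by
  induction s using Multiset.induction_on with
  | empty => simp
  | cons a s ih =>
    rw [Multiset.map_cons, Multiset.prod_cons, ih, ← Multiset.singleton_add, Multiset.toFinsupp_add,
      Multiset.toFinsupp_singleton, MvPolynomial.X, MvPolynomial.monomial_mul, one_mul]

open Classical in
/-- the retraction `B[X_p] → Sym^n P`. -/
def retr : MvPolynomial P B →ₗ[B] SymmetricPower B ι' P :=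
  (MvPolynomial.basisMonomials P B).constr B (fun m =>
    if h : ∃ g : ι' → P, Multiset.toFinsupp (Finset.univ.val.map g) = m then
      SymmetricPower.tprod B h.choose else 0)

open Classical in
lemma retr_monomial (m : P →₀ ℕ) :
    retr (B := B) ι' (MvPolynomial.monomial m 1) =
      if h : ∃ g : ι' → P, Multiset.toFinsupp (Finset.univ.val.map g) = m then
        SymmetricPower.tprod B h.choose else 0 := by
  unfold retr
  have : (MvPolynomial.monomial m 1 : MvPolynomial P B) = MvPolynomial.basisMonomials P B m := by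
    rw [MvPolynomial.coe_basisMonomials]
  rw [this, Module.Basis.constr_basis]

open Classical in
lemma retr_prod_X (g : ι' → P) :
    retr (B := B) ι' (∏ j, MvPolynomial.X (g j)) = SymmetricPower.tprod B g := by
  have h1 : (∏ j, (MvPolynomial.X (g j) : MvPolynomial P B)) =
      MvPolynomial.monomial (Multiset.toFinsupp (Finset.univ.val.map g)) 1 := by
    rw [← prod_X_eq, Multiset.map_map]
    rfl
  have hex : ∃ g' : ι' → P, Multiset.toFinsupp (Finset.univ.val.map g') =
      Multiset.toFinsupp (Finset.univ.val.map g) := ⟨g, rfl⟩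
  rw [h1, retr_monomial, dif_pos hex]
  obtain ⟨σ, hσ⟩ := exists_perm_of_map_eq hex.choose g
    (Multiset.toFinsupp.injective hex.choose_spec)
  have : g = fun j => hex.choose (σ j) := funext hσ
  conv_rhs => rw [this]
  exact (SymmetricPower.tprod_equiv σ hex.choose).symm

open Classical in
lemma retr_eq_zero (p : MvPolynomial P B)
    (hp : p ∈ MvPolynomial.idealOfVars P B ^ (Fintype.card ι' + 1)) : retr ι' p = 0 := by
  rw [MvPolynomial.mem_pow_idealOfVars_iff] at hp
  rw [p.as_sum, map_sum]
  apply Finset.sum_eq_zero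
  intro m hm
  have h1 : (MvPolynomial.monomial m (p.coeff m) : MvPolynomial P B) =
      (p.coeff m) • MvPolynomial.monomial m 1 := by
    rw [MvPolynomial.smul_monomial, smul_eq_mul, mul_one]
  rw [h1, map_smul, retr_monomial]
  have hne : ¬ ∃ g : ι' → P, Multiset.toFinsupp (Finset.univ.val.map g) = m := by
    rintro ⟨g, rfl⟩
    have h2 := hp _ hm
    have h3 : (Multiset.toFinsupp (Finset.univ.val.map g)).degree = Fintype.card ι' := by
      rw [Finsupp.degree_apply]
      have := Multiset.toFinsupp_sum_eq (Finset.univ.val.map g)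
      rw [Multiset.card_map] at this
      exact this
    omega
  rw [dif_neg hne, smul_zero]

variable (σ : P →ₗ[B] (P →₀ B)) (hσ : ∀ p, Finsupp.linearCombination B id (σ p) = p)

/-- the linear form `P → B[X_p]`. -/
def ell : P →ₗ[B] MvPolynomial P B := lamX.comp σ

lemma ell_mem (p : P) : ell σ p ∈ MvPolynomial.idealOfVars P B := lamX_mem _

/-- product of linear forms. -/
def PsiM : MultilinearMap B (fun _ : ι' => P) (MvPolynomial P B) :=
  (MultilinearMap.mkPiAlgebra B ι' (MvPolynomial P B)).compLinearMap (fun _ => ell σ)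

lemma PsiM_apply (ω : ι' → P) : PsiM ι' σ ω = ∏ j, ell σ (ω j) := by
  unfold PsiM
  rw [MultilinearMap.compLinearMap_apply, MultilinearMap.mkPiAlgebra_apply]

include hσ in
lemma retr_PsiM (ω : ι' → P) : retr ι' (PsiM ι' σ ω) = SymmetricPower.tprod B ω := by
  let M1 : MultilinearMap B (fun _ : ι' => (P →₀ B)) (SymmetricPower B ι' P) :=
    (retr ι').compMultilinearMap
      ((MultilinearMap.mkPiAlgebra B ι' (MvPolynomial P B)).compLinearMap (fun _ => lamX))
  let M2 : MultilinearMap B (fun _ : ι' => (P →₀ B)) (SymmetricPower B ι' P) :=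
    (SymmetricPower.tprod B).compLinearMap (fun _ => Finsupp.linearCombination B id)
  have h12 : M1 = M2 := by
    apply Module.Basis.ext_multilinear (fun _ => Finsupp.basisSingleOne)
    intro v
    simp only [M1, M2, LinearMap.compMultilinearMap_apply, MultilinearMap.compLinearMap_apply,
      MultilinearMap.mkPiAlgebra_apply, Finsupp.coe_basisSingleOne, lamX_single,
      Finsupp.linearCombination_single, one_smul, id]
    exact retr_prod_X ι' v
  have h := congrFun (congrArg DFunLike.coe h12) (fun j => σ (ω j))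
  simp only [M1, M2, LinearMap.compMultilinearMap_apply, MultilinearMap.compLinearMap_apply,
    MultilinearMap.mkPiAlgebra_apply, hσ] at h
  rw [PsiM_apply]
  exact h

end PolyEmbed

section general
variable {R : Type*} [CommRing R]

lemma prod_congr_mod' {ι' : Type*} (m : Ideal R) (s : Finset ι') (x x' : ι' → R)
    (hx : ∀ j ∈ s, x j ∈ m) (hx' : ∀ j ∈ s, x' j ∈ m) (hd : ∀ j ∈ s, x j - x' j ∈ m ^ 2) :
    ∏ j ∈ s, x j - ∏ j ∈ s, x' j ∈ m ^ (s.card + 1) := by
  classical
  induction s using Finset.induction_on with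
  | empty => simp
  | insert a s ha ih =>
    rw [Finset.prod_insert ha, Finset.prod_insert ha, Finset.card_insert_of_notMem ha]
    have h1 : x a * ∏ j ∈ s, x j - x' a * ∏ j ∈ s, x' j =
        (x a - x' a) * ∏ j ∈ s, x j + x' a * (∏ j ∈ s, x j - ∏ j ∈ s, x' j) := by ring
    rw [h1]
    apply Ideal.add_mem
    · have h2 : ∏ j ∈ s, x j ∈ m ^ s.card := by
        have := Ideal.prod_mem_prod (s := s) (I := fun _ => m) (x := x)
          (fun j hj => hx j (Finset.mem_insert_of_mem hj))
        simpa using this
      have h3 := Ideal.mul_mem_mul (hd a (Finset.mem_insert_self a s)) h2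
      rw [← pow_add] at h3
      exact Ideal.pow_le_pow_right (by omega) h3
    · have h2 := ih (fun j hj => hx j (Finset.mem_insert_of_mem hj))
        (fun j hj => hx' j (Finset.mem_insert_of_mem hj))
        (fun j hj => hd j (Finset.mem_insert_of_mem hj))
      have h3 := Ideal.mul_mem_mul (hx' a (Finset.mem_insert_self a s)) h2
      rw [← pow_succ'] at h3
      exact h3

end general

section theta
variable (A B : Type u) [CommRing A] [CommRing B] [Algebra A B]
variable (n : ℕ)

/-- the truncated polynomial ring. -/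
abbrev Cn : Type u :=
  MvPolynomial (KaehlerDifferential A B) B ⧸
    (MvPolynomial.idealOfVars (KaehlerDifferential A B) B) ^ (n + 1)

/-- its augmentation ideal. -/
abbrev mm : Ideal (Cn A B n) :=
  (MvPolynomial.idealOfVars (KaehlerDifferential A B) B).map (Ideal.Quotient.mk _)

lemma mm_pow : (mm A B n) ^ (n + 1) = ⊥ := by
  unfold mm
  rw [← Ideal.map_pow, Ideal.map_quotient_self]

lemma mm_sq_nilpotent : IsNilpotent ((mm A B n) ^ 2) := by
  refine ⟨n + 1, ?_⟩
  rw [← pow_mul, mul_comm, pow_mul, mm_pow, ← Ideal.zero_eq_bot]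
  exact zero_pow (M₀ := Ideal (Cn A B n)) two_ne_zero

/-- the quotient map as a `B`-linear map. -/
def mkC : MvPolynomial (KaehlerDifferential A B) B →ₗ[B] Cn A B n :=
  (Ideal.Quotient.mkₐ B _).toLinearMap

lemma mkC_apply (p : MvPolynomial (KaehlerDifferential A B) B) :
    mkC A B n p = Ideal.Quotient.mk _ p := rfl

variable {A B}
variable (σ : KaehlerDifferential A B →ₗ[B] (KaehlerDifferential A B →₀ B))

/-- the linear form into the truncated polynomial ring. -/
def ell' : KaehlerDifferential A B →ₗ[B] Cn A B n := (mkC A B n).comp (ell σ)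

lemma ell'_mem (ω : KaehlerDifferential A B) : ell' n σ ω ∈ mm A B n :=
  Ideal.mem_map_of_mem _ (ell_mem σ ω)

lemma ell'_smul (b : B) (ω : KaehlerDifferential A B) :
    ell' n σ (b • ω) = algebraMap B (Cn A B n) b * ell' n σ ω := by
  rw [map_smul]
  exact Algebra.smul_def (A := Cn A B n) b _

/-- the first-order map `b ↦ b + ℓ(db)`. -/
def gbar : B →ₐ[A] (Cn A B n ⧸ (mm A B n) ^ 2) where
  toFun b := Ideal.Quotient.mk _ (algebraMap B (Cn A B n) b + ell' n σ (KaehlerDifferential.D A B b))
  map_one' := by
    rw [Derivation.map_one_eq_zero, map_zero, add_zero, map_one, map_one]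
  map_mul' b c := by
    rw [← map_mul, Ideal.Quotient.eq, Derivation.leibniz, map_add, ell'_smul, ell'_smul, map_mul]
    have h : algebraMap B (Cn A B n) b * algebraMap B (Cn A B n) c +
        (algebraMap B (Cn A B n) b * ell' n σ (KaehlerDifferential.D A B c) +
          algebraMap B (Cn A B n) c * ell' n σ (KaehlerDifferential.D A B b)) -
        (algebraMap B (Cn A B n) b + ell' n σ (KaehlerDifferential.D A B b)) *
          (algebraMap B (Cn A B n) c + ell' n σ (KaehlerDifferential.D A B c)) =
        - (ell' n σ (KaehlerDifferential.D A B b) * ell' n σ (KaehlerDifferential.D A B c)) := by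
      ring
    rw [h, pow_two]
    exact Ideal.neg_mem_iff _ |>.mpr (Ideal.mul_mem_mul (ell'_mem n σ _) (ell'_mem n σ _))
  map_zero' := by
    rw [map_zero, map_zero, map_zero, add_zero, map_zero]
  map_add' b c := by
    have h : algebraMap B (Cn A B n) (b + c) + ell' n σ (KaehlerDifferential.D A B (b + c)) =
        (algebraMap B (Cn A B n) b + ell' n σ (KaehlerDifferential.D A B b)) +
          (algebraMap B (Cn A B n) c + ell' n σ (KaehlerDifferential.D A B c)) := by
      rw [map_add, map_add, map_add]
      ring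
    rw [h, map_add]
  commutes' a := by
    rw [Derivation.map_algebraMap, map_zero, add_zero, ← IsScalarTower.algebraMap_apply]
    rfl

variable [Algebra.FormallySmooth A B]

/-- the lift of `gbar`. -/
def rr : B →ₐ[A] Cn A B n :=
  Algebra.FormallySmooth.lift ((mm A B n) ^ 2) (mm_sq_nilpotent A B n) (gbar n σ)

lemma rr_spec (b : B) :
    rr n σ b - (algebraMap B (Cn A B n) b + ell' n σ (KaehlerDifferential.D A B b)) ∈
      (mm A B n) ^ 2 := by
  have h := Algebra.FormallySmooth.mk_lift ((mm A B n) ^ 2) (mm_sq_nilpotent A B n) (gbar n σ) b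
  rw [← Ideal.Quotient.eq]
  exact h

/-- the map `B ⊗ B → C_n`. -/
def theta : B ⊗[A] B →ₐ[A] Cn A B n :=
  Algebra.TensorProduct.lift (IsScalarTower.toAlgHom A B (Cn A B n)) (rr n σ)
    (fun _ _ => Commute.all _ _)

lemma theta_tmul (b c : B) :
    theta n σ (b ⊗ₜ[A] c) = algebraMap B (Cn A B n) b * rr n σ c := by
  unfold theta
  rw [Algebra.TensorProduct.lift_tmul]
  rfl

lemma theta_smul (b : B) (t : B ⊗[A] B) : theta n σ (b • t) = b • theta n σ t := by
  rw [Algebra.smul_def, map_mul, Algebra.TensorProduct.algebraMap_apply,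
    theta_tmul, map_one, mul_one]
  exact (Algebra.smul_def b _).symm

/-- `theta` as a `B`-linear map. -/
def thetaL : B ⊗[A] B →ₗ[B] Cn A B n where
  toFun := theta n σ
  map_add' := map_add _
  map_smul' := theta_smul n σ

lemma thetaL_apply (t : B ⊗[A] B) : thetaL n σ t = theta n σ t := rfl

lemma theta_zeta (b : B) :
    theta n σ (zeta A B b) - ell' n σ (KaehlerDifferential.D A B b) ∈ (mm A B n) ^ 2 := by
  unfold zeta
  rw [map_sub, theta_tmul, theta_tmul, map_one, map_one, one_mul, mul_one]
  have := rr_spec n σ b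
  convert this using 1
  ring

lemma theta_congr (y : ↥(KaehlerDifferential.ideal A B)) :
    theta n σ (y : B ⊗[A] B) - ell' n σ (KaehlerDifferential.fromIdeal A B y) ∈ (mm A B n) ^ 2 := by
  have key : ∀ t ∈ Submodule.span B (Set.range (zeta A B)),
      ∃ ht : t ∈ KaehlerDifferential.ideal A B,
        theta n σ t - ell' n σ (KaehlerDifferential.fromIdeal A B ⟨t, ht⟩) ∈ (mm A B n) ^ 2 := by
    intro t ht
    induction ht using Submodule.span_induction with
    | mem t h =>
      obtain ⟨b, rfl⟩ := h
      exact ⟨zeta_mem A B b, theta_zeta n σ b⟩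
    | zero =>
      refine ⟨zero_mem _, ?_⟩
      have : (⟨0, zero_mem _⟩ : ↥(KaehlerDifferential.ideal A B)) = 0 := rfl
      rw [this, map_zero, map_zero, map_zero, sub_zero]
      exact zero_mem _
    | add x y _ _ hx hy =>
      obtain ⟨hx1, hx2⟩ := hx
      obtain ⟨hy1, hy2⟩ := hy
      refine ⟨add_mem hx1 hy1, ?_⟩
      have : (⟨x + y, add_mem hx1 hy1⟩ : ↥(KaehlerDifferential.ideal A B)) =
          ⟨x, hx1⟩ + ⟨y, hy1⟩ := rfl
      rw [this, map_add, map_add, map_add, add_sub_add_comm]
      exact Ideal.add_mem _ hx2 hy2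
    | smul a x _ hx =>
      obtain ⟨hx1, hx2⟩ := hx
      have hax : a • x ∈ KaehlerDifferential.ideal A B :=
        ((KaehlerDifferential.ideal A B).restrictScalars B).smul_mem a hx1
      refine ⟨hax, ?_⟩
      have : (⟨a • x, hax⟩ : ↥(KaehlerDifferential.ideal A B)) = a • ⟨x, hx1⟩ := rfl
      rw [this, theta_smul, LinearMap.map_smul_of_tower, map_smul, ← smul_sub]
      exact Submodule.smul_of_tower_mem _ a hx2
  have hy : (y : B ⊗[A] B) ∈ Submodule.span B (Set.range (zeta A B)) := by
    have h0 := KaehlerDifferential.submodule_span_range_eq_ideal A B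
    have : (y : B ⊗[A] B) ∈ (KaehlerDifferential.ideal A B).restrictScalars B := y.2
    rw [← h0] at this
    exact this
  obtain ⟨_, h⟩ := key _ hy
  exact h

lemma theta_mem (t : B ⊗[A] B) (ht : t ∈ KaehlerDifferential.ideal A B) :
    theta n σ t ∈ mm A B n := by
  have h1 := theta_congr n σ ⟨t, ht⟩
  have h2 := Ideal.add_mem _ (Ideal.pow_le_self two_ne_zero h1)
    (ell'_mem n σ (KaehlerDifferential.fromIdeal A B ⟨t, ht⟩))
  simpa using h2

lemma theta_pow_mem (k : ℕ) (t : B ⊗[A] B) (ht : t ∈ (KaehlerDifferential.ideal A B) ^ k) :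
    theta n σ t ∈ (mm A B n) ^ k := by
  have h1 : (KaehlerDifferential.ideal A B).map (theta n σ).toRingHom ≤ mm A B n := by
    rw [Ideal.map_le_iff_le_comap]
    intro t ht
    exact theta_mem n σ t ht
  have h2 := Ideal.pow_right_mono h1 k
  rw [← Ideal.map_pow] at h2
  exact h2 (Ideal.mem_map_of_mem _ ht)

lemma theta_eq_zero (t : B ⊗[A] B) (ht : t ∈ (KaehlerDifferential.ideal A B) ^ (n + 1)) :
    theta n σ t = 0 := by
  have := theta_pow_mem n σ (n + 1) t ht
  rw [mm_pow] at this
  exact this

end theta

section final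
variable {A B : Type u} [CommRing A] [CommRing B] [Algebra A B] [Algebra.FormallySmooth A B]
variable (s : KaehlerDifferential A B →ₗ[B] ↥(KaehlerDifferential.ideal A B))
  (hs : ∀ ω, KaehlerDifferential.fromIdeal A B (s ω) = ω)
variable (σ : KaehlerDifferential A B →ₗ[B] (KaehlerDifferential A B →₀ B))
  (hσ : ∀ p, Finsupp.linearCombination B id (σ p) = p)
variable (ι' : Type u) [Fintype ι']

include hs in
lemma theta_gmT (ω : ι' → KaehlerDifferential A B) :
    theta (Fintype.card ι') σ (gmT s ι' ω) =
      mkC A B (Fintype.card ι') (PsiM ι' σ ω) := by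
  rw [gmT_apply, PsiM_apply, map_prod, mkC_apply, map_prod]
  have h := prod_congr_mod' (mm A B (Fintype.card ι')) Finset.univ
    (fun j => theta (Fintype.card ι') σ (xT s (ω j)))
    (fun j => ell' (Fintype.card ι') σ (ω j))
    (fun j _ => theta_mem _ σ _ (xT_mem s (ω j)))
    (fun j _ => ell'_mem _ σ (ω j))
    (fun j _ => by
      have := theta_congr (Fintype.card ι') σ (s (ω j))
      rw [hs] at this
      exact this)
  rw [Finset.card_univ, mm_pow, Ideal.mem_bot, sub_eq_zero] at h
  exact h

/-- the map induced by `theta` on the graded piece. -/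
def Theta : PP16.grI A B (Fintype.card ι') →ₗ[B] Cn A B (Fintype.card ι') :=
  Submodule.liftQ _ ((thetaL (Fintype.card ι') σ).domRestrict
    (((KaehlerDifferential.ideal A B) ^ (Fintype.card ι')).restrictScalars B)) (by
    intro y hy
    rw [Submodule.mem_comap] at hy
    rw [LinearMap.mem_ker, LinearMap.domRestrict_apply, thetaL_apply]
    exact theta_eq_zero _ σ _ hy)

lemma Theta_cls (y : ↥(((KaehlerDifferential.ideal A B) ^ (Fintype.card ι')).restrictScalars B)) :
    Theta σ ι' (cls A B (Fintype.card ι') y) = theta (Fintype.card ι') σ (y : B ⊗[A] B) := rfl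

include hs hσ in
lemma phi_inj : Function.Injective (phi s ι') := by
  rw [injective_iff_map_eq_zero]
  intro Xs hX
  have key : ∀ Y : SymmetricPower B ι' (KaehlerDifferential A B),
      ∃ p : MvPolynomial (KaehlerDifferential A B) B,
        mkC A B (Fintype.card ι') p = Theta σ ι' (phi s ι' Y) ∧ retr ι' p = Y := by
    intro Y
    have hY : Y ∈ Submodule.span B (Set.range (SymmetricPower.tprod B (ι := ι')
        (M := KaehlerDifferential A B))) := by
      rw [SymmetricPower.span_tprod_eq_top]; trivial
    induction hY using Submodule.span_induction with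
    | mem Y h =>
      obtain ⟨ω, rfl⟩ := h
      refine ⟨PsiM ι' σ ω, ?_, retr_PsiM ι' σ hσ ω⟩
      rw [phi_tprod, gm_apply, Theta_cls]
      exact (theta_gmT s hs σ ι' ω).symm
    | zero => exact ⟨0, by simp⟩
    | add x y _ _ hx hy =>
      obtain ⟨p, hp1, hp2⟩ := hx
      obtain ⟨q, hq1, hq2⟩ := hy
      exact ⟨p + q, by rw [map_add, map_add, map_add, hp1, hq1], by rw [map_add, hp2, hq2]⟩
    | smul a x _ hx =>
      obtain ⟨p, hp1, hp2⟩ := hx
      exact ⟨a • p, by rw [map_smul, map_smul, map_smul, hp1], by rw [map_smul, hp2]⟩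
  obtain ⟨p, hp1, hp2⟩ := key Xs
  rw [hX, map_zero, mkC_apply, Ideal.Quotient.eq_zero_iff_mem] at hp1
  rw [← hp2]
  exact retr_eq_zero ι' p hp1

end final

end

/-- Let B be an A-algebra which is formally smooth (for the discrete topologies). Then Spec B is
differentially smooth over Spec A: the module of differentials is projective and the canonical
surjections Sym^n(Ω_{B/A}) → I^n/I^(n+1) are bijective for all n. -/
theorem result (A B : Type u) [CommRing A] [CommRing B] [Algebra A B]
    [Algebra.FormallySmooth A B] : PP16.IsDiffSmooth A B := by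
  have hP : Module.Projective B (KaehlerDifferential A B) := inferInstance
  obtain ⟨s, hs⟩ := exists_sec A B
  obtain ⟨σ, hσ⟩ := (Module.projective_def'.mp hP)
  refine ⟨hP, fun ι' _ => ⟨phi s ι', fun b => phi_D s ι' hs b,
    phi_inj s hs σ (fun p => LinearMap.congr_fun hσ p) ι', phi_surj s hs ι'⟩⟩

end Groth.Agent.S3820
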