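-- Statement S9407.
import Groth.Statements.S9407
import Mathlib

set_option autoImplicit false
universe u
open CAlg

namespace Groth.Agent.S9407

open Polynomial TensorProduct

/-- over a domain, polynomials integral over the constants are constant -/
theorem natDegree_eq_zero_of_isIntegral {D : Type*} [CommRing D] [IsDomain D] (g : D[X])
    (hg : IsIntegral D g) : g.natDegree = 0 := by
  obtain ⟨P, hP, hPg⟩ := hg
  have h1 : P.comp g = 0 := by
    rw [← hPg]
    rfl
  have h2 := Polynomial.natDegree_comp (p := P) (q := g)
  rw [h1, natDegree_zero] at h2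
  rcases Nat.eq_zero_or_pos g.natDegree with h | h
  · exact h
  · exfalso
    have h3 : P.natDegree = 0 := by
      rcases Nat.eq_zero_or_pos P.natDegree with h' | h'
      · exact h'
      · exfalso
        have := Nat.mul_pos h' h
        omega
    have h4 : P = 1 := by
      have h5 := Polynomial.eq_C_of_natDegree_eq_zero h3
      have h6 : P.coeff 0 = 1 := by
        have := hP.leadingCoeff
        rwa [Polynomial.leadingCoeff, h3] at this
      rw [h5, h6, map_one]
    rw [h4, Polynomial.one_comp] at h1
    exact one_ne_zero h1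

/-- over a reduced ring, polynomials integral over the constants are constant -/
theorem coeff_eq_zero_of_isIntegral {R : Type*} [CommRing R] [IsReduced R] (f : R[X])
    (hf : IsIntegral R f) (n : ℕ) (hn : 0 < n) : f.coeff n = 0 := by
  have hnil : f.coeff n ∈ nilradical R := by
    rw [nilradical_eq_sInf, Ideal.mem_sInf]
    intro p (hp : p.IsPrime)
    have h1 : IsIntegral (R ⧸ p) (f.map (Ideal.Quotient.mk p)) := by
      refine hf.map_of_comp_eq (Ideal.Quotient.mk p) (Polynomial.mapRingHom (Ideal.Quotient.mk p)) ?_
      ext r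
      simp
    have h2 := natDegree_eq_zero_of_isIntegral _ h1
    have h3 : (f.map (Ideal.Quotient.mk p)).coeff n = 0 :=
      Polynomial.coeff_eq_zero_of_natDegree_lt (by omega)
    rw [Polynomial.coeff_map] at h3
    exact Ideal.Quotient.eq_zero_iff_mem.1 h3
  have : IsNilpotent (f.coeff n) := hnil
  exact this.eq_zero


/-- the comparison map `S ⊗[R] R[X] → S[X]` -/
noncomputable def phi (R S : Type*) [CommRing R] [CommRing S] [Algebra R S] :
    S ⊗[R] R[X] →ₐ[R] S[X] :=
  Algebra.TensorProduct.productMap
    ((Algebra.ofId S S[X]).restrictScalars R) (Polynomial.mapAlg R S)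

theorem phi_tmul (R S : Type*) [CommRing R] [CommRing S] [Algebra R S] (s : S) (p : R[X]) :
    phi R S (s ⊗ₜ p) = C s * p.map (algebraMap R S) := by
  simp [phi, Algebra.ofId_apply, Polynomial.mapAlg_eq_map]

theorem coeff_one_phi_eq_zero (R S : Type*) [CommRing R] [CommRing S] [Algebra R S] [IsReduced R]
    (w : S ⊗[R] integralClosure R R[X]) :
    (phi R S (Algebra.TensorProduct.map (AlgHom.id S S) (integralClosure R R[X]).val w)).coeff 1
      = 0 := by
  induction w with
  | zero => simp
  | add x y hx hy => rw [map_add, map_add, coeff_add, hx, hy, add_zero]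
  | tmul s c =>
    rw [Algebra.TensorProduct.map_tmul, phi_tmul]
    have hc : ∀ n, 0 < n → (c : R[X]).coeff n = 0 := fun n hn =>
      coeff_eq_zero_of_isIntegral (c : R[X]) c.2 n hn
    simp only [AlgHom.coe_id, id_eq, Subalgebra.coe_val, coeff_C_mul, coeff_map]
    rw [hc 1 Nat.one_pos, map_zero, mul_zero]

/-- Reducedness ascends along smooth ring maps: if R is reduced and S is smooth over R then S is
reduced. -/
theorem result (R : Type u) [CommRing R] (S : Type u) [CommRing S]
    [Algebra R S] [Algebra.Smooth R S] [IsReduced R] : IsReduced S := by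
  constructor
  intro s hs
  obtain ⟨k, hk⟩ := hs
  have hnil : (s ⊗ₜ[R] (X : R[X])) ^ k = 0 := by
    rw [Algebra.TensorProduct.tmul_pow, hk, zero_tmul]
  have hint : IsIntegral S (s ⊗ₜ[R] (X : R[X])) :=
    ⟨X ^ k, monic_X_pow k, by simp [hnil]⟩
  obtain ⟨w, hw⟩ := (TensorProduct.toIntegralClosure_bijective_of_smooth (R := R) (S := S)
    (B := R[X])).2 ⟨_, hint⟩
  have hw' : Algebra.TensorProduct.map (AlgHom.id S S) (integralClosure R R[X]).val w =
      s ⊗ₜ[R] (X : R[X]) := congrArg Subtype.val hw
  have h0 := coeff_one_phi_eq_zero R S w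
  rw [hw', phi_tmul] at h0
  simpa using h0

end Groth.Agent.S9407
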