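import Groth.Statements.S10192
import Groth.Agent.Lib.H69InvSub
import Groth.Agent.Lib.H69RedInduced
import Groth.Agent.Lib.H69DescentAffine4
import Groth.Agent.Lib.H86AlgSpOpen

set_option autoImplicit false
universe u
open CategoryTheory CategoryTheory.Limits AlgebraicGeometry Topology TopologicalSpace
open AlgSp

namespace Groth.Agent.S10192

/-- For an algebraic space X over a scheme S and a closed subset T of |X| there is a reduced closed
subspace Z of X with |Z| = T, that is, an algebraic space Z with a morphism Z ⟶ X representable by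
closed immersions whose image in |X| is T and such that Z is reduced. (Only existence is asserted;
uniqueness is not part of this row.) -/
theorem result {S : Scheme.{u}} (X : AlgSp.Space S) (T : Set (AlgSp.Points X.obj))
    (hT : IsClosed T) :
    ∃ (Z : AlgSp.Space S) (i : Z ⟶ X), AlgSp.IsRedInduced T i.hom := by
  obtain ⟨U, p, hpe, hps⟩ := X.property.atlas
  -- the kernel pair of the atlas
  let R : Over S := hpe.rep.pullback p
  let s : R ⟶ U := hpe.rep.snd p
  let t : R ⟶ U := (AlgSp.yon S).preimage (hpe.rep.fst p)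
  have hker : IsPullback ((AlgSp.yon S).map t) ((AlgSp.yon S).map s) p p := by
    have := hpe.rep.isPullback p
    rwa [← (AlgSp.yon S).map_preimage (hpe.rep.fst p)] at this
  have hse : Etale s.left := hpe.property_snd p
  have hte : Etale t.left := hpe.2 p ((AlgSp.yon S).map s) t hker.flip
  have hss : Smooth s.left := inferInstance
  have hts : Smooth t.left := inferInstance
  -- the closed subsets
  let WU : TopologicalSpace.Closeds ↥U.left :=
    ⟨AlgSp.Points.ofPt p ⁻¹' T, hT.preimage (AlgSp.Points.continuous_ofPt p)⟩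
  let WR : TopologicalSpace.Closeds ↥R.left :=
    ⟨s.left ⁻¹' (WU : Set ↥U.left), WU.isClosed.preimage s.left.continuous⟩
  have hWR : (WR : Set ↥R.left) = t.left ⁻¹' (WU : Set ↥U.left) := by
    ext r
    change AlgSp.Points.ofPt p (s.left r) ∈ T ↔ AlgSp.Points.ofPt p (t.left r) ∈ T
    rw [← Groth.Agent.Lib.H86AlgSpPoints.ofPt_map_comp, ← Groth.Agent.Lib.H86AlgSpPoints.ofPt_map_comp,
      hker.w]
  obtain ⟨s', hs⟩ := Groth.Agent.Lib.H69RedInduced.isPullback_redSub_of_smooth s.left WU WR rfl
  obtain ⟨t', ht⟩ := Groth.Agent.Lib.H69RedInduced.isPullback_redSub_of_smooth t.left WU WR hWR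
  -- the data as objects and morphisms over `S`
  let i' := Groth.Agent.Lib.H69RedInduced.redSubι WU
  let k := Groth.Agent.Lib.H69RedInduced.redSubι WR
  let Z'o : Over S := Over.mk (i' ≫ U.hom)
  let io : Z'o ⟶ U := Over.homMk i' rfl
  let R'o : Over S := Over.mk (k ≫ R.hom)
  let ko : R'o ⟶ R := Over.homMk k rfl
  have es : s' ≫ i' ≫ U.hom = k ≫ R.hom := by
    rw [← Category.assoc, ← hs.w, Category.assoc, Over.w s]
  have et : t' ≫ i' ≫ U.hom = k ≫ R.hom := by
    rw [← Category.assoc, ← ht.w, Category.assoc, Over.w t]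
  let s'o : R'o ⟶ Z'o := Over.homMk s' es
  let t'o : R'o ⟶ Z'o := Over.homMk t' et
  have hso : IsPullback ko s'o s io := by
    apply IsPullback.of_map_of_faithful (Over.forget S)
    exact hs
  have hto : ko ≫ t = t'o ≫ io := Over.OverMorphism.ext ht.w
  have hmono : Mono io := by
    have : Mono ((Over.forget S).map io) := (inferInstance : Mono i')
    exact (Over.forget S).mono_of_mono_map this
  have sq := Groth.Agent.Lib.H69InvSub.isPullback_toImage_of_invariant s t p hker io ko s'o t'o
    hso hto
  have hqe : AlgSp.RepWith @Etale (Sheaf.toImage ((AlgSp.yon S).map io ≫ p)) :=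
    Groth.Agent.Lib.AlgSpBasic.repWith_fst_of_isPullback _ sq hpe
  have hqs : AlgSp.RepWith @Surjective (Sheaf.toImage ((AlgSp.yon S).map io ≫ p)) :=
    Groth.Agent.Lib.AlgSpBasic.repWith_fst_of_isPullback _ sq hps
  -- the image sheaf is an algebraic space
  have hZ : AlgSp.IsAlgSpace (Sheaf.image ((AlgSp.yon S).map io ≫ p)) :=
    { diag := by
        apply Functor.relativelyRepresentable.diag_of_map_from_obj
        intro T g' T' b
        obtain ⟨V, snd, fst, hpb⟩ := X.property.representable_from_yon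
          (g' ≫ Sheaf.imageι ((AlgSp.yon S).map io ≫ p)) (b ≫ Sheaf.imageι ((AlgSp.yon S).map io ≫ p))
        exact ⟨V, snd, fst,
          Groth.Agent.Lib.H86AlgSpOpen.isPullback_of_comp_mono (Sheaf.imageι ((AlgSp.yon S).map io ≫ p)) hpb⟩
      atlas := ⟨Z'o, Sheaf.toImage ((AlgSp.yon S).map io ≫ p), hqe, hqs⟩ }
  refine ⟨⟨Sheaf.image ((AlgSp.yon S).map io ≫ p), hZ⟩,
    ObjectProperty.homMk (Sheaf.imageι ((AlgSp.yon S).map io ≫ p)), ?_, ?_, ?_⟩
  · have := Groth.Agent.Lib.H69FppfLocal.isClosedImmersion.{u}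
    exact Groth.Agent.Lib.H69DescentAffine.repWith_of_fppf_cover_of_le_isAffineHom @IsClosedImmersion
      (fun _ _ g (hg : IsClosedImmersion g) => (inferInstance : IsAffineHom g)) _ p
      (Groth.Agent.Lib.H69AlgSp.repWith_flat_of_etale hpe)
      (Groth.Agent.Lib.H69AlgSp.repWith_lfp_of_etale hpe) hps _ _ sq
      ((AlgSp.repWith_yon_map_iff @IsClosedImmersion io).2 (inferInstance : IsClosedImmersion i'))
  · have h1 := Groth.Agent.Lib.H86AlgSpSub.range_left_eq_preimage sq
    have h2 : Set.range io.left = AlgSp.Points.ofPt p ⁻¹' T :=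
      Groth.Agent.Lib.H69RedInduced.range_redSubι WU
    rw [h2] at h1
    exact ((Groth.Agent.Lib.H86AlgSpPoints.ofPt_surjective hps).preimage_injective h1).symm
  · exact ⟨Z'o, Sheaf.toImage ((AlgSp.yon S).map io ≫ p), hqe, hqs,
      (inferInstance : IsReduced (Groth.Agent.Lib.H69RedInduced.redSub WU))⟩

end Groth.Agent.S10192
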