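import Groth.Statements.S10351
import Groth.Agent.Lib.H80DecentPt2

set_option autoImplicit false
universe u
open CategoryTheory CategoryTheory.Limits AlgebraicGeometry Topology TopologicalSpace
open AlgSp

namespace Groth.Agent.S10351

/-- Let S be a scheme, X and Y algebraic spaces over S, and f : X ⟶ Y a morphism which is representable
by schemes. If Y is decent then X is decent. -/
theorem result {S : Scheme.{u}} {X Y : AlgSp.Space S} (f : X ⟶ Y)
    (hf : AlgSp.Representable f.hom) (hY : AlgSp.IsDecent Y.obj) : AlgSp.IsDecent X.obj := by
  exact Groth.Agent.Lib.H80DecentPt.isDecent_of_isDecentMor f.hom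
    (Groth.Agent.Lib.H80DecentPt.isDecentMor_of_representable f.hom hf) hY

end Groth.Agent.S10351
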