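import Groth.Statements.S10408
import Groth.Agent.Lib.H80DecentPt
import Groth.Agent.Lib.AlgSpPoints
import Groth.Agent.Lib.AlgSpBasic
import Groth.Agent.Lib.FiniteEtaleField
open Groth.Agent.Lib.AlgSpBasic Groth.Agent.Lib.AlgSpPoints Groth.Agent.Lib.H80DecentPt
  Groth.Agent.Lib.FiniteEtaleField

set_option autoImplicit false
universe u
open CategoryTheory CategoryTheory.Limits AlgebraicGeometry Topology TopologicalSpace
open AlgSp

namespace Groth.Agent.S10408

/-- (4) ⇒ (2): let S be a scheme and X an algebraic space over S. Suppose x ∈ |X| is a point represented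
by a monomorphism Spec k ⟶ X, where k is a field. Then for every etale φ : U ⟶ X with U a scheme and
all u, u' ∈ U over x, the map |U ×_X U| → |U| ×_{|X|} |U| has finite fibre over the point (u, u'). -/
theorem result {S : Scheme.{u}} (X : AlgSp.Space S) (x : AlgSp.Points X.obj)
    (hx : ∃ p : AlgSp.FieldPt X.obj, AlgSp.Points.mk p = x ∧ Mono p.toHom) {U : Over S}
    (φ : (AlgSp.yon S).obj U ⟶ X.obj) (hφ : AlgSp.RepWith @Etale φ) (u u' : ↥U.left)
    (hu : AlgSp.Points.ofPt φ u = x) (hu' : AlgSp.Points.ofPt φ u' = x) :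
    ∀ (R : Over S) (s t : R ⟶ U), IsPullback ((AlgSp.yon S).map t) ((AlgSp.yon S).map s) φ φ →
          {r : ↥R.left | s.left r = u ∧ t.left r = u'}.Finite := by
  obtain ⟨p, hpx, hmono⟩ := hx
  intro R s t sq
  have hr : Representable p.toHom := X.property.representable_from_yon p.toHom
  have sqF := hr.isPullback' φ
  have ha : Etale (hr.fst' φ).left := hφ.property _ _ _ sqF.flip
  have hb1 : Mono ((yon S).map (hr.snd φ)) := sqF.mono_snd_of_mono
  have hb2 : Mono (hr.snd φ) := (yon S).mono_of_mono_map hb1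
  have hb : Mono (hr.snd φ).left := inferInstance
  obtain ⟨m, hm⟩ := exists_factor_of_mk_eq p (FieldPt.ofPt φ u) hmono hr (by rw [hpx]; exact hu)
  rw [FieldPt.toHom_ofPt] at hm
  -- the point of the fibre over `u'`
  obtain ⟨f, hf1, -⟩ := exists_of_isPullback_yon sqF
    (Points.ofScheme p.pt (IsLocalRing.closedPoint p.K)) u'
    (by rw [← Points.ofPt_eq_map_ofScheme, Points.ofPt_toHom, hpx, hu'])
  obtain ⟨_, ⟨F₀, hF₀, rfl⟩, hfF₀, -⟩ :=
    (hr.pullback φ).left.isBasis_affineOpens.exists_subset_of_mem_open (Set.mem_univ f) isOpen_univ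
  have hF₀' : IsAffine (Scheme.Opens.toScheme F₀) := hF₀
  -- the finite scheme `G₀ = Spec κ(u) ×_{Spec k} F₀`
  let ι₀ : Scheme.Opens.toScheme F₀ ⟶ (hr.pullback φ).left := Scheme.Opens.ι F₀
  let π₁ : pullback m.left (ι₀ ≫ (hr.fst' φ).left) ⟶ (FieldPt.ofPt φ u).pt.left := pullback.fst _ _
  let π₂ : pullback m.left (ι₀ ≫ (hr.fst' φ).left) ⟶ Scheme.Opens.toScheme F₀ := pullback.snd _ _
  have hcond : π₁ ≫ m.left = π₂ ≫ ι₀ ≫ (hr.fst' φ).left := pullback.condition
  have hfin : Finite ↥(pullback m.left (ι₀ ≫ (hr.fst' φ).left)) := by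
    have h1 : Etale (ι₀ ≫ (hr.fst' φ).left) := inferInstance
    have h0 : IsAffine p.pt.left := by change IsAffine (Spec _); infer_instance
    have h2' : IsAffineHom (ι₀ ≫ (hr.fst' φ).left) := isAffineHom_of_isAffine _
    have h2 : QuasiCompact (ι₀ ≫ (hr.fst' φ).left) := inferInstance
    have h3 : Etale π₁ := MorphismProperty.pullback_fst _ _ h1
    have h4 : QuasiCompact π₁ := MorphismProperty.pullback_fst _ _ h2
    exact @finite_of_etale_field (U.left.residueField u) _ _ π₁ h3 h4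
  -- `G₀` as a scheme over `S` and its maps
  let ιu : (FieldPt.ofPt φ u).pt ⟶ U := Over.homMk (U.left.fromSpecResidueField u) rfl
  let GO : Over S := Over.mk (π₁ ≫ (FieldPt.ofPt φ u).str)
  let π₁' : GO ⟶ (FieldPt.ofPt φ u).pt := Over.homMk π₁ rfl
  have hγw : (π₂ ≫ ι₀) ≫ (hr.pullback φ).hom = GO.hom := by
    have e1 : (hr.fst' φ).left ≫ p.str = (hr.pullback φ).hom := Over.w (hr.fst' φ)
    have e2 : m.left ≫ p.str = (FieldPt.ofPt φ u).str := Over.w m
    change _ = π₁ ≫ (FieldPt.ofPt φ u).str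
    rw [← e1, ← e2, Category.assoc, ← Category.assoc ι₀, ← Category.assoc π₂, ← hcond, Category.assoc]
  let γ : GO ⟶ hr.pullback φ := Over.homMk (π₂ ≫ ι₀) hγw
  have hγ : γ ≫ hr.fst' φ = π₁' ≫ m := by
    apply Over.OverMorphism.ext
    change (π₂ ≫ ι₀) ≫ (hr.fst' φ).left = π₁ ≫ m.left
    rw [Category.assoc, hcond]
  have hαβ : (yon S).map (γ ≫ hr.snd φ) ≫ φ = (yon S).map (π₁' ≫ ιu) ≫ φ := by
    rw [Functor.map_comp, Category.assoc, ← sqF.w, ← Category.assoc, ← Functor.map_comp, hγ,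
      Functor.map_comp, Functor.map_comp, Category.assoc, Category.assoc, hm]
  let ρ : GO ⟶ R := (yon S).preimage (sq.lift _ _ hαβ)
  have hρt : ρ ≫ t = γ ≫ hr.snd φ := by
    apply (yon S).map_injective
    rw [Functor.map_comp, Functor.map_preimage, sq.lift_fst]
  have hρs : ρ ≫ s = π₁' ≫ ιu := by
    apply (yon S).map_injective
    rw [Functor.map_comp, Functor.map_preimage, sq.lift_snd]
  have hfin' : Finite ↥GO.left := hfin
  refine (Set.finite_range ρ.left).subset ?_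
  rintro r ⟨hrs, hrt⟩
  -- the residue field point of `r`
  let Kr : Over S := Over.mk (R.left.fromSpecResidueField r ≫ R.hom)
  let ιr : Kr ⟶ R := Over.homMk (R.left.fromSpecResidueField r) rfl
  obtain ⟨c₁, hc₁⟩ := exists_residue_lift s.left r u hrs
  have hc₁w : c₁ ≫ (FieldPt.ofPt φ u).str = Kr.hom := by
    change c₁ ≫ U.left.fromSpecResidueField u ≫ U.hom = R.left.fromSpecResidueField r ≫ R.hom
    rw [← Category.assoc, hc₁, Category.assoc, Over.w s]
  let c₁' : Kr ⟶ (FieldPt.ofPt φ u).pt := Over.homMk c₁ hc₁w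
  have hc₁' : c₁' ≫ ιu = ιr ≫ s := Over.OverMorphism.ext hc₁
  have hlift : (yon S).map (c₁' ≫ m) ≫ p.toHom = (yon S).map (ιr ≫ t) ≫ φ := by
    rw [Functor.map_comp, Category.assoc, ← hm, ← Category.assoc, ← Functor.map_comp, hc₁',
      Functor.map_comp, Functor.map_comp, Category.assoc, Category.assoc, sq.w]
  let c₂ : Kr ⟶ hr.pullback φ := hr.lift' (c₁' ≫ m) (ιr ≫ t) hlift
  have hc₂f : c₂ ≫ hr.fst' φ = c₁' ≫ m := hr.lift'_fst _ _ _
  have hc₂s : c₂ ≫ hr.snd φ = ιr ≫ t := hr.lift'_snd _ _ _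
  have hpt : ∀ z : ↥Kr.left, c₂.left z = f := by
    intro z
    apply (hr.snd φ).left.injective
    have h1 : (c₂ ≫ hr.snd φ).left z = (ιr ≫ t).left z := by rw [hc₂s]
    have h2 : (R.left.fromSpecResidueField r) z = r := Scheme.fromSpecResidueField_apply _ _
    change (hr.snd φ).left (c₂.left z) = t.left ((R.left.fromSpecResidueField r) z) at h1
    rw [h1, h2, hrt, hf1]
  have hrange : Set.range c₂.left ⊆ Set.range ι₀ := by
    rintro _ ⟨z, rfl⟩
    rw [hpt z]
    change f ∈ Set.range (Scheme.Opens.ι F₀)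
    rw [Scheme.Opens.range_ι]
    exact hfF₀
  let c₃ : Kr.left ⟶ Scheme.Opens.toScheme F₀ := IsOpenImmersion.lift ι₀ c₂.left hrange
  have hc₃ : c₃ ≫ ι₀ = c₂.left := IsOpenImmersion.lift_fac _ _ _
  have hc₄c : c₁ ≫ m.left = c₃ ≫ ι₀ ≫ (hr.fst' φ).left := by
    rw [← Category.assoc, hc₃]
    exact (congrArg (fun q => q.left) hc₂f).symm
  let c₄ : Kr.left ⟶ pullback m.left (ι₀ ≫ (hr.fst' φ).left) := pullback.lift c₁ c₃ hc₄c
  have hc₄1 : c₄ ≫ π₁ = c₁ := pullback.lift_fst _ _ _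
  have hc₄2 : c₄ ≫ π₂ = c₃ := pullback.lift_snd _ _ _
  have hc₄w : c₄ ≫ GO.hom = Kr.hom := by
    change c₄ ≫ π₁ ≫ (FieldPt.ofPt φ u).str = _
    rw [← Category.assoc, hc₄1]
    exact hc₁w
  let c₄' : Kr ⟶ GO := Over.homMk c₄ hc₄w
  have hc₄γ : c₄' ≫ γ = c₂ := by
    apply Over.OverMorphism.ext
    change c₄ ≫ π₂ ≫ ι₀ = c₂.left
    rw [← Category.assoc, hc₄2, hc₃]
  have hc₄π : c₄' ≫ π₁' = c₁' := Over.OverMorphism.ext hc₄1
  have hfinal : c₄' ≫ ρ = ιr := by
    apply (yon S).map_injective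
    apply sq.hom_ext
    · rw [← Functor.map_comp, ← Functor.map_comp, Category.assoc, hρt, ← Category.assoc, hc₄γ, hc₂s]
    · rw [← Functor.map_comp, ← Functor.map_comp, Category.assoc, hρs, ← Category.assoc, hc₄π, hc₁']
  refine ⟨c₄ (IsLocalRing.closedPoint _), ?_⟩
  have h1 : (c₄' ≫ ρ).left (IsLocalRing.closedPoint _) = ιr.left (IsLocalRing.closedPoint _) := by
    rw [hfinal]
  have h2 : (R.left.fromSpecResidueField r) (IsLocalRing.closedPoint _) = r :=
    Scheme.fromSpecResidueField_apply _ _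
  exact h1.trans h2

end Groth.Agent.S10408
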