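import Groth.Statements.S10340
-- import your own Groth.Agent.* helpers here
import Groth.Agent.Lib.AlgSpDecentSpec

set_option autoImplicit false
universe u
open CategoryTheory CategoryTheory.Limits AlgebraicGeometry Topology TopologicalSpace
open AlgSp

namespace Groth.Agent.S10340

/-- Let S be a scheme, X a decent algebraic space over S, and a : h_U ⟶ X a representable etale map from
a scheme U. If two points u, u' of U have the same image in |X| and u' specializes to u, then u =
u'. -/
theorem result {S : Scheme.{u}} (X : AlgSp.Space S) (hX : AlgSp.IsDecent X.obj)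
    {U : Over S} (a : (AlgSp.yon S).obj U ⟶ X.obj) (ha : AlgSp.RepWith @Etale a) (u u' : ↥U.left)
    (he : AlgSp.Points.ofPt a u = AlgSp.Points.ofPt a u') (hs : u' ⤳ u) : u = u' := by
  refine Groth.Agent.Lib.AlgSpDecentSpec.eq_of_specializes_of_finite_fibres_affine
    (AlgSp.Points.ofPt a u) (fun V b hV hb => ?_) a ha u u' rfl he.symm hs
  have : IsAffine V.left := hV
  have : CompactSpace ↥V.left := inferInstance
  exact Groth.Agent.Lib.AlgSpValuative.finite_fibre_of_isDecent hX b hb _

end Groth.Agent.S10340
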