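import Groth.Statements.S0463
import Groth.Agent.Lib.OpenShriek
import Groth.Agent.Lib.ExtAdjunction
import Groth.Agent.Lib.AcyclicClass
import Groth.Agent.Lib.FlasqueAcyclic
import Groth.Agent.S0462

set_option autoImplicit false
universe u
open CategoryTheory
open CohTop

namespace Groth.Agent.S0463

section Helpers

open Abelian Limits Opposite TopologicalSpace Groth.Agent.Lib.OpenShriek Groth.Agent.Lib.FlasqueAcyclic

/-- two objects corepresenting the same functor are isomorphic -/
def isoOfHomEquiv {C : Type*} [Category C] {B B' : C} (e : ∀ M, (B ⟶ M) ≃ (B' ⟶ M))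
    (nat : ∀ {M M' : C} (f : B ⟶ M) (g : M ⟶ M'), e M' (f ≫ g) = e M f ≫ g) : B ≅ B' where
  hom := (e B').symm (𝟙 B')
  inv := e B (𝟙 B)
  hom_inv_id := by
    apply (e B).injective
    rw [nat, Equiv.apply_symm_apply, Category.id_comp]
  inv_hom_id := by
    have := nat (𝟙 B) ((e B').symm (𝟙 B'))
    rw [Category.id_comp, Equiv.apply_symm_apply] at this
    exact this.symm

lemma ev_one (G : AddCommGrpCat.{u}) (φ : AddCommGrpCat.of (ULift.{u} ℤ) ⟶ G) :
    AddCommGrpCat.uliftZMultiplesAddEquiv G φ = φ ⟨1⟩ := by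
  change (uliftZMultiplesHom G).symm φ.hom = _
  simp
  rfl

variable {X : TopCat.{u}} (U : Opens X)

lemma jF_top : U = (jF U).obj ⊤ := by
  ext x
  constructor
  · intro hx
    exact ⟨⟨x, hx⟩, trivial, rfl⟩
  · rintro ⟨w, _, rfl⟩
    exact w.2

/-- the constant sheaf `ℤ` on `U` -/
noncomputable abbrev ZU : CohTop.Ab (TopCat.of U) := CohTop.const (TopCat.of U) (ULift.{u} ℤ)

/-- maps out of `j_! ℤ_U` are sections over `U` -/
noncomputable def e2 (M : CohTop.Ab X) : ((shriek U).obj (ZU U) ⟶ M) ≃ M.obj.obj (op U) :=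
  ((shriekAdj U).homEquiv (ZU U) M).trans
    (((constantSheafAdj (Opens.grothendieckTopology (TopCat.of U)) AddCommGrpCat.{u}
        (isTerminalTop : IsTerminal (⊤ : Opens (TopCat.of U)))).homEquiv
          (AddCommGrpCat.of (ULift.{u} ℤ)) ((CohTop.restrFunctor U).obj M)).trans
      ((AddCommGrpCat.uliftZMultiplesAddEquiv _).toEquiv.trans
        (M.obj.mapIso (eqToIso (jF_top U)).op).addCommGroupIsoToAddEquiv.toEquiv))

lemma e2_aux {M M' : CohTop.Ab X} (g : M ⟶ M')
    (φ : AddCommGrpCat.of (ULift.{u} ℤ) ⟶ M.obj.obj (op ((jF U).obj ⊤))) :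
    (M'.obj.mapIso (eqToIso (jF_top U)).op).addCommGroupIsoToAddEquiv.toEquiv
      ((AddCommGrpCat.uliftZMultiplesAddEquiv _).toEquiv (φ ≫ g.hom.app (op ((jF U).obj ⊤)))) =
    g.hom.app (op U) ((M.obj.mapIso (eqToIso (jF_top U)).op).addCommGroupIsoToAddEquiv.toEquiv
      ((AddCommGrpCat.uliftZMultiplesAddEquiv _).toEquiv φ)) := by
  change M'.obj.map (eqToHom (jF_top U)).op (AddCommGrpCat.uliftZMultiplesAddEquiv _
      (φ ≫ g.hom.app (op ((jF U).obj ⊤)))) =
    g.hom.app (op U) (M.obj.map (eqToHom (jF_top U)).op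
      (AddCommGrpCat.uliftZMultiplesAddEquiv _ φ))
  rw [ev_one, ev_one, ConcreteCategory.comp_apply]
  exact (ConcreteCategory.congr_hom (g.hom.naturality (eqToHom (jF_top U)).op) (φ ⟨1⟩)).symm

lemma e2_comp {M M' : CohTop.Ab X} (f : (shriek U).obj (ZU U) ⟶ M) (g : M ⟶ M') :
    e2 U M' (f ≫ g) = g.hom.app (op U) (e2 U M f) := by
  simp only [e2, Equiv.trans_apply]
  rw [Adjunction.homEquiv_naturality_right, Adjunction.homEquiv_naturality_right]
  exact e2_aux U g _


/-- `j_! ℤ_U` is the free abelian sheaf on `U` -/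
noncomputable def shriekZIso : (shriek U).obj (ZU U) ≅ freeSh U :=
  isoOfHomEquiv (fun M => (e2 U M).trans (homEquiv U M).symm) (by
    intro M M' f g
    simp only [Equiv.trans_apply]
    apply (homEquiv U M').injective
    rw [Equiv.apply_symm_apply, homEquiv_comp, Equiv.apply_symm_apply, e2_comp])


end Helpers


open TopologicalSpace in
/-- For an abelian sheaf F on X and an open U, H^n(U, F) (derived functors of sections over U) is
isomorphic to H^n(U, F|_U) computed on the space U. -/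
theorem result {X : TopCat.{u}} (F : CohTop.Ab X) (U : Opens X) (n : ℕ) :
    Nonempty (CohTop.HU F n U ≃+ CohTop.H (CohTop.restr F U) n) := by
  have hacyc : ∀ q : ℕ, CategoryTheory.Limits.IsZero (((CohTop.restrFunctor U).rightDerived (q + 1)).obj F) := fun q =>
    Groth.Agent.Lib.AcyclicClass.isZero_rightDerived_succ (CohTop.restrFunctor U) (fun _ => True)
      (fun _ _ _ _ => trivial) (fun _ _ => trivial) (fun _ _ _ _ => trivial)
      (fun S hS _ => by
        have := hS.epi_g
        infer_instance) F trivial q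
  obtain ⟨e⟩ := Groth.Agent.Lib.ExtAdjunction.nonempty_extAddEquiv.{u}
    (Groth.Agent.Lib.OpenShriek.shriekAdj U) F hacyc (ZU U) n
  exact ⟨(Groth.Agent.S0462.extPrecompIso (shriekZIso U) F n).trans e⟩

end Groth.Agent.S0463
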