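import Groth.Statements.S14433
import Groth.Agent.Lib.H78ConeHomotopy

set_option autoImplicit false
universe u
open Koszul3

namespace Groth.Agent.S14433

open CategoryTheory CategoryTheory.Limits Groth.Agent.Lib.H78ConeHomotopy

/-- the elements acting null-homotopically on a complex form an ideal -/
def nullIdeal {R : Type u} [CommRing R] (K : CochainComplex (ModuleCat.{u} R) ℤ) : Ideal R where
  carrier := {a | Nonempty (Homotopy (a • 𝟙 K) 0)}
  add_mem' := by
    rintro a b ⟨ha⟩ ⟨hb⟩
    refine ⟨(Homotopy.ofEq ?_).trans ((ha.add hb).trans (Homotopy.ofEq ?_))⟩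
    · rw [add_smul]
    · rw [add_zero]
  zero_mem' := ⟨Homotopy.ofEq (zero_smul R _)⟩
  smul_mem' := by
    rintro c a ⟨ha⟩
    refine ⟨(Homotopy.ofEq ?_).trans ((ha.smul c).trans (Homotopy.ofEq ?_))⟩
    · rw [smul_eq_mul, mul_smul]
    · rw [smul_zero]

open CategoryTheory CategoryTheory.Limits in
/-- Let R be a commutative ring, M an R-module, x = (x_1, …, x_n) elements of R and a an element of the
ideal (x_1, …, x_n). Then multiplication by a on the Koszul complex K(x; M) is homotopic to the zero
map (so a annihilates every Koszul cohomology module, and K(x; M) is exact when the x_i generate the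
unit ideal). (The published statement is for the Koszul complex of a linear form φ : E → R and a ∈
φ(E); stated here for E free of finite rank, with the Koszul complex realised by iterated mapping
cones as in the prelude, which is isomorphic to the exterior-algebra complex.) -/
theorem result {R : Type u} [CommRing R] (M : Type u) [AddCommGroup M] [Module R M]
    (xs : List R) (a : R) (ha : a ∈ Ideal.span {x | x ∈ xs}) :
    Nonempty (Homotopy (a • 𝟙 (CohIII.koszulCx (ModuleCat.of R M) xs)) 0) := by
  have key : ∀ ys : List R, Ideal.span {x | x ∈ ys} ≤ nullIdeal (CohIII.koszulCx (ModuleCat.of R M) ys) := by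
    intro ys
    induction ys with
    | nil =>
      rw [Ideal.span_le]
      rintro x ⟨⟩
    | cons f fs ih =>
      rw [Ideal.span_le]
      intro x hx
      rcases List.mem_cons.1 hx with rfl | hx
      · exact ⟨homotopySelf (CohIII.koszulCx (ModuleCat.of R M) fs) x⟩
      · obtain ⟨h⟩ := ih (Ideal.subset_span hx)
        exact ⟨homotopyOfHomotopy f x h⟩
  exact key xs ha

end Groth.Agent.S14433
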