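import Groth.Statements.S0299
import Mathlib.Algebra.Category.ModuleCat.EnoughInjectives
import Mathlib.Algebra.Category.ModuleCat.Injective
import Mathlib.Order.Zorn

set_option autoImplicit false
universe u v

namespace Groth.Agent.S0299

open CategoryTheory in
theorem exists_injective_embedding (R : Type u) [CommRing R] (M : Type u) [AddCommGroup M]
    [Module R M] :
    ∃ (Q : Type u) (_ : AddCommGroup Q) (_ : Module R Q) (f : M →ₗ[R] Q),
      Function.Injective f ∧ Module.Injective R Q := by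
  obtain ⟨J, hJ, f, hf⟩ := EnoughInjectives.presentation (ModuleCat.of R M)
  refine ⟨J, inferInstance, inferInstance, f.hom, (ModuleCat.mono_iff_injective f).mp hf, ?_⟩
  exact Module.injective_module_of_injective_object R J

/-- `A` is essential in `B` (elementwise formulation). -/
def EssEl {R : Type u} [CommRing R] {Q : Type u} [AddCommGroup Q] [Module R Q]
    (A B : Submodule R Q) : Prop :=
  ∀ x ∈ B, x ≠ 0 → ∃ r : R, r • x ∈ A ∧ r • x ≠ 0

theorem exists_maximal_essential {R : Type u} [CommRing R] {Q : Type u} [AddCommGroup Q]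
    [Module R Q] (M₀ : Submodule R Q) :
    ∃ E : Submodule R Q, Maximal (fun E => M₀ ≤ E ∧ EssEl M₀ E) E := by
  apply zorn_le₀ {E : Submodule R Q | M₀ ≤ E ∧ EssEl M₀ E}
  intro c hc hchain
  rcases c.eq_empty_or_nonempty with rfl | hne
  · refine ⟨M₀, ⟨le_rfl, ?_⟩, fun z hz => False.elim hz⟩
    intro x hx hx0
    exact ⟨1, by simpa using hx, by simpa using hx0⟩
  · refine ⟨sSup c, ⟨?_, ?_⟩, fun z hz => le_sSup hz⟩
    · obtain ⟨y, hy⟩ := hne
      exact (hc hy).1.trans (le_sSup hy)
    · intro x hx hx0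
      rw [Submodule.mem_sSup_of_directed hne hchain.directedOn] at hx
      obtain ⟨y, hyc, hxy⟩ := hx
      exact (hc hyc).2 x hxy hx0

theorem exists_maximal_disjoint {R : Type u} [CommRing R] {Q : Type u} [AddCommGroup Q]
    [Module R Q] (E : Submodule R Q) :
    ∃ C : Submodule R Q, Maximal (fun C => C ⊓ E = ⊥) C := by
  apply zorn_le₀ {C : Submodule R Q | C ⊓ E = ⊥}
  intro c hc hchain
  rcases c.eq_empty_or_nonempty with rfl | hne
  · exact ⟨⊥, by simp, fun z hz => False.elim hz⟩
  · refine ⟨sSup c, ?_, fun z hz => le_sSup hz⟩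
    change sSup c ⊓ E = ⊥
    rw [eq_bot_iff]
    rintro x ⟨hx1, hx2⟩
    rw [SetLike.mem_coe, Submodule.mem_sSup_of_directed hne hchain.directedOn] at hx1
    obtain ⟨y, hyc, hxy⟩ := hx1
    have : y ⊓ E = ⊥ := hc hyc
    rw [← this]
    exact ⟨hxy, hx2⟩

theorem injective_of_maximal {R : Type u} [CommRing R] {Q : Type u} [AddCommGroup Q]
    [Module R Q] (hQ : Module.Injective R Q) (M₀ E : Submodule R Q)
    (hE : Maximal (fun E => M₀ ≤ E ∧ EssEl M₀ E) E) : Module.Injective R E := by
  obtain ⟨C, hC⟩ := exists_maximal_disjoint E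
  have hCE : C ⊓ E = ⊥ := hC.prop
  let j : E →ₗ[R] Q ⧸ C := C.mkQ.comp E.subtype
  have hj : Function.Injective j := by
    rw [← LinearMap.ker_eq_bot, eq_bot_iff]
    intro e he
    rw [LinearMap.mem_ker] at he
    have h1 : (e : Q) ∈ C := by
      have : C.mkQ (e : Q) = 0 := he
      rwa [Submodule.mkQ_apply, Submodule.Quotient.mk_eq_zero] at this
    have h2 : (e : Q) ∈ C ⊓ E := ⟨h1, e.2⟩
    rw [hCE] at h2
    exact Subtype.ext ((Submodule.mem_bot R).mp h2)
  -- essentiality of `j`
  have hjess : ∀ y : Q ⧸ C, y ≠ 0 → ∃ (r : R) (e : E), r • y = j e ∧ j e ≠ 0 := by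
    intro y hy
    obtain ⟨q, rfl⟩ := C.mkQ_surjective y
    have hq : q ∉ C := by
      intro hq
      apply hy
      rw [Submodule.mkQ_apply, Submodule.Quotient.mk_eq_zero]
      exact hq
    have hlt : ¬ (C ⊔ Submodule.span R {q}) ⊓ E = ⊥ := by
      intro hbot
      have hle : C ⊔ Submodule.span R {q} ≤ C := hC.le_of_ge hbot le_sup_left
      exact hq (hle (Submodule.mem_sup_right (Submodule.mem_span_singleton_self q)))
    rw [eq_bot_iff] at hlt
    obtain ⟨e, ⟨he1, he2⟩, he0⟩ := Set.not_subset.mp hlt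
    rw [SetLike.mem_coe, Submodule.mem_sup] at he1
    obtain ⟨c, hc, z, hz, rfl⟩ := he1
    rw [Submodule.mem_span_singleton] at hz
    obtain ⟨r, rfl⟩ := hz
    have hmk : C.mkQ (c + r • q) = r • C.mkQ q := by
      rw [map_add, map_smul]
      have : C.mkQ c = 0 := by
        rw [Submodule.mkQ_apply, Submodule.Quotient.mk_eq_zero]
        exact hc
      rw [this, zero_add]
    refine ⟨r, ⟨c + r • q, he2⟩, hmk.symm, ?_⟩
    intro h0
    have h1 : (⟨c + r • q, he2⟩ : E) = 0 := hj (by rw [h0, map_zero])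
    apply he0
    have := congrArg Subtype.val h1
    simpa using this
  -- extend the inclusion of `E` along `j`
  obtain ⟨φ, hφ⟩ := hQ.out j hj E.subtype
  have hφinj : ∀ y : Q ⧸ C, φ y = 0 → y = 0 := by
    intro y hy
    by_contra hy0
    obtain ⟨r, e, hre, hje⟩ := hjess y hy0
    apply hje
    have h1 : (e : Q) = 0 := by
      have := hφ e
      rw [← hre, map_smul, hy, smul_zero] at this
      exact this.symm
    have : e = 0 := Subtype.ext h1
    rw [this, map_zero]
  -- the range of `φ` is an essential extension of `M₀` containing `E`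
  have hEle : E ≤ LinearMap.range φ := by
    intro e he
    exact ⟨j ⟨e, he⟩, hφ ⟨e, he⟩⟩
  have hess : EssEl M₀ (LinearMap.range φ) := by
    rintro x ⟨y, rfl⟩ hx0
    have hy0 : y ≠ 0 := by
      rintro rfl
      exact hx0 (map_zero φ)
    obtain ⟨r, e, hre, hje⟩ := hjess y hy0
    have he0 : (e : Q) ≠ 0 := by
      intro h0
      apply hje
      have : e = 0 := Subtype.ext h0
      rw [this, map_zero]
    obtain ⟨r', hr'1, hr'2⟩ := hE.prop.2 e e.2 he0
    have hrx : r • φ y = (e : Q) := by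
      rw [← map_smul, hre]
      exact hφ e
    refine ⟨r' * r, ?_, ?_⟩
    · rw [mul_smul, hrx]
      exact hr'1
    · rw [mul_smul, hrx]
      exact hr'2
  have hrange : LinearMap.range φ ≤ E := hE.le_of_ge ⟨hE.prop.1.trans hEle, hess⟩ hEle
  -- the retraction of `Q` onto `E`
  let ρ : Q →ₗ[R] E := LinearMap.codRestrict E (φ.comp C.mkQ) (fun q => hrange ⟨C.mkQ q, rfl⟩)
  have hρ : ∀ e : E, ρ (e : Q) = e := by
    intro e
    apply Subtype.ext
    exact hφ e
  refine ⟨fun X Y _ _ _ _ f hf g => ?_⟩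
  obtain ⟨h, hh⟩ := hQ.out f hf (E.subtype.comp g)
  refine ⟨ρ.comp h, fun x => ?_⟩
  rw [LinearMap.comp_apply, hh]
  exact hρ (g x)

/-- Every module over a commutative ring has an injective hull, i.e. an essential injection into an
injective module. -/
theorem result (R : Type u) [CommRing R] (M : Type u) [AddCommGroup M] [Module R M] : ∃ (E : Type u) (_ : AddCommGroup E) (_ : Module R E) (f : M →ₗ[R] E), InjHull.IsInjectiveHull f := by
  obtain ⟨Q, _, _, ι, hι, hQ⟩ := exists_injective_embedding R M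
  obtain ⟨E, hE⟩ := exists_maximal_essential (LinearMap.range ι)
  have hinj : Module.Injective R E := injective_of_maximal hQ _ E hE
  let f : M →ₗ[R] E := LinearMap.codRestrict E ι (fun m => hE.prop.1 ⟨m, rfl⟩)
  refine ⟨E, inferInstance, inferInstance, f, ⟨⟨?_, ?_⟩, hinj⟩⟩
  · intro a b hab
    apply hι
    exact congrArg Subtype.val hab
  · intro N hN
    obtain ⟨x, hxN, hx0⟩ := (Submodule.ne_bot_iff N).mp hN
    have hx0' : (x : Q) ≠ 0 := fun h => hx0 (Subtype.ext h)
    obtain ⟨r, ⟨m, hm⟩, hr2⟩ := hE.prop.2 x x.2 hx0'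
    rw [Submodule.ne_bot_iff]
    refine ⟨r • x, ⟨N.smul_mem r hxN, ⟨m, ?_⟩⟩, ?_⟩
    · apply Subtype.ext
      exact hm
    · intro h0
      apply hr2
      have := congrArg Subtype.val h0
      simpa using this

end Groth.Agent.S0299
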