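import Groth.Statements.S5168
import Mathlib.RingTheory.Filtration
import Mathlib.Algebra.Module.Injective

set_option autoImplicit false
universe u
open InjHull

namespace Groth.Agent.S5168

open LocCoh

theorem exists_pow_kill {A : Type u} [CommRing A] (J : Ideal A) {H : Type u} [AddCommGroup H] [Module A H]
    (hH : LocCoh.IsPowerTorsion J H) (K : Submodule A H) (hK : K.FG) :
    ∃ k : ℕ, ∀ a ∈ J ^ k, ∀ m ∈ K, a • m = 0 := by
  induction K, hK using Submodule.fg_induction with
  | singleton x =>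
    obtain ⟨n, hn⟩ := hH x
    refine ⟨n, fun a ha m hm ↦ ?_⟩
    obtain ⟨r, rfl⟩ := Submodule.mem_span_singleton.mp hm
    rw [smul_comm, hn a ha, smul_zero]
  | sup N₁ N₂ _ _ h₁ h₂ =>
    obtain ⟨k₁, h₁⟩ := h₁
    obtain ⟨k₂, h₂⟩ := h₂
    refine ⟨max k₁ k₂, fun a ha m hm ↦ ?_⟩
    obtain ⟨m₁, hm₁, m₂, hm₂, rfl⟩ := Submodule.mem_sup.mp hm
    rw [smul_add, h₁ a (Ideal.pow_le_pow_right (le_max_left _ _) ha) m₁ hm₁,
      h₂ a (Ideal.pow_le_pow_right (le_max_right _ _) ha) m₂ hm₂, add_zero]


/-- Let A be a Noetherian ring, J an ideal and H a J-power torsion A-module. Then H is injective if and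
only if Hom_A(−, H) is exact on finite A-modules killed by a power of J, i.e. every linear map to H
from a submodule of such a module M extends to M. -/
theorem result (A : Type u) [CommRing A] [IsNoetherianRing A] (J : Ideal A) (H : Type u) [AddCommGroup H] [Module A H] (hH : LocCoh.IsPowerTorsion J H) : Module.Injective A H ↔ ∀ (M : Type u) [AddCommGroup M] [Module A M], Module.Finite A M → (∃ k : ℕ, (J ^ k) • (⊤ : Submodule A M) = ⊥) → ∀ (N : Submodule A M) (g : N →ₗ[A] H), ∃ g' : M →ₗ[A] H, g'.comp N.subtype = g := by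
  constructor
  · intro hinj M _ _ _ _ N g
    obtain ⟨h, hh⟩ := hinj.out N.subtype N.injective_subtype g
    exact ⟨h, LinearMap.ext hh⟩
  · intro hext
    apply Module.Baer.injective
    intro I g
    -- J^k kills the range of g
    have hfg : (LinearMap.range g).FG := by
      rw [LinearMap.range_eq_map]
      exact Submodule.FG.map g (Module.Finite.fg_top)
    obtain ⟨k, hk⟩ := exists_pow_kill J hH (LinearMap.range g) hfg
    -- Artin-Rees
    obtain ⟨c, hc⟩ := Ideal.exists_pow_inf_eq_pow_smul J (I : Submodule A A)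
    set n := k + c with hn
    have hkill : ∀ (x : A) (hx : x ∈ I), x ∈ J ^ n → g ⟨x, hx⟩ = 0 := by
      intro x hx hxn
      have hmem : x ∈ J ^ n • (⊤ : Submodule A A) ⊓ I := by
        refine ⟨?_, hx⟩
        simpa using hxn
      rw [hc n (by omega)] at hmem
      have hnc : n - c = k := by omega
      rw [hnc] at hmem
      have key : ∃ hx' : x ∈ I, g ⟨x, hx'⟩ = 0 := by
        refine Submodule.smul_induction_on hmem ?_ ?_
        · intro a ha y hy
          have hyI : y ∈ I := hy.2
          refine ⟨I.smul_mem a hyI, ?_⟩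
          have : (⟨a • y, I.smul_mem a hyI⟩ : I) = a • ⟨y, hyI⟩ := rfl
          rw [this, map_smul]
          exact hk a ha _ ⟨_, rfl⟩
        · rintro y z ⟨hy, hy0⟩ ⟨hz, hz0⟩
          refine ⟨I.add_mem hy hz, ?_⟩
          have : (⟨y + z, I.add_mem hy hz⟩ : I) = ⟨y, hy⟩ + ⟨z, hz⟩ := rfl
          rw [this, map_add, hy0, hz0, add_zero]
      exact key.2
    let q : A →ₗ[A] A ⧸ J ^ n := (J ^ n).mkQ
    let N : Submodule A (A ⧸ J ^ n) := Submodule.map q I
    let φ : I →ₗ[A] N := q.submoduleMap I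
    have hφ : Function.Surjective φ := q.submoduleMap_surjective I
    have hker : LinearMap.ker φ ≤ LinearMap.ker g := by
      intro x hx
      rw [LinearMap.mem_ker] at hx ⊢
      have h1 : q x.1 = 0 := congr($(hx).1)
      have h2 : x.1 ∈ J ^ n := by
        exact Ideal.Quotient.eq_zero_iff_mem.mp h1
      exact hkill x.1 x.2 h2
    let gbar : N →ₗ[A] H :=
      (Submodule.liftQ _ g hker).comp (φ.quotKerEquivOfSurjective hφ).symm.toLinearMap
    have hgbar : ∀ x : I, gbar (φ x) = g x := by
      intro x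
      have : (φ.quotKerEquivOfSurjective hφ).symm (φ x) = Submodule.Quotient.mk x := by
        rw [LinearEquiv.symm_apply_eq]
        rfl
      simp only [gbar, LinearMap.comp_apply, LinearEquiv.coe_coe, this, Submodule.liftQ_apply]
    have hkillM : (J ^ n) • (⊤ : Submodule A (A ⧸ J ^ n)) = ⊥ := by
      rw [eq_bot_iff]
      refine Submodule.smul_le.mpr fun a ha m _ ↦ ?_
      obtain ⟨b, rfl⟩ := Ideal.Quotient.mk_surjective m
      rw [Submodule.mem_bot]
      change (Ideal.Quotient.mk (J ^ n)) (a * b) = 0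
      exact Ideal.Quotient.eq_zero_iff_mem.mpr (Ideal.mul_mem_right _ _ ha)
    obtain ⟨g', hg'⟩ := hext (A ⧸ J ^ n) inferInstance ⟨n, hkillM⟩ N gbar
    refine ⟨g'.comp q, fun x hx ↦ ?_⟩
    have := congr($hg' (φ ⟨x, hx⟩))
    rw [hgbar] at this
    exact this

end Groth.Agent.S5168
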