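import Groth.Statements.S2089
import Groth.Agent.Lib.DepthBasic

set_option autoImplicit false
universe u
open CAlg

namespace Groth.Agent.S2089

/-- Let `R` be a Noetherian local ring and `M` a finite `R`-module. For every associated prime `𝔭` of
`M` the depth of `M` is at most the dimension of `R/𝔭`. -/
theorem result {R M : Type u} [CommRing R] [IsLocalRing R] [IsNoetherianRing R]
    [AddCommGroup M] [Module R M] [Module.Finite R M] (p : Ideal R) (hp : p ∈ associatedPrimes R M) :
    ((LocCoh.depth R M : ℕ∞) : WithBot ℕ∞) ≤ ringKrullDim (R ⧸ p) := by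
  have hnt : Nontrivial M := by
    by_contra h
    rw [not_nontrivial_iff_subsingleton] at h
    rw [associatedPrimes.eq_empty_of_subsingleton] at hp
    exact hp
  have hne : IsLocalRing.maximalIdeal R • (⊤ : Submodule R M) ≠ ⊤ := by
    intro h
    have := Submodule.eq_bot_of_le_smul_of_le_jacobson_bot (IsLocalRing.maximalIdeal R)
      (⊤ : Submodule R M) Module.Finite.fg_top h.ge
      (IsLocalRing.jacobson_eq_maximalIdeal _ bot_ne_top).ge
    exact top_ne_bot this
  have hprime : p.IsPrime := hp.isPrime
  have : Nontrivial (R ⧸ p) := Ideal.Quotient.nontrivial_iff.mpr hprime.ne_top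
  obtain ⟨d, hd⟩ | hbot : (∃ d : ℕ∞, ringKrullDim (R ⧸ p) = d) ∨ ringKrullDim (R ⧸ p) = ⊥ := by
    cases h : ringKrullDim (R ⧸ p) with
    | bot => exact Or.inr rfl
    | coe d => exact Or.inl ⟨d, rfl⟩
  · rw [hd, WithBot.coe_le_coe]
    unfold LocCoh.depth LocCoh.idealDepth
    rw [if_neg hne]
    refine iSup_le fun rs => iSup_le fun hrs => ?_
    have := Groth.Agent.Lib.DepthBasic.length_le_ringKrullDim_quotient rs hp hrs.1 hrs.2
    rw [hd, WithBot.coe_le_coe] at this
    exact this
  · have h0 := ringKrullDim_nonneg_of_nontrivial (R := R ⧸ p)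
    rw [hbot] at h0
    simp at h0

end Groth.Agent.S2089
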