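import Groth.Statements.S0817
import Groth.Agent.Lib.H29LocCohReg
import Groth.Agent.Lib.H29Melkersson
import Groth.Agent.Lib.H8DepthBC2
-- import your own Groth.Agent.* helpers here

set_option autoImplicit false
universe u
open LocCoh

namespace Groth.Agent.S0817

open Groth.Agent.Lib.LocCohLES Groth.Agent.Lib.LocCohTorsion Groth.Agent.Lib.LocCohH0
  Groth.Agent.Lib.H29LocCohReg Groth.Agent.Lib.H29TorsionInj Groth.Agent.Lib.H47Reflexive
  IsLocalRing

variable {A : Type u} [CommRing A] [IsNoetherianRing A] [IsLocalRing A]

/-- a finite `𝔪`-power torsion module is Artinian. -/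
theorem isArtinian_of_fg_torsion (N : Type u) [AddCommGroup N] [Module A N] [Module.Finite A N]
    (hN : LocCoh.IsPowerTorsion (maximalIdeal A) N) : IsArtinian A N := by
  haveI : IsNoetherian A N := isNoetherian_of_isNoetherianRing_of_finite A N
  haveI : IsArtinian A (Submodule.torsionBySet A N (maximalIdeal A : Set A)) := by
    apply Groth.Agent.Lib.H8DepthBC.isArtinian_of_killed
    intro a ha n
    apply Subtype.ext
    exact (Submodule.mem_torsionBySet_iff _ _).mp n.2 ⟨a, ha⟩
  exact Groth.Agent.Lib.H29Melkersson.isArtinian_of_torsionBySet_ideal (maximalIdeal A)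
    (IsNoetherian.noetherian _) hN

theorem step (k : ℕ)
    (ih : ∀ (M : Type u) [AddCommGroup M] [Module A M] [Module.Finite A M],
      IsArtinian A (LocCoh.H (maximalIdeal A) k M))
    (M : Type u) [AddCommGroup M] [Module A M] [Module.Finite A M]
    (hTF : TF (maximalIdeal A) M) : IsArtinian A (LocCoh.H (maximalIdeal A) (k + 1) M) := by
  by_cases hM : Subsingleton M
  · haveI : Subsingleton (LocCoh.H (maximalIdeal A) (k + 1) M) :=
      subsingleton_H_of_isPowerTorsion (maximalIdeal A) (k + 1) (Nat.succ_pos k) M
        (fun m => ⟨0, fun a _ => by rw [Subsingleton.elim m 0, smul_zero]⟩)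
    exact isArtinian_of_finite
  · haveI : Nontrivial M := not_subsingleton_iff_nontrivial.mp hM
    have hIM : maximalIdeal A • (⊤ : Submodule A M) ≠ ⊤ :=
      Groth.Agent.Lib.DepthRees.maximalIdeal_smul_top_ne_top M
    obtain ⟨x, hxm, hx⟩ := exists_regular_of_tf (maximalIdeal A) M hIM hTF
    haveI := ih (M ⧸ LinearMap.range (mulMap (M := M) x))
    haveI : IsArtinian A (Submodule.torsionBy A (LocCoh.H (maximalIdeal A) (k + 1) M) x) :=
      isArtinian_of_le (torsionBy_le_range_Hδ (maximalIdeal A) hx k)
    exact Groth.Agent.Lib.H29Melkersson.isArtinian_of_torsionBy x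
      (exists_pow_smul_eq_zero (maximalIdeal A) M hxm (k + 1))

theorem main (i : ℕ) : ∀ (M : Type u) [AddCommGroup M] [Module A M] [Module.Finite A M],
    IsArtinian A (LocCoh.H (maximalIdeal A) i M) := by
  induction i with
  | zero =>
    intro M _ _ _
    haveI : IsNoetherian A M := isNoetherian_of_isNoetherianRing_of_finite A M
    haveI : IsArtinian A (DRing.torsionSub (maximalIdeal A) M) :=
      isArtinian_of_fg_torsion _ (isPowerTorsion_torsionSub (maximalIdeal A) M)
    exact isArtinian_of_linearEquiv (gammaEquiv (maximalIdeal A) M).symm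
  | succ k ih =>
    intro M _ _ _
    suffices h : IsArtinian A (LocCoh.H (maximalIdeal A) (k + 1)
        (M ⧸ DRing.torsionSub (maximalIdeal A) M)) by
      have hb := Hmap_mkQ_torsionSub_bijective (maximalIdeal A) M (k + 1) (Nat.succ_pos k)
      exact isArtinian_of_injective
        (Hmap (maximalIdeal A) (DRing.torsionSub (maximalIdeal A) M).mkQ (k + 1)) hb.1
    have hTF : TF (maximalIdeal A) (M ⧸ DRing.torsionSub (maximalIdeal A) M) :=
      tf_quotient_torsionSub (maximalIdeal A) M (IsNoetherian.noetherian _)
    exact step k ih _ hTF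

/-- Take a Noetherian local ring (A, 𝔪) and a finitely generated A-module M. For each i, the local
cohomology module H^i_𝔪(M) is Artinian over A (its submodules satisfy the descending chain
condition). (Part (2), about cohomology on the punctured spectrum, is not stated.) -/
theorem result (A : Type u) [CommRing A] [IsNoetherianRing A]
    [IsLocalRing A] (M : Type u) [AddCommGroup M] [Module A M] [Module.Finite A M] (i : ℕ) :
    IsArtinian A (LocCoh.H (IsLocalRing.maximalIdeal A) i M) := by
  exact main i M

end Groth.Agent.S0817
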