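-- Statement S7038; proof by helper61.
import Groth.Statements.S7038
import Mathlib.RingTheory.Finiteness.Ideal

set_option autoImplicit false
universe u
open LocCoh

namespace Groth.Agent.S7038

/-- For an ideal I of a commutative ring R and an R-module M, if every element of M is killed by a power
of I then the support of M is contained in the closed set V(I); conversely, when I is finitely
generated and the support of M is contained in V(I), every element of M is killed by a power of I.
(Finite generation is used only for the converse.) -/
theorem result {R : Type u} [CommRing R] (I : Ideal R)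
    (M : Type u) [AddCommGroup M] [Module R M] :
    (LocCoh.IsPowerTorsion I M → Module.support R M ⊆ PrimeSpectrum.zeroLocus (I : Set R)) ∧
    (I.FG → Module.support R M ⊆ PrimeSpectrum.zeroLocus (I : Set R) → LocCoh.IsPowerTorsion I M) := by
  constructor
  · intro h p hp
    rw [Module.mem_support_iff'] at hp
    obtain ⟨m, hm⟩ := hp
    obtain ⟨n, hn⟩ := h m
    rw [PrimeSpectrum.mem_zeroLocus]
    have hle : I ^ n ≤ p.asIdeal := by
      intro a ha
      by_contra hap
      exact hm a hap (hn a ha)
    exact Ideal.IsPrime.le_of_pow_le hle
  · intro hI hsupp m
    let J : Ideal R := (Submodule.span R {m}).annihilator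
    have hJ : ∀ r : R, r ∈ J ↔ r • m = 0 := fun r => Submodule.mem_annihilator_span_singleton m r
    have hle : I ≤ J.radical := by
      rw [Ideal.radical_eq_sInf]
      refine le_sInf ?_
      rintro P ⟨hJP, hP⟩
      have hmem : (⟨P, hP⟩ : PrimeSpectrum R) ∈ Module.support R M := by
        rw [Module.mem_support_iff']
        refine ⟨m, fun r hr h0 => hr (hJP ((hJ r).mpr h0))⟩
      have := hsupp hmem
      rw [PrimeSpectrum.mem_zeroLocus] at this
      exact this
    obtain ⟨n, hn⟩ := Ideal.exists_pow_le_of_le_radical_of_fg hle hI
    exact ⟨n, fun a ha => (hJ a).mp (hn ha)⟩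

end Groth.Agent.S7038
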