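import Groth.Statements.S0484
import Mathlib.Algebra.Category.ModuleCat.Presheaf.Generator
import Mathlib.Algebra.Category.ModuleCat.Presheaf.Colimits
import Mathlib.Algebra.Category.ModuleCat.Colimits
import Mathlib.Algebra.Category.Grp.FilteredColimits
import Mathlib.Algebra.Category.ModuleCat.Sheaf.Colimits
import Mathlib.Algebra.Category.ModuleCat.Sheaf.Limits
import Mathlib.CategoryTheory.Abelian.GrothendieckAxioms.FunctorCategory
-- import your own Groth.Agent.* helpers here

set_option autoImplicit false
universe u
open CategoryTheory
open CohSite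

namespace Groth.Agent.S0484

open CategoryTheory.Limits

section
variable {C : Type u} [SmallCategory C] (R₀ : Cᵒᵖ ⥤ RingCat.{u})

theorem ab5_presheaf (K : Type u) [SmallCategory K] [IsFiltered K] :
    HasExactColimitsOfShape K (PresheafOfModules.{u} R₀) :=
  HasExactColimitsOfShape.domain_of_functor K (PresheafOfModules.toPresheaf.{u} R₀)

end

section
variable {C : Type u} [SmallCategory C] (J : GrothendieckTopology C)
    (R : Sheaf J RingCat.{u})

theorem ab5_sheaf (K : Type u) [SmallCategory K] [IsFiltered K] :
    HasExactColimitsOfShape K (SheafOfModules.{u} R) := by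
  have := ab5_presheaf R.obj K
  exact Adjunction.hasExactColimitsOfShape
    (PresheafOfModules.sheafificationAdjunction.{u} (𝟙 R.obj)) K

/-- The sheafified free modules on representable presheaves. -/
noncomputable def gen (X : C) : SheafOfModules.{u} R :=
  (PresheafOfModules.sheafification.{u} (𝟙 R.obj)).obj
    ((yoneda ⋙ PresheafOfModules.free.{u} R.obj).obj X)

theorem gen_isSeparating : ObjectProperty.IsSeparating (.ofObj (gen J R)) := by
  intro M N f g hfg
  let adj := PresheafOfModules.sheafificationAdjunction.{u} (𝟙 R.obj)
  refine (SheafOfModules.forget.{u} R ⋙ PresheafOfModules.restrictScalars (𝟙 R.obj)).map_injective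
    (PresheafOfModules.freeYoneda.isSeparating R.obj _ _ ?_)
  rintro _ ⟨X⟩ a
  apply (adj.homEquiv _ _).symm.injective
  rw [Adjunction.homEquiv_naturality_right_symm, Adjunction.homEquiv_naturality_right_symm]
  exact hfg _ (ObjectProperty.ofObj_apply _ X) ((adj.homEquiv _ _).symm a)

theorem hasSeparator_sheaf : HasSeparator (SheafOfModules.{u} R) :=
  ⟨_, (gen_isSeparating J R).isSeparator_coproduct⟩

end

/-- For a sheaf of rings O on a small site, the category of O-modules has exact filtered colimits and a
generator, so it is a Grothendieck abelian category. -/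
theorem result {C : Type u} [SmallCategory C] (J : GrothendieckTopology C)
    (R : Sheaf J RingCat.{u}) : IsGrothendieckAbelian.{u} (SheafOfModules.{u} R) := by
  have h5 : AB5OfSize.{u, u} (SheafOfModules.{u} R) := ⟨fun K _ _ => ab5_sheaf J R K⟩
  have hs := hasSeparator_sheaf J R
  exact { }

end Groth.Agent.S0484
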