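import Groth.Statements.S0864
import Mathlib.CategoryTheory.Sites.Adjunction

set_option autoImplicit false
universe u
open CategoryTheory
open CohSite

namespace Groth.Agent.S0864

/-- A totally acyclic abelian sheaf F on a site satisfies H^p(U, F) = 0 for every object U and every p >
0. -/
theorem result {C : Type u} [SmallCategory C] {J : GrothendieckTopology C}
    (F : Sheaf J AddCommGrpCat.{u}) (hF : CohCx.IsTotallyAcyclic F) (U : C) (p : ℕ) :
    Subsingleton (CohSite.HU F (p + 1) U) := by
  have e : (presheafToSheaf J AddCommGrpCat.{u}).obj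
      (((presheafToSheaf J (Type u)).obj (yoneda.obj U)).obj ⋙ AddCommGrpCat.free.{u}) ≅
      (presheafToSheaf J AddCommGrpCat.{u}).obj (yoneda.obj U ⋙ AddCommGrpCat.free.{u}) :=
    (presheafToSheafCompComposeAndSheafifyIso J AddCommGrpCat.free.{u}).app (yoneda.obj U)
  have h := hF ((presheafToSheaf J (Type u)).obj (yoneda.obj U)) p
  refine ⟨fun x y => ?_⟩
  change Abelian.Ext ((presheafToSheaf J AddCommGrpCat.{u}).obj
    (yoneda.obj U ⋙ AddCommGrpCat.free.{u})) F (p + 1) at x y
  have hinj : Function.Injective
      (fun z : Abelian.Ext ((presheafToSheaf J AddCommGrpCat.{u}).obj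
        (yoneda.obj U ⋙ AddCommGrpCat.free.{u})) F (p + 1) =>
        (Abelian.Ext.mk₀ e.hom).comp z (zero_add (p + 1))) := by
    intro a b hab
    have := congrArg (fun w => (Abelian.Ext.mk₀ e.inv).comp w (zero_add (p + 1))) hab
    simpa [← Abelian.Ext.comp_assoc_of_second_deg_zero] using this
  exact hinj (Subsingleton.elim _ _)

end Groth.Agent.S0864
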