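import Groth.Statements.S5162
import Groth.Agent.Lib.LocCohLES

set_option autoImplicit false
universe u
open CategoryTheory
open LocCoh

namespace Groth.Agent.S5162
open Abelian Groth.Agent.Lib.LocCohConcrete Groth.Agent.Lib.LocCohLES

variable {A : Type u} [CommRing A]

section LES
variable {S : ShortComplex (ModuleCat.{u} A)} (hS : S.ShortExact) (Y : ModuleCat.{u} A)

include hS in
/-- middle vanishing -/
theorem sub_mid (i : ℕ) (h1 : Subsingleton (Ext.{u} S.X₁ Y i)) (h3 : Subsingleton (Ext.{u} S.X₃ Y i)) :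
    Subsingleton (Ext.{u} S.X₂ Y i) := by
  suffices ∀ x : Ext.{u} S.X₂ Y i, x = 0 from ⟨fun x y => by rw [this x, this y]⟩
  intro x
  obtain ⟨z, rfl⟩ := Ext.contravariant_sequence_exact₂ hS Y x (Subsingleton.elim _ _)
  rw [Subsingleton.elim z 0, Ext.comp_zero]

include hS in
/-- injectivity of `g^*` in degree `i` when `Ext^{i-1}(X₁, Y) = 0`. -/
theorem inj_g (i : ℕ) (h : ∀ j, j + 1 = i → Subsingleton (Ext.{u} S.X₁ Y j)) (x : Ext.{u} S.X₃ Y i)
    (hx : (Ext.mk₀ S.g).comp x (zero_add i) = 0) : x = 0 := by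
  cases i with
  | zero =>
    have := hS.epi_g
    apply Ext.precomp_mk₀_injective_of_epi Y S.g
    simpa using hx
  | succ j =>
    haveI := h j rfl
    obtain ⟨z, rfl⟩ := Ext.contravariant_sequence_exact₃ hS Y x hx (n₀ := j) (by omega)
    rw [Subsingleton.elim z 0, Ext.comp_zero]

end LES


section Main
variable [IsNoetherianRing A] (J : Ideal A) (G : Type u) [AddCommGroup G] [Module A G]

/-- `Ext^i(F,G) = 0` for all finite `F` supported in `V(J)`. -/
def VanS (i : ℕ) : Prop :=
  ∀ (F : Type u) [AddCommGroup F] [Module A F], Module.Finite A F →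
    Module.support A F ⊆ PrimeSpectrum.zeroLocus (J : Set A) →
    Subsingleton (Ext.{u} (ModuleCat.of A F) (ModuleCat.of A G) i)

theorem support_quot (a : Ideal A) :
    Module.support A (A ⧸ a) = PrimeSpectrum.zeroLocus (a : Set A) := by
  rw [Module.support_eq_zeroLocus, Ideal.annihilator_quotient]

theorem zeroLocus_pow_subset (m : ℕ) :
    PrimeSpectrum.zeroLocus ((J ^ m : Ideal A) : Set A) ⊆ PrimeSpectrum.zeroLocus (J : Set A) := by
  intro p hp
  rw [PrimeSpectrum.mem_zeroLocus, SetLike.coe_subset_coe] at hp ⊢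
  exact p.2.le_of_pow_le hp

/-- the quotient map `A/J^m → A/a` for `J^m ≤ a`. -/
def quotMap (a : Ideal A) (m : ℕ) (hm : J ^ m ≤ a) : Q J m ⟶ ModuleCat.of A (A ⧸ a) :=
  ModuleCat.ofHom (Submodule.mapQ (J ^ m) a LinearMap.id (by simpa using hm))

theorem proj_quotMap (a : Ideal A) {k m : ℕ} (h : k ≤ m) (hk : J ^ k ≤ a) :
    proj J h ≫ quotMap J a k hk = quotMap J a m ((Ideal.pow_le_pow_right h).trans hk) := by
  ext : 1
  apply LinearMap.ext
  intro x
  obtain ⟨x, rfl⟩ := Submodule.Quotient.mk_surjective _ x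
  rfl

theorem quotMap_surjective (a : Ideal A) (m : ℕ) (hm : J ^ m ≤ a) :
    Function.Surjective (quotMap J a m hm).hom := by
  intro x
  obtain ⟨x, rfl⟩ := Submodule.Quotient.mk_surjective _ x
  exact ⟨Submodule.Quotient.mk x, rfl⟩

/-- Key step: if `H^i_J(G) = 0` and `Ext^{i-1}(F,G) = 0` for all finite `F` supported in `V(J)`,
then `Ext^i(A/a, G) = 0` for every ideal `a ⊇ J^k`. -/
theorem ext_quot_zero (i : ℕ) (hH : Subsingleton (LocCoh.H J i G))
    (hprev : ∀ j, j + 1 = i → VanS J G j) (a : Ideal A) (k : ℕ) (hk : J ^ k ≤ a) :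
    Subsingleton (Ext.{u} (ModuleCat.of A (A ⧸ a)) (ModuleCat.of A G) i) := by
  suffices ∀ x : Ext.{u} (ModuleCat.of A (A ⧸ a)) (ModuleCat.of A G) i, x = 0 from
    ⟨fun x y => by rw [this x, this y]⟩
  intro x
  have h0 : HιE J G i k ((Ext.mk₀ (quotMap J a k hk)).comp x (zero_add i)) = 0 :=
    Subsingleton.elim _ _
  obtain ⟨m, hkm, hm⟩ := (HιE_eq_zero_iff J G i _).1 h0
  rw [Ext.mk₀_comp_mk₀_assoc, proj_quotMap] at hm
  set g := (quotMap J a m ((Ideal.pow_le_pow_right hkm).trans hk)).hom with hg
  have hgs : Function.Surjective g := quotMap_surjective J a m _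
  have hS := ses_shortExact (LinearMap.ker g).subtype g (Submodule.injective_subtype _)
    (LinearMap.exact_subtype_ker_map g) hgs
  refine inj_g hS (ModuleCat.of A G) i ?_ x hm
  intro j hj
  refine hprev j hj _ inferInstance ?_
  refine (Module.support_subset_of_injective _ (Submodule.injective_subtype _)).trans ?_
  rw [support_quot]
  exact zeroLocus_pow_subset J m

/-- dévissage: vanishing of `Ext^i(A/q, G)` for `q ∈ S` gives vanishing of `Ext^i(N,G)` for all finite
`N` supported in `S`. -/
theorem dev (i : ℕ) (S : Set (PrimeSpectrum A))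
    (h : ∀ q ∈ S, Subsingleton (Ext.{u} (ModuleCat.of A (A ⧸ q.asIdeal)) (ModuleCat.of A G) i))
    (N : Type u) [AddCommGroup N] [Module A N] (hN : Module.Finite A N)
    (hs : Module.support A N ⊆ S) :
    Subsingleton (Ext.{u} (ModuleCat.of A N) (ModuleCat.of A G) i) := by
  induction hN using IsNoetherianRing.induction_on_isQuotientEquivQuotientPrime A with
  | subsingleton N =>
    have : Limits.IsZero (ModuleCat.of A N) := ModuleCat.isZero_of_subsingleton _
    suffices ∀ x : Ext.{u} (ModuleCat.of A N) (ModuleCat.of A G) i, x = 0 from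
      ⟨fun x y => by rw [this x, this y]⟩
    intro x
    rw [← Ext.mk₀_id_comp x, this.eq_of_src (𝟙 _) 0, Ext.mk₀_zero, Ext.zero_comp]
  | quotient N p e =>
    have hp : p ∈ S := by
      apply hs
      rw [e.support_eq, support_quot]
      exact (PrimeSpectrum.mem_zeroLocus _ _).2 le_rfl
    have := h p hp
    let e' : ModuleCat.of A N ≅ ModuleCat.of A (A ⧸ p.asIdeal) := e.toModuleIso
    suffices ∀ x : Ext.{u} (ModuleCat.of A N) (ModuleCat.of A G) i, x = 0 from
      ⟨fun x y => by rw [this x, this y]⟩
    intro x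
    have h1 : x = (Ext.mk₀ e'.hom).comp ((Ext.mk₀ e'.inv).comp x (zero_add i)) (zero_add i) := by
      rw [Ext.mk₀_comp_mk₀_assoc, e'.hom_inv_id, Ext.mk₀_id_comp]
    rw [h1, Subsingleton.elim ((Ext.mk₀ e'.inv).comp x (zero_add i)) 0, Ext.comp_zero]
  | exact N₁ N₂ N₃ f g hf hg hfg h₁ h₃ =>
    rw [Module.support_of_exact hfg hf hg] at hs
    exact sub_mid (ses_shortExact f g hf hfg hg) (ModuleCat.of A G) i
      (h₁ (Set.subset_union_left.trans hs)) (h₃ (Set.subset_union_right.trans hs))

/-- direction (⇒) of (1). -/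
theorem vanS_of_H (n : ℕ) (hH : ∀ i, i < n → Subsingleton (LocCoh.H J i G)) :
    ∀ i, i < n → VanS J G i := by
  intro i
  induction i using Nat.strong_induction_on with
  | _ i ih =>
    intro hi F _ _ hF hs
    refine dev G i _ ?_ F hF hs
    intro q hq
    refine ext_quot_zero J G i (hH i hi) (fun j hj => ih j (by omega) (by omega)) q.asIdeal 1 ?_
    rw [pow_one]
    exact hq

/-- direction (⇐) of (1), one degree. -/
theorem H_of_vanS (i : ℕ) (h : VanS J G i) : Subsingleton (LocCoh.H J i G) := by
  suffices ∀ y : LocCoh.H J i G, y = 0 from ⟨fun x y => by rw [this x, this y]⟩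
  intro y
  obtain ⟨m, x, rfl⟩ := exists_rep J G i y
  have : Subsingleton (Ext.{u} (Q J m) (ModuleCat.of A G) i) := by
    refine h _ inferInstance ?_
    rw [support_quot]
    exact zeroLocus_pow_subset J m
  rw [Subsingleton.elim x 0, map_zero]


open TensorProduct in
omit [IsNoetherianRing A] in
theorem exists_map_ne_zero (F : Type u) [AddCommGroup F] [Module A F] [Module.Finite A F]
    (p : PrimeSpectrum A) (hp : p ∈ Module.support A F) :
    ∃ φ : F →ₗ[A] A ⧸ p.asIdeal, φ ≠ 0 := by
  classical
  let κ := p.asIdeal.ResidueField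
  haveI : Nontrivial (κ ⊗[A] F) :=
    (Module.mem_support_iff_nontrivial_residueField_tensorProduct p).1 hp
  obtain ⟨v, hv⟩ := exists_ne (0 : κ ⊗[A] F)
  obtain ⟨ℓ, hℓ⟩ : ∃ ℓ : Module.Dual κ (κ ⊗[A] F), ℓ v ≠ 0 := by
    by_contra! h
    exact hv ((Module.forall_dual_apply_eq_zero_iff κ v).1 h)
  let ψ : F →ₗ[A] κ := (ℓ.restrictScalars A) ∘ₗ (TensorProduct.mk A κ F 1)
  have hψ : ψ ≠ 0 := by
    intro h0
    apply hℓ
    have key : ∀ w : κ ⊗[A] F, ℓ w = 0 := by
      intro w
      induction w using TensorProduct.induction_on with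
      | zero => simp
      | tmul c f =>
        have h1 : c ⊗ₜ[A] f = c • ((1 : κ) ⊗ₜ[A] f) := by
          rw [TensorProduct.smul_tmul', smul_eq_mul, mul_one]
        have h2 : ℓ ((1 : κ) ⊗ₜ[A] f) = ψ f := rfl
        rw [h1, map_smul, h2, h0]
        simp
      | add x y hx hy => rw [map_add, hx, hy, add_zero]
    exact key v
  obtain ⟨s, hs⟩ := (Module.Finite.fg_top : (⊤ : Submodule A F).FG)
  obtain ⟨b, hb⟩ := IsLocalization.exist_integer_multiples_of_finset
    (nonZeroDivisors (A ⧸ p.asIdeal)) (s.image ψ)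
  obtain ⟨b', hb'⟩ := Ideal.Quotient.mk_surjective (b : A ⧸ p.asIdeal)
  let ι : (A ⧸ p.asIdeal) →ₗ[A] κ := (Algebra.linearMap (A ⧸ p.asIdeal) κ).restrictScalars A
  have hι : Function.Injective ι := IsFractionRing.injective (A ⧸ p.asIdeal) κ
  let ψ' : F →ₗ[A] κ := b' • ψ
  have hsmul : ∀ x : κ, b' • x = (b : A ⧸ p.asIdeal) • x := by
    intro x
    rw [← hb', Algebra.smul_def, Algebra.smul_def, IsScalarTower.algebraMap_apply A (A ⧸ p.asIdeal) κ]
    rfl
  have hr : ∀ f : F, ψ' f ∈ LinearMap.range ι := by
    intro f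
    have hf : f ∈ Submodule.span A (s : Set F) := by rw [hs]; trivial
    induction hf using Submodule.span_induction with
    | mem x hx =>
      obtain ⟨c, hc⟩ := hb (ψ x) (Finset.mem_image_of_mem ψ hx)
      refine ⟨c, ?_⟩
      show algebraMap (A ⧸ p.asIdeal) κ c = b' • ψ x
      rw [hc, hsmul]
    | zero => simp
    | add x y _ _ hx hy => rw [map_add]; exact Submodule.add_mem _ hx hy
    | smul a x _ hx => rw [map_smul]; exact Submodule.smul_mem _ a hx
  let φ : F →ₗ[A] A ⧸ p.asIdeal :=
    (LinearEquiv.ofInjective ι hι).symm.toLinearMap ∘ₗ (ψ'.codRestrict (LinearMap.range ι) hr)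
  refine ⟨φ, ?_⟩
  intro h0
  apply hψ
  ext f
  have h1 : φ f = 0 := by rw [h0]; rfl
  have h2 : ψ' f = 0 := by
    have h3 : (ψ'.codRestrict (LinearMap.range ι) hr) f = 0 := by
      have := (LinearEquiv.ofInjective ι hι).symm.injective (a₁ := (ψ'.codRestrict (LinearMap.range ι) hr) f) (a₂ := 0)
      apply this
      rw [map_zero]
      exact h1
    exact congrArg Subtype.val h3
  have h4 : b' • ψ f = 0 := h2
  rw [hsmul, Algebra.smul_def, mul_eq_zero] at h4
  rcases h4 with h4 | h4
  · exfalso
    have : (b : A ⧸ p.asIdeal) = 0 := by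
      apply IsFractionRing.injective (A ⧸ p.asIdeal) κ
      rw [h4, map_zero]
    exact nonZeroDivisors.coe_ne_zero b this
  · simpa using h4


/-- (2 ⇐): one finite `F₀` with support `V(J)`. -/
theorem vanS_of_one (n : ℕ) (F₀ : Type u) [AddCommGroup F₀] [Module A F₀] [Module.Finite A F₀]
    (hsupp : Module.support A F₀ = PrimeSpectrum.zeroLocus (J : Set A))
    (hE : ∀ i, i < n → Subsingleton (Ext.{u} (ModuleCat.of A F₀) (ModuleCat.of A G) i)) :
    ∀ i, i < n → VanS J G i := by
  intro i
  induction i using Nat.strong_induction_on with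
  | _ i ih =>
    intro hi
    have claim : ∀ (a : Ideal A) (p : PrimeSpectrum A), p.asIdeal = a →
        p ∈ PrimeSpectrum.zeroLocus (J : Set A) →
        Subsingleton (Ext.{u} (ModuleCat.of A (A ⧸ p.asIdeal)) (ModuleCat.of A G) i) := by
      intro a
      induction a using WellFoundedGT.induction with
      | ind a iha =>
        intro p hpa hpJ
        subst hpa
        obtain ⟨φ, hφ⟩ := exists_map_ne_zero F₀ p (hsupp ▸ hpJ)
        -- first sequence
        have hg1 : Function.Surjective φ.rangeRestrict := LinearMap.surjective_rangeRestrict φ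
        have hS1 := ses_shortExact (LinearMap.ker φ.rangeRestrict).subtype φ.rangeRestrict
          (Submodule.injective_subtype _) (LinearMap.exact_subtype_ker_map _) hg1
        have hR : Subsingleton (Ext.{u} (ModuleCat.of A (LinearMap.range φ)) (ModuleCat.of A G) i) := by
          suffices ∀ x : Ext.{u} (ModuleCat.of A (LinearMap.range φ)) (ModuleCat.of A G) i, x = 0 from
            ⟨fun x y => by rw [this x, this y]⟩
          intro x
          have := hE i hi
          refine inj_g hS1 (ModuleCat.of A G) i ?_ x (Subsingleton.elim _ _)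
          intro j hj
          refine ih j (by omega) (by omega) _ inferInstance ?_
          refine (Module.support_subset_of_injective _ (Submodule.injective_subtype _)).trans ?_
          rw [hsupp]
        -- second sequence
        have hS2 := ses_shortExact (LinearMap.range φ).subtype (LinearMap.range φ).mkQ
          (Submodule.injective_subtype _) (LinearMap.exact_subtype_mkQ _)
          (Submodule.mkQ_surjective _)
        refine sub_mid hS2 (ModuleCat.of A G) i hR ?_
        refine dev G i {q | p.asIdeal < q.asIdeal} ?_ _ inferInstance ?_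
        · intro q hq
          refine iha q.asIdeal hq q rfl ?_
          rw [PrimeSpectrum.mem_zeroLocus, SetLike.coe_subset_coe] at hpJ ⊢
          exact hpJ.trans hq.le
        · intro q hq
          rw [Module.mem_support_iff_of_finite] at hq
          have hφ' : ∃ x, φ x ≠ 0 := by
            by_contra! h
            exact hφ (LinearMap.ext h)
          obtain ⟨x, hx⟩ := hφ'
          obtain ⟨c, hc⟩ := Ideal.Quotient.mk_surjective (φ x)
          have hcp : c ∉ p.asIdeal := by
            intro hcp
            apply hx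
            rw [← hc]
            exact Ideal.Quotient.eq_zero_iff_mem.2 hcp
          have hle : p.asIdeal ≤ Module.annihilator A ((A ⧸ p.asIdeal) ⧸ LinearMap.range φ) := by
            intro a ha
            rw [Module.mem_annihilator]
            intro z
            obtain ⟨z, rfl⟩ := Submodule.Quotient.mk_surjective _ z
            obtain ⟨y, rfl⟩ := Ideal.Quotient.mk_surjective z
            rw [← Submodule.Quotient.mk_smul]
            have : a • (Ideal.Quotient.mk p.asIdeal y) = 0 := by
              rw [Algebra.smul_def, Ideal.Quotient.algebraMap_eq, ← map_mul]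
              exact Ideal.Quotient.eq_zero_iff_mem.2 (p.asIdeal.mul_mem_right _ ha)
            rw [this, Submodule.Quotient.mk_zero]
          have hc' : c ∈ Module.annihilator A ((A ⧸ p.asIdeal) ⧸ LinearMap.range φ) := by
            rw [Module.mem_annihilator]
            intro z
            obtain ⟨z, rfl⟩ := Submodule.Quotient.mk_surjective _ z
            obtain ⟨y, rfl⟩ := Ideal.Quotient.mk_surjective z
            rw [← Submodule.Quotient.mk_smul, Submodule.Quotient.mk_eq_zero]
            refine ⟨y • x, ?_⟩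
            rw [map_smul, ← hc, Algebra.smul_def, Algebra.smul_def, Ideal.Quotient.algebraMap_eq,
              mul_comm]
          refine lt_of_le_of_ne (hle.trans hq) ?_
          intro heq
          exact hcp (heq ▸ hq hc')
    intro F _ _ hF hs
    exact dev G i _ (fun q hq => claim q.asIdeal q rfl hq) F hF hs

end Main


/-- The affine case. Let A be a Noetherian ring, J an ideal, G any A-module and n ≥ 0. Then: H^i_J(G) =
0 for all i < n iff Ext^i_A(F, G) = 0 for all i < n and all finite A-modules F with Supp F ⊆ V(J),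
iff Ext^i_A(F, G) = 0 for all i < n for one finite F with Supp F = V(J). (G is not assumed finitely
generated.) -/
theorem result (A : Type u) [CommRing A] [IsNoetherianRing A] (J : Ideal A) (G : Type u) [AddCommGroup G] [Module A G] (n : ℕ) : ((∀ i : ℕ, i < n → Subsingleton (LocCoh.H J i G)) ↔ ∀ (F : Type u) [AddCommGroup F] [Module A F], Module.Finite A F → Module.support A F ⊆ PrimeSpectrum.zeroLocus (J : Set A) → ∀ i : ℕ, i < n → Subsingleton (Abelian.Ext (ModuleCat.of A F) (ModuleCat.of A G) i)) ∧ ((∀ i : ℕ, i < n → Subsingleton (LocCoh.H J i G)) ↔ ∃ (F : Type u) (_ : AddCommGroup F) (_ : Module A F), Module.Finite A F ∧ Module.support A F = PrimeSpectrum.zeroLocus (J : Set A) ∧ ∀ i : ℕ, i < n → Subsingleton (Abelian.Ext (ModuleCat.of A F) (ModuleCat.of A G) i)) := by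
  refine ⟨⟨fun h F _ _ hF hs i hi => vanS_of_H J G n h i hi F hF hs,
    fun h i hi => H_of_vanS J G i (fun F _ _ hF hs => h F hF hs i hi)⟩,
    ⟨fun h => ⟨A ⧸ J, inferInstance, inferInstance, inferInstance, support_quot J,
      fun i hi => vanS_of_H J G n h i hi _ inferInstance (support_quot J).le⟩, ?_⟩⟩
  rintro ⟨F₀, _, _, hF, hsupp, hE⟩ i hi
  exact H_of_vanS J G i (vanS_of_one J G n F₀ hsupp hE i hi)

end Groth.Agent.S5162
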