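import Groth.Statements.S5169
import Groth.Agent.Lib.KoszulElem

set_option autoImplicit false
universe u
open LocCoh

namespace Groth.Agent.S5169

/-- Which holds over a Noetherian ring by Lemmes 8 and 11. Let A be a Noetherian ring, f = (f_1, …, f_r)
elements of A and M an injective A-module. Then colim_n H^i(f^n, M) = 0 for every i > 0, where
H^i(f^n, M) is Koszul cohomology and the colimit is taken along the maps induced between the Koszul
complexes of the powers. -/
theorem result (A : Type u) [CommRing A] [IsNoetherianRing A] (fs : List A) (M : Type u) [AddCommGroup M] [Module A M] (hM : Module.Injective A M) (i : ℕ) (hi : 0 < i) : Subsingleton (CohIII.koszulHLim fs (ModuleCat.of A M) i) := by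
  classical
  have key : ∀ x : CohIII.koszulHLim fs (ModuleCat.of A M) i, x = 0 := by
    intro x
    unfold CohIII.koszulHLim at x ⊢
    obtain ⟨n, x, rfl⟩ := Module.DirectLimit.exists_of x
    obtain ⟨c, rfl⟩ := Groth.Agent.Lib.KoszulElem.exists_cycle _ _ x
    have hz := Groth.Agent.Lib.KoszulElem.d_iCycles
      (CohIII.koszulCx (ModuleCat.of A M) (fs.map (· ^ n))) ((i : ℤ) - fs.length)
      ((i : ℤ) - fs.length + 1) c
    obtain ⟨m, h, w, hw⟩ := Groth.Agent.Lib.KoszulElem.exists_boundary_trans (ModuleCat.of A M) hM fs
      ((i : ℤ) - fs.length - 1) ((i : ℤ) - fs.length) ((i : ℤ) - fs.length + 1) (by ring) rfl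
      (by omega) n _ hz
    rw [← Module.DirectLimit.of_f (hij := h)]
    have h0 : (HomologicalComplex.homologyMap (CohIII.koszulTrans (ModuleCat.of A M) n m h fs)
        ((i : ℤ) - fs.length)).hom
        ((HomologicalComplex.homologyπ (CohIII.koszulCx (ModuleCat.of A M) (fs.map (· ^ n)))
          ((i : ℤ) - fs.length)) c) = 0 := by
      have e1 := Groth.Agent.Lib.KoszulElem.homologyMap_π
        (CohIII.koszulTrans (ModuleCat.of A M) n m h fs) ((i : ℤ) - fs.length) c
      refine e1.trans ?_
      apply Groth.Agent.Lib.KoszulElem.homologyπ_eq_zero_of_boundary _ ((i : ℤ) - fs.length - 1)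
        ((i : ℤ) - fs.length) (by ring) _ w
      rw [Groth.Agent.Lib.KoszulElem.iCycles_cyclesMap]
      exact hw
    rw [h0, map_zero]
  exact ⟨fun x y => (key x).trans (key y).symm⟩

end Groth.Agent.S5169

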