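import Groth.Statements.S5173
import Groth.Agent.Lib.KoszulLim9
import Groth.Agent.S5169
import Groth.Agent.Lib.LocCohLES
import Groth.Agent.Lib.LocCohH0
import Groth.Agent.Lib.LocCohTorsion
import Mathlib

set_option autoImplicit false
universe u
open LocCoh

namespace Groth.Agent.S5173

open CategoryTheory Groth.Agent.Lib.KoszulLim9 Groth.Agent.Lib.LocCohLES Groth.Agent.Lib.LocCohH0
  Groth.Agent.Lib.LocCohTorsion CohIII

/-- comparing cokernels. -/
theorem nonempty_equiv_of_exact {A : Type*} [CommRing A] {X Y Z X' Y' Z' : Type*}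
    [AddCommGroup X] [Module A X] [AddCommGroup Y] [Module A Y] [AddCommGroup Z] [Module A Z]
    [AddCommGroup X'] [Module A X'] [AddCommGroup Y'] [Module A Y'] [AddCommGroup Z'] [Module A Z']
    (a : X →ₗ[A] Y) (d : Y →ₗ[A] Z) (a' : X' →ₗ[A] Y') (d' : Y' →ₗ[A] Z')
    (hex : Function.Exact a d) (hd : Function.Surjective d)
    (hex' : Function.Exact a' d') (hd' : Function.Surjective d')
    (eX : X ≃ₗ[A] X') (eY : Y ≃ₗ[A] Y') (hcomm : ∀ x, eY (a x) = a' (eX x)) :
    Nonempty (Z ≃ₗ[A] Z') := by
  have h1 : (LinearMap.ker d).map eY.toLinearMap = LinearMap.ker d' := by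
    rw [(LinearMap.exact_iff.mp hex), (LinearMap.exact_iff.mp hex')]
    ext y
    constructor
    · rintro ⟨_, ⟨x, rfl⟩, rfl⟩
      exact ⟨eX x, (hcomm x).symm⟩
    · rintro ⟨x', rfl⟩
      refine ⟨a (eX.symm x'), ⟨_, rfl⟩, ?_⟩
      show eY (a (eX.symm x')) = _
      rw [hcomm, LinearEquiv.apply_symm_apply]
  exact ⟨(d.quotKerEquivOfSurjective hd).symm.trans
    ((Submodule.Quotient.equiv _ _ eY h1).trans (d'.quotKerEquivOfSurjective hd'))⟩

variable {A : Type u} [CommRing A] (fs : List A)

/-- degree zero. -/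
noncomputable def e0 (M : Type u) [AddCommGroup M] [Module A M] :
    LocCoh.H (Ideal.span {a : A | a ∈ fs}) 0 M ≃ₗ[A] koszulHLim fs (ModuleCat.of A M) 0 :=
  (gammaEquiv _ M).trans (θEquiv fs (ModuleCat.of A M)).symm

theorem e0_nat {M N : Type u} [AddCommGroup M] [Module A M] [AddCommGroup N] [Module A N]
    (φ : M →ₗ[A] N) (y : LocCoh.H (Ideal.span {a : A | a ∈ fs}) 0 M) :
    e0 fs N (Hmap _ φ 0 y) = Kmap fs (ModuleCat.ofHom φ) 0 (e0 fs M y) := by
  apply (θEquiv fs (ModuleCat.of A N)).injective
  apply Subtype.ext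
  rw [θEquiv_apply (x := Kmap fs (ModuleCat.ofHom φ) 0 (e0 fs M y)), θ_Kmap, ← θEquiv_apply]
  simp only [e0, LinearEquiv.trans_apply, LinearEquiv.apply_symm_apply]
  rw [gammaEquiv_apply, gammaEquiv_apply]
  exact toGamma_Hmap _ φ y

theorem main [IsNoetherianRing A] : ∀ (i : ℕ) (M : Type u) [AddCommGroup M] [Module A M],
    Nonempty (LocCoh.H (Ideal.span {a : A | a ∈ fs}) i M ≃ₗ[A]
      koszulHLim fs (ModuleCat.of A M) i) := by
  intro i
  induction i with
  | zero =>
    intro M _ _
    exact ⟨e0 fs M⟩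
  | succ k ih =>
    intro M _ _
    set I : Ideal A := Ideal.span {a : A | a ∈ fs} with hI
    let X : ModuleCat.{u} A := ModuleCat.of A M
    let E : ModuleCat.{u} A := Injective.under X
    have hinj : CategoryTheory.Injective (ModuleCat.of A ↑E) := Injective.injective_under X
    have hE : Module.Injective A ↑E :=
      @Module.injective_module_of_injective_object A ↑E _ _ _ hinj
    let f : M →ₗ[A] E := (Injective.ι X).hom
    have hf : Function.Injective f := (ModuleCat.mono_iff_injective (Injective.ι X)).mp inferInstance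
    let g : E →ₗ[A] (E ⧸ LinearMap.range f) := (LinearMap.range f).mkQ
    have hg : Function.Surjective g := Submodule.mkQ_surjective _
    have hfg : Function.Exact f g := LinearMap.exact_iff.mpr (by rw [Submodule.ker_mkQ])
    have hH : Subsingleton (LocCoh.H I (k + 1) E) :=
      subsingleton_H_of_injective I E hE (k + 1) (Nat.succ_pos k)
    have hK : Subsingleton (koszulHLim fs (ModuleCat.of A E) (k + 1)) :=
      Groth.Agent.S5169.result A fs E hE (k + 1) (Nat.succ_pos k)
    have hdH : Function.Surjective (Hδ I f g hf hfg hg k) := fun z =>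
      ((Groth.Agent.Lib.LocCohLES.exact₁ I f g hf hfg hg k) z).mp (Subsingleton.elim _ _)
    have hS : (ses f g hfg).ShortExact := ses_shortExact f g hf hfg hg
    have hdK : Function.Surjective (Kδ fs (ses f g hfg) hS k) := fun z =>
      ((Groth.Agent.Lib.KoszulLim9.exact₁ fs (ses f g hfg) hS k) z).mp (Subsingleton.elim _ _)
    cases k with
    | zero =>
      exact nonempty_equiv_of_exact (Hmap I g 0) (Hδ I f g hf hfg hg 0)
        (Kmap fs (ses f g hfg).g 0) (Kδ fs (ses f g hfg) hS 0)
        (Groth.Agent.Lib.LocCohLES.exact₃ I f g hf hfg hg 0) hdH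
        (Groth.Agent.Lib.KoszulLim9.exact₃ fs (ses f g hfg) hS 0) hdK
        (e0 fs E) (e0 fs (E ⧸ LinearMap.range f)) (fun x => e0_nat fs g x)
    | succ k' =>
      obtain ⟨eY⟩ := ih (E ⧸ LinearMap.range f)
      have hH' : Subsingleton (LocCoh.H I (k' + 1) E) :=
        subsingleton_H_of_injective I E hE (k' + 1) (Nat.succ_pos k')
      have hK' : Subsingleton (koszulHLim fs (ModuleCat.of A E) (k' + 1)) :=
        Groth.Agent.S5169.result A fs E hE (k' + 1) (Nat.succ_pos k')
      exact nonempty_equiv_of_exact (Hmap I g (k' + 1)) (Hδ I f g hf hfg hg (k' + 1))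
        (Kmap fs (ses f g hfg).g (k' + 1)) (Kδ fs (ses f g hfg) hS (k' + 1))
        (Groth.Agent.Lib.LocCohLES.exact₃ I f g hf hfg hg (k' + 1)) hdH
        (Groth.Agent.Lib.KoszulLim9.exact₃ fs (ses f g hfg) hS (k' + 1)) hdK
        (LinearEquiv.ofSubsingleton _ _) eY (fun x => by
          rw [Subsingleton.elim x 0, map_zero, map_zero, map_zero, map_zero])


/-- Let A be a Noetherian ring, f_1, …, f_r generators of an ideal I and M an A-module. For every i the
local cohomology H^i_I(M) = colim_n Ext^i_A(A/I^n, M) is isomorphic, as an A-module, to colim_n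
H^i(f^n, M), the direct limit of the Koszul cohomology of the powers. (Existence of an A-linear
isomorphism is asserted; in the source the isomorphism is the unique map of δ-functors which in
degree 0 identifies both sides with the I-power torsion of M.) -/
theorem result (A : Type u) [CommRing A] [IsNoetherianRing A] (fs : List A) (M : Type u) [AddCommGroup M] [Module A M] (i : ℕ) : Nonempty (LocCoh.H (Ideal.span {a | a ∈ fs}) i M ≃ₗ[A] CohIII.koszulHLim fs (ModuleCat.of A M) i) := by
  exact main fs i M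

end Groth.Agent.S5173
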