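import Groth.Statements.S0785
import Groth.Agent.Lib.DepthRees
import Groth.Agent.Lib.SerreSk
import Mathlib.RingTheory.Regular.Flat
import Mathlib.RingTheory.Unramified.LocalRing
import Mathlib.RingTheory.Smooth.Flat
import Mathlib.RingTheory.Flat.FaithfullyFlat.Algebra
import Mathlib.RingTheory.Etale.Basic

set_option autoImplicit false
universe u
open Desc

namespace Groth.Agent.S0785

section

open TensorProduct IsLocalRing RingTheory.Sequence Groth.Agent.Lib Pointwise

variable {A B : Type u} [CommRing A] [CommRing B] [IsLocalRing A] [IsLocalRing B]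
  [IsNoetherianRing A] [IsNoetherianRing B] [Algebra A B] [IsLocalHom (algebraMap A B)]

/-- Depth only depends on the isomorphism class of the module. -/
lemma depth_congr {R : Type u} [CommRing R] [IsLocalRing R] {M N : Type u} [AddCommGroup M]
    [Module R M] [AddCommGroup N] [Module R N] [Module.Finite R M] [Nontrivial M]
    (e : M ≃ₗ[R] N) : LocCoh.depth R M = LocCoh.depth R N := by
  have : Module.Finite R N := Module.Finite.equiv e
  have : Nontrivial N := e.injective.nontrivial
  refine ENat.eq_of_forall_natCast_le_iff fun n => ?_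
  rw [DepthRees.natCast_le_depth_iff, DepthRees.natCast_le_depth_iff]
  constructor
  · rintro ⟨rs, h1, h2, h3⟩
    exact ⟨rs, h1, h2, (e.isWeaklyRegular_congr rs).mp h3⟩
  · rintro ⟨rs, h1, h2, h3⟩
    exact ⟨rs, h1, h2, (e.isWeaklyRegular_congr rs).mpr h3⟩

/-- Key induction: for a flat local homomorphism with `m_A B = m_B`, depth does not go up after
base change. -/
theorem le_depth_of_le_depth_baseChange [Module.Flat A B]
    (hm : (maximalIdeal A).map (algebraMap A B) = maximalIdeal B) (n : ℕ) :
    ∀ (M : Type u) [AddCommGroup M] [Module A M] [Module.Finite A M] [Nontrivial M],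
      (n : ℕ∞) ≤ LocCoh.depth B (B ⊗[A] M) → (n : ℕ∞) ≤ LocCoh.depth A M := by
  have : Module.FaithfullyFlat A B := Module.FaithfullyFlat.of_flat_of_isLocalHom
  induction n with
  | zero => intro M _ _ _ _ _; exact bot_le
  | succ n ih =>
    intro M _ _ _ _ hn
    have hinj : Function.Injective (TensorProduct.mk A B M 1) :=
      Module.FaithfullyFlat.tensorProduct_mk_injective M
    have : Nontrivial (B ⊗[A] M) := hinj.nontrivial
    -- first, `1 ≤ depth_A M`
    have h1 : (1 : ℕ∞) ≤ LocCoh.depth A M := by
      by_contra hcon
      have hass := (SerreSk.maximalIdeal_mem_associatedPrimes_iff M).mpr hcon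
      obtain ⟨-, v, hv⟩ := isAssociatedPrime_iff.mp hass
      have hv0 : v ≠ 0 := by
        rintro rfl
        have : (1 : A) ∈ maximalIdeal A := by
          rw [hv, Submodule.mem_colon_singleton]; simp
        exact (maximalIdeal.isMaximal A).ne_top ((Ideal.eq_top_iff_one _).mpr this)
      have hw0 : (1 : B) ⊗ₜ[A] v ≠ 0 := fun h => hv0 (hinj (by simpa using h))
      have hassB : maximalIdeal B ∈ associatedPrimes B (B ⊗[A] M) := by
        refine isAssociatedPrime_iff.mpr ⟨inferInstance, (1 : B) ⊗ₜ[A] v, ?_⟩
        refine le_antisymm ?_ (IsLocalRing.le_maximalIdeal ?_)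
        · rw [← hm, Ideal.map_le_iff_le_comap]
          intro a ha
          rw [Ideal.mem_comap, Submodule.mem_colon_singleton, Submodule.mem_bot]
          rw [hv, Submodule.mem_colon_singleton, Submodule.mem_bot] at ha
          rw [TensorProduct.smul_tmul', smul_eq_mul, mul_one, Algebra.algebraMap_eq_smul_one,
            TensorProduct.smul_tmul, ha, TensorProduct.tmul_zero]
        · intro htop
          have : (1 : B) ∈ Submodule.colon (⊥ : Submodule B (B ⊗[A] M)) {(1 : B) ⊗ₜ[A] v} := by
            rw [htop]; trivial
          rw [Submodule.mem_colon_singleton, Submodule.mem_bot, one_smul] at this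
          exact hw0 this
      have := (SerreSk.maximalIdeal_mem_associatedPrimes_iff (B ⊗[A] M)).mp hassB
      apply this
      refine le_trans ?_ hn
      exact_mod_cast Nat.succ_le_succ (Nat.zero_le n)
    -- pick a regular element
    obtain ⟨rs, hlen, hmem, hreg⟩ := (DepthRees.natCast_le_depth_iff M 1).mp (by exact_mod_cast h1)
    obtain ⟨x, rfl⟩ := List.length_eq_one_iff.mp hlen
    rw [isWeaklyRegular_singleton_iff] at hreg
    have hxm : x ∈ maximalIdeal A := hmem x (List.mem_singleton_self x)
    have hxB : algebraMap A B x ∈ maximalIdeal B := by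
      rw [← hm]; exact Ideal.mem_map_of_mem _ hxm
    have hregB : IsSMulRegular (B ⊗[A] M) (algebraMap A B x) := by
      have h := IsWeaklyRegular.of_flat_of_isBaseChange (S := B)
        (TensorProduct.isBaseChange A M B) ((isWeaklyRegular_singleton_iff M x).mpr hreg)
      simpa [isWeaklyRegular_singleton_iff] using h
    -- Rees
    have hB := DepthRees.depth_quotSMulTop_add_one (B ⊗[A] M) hxB hregB
    have hA := DepthRees.depth_quotSMulTop_add_one M hxm hreg
    have : Nontrivial (QuotSMulTop x M) := by
      apply Submodule.Quotient.nontrivial_iff.mpr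
      intro htop
      have h2 : (⊤ : Submodule A M) ≤ maximalIdeal A • ⊤ := by
        intro y _
        have hy : y ∈ x • (⊤ : Submodule A M) := by rw [htop]; exact Submodule.mem_top
        obtain ⟨m, -, rfl⟩ := (Submodule.mem_smul_pointwise_iff_exists _ _ _).mp hy
        exact Submodule.smul_mem_smul hxm Submodule.mem_top
      exact DepthRees.maximalIdeal_smul_top_ne_top M (top_le_iff.mp h2)
    have : Nontrivial (QuotSMulTop (algebraMap A B x) (B ⊗[A] M)) :=
      ((QuotSMulTop.algebraMapTensorEquivTensorQuotSMulTop x M B).symm.injective.comp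
        (Module.FaithfullyFlat.tensorProduct_mk_injective (QuotSMulTop x M))).nontrivial
    have hcongr : LocCoh.depth B (QuotSMulTop (algebraMap A B x) (B ⊗[A] M)) =
        LocCoh.depth B (B ⊗[A] QuotSMulTop x M) :=
      depth_congr (QuotSMulTop.algebraMapTensorEquivTensorQuotSMulTop x M B)
    have hnB : (n : ℕ∞) ≤ LocCoh.depth B (B ⊗[A] QuotSMulTop x M) := by
      rw [← hcongr]
      rw [← hB] at hn
      have : ((n : ℕ∞) + 1) ≤ LocCoh.depth B (QuotSMulTop (algebraMap A B x) (B ⊗[A] M)) + 1 := by
        exact_mod_cast hn
      exact (ENat.add_le_add_iff_right ENat.one_ne_top).mp this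
    have hnA := ih (QuotSMulTop x M) hnB
    rw [← hA]
    have : ((n : ℕ∞) + 1) ≤ LocCoh.depth A (QuotSMulTop x M) + 1 := add_le_add_left hnA 1
    exact_mod_cast this

theorem main (A B : Type u) [CommRing A] [CommRing B] [IsLocalRing A] [IsLocalRing B]
    [IsNoetherianRing A] [IsNoetherianRing B] [Algebra A B] [IsLocalHom (algebraMap A B)]
    (E : Type u) [CommRing E] [Algebra A E] [Algebra.Etale A E] (P : Ideal E) [P.IsPrime]
    [Algebra E B] [IsScalarTower A E B] [IsLocalization.AtPrime B P] :
    LocCoh.depth A A = LocCoh.depth B B := by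
  have : Module.Flat E B := IsLocalization.flat B P.primeCompl
  have : Module.Flat A B := Module.Flat.trans A E B
  have : Algebra.FormallyUnramified E B := Algebra.FormallyUnramified.of_isLocalization P.primeCompl
  have : Algebra.FormallyUnramified A B := Algebra.FormallyUnramified.comp A E B
  have : Algebra.EssFiniteType E B := Algebra.EssFiniteType.of_isLocalization B P.primeCompl
  have : Algebra.EssFiniteType A B := Algebra.EssFiniteType.comp A E B
  have hm : (maximalIdeal A).map (algebraMap A B) = maximalIdeal B :=
    Algebra.FormallyUnramified.map_maximalIdeal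
  refine ENat.eq_of_forall_natCast_le_iff fun n => ?_
  constructor
  · intro hn
    obtain ⟨rs, hlen, hmem, hreg⟩ := (DepthRees.natCast_le_depth_iff A n).mp hn
    refine (DepthRees.natCast_le_depth_iff B n).mpr ⟨rs.map (algebraMap A B), ?_, ?_, ?_⟩
    · rw [List.length_map, hlen]
    · intro r hr
      obtain ⟨a, ha, rfl⟩ := List.mem_map.mp hr
      rw [← hm]
      exact Ideal.mem_map_of_mem _ (hmem a ha)
    · exact IsWeaklyRegular.of_flat hreg
  · intro hn
    have e : B ≃ₗ[B] B ⊗[A] A := (AlgebraTensorModule.rid A B B).symm
    rw [depth_congr e] at hn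
    exact le_depth_of_le_depth_baseChange hm n A hn

end

/-- Let A → B be a local homomorphism of Noetherian local rings which is etale in the sense that B is
the localization at a prime of an etale A-algebra. Then A and B have the same depth. -/
theorem result (A B : Type u) [CommRing A] [CommRing B] [IsLocalRing A] [IsLocalRing B]
    [IsNoetherianRing A] [IsNoetherianRing B] [Algebra A B] [IsLocalHom (algebraMap A B)]
    (E : Type u) [CommRing E] [Algebra A E] [Algebra.Etale A E] (P : Ideal E) [P.IsPrime]
    [Algebra E B] [IsScalarTower A E B] [IsLocalization.AtPrime B P] :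
    LocCoh.depth A A = LocCoh.depth B B := by
  exact main A B E P

end Groth.Agent.S0785
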