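import Groth.Statements.S7581

set_option autoImplicit false
universe u
open PtTop

namespace Groth.Agent.S7581

section Order

variable {P : Type u} [PartialOrder P]

/-- Order-theoretic codimension. -/
noncomputable def c (a b : P) : ℕ∞ :=
  ⨆ s : {s : LTSeries P // s.head = a ∧ s.last ≤ b}, (s.1.length : ℕ∞)

lemma le_c {a b : P} (s : LTSeries P) (h1 : s.head = a) (h2 : s.last ≤ b) :
    (s.length : ℕ∞) ≤ c a b :=
  le_iSup (fun s : {s : LTSeries P // s.head = a ∧ s.last ≤ b} => (s.1.length : ℕ∞)) ⟨s, h1, h2⟩

lemma c_le {a b : P} {n : ℕ∞}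
    (h : ∀ s : LTSeries P, s.head = a → s.last ≤ b → (s.length : ℕ∞) ≤ n) : c a b ≤ n :=
  iSup_le fun s => h s.1 s.2.1 s.2.2

lemma length_eq_zero_of_last_le_head (s : LTSeries P) (h : s.last ≤ s.head) : s.length = 0 := by
  by_contra hne
  have : (0 : Fin (s.length + 1)) < Fin.last s.length := by
    rw [Fin.lt_def]; simp; omega
  have := s.strictMono this
  exact absurd (lt_of_lt_of_le this h) (lt_irrefl _)

lemma c_self (a : P) : c a a = 0 := by
  apply le_antisymm
  · apply c_le
    intro s h1 h2
    have : s.length = 0 := length_eq_zero_of_last_le_head s (h1 ▸ h2)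
    simp [this]
  · exact bot_le

lemma c_covBy {a b : P} (h : a ⋖ b) : c a b = 1 := by
  apply le_antisymm
  · apply c_le
    intro s h1 h2
    by_contra hlt
    push Not at hlt
    have h2len : 2 ≤ s.length := by
      have : (1 : ℕ∞) < (s.length : ℕ∞) := hlt
      have : 1 < s.length := by exact_mod_cast this
      omega
    have h01 : s ⟨0, by omega⟩ < s ⟨1, by omega⟩ := s.strictMono (by simp [Fin.lt_def])
    have h1l : s ⟨1, by omega⟩ < s (Fin.last _) := s.strictMono (by simp [Fin.lt_def]; omega)
    have h0 : s ⟨0, by omega⟩ = a := h1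
    have hl : s (Fin.last _) ≤ b := h2
    exact h.2 (h0 ▸ h01) (lt_of_lt_of_le h1l hl)
  · have := le_c (a := a) (b := b) ((RelSeries.singleton _ a).snoc b (by simpa using h.lt))
      (by simp) (by simp)
    simpa using this

/-- Saturated chain. -/
def Sat (s : LTSeries P) : Prop := ∀ i : Fin s.length, s (Fin.castSucc i) ⋖ s (Fin.succ i)

lemma exists_longer_of_not_sat (s : LTSeries P) (h : ¬ Sat s) :
    ∃ t : LTSeries P, t.head = s.head ∧ t.last = s.last ∧ t.length = s.length + 1 := by
  unfold Sat at h
  push Not at h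
  obtain ⟨i, hi⟩ := h
  have hlt : s (Fin.castSucc i) < s (Fin.succ i) := s.step i
  rw [not_covBy_iff hlt] at hi
  obtain ⟨z, hz1, hz2⟩ := hi
  let t1 : LTSeries P := (s.take (Fin.castSucc i)).snoc z (by simpa using hz1)
  let t2 : LTSeries P := s.drop (Fin.succ i)
  refine ⟨t1.append t2 (by simpa [t1, t2] using hz2), ?_, ?_, ?_⟩
  · simp [t1]
  · simp [t2]
  · simp [t1, t2, RelSeries.append, RelSeries.snoc]

lemma exists_max_chain {a b : P} (hab : a ≤ b) (hfin : c a b ≠ ⊤) :
    ∃ s : LTSeries P, s.head = a ∧ s.last = b ∧ Sat s ∧ (s.length : ℕ∞) = c a b := by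
  have : Nonempty {s : LTSeries P // s.head = a ∧ s.last ≤ b} :=
    ⟨⟨RelSeries.singleton _ a, by simp, by simpa using hab⟩⟩
  obtain ⟨⟨s, h1, h2⟩, hs⟩ := ENat.exists_eq_iSup_of_lt_top
    (f := fun s : {s : LTSeries P // s.head = a ∧ s.last ≤ b} => (s.1.length : ℕ∞))
    (lt_top_iff_ne_top.mpr hfin)
  have hs' : (s.length : ℕ∞) = c a b := hs
  have hlast : s.last = b := by
    by_contra hne
    have hlt : s.last < b := lt_of_le_of_ne h2 hne
    have := le_c (a := a) (b := b) (s.snoc b hlt) (by simpa using h1) (by simp)
    rw [← hs'] at this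
    have : (s.snoc b hlt).length ≤ s.length := by exact_mod_cast this
    simp [RelSeries.snoc, RelSeries.append] at this
  refine ⟨s, h1, hlast, ?_, hs'⟩
  by_contra hsat
  obtain ⟨t, ht1, ht2, ht3⟩ := exists_longer_of_not_sat s hsat
  have := le_c (a := a) (b := b) t (ht1.trans h1) (ht2.trans_le h2)
  rw [← hs', ht3] at this
  have : s.length + 1 ≤ s.length := by exact_mod_cast this
  omega

lemma sat_smash {p q : LTSeries P} (h : p.last = q.head) (hp : Sat p) (hq : Sat q) :
    Sat (RelSeries.smash p q h) := by
  have key : ∀ i : Fin (p.length + q.length),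
      (RelSeries.smash p q h) (Fin.castSucc i) ⋖ (RelSeries.smash p q h) (Fin.succ i) := by
    apply Fin.addCases <;> intro i
    · have e1 := RelSeries.smash_castAdd h i
      have e2 := RelSeries.smash_succ_castAdd h i
      have := hp i
      rw [← e1, ← e2] at this
      exact this
    · have e1 := RelSeries.smash_natAdd h i
      have e2 := RelSeries.smash_succ_natAdd h i
      have := hq i
      rw [← e1, ← e2] at this
      exact this
  exact key

/-- Catenary poset. -/
def Cat (P : Type u) [PartialOrder P] : Prop :=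
  ∀ a b : P, a ≤ b → c a b ≠ ⊤ ∧
    ∀ s : LTSeries P, s.head = a → s.last = b → Sat s → (s.length : ℕ∞) = c a b

theorem cat_iff : Cat P ↔ (∀ a b : P, a ≤ b → c a b ≠ ⊤) ∧
    (∀ a b d : P, a ≤ b → b ≤ d → c a d = c a b + c b d) := by
  constructor
  · intro hcat
    refine ⟨fun a b hab => (hcat a b hab).1, ?_⟩
    intro a b d hab hbd
    obtain ⟨s1, h11, h12, h13, h14⟩ := exists_max_chain hab (hcat a b hab).1
    obtain ⟨s2, h21, h22, h23, h24⟩ := exists_max_chain hbd (hcat b d hbd).1
    have hconn : s1.last = s2.head := h12.trans h21.symm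
    have := (hcat a d (hab.trans hbd)).2 (RelSeries.smash s1 s2 hconn)
      (by simpa using h11) (by simpa using h22) (sat_smash hconn h13 h23)
    rw [← this, ← h14, ← h24]
    simp
  · rintro ⟨hfin, hadd⟩ a b hab
    refine ⟨hfin a b hab, ?_⟩
    intro s
    generalize hn : s.length = n
    induction n generalizing s a b with
    | zero =>
      intro h1 h2 _
      have : a = b := by
        rw [← h1, ← h2]
        show s 0 = s (Fin.last _)
        congr 1
        ext
        simp [hn]
      subst this
      simp [c_self]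
    | succ n ih =>
      intro h1 h2 hsat
      have hne : s.length ≠ 0 := by omega
      have hrel := s.eraseLast_last_rel_last hne
      have hrel' : s.eraseLast.last < s.last := hrel
      have hcov : s.eraseLast.last ⋖ s.last := by
        have := hsat ⟨s.length - 1, by omega⟩
        convert this using 1
        · simp [RelSeries.last, Fin.last]
        · simp [RelSeries.last, Fin.last]
          congr 1
          ext
          simp
          omega
      have hle1 : a ≤ s.eraseLast.last := by
        rw [← h1]
        exact LTSeries.head_le_last s.eraseLast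
      have hIH := ih a s.eraseLast.last hle1 s.eraseLast (by simp [hn]) (by simpa using h1) rfl
        (by
          intro i
          exact hsat ⟨i, by have := i.2; simp at this; omega⟩)
      have hcb : c s.eraseLast.last b = 1 := by
        have := c_covBy hcov
        rwa [h2] at this
      have hle2 : s.eraseLast.last ≤ b := by
        rw [← h2]; exact hrel'.le
      rw [hadd a s.eraseLast.last b hle1 hle2, ← hIH, hcb]
      simp [hn]

end Order

theorem codim_eq {X : Type u} [TopologicalSpace X] (Y Y' : TopologicalSpace.IrreducibleCloseds X) :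
    PtTop.codim Y (Y' : Set X) = c Y Y' := by
  unfold PtTop.codim c
  rw [iSup_subtype']
  rfl

theorem result (X : Type u) [TopologicalSpace X] :
    PtTop.IsCatenarySpace X ↔
      (∀ Y Y' : TopologicalSpace.IrreducibleCloseds X, Y ≤ Y' → PtTop.codim Y (Y' : Set X) ≠ ⊤) ∧
      (∀ Y Y' Y'' : TopologicalSpace.IrreducibleCloseds X, Y ≤ Y' → Y' ≤ Y'' →
        PtTop.codim Y (Y'' : Set X) = PtTop.codim Y (Y' : Set X) + PtTop.codim Y' (Y'' : Set X)) := by
  have := cat_iff (P := TopologicalSpace.IrreducibleCloseds X)
  simp only [← codim_eq] at this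
  unfold Cat Sat at this
  simp only [← codim_eq] at this
  exact this

end Groth.Agent.S7581
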