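-- Statement S12445.
import Groth.Statements.S12445
import Groth.Agent.Lib.H30CatSpace
import Mathlib

set_option autoImplicit false
universe u
open CategoryTheory AlgebraicGeometry
open Props

namespace Groth.Agent.S12445

open Groth.Agent.Lib.H30CatSpace

/-- An affine open is homeomorphic to the spectrum of its coordinate ring. -/
noncomputable def homeo {S : Scheme.{u}} {U : S.Opens} (hU : IsAffineOpen U) :
    (U : Set S) ≃ₜ PrimeSpectrum Γ(S, U) :=
  Scheme.homeoOfIso hU.isoSpec

theorem affine_iff {S : Scheme.{u}} {U : S.Opens} (hU : IsAffineOpen U) :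
    PtTop.IsCatenarySpace (U : Set S) ↔ CAlg.IsCatenary Γ(S, U) :=
  (isCatenarySpace_homeomorph_iff (homeo hU)).trans (isCatenarySpace_primeSpectrum_iff _)

theorem of_open {S : Scheme.{u}} (h : PtTop.IsCatenarySpace S) (U : S.Opens) :
    PtTop.IsCatenarySpace (U : Set S) :=
  isCatenarySpace_of_isOpenEmbedding U.isOpenEmbedding' h

theorem of_cover {S : Scheme.{u}}
    (h : ∀ s : S, ∃ U : S.Opens, s ∈ U ∧ PtTop.IsCatenarySpace (U : Set S)) :
    PtTop.IsCatenarySpace S :=
  isCatenarySpace_iff_open_cover.mpr h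

theorem main (S : Scheme.{u}) :
    (PtTop.IsCatenarySpace S ↔ ∀ U : S.affineOpens, CAlg.IsCatenary Γ(S, U)) ∧
    (PtTop.IsCatenarySpace S ↔
      ∀ s : S, ∃ U : S.affineOpens, s ∈ (U : S.Opens) ∧ CAlg.IsCatenary Γ(S, U)) := by
  have h13 : PtTop.IsCatenarySpace S → ∀ U : S.affineOpens, CAlg.IsCatenary Γ(S, U) :=
    fun h U => (affine_iff U.2).mp (of_open h U.1)
  have h34 : (∀ U : S.affineOpens, CAlg.IsCatenary Γ(S, U)) →
      ∀ s : S, ∃ U : S.affineOpens, s ∈ (U : S.Opens) ∧ CAlg.IsCatenary Γ(S, U) := by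
    intro h s
    obtain ⟨U, hU, hsU, -⟩ := TopologicalSpace.Opens.isBasis_iff_nbhd.mp S.isBasis_affineOpens
      (U := ⊤) (x := s) trivial
    exact ⟨⟨U, hU⟩, hsU, h ⟨U, hU⟩⟩
  have h41 : (∀ s : S, ∃ U : S.affineOpens, s ∈ (U : S.Opens) ∧ CAlg.IsCatenary Γ(S, U)) →
      PtTop.IsCatenarySpace S := by
    intro h
    apply of_cover
    intro s
    obtain ⟨U, hsU, hU⟩ := h s
    exact ⟨U.1, hsU, (affine_iff U.2).mpr hU⟩
  exact ⟨⟨h13, fun h => h41 (h34 h)⟩, ⟨fun h => h34 (h13 h), h41⟩⟩

/-- (1) ⇔ (3) ⇔ (4): for a scheme S, the underlying topological space of S is catenary if and only if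
the coordinate ring of every affine open of S is a catenary ring, if and only if S is covered by
affine opens with catenary coordinate rings. (Clause (2), openness of catenarity, and the final
assertion on locally closed subschemes are the topological statement for open coverings and locally
closed subspaces.) -/
theorem result (S : Scheme.{u}) :
    (PtTop.IsCatenarySpace S ↔ ∀ U : S.affineOpens, CAlg.IsCatenary Γ(S, U)) ∧
    (PtTop.IsCatenarySpace S ↔
      ∀ s : S, ∃ U : S.affineOpens, s ∈ (U : S.Opens) ∧ CAlg.IsCatenary Γ(S, U)) := by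
  exact main S

end Groth.Agent.S12445
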