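-- Statement S12459.
import Groth.Statements.S12459
import Groth.Agent.Lib.H30CatSpace
import Groth.Agent.Lib.UCatenary
import Groth.Agent.S12445
import Mathlib

set_option autoImplicit false
universe u
open CategoryTheory AlgebraicGeometry
open Props

namespace Groth.Agent.S12459

open Groth.Agent.Lib.H30CatSpace Groth.Agent.Lib.Catenary Groth.Agent.Lib.UCatenary

theorem uc_of_ringEquiv {A B : Type u} [CommRing A] [CommRing B] (e : A ≃+* B)
    (h : CAlg.IsUniversallyCatenary A) : CAlg.IsUniversallyCatenary B := by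
  obtain ⟨hN, h⟩ := h
  refine ⟨isNoetherianRing_of_ringEquiv A e, ?_⟩
  intro T _ _ hT
  letI : Algebra A T := ((algebraMap B T).comp e.toRingHom).toAlgebra
  apply h T
  rw [← RingHom.finiteType_algebraMap]
  show ((algebraMap B T).comp e.toRingHom).FiniteType
  exact (RingHom.finiteType_algebraMap.mpr hT).comp
    (RingHom.FiniteType.of_surjective _ e.surjective)

theorem uc_stalk_of_affine {S : Scheme.{u}} {V : S.Opens} (hV : IsAffineOpen V)
    (h : CAlg.IsUniversallyCatenary Γ(S, V)) (s : S) (hs : s ∈ V) :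
    CAlg.IsUniversallyCatenary (S.presheaf.stalk s) := by
  letI := S.presheaf.algebra_section_stalk ⟨s, hs⟩
  haveI := hV.isLocalization_stalk ⟨s, hs⟩
  exact uc_of_ringEquiv (IsLocalization.algEquiv (hV.primeIdealOf ⟨s, hs⟩).asIdeal.primeCompl
    (Localization.AtPrime (hV.primeIdealOf ⟨s, hs⟩).asIdeal) (S.presheaf.stalk s)).toRingEquiv
    (isUniversallyCatenary_localization h _)

theorem uc_affine_of_stalks {S : Scheme.{u}} [IsLocallyNoetherian S] {V : S.Opens}
    (hV : IsAffineOpen V)
    (h : ∀ s : S, CAlg.IsUniversallyCatenary (S.presheaf.stalk s)) :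
    CAlg.IsUniversallyCatenary Γ(S, V) := by
  haveI : IsNoetherianRing Γ(S, V) := IsLocallyNoetherian.component_noetherian ⟨V, hV⟩
  rw [isUniversallyCatenary_iff_localization_maximal]
  intro m hm
  let y : PrimeSpectrum Γ(S, V) := ⟨m, hm.isPrime⟩
  have hy : hV.fromSpec y ∈ V := (hV.isoSpec.inv y).2
  letI := S.presheaf.algebra_section_stalk ⟨hV.fromSpec y, hy⟩
  haveI : IsLocalization.AtPrime (S.presheaf.stalk (hV.fromSpec y)) m :=
    hV.isLocalization_stalk' y hy
  exact uc_of_ringEquiv (IsLocalization.algEquiv m.primeCompl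
    (S.presheaf.stalk (hV.fromSpec y)) (Localization.AtPrime m)).toRingEquiv (h _)

theorem uc_affine_of_forall {S : Scheme.{u}} [IsLocallyNoetherian S]
    (H : ∀ (X : Scheme.{u}) (f : X ⟶ S), LocallyOfFiniteType f → PtTop.IsCatenarySpace X)
    {V : S.Opens} (hV : IsAffineOpen V) : CAlg.IsUniversallyCatenary Γ(S, V) := by
  refine ⟨IsLocallyNoetherian.component_noetherian ⟨V, hV⟩, ?_⟩
  intro T _ _ hT
  let φ : Γ(S, V) ⟶ CommRingCat.of T := CommRingCat.ofHom (algebraMap Γ(S, V) T)
  have h1 : LocallyOfFiniteType (Spec.map φ) := by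
    rw [HasRingHomProperty.Spec_iff (P := @LocallyOfFiniteType)]
    exact RingHom.finiteType_algebraMap.mpr hT
  have h2 : LocallyOfFiniteType (Spec.map φ ≫ hV.fromSpec) := inferInstance
  have h3 := H _ _ h2
  exact (isCatenarySpace_primeSpectrum_iff T).mp h3

theorem catenary_of_uc {S : Scheme.{u}} [IsLocallyNoetherian S]
    (H : ∀ (V : S.Opens), IsAffineOpen V → CAlg.IsUniversallyCatenary Γ(S, V))
    (X : Scheme.{u}) (f : X ⟶ S) (hf : LocallyOfFiniteType f) : PtTop.IsCatenarySpace X := by
  apply (Groth.Agent.S12445.main X).2.mpr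
  intro x
  obtain ⟨V, hV, hxV, -⟩ := TopologicalSpace.Opens.isBasis_iff_nbhd.mp S.isBasis_affineOpens
    (U := ⊤) (x := f x) trivial
  obtain ⟨U, hU, hxU, hUV⟩ := TopologicalSpace.Opens.isBasis_iff_nbhd.mp X.isBasis_affineOpens
    (U := f ⁻¹ᵁ V) (x := x) hxV
  refine ⟨⟨U, hU⟩, hxU, ?_⟩
  have hft : (f.appLE V U hUV).hom.FiniteType :=
    HasRingHomProperty.appLE (P := @LocallyOfFiniteType) f hf ⟨V, hV⟩ ⟨U, hU⟩ hUV
  letI : Algebra Γ(S, V) Γ(X, U) := (f.appLE V U hUV).hom.toAlgebra
  exact (H V hV).2 Γ(X, U) (RingHom.finiteType_algebraMap.mp hft)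

theorem main (S : Scheme.{u}) [IsLocallyNoetherian S] :
    (∀ (X : Scheme.{u}) (f : X ⟶ S), LocallyOfFiniteType f → PtTop.IsCatenarySpace X) ↔
      ∀ s : S, CAlg.IsUniversallyCatenary (S.presheaf.stalk s) := by
  constructor
  · intro H s
    obtain ⟨V, hV, hsV, -⟩ := TopologicalSpace.Opens.isBasis_iff_nbhd.mp S.isBasis_affineOpens
      (U := ⊤) (x := s) trivial
    exact uc_stalk_of_affine hV (uc_affine_of_forall H hV) s hsV
  · intro H X f hf
    exact catenary_of_uc (fun V hV => uc_affine_of_stalks hV H) X f hf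

/-- For a locally Noetherian scheme S, the scheme S is universally catenary — every scheme X locally of
finite type over S has catenary underlying topological space — if and only if all local rings
O_{S,s} are universally catenary rings. (Schemes X over S are taken in the universe of S.) -/
theorem result (S : Scheme.{u}) [IsLocallyNoetherian S] :
    (∀ (X : Scheme.{u}) (f : X ⟶ S), LocallyOfFiniteType f → PtTop.IsCatenarySpace X) ↔
      ∀ s : S, CAlg.IsUniversallyCatenary (S.presheaf.stalk s) := by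
  exact main S

end Groth.Agent.S12459
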