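import Groth.Statements.S6459
import Mathlib.AlgebraicGeometry.Properties
-- import your own Groth.Agent.* helpers here

set_option autoImplicit false
universe u
open CategoryTheory AlgebraicGeometry
open Cyc

namespace Groth.Agent.S6459

lemma le_iff_spec {X : Scheme.{u}} {a b : X} : a ≤ b ↔ b ⤳ a := Iff.rfl

lemma lt_of_spec_ne {X : Scheme.{u}} {a b : X} (h : b ⤳ a) (hne : a ≠ b) : a < b := by
  refine lt_of_le_not_ge h ?_
  intro h'
  exact hne ((Specializes.antisymm h' h).eq)

lemma ne_of_lt' {X : Scheme.{u}} {a b : X} (h : a < b) : b ≠ a := by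
  rintro rfl
  exact lt_irrefl _ h

lemma delta_lt {X : Scheme.{u}} {δ : X → ℤ} (hd : Cyc.IsDimFun X δ) {a b : X} (h : a < b) :
    δ a < δ b := by
  have hs : b ⤳ a := h.le
  exact (hd b a hs (ne_of_lt' h)).1

lemma delta_le {X : Scheme.{u}} {δ : X → ℤ} (hd : Cyc.IsDimFun X δ) {a b : X} (h : a ≤ b) :
    δ a ≤ δ b := by
  by_cases hab : a = b
  · rw [hab]
  · exact (delta_lt hd (lt_of_spec_ne h hab)).le

lemma coheight_eq_one_iff (X : Scheme.{u}) [IsIntegral X] (δ : X → ℤ) (hd : Cyc.IsDimFun X δ)
    (ξ : X) : Order.coheight ξ = 1 ↔ δ ξ = δ (genericPoint X) - 1 := by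
  have htop : genericPoint X = (⊤ : X) := rfl
  constructor
  · intro h1
    have hne : ξ ≠ ⊤ := by
      rintro rfl
      rw [Order.coheight_top] at h1
      exact zero_ne_one h1
    have hs : genericPoint X ⤳ ξ := genericPoint_specializes ξ
    have := (hd (genericPoint X) ξ hs (by rw [htop]; exact hne.symm)).2 (by
      intro z hz1 hz2
      by_contra hcon
      rw [not_or] at hcon
      have hlt : ξ < z := lt_of_spec_ne hz2 (Ne.symm hcon.2)
      have h2 := Order.coheight_add_one_le hlt
      rw [h1] at h2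
      have hnt : Order.coheight z ≠ ⊤ := by
        intro ht; rw [ht] at h2; simp at h2
      have h3 : Order.coheight z = 0 := by
        rw [ENat.add_one_le_iff hnt] at h2
        exact Order.lt_one_iff.mp h2
      have hmax : IsMax z := Order.coheight_eq_zero.mp h3
      have h4 : z ⤳ (⊤ : X) := hmax (le_top)
      exact hcon.1 ((Specializes.antisymm h4 hz1).eq))
    omega
  · intro hδ
    have hne : ξ ≠ ⊤ := by
      rintro rfl
      rw [htop] at hδ
      omega
    have hlt : ξ < (⊤ : X) := lt_of_spec_ne (genericPoint_specializes ξ) hne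
    have hpos : 0 < Order.coheight ξ := Order.coheight_pos_of_lt_top hlt
    have hlt2 : ¬ (2 : ℕ∞) ≤ Order.coheight ξ := by
      intro h2
      obtain ⟨p, hp, hl⟩ := Order.exists_series_of_le_coheight ξ (n := 2) (by exact_mod_cast h2)
      have h01 : p ⟨0, by omega⟩ < p ⟨1, by omega⟩ := p.strictMono (by simp [Fin.lt_def])
      have h12 : p ⟨1, by omega⟩ < p ⟨2, by omega⟩ := p.strictMono (by simp [Fin.lt_def])
      have e0 : p ⟨0, by omega⟩ = ξ := hp
      rw [e0] at h01
      have d1 := delta_lt hd h01
      have d2 := delta_lt hd h12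
      have d3 : δ (p ⟨2, by omega⟩) ≤ δ (⊤ : X) := delta_le hd le_top
      rw [htop] at hδ
      omega
    rw [not_le] at hlt2
    have hnt : Order.coheight ξ ≠ ⊤ := ne_top_of_lt hlt2
    have h1 : Order.coheight ξ ≤ 1 := by
      have : (2 : ℕ∞) = 1 + 1 := by norm_num
      rw [this, ENat.lt_add_one_iff (by simp)] at hlt2
      exact hlt2
    exact le_antisymm h1 (Order.one_le_iff_pos.mpr hpos)

/-- (b) ⇔ (c): let X be integral with generic point η and Z ⊂ X an integral closed subscheme with
generic point ξ. Then Z has codimension 1 in X (the local ring O_{X,ξ} is one-dimensional; Z is a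
prime divisor) if and only if dim_δ(Z) = dim_δ(X) − 1. Here a pair (X, δ) with Cyc.IsSetup plays the
role of a scheme locally of finite type over the base (S, δ) (X locally Noetherian with universally
catenary local rings, δ a dimension function). -/
theorem result (X : Scheme.{u}) [IsIntegral X] (δ : X → ℤ) (hX : Cyc.IsSetup X δ) (ξ : X) : ringKrullDim ↑(X.presheaf.stalk ξ) = 1 ↔ δ ξ = δ (genericPoint X) - 1 := by
  rw [ringKrullDim_stalk_eq_coheight, ← coheight_eq_one_iff X δ hX.2.2 ξ]
  exact_mod_cast Iff.rfl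

end Groth.Agent.S6459
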