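import Groth.Statements.S6460
import Mathlib.AlgebraicGeometry.Noetherian
import Mathlib.Topology.Sober
-- import your own Groth.Agent.* helpers here

set_option autoImplicit false
universe u
open CategoryTheory AlgebraicGeometry
open Cyc

namespace Groth.Agent.S6460

/-- In a locally Noetherian scheme every point has an open neighbourhood `U` such that every point
of `U` has a maximal generization which also generizes `x`. -/
lemma exists_nhd (X : Scheme.{u}) [IsLocallyNoetherian X] (x : X) :
    ∃ U : Set X, IsOpen U ∧ x ∈ U ∧ ∀ y ∈ U, ∃ ξ : X,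
      (∀ ξ' : X, ξ' ⤳ ξ → ξ' = ξ) ∧ ξ ⤳ y ∧ ξ ⤳ x := by
  obtain ⟨W, hW, hxW⟩ : ∃ W : X.Opens, IsAffineOpen W ∧ x ∈ W := by
    obtain ⟨_, ⟨V, hV, rfl⟩, hyV, -⟩ :=
      (X.isBasis_affineOpens).exists_subset_of_mem_open (Set.mem_univ x) isOpen_univ
    exact ⟨V, hV, hyV⟩
  have hN : IsNoetherianRing Γ(X, W) := IsLocallyNoetherian.component_noetherian ⟨W, hW⟩
  have hNS : TopologicalSpace.NoetherianSpace W := noetherianSpace_of_isAffineOpen W hW
  have hQS : QuasiSober (W : Set X) := W.isOpen.isOpenEmbedding_subtypeVal.quasiSober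
  have hfin : (irreducibleComponents W).Finite :=
    TopologicalSpace.NoetherianSpace.finite_irreducibleComponents
  let x' : W := ⟨x, hxW⟩
  let S : Set (Set W) := {Z ∈ irreducibleComponents W | x' ∉ Z}
  have hSfin : S.Finite := hfin.subset (fun Z hZ => hZ.1)
  have hC : IsClosed (⋃₀ S) := by
    rw [Set.sUnion_eq_biUnion]
    exact hSfin.isClosed_biUnion (fun Z hZ => isClosed_of_mem_irreducibleComponents Z hZ.1)
  refine ⟨Subtype.val '' (⋃₀ S)ᶜ, W.isOpen.isOpenMap_subtype_val _ hC.isOpen_compl,
    ⟨x', ?_, rfl⟩, ?_⟩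
  · rintro ⟨Z, hZ, hxZ⟩
    exact hZ.2 hxZ
  · rintro _ ⟨y', hy', rfl⟩
    have hZ := irreducibleComponent_mem_irreducibleComponents y'
    have hyZ : y' ∈ irreducibleComponent y' := mem_irreducibleComponent
    have hxZ : x' ∈ irreducibleComponent y' := by
      by_contra hcon
      exact hy' ⟨_, ⟨hZ, hcon⟩, hyZ⟩
    obtain ⟨ξ', hξ'⟩ := QuasiSober.sober (isIrreducible_irreducibleComponent (x := y'))
      isClosed_irreducibleComponent
    refine ⟨ξ'.1, ?_, ?_, ?_⟩
    · intro ζ hζ
      have hζW : ζ ∈ W := hζ.mem_open W.isOpen ξ'.2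
      let ζ' : W := ⟨ζ, hζW⟩
      have h1 : ζ' ⤳ ξ' := (subtype_specializes_iff ζ' ξ').mpr hζ
      have h2 : irreducibleComponent y' ⊆ closure {ζ'} := by
        rw [← hξ'.def]
        exact closure_minimal (Set.singleton_subset_iff.mpr (specializes_iff_mem_closure.mp h1))
          isClosed_closure
      have h3 : closure {ζ'} ⊆ irreducibleComponent y' :=
        hZ.2 (isIrreducible_singleton.closure) h2
      have h4 : ξ' ⤳ ζ' := hξ'.specializes (h3 (subset_closure rfl))
      have : ζ' = ξ' := (h1.antisymm h4).eq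
      exact congrArg Subtype.val this
    · exact (subtype_specializes_iff ξ' y').mp (hξ'.specializes hyZ)
    · exact (subtype_specializes_iff ξ' x').mp (hξ'.specializes hxZ)

/-- (3) ⇒ (1): suppose that for every x ∈ X there is an integer n_x with δ(ξ) = n_x for every generic
point ξ of an irreducible component of X containing x. Then X decomposes into open and closed
subschemes X_n (n ∈ ℤ) such that every irreducible component of X_n has δ-dimension n; stated as the
existence of a locally constant c : X → ℤ with δ(ξ) = c(ξ) for every point ξ that is maximal under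
specialization. (The converse implications are immediate and not stated.) Here a pair (X, δ) with
Cyc.IsSetup plays the role of a scheme locally of finite type over the base (S, δ) (X locally
Noetherian with universally catenary local rings, δ a dimension function). -/
theorem result (X : Scheme.{u}) (δ : X → ℤ) (hX : Cyc.IsSetup X δ) (h3 : ∀ x : X, ∃ n : ℤ, ∀ ξ : X, (∀ ξ' : X, ξ' ⤳ ξ → ξ' = ξ) → ξ ⤳ x → δ ξ = n) : ∃ c : X → ℤ, IsLocallyConstant c ∧ ∀ ξ : X, (∀ ξ' : X, ξ' ⤳ ξ → ξ' = ξ) → δ ξ = c ξ := by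
  have hN : IsLocallyNoetherian X := hX.1
  choose c hc using h3
  refine ⟨c, ?_, fun ξ hξ => hc ξ ξ hξ specializes_rfl⟩
  rw [IsLocallyConstant.iff_exists_open]
  intro x
  obtain ⟨U, hU, hxU, h⟩ := exists_nhd X x
  refine ⟨U, hU, hxU, fun y hy => ?_⟩
  obtain ⟨ξ, hξ, hξy, hξx⟩ := h y hy
  rw [← hc y ξ hξ hξy, ← hc x ξ hξ hξx]

end Groth.Agent.S6460
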