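import Groth.Statements.S5170
import Mathlib.RingTheory.Length
import Mathlib.RingTheory.FiniteLength
import Mathlib.RingTheory.SimpleModule.Basic

set_option autoImplicit false
universe u
open Matlis

namespace Groth.Agent.S5170

open InjHull

section
variable {A : Type u} [CommRing A] [IsLocalRing A] {E : Type u} [AddCommGroup E] [Module A E]

/-- Elements of the socle of `E` lie in the range of an essential injection of the residue field. -/
theorem socle_le_range (f : IsLocalRing.ResidueField A →ₗ[A] E) (hf : IsEssentialInj f) (e : E)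
    (he : ∀ a ∈ IsLocalRing.maximalIdeal A, a • e = 0) : e ∈ LinearMap.range f := by
  by_cases h0 : e = 0
  · rw [h0]; exact zero_mem _
  have hN : Submodule.span A {e} ≠ ⊥ := by
    rw [Ne, Submodule.span_singleton_eq_bot]; exact h0
  have := hf.essential _ hN
  rw [Ne, Submodule.eq_bot_iff] at this
  push Not at this
  obtain ⟨x, ⟨hx1, hx2⟩, hx0⟩ := this
  obtain ⟨a, rfl⟩ := Submodule.mem_span_singleton.mp hx1
  have ha : IsUnit a := by
    by_contra hna
    exact hx0 (he a ((IsLocalRing.mem_maximalIdeal a).mpr hna))
  obtain ⟨u, rfl⟩ := ha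
  have : e = (↑u⁻¹ : A) • ((u : A) • e) := by rw [smul_smul, Units.inv_mul, one_smul]
  rw [this]
  exact Submodule.smul_mem _ _ hx2

theorem length_hom_residueField (f : IsLocalRing.ResidueField A →ₗ[A] E) (hf : IsEssentialInj f) :
    Module.length A (IsLocalRing.ResidueField A →ₗ[A] E) = 1 := by
  let Φ : (IsLocalRing.ResidueField A →ₗ[A] E) →ₗ[A] E := LinearMap.applyₗ (1 : IsLocalRing.ResidueField A)
  have hsurj : ∀ x : IsLocalRing.ResidueField A, ∃ a : A, x = a • (1 : IsLocalRing.ResidueField A) := by
    intro x
    obtain ⟨a, rfl⟩ := IsLocalRing.residue_surjective x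
    exact ⟨a, by rw [Algebra.smul_def, mul_one]; rfl⟩
  have hΦinj : Function.Injective Φ := by
    rw [← LinearMap.ker_eq_bot, Submodule.eq_bot_iff]
    intro φ hφ
    have h1 : φ 1 = 0 := hφ
    ext x
    obtain ⟨a, rfl⟩ := hsurj x
    rw [map_smul, h1, smul_zero, LinearMap.zero_apply]
  have hrange : LinearMap.range Φ = LinearMap.range f := by
    apply le_antisymm
    · rintro _ ⟨φ, rfl⟩
      apply socle_le_range f hf
      intro a ha
      change a • φ 1 = 0
      rw [← map_smul, Algebra.smul_def, mul_one]
      have : algebraMap A (IsLocalRing.ResidueField A) a = 0 := by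
        rw [IsLocalRing.ResidueField.algebraMap_eq]
        exact (IsLocalRing.residue_eq_zero_iff a).mpr ha
      rw [this, map_zero]
    · rintro _ ⟨c, rfl⟩
      obtain ⟨a, rfl⟩ := hsurj c
      exact ⟨a • f, by simp [Φ]⟩
  have e1 := LinearEquiv.ofInjective Φ hΦinj
  have e2 := LinearEquiv.ofInjective f hf.injective
  have e3 : LinearMap.range Φ ≃ₗ[A] LinearMap.range f := LinearEquiv.ofEq _ _ hrange
  rw [(e1.trans (e3.trans e2.symm)).length_eq]
  have : IsSimpleModule A (A ⧸ IsLocalRing.maximalIdeal A) :=
    isSimpleModule_iff_isCoatom.mpr (Ideal.isMaximal_def.mp inferInstance)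
  exact Module.length_eq_one A (A ⧸ IsLocalRing.maximalIdeal A)

end


/-- Applied to the dualizing functor Hom_A(−, E). Let A be a Noetherian local ring, E an injective hull
of the residue field and M an A-module of finite length. Then length Hom_A(M, E) = length M. -/
theorem result (A : Type u) [CommRing A] [IsLocalRing A] [IsNoetherianRing A] (E : Type u) [AddCommGroup E] [Module A E] (f : IsLocalRing.ResidueField A →ₗ[A] E) (hf : InjHull.IsInjectiveHull f) (M : Type u) [AddCommGroup M] [Module A M] (hM : IsFiniteLength A M) : Module.length A (M →ₗ[A] E) = Module.length A M := by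
  induction hM with
  | of_subsingleton =>
    rw [Module.length_eq_zero_iff.mpr inferInstance, Module.length_eq_zero_iff.mpr inferInstance]
  | @of_simple_quotient M _ _ N _ hN ih =>
    let α : ((M ⧸ N) →ₗ[A] E) →ₗ[A] (M →ₗ[A] E) := LinearMap.lcomp A E N.mkQ
    let β : (M →ₗ[A] E) →ₗ[A] (N →ₗ[A] E) := LinearMap.lcomp A E N.subtype
    have hα : Function.Injective α := by
      intro φ ψ h
      ext x
      exact congr($h x)
    have hβ : Function.Surjective β := by
      intro g
      obtain ⟨h, hh⟩ := hf.isInjective.out N.subtype N.injective_subtype g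
      exact ⟨h, LinearMap.ext hh⟩
    have hex : Function.Exact α β := by
      intro ψ
      constructor
      · intro h
        have hle : N ≤ LinearMap.ker ψ := by
          intro x hx
          exact congr($h ⟨x, hx⟩)
        exact ⟨N.liftQ ψ hle, by ext x; rfl⟩
      · rintro ⟨φ, rfl⟩
        ext x
        change φ (N.mkQ x.1) = 0
        rw [Submodule.mkQ_apply, (Submodule.Quotient.mk_eq_zero N).mpr x.2, map_zero]
    have h1 : Module.length A ((M ⧸ N) →ₗ[A] E) = 1 := by
      obtain ⟨I, hI, ⟨e⟩⟩ := isSimpleModule_iff_quot_maximal.mp (inferInstance : IsSimpleModule A (M ⧸ N))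
      obtain rfl := IsLocalRing.eq_maximalIdeal hI
      have e' : ((M ⧸ N) →ₗ[A] E) ≃ₗ[A] (IsLocalRing.ResidueField A →ₗ[A] E) :=
        LinearEquiv.arrowCongr e (LinearEquiv.refl A E)
      rw [e'.length_eq]
      exact length_hom_residueField f hf.toIsEssentialInj
    rw [Module.length_eq_add_of_exact α β hα hβ hex, h1, ih,
      Module.length_eq_add_of_exact N.subtype N.mkQ N.injective_subtype N.mkQ_surjective
        (LinearMap.exact_subtype_mkQ N), Module.length_eq_one A (M ⧸ N), add_comm]

end Groth.Agent.S5170
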