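import Groth.Statements.S0311
import Groth.Agent.Lib.InjHull
import Mathlib.RingTheory.Filtration

set_option autoImplicit false
universe u v
open Matlis

namespace Groth.Agent.S0311

/-- Over a Noetherian local ring, every element of an injective hull E of the residue field is killed by
some power of the maximal ideal (E is the union of the E[m^n]). (The source also identifies E[m^n]
with an injective hull of the residue field over R/m^n; not stated here.) -/
theorem result (R : Type u) [CommRing R] [IsLocalRing R] [IsNoetherianRing R] (E : Type u) [AddCommGroup E] [Module R E] (f : IsLocalRing.ResidueField R →ₗ[R] E) (hf : InjHull.IsInjectiveHull f) : LocCoh.IsPowerTorsion (IsLocalRing.maximalIdeal R) E := by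
  intro x
  set m := IsLocalRing.maximalIdeal R with hm
  let N : Submodule R E := Submodule.span R {x}
  have hfin : Module.Finite R N := Module.Finite.span_singleton R x
  let N₀ : Submodule R N := Submodule.comap N.subtype (LinearMap.range f)
  obtain ⟨k, hk⟩ := Ideal.exists_pow_inf_eq_pow_smul m N₀
  -- elements of the range of f are killed by m
  have hkill : ∀ a ∈ m, ∀ z ∈ LinearMap.range f, a • z = 0 := by
    rintro a ha _ ⟨y, rfl⟩
    rw [← map_smul]
    have : a • y = 0 := by
      obtain ⟨y', rfl⟩ := Ideal.Quotient.mk_surjective y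
      change Ideal.Quotient.mk _ (a * y') = 0
      exact Ideal.Quotient.eq_zero_iff_mem.mpr (Ideal.mul_mem_right _ _ ha)
    rw [this, map_zero]
  have h1 : m ^ (k + 1) • (⊤ : Submodule R N) ⊓ N₀ = ⊥ := by
    rw [hk (k + 1) (Nat.le_succ k), Nat.add_sub_cancel_left, pow_one, eq_bot_iff]
    refine (Submodule.smul_mono le_rfl inf_le_right).trans ?_
    rw [Submodule.smul_le]
    intro a ha z hz
    rw [Submodule.mem_bot]
    apply Subtype.ext
    exact hkill a ha _ hz
  have h2 : (m ^ (k + 1) • (⊤ : Submodule R N)).map N.subtype = ⊥ := by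
    by_contra hne
    apply hf.essential _ hne
    rw [eq_bot_iff]
    rintro _ ⟨⟨z, hz, rfl⟩, hz2⟩
    have : z ∈ m ^ (k + 1) • (⊤ : Submodule R N) ⊓ N₀ := ⟨hz, hz2⟩
    rw [h1, Submodule.mem_bot] at this
    rw [this]
    simp
  refine ⟨k + 1, fun a ha => ?_⟩
  have hx : (⟨x, Submodule.mem_span_singleton_self x⟩ : N) ∈ (⊤ : Submodule R N) := trivial
  have h3 : a • (⟨x, Submodule.mem_span_singleton_self x⟩ : N) ∈
      m ^ (k + 1) • (⊤ : Submodule R N) := Submodule.smul_mem_smul ha hx
  have h4 : N.subtype (a • (⟨x, Submodule.mem_span_singleton_self x⟩ : N)) ∈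
      (m ^ (k + 1) • (⊤ : Submodule R N)).map N.subtype := ⟨_, h3, rfl⟩
  rw [h2, Submodule.mem_bot] at h4
  simpa using h4

end Groth.Agent.S0311
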