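import Groth.Statements.S0315
import Groth.Agent.Lib.H29Melkersson
import Mathlib.RingTheory.FiniteLength
import Mathlib.RingTheory.Nakayama

set_option autoImplicit false
universe u v
open Matlis

namespace Groth.Agent.S0315

/-- Over a Noetherian local ring a module has the descending chain condition exactly when it is killed
elementwise by powers of the maximal ideal and its socle is finite-dimensional over the residue
field. -/
theorem result (R : Type u) [CommRing R] [IsLocalRing R] [IsNoetherianRing R] (M : Type u) [AddCommGroup M] [Module R M] : IsArtinian R M ↔ (LocCoh.IsPowerTorsion (IsLocalRing.maximalIdeal R) M ∧ Module.Finite (R ⧸ IsLocalRing.maximalIdeal R) ↥(LocCoh.torsionBy (IsLocalRing.maximalIdeal R) M)) := by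
  constructor
  · intro hA
    constructor
    · intro y
      let N : Submodule R M := Submodule.span R {y}
      have hanti : Antitone (fun n : ℕ => IsLocalRing.maximalIdeal R ^ n • N) := by
        intro a b hab
        exact Submodule.smul_mono_left (Ideal.pow_le_pow_right hab)
      obtain ⟨n, hn⟩ := IsArtinian.monotone_stabilizes
        (⟨fun n => OrderDual.toDual (IsLocalRing.maximalIdeal R ^ n • N),
          fun a b hab => hanti hab⟩ : ℕ →o (Submodule R M)ᵒᵈ)
      have hst : IsLocalRing.maximalIdeal R ^ n • N = IsLocalRing.maximalIdeal R ^ (n + 1) • N :=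
        hn (n + 1) (Nat.le_succ n)
      have hfg : (IsLocalRing.maximalIdeal R ^ n • N).FG := by
        have hNn : IsNoetherian R N :=
          isNoetherian_of_fg_of_noetherian N (Submodule.fg_span_singleton y)
        exact (isNoetherian_submodule.mp hNn) _ Submodule.smul_le_right
      have hle : IsLocalRing.maximalIdeal R ^ n • N ≤
          IsLocalRing.maximalIdeal R • (IsLocalRing.maximalIdeal R ^ n • N) := by
        rw [← Submodule.smul_assoc, smul_eq_mul, ← pow_succ', ← hst]
      have hbot : IsLocalRing.maximalIdeal R ^ n • N = ⊥ :=
        Submodule.eq_bot_of_le_smul_of_le_jacobson_bot (IsLocalRing.maximalIdeal R) _ hfg hle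
          (IsLocalRing.maximalIdeal_le_jacobson ⊥)
      refine ⟨n, fun a ha => ?_⟩
      have hmem : a • y ∈ IsLocalRing.maximalIdeal R ^ n • N :=
        Submodule.smul_mem_smul ha (Submodule.mem_span_singleton_self y)
      rw [hbot] at hmem
      exact hmem
    · have h1 : IsArtinian R (Submodule.torsionBySet R M (IsLocalRing.maximalIdeal R : Set R)) :=
        inferInstance
      have h2 : IsArtinian (R ⧸ IsLocalRing.maximalIdeal R)
          (Submodule.torsionBySet R M (IsLocalRing.maximalIdeal R : Set R)) :=
        isArtinian_of_tower R h1
      let _ : Field (R ⧸ IsLocalRing.maximalIdeal R) := Ideal.Quotient.field _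
      exact (IsSemisimpleModule.finite_tfae.out 0 2).mpr h2
  · rintro ⟨htors, hfin⟩
    have h2 : IsArtinian (R ⧸ IsLocalRing.maximalIdeal R)
        (Submodule.torsionBySet R M (IsLocalRing.maximalIdeal R : Set R)) := by
      let _ : Field (R ⧸ IsLocalRing.maximalIdeal R) := Ideal.Quotient.field _
      infer_instance
    have h1 : IsArtinian R (Submodule.torsionBySet R M (IsLocalRing.maximalIdeal R : Set R)) :=
      isArtinian_of_surjective_algebraMap (S := R) (R := R ⧸ IsLocalRing.maximalIdeal R)
        Ideal.Quotient.mk_surjective
    exact Groth.Agent.Lib.H29Melkersson.isArtinian_of_torsionBySet_ideal (IsLocalRing.maximalIdeal R)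
      (IsNoetherian.noetherian _) htors

end Groth.Agent.S0315
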