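import Groth.Statements.S5155
import Groth.Agent.S5170
import Groth.Agent.S0311

set_option autoImplicit false
universe u
open Matlis

namespace Groth.Agent.S5155

open InjHull

/-- In a power-torsion module over a local ring, every nonzero element has a nonzero multiple in the socle. -/
theorem exists_socle_multiple {A : Type u} [CommRing A] [IsLocalRing A] {E : Type u} [AddCommGroup E] [Module A E]
    (n : ℕ) : ∀ (x : E), x ≠ 0 → (∀ a ∈ IsLocalRing.maximalIdeal A ^ n, a • x = 0) →
    ∃ b : A, b • x ≠ 0 ∧ ∀ a ∈ IsLocalRing.maximalIdeal A, a • (b • x) = 0 := by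
  induction n with
  | zero =>
    intro x hx h
    exact absurd (by simpa using h 1 (by simp)) hx
  | succ n ih =>
    intro x hx h
    by_cases hn : ∀ a ∈ IsLocalRing.maximalIdeal A ^ n, a • x = 0
    · exact ih x hx hn
    · push Not at hn
      obtain ⟨b, hb, hbx⟩ := hn
      refine ⟨b, hbx, fun a ha => ?_⟩
      rw [smul_smul]
      apply h
      rw [pow_succ']
      exact Ideal.mul_mem_mul ha hb


/-- Let A be a Noetherian local ring with residue field k. An A-module E is an injective hull of k if
and only if E is injective, E is m-power torsion, and Hom_A(k, E) is simple (one-dimensional over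
k). (The torsion condition is needed: for a prime p ≠ m the module E(k) ⊕ E(A/p) is injective with
Hom_A(k, −) simple, represents the same functor on modules of finite length, and is not an injective
hull of k; the published definition of a dualizing module leaves this condition implicit and the
published proof uses it.) -/
theorem result (A : Type u) [CommRing A] [IsLocalRing A] [IsNoetherianRing A] (E : Type u) [AddCommGroup E] [Module A E] : (∃ f : IsLocalRing.ResidueField A →ₗ[A] E, InjHull.IsInjectiveHull f) ↔ (Module.Injective A E ∧ LocCoh.IsPowerTorsion (IsLocalRing.maximalIdeal A) E ∧ IsSimpleModule A (IsLocalRing.ResidueField A →ₗ[A] E)) := by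
  have hsimple : IsSimpleModule A (A ⧸ IsLocalRing.maximalIdeal A) :=
    isSimpleModule_iff_isCoatom.mpr (Ideal.isMaximal_def.mp inferInstance)
  constructor
  · rintro ⟨f, hf⟩
    refine ⟨hf.isInjective, Groth.Agent.S0311.result A E f hf, ?_⟩
    exact Module.length_eq_one_iff.mp (Groth.Agent.S5170.length_hom_residueField f hf.toIsEssentialInj)
  · rintro ⟨hinj, htors, hs⟩
    have : Nontrivial (IsLocalRing.ResidueField A →ₗ[A] E) := IsSimpleModule.nontrivial A _
    obtain ⟨f, hf0⟩ := exists_ne (0 : IsLocalRing.ResidueField A →ₗ[A] E)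
    have hfinj : Function.Injective f :=
      LinearMap.injective_of_ne_zero (R := A) (M := A ⧸ IsLocalRing.maximalIdeal A) hf0
    refine ⟨f, ⟨⟨hfinj, ?_⟩, hinj⟩⟩
    intro N hN
    obtain ⟨x, hxN, hx0⟩ := (Submodule.ne_bot_iff N).mp hN
    obtain ⟨n, hn⟩ := htors x
    obtain ⟨b, hbx, hb⟩ := exists_socle_multiple n x hx0 hn
    rw [Submodule.ne_bot_iff]
    refine ⟨b • x, ⟨N.smul_mem b hxN, ?_⟩, hbx⟩
    -- the map k → E sending 1 to b • x
    have hker : IsLocalRing.maximalIdeal A ≤ LinearMap.ker (LinearMap.toSpanSingleton A E (b • x)) := by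
      intro a ha
      rw [LinearMap.mem_ker, LinearMap.toSpanSingleton_apply]
      exact hb a ha
    let φ : IsLocalRing.ResidueField A →ₗ[A] E := (IsLocalRing.maximalIdeal A).liftQ _ hker
    have hφ1 : φ 1 = b • x := by
      change φ (IsLocalRing.residue A 1) = _
      change (1 : A) • (b • x) = _
      rw [one_smul]
    obtain ⟨c, hc⟩ := IsSimpleModule.toSpanSingleton_surjective A hf0 φ
    rw [LinearMap.toSpanSingleton_apply] at hc
    rw [← hφ1, ← hc]
    exact ⟨c • 1, by simp⟩

end Groth.Agent.S5155
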