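import Groth.Statements.S11174
import Groth.Agent.S0299
import Groth.Agent.S5155
import Groth.Agent.Lib.InjHull
import Groth.Agent.Lib.H29MatlisEnd

set_option autoImplicit false
universe u
open CategoryTheory
open InjHull

namespace Groth.Agent.S11174

section aux

variable {A : Type u} [CommRing A] [IsLocalRing A]

/-- A nonzero map from the residue field into a power torsion module whose socle is simple is an
essential injection. -/
theorem isEssentialInj_of_powerTorsion {I : Type u} [AddCommGroup I] [Module A I]
    (htors : LocCoh.IsPowerTorsion (IsLocalRing.maximalIdeal A) I)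
    (hs : IsSimpleModule A (IsLocalRing.ResidueField A →ₗ[A] I))
    (φ : IsLocalRing.ResidueField A →ₗ[A] I) (hφ : φ ≠ 0) : IsEssentialInj φ := by
  have hsimple : IsSimpleModule A (A ⧸ IsLocalRing.maximalIdeal A) :=
    isSimpleModule_iff_isCoatom.mpr (Ideal.isMaximal_def.mp inferInstance)
  have hφinj : Function.Injective φ :=
    LinearMap.injective_of_ne_zero (R := A) (M := A ⧸ IsLocalRing.maximalIdeal A) hφ
  refine ⟨hφinj, ?_⟩
  intro N hN
  obtain ⟨x, hxN, hx0⟩ := (Submodule.ne_bot_iff N).mp hN
  obtain ⟨n, hn⟩ := htors x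
  obtain ⟨b, hbx, hb⟩ := Groth.Agent.S5155.exists_socle_multiple n x hx0 hn
  rw [Submodule.ne_bot_iff]
  refine ⟨b • x, ⟨N.smul_mem b hxN, ?_⟩, hbx⟩
  have hker : IsLocalRing.maximalIdeal A ≤ LinearMap.ker (LinearMap.toSpanSingleton A I (b • x)) := by
    intro a ha
    rw [LinearMap.mem_ker, LinearMap.toSpanSingleton_apply]
    exact hb a ha
  let ψ : IsLocalRing.ResidueField A →ₗ[A] I := (IsLocalRing.maximalIdeal A).liftQ _ hker
  have hψ1 : ψ 1 = b • x := by
    change ψ (IsLocalRing.residue A 1) = _
    change (1 : A) • (b • x) = _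
    rw [one_smul]
  obtain ⟨c, hc⟩ := IsSimpleModule.toSpanSingleton_surjective A hφ ψ
  rw [LinearMap.toSpanSingleton_apply] at hc
  rw [← hψ1, ← hc]
  exact ⟨c • 1, by simp⟩

/-- An injective linear map between modules of the same finite length is surjective. -/
theorem surjective_of_injective_of_length_eq {R : Type*} [Ring R] {M N : Type*}
    [AddCommGroup M] [Module R M] [AddCommGroup N] [Module R N] (g : M →ₗ[R] N)
    (hg : Function.Injective g) (hlen : Module.length R M = Module.length R N)
    (hfin : Module.length R M ≠ ⊤) : Function.Surjective g := by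
  have h1 := Module.length_eq_add_of_exact g (LinearMap.range g).mkQ hg
    (Submodule.mkQ_surjective _) (LinearMap.exact_map_mkQ_range g)
  rw [← hlen] at h1
  have h0 : Module.length R (N ⧸ LinearMap.range g) = 0 := by
    have h2 : Module.length R M + 0 = Module.length R M + Module.length R (N ⧸ LinearMap.range g) := by
      rw [add_zero]; exact h1
    exact (ENat.add_right_injective_of_ne_top hfin h2).symm
  rw [Module.length_eq_zero_iff] at h0
  rw [← LinearMap.range_eq_top]
  exact Submodule.Quotient.subsingleton_iff.mp h0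

/-- Transport of injectivity along a linear equivalence. -/
theorem injective_of_linearEquiv {R : Type u} [Ring R] {E I : Type u} [AddCommGroup E] [Module R E]
    [AddCommGroup I] [Module R I] (e : I ≃ₗ[R] E) (hE : Module.Injective R E) :
    Module.Injective R I := by
  constructor
  intro X Y _ _ _ _ f hf g
  obtain ⟨h, hh⟩ := hE.out f hf (e.toLinearMap ∘ₗ g)
  refine ⟨e.symm.toLinearMap ∘ₗ h, fun x => ?_⟩
  simp [hh]

end aux

/-- Core of the argument: an essential extension `φ : k → I` of the residue field embeds into a hull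
`E`; if the dual lengths along a cofinal family agree, the embedding is onto. -/
theorem bijective_embedding (A : Type u) [CommRing A] [IsLocalRing A] [IsNoetherianRing A]
    (I E : Type u) [AddCommGroup I] [Module A I] [AddCommGroup E] [Module A E]
    (f : IsLocalRing.ResidueField A →ₗ[A] E) (hf : IsInjectiveHull f)
    (ι : I →ₗ[A] E) (hι : Function.Injective ι)
    (a : ℕ → Ideal A)
    (hcof : ∀ n : ℕ, ∃ N : ℕ, IsLocalRing.maximalIdeal A ^ N ≤ a n)
    (hcof' : ∀ N : ℕ, ∃ n : ℕ, a n ≤ IsLocalRing.maximalIdeal A ^ N)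
    (hlen : ∀ n : ℕ, Module.length A (A ⧸ a n) = Module.length A ((A ⧸ a n) →ₗ[A] I)) :
    Function.Surjective ι := by
  have hfl : ∀ n, IsFiniteLength A (A ⧸ a n) := by
    intro n
    obtain ⟨N, hN⟩ := hcof n
    exact IsFiniteLength.of_surjective
      (Groth.Agent.Lib.H29MatlisEnd.isFiniteLength_quot_pow (R := A) N)
      (f := Submodule.factor hN) (Submodule.factor_surjective hN)
  have hsurj : ∀ n, Function.Surjective
      (LinearMap.compRight A ι : ((A ⧸ a n) →ₗ[A] I) →ₗ[A] ((A ⧸ a n) →ₗ[A] E)) := by
    intro n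
    apply surjective_of_injective_of_length_eq
    · intro χ₁ χ₂ h
      refine LinearMap.ext fun x => ?_
      apply hι
      have := LinearMap.congr_fun h x
      simpa using this
    · rw [← hlen n, Groth.Agent.S5170.result A E f hf (A ⧸ a n) (hfl n)]
    · rw [← hlen n]
      exact Module.length_ne_top_iff.mpr (hfl n)
  intro e
  obtain ⟨N, hN⟩ := Groth.Agent.S0311.result A E f hf e
  obtain ⟨n, hn⟩ := hcof' N
  have hker : a n ≤ LinearMap.ker (LinearMap.toSpanSingleton A E e) := by
    intro r hr
    rw [LinearMap.mem_ker, LinearMap.toSpanSingleton_apply]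
    exact hN r (hn hr)
  obtain ⟨χ, hχ⟩ := hsurj n ((a n).liftQ _ hker)
  refine ⟨χ (Submodule.Quotient.mk 1), ?_⟩
  have := LinearMap.congr_fun hχ (Submodule.Quotient.mk 1)
  rw [LinearMap.compRight_apply, LinearMap.comp_apply, Submodule.liftQ_apply,
    LinearMap.toSpanSingleton_apply, one_smul] at this
  exact this

/-- Fix a Noetherian local ring A, write m for its maximal ideal and k for its residue field, and let I
be an A-module such that (a) every element of I is killed by some power of m, (b) the A-module
Hom_A(k, I) is isomorphic to k, and (c) there is a decreasing sequence of ideals a_1 ⊇ a_2 ⊇ … of A,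
cofinal with the powers of m in both directions (each a_n contains a power of m and each power of m
contains some a_n), with length_A(A/a_n) = length_A(Hom_A(A/a_n, I)) for every n. Then I is an
injective hull of k: some A-linear map k → I is an essential injection into an injective module. -/
theorem result (A : Type u) [CommRing A] [IsLocalRing A] [IsNoetherianRing A] (I : Type u) [AddCommGroup I] [Module A I] (ha : LocCoh.IsPowerTorsion (IsLocalRing.maximalIdeal A) I) (hb : Nonempty ((IsLocalRing.ResidueField A →ₗ[A] I) ≃ₗ[A] IsLocalRing.ResidueField A)) (a : ℕ → Ideal A) (hanti : Antitone a) (hcof : ∀ n : ℕ, ∃ N : ℕ, IsLocalRing.maximalIdeal A ^ N ≤ a n) (hcof' : ∀ N : ℕ, ∃ n : ℕ, a n ≤ IsLocalRing.maximalIdeal A ^ N) (hlen : ∀ n : ℕ, Module.length A (A ⧸ a n) = Module.length A ((A ⧸ a n) →ₗ[A] I)) : ∃ f : IsLocalRing.ResidueField A →ₗ[A] I, InjHull.IsInjectiveHull f := by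
  obtain ⟨e⟩ := hb
  have hsimple : IsSimpleModule A (A ⧸ IsLocalRing.maximalIdeal A) :=
    isSimpleModule_iff_isCoatom.mpr (Ideal.isMaximal_def.mp inferInstance)
  have hs : IsSimpleModule A (IsLocalRing.ResidueField A →ₗ[A] I) :=
    (LinearEquiv.isSimpleModule_iff e).mpr hsimple
  have : Nontrivial (IsLocalRing.ResidueField A →ₗ[A] I) := IsSimpleModule.nontrivial A _
  obtain ⟨φ, hφ0⟩ := exists_ne (0 : IsLocalRing.ResidueField A →ₗ[A] I)
  have hφ : IsEssentialInj φ := isEssentialInj_of_powerTorsion ha hs φ hφ0
  obtain ⟨E, _, _, f, hf⟩ := Groth.Agent.S0299.result A (IsLocalRing.ResidueField A)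
  obtain ⟨ι, hι⟩ := Groth.Agent.Lib.InjHull.extend hf.isInjective φ hφ.injective f
  have hιinj : Function.Injective ι :=
    Groth.Agent.Lib.InjHull.injective_of_comp_essential hφ ι (by rw [hι]; exact hf.injective)
  have hιsurj : Function.Surjective ι :=
    bijective_embedding A I E f hf ι hιinj a hcof hcof' hlen
  have hinj : Module.Injective A I :=
    injective_of_linearEquiv (LinearEquiv.ofBijective ι ⟨hιinj, hιsurj⟩) hf.isInjective
  exact (Groth.Agent.S5155.result A I).mpr ⟨hinj, ha, hs⟩

end Groth.Agent.S11174
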