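import Groth.Statements.S5671
import Groth.Agent.Lib.H8CM6
import Groth.Agent.Lib.H29Depth
import Mathlib.Tactic

set_option autoImplicit false
universe u
open CategoryTheory
open Dual

namespace Groth.Agent.S5671

/-- First assertion, in the local-algebra form to which its proof reduces it: let `A` be a regular local
ring of dimension `n`, `p ≥ 0`, and `M` a finite `A`-module whose support has dimension at most `n -
p`. Then `Ext^i_A(M, A) = 0` for every `i < p`. (The geometric statement: on a nonsingular
`n`-dimensional variety the sheaves `Ext^i(F, L)` vanish for `i < p` when `F` is coherent with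
support of dimension `≤ n - p` and `L` is locally free.) -/
theorem result (A : Type u) [CommRing A] [IsRegularLocalRing A] (M : Type u) [AddCommGroup M] [Module A M] [Module.Finite A M] (p : ℕ) (hdim : Module.supportDim A M + p ≤ ringKrullDim A) (i : ℕ) (hi : i < p) : Subsingleton (Abelian.Ext (ModuleCat.of A M) (ModuleCat.of A A) i) := by
  have hCM : LocCoh.IsCohenMacaulayLocalRing A :=
    Groth.Agent.Lib.H8CM.isCMLocalRing_of_isRegularLocalRing
  by_cases hM : Subsingleton M
  · -- zero module
    have hz : Limits.IsZero (ModuleCat.of A M) := ModuleCat.isZero_of_subsingleton _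
    refine subsingleton_of_forall_eq 0 fun e => ?_
    have h1 : e = (Abelian.Ext.mk₀ (𝟙 (ModuleCat.of A M))).comp e (zero_add i) :=
      (Abelian.Ext.mk₀_id_comp e).symm
    rw [h1, hz.eq_of_src (𝟙 _) 0, Abelian.Ext.mk₀_zero, Abelian.Ext.zero_comp]
  · rw [not_subsingleton_iff_nontrivial] at hM
    set I := Module.annihilator A M with hI
    have hItop : I ≠ ⊤ := by
      intro h
      have : (1 : A) ∈ Module.annihilator A M := by rw [← hI, h]; trivial
      rw [Module.mem_annihilator] at this
      obtain ⟨x, y, hxy⟩ := hM
      exact hxy (by rw [← one_smul A x, ← one_smul A y, this x, this y])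
    have hdimeq : Module.supportDim A M = ringKrullDim (A ⧸ I) :=
      Module.supportDim_eq_ringKrullDim_quotient_annihilator A M
    have hCMeq := Groth.Agent.Lib.H8CM.ringKrullDim_eq_add_idealDepth (R := A) hItop
    -- p ≤ depth_I A
    have hp : (p : ℕ∞) ≤ LocCoh.idealDepth I A := by
      rw [hdimeq, hCMeq] at hdim
      have hne : Nontrivial (A ⧸ I) := Ideal.Quotient.nontrivial_iff.mpr hItop
      obtain ⟨d, hd⟩ : ∃ d : ℕ, ringKrullDim (A ⧸ I) = d := by
        have h1 : ringKrullDim (A ⧸ I) ≤ ringKrullDim A :=
          ringKrullDim_quotient_le I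
        have h2 : ringKrullDim A < ⊤ := ringKrullDim_lt_top
        have h3 : 0 ≤ ringKrullDim (A ⧸ I) := ringKrullDim_nonneg_of_nontrivial
        have hlt : ringKrullDim (A ⧸ I) < ⊤ := lt_of_le_of_lt h1 h2
        have hbot : ringKrullDim (A ⧸ I) ≠ ⊥ := by
          intro h; rw [h] at h3; simp at h3
        obtain ⟨d', hd'⟩ := WithBot.ne_bot_iff_exists.mp hbot
        have hd'top : d' ≠ ⊤ := by
          intro h
          rw [h] at hd'
          rw [← hd'] at hlt
          exact lt_irrefl _ hlt
        refine ⟨d'.toNat, ?_⟩
        rw [← hd']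
        have := ENat.coe_toNat hd'top
        exact_mod_cast congrArg (WithBot.some) this.symm
      rw [hd] at hdim
      have h5 : ((d : ℕ∞) + (p : ℕ∞) : ℕ∞) ≤ (d : ℕ∞) + LocCoh.idealDepth I A := by
        exact_mod_cast hdim
      exact (ENat.add_le_add_iff_left (ENat.coe_ne_top d)).mp h5
    have hIM : I • (⊤ : Submodule A A) ≠ ⊤ := by simpa using hItop
    obtain ⟨rs, hlen, hmem, hreg⟩ := (Groth.Agent.Lib.H29Depth.le_idealDepth_iff I A hIM p).mp hp
    have hfinM : Module.Finite A (ModuleCat.of A M) := inferInstanceAs (Module.Finite A M)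
    have hfinA : Module.Finite A (ModuleCat.of A A) := inferInstanceAs (Module.Finite A A)
    have hsupp : Module.support A (ModuleCat.of A M) ⊆ PrimeSpectrum.zeroLocus I :=
      (Module.support_eq_zeroLocus (R := A) (M := M)).le
    exact ModuleCat.subsingleton_ext_of_exists_isRegular I (ModuleCat.of A M) hsupp
      (ModuleCat.of A A) (lt_top_iff_ne_top.mpr hIM) rs hmem hreg i (hlen ▸ hi)

end Groth.Agent.S5671
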