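import Groth.Statements.S5672
import Groth.Agent.S5671
import Mathlib.Algebra.Homology.DerivedCategory.Ext.ExactSequences
import Mathlib.Algebra.Homology.ShortComplex.ModuleCat
import Mathlib.Tactic

set_option autoImplicit false
universe u
open CategoryTheory
open Dual

namespace Groth.Agent.S5672

section General

variable {A : Type u} [CommRing A]

/-- pullback of an Ext class along a morphism -/
noncomputable abbrev pb {X Y Z : ModuleCat.{u} A} (f : X ⟶ Y) {p : ℕ} (ξ : Abelian.Ext Y Z p) :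
    Abelian.Ext X Z p :=
  (Abelian.Ext.mk₀ f).comp ξ (zero_add p)

variable {X Y W Z : ModuleCat.{u} A} {p : ℕ}

lemma pb_comp (f : X ⟶ Y) (g : Y ⟶ W) (ξ : Abelian.Ext W Z p) :
    pb (f ≫ g) ξ = pb f (pb g ξ) := by
  unfold pb
  rw [← Abelian.Ext.mk₀_comp_mk₀, Abelian.Ext.comp_assoc _ _ _ (zero_add 0) (zero_add p)
    (by omega)]

lemma pb_add (f g : X ⟶ Y) (ξ : Abelian.Ext Y Z p) : pb (f + g) ξ = pb f ξ + pb g ξ := by
  unfold pb; rw [Abelian.Ext.mk₀_add, Abelian.Ext.add_comp]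

lemma pb_zero (ξ : Abelian.Ext Y Z p) : pb (0 : X ⟶ Y) ξ = 0 := by
  unfold pb; rw [Abelian.Ext.mk₀_zero, Abelian.Ext.zero_comp]

lemma pb_sum {ι : Type*} (s : Finset ι) (f : ι → (X ⟶ Y)) (ξ : Abelian.Ext Y Z p) :
    pb (∑ i ∈ s, f i) ξ = ∑ i ∈ s, pb (f i) ξ := by
  classical
  induction s using Finset.induction_on with
  | empty => simp [pb_zero]
  | insert a s ha ih => rw [Finset.sum_insert ha, Finset.sum_insert ha, pb_add, ih]

lemma pb_smul (a : A) (f : X ⟶ Y) (ξ : Abelian.Ext Y Z p) : pb (a • f) ξ = a • pb f ξ := by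
  unfold pb; rw [Abelian.Ext.mk₀_smul, Abelian.Ext.smul_comp]

lemma pb_id (ξ : Abelian.Ext Y Z p) : pb (𝟙 Y) ξ = ξ := Abelian.Ext.mk₀_id_comp ξ

lemma pb_map_add (f : X ⟶ Y) (ξ η : Abelian.Ext Y Z p) : pb f (ξ + η) = pb f ξ + pb f η :=
  Abelian.Ext.comp_add _ _ _ _

lemma pb_map_zero (f : X ⟶ Y) : pb f (0 : Abelian.Ext Y Z p) = 0 := Abelian.Ext.comp_zero _ _ _ _ _

lemma pb_map_sum {ι : Type*} (s : Finset ι) (f : X ⟶ Y) (ξ : ι → Abelian.Ext Y Z p) :
    pb f (∑ i ∈ s, ξ i) = ∑ i ∈ s, pb f (ξ i) := by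
  classical
  induction s using Finset.induction_on with
  | empty => simp [pb_map_zero]
  | insert a s ha ih => rw [Finset.sum_insert ha, Finset.sum_insert ha, pb_map_add, ih]

end General

section Concrete

variable {A : Type u} [CommRing A] (J : Ideal A)

/-- every `A`-endomorphism of `A/J` is multiplication by a scalar -/
lemma endo_eq_smul (φ : (A ⧸ J) →ₗ[A] (A ⧸ J)) (a : A)
    (ha : (Ideal.Quotient.mk J a : A ⧸ J) = φ 1) :
    φ = a • LinearMap.id := by
  apply LinearMap.ext; intro z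
  obtain ⟨c, rfl⟩ := Ideal.Quotient.mk_surjective z
  have h1 : ∀ c : A, (Ideal.Quotient.mk J c : A ⧸ J) = c • (1 : A ⧸ J) := by
    intro c
    rw [Algebra.smul_def, mul_one]; rfl
  rw [h1 c, map_smul, ← ha, LinearMap.smul_apply, LinearMap.id_apply, h1 a, smul_comm]

variable {J} {M : Type u} [AddCommGroup M] [Module A M]

lemma smul_eq_zero_of_mem (hJM : J • (⊤ : Submodule A M) = ⊥) {a : A} (ha : a ∈ J) (m : M) :
    a • m = 0 := by
  have : a • m ∈ J • (⊤ : Submodule A M) := Submodule.smul_mem_smul ha trivial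
  rw [hJM] at this
  exact (Submodule.mem_bot A).mp this

/-- the map `A/J → M`, `1 ↦ m` -/
noncomputable def uOf (hJM : J • (⊤ : Submodule A M) = ⊥) (m : M) : (A ⧸ J) →ₗ[A] M :=
  Submodule.liftQ J (LinearMap.toSpanSingleton A M m) (by
    intro a ha
    rw [LinearMap.mem_ker, LinearMap.toSpanSingleton_apply]
    exact smul_eq_zero_of_mem hJM ha m)

lemma uOf_mk (hJM : J • (⊤ : Submodule A M) = ⊥) (m : M) (a : A) :
    uOf hJM m (Ideal.Quotient.mk J a) = a • m := by
  unfold uOf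
  change Submodule.liftQ J (LinearMap.toSpanSingleton A M m) _ (Submodule.Quotient.mk a) = _
  rw [Submodule.liftQ_apply, LinearMap.toSpanSingleton_apply]

lemma eq_uOf (hJM : J • (⊤ : Submodule A M) = ⊥) (u : (A ⧸ J) →ₗ[A] M) :
    u = uOf hJM (u 1) := by
  apply LinearMap.ext; intro z
  obtain ⟨c, rfl⟩ := Ideal.Quotient.mk_surjective z
  rw [uOf_mk, ← map_smul]
  congr 1
  rw [Algebra.smul_def, mul_one]; rfl

/-- the presentation map `(A/J)^n → M` attached to a family of elements -/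
noncomputable def piMap (hJM : J • (⊤ : Submodule A M) = ⊥) {n : ℕ} (s : Fin n → M) :
    (Fin n → A ⧸ J) →ₗ[A] M :=
  ∑ i, (uOf hJM (s i)).comp (LinearMap.proj i)

lemma piMap_comp_single (hJM : J • (⊤ : Submodule A M) = ⊥) {n : ℕ} (s : Fin n → M) (i : Fin n) :
    (piMap hJM s).comp (LinearMap.single A (fun _ => A ⧸ J) i) = uOf hJM (s i) := by
  have := (LinearMap.lsum A (fun _ : Fin n => A ⧸ J) A).left_inv (fun i => uOf hJM (s i))
  exact congrFun this i

lemma piMap_surjective (hJM : J • (⊤ : Submodule A M) = ⊥) {n : ℕ} (s : Fin n → M)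
    (hs : Submodule.span A (Set.range s) = ⊤) : Function.Surjective (piMap hJM s) := by
  intro m
  have hm : m ∈ Submodule.span A (Set.range s) := by rw [hs]; trivial
  obtain ⟨b, rfl⟩ := (Submodule.mem_span_range_iff_exists_fun A).mp hm
  refine ⟨fun i => Ideal.Quotient.mk J (b i), ?_⟩
  unfold piMap
  rw [LinearMap.sum_apply]
  refine Finset.sum_congr rfl fun i _ => ?_
  rw [LinearMap.comp_apply, LinearMap.proj_apply, uOf_mk]

end Concrete

section Main

variable {A : Type u} [CommRing A]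

lemma ofHom_sum' {M N : Type u} [AddCommGroup M] [Module A M] [AddCommGroup N] [Module A N]
    {ι : Type*} (s : Finset ι) (f : ι → (M →ₗ[A] N)) :
    ModuleCat.ofHom (∑ i ∈ s, f i) = ∑ i ∈ s, ModuleCat.ofHom (f i) := by
  apply ModuleCat.hom_ext
  rw [ModuleCat.hom_sum]
  rfl

lemma ofHom_smul' {M N : Type u} [AddCommGroup M] [Module A M] [AddCommGroup N] [Module A N]
    (a : A) (f : M →ₗ[A] N) :
    ModuleCat.ofHom (a • f) = a • ModuleCat.ofHom f := by
  apply ModuleCat.hom_ext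
  rw [ModuleCat.hom_smul]
  rfl

/-- the short complex `0 → ker π → N → M → 0` -/
noncomputable def presSC {M N : Type u} [AddCommGroup M] [Module A M] [AddCommGroup N]
    [Module A N] (π : N →ₗ[A] M) : ShortComplex (ModuleCat.{u} A) :=
  ShortComplex.mk (ModuleCat.ofHom (LinearMap.ker π).subtype) (ModuleCat.ofHom π) (by
    apply ModuleCat.hom_ext
    apply LinearMap.ext
    intro x
    exact x.2)

lemma presSC_shortExact {M N : Type u} [AddCommGroup M] [Module A M] [AddCommGroup N]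
    [Module A N] (π : N →ₗ[A] M) (hπ : Function.Surjective π) : (presSC π).ShortExact :=
  ModuleCat.shortComplex_shortExact _ (by
    intro y
    constructor
    · intro hy; exact ⟨⟨y, hy⟩, rfl⟩
    · rintro ⟨z, rfl⟩; exact z.2) Subtype.val_injective hπ

variable {Z : ModuleCat.{u} A} {p : ℕ}

lemma pullback_injective_of_van {M N : Type u} [AddCommGroup M] [Module A M] [AddCommGroup N]
    [Module A N] (π : N →ₗ[A] M) (hπ : Function.Surjective π)
    (hK : ∀ i, i < p → Subsingleton (Abelian.Ext (ModuleCat.of A (LinearMap.ker π)) Z i))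
    (ξ : Abelian.Ext (ModuleCat.of A M) Z p) (h : pb (ModuleCat.ofHom π) ξ = 0) : ξ = 0 := by
  cases p with
  | zero =>
    have : Epi (ModuleCat.ofHom π) := (ModuleCat.epi_iff_surjective _).mpr hπ
    apply Abelian.Ext.precomp_mk₀_injective_of_epi Z (ModuleCat.ofHom π)
    rw [map_zero]
    exact h
  | succ q =>
    have : Subsingleton (Abelian.Ext (presSC π).X₁ Z q) := hK q (by omega)
    obtain ⟨x₁, rfl⟩ := Abelian.Ext.contravariant_sequence_exact₃ (presSC_shortExact π hπ) Z ξ h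
      (show 1 + q = q + 1 by omega)
    rw [Subsingleton.elim x₁ 0, Abelian.Ext.comp_zero]
    rfl

variable {J : Ideal A}

/-- the vanishing hypothesis -/
def Van (J : Ideal A) (Z : ModuleCat.{u} A) (p : ℕ) : Prop :=
  ∀ (K : Type u) [AddCommGroup K] [Module A K] [Module.Finite A K],
    J • (⊤ : Submodule A K) = ⊥ → ∀ i, i < p → Subsingleton (Abelian.Ext (ModuleCat.of A K) Z i)

lemma smul_top_pi (n : ℕ) : J • (⊤ : Submodule A (Fin n → A ⧸ J)) = ⊥ := by
  rw [eq_bot_iff]
  rw [Submodule.smul_le]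
  intro a ha x _
  rw [Submodule.mem_bot]
  funext i
  obtain ⟨c, hc⟩ := Ideal.Quotient.mk_surjective (x i)
  rw [Pi.smul_apply, ← hc, Algebra.smul_def, Pi.zero_apply]
  change Ideal.Quotient.mk J a * Ideal.Quotient.mk J c = 0
  rw [Ideal.Quotient.eq_zero_iff_mem.mpr ha, zero_mul]

lemma smul_top_sub {N : Type u} [AddCommGroup N] [Module A N]
    (hJN : J • (⊤ : Submodule A N) = ⊥) (K : Submodule A N) :
    J • (⊤ : Submodule A K) = ⊥ := by
  rw [eq_bot_iff, Submodule.smul_le]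
  intro a ha x _
  rw [Submodule.mem_bot]
  apply Subtype.ext
  rw [Submodule.coe_smul, Submodule.coe_zero]
  exact smul_eq_zero_of_mem hJN ha _

lemma inj [IsNoetherianRing A] (hvan : Van J Z p) (M : Type u) [AddCommGroup M] [Module A M] [Module.Finite A M]
    (hJM : J • (⊤ : Submodule A M) = ⊥) (ξ : Abelian.Ext (ModuleCat.of A M) Z p)
    (h : ∀ u : (A ⧸ J) →ₗ[A] M, pb (ModuleCat.ofHom u) ξ = 0) : ξ = 0 := by
  obtain ⟨n, s, hs⟩ := Module.Finite.exists_fin (R := A) (M := M)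
  have hπ := piMap_surjective hJM s hs
  have hJK : J • (⊤ : Submodule A (LinearMap.ker (piMap hJM s))) = ⊥ :=
    smul_top_sub (smul_top_pi n) _
  apply pullback_injective_of_van (piMap hJM s) hπ (fun i hi => hvan _ hJK i hi) ξ
  have hid : 𝟙 (ModuleCat.of A (Fin n → A ⧸ J)) =
      ∑ i, ModuleCat.ofHom (LinearMap.proj (R := A) (φ := fun _ : Fin n => A ⧸ J) i) ≫
        ModuleCat.ofHom (LinearMap.single A (fun _ : Fin n => A ⧸ J) i) := by
    rw [← ModuleCat.ofHom_id, ← LinearMap.lsum_single (R := A) (φ := fun _ : Fin n => A ⧸ J) A,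
      LinearMap.lsum_apply, ofHom_sum']
    rfl
  rw [← pb_id (pb (ModuleCat.ofHom (piMap hJM s)) ξ), hid, pb_sum]
  apply Finset.sum_eq_zero
  intro i _
  rw [pb_comp, ← pb_comp (ModuleCat.ofHom (LinearMap.single A (fun _ : Fin n => A ⧸ J) i)),
    ← ModuleCat.ofHom_comp, piMap_comp_single, h, pb_map_zero]

lemma surj [IsNoetherianRing A] (hvan : Van J Z p) (M : Type u) [AddCommGroup M] [Module A M] [Module.Finite A M]
    (hJM : J • (⊤ : Submodule A M) = ⊥)
    (g : ((A ⧸ J) →ₗ[A] M) →ₗ[A] Abelian.Ext (ModuleCat.of A (A ⧸ J)) Z p) :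
    ∃ ξ : Abelian.Ext (ModuleCat.of A M) Z p,
      ∀ u : (A ⧸ J) →ₗ[A] M, g u = pb (ModuleCat.ofHom u) ξ := by
  obtain ⟨n, s, hs⟩ := Module.Finite.exists_fin (R := A) (M := M)
  have hπ := piMap_surjective hJM s hs
  have hJF : J • (⊤ : Submodule A (Fin n → A ⧸ J)) = ⊥ := smul_top_pi n
  have hJK : J • (⊤ : Submodule A (LinearMap.ker (piMap hJM s))) = ⊥ :=
    smul_top_sub hJF _
  let η : Abelian.Ext (ModuleCat.of A (Fin n → A ⧸ J)) Z p :=
    ∑ i, pb (ModuleCat.ofHom (LinearMap.proj (R := A) (φ := fun _ : Fin n => A ⧸ J) i))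
      (g (uOf hJM (s i)))
  have key : ∀ w : (A ⧸ J) →ₗ[A] (Fin n → A ⧸ J),
      pb (ModuleCat.ofHom w) η = g ((piMap hJM s).comp w) := by
    intro w
    choose b hb using fun i => Ideal.Quotient.mk_surjective (w 1 i)
    have h1 : ∀ i, (LinearMap.proj (R := A) (φ := fun _ : Fin n => A ⧸ J) i).comp w =
        b i • LinearMap.id := fun i => endo_eq_smul J _ (b i) (hb i)
    have h2 : (piMap hJM s).comp w = ∑ i, b i • uOf hJM (s i) := by
      apply LinearMap.ext
      intro z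
      unfold piMap
      rw [LinearMap.comp_apply, LinearMap.sum_apply, LinearMap.sum_apply]
      refine Finset.sum_congr rfl fun i _ => ?_
      rw [LinearMap.comp_apply, LinearMap.smul_apply, ← map_smul]
      congr 1
      exact LinearMap.congr_fun (h1 i) z
    rw [h2, map_sum, pb_map_sum]
    refine Finset.sum_congr rfl fun i _ => ?_
    rw [← pb_comp, ← ModuleCat.ofHom_comp, h1, map_smul, ofHom_smul', pb_smul, ModuleCat.ofHom_id,
      pb_id]
  have hK0 : pb (ModuleCat.ofHom (LinearMap.ker (piMap hJM s)).subtype) η = 0 := by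
    apply inj hvan _ hJK
    intro v
    rw [← pb_comp, ← ModuleCat.ofHom_comp, key]
    have : (piMap hJM s).comp ((LinearMap.ker (piMap hJM s)).subtype.comp v) = 0 := by
      apply LinearMap.ext
      intro z
      exact (v z).2
    rw [this, map_zero]
  obtain ⟨ξ, hξ⟩ := Abelian.Ext.contravariant_sequence_exact₂
    (presSC_shortExact (piMap hJM s) hπ) Z η hK0
  refine ⟨ξ, fun u => ?_⟩
  obtain ⟨w, rfl⟩ : ∃ w : (A ⧸ J) →ₗ[A] (Fin n → A ⧸ J), u = (piMap hJM s).comp w := by
    obtain ⟨x, hx⟩ := hπ (u 1)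
    refine ⟨uOf hJF x, ?_⟩
    rw [eq_uOf hJM u, eq_uOf hJM ((piMap hJM s).comp (uOf hJF x))]
    congr 1
    rw [LinearMap.comp_apply, ← hx]
    congr 1
    have := uOf_mk hJF x 1
    rw [one_smul] at this
    exact this.symm
  rw [← key, ← hξ, ModuleCat.ofHom_comp, pb_comp]
  rfl

end Main

/-- Let `A` be a regular local ring of dimension `n`, `J` an ideal with `dim(A/J) ≤ n - p`, and `M` a
finite `A`-module with `JM = 0`. For `ξ ∈ Ext^p_A(M, A)` and an `A`-linear `u : A/J → M` write `u^*ξ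
∈ Ext^p_A(A/J, A)` for the pullback. Then `ξ ↦ (u ↦ u^*ξ)` is injective, and every `A`-linear map
`Hom_A(A/J, M) → Ext^p_A(A/J, A)` is of the form `u ↦ u^*ξ` for some `ξ`. Since `Hom_A(A/J, M) = M`
here, this says that the canonical map `Ext^p_A(M, A) → Hom_A(M, Ext^p_A(A/J, A))` is bijective. -/
theorem result (A : Type u) [CommRing A] [IsRegularLocalRing A] (p : ℕ) (J : Ideal A) (hJ : ringKrullDim (A ⧸ J) + p ≤ ringKrullDim A) (M : Type u) [AddCommGroup M] [Module A M] [Module.Finite A M] (hJM : J • (⊤ : Submodule A M) = ⊥) : Function.Injective (fun ξ : Abelian.Ext (ModuleCat.of A M) (ModuleCat.of A A) p => fun u : (A ⧸ J) →ₗ[A] M => (Abelian.Ext.mk₀ (ModuleCat.ofHom u)).comp ξ (zero_add p)) ∧ ∀ g : ((A ⧸ J) →ₗ[A] M) →ₗ[A] Abelian.Ext (ModuleCat.of A (A ⧸ J)) (ModuleCat.of A A) p, ∃ ξ : Abelian.Ext (ModuleCat.of A M) (ModuleCat.of A A) p, ∀ u : (A ⧸ J) →ₗ[A] M, g u = (Abelian.Ext.mk₀ (ModuleCat.ofHom u)).comp ξ (zero_add p) := by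
  have hvan : Van J (ModuleCat.of A A) p := by
    intro K _ _ _ hJK i hi
    apply Groth.Agent.S5671.result A K p ?_ i hi
    have hle : J ≤ Module.annihilator A K := by
      intro a ha
      rw [Module.mem_annihilator]
      exact fun k => smul_eq_zero_of_mem hJK ha k
    have h1 : Module.supportDim A K ≤ ringKrullDim (A ⧸ J) := by
      rw [Module.supportDim_eq_ringKrullDim_quotient_annihilator A K]
      exact ringKrullDim_le_of_surjective (Ideal.Quotient.factor hle)
        (Ideal.Quotient.factor_surjective hle)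
    exact (add_le_add_left h1 _).trans hJ
  refine ⟨fun ξ ξ' h => ?_, fun g => surj hvan M hJM g⟩
  rw [← sub_eq_zero]
  apply inj hvan M hJM
  intro u
  have hu := congrFun h u
  have h2 : pb (ModuleCat.ofHom u) (ξ - ξ') =
      pb (ModuleCat.ofHom u) ξ - pb (ModuleCat.ofHom u) ξ' :=
    map_sub ((Abelian.Ext.mk₀ (ModuleCat.ofHom u)).precomp (ModuleCat.of A A) (zero_add p)) ξ ξ'
  rw [h2, sub_eq_zero]
  exact hu

end Groth.Agent.S5672
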