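import Groth.Statements.S5752
import Mathlib.RingTheory.Regular.LinearMap
import Mathlib.RingTheory.Regular.RegularSequence
import Mathlib.RingTheory.Ideal.AssociatedPrime.Finiteness

set_option autoImplicit false
universe u
open EGA41

namespace Groth.Agent.S5752

variable (A : Type u) [CommRing A] [IsLocalRing A]

/-- for a finite module over a local ring, `m M = M` iff `M = 0` -/
lemma smul_top_eq_top_iff (M : Type u) [AddCommGroup M] [Module A M] [Module.Finite A M] :
    IsLocalRing.maximalIdeal A • (⊤ : Submodule A M) = ⊤ ↔ Subsingleton M := by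
  constructor
  · intro h
    by_contra hne
    rw [not_subsingleton_iff_nontrivial] at hne
    exact Submodule.top_ne_ideal_smul_of_le_jacobson_annihilator
      (IsLocalRing.maximalIdeal_le_jacobson _) h.symm
  · intro h
    exact Subsingleton.elim _ _

/-- depth zero iff no regular element in the maximal ideal (nonzero module) -/
lemma depth_eq_zero_iff_forall_not_regular (M : Type u) [AddCommGroup M] [Module A M]
    [Module.Finite A M] [Nontrivial M] :
    LocCoh.depth A M = 0 ↔ ∀ x ∈ IsLocalRing.maximalIdeal A, ¬ IsSMulRegular M x := by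
  have hne : ¬ IsLocalRing.maximalIdeal A • (⊤ : Submodule A M) = ⊤ := by
    rw [smul_top_eq_top_iff]
    exact not_subsingleton M
  unfold LocCoh.depth LocCoh.idealDepth
  rw [if_neg hne]
  simp only [ENat.iSup_eq_zero, Nat.cast_eq_zero, List.length_eq_zero_iff]
  constructor
  · intro h x hx hreg
    have := h [x] ⟨(RingTheory.Sequence.isWeaklyRegular_cons_iff M x []).2
      ⟨hreg, RingTheory.Sequence.IsWeaklyRegular.nil A _⟩, by simpa using hx⟩
    simp at this
  · rintro h rs ⟨hreg, hmem⟩
    cases rs with
    | nil => rfl
    | cons x rs =>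
      exfalso
      exact h x (hmem x (by simp)) ((RingTheory.Sequence.isWeaklyRegular_cons_iff M x rs).1 hreg).1

/-- no regular element in the maximal ideal iff the maximal ideal is associated -/
lemma forall_not_regular_iff [IsNoetherianRing A] (M : Type u) [AddCommGroup M] [Module A M]
    [Module.Finite A M] [Nontrivial M] :
    (∀ x ∈ IsLocalRing.maximalIdeal A, ¬ IsSMulRegular M x) ↔
      IsLocalRing.maximalIdeal A ∈ associatedPrimes A M := by
  constructor
  · intro h
    have hexist : ∃ p ∈ associatedPrimes A M, IsLocalRing.maximalIdeal A ≤ p := by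
      rcases associatedPrimes.nonempty A M with ⟨Ia, hIa⟩
      apply (Ideal.subset_union_prime_finite (associatedPrimes.finite A M) Ia Ia _).mp
      · rw [biUnion_associatedPrimes_eq_compl_regular A M]
        exact fun r hr ↦ h r hr
      · exact fun I hin _ _ ↦ IsAssociatedPrime.isPrime hin
    obtain ⟨p, hp, hle⟩ := hexist
    have hpp : p.IsPrime := IsAssociatedPrime.isPrime hp
    have : IsLocalRing.maximalIdeal A = p :=
      (IsLocalRing.maximalIdeal.isMaximal A).eq_of_le hpp.ne_top hle
    rw [this]
    exact hp
  · intro h x hx hreg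
    have hx' : x ∈ ⋃ p ∈ associatedPrimes A M, (p : Set A) :=
      Set.mem_biUnion h hx
    rw [biUnion_associatedPrimes_eq_compl_regular A M] at hx'
    exact hx' hreg

theorem result (A : Type u) [CommRing A] [IsLocalRing A]
    [IsNoetherianRing A] (M : Type u) [AddCommGroup M] [Module A M] [Module.Finite A M] :
    LocCoh.depth A M = 0 ↔ IsLocalRing.maximalIdeal A ∈ associatedPrimes A M := by
  rcases subsingleton_or_nontrivial M with hM | hM
  · have h1 : LocCoh.depth A M = ⊤ := by
      unfold LocCoh.depth LocCoh.idealDepth
      rw [if_pos ((smul_top_eq_top_iff A M).2 hM)]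
    rw [h1, associatedPrimes.eq_empty_of_subsingleton]
    simp
  · rw [depth_eq_zero_iff_forall_not_regular, forall_not_regular_iff]

end Groth.Agent.S5752
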