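import Groth.Statements.S5789
import Groth.Agent.Lib.H87GlDim2
import Groth.Agent.Lib.H29Depth

set_option autoImplicit false
universe u
open CategoryTheory
open EGA41

namespace Groth.Agent.S5789

open Groth.Agent.Lib.H87GlDim Groth.Agent.Lib.H87GlDim2 Abelian

theorem subsingleton_ext_of_iso_right {C : Type*} [Category C] [Abelian C] [HasExt C] {X Y Y' : C}
    (e : Y ≅ Y') (n : ℕ) (h : Subsingleton (Ext X Y n)) : Subsingleton (Ext X Y' n) := by
  have key : ∀ γ : Ext X Y' n, γ = 0 := by
    intro γ
    have h1 : (γ.comp (Ext.mk₀ e.inv) (add_zero n)).comp (Ext.mk₀ e.hom) (add_zero n) = γ := by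
      rw [Ext.comp_assoc_of_third_deg_zero, Ext.mk₀_comp_mk₀, e.inv_hom_id, Ext.comp_mk₀_id]
    rw [← h1, Subsingleton.elim (γ.comp (Ext.mk₀ e.inv) (add_zero n)) 0, Ext.zero_comp]
  exact ⟨fun a b => by rw [key a, key b]⟩

/-- If `Ext^j(M, A/I) = 0` for all ideals `I`, then `Ext^j(M, L) = 0` for all finitely generated `L`
(induction on the number of generators). -/
theorem ext_subsingleton_of_span' {A : Type u} [CommRing A] (M : ModuleCat.{u} A) (j : ℕ)
    (hc : ∀ I : Ideal A, Subsingleton (Ext M (ModuleCat.of A (A ⧸ I)) j)) :
    ∀ (r : ℕ) (L : ModuleCat.{u} A) (s : Fin r → L), Submodule.span A (Set.range s) = ⊤ →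
      Subsingleton (Ext M L j) := by
  intro r
  induction r with
  | zero =>
    intro L s hs
    have : Subsingleton L := by
      have h : (⊤ : Submodule A L) = ⊥ := by
        rw [← hs, Set.range_eq_empty, Submodule.span_empty]
      exact (Submodule.subsingleton_iff A).mp (subsingleton_of_bot_eq_top h.symm)
    exact ext_subsingleton_of_subsingleton_right M L j
  | succ r ih =>
    intro L s hs
    let g : A →ₗ[A] L := LinearMap.toSpanSingleton A L (s 0)
    let N : Submodule A L := LinearMap.range g
    have hN : Subsingleton (Ext M (ModuleCat.of A N) j) := by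
      have e : ModuleCat.of A (A ⧸ LinearMap.ker g) ≅ ModuleCat.of A N :=
        (LinearMap.quotKerEquivRange g).toModuleIso
      exact subsingleton_ext_of_iso_right e j (hc _)
    have hQ : Subsingleton (Ext M (ModuleCat.of A (L ⧸ N)) j) := by
      refine ih (ModuleCat.of A (L ⧸ N)) (fun i => N.mkQ (s i.succ)) ?_
      rw [eq_top_iff]
      rintro y -
      obtain ⟨l, rfl⟩ := N.mkQ_surjective y
      have hl : l ∈ Submodule.span A (Set.range s) := by rw [hs]; trivial
      induction hl using Submodule.span_induction with
      | mem x hx =>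
        obtain ⟨i, rfl⟩ := hx
        refine Fin.cases ?_ (fun k => ?_) i
        · have : N.mkQ (s 0) = 0 := by
            rw [Submodule.mkQ_apply, Submodule.Quotient.mk_eq_zero]
            exact ⟨1, by simp [g]⟩
          rw [this]
          exact Submodule.zero_mem _
        · exact Submodule.subset_span ⟨k, rfl⟩
      | zero => rw [map_zero]; exact Submodule.zero_mem _
      | add x y _ _ hx hy => rw [map_add]; exact Submodule.add_mem _ hx hy
      | smul a x _ hx => rw [map_smul]; exact Submodule.smul_mem _ a hx
    let S : ShortComplex (ModuleCat.{u} A) :=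
      ModuleCat.shortComplexOfCompEqZero N.subtype N.mkQ
        (by ext y; exact (Submodule.Quotient.mk_eq_zero N).mpr y.2)
    have hS : S.ShortExact := ModuleCat.shortComplex_shortExact S
      (by
        intro y
        simp only [S, ModuleCat.hom_ofHom]
        constructor
        · intro hy
          exact ⟨⟨y, (Submodule.Quotient.mk_eq_zero N).mp hy⟩, rfl⟩
        · rintro ⟨z, rfl⟩
          exact (Submodule.Quotient.mk_eq_zero N).mpr z.2)
      (Subtype.val_injective) (Submodule.mkQ_surjective N)
    have key : ∀ x : Ext M L j, x = 0 := fun x => by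
      obtain ⟨x₁, rfl⟩ := Ext.covariant_sequence_exact₂ M hS x (Subsingleton.elim _ _)
      have : x₁ = 0 := Subsingleton.elim _ _
      rw [this, Ext.zero_comp]
    exact ⟨fun a b => by rw [key a, key b]⟩

/-- Let A be a Noetherian ring, M a finitely generated A-module and n ≥ 0. Then M has projective
dimension at most n if and only if Ext^(n+1)_A(M, N) = 0 for every monogenous A-module N, i.e. every
N = A/I with I an ideal. -/
theorem result (A : Type u) [CommRing A] [IsNoetherianRing A]
    (M : Type u) [AddCommGroup M] [Module A M] [Module.Finite A M] (n : ℕ) :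
    HasProjectiveDimensionLT (ModuleCat.of A M) (n + 1) ↔
      ∀ I : Ideal A, Subsingleton (Abelian.Ext (ModuleCat.of A M) (ModuleCat.of A (A ⧸ I)) (n + 1)) := by
  constructor
  · intro h I
    exact HasProjectiveDimensionLT.subsingleton (ModuleCat.of A M) (n + 1) (n + 1) le_rfl _
  · intro h
    apply ModuleCat.hasProjectiveDimensionLT_of_forall_finite
    intro L hL
    obtain ⟨r, s, hs⟩ := Module.Finite.exists_fin (R := A) (M := L)
    exact ext_subsingleton_of_span' (ModuleCat.of A M) (n + 1) h r L s hs

end Groth.Agent.S5789
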