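import Groth.Statements.S5665
import Mathlib.Algebra.Homology.DerivedCategory.Ext.ExactSequences
import Mathlib.Algebra.Homology.ShortComplex.ModuleCat
import Mathlib.Tactic

set_option autoImplicit false
universe u
open CategoryTheory Abelian
open Dual

namespace Groth.Agent.S5665

section Step

variable {A : Type u} [CommRing A] {X Z : ModuleCat.{u} A} (x : A) (g : X ⟶ Z)
  (w : (x • 𝟙 X) ≫ g = 0) (hS : (ShortComplex.mk (x • 𝟙 X) g w).ShortExact)
  (Y : ModuleCat.{u} A)

include hS in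
lemma subsingleton_step (i : ℕ) (h1 : Subsingleton (Ext X Y i))
    (h2 : Subsingleton (Ext X Y (i + 1))) : Subsingleton (Ext Z Y (i + 1)) := by
  refine subsingleton_of_forall_eq 0 fun e => ?_
  obtain ⟨x₁, rfl⟩ := Ext.contravariant_sequence_exact₃ hS Y e (Subsingleton.elim _ _)
    (show 1 + i = i + 1 by omega)
  rw [Subsingleton.elim x₁ 0, Ext.comp_zero]

/-- the connecting map as a linear map -/
noncomputable def δ (n : ℕ) : Ext X Y n →ₗ[A] Ext Z Y (n + 1) :=
  Ext.precompOfLinear hS.extClass A Y (show 1 + n = n + 1 by omega)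

lemma δ_surjective (n : ℕ) (h2 : Subsingleton (Ext X Y (n + 1))) :
    Function.Surjective (δ x g w hS Y n) := by
  intro e
  obtain ⟨x₁, rfl⟩ := Ext.contravariant_sequence_exact₃ hS Y e (Subsingleton.elim _ _)
    (show 1 + n = n + 1 by omega)
  exact ⟨x₁, rfl⟩

lemma mk₀_smul_id_comp (n : ℕ) (e : Ext X Y n) :
    (Ext.mk₀ (x • 𝟙 X)).comp e (zero_add n) = x • e := by
  rw [Ext.mk₀_smul, Ext.smul_comp, Ext.mk₀_id_comp]

lemma ker_δ (n : ℕ) :
    LinearMap.ker (δ x g w hS Y n) = Ideal.span {x} • (⊤ : Submodule A (Ext X Y n)) := by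
  rw [Submodule.ideal_span_singleton_smul]
  ext e
  rw [LinearMap.mem_ker]
  constructor
  · intro he
    obtain ⟨x₂, hx₂⟩ := Ext.contravariant_sequence_exact₁ hS Y e
      (show 1 + n = n + 1 by omega) he
    have : (Ext.mk₀ (x • 𝟙 X)).comp x₂ (zero_add n) = e := hx₂
    rw [mk₀_smul_id_comp] at this
    rw [← this]
    exact Submodule.smul_mem_pointwise_smul _ _ _ trivial
  · rintro ⟨e', -, rfl⟩
    change hS.extClass.comp (x • e') (show 1 + n = n + 1 by omega) = 0
    rw [← mk₀_smul_id_comp]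
    exact hS.extClass_comp_assoc e'

/-- The step: `Ext^{n+1}(Z, Y) ≅ Ext^n(X, Y) / x`. -/
noncomputable def stepEquiv (n : ℕ) (h2 : Subsingleton (Ext X Y (n + 1))) :
    (Ext X Y n ⧸ Ideal.span {x} • (⊤ : Submodule A (Ext X Y n))) ≃ₗ[A] Ext Z Y (n + 1) :=
  (Submodule.quotEquivOfEq _ _ (ker_δ x g w hS Y n).symm).trans
    ((δ x g w hS Y n).quotKerEquivOfSurjective (δ_surjective x g w hS Y n h2))

end Step

section Concrete

variable {A : Type u} [CommRing A]

lemma w_quot (J J' : Ideal A) (x : A) (hJ' : J' = J ⊔ Ideal.span {x}) (hle : J ≤ J') :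
    (x • 𝟙 (ModuleCat.of A (A ⧸ J))) ≫ ModuleCat.ofHom (Submodule.factor hle) = 0 := by
  apply ModuleCat.hom_ext
  apply LinearMap.ext
  intro z
  obtain ⟨c, rfl⟩ := Submodule.Quotient.mk_surjective _ z
  change (Submodule.factor hle) (x • (Submodule.Quotient.mk c : A ⧸ J)) = 0
  rw [← Submodule.Quotient.mk_smul]
  change (Submodule.Quotient.mk (x • c) : A ⧸ J') = 0
  rw [Submodule.Quotient.mk_eq_zero, hJ']
  exact Ideal.mem_sup_right (Ideal.mem_span_singleton'.mpr ⟨c, by rw [smul_eq_mul, mul_comm]⟩)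

/-- the short exact sequence `0 → A/J --x--> A/J → A/J' → 0`, `J' = J + (x)`. -/
lemma shortExact_quot (J J' : Ideal A) (x : A) (hJ' : J' = J ⊔ Ideal.span {x})
    (hx : IsSMulRegular (A ⧸ J) x) (hle : J ≤ J')
    (w : (x • 𝟙 (ModuleCat.of A (A ⧸ J))) ≫ ModuleCat.ofHom (Submodule.factor hle) = 0) :
    (ShortComplex.mk (x • 𝟙 (ModuleCat.of A (A ⧸ J))) (ModuleCat.ofHom (Submodule.factor hle))
      w).ShortExact := by
  refine ModuleCat.shortComplex_shortExact _ ?_ ?_ ?_
  · -- exactness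
    intro y
    constructor
    · intro hy
      obtain ⟨a, rfl⟩ := Submodule.Quotient.mk_surjective _ y
      have hy' : (Submodule.Quotient.mk a : A ⧸ J') = 0 := hy
      rw [Submodule.Quotient.mk_eq_zero, hJ', Submodule.mem_sup] at hy'
      obtain ⟨j, hj, c, hc, rfl⟩ := hy'
      obtain ⟨c, rfl⟩ := Ideal.mem_span_singleton'.mp hc
      refine ⟨Submodule.Quotient.mk c, ?_⟩
      change x • (Submodule.Quotient.mk c : A ⧸ J) = Submodule.Quotient.mk (j + c * x)
      rw [← Submodule.Quotient.mk_smul, eq_comm, ← sub_eq_zero, ← Submodule.Quotient.mk_sub,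
        Submodule.Quotient.mk_eq_zero]
      have : j + c * x - x • c = j := by rw [smul_eq_mul]; ring
      rw [this]
      exact hj
    · rintro ⟨z, rfl⟩
      obtain ⟨c, rfl⟩ := Submodule.Quotient.mk_surjective _ z
      change (Submodule.factor hle) (x • (Submodule.Quotient.mk c : A ⧸ J)) = 0
      rw [← Submodule.Quotient.mk_smul]
      change (Submodule.Quotient.mk (x • c) : A ⧸ J') = 0
      rw [Submodule.Quotient.mk_eq_zero, hJ']
      exact Ideal.mem_sup_right (Ideal.mem_span_singleton'.mpr ⟨c, by rw [smul_eq_mul, mul_comm]⟩)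
  · intro a b hab
    exact hx hab
  · intro y
    obtain ⟨a, rfl⟩ := Submodule.Quotient.mk_surjective _ y
    exact ⟨Submodule.Quotient.mk a, rfl⟩

/-- passing to the quotient by `x` along a linear equivalence -/
noncomputable def quotSpanEquiv {N N' : Type*} [AddCommGroup N] [Module A N] [AddCommGroup N']
    [Module A N'] (e : N ≃ₗ[A] N') (I : Ideal A) :
    (N ⧸ I • (⊤ : Submodule A N)) ≃ₗ[A] (N' ⧸ I • (⊤ : Submodule A N')) :=
  Submodule.Quotient.equiv _ _ e (by
    rw [Submodule.map_smul'', Submodule.map_top, LinearEquiv.range])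

/-- `(M/JM)/x(M/JM) ≅ M/(J + (x))M`. -/
noncomputable def quotQuotEquiv (M : Type*) [AddCommGroup M] [Module A M] (J J' : Ideal A) (x : A)
    (hJ' : J' = J ⊔ Ideal.span {x}) :
    ((M ⧸ J • (⊤ : Submodule A M)) ⧸
      Ideal.span {x} • (⊤ : Submodule A (M ⧸ J • (⊤ : Submodule A M)))) ≃ₗ[A]
      (M ⧸ J' • (⊤ : Submodule A M)) := by
  have hle : J • (⊤ : Submodule A M) ≤ J' • (⊤ : Submodule A M) :=
    Submodule.smul_mono_left (hJ' ▸ le_sup_left)
  refine (Submodule.quotEquivOfEq _ _ ?_).trans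
    (Submodule.quotientQuotientEquivQuotient (J • (⊤ : Submodule A M)) (J' • ⊤) hle)
  rw [hJ', Submodule.sup_smul, Submodule.map_sup, Submodule.mkQ_map_self, bot_sup_eq,
    Submodule.map_smul'', Submodule.map_top, Submodule.range_mkQ]

end Concrete


section Main

variable (A : Type u) [CommRing A]

/-- the inductive statement -/
def P (J : Ideal A) (n : ℕ) : Prop :=
  ∀ (M : Type u) [AddCommGroup M] [Module A M],
    (∀ i, n < i → Subsingleton (Ext (ModuleCat.of A (A ⧸ J)) (ModuleCat.of A M) i)) ∧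
    Nonempty (Ext (ModuleCat.of A (A ⧸ J)) (ModuleCat.of A M) n ≃ₗ[A]
      (M ⧸ J • (⊤ : Submodule A M)))

lemma P_bot : P A ⊥ 0 := by
  intro M _ _
  have hproj : Projective (ModuleCat.of A (A ⧸ (⊥ : Ideal A))) :=
    (IsProjective.iff_projective (A ⧸ (⊥ : Ideal A))).mp
      (Module.Projective.of_equiv (Submodule.quotEquivOfEqBot (⊥ : Ideal A) rfl).symm)
  refine ⟨fun i hi => ?_, ⟨?_⟩⟩
  · obtain ⟨k, rfl⟩ : ∃ k, i = k + 1 := ⟨i - 1, by omega⟩
    exact Ext.subsingleton_of_projective _ _ k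
  · exact (Ext.linearEquiv₀ (R := A)) ≪≫ₗ (ModuleCat.homLinearEquiv (S := A)) ≪≫ₗ
      (LinearEquiv.arrowCongr (Submodule.quotEquivOfEqBot (⊥ : Ideal A) rfl)
        (LinearEquiv.refl A M)) ≪≫ₗ (LinearMap.ringLmapEquivSelf A A M) ≪≫ₗ
      (Submodule.quotEquivOfEqBot _ (by rw [Submodule.bot_smul])).symm

lemma P_step (J J' : Ideal A) (x : A) (hJ' : J' = J ⊔ Ideal.span {x})
    (hx : IsSMulRegular (A ⧸ J) x) (n : ℕ) (ih : P A J n) : P A J' (n + 1) := by
  intro M _ _
  have hle : J ≤ J' := hJ' ▸ le_sup_left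
  have w := w_quot J J' x hJ' hle
  have hS := shortExact_quot J J' x hJ' hx hle w
  obtain ⟨h1, ⟨e⟩⟩ := ih M
  refine ⟨fun i hi => ?_, ⟨?_⟩⟩
  · obtain ⟨k, rfl⟩ : ∃ k, i = k + 1 := ⟨i - 1, by omega⟩
    exact subsingleton_step x _ w hS (ModuleCat.of A M) k (h1 k (by omega)) (h1 (k + 1) (by omega))
  · exact (stepEquiv x _ w hS (ModuleCat.of A M) n (h1 (n + 1) (by omega))).symm ≪≫ₗ
      (quotSpanEquiv e (Ideal.span {x})) ≪≫ₗ (quotQuotEquiv M J J' x hJ')

lemma main (xs : List A) (hreg : RingTheory.Sequence.IsWeaklyRegular A xs) :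
    P A (Ideal.ofList xs) xs.length := by
  induction xs using List.reverseRecOn with
  | nil =>
    rw [Ideal.ofList_nil]
    exact P_bot A
  | append_singleton ys x ih =>
    rw [RingTheory.Sequence.isWeaklyRegular_append_iff] at hreg
    obtain ⟨h1, h2⟩ := hreg
    have hx0 : IsSMulRegular (A ⧸ Ideal.ofList ys • (⊤ : Submodule A A)) x :=
      ((RingTheory.Sequence.isWeaklyRegular_cons_iff _ x []).mp h2).1
    have e : Ideal.ofList ys • (⊤ : Submodule A A) = Ideal.ofList ys := by simp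
    have hx : IsSMulRegular (A ⧸ Ideal.ofList ys) x :=
      ((Submodule.quotEquivOfEq _ _ e).isSMulRegular_congr x).mp hx0
    have hlen : (ys ++ [x]).length = ys.length + 1 := by simp
    rw [hlen]
    exact P_step A _ _ x (by rw [Ideal.ofList_append, Ideal.ofList_singleton]) hx _ (ih h1)

end Main

/-- Let `A` be a commutative ring, `xs = (x_1, …, x_p)` a sequence in `A` such that each `x_i` is a
non-zero-divisor on `A/(x_1, …, x_{i-1})`, `J` the ideal generated by the `x_i` and `M` any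
`A`-module. Then `Ext^p_A(A/J, M)` is isomorphic, as an `A`-module, to `M/JM`. (Existence of an
`A`-linear isomorphism only; the published isomorphism is the one induced by the Koszul complex of
`xs`.) -/
theorem result (A : Type u) [CommRing A] (xs : List A) (hreg : RingTheory.Sequence.IsWeaklyRegular A xs) (M : Type u) [AddCommGroup M] [Module A M] : Nonempty (Abelian.Ext (ModuleCat.of A (A ⧸ Ideal.ofList xs)) (ModuleCat.of A M) xs.length ≃ₗ[A] (M ⧸ (Ideal.ofList xs • (⊤ : Submodule A M)))) := by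
  exact (main A xs hreg M).2

end Groth.Agent.S5665
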