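import Groth.Statements.S5159
import Groth.Agent.S5672
import Groth.Agent.S5665
import Groth.Agent.Lib.ExtBridge
import Groth.Agent.Lib.RegularLocal
import Mathlib.Tactic

set_option autoImplicit false
universe u
open CategoryTheory Opposite
open Dual

namespace Groth.Agent.S5159

section General

open Groth.Agent.S5672

variable {A : Type u} [CommRing A]

/-- the property: `Ext^i(M, A) = 0` for `i ≠ n` and `length Ext^n(M, A) = length M`. -/
def Q (A : Type u) [CommRing A] (n : ℕ) (M : Type u) [AddCommGroup M] [Module A M] : Prop :=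
  (∀ i : ℕ, i ≠ n →
    Subsingleton (Abelian.Ext (ModuleCat.of A M) (ModuleCat.of A A) i)) ∧
  Module.length A (Abelian.Ext (ModuleCat.of A M) (ModuleCat.of A A) n) = Module.length A M

/-- transport of Ext along an isomorphism in the first variable -/
noncomputable def extCongr {X X' : ModuleCat.{u} A} (e : X ≅ X') (Y : ModuleCat.{u} A) (i : ℕ) :
    Abelian.Ext X Y i ≃ₗ[A] Abelian.Ext X' Y i :=
  LinearEquiv.ofLinear
    (Abelian.Ext.precompOfLinear (Abelian.Ext.mk₀ e.inv) A Y (zero_add i))
    (Abelian.Ext.precompOfLinear (Abelian.Ext.mk₀ e.hom) A Y (zero_add i))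
    (by
      apply LinearMap.ext
      intro ξ
      change pb e.inv (pb e.hom ξ) = ξ
      rw [← pb_comp, e.inv_hom_id, pb_id])
    (by
      apply LinearMap.ext
      intro ξ
      change pb e.hom (pb e.inv ξ) = ξ
      rw [← pb_comp, e.hom_inv_id, pb_id])

lemma Q_of_equiv {n : ℕ} {M M' : Type u} [AddCommGroup M] [Module A M] [AddCommGroup M']
    [Module A M'] (e : M ≃ₗ[A] M') (h : Q A n M) : Q A n M' := by
  obtain ⟨h1, h2⟩ := h
  refine ⟨fun i hi => ?_, ?_⟩
  · have := h1 i hi
    exact (extCongr e.toModuleIso (ModuleCat.of A A) i).symm.toEquiv.subsingleton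
  · rw [← (extCongr e.toModuleIso (ModuleCat.of A A) n).length_eq, h2, e.length_eq]

lemma Q_zero {n : ℕ} {M : Type u} [AddCommGroup M] [Module A M] [Subsingleton M] : Q A n M := by
  have hz : Limits.IsZero (ModuleCat.of A M) := ModuleCat.isZero_of_subsingleton _
  have hsub : ∀ i, Subsingleton (Abelian.Ext (ModuleCat.of A M) (ModuleCat.of A A) i) := by
    intro i
    refine subsingleton_of_forall_eq 0 fun e => ?_
    have h1 : e = (Abelian.Ext.mk₀ (𝟙 (ModuleCat.of A M))).comp e (zero_add i) :=
      (Abelian.Ext.mk₀_id_comp e).symm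
    rw [h1, hz.eq_of_src (𝟙 _) 0, Abelian.Ext.mk₀_zero, Abelian.Ext.zero_comp]
  refine ⟨fun i _ => hsub i, ?_⟩
  have := hsub n
  rw [Module.length_eq_zero_iff.mpr this, Module.length_eq_zero_iff.mpr ‹Subsingleton M›]

/-- the extension step -/
lemma Q_step {n : ℕ} {M M'' : Type u} [AddCommGroup M] [Module A M] [AddCommGroup M'']
    [Module A M''] (π : M →ₗ[A] M'') (hπ : Function.Surjective π)
    (hK : Q A n (LinearMap.ker π)) (hM'' : Q A n M'') : Q A n M := by
  have hS := presSC_shortExact π hπ
  obtain ⟨k1, k2⟩ := hK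
  obtain ⟨m1, m2⟩ := hM''
  refine ⟨fun i hi => ?_, ?_⟩
  · have hk := k1 i hi
    have hm : Subsingleton (Abelian.Ext (presSC π).X₃ (ModuleCat.of A A) i) := m1 i hi
    refine subsingleton_of_forall_eq 0 fun e => ?_
    have h0 : (Abelian.Ext.mk₀ (presSC π).f).comp e (zero_add i) = 0 :=
      @Subsingleton.elim _ hk _ _
    obtain ⟨x₃, rfl⟩ := Abelian.Ext.contravariant_sequence_exact₂ hS (ModuleCat.of A A) e h0
    rw [Subsingleton.elim x₃ 0, Abelian.Ext.comp_zero]
    rfl
  · let f' : Abelian.Ext (ModuleCat.of A M'') (ModuleCat.of A A) n →ₗ[A]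
        Abelian.Ext (ModuleCat.of A M) (ModuleCat.of A A) n :=
      Abelian.Ext.precompOfLinear (Abelian.Ext.mk₀ (ModuleCat.ofHom π)) A _ (zero_add n)
    let g' : Abelian.Ext (ModuleCat.of A M) (ModuleCat.of A A) n →ₗ[A]
        Abelian.Ext (ModuleCat.of A (LinearMap.ker π)) (ModuleCat.of A A) n :=
      Abelian.Ext.precompOfLinear (Abelian.Ext.mk₀ (ModuleCat.ofHom (LinearMap.ker π).subtype)) A _
        (zero_add n)
    have hinj : Function.Injective f' := by
      rw [injective_iff_map_eq_zero]
      intro ξ hξ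
      exact pullback_injective_of_van π hπ (fun i hi => k1 i (by omega)) ξ hξ
    have hsurj : Function.Surjective g' := by
      intro x₁
      have hm := m1 (n + 1) (by omega)
      obtain ⟨x₂, hx₂⟩ := Abelian.Ext.contravariant_sequence_exact₁ hS (ModuleCat.of A A) x₁
        (show 1 + n = n + 1 by omega) (@Subsingleton.elim _ hm _ _)
      exact ⟨x₂, hx₂⟩
    have hex : Function.Exact f' g' := by
      intro e
      constructor
      · intro he
        obtain ⟨x₃, hx₃⟩ := Abelian.Ext.contravariant_sequence_exact₂ hS (ModuleCat.of A A) e he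
        exact ⟨x₃, hx₃⟩
      · rintro ⟨x₃, rfl⟩
        change pb (presSC π).f (pb (presSC π).g x₃) = 0
        rw [← pb_comp, (presSC π).zero, pb_zero]
    rw [Module.length_eq_add_of_exact f' g' hinj hsurj hex, m2, k2,
      Module.length_eq_add_of_exact (LinearMap.ker π).subtype π (Submodule.subtype_injective _) hπ
        (LinearMap.exact_subtype_ker_map π), add_comm]

end General

section Regular

variable (A : Type u) [CommRing A] [IsRegularLocalRing A] (n : ℕ) (hn : ringKrullDim A = n)

include hn in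
lemma Q_residue : Q A n (A ⧸ IsLocalRing.maximalIdeal A) := by
  have hfg : (IsLocalRing.maximalIdeal A).FG := IsNoetherian.noetherian _
  obtain ⟨s, hcard, hspan⟩ := Submodule.FG.exists_span_finset_card_eq_spanFinrank hfg
  have hd := Groth.Agent.Lib.RegularLocal.spanFinrank_maximalIdeal_eq_of_ringKrullDim_eq hn
  rw [hd] at hcard
  let eqv := s.equivFinOfCardEq hcard
  let x : Fin n → A := fun i => (eqv.symm i : A)
  have hrange : Set.range x = ↑s := by
    ext a
    constructor
    · rintro ⟨i, rfl⟩
      exact (eqv.symm i).2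
    · intro ha
      exact ⟨eqv ⟨a, ha⟩, by simp [x]⟩
  have hx : Ideal.span (Set.range x) = IsLocalRing.maximalIdeal A := by
    rw [hrange]; exact hspan
  have hreg := Groth.Agent.Lib.RegularLocal.isRegular_ofFn A n hn x hx
  have hJ : Ideal.ofList (List.ofFn x) = IsLocalRing.maximalIdeal A := by
    rw [← hx]
    unfold Ideal.ofList
    congr 1
    ext a
    simp [List.mem_ofFn]
  have hmain := Groth.Agent.S5665.main A (List.ofFn x) hreg.toIsWeaklyRegular
  rw [hJ, List.length_ofFn] at hmain
  obtain ⟨hv, ⟨e⟩⟩ := hmain A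
  refine ⟨fun i hi => ?_, ?_⟩
  · rcases lt_or_gt_of_ne hi with h | h
    · refine Groth.Agent.S5671.result A (A ⧸ IsLocalRing.maximalIdeal A) n ?_ i h
      rw [Module.supportDim_quotient_eq_ringKrullDim,
        ringKrullDim_eq_zero_of_isField
          ((Ideal.Quotient.maximal_ideal_iff_isField_quotient _).mp inferInstance), zero_add, hn]
    · exact hv i h
  · rw [e.length_eq]
    have h1 : (IsLocalRing.maximalIdeal A) • (⊤ : Submodule A A) = IsLocalRing.maximalIdeal A := by
      simp
    rw [(Submodule.quotEquivOfEq _ _ h1).length_eq]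

include hn in
lemma Q_simple (T : Type u) [AddCommGroup T] [Module A T] [IsSimpleModule A T] : Q A n T := by
  obtain ⟨I, hI, ⟨e⟩⟩ := isSimpleModule_iff_quot_maximal.mp (inferInstance : IsSimpleModule A T)
  have hIm : I = IsLocalRing.maximalIdeal A := IsLocalRing.eq_maximalIdeal hI
  subst hIm
  exact Q_of_equiv e.symm (Q_residue A n hn)

include hn in
lemma Q_of_isFiniteLength (M : Type u) [AddCommGroup M] [Module A M] (hM : IsFiniteLength A M) :
    Q A n M := by
  induction hM with
  | of_subsingleton => exact Q_zero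
  | @of_simple_quotient M _ _ N _ hN ih =>
    refine Q_step N.mkQ (Submodule.mkQ_surjective N) ?_ (Q_simple A n hn _)
    exact Q_of_equiv (LinearEquiv.ofEq N (LinearMap.ker N.mkQ) (Submodule.ker_mkQ N).symm) ih

end Regular

/-- Let A be a regular local ring of dimension n and M an A-module of finite length. Then Ext^i_A(M, A)
= 0 for i ≠ n and length Ext^n_A(M, A) = length M (the functor Ext^n_A(−, A) is dualizing). -/
theorem result (A : Type u) [CommRing A] [IsRegularLocalRing A] (n : ℕ) (hn : ringKrullDim A = n) (M : Type u) [AddCommGroup M] [Module A M] (hM : IsFiniteLength A M) : (∀ i : ℕ, i ≠ n → Subsingleton (((Ext A (ModuleCat.{u} A) i).obj (op (ModuleCat.of A M))).obj (ModuleCat.of A A))) ∧ Module.length A (((Ext A (ModuleCat.{u} A) n).obj (op (ModuleCat.of A M))).obj (ModuleCat.of A A)) = Module.length A M := by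
  obtain ⟨h1, h2⟩ := Q_of_isFiniteLength A n hn M hM
  refine ⟨fun i hi => ?_, ?_⟩
  · have := h1 i hi
    exact (Groth.Agent.Lib.ExtBridge.bridge (ModuleCat.of A M) (ModuleCat.of A A) i).toEquiv.subsingleton
  · rw [(Groth.Agent.Lib.ExtBridge.bridge (ModuleCat.of A M) (ModuleCat.of A A) n).length_eq, h2]

end Groth.Agent.S5159
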