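import Groth.Statements.S7577
import Mathlib.Topology.Sober
import Mathlib.Order.RelSeries

set_option autoImplicit false
universe u
open PtTop

namespace Groth.Agent.S7577

section poset

variable {P : Type u} [PartialOrder P] (d : P → ℤ)

lemma series_lower (hd : StrictMono d) (s : LTSeries P) (i : Fin (s.length + 1)) :
    d (s 0) + ((i : ℕ) : ℤ) ≤ d (s i) := by
  induction i using Fin.induction with
  | zero => simp
  | succ i ih =>
    have h1 : s (Fin.castSucc i) < s (Fin.succ i) := s.step i
    have h2 := hd h1
    simp only [Fin.val_succ]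
    simp only [Fin.val_castSucc] at ih
    omega

lemma series_exact (hcov : ∀ a b : P, a ⋖ b → d b = d a + 1) (s : LTSeries P)
    (hs : ∀ i : Fin s.length, s (Fin.castSucc i) ⋖ s (Fin.succ i)) (i : Fin (s.length + 1)) :
    d (s i) = d (s 0) + ((i : ℕ) : ℤ) := by
  induction i using Fin.induction with
  | zero => simp
  | succ i ih =>
    have h2 := hcov _ _ (hs i)
    simp only [Fin.val_succ]
    simp only [Fin.val_castSucc] at ih
    omega

lemma exists_series (hd : StrictMono d) (hcov : ∀ a b : P, a ⋖ b → d b = d a + 1) :
    ∀ n : ℕ, ∀ a b : P, a ≤ b → d b - d a = (n : ℤ) →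
      ∃ s : LTSeries P, s.head = a ∧ s.last = b ∧ s.length = n := by
  intro n
  induction n using Nat.strong_induction_on with
  | _ n ih =>
    intro a b hab hn
    rcases hab.eq_or_lt with rfl | hlt
    · refine ⟨RelSeries.singleton _ a, RelSeries.head_singleton a, RelSeries.last_singleton a, ?_⟩
      simp only [RelSeries.singleton_length]
      omega
    · by_cases hc : a ⋖ b
      · have h1 := hcov a b hc
        refine ⟨(RelSeries.singleton _ a).snoc b (by rw [RelSeries.last_singleton]; exact hlt),
          ?_, ?_, ?_⟩
        · rw [RelSeries.head_snoc, RelSeries.head_singleton]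
        · rw [RelSeries.last_snoc]
        · simp only [RelSeries.snoc_length, RelSeries.singleton_length]
          omega
      · rw [not_covBy_iff hlt] at hc
        obtain ⟨c, hac, hcb⟩ := hc
        have h1 := hd hac
        have h2 := hd hcb
        obtain ⟨s1, h1h, h1l, h1n⟩ := ih (d c - d a).toNat (by omega) a c hac.le (by omega)
        obtain ⟨s2, h2h, h2l, h2n⟩ := ih (d b - d c).toNat (by omega) c b hcb.le (by omega)
        refine ⟨s1.smash s2 (h1l.trans h2h.symm), ?_, ?_, ?_⟩
        · rw [RelSeries.head_smash, h1h]
        · rw [RelSeries.last_smash, h2l]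
        · show s1.length + s2.length = n
          omega

end poset

section top

open TopologicalSpace

variable {X : Type u} [TopologicalSpace X] [QuasiSober X] [T0Space X]

/-- The generic point of an irreducible closed subset. -/
noncomputable def gp (T : IrreducibleCloseds X) : X := T.isIrreducible.genericPoint

lemma gp_spec (T : IrreducibleCloseds X) : closure {gp T} = (T : Set X) :=
  T.isIrreducible.closure_genericPoint T.isClosed

lemma le_iff (T T' : IrreducibleCloseds X) : T ≤ T' ↔ gp T' ⤳ gp T := by
  rw [specializes_iff_closure_subset, gp_spec, gp_spec]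
  exact Iff.rfl

lemma gp_mk (x : X) :
    gp (⟨closure {x}, isIrreducible_singleton.closure, isClosed_closure⟩ : IrreducibleCloseds X)
      = x :=
  IsGenericPoint.eq (gp_spec _) isGenericPoint_closure

lemma gp_injective : Function.Injective (gp : IrreducibleCloseds X → X) := by
  intro T T' h
  apply IrreducibleCloseds.ext
  rw [← gp_spec T, ← gp_spec T', h]

end top

/-- Let X be a sober topological space and δ : X → ℤ a dimension function. Then X is catenary, and for
any specialization x ⤳ y the codimension of the closure of {y} in the closure of {x} equals δ(x) −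
δ(y). -/
theorem result {X : Type u} [TopologicalSpace X] [QuasiSober X] [T0Space X]
    (δ : X → ℤ) (hδ : PtTop.IsDimensionFunction δ) :
    PtTop.IsCatenarySpace X ∧
    ∀ x y : X, x ⤳ y →
      PtTop.codim (⟨closure {y}, isIrreducible_singleton.closure, isClosed_closure⟩ : TopologicalSpace.IrreducibleCloseds X)
        (closure {x}) = ((δ x - δ y).toNat : ℕ∞) := by
  have hd : StrictMono (fun T : TopologicalSpace.IrreducibleCloseds X => δ (gp T)) := by
    intro T T' hlt
    exact hδ.1 _ _ ((le_iff T T').mp hlt.le) (fun h => hlt.ne (gp_injective h).symm)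
  have hcov : ∀ a b : TopologicalSpace.IrreducibleCloseds X, a ⋖ b → δ (gp b) = δ (gp a) + 1 := by
    intro a b hab
    refine hδ.2 _ _ ⟨(le_iff a b).mp hab.le, fun h => hab.lt.ne (gp_injective h).symm, ?_⟩
    intro z hbz hza
    have h1 : a ≤ (⟨closure {z}, isIrreducible_singleton.closure, isClosed_closure⟩ :
        TopologicalSpace.IrreducibleCloseds X) := by
      rw [le_iff, gp_mk]
      exact hza
    have h2 : (⟨closure {z}, isIrreducible_singleton.closure, isClosed_closure⟩ :
        TopologicalSpace.IrreducibleCloseds X) ≤ b := by
      rw [le_iff, gp_mk]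
      exact hbz
    rcases hab.eq_or_eq h1 h2 with h | h
    · right
      rw [← h, gp_mk]
    · left
      rw [← h, gp_mk]
  have hle : ∀ T T' : TopologicalSpace.IrreducibleCloseds X,
      PtTop.codim T (T' : Set X) ≤ ((δ (gp T') - δ (gp T)).toNat : ℕ∞) := by
    intro T T'
    unfold PtTop.codim
    refine iSup₂_le fun s hs => ?_
    have h1 := series_lower _ hd s (Fin.last _)
    have h2 : δ (gp s.last) ≤ δ (gp T') := hd.monotone (show s.last ≤ T' from hs.2)
    have h3 : s 0 = T := hs.1
    have h4 : s (Fin.last _) = s.last := rfl
    rw [h3, h4] at h1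
    simp only [Fin.val_last] at h1
    rw [Nat.cast_le]
    omega
  refine ⟨?_, ?_⟩
  · intro T T' hTT'
    refine ⟨ne_top_of_le_ne_top (ENat.natCast_ne_top _) (hle T T'), ?_⟩
    intro s hsh hsl hscov
    apply le_antisymm
    · unfold PtTop.codim
      exact le_iSup₂_of_le s ⟨hsh, hsl ▸ subset_rfl⟩ le_rfl
    · refine (hle T T').trans ?_
      have h1 := series_exact _ hcov s hscov (Fin.last _)
      have h3 : s 0 = T := hsh
      have h4 : s (Fin.last _) = T' := hsl
      rw [h3, h4] at h1
      simp only [Fin.val_last] at h1
      rw [Nat.cast_le]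
      omega
  · intro x y hxy
    apply le_antisymm
    · have := hle ⟨closure {y}, isIrreducible_singleton.closure, isClosed_closure⟩
        ⟨closure {x}, isIrreducible_singleton.closure, isClosed_closure⟩
      rw [gp_mk, gp_mk] at this
      exact this
    · have hyx : (⟨closure {y}, isIrreducible_singleton.closure, isClosed_closure⟩ :
          TopologicalSpace.IrreducibleCloseds X) ≤
          ⟨closure {x}, isIrreducible_singleton.closure, isClosed_closure⟩ := by
        rw [le_iff, gp_mk, gp_mk]
        exact hxy
      have hmono := hd.monotone hyx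
      simp only [gp_mk] at hmono
      obtain ⟨s, hsh, hsl, hsn⟩ := exists_series _ hd hcov (δ x - δ y).toNat _ _ hyx (by
        simp only [gp_mk]
        omega)
      unfold PtTop.codim
      refine le_iSup₂_of_le s ⟨hsh, ?_⟩ (by rw [hsn])
      rw [hsl]
      exact subset_rfl

end Groth.Agent.S7577
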