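-- Statement S6462.
import Groth.Statements.S6462
import Groth.Agent.Lib.H26CMDim
import Groth.Agent.S7577
import Mathlib

set_option autoImplicit false
universe u
open CategoryTheory AlgebraicGeometry
open Cyc

namespace Groth.Agent.S6462

open TopologicalSpace Groth.Agent.S7577

section Top

variable {X : Type u} [TopologicalSpace X] [QuasiSober X] [T0Space X]
  (δ : X → ℤ) (hδ : PtTop.IsDimensionFunction δ)

include hδ in
theorem strictMono_gp : StrictMono (fun T : IrreducibleCloseds X => δ (gp T)) := by
  intro T T' hlt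
  exact hδ.1 _ _ ((le_iff T T').mp hlt.le) (fun h => hlt.ne (gp_injective h).symm)

include hδ in
theorem cov_gp (a b : IrreducibleCloseds X) (hab : a ⋖ b) : δ (gp b) = δ (gp a) + 1 := by
  refine hδ.2 _ _ ⟨(le_iff a b).mp hab.le, fun h => hab.lt.ne (gp_injective h).symm, ?_⟩
  intro z hbz hza
  have h1 : a ≤ (⟨closure {z}, isIrreducible_singleton.closure, isClosed_closure⟩ :
      IrreducibleCloseds X) := by
    rw [le_iff, gp_mk]
    exact hza
  have h2 : (⟨closure {z}, isIrreducible_singleton.closure, isClosed_closure⟩ :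
      IrreducibleCloseds X) ≤ b := by
    rw [le_iff, gp_mk]
    exact hbz
  rcases hab.eq_or_eq h1 h2 with h | h
  · right
    rw [← h, gp_mk]
  · left
    rw [← h, gp_mk]

include hδ in
/-- In a sober space with a nonnegative dimension function, a generic point `ξ` and a point `c`
with `δ c = 0`, the Krull dimension is `δ ξ`. -/
theorem krullDim_eq (hnonneg : ∀ x, 0 ≤ δ x) (ξ : X) (hξ : ∀ x : X, ξ ⤳ x) (c : X)
    (hc : δ c = 0) : topologicalKrullDim X = ((δ ξ).toNat : WithBot ℕ∞) := by
  have hd := strictMono_gp δ hδ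
  have hle : ∀ x : X, δ x ≤ δ ξ := by
    intro x
    by_cases he : ξ = x
    · rw [he]
    · exact (hδ.1 ξ x (hξ x) he).le
  apply le_antisymm
  · unfold topologicalKrullDim Order.krullDim
    refine iSup_le fun p => ?_
    have h1 := series_lower _ hd p (Fin.last _)
    have h2 := hle (gp (p (Fin.last _)))
    have h3 := hnonneg (gp (p 0))
    simp only [Fin.val_last] at h1
    have h4 : p.length ≤ (δ ξ).toNat := by omega
    exact_mod_cast h4
  · let a : IrreducibleCloseds X := ⟨closure {c}, isIrreducible_singleton.closure, isClosed_closure⟩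
    let b : IrreducibleCloseds X := ⟨closure {ξ}, isIrreducible_singleton.closure, isClosed_closure⟩
    have hab : a ≤ b := by
      rw [le_iff, gp_mk, gp_mk]
      exact hξ c
    have hn : δ (gp b) - δ (gp a) = ((δ ξ).toNat : ℤ) := by
      rw [gp_mk, gp_mk, hc]
      have := hnonneg ξ
      omega
    obtain ⟨s, -, -, hlen⟩ := exists_series _ hd (cov_gp δ hδ) (δ ξ).toNat a b hab hn
    have := Order.LTSeries.length_le_krullDim s
    rw [hlen] at this
    exact this

end Top

section Scheme

variable {X : Scheme.{u}} {δ : X → ℤ}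

theorem delta_le_of_specializes (hδ : Cyc.IsDimFun X δ) {x y : X} (h : x ⤳ y) : δ y ≤ δ x := by
  by_cases he : x = y
  · rw [he]
  · exact (hδ x y h he).1.le

theorem delta_nonneg [JacobsonSpace X] (hδ : Cyc.IsDimFun X δ)
    (h0 : ∀ x : X, IsClosed ({x} : Set X) → δ x = 0) (z : X) : 0 ≤ δ z := by
  have h1 := JacobsonSpace.closure_inter_closedPoints (X := X) (Z := closure {z}) isClosed_closure
  have hne : (closure ({z} : Set X) ∩ closedPoints X).Nonempty := by
    by_contra hemp
    rw [Set.not_nonempty_iff_eq_empty] at hemp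
    rw [hemp, closure_empty] at h1
    exact (Set.eq_empty_iff_forall_notMem.mp h1.symm) z (subset_closure rfl)
  obtain ⟨c, hcz, hc⟩ := hne
  have hsp : z ⤳ c := specializes_iff_mem_closure.mpr hcz
  have := delta_le_of_specializes hδ hsp
  rw [h0 c hc] at this
  exact this

theorem isDimFun_closed (hδ : Cyc.IsDimFun X δ) (Z : Set X) (hZ : IsClosed Z) :
    PtTop.IsDimensionFunction (fun z : Z => δ z.1) := by
  refine ⟨fun v w hvw hne => ?_, fun v w hvw => ?_⟩
  · exact (hδ v.1 w.1 (Topology.IsInducing.subtypeVal.specializes_iff.mpr hvw)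
      (fun h => hne (Subtype.ext h))).1
  · obtain ⟨hsp, hne, himm⟩ := hvw
    have hsp' : v.1 ⤳ w.1 := Topology.IsInducing.subtypeVal.specializes_iff.mpr hsp
    refine (hδ v.1 w.1 hsp' (fun h => hne (Subtype.ext h))).2 ?_
    intro z hvz hzw
    have hzZ : z ∈ Z := hZ.closure_subset_iff.mpr (Set.singleton_subset_iff.mpr v.2)
      (specializes_iff_mem_closure.mp hvz)
    rcases himm ⟨z, hzZ⟩ (Topology.IsInducing.subtypeVal.specializes_iff.mp hvz)
      (Topology.IsInducing.subtypeVal.specializes_iff.mp hzw) with h | h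
    · exact Or.inl (congrArg Subtype.val h)
    · exact Or.inr (congrArg Subtype.val h)

theorem part1 [JacobsonSpace X] (hδ : Cyc.IsDimFun X δ)
    (h0 : ∀ x : X, IsClosed ({x} : Set X) → δ x = 0) (ξ : X) :
    topologicalKrullDim ↥(closure ({ξ} : Set X)) = ((δ ξ).toNat : WithBot ℕ∞) := by
  haveI : QuasiSober (closure ({ξ} : Set X)) :=
    (isClosed_closure.isClosedEmbedding_subtypeVal).quasiSober
  have hδZ := isDimFun_closed hδ (closure ({ξ} : Set X)) isClosed_closure
  -- closed point in the closure
  have h1 := JacobsonSpace.closure_inter_closedPoints (X := X) (Z := closure {ξ}) isClosed_closure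
  have hne : (closure ({ξ} : Set X) ∩ closedPoints X).Nonempty := by
    by_contra hemp
    rw [Set.not_nonempty_iff_eq_empty] at hemp
    rw [hemp, closure_empty] at h1
    exact (Set.eq_empty_iff_forall_notMem.mp h1.symm) ξ (subset_closure rfl)
  obtain ⟨c, hcz, hc⟩ := hne
  exact krullDim_eq (fun z : closure ({ξ} : Set X) => δ z.1) hδZ
    (fun z => delta_nonneg hδ h0 z.1) ⟨ξ, subset_closure rfl⟩
    (fun z => Topology.IsInducing.subtypeVal.specializes_iff.mp
      (specializes_iff_mem_closure.mpr z.2)) ⟨c, hcz⟩ (h0 c hc)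

end Scheme

section Part2

variable {X : Scheme.{u}} {δ : X → ℤ}

open IsLocalRing in
theorem ker_specMap (z ξ : X) (h : ξ ⤳ z) :
    RingHom.ker (Cyc.specMap z ξ h) =
      Ideal.comap (X.presheaf.stalkSpecializes h).hom (maximalIdeal (X.presheaf.stalk ξ)) := by
  ext a
  rw [RingHom.mem_ker, Ideal.mem_comap]
  show (IsLocalRing.residue _) ((X.presheaf.stalkSpecializes h).hom a) = 0 ↔ _
  rw [IsLocalRing.residue_eq_zero_iff]

theorem part2 (hδ : Cyc.IsDimFun X δ) (z ξ : X) (h : ξ ⤳ z) :
    ringKrullDim (Cyc.LocQuot z ξ h) = ((δ ξ - δ z).toNat : WithBot ℕ∞) := by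
  let R := X.presheaf.stalk z
  let F : PrimeSpectrum R → X := fun p => X.fromSpecStalk z p
  have hF : Topology.IsEmbedding F := (X.fromSpecStalk z).isEmbedding
  have hrange : Set.range F = {y | y ⤳ z} := X.range_fromSpecStalk
  have hFtop : F (IsLocalRing.closedPoint R) = z := X.fromSpecStalk_closedPoint
  haveI hprime : (RingHom.ker (Cyc.specMap z ξ h)).IsPrime := RingHom.ker_isPrime _
  let P : PrimeSpectrum R := ⟨RingHom.ker (Cyc.specMap z ξ h), hprime⟩
  have hFP : F P = ξ := by
    have h1 : P = (Spec.map (X.presheaf.stalkSpecializes h))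
        (IsLocalRing.closedPoint (X.presheaf.stalk ξ)) := by
      apply PrimeSpectrum.ext
      exact ker_specMap z ξ h
    have h2 : (Spec.map (X.presheaf.stalkSpecializes h) ≫ X.fromSpecStalk z)
        (IsLocalRing.closedPoint (X.presheaf.stalk ξ)) = ξ := by
      rw [Scheme.SpecMap_stalkSpecializes_fromSpecStalk]
      exact Scheme.fromSpecStalk_closedPoint
    show X.fromSpecStalk z P = ξ
    rw [h1]
    exact h2
  -- the function d = -δ ∘ F
  let d : PrimeSpectrum R → ℤ := fun p => - δ (F p)
  have hd : StrictMono d := by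
    intro p q hpq
    have hsp : F p ⤳ F q :=
      ((PrimeSpectrum.le_iff_specializes p q).mp hpq.le).map hF.continuous
    have hne : F p ≠ F q := fun he => hpq.ne (hF.injective he)
    have := (hδ (F p) (F q) hsp hne).1
    show - δ (F p) < - δ (F q)
    omega
  have hcov : ∀ p q : PrimeSpectrum R, p ⋖ q → d q = d p + 1 := by
    intro p q hpq
    have hsp : F p ⤳ F q :=
      ((PrimeSpectrum.le_iff_specializes p q).mp hpq.le).map hF.continuous
    have hne : F p ≠ F q := fun he => hpq.lt.ne (hF.injective he)
    have := (hδ (F p) (F q) hsp hne).2 (by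
      intro y hpy hyq
      have hyz : y ⤳ z := by
        have hq : F q ∈ Set.range F := ⟨q, rfl⟩
        rw [hrange] at hq
        exact hyq.trans hq
      have hy : y ∈ Set.range F := by rw [hrange]; exact hyz
      obtain ⟨r, rfl⟩ := hy
      have h1 : p ≤ r := (PrimeSpectrum.le_iff_specializes p r).mpr
        (hF.isInducing.specializes_iff.mp hpy)
      have h2 : r ≤ q := (PrimeSpectrum.le_iff_specializes r q).mpr
        (hF.isInducing.specializes_iff.mp hyq)
      rcases hpq.eq_or_eq h1 h2 with he | he
      · exact Or.inl (congrArg F he)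
      · exact Or.inr (congrArg F he))
    show - δ (F q) = - δ (F p) + 1
    omega
  have hdP : d P = - δ ξ := by show - δ (F P) = _; rw [hFP]
  have hdtop : d (IsLocalRing.closedPoint R) = - δ z := by
    show - δ (F _) = _; rw [hFtop]
  have hle_top : ∀ p : PrimeSpectrum R, p ≤ IsLocalRing.closedPoint R :=
    fun p => IsLocalRing.le_maximalIdeal p.2.ne_top
  have hzξ : δ z ≤ δ ξ := delta_le_of_specializes hδ h
  have hco : Order.coheight P = ((δ ξ - δ z).toNat : ℕ∞) := by
    apply le_antisymm
    · apply Order.coheight_le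
      intro p hp
      have h1 := series_lower _ hd p (Fin.last _)
      have h2 : d (p (Fin.last _)) ≤ d (IsLocalRing.closedPoint R) :=
        hd.monotone (hle_top _)
      have h3 : d (p 0) = d P := by
        show d p.head = d P
        rw [hp]
      simp only [Fin.val_last] at h1
      have h4 : p.length ≤ (δ ξ - δ z).toNat := by omega
      exact_mod_cast h4
    · obtain ⟨s, hs1, -, hlen⟩ := exists_series _ hd hcov (δ ξ - δ z).toNat P
        (IsLocalRing.closedPoint R) (hle_top P) (by rw [hdtop, hdP]; omega)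
      have := Order.length_le_coheight (x := P) (p := s) (by rw [hs1])
      rw [hlen] at this
      exact this
  have := Groth.Agent.Lib.H26CMDim.coheight_eq_ringKrullDim_quotient P
  rw [hco] at this
  exact this.symm

end Part2

theorem main (X : Scheme.{u}) [JacobsonSpace X] (δ : X → ℤ) (hX : Cyc.IsSetup X δ)
    (h0 : ∀ x : X, IsClosed ({x} : Set X) → δ x = 0) (ξ : X) :
    (topologicalKrullDim ↥(closure ({ξ} : Set X)) = ((δ ξ).toNat : WithBot ℕ∞) ∧ 0 ≤ δ ξ) ∧
    ∀ (z : X) (h : ξ ⤳ z), IsClosed ({z} : Set X) →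
      ringKrullDim (Cyc.LocQuot z ξ h) = ((δ ξ).toNat : WithBot ℕ∞) := by
  refine ⟨⟨part1 hX.2.2 h0 ξ, delta_nonneg hX.2.2 h0 ξ⟩, fun z h hz => ?_⟩
  have := part2 hX.2.2 z ξ h
  rw [h0 z hz, sub_zero] at this
  exact this

/-- Assume in addition that X is Jacobson and δ(x) = 0 for every closed point x. For a point ξ of X with
closure Z (an integral closed subscheme whose generic point is ξ) one then has δ(ξ) = dim Z = dim
O_{Z,z} for every closed point z of Z; here Z is the closure of ξ and O_{Z,z} = O_{X,z}/𝔭_ξ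
(Cyc.LocQuot). (The published statement takes X locally of finite type over a Jacobson base with δ
zero on the base's closed points; this row assumes instead that X is Jacobson and δ vanishes on the
closed points of X, which follows from the published hypotheses.) Here a pair (X, δ) with
Cyc.IsSetup plays the role of a scheme locally of finite type over the base (S, δ) (X locally
Noetherian with universally catenary local rings, δ a dimension function). -/
theorem result (X : Scheme.{u}) [JacobsonSpace X] (δ : X → ℤ) (hX : Cyc.IsSetup X δ) (h0 : ∀ x : X, IsClosed ({x} : Set X) → δ x = 0) (ξ : X) : (topologicalKrullDim ↥(closure ({ξ} : Set X)) = ((δ ξ).toNat : WithBot ℕ∞) ∧ 0 ≤ δ ξ) ∧ ∀ (z : X) (h : ξ ⤳ z), IsClosed ({z} : Set X) → ringKrullDim (Cyc.LocQuot z ξ h) = ((δ ξ).toNat : WithBot ℕ∞) := by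
  exact main X δ hX h0 ξ

end Groth.Agent.S6462
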