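import Groth.Statements.S0560
import Groth.Agent.Lib.RegularLocal

set_option autoImplicit false
universe u
open CAlg

namespace Groth.Agent.S0560

/-- Regularity of a Noetherian local ring can be checked after dividing out one nonzerodivisor lying in
the maximal ideal: if that quotient is a regular local ring, so is the original ring. -/
theorem result (R : Type u) [CommRing R] [IsLocalRing R]
    [IsNoetherianRing R] (x : R) (hx : x ∈ IsLocalRing.maximalIdeal R) (hreg : x ∈ nonZeroDivisors R)
    [IsRegularLocalRing (R ⧸ Ideal.span ({x} : Set R))] : IsRegularLocalRing R := by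
  apply IsRegularLocalRing.of_spanFinrank_maximalIdeal_le
  have hmap : (IsLocalRing.maximalIdeal R).map (Ideal.Quotient.mk (Ideal.span ({x} : Set R))) =
      IsLocalRing.maximalIdeal (R ⧸ Ideal.span ({x} : Set R)) :=
    IsLocalRing.map_maximalIdeal_of_surjective _ Ideal.Quotient.mk_surjective
  have h1 := Groth.Agent.Lib.RegularLocal.spanFinrank_le_map_mk_add_one
    (IsLocalRing.maximalIdeal R) x hx (Ideal.fg_of_isNoetherianRing _)
  rw [hmap] at h1
  have h2 : ((IsLocalRing.maximalIdeal (R ⧸ Ideal.span ({x} : Set R))).spanFinrank : WithBot ℕ∞) =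
      ringKrullDim (R ⧸ Ideal.span ({x} : Set R)) :=
    IsRegularLocalRing.spanFinrank_maximalIdeal
  have h3 : ringKrullDim (R ⧸ Ideal.span ({x} : Set R)) + 1 = ringKrullDim R :=
    ringKrullDim_quotient_span_singleton_succ_eq_ringKrullDim_of_mem_jacobson
      ((isRegular_iff_mem_nonZeroDivisors.mpr hreg).left.isSMulRegular)
      (by rw [IsLocalRing.ringJacobson_eq_maximalIdeal]; exact hx)
  rw [← h3, ← h2]
  exact_mod_cast h1

end Groth.Agent.S0560
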