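import Groth.Statements.S0578
import Groth.Agent.Lib.ResExtZorn
import Groth.Agent.Lib.AdicDim
import Mathlib.RingTheory.AdicCompletion.LocalRing
import Mathlib.RingTheory.Flat.FaithfullyFlat.Algebra
import Mathlib.Algebra.CharP.Basic
import Mathlib.Algebra.CharP.Algebra

set_option autoImplicit false
universe u
open CAlg

namespace Groth.Agent.S0578

open IsLocalRing

section base

variable (p : ℕ) (k : Type u) [Field k] [CharP k p]

/-- The canonical map from the lifted integers to `k`. -/
noncomputable def phi : ULift.{u} ℤ →+* k :=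
  (Int.castRingHom k).comp (ULift.ringEquiv : ULift.{u} ℤ ≃+* ℤ).toRingHom

theorem phi_apply (x : ULift.{u} ℤ) : phi k x = ((x.down : ℤ) : k) := rfl

instance : (RingHom.ker (phi k)).IsPrime := RingHom.ker_isPrime (phi k)

theorem ker_phi : RingHom.ker (phi k) = Ideal.span {((p : ℕ) : ULift.{u} ℤ)} := by
  ext x
  rw [RingHom.mem_ker, phi_apply, CharP.intCast_eq_zero_iff k p, Ideal.mem_span_singleton]
  constructor
  · rintro ⟨c, hc⟩
    exact ⟨ULift.up c, ULift.ext _ _ (by simpa using hc)⟩
  · rintro ⟨c, hc⟩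
    refine ⟨c.down, ?_⟩
    have := congrArg ULift.down hc
    simpa using this

instance : IsDomain (ULift.{u} ℤ) :=
  Function.Injective.isDomain (ULift.ringEquiv : ULift.{u} ℤ ≃+* ℤ).toRingHom
    (ULift.ringEquiv : ULift.{u} ℤ ≃+* ℤ).injective

instance : IsNoetherianRing (ULift.{u} ℤ) :=
  isNoetherianRing_of_ringEquiv ℤ (ULift.ringEquiv : ULift.{u} ℤ ≃+* ℤ).symm

/-- The base ring: the integers localized at `p`, in the universe of `k`. -/
abbrev Zp : Type u := Localization.AtPrime (RingHom.ker (phi k))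

instance : IsNoetherianRing (Zp k) :=
  IsLocalization.isNoetherianRing (RingHom.ker (phi k)).primeCompl _ inferInstance

theorem isUnit_phi (y : (RingHom.ker (phi k)).primeCompl) : IsUnit (phi k y) :=
  IsUnit.mk0 _ (fun h => y.2 h)

/-- The map from the base ring to `k`. -/
noncomputable def psi : Zp k →+* k :=
  IsLocalization.lift (M := (RingHom.ker (phi k)).primeCompl) (isUnit_phi k)

theorem psi_algebraMap (x : ULift.{u} ℤ) : psi k (algebraMap _ (Zp k) x) = phi k x :=
  IsLocalization.lift_eq (isUnit_phi k) x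

theorem ker_psi : RingHom.ker (psi k) = maximalIdeal (Zp k) := by
  apply le_antisymm
  · apply IsLocalRing.le_maximalIdeal
    exact RingHom.ker_ne_top _
  · rw [← Localization.AtPrime.map_eq_maximalIdeal, Ideal.map_le_iff_le_comap]
    intro c hc
    rw [Ideal.mem_comap, RingHom.mem_ker, psi_algebraMap]
    exact hc

instance : IsLocalHom (psi k) := by
  refine ⟨fun a ha => ?_⟩
  by_contra h
  have h1 : a ∈ maximalIdeal (Zp k) := h
  rw [← ker_psi] at h1
  exact ha.ne_zero h1

noncomputable instance : Algebra (ResidueField (Zp k)) k :=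
  (ResidueField.lift (psi k)).toAlgebra

theorem maximalIdeal_Zp : maximalIdeal (Zp k) = Ideal.span {((p : ℕ) : Zp k)} := by
  have h1 : (RingHom.ker (phi k)).map (algebraMap (ULift.{u} ℤ) (Zp k)) =
      (Ideal.span {((p : ℕ) : ULift.{u} ℤ)}).map (algebraMap (ULift.{u} ℤ) (Zp k)) :=
    congrArg (Ideal.map (algebraMap (ULift.{u} ℤ) (Zp k))) (ker_phi p k)
  rw [← Localization.AtPrime.map_eq_maximalIdeal, h1, Ideal.map_span, Set.image_singleton,
    map_natCast]

theorem natCast_pow_ne_zero [Fact p.Prime] (n : ℕ) : ((p : ℕ) : Zp k) ^ n ≠ 0 := by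
  have hinj : Function.Injective (algebraMap (ULift.{u} ℤ) (Zp k)) :=
    IsLocalization.injective _ (RingHom.ker (phi k)).primeCompl_le_nonZeroDivisors
  intro h
  have h1 : algebraMap (ULift.{u} ℤ) (Zp k) (((p : ℕ) : ULift.{u} ℤ) ^ n) = 0 := by
    rw [map_pow, map_natCast]
    exact h
  rw [map_eq_zero_iff _ hinj] at h1
  have h2 := congrArg ULift.down h1
  have hp : (p : ℤ) ^ n ≠ 0 := pow_ne_zero _ (by exact_mod_cast (Fact.out : p.Prime).ne_zero)
  apply hp
  simpa using h2

end base

/-- For every prime `p` and every field `k` of characteristic `p` there is a Cohen ring (a complete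
discrete valuation ring with uniformizer `p`) whose residue field is isomorphic to `k`. -/
theorem result (p : ℕ) [Fact p.Prime] (k : Type u) [Field k] [CharP k p] :
    ∃ (Λ : Type u) (_ : CommRing Λ) (_ : IsLocalRing Λ), CAlg.IsCohenRing Λ ∧
      Nonempty (IsLocalRing.ResidueField Λ ≃+* k) := by
  obtain ⟨B, _, _, hN, hL, hloc, hflat, e, -⟩ :=
    Groth.Agent.Lib.ResExt.exists_flat_local_algebra (Zp k) k
  -- the maximal ideal of `B`
  have hmax : (maximalIdeal (Zp k)).map (algebraMap (Zp k) B) = maximalIdeal B := by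
    have hfield : IsField (B ⧸ (maximalIdeal (Zp k)).map (algebraMap (Zp k) B)) :=
      e.toMulEquiv.isField (Field.toIsField k)
    have hm := Ideal.Quotient.maximal_of_isField _ hfield
    exact IsLocalRing.eq_maximalIdeal hm
  have hmaxB : maximalIdeal B = Ideal.span {((p : ℕ) : B)} := by
    rw [← hmax, maximalIdeal_Zp p k, Ideal.map_span, Set.image_singleton, map_natCast]
  have hff : Module.FaithfullyFlat (Zp k) B := Module.FaithfullyFlat.of_flat_of_isLocalHom
  have hinj : Function.Injective (algebraMap (Zp k) B) := FaithfulSMul.algebraMap_injective _ _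
  have hnil : ¬ IsNilpotent ((p : ℕ) : B) := by
    rintro ⟨n, hn⟩
    have h1 : algebraMap (Zp k) B (((p : ℕ) : Zp k) ^ n) = 0 := by
      rw [map_pow, map_natCast]
      exact hn
    rw [map_eq_zero_iff _ hinj] at h1
    exact natCast_pow_ne_zero p k n h1
  have hdvrB := Groth.Agent.Lib.AdicDim.exists_isDiscreteValuationRing_of_maximalIdeal_eq_span_singleton
    hmaxB hnil
  obtain ⟨hdom, hdvr⟩ := (Groth.Agent.Lib.AdicDim.isDiscreteValuationRing_iff_adicCompletion B).mp hdvrB
  refine ⟨AdicCompletion (maximalIdeal B) B, inferInstance, inferInstance,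
    ⟨hdom, hdvr, inferInstance, p, (Fact.out : p.Prime), ?_⟩, ⟨?_⟩⟩
  · rw [AdicCompletion.maximalIdeal_eq_map, hmaxB, Ideal.map_span, Set.image_singleton, map_natCast]
  · have e1 : ResidueField B ≃+* ResidueField (AdicCompletion (maximalIdeal B) B) :=
      RingEquiv.ofBijective _ (AdicCompletion.residueField_map_bijective B)
    have e2 : ResidueField B ≃+* B ⧸ (maximalIdeal (Zp k)).map (algebraMap (Zp k) B) :=
      Ideal.quotEquivOfEq hmax.symm
    exact e1.symm.trans (e2.trans e)

end Groth.Agent.S0578
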