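import Groth.Statements.S0579
import Mathlib.RingTheory.Smooth.Field
import Mathlib.RingTheory.Smooth.AdicCompletion
import Mathlib.FieldTheory.Perfect
import Mathlib.Algebra.Algebra.Rat

set_option autoImplicit false
universe u
open CAlg

namespace Groth.Agent.S0579

/-- A field of characteristic zero is formally smooth over `ℚ`. -/
lemma formallySmooth_rat (κ : Type u) [Field κ] [CharZero κ] : Algebra.FormallySmooth ℚ κ := by
  obtain ⟨s, hs⟩ := exists_isTranscendenceBasis ℚ κ
  have halg : Algebra.IsAlgebraic (IntermediateField.adjoin ℚ (Set.range ((↑) : s → κ))) κ :=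
    hs.isAlgebraic_field
  have : Algebra.IsSeparable (IntermediateField.adjoin ℚ (Set.range ((↑) : s → κ))) κ :=
    Algebra.IsAlgebraic.isSeparable_of_perfectField
  exact Algebra.FormallySmooth.of_algebraicIndependent_of_isSeparable hs.1

/-- A field of characteristic zero is formally smooth over `ℤ`. -/
lemma formallySmooth_int (κ : Type u) [Field κ] [CharZero κ] : Algebra.FormallySmooth ℤ κ := by
  have h1 : Algebra.FormallySmooth ℚ κ := formallySmooth_rat κ
  have h2 : Algebra.FormallySmooth ℤ ℚ := .of_isLocalization (nonZeroDivisors ℤ)
  exact .comp ℤ ℚ κ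

/-- A local ring which is complete with respect to its maximal ideal and whose residue field has
characteristic zero admits a coefficient field: there is a ring homomorphism from the residue field
to the ring which is a section of the residue map. -/
theorem result (R : Type u) [CommRing R] [IsLocalRing R]
    [IsAdicComplete (IsLocalRing.maximalIdeal R) R] [CharZero (IsLocalRing.ResidueField R)] :
    ∃ s : IsLocalRing.ResidueField R →+* R, (IsLocalRing.residue R).comp s = RingHom.id _ := by
  have hsm : Algebra.FormallySmooth ℤ (IsLocalRing.ResidueField R) := formallySmooth_int _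
  let f : IsLocalRing.ResidueField R →ₐ[ℤ] R ⧸ IsLocalRing.maximalIdeal R :=
    AlgHom.id ℤ (IsLocalRing.ResidueField R)
  obtain ⟨g, hg⟩ := Algebra.FormallySmooth.exists_mkₐ_comp_eq_of_isAdicComplete
    (I := IsLocalRing.maximalIdeal R) f
  refine ⟨g.toRingHom, ?_⟩
  ext x
  have := congrArg (fun h => h x) hg
  exact this

end Groth.Agent.S0579
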