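import Groth.Statements.S2456
import Groth.Agent.S2462
import Groth.Agent.S0579
import Groth.Agent.Lib.CohenRing
import Groth.Agent.Lib.AdicClosed
import Mathlib.RingTheory.Smooth.AdicCompletion

set_option autoImplicit false
universe u
open EGA41

namespace Groth.Agent.S2456

open IsLocalRing

/-- A field of characteristic zero (given by `IsField`) is formally smooth over `ℤ`. -/
theorem formallySmooth_int_of_isField {W : Type u} [CommRing W] (h : IsField W) [CharZero W] :
    Algebra.FormallySmooth ℤ W := by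
  let _ := h.toField
  exact Groth.Agent.S0579.formallySmooth_int W

/-- The characteristic zero case. -/
theorem result_charZero {W C : Type u} [CommRing W] [IsLocalRing W] (hfield : IsField W)
    [CharZero W]
    [CommRing C] [IsLocalRing C] [IsNoetherianRing C] [IsAdicComplete (maximalIdeal C) C]
    (J : Ideal C) (hJ : J ≠ ⊤) (u : W →+* C ⧸ J) :
    ∃ v : W →+* C, IsLocalHom v ∧ (Ideal.Quotient.mk J).comp v = u := by
  have hfs := formallySmooth_int_of_isField hfield
  have hJle : J ≤ maximalIdeal C := IsLocalRing.le_maximalIdeal hJ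
  have hc : IsAdicComplete J C :=
    Groth.Agent.Lib.AdicClosed.isAdicComplete_of_le J (maximalIdeal C) hJle
      (IsNoetherian.noetherian J)
  obtain ⟨g, hg⟩ := Algebra.FormallySmooth.exists_mkₐ_comp_eq_of_isAdicComplete (R := ℤ) (I := J)
    u.toIntAlgHom
  refine ⟨g.toRingHom, ⟨fun x hx => ?_⟩, ?_⟩
  · have hx0 : x ≠ 0 := by
      rintro rfl
      rw [map_zero] at hx
      exact not_isUnit_zero hx
    obtain ⟨y, hy⟩ := hfield.mul_inv_cancel hx0
    exact IsUnit.of_mul_eq_one y hy
  · ext x
    exact AlgHom.congr_fun hg x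

/-- The mixed characteristic case. -/
theorem result_cohen {W C : Type u} [CommRing W] [IsLocalRing W] [IsDomain W]
    [IsDiscreteValuationRing W] {p : ℕ} (hp : p.Prime)
    (hmax : maximalIdeal W = Ideal.span {(p : W)})
    [CommRing C] [IsLocalRing C] [IsNoetherianRing C] [IsAdicComplete (maximalIdeal C) C]
    (J : Ideal C) (hJ : J ≠ ⊤) [IsLocalRing (C ⧸ J)] (u : W →+* C ⧸ J) [IsLocalHom u] :
    ∃ v : W →+* C, IsLocalHom v ∧ (Ideal.Quotient.mk J).comp v = u := by
  let algW : Algebra Groth.Agent.Lib.CohenRing.ZU.{u} W := Groth.Agent.Lib.CohenRing.zuAlgebra W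
  let algC : Algebra Groth.Agent.Lib.CohenRing.ZU.{u} C := Groth.Agent.Lib.CohenRing.zuAlgebra C
  have hfs := Groth.Agent.Lib.CohenRing.isFormallySmoothAdic_ulift_int hp hmax
  -- nonunits go to nonunits
  have hnon : ∀ x ∈ maximalIdeal W, ∀ c : C, Ideal.Quotient.mk J c = u x → c ∈ maximalIdeal C := by
    intro x hx c hc
    by_contra hcu
    have hcu' : IsUnit c := by
      by_contra h
      exact hcu h
    have h1 : IsUnit (u x) := hc ▸ hcu'.map (Ideal.Quotient.mk J)
    exact hx ((isUnit_map_iff u x).mp h1)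
  have hpC : ((p : ℕ) : C) ∈ maximalIdeal C := by
    apply hnon ((p : ℕ) : W)
    · rw [hmax]
      exact Ideal.mem_span_singleton_self _
    · rw [map_natCast, map_natCast]
  have hA : (Ideal.span {((p : ℕ) : Groth.Agent.Lib.CohenRing.ZU.{u})}).map
      (algebraMap Groth.Agent.Lib.CohenRing.ZU.{u} C) ≤ maximalIdeal C := by
    rw [Ideal.map_span, Set.image_singleton, map_natCast, Ideal.span_le, Set.singleton_subset_iff]
    exact hpC
  have hu : (maximalIdeal W).map (Groth.Agent.Lib.CohenRing.toZAlgHom u).toRingHom ≤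
      (maximalIdeal C).map (Ideal.Quotient.mk J) := by
    rw [Ideal.map_le_iff_le_comap]
    intro x hx
    rw [Ideal.mem_comap]
    obtain ⟨c, hc⟩ := Ideal.Quotient.mk_surjective (u x)
    have : (Groth.Agent.Lib.CohenRing.toZAlgHom u).toRingHom x = Ideal.Quotient.mk J c := hc.symm
    rw [this]
    exact Ideal.mem_map_of_mem _ (hnon x hx c hc)
  obtain ⟨v, hv1, hv2⟩ := Groth.Agent.S2462.result
    (Ideal.span {((p : ℕ) : Groth.Agent.Lib.CohenRing.ZU.{u})}) (maximalIdeal W) hfs hA J hJ
    (Groth.Agent.Lib.CohenRing.toZAlgHom u) hu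
  refine ⟨v.toRingHom, ⟨fun x hx => ?_⟩, ?_⟩
  · by_contra hxu
    have hxm : x ∈ maximalIdeal W := hxu
    have : v.toRingHom x ∈ maximalIdeal C := hv1 (Ideal.mem_map_of_mem _ hxm)
    exact this hx
  · ext x
    exact AlgHom.congr_fun hv2 x

/-- Let W be a Cohen ring (a field of characteristic zero, or a complete discrete valuation ring with
maximal ideal generated by the residue characteristic), C a complete Noetherian local ring and J ≠ C
an ideal of C. Then every local homomorphism u : W → C/J is induced by a local homomorphism v : W →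
C. -/
theorem result {W C : Type u} [CommRing W] [IsLocalRing W] (hW : EGA41.IsCohenRingEGA W)
    [CommRing C] [IsLocalRing C] [IsNoetherianRing C] [IsAdicComplete (maximalIdeal C) C]
    (J : Ideal C) (hJ : J ≠ ⊤) [IsLocalRing (C ⧸ J)] (u : W →+* C ⧸ J) [IsLocalHom u] :
    ∃ v : W →+* C, IsLocalHom v ∧ (Ideal.Quotient.mk J).comp v = u := by
  rcases hW with ⟨hfield, hchar⟩ | ⟨hdom, hdvr, -, p, hp, hmax⟩
  · exact result_charZero hfield J hJ u
  · exact result_cohen hp hmax J hJ u

end Groth.Agent.S2456
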