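import Groth.Statements.S0580
import Groth.Agent.S0578
import Groth.Agent.S0579
import Groth.Agent.S2456
import Groth.Agent.Lib.PowerSeriesLift50
import Groth.Agent.Lib.H59PowerSeries
import Groth.Agent.Lib.AdicNoeth

set_option autoImplicit false
universe u
open CAlg

namespace Groth.Agent.S0580

open IsLocalRing MvPowerSeries

/-- A complete local ring with finitely generated maximal ideal is a quotient of a power series ring
over any complete local ring mapping to it by a local homomorphism which is surjective on residue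
fields. -/
theorem exists_surjective_of_localHom (Λ R : Type u) [CommRing Λ] [IsLocalRing Λ] [CommRing R]
    [IsLocalRing R] [IsAdicComplete (maximalIdeal Λ) Λ] [IsAdicComplete (maximalIdeal R) R]
    (hfg : (maximalIdeal R).FG) (v : Λ →+* R) (hv : ∀ a ∈ maximalIdeal Λ, v a ∈ maximalIdeal R)
    (hsurj : Function.Surjective ((residue R).comp v)) :
    ∃ (n : ℕ) (f : MvPowerSeries (Fin n) Λ →+* R), Function.Surjective f := by
  obtain ⟨n, b, hb⟩ := (Submodule.fg_iff_exists_fin_generating_family).1 hfg
  have hb' : Ideal.span (Set.range b) = maximalIdeal R := hb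
  have hbmem : ∀ i, b i ∈ maximalIdeal R := fun i => hb' ▸ Ideal.subset_span ⟨i, rfl⟩
  let _ : Algebra Λ R := v.toAlgebra
  obtain ⟨ψ, hψX, -⟩ := Groth.Agent.Lib.PowerSeriesLift50.exists_algHom (k := Λ)
    (maximalIdeal R) b hbmem
  refine ⟨n, ψ.toRingHom, ?_⟩
  have hψC : ∀ a : Λ, ψ (C a) = v a := fun a => ψ.commutes a
  have hc : IsAdicComplete (Groth.Agent.Lib.H59PowerSeries.bigIdeal (Fin n) (maximalIdeal Λ))
      (MvPowerSeries (Fin n) Λ) :=
    Groth.Agent.Lib.H59PowerSeries.isAdicComplete_bigIdeal _
  have hmap : (Groth.Agent.Lib.H59PowerSeries.bigIdeal (Fin n) (maximalIdeal Λ)).map ψ.toRingHom =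
      maximalIdeal R := by
    apply le_antisymm
    · rw [Groth.Agent.Lib.H59PowerSeries.bigIdeal, Ideal.map_sup, sup_le_iff]
      constructor
      · rw [Ideal.map_span, Ideal.span_le]
        rintro _ ⟨_, ⟨i, rfl⟩, rfl⟩
        show ψ (X i) ∈ maximalIdeal R
        rw [hψX]
        exact hbmem i
      · rw [Ideal.map_map, Ideal.map_le_iff_le_comap]
        intro a ha
        rw [Ideal.mem_comap]
        show ψ (C a) ∈ maximalIdeal R
        rw [hψC]
        exact hv a ha
    · rw [← hb', Ideal.span_le]
      rintro _ ⟨i, rfl⟩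
      rw [← hψX i]
      apply Ideal.mem_map_of_mem
      apply Ideal.mem_sup_left
      exact Ideal.subset_span ⟨i, rfl⟩
  have hH : IsHausdorff
      ((Groth.Agent.Lib.H59PowerSeries.bigIdeal (Fin n) (maximalIdeal Λ)).map ψ.toRingHom) R := by
    rw [hmap]
    infer_instance
  apply surjective_of_mk_map_comp_surjective
    (I := Groth.Agent.Lib.H59PowerSeries.bigIdeal (Fin n) (maximalIdeal Λ)) ψ.toRingHom
  intro y'
  obtain ⟨y, rfl⟩ := Ideal.Quotient.mk_surjective y'
  obtain ⟨a, ha⟩ := hsurj (residue R y)
  refine ⟨C a, ?_⟩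
  show Ideal.Quotient.mk _ (ψ (C a)) = Ideal.Quotient.mk _ y
  rw [hψC, Ideal.Quotient.eq, hmap, ← residue_eq_zero_iff, map_sub, sub_eq_zero]
  exact ha

/-- A local ring complete with respect to a finitely generated maximal ideal is a quotient of a power
series ring in finitely many variables over a ring which is either a field or a Cohen ring. -/
theorem result (R : Type u) [CommRing R]
    [IsLocalRing R] [IsAdicComplete (IsLocalRing.maximalIdeal R) R]
    (hfg : (IsLocalRing.maximalIdeal R).FG) :
    ∃ (Λ : Type u) (_ : CommRing Λ) (n : ℕ) (f : MvPowerSeries (Fin n) Λ →+* R),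
      (IsField Λ ∨ CAlg.IsCohenRing Λ) ∧ Function.Surjective f := by
  rcases CharP.char_is_prime_or_zero (ResidueField R) (ringChar (ResidueField R)) with hp | h0
  · -- residue characteristic `p`
    have hfact : Fact (ringChar (ResidueField R)).Prime := ⟨hp⟩
    obtain ⟨Λ, _, _, hΛ, ⟨e⟩⟩ := Groth.Agent.S0578.result (ringChar (ResidueField R))
      (ResidueField R)
    obtain ⟨hdom, hdvr, hc, p', hp', hmax'⟩ := hΛ
    have hNq : IsNoetherianRing (R ⧸ maximalIdeal R) :=
      inferInstanceAs (IsNoetherianRing (ResidueField R))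
    have hN : IsNoetherianRing R :=
      Groth.Agent.Lib.AdicNoeth.isNoetherianRing_of_isAdicComplete (maximalIdeal R) hfg
    have hloc : IsLocalRing (R ⧸ maximalIdeal R) := inferInstanceAs (IsLocalRing (ResidueField R))
    let u' : Λ →+* R ⧸ maximalIdeal R := e.toRingHom.comp (residue Λ)
    have hu' : ∀ x, u' x = e (residue Λ x) := fun x => rfl
    have hlocu : IsLocalHom u' := by
      refine ⟨fun x hx => ?_⟩
      rw [hu'] at hx
      have h1 : IsUnit (residue Λ x) := by
        have h2 : IsUnit (e.symm (e (residue Λ x))) := hx.map e.symm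
        rwa [RingEquiv.symm_apply_apply] at h2
      exact (isUnit_map_iff (residue Λ) x).mp h1
    obtain ⟨v, hvloc, hv⟩ := Groth.Agent.S2456.result_cohen hp' hmax' (maximalIdeal R)
      Ideal.IsPrime.ne_top' u'
    have hvx : ∀ x, residue R (v x) = e (residue Λ x) := fun x => RingHom.congr_fun hv x
    have h1 : ∀ a ∈ maximalIdeal Λ, v a ∈ maximalIdeal R := by
      intro a ha
      rw [← residue_eq_zero_iff, hvx, (residue_eq_zero_iff a).mpr ha, map_zero]
    have h2 : Function.Surjective ((residue R).comp v) := by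
      intro y
      obtain ⟨a, ha⟩ := residue_surjective (e.symm y)
      refine ⟨a, ?_⟩
      show residue R (v a) = y
      rw [hvx, ha, RingEquiv.apply_symm_apply]
    obtain ⟨n, f, hf⟩ := exists_surjective_of_localHom Λ R hfg v h1 h2
    exact ⟨Λ, inferInstance, n, f, Or.inr ⟨hdom, hdvr, hc, p', hp', hmax'⟩, hf⟩
  · -- residue characteristic zero
    have hchar : CharP (ResidueField R) 0 := h0 ▸ (inferInstance : CharP _ (ringChar _))
    have hcz : CharZero (ResidueField R) := CharP.charP_to_charZero _
    obtain ⟨s, hs⟩ := Groth.Agent.S0579.result R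
    have hcK : IsAdicComplete (maximalIdeal (ResidueField R)) (ResidueField R) := by
      rw [IsLocalRing.maximalIdeal_eq_bot]
      infer_instance
    have h1 : ∀ a ∈ maximalIdeal (ResidueField R), s a ∈ maximalIdeal R := by
      intro a ha
      rw [IsLocalRing.maximalIdeal_eq_bot, Ideal.mem_bot] at ha
      rw [ha, map_zero]
      exact zero_mem _
    have h2 : Function.Surjective ((residue R).comp s) := fun y => ⟨y, RingHom.congr_fun hs y⟩
    obtain ⟨n, f, hf⟩ := exists_surjective_of_localHom (ResidueField R) R hfg s h1 h2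
    exact ⟨ResidueField R, inferInstance, n, f, Or.inl (Field.toIsField _), hf⟩

end Groth.Agent.S0580
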