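import Groth.Statements.S9297
import Groth.Agent.Lib.EquidimCat33
import Mathlib.RingTheory.Ideal.GoingDown
import Mathlib.RingTheory.Ideal.MinimalPrime.Localization

set_option autoImplicit false
set_option linter.style.haveILetI false
universe u
open EGA4

namespace Groth.Agent.S9297

open Groth.Agent.Lib.EquidimCat33

/-- Let A → B be a flat local homomorphism of Noetherian local rings with B catenary and Spec(B)
equidimensional. Then Spec(B/pB) is equidimensional for every prime p of A. -/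
theorem result (A B : Type u) [CommRing A] [CommRing B]
    [IsNoetherianRing A] [IsNoetherianRing B] [IsLocalRing A] [IsLocalRing B] [Algebra A B]
    [IsLocalHom (algebraMap A B)] [Module.Flat A B] (hcat : CAlg.IsCatenary B) (heq : EGA4.IsEquidim B)
    (p : Ideal A) [p.IsPrime] : EGA4.IsEquidim (B ⧸ Ideal.map (algebraMap A B) p) := by
  set I := Ideal.map (algebraMap A B) p with hI
  have hmap : ∀ Qb : Ideal (B ⧸ I), (Qb.comap (Ideal.Quotient.mk I)).map (Ideal.Quotient.mk I) = Qb :=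
    fun Qb => Ideal.map_comap_of_surjective _ Ideal.Quotient.mk_surjective _
  have hmin : ∀ Qb ∈ minimalPrimes (B ⧸ I), Qb.comap (Ideal.Quotient.mk I) ∈ I.minimalPrimes := by
    intro Qb h
    rw [Ideal.minimalPrimes_eq_comap]
    exact ⟨Qb, h, rfl⟩
  -- Step 1: minimal primes over `pB` have the height of `p`
  have step1 : ∀ Q ∈ I.minimalPrimes, Q.height = p.height := by
    intro Q hQ
    haveI := hQ.1.1
    have hle : p ≤ Q.under A := Ideal.map_le_iff_le_comap.mp hQ.1.2
    haveI : Q.LiesOver p := by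
      constructor
      by_contra hne
      have hlt : p < Q.under A := lt_of_le_of_ne hle hne
      obtain ⟨P, hPQ, hP, hPp⟩ := Algebra.HasGoingDown.exists_ideal_le_liesOver_of_lt Q hlt
      have hIP : I ≤ P := by
        rw [hI, Ideal.map_le_iff_le_comap, ← Ideal.under_def, ← hPp.over]
      have hQP : Q ≤ P := hQ.2 ⟨hP, hIP⟩ hPQ
      have hPQeq : P = Q := le_antisymm hPQ hQP
      subst hPQeq
      exact hne hPp.over
    rw [Ideal.height_eq_height_add_of_liesOver_of_hasGoingDown p Q]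
    have h0 : (Q.map (Ideal.Quotient.mk I)).height = 0 := by
      haveI : (Q.map (Ideal.Quotient.mk I)).IsPrime :=
        Ideal.isPrime_map_quotientMk_of_isPrime hQ.1.2
      rw [Ideal.height_eq_zero_iff]
      rw [Ideal.minimalPrimes_eq_comap] at hQ
      obtain ⟨Qb, hQb, rfl⟩ := hQ
      rw [hmap]
      exact hQb
    rw [h0, add_zero]
  -- Step 2: all `dim (B/pB)/Q̄` agree
  have step2 : ∀ Q1 ∈ minimalPrimes (B ⧸ I), ∀ Q2 ∈ minimalPrimes (B ⧸ I),
      ringKrullDim ((B ⧸ I) ⧸ Q1) = ringKrullDim ((B ⧸ I) ⧸ Q2) := by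
    intro Q1 h1 Q2 h2
    have hp1 : (Q1.comap (Ideal.Quotient.mk I)).IsPrime := (hmin Q1 h1).1.1
    have hp2 : (Q2.comap (Ideal.Quotient.mk I)).IsPrime := (hmin Q2 h2).1.1
    have e := height_add_coheight_eq heq hcat ⟨_, hp1⟩ ⟨_, hp2⟩
    simp only [] at e
    rw [step1 _ (hmin Q1 h1), step1 _ (hmin Q2 h2)] at e
    have hfin : p.height ≠ ⊤ := Ideal.height_ne_top_of_isPrime
    have e' := ENat.add_right_injective_of_ne_top hfin e
    have e1 := ringKrullDim_quotQuot (hmin Q1 h1).1.2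
    have e2 := ringKrullDim_quotQuot (hmin Q2 h2).1.2
    rw [hmap] at e1 e2
    rw [e1, e2]
    have c1 := coheight_eq (⟨_, hp1⟩ : PrimeSpectrum B)
    have c2 := coheight_eq (⟨_, hp2⟩ : PrimeSpectrum B)
    simp only [] at c1 c2
    rw [← c1, ← c2, e']
  -- Step 3: conclude
  intro Qb hQb
  refine le_antisymm (ringKrullDim_quotient_le _) ?_
  unfold ringKrullDim
  rw [Order.krullDim_eq_iSup_coheight]
  refine iSup_le fun P => ?_
  obtain ⟨q, hq, hqP⟩ := Ideal.exists_minimalPrimes_le (bot_le : (⊥ : Ideal (B ⧸ I)) ≤ P.asIdeal)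
  have hq' : q ∈ minimalPrimes (B ⧸ I) := hq
  have h1 : Order.coheight P ≤ Order.coheight (⟨q, hq.1.1⟩ : PrimeSpectrum (B ⧸ I)) :=
    Order.coheight_anti (show (⟨q, hq.1.1⟩ : PrimeSpectrum (B ⧸ I)) ≤ P from hqP)
  have h2 := coheight_eq (⟨q, hq.1.1⟩ : PrimeSpectrum (B ⧸ I))
  simp only [] at h2
  calc ((Order.coheight P : ℕ∞) : WithBot ℕ∞)
      ≤ ((Order.coheight (⟨q, hq.1.1⟩ : PrimeSpectrum (B ⧸ I)) : ℕ∞) : WithBot ℕ∞) :=
        WithBot.coe_le_coe.mpr h1
    _ = ringKrullDim ((B ⧸ I) ⧸ q) := h2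
    _ = ringKrullDim ((B ⧸ I) ⧸ Qb) := step2 q hq' Qb hQb
    _ = _ := rfl

end Groth.Agent.S9297
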