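import Groth.Statements.S9233
import Groth.Agent.S0785
import Groth.Agent.S0507
import Groth.Agent.S0509
import Groth.Agent.S0511

set_option autoImplicit false
universe u
open Hensel

namespace Groth.Agent.S9233

open TensorProduct IsLocalRing RingTheory.Sequence Groth.Agent.Lib in
/-- Depth is invariant under flat local homomorphisms of Noetherian local rings with
`m_A B = m_B`. -/
theorem depth_eq_of_flat {A B : Type u} [CommRing A] [CommRing B] [IsLocalRing A] [IsLocalRing B]
    [IsNoetherianRing A] [IsNoetherianRing B] [Algebra A B] [IsLocalHom (algebraMap A B)]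
    [Module.Flat A B] (hm : (maximalIdeal A).map (algebraMap A B) = maximalIdeal B) :
    LocCoh.depth A A = LocCoh.depth B B := by
  refine ENat.eq_of_forall_natCast_le_iff fun n => ?_
  constructor
  · intro hn
    obtain ⟨rs, hlen, hmem, hreg⟩ := (DepthRees.natCast_le_depth_iff A n).mp hn
    refine (DepthRees.natCast_le_depth_iff B n).mpr ⟨rs.map (algebraMap A B), ?_, ?_, ?_⟩
    · rw [List.length_map, hlen]
    · intro r hr
      obtain ⟨a, ha, rfl⟩ := List.mem_map.mp hr
      rw [← hm]
      exact Ideal.mem_map_of_mem _ (hmem a ha)
    · exact IsWeaklyRegular.of_flat hreg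
  · intro hn
    have e : B ≃ₗ[B] B ⊗[A] A := (AlgebraTensorModule.rid A B B).symm
    rw [Groth.Agent.S0785.depth_congr e] at hn
    exact Groth.Agent.S0785.le_depth_of_le_depth_baseChange hm n A hn

/-- The henselization S of a Noetherian local ring R has the same depth as R. -/
theorem result (R S : Type u) [CommRing R] [IsLocalRing R] [IsNoetherianRing R]
    [CommRing S] [IsLocalRing S] [Algebra R S] [IsLocalHom (algebraMap R S)]
    [Hensel.IsHenselization R S] : LocCoh.depth S S = LocCoh.depth R R := by
  have hS : IsNoetherianRing S := (Groth.Agent.S0511.result R S).mp inferInstance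
  have hff : Module.FaithfullyFlat R S := Groth.Agent.S0509.result R S
  exact (depth_eq_of_flat (Groth.Agent.S0507.result R S)).symm

end Groth.Agent.S9233
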