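import Groth.Statements.S9249
import Groth.Agent.S9233
import Groth.Agent.Lib.AdicDim
import Groth.Agent.Lib.AdicNoeth
-- import your own Groth.Agent.* helpers here

set_option autoImplicit false
universe u
open CAlg

namespace Groth.Agent.S9249

/-- A Noetherian local ring is Cohen-Macaulay if and only if its completion is. -/
theorem result (A : Type u) [CommRing A] [IsLocalRing A]
    [IsNoetherianRing A] :
    LocCoh.IsCohenMacaulayLocalRing A ↔
      LocCoh.IsCohenMacaulayLocalRing (AdicCompletion (IsLocalRing.maximalIdeal A) A) := by
  have hN : IsNoetherianRing (AdicCompletion (IsLocalRing.maximalIdeal A) A) :=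
    Groth.Agent.Lib.AdicNoeth.isNoetherianRing_adicCompletion _
  have hfl : Module.Flat A (AdicCompletion (IsLocalRing.maximalIdeal A) A) :=
    AdicCompletion.flat_of_isNoetherian (IsLocalRing.maximalIdeal A)
  have hdepth : LocCoh.depth A A = LocCoh.depth (AdicCompletion (IsLocalRing.maximalIdeal A) A)
      (AdicCompletion (IsLocalRing.maximalIdeal A) A) :=
    Groth.Agent.S9233.depth_eq_of_flat AdicCompletion.maximalIdeal_eq_map.symm
  have hdim : ringKrullDim (AdicCompletion (IsLocalRing.maximalIdeal A) A) = ringKrullDim A :=
    Groth.Agent.Lib.AdicDim.ringKrullDim_adicCompletion A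
  constructor
  · intro h
    refine { supportDim_eq_depth := ?_ }
    have := h.supportDim_eq_depth
    rw [Module.supportDim_self_eq_ringKrullDim] at this ⊢
    rw [hdim, ← hdepth]
    exact this
  · intro h
    refine { supportDim_eq_depth := ?_ }
    have := h.supportDim_eq_depth
    rw [Module.supportDim_self_eq_ringKrullDim] at this ⊢
    rw [← hdim, hdepth]
    exact this

end Groth.Agent.S9249
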