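import Groth.Statements.S9126
import Groth.Agent.Lib.UCatenary

set_option autoImplicit false
universe u
open CAlg

namespace Groth.Agent.S9126

theorem uc_of_finiteType {A B : Type u} [CommRing A] [CommRing B] [Algebra A B]
    [hAB : Algebra.FiniteType A B] (hA : CAlg.IsUniversallyCatenary A) :
    CAlg.IsUniversallyCatenary B := by
  obtain ⟨hN, h⟩ := hA
  refine ⟨Algebra.FiniteType.isNoetherianRing A B, ?_⟩
  intro S _ _ hS
  let _ : Algebra A S := ((algebraMap B S).comp (algebraMap A B)).toAlgebra
  have : IsScalarTower A B S := IsScalarTower.of_algebraMap_eq' rfl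
  exact h S (Algebra.FiniteType.trans hAB hS)

theorem uc_of_ringEquiv {R R' : Type u} [CommRing R] [CommRing R'] (e : R ≃+* R')
    (h : CAlg.IsUniversallyCatenary R) : CAlg.IsUniversallyCatenary R' := by
  let _ : Algebra R R' := e.toRingHom.toAlgebra
  have : Algebra.FiniteType R R' :=
    Algebra.FiniteType.of_surjective (Algebra.ofId R R') e.surjective
  exact uc_of_finiteType h


/-- An algebra essentially of finite type over a Noetherian universally catenary ring is universally
catenary. -/
theorem result (A : Type u) [CommRing A] (B : Type u) [CommRing B]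
    [Algebra A B] [Algebra.EssFiniteType A B]
    (hA : CAlg.IsUniversallyCatenary A) : CAlg.IsUniversallyCatenary B := by
  have h0 : CAlg.IsUniversallyCatenary (Algebra.EssFiniteType.subalgebra A B) :=
    uc_of_finiteType hA
  have h1 := Groth.Agent.Lib.UCatenary.isUniversallyCatenary_localization h0
    (Algebra.EssFiniteType.submonoid A B)
  exact uc_of_ringEquiv (IsLocalization.algEquiv (Algebra.EssFiniteType.submonoid A B)
    (Localization (Algebra.EssFiniteType.submonoid A B)) B).toRingEquiv h1

end Groth.Agent.S9126
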