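-- Statement S9684.
import Groth.Statements.S9684
import Groth.Agent.Lib.H56DimFormula2
import Groth.Agent.Lib.DimIneqScheme
import Groth.Agent.Lib.UCatenary
import Groth.Agent.S12459
import Groth.Agent.S7577
import Mathlib

set_option autoImplicit false
universe u
open CategoryTheory CategoryTheory.Limits AlgebraicGeometry
open Cyc

namespace Groth.Agent.S9684

open Groth.Agent.Lib.TrdegTransfer Groth.Agent.Lib.DimIneqCore Groth.Agent.Lib.DimIneqScheme
  Groth.Agent.S7577

section RingLevel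

/-- a quotient of a universally catenary ring is universally catenary -/
theorem uc_quotient {R : Type u} [CommRing R] (hR : CAlg.IsUniversallyCatenary R) (I : Ideal R) :
    CAlg.IsUniversallyCatenary (R ⧸ I) := by
  obtain ⟨hN, h⟩ := hR
  refine ⟨inferInstance, ?_⟩
  intro T _ _ hT
  letI : Algebra R T := ((algebraMap (R ⧸ I) T).comp (Ideal.Quotient.mk I)).toAlgebra
  haveI : IsScalarTower R (R ⧸ I) T := IsScalarTower.of_algebraMap_eq (fun _ => rfl)
  apply h T
  haveI : Algebra.FiniteType R (R ⧸ I) :=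
    Algebra.FiniteType.of_surjective (Ideal.Quotient.mkₐ R I) Ideal.Quotient.mk_surjective
  exact Algebra.FiniteType.trans (R := R) (S := R ⧸ I) (A := T) inferInstance hT

variable {R B : Type u} [CommRing R] [CommRing B] [Algebra R B]

/-- The dimension formula for the quotient by a prime `Q₀ ≤ q` of `B`. -/
theorem eq_of_prime_le (hR : CAlg.IsUniversallyCatenary R) [Algebra.FiniteType R B]
    (q : Ideal B) [q.IsPrime] (Q₀ : Ideal B) [Q₀.IsPrime] (hle : Q₀ ≤ q) :
    ((q.map (Ideal.Quotient.mk Q₀)).height : Cardinal.{u}) +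
        Algebra.trdeg (R ⧸ q.under R) (B ⧸ q) =
      (((q.under R).map (Ideal.Quotient.mk (Q₀.under R))).height : Cardinal.{u}) +
        Algebra.trdeg (R ⧸ Q₀.under R) (B ⧸ Q₀) := by
  have hPle : Q₀.under R ≤ q.under R := Ideal.comap_mono hle
  haveI hp' : ((q.under R).map (Ideal.Quotient.mk (Q₀.under R))).IsPrime :=
    isPrime_map_mk (Q₀.under R) (q.under R) hPle
  haveI hq' : (q.map (Ideal.Quotient.mk Q₀)).IsPrime := isPrime_map_mk Q₀ q hle
  haveI : (q.map (Ideal.Quotient.mk Q₀)).LiesOver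
      ((q.under R).map (Ideal.Quotient.mk (Q₀.under R))) := by
    constructor
    ext x
    obtain ⟨r, rfl⟩ := Ideal.Quotient.mk_surjective x
    have h1 : Ideal.Quotient.mk (Q₀.under R) r ∈
        (q.under R).map (Ideal.Quotient.mk (Q₀.under R)) ↔ r ∈ q.under R :=
      Ideal.mem_quotient_iff_mem hPle
    have h2 : Ideal.Quotient.mk (Q₀.under R) r ∈
        (q.map (Ideal.Quotient.mk Q₀)).under (R ⧸ Q₀.under R) ↔ algebraMap R B r ∈ q := by
      change Ideal.Quotient.mk Q₀ (algebraMap R B r) ∈ q.map (Ideal.Quotient.mk Q₀) ↔ _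
      exact Ideal.mem_quotient_iff_mem hle
    rw [h1, h2]
    rfl
  haveI : Algebra.FiniteType R (B ⧸ Q₀) :=
    Algebra.FiniteType.of_surjective (Ideal.Quotient.mkₐ R Q₀) Ideal.Quotient.mk_surjective
  haveI : Algebra.FiniteType (R ⧸ Q₀.under R) (B ⧸ Q₀) :=
    Algebra.FiniteType.of_restrictScalars_finiteType R (R ⧸ Q₀.under R) (B ⧸ Q₀)
  have h1 := Groth.Agent.Lib.H56DimFormula.dimension_formula (R ⧸ Q₀.under R)
    (uc_quotient hR _) (B ⧸ Q₀) ((q.under R).map (Ideal.Quotient.mk (Q₀.under R)))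
    (q.map (Ideal.Quotient.mk Q₀))
  have h3 : Algebra.trdeg ((R ⧸ Q₀.under R) ⧸ (q.under R).map (Ideal.Quotient.mk (Q₀.under R)))
      ((B ⧸ Q₀) ⧸ q.map (Ideal.Quotient.mk Q₀)) = Algebra.trdeg (R ⧸ q.under R) (B ⧸ q) := by
    refine trdeg_eq_of_ringEquiv (DoubleQuot.quotQuotEquivQuotOfLE hPle)
      (DoubleQuot.quotQuotEquivQuotOfLE hle) (fun a => ?_)
    obtain ⟨a', rfl⟩ := Ideal.Quotient.mk_surjective a
    obtain ⟨r, rfl⟩ := Ideal.Quotient.mk_surjective a'
    rfl
  rw [h3] at h1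
  exact h1

end RingLevel

section Height

variable {X : Scheme.{u}} {δ : X → ℤ}

/-- Heights in a domain whose spectrum embeds (with "convex" range) into a scheme with a dimension
function are computed by the dimension function. -/
theorem height_eq_delta (hδ : Cyc.IsDimFun X δ) {T : Type u} [CommRing T] [IsDomain T]
    (F : PrimeSpectrum T → X) (hF : Topology.IsEmbedding F)
    (hconv : ∀ (a b : PrimeSpectrum T) (y : X), F a ⤳ y → y ⤳ F b → y ∈ Set.range F)
    (b : PrimeSpectrum T) :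
    b.asIdeal.height = ((δ (F ⟨⊥, Ideal.isPrime_bot⟩) - δ (F b)).toNat : ℕ∞) := by
  let bot : PrimeSpectrum T := ⟨⊥, Ideal.isPrime_bot⟩
  have hbot : ∀ a : PrimeSpectrum T, bot ≤ a := fun a => bot_le (a := a.asIdeal)
  let d : PrimeSpectrum T → ℤ := fun p => - δ (F p)
  have hd : StrictMono d := by
    intro p q hpq
    have hsp : F p ⤳ F q :=
      ((PrimeSpectrum.le_iff_specializes p q).mp hpq.le).map hF.continuous
    have hne : F p ≠ F q := fun he => hpq.ne (hF.injective he)
    have := (hδ (F p) (F q) hsp hne).1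
    show - δ (F p) < - δ (F q)
    omega
  have hcov : ∀ p q : PrimeSpectrum T, p ⋖ q → d q = d p + 1 := by
    intro p q hpq
    have hsp : F p ⤳ F q :=
      ((PrimeSpectrum.le_iff_specializes p q).mp hpq.le).map hF.continuous
    have hne : F p ≠ F q := fun he => hpq.lt.ne (hF.injective he)
    have := (hδ (F p) (F q) hsp hne).2 (by
      intro y hpy hyq
      obtain ⟨r, rfl⟩ := hconv p q y hpy hyq
      have h1 : p ≤ r := (PrimeSpectrum.le_iff_specializes p r).mpr
        (hF.isInducing.specializes_iff.mp hpy)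
      have h2 : r ≤ q := (PrimeSpectrum.le_iff_specializes r q).mpr
        (hF.isInducing.specializes_iff.mp hyq)
      rcases hpq.eq_or_eq h1 h2 with he | he
      · exact Or.inl (congrArg F he)
      · exact Or.inr (congrArg F he))
    show - δ (F q) = - δ (F p) + 1
    omega
  rw [PrimeSpectrum.height_eq_orderHeight]
  have hdb : d bot ≤ d b := hd.monotone (hbot b)
  apply le_antisymm
  · apply Order.height_le
    intro p hp
    have h1 := series_lower _ hd p (Fin.last _)
    have h2 : d (p (Fin.last _)) = d b := by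
      show d p.last = d b
      rw [hp]
    have h3 : d bot ≤ d (p 0) := hd.monotone (hbot _)
    simp only [Fin.val_last] at h1
    have h4 : p.length ≤ (δ (F bot) - δ (F b)).toNat := by
      show p.length ≤ (δ (F bot) - δ (F b)).toNat
      have e1 : d b = - δ (F b) := rfl
      have e2 : d bot = - δ (F bot) := rfl
      omega
    exact_mod_cast h4
  · obtain ⟨s, -, hs2, hlen⟩ := exists_series _ hd hcov (δ (F bot) - δ (F b)).toNat bot b (hbot b)
      (by
        have e1 : d b = - δ (F b) := rfl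
        have e2 : d bot = - δ (F bot) := rfl
        omega)
    have := Order.length_le_height (p := s) (x := b) (by rw [hs2])
    rw [hlen] at this
    exact this

/-- In an affine open `V` of a scheme with a dimension function: the height of `p_t / p_s`. -/
theorem height_quotient_eq (hδ : Cyc.IsDimFun X δ) {V : X.Opens} (hV : IsAffineOpen V)
    (P P' : PrimeSpectrum Γ(X, V)) (hle : P ≤ P') :
    ((P'.asIdeal).map (Ideal.Quotient.mk P.asIdeal)).height =
      ((δ (hV.fromSpec P) - δ (hV.fromSpec P')).toNat : ℕ∞) := by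
  haveI := P.2
  let F : PrimeSpectrum (Γ(X, V) ⧸ P.asIdeal) → X :=
    fun a => hV.fromSpec (PrimeSpectrum.comap (Ideal.Quotient.mk P.asIdeal) a)
  have hF : Topology.IsEmbedding F :=
    hV.fromSpec.isOpenEmbedding.isEmbedding.comp
      (PrimeSpectrum.isClosedEmbedding_comap_of_surjective _ _
        Ideal.Quotient.mk_surjective).isEmbedding
  have hconv : ∀ (a b : PrimeSpectrum (Γ(X, V) ⧸ P.asIdeal)) (y : X),
      F a ⤳ y → y ⤳ F b → y ∈ Set.range F := by
    intro a b y hay hyb
    have hFbV : F b ∈ V := by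
      have : F b ∈ Set.range hV.fromSpec := ⟨_, rfl⟩
      rwa [hV.range_fromSpec] at this
    have hyV : y ∈ V := hyb.mem_open V.2 hFbV
    have hy1 : hV.fromSpec (hV.primeIdealOf ⟨y, hyV⟩) = y := hV.fromSpec_primeIdealOf ⟨y, hyV⟩
    have h2 : PrimeSpectrum.comap (Ideal.Quotient.mk P.asIdeal) a ⤳ hV.primeIdealOf ⟨y, hyV⟩ :=
      hV.fromSpec.isOpenEmbedding.isInducing.specializes_iff.mp (by rw [hy1]; exact hay)
    have h3 : (PrimeSpectrum.comap (Ideal.Quotient.mk P.asIdeal) a) ≤ hV.primeIdealOf ⟨y, hyV⟩ :=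
      (PrimeSpectrum.le_iff_specializes _ _).mpr h2
    have h4 : hV.primeIdealOf ⟨y, hyV⟩ ∈
        Set.range (PrimeSpectrum.comap (Ideal.Quotient.mk P.asIdeal)) := by
      rw [range_comap_of_surjective _ _ Ideal.Quotient.mk_surjective,
        Ideal.mk_ker, PrimeSpectrum.mem_zeroLocus]
      intro r hr
      apply h3
      show Ideal.Quotient.mk P.asIdeal r ∈ a.asIdeal
      rw [Ideal.Quotient.eq_zero_iff_mem.mpr hr]
      exact a.asIdeal.zero_mem
    obtain ⟨c, hc⟩ := h4
    exact ⟨c, by show hV.fromSpec _ = y; rw [hc, hy1]⟩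
  haveI hp' : ((P'.asIdeal).map (Ideal.Quotient.mk P.asIdeal)).IsPrime :=
    isPrime_map_mk P.asIdeal P'.asIdeal hle
  have h := height_eq_delta hδ F hF hconv ⟨_, hp'⟩
  have e1 : F ⟨⊥, Ideal.isPrime_bot⟩ = hV.fromSpec P := by
    show hV.fromSpec _ = hV.fromSpec P
    congr 1
    apply PrimeSpectrum.ext
    show Ideal.comap (Ideal.Quotient.mk P.asIdeal) ⊥ = P.asIdeal
    rw [← RingHom.ker_eq_comap_bot, Ideal.mk_ker]
  have e2 : F ⟨_, hp'⟩ = hV.fromSpec P' := by
    show hV.fromSpec _ = hV.fromSpec P'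
    congr 1
    apply PrimeSpectrum.ext
    exact comap_map_mk_eq P.asIdeal P'.asIdeal hle
  rw [e1, e2] at h
  exact h

end Height

section Main

/-- height of `q / Q₀` is at least one for `Q₀ < q`, and exactly one if nothing lies between. -/
theorem height_map_mk_pos {B : Type u} [CommRing B] (Q₀ q : Ideal B) [Q₀.IsPrime] [q.IsPrime]
    (hlt : Q₀ < q) : 1 ≤ (q.map (Ideal.Quotient.mk Q₀)).height := by
  haveI hq' : (q.map (Ideal.Quotient.mk Q₀)).IsPrime := isPrime_map_mk Q₀ q hlt.le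
  have hne : q.map (Ideal.Quotient.mk Q₀) ≠ ⊥ := by
    intro h
    have := comap_map_mk_eq Q₀ q hlt.le
    rw [h, ← RingHom.ker_eq_comap_bot, Ideal.mk_ker] at this
    exact hlt.ne this
  have hpos : (q.map (Ideal.Quotient.mk Q₀)).height ≠ 0 := by
    intro h0
    let b : PrimeSpectrum (B ⧸ Q₀) := ⟨_, hq'⟩
    have hb0 : b.asIdeal.height = 0 := h0
    rw [PrimeSpectrum.height_eq_orderHeight, Order.height_eq_zero] at hb0
    have hb : b ≤ ⟨⊥, Ideal.isPrime_bot⟩ := hb0 (bot_le (a := b.asIdeal))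
    exact hne (le_antisymm hb bot_le)
  exact Order.one_le_iff_pos.mpr (pos_iff_ne_zero.mpr hpos)

theorem height_map_mk_eq_one {B : Type u} [CommRing B] (Q₀ q : Ideal B) [Q₀.IsPrime]
    [q.IsPrime] (hlt : Q₀ < q)
    (himm : ∀ r : Ideal B, r.IsPrime → Q₀ ≤ r → r ≤ q → r = Q₀ ∨ r = q) :
    (q.map (Ideal.Quotient.mk Q₀)).height = 1 := by
  haveI hq' : (q.map (Ideal.Quotient.mk Q₀)).IsPrime := isPrime_map_mk Q₀ q hlt.le
  apply le_antisymm _ (height_map_mk_pos Q₀ q hlt)
  let b : PrimeSpectrum (B ⧸ Q₀) := ⟨_, hq'⟩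
  show b.asIdeal.height ≤ 1
  rw [PrimeSpectrum.height_eq_orderHeight]
  have : Order.height b ≤ ((1 : ℕ) : ℕ∞) := by
    rw [Order.height_le_coe_iff]
    intro y hy
    have hy' : y.asIdeal < q.map (Ideal.Quotient.mk Q₀) := hy
    have h1 : Q₀ ≤ y.asIdeal.comap (Ideal.Quotient.mk Q₀) := by
      intro z hz
      rw [Ideal.mem_comap, Ideal.Quotient.eq_zero_iff_mem.mpr hz]
      exact y.asIdeal.zero_mem
    have h2 : y.asIdeal.comap (Ideal.Quotient.mk Q₀) ≤ q := by
      have := Ideal.comap_mono (f := Ideal.Quotient.mk Q₀) hy'.le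
      rwa [comap_map_mk_eq Q₀ q hlt.le] at this
    have hymap : (y.asIdeal.comap (Ideal.Quotient.mk Q₀)).map (Ideal.Quotient.mk Q₀) = y.asIdeal :=
      Ideal.map_comap_of_surjective _ Ideal.Quotient.mk_surjective _
    rcases himm _ (Ideal.IsPrime.comap _) h1 h2 with h | h
    · have hy0 : y.asIdeal = ⊥ := by
        rw [← hymap, h, Ideal.map_quotient_self]
      have hmin : IsMin y := by
        intro z hz
        have : z.asIdeal ≤ y.asIdeal := hz
        rw [hy0] at this
        show y.asIdeal ≤ z.asIdeal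
        rw [hy0]
        exact bot_le
      rw [Order.height_eq_zero.mpr hmin]
      exact_mod_cast zero_lt_one
    · exfalso
      rw [← hymap, h] at hy'
      exact lt_irrefl _ hy'
  exact_mod_cast this

theorem main {X S : Scheme.{u}} (f : X ⟶ S)
    [LocallyOfFiniteType f] (δ : ↥S → ℤ) (hS : Cyc.IsSetup S δ) (δX : ↥X → ℤ)
    (hδ : Cyc.DeltaCompat f δX δ) : Cyc.IsDimFun X δX := by
  obtain ⟨hN, hUC, hδS⟩ := hS
  intro x y hxy hne
  -- affine charts
  obtain ⟨V, hV, hfyV⟩ : ∃ V : S.Opens, IsAffineOpen V ∧ f y ∈ V := by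
    obtain ⟨_, ⟨V, hV, rfl⟩, hxV, -⟩ := S.isBasis_affineOpens.exists_subset_of_mem_open
      (Set.mem_univ (f y)) isOpen_univ
    exact ⟨V, hV, hxV⟩
  obtain ⟨U, hU, hy, e⟩ : ∃ U : X.Opens, IsAffineOpen U ∧ y ∈ U ∧ U ≤ f ⁻¹ᵁ V := by
    obtain ⟨_, ⟨U, hU, rfl⟩, hxU, hUV⟩ := X.isBasis_affineOpens.exists_subset_of_mem_open
      (show y ∈ ((f ⁻¹ᵁ V : X.Opens) : Set X) from hfyV) (f ⁻¹ᵁ V).isOpen
    exact ⟨U, hU, hxU, hUV⟩
  have hx : x ∈ U := hxy.mem_open U.2 hy
  letI alg := (f.appLE V U e).hom.toAlgebra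
  haveI : IsNoetherianRing Γ(S, V) := IsLocallyNoetherian.component_noetherian ⟨V, hV⟩
  haveI : Algebra.FiniteType Γ(S, V) Γ(X, U) := f.finiteType_appLE hV hU e
  haveI : IsNoetherianRing Γ(X, U) := Algebra.FiniteType.isNoetherianRing Γ(S, V) Γ(X, U)
  have hR : CAlg.IsUniversallyCatenary Γ(S, V) := Groth.Agent.S12459.uc_affine_of_stalks hV hUC
  -- the primes
  set Q₀ := hU.primeIdealOf ⟨x, hx⟩ with hQ₀
  set q := hU.primeIdealOf ⟨y, hy⟩ with hq
  have hfx : hU.fromSpec Q₀ = x := hU.fromSpec_primeIdealOf ⟨x, hx⟩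
  have hfy : hU.fromSpec q = y := hU.fromSpec_primeIdealOf ⟨y, hy⟩
  have hle : Q₀ ≤ q := by
    apply (PrimeSpectrum.le_iff_specializes _ _).mpr
    exact hU.fromSpec.isOpenEmbedding.isInducing.specializes_iff.mp (by rw [hfx, hfy]; exact hxy)
  have hlt : Q₀.asIdeal < q.asIdeal := by
    refine lt_of_le_of_ne hle (fun h => hne ?_)
    rw [← hfx, ← hfy, PrimeSpectrum.ext h]
  -- the contracted primes
  have hunderx : Q₀.asIdeal.under Γ(S, V) = (hV.primeIdealOf ⟨f x, e hx⟩).asIdeal :=
    congrArg PrimeSpectrum.asIdeal (IsAffineOpen.comap_primeIdealOf_appLE V hV U hU e hx)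
  have hundery : q.asIdeal.under Γ(S, V) = (hV.primeIdealOf ⟨f y, e hy⟩).asIdeal :=
    congrArg PrimeSpectrum.asIdeal (IsAffineOpen.comap_primeIdealOf_appLE V hV U hU e hy)
  have hform := eq_of_prime_le hR q.asIdeal Q₀.asIdeal hle
  rw [← trdeg_residueField_eq f hU hV e x hx, ← trdeg_residueField_eq f hU hV e y hy,
    hunderx, hundery] at hform
  obtain ⟨nx, hnx, hδx⟩ := hδ x
  obtain ⟨ny, hny, hδy⟩ := hδ y
  rw [hnx, hny] at hform
  -- the height on the base
  have hPle : hV.primeIdealOf ⟨f x, e hx⟩ ≤ hV.primeIdealOf ⟨f y, e hy⟩ := by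
    have := Ideal.comap_mono (f := algebraMap Γ(S, V) Γ(X, U)) hle
    change Q₀.asIdeal.under Γ(S, V) ≤ q.asIdeal.under Γ(S, V) at this
    rwa [hunderx, hundery] at this
  have hbase := height_quotient_eq hδS hV _ _ hPle
  rw [hV.fromSpec_primeIdealOf ⟨f x, e hx⟩, hV.fromSpec_primeIdealOf ⟨f y, e hy⟩] at hbase
  rw [hbase] at hform
  -- finiteness of the height upstairs
  haveI hq' : (q.asIdeal.map (Ideal.Quotient.mk Q₀.asIdeal)).IsPrime :=
    isPrime_map_mk Q₀.asIdeal q.asIdeal hle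
  obtain ⟨h, hh⟩ := ENat.ne_top_iff_exists.mp
    (Ideal.height_ne_top_of_isPrime (I := q.asIdeal.map (Ideal.Quotient.mk Q₀.asIdeal)))
  rw [← hh] at hform
  have hnat : h + ny = (δ (f x) - δ (f y)).toNat + nx := by
    have : ((h + ny : ℕ) : Cardinal.{u}) = (((δ (f x) - δ (f y)).toNat + nx : ℕ) : Cardinal.{u}) := by
      push_cast
      simpa using hform
    exact_mod_cast this
  have hmono : δ (f y) ≤ δ (f x) := by
    have hsp : f x ⤳ f y := hxy.map f.continuous
    by_cases he : f x = f y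
    · rw [he]
    · exact (hδS (f x) (f y) hsp he).1.le
  have hpos : 1 ≤ h := by
    have := height_map_mk_pos Q₀.asIdeal q.asIdeal hlt
    rw [← hh] at this
    exact_mod_cast this
  refine ⟨by omega, fun himm => ?_⟩
  have h1 : h = 1 := by
    have := height_map_mk_eq_one Q₀.asIdeal q.asIdeal hlt (by
      intro r hr hQr hrq
      let r' : PrimeSpectrum Γ(X, U) := ⟨r, hr⟩
      have hxr : x ⤳ hU.fromSpec r' := by
        rw [← hfx]
        exact ((PrimeSpectrum.le_iff_specializes Q₀ r').mp hQr).map hU.fromSpec.continuous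
      have hry : hU.fromSpec r' ⤳ y := by
        rw [← hfy]
        exact ((PrimeSpectrum.le_iff_specializes r' q).mp hrq).map hU.fromSpec.continuous
      rcases himm _ hxr hry with hz | hz
      · left
        have : r' = Q₀ := hU.fromSpec.isOpenEmbedding.injective (by rw [hz, hfx])
        exact congrArg PrimeSpectrum.asIdeal this
      · right
        have : r' = q := hU.fromSpec.isOpenEmbedding.injective (by rw [hz, hfy])
        exact congrArg PrimeSpectrum.asIdeal this)
    rw [← hh] at this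
    exact_mod_cast this
  omega

end Main

/-- Let S be a locally Noetherian scheme whose local rings are universally catenary, δ a dimension
function on S, and f : X ⟶ S locally of finite type. Then the function δ_X(x) = δ(f x) + trdeg_{κ(f
x)} κ(x) is a dimension function on X. -/
theorem result {X S : Scheme.{u}} (f : X ⟶ S)
    [LocallyOfFiniteType f] (δ : ↥S → ℤ) (hS : Cyc.IsSetup S δ) (δX : ↥X → ℤ)
    (hδ : Cyc.DeltaCompat f δX δ) : Cyc.IsDimFun X δX := by
  exact main f δ hS δX hδ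

end Groth.Agent.S9684
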