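import Groth.Statements.S2327
import Groth.Agent.Lib.H78AtlasOps

set_option autoImplicit false
universe u
open CategoryTheory CategoryTheory.Limits AlgebraicGeometry
open EGA2

namespace Groth.Agent.S2327

open Groth.Agent.Lib.H90Invertible Groth.Agent.Lib.H78TensorGen Groth.Agent.Lib.H78SecCoord
  Groth.Agent.Lib.H78Atlas Groth.Agent.Lib.H78AtlasOps

/-- transfer of a section with affine generating locus between two modules whose atlases have transition
functions related by a power -/
lemma transfer {X : Scheme.{u}} {P P' : X.Modules} {V : X → X.Opens} (hV : ⨆ x, V x = ⊤)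
    (A : Atlas P V) (B : Atlas P' V) (N : ℕ) (hN : 0 < N)
    (hB : ∀ i j, B.trans i j = A.trans i j ^ N) (s : Coh.structureModule X ⟶ P) :
    ∃ t : Coh.structureModule X ⟶ P', CohB1.genLocus P' t = CohB1.genLocus P s := by
  obtain ⟨τ, -, hτ⟩ := exists_sec_pow hV A B N hB (sec s)
  refine ⟨ofSection τ, ?_⟩
  rw [hτ hN, ofSection_sec]

/-- Let X be a quasi-compact separated scheme, L an invertible module and n > 0. Then L is ample if and
only if L^{⊗n} is ample. -/
theorem result (X : Scheme.{u}) [CompactSpace X] [X.IsSeparated] (L : X.Modules) (hL : PicF.IsInvertible L) (n : ℕ) (hn : 0 < n) :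
    CohB1.IsAmple L ↔ CohB1.IsAmple (CohB1.tensorPow L n) := by
  obtain ⟨V, hxV, -, ⟨A⟩⟩ := exists_atlas hL
  have hV := iSup_eq_top_of_mem hxV
  constructor
  · intro h
    refine ⟨isInvertible_tensorPow hL n, inferInstance, fun x => ?_⟩
    obtain ⟨m, s, hx, haff⟩ := h.2.2 x
    obtain ⟨t, ht⟩ := transfer hV (A.pow (m + 1)) ((A.pow n).pow (m + 1)) n hn (by
      intro i j
      rw [Atlas.pow_trans, Atlas.pow_trans, Atlas.pow_trans, ← pow_mul, ← pow_mul, mul_comm]) s
    exact ⟨m, t, ht ▸ hx, ht ▸ haff⟩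
  · intro h
    refine ⟨hL, inferInstance, fun x => ?_⟩
    obtain ⟨k, t, hx, haff⟩ := h.2.2 x
    obtain ⟨m, hm⟩ : ∃ m, m + 1 = n * (k + 1) := ⟨n * (k + 1) - 1, by
      have : 0 < n * (k + 1) := Nat.mul_pos hn (Nat.succ_pos k)
      omega⟩
    obtain ⟨s, hs⟩ := transfer hV ((A.pow n).pow (k + 1)) (A.pow (m + 1)) 1 one_pos (by
      intro i j
      rw [Atlas.pow_trans, Atlas.pow_trans, Atlas.pow_trans, pow_one, ← pow_mul, hm]) t
    exact ⟨m, s, hs ▸ hx, hs ▸ haff⟩

end Groth.Agent.S2327
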