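import Groth.Statements.S0574
import Mathlib.RingTheory.DedekindDomain.IntegralClosure
import Mathlib.RingTheory.Localization.Integral
import Mathlib.FieldTheory.Separable

set_option autoImplicit false
universe u
open CAlg

namespace Groth.Agent.S0574

/-- For Noetherian domains of characteristic zero the conditions N-1 and N-2 coincide. -/
theorem result (R : Type u) [CommRing R] [IsDomain R] [IsNoetherianRing R]
    [CharZero R] : CAlg.IsN1 R ↔ CAlg.IsN2 R := by
  constructor
  · intro h1 L _ _ _ _ hfin
    unfold CAlg.IsN1 at h1
    let K := FractionRing R
    let R' := integralClosure R K
    have hfinR' : Module.Finite R R' := h1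
    have hnoeth : IsNoetherianRing R' := IsNoetherianRing.of_finite R R'
    have hfrac : IsFractionRing R' K := integralClosure.isFractionRing_of_finite_extension K K
    have hic : IsIntegrallyClosed R' := integralClosure.isIntegrallyClosedOfFiniteExtension K
    have tower1 : IsScalarTower R' K L := inferInstance
    have tower2 : IsScalarTower R R' L := inferInstance
    have : CharZero K := inferInstance
    have : Algebra.IsSeparable K L := inferInstance
    have hfin' : Module.Finite R' (integralClosure R' L) :=
      IsIntegralClosure.finite R' K L (integralClosure R' L)
    have hfin'' : Module.Finite R (integralClosure R' L) := Module.Finite.trans R' _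
    have hint : Algebra.IsIntegral R R' := inferInstance
    let f : integralClosure R' L →ₗ[R] integralClosure R L :=
      { toFun := fun x => ⟨x.1, isIntegral_trans (R := R) (A := R') x.1 x.2⟩
        map_add' := fun _ _ => rfl
        map_smul' := fun _ _ => rfl }
    refine Module.Finite.of_surjective f ?_
    rintro ⟨x, hx⟩
    exact ⟨⟨x, hx.tower_top⟩, rfl⟩
  · intro h2
    exact h2 (FractionRing R) inferInstance

end Groth.Agent.S0574
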