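import Groth.Statements.S4562
import Mathlib.RingTheory.DedekindDomain.IntegralClosure
import Mathlib.FieldTheory.Normal.Closure
import Mathlib.FieldTheory.Galois.Basic
import Mathlib.FieldTheory.IsAlgClosed.AlgebraicClosure
import Mathlib.RingTheory.IntegralClosure.IntegrallyClosed
import Mathlib.RingTheory.Localization.Integral

set_option autoImplicit false
universe u
open CAlg

namespace Groth.Agent.S4562

theorem sep_step (A A' K' N : Type*) [CommRing A] [IsDomain A] [IsNoetherianRing A]
    [CommRing A'] [IsDomain A'] [Algebra A A'] [Module.Finite A A'] [IsIntegrallyClosed A']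
    [Field K'] [Algebra A' K'] [IsFractionRing A' K']
    [Field N] [Algebra K' N] [FiniteDimensional K' N] [Algebra.IsSeparable K' N]
    [Algebra A N] [Algebra A' N] [IsScalarTower A A' N] [IsScalarTower A' K' N] :
    Module.Finite A (integralClosure A N) := by
  have : IsNoetherianRing A' := IsNoetherianRing.of_finite A A'
  have : Module.Finite A' (integralClosure A' N) :=
    IsIntegralClosure.finite A' K' N (integralClosure A' N)
  have : Algebra.IsIntegral A A' := Algebra.IsIntegral.of_finite A A'
  have : Module.Finite A (integralClosure A' N) := Module.Finite.trans A' (integralClosure A' N)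
  let f : (integralClosure A' N) →ₗ[A] (integralClosure A N) :=
    { toFun := fun c => ⟨c.1, isIntegral_trans (R := A) (A := A') c.1 c.2⟩
      map_add' := fun _ _ => rfl
      map_smul' := fun _ _ => rfl }
  have hf : Function.Surjective f := fun y =>
    ⟨⟨y.1, IsIntegral.tower_top (A := A') y.2⟩, rfl⟩
  exact Module.Finite.of_surjective f hf

theorem purelyInsep_fixedField (K N : Type*) [Field K] [Field N] [Algebra K N] [Normal K N] :
    IsPurelyInseparable K (IntermediateField.fixedField (⊤ : Subgroup (N ≃ₐ[K] N))) := by
  classical
  rw [isPurelyInseparable_iff_natSepDegree_eq_one]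
  intro x
  have hmin : minpoly K x = minpoly K (x : N) := IntermediateField.minpoly_eq x
  have hN : Normal K N := inferInstance
  have hint : IsIntegral K (x : N) := hN.isIntegral _
  have halg : IsAlgebraic K (x : N) := hint.isAlgebraic
  rw [hmin, Polynomial.natSepDegree_eq_of_splits _ (hN.splits (x : N))]
  have : ((minpoly K (x : N)).aroots N).toFinset = {(x : N)} := by
    ext y
    simp only [Multiset.mem_toFinset, Finset.mem_singleton]
    rw [Polynomial.mem_aroots]
    constructor
    · rintro ⟨-, hy⟩
      obtain ⟨σ, hσ⟩ := minpoly.exists_algEquiv_of_root' halg hy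
      rw [← hσ]
      exact (IntermediateField.mem_fixedField_iff _ _).mp x.2 σ (Subgroup.mem_top σ)
    · rintro rfl
      exact ⟨minpoly.ne_zero hint, minpoly.aeval K _⟩
  rw [this, Finset.card_singleton]

theorem normal_case (A K N : Type*) [CommRing A] [IsDomain A] [IsNoetherianRing A]
    [Field K] [Algebra A K] [IsFractionRing A K]
    [Field N] [Algebra K N] [Algebra A N] [IsScalarTower A K N] [FiniteDimensional K N]
    [Normal K N]
    (h : Module.Finite A
      (integralClosure A (IntermediateField.fixedField (⊤ : Subgroup (N ≃ₐ[K] N))))) :
    Module.Finite A (integralClosure A N) := by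
  have : IsGalois (IntermediateField.fixedField (⊤ : Subgroup (N ≃ₐ[K] N))) N :=
    IsGalois.of_fixed_field N (⊤ : Subgroup (N ≃ₐ[K] N))
  have : IsIntegrallyClosed
      (integralClosure A (IntermediateField.fixedField (⊤ : Subgroup (N ≃ₐ[K] N)))) :=
    integralClosure.isIntegrallyClosedOfFiniteExtension K
  have : IsFractionRing
      (integralClosure A (IntermediateField.fixedField (⊤ : Subgroup (N ≃ₐ[K] N))))
      (IntermediateField.fixedField (⊤ : Subgroup (N ≃ₐ[K] N))) :=
    integralClosure.isFractionRing_of_finite_extension K _
  have : IsScalarTower A
      (integralClosure A (IntermediateField.fixedField (⊤ : Subgroup (N ≃ₐ[K] N)))) N :=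
    IsScalarTower.of_algebraMap_eq (fun x => rfl)
  have : IsScalarTower
      (integralClosure A (IntermediateField.fixedField (⊤ : Subgroup (N ≃ₐ[K] N))))
      (IntermediateField.fixedField (⊤ : Subgroup (N ≃ₐ[K] N))) N :=
    IsScalarTower.of_algebraMap_eq (fun x => rfl)
  exact sep_step A (integralClosure A (IntermediateField.fixedField (⊤ : Subgroup (N ≃ₐ[K] N))))
    (IntermediateField.fixedField (⊤ : Subgroup (N ≃ₐ[K] N))) N

theorem finite_of_embedding (A L N : Type*) [CommRing A] [IsNoetherianRing A] [Field L] [Field N]
    [Algebra A L] [Algebra A N] [Algebra L N] [IsScalarTower A L N]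
    (h : Module.Finite A (integralClosure A N)) : Module.Finite A (integralClosure A L) := by
  let f : integralClosure A L →ₗ[A] integralClosure A N :=
    { toFun := fun x => ⟨algebraMap L N x.1, x.2.map (IsScalarTower.toAlgHom A L N)⟩
      map_add' := fun x y => Subtype.ext (map_add _ _ _)
      map_smul' := fun a x => Subtype.ext (by
        show algebraMap L N (a • x.1) = a • algebraMap L N x.1
        rw [Algebra.smul_def, Algebra.smul_def, map_mul, ← IsScalarTower.algebraMap_apply]) }
  have hf : Function.Injective f := fun x y hxy =>
    Subtype.ext ((algebraMap L N).injective (congrArg Subtype.val hxy))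
  have : IsNoetherian A (integralClosure A N) := isNoetherian_of_isNoetherianRing_of_finite A _
  exact Module.Finite.of_injective f hf


/-- Let A be a Noetherian domain with fraction field K. If the integral closure of A in every finite
purely inseparable extension of K is a finitely generated A-module, then A is Japanese (N-2). -/
theorem result (A : Type u) [CommRing A] [IsDomain A]
    [IsNoetherianRing A]
    (h : ∀ (K' : Type u) [Field K'] [Algebra A K'] [Algebra (FractionRing A) K']
      [IsScalarTower A (FractionRing A) K'], FiniteDimensional (FractionRing A) K' →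
      IsPurelyInseparable (FractionRing A) K' → Module.Finite A (integralClosure A K')) :
    CAlg.IsN2 A := by
  intro L _ _ _ _ hfd
  have : FiniteDimensional (FractionRing A) L := hfd
  let N : IntermediateField (FractionRing A) (AlgebraicClosure L) :=
    IntermediateField.normalClosure (FractionRing A) L (AlgebraicClosure L)
  have : IsScalarTower A L N := IsScalarTower.of_algebraMap_eq (fun a => by
    rw [IsScalarTower.algebraMap_apply A (FractionRing A) N,
      IsScalarTower.algebraMap_apply (FractionRing A) L N,
      ← IsScalarTower.algebraMap_apply A (FractionRing A) L])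
  exact finite_of_embedding A L N (normal_case A (FractionRing A) N
    (h _ inferInstance (purelyInsep_fixedField (FractionRing A) N)))

end Groth.Agent.S4562
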