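import Groth.Statements.S0570
import Groth.Agent.S4562
import Groth.Agent.S0574
import Mathlib.RingTheory.Polynomial.IsIntegral
import Mathlib.RingTheory.Polynomial.Tower
import Mathlib.RingTheory.Algebraic.Integral
import Mathlib.FieldTheory.IsAlgClosed.Basic

set_option autoImplicit false
universe u
open CAlg

namespace Groth.Agent.S0570

open Polynomial

/-- The subring of fractions `φ a / φ b` inside a field. -/
def fracSubring {T Ω : Type*} [CommRing T] [Field Ω] (φ : T →+* Ω) : Subring Ω where
  carrier := {z | ∃ a b : T, φ b ≠ 0 ∧ z * φ b = φ a}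
  zero_mem' := ⟨0, 1, by simp, by simp⟩
  one_mem' := ⟨1, 1, by simp, by simp⟩
  add_mem' := by
    rintro z₁ z₂ ⟨a₁, b₁, hb₁, h₁⟩ ⟨a₂, b₂, hb₂, h₂⟩
    refine ⟨a₁ * b₂ + a₂ * b₁, b₁ * b₂, by simp [hb₁, hb₂], ?_⟩
    simp only [map_mul, map_add, ← h₁, ← h₂]; ring
  mul_mem' := by
    rintro z₁ z₂ ⟨a₁, b₁, hb₁, h₁⟩ ⟨a₂, b₂, hb₂, h₂⟩
    refine ⟨a₁ * a₂, b₁ * b₂, by simp [hb₁, hb₂], ?_⟩
    simp only [map_mul, ← h₁, ← h₂]; ring
  neg_mem' := by
    rintro z ⟨a, b, hb, h⟩
    exact ⟨-a, b, hb, by rw [map_neg, ← h, neg_mul]⟩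

theorem mem_fracSubring {T Ω : Type*} [CommRing T] [Field Ω] (φ : T →+* Ω) {z : Ω} :
    z ∈ fracSubring φ ↔ ∃ a b : T, φ b ≠ 0 ∧ z * φ b = φ a := Iff.rfl

theorem mem_range_of_isIntegral {T Ω : Type*} [CommRing T] [IsDomain T] [IsIntegrallyClosed T]
    [Field Ω] (φ : T →+* Ω) (hφ : Function.Injective φ) {z : Ω} (hz : φ.IsIntegralElem z)
    (hfrac : z ∈ fracSubring φ) : z ∈ φ.range := by
  obtain ⟨a, b, hb, hab⟩ := hfrac
  have hb0 : b ≠ 0 := fun h => hb (by rw [h, map_zero])
  let l : FractionRing T →+* Ω := IsFractionRing.lift hφ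
  have hl : ∀ t, l (algebraMap T (FractionRing T) t) = φ t :=
    fun t => IsFractionRing.lift_algebraMap hφ t
  have hw : l (algebraMap T (FractionRing T) a / algebraMap T (FractionRing T) b) = z := by
    rw [map_div₀, hl, hl, ← hab, mul_div_cancel_right₀ _ hb]
  have hwint : IsIntegral T
      (algebraMap T (FractionRing T) a / algebraMap T (FractionRing T) b) := by
    obtain ⟨P, hP, hPz⟩ := hz
    refine ⟨P, hP, l.injective ?_⟩
    rw [Polynomial.hom_eval₂, map_zero]
    have : l.comp (algebraMap T (FractionRing T)) = φ := RingHom.ext hl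
    rw [this, hw]; exact hPz
  obtain ⟨t, ht⟩ := IsIntegrallyClosed.algebraMap_eq_of_integral hwint
  exact ⟨t, by rw [← hl, ht, hw]⟩

/-- Evaluation at `y` as a ring hom. -/
noncomputable abbrev evalHom (R' : Type*) {Ω : Type*} [CommRing R'] [Field Ω] [Algebra R' Ω]
    (y : Ω) : R'[X] →+* Ω := ((aeval y : R'[X] →ₐ[R'] Ω) : R'[X] →+* Ω)

theorem aeval_algebraMap_X {R Ω : Type*} [CommRing R] [CommRing Ω] [Algebra R[X] Ω] [Algebra R Ω]
    [IsScalarTower R R[X] Ω] (f : R[X]) :
    aeval (algebraMap R[X] Ω X) f = algebraMap R[X] Ω f := by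
  have := Polynomial.aeval_algHom_apply (IsScalarTower.toAlgHom R R[X] Ω) X f
  simpa only [IsScalarTower.toAlgHom_apply, aeval_X_left_apply] using this

theorem comp_psi {R Ω R' : Type*} [CommRing R] [Field Ω] [Algebra R[X] Ω] [Algebra R Ω]
    [IsScalarTower R R[X] Ω] [CommRing R'] [Algebra R R'] [Algebra R' Ω] [IsScalarTower R R' Ω]
    (y : Ω) (q : ℕ) (hy : y ^ q = algebraMap R[X] Ω X) :
    (evalHom R' y).comp
      (eval₂RingHom (C.comp (algebraMap R R')) (X ^ q)) = algebraMap R[X] Ω := by
  apply Polynomial.ringHom_ext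
  · intro r
    show (aeval y) (eval₂ (C.comp (algebraMap R R')) (X ^ q) (C r)) = algebraMap R[X] Ω (C r)
    rw [eval₂_C, RingHom.comp_apply, aeval_C, ← IsScalarTower.algebraMap_apply R R' Ω,
      C_eq_algebraMap, ← IsScalarTower.algebraMap_apply R R[X] Ω]
  · show (aeval y) (eval₂ (C.comp (algebraMap R R')) (X ^ q) X) = algebraMap R[X] Ω X
    rw [eval₂_X, map_pow, aeval_X, hy]

theorem core (R : Type*) [CommRing R] [IsDomain R] [IsNoetherianRing R]
    (Ω : Type*) [Field Ω] [Algebra R[X] Ω] [Algebra R Ω] [IsScalarTower R R[X] Ω]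
    (hinj : Function.Injective (algebraMap R[X] Ω))
    (R' : Type*) [CommRing R'] [IsDomain R'] [IsIntegrallyClosed R'] [Algebra R R']
    [Module.Finite R R'] [Algebra R' Ω] [IsScalarTower R R' Ω]
    (y : Ω) (q : ℕ) (hq : 0 < q) (hy : y ^ q = algebraMap R[X] Ω X) :
    ∃ T : Submodule R[X] Ω, T.FG ∧ ∀ z : Ω, IsIntegral R[X] z →
      z ∈ fracSubring (evalHom R' y) → z ∈ T := by
  classical
  -- transcendence of `y` over `R'`
  have h1 : Transcendental R (algebraMap R[X] Ω X) := by
    intro halg
    obtain ⟨P, hP0, hP⟩ := halg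
    apply hP0
    apply hinj
    rw [map_zero, ← hP, aeval_algebraMap_X]
  have h2 : Transcendental R y := fun h => h1 (hy ▸ h.pow q)
  have : Algebra.IsIntegral R R' := Algebra.IsIntegral.of_finite R R'
  have h3 : Transcendental R' y := fun h => h2 (h.restrictScalars_of_isIntegral R)
  have htr : Function.Injective (aeval y : R'[X] →ₐ[R'] Ω) := transcendental_iff_injective.mp h3
  obtain ⟨s, hs⟩ := (Module.Finite.fg_top : (⊤ : Submodule R R').FG)
  let G : Finset Ω := (s ×ˢ Finset.range q).image (fun cl => algebraMap R' Ω cl.1 * y ^ cl.2)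
  have hrange : ∀ P : R'[X], aeval y P ∈ Submodule.span R[X] (G : Set Ω) := by
    intro P
    induction P using Polynomial.induction_on' with
    | add P Q hP hQ => rw [map_add]; exact Submodule.add_mem _ hP hQ
    | monomial n c =>
      rw [aeval_monomial]
      have hn : y ^ n = algebraMap R[X] Ω (X ^ (n / q)) * y ^ (n % q) := by
        rw [map_pow, ← hy, ← pow_mul, ← pow_add, Nat.div_add_mod]
      have hc : c ∈ Submodule.span R (s : Set R') := by rw [hs]; trivial
      induction hc using Submodule.span_induction with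
      | mem c hc =>
        have : algebraMap R' Ω c * y ^ n =
            (X ^ (n / q) : R[X]) • (algebraMap R' Ω c * y ^ (n % q)) := by
          rw [hn, Algebra.smul_def]; ring
        rw [this]
        refine Submodule.smul_mem _ _ (Submodule.subset_span ?_)
        exact Finset.mem_coe.mpr (Finset.mem_image.mpr ⟨(c, n % q),
          Finset.mem_product.mpr ⟨hc, Finset.mem_range.mpr (Nat.mod_lt _ hq)⟩, rfl⟩)
      | zero => rw [map_zero, zero_mul]; exact Submodule.zero_mem _
      | add c d _ _ hc hd => rw [map_add, add_mul]; exact Submodule.add_mem _ hc hd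
      | smul r c _ hc =>
        have : algebraMap R' Ω (r • c) * y ^ n =
            (C r : R[X]) • (algebraMap R' Ω c * y ^ n) := by
          rw [Algebra.smul_def r c, map_mul, ← IsScalarTower.algebraMap_apply R R' Ω,
            Algebra.smul_def (C r), C_eq_algebraMap, ← IsScalarTower.algebraMap_apply R R[X] Ω,
            mul_assoc]
        rw [this]
        exact Submodule.smul_mem _ _ hc
  refine ⟨Submodule.span R[X] (G : Set Ω), ⟨G, rfl⟩, ?_⟩
  intro z hz hfrac
  have hz' : (evalHom R' y).IsIntegralElem z := by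
    obtain ⟨Q, hQ, hQz⟩ := hz
    refine ⟨Q.map (eval₂RingHom (C.comp (algebraMap R R')) (X ^ q)), hQ.map _, ?_⟩
    rw [eval₂_map, comp_psi y q hy]; exact hQz
  obtain ⟨P, hP⟩ := mem_range_of_isIntegral _ (fun a b h => htr h) hz' hfrac
  rw [← hP]
  exact hrange P

theorem finite_of_mem {P M Ω : Type*} [CommRing P] [IsNoetherianRing P] [Field M] [Field Ω]
    [Algebra P M] [Algebra P Ω] (j : M →ₐ[P] Ω) (T : Submodule P Ω) (hT : T.FG)
    (h : ∀ m : M, IsIntegral P m → j m ∈ T) :
    Module.Finite P (integralClosure P M) := by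
  have : IsNoetherian P T := isNoetherian_of_fg_of_noetherian T hT
  let f : integralClosure P M →ₗ[P] T :=
    { toFun := fun c => ⟨j c.1, h c.1 c.2⟩
      map_add' := fun a b => Subtype.ext (map_add j _ _)
      map_smul' := fun r a => Subtype.ext (map_smul j r a.1) }
  have hf : Function.Injective f := fun a b hab =>
    Subtype.ext (j.toRingHom.injective (congrArg Subtype.val hab))
  exact Module.Finite.of_injective f hf

theorem n1_poly (R : Type u) [CommRing R] [IsDomain R] [IsNoetherianRing R]
    (h : CAlg.IsN1 R) : CAlg.IsN1 R[X] := by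
  unfold CAlg.IsN1 at h ⊢
  have hinjRF : Function.Injective (algebraMap R (FractionRing R[X])) := by
    rw [IsScalarTower.algebraMap_eq R R[X] (FractionRing R[X])]
    exact (IsFractionRing.injective R[X] (FractionRing R[X])).comp C_injective
  letI : Algebra (FractionRing R) (FractionRing R[X]) := (IsFractionRing.lift hinjRF).toAlgebra
  have : IsScalarTower R (FractionRing R) (FractionRing R[X]) :=
    IsScalarTower.of_algebraMap_eq (fun r => (IsFractionRing.lift_algebraMap hinjRF r).symm)
  have : Module.Finite R (integralClosure R (FractionRing R)) := h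
  have : IsIntegrallyClosed (integralClosure R (FractionRing R)) :=
    integralClosure.isIntegrallyClosedOfFiniteExtension (FractionRing R)
  have : IsScalarTower R (integralClosure R (FractionRing R)) (FractionRing R[X]) :=
    IsScalarTower.of_algebraMap_eq
      (fun r => IsScalarTower.algebraMap_apply R (FractionRing R) (FractionRing R[X]) r)
  obtain ⟨T, hT, hmem⟩ := core R (FractionRing R[X])
    (IsFractionRing.injective R[X] (FractionRing R[X])) (integralClosure R (FractionRing R))
    (algebraMap R[X] (FractionRing R[X]) X) 1 one_pos (pow_one _)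
  refine finite_of_mem (AlgHom.id R[X] (FractionRing R[X])) T hT (fun m hm => hmem m hm ?_)
  obtain ⟨f, g, hg, rfl⟩ := IsFractionRing.div_surjective (A := R[X]) m
  have hg0 : algebraMap R[X] (FractionRing R[X]) g ≠ 0 :=
    IsFractionRing.to_map_ne_zero_of_mem_nonZeroDivisors hg
  have key : ∀ f : R[X], aeval (algebraMap R[X] (FractionRing R[X]) X)
      (f.map (algebraMap R (integralClosure R (FractionRing R)))) =
      algebraMap R[X] (FractionRing R[X]) f := fun f => by
    rw [aeval_map_algebraMap, aeval_algebraMap_X]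
  refine (mem_fracSubring _).mpr ⟨f.map (algebraMap R _), g.map (algebraMap R _), ?_, ?_⟩
  · show aeval _ _ ≠ 0
    rw [key]; exact hg0
  · show _ * aeval _ _ = aeval _ _
    rw [key, key, div_mul_cancel₀ _ hg0]

theorem n2_poly_charP (R : Type u) [CommRing R] [IsDomain R] [IsNoetherianRing R]
    (hN2 : CAlg.IsN2 R) (p : ℕ) [hp : Fact p.Prime] [CharP R p]
    (M : Type u) [Field M] [Algebra R[X] M] [Algebra (FractionRing R[X]) M]
    [IsScalarTower R[X] (FractionRing R[X]) M]
    [FiniteDimensional (FractionRing R[X]) M] [IsPurelyInseparable (FractionRing R[X]) M] :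
    Module.Finite R[X] (integralClosure R[X] M) := by
  classical
  letI : Algebra R M := ((algebraMap R[X] M).comp (algebraMap R R[X])).toAlgebra
  have : IsScalarTower R R[X] M := IsScalarTower.of_algebraMap_eq (fun _ => rfl)
  have hinjM : Function.Injective (algebraMap R[X] M) := by
    rw [IsScalarTower.algebraMap_eq R[X] (FractionRing R[X]) M]
    exact (algebraMap (FractionRing R[X]) M).injective.comp
      (IsFractionRing.injective R[X] (FractionRing R[X]))
  have hinjΩ : Function.Injective (algebraMap R[X] (AlgebraicClosure M)) := by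
    rw [IsScalarTower.algebraMap_eq R[X] M (AlgebraicClosure M)]
    exact (algebraMap M (AlgebraicClosure M)).injective.comp hinjM
  have hinjR : Function.Injective (algebraMap R (AlgebraicClosure M)) := by
    rw [IsScalarTower.algebraMap_eq R R[X] (AlgebraicClosure M)]
    exact hinjΩ.comp C_injective
  letI : Algebra (FractionRing R) (AlgebraicClosure M) := (IsFractionRing.lift hinjR).toAlgebra
  have : IsScalarTower R (FractionRing R) (AlgebraicClosure M) :=
    IsScalarTower.of_algebraMap_eq (fun r => (IsFractionRing.lift_algebraMap hinjR r).symm)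
  have : CharP (AlgebraicClosure M) p := charP_of_injective_algebraMap hinjR p
  have : CharP (FractionRing R[X]) p := charP_of_injective_algebraMap (R := R) (by
    rw [IsScalarTower.algebraMap_eq R R[X] (FractionRing R[X])]
    exact (IsFractionRing.injective R[X] (FractionRing R[X])).comp C_injective) p
  -- generators and a uniform exponent
  obtain ⟨bs, hbs⟩ := (Module.Finite.fg_top : (⊤ : Submodule (FractionRing R[X]) M).FG)
  obtain ⟨e, he⟩ : ∃ e : ℕ, ∀ b ∈ bs,
      b ^ (p ^ e) ∈ (algebraMap (FractionRing R[X]) M).range := by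
    have h1 : ∀ b : M, ∃ n : ℕ, b ^ (p ^ n) ∈ (algebraMap (FractionRing R[X]) M).range :=
      fun b => IsPurelyInseparable.pow_mem (FractionRing R[X]) p b
    choose n hn using h1
    refine ⟨bs.sup n, fun b hb => ?_⟩
    obtain ⟨d, hd⟩ := Nat.exists_eq_add_of_le (Finset.le_sup (f := n) hb)
    rw [hd, pow_add, pow_mul]
    exact pow_mem (hn b) _
  have hq : 0 < p ^ e := pow_pos hp.out.pos e
  -- the `q`-th root map
  have hsurj : Function.Surjective (iterateFrobenius (AlgebraicClosure M) p e) := fun x => by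
    obtain ⟨z, hz⟩ := IsAlgClosed.exists_pow_nat_eq x hq
    exact ⟨z, by rw [iterateFrobenius_def]; exact hz⟩
  let Θ : AlgebraicClosure M ≃+* AlgebraicClosure M :=
    RingEquiv.ofBijective (iterateFrobenius (AlgebraicClosure M) p e)
      ⟨(iterateFrobenius (AlgebraicClosure M) p e).injective, hsurj⟩
  have hΘ : ∀ w, (Θ.symm w) ^ (p ^ e) = w := fun w => by
    have : iterateFrobenius (AlgebraicClosure M) p e (Θ.symm w) = w := Θ.apply_symm_apply w
    rwa [iterateFrobenius_def] at this
  have hΘ' : ∀ w, Θ.symm (w ^ (p ^ e)) = w := fun w => by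
    have : Θ.symm (iterateFrobenius (AlgebraicClosure M) p e w) = w := Θ.symm_apply_apply w
    rwa [iterateFrobenius_def] at this
  obtain ⟨y, hydef⟩ : ∃ y, y = Θ.symm (algebraMap R[X] (AlgebraicClosure M) X) := ⟨_, rfl⟩
  have hy : y ^ (p ^ e) = algebraMap R[X] (AlgebraicClosure M) X := by rw [hydef]; exact hΘ _
  obtain ⟨ρ, hρdef⟩ : ∃ ρ : R →+* AlgebraicClosure M, ∀ r, ρ r =
      Θ.symm (algebraMap R (AlgebraicClosure M) r) :=
    ⟨(Θ.symm : AlgebraicClosure M →+* AlgebraicClosure M).comp
      (algebraMap R (AlgebraicClosure M)), fun _ => rfl⟩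
  have hρ : ∀ r, (ρ r) ^ (p ^ e) = algebraMap R (AlgebraicClosure M) r :=
    fun r => by rw [hρdef]; exact hΘ _
  have hΘi : ∀ f : R[X], Θ.symm (algebraMap R[X] (AlgebraicClosure M) f) = eval₂ ρ y f := by
    intro f
    have : (Θ.symm : AlgebraicClosure M →+* AlgebraicClosure M).comp
        (algebraMap R[X] (AlgebraicClosure M)) = eval₂RingHom ρ y := by
      apply Polynomial.ringHom_ext
      · intro r
        show Θ.symm (algebraMap R[X] (AlgebraicClosure M) (C r)) = eval₂ ρ y (C r)
        rw [eval₂_C, C_eq_algebraMap, ← IsScalarTower.algebraMap_apply R R[X] (AlgebraicClosure M),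
          hρdef]
      · show Θ.symm (algebraMap R[X] (AlgebraicClosure M) X) = eval₂ ρ y X
        rw [eval₂_X, hydef]
    exact RingHom.congr_fun this f
  -- numerators and denominators of the `q`-th powers of the generators
  have hfg : ∀ b : M, ∃ f g : R[X], b ∈ bs →
      (g ≠ 0 ∧ b ^ (p ^ e) * algebraMap R[X] M g = algebraMap R[X] M f) := by
    intro b
    by_cases hb : b ∈ bs
    · obtain ⟨c, hc⟩ := he b hb
      obtain ⟨f, g, hg, rfl⟩ := IsFractionRing.div_surjective (A := R[X]) c
      have hg0 : algebraMap R[X] (FractionRing R[X]) g ≠ 0 :=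
        IsFractionRing.to_map_ne_zero_of_mem_nonZeroDivisors hg
      refine ⟨f, g, fun _ => ⟨nonZeroDivisors.ne_zero hg, ?_⟩⟩
      rw [← hc, IsScalarTower.algebraMap_apply R[X] (FractionRing R[X]) M g,
        IsScalarTower.algebraMap_apply R[X] (FractionRing R[X]) M f, ← map_mul,
        div_mul_cancel₀ _ hg0]
    · exact ⟨0, 0, fun h => absurd h hb⟩
  choose f g hfg using hfg
  let S : Finset R := bs.biUnion (fun b => (f b).coeffs ∪ (g b).coeffs)
  have : Finite (ρ '' (S : Set R)) := Set.finite_coe_iff.mpr (S.finite_toSet.image ρ)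
  have hρint : ∀ r, IsIntegral R (ρ r) := fun r =>
    IsIntegral.of_pow hq (by rw [hρ]; exact isIntegral_algebraMap)
  let K' : IntermediateField (FractionRing R) (AlgebraicClosure M) :=
    IntermediateField.adjoin (FractionRing R) (ρ '' (S : Set R))
  have : FiniteDimensional (FractionRing R) K' :=
    IntermediateField.finiteDimensional_adjoin (fun x hx => by
      obtain ⟨r, -, rfl⟩ := hx
      exact (hρint r).tower_top)
  have : Module.Finite R (integralClosure R K') := hN2 K' inferInstance
  have : IsIntegrallyClosed (integralClosure R K') :=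
    integralClosure.isIntegrallyClosedOfFiniteExtension (FractionRing R)
  have : IsScalarTower R (integralClosure R K') (AlgebraicClosure M) :=
    IsScalarTower.of_algebraMap_eq (fun x => rfl)
  have : IsScalarTower R K' (AlgebraicClosure M) :=
    IsScalarTower.of_algebraMap_eq (fun x => rfl)
  have hD : ∀ r ∈ S, ρ r ∈ (algebraMap (integralClosure R K') (AlgebraicClosure M)).range := by
    intro r hr
    have hK : ρ r ∈ K' := IntermediateField.subset_adjoin _ _ ⟨r, hr, rfl⟩
    have hint : IsIntegral R (⟨ρ r, hK⟩ : K') :=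
      (isIntegral_algebraMap_iff (algebraMap K' (AlgebraicClosure M)).injective).mp (hρint r)
    exact ⟨⟨⟨ρ r, hK⟩, hint⟩, rfl⟩
  have hrange : ∀ f : R[X], (∀ n, f.coeff n ≠ 0 → f.coeff n ∈ S) →
      Θ.symm (algebraMap R[X] (AlgebraicClosure M) f) ∈
        (evalHom (integralClosure R K') y).range := by
    intro f hf
    rw [hΘi, eval₂_eq_sum_range]
    refine sum_mem (fun n _ => ?_)
    by_cases h0 : f.coeff n = 0
    · rw [h0, map_zero, zero_mul]; exact zero_mem _
    · obtain ⟨c, hc⟩ := hD _ (hf n h0)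
      exact ⟨monomial n c, by
        show aeval y (monomial n c) = _
        rw [aeval_monomial, hc]⟩
  have hSf : ∀ b ∈ bs, ∀ n, (f b).coeff n ≠ 0 → (f b).coeff n ∈ S := fun b hb n h =>
    Finset.mem_biUnion.mpr ⟨b, hb, Finset.mem_union_left _ (coeff_mem_coeffs h)⟩
  have hSg : ∀ b ∈ bs, ∀ n, (g b).coeff n ≠ 0 → (g b).coeff n ∈ S := fun b hb n h =>
    Finset.mem_biUnion.mpr ⟨b, hb, Finset.mem_union_right _ (coeff_mem_coeffs h)⟩
  have hbsmem : ∀ b ∈ bs, algebraMap M (AlgebraicClosure M) b ∈
      fracSubring (evalHom (integralClosure R K') y) := by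
    intro b hb
    obtain ⟨hg0, hfgb⟩ := hfg b hb
    obtain ⟨a', ha'⟩ := hrange (f b) (hSf b hb)
    obtain ⟨b', hb'⟩ := hrange (g b) (hSg b hb)
    refine (mem_fracSubring _).mpr ⟨a', b', ?_, ?_⟩
    · rw [hb']
      intro h0
      apply hg0
      apply hinjΩ
      rw [map_zero]
      exact Θ.symm.injective (by rw [h0, map_zero])
    · rw [ha', hb']
      have h1 : algebraMap M (AlgebraicClosure M) (b ^ (p ^ e) * algebraMap R[X] M (g b)) =
          algebraMap M (AlgebraicClosure M) (algebraMap R[X] M (f b)) := congrArg _ hfgb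
      rw [map_mul, map_pow, ← IsScalarTower.algebraMap_apply R[X] M (AlgebraicClosure M),
        ← IsScalarTower.algebraMap_apply R[X] M (AlgebraicClosure M)] at h1
      have h2 := congrArg Θ.symm h1
      rw [map_mul, hΘ'] at h2
      exact h2
  have hψ := comp_psi (R' := integralClosure R K') y (p ^ e) hy
  have hP : ∀ h : R[X], evalHom (integralClosure R K') y
      (eval₂RingHom (C.comp (algebraMap R (integralClosure R K'))) (X ^ (p ^ e)) h) =
      algebraMap R[X] (AlgebraicClosure M) h := fun h => by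
    rw [← hψ]; rfl
  have hF : ∀ c : FractionRing R[X],
      algebraMap M (AlgebraicClosure M) (algebraMap (FractionRing R[X]) M c) ∈
        fracSubring (evalHom (integralClosure R K') y) := by
    intro c
    obtain ⟨f₁, g₁, hg₁, rfl⟩ := IsFractionRing.div_surjective (A := R[X]) c
    have hg0 : algebraMap R[X] (FractionRing R[X]) g₁ ≠ 0 :=
      IsFractionRing.to_map_ne_zero_of_mem_nonZeroDivisors hg₁
    refine (mem_fracSubring _).mpr
      ⟨eval₂RingHom (C.comp (algebraMap R (integralClosure R K'))) (X ^ (p ^ e)) f₁,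
        eval₂RingHom (C.comp (algebraMap R (integralClosure R K'))) (X ^ (p ^ e)) g₁, ?_, ?_⟩
    · rw [hP]
      intro h0
      rw [← map_zero (algebraMap R[X] (AlgebraicClosure M))] at h0
      exact nonZeroDivisors.ne_zero hg₁ (hinjΩ h0)
    · rw [hP, hP, IsScalarTower.algebraMap_apply R[X] M (AlgebraicClosure M) g₁,
        IsScalarTower.algebraMap_apply R[X] (FractionRing R[X]) M g₁, ← map_mul, ← map_mul,
        div_mul_cancel₀ _ hg0, ← IsScalarTower.algebraMap_apply R[X] (FractionRing R[X]) M,
        ← IsScalarTower.algebraMap_apply R[X] M (AlgebraicClosure M)]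
  have hall : ∀ m : M, algebraMap M (AlgebraicClosure M) m ∈
      fracSubring (evalHom (integralClosure R K') y) := by
    intro m
    have hm : m ∈ Submodule.span (FractionRing R[X]) (bs : Set M) := by rw [hbs]; trivial
    induction hm using Submodule.span_induction with
    | mem b hb => exact hbsmem b hb
    | zero => rw [map_zero]; exact zero_mem _
    | add a b _ _ ha hb => rw [map_add]; exact add_mem ha hb
    | smul c a _ ha => rw [Algebra.smul_def, map_mul]; exact mul_mem (hF c) ha
  obtain ⟨T, hT, hmem⟩ := core R (AlgebraicClosure M) hinjΩ (integralClosure R K') y (p ^ e) hq hy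
  exact finite_of_mem (IsScalarTower.toAlgHom R[X] M (AlgebraicClosure M)) T hT
    (fun m hm => hmem _ (hm.map (IsScalarTower.toAlgHom R[X] M (AlgebraicClosure M))) (hall m))


/-- If a Noetherian domain is N-1 (resp. N-2) then so is the polynomial ring in one variable over it. -/
theorem result (R : Type u) [CommRing R] [IsDomain R] [IsNoetherianRing R] :
    (CAlg.IsN1 R → CAlg.IsN1 (Polynomial R)) ∧ (CAlg.IsN2 R → CAlg.IsN2 (Polynomial R)) := by
  refine ⟨n1_poly R, fun hN2 => ?_⟩
  have hN1 : CAlg.IsN1 R := hN2 (FractionRing R) inferInstance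
  rcases CharP.exists' R with h0 | ⟨p, hp, hchar⟩
  · exact (Groth.Agent.S0574.result R[X]).mp (n1_poly R hN1)
  · apply Groth.Agent.S4562.result R[X]
    intro M _ _ _ _ hfd hpi
    have := hfd
    have := hpi
    exact n2_poly_charP R hN2 p M

end Groth.Agent.S0570
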