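import Groth.Statements.S2114
import Mathlib.RingTheory.ZariskisMainTheorem
import Mathlib.RingTheory.Polynomial.ScaleRoots
import Mathlib.RingTheory.Polynomial.IsIntegral
import Mathlib.FieldTheory.IntermediateField.Adjoin.Basic
import Mathlib.RingTheory.IntegralClosure.IsIntegralClosure.Basic
import Mathlib.RingTheory.Localization.Integral
import Mathlib.RingTheory.Algebraic.Integral

set_option autoImplicit false
universe u
open CAlg

namespace Groth.Agent.S2114

theorem isIntegral_scale {R S L : Type*} [CommRing R] [CommRing S] [Field L] [Algebra R S]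
    [Algebra S L] [Algebra R L] [IsScalarTower R S L]
    (r : S) (hr : IsIntegral R r) (hrx : ∀ x : S, ∃ m : ℕ, IsIntegral R (r ^ m * x)) (z : L)
    (hz : IsIntegral S z) : ∃ m : ℕ, IsIntegral R (algebraMap S L (r ^ m) * z) := by
  classical
  obtain ⟨p, hpm, hpz⟩ := hz
  have hdeg : p.natDegree ≠ 0 := by
    intro h0
    have : p = 1 := Polynomial.eq_one_of_monic_natDegree_zero hpm h0
    rw [this, Polynomial.eval₂_one] at hpz
    exact one_ne_zero hpz
  choose m hm using hrx
  have hN : ∀ j, j ≤ p.natDegree → IsIntegral R
      (r ^ ((Finset.range (p.natDegree + 1)).sup (fun j => m (p.coeff j))) * p.coeff j) := by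
    intro j hj
    have hle : m (p.coeff j) ≤ (Finset.range (p.natDegree + 1)).sup (fun j => m (p.coeff j)) :=
      Finset.le_sup (f := fun j => m (p.coeff j)) (Finset.mem_range.mpr (Nat.lt_succ_of_le hj))
    obtain ⟨d, hd⟩ := Nat.exists_eq_add_of_le hle
    rw [hd, pow_add, mul_comm (r ^ _) (r ^ d), mul_assoc]
    exact (hr.pow d).mul (hm _)
  obtain ⟨N, hNdef⟩ : ∃ N, N = (Finset.range (p.natDegree + 1)).sup (fun j => m (p.coeff j)) :=
    ⟨_, rfl⟩
  rw [← hNdef] at hN
  refine ⟨N, ?_⟩
  have hmonic : ((p.scaleRoots (r ^ N)).map (algebraMap S L)).Monic :=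
    ((Polynomial.monic_scaleRoots_iff _).mpr hpm).map _
  refine IsIntegral.of_aeval_monic_of_isIntegral_coeff hmonic ?_ ?_ ?_
  · rw [((Polynomial.monic_scaleRoots_iff _).mpr hpm).natDegree_map,
      Polynomial.natDegree_scaleRoots]
    exact hdeg
  · rw [Polynomial.eval_map, Polynomial.scaleRoots_eval₂_mul, hpz, mul_zero]
    exact isIntegral_zero
  · intro i
    rw [Polynomial.coeff_map, Polynomial.coeff_scaleRoots]
    apply IsIntegral.algebraMap
    rcases lt_trichotomy i p.natDegree with hi | hi | hi
    · have hsub : p.natDegree - i = (p.natDegree - i - 1) + 1 := by omega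
      have e : p.coeff i * (r ^ N) ^ (p.natDegree - i) =
          (r ^ N * p.coeff i) * (r ^ N) ^ (p.natDegree - i - 1) := by
        conv_lhs => rw [hsub, pow_succ]
        ring
      rw [e]
      exact (hN i hi.le).mul ((hr.pow N).pow _)
    · rw [hi, Nat.sub_self, pow_zero, mul_one, hpm.coeff_natDegree]
      exact isIntegral_one
    · rw [Polynomial.coeff_eq_zero_of_natDegree_lt hi, zero_mul]
      exact isIntegral_zero


/-- Let `R ⊆ S` be an extension of domains which is of finite type and quasi-finite, with `R` Noetherian
and N-2 (integral closures in finite extensions of the fraction field are finite). Then `S` is N-2. -/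
theorem result {R S : Type u} [CommRing R] [IsDomain R] [IsNoetherianRing R] [CommRing S]
    [IsDomain S] [Algebra R S] (hinj : Function.Injective (algebraMap R S)) [Algebra.FiniteType R S]
    [Algebra.QuasiFinite R S] (hR : CAlg.IsN2 R) : CAlg.IsN2 S := by
  classical
  have zmt : ∀ (p : Ideal S) [p.IsPrime], ∃ r ∉ p, IsIntegral R r ∧
      ∀ x : S, ∃ m : ℕ, IsIntegral R (r ^ m * x) :=
    fun p _ => Algebra.zariskisMainProperty_iff.mp (Algebra.ZariskisMainProperty.of_finiteType p)
  have hspan : Ideal.span {r : S | IsIntegral R r ∧
      ∀ x : S, ∃ m : ℕ, IsIntegral R (r ^ m * x)} = ⊤ := by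
    by_contra hne
    obtain ⟨M, hM, hle⟩ := Ideal.exists_le_maximal _ hne
    have := hM.isPrime
    obtain ⟨r, hrM, hr⟩ := zmt M
    exact hrM (hle (Ideal.subset_span hr))
  obtain ⟨rs, hrs, hrs_top⟩ := (Ideal.span_eq_top_iff_finite _).mp hspan
  intro L _ _ _ _ hfd
  have := hfd
  letI : Algebra R L := ((algebraMap S L).comp (algebraMap R S)).toAlgebra
  have : IsScalarTower R S L := IsScalarTower.of_algebraMap_eq (fun _ => rfl)
  have hinjSL : Function.Injective (algebraMap S L) := by
    rw [IsScalarTower.algebraMap_eq S (FractionRing S) L]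
    exact (algebraMap (FractionRing S) L).injective.comp
      (IsFractionRing.injective S (FractionRing S))
  have hinjRL : Function.Injective (algebraMap R L) := by
    rw [IsScalarTower.algebraMap_eq R S L]; exact hinjSL.comp hinj
  letI : Algebra (FractionRing R) L := (IsFractionRing.lift hinjRL).toAlgebra
  have : IsScalarTower R (FractionRing R) L :=
    IsScalarTower.of_algebraMap_eq (fun r => (IsFractionRing.lift_algebraMap hinjRL r).symm)
  have : FiniteDimensional (FractionRing R) L := by
    obtain ⟨gens, hgens⟩ := (Algebra.FiniteType.out : (⊤ : Subalgebra R S).FG)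
    obtain ⟨r0, hr0, hr0int, hr0x⟩ := zmt ⊥
    have hr0ne : algebraMap S L r0 ≠ 0 := fun h =>
      hr0 (by rw [Ideal.mem_bot]; exact hinjSL (by rw [h, map_zero]))
    have halg : ∀ s : S, IsIntegral (FractionRing R) (algebraMap S L s) := by
      intro s
      obtain ⟨m, hm⟩ := hr0x s
      have h1 : IsIntegral (FractionRing R) (algebraMap S L (r0 ^ m * s)) :=
        (hm.algebraMap).tower_top
      have h2 : IsIntegral (FractionRing R) (algebraMap S L (r0 ^ m)) :=
        ((hr0int.pow m).algebraMap).tower_top
      have h3 : algebraMap S L s =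
          algebraMap S L (r0 ^ m * s) * (algebraMap S L (r0 ^ m))⁻¹ := by
        rw [map_mul, mul_comm, ← mul_assoc,
          inv_mul_cancel₀ (by rw [map_pow]; exact pow_ne_zero _ hr0ne), one_mul]
      rw [h3]
      exact h1.mul h2.inv
    have : Finite ((algebraMap S L) '' (gens : Set S)) :=
      Set.finite_coe_iff.mpr (gens.finite_toSet.image _)
    have hE : FiniteDimensional (FractionRing R)
        (IntermediateField.adjoin (FractionRing R) ((algebraMap S L) '' (gens : Set S))) :=
      IntermediateField.finiteDimensional_adjoin (fun x hx => by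
        obtain ⟨s, -, rfl⟩ := hx; exact halg s)
    have hSE : ∀ s : S, algebraMap S L s ∈
        IntermediateField.adjoin (FractionRing R) ((algebraMap S L) '' (gens : Set S)) := by
      intro s
      have hs : s ∈ Algebra.adjoin R (gens : Set S) := by rw [hgens]; trivial
      induction hs using Algebra.adjoin_induction with
      | mem x hx => exact IntermediateField.subset_adjoin _ _ ⟨x, hx, rfl⟩
      | algebraMap a =>
        rw [← IsScalarTower.algebraMap_apply R S L,
          IsScalarTower.algebraMap_apply R (FractionRing R) L]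
        exact IntermediateField.algebraMap_mem _ _
      | add x y _ _ hx hy => rw [map_add]; exact add_mem hx hy
      | mul x y _ _ hx hy => rw [map_mul]; exact mul_mem hx hy
    have hFE : ∀ φ : FractionRing S, algebraMap (FractionRing S) L φ ∈
        IntermediateField.adjoin (FractionRing R) ((algebraMap S L) '' (gens : Set S)) := by
      intro φ
      obtain ⟨s₁, s₂, -, rfl⟩ := IsFractionRing.div_surjective (A := S) φ
      rw [map_div₀, ← IsScalarTower.algebraMap_apply S (FractionRing S) L,
        ← IsScalarTower.algebraMap_apply S (FractionRing S) L]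
      exact div_mem (hSE s₁) (hSE s₂)
    obtain ⟨bs, hbs⟩ := (Module.Finite.fg_top : (⊤ : Submodule (FractionRing S) L).FG)
    have : Module.Finite
        (IntermediateField.adjoin (FractionRing R) ((algebraMap S L) '' (gens : Set S))) L := by
      refine ⟨⟨bs, ?_⟩⟩
      rw [eq_top_iff]
      rintro l -
      have hl : l ∈ Submodule.span (FractionRing S) (bs : Set L) := by rw [hbs]; trivial
      induction hl using Submodule.span_induction with
      | mem x hx => exact Submodule.subset_span hx
      | zero => exact Submodule.zero_mem _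
      | add x y _ _ hx hy => exact Submodule.add_mem _ hx hy
      | smul c x _ hx =>
        have : c • x = (⟨algebraMap (FractionRing S) L c, hFE c⟩ :
            IntermediateField.adjoin (FractionRing R) ((algebraMap S L) '' (gens : Set S))) • x := by
          rw [Algebra.smul_def]; rfl
        rw [this]
        exact Submodule.smul_mem _ _ hx
    exact Module.Finite.trans
      (IntermediateField.adjoin (FractionRing R) ((algebraMap S L) '' (gens : Set S))) L
  have hR'' : Module.Finite R (integralClosure R L) := hR L inferInstance
  obtain ⟨T, hT⟩ := (Module.Finite.fg_top : (⊤ : Submodule R (integralClosure R L)).FG)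
  have hT'int : ∀ x ∈ ((T.image (fun c : integralClosure R L => (c : L)) : Finset L) : Set L),
      IsIntegral S x := by
    intro x hx
    obtain ⟨c, -, rfl⟩ := Finset.mem_image.mp (Finset.mem_coe.mp hx)
    exact c.2.tower_top
  have hfinB : Module.Finite S (Algebra.adjoin S
      ((T.image (fun c : integralClosure R L => (c : L)) : Finset L) : Set L)) :=
    Algebra.finite_adjoin_of_finite_of_isIntegral (Finset.finite_toSet _) hT'int
  have hR''B : ∀ c : integralClosure R L, (c : L) ∈ Algebra.adjoin S
      ((T.image (fun c : integralClosure R L => (c : L)) : Finset L) : Set L) := by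
    intro c
    have hc : c ∈ Submodule.span R (T : Set (integralClosure R L)) := by rw [hT]; trivial
    induction hc using Submodule.span_induction with
    | mem t ht => exact Algebra.subset_adjoin (Finset.mem_coe.mpr (Finset.mem_image_of_mem _ ht))
    | zero => exact Subalgebra.zero_mem _
    | add a b _ _ ha hb => exact Subalgebra.add_mem _ ha hb
    | smul a c _ hc =>
      have : ((a • c : integralClosure R L) : L) = algebraMap R S a • (c : L) := by
        rw [algebraMap_smul]; rfl
      rw [this]
      exact Subalgebra.smul_mem _ hc _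
  have hmem : ∀ z : L, IsIntegral S z → z ∈ Algebra.adjoin S
      ((T.image (fun c : integralClosure R L => (c : L)) : Finset L) : Set L) := by
    intro z hz
    have h1 : ∀ r ∈ rs, ∃ m : ℕ, r ^ m • z ∈ Algebra.adjoin S
        ((T.image (fun c : integralClosure R L => (c : L)) : Finset L) : Set L) := fun r hr => by
      obtain ⟨hrint, hrx⟩ := hrs (Finset.mem_coe.mpr hr)
      obtain ⟨m, hm⟩ := isIntegral_scale r hrint hrx z hz
      exact ⟨m, by rw [Algebra.smul_def]; exact hR''B ⟨_, hm⟩⟩
    choose! n hn using h1
    have h2 : ∀ r ∈ rs, r ^ (rs.sup n) • z ∈ Algebra.adjoin S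
        ((T.image (fun c : integralClosure R L => (c : L)) : Finset L) : Set L) := fun r hr => by
      obtain ⟨d, hd⟩ := Nat.exists_eq_add_of_le (Finset.le_sup (f := n) hr)
      rw [hd, pow_add, mul_comm, mul_smul]
      exact Subalgebra.smul_mem _ (hn r hr) _
    have h3 : Ideal.span ((fun x => x ^ (rs.sup n)) '' (rs : Set S)) = ⊤ :=
      Ideal.span_pow_eq_top _ hrs_top _
    have h5 : ∀ a ∈ Ideal.span ((fun x => x ^ (rs.sup n)) '' (rs : Set S)),
        a • z ∈ Algebra.adjoin S
          ((T.image (fun c : integralClosure R L => (c : L)) : Finset L) : Set L) := by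
      intro a ha
      induction ha using Submodule.span_induction with
      | mem a ha => obtain ⟨r, hr, rfl⟩ := ha; exact h2 r hr
      | zero => rw [zero_smul]; exact Subalgebra.zero_mem _
      | add a b _ _ ha hb => rw [add_smul]; exact Subalgebra.add_mem _ ha hb
      | smul c a _ ha => rw [smul_eq_mul, mul_smul]; exact Subalgebra.smul_mem _ ha c
    have := h5 1 (by rw [h3]; trivial)
    rwa [one_smul] at this
  have heq : integralClosure S L = Algebra.adjoin S
      ((T.image (fun c : integralClosure R L => (c : L)) : Finset L) : Set L) :=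
    le_antisymm (fun x hx => hmem x hx) (Algebra.adjoin_le hT'int)
  rw [heq]
  exact hfinB

end Groth.Agent.S2114
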