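import Groth.Statements.S4710
import Mathlib.RingTheory.Localization.Integral
import Mathlib.RingTheory.Localization.Ideal
import Mathlib.RingTheory.Ideal.Over
-- import your own Groth.Agent.* helpers here

set_option autoImplicit false
universe u
open EGA4

namespace Groth.Agent.S4710

theorem isN2_of_isLocalization (R : Type u) [CommRing R] [IsDomain R] (M : Submonoid R)
    (R' : Type u) [CommRing R'] [IsDomain R'] [Algebra R R'] [IsLocalization M R']
    [FaithfulSMul R R'] (h : CAlg.IsN2 R) : CAlg.IsN2 R' := by
  intro L _ _ _ _ hfin
  let : Algebra R L := ((algebraMap R' L).comp (algebraMap R R')).toAlgebra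
  have : IsScalarTower R R' L := IsScalarTower.of_algebraMap_eq (fun _ => rfl)
  have hinj' : Function.Injective (algebraMap R' L) := by
    rw [IsScalarTower.algebraMap_eq R' (FractionRing R') L]
    exact (algebraMap (FractionRing R') L).injective.comp (IsFractionRing.injective R' _)
  have : FaithfulSMul R' L := (faithfulSMul_iff_algebraMap_injective R' L).mpr hinj'
  have hinj : Function.Injective (algebraMap R L) :=
    hinj'.comp (FaithfulSMul.algebraMap_injective R R')
  have : FaithfulSMul R L := (faithfulSMul_iff_algebraMap_injective R L).mpr hinj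
  let := FractionRing.liftAlgebra R L
  have := FractionRing.isScalarTower_liftAlgebra R L
  -- the image of Frac R in L contains the image of Frac R'
  let F : Subfield L := (algebraMap (FractionRing R) L).fieldRange
  have hRF : ∀ r : R, algebraMap R L r ∈ F := by
    intro r
    rw [IsScalarTower.algebraMap_apply R (FractionRing R) L]
    exact ⟨_, rfl⟩
  have hR'F : ∀ r' : R', algebraMap R' L r' ∈ F := by
    intro r'
    obtain ⟨⟨r, m⟩, hrm⟩ := IsLocalization.surj M r'
    have hm : algebraMap R L m ≠ 0 := by
      intro h0
      have : (m : R) = 0 := hinj (by rw [h0, map_zero])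
      have hu := IsLocalization.map_units R' m
      rw [this, map_zero] at hu
      exact not_isUnit_zero hu
    have : algebraMap R' L r' = algebraMap R L r / algebraMap R L m := by
      rw [eq_div_iff hm, IsScalarTower.algebraMap_apply R R' L r,
        IsScalarTower.algebraMap_apply R R' L m, ← map_mul, hrm]
    rw [this]
    exact F.div_mem (hRF r) (hRF m)
  have hKF : ∀ c : FractionRing R', algebraMap (FractionRing R') L c ∈ F := by
    intro c
    obtain ⟨a, b, hb, rfl⟩ := IsFractionRing.div_surjective (A := R') c
    rw [map_div₀, ← IsScalarTower.algebraMap_apply, ← IsScalarTower.algebraMap_apply]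
    exact F.div_mem (hR'F a) (hR'F b)
  have : FiniteDimensional (FractionRing R) L := by
    obtain ⟨s, hs⟩ := (hfin : Module.Finite (FractionRing R') L).fg_top
    refine ⟨⟨s, ?_⟩⟩
    rw [eq_top_iff]
    intro x _
    have hx : x ∈ Submodule.span (FractionRing R') (s : Set L) := by rw [hs]; trivial
    refine Submodule.span_induction ?_ ?_ ?_ ?_ hx
    · intro y hy; exact Submodule.subset_span hy
    · exact Submodule.zero_mem _
    · intro a b _ _ ha hb; exact Submodule.add_mem _ ha hb
    · intro c a _ ha
      obtain ⟨c', hc'⟩ := hKF c
      rw [Algebra.smul_def, ← hc', ← Algebra.smul_def]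
      exact Submodule.smul_mem _ c' ha
  have hC : Module.Finite R (integralClosure R L) := h L ‹_›
  have hfg : (Subalgebra.toSubmodule (integralClosure R L)).FG := Module.Finite.iff_fg.mp hC
  obtain ⟨T, hT⟩ := hfg
  refine (Module.Finite.iff_fg (N := Subalgebra.toSubmodule (integralClosure R' L))).mpr ?_
  refine ⟨T, le_antisymm ?_ ?_⟩
  · rw [Submodule.span_le]
    intro t ht
    have h1 : t ∈ Subalgebra.toSubmodule (integralClosure R L) := by
      rw [← hT]; exact Submodule.subset_span ht
    have h2 : IsIntegral R t := h1
    exact h2.tower_top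
  · intro x hx
    have hx' : IsIntegral R' x := hx
    obtain ⟨m, hm⟩ := IsIntegral.exists_multiple_integral_of_isLocalization M x hx'
    have h1 : (m • x) ∈ Subalgebra.toSubmodule (integralClosure R L) := hm
    rw [← hT] at h1
    have h2 : (m • x) ∈ Submodule.span R' (T : Set L) :=
      Submodule.span_subset_span R R' (T : Set L) h1
    obtain ⟨u, hu⟩ := IsLocalization.map_units R' m
    have h3 : x = (↑u⁻¹ : R') • (m • x) := by
      rw [Submonoid.smul_def, ← algebraMap_smul R' (m : R) x, ← hu, smul_smul,
        Units.inv_mul, one_smul]
    rw [h3]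
    exact Submodule.smul_mem _ _ h2


/-- Last assertion, case of rings of fractions: if A is a Noetherian ring all of whose quotient domains
are Japanese (a Nagata ring), then so is every ring of fractions S⁻¹A. -/
theorem result (A : Type u) [CommRing A] (hA : CAlg.IsNagata A) (S : Submonoid A) :
    CAlg.IsNagata (Localization S) := by
  have hN : IsNoetherianRing A := hA.1
  refine ⟨IsLocalization.isNoetherianRing S _ hN, fun P hP => ?_⟩
  have hp : (P.under A).IsPrime := Ideal.IsPrime.under A P
  have hloc : IsLocalization (S.map (Ideal.Quotient.mk (P.under A))) (Localization S ⧸ P) := by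
    refine IsLocalization.of_surjective S (Localization S) (Ideal.Quotient.mk (P.under A))
      Ideal.Quotient.mk_surjective (Ideal.Quotient.mk P) Ideal.Quotient.mk_surjective rfl ?_
    rw [Ideal.mk_ker, Ideal.mk_ker, Ideal.under_def, IsLocalization.map_comap S (Localization S) P]
  exact isN2_of_isLocalization (A ⧸ P.under A) (S.map (Ideal.Quotient.mk (P.under A)))
    (Localization S ⧸ P) (hA.2 (P.under A))

end Groth.Agent.S4710
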