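import Groth.Statements.S9392
import Groth.Agent.S4710

set_option autoImplicit false
universe u
open CAlg

namespace Groth.Agent.S9392

/-- A localization of an N-2 (Japanese) domain which is again a domain is N-2. -/
theorem result (R : Type u) [CommRing R] [IsDomain R] (M : Submonoid R)
    (S : Type u) [CommRing S] [IsDomain S] [Algebra R S] [IsLocalization M S]
    (h : CAlg.IsN2 R) : CAlg.IsN2 S := by
  have hM : M ≤ nonZeroDivisors R := by
    intro m hm
    rw [mem_nonZeroDivisors_iff_ne_zero]
    rintro rfl
    have hu := IsLocalization.map_units S (⟨0, hm⟩ : M)
    rw [map_zero] at hu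
    exact not_isUnit_zero hu
  have hinj : Function.Injective (algebraMap R S) := IsLocalization.injective S hM
  have : FaithfulSMul R S := (faithfulSMul_iff_algebraMap_injective R S).mpr hinj
  exact Groth.Agent.S4710.isN2_of_isLocalization R M S h

end Groth.Agent.S9392
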