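import Groth.Statements.S4808
import Mathlib.AlgebraicGeometry.Morphisms.Affine
import Mathlib.RingTheory.LocalProperties.IntegrallyClosed
-- import your own Groth.Agent.* helpers here

set_option autoImplicit false
universe u
open CategoryTheory AlgebraicGeometry
open Lim8

namespace Groth.Agent.S4808

lemma bijective_of_integral_birational {A B K K' : Type*} [CommRing A] [CommRing B] [CommRing K]
    [CommRing K'] [IsDomain A] [Algebra A K] [IsFractionRing A K] [IsIntegrallyClosed A]
    (φ : A →+* B) (iB : B →+* K') (ψ : K →+* K') (hiB : Function.Injective iB)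
    (hψ : Function.Bijective ψ)
    (hcomm : ∀ a, ψ (algebraMap A K a) = iB (φ a)) (hint : φ.IsIntegral) :
    Function.Bijective φ := by
  constructor
  · intro a a' h
    apply IsFractionRing.injective A K
    apply hψ.1
    rw [hcomm, hcomm, h]
  · intro b
    obtain ⟨p, hp, hpb⟩ := hint b
    obtain ⟨k, hk⟩ := hψ.2 (iB b)
    have hkint : IsIntegral A k := by
      refine ⟨p, hp, ?_⟩
      apply hψ.1
      rw [map_zero, Polynomial.hom_eval₂]
      have h1 : ψ.comp (algebraMap A K) = iB.comp φ := RingHom.ext hcomm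
      rw [h1, hk, ← Polynomial.hom_eval₂, hpb, map_zero]
    obtain ⟨a, ha⟩ := IsIntegrallyClosed.isIntegral_iff.mp hkint
    refine ⟨a, hiB ?_⟩
    rw [← hcomm, ha, hk]

open AlgebraicGeometry CategoryTheory in
lemma isIntegrallyClosed_of_stalks {Y : Scheme.{u}} [IsIntegral Y]
    (hN : ∀ y : Y, IsIntegrallyClosed (Y.presheaf.stalk y)) {V : Y.Opens} (hV : IsAffineOpen V)
    [Nonempty V] : IsIntegrallyClosed Γ(Y, V) := by
  let (x : _) : Algebra Γ(Y, V) (Y.presheaf.stalk (hV.fromSpec x)) :=
    TopCat.Presheaf.algebra_section_stalk Y.presheaf _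
  have (P : Ideal Γ(Y, V)) [hP : P.IsPrime] : IsLocalization.AtPrime _ P :=
      hV.isLocalization_stalk' ⟨P, hP⟩ (hV.isoSpec.inv _).2
  exact IsIntegrallyClosed.of_isLocalization_maximal
    (fun P hP ↦ Y.presheaf.stalk (hV.fromSpec ⟨P, hP.isPrime⟩)) (fun P _ ↦ hN _)

open AlgebraicGeometry CategoryTheory in
lemma isFractionRing_stalk {Y : Scheme.{u}} [IsIntegral Y] {V : Y.Opens} (hV : IsAffineOpen V)
    [Nonempty V] (y : Y) (hy : y = genericPoint Y) (hyV : y ∈ V) :
    letI := (Y.presheaf.germ V y hyV).hom.toAlgebra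
    IsFractionRing Γ(Y, V) (Y.presheaf.stalk y) := by
  subst hy
  exact functionField_isFractionRing_of_isAffineOpen Y V hV

/-- Let Y' and Y be integral schemes, Y normal (every local ring of Y is integrally closed), and u : Y'
⟶ Y a finite morphism which is birational: u maps the generic point of Y' to the generic point of Y
and the stalk map of u at the generic point of Y', which is the induced homomorphism of function
fields, is an isomorphism. Then u is an isomorphism. -/
theorem result {Y' Y : Scheme.{u}} [IsIntegral Y'] [IsIntegral Y]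
    (hN : ∀ y : Y, IsIntegrallyClosed (Y.presheaf.stalk y)) (u : Y' ⟶ Y) [IsFinite u]
    (hgen : u (genericPoint Y') = genericPoint Y)
    (hbir : IsIso (u.stalkMap (genericPoint Y'))) : IsIso u := by
  rw [← MorphismProperty.isomorphisms.iff]
  let ι := {V : Y.affineOpens // Nonempty V.1}
  have hsup : ⨆ V : ι, V.1.1 = ⊤ := by
    rw [eq_top_iff]
    intro x _
    obtain ⟨W, hW, hxW, -⟩ := (TopologicalSpace.Opens.isBasis_iff_nbhd.mp Y.isBasis_affineOpens)
      (show x ∈ (⊤ : Y.Opens) from trivial)
    exact TopologicalSpace.Opens.mem_iSup.mpr ⟨⟨⟨W, hW⟩, ⟨⟨x, hxW⟩⟩⟩, hxW⟩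
  rw [IsZariskiLocalAtTarget.iff_of_iSup_eq_top (P := MorphismProperty.isomorphisms Scheme) _ hsup]
  rintro ⟨⟨V, hV⟩, hVne⟩
  change IsIso (u ∣_ V)
  rw [isIso_morphismRestrict_iff_isIso_app u hV, ConcreteCategory.isIso_iff_bijective]
  have hyV : u (genericPoint Y') ∈ V := by
    rw [hgen]
    exact ((genericPoint_spec Y).mem_open_set_iff V.isOpen).mpr (by simpa using hVne)
  let _ := (Y.presheaf.germ V _ hyV).hom.toAlgebra
  have hfr : IsFractionRing Γ(Y, V) (Y.presheaf.stalk (u (genericPoint Y'))) :=
    isFractionRing_stalk hV _ hgen hyV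
  have hic : IsIntegrallyClosed Γ(Y, V) := isIntegrallyClosed_of_stalks hN hV
  refine bijective_of_integral_birational (K := Y.presheaf.stalk (u (genericPoint Y')))
    (K' := Y'.presheaf.stalk (genericPoint Y')) (u.app V).hom
    (Y'.presheaf.germ (u ⁻¹ᵁ V) (genericPoint Y') hyV).hom (u.stalkMap (genericPoint Y')).hom
    (germ_injective_of_isIntegral Y' _ hyV) ?_ ?_ ?_
  · exact (ConcreteCategory.isIso_iff_bijective _).mp hbir
  · intro a
    have := Scheme.Hom.germ_stalkMap u V (genericPoint Y') hyV
    exact congr($(this) a)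
  · exact IsIntegralHom.isIntegral_app u V hV

end Groth.Agent.S4808
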