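import Groth.Statements.S9678
import Groth.Agent.Lib.LocalIsoSpread2

set_option autoImplicit false
universe u
open CategoryTheory CategoryTheory.Limits AlgebraicGeometry
open Mor

namespace Groth.Agent.S9678

section Top

variable {α : Type*} [TopologicalSpace α]

/-- The complement of the union of the irreducible components other than `closure {y}`. -/
def otherCompl (y : α) : Set α :=
  (⋃ Z ∈ {Z ∈ irreducibleComponents α | Z ≠ closure {y}}, Z)ᶜ

theorem isOpen_otherCompl (hfin : (irreducibleComponents α).Finite) (y : α) :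
    IsOpen (otherCompl y) := by
  rw [otherCompl, isOpen_compl_iff]
  exact (hfin.subset (fun _ h => h.1)).isClosed_biUnion
    (fun Z hZ => isClosed_of_mem_irreducibleComponents Z hZ.1)

theorem mem_otherCompl_iff {y a : α} :
    a ∈ otherCompl y ↔ ∀ Z ∈ irreducibleComponents α, a ∈ Z → Z = closure {y} := by
  simp only [otherCompl, Set.mem_compl_iff, Set.mem_iUnion, Set.mem_ofPred_eq, not_exists]
  constructor
  · intro h Z hZ haZ
    by_contra hne
    exact h Z ⟨hZ, hne⟩ haZ
  · rintro h Z ⟨hZ, hne⟩ haZ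
    exact hne (h Z hZ haZ)

theorem eq_of_mem_irreducibleComponents {y : α} (hy : closure {y} ∈ irreducibleComponents α)
    {Z : Set α} (hZ : Z ∈ irreducibleComponents α) (hyZ : y ∈ Z) : Z = closure {y} := by
  have hcl : closure {y} ⊆ Z :=
    (isClosed_of_mem_irreducibleComponents Z hZ).closure_subset_iff.2
      (Set.singleton_subset_iff.2 hyZ)
  exact (hy.eq_of_le hZ.1 hcl).symm

theorem self_mem_otherCompl {y : α} (hy : closure {y} ∈ irreducibleComponents α) :
    y ∈ otherCompl y :=
  mem_otherCompl_iff.2 fun _ hZ hyZ => eq_of_mem_irreducibleComponents hy hZ hyZ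

theorem specializes_of_mem_otherCompl {y a : α} (ha : a ∈ otherCompl y) : y ⤳ a := by
  rw [specializes_iff_mem_closure]
  rw [← mem_otherCompl_iff.1 ha _ (irreducibleComponent_mem_irreducibleComponents a)
    mem_irreducibleComponent]
  exact mem_irreducibleComponent

theorem dense_of_genericPoints_subset [QuasiSober α] {U : Set α}
    (h : ∀ x : α, closure {x} ∈ irreducibleComponents α → x ∈ U) : Dense U := by
  rw [dense_iff_closure_eq, ← Set.univ_subset_iff, ← genericPoints.closure]
  exact closure_mono fun x hx => h x hx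

theorem exists_generic_specializes [QuasiSober α] (a : α) :
    ∃ x : α, closure {x} ∈ irreducibleComponents α ∧ x ⤳ a := by
  let Z : irreducibleComponents α := ⟨_, irreducibleComponent_mem_irreducibleComponents a⟩
  refine ⟨(genericPoints.ofComponent Z).1, (genericPoints.ofComponent Z).2, ?_⟩
  rw [specializes_iff_mem_closure, (genericPoints.isGenericPoint_ofComponent Z).def]
  exact mem_irreducibleComponent

end Top

/-- A reduced scheme with finitely many irreducible components is germ-injective at the generic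
points of its irreducible components. -/
theorem isGermInjectiveAt_of_isReduced {Y : Scheme.{u}} [IsReduced Y]
    (hYfin : (irreducibleComponents ↥Y).Finite) (y : Y)
    (hy : closure {y} ∈ irreducibleComponents ↥Y) : Y.IsGermInjectiveAt y := by
  let C : Y.Opens := ⟨otherCompl y, isOpen_otherCompl hYfin y⟩
  have hyC : y ∈ C := self_mem_otherCompl hy
  obtain ⟨_, ⟨W, hW, rfl⟩, hyW, hWC⟩ := Y.isBasis_affineOpens.exists_subset_of_mem_open hyC C.2
  refine ⟨⟨W, hyW, hW, ?_⟩⟩
  rw [injective_iff_map_eq_zero]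
  intro s hs
  rw [← basicOpen_eq_bot_iff]
  by_contra hne
  obtain ⟨w, hw⟩ : (Y.basicOpen s : Set Y).Nonempty := by
    by_contra hemp
    exact hne ((TopologicalSpace.Opens.not_nonempty_iff_eq_bot _).1 hemp)
  have hwW : w ∈ W := Y.basicOpen_le s hw
  have hyw : y ⤳ w := specializes_of_mem_otherCompl (hWC hwW)
  have hys : y ∈ Y.basicOpen s := hyw.mem_open (Y.basicOpen s).2 hw
  rw [Y.mem_basicOpen s y hyW, hs] at hys
  exact not_isUnit_zero hys

/-- Local step: near the generic point of an irreducible component where the stalk map is an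
isomorphism, `f` is an open immersion. -/
theorem exists_isOpenImmersion_of_isIso_stalkMap {X Y : Scheme.{u}} (f : X ⟶ Y)
    (hYfin : (irreducibleComponents ↥Y).Finite) (x : X)
    (hy : closure {f.base x} ∈ irreducibleComponents ↥Y) (hiso : IsIso (f.stalkMap x))
    (hf : (LocallyOfFiniteType f ∧ IsReduced Y) ∨ LocallyOfFinitePresentation f) :
    ∃ U : X.Opens, x ∈ U ∧ IsOpenImmersion (U.ι ≫ f) := by
  have h : (𝟙 Y : Y ⟶ Y).stalkMap (f x) ≫ f.stalkMap x =
      Y.presheaf.stalkSpecializes
        (Inseparable.of_eq (rfl : f x = (𝟙 Y : Y ⟶ Y) (f x))).specializes ≫ f.stalkMap x := by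
    rw [Scheme.Hom.stalkMap_id]
    exact congrArg (· ≫ f.stalkMap x) (TopCat.Presheaf.stalkSpecializes_refl _ _).symm
  have key : ∃ (U : X.Opens) (_ : x ∈ U) (V : Y.Opens) (_ : f x ∈ V)
      (F : U.toScheme ⟶ V.toScheme), IsIso F ∧ F ≫ V.ι ≫ 𝟙 Y = U.ι ≫ f := by
    rcases hf with ⟨hlft, hred⟩ | hlfp
    · have := isGermInjectiveAt_of_isReduced hYfin (f x) hy
      have h' : f.stalkMap x ≫ inv (f.stalkMap x) =
          Y.presheaf.stalkSpecializes
            (Inseparable.of_eq (rfl : (𝟙 Y : Y ⟶ Y) (f x) = f x)).specializes ≫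
              (𝟙 Y : Y ⟶ Y).stalkMap (f x) := by
        rw [Scheme.Hom.stalkMap_id, TopCat.Presheaf.stalkSpecializes_refl]
        simp
      obtain ⟨V1, hyV1, g1, hg1, hg1S⟩ :=
        spread_out_of_isGermInjective (𝟙 Y) f (x := f x) (y := x) rfl (inv (f.stalkMap x)) h'
      obtain ⟨U, hxU, V, hyV, F, hF, -, hFS⟩ :=
        Groth.Agent.Lib.LocalIsoSpread.exists_iso_opens_of_spread f (𝟙 Y) (x := x) (y := f x)
          (f.stalkMap x) ⊤ (TopologicalSpace.Opens.mem_top x) ((⊤ : X.Opens).ι ≫ f)
          (by rw [Scheme.Opens.fromSpecStalkOfMem_ι_assoc, Scheme.SpecMap_stalkMap_fromSpecStalk])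
          (Category.comp_id _) V1 hyV1 g1 hg1 hg1S
      exact ⟨U, hxU, V, hyV, F, hF, hFS⟩
    · obtain ⟨U, hxU, V, hyV, F, hF, -, hFS⟩ :=
        Groth.Agent.Lib.LocalIsoSpread.exists_iso_opens f (𝟙 Y) (x := x) (y := f x) rfl
          (f.stalkMap x) h
      exact ⟨U, hxU, V, hyV, F, hF, hFS⟩
  obtain ⟨U, hxU, V, -, F, hF, hFS⟩ := key
  refine ⟨U, hxU, ?_⟩
  rw [← hFS]
  infer_instance

set_option backward.isDefEq.respectTransparency false in
theorem main {X Y : Scheme.{u}} (f : X ⟶ Y)
    (_hXfin : (irreducibleComponents ↥X).Finite) (hYfin : (irreducibleComponents ↥Y).Finite)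
    (hbij : Set.BijOn (fun x : X => f.base x) {x : X | closure {x} ∈ irreducibleComponents ↥X}
      {y : Y | closure {y} ∈ irreducibleComponents ↥Y})
    (hiso : ∀ x : X, closure {x} ∈ irreducibleComponents ↥X → IsIso (f.stalkMap x))
    (hf : (LocallyOfFiniteType f ∧ IsReduced Y) ∨ LocallyOfFinitePresentation f) :
    ∃ (U : X.Opens) (V : Y.Opens) (hUV : U ≤ f ⁻¹ᵁ V), Dense (U : Set ↥X) ∧ Dense (V : Set ↥Y) ∧
      IsIso (f.resLE V U hUV) := by
  classical
  have hloc : ∀ x : X, closure {x} ∈ irreducibleComponents ↥X →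
      ∃ U : X.Opens, x ∈ U ∧ IsOpenImmersion (U.ι ≫ f) := fun x hx =>
    exists_isOpenImmersion_of_isIso_stalkMap f hYfin x (hbij.mapsTo hx) (hiso x hx) hf
  choose! W hxW hW using hloc
  let C : X → Y.Opens := fun x => ⟨otherCompl (f x), isOpen_otherCompl hYfin (f x)⟩
  let W' : X → X.Opens := fun x => W x ⊓ f ⁻¹ᵁ C x
  have hW' : ∀ x, closure {x} ∈ irreducibleComponents ↥X → IsOpenImmersion ((W' x).ι ≫ f) := by
    intro x hx
    have := hW x hx
    have e : (W' x).ι ≫ f = X.homOfLE (inf_le_left : W' x ≤ W x) ≫ (W x).ι ≫ f := by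
      rw [Scheme.homOfLE_ι_assoc]
    rw [e]
    infer_instance
  have hxW' : ∀ x, closure {x} ∈ irreducibleComponents ↥X → x ∈ W' x := fun x hx =>
    ⟨hxW x hx, self_mem_otherCompl (hbij.mapsTo hx)⟩
  let U : X.Opens := ⨆ x : {x : X // closure {x} ∈ irreducibleComponents ↥X}, W' x.1
  have hgenU : ∀ x, closure {x} ∈ irreducibleComponents ↥X → x ∈ U := fun x hx =>
    TopologicalSpace.Opens.mem_iSup.2 ⟨⟨x, hx⟩, hxW' x hx⟩
  -- the key separation property
  have hsep : ∀ (x x' : X), closure {x} ∈ irreducibleComponents ↥X →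
      closure {x'} ∈ irreducibleComponents ↥X → ∀ a b : X, a ∈ W' x → b ∈ W' x' →
      f a = f b → x = x' := by
    intro x x' hx hx' a b ha hb hab
    obtain ⟨x₁, hx₁, hsp⟩ := exists_generic_specializes b
    have hsp' : f x₁ ⤳ f b := hsp.map f.continuous
    have hmem : f b ∈ closure {f x₁} := specializes_iff_mem_closure.1 hsp'
    have h1 : closure {f x₁} = closure {f x'} :=
      mem_otherCompl_iff.1 hb.2 _ (hbij.mapsTo hx₁) hmem
    have h2 : closure {f x₁} = closure {f x} :=
      mem_otherCompl_iff.1 ha.2 _ (hbij.mapsTo hx₁) (hab ▸ hmem)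
    have h3 : f x = f x' :=
      IsGenericPoint.eq (S := closure {f x}) rfl (h2.symm.trans h1).symm
    exact hbij.injOn hx hx' h3
  have hinj : Function.Injective (U.ι ≫ f) := by
    intro a b hab
    obtain ⟨x, ha⟩ := TopologicalSpace.Opens.mem_iSup.1 a.2
    obtain ⟨x', hb⟩ := TopologicalSpace.Opens.mem_iSup.1 b.2
    have hab' : f a.1 = f b.1 := hab
    obtain rfl : x = x' := Subtype.ext (hsep x.1 x'.1 x.2 x'.2 a.1 b.1 ha hb hab')
    have := hW' x.1 x.2
    have hinj' := ((W' x.1).ι ≫ f).isOpenEmbedding.injective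
    have : (⟨a.1, ha⟩ : W' x.1) = ⟨b.1, hb⟩ := hinj' hab'
    exact Subtype.ext (congrArg (fun z : W' x.1 => (z.1 : X)) this)
  have hopen : IsOpenImmersion (U.ι ≫ f) := by
    refine IsOpenImmersion.of_forall_source_exists _ hinj fun a => ?_
    obtain ⟨x, ha⟩ := TopologicalSpace.Opens.mem_iSup.1 a.2
    have hle : W' x.1 ≤ U := le_iSup (fun x : {x : X // closure {x} ∈ irreducibleComponents ↥X} =>
      W' x.1) x
    refine ⟨(W' x.1).toScheme, X.homOfLE hle, inferInstance, ?_, ?_⟩
    · rw [Scheme.opensRange_homOfLE]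
      exact ha
    · rw [Scheme.homOfLE_ι_assoc]
      exact hW' x.1 x.2
  refine ⟨U, (U.ι ≫ f).opensRange, fun a ha => ⟨⟨a, ha⟩, rfl⟩,
    dense_of_genericPoints_subset hgenU, dense_of_genericPoints_subset fun y hy => ?_, ?_⟩
  · obtain ⟨x, hx, rfl⟩ := hbij.surjOn hy
    exact ⟨⟨x, hgenU x hx⟩, rfl⟩
  · have : f.resLE (U.ι ≫ f).opensRange U (fun a ha => ⟨⟨a, ha⟩, rfl⟩) =
        (U.ι ≫ f).isoOpensRange.hom := by
      rw [← cancel_mono (Scheme.Opens.ι _), Scheme.Hom.resLE_comp_ι,
        Scheme.Hom.isoOpensRange_hom_ι]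
    rw [this]
    infer_instance


/-- Suppose X and Y have finitely many irreducible components and f : X ⟶ Y is birational, i.e. f
restricts to a bijection between the generic points of the irreducible components of X and those of
Y and induces an isomorphism of local rings at every generic point of an irreducible component of X.
Suppose moreover that Y is reduced and f is locally of finite type, or alternatively that f is
locally finitely presented. Then there are dense opens U ⊆ X and V ⊆ Y with f(U) ⊆ V such that the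
restriction U ⟶ V of f is an isomorphism. -/
theorem result {X Y : Scheme.{u}} (f : X ⟶ Y)
    (hXfin : (irreducibleComponents ↥X).Finite) (hYfin : (irreducibleComponents ↥Y).Finite)
    (hbij : Set.BijOn (fun x : X => f.base x) {x : X | closure {x} ∈ irreducibleComponents ↥X}
      {y : Y | closure {y} ∈ irreducibleComponents ↥Y})
    (hiso : ∀ x : X, closure {x} ∈ irreducibleComponents ↥X → IsIso (f.stalkMap x))
    (hf : (LocallyOfFiniteType f ∧ IsReduced Y) ∨ LocallyOfFinitePresentation f) :
    ∃ (U : X.Opens) (V : Y.Opens) (hUV : U ≤ f ⁻¹ᵁ V), Dense (U : Set ↥X) ∧ Dense (V : Set ↥Y) ∧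
      IsIso (f.resLE V U hUV) :=
  main f hXfin hYfin hbij hiso hf

end Groth.Agent.S9678
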