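import Groth.Statements.S9680
import Groth.Agent.Lib.LocalIsoSpread

set_option autoImplicit false
universe u
open CategoryTheory CategoryTheory.Limits AlgebraicGeometry
open Mor

namespace Groth.Agent.S9680

theorem stalkSpecializes_of_eq (S : Scheme.{u}) {s s' : S} (h : s = s') :
    S.presheaf.stalkSpecializes (Inseparable.of_eq h).specializes =
      eqToHom (congrArg S.presheaf.stalk h.symm) := by
  subst h
  simp

theorem dense_of_mem_open {X : Scheme.{u}} [IrreducibleSpace ↥X] (U : X.Opens) {x : X}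
    (hx : x ∈ U) : Dense (U : Set X) :=
  U.2.dense ⟨x, hx⟩

/-- The backward direction. -/
theorem birationalOver_of_stalk_iso {S X Y : Scheme.{u}}
    [IrreducibleSpace ↥X] [IrreducibleSpace ↥Y] (sX : X ⟶ S) (sY : Y ⟶ S)
    [LocallyOfFinitePresentation sX] [LocallyOfFinitePresentation sY]
    (hs : sX.base (genericPoint ↥X) = sY.base (genericPoint ↥Y))
    (e : X.presheaf.stalk (genericPoint ↥X) ≅ Y.presheaf.stalk (genericPoint ↥Y))
    (he : sX.stalkMap (genericPoint ↥X) ≫ e.hom =
          eqToHom (congrArg S.presheaf.stalk hs) ≫ sY.stalkMap (genericPoint ↥Y)) :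
    Scheme.BirationalOver sX sY := by
  have h : sY.stalkMap (genericPoint ↥Y) ≫ e.inv =
      S.presheaf.stalkSpecializes (Inseparable.of_eq hs).specializes ≫
        sX.stalkMap (genericPoint ↥X) := by
    rw [stalkSpecializes_of_eq S hs, Iso.comp_inv_eq, Category.assoc, he, ← Category.assoc,
      eqToHom_trans, eqToHom_refl, Category.id_comp]
  obtain ⟨U, hxU, V, hyV, f, hf, -, hfS⟩ :=
    Groth.Agent.Lib.LocalIsoSpread.exists_iso_opens sX sY hs e.inv h
  exact ⟨⟨U, dense_of_mem_open U hxU, V, dense_of_mem_open V hyV, asIso f⟩, hfS⟩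

theorem genericPoint_mem_of_dense {X : Scheme.{u}} [IrreducibleSpace ↥X] (U : X.Opens)
    (hU : Dense (U : Set X)) : genericPoint ↥X ∈ U := by
  show genericPoint ↥X ∈ (U : Set X)
  rw [(genericPoint_spec X).mem_open_set_iff U.isOpen, Set.univ_inter]
  exact hU.nonempty

set_option backward.isDefEq.respectTransparency false in
theorem apply_genericPoint_of_isOpenImmersion {X Y : Scheme.{u}} [IrreducibleSpace ↥X]
    [IrreducibleSpace ↥Y] (U : X.Opens) (h : genericPoint ↥X ∈ U) (g : U.toScheme ⟶ Y)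
    [IsOpenImmersion g] (hg : DenseRange g) : g ⟨genericPoint ↥X, h⟩ = genericPoint ↥Y := by
  apply ((genericPoint_spec Y).eq _).symm
  rw [isGenericPoint_def, ← dense_iff_closure_eq, dense_iff_inter_open]
  intro O hO hOne
  obtain ⟨_, hzO, z, rfl⟩ := hg.inter_open_nonempty O hO hOne
  -- the open `U.ι '' (g ⁻¹' O)` of `X` is nonempty hence contains the generic point
  have hopen : IsOpen (U.ι '' (g ⁻¹' O)) :=
    U.ι.isOpenEmbedding.isOpenMap _ (hO.preimage g.continuous)
  have hmem : genericPoint ↥X ∈ U.ι '' (g ⁻¹' O) := by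
    rw [(genericPoint_spec X).mem_open_set_iff hopen, Set.univ_inter]
    exact ⟨_, z, hzO, rfl⟩
  obtain ⟨w, hw, hwη⟩ := hmem
  have : w = ⟨genericPoint ↥X, h⟩ := Subtype.ext hwη
  rw [← this]
  exact ⟨g w, hw, rfl⟩

theorem stalkCongr_hom_of_eq (S : Scheme.{u}) {s s' : S} (h : s = s') :
    (S.presheaf.stalkCongr (Inseparable.of_eq h)).hom =
      eqToHom (congrArg S.presheaf.stalk h) := by
  subst h
  simp

theorem exists_stalk_iso_of_openImmersions {S X Y T : Scheme.{u}} (sX : X ⟶ S) (sY : Y ⟶ S)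
    (i : T ⟶ X) (g : T ⟶ Y) [IsOpenImmersion i] [IsOpenImmersion g]
    (hover : g ≫ sY = i ≫ sX) (t : T) (x : X) (y : Y) (hx : i t = x) (hy : g t = y) :
    ∃ (hs : sX x = sY y) (e : X.presheaf.stalk x ≅ Y.presheaf.stalk y),
      sX.stalkMap x ≫ e.hom = eqToHom (congrArg S.presheaf.stalk hs) ≫ sY.stalkMap y := by
  subst hx hy
  have hs : sX (i t) = sY (g t) := by
    rw [← Scheme.Hom.comp_apply, ← Scheme.Hom.comp_apply, hover]
  refine ⟨hs, asIso (i.stalkMap t) ≪≫ (asIso (g.stalkMap t)).symm, ?_⟩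
  simp only [Iso.trans_hom, asIso_hom, Iso.symm_hom, asIso_inv]
  rw [← Category.assoc, IsIso.comp_inv_eq, Category.assoc, ← Scheme.Hom.stalkMap_comp,
    ← Scheme.Hom.stalkMap_comp, Scheme.Hom.stalkMap_congr_hom (i ≫ sX) (g ≫ sY) hover.symm t,
    stalkCongr_hom_of_eq S (show (i ≫ sX) t = (g ≫ sY) t from hs)]
  rfl

theorem stalk_iso_of_birationalOver {S X Y : Scheme.{u}}
    [IrreducibleSpace ↥X] [IrreducibleSpace ↥Y] (sX : X ⟶ S) (sY : Y ⟶ S)
    (hb : Scheme.BirationalOver sX sY) :
    ∃ (hs : sX.base (genericPoint ↥X) = sY.base (genericPoint ↥Y))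
        (e : X.presheaf.stalk (genericPoint ↥X) ≅ Y.presheaf.stalk (genericPoint ↥Y)),
        sX.stalkMap (genericPoint ↥X) ≫ e.hom =
          eqToHom (congrArg S.presheaf.stalk hs) ≫ sY.stalkMap (genericPoint ↥Y) := by
  obtain ⟨pf, hover⟩ := hb
  have hηU := genericPoint_mem_of_dense pf.source pf.dense_source
  have := AlgebraicGeometry.Opens.isDominant_ι pf.dense_target
  have hgdense : DenseRange (pf.iso.hom ≫ pf.target.ι) :=
    (pf.iso.hom ≫ pf.target.ι).denseRange
  have hgη := apply_genericPoint_of_isOpenImmersion pf.source hηU (pf.iso.hom ≫ pf.target.ι) hgdense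
  exact exists_stalk_iso_of_openImmersions sX sY pf.source.ι (pf.iso.hom ≫ pf.target.ι)
    (by rw [Category.assoc]; exact hover) ⟨genericPoint ↥X, hηU⟩ _ _ rfl hgη

/-- Suppose X and Y are irreducible S-schemes, each locally of finite presentation over S, with generic
points x and y. Then X and Y are S-birational (they admit S-isomorphic nonempty opens) if and only
if x and y map to the same point s of S and the local rings of X at x and of Y at y are isomorphic
as algebras over the local ring of S at s. -/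
theorem result {S X Y : Scheme.{u}}
    [IrreducibleSpace ↥X] [IrreducibleSpace ↥Y] (sX : X ⟶ S) (sY : Y ⟶ S)
    [LocallyOfFinitePresentation sX] [LocallyOfFinitePresentation sY] :
    Scheme.BirationalOver sX sY ↔
      ∃ (hs : sX.base (genericPoint ↥X) = sY.base (genericPoint ↥Y))
        (e : X.presheaf.stalk (genericPoint ↥X) ≅ Y.presheaf.stalk (genericPoint ↥Y)),
        sX.stalkMap (genericPoint ↥X) ≫ e.hom =
          eqToHom (congrArg S.presheaf.stalk hs) ≫ sY.stalkMap (genericPoint ↥Y) := by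
  constructor
  · exact stalk_iso_of_birationalOver sX sY
  · rintro ⟨hs, e, he⟩
    exact birationalOver_of_stalk_iso sX sY hs e he

end Groth.Agent.S9680
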