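import Groth.Statements.S9681
import Groth.Agent.Lib.LocalIsoSpread2
import Groth.Agent.S9680

set_option autoImplicit false
universe u
open CategoryTheory CategoryTheory.Limits AlgebraicGeometry
open Mor

namespace Groth.Agent.S9681

/-- Naturality of the residue map with respect to equality of points, in `eqToHom` form. -/
theorem residue_eqToHom (S : Scheme.{u}) {s s' : S} (h : s = s') :
    S.residue s ≫ eqToHom (congrArg S.residueField h) =
      eqToHom (congrArg S.presheaf.stalk h) ≫ S.residue s' := by
  subst h
  simp

/-- The stalk of an integral scheme at its generic point is a field, so the residue map is an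
isomorphism. -/
theorem isIso_residue_genericPoint (X : Scheme.{u}) [IsIntegral X] :
    IsIso (X.residue (genericPoint ↥X)) := by
  rw [ConcreteCategory.isIso_iff_bijective]
  refine ⟨?_, X.residue_surjective _⟩
  let : Field (X.presheaf.stalk (genericPoint ↥X)) := inferInstanceAs (Field X.functionField)
  exact RingHom.injective (X.residue (genericPoint ↥X)).hom

/-- Translation between isomorphisms of stalks and of residue fields at generic points. -/
theorem stalk_iso_iff_residue_iso {S X Y : Scheme.{u}} [IsIntegral X] [IsIntegral Y]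
    (sX : X ⟶ S) (sY : Y ⟶ S)
    (hs : sX.base (genericPoint ↥X) = sY.base (genericPoint ↥Y)) :
    (∃ e : X.presheaf.stalk (genericPoint ↥X) ≅ Y.presheaf.stalk (genericPoint ↥Y),
        sX.stalkMap (genericPoint ↥X) ≫ e.hom =
          eqToHom (congrArg S.presheaf.stalk hs) ≫ sY.stalkMap (genericPoint ↥Y)) ↔
      ∃ e : X.residueField (genericPoint ↥X) ≅ Y.residueField (genericPoint ↥Y),
        sX.residueFieldMap (genericPoint ↥X) ≫ e.hom =
          eqToHom (congrArg S.residueField hs) ≫ sY.residueFieldMap (genericPoint ↥Y) := by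
  have hX := isIso_residue_genericPoint X
  have hY := isIso_residue_genericPoint Y
  constructor
  · rintro ⟨e, he⟩
    refine ⟨(asIso (X.residue (genericPoint ↥X))).symm ≪≫ e ≪≫ asIso (Y.residue (genericPoint ↥Y)),
      ?_⟩
    rw [← cancel_epi (S.residue (sX (genericPoint ↥X)))]
    simp only [Iso.trans_hom, Iso.symm_hom, asIso_inv, asIso_hom]
    rw [Scheme.residue_residueFieldMap_assoc, IsIso.hom_inv_id_assoc, reassoc_of% he,
      ← Scheme.residue_residueFieldMap, ← Category.assoc, ← Category.assoc, residue_eqToHom S hs]
  · rintro ⟨e, he⟩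
    refine ⟨asIso (X.residue (genericPoint ↥X)) ≪≫ e ≪≫ (asIso (Y.residue (genericPoint ↥Y))).symm,
      ?_⟩
    simp only [Iso.trans_hom, Iso.symm_hom, asIso_inv, asIso_hom]
    rw [← Scheme.residue_residueFieldMap_assoc, reassoc_of% he, ← Category.assoc,
      residue_eqToHom S hs, Category.assoc, Scheme.residue_residueFieldMap_assoc,
      IsIso.hom_inv_id, Category.comp_id]

/-- Suppose X and Y are integral S-schemes, each locally of finite type over S, with generic points x
and y. Then X and Y are S-birational (they admit S-isomorphic nonempty opens) if and only if x and y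
map to the same point s of S and the residue fields of x and y are isomorphic as extensions of the
residue field of s. -/
theorem result {S X Y : Scheme.{u}}
    [IsIntegral X] [IsIntegral Y] (sX : X ⟶ S) (sY : Y ⟶ S)
    [LocallyOfFiniteType sX] [LocallyOfFiniteType sY] :
    Scheme.BirationalOver sX sY ↔
      ∃ (hs : sX.base (genericPoint ↥X) = sY.base (genericPoint ↥Y))
        (e : X.residueField (genericPoint ↥X) ≅ Y.residueField (genericPoint ↥Y)),
        sX.residueFieldMap (genericPoint ↥X) ≫ e.hom =
          eqToHom (congrArg S.residueField hs) ≫ sY.residueFieldMap (genericPoint ↥Y) := by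
  constructor
  · intro hb
    obtain ⟨hs, e, he⟩ := Groth.Agent.S9680.stalk_iso_of_birationalOver sX sY hb
    exact ⟨hs, (stalk_iso_iff_residue_iso sX sY hs).1 ⟨e, he⟩⟩
  · rintro ⟨hs, e, he⟩
    obtain ⟨e', he'⟩ := (stalk_iso_iff_residue_iso sX sY hs).2 ⟨e, he⟩
    have h : sY.stalkMap (genericPoint ↥Y) ≫ e'.inv =
        S.presheaf.stalkSpecializes (Inseparable.of_eq hs).specializes ≫
          sX.stalkMap (genericPoint ↥X) := by
      rw [Groth.Agent.S9680.stalkSpecializes_of_eq S hs, Iso.comp_inv_eq, Category.assoc, he',
        ← Category.assoc, eqToHom_trans, eqToHom_refl, Category.id_comp]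
    obtain ⟨U, hxU, V, hyV, f, hf, -, hfS⟩ :=
      Groth.Agent.Lib.LocalIsoSpread.exists_iso_opens_of_isGermInjective sX sY hs e'.inv h
    exact ⟨⟨U, Groth.Agent.S9680.dense_of_mem_open U hxU, V,
      Groth.Agent.S9680.dense_of_mem_open V hyV, asIso f⟩, hfS⟩

end Groth.Agent.S9681
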