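import Groth.Statements.S5067
import Groth.Agent.S9678
import Groth.Agent.S9681
import Mathlib.AlgebraicGeometry.Morphisms.FlatMono
import Mathlib.AlgebraicGeometry.Morphisms.FormallyUnramified
import Mathlib.AlgebraicGeometry.PullbackCarrier

set_option autoImplicit false
open CategoryTheory AlgebraicGeometry
universe u
open Unram

namespace Groth.Agent.S5067

section Helpers

open CategoryTheory.Limits

/-- A separated morphism with open diagonal whose projections `X ×_Y X ⟶ X` are open, and which is
a monomorphism on a dense open subset, is a monomorphism. -/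
theorem mono_of_dense_open {X Y : Scheme.{u}} (f : X ⟶ Y) [IsSeparated f]
    [IsOpenImmersion (pullback.diagonal f)] [UniversallyOpen f] (W : X.Opens)
    (hW : Dense (W : Set X)) [Mono (W.ι ≫ f)] : Mono f := by
  rw [← pullback.isIso_diagonal_iff, isIso_iff_isOpenImmersion_and_surjective]
  refine ⟨inferInstance, ⟨?_⟩⟩
  have hclosed : IsClosed (Set.range (pullback.diagonal f)) :=
    (pullback.diagonal f).isClosedEmbedding.isClosed_range
  have hD : Dense ((pullback.fst f f) ⁻¹' (W : Set X) ∩ (pullback.snd f f) ⁻¹' (W : Set X)) := by
    have h1 : Dense ((pullback.fst f f) ⁻¹' (W : Set X)) :=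
      hW.preimage (pullback.fst f f).isOpenMap
    have h2 : Dense ((pullback.snd f f) ⁻¹' (W : Set X)) :=
      hW.preimage (pullback.snd f f).isOpenMap
    exact h1.inter_of_isOpen_left h2 (W.2.preimage (pullback.fst f f).continuous)
  have hsub : (pullback.fst f f) ⁻¹' (W : Set X) ∩ (pullback.snd f f) ⁻¹' (W : Set X) ⊆
      Set.range (pullback.diagonal f) := by
    have hr := Scheme.Pullback.range_map (W.ι ≫ f) (W.ι ≫ f) f f W.ι W.ι (𝟙 Y)
      (by simp) (by simp)
    rw [Scheme.Opens.range_ι] at hr
    rw [← hr]
    rintro _ ⟨w, rfl⟩
    obtain ⟨w₀, rfl⟩ :=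
      (ConcreteCategory.bijective_of_isIso (pullback.diagonal (W.ι ≫ f)).base).2 w
    refine ⟨W.ι w₀, ?_⟩
    have hcomm : W.ι ≫ pullback.diagonal f = pullback.diagonal (W.ι ≫ f) ≫
        pullback.map (W.ι ≫ f) (W.ι ≫ f) f f W.ι W.ι (𝟙 Y) (by simp) (by simp) := by
      apply pullback.hom_ext
      · rw [Category.assoc, Category.assoc, pullback.diagonal_fst, pullback.lift_fst,
          pullback.diagonal_fst_assoc, Category.comp_id]
      · rw [Category.assoc, Category.assoc, pullback.diagonal_snd, pullback.lift_snd,
          pullback.diagonal_snd_assoc, Category.comp_id]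
    rw [← Scheme.Hom.comp_apply, ← Scheme.Hom.comp_apply, hcomm]
  intro z
  have hz : z ∈ closure (Set.range (pullback.diagonal f)) := closure_mono hsub (hD z)
  rwa [hclosed.closure_eq] at hz

theorem main {X Y : Scheme.{u}} [IsIntegral X] [IsIntegral Y]
    (f : X ⟶ Y) [Etale f] [IsSeparated f] (hgen : f.base (genericPoint X) = genericPoint Y)
    (hbir : Function.Bijective (f.residueFieldMap (genericPoint X)).hom) : IsOpenImmersion f := by
  -- the stalk map at the generic point is an isomorphism
  have h1 : IsIso (X.residue (genericPoint X)) :=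
    Groth.Agent.S9681.isIso_residue_genericPoint X
  have h2 : IsIso (Y.residue (f (genericPoint X))) := by
    have : ∀ y : Y, y = genericPoint Y → IsIso (Y.residue y) := by
      rintro _ rfl
      exact Groth.Agent.S9681.isIso_residue_genericPoint Y
    exact this _ hgen
  have h3 : IsIso (f.residueFieldMap (genericPoint X)) :=
    (ConcreteCategory.isIso_iff_bijective _).2 hbir
  have hiso : IsIso (f.stalkMap (genericPoint X)) := by
    have e := Scheme.residue_residueFieldMap f (genericPoint X)
    have : f.stalkMap (genericPoint X) =
        (Y.residue (f (genericPoint X)) ≫ f.residueFieldMap (genericPoint X)) ≫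
          inv (X.residue (genericPoint X)) := by
      rw [e, Category.assoc, IsIso.hom_inv_id, Category.comp_id]
    rw [this]
    infer_instance
  have hYirr : irreducibleComponents ↥Y = {Set.univ} := irreducibleComponents_eq_singleton
  obtain ⟨W, hxW, hW⟩ := Groth.Agent.S9678.exists_isOpenImmersion_of_isIso_stalkMap f
    (by rw [hYirr]; exact Set.finite_singleton _) (genericPoint X)
    (by rw [hgen, hYirr, (genericPoint_spec Y).def]; rfl) hiso (Or.inr inferInstance)
  have hWd : Dense (W : Set X) := Groth.Agent.S9680.dense_of_mem_open W hxW
  have hmono : Mono f := mono_of_dense_open f W hWd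
  exact IsOpenImmersion.of_flat_of_mono f

end Helpers


/-- Let f : X ⟶ Y be an étale separated morphism of integral schemes which maps the generic point of X
to the generic point of Y and induces a bijection between the residue fields of the generic points
(f is birational). Then f is an open immersion. -/
theorem result {X Y : Scheme.{u}} [IsIntegral X] [IsIntegral Y]
    (f : X ⟶ Y) [Etale f] [IsSeparated f] (hgen : f.base (genericPoint X) = genericPoint Y)
    (hbir : Function.Bijective (f.residueFieldMap (genericPoint X)).hom) : IsOpenImmersion f :=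
  main f hgen hbir

end Groth.Agent.S5067
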