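import Groth.Statements.S4809
import Groth.Agent.S4808
import Groth.Agent.S5067
import Mathlib.AlgebraicGeometry.ZariskisMainTheorem
import Mathlib.AlgebraicGeometry.Morphisms.LocalIso
import Mathlib.AlgebraicGeometry.Morphisms.FlatMono

set_option autoImplicit false
universe u
open CategoryTheory AlgebraicGeometry
open Lim8

namespace Groth.Agent.S4809

section helpers
open CategoryTheory.Limits

lemma isIso_stalkMap_of_eq {X Y : Scheme.{u}} {f g : X ⟶ Y} (h : f = g) {x x' : X} (hx : x = x')
    (hf : IsIso (f.stalkMap x)) : IsIso (g.stalkMap x') := by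
  subst h hx; exact hf

/-- An integral morphism of integral schemes to a normal one, which is birational at a point
over the generic point, is an isomorphism. (Generalisation of S4808.) -/
theorem isIso_of_integral_birational {N V : Scheme.{u}} [IsIntegral N] [IsIntegral V]
    (hN : ∀ y : V, IsIntegrallyClosed (V.presheaf.stalk y)) (v : N ⟶ V) [IsIntegralHom v]
    (η : N) (hη : v η = genericPoint V) (hbir : IsIso (v.stalkMap η)) : IsIso v := by
  rw [← MorphismProperty.isomorphisms.iff]
  let ι := {W : V.affineOpens // Nonempty W.1}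
  have hsup : ⨆ W : ι, W.1.1 = ⊤ := by
    rw [eq_top_iff]
    intro x _
    obtain ⟨W, hW, hxW, -⟩ := (TopologicalSpace.Opens.isBasis_iff_nbhd.mp V.isBasis_affineOpens)
      (show x ∈ (⊤ : V.Opens) from trivial)
    exact TopologicalSpace.Opens.mem_iSup.mpr ⟨⟨⟨W, hW⟩, ⟨⟨x, hxW⟩⟩⟩, hxW⟩
  rw [IsZariskiLocalAtTarget.iff_of_iSup_eq_top (P := MorphismProperty.isomorphisms Scheme) _ hsup]
  rintro ⟨⟨W, hW⟩, hWne⟩
  change IsIso (v ∣_ W)
  rw [isIso_morphismRestrict_iff_isIso_app v hW, ConcreteCategory.isIso_iff_bijective]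
  have hyW : v η ∈ W := by
    rw [hη]
    exact ((genericPoint_spec V).mem_open_set_iff W.isOpen).mpr (by simpa using hWne)
  let _ := (V.presheaf.germ W _ hyW).hom.toAlgebra
  have hfr : IsFractionRing Γ(V, W) (V.presheaf.stalk (v η)) :=
    Groth.Agent.S4808.isFractionRing_stalk hW _ hη hyW
  have hic : IsIntegrallyClosed Γ(V, W) := Groth.Agent.S4808.isIntegrallyClosed_of_stalks hN hW
  refine Groth.Agent.S4808.bijective_of_integral_birational (K := V.presheaf.stalk (v η))
    (K' := N.presheaf.stalk η) (v.app W).hom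
    (N.presheaf.germ (v ⁻¹ᵁ W) η hyW).hom (v.stalkMap η).hom
    (germ_injective_of_isIntegral N _ hyW) ?_ ?_ ?_
  · exact (ConcreteCategory.isIso_iff_bijective _).mp hbir
  · intro a
    have := Scheme.Hom.germ_stalkMap v W η hyW
    exact congr($(this) a)
  · exact IsIntegralHom.isIntegral_app v W hW

/-- Normality passes to open subschemes. -/
lemma isIntegrallyClosed_stalk_opens {Y : Scheme.{u}}
    (hN : ∀ y : Y, IsIntegrallyClosed (Y.presheaf.stalk y)) (V : Y.Opens) (y : V.toScheme) :
    IsIntegrallyClosed (V.toScheme.presheaf.stalk y) := by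
  have := hN (V.ι y)
  exact IsIntegrallyClosed.of_equiv (asIso (V.ι.stalkMap y)).commRingCatIsoToRingEquiv

theorem isOpenImmersion_ι_comp {X Y : Scheme.{u}} [IsIntegral X] [IsIntegral Y]
    (hN : ∀ y : Y, IsIntegrallyClosed (Y.presheaf.stalk y)) (f : X ⟶ Y) [LocallyQuasiFinite f]
    [LocallyOfFiniteType f] (hgen : f (genericPoint X) = genericPoint Y)
    (hbir : IsIso (f.stalkMap (genericPoint X)))
    (U : X.Opens) (V : Y.Opens) (hU : IsAffineOpen U) (hV : IsAffineOpen V)
    (hUV : U ≤ f ⁻¹ᵁ V) (x : X) (hxU : x ∈ U) : IsOpenImmersion (U.ι ≫ f) := by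
  have hxV : f x ∈ V := hUV hxU
  have hUne : Nonempty U := ⟨⟨x, hxU⟩⟩
  have hVne : Nonempty V := ⟨⟨f x, hxV⟩⟩
  have : IsAffine U.toScheme := hU
  have : IsAffine V.toScheme := hV
  let g : U.toScheme ⟶ V.toScheme := f.resLE V U hUV
  have hg : g ≫ V.ι = U.ι ≫ f := Scheme.Hom.resLE_comp_ι f hUV
  -- the generic point
  have hgpU : genericPoint X ∈ U :=
    ((genericPoint_spec X).mem_open_set_iff U.isOpen).mpr ⟨x, trivial, hxU⟩
  let x₀ : U.toScheme := ⟨genericPoint X, hgpU⟩
  have hx₀ : U.ι x₀ = genericPoint X := rfl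
  have hgx₀ : g x₀ = genericPoint V.toScheme := by
    apply V.ι.isOpenEmbedding.injective
    rw [genericPoint_eq_of_isOpenImmersion V.ι, ← Scheme.Hom.comp_apply, hg,
      Scheme.Hom.comp_apply, hx₀, hgen]
  -- stalk map of g at x₀
  have h1 : IsIso ((U.ι ≫ f).stalkMap x₀) := by
    rw [Scheme.Hom.stalkMap_comp]
    have h0 : IsIso (f.stalkMap (U.ι x₀)) := isIso_stalkMap_of_eq rfl hx₀.symm hbir
    exact IsIso.comp_isIso' h0 inferInstance
  have h2 : IsIso ((g ≫ V.ι).stalkMap x₀) := isIso_stalkMap_of_eq hg.symm rfl h1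
  have h3 : IsIso (g.stalkMap x₀) := by
    rw [Scheme.Hom.stalkMap_comp] at h2
    exact @IsIso.of_isIso_comp_left _ _ _ _ _ (V.ι.stalkMap (g x₀)) (g.stalkMap x₀) inferInstance h2
  -- Zariski's main theorem
  have hNV := isIntegrallyClosed_stalk_opens hN V
  have h4 : IsIso ((g.toNormalization ≫ g.fromNormalization).stalkMap x₀) :=
    isIso_stalkMap_of_eq g.toNormalization_fromNormalization.symm rfl h3
  have h5 : IsIso (g.fromNormalization.stalkMap (g.toNormalization x₀)) := by
    rw [Scheme.Hom.stalkMap_comp] at h4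
    exact @IsIso.of_isIso_comp_right _ _ _ _ _ (g.fromNormalization.stalkMap (g.toNormalization x₀))
      (g.toNormalization.stalkMap x₀) inferInstance h4
  have h6 : g.fromNormalization (g.toNormalization x₀) = genericPoint V.toScheme := by
    rw [← Scheme.Hom.comp_apply, g.toNormalization_fromNormalization, hgx₀]
  have h7 : IsIso g.fromNormalization :=
    isIso_of_integral_birational hNV g.fromNormalization (g.toNormalization x₀) h6 h5
  have h8 : IsOpenImmersion g := by
    rw [← g.toNormalization_fromNormalization]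
    infer_instance
  rw [← hg]
  infer_instance

theorem isLocalIso_of_birational {X Y : Scheme.{u}} [IsIntegral X] [IsIntegral Y]
    (hN : ∀ y : Y, IsIntegrallyClosed (Y.presheaf.stalk y)) (f : X ⟶ Y) [LocallyQuasiFinite f]
    [LocallyOfFiniteType f] (hgen : f (genericPoint X) = genericPoint Y)
    (hbir : IsIso (f.stalkMap (genericPoint X))) : IsLocalIso f := by
  refine ⟨fun x => ?_⟩
  obtain ⟨_, ⟨V, hV, rfl⟩, hxV, -⟩ :=
    Y.isBasis_affineOpens.exists_subset_of_mem_open (Set.mem_univ (f x)) isOpen_univ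
  obtain ⟨_, ⟨U, hU, rfl⟩, hxU, hUV : U ≤ f ⁻¹ᵁ V⟩ :=
    X.isBasis_affineOpens.exists_subset_of_mem_open hxV (f ⁻¹ᵁ V).isOpen
  exact ⟨U, hxU, isOpenImmersion_ι_comp hN f hgen hbir U V hU hV hUV x hxU⟩

theorem main {X Y : Scheme.{u}} [IsIntegral X] [IsIntegral Y]
    (hN : ∀ y : Y, IsIntegrallyClosed (Y.presheaf.stalk y)) (f : X ⟶ Y) [LocallyQuasiFinite f]
    [LocallyOfFiniteType f] (hgen : f (genericPoint X) = genericPoint Y)
    (hbir : IsIso (f.stalkMap (genericPoint X))) :
    IsLocalIso f ∧ (IsSeparated f → IsOpenImmersion f) := by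
  have hloc : IsLocalIso f := isLocalIso_of_birational hN f hgen hbir
  refine ⟨hloc, fun hsep => ?_⟩
  have : Etale f := IsLocalIso.le_of_isZariskiLocalAtSource @Etale _ _ f hloc
  obtain ⟨W, hxW, hW⟩ := hloc.exists_isOpenImmersion (genericPoint X)
  have hWd : Dense (W : Set X) := Groth.Agent.S9680.dense_of_mem_open W hxW
  have hmono : Mono f := Groth.Agent.S5067.mono_of_dense_open f W hWd
  exact IsOpenImmersion.of_flat_of_mono f

end helpers

/-- Let Y be an integral normal scheme (every local ring integrally closed), X an integral scheme, and f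
: X ⟶ Y a locally quasi-finite morphism (locally of finite type with discrete fibres) which is
birational: f maps the generic point of X to that of Y and its stalk map at the generic point of X,
the induced homomorphism of function fields, is an isomorphism. Then f is a local isomorphism, and f
is an open immersion as soon as it is separated. -/
theorem result {X Y : Scheme.{u}} [IsIntegral X] [IsIntegral Y]
    (hN : ∀ y : Y, IsIntegrallyClosed (Y.presheaf.stalk y)) (f : X ⟶ Y) [LocallyQuasiFinite f]
    [LocallyOfFiniteType f] (hgen : f (genericPoint X) = genericPoint Y)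
    (hbir : IsIso (f.stalkMap (genericPoint X))) :
    IsLocalIso f ∧ (IsSeparated f → IsOpenImmersion f) :=
  main hN f hgen hbir

end Groth.Agent.S4809
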