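import Groth.Statements.S1585
import Groth.Agent.Lib.CurveNormFin85
import Groth.Agent.Lib.NormGenIso85
import Groth.Agent.Lib.NormalizationChar

set_option autoImplicit false
universe u
open CategoryTheory CategoryTheory.Limits AlgebraicGeometry
open Variety

namespace Groth.Agent.S1585

/-- Part (1): and (4), for an integral scheme locally of finite type over a field: the normalization
morphism ν (normalization of X in its function field) is finite, dominant and an isomorphism over a
nonempty open, and the normalization is an integral scheme all of whose local rings are integrally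
closed domains. (The quasi-compactness/quasi-separatedness binders on Spec K(X) → X always hold;
they are needed only to form Mathlib's relative normalization.) -/
theorem result (k : Type u) [Field k] (X : Scheme.{u}) [X.Over (Spec (CommRingCat.of k))] [IsIntegral X] [LocallyOfFiniteType (X ↘ (Spec (CommRingCat.of k)))]
    [QuasiCompact (X.fromSpecStalk (genericPoint X))] [QuasiSeparated (X.fromSpecStalk (genericPoint X))] :
    IsFinite (Curv2.normalizationι X) ∧ IsDominant (Curv2.normalizationι X) ∧
      (∃ V : X.Opens, (V : Set X).Nonempty ∧ IsIso (Curv2.normalizationι X ∣_ V)) ∧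
      IsIntegral (Curv2.normalization X) ∧ Pi1.IsNormalScheme (Curv2.normalization X) := by
  have hR : IsField (X.presheaf.stalk (genericPoint X)) :=
    Groth.Agent.Lib.NormField85.isField_stalk_of_eq_genericPoint rfl
  have hg : X.fromSpecStalk (genericPoint X) =
      Spec.map (𝟙 (X.presheaf.stalk (genericPoint X))) ≫ X.fromSpecStalk (genericPoint X) := by
    simp
  have hfin : IsFinite (Curv2.normalizationι X) := by
    unfold Curv2.normalizationι
    exact Groth.Agent.Lib.NormFieldFin85.isFinite_fromNormalization hR
      (𝟙 (X.presheaf.stalk (genericPoint X))) (X.fromSpecStalk (genericPoint X)) hg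
      (RingHom.Finite.id _)
      fun V hV _ L _ _ _ _ hfd ↦
        Groth.Agent.Lib.CurveNormFin85.finite_integralClosure_of_lft_field k
          (X ↘ (Spec (CommRingCat.of k))) V hV L hfd
  have hs : Surjective (Curv2.normalizationι X) :=
    ⟨Groth.Agent.Lib.NormalizationIntegral.surjective_fromNormalization X⟩
  refine ⟨hfin, inferInstance, ?_, inferInstance,
    (Groth.Agent.Lib.NormalizationChar.normalization_props X).1⟩
  exact Groth.Agent.Lib.NormGenIso85.exists_isIso_morphismRestrict X hfin

end Groth.Agent.S1585
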