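import Groth.Statements.S0854
import Groth.Agent.Lib.OpenShriek
import Groth.Agent.Lib.DerivedBaseChange

set_option autoImplicit false
universe u
open CategoryTheory
open CohTop

namespace Groth.Agent.S0854

section Helpers

open Limits Opposite TopologicalSpace Groth.Agent.Lib.OpenShriek

variable {X Y : TopCat.{u}} (f : X ⟶ Y) (V : Opens Y)

/-- the restriction of `f` over `V` -/
abbrev gV : TopCat.of ((Opens.map f).obj V) ⟶ TopCat.of V :=
  TopCat.ofHom ⟨(V : Set Y).restrictPreimage f, f.hom.continuous.restrictPreimage⟩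

lemma opens_eq (W : Opens (TopCat.of V)) :
    (jF ((Opens.map f).obj V)).obj ((Opens.map (gV f V)).obj W) =
      (Opens.map f).obj ((jF V).obj W) := by
  ext x
  constructor
  · rintro ⟨z, hz, rfl⟩
    exact ⟨_, hz, rfl⟩
  · rintro ⟨w, hw, hwx⟩
    have hx : x ∈ (Opens.map f).obj V := by
      change f x ∈ V
      rw [← hwx]
      exact w.2
    refine ⟨⟨x, hx⟩, ?_, rfl⟩
    change (gV f V) ⟨x, hx⟩ ∈ W
    have : (gV f V) ⟨x, hx⟩ = w := Subtype.ext hwx.symm
    rw [this]
    exact hw


/-- the presheaf level iso `(f_* F)|_V ≅ g_* (F|_{f⁻¹V})` -/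
noncomputable def compIsoApp (F : CohTop.Ab X) :
    ((CohTop.push f ⋙ CohTop.restrFunctor V).obj F) ≅
      ((CohTop.restrFunctor ((Opens.map f).obj V) ⋙ CohTop.push (gV f V)).obj F) :=
  (fullyFaithfulSheafToPresheaf _ _).preimageIso
    (NatIso.ofComponents (fun W => F.obj.mapIso (eqToIso (opens_eq f V W.unop)).op) (by
      intro W W' i
      change F.obj.map _ ≫ F.obj.map _ = F.obj.map _ ≫ F.obj.map _
      rw [← F.obj.map_comp, ← F.obj.map_comp]
      rfl))

/-- `(f_* -)|_V ≅ g_* (-|_{f⁻¹V})` -/
noncomputable def compIso :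
    CohTop.push f ⋙ CohTop.restrFunctor V ≅
      CohTop.restrFunctor ((Opens.map f).obj V) ⋙ CohTop.push (gV f V) :=
  NatIso.ofComponents (compIsoApp f V) (by
    intro F F' φ
    apply (sheafToPresheaf _ _).map_injective
    rw [Functor.map_comp, Functor.map_comp]
    have h1 : ∀ G : CohTop.Ab X, (sheafToPresheaf _ _).map (compIsoApp f V G).hom =
        (NatIso.ofComponents (fun W => G.obj.mapIso (eqToIso (opens_eq f V W.unop)).op) (by
          intro W W' i
          change G.obj.map _ ≫ G.obj.map _ = G.obj.map _ ≫ G.obj.map _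
          rw [← G.obj.map_comp, ← G.obj.map_comp]
          rfl) : ((CohTop.push f ⋙ CohTop.restrFunctor V).obj G).obj ≅
            ((CohTop.restrFunctor ((Opens.map f).obj V) ⋙ CohTop.push (gV f V)).obj G).obj).hom :=
      fun G => (fullyFaithfulSheafToPresheaf _ _).map_preimage _
    rw [h1, h1]
    apply NatTrans.ext
    funext W
    exact (φ.hom.naturality (eqToHom (opens_eq f V W.unop)).op).symm)

end Helpers


open TopologicalSpace in
/-- For abelian sheaves, one degree at a time: for a continuous map f : X -> Y, an abelian sheaf F on X,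
an open V of Y and g : f^{-1}(V) -> V the restriction of f, the restriction of R^p f_* F to V is
isomorphic to R^p g_* (F|_{f^{-1} V}). -/
theorem result {X Y : TopCat.{u}} (f : X ⟶ Y) (F : CohTop.Ab X)
    (V : Opens Y) (p : ℕ) :
    Nonempty (CohTop.restr ((CohTop.Rpush f p).obj F) V ≅
      (CohTop.Rpush (TopCat.ofHom ⟨(V : Set Y).restrictPreimage f, f.hom.continuous.restrictPreimage⟩ :
          TopCat.of ((Opens.map f).obj V) ⟶ TopCat.of V) p).obj
        (CohTop.restr F ((Opens.map f).obj V))) := by
  have : (CohTop.push (gV f V)).Additive := CohTop.instAdditiveAbPush _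
  exact ⟨Groth.Agent.Lib.DerivedBaseChange.rightDerivedBaseChangeIso (CohTop.push f)
    (CohTop.push (gV f V)) (CohTop.restrFunctor ((Opens.map f).obj V)) (CohTop.restrFunctor V)
    (Groth.Agent.Lib.OpenShriek.shriekAdj ((Opens.map f).obj V)) (compIso f V) F p⟩

end Groth.Agent.S0854
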