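import Groth.Statements.S0865
import Groth.Agent.S0864
import Groth.Agent.Lib.SiteCoh

set_option autoImplicit false
universe u
open CategoryTheory
open CohSite

namespace Groth.Agent.S0865

open Groth.Agent.Lib.SiteCoh

/-- If `H^(p+1)(u V, F) = 0` for all `V`, then `R^(p+1) u_* F = 0`. -/
theorem isZero_Rpush_of_acyclic {C D : Type u} [SmallCategory C] [SmallCategory D]
    (J : GrothendieckTopology C) (K : GrothendieckTopology D) (u : D ⥤ C) [u.IsContinuous K J]
    (F : Sheaf J AddCommGrpCat.{u}) (p : ℕ)
    (hF : ∀ V : D, Subsingleton (CohSite.HU F (p + 1) (u.obj V))) :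
    Limits.IsZero ((CohSite.Rpush J K u (p + 1)).obj F) := by
  let I : InjectiveResolution F := (inferInstance : HasInjectiveResolution F).out.some
  refine Limits.IsZero.of_iso ?_ (I.isoRightDerivedObj (CohSite.push J K u) (p + 1))
  change Limits.IsZero ((((CohSite.push J K u).mapHomologicalComplex _).obj I.cocomplex).homology
    (p + 1))
  rw [← HomologicalComplex.exactAt_iff_isZero_homology,
    HomologicalComplex.exactAt_iff' _ p (p + 1) (p + 2) (by simp) (by simp)]
  apply shortComplex_exact_of_sectionwise
  intro V s hs
  exact exists_section_lift I (u.obj V) p (hF V) s hs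

open CategoryTheory.Limits in
/-- Part (4) (for a morphism of topoi coming from a continuous functor of sites u : D -> C): if F is a
totally acyclic abelian sheaf on C then R^p u_* F = 0 for all p > 0, where u_* F is the sheaf V ↦
F(u(V)) and R^p u_* its right derived functors. -/
theorem result {C D : Type u} [SmallCategory C] [SmallCategory D]
    (J : GrothendieckTopology C) (K : GrothendieckTopology D) (u : D ⥤ C) [u.IsContinuous K J]
    (F : Sheaf J AddCommGrpCat.{u}) (hF : CohCx.IsTotallyAcyclic F) (p : ℕ) :
    IsZero ((CohSite.Rpush J K u (p + 1)).obj F) := by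
  exact isZero_Rpush_of_acyclic J K u F p
    (fun V => Groth.Agent.S0864.result F hF (u.obj V) p)

end Groth.Agent.S0865
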