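import Groth.Statements.S11319
import Groth.Agent.Lib.DeltaPostcomp
import Groth.Agent.Lib.ExtDelta
import Groth.Agent.Lib.DeltaIso
import Groth.Agent.Lib.DerivedLES
import Groth.Agent.Lib.ModAcyc
import Groth.Agent.Lib.CohLES
import Groth.Agent.Lib.AffMorAcyclic
import Groth.Agent.S0865

set_option autoImplicit false
universe u
open CategoryTheory AlgebraicGeometry
open Coherent

namespace Groth.Agent.S11319

open Groth.Agent.Lib.CohLES Groth.Agent.Lib.AffMorAcyclic in
/-- the delta-functor `M ↦ toAb (R^n f_* M)` -/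
noncomputable abbrev T1 {X Y : Scheme.{u}} (f : X ⟶ Y) [HasInjectiveResolutions X.Modules] :
    DeltaF.CohDeltaFunctor X.Modules (Sheaf (Opens.grothendieckTopology Y) AddCommGrpCat.{u}) ℕ :=
  Groth.Agent.Lib.DeltaPostcomp.postcomp
    (Groth.Agent.Lib.DerivedLES.derivedLES (Coh.push f)).toCohDeltaFunctor (toAbF Y)

open Groth.Agent.Lib.CohLES Groth.Agent.Lib.AffMorAcyclic in
/-- the delta-functor `M ↦ R^n f_* (toAb M)` -/
noncomputable abbrev T2 {X Y : Scheme.{u}} (f : X ⟶ Y) :
    DeltaF.CohDeltaFunctor X.Modules (Sheaf (Opens.grothendieckTopology Y) AddCommGrpCat.{u}) ℕ :=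
  Groth.Agent.Lib.ExtDelta.precomp (toAbF X)
    (Groth.Agent.Lib.DerivedLES.derivedLES (Coh.pushAb f)).toCohDeltaFunctor

open Groth.Agent.Lib.CohLES Groth.Agent.Lib.AffMorAcyclic in
theorem T1_eff {X Y : Scheme.{u}} (f : X ⟶ Y) [HasInjectiveResolutions X.Modules] :
    (T1 f).IsEffaceable := by
  intro n M
  let I := injectiveResolution M
  have hm : Mono (I.ι.f 0) := inferInstance
  refine ⟨I.cocomplex.X 0, I.ι.f 0, hm, ?_⟩
  change (toAbF Y).map (((Coh.push f).rightDerived (n + 1)).map (I.ι.f 0)) = 0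
  rw [(Functor.isZero_rightDerived_obj_injective_succ (Coh.push f) n (I.cocomplex.X 0)).eq_of_tgt
    (((Coh.push f).rightDerived (n + 1)).map (I.ι.f 0)) 0, Functor.map_zero]

open Groth.Agent.Lib.CohLES Groth.Agent.Lib.AffMorAcyclic in
theorem T2_eff {X Y : Scheme.{u}} (f : X ⟶ Y) [HasInjectiveResolutions X.Modules] :
    (T2 f).IsEffaceable := by
  intro n M
  let I := injectiveResolution M
  have hm : Mono (I.ι.f 0) := inferInstance
  refine ⟨I.cocomplex.X 0, I.ι.f 0, hm, ?_⟩
  have hz : Limits.IsZero ((Coh.RpushAb f (n + 1)).obj (Coh.toAb (I.cocomplex.X 0))) :=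
    Groth.Agent.S0865.result (Opens.grothendieckTopology X) (Opens.grothendieckTopology Y)
      (TopologicalSpace.Opens.map f.base) (Coh.toAb (I.cocomplex.X 0))
      (Groth.Agent.Lib.ModAcyc.isTotallyAcyclic_of_injective X.ringCatSheaf (I.cocomplex.X 0)) n
  exact hz.eq_of_tgt _ _

open Groth.Agent.Lib.CohLES Groth.Agent.Lib.AffMorAcyclic in
/-- degree zero comparison -/
noncomputable def e0 {X Y : Scheme.{u}} (f : X ⟶ Y) [HasInjectiveResolutions X.Modules] :
    (T1 f).F 0 ≅ (T2 f).F 0 :=
  Functor.isoWhiskerRight (Coh.push f).rightDerivedZeroIsoSelf (toAbF Y) ≪≫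
    (NatIso.ofComponents (fun M => Iso.refl _) (by intro M N φ; rfl) :
      Coh.push f ⋙ toAbF Y ≅ toAbF X ⋙ Coh.pushAb f) ≪≫
    Functor.isoWhiskerLeft (toAbF X) (Coh.pushAb f).rightDerivedZeroIsoSelf.symm

/-- Let f : X → Y be a morphism of schemes, M an O_X-module and n ≥ 0. Then the underlying abelian sheaf
of the n-th higher direct image R^n f_* M computed in the category of O-modules (the n-th right
derived functor of f_* : Mod(O_X) → Mod(O_Y), which needs the stated instance that Mod(O_X) has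
injective resolutions — it does) is isomorphic to the n-th higher direct image of the underlying
abelian sheaf of M (the right derived functor of f_* on abelian sheaves). (Stated for schemes; the
published statement is for ringed spaces. Existence of an isomorphism only.) -/
theorem result {X Y : Scheme.{u}} (f : X ⟶ Y)
    [HasInjectiveResolutions X.Modules] (M : X.Modules) (n : ℕ) :
    Nonempty (Coh.toAb ((Coh.Rpush f n).obj M) ≅ (Coh.RpushAb f n).obj (Coh.toAb M)) := by
  obtain ⟨i⟩ := Groth.Agent.Lib.DeltaIso.nonempty_natIso_of_isUniversal (T1 f) (T2 f)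
    (Groth.Agent.Lib.DeltaUniv.isUniversal_of_isEffaceable _ (T1_eff f))
    (Groth.Agent.Lib.DeltaUniv.isUniversal_of_isEffaceable _ (T2_eff f)) (e0 f) n
  exact ⟨i.app M⟩

end Groth.Agent.S11319
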