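import Groth.Statements.S9065
import Groth.Agent.Lib.RFTower31
import Groth.Agent.Lib.ModGen31
import Groth.Agent.Lib.DProd31
import Groth.Agent.Lib.LocGenRlim31
import Groth.Agent.S9064
import Groth.Agent.S9076
import Groth.Agent.S0484

set_option autoImplicit false
universe u
open CategoryTheory CategoryTheory.Limits Opposite
attribute [local instance] HasDerivedCategory.standard
open SiteCmp

namespace Groth.Agent.S9065

/-- Let f be a morphism from the ringed site (C, O_C) to the ringed site (D, O_D), A ⊂ Mod(O_C) and A' ⊂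
Mod(O_D) weak Serre subcategories and N an integer such that (1) C, O_C, A and (2) D, O_D, A' each
admit a set of objects covering everything, every member V of which has an integer d_V and a cofinal
system of coverings {V_i → V} with H^p(V_i, F) = 0 for F in the subcategory and p > d_V; (3) R^p f_*
F ∈ A' for p ≥ 0 and F ∈ A; (4) R^p f_* F = 0 for p > N and F ∈ A. Then for K in D_A(O_C): (a) Rf_*K
lies in D_{A'}(O_D), and (b) H^j(Rf_*K) → H^j(Rf_*(τ_{≥ -n}K)) is an isomorphism for j ≥ N - n.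
Stated for morphisms of ringed sites (the published statement is for ringed topoi); Rf_* is the
unbounded total derived direct image, under its existence binder, and R^p f_* the right derived
functors of f_*. -/
theorem result
    {C : Type u} [SmallCategory C] {J : GrothendieckTopology C} {O_C : Sheaf J CommRingCat.{u}}
    {D : Type u} [SmallCategory D] {K : GrothendieckTopology D} {O_D : Sheaf K CommRingCat.{u}}
    (f : ModSite.RMor O_C O_D) [HasInjectiveResolutions (ModSite.Mod O_C)] [SiteCmp.HasRpushD f]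
    (A : ObjectProperty (ModSite.Mod O_C)) [WSerre.IsWeakSerre A]
    (A' : ObjectProperty (ModSite.Mod O_D)) [WSerre.IsWeakSerre A']
    (B : Set C) (B' : Set D)
    (hB : ∀ U : C, ∃ (ι : Type u) (Y : ι → C) (g : ∀ i, Y i ⟶ U), Sieve.ofArrows Y g ∈ J U ∧ ∀ i, Y i ∈ B)
    (hA : ∀ V ∈ B, ∃ d : ℕ, ∀ T ∈ J V, ∃ (ι : Type u) (Y : ι → C) (g : ∀ i, Y i ⟶ V),
      (∀ i, T.arrows (g i)) ∧ Sieve.ofArrows Y g ∈ J V ∧
      ∀ (i : ι) (F : ModSite.Mod O_C), A F → ∀ k : ℕ, d < k → Subsingleton (ModSite.HU O_C F k (Y i)))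
    (hB' : ∀ U : D, ∃ (ι : Type u) (Y : ι → D) (g : ∀ i, Y i ⟶ U), Sieve.ofArrows Y g ∈ K U ∧ ∀ i, Y i ∈ B')
    (hA' : ∀ V ∈ B', ∃ d : ℕ, ∀ T ∈ K V, ∃ (ι : Type u) (Y : ι → D) (g : ∀ i, Y i ⟶ V),
      (∀ i, T.arrows (g i)) ∧ Sieve.ofArrows Y g ∈ K V ∧
      ∀ (i : ι) (F : ModSite.Mod O_D), A' F → ∀ k : ℕ, d < k → Subsingleton (ModSite.HU O_D F k (Y i)))
    (N : ℤ)
    (h3 : ∀ F : ModSite.Mod O_C, A F → ∀ p : ℕ, A' ((f.Rpush p).obj F))
    (h4 : ∀ F : ModSite.Mod O_C, A F → ∀ p : ℕ, N < (p : ℤ) → IsZero ((f.Rpush p).obj F))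
    (X : DerivedCategory (ModSite.Mod O_C)) (hX : WSerre.cohIn A X) :
    WSerre.cohIn A' ((SiteCmp.RpushD f).obj X) ∧
      ∀ (n : ℕ) (j : ℤ), N - (n : ℤ) ≤ j →
        IsIso ((DerivedCategory.homologyFunctor (ModSite.Mod O_D) j).map
          ((SiteCmp.RpushD f).map ((DerivedCategory.TStructure.t.truncGEπ (-(n : ℤ))).app X))) := by
  haveI := Groth.Agent.ModGen31.enoughInjectives O_C
  haveI := Groth.Agent.ModGen31.enoughInjectives O_D
  haveI : IsGrothendieckAbelian.{u} (ModSite.Mod O_C) :=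
    Groth.Agent.S0484.result J (ModSite.ringSh O_C)
  -- the vanishing hypothesis in the form used by the tower lemmas
  have hN : ∀ (q : ℤ) (p : ℕ), N < (p : ℤ) →
      IsZero ((f.push.rightDerived p).obj
        ((DerivedCategory.homologyFunctor (ModSite.Mod O_C) q).obj X)) :=
    fun q p hp => h4 _ (hX q) p hp
  -- `X = R lim τ_{≥ -n} X`
  haveI hP₂ : HasProduct (CohCx.truncTower X) :=
    Groth.Agent.DProd31.hasProduct_of_isGE _ (fun n : ℕ => -(n : ℤ))
      (fun n => (inferInstance :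
        ((DerivedCategory.TStructure.t.truncGE (-(n : ℤ))).obj X).IsGE (-(n : ℤ))))
  have hRlim : CohCx.IsRlimVia (CohCx.truncTower X) (CohCx.truncTowerMap X) X
      (CohCx.toTruncTower X) := by
    refine (Groth.Agent.ModGen31.gen O_C).isRlimVia_truncTower (Groth.Agent.ModGen31.hacyc O_C)
      X B hB (fun V hV => ?_)
    obtain ⟨d, hd⟩ := hA V hV
    refine ⟨fun _ => (d : ℤ), fun T hT => ?_⟩
    obtain ⟨ι, Y, g, h1, h2, h3'⟩ := hd T hT
    exact ⟨ι, Y, g, h1, h2, fun i m k hk => h3' i _ (hX (m - k)) k (by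
      have hk' : (d : ℤ) < k := hk
      exact_mod_cast hk')⟩
  -- the tower downstairs
  have hGE : ∀ n : ℕ, ((SiteCmp.RpushD f).obj (CohCx.truncTower X n)).IsGE (-(n : ℤ)) := fun n => by
    haveI : (CohCx.truncTower X n).IsGE (-(n : ℤ)) :=
      (inferInstance :
        ((DerivedCategory.TStructure.t.truncGE (-(n : ℤ))).obj X).IsGE (-(n : ℤ)))
    exact Groth.Agent.RFBdd31.isGE_RF_obj f.push (CohCx.truncTower X n) (-(n : ℤ))
  haveI hP₁ : HasProduct (fun n => (SiteCmp.RpushD f).obj (CohCx.truncTower X n)) :=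
    Groth.Agent.DProd31.hasProduct_of_isGE _ (fun n : ℕ => -(n : ℤ)) hGE
  have hRlim' := Groth.Agent.S9076.result f (CohCx.truncTower X) (CohCx.truncTowerMap X) X
    (CohCx.toTruncTower X) hRlim
  -- cohomology of the tower downstairs lies in `A'`
  have hK : ∀ n : ℕ, WSerre.cohInPlus A' ((SiteCmp.RpushD f).obj (CohCx.truncTower X n)) := by
    intro n
    refine ⟨fun q => ?_, ⟨-(n : ℤ), hGE n⟩⟩
    haveI : (CohCx.truncTower X n).IsGE (-(n : ℤ)) :=
      (inferInstance :
        ((DerivedCategory.TStructure.t.truncGE (-(n : ℤ))).obj X).IsGE (-(n : ℤ)))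
    exact Groth.Agent.RFBdd31.prop_homology_RF f.push A A' h3 (CohCx.truncTower X n) (-(n : ℤ))
      (Groth.Agent.RFBdd31.prop_homology_truncGE' A X hX (-(n : ℤ))) q
  -- the tower downstairs is eventually constant in each degree
  have hconst : ∀ j : ℤ, ∃ n₀ : ℕ, ∀ n, n₀ ≤ n →
      IsIso ((DerivedCategory.homologyFunctor (ModSite.Mod O_D) j).map
        ((SiteCmp.RpushD f).map (CohCx.truncTowerMap X n))) := by
    intro j
    refine ⟨(N - j).toNat, fun n hn => ?_⟩
    exact Groth.Agent.RFTower31.isIso_homology_RF_truncTowerMap f.push X N hN n j (by omega)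
  have hev : ∀ j : ℤ, ∃ n₀ : ℕ, ∀ n, n₀ ≤ n →
      IsIso ((DerivedCategory.homologyFunctor (ModSite.Mod O_D) j).map
        ((SiteCmp.RpushD f).map (CohCx.toTruncTower X n))) := fun j =>
    Groth.Agent.S9064.result O_D A' B' hB' hA'
      (fun n => (SiteCmp.RpushD f).obj (CohCx.truncTower X n))
      (fun n => (SiteCmp.RpushD f).map (CohCx.truncTowerMap X n)) hK hconst
      ((SiteCmp.RpushD f).obj X) (fun n => (SiteCmp.RpushD f).map (CohCx.toTruncTower X n))
      hRlim' j
  have hb : ∀ (n : ℕ) (j : ℤ), N - (n : ℤ) ≤ j →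
      IsIso ((DerivedCategory.homologyFunctor (ModSite.Mod O_D) j).map
        ((SiteCmp.RpushD f).map (CohCx.toTruncTower X n))) := fun n j hj =>
    Groth.Agent.RFTower31.isIso_homology_RF_toTruncTower f.push X N hN j (hev j) n hj
  refine ⟨fun j => ?_, hb⟩
  obtain ⟨n, hn⟩ : ∃ n : ℕ, N - (n : ℤ) ≤ j := ⟨(N - j).toNat, by omega⟩
  haveI := hb n j hn
  exact A'.prop_of_iso (asIso ((DerivedCategory.homologyFunctor (ModSite.Mod O_D) j).map
    ((SiteCmp.RpushD f).map (CohCx.toTruncTower X n)))).symm ((hK n).1 j)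

end Groth.Agent.S9065
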