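import Groth.Statements.S10277
import Groth.Agent.Lib.AlgSpBasic
import Groth.Agent.Lib.AlgSpPoints

set_option autoImplicit false
universe u
open CategoryTheory CategoryTheory.Limits AlgebraicGeometry
open AlgSp

namespace Groth.Agent.S10277

/-- A closed immersion of algebraic spaces is proper. -/
theorem result {S : Scheme.{u}} {X Y : AlgSp.Space S} (i : X ⟶ Y)
    (hi : AlgSp.RepWith @IsClosedImmersion i.hom) : AlgSp.IsProperMor i.hom := by
  have hX : ∀ ⦃T : Over S⦄ (c : (AlgSp.yon S).obj T ⟶ X.obj), AlgSp.Representable c :=
    fun T c => X.property.representable_from_yon c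
  have hm : Mono i.hom := Groth.Agent.Lib.AlgSpBasic.mono_of_repWith
    (P := @IsClosedImmersion) (fun _ _ g (hg : IsClosedImmersion g) => by
      change Mono g
      infer_instance) hi
  have hiso : IsIso (pullback.diagonal i.hom) := (pullback.isIso_diagonal_iff i.hom).mpr hm
  refine ⟨MorphismProperty.of_isIso (AlgSp.RepWith @IsClosedImmersion) (pullback.diagonal i.hom),
    ⟨?_, ?_⟩, ?_⟩
  · have hlft : AlgSp.RepWith @LocallyOfFiniteType i.hom :=
      Groth.Agent.Lib.AlgSpBasic.repWith_mono (fun _ _ g (hg : IsClosedImmersion g) => by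
        change LocallyOfFiniteType g
        infer_instance) hi
    refine Groth.Agent.Lib.AlgSpBasic.locP_of_repWith @LocallyOfFiniteType
      (fun _ _ _ l w hl hw => ?_) hX hlft
    have : Etale l := hl
    have : LocallyOfFiniteType w := hw
    exact (inferInstance : LocallyOfFiniteType (l ≫ w))
  · exact Groth.Agent.Lib.AlgSpBasic.isQuasiCompactMor_of_repWith
      (fun _ _ g (hg : IsClosedImmersion g) => by
        change QuasiCompact g
        infer_instance) hi
  · refine Groth.Agent.Lib.AlgSpPoints.univSp_of_repWith (P := @IsClosedImmersion)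
      (fun F G f h => ?_) hi
    change IsClosedMap (AlgSp.Points.map f)
    exact Groth.Agent.Lib.AlgSpPoints.isClosedMap_map_of_representable h.rep (fun T g => by
      have : IsClosedImmersion (h.rep.snd g).left := h.property_snd g
      exact (h.rep.snd g).left.isClosedEmbedding.isClosedMap)

end Groth.Agent.S10277
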