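import Groth.Statements.S9915
-- import your own Groth.Agent.* helpers here
import Groth.Agent.Lib.AlgSpFibre
import Groth.Agent.Lib.AlgSpQC

set_option autoImplicit false
universe u
open CategoryTheory CategoryTheory.Limits AlgebraicGeometry
open AlgSp

namespace Groth.Agent.S9915

/-- In a commutative triangle of algebraic spaces with f : X -> Y surjective, if X -> Z is quasi-compact
then Y -> Z is quasi-compact. -/
theorem result {S : Scheme.{u}} {X Y Z : AlgSp.Space S} (f : X ⟶ Y)
    (p : X ⟶ Z) (q : Y ⟶ Z) (comm : f ≫ q = p) (hf : AlgSp.IsSurjectiveMor f.hom)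
    (hp : AlgSp.IsQuasiCompactMor p.hom) : AlgSp.IsQuasiCompactMor q.hom := by
  intro T T' hT hTqc g fst snd sq
  have hT' : AlgSp.IsAlgSpace T' :=
    Groth.Agent.Lib.AlgSpFibre.isAlgSpace_of_isPullback Z.property.diag Y.property hT sq
  have sq' : IsPullback (pullback.fst f.hom fst) (pullback.snd f.hom fst) f.hom fst :=
    IsPullback.of_hasPullback _ _
  have hcomm : f.hom ≫ q.hom = p.hom := by rw [← comm]; rfl
  have big : IsPullback (pullback.fst f.hom fst) (pullback.snd f.hom fst ≫ snd) p.hom g := by
    rw [← hcomm]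
    exact sq'.paste_vert sq
  have hqc : AlgSp.IsQuasiCompactSp (pullback f.hom fst) := hp hT hTqc g _ _ big
  have h1 := Groth.Agent.Lib.AlgSpQC.compactSpace_points_of_isQuasiCompactSp hqc
  have hsurj : Function.Surjective (AlgSp.Points.map (pullback.snd f.hom fst)) :=
    Groth.Agent.Lib.AlgSpPoints.isSurjectiveMor_of_isPullback sq' hf
  have h2 : CompactSpace (AlgSp.Points T') :=
    Function.Surjective.compactSpace (AlgSp.Points.continuous_map _) hsurj
  exact Groth.Agent.Lib.AlgSpQC.isQuasiCompactSp_of_compactSpace_points hT'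

end Groth.Agent.S9915
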