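import Groth.Statements.S1685
import Groth.Agent.Lib.DepthRees
import Mathlib.RingTheory.KrullDimension.NonZeroDivisors
import Mathlib.RingTheory.Localization.Algebra
import Mathlib.AlgebraicGeometry.Morphisms.ClosedImmersion
import Mathlib.Tactic

set_option autoImplicit false
universe u
open CategoryTheory CategoryTheory.Limits AlgebraicGeometry TopologicalSpace
open SDiv

namespace Groth.Agent.S1685

section alg
open IsLocalRing RingTheory.Sequence Pointwise

variable {R : Type u} [CommRing R] [IsLocalRing R] [IsNoetherianRing R]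
  {R' : Type u} [CommRing R'] [IsLocalRing R'] (φ : R →+* R') (hφ : Function.Surjective φ)
  (f : R) (hf : f ∈ nonZeroDivisors R) (hfm : f ∈ maximalIdeal R)
  (hker : RingHom.ker φ = Ideal.span {f})

include hφ hker in
lemma dim_le (hf : f ∈ nonZeroDivisors R) : ringKrullDim R' + 1 ≤ ringKrullDim R := by
  have e : (R ⧸ Ideal.span {f}) ≃+* R' :=
    (Ideal.quotEquivOfEq hker.symm).trans (RingHom.quotientKerEquivOfSurjective hφ)
  rw [← ringKrullDim_eq_of_ringEquiv e]
  exact ringKrullDim_quotient_succ_le_of_nonZeroDivisor hf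

include hφ hker in
lemma depth_le (hf : f ∈ nonZeroDivisors R) (hfm : f ∈ maximalIdeal R) :
    LocCoh.depth R R ≤ LocCoh.depth R' R' + 1 := by
  letI : Algebra R R' := φ.toAlgebra
  have hreg : IsSMulRegular R f :=
    ((isRegular_iff_mem_nonZeroDivisors.2 hf).left).isSMulRegular
  rw [← Groth.Agent.Lib.DepthRees.depth_quotSMulTop_add_one R hfm hreg]
  gcongr
  -- change of rings
  have hkerlin : LinearMap.ker (Algebra.linearMap R R') = f • (⊤ : Submodule R R) := by
    ext a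
    rw [LinearMap.mem_ker, Algebra.linearMap_apply]
    change φ a = 0 ↔ _
    rw [← RingHom.mem_ker, hker, Ideal.mem_span_singleton', Submodule.mem_smul_pointwise_iff_exists]
    constructor
    · rintro ⟨c, rfl⟩; exact ⟨c, trivial, by simp [mul_comm]⟩
    · rintro ⟨c, -, rfl⟩; exact ⟨c, by simp [mul_comm]⟩
  let e : QuotSMulTop f R ≃ₗ[R] R' :=
    (Submodule.quotEquivOfEq _ _ hkerlin.symm).trans
      (LinearMap.quotKerEquivOfSurjective (Algebra.linearMap R R') hφ)
  haveI : Nontrivial (QuotSMulTop f R) := e.toEquiv.nontrivial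
  refine ENat.forall_natCast_le_iff_le.1 fun n hn => ?_
  rw [Groth.Agent.Lib.DepthRees.natCast_le_depth_iff] at hn ⊢
  obtain ⟨rs, hlen, hmem, hreg'⟩ := hn
  refine ⟨rs.map φ, by simp [hlen], ?_, ?_⟩
  · intro r hr
    obtain ⟨s, hs, rfl⟩ := List.mem_map.1 hr
    have hloc : IsLocalHom φ := hφ.isLocalHom φ
    exact (IsLocalRing.mem_maximalIdeal _).2 fun hu => (IsLocalRing.mem_maximalIdeal _).1 (hmem s hs) (hloc.map_nonunit s hu)
  · have := (isWeaklyRegular_map_algebraMap_iff R' R' rs).2 ((e.isWeaklyRegular_congr rs).1 hreg')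
    exact this

end alg

section loc

lemma loc_lemma {A A' : Type u} [CommRing A] [CommRing A'] (ψ : A →+* A')
    (hψ : Function.Surjective ψ) (f : A) (hf : f ∈ nonZeroDivisors A)
    (hker : RingHom.ker ψ = Ideal.span {f})
    (p' : Ideal A') [p'.IsPrime] (p : Ideal A) [p.IsPrime] (hp : p = p'.comap ψ)
    (R R' : Type u) [CommRing R] [CommRing R'] [Algebra A R] [Algebra A' R']
    [IsLocalization.AtPrime R p] [IsLocalization.AtPrime R' p'] [IsLocalRing R] :
    ∃ φ : R →+* R', Function.Surjective φ ∧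
      RingHom.ker φ = Ideal.span {algebraMap A R f} ∧
      algebraMap A R f ∈ nonZeroDivisors R ∧ algebraMap A R f ∈ IsLocalRing.maximalIdeal R := by
  have hT : Submonoid.map ψ p.primeCompl = p'.primeCompl := by
    ext y
    constructor
    · rintro ⟨x, hx, rfl⟩
      intro hy
      exact hx (by rw [hp]; exact hy)
    · intro hy
      obtain ⟨x, rfl⟩ := hψ y
      exact ⟨x, fun hx => hy (by rw [hp] at hx; exact hx), rfl⟩
  haveI : IsLocalization (Submonoid.map ψ p.primeCompl) R' := hT ▸ (inferInstance : IsLocalization p'.primeCompl R')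
  refine ⟨IsLocalization.map R' ψ (p.primeCompl.le_comap_map), ?_, ?_, ?_, ?_⟩
  · exact IsLocalization.map_surjective_of_surjective p.primeCompl R R' hψ
  · have := IsLocalization.ker_map (M := p.primeCompl) (S := R) R' ψ (T := Submonoid.map ψ p.primeCompl) rfl
    rw [this, hker, Ideal.map_span, Set.image_singleton]
  · exact IsLocalization.map_nonZeroDivisors_le p.primeCompl R (Submonoid.mem_map_of_mem _ hf)
  · have hfp : f ∈ p := by
      have h0 : ψ f = 0 := by
        rw [← RingHom.mem_ker, hker]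
        exact Ideal.mem_span_singleton_self f
      rw [hp, Ideal.mem_comap, h0]
      exact zero_mem _
    rw [IsLocalRing.mem_maximalIdeal, mem_nonunits_iff, IsLocalization.AtPrime.isUnit_to_map_iff R p]
    exact fun h => h hfp

end loc


lemma arith (k : ℕ) (dR dR' : WithBot ℕ∞) (a a' : ℕ∞) (hd : dR' + 1 ≤ dR) (ha : a ≤ a' + 1)
    (hnn : dR' ≠ ⊥)
    (h : min (k : WithBot ℕ∞) dR ≤ (a : WithBot ℕ∞)) :
    min ((k - 1 : ℕ) : WithBot ℕ∞) dR' ≤ (a' : WithBot ℕ∞) := by
  obtain ⟨e, rfl⟩ := WithBot.ne_bot_iff_exists.1 hnn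
  have hdR : dR ≠ ⊥ := by
    rintro rfl
    have : ((e + 1 : ℕ∞) : WithBot ℕ∞) ≤ ⊥ := by exact_mod_cast hd
    exact WithBot.coe_ne_bot (le_bot_iff.1 this)
  obtain ⟨e2, rfl⟩ := WithBot.ne_bot_iff_exists.1 hdR
  have hd' : e + 1 ≤ e2 := by exact_mod_cast hd
  have h' : min (k : ℕ∞) e2 ≤ a := by exact_mod_cast h
  have goal : min ((k - 1 : ℕ) : ℕ∞) e ≤ a' := by
    rcases Nat.eq_zero_or_pos k with rfl | hk
    · simp
    · obtain ⟨j, rfl⟩ : ∃ j, k = j + 1 := ⟨k - 1, by omega⟩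
      simp only [Nat.add_sub_cancel]
      have h1 : min (j : ℕ∞) e + 1 ≤ a' + 1 := by
        calc min (j : ℕ∞) e + 1 = min ((j : ℕ∞) + 1) (e + 1) := (min_add_add_right _ _ _).symm
          _ ≤ min (((j + 1 : ℕ)) : ℕ∞) e2 := by
              push_cast
              exact min_le_min le_rfl hd'
          _ ≤ a := h'
          _ ≤ a' + 1 := ha
      exact (ENat.add_le_add_iff_right ENat.one_ne_top).1 h1
  have hc : ((k - 1 : ℕ) : WithBot ℕ∞) = (((k - 1 : ℕ) : ℕ∞) : WithBot ℕ∞) := rfl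
  rw [hc, ← WithBot.coe_min, WithBot.coe_le_coe]
  exact goal


/-- Let X be a locally Noetherian scheme all of whose local rings satisfy Serre's condition (S_k), and
let D be the closed subscheme of an effective Cartier divisor. Then all local rings of D satisfy
(S_{k-1}). -/
theorem result (X : Scheme.{u}) [IsLocallyNoetherian X] (k : ℕ)
    (hX : ∀ x : ↥X, min (k : WithBot ℕ∞) (ringKrullDim (X.presheaf.stalk x)) ≤
      ((LocCoh.depth (X.presheaf.stalk x) (X.presheaf.stalk x) : ℕ∞) : WithBot ℕ∞))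
    (𝓘 : X.IdealSheafData) (h𝓘 : BlowUp.IsEffCartierIdeal 𝓘) (d : ↥𝓘.subscheme) :
    min ((k - 1 : ℕ) : WithBot ℕ∞) (ringKrullDim (𝓘.subscheme.presheaf.stalk d)) ≤
      ((LocCoh.depth (𝓘.subscheme.presheaf.stalk d) (𝓘.subscheme.presheaf.stalk d) : ℕ∞) : WithBot ℕ∞) := by
  obtain ⟨U, hxU, f, hf, hIf⟩ := h𝓘 (𝓘.subschemeι d)
  have hV : IsAffineOpen (𝓘.subschemeι ⁻¹ᵁ U.1) := U.2.preimage 𝓘.subschemeι
  have hdV : d ∈ 𝓘.subschemeι ⁻¹ᵁ U.1 := hxU
  letI := X.presheaf.algebra_section_stalk ⟨𝓘.subschemeι d, hxU⟩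
  haveI := U.2.isLocalization_stalk ⟨𝓘.subschemeι d, hxU⟩
  letI := 𝓘.subscheme.presheaf.algebra_section_stalk ⟨d, hdV⟩
  haveI := hV.isLocalization_stalk ⟨d, hdV⟩
  have hcomap := IsAffineOpen.comap_primeIdealOf_appLE (f := 𝓘.subschemeι) U.1 U.2
    (𝓘.subschemeι ⁻¹ᵁ U.1) hV le_rfl hdV
  rw [Scheme.Hom.appLE_eq_app] at hcomap
  have hcomap' := congrArg PrimeSpectrum.asIdeal hcomap
  obtain ⟨φ, hφs, hφk, hφn, hφm⟩ := loc_lemma (𝓘.subschemeι.app U.1).hom
    (𝓘.subschemeι_app_surjective U) f hf (by rw [𝓘.ker_subschemeι_app U, hIf])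
    (hV.primeIdealOf ⟨d, hdV⟩).asIdeal (U.2.primeIdealOf ⟨𝓘.subschemeι d, hxU⟩).asIdeal
    hcomap'.symm (X.presheaf.stalk (𝓘.subschemeι d)) (𝓘.subscheme.presheaf.stalk d)
  have h1 := dim_le φ hφs _ hφk hφn
  have h2 := depth_le φ hφs _ hφk hφn hφm
  refine arith k _ _ _ _ h1 h2 ?_ (hX (𝓘.subschemeι d))
  exact ne_of_gt (lt_of_lt_of_le (WithBot.bot_lt_coe 0) ringKrullDim_nonneg_of_nontrivial)

end Groth.Agent.S1685
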