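import Groth.Statements.S10262
import Groth.Agent.Lib.AlgSpUnram

set_option autoImplicit false
universe u
open CategoryTheory CategoryTheory.Limits AlgebraicGeometry
open AlgSp

namespace Groth.Agent.S10262

/-- (1) an unramified morphism of algebraic spaces has diagonal an open immersion; (2) a morphism
locally of finite type whose diagonal is an open immersion is unramified. -/
theorem result {S : Scheme.{u}} {X Y : AlgSp.Space S} (f : X ⟶ Y) :
    (AlgSp.LocP (@LocallyOfFiniteType ⊓ @FormallyUnramified) f.hom →
      AlgSp.RepWith @IsOpenImmersion (pullback.diagonal f.hom)) ∧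
    (AlgSp.LocP @LocallyOfFiniteType f.hom → AlgSp.RepWith @IsOpenImmersion (pullback.diagonal f.hom) →
      AlgSp.LocP (@LocallyOfFiniteType ⊓ @FormallyUnramified) f.hom) := by
  have hOI : (MorphismProperty.monomorphisms Scheme.{u} ⊓ @Etale : MorphismProperty Scheme.{u}) ≤
      @IsOpenImmersion := by
    rintro A B g ⟨hm, he⟩
    have : Mono g := hm
    have : Etale g := he
    exact IsOpenImmersion.of_flat_of_mono g
  constructor
  · intro hf
    have hΔ : Representable (pullback.diagonal f.hom) :=
      Groth.Agent.Lib.AlgSpBasic.representable_diagonal X.property.diag f.hom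
    obtain ⟨U, p, hp, hps⟩ := X.property.atlas
    have hpb : Representable (p ≫ f.hom) := Y.property.representable_from_yon _
    have hlu : RepWith (@LocallyOfFiniteType ⊓ @FormallyUnramified) (p ≫ f.hom) :=
      Groth.Agent.Lib.AlgSpLocP.repWith_of_locP
        Groth.Agent.Lib.AlgSpLocP.etLocalClass_lft_unramified Y.property hpb
        (Groth.Agent.Lib.AlgSpLocP.locP_comp_of_etale _ p hp f.hom hf)
    have hEt : RepWith @Etale (pullback.diagonal f.hom) := by
      refine Groth.Agent.Lib.AlgSpBasic.repWith_diagonal_of_atlas @Etale f.hom hΔ p hp hps hpb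
        (fun ρ h => ?_)
      have h1 : Etale (hp.rep.snd p).left := hp.property_snd p
      have hg := hlu.property_snd (p ≫ f.hom)
      have h2 : ρ.left ≫ (hpb.snd (p ≫ f.hom)).left = (hp.rep.snd p).left := by
        rw [← Over.comp_left, h]
      have h3 : Etale (ρ.left ≫ (hpb.snd (p ≫ f.hom)).left) := by rw [h2]; exact h1
      have h4 : LocallyOfFiniteType (hpb.snd (p ≫ f.hom)).left := hg.1
      have h5 : FormallyUnramified (hpb.snd (p ≫ f.hom)).left := hg.2
      exact Etale.of_comp ρ.left (hpb.snd (p ≫ f.hom)).left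
    have hMono : RepWith (MorphismProperty.monomorphisms Scheme.{u}) (pullback.diagonal f.hom) :=
      Groth.Agent.Lib.AlgSpBasic.repWith_mono_of_mono hΔ
    exact Groth.Agent.Lib.AlgSpBasic.repWith_mono hOI
      ((Groth.Agent.Lib.AlgSpBasic.repWith_inf_iff _ _ _).2 ⟨hMono, hEt⟩)
  · intro hlft hΔ
    rw [Groth.Agent.Lib.AlgSpSrcCover.locP_inf_iff]
    refine ⟨hlft, ?_⟩
    intro U V a b h ha hb comm
    have hΔa : RepWith @IsOpenImmersion (pullback.diagonal a) := by
      have hra : Representable (pullback.diagonal a) :=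
        Groth.Agent.Lib.AlgSpBasic.representable_diagonal (IsAlgSpace.yon_obj U).diag a
      exact Groth.Agent.Lib.AlgSpBasic.repWith_mono hOI
        ((Groth.Agent.Lib.AlgSpBasic.repWith_inf_iff _ _ _).2
          ⟨Groth.Agent.Lib.AlgSpBasic.repWith_mono_of_mono hra,
            Groth.Agent.Lib.AlgSpBasic.repWith_etale_diagonal
              (fun _ c => X.property.representable_from_yon c) a ha⟩)
    have hΔaf : RepWith @IsOpenImmersion (pullback.diagonal (a ≫ f.hom)) :=
      MorphismProperty.comp_mem (W := (RepWith (S := S) @IsOpenImmersion).diagonal) a f.hom hΔa hΔ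
    have key : ∀ {w w' : (yon S).obj U ⟶ Y.obj}, w = w' →
        RepWith @IsOpenImmersion (pullback.diagonal w) →
        RepWith @IsOpenImmersion (pullback.diagonal w') := by
      rintro w _ rfl hw; exact hw
    have hΔhb := key comm hΔaf
    rw [pullback.diagonal_comp] at hΔhb
    have h1 : RepWith @IsOpenImmersion (pullback.diagonal ((yon S).map h)) :=
      Groth.Agent.Lib.AlgSpBasic.repWith_of_comp_mono _ _ _ hΔhb
    have h2 : IsOpenImmersion (pullback.diagonal h.left) :=
      (Groth.Agent.Lib.AlgSpUnram.repWith_diagonal_yon_map_iff _ h).1 h1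
    infer_instance

end Groth.Agent.S10262
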