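import Groth.Statements.S0392
import Groth.Agent.S0391

set_option autoImplicit false
universe u
open FlatMor

namespace Groth.Agent.S0392

open TensorProduct in
/-- Fibrewise criterion of flatness, Noetherian local form: for local homomorphisms R → S → S' of
Noetherian local rings and a nonzero finite S'-module M that is flat over R and whose reduction
modulo the maximal ideal of R is flat over the corresponding fibre ring of S, the ring S is flat
over R and M is flat over S. -/
theorem result {R S S' M : Type u} [CommRing R] [CommRing S] [CommRing S'] [IsLocalRing R] [IsLocalRing S] [IsLocalRing S']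
    [IsNoetherianRing R] [IsNoetherianRing S] [IsNoetherianRing S'] [Algebra R S] [Algebra S S'] [Algebra R S'] [IsScalarTower R S S']
    [IsLocalHom (algebraMap R S)] [IsLocalHom (algebraMap S S')]
    [AddCommGroup M] [Module S' M] [Module S M] [Module R M] [IsScalarTower S S' M] [IsScalarTower R S M]
    [Module.Finite S' M] [Nontrivial M] [Module.Flat R M]
    (h : Module.Flat (S ⧸ ((IsLocalRing.maximalIdeal R).map (algebraMap R S))) ((S ⧸ ((IsLocalRing.maximalIdeal R).map (algebraMap R S))) ⊗[S] M)) :
    Module.Flat R S ∧ Module.Flat S M := by
  have hJ : (IsLocalRing.maximalIdeal R).map (algebraMap R S) ≠ ⊤ :=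
    (IsLocalRing.map_maximalIdeal_lt_top (algebraMap R S)).ne
  have hflat : Module.Flat S M :=
    Groth.Agent.S0391.result (R := S) (S := S') _ hJ
      (Groth.Agent.Lib.FlatCrit.rTensor_map_injective (IsLocalRing.maximalIdeal R)
        (Module.Flat.rTensor_preserves_injective_linearMap _ (Submodule.subtype_injective _))) h
  refine ⟨?_, hflat⟩
  have hff : Module.FaithfullyFlat S M := by
    refine ⟨?_⟩
    intro m hm htop
    have hm' : m = IsLocalRing.maximalIdeal S := IsLocalRing.eq_maximalIdeal hm
    subst hm'
    -- then the maximal ideal of S' times M is M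
    have h1 : (⊤ : Submodule S' M) ≤ IsLocalRing.maximalIdeal S' • (⊤ : Submodule S' M) := by
      intro x _
      have hx : x ∈ IsLocalRing.maximalIdeal S • (⊤ : Submodule S M) := by rw [htop]; trivial
      refine Submodule.smul_induction_on hx ?_ ?_
      · intro a ha y _
        rw [← algebraMap_smul S' a y]
        refine Submodule.smul_mem_smul ?_ trivial
        exact IsLocalRing.map_maximalIdeal_le (algebraMap S S') (Ideal.mem_map_of_mem _ ha)
      · intro a b ha hb
        exact Submodule.add_mem _ ha hb
    have h2 := Submodule.eq_bot_of_le_smul_of_le_jacobson_bot (IsLocalRing.maximalIdeal S')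
      (⊤ : Submodule S' M) Module.Finite.fg_top h1
      (IsLocalRing.maximalIdeal_le_jacobson ⊥)
    have h3 : Subsingleton M := by
      rw [← Submodule.subsingleton_iff S', ← subsingleton_iff_bot_eq_top]
      exact h2.symm
    exact not_subsingleton M h3
  exact Groth.Agent.Lib.FlatCrit.flat_of_faithfullyFlat_of_flat (R := R) S (N := M)

end Groth.Agent.S0392
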