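import Groth.Statements.S10286
-- import your own Groth.Agent.* helpers here

set_option autoImplicit false
universe u
open CategoryTheory CategoryTheory.Limits AlgebraicGeometry
open AlgSp

namespace Groth.Agent.S10286

variable {S : Scheme.{u}}

theorem uniq_baseChange {F G H F' : AlgSp.Sp S} (f : F ⟶ G) (g : H ⟶ G) (fst : F' ⟶ F)
    (f' : F' ⟶ H) (pb : IsPullback fst f' f g) (hf : AlgSp.UniqVC f) : AlgSp.UniqVC f' := by
  intro sq l l' h1 h2 h1' h2'
  let sqf : AlgSp.ValSq f :=
    { A := sq.A, K := sq.K, str := sq.str, top := sq.top ≫ fst, bot := sq.bot ≫ g,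
      comm := by
        rw [Category.assoc, pb.w, ← Category.assoc, sq.comm, Category.assoc] }
  have e1 : l ≫ fst = l' ≫ fst := by
    apply hf sqf (l ≫ fst) (l' ≫ fst)
    · rw [← Category.assoc]; exact congrArg (· ≫ fst) h1
    · rw [Category.assoc, pb.w, ← Category.assoc]; exact congrArg (· ≫ g) h2
    · rw [← Category.assoc]; exact congrArg (· ≫ fst) h1'
    · rw [Category.assoc, pb.w, ← Category.assoc]; exact congrArg (· ≫ g) h2'
  exact pb.hom_ext e1 (h2.trans h2'.symm)

theorem exist_baseChange {F G H F' : AlgSp.Sp S} (f : F ⟶ G) (g : H ⟶ G) (fst : F' ⟶ F)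
    (f' : F' ⟶ H) (pb : IsPullback fst f' f g) (hf : AlgSp.ExistVC f) : AlgSp.ExistVC f' := by
  intro sq
  let sqf : AlgSp.ValSq f :=
    { A := sq.A, K := sq.K, str := sq.str, top := sq.top ≫ fst, bot := sq.bot ≫ g,
      comm := by
        rw [Category.assoc, pb.w, ← Category.assoc, sq.comm, Category.assoc] }
  obtain ⟨e, l, hl1, hl2⟩ := hf sqf
  let e₂ : sq.DomExt :=
    { A' := e.A', K' := e.K', φ := e.φ, ψ := e.ψ, comm := e.comm, isLocalHom := e.isLocalHom }
  refine ⟨e₂, ?_⟩
  have hw : l ≫ f = ((yon S).map (Over.homMk (Spec.map (CommRingCat.ofHom e₂.φ)) rfl :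
      e₂.ptA' ⟶ sq.ptA) ≫ sq.bot) ≫ g := by
    rw [Category.assoc]
    exact hl2
  refine ⟨pb.lift l _ hw, ?_, pb.lift_snd _ _ _⟩
  apply pb.hom_ext
  · rw [Category.assoc, pb.lift_fst, Category.assoc]
    exact hl1
  · rw [Category.assoc, pb.lift_snd, Category.assoc, sq.comm]
    rw [← Category.assoc, ← Category.assoc, ← Functor.map_comp, ← Functor.map_comp]
    congr 2
    ext
    simp only [Over.comp_left, Over.homMk_left]
    rw [← Spec.map_comp, ← Spec.map_comp, ← CommRingCat.ofHom_comp, ← CommRingCat.ofHom_comp]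
    exact congrArg (fun r => Spec.map (CommRingCat.ofHom r)) e.comm

/-- The existence and uniqueness parts of the valuative criterion are stable under base change. -/
theorem result {S : Scheme.{u}} {X Y Z X' : AlgSp.Space S} (f : X ⟶ Y) (g : Z ⟶ Y)
    (fst : X' ⟶ X) (f' : X' ⟶ Z) (sq : IsPullback fst.hom f'.hom f.hom g.hom) :
    (AlgSp.ExistVC f.hom → AlgSp.ExistVC f'.hom) ∧ (AlgSp.UniqVC f.hom → AlgSp.UniqVC f'.hom) :=
  ⟨exist_baseChange _ _ _ _ sq, uniq_baseChange _ _ _ _ sq⟩

end Groth.Agent.S10286
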