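import Groth.Statements.S5792
import Groth.Agent.Lib.TopKrullDim

set_option autoImplicit false
universe u
open TopDim

namespace Groth.Agent.S5792

open Groth.Agent.Lib.TopKrullDim TopologicalSpace

/-- For every topological space X one has dim(X) = sup_{x ∈ X} dim_x(X), the supremum of the local
combinatorial dimensions. -/
theorem result (X : Type u) [TopologicalSpace X] :
    topologicalKrullDim X = ⨆ x : X, FlatMor.localDim X x := by
  apply le_antisymm
  · unfold topologicalKrullDim Order.krullDim
    refine iSup_le fun p ↦ ?_
    obtain ⟨x, hx⟩ := p.head.isIrreducible.nonempty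
    refine le_trans ?_ (le_iSup (fun x ↦ FlatMor.localDim X x) x)
    unfold FlatMor.localDim
    refine le_iInf fun U ↦ ?_
    exact length_le_dim_of_head_meets_open p (U.1 : Set X) U.1.isOpen x hx U.2
  · refine iSup_le fun x ↦ ?_
    unfold FlatMor.localDim
    exact iInf_le_of_le ⟨⊤, trivial⟩ (topologicalKrullDim_subspace_le X _)

end Groth.Agent.S5792
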