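import Groth.Statements.S0436
import Groth.Agent.Lib.H47DvrFibre

set_option autoImplicit false
universe u
open FlatMor

namespace Groth.Agent.S0436

open AlgebraicGeometry CategoryTheory Limits IsLocalRing TopologicalSpace Opposite
open Groth.Agent.Lib.H47DvrFibre

/-- Reducedness of stalks passes to generizations. -/
lemma isReduced_stalk_of_specializes {X : Scheme.{u}} {x x' : X} (h : x ⤳ x')
    [hx' : _root_.IsReduced (X.presheaf.stalk x')] : _root_.IsReduced (X.presheaf.stalk x) := by
  obtain ⟨_, ⟨G, hG, rfl⟩, hx'G, -⟩ :=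
    X.isBasis_affineOpens.exists_subset_of_mem_open (Set.mem_univ x') isOpen_univ
  have hxG : x ∈ G := h.mem_open G.isOpen hx'G
  let _ : Algebra Γ(X, G) (X.presheaf.stalk x) :=
    TopCat.Presheaf.algebra_section_stalk X.presheaf ⟨x, hxG⟩
  let _ : Algebra Γ(X, G) (X.presheaf.stalk x') :=
    TopCat.Presheaf.algebra_section_stalk X.presheaf ⟨x', hx'G⟩
  have hloc : IsLocalization.AtPrime (X.presheaf.stalk x) (hG.primeIdealOf ⟨x, hxG⟩).asIdeal :=
    hG.isLocalization_stalk ⟨x, hxG⟩
  have hloc' : IsLocalization.AtPrime (X.presheaf.stalk x') (hG.primeIdealOf ⟨x', hx'G⟩).asIdeal :=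
    hG.isLocalization_stalk ⟨x', hx'G⟩
  constructor
  rintro a ⟨n, hn⟩
  obtain ⟨⟨b, s⟩, hbs⟩ := IsLocalization.surj (hG.primeIdealOf ⟨x, hxG⟩).asIdeal.primeCompl a
  have hsu : IsUnit (algebraMap Γ(X, G) (X.presheaf.stalk x) s) :=
    IsLocalization.map_units _ s
  have hb0 : algebraMap Γ(X, G) (X.presheaf.stalk x) (b ^ n) = 0 := by
    rw [map_pow, ← hbs, mul_pow, hn, zero_mul]
  obtain ⟨t, ht⟩ := (IsLocalization.map_eq_zero_iff
    (hG.primeIdealOf ⟨x, hxG⟩).asIdeal.primeCompl _ _).mp hb0
  have htb : (t * b) ^ (n + 1) = 0 := by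
    rw [mul_pow, pow_succ b, pow_succ (t : Γ(X, G))]
    linear_combination (↑t ^ n * b) * ht
  have h1 : algebraMap Γ(X, G) (X.presheaf.stalk x') (t * b) = 0 := by
    apply IsReduced.eq_zero
    exact ⟨n + 1, by rw [← map_pow, htb, map_zero]⟩
  obtain ⟨t', ht'⟩ := (IsLocalization.map_eq_zero_iff
    (hG.primeIdealOf ⟨x', hx'G⟩).asIdeal.primeCompl _ _).mp h1
  -- `t'` is a unit at `x'` hence at `x`
  have hu' : IsUnit (X.presheaf.germ G x' hx'G (t' : Γ(X, G))) :=
    IsLocalization.map_units (X.presheaf.stalk x') t'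
  have hxt' : x' ∈ X.basicOpen (t' : Γ(X, G)) := (X.mem_basicOpen _ x' hx'G).mpr hu'
  have hxt : x ∈ X.basicOpen (t' : Γ(X, G)) := h.mem_open (X.basicOpen _).isOpen hxt'
  have hu : IsUnit (X.presheaf.germ G x hxG (t' : Γ(X, G))) := (X.mem_basicOpen _ x hxG).mp hxt
  have hut : IsUnit (algebraMap Γ(X, G) (X.presheaf.stalk x) t) := IsLocalization.map_units _ t
  have h2 : algebraMap Γ(X, G) (X.presheaf.stalk x) (↑t' * (↑t * b)) = 0 := by
    rw [ht', map_zero]
  rw [map_mul, map_mul] at h2
  have h3 : algebraMap Γ(X, G) (X.presheaf.stalk x) b = 0 := by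
    have hu'' : IsUnit (algebraMap Γ(X, G) (X.presheaf.stalk x) t') := hu
    exact (hut.mul_right_eq_zero.mp (hu''.mul_right_eq_zero.mp h2))
  rw [h3] at hbs
  exact hsu.mul_left_eq_zero.mp hbs

lemma mem_of_pow_mem {A : Type*} [CommRing A] (I : Ideal A) (h : ∀ a, a * a ∈ I → a ∈ I)
    (a : A) (n : ℕ) (ha : a ^ n ∈ I) : a ∈ I := by
  induction n using Nat.strong_induction_on with
  | _ n ih =>
    rcases Nat.lt_or_ge n 2 with hn | hn
    · interval_cases n
      · rw [pow_zero] at ha
        rw [← mul_one a]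
        exact I.mul_mem_left a ha
      · simpa using ha
    · have hm : (n + 1) / 2 < n := by omega
      apply ih ((n + 1) / 2) hm
      apply h
      rw [← pow_add]
      have : (n + 1) / 2 + (n + 1) / 2 = n + ((n + 1) / 2 + (n + 1) / 2 - n) := by omega
      rw [this, pow_add]
      exact I.mul_mem_right _ ha

variable {R : Type u} [CommRing R] {X : Scheme.{u}} (f : X ⟶ Spec (CommRingCat.of R))

/-- `π` is regular on the stalks of a flat `X`. -/
lemma regular_toStalkX [IsDomain R] [Flat f] (π : R) (hπ0 : π ≠ 0) (x : X)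
    (a : X.presheaf.stalk x) (ha : toStalkX f x π * a = 0) : a = 0 := by
  obtain ⟨U, hxU, b, rfl⟩ := X.presheaf.exists_germ_eq a
  rw [← germ_toΓG f U x hxU, ← map_mul] at ha
  obtain ⟨W, hxW, iU, iV, hW⟩ := X.presheaf.germ_eq x hxU hxU (toΓG f U π * b) 0
    (by rw [ha, map_zero])
  obtain ⟨_, ⟨G, hG, rfl⟩, hxG, hGW⟩ :=
    X.isBasis_affineOpens.exists_subset_of_mem_open hxW W.isOpen
  have hGW' : G ≤ W := hGW
  have hGU : G ≤ U := hGW'.trans iU.le
  have h1 : X.presheaf.map (homOfLE hGU).op (toΓG f U π * b) = 0 := by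
    have : (homOfLE hGU).op = iU.op ≫ (homOfLE hGW').op := rfl
    rw [this, Functor.map_comp, CommRingCat.comp_apply, hW, map_zero, map_zero]
  rw [map_mul] at h1
  have h2 : X.presheaf.map (homOfLE hGU).op (toΓG f U π) = toΓG f G π := by
    simp only [toΓG, RingHom.comp_apply]
    rw [← CommRingCat.comp_apply, ← Functor.map_comp]
    rfl
  rw [h2] at h1
  have h3 := regular_toΓG f π hπ0 hG _ h1
  rw [← TopCat.Presheaf.germ_res_apply X.presheaf (homOfLE hGU) x hxG b, h3, map_zero]

/-- The local rings of `X` at points of the (reduced) closed fibre are reduced. -/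
lemma isReduced_stalk_of_closedFibre [IsLocalRing R] [IsDomain R] [Flat f]
    [IsLocallyNoetherian X] (π : R)
    (hπ : maximalIdeal R = Ideal.span {π}) (hπ0 : π ≠ 0)
    (hred : IsReduced (f.fiber (closedPoint R))) (x : X) (hx : f x = closedPoint R) :
    _root_.IsReduced (X.presheaf.stalk x) := by
  set A := X.presheaf.stalk x
  set ϖ := toStalkX f x π with hϖ
  have hnu : ¬ IsUnit ϖ := by
    intro hu
    have h1 : x ∈ X.basicOpen (toΓ f π) := (Scheme.mem_basicOpen_top X _ x).mpr hu
    rw [← preimage_Dπ_eq] at h1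
    have h2 : π ∉ (f x).asIdeal := (mem_Dπ π (f x)).mp h1
    apply h2
    rw [hx]
    change π ∈ maximalIdeal R
    rw [hπ]
    exact Ideal.subset_span rfl
  have hmem : ∀ a : A, a ∈ nilradical A → a ∈ Ideal.span {ϖ} := by
    intro a ha
    obtain ⟨n, hn⟩ := ha
    apply mem_of_pow_mem _ (mem_span_of_sq_mem_stalk f π hπ hred x hx) a n
    rw [hn]
    exact Ideal.zero_mem _
  have hle : nilradical A ≤ Ideal.span {ϖ} • nilradical A := by
    intro a ha
    obtain ⟨c, rfl⟩ := Ideal.mem_span_singleton'.mp (hmem a ha)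
    have hc : c ∈ nilradical A := by
      obtain ⟨n, hn⟩ := ha
      refine ⟨n, ?_⟩
      have key : ∀ (m : ℕ) (b : A), ϖ ^ m * b = 0 → b = 0 := by
        intro m
        induction m with
        | zero => intro b hb; simpa using hb
        | succ m ih =>
          intro b hb
          apply ih
          apply regular_toStalkX f π hπ0 x
          rw [← hb, pow_succ]; ring
      apply key n
      rw [← hn, mul_pow]; ring
    rw [mul_comm]
    exact Ideal.mul_mem_mul (Ideal.subset_span rfl) hc
  have hfg : (nilradical A).FG := IsNoetherian.noetherian _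
  have hjac : Ideal.span {ϖ} ≤ Ideal.jacobson (⊥ : Ideal A) := by
    rw [IsLocalRing.jacobson_eq_maximalIdeal ⊥ bot_ne_top, Ideal.span_singleton_le_iff_mem]
    exact hnu
  have := Submodule.eq_bot_of_le_smul_of_le_jacobson_bot (Ideal.span {ϖ}) (nilradical A) hfg hle hjac
  exact nilradical_eq_bot_iff.mp this

/-- Over a point `y` whose local ring is a field, the local rings of the fibre are those of `X`. -/
lemma isReduced_fibre_stalk (x : X) (y : Spec (CommRingCat.of R)) (hx : f x = y)
    (hy : maximalIdeal ((Spec (CommRingCat.of R)).presheaf.stalk y) = ⊥)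
    [_root_.IsReduced (X.presheaf.stalk x)] :
    _root_.IsReduced ((f.fiber y).presheaf.stalk ((f.fiberHomeo y).symm ⟨x, hx⟩)) := by
  subst hx
  have e := Groth.Agent.Lib.FibreStalk33.fibreStalkEquiv f x
  have hI : Ideal.map (f.stalkMap x).hom
      (maximalIdeal ((Spec (CommRingCat.of R)).presheaf.stalk (f x))) = ⊥ := by
    rw [hy, Ideal.map_bot]
  have e2 : (X.presheaf.stalk x ⧸ Ideal.map (f.stalkMap x).hom
      (maximalIdeal ((Spec (CommRingCat.of R)).presheaf.stalk (f x)))) ≃+* X.presheaf.stalk x :=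
    (Ideal.quotEquivOfEq hI).trans (RingEquiv.quotientBot _)
  exact isReduced_of_injective (e2.symm.trans e).symm.toRingHom (e2.symm.trans e).symm.injective

set_option backward.isDefEq.respectTransparency.types false in
lemma maximalIdeal_stalk_eq_bot (y : Spec (CommRingCat.of R)) (hy : y.asIdeal = ⊥) :
    maximalIdeal ((Spec (CommRingCat.of R)).presheaf.stalk y) = ⊥ := by
  let k : Algebra R ((Spec (CommRingCat.of R)).presheaf.stalk y) :=
    StructureSheaf.stalkAlgebra R y
  have hloc : IsLocalization.AtPrime ((Spec (CommRingCat.of R)).presheaf.stalk y) y.asIdeal :=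
    StructureSheaf.IsLocalization.to_stalk R y
  rw [← IsLocalization.AtPrime.map_eq_maximalIdeal y.asIdeal
    ((Spec (CommRingCat.of R)).presheaf.stalk y), hy]
  exact Ideal.map_bot


open AlgebraicGeometry CategoryTheory Limits in
/-- For a proper flat morphism to the spectrum of a discrete valuation ring whose special fibre is
reduced, both the total space and the generic fibre are reduced. (The published statement is
stronger: instead of flatness it only needs every irreducible component of the total space to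
dominate the base.) -/
theorem result {R : Type u} [CommRing R] [IsDomain R] [IsDiscreteValuationRing R] {X : Scheme.{u}}
    (f : X ⟶ Spec (CommRingCat.of R)) [IsProper f] [Flat f]
    (hred : IsReduced (f.fiber (IsLocalRing.closedPoint R))) :
    IsReduced X ∧ IsReduced (f.fiber (⟨⊥, Ideal.isPrime_bot⟩ : PrimeSpectrum R)) := by
  obtain ⟨π, hπirr⟩ := IsDiscreteValuationRing.exists_irreducible R
  have hπ : maximalIdeal R = Ideal.span {π} := hπirr.maximalIdeal_eq
  have hπ0 : π ≠ 0 := hπirr.ne_zero
  have : IsLocallyNoetherian X := LocallyOfFiniteType.isLocallyNoetherian f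
  have hstalk : ∀ x : X, _root_.IsReduced (X.presheaf.stalk x) := by
    intro x
    have hclosed : IsClosed (f '' closure {x}) := f.isClosedMap _ isClosed_closure
    have hmem : closedPoint R ∈ f '' closure {x} := by
      have h1 : f x ∈ f '' closure {x} := ⟨x, subset_closure rfl, rfl⟩
      have h2 : (f x) ⤳ closedPoint R :=
        (PrimeSpectrum.le_iff_specializes _ _).mp (le_maximalIdeal (f x).isPrime.ne_top)
      exact h2.mem_closed hclosed h1
    obtain ⟨x', hx'cl, hx'⟩ := hmem
    have hsp : x ⤳ x' := specializes_iff_mem_closure.mpr hx'cl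
    have := isReduced_stalk_of_closedFibre f π hπ hπ0 hred x' hx'
    exact isReduced_stalk_of_specializes hsp
  have hX : IsReduced X := isReduced_of_isReduced_stalk X
  refine ⟨hX, ?_⟩
  have hz : ∀ z : f.fiber (⟨⊥, Ideal.isPrime_bot⟩ : PrimeSpectrum R),
      _root_.IsReduced ((f.fiber (⟨⊥, Ideal.isPrime_bot⟩ : PrimeSpectrum R)).presheaf.stalk z) := by
    intro z
    have h := isReduced_fibre_stalk f ((f.fiberHomeo _ z).1) _ ((f.fiberHomeo _ z).2)
      (maximalIdeal_stalk_eq_bot _ rfl)
    have hzz : (f.fiberHomeo (⟨⊥, Ideal.isPrime_bot⟩ : PrimeSpectrum R)).symm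
        ⟨(f.fiberHomeo _ z).1, (f.fiberHomeo _ z).2⟩ = z := by
      rw [Subtype.coe_eta, Homeomorph.symm_apply_apply]
    rw [hzz] at h
    exact h
  exact isReduced_of_isReduced_stalk _

end Groth.Agent.S0436
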