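import Groth.Statements.S0859
import Groth.Agent.Lib.CechLow
import Groth.Agent.Lib.SiteGlue

set_option autoImplicit false
universe u
open CategoryTheory
open CohSite

namespace Groth.Agent.S0859

open Opposite CategoryTheory.Limits Groth.Agent.Lib

section

variable {C : Type u} [SmallCategory C] [HasPullbacks C] {J : GrothendieckTopology C}

/-- core gluing step: from local lifts along a covering family with vanishing Cech `H^1` of the
kernel, produce a global lift. -/
theorem exists_lift_of_family (S : ShortComplex (Sheaf J AddCommGrpCat.{u})) (hS : S.ShortExact)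
    (U : C) {ι : Type u} (Y : ι → Over U)
    (hcov : Sieve.ofArrows (fun i => (Y i).left) (fun i => (Y i).hom) ∈ J U)
    (hH : IsZero (CohCx.cechH S.X₁.obj Y 1))
    (s : S.X₃.obj.obj (op U)) (t : ∀ i, S.X₂.obj.obj (op (Y i).left))
    (ht : ∀ i, S.g.hom.app (op (Y i).left) (t i) = S.X₃.obj.map (Y i).hom.op s) :
    ∃ t' : S.X₂.obj.obj (op U), S.g.hom.app (op U) t' = s := by
  let P₁ : (Over U)ᵒᵖ ⥤ AddCommGrpCat.{u} := (Over.forget U).op ⋙ S.X₁.obj
  let P₂ : (Over U)ᵒᵖ ⥤ AddCommGrpCat.{u} := (Over.forget U).op ⋙ S.X₂.obj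
  let f : P₁ ⟶ P₂ := Functor.whiskerLeft (Over.forget U).op S.f.hom
  have hm := hS.mono_f
  have hf : ∀ V, Function.Injective (f.app V) := fun V =>
    SiteCoh.injective_app_of_mono S.f V.unop.left
  have hzero : ∀ (V : C) (x : S.X₁.obj.obj (op V)),
      S.g.hom.app (op V) (S.f.hom.app (op V) x) = 0 := by
    intro V x
    have h1 : S.f.hom.app (op V) ≫ S.g.hom.app (op V) = 0 := by
      rw [← NatTrans.comp_app, ← ObjectProperty.FullSubcategory.comp_hom, S.zero]
      rfl
    rw [← ConcreteCategory.comp_apply, h1]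
    rfl
  have key : ∀ a : Fin 2 → ι, ∃ e : P₁.obj (op (∏ᶜ fun k => Y (a k))),
      f.app _ e = P₂.map (Pi.π (fun k => Y (a k)) 1).op (t (a 1)) -
        P₂.map (Pi.π (fun k => Y (a k)) 0).op (t (a 0)) := by
    intro a
    apply SiteGlue.exists_of_app_g_eq_zero hS
    rw [map_sub, sub_eq_zero]
    have h1 : ∀ k : Fin 2, S.g.hom.app _ (P₂.map (Pi.π (fun k => Y (a k)) k).op (t (a k))) =
        S.X₃.obj.map (∏ᶜ fun k => Y (a k)).hom.op s := by
      intro k
      change S.g.hom.app _ (S.X₂.obj.map (Pi.π (fun k => Y (a k)) k).left.op (t (a k))) = _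
      rw [NatTrans.naturality_apply, ht, ← ConcreteCategory.comp_apply, ← S.X₃.obj.map_comp,
        ← op_comp, Over.w]
    exact (h1 1).trans (h1 0).symm
  obtain ⟨b, hb⟩ := CechLow.exists_correction_of_H1_zero Y f hf hH t key
  -- glue
  obtain ⟨t', ht'⟩ := SiteGlue.exists_amalgamation S.X₂ (fun i => (Y i).hom) hcov
    (fun i => t i - S.f.hom.app (op (Y i).left) (b i)) (by
      intro i j W gi gj hij
      let a : Fin 2 → ι := Fin.cons i (fun _ => j)
      let W' : Over U := Over.mk (gi ≫ (Y i).hom)
      let φ : ∀ k : Fin 2, W' ⟶ Y (a k) :=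
        Fin.cons (α := fun k => W' ⟶ Y (a k)) (Over.homMk gi rfl) (fun _ => Over.homMk gj hij.symm)
      have h2 := congrArg (P₂.map (Pi.lift φ).op) (hb a)
      rw [← ConcreteCategory.comp_apply, ← ConcreteCategory.comp_apply, ← P₂.map_comp,
        ← P₂.map_comp, ← op_comp, ← op_comp, Pi.lift_π, Pi.lift_π] at h2
      exact h2.symm)
  refine ⟨t', ?_⟩
  apply SiteGlue.section_ext_ofArrows S.X₃ (fun i => (Y i).hom) hcov
  intro i
  rw [← NatTrans.naturality_apply, ht', map_sub, hzero, sub_zero, ht]

end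

open Opposite CategoryTheory.Limits in
/-- Consider abelian sheaves F ⊂ G with quotient H on a site with fibre products, and an object U. If
every covering sieve of U can be refined by a covering family with respect to which the first Cech
cohomology group of F vanishes, then G(U) -> H(U) is surjective. -/
theorem result {C : Type u} [SmallCategory C] [HasPullbacks C]
    {J : GrothendieckTopology C} (S : ShortComplex (Sheaf J AddCommGrpCat.{u})) (hS : S.ShortExact)
    (U : C)
    (h : ∀ T ∈ J U, ∃ (ι : Type u) (Y : ι → Over U), (∀ i, T.arrows (Y i).hom) ∧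
      Sieve.ofArrows (fun i => (Y i).left) (fun i => (Y i).hom) ∈ J U ∧
      IsZero (CohCx.cechH S.X₁.obj Y 1)) :
    Function.Surjective (S.g.hom.app (op U)) := by
  intro s
  have hepi := hS.epi_g
  have hls : Sheaf.IsLocallySurjective S.g := (Sheaf.isLocallySurjective_iff_epi' (φ := S.g)).2 hepi
  have hT : Presheaf.imageSieve S.g.hom s ∈ J U := Presheaf.imageSieve_mem J S.g.hom s
  obtain ⟨ι, Y, hYT, hcov, hH⟩ := h _ hT
  choose t ht using hYT
  exact exists_lift_of_family S hS U Y hcov hH s t ht

end Groth.Agent.S0859
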