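import Groth.Statements.S0861
import Groth.Agent.Lib.CechLES
import Groth.Agent.Lib.SiteLES
import Groth.Agent.Lib.CechInj
import Groth.Agent.S0859

set_option autoImplicit false
universe u
open CategoryTheory
open CohSite

namespace Groth.Agent.S0861

open CategoryTheory.Limits Opposite Groth.Agent.Lib in
/-- the inductive statement behind the Cartan criterion -/
theorem aux {C : Type u} [SmallCategory C] [HasPullbacks C]
    (J : GrothendieckTopology C) (B : Set C) (Cov : ∀ (U : C) (ι : Type u), (ι → Over U) → Prop)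
    (h1 : ∀ (U : C) (ι : Type u) (Y : ι → Over U), Cov U ι Y → U ∈ B ∧
      Sieve.ofArrows (fun i => (Y i).left) (fun i => (Y i).hom) ∈ J U ∧
      ∀ (p : ℕ) (a : Fin (p + 1) → ι), (∏ᶜ fun k => Y (a k)).left ∈ B)
    (h2 : ∀ U ∈ B, ∀ T ∈ J U, ∃ (ι : Type u) (Y : ι → Over U), Cov U ι Y ∧ ∀ i, T.arrows (Y i).hom)
    (p : ℕ) : ∀ (F : Sheaf J AddCommGrpCat.{u})
    (_ : ∀ (U : C) (ι : Type u) (Y : ι → Over U), Cov U ι Y →
      ∀ p : ℕ, IsZero (CohCx.cechH F.obj Y (p + 1)))
    (U : C) (_ : U ∈ B), Subsingleton (CohSite.HU F (p + 1) U) := by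
  -- surjectivity of `I(U) → Q(U)` for `U ∈ B`
  have surj : ∀ (F : Sheaf J AddCommGrpCat.{u})
      (_ : ∀ (U : C) (ι : Type u) (Y : ι → Over U), Cov U ι Y →
        ∀ p : ℕ, IsZero (CohCx.cechH F.obj Y (p + 1)))
      (U : C) (_ : U ∈ B), Function.Surjective ((SiteLES.injSC F).g.hom.app (op U)) := by
    intro F h3 U hU
    refine Groth.Agent.S0859.result (SiteLES.injSC F) (SiteLES.injSC_shortExact F) U ?_
    intro T hT
    obtain ⟨ι, Y, hY, hYT⟩ := h2 U hU T hT
    exact ⟨ι, Y, hYT, (h1 U ι Y hY).2.1, h3 U ι Y hY 0⟩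
  induction p with
  | zero =>
    intro F h3 U hU
    exact SiteLES.subsingleton_HU_one (SiteLES.injSC_shortExact F) U (surj F h3 U hU)
  | succ p ih =>
    intro F h3 U hU
    refine SiteLES.subsingleton_HU_succ_succ (SiteLES.injSC_shortExact F) U p ?_
    refine ih (SiteLES.injSC F).X₃ ?_ U hU
    intro V ι Y hY q
    have hS := SiteLES.injSC_shortExact F
    have hm := hS.mono_f
    have hinj : Injective (SiteLES.injSC F).X₂.obj := by
      have h : Injective ((sheafToPresheaf J AddCommGrpCat.{u}).obj (SiteLES.injSC F).X₂) :=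
        Injective.injective_of_adjoint (sheafificationAdjunction J AddCommGrpCat.{u}) _
      exact h
    refine CechLES.isZero_homology_three Y
      (Functor.whiskerLeft (Over.forget V).op (SiteLES.injSC F).f.hom)
      (Functor.whiskerLeft (Over.forget V).op (SiteLES.injSC F).g.hom) ?_ ?_ ?_ ?_ q
      (h3 V ι Y hY (q + 1)) (CechInj.isZero_homology_of_injective Y (SiteLES.injSC F).X₂.obj q)
    · rw [← Functor.whiskerLeft_comp, ← ObjectProperty.FullSubcategory.comp_hom,
        (SiteLES.injSC F).zero]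
      rfl
    · intro n a
      exact SiteCoh.injective_app_of_mono (SiteLES.injSC F).f _
    · intro n a y hy
      exact SiteGlue.exists_of_app_g_eq_zero hS _ y hy
    · intro n a
      exact surj F h3 _ ((h1 V ι Y hY).2.2 n a)

open CategoryTheory.Limits in
/-- Let C be a site with fibre products, B a class of objects and Cov a class of covering families
(indexed families of objects over a member of B). Assume: (1) for a family in Cov over U, U and all
iterated fibre products U_{i_0} x_U ... x_U U_{i_p} lie in B; (2) every covering sieve of a member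
of B contains a family from Cov; (3) the abelian sheaf F has vanishing Cech cohomology in positive
degrees for every family in Cov. Then H^p(U, F) = 0 for all p > 0 and U in B. -/
theorem result {C : Type u} [SmallCategory C] [HasPullbacks C]
    (J : GrothendieckTopology C) (B : Set C) (Cov : ∀ (U : C) (ι : Type u), (ι → Over U) → Prop)
    (h1 : ∀ (U : C) (ι : Type u) (Y : ι → Over U), Cov U ι Y → U ∈ B ∧
      Sieve.ofArrows (fun i => (Y i).left) (fun i => (Y i).hom) ∈ J U ∧
      ∀ (p : ℕ) (a : Fin (p + 1) → ι), (∏ᶜ fun k => Y (a k)).left ∈ B)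
    (h2 : ∀ U ∈ B, ∀ T ∈ J U, ∃ (ι : Type u) (Y : ι → Over U), Cov U ι Y ∧ ∀ i, T.arrows (Y i).hom)
    (F : Sheaf J AddCommGrpCat.{u})
    (h3 : ∀ (U : C) (ι : Type u) (Y : ι → Over U), Cov U ι Y → ∀ p : ℕ, IsZero (CohCx.cechH F.obj Y (p + 1)))
    (U : C) (hU : U ∈ B) (p : ℕ) : Subsingleton (CohSite.HU F (p + 1) U) := by
  exact aux J B Cov h1 h2 p F h3 U hU

end Groth.Agent.S0861
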