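import Groth.Statements.S0065
import Groth.Agent.Lib.RegularFlatLocal
import Mathlib.AlgebraicGeometry.Morphisms.Etale
import Mathlib.AlgebraicGeometry.Morphisms.FormallyUnramified
import Mathlib.AlgebraicGeometry.Morphisms.Flat
import Mathlib.AlgebraicGeometry.Noetherian
import Mathlib.RingTheory.Unramified.LocalRing

set_option autoImplicit false
open CategoryTheory CategoryTheory.Limits AlgebraicGeometry Opposite
universe u
open EtBase

namespace Groth.Agent.S0065

/-- For an étale morphism X → Y with Y locally Noetherian and a point x of X, the local ring of X at x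
is regular if and only if the local ring of Y at the image of x is regular. -/
theorem result {X Y : Scheme.{u}} (f : X ⟶ Y) [AlgebraicGeometry.Etale f]
    [IsLocallyNoetherian Y] (x : X) :
    IsRegularLocalRing (X.presheaf.stalk x) ↔ IsRegularLocalRing (Y.presheaf.stalk (f.base x)) := by
  algebraize [(f.stalkMap x).hom]
  have hloc : IsLocalHom (algebraMap (Y.presheaf.stalk (f x)) (X.presheaf.stalk x)) :=
    inferInstanceAs <| IsLocalHom (f.stalkMap x).hom
  have hess : Algebra.EssFiniteType (Y.presheaf.stalk (f x)) (X.presheaf.stalk x) := by
    rw [← RingHom.essFiniteType_algebraMap, RingHom.algebraMap_toAlgebra]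
    exact LocallyOfFiniteType.stalkMap f x
  have hunr : Algebra.FormallyUnramified (Y.presheaf.stalk (f x)) (X.presheaf.stalk x) := by
    rw [← RingHom.formallyUnramified_algebraMap, RingHom.algebraMap_toAlgebra]
    exact FormallyUnramified.stalkMap f x
  have hflat : Module.Flat (Y.presheaf.stalk (f x)) (X.presheaf.stalk x) := by
    have := Flat.stalkMap f x
    rwa [RingHom.flat_algebraMap_iff.symm, RingHom.algebraMap_toAlgebra]
  have hnA : IsNoetherianRing (Y.presheaf.stalk (f x)) := inferInstance
  have hnB : IsNoetherianRing (X.presheaf.stalk x) :=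
    Algebra.EssFiniteType.isNoetherianRing (Y.presheaf.stalk (f x)) (X.presheaf.stalk x)
  exact Groth.Agent.Lib.RegularFlatLocal.isRegularLocalRing_iff_of_flat
    Algebra.FormallyUnramified.map_maximalIdeal

end Groth.Agent.S0065
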