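-- Statement S12446.
import Groth.Statements.S12446
import Groth.Agent.Lib.H30CatSpace
import Groth.Agent.S12445
import Mathlib

set_option autoImplicit false
universe u
open CategoryTheory AlgebraicGeometry
open Props

namespace Groth.Agent.S12446

open Groth.Agent.Lib.H30CatSpace Groth.Agent.Lib.Catenary

theorem isCatenary_of_ringEquiv {A B : Type u} [CommRing A] [CommRing B] (e : A ≃+* B)
    (h : CAlg.IsCatenary A) : CAlg.IsCatenary B :=
  isCatenary_of_surjective e.toRingHom e.surjective h

theorem stalk_of_affine {X : Scheme.{u}} {U : X.Opens} (hU : IsAffineOpen U)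
    (h : CAlg.IsCatenary Γ(X, U)) (x : X) (hx : x ∈ U) :
    CAlg.IsCatenary (X.presheaf.stalk x) := by
  letI := X.presheaf.algebra_section_stalk ⟨x, hx⟩
  haveI := hU.isLocalization_stalk ⟨x, hx⟩
  exact isCatenary_of_isLocalization (hU.primeIdealOf ⟨x, hx⟩).asIdeal.primeCompl
    (X.presheaf.stalk x) h

theorem affine_of_stalks {X : Scheme.{u}} {U : X.Opens} (hU : IsAffineOpen U)
    (h : ∀ x : X, CAlg.IsCatenary (X.presheaf.stalk x)) : CAlg.IsCatenary Γ(X, U) := by
  rw [isCatenary_iff_localization_maximal]
  intro m hm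
  let y : PrimeSpectrum Γ(X, U) := ⟨m, hm.isPrime⟩
  have hy : hU.fromSpec y ∈ U := (hU.isoSpec.inv y).2
  letI := X.presheaf.algebra_section_stalk ⟨hU.fromSpec y, hy⟩
  haveI : IsLocalization.AtPrime (X.presheaf.stalk (hU.fromSpec y)) m :=
    hU.isLocalization_stalk' y hy
  exact isCatenary_of_ringEquiv (IsLocalization.algEquiv m.primeCompl
    (X.presheaf.stalk (hU.fromSpec y)) (Localization.AtPrime m)).toRingEquiv (h _)

theorem main (X : Scheme.{u}) :
    PtTop.IsCatenarySpace X ↔ ∀ x : X, CAlg.IsCatenary (X.presheaf.stalk x) := by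
  constructor
  · intro h x
    obtain ⟨U, hU, hxU, -⟩ := TopologicalSpace.Opens.isBasis_iff_nbhd.mp X.isBasis_affineOpens
      (U := ⊤) (x := x) trivial
    exact stalk_of_affine hU ((Groth.Agent.S12445.main X).1.mp h ⟨U, hU⟩) x hxU
  · intro h
    exact (Groth.Agent.S12445.main X).1.mpr fun U => affine_of_stalks U.2 h

/-- For a scheme X, the underlying topological space of X is catenary if and only if for every point x
the local ring O_{X,x} is a catenary ring. -/
theorem result (X : Scheme.{u}) :
    PtTop.IsCatenarySpace X ↔ ∀ x : X, CAlg.IsCatenary (X.presheaf.stalk x) := by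
  exact main X

end Groth.Agent.S12446
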