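-- Statement S12447.
import Groth.Statements.S12447
import Groth.Agent.Lib.H30CatSpace
import Groth.Agent.S12445
import Groth.Agent.S7577
import Groth.Agent.S7581
import Mathlib

set_option autoImplicit false
universe u
open CategoryTheory AlgebraicGeometry
open Props

namespace Groth.Agent.S12447

open Groth.Agent.Lib.H30CatSpace Groth.Agent.Lib.Catenary Groth.Agent.Lib.OrdCat

section Order

open Groth.Agent.S7581

variable {P : Type u} [PartialOrder P]

/-- integer-valued codimension -/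
noncomputable def n (a b : P) : ℤ := ((c a b).toNat : ℤ)

theorem n_add (hcat : Cat P) {a b d : P} (hab : a ≤ b) (hbd : b ≤ d) :
    n a d = n a b + n b d := by
  obtain ⟨hfin, hadd⟩ := cat_iff.mp hcat
  unfold n
  rw [hadd a b d hab hbd, ENat.toNat_add (hfin a b hab) (hfin b d hbd)]
  push_cast
  rfl

theorem one_le_c_of_lt {a b : P} (h : a < b) : 1 ≤ c a b := by
  have := le_c (a := a) (b := b) ((RelSeries.singleton _ a).snoc b (by simpa using h))
    (by simp) (by simp)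
  simpa using this

theorem one_le_n_of_lt (hcat : Cat P) {a b : P} (h : a < b) : 1 ≤ n a b := by
  obtain ⟨hfin, -⟩ := cat_iff.mp hcat
  have h1 := one_le_c_of_lt h
  have h2 := hfin a b h.le
  unfold n
  have : 1 ≤ (c a b).toNat := by
    rw [← ENat.natCast_toNat h2] at h1
    exact_mod_cast h1
  exact_mod_cast this

theorem n_covBy {a b : P} (h : a ⋖ b) : n a b = 1 := by
  unfold n
  rw [c_covBy h]
  rfl

/-- Abstract construction of a dimension function on a lower set `D`. -/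
theorem exists_dim (hcat : Cat P) (p : P) (D M : Set P)
    (hD : ∀ q q' : P, q ≤ q' → q' ∈ D → q ∈ D)
    (hM1 : ∀ q ∈ D, ∃ m ∈ M, m ≤ q)
    (hM3 : ∀ m₀ ∈ M, ∀ m₁ ∈ M, ∀ q ∈ D, m₀ ≤ q → m₁ ≤ q →
      ∃ r, m₀ ≤ r ∧ m₁ ≤ r ∧ r ≤ q ∧ r ≤ p) :
    ∃ δ : P → ℤ, (∀ q q' : P, q' ∈ D → q < q' → δ q' < δ q) ∧
      (∀ q q' : P, q' ∈ D → q ⋖ q' → δ q = δ q' + 1) := by
  classical
  let δ₀ : P → P → ℤ := fun m q => n m p - n m q
  have hind : ∀ m₀ ∈ M, ∀ m₁ ∈ M, ∀ q ∈ D, m₀ ≤ q → m₁ ≤ q → δ₀ m₀ q = δ₀ m₁ q := by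
    intro m₀ hm₀ m₁ hm₁ q hq h0 h1
    obtain ⟨r, h0r, h1r, hrq, hrp⟩ := hM3 m₀ hm₀ m₁ hm₁ q hq h0 h1
    show n m₀ p - n m₀ q = n m₁ p - n m₁ q
    rw [n_add hcat h0r hrp, n_add hcat h0r hrq, n_add hcat h1r hrp, n_add hcat h1r hrq]
    ring
  let δ : P → ℤ := fun q => if h : ∃ m ∈ M, m ≤ q then δ₀ (Classical.choose h) q else 0
  have hδ : ∀ q ∈ D, ∀ m ∈ M, m ≤ q → δ q = δ₀ m q := by
    intro q hq m hm hmq
    have h : ∃ m ∈ M, m ≤ q := ⟨m, hm, hmq⟩
    show (if h : ∃ m ∈ M, m ≤ q then δ₀ (Classical.choose h) q else 0) = _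
    rw [dif_pos h]
    exact hind _ (Classical.choose_spec h).1 m hm q hq (Classical.choose_spec h).2 hmq
  have hdiff : ∀ q q' : P, q' ∈ D → q ≤ q' → δ q - δ q' = n q q' := by
    intro q q' hq' hle
    have hq : q ∈ D := hD q q' hle hq'
    obtain ⟨m, hm, hmq⟩ := hM1 q hq
    rw [hδ q hq m hm hmq, hδ q' hq' m hm (hmq.trans hle)]
    show n m p - n m q - (n m p - n m q') = n q q'
    rw [n_add hcat hmq hle]
    ring
  refine ⟨δ, fun q q' hq' hlt => ?_, fun q q' hq' hcov => ?_⟩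
  · have h1 := hdiff q q' hq' hlt.le
    have h2 := one_le_n_of_lt hcat hlt
    omega
  · have h1 := hdiff q q' hq' hcov.le
    have h2 := n_covBy hcov
    omega

end Order

section Ring

variable (A : Type u) [CommRing A] [IsNoetherianRing A]

omit [IsNoetherianRing A] in
/-- finite prime avoidance: an element outside `p` lying in every member of a finite set of
primes not contained in `p`. -/
theorem exists_avoid (p : Ideal A) [p.IsPrime] (PP : Set (Ideal A)) (hfin : PP.Finite) :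
    ∃ f : A, f ∉ p ∧ ∀ r ∈ PP, ¬ r ≤ p → f ∈ r := by
  classical
  let s : Finset (Ideal A) := hfin.toFinset.filter (fun r => ¬ r ≤ p)
  have hs : ¬ s.inf id ≤ p := by
    intro h
    obtain ⟨r, hr, hrp⟩ := (Ideal.IsPrime.inf_le' (s := s) (f := id) inferInstance).mp h
    exact (Finset.mem_filter.mp hr).2 hrp
  obtain ⟨f, hf, hfp⟩ := SetLike.not_le_iff_exists.mp hs
  refine ⟨f, hfp, fun r hr hrp => ?_⟩
  have hrs : r ∈ s := Finset.mem_filter.mpr ⟨hfin.mem_toFinset.mpr hr, hrp⟩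
  exact (Finset.inf_le (f := id) hrs) hf

theorem exists_dim_ring (hcat : CAlg.IsCatenary A) (p : PrimeSpectrum A) :
    ∃ f : A, f ∉ p.asIdeal ∧ ∃ δ : PrimeSpectrum A → ℤ,
      (∀ q q' : PrimeSpectrum A, f ∉ q'.asIdeal → q < q' → δ q' < δ q) ∧
      (∀ q q' : PrimeSpectrum A, f ∉ q'.asIdeal → q ⋖ q' → δ q = δ q' + 1) := by
  have hcat' : Groth.Agent.S7581.Cat (PrimeSpectrum A) :=
    isCat_iff_cat.mp (isCatenary_iff_isCat.mp hcat)
  let PP : Set (Ideal A) := minimalPrimes A ∪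
    ⋃ m₀ ∈ minimalPrimes A, ⋃ m₁ ∈ minimalPrimes A, (m₀ ⊔ m₁).minimalPrimes
  have hfin : PP.Finite := by
    refine (minimalPrimes.finite_of_isNoetherianRing A).union ?_
    refine (minimalPrimes.finite_of_isNoetherianRing A).biUnion fun m₀ _ => ?_
    refine (minimalPrimes.finite_of_isNoetherianRing A).biUnion fun m₁ _ => ?_
    exact Ideal.finite_minimalPrimes_of_isNoetherianRing A _
  obtain ⟨f, hfp, hf⟩ := exists_avoid A p.asIdeal PP hfin
  refine ⟨f, hfp, ?_⟩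
  refine exists_dim hcat' p {q | f ∉ q.asIdeal} {q | q.asIdeal ∈ minimalPrimes A} ?_ ?_ ?_
  · intro q q' hle hq' hfq
    exact hq' (hle hfq)
  · intro q hq
    obtain ⟨m, hm, hmq⟩ := Ideal.exists_minimalPrimes_le (I := ⊥) (J := q.asIdeal) bot_le
    exact ⟨⟨m, hm.1.1⟩, hm, hmq⟩
  · intro m₀ hm₀ m₁ hm₁ q hq h0 h1
    have hle : m₀.asIdeal ⊔ m₁.asIdeal ≤ q.asIdeal := sup_le h0 h1
    obtain ⟨r, hr, hrq⟩ := Ideal.exists_minimalPrimes_le hle
    have hrPP : r ∈ PP := by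
      right
      simp only [Set.mem_iUnion]
      exact ⟨m₀.asIdeal, hm₀, m₁.asIdeal, hm₁, hr⟩
    have hrp : r ≤ p.asIdeal := by
      by_contra hrp
      exact hq (hrq (hf r hrPP hrp))
    exact ⟨⟨r, hr.1.1⟩, le_sup_left.trans hr.1.2, le_sup_right.trans hr.1.2, hrq, hrp⟩

end Ring

section Top

open Topology

theorem isDimensionFunction_comp {U Y : Type u} [TopologicalSpace U] [TopologicalSpace Y]
    (φ : U → Y) (hφ : IsInducing φ) (hinj : Function.Injective φ) (δ : Y → ℤ)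
    (h1 : ∀ y y' : Y, y' ∈ Set.range φ → y ⤳ y' → y ≠ y' → δ y' < δ y)
    (h2 : ∀ y y' : Y, y' ∈ Set.range φ → y ⤳ y' → y ≠ y' →
      (∀ z ∈ Set.range φ, y ⤳ z → z ⤳ y' → z = y ∨ z = y') → δ y = δ y' + 1) :
    PtTop.IsDimensionFunction (fun u => δ (φ u)) := by
  refine ⟨fun x y hxy hne => ?_, fun x y hxy => ?_⟩
  · exact h1 (φ x) (φ y) ⟨y, rfl⟩ (hφ.specializes_iff.mpr hxy) (fun h => hne (hinj h))
  · obtain ⟨hsp, hne, himm⟩ := hxy
    refine h2 (φ x) (φ y) ⟨y, rfl⟩ (hφ.specializes_iff.mpr hsp) (fun h => hne (hinj h)) ?_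
    rintro _ ⟨w, rfl⟩ hxw hwy
    rcases himm w (hφ.specializes_iff.mp hxw) (hφ.specializes_iff.mp hwy) with h | h
    · exact Or.inl (congrArg φ h)
    · exact Or.inr (congrArg φ h)

theorem exists_dim_top (A : Type u) [CommRing A] [IsNoetherianRing A] (hcat : CAlg.IsCatenary A)
    (p : PrimeSpectrum A) :
    ∃ f : A, f ∉ p.asIdeal ∧ ∃ δ : PrimeSpectrum A → ℤ,
      (∀ y y' : PrimeSpectrum A, f ∉ y'.asIdeal → y ⤳ y' → y ≠ y' → δ y' < δ y) ∧
      (∀ y y' : PrimeSpectrum A, f ∉ y'.asIdeal → y ⤳ y' → y ≠ y' →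
        (∀ z : PrimeSpectrum A, f ∉ z.asIdeal → y ⤳ z → z ⤳ y' → z = y ∨ z = y') →
        δ y = δ y' + 1) := by
  obtain ⟨f, hfp, δ, h1, h2⟩ := exists_dim_ring A hcat p
  refine ⟨f, hfp, δ, fun y y' hy' hsp hne => ?_, fun y y' hy' hsp hne himm => ?_⟩
  · exact h1 y y' hy' (lt_of_le_of_ne ((PrimeSpectrum.le_iff_specializes y y').mpr hsp) hne)
  · have hlt : y < y' := lt_of_le_of_ne ((PrimeSpectrum.le_iff_specializes y y').mpr hsp) hne
    refine h2 y y' hy' ⟨hlt, fun z hyz hzy' => ?_⟩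
    have hz : f ∉ z.asIdeal := fun hfz => hy' (hzy'.le hfz)
    rcases himm z hz ((PrimeSpectrum.le_iff_specializes y z).mp hyz.le)
      ((PrimeSpectrum.le_iff_specializes z y').mp hzy'.le) with h | h
    · exact hyz.ne' h
    · exact hzy'.ne h

end Top

theorem exists_dim_scheme (S : Scheme.{u}) [IsLocallyNoetherian S]
    (hS : PtTop.IsCatenarySpace S) (s : S) :
    ∃ U : S.Opens, s ∈ U ∧ ∃ δ : U → ℤ, PtTop.IsDimensionFunction δ := by
  obtain ⟨V, hV, hsV, -⟩ := TopologicalSpace.Opens.isBasis_iff_nbhd.mp S.isBasis_affineOpens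
    (U := ⊤) (x := s) trivial
  haveI : IsNoetherianRing Γ(S, V) := IsLocallyNoetherian.component_noetherian ⟨V, hV⟩
  have hcat : CAlg.IsCatenary Γ(S, V) := (Groth.Agent.S12445.main S).1.mp hS ⟨V, hV⟩
  let h : (V : Set S) ≃ₜ PrimeSpectrum Γ(S, V) := Groth.Agent.S12445.homeo hV
  obtain ⟨f, hfp, δ, h1, h2⟩ := exists_dim_top Γ(S, V) hcat (h ⟨s, hsV⟩)
  let D : Set (PrimeSpectrum Γ(S, V)) := {q | f ∉ q.asIdeal}
  have hD : IsOpen D := (PrimeSpectrum.basicOpen f).2
  let U : S.Opens := ⟨Subtype.val '' (h ⁻¹' D),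
    V.2.isOpenMap_subtype_val _ (hD.preimage h.continuous)⟩
  have hUV : ∀ x : S, x ∈ U → x ∈ V := by
    rintro _ ⟨v, -, rfl⟩
    exact v.2
  have hUD : ∀ (x : S) (hx : x ∈ U), h ⟨x, hUV x hx⟩ ∈ D := by
    rintro _ ⟨v, hv, rfl⟩
    exact hv
  let φ : U → PrimeSpectrum Γ(S, V) := fun u => h ⟨u.1, hUV u.1 u.2⟩
  have hφ : Topology.IsInducing φ :=
    h.isInducing.comp (Topology.IsInducing.subtypeVal.codRestrict (fun u : U => hUV u.1 u.2))
  have hinj : Function.Injective φ := by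
    intro u u' huu'
    have := h.injective huu'
    exact Subtype.ext (congrArg (fun v : (V : Set S) => v.1) this)
  have hrange : Set.range φ = D := by
    apply Set.eq_of_subset_of_subset
    · rintro _ ⟨u, rfl⟩
      exact hUD u.1 u.2
    · intro d hd
      have hmem : (h.symm d).1 ∈ U := ⟨h.symm d, by simpa using hd, rfl⟩
      refine ⟨⟨(h.symm d).1, hmem⟩, ?_⟩
      show h ⟨(h.symm d).1, _⟩ = d
      exact h.apply_symm_apply d
  refine ⟨U, ⟨⟨s, hsV⟩, hfp, rfl⟩, fun u => δ (φ u), ?_⟩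
  apply isDimensionFunction_comp φ hφ hinj δ
  · intro y y' hy'
    rw [hrange] at hy'
    exact h1 y y' hy'
  · intro y y' hy' hsp hne himm
    rw [hrange] at hy' himm
    exact h2 y y' hy' hsp hne himm

theorem catenary_of_dim (S : Scheme.{u})
    (H : ∀ s : S, ∃ U : S.Opens, s ∈ U ∧ ∃ δ : U → ℤ, PtTop.IsDimensionFunction δ) :
    PtTop.IsCatenarySpace S := by
  apply Groth.Agent.S12445.of_cover
  intro s
  obtain ⟨U, hsU, δ, hδ⟩ := H s
  refine ⟨U, hsU, ?_⟩
  haveI : QuasiSober (U : Set S) := U.isOpenEmbedding'.quasiSober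
  exact (Groth.Agent.S7577.result δ hδ).1

theorem main (S : Scheme.{u}) [IsLocallyNoetherian S] :
    PtTop.IsCatenarySpace S ↔
      ∀ s : S, ∃ U : S.Opens, s ∈ U ∧ ∃ δ : U → ℤ, PtTop.IsDimensionFunction δ :=
  ⟨fun h s => exists_dim_scheme S h s, catenary_of_dim S⟩

/-- Let S be a locally Noetherian scheme. Then the underlying topological space of S is catenary if and
only if locally in the Zariski topology there is a dimension function, i.e. every point has an open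
neighbourhood U carrying a function δ : U → ℤ which strictly decreases along nontrivial
specializations and drops by exactly one along immediate specializations. -/
theorem result (S : Scheme.{u}) [IsLocallyNoetherian S] :
    PtTop.IsCatenarySpace S ↔
      ∀ s : S, ∃ U : S.Opens, s ∈ U ∧ ∃ δ : U → ℤ, PtTop.IsDimensionFunction δ := by
  exact main S

end Groth.Agent.S12447
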