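-- Statement S4881.
import Groth.Statements.S4881
import Groth.Agent.S12445
import Mathlib

set_option autoImplicit false
universe u
open CategoryTheory AlgebraicGeometry
open EGA43

namespace Groth.Agent.S4881

open TopologicalSpace

section Top

variable {X : Type u} [TopologicalSpace X]

/-- the preimage in a subspace `Z` of an irreducible set contained in `Z` is irreducible -/
theorem isIrreducible_preimage_val {Z T : Set X} (hsub : T ⊆ Z) (hT : IsIrreducible T) :
    IsIrreducible ((Subtype.val : Z → X) ⁻¹' T) := by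
  obtain ⟨x, hx⟩ := hT.nonempty
  refine ⟨⟨⟨x, hsub hx⟩, hx⟩, ?_⟩
  intro u v hu hv hnu hnv
  obtain ⟨u', hu', rfl⟩ := Topology.IsInducing.subtypeVal.isOpen_iff.mp hu
  obtain ⟨v', hv', rfl⟩ := Topology.IsInducing.subtypeVal.isOpen_iff.mp hv
  obtain ⟨y₁, hy₁c, hy₁u⟩ := hnu
  obtain ⟨y₂, hy₂c, hy₂v⟩ := hnv
  obtain ⟨z, hzT, hzu, hzv⟩ := hT.isPreirreducible u' v' hu' hv' ⟨y₁.1, hy₁c, hy₁u⟩
    ⟨y₂.1, hy₂c, hy₂v⟩
  exact ⟨⟨z, hsub hzT⟩, hzT, hzu, hzv⟩

/-- A chain of irreducible closed subsets of `X` contained in the closed subset `Z` has length at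
most the dimension of `Z`. -/
theorem length_le_of_subset_closed (Z : Set X) (s : LTSeries (IrreducibleCloseds X))
    (hs : (s.last : Set X) ⊆ Z) : (s.length : WithBot ℕ∞) ≤ topologicalKrullDim Z := by
  have hsub : ∀ i, (s i : Set X) ⊆ Z := fun i =>
    (show (s i : Set X) ⊆ s.last from s.monotone (Fin.le_last i)).trans hs
  let t : LTSeries (IrreducibleCloseds Z) :=
    LTSeries.mk s.length
      (fun i => ⟨(Subtype.val : Z → X) ⁻¹' (s i : Set X),
        isIrreducible_preimage_val (hsub i) (s i).isIrreducible,
        (s i).isClosed.preimage continuous_subtype_val⟩)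
      (by
        intro i j hij
        have hlt : s i < s j := s.strictMono hij
        refine lt_of_le_of_ne (fun z hz => hlt.le hz) (fun heq => hlt.ne ?_)
        apply IrreducibleCloseds.ext
        have h1 : ((Subtype.val : Z → X) ⁻¹' (s i : Set X)) =
            ((Subtype.val : Z → X) ⁻¹' (s j : Set X)) :=
          congrArg (fun T : IrreducibleCloseds Z => (T : Set Z)) heq
        have h2 := congrArg (fun T => (Subtype.val : Z → X) '' T) h1
        simp only [Subtype.image_preimage_coe] at h2
        rwa [Set.inter_eq_right.mpr (hsub i), Set.inter_eq_right.mpr (hsub j)] at h2)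
  exact Order.LTSeries.length_le_krullDim t

end Top

theorem main (X : Scheme.{u}) [IsLocallyNoetherian X] [JacobsonSpace X]
    (h3 : ∀ X' ∈ irreducibleComponents (X : Type u), ∀ x ∈ X', IsClosed ({x} : Set X) →
      topologicalKrullDim (↥X' : Type u) = topologicalKrullDim ↥{t : X | t ∈ X' ∧ t ⤳ x})
    (U : Set X) (hU : IsOpen U) (hd : Dense U) :
    topologicalKrullDim ↥U = topologicalKrullDim X := by
  apply le_antisymm (topologicalKrullDim_subspace_le X U)
  unfold topologicalKrullDim Order.krullDim
  refine iSup_le fun s => ?_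
  -- a component containing the last member
  obtain ⟨X', hX', hsX'⟩ := exists_mem_irreducibleComponents_subset_of_isIrreducible
    (s.last : Set X) s.last.isIrreducible
  have hn : (s.length : WithBot ℕ∞) ≤ topologicalKrullDim X' :=
    length_le_of_subset_closed X' s hsX'
  -- a nonempty open subset of X contained in X'
  obtain ⟨η, hη⟩ := hX'.1.nonempty
  obtain ⟨W, hW, hηW, -⟩ := TopologicalSpace.Opens.isBasis_iff_nbhd.mp X.isBasis_affineOpens
    (U := ⊤) (x := η) trivial
  haveI : IsNoetherianRing Γ(X, W) := IsLocallyNoetherian.component_noetherian ⟨W, hW⟩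
  haveI : NoetherianSpace (W : Set X) :=
    (noetherianSpace_iff_of_homeomorph (Groth.Agent.S12445.homeo hW)).mpr inferInstance
  have hZ : ((Subtype.val : ↥(W : Set X) → X) ⁻¹' X') ∈ irreducibleComponents ↥(W : Set X) :=
    preimage_mem_irreducibleComponents hX' W.isOpenEmbedding'
      ⟨η, hη, by rw [Subtype.range_coe]; exact hηW⟩
  obtain ⟨o, ho, hone, hoZ⟩ :=
    NoetherianSpace.exists_isOpen_nonempty_subset_irreducibleComponent _ hZ
  have hoX : IsOpen ((Subtype.val : ↥(W : Set X) → X) '' o) := W.2.isOpenMap_subtype_val _ ho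
  obtain ⟨w, hwo⟩ := hone
  obtain ⟨y, hyo, hyU⟩ := hd.inter_open_nonempty _ hoX ⟨w.1, w, hwo, rfl⟩
  have hyX' : y ∈ X' := by
    obtain ⟨w', hw', rfl⟩ := hyo
    exact hoZ hw'
  -- a closed point in U ∩ X'
  have hX'closed : IsClosed X' := isClosed_of_mem_irreducibleComponents X' hX'
  have hcl := JacobsonSpace.closure_inter_closedPoints (X := X) hX'closed
  have hy' : y ∈ closure (X' ∩ closedPoints X) := by rw [hcl]; exact hyX'
  obtain ⟨x, hxU, hxX', hxc⟩ := mem_closure_iff.mp hy' U hU hyU
  -- generizations of x in X' lie in U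
  let G : Set X := {t : X | t ∈ X' ∧ t ⤳ x}
  have hGU : G ⊆ U := fun t ht => ht.2.mem_open hU hxU
  have hdimG : topologicalKrullDim G ≤ topologicalKrullDim U :=
    Topology.IsInducing.topologicalKrullDim_le (f := Set.inclusion hGU)
      (Topology.IsEmbedding.inclusion hGU).isInducing
  rw [h3 X' hX' x hxX' hxc] at hn
  exact hn.trans hdimG

/-- Let X be a locally Noetherian scheme which is Jacobson, whose local rings are universally catenary,
and whose irreducible components X' are equidimensional in the sense that for every closed point x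
of X' the dimension of X' equals the dimension of the set of generizations of x in X'. Then for
every dense open subset U of X, dim U = dim X. -/
theorem result (X : Scheme.{u}) [IsLocallyNoetherian X] [JacobsonSpace X]
    (h2 : ∀ x : X, CAlg.IsUniversallyCatenary (X.presheaf.stalk x))
    (h3 : ∀ X' ∈ irreducibleComponents (X : Type u), ∀ x ∈ X', IsClosed ({x} : Set X) →
      topologicalKrullDim (↥X' : Type u) = topologicalKrullDim ↥{t : X | t ∈ X' ∧ t ⤳ x})
    (U : Set X) (hU : IsOpen U) (hd : Dense U) :
    topologicalKrullDim ↥U = topologicalKrullDim X := by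
  exact main X h3 U hU hd

end Groth.Agent.S4881
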