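import Groth.Statements.S0402
import Mathlib
import Groth.Agent.Lib.H56LocDimSch
import Groth.Agent.Lib.H56LocDimRing

set_option autoImplicit false
universe u
open FlatMor

namespace Groth.Agent.S0402

open AlgebraicGeometry CategoryTheory Limits in
/-- For a morphism locally of finite type and an integer n, the points of the source at which the fibre
through them has local dimension at most n form an open set (upper semicontinuity of fibre dimension
on the source). -/
theorem result {X S : Scheme.{u}} (f : X ⟶ S) [LocallyOfFiniteType f] (n : ℕ) :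
    IsOpen {x : X | FlatMor.fibreDimAt f x ≤ n} := by
  rw [isOpen_iff_forall_mem_open]
  intro x hx
  obtain ⟨_, ⟨V, hV, rfl⟩, hxV, -⟩ := S.isBasis_affineOpens.exists_subset_of_mem_open
    (Set.mem_univ (f.base x)) isOpen_univ
  obtain ⟨_, ⟨U, hU, rfl⟩, hxU, hUV⟩ := X.isBasis_affineOpens.exists_subset_of_mem_open
    hxV (f ⁻¹ᵁ V).2
  have hft : (f.appLE V U hUV).hom.FiniteType := f.finiteType_appLE hV hU hUV
  let _ : Algebra Γ(S, V) Γ(X, U) := (f.appLE V U hUV).hom.toAlgebra
  have hft' : Algebra.FiniteType Γ(S, V) Γ(X, U) := hft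
  have hopen := Groth.Agent.Lib.H56LocDim.isOpen_fibLocDim_le (R := Γ(S, V)) (A := Γ(X, U)) n
  have hkey : ∀ q : PrimeSpectrum Γ(X, U), FlatMor.fibreDimAt f (hU.fromSpec.base q) =
      Groth.Agent.Lib.H56LocDim.fibLocDim (PrimeSpectrum.comap (algebraMap Γ(S, V) Γ(X, U))) q :=
    fun q => Groth.Agent.Lib.H56LocDim.fibreDimAt_fromSpec f hU hV hUV q
  refine ⟨hU.fromSpec.base '' {q : PrimeSpectrum Γ(X, U) |
      Groth.Agent.Lib.H56LocDim.fibLocDim (PrimeSpectrum.comap (algebraMap Γ(S, V) Γ(X, U))) q ≤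
        (n : WithBot ℕ∞)}, ?_, hU.fromSpec.isOpenEmbedding.isOpenMap _ hopen, ?_⟩
  · rintro _ ⟨q, hq, rfl⟩
    change FlatMor.fibreDimAt f _ ≤ _
    rw [hkey]
    exact hq
  · have hxr : x ∈ Set.range hU.fromSpec.base := by
      rw [hU.range_fromSpec]; exact hxU
    obtain ⟨q, rfl⟩ := hxr
    exact ⟨q, le_of_eq_of_le (hkey q).symm hx, rfl⟩

end Groth.Agent.S0402
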