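import Groth.Statements.S1881
import Groth.Agent.Lib.GrpdSat13
import Groth.Agent.Lib.AffComp13a

set_option autoImplicit false
universe u
open CategoryTheory CategoryTheory.Limits AlgebraicGeometry
open Grpd

namespace Groth.Agent.S1881

/-- Let (U, R, s, t, c) be a groupoid scheme over S with s, t finite locally free, and u a point of U
for which some affine open of U contains t(s⁻¹{u}). Then u has an R-invariant affine open
neighbourhood W (that is, s⁻¹W = t⁻¹W). (A groupoid scheme carries U, R, s, t, c, e, i over S with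
the groupoid axioms on T-points; 'finite locally free' is finite, flat and locally of finite
presentation; C ⊂ Γ(U) is the ring of functions a with s♯(a) = t♯(a) and M = Spec C.) -/
theorem result (S : Scheme.{u}) (G : Grpd.GroupoidScheme S) [IsFinite G.s] [Flat G.s] [LocallyOfFinitePresentation G.s] [IsFinite G.t] [Flat G.t] [LocallyOfFinitePresentation G.t] (u : G.U) (V : G.U.Opens) (hV : IsAffineOpen V) (huV : ∀ r : G.R, G.s r = u → G.t r ∈ V) : ∃ W : G.U.Opens, IsAffineOpen W ∧ u ∈ W ∧ G.s ⁻¹ᵁ W = G.t ⁻¹ᵁ W := by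
  classical
  have hu : u ∈ Lib.GrpdSat13.satOpens G V := fun r hr => huV r hr
  let O : Set G.U := G.t '' (G.s ⁻¹' {u})
  have hOfin : O.Finite := (G.s.finite_preimage_singleton u).image _
  have hOW : O ⊆ Lib.GrpdSat13.satOpens G V := by
    rintro _ ⟨r, hr, rfl⟩
    have hr' : G.s r = u := hr
    exact Lib.GrpdSat13.t_mem_sat_of_s_mem_sat G V r (by rw [hr']; exact hu)
  have hOV : O ⊆ V := fun x hx => Lib.GrpdSat13.satOpens_le G V (hOW hx)
  obtain ⟨f, hf1, hf2⟩ := Lib.AffComp13a.exists_basicOpen_of_finite_of_isAffineOpen hV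
    (Lib.GrpdSat13.satOpens G V) O hOfin hOV hOW
  have hD : IsAffineOpen (G.U.basicOpen f) := hV.basicOpen f
  have hle : G.s ⁻¹ᵁ G.U.basicOpen f ≤ G.t ⁻¹ᵁ V := by
    intro r hr
    exact hf2 hr r rfl
  refine ⟨Lib.GrpdSat13.satOpens G (G.U.basicOpen f),
    Lib.GrpdSat13.isAffineOpen_satOpens G V f hD hle, ?_, Lib.GrpdSat13.preimage_satOpens G _⟩
  intro r hr
  exact hf1 ⟨r, hr, rfl⟩

end Groth.Agent.S1881
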