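import Groth.Statements.S2080
import Groth.Agent.Lib.GenFinMain45

set_option autoImplicit false
universe u
open CategoryTheory AlgebraicGeometry
open Mor

namespace Groth.Agent.S2080

/-- Let `f : X → Y` be locally of finite type, quasi-compact and quasi-separated, and `η` a generic
point of an irreducible component of `Y`. Then `f⁻¹{η}` is finite if and only if there is an affine
open `V ∋ η` such that `f⁻¹(V) → V` is finite. -/
theorem result {X Y : Scheme.{u}} (f : X ⟶ Y) [LocallyOfFiniteType f]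
    [QuasiCompact f] [QuasiSeparated f] (η : Y) (hη : closure {η} ∈ irreducibleComponents (Y : Type u)) :
    (f.base ⁻¹' {η}).Finite ↔ ∃ V : Y.Opens, IsAffineOpen V ∧ η ∈ V ∧ IsFinite (f ∣_ V) := by
  constructor
  · intro hfin
    have hgenη : ∀ y : Y, y ⤳ η → y = η := fun y h =>
      Groth.Agent.Lib.GenFin45.eq_of_specializes_of_mem_irreducibleComponents hη h
    obtain ⟨_, ⟨V₀, hV₀, rfl⟩, hηV₀, -⟩ := Y.isBasis_affineOpens.exists_subset_of_mem_open
      (Set.mem_univ η) isOpen_univ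
    replace hV₀ : IsAffineOpen V₀ := hV₀
    obtain ⟨V₀, rfl⟩ : ∃ V' : Y.Opens, V' = V₀ := ⟨V₀, rfl⟩
    have hqs : IsQuasiSeparated (f ⁻¹ᵁ V₀ : Set X) := f.isQuasiSeparated_preimage hV₀.isQuasiSeparated
    have hFW : f ⁻¹' {η} ⊆ (f ⁻¹ᵁ V₀ : Set X) := by
      intro x hx
      have hx' : f x = η := hx
      change f x ∈ V₀
      rw [hx']
      exact hηV₀
    obtain ⟨U, hU, hUW, hFU⟩ := Groth.Agent.Lib.GenFin45.exists_isAffineOpen_of_finite
      (f ⁻¹ᵁ V₀) hqs (f ⁻¹' {η}) hfin hFW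
      (fun ξ hξ x hx =>
        Groth.Agent.Lib.GenFin45.eq_of_specializes_of_finite_fibre f η hgenη hfin hξ hx)
    obtain ⟨V, hV, hηV, -, hfinV⟩ :=
      Groth.Agent.Lib.GenFinMain45.exists_isFinite_morphismRestrict_of_affine f η hgenη hV₀ hηV₀
        hU hUW hFU hfin
    exact ⟨V, hV, hηV, hfinV⟩
  · rintro ⟨V, hV, hηV, hfinV⟩
    have h1 := (f ∣_ V).finite_preimage_singleton ⟨η, hηV⟩
    refine (h1.image (f ⁻¹ᵁ V).ι).subset ?_
    intro x hx
    have hx' : f x = η := hx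
    have hxV : x ∈ f ⁻¹ᵁ V := by
      change f x ∈ V
      rw [hx']
      exact hηV
    let x' : (f ⁻¹ᵁ V : Scheme.{u}) := ⟨x, hxV⟩
    refine ⟨x', ?_, rfl⟩
    apply Subtype.ext
    have h2 : V.ι ((f ∣_ V) x') = ((f ∣_ V) ≫ V.ι) x' := rfl
    have h3 : ((f ⁻¹ᵁ V).ι ≫ f) x' = f x := rfl
    rw [morphismRestrict_ι, h3, hx'] at h2
    exact h2

end Groth.Agent.S2080
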