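import Groth.Statements.S9911
-- import your own Groth.Agent.* helpers here
import Groth.Agent.Lib.AlgSpDescent

set_option autoImplicit false
universe u
open CategoryTheory CategoryTheory.Limits AlgebraicGeometry
open AlgSp

namespace Groth.Agent.S9911

/-- A morphism from an algebraic space to the spectrum of a field is universally open. -/
theorem result {S : Scheme.{u}} (X : AlgSp.Space S) {k : Type u} [Field k]
    (str : Spec (CommRingCat.of k) ⟶ S) (p : X ⟶ (AlgSp.ofScheme S).obj (Over.mk str)) :
    AlgSp.IsUnivOpenMor p.hom := by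
  intro Z Z' hZ g fst' snd' sq'
  obtain ⟨U, qU, hUe, hUs⟩ := X.property.atlas
  obtain ⟨A, qA, hAe, hAs⟩ := hZ.atlas
  obtain ⟨W, q, wU, wA, hqe, hqs, -, e2, sqW⟩ :=
    Groth.Agent.Lib.AlgSpFibre.exists_atlas_of_isPullback
      (AlgSp.IsAlgSpace.yon_obj (Over.mk str)).diag sq' qU qA hUe hUs hAe hAs
  obtain ⟨u, hu⟩ := (AlgSp.yon S).map_surjective (qU ≫ p.hom)
  have hu1 : UniversallyOpen u.left := by
    have : IsIntegral (Over.mk str).left := by
      change IsIntegral (Spec (CommRingCat.of k)); infer_instance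
    have : Subsingleton ↥(Over.mk str).left := by
      change Subsingleton ↥(Spec (CommRingCat.of k)); infer_instance
    infer_instance
  have hu2 : AlgSp.RepWith @UniversallyOpen (qU ≫ p.hom) := by
    have h := (AlgSp.repWith_yon_map_iff @UniversallyOpen u).2 hu1
    rw [hu] at h
    exact h
  have h1 : AlgSp.RepWith @UniversallyOpen ((AlgSp.yon S).map wA) :=
    (AlgSp.RepWith @UniversallyOpen).of_isPullback sqW hu2
  have h2 : UniversallyOpen wA.left := (AlgSp.repWith_yon_map_iff @UniversallyOpen wA).1 h1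
  have h3 : IsOpenMap (AlgSp.Points.map ((AlgSp.yon S).map wA)) :=
    (Groth.Agent.Lib.AlgSpPoints.isOpenMap_map_yon_map_iff wA).2 wA.left.isOpenMap
  have h4 : IsOpenMap (AlgSp.Points.map (q ≫ snd')) := by
    rw [e2]
    have : AlgSp.Points.map ((AlgSp.yon S).map wA ≫ qA) =
        AlgSp.Points.map qA ∘ AlgSp.Points.map ((AlgSp.yon S).map wA) := by
      funext x; exact AlgSp.Points.map_comp _ _ x
    rw [this]
    exact (Groth.Agent.Lib.AlgSpQC.isOpenMap_map_of_repWith_etale hAe).comp h3
  exact Groth.Agent.Lib.AlgSpDescent.isOpenMap_map_of_comp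
    (Groth.Agent.Lib.AlgSpQC.surjective_map_of_repWith_surjective hqs) h4

end Groth.Agent.S9911
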