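import Groth.Statements.S15821
import Groth.Agent.Lib.KoszulCone

set_option autoImplicit false
universe u
open CategoryTheory
open Koszul

namespace Groth.Agent.S15821

theorem kcx_eq (A : Type u) [CommRing A] :
    ∀ l : List A, Groth.Agent.Lib.KoszulCone.kcx (ModuleCat.of A A) l = Koszul.koszul A l
  | [] => rfl
  | f :: l => by
    show CochainComplex.mappingCone (f • 𝟙 (Groth.Agent.Lib.KoszulCone.kcx (ModuleCat.of A A) l)) =
      CochainComplex.mappingCone (f • 𝟙 (Koszul.koszul A l))
    rw [kcx_eq A l]

/-- Let A be a commutative ring and f = (f_1, …, f_r) a sequence in A which is regular in the weak sense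
(f_1 is a non-zero-divisor of A and each f_i is a non-zero-divisor of A/(f_1, …, f_{i-1}); no
condition A/(f) ≠ 0). Then the Koszul complex K(f) (iterated mapping-cone model, degrees -r, …, 0)
has vanishing cohomology in all nonzero degrees, i.e. f is Koszul-regular, and its cohomology in
degree 0 is isomorphic as an A-module to A/(f_1, …, f_r) (existence of an A-linear isomorphism):
K(f) is a free resolution of A/(f). -/
theorem result (A : Type u) [CommRing A] (l : List A)
    (hl : RingTheory.Sequence.IsWeaklyRegular A l) :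
    LCI.IsKoszulRegularSeq A l ∧
      Nonempty ((Koszul.koszul A l).homology 0 ≅ ModuleCat.of A (A ⧸ Ideal.ofList l)) := by
  have hiso : ∀ i : ℤ, (Groth.Agent.Lib.KoszulCone.kcx (ModuleCat.of A A) l).homology i ≅
      (Koszul.koszul A l).homology i := fun i =>
    (HomologicalComplex.homologyFunctor _ _ i).mapIso (eqToIso (kcx_eq A l))
  refine ⟨?_, ?_⟩
  · intro i hi
    exact Limits.IsZero.of_iso
      (Groth.Agent.Lib.KoszulCone.isZero_homology_of_isWeaklyRegular l A hl i hi) (hiso i).symm
  · obtain ⟨e⟩ := Groth.Agent.Lib.KoszulCone.nonempty_homology_zero_iso_of_isWeaklyRegular l A hl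
    have e2 : (A ⧸ (Ideal.ofList l • ⊤ : Submodule A A)) ≃ₗ[A] (A ⧸ Ideal.ofList l) :=
      Submodule.quotEquivOfEq _ _ (by simp)
    exact ⟨(hiso 0).symm ≪≫ e ≪≫ e2.toModuleIso⟩

end Groth.Agent.S15821

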