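import Groth.Statements.S5600
import Groth.Agent.Lib.H43ConeMod
import Mathlib.Algebra.Homology.Embedding.CochainComplex

set_option autoImplicit false
universe w v u
open CategoryTheory CategoryTheory.Limits
open PCoh

namespace Groth.Agent.S5600

/-- Let C be an abelian category, n an integer, and u : E ⟶ F a morphism of cochain complexes of C which
is an n-quasi-isomorphism (an isomorphism on H^i for i > n and an epimorphism on H^n). Then u = v ≫
u' with u' : E' ⟶ F a quasi-isomorphism and v : E ⟶ E' a monomorphism in each degree which is an
isomorphism in every degree ≥ n. (The source obtains v equal to the identity in degrees ≥ n; stated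
here up to isomorphism in those degrees.) -/
theorem result {C : Type u} [Category.{v} C] [Abelian C]
    (n : ℤ) (E F : CochainComplex C ℤ) (u : E ⟶ F)
    (hiso : ∀ i : ℤ, n < i → IsIso (HomologicalComplex.homologyMap u i))
    (hepi : Epi (HomologicalComplex.homologyMap u n)) :
    ∃ (E' : CochainComplex C ℤ) (v : E ⟶ E') (u' : E' ⟶ F), v ≫ u' = u ∧ QuasiIso u' ∧
      (∀ i : ℤ, Mono (v.f i)) ∧ (∀ i : ℤ, n ≤ i → IsIso (v.f i)) := by
  have hex : ∀ i : ℤ, n ≤ i → (CochainComplex.mappingCone u).ExactAt i := by
    intro i hi
    have h1 : Mono (HomologicalComplex.homologyMap u (i + 1)) := by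
      have := hiso (i + 1) (by lia)
      infer_instance
    have h2 : Epi (HomologicalComplex.homologyMap u i) := by
      rcases hi.lt_or_eq with h | h
      · have := hiso i h
        infer_instance
      · rw [← h]; exact hepi
    exact Groth.Agent.Lib.H43ConeMod.exactAt_mappingCone u i h1 h2
  have hLE : (CochainComplex.mappingCone u).IsLE (n - 1) := by
    rw [CochainComplex.isLE_iff]
    intro i hi
    exact hex i (by lia)
  have hq : QuasiIso ((CochainComplex.mappingCone u).ιTruncLE (n - 1)) := inferInstance
  have hj : ∀ i : ℤ, IsIso (HomologicalComplex.homologyMap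
      ((CochainComplex.mappingCone u).ιTruncLE (n - 1)) i) := by
    intro i
    rw [← quasiIsoAt_iff_isIso_homologyMap]
    infer_instance
  obtain ⟨E', v, u', hvu, hmono, hzero, -, hE, hM⟩ :=
    Groth.Agent.Lib.H43ConeMod.exists_modification u
      ((CochainComplex.mappingCone u).ιTruncLE (n - 1))
  refine ⟨E', v, u', hvu, ?_, hmono, fun i hi => hzero i ?_⟩
  · rw [quasiIso_iff]
    intro i
    rw [quasiIsoAt_iff_isIso_homologyMap]
    have h1 : Epi (HomologicalComplex.homologyMap u' i) := hE i (by
      have := hj i
      infer_instance)
    have h2 : Mono (HomologicalComplex.homologyMap u' i) := hM i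
      (by have := hj (i - 1); infer_instance) (by have := hj i; infer_instance)
    exact isIso_of_mono_of_epi _
  · exact ((CochainComplex.mappingCone u).truncLE (n - 1)).isZero_of_isStrictlyLE (n - 1) i
      (by lia)

end Groth.Agent.S5600
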