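import Groth.Statements.S5602
import Mathlib.Algebra.Homology.ShortComplex.HomologicalComplex

set_option autoImplicit false
universe w v u
open CategoryTheory CategoryTheory.Limits
open PCoh

namespace Groth.Agent.S5602

variable {C : Type u} [Category.{v} C] [Abelian C]

/-- the index `n + i`, defined recursively so that `idx (i+1) = idx i + 1` holds by `rfl`. -/
def idx (n : ℤ) : ℕ → ℤ
  | 0 => n
  | (i + 1) => idx n i + 1

theorem idx_eq (n : ℤ) (i : ℕ) : idx n i = n + i := by
  induction i with
  | zero => simp [idx]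
  | succ i ih => simp [idx, ih]; omega

/-- objects of the augmented complex `0 → Z^n → E^n → E^{n+1} → ⋯` -/
noncomputable def augX (n : ℤ) (E : CochainComplex C ℤ) : ℕ → C
  | 0 => E.cycles n
  | (i + 1) => E.X (idx n i)

noncomputable def augD (n : ℤ) (E : CochainComplex C ℤ) : ∀ i : ℕ, augX n E i ⟶ augX n E (i + 1)
  | 0 => E.iCycles n
  | (i + 1) => E.d (idx n i) (idx n i + 1)

theorem augD_sq (n : ℤ) (E : CochainComplex C ℤ) : ∀ i : ℕ, augD n E i ≫ augD n E (i + 1) = 0
  | 0 => E.iCycles_d n (n + 1)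
  | (i + 1) => E.d_comp_d _ _ _

noncomputable def aug (n : ℤ) (E : CochainComplex C ℤ) : CochainComplex C ℕ :=
  CochainComplex.of (augX n E) (augD n E) (augD_sq n E)

theorem aug_d (n : ℤ) (E : CochainComplex C ℤ) (i : ℕ) : (aug n E).d i (i + 1) = augD n E i :=
  CochainComplex.of_d _ _ i

theorem result {C : Type u} [Category.{v} C] [Abelian C]
    (P : ObjectProperty C) [P.IsClosedUnderIsomorphisms] (hqs : PCoh.IsQuasiStableUnderKernels P)
    (n : ℤ) (E : CochainComplex C ℤ) (hE : PCoh.IsStrictPC P n E)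
    (hac : ∀ i : ℤ, n < i → IsZero (E.homology i)) :
    PCoh.IsOfFiniteType P (E.homology n) := by
  obtain ⟨⟨b, hb⟩, hP⟩ := hE
  have hft : PCoh.IsOfFiniteType P ((aug n E).X 0) := by
    apply hqs (aug n E)
    · intro i
      rcases i with _ | _ | i
      · rw [(aug n E).exactAt_iff' 0 0 1 (by simp) (by simp)]
        rw [ShortComplex.exact_iff_mono _ ((aug n E).shape 0 0 (by simp))]
        change Mono ((aug n E).d 0 (0 + 1))
        rw [aug_d]
        change Mono (E.iCycles n)
        infer_instance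
      · rw [(aug n E).exactAt_iff' 0 1 2 (by simp) (by simp)]
        have hex : (ShortComplex.mk (E.iCycles n) (E.d n (n + 1)) (E.iCycles_d n (n + 1))).Exact :=
          ShortComplex.exact_of_f_is_kernel _ (E.cyclesIsKernel n (n + 1) (by simp))
        refine ShortComplex.exact_of_iso ?_ hex
        refine ShortComplex.isoMk (Iso.refl _) (Iso.refl _) (Iso.refl _) ?_ ?_
        · change 𝟙 _ ≫ (aug n E).d 0 (0 + 1) = E.iCycles n ≫ 𝟙 _
          rw [aug_d, Category.id_comp, Category.comp_id]
          rfl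
        · change 𝟙 _ ≫ (aug n E).d 1 (1 + 1) = E.d n (n + 1) ≫ 𝟙 _
          rw [aug_d, Category.id_comp, Category.comp_id]
          rfl
      · rw [(aug n E).exactAt_iff' (i + 1) (i + 2) (i + 3) (by simp) (by simp)]
        have hz : IsZero (E.homology (idx n i + 1)) := hac _ (by rw [idx_eq]; omega)
        have hex : (E.sc' (idx n i) (idx n i + 1) (idx n i + 1 + 1)).Exact := by
          rw [← E.exactAt_iff' (idx n i) (idx n i + 1) (idx n i + 1 + 1) (by simp) (by simp)]
          exact (E.exactAt_iff_isZero_homology _).mpr hz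
        refine ShortComplex.exact_of_iso ?_ hex
        refine ShortComplex.isoMk (Iso.refl _) (Iso.refl _) (Iso.refl _) ?_ ?_
        · change 𝟙 _ ≫ (aug n E).d (i + 1) (i + 1 + 1) = E.d (idx n i) (idx n i + 1) ≫ 𝟙 _
          rw [aug_d, Category.id_comp, Category.comp_id]
          rfl
        · change 𝟙 _ ≫ (aug n E).d (i + 2) (i + 2 + 1) = E.d (idx n i + 1) (idx n i + 1 + 1) ≫ 𝟙 _
          rw [aug_d, Category.id_comp, Category.comp_id]
          rfl
    · refine ⟨(b - n).toNat + 1, fun i hi => ?_⟩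
      obtain ⟨j, rfl⟩ : ∃ j, i = j + 1 := ⟨i - 1, by omega⟩
      change IsZero (E.X (idx n j))
      apply hb
      rw [idx_eq]
      omega
    · intro i hi
      obtain ⟨j, rfl⟩ : ∃ j, i = j + 1 := ⟨i - 1, by omega⟩
      change P (E.X (idx n j))
      apply hP
      rw [idx_eq]
      omega
  obtain ⟨E', π, hE', hπ⟩ := hft
  let π' : E' ⟶ E.cycles n := π
  have hπ' : Epi π' := hπ
  exact ⟨E', π' ≫ E.homologyπ n, hE', epi_comp _ _⟩

end Groth.Agent.S5602
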