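import Groth.Statements.S5628
import Groth.Agent.Lib.H43ConeMod
import Mathlib.Algebra.Homology.Single

set_option autoImplicit false
universe v u
open CategoryTheory CategoryTheory.Limits
open PCoh

namespace Groth.Agent.S5628

/-- Let C be an abelian category and C₀ a strictly full additive subcategory which is quasi-liftable in
C. Let u : E ⟶ F be an (n+1)-quasi-isomorphism of cochain complexes (isomorphism on H^i for i > n+1,
epimorphism on H^{n+1}) such that H^n of the mapping cone of u is of C₀-finite type. Then, modifying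
E in degree n only by adding an object of C₀, u becomes an n-quasi-isomorphism: u = v ≫ u' with v :
E ⟶ E' a monomorphism in each degree, an isomorphism in every degree ≠ n, with cokernel in degree n
an object of C₀, and u' : E' ⟶ F an isomorphism on H^i for i > n and an epimorphism on H^n. -/
theorem result {C : Type u} [Category.{v} C] [Abelian C]
    (P : ObjectProperty C) [P.IsClosedUnderIsomorphisms] [P.ContainsZero] (hsum : ∀ X Y : C, P X → P Y → P (X ⨯ Y))
    (hql : PCoh.IsQuasiLiftable P)
    (n : ℤ) (E F : CochainComplex C ℤ) (u : E ⟶ F)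
    (hiso : ∀ i : ℤ, n + 1 < i → IsIso (HomologicalComplex.homologyMap u i))
    (hepi : Epi (HomologicalComplex.homologyMap u (n + 1)))
    (hcone : PCoh.IsOfFiniteType P ((CochainComplex.mappingCone u).homology n)) :
    ∃ (E' : CochainComplex C ℤ) (v : E ⟶ E') (u' : E' ⟶ F), v ≫ u' = u ∧ (∀ i : ℤ, Mono (v.f i)) ∧
      (∀ i : ℤ, i ≠ n → IsIso (v.f i)) ∧ P (cokernel (v.f n)) ∧
      (∀ i : ℤ, n < i → IsIso (HomologicalComplex.homologyMap u' i)) ∧
      Epi (HomologicalComplex.homologyMap u' n) := by
  obtain ⟨P₀, π₀, hP₀, hπ₀⟩ := hcone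
  let Cn := CochainComplex.mappingCone u
  let p := Cn.homologyπ n
  have hfst : Epi (pullback.fst π₀ p) := inferInstance
  obtain ⟨P', g, hP', hg⟩ := hql _ _ (pullback.fst π₀ p) hfst hP₀
  let z₀ : P' ⟶ Cn.cycles n := g ≫ pullback.snd π₀ p
  have hz₀ : Epi (z₀ ≫ p) := by
    have : z₀ ≫ p = (g ≫ pullback.fst π₀ p) ≫ π₀ := by
      dsimp only [z₀]
      rw [Category.assoc, Category.assoc, pullback.condition]
    rw [this]
    infer_instance
  let T : CochainComplex C ℤ := (HomologicalComplex.single C (ComplexShape.up ℤ) n).obj P'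
  let j : T ⟶ Cn := HomologicalComplex.mkHomFromSingle (z₀ ≫ Cn.iCycles n) (fun k _ => by
    rw [Category.assoc, HomologicalComplex.iCycles_d, comp_zero])
  have hjn : j.f n = (HomologicalComplex.singleObjXSelf (ComplexShape.up ℤ) n P').hom ≫
      z₀ ≫ Cn.iCycles n := HomologicalComplex.mkHomFromSingle_f _ _
  have hTz : ∀ i : ℤ, i ≠ n → IsZero (T.X i) := fun i hi =>
    HomologicalComplex.isZero_single_obj_X (ComplexShape.up ℤ) n P' i hi
  -- the cone is acyclic above n
  have hCz : ∀ i : ℤ, n < i → IsZero (Cn.homology i) := by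
    intro i hi
    have h1 : Mono (HomologicalComplex.homologyMap u (i + 1)) := by
      have := hiso (i + 1) (by lia)
      infer_instance
    have h2 : Epi (HomologicalComplex.homologyMap u i) := by
      rcases (show n + 1 ≤ i from hi).lt_or_eq with h | h
      · have := hiso i h
        infer_instance
      · rw [← h]; exact hepi
    exact Groth.Agent.Lib.H43ConeMod.isZero_homology_mappingCone u i h1 h2
  have hEj : ∀ i : ℤ, n ≤ i → Epi (HomologicalComplex.homologyMap j i) := by
    intro i hi
    rcases hi.lt_or_eq with h | h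
    · exact ⟨fun a b _ => (hCz i h).eq_of_src a b⟩
    · subst h
      rw [HomologicalComplex.epi_homologyMap_iff_up_to_refinements _ (n - 1) n (n + 1)
        (by simp) (by simp)]
      intro A y₂ hy₂
      obtain ⟨A₁, π₁, hπ₁, s, hs⟩ := surjective_up_to_refinements_of_epi (z₀ ≫ p)
        (Cn.liftCycles y₂ (n + 1) (by simp) hy₂ ≫ p)
      have hs' : (π₁ ≫ Cn.liftCycles y₂ (n + 1) (by simp) hy₂) ≫ Cn.homologyπ n =
          (s ≫ z₀) ≫ Cn.homologyπ n := by
        rw [Category.assoc, Category.assoc]; exact hs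
      rw [Cn.comp_homologyπ_eq_iff_up_to_refinements (n - 1) n (by simp)] at hs'
      obtain ⟨A₂, π₂, hπ₂, x₁, hx₁⟩ := hs'
      have hx₁' := hx₁ =≫ Cn.iCycles n
      simp only [Category.assoc, HomologicalComplex.liftCycles_i, Preadditive.add_comp,
        HomologicalComplex.toCycles_i] at hx₁'
      refine ⟨A₂, π₂ ≫ π₁, inferInstance,
        π₂ ≫ s ≫ (HomologicalComplex.singleObjXSelf (ComplexShape.up ℤ) n P').inv, ?_, x₁, ?_⟩
      · simp [T]
      · rw [Category.assoc, hx₁', hjn]
        simp
  have hMj : ∀ i : ℤ, n < i → Mono (HomologicalComplex.homologyMap j i) := by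
    intro i hi
    rw [HomologicalComplex.mono_homologyMap_iff_up_to_refinements _ (i - 1) i (i + 1)
      (by simp) (by simp)]
    intro A x₂ _ _ _
    exact ⟨A, 𝟙 A, inferInstance, 0, (hTz i (by lia)).eq_of_tgt _ _⟩
  obtain ⟨E', v, u', hvu, hmono, hzero, hcok, hE, hM⟩ :=
    Groth.Agent.Lib.H43ConeMod.exists_modification u j
  refine ⟨E', v, u', hvu, hmono, fun i hi => hzero i (hTz i hi), ?_, fun i hi => ?_,
    hE n (hEj n le_rfl)⟩
  · exact P.prop_of_iso ((hcok n).some ≪≫
      HomologicalComplex.singleObjXSelf (ComplexShape.up ℤ) n P').symm hP'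
  · have h1 : Epi (HomologicalComplex.homologyMap u' i) := hE i (hEj i hi.le)
    have h2 : Mono (HomologicalComplex.homologyMap u' i) :=
      hM i (hEj (i - 1) (by lia)) (hMj i hi)
    exact isIso_of_mono_of_epi _

end Groth.Agent.S5628
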