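import Groth.Statements.S5597
import Groth.Agent.Lib.H43ConeMod
import Groth.Agent.S5602
import Groth.Agent.S5628
import Groth.Agent.S5600

set_option autoImplicit false
universe w v u
open CategoryTheory CategoryTheory.Limits
open PCoh

namespace Groth.Agent.S5597

/-- one step of the downward induction -/
theorem step {C : Type u} [Category.{v} C] [Abelian C]
    (P : ObjectProperty C) [P.IsClosedUnderIsomorphisms] [P.ContainsZero]
    (hsum : ∀ X Y : C, P X → P Y → P (X ⨯ Y))
    (hqs : PCoh.IsQuasiStableUnderKernels P) (hql : PCoh.IsQuasiLiftable P)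
    (n b k : ℤ) (hk : n < k) (hkb : k ≤ b + 1) (E F : CochainComplex C ℤ)
    (hFb : ∀ i : ℤ, b < i → IsZero (F.X i)) (hFP : ∀ i : ℤ, n ≤ i → P (F.X i))
    (u : E ⟶ F) (hu : QuasiIso u)
    (G : CochainComplex C ℤ) (w : G ⟶ E) (hGP : ∀ i : ℤ, P (G.X i))
    (hGz : ∀ i : ℤ, i < k ∨ b < i → IsZero (G.X i))
    (hwi : ∀ i : ℤ, k < i → IsIso (HomologicalComplex.homologyMap w i))
    (hwe : Epi (HomologicalComplex.homologyMap w k)) :
    ∃ (G' : CochainComplex C ℤ) (w' : G' ⟶ E), (∀ i : ℤ, P (G'.X i)) ∧
      (∀ i : ℤ, i < k - 1 ∨ b < i → IsZero (G'.X i)) ∧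
      (∀ i : ℤ, k - 1 < i → IsIso (HomologicalComplex.homologyMap w' i)) ∧
      Epi (HomologicalComplex.homologyMap w' (k - 1)) := by
  have huI : ∀ i : ℤ, IsIso (HomologicalComplex.homologyMap u i) := by
    intro i
    rw [← quasiIsoAt_iff_isIso_homologyMap]
    infer_instance
  -- the cone of the composite
  let K := CochainComplex.mappingCone (w ≫ u)
  have hK : PCoh.IsStrictPC P (k - 1) K := by
    refine ⟨⟨b, fun i hi => ?_⟩, fun i hi => ?_⟩
    · rw [CochainComplex.mappingCone.isZero_X_iff]
      exact ⟨hGz _ (Or.inr (by lia)), hFb i hi⟩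
    · exact P.prop_of_iso ((HomologicalComplex.homotopyCofiber.XIsoBiprod (w ≫ u) i (i + 1) rfl) ≪≫
        biprod.isoProd _ _).symm (hsum _ _ (hGP (i + 1)) (hFP i (by lia)))
  have hKac : ∀ i : ℤ, k - 1 < i → IsZero (K.homology i) := by
    intro i hi
    apply Groth.Agent.Lib.H43ConeMod.isZero_homology_mappingCone
    · rw [HomologicalComplex.homologyMap_comp]
      have := hwi (i + 1) (by lia)
      have := huI (i + 1)
      infer_instance
    · rw [HomologicalComplex.homologyMap_comp]
      have := huI i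
      rcases (show k ≤ i by lia).lt_or_eq with h | h
      · have := hwi i h
        infer_instance
      · subst h
        infer_instance
  have hKft := Groth.Agent.S5602.result P hqs (k - 1) K hK hKac
  -- transfer to the cone of w
  have hm := Groth.Agent.Lib.H43ConeMod.quasiIso_mappingCone_map u w hu
  have hmI : IsIso (HomologicalComplex.homologyMap
      (CochainComplex.mappingCone.map w (w ≫ u) (𝟙 G) u (by simp)) (k - 1)) := by
    rw [← quasiIsoAt_iff_isIso_homologyMap]
    infer_instance
  have hcone : PCoh.IsOfFiniteType P ((CochainComplex.mappingCone w).homology (k - 1)) := by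
    obtain ⟨P₀, π₀, hP₀, hπ₀⟩ := hKft
    exact ⟨P₀, π₀ ≫ inv (HomologicalComplex.homologyMap
      (CochainComplex.mappingCone.map w (w ≫ u) (𝟙 G) u _) (k - 1)), hP₀, inferInstance⟩
  have hk1 : k - 1 + 1 = k := by lia
  obtain ⟨G', v, w', hvw, hvm, hvi, hvc, hw'i, hw'e⟩ :=
    Groth.Agent.S5628.result P hsum hql (k - 1) G E w
      (fun i hi => hwi i (by lia)) (by rw [hk1]; exact hwe) hcone
  refine ⟨G', w', fun i => ?_, fun i hi => ?_, hw'i, hw'e⟩
  · by_cases hi : i = k - 1
    · subst hi
      have hz : IsZero (G.X (k - 1)) := hGz _ (Or.inl (by lia))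
      let e : G'.X (k - 1) ≅ cokernel (v.f (k - 1)) :=
        { hom := cokernel.π _
          inv := cokernel.desc _ (𝟙 _) (hz.eq_of_src _ _)
          hom_inv_id := by rw [cokernel.π_desc]
          inv_hom_id := by
            rw [← cancel_epi (cokernel.π (v.f (k - 1))), cokernel.π_desc_assoc, Category.id_comp]
            exact (Category.comp_id _).symm }
      exact P.prop_of_iso e.symm hvc
    · have := hvi i hi
      exact P.prop_of_iso (asIso (v.f i)) (hGP i)
  · have hne : i ≠ k - 1 := by lia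
    have := hvi i hne
    exact IsZero.of_iso (hGz i (by lia)) (asIso (v.f i)).symm

/-- Punctual site: let C be an abelian category and C₀ a strictly full additive subcategory,
quasi-stable under kernels of epimorphisms and quasi-liftable. If F is strictly n-pseudo-coherent
(bounded above, terms in C₀ from degree n on) and u : E ⟶ F is a quasi-isomorphism of cochain
complexes, then E receives a quasi-isomorphism from some strictly n-pseudo-coherent complex. -/
theorem result {C : Type u} [Category.{v} C] [Abelian C]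
    (P : ObjectProperty C) [P.IsClosedUnderIsomorphisms] [P.ContainsZero] (hsum : ∀ X Y : C, P X → P Y → P (X ⨯ Y))
    (hqs : PCoh.IsQuasiStableUnderKernels P) (hql : PCoh.IsQuasiLiftable P)
    (n : ℤ) (E F : CochainComplex C ℤ) (hF : PCoh.IsStrictPC P n F) (u : E ⟶ F) (hu : QuasiIso u) :
    ∃ (F' : CochainComplex C ℤ) (v : F' ⟶ E), PCoh.IsStrictPC P n F' ∧ QuasiIso v := by
  obtain ⟨⟨b₀, hb₀⟩, hFP⟩ := hF
  obtain ⟨b, hbn, hFb⟩ : ∃ b : ℤ, n - 1 ≤ b ∧ ∀ i : ℤ, b < i → IsZero (F.X i) :=
    ⟨max b₀ (n - 1), le_max_right _ _, fun i hi => hb₀ i (lt_of_le_of_lt (le_max_left _ _) hi)⟩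
  have huI : ∀ i : ℤ, IsIso (HomologicalComplex.homologyMap u i) := by
    intro i
    rw [← quasiIsoAt_iff_isIso_homologyMap]
    infer_instance
  have hEz : ∀ i : ℤ, b < i → IsZero (E.homology i) := by
    intro i hi
    have := huI i
    refine IsZero.of_iso ?_ (asIso (HomologicalComplex.homologyMap u i))
    rw [← HomologicalComplex.exactAt_iff_isZero_homology]
    exact HomologicalComplex.ExactAt.of_isZero (hFb i hi)
  have key : ∀ (d : ℕ) (k : ℤ), k = b + 1 - d → n ≤ k →
      ∃ (G : CochainComplex C ℤ) (w : G ⟶ E), (∀ i : ℤ, P (G.X i)) ∧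
        (∀ i : ℤ, i < k ∨ b < i → IsZero (G.X i)) ∧
        (∀ i : ℤ, k < i → IsIso (HomologicalComplex.homologyMap w i)) ∧
        Epi (HomologicalComplex.homologyMap w k) := by
    intro d
    induction d with
    | zero =>
      intro k hk _
      obtain ⟨Z, hZ⟩ := HasZeroObject.zero (C := CochainComplex C ℤ)
      have hzX : ∀ i : ℤ, IsZero (Z.X i) := fun i =>
        (HomologicalComplex.eval C (ComplexShape.up ℤ) i).map_isZero hZ
      have hzH : ∀ i : ℤ, IsZero (Z.homology i) := fun i => by
        rw [← HomologicalComplex.exactAt_iff_isZero_homology]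
        exact HomologicalComplex.ExactAt.of_isZero (hzX i)
      refine ⟨Z, 0, fun i => P.prop_of_isZero (hzX i), fun i _ => hzX i, fun i hi => ?_, ?_⟩
      · have h2 : IsZero (E.homology i) := hEz i (by push_cast at hk; lia)
        exact ⟨0, (hzH i).eq_of_src _ _, h2.eq_of_src _ _⟩
      · have h2 : IsZero (E.homology k) := hEz k (by push_cast at hk; lia)
        exact ⟨fun a c _ => h2.eq_of_src a c⟩
    | succ d ih =>
      intro k hk hnk
      obtain ⟨G, w, hGP, hGz, hwi, hwe⟩ := ih (k + 1) (by push_cast at hk ⊢; lia) (by lia)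
      have := step P hsum hqs hql n b (k + 1) (by lia) (by push_cast at hk; lia) E F hFb hFP u hu G w hGP hGz hwi hwe
      have hk1 : k + 1 - 1 = k := by lia
      rw [hk1] at this
      exact this
  obtain ⟨G, w, hGP, hGz, hwi, hwe⟩ := key (b + 1 - n).toNat n
    (by rw [Int.toNat_of_nonneg (by lia)]; lia) le_rfl
  obtain ⟨G', v, w', hvw, hq, hvm, hvi⟩ := Groth.Agent.S5600.result n G E w hwi hwe
  refine ⟨G', w', ⟨⟨b, fun i hi => ?_⟩, fun i hi => ?_⟩, hq⟩
  · have := hvi i (by lia)
    exact IsZero.of_iso (hGz i (Or.inr hi)) (asIso (v.f i)).symm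
  · have := hvi i hi
    exact P.prop_of_iso (asIso (v.f i)) (hGP i)

end Groth.Agent.S5597
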