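import Groth.Statements.S5599
import Groth.Agent.S5597
import Mathlib.Algebra.Homology.DerivedCategory.Fractions

set_option autoImplicit false
universe w v u
open CategoryTheory CategoryTheory.Limits
open PCoh

namespace Groth.Agent.S5599

open CategoryTheory.Pretriangulated

section Helpers

variable {C : Type u} [Category.{v} C] [Abelian C] [HasDerivedCategory.{w} C]
  (P : ObjectProperty C)

/-- `n`-pseudo-coherence of an object of `D(C)` -/
def NPC (n : ℤ) (X : DerivedCategory C) : Prop :=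
  ∃ E : CochainComplex C ℤ, PCoh.IsStrictPC P n E ∧ Nonempty (DerivedCategory.Q.obj E ≅ X)

variable {P}

lemma NPC.of_iso {n : ℤ} {X Y : DerivedCategory C} (h : NPC P n X) (e : X ≅ Y) : NPC P n Y := by
  obtain ⟨E, hE, ⟨e'⟩⟩ := h
  exact ⟨E, hE, ⟨e' ≪≫ e⟩⟩

set_option backward.isDefEq.respectTransparency.types false in
lemma NPC.shift {n : ℤ} {X : DerivedCategory C} (h : NPC P n X) (a : ℤ) :
    NPC P (n - a) (X⟦a⟧) := by
  obtain ⟨E, ⟨⟨b, hb⟩, hP⟩, ⟨e⟩⟩ := h
  refine ⟨E⟦a⟧, ⟨⟨b - a, fun i hi => ?_⟩, fun i hi => ?_⟩, ⟨?_⟩⟩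
  · exact hb (i + a) (by lia)
  · exact hP (i + a) (by lia)
  · exact (DerivedCategory.Q.commShiftIso a).app E ≪≫
      (shiftFunctor (DerivedCategory C) a).mapIso e

variable [P.IsClosedUnderIsomorphisms] [P.ContainsZero]

/-- a morphism from an `(n+1)`-pseudo-coherent object to an `n`-pseudo-coherent one is
represented by an honest morphism of strictly pseudo-coherent complexes -/
lemma exists_rep (hsum : ∀ X Y : C, P X → P Y → P (X ⨯ Y))
    (hqs : PCoh.IsQuasiStableUnderKernels P) (hql : PCoh.IsQuasiLiftable P)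
    {m n : ℤ} {X Y : DerivedCategory C} (u : X ⟶ Y) (hX : NPC P m X) (hY : NPC P n Y) :
    ∃ (A B : CochainComplex C ℤ) (f : A ⟶ B) (a : DerivedCategory.Q.obj A ≅ X)
      (b : DerivedCategory.Q.obj B ≅ Y), PCoh.IsStrictPC P m A ∧ PCoh.IsStrictPC P n B ∧
        DerivedCategory.Q.map f ≫ b.hom = a.hom ≫ u := by
  obtain ⟨E₀, hE₀, ⟨e₁⟩⟩ := hX
  obtain ⟨F₀, hF₀, ⟨e₂⟩⟩ := hY
  obtain ⟨X', s, hs, g, hfac⟩ := DerivedCategory.right_fac (e₁.hom ≫ u ≫ e₂.inv)
  have hsq : QuasiIso s := by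
    rw [← DerivedCategory.isIso_Q_map_iff_quasiIso]
    exact hs
  obtain ⟨A, v, hA, hv⟩ := Groth.Agent.S5597.result P hsum hqs hql m X' E₀ hE₀ s hsq
  have hvs : IsIso (DerivedCategory.Q.map (v ≫ s)) := by
    rw [DerivedCategory.isIso_Q_map_iff_quasiIso]
    infer_instance
  refine ⟨A, F₀, v ≫ g, asIso (DerivedCategory.Q.map (v ≫ s)) ≪≫ e₁, e₂, hA, hF₀, ?_⟩
  have hg : DerivedCategory.Q.map g = DerivedCategory.Q.map s ≫ e₁.hom ≫ u ≫ e₂.inv := by
    rw [hfac, IsIso.hom_inv_id_assoc]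
  simp only [Functor.map_comp, hg, Iso.trans_hom, asIso_hom, Category.assoc, Iso.inv_hom_id,
    Category.comp_id]

/-- the cone of a morphism from an `(n+1)`-pseudo-coherent object to an `n`-pseudo-coherent
object is `n`-pseudo-coherent -/
lemma cone (hsum : ∀ X Y : C, P X → P Y → P (X ⨯ Y))
    (hqs : PCoh.IsQuasiStableUnderKernels P) (hql : PCoh.IsQuasiLiftable P)
    (n : ℤ) (T : Triangle (DerivedCategory C)) (hT : T ∈ distinguishedTriangles)
    (h₁ : NPC P (n + 1) T.obj₁) (h₂ : NPC P n T.obj₂) : NPC P n T.obj₃ := by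
  obtain ⟨A, B, f, a, b, ⟨⟨bA, hbA⟩, hPA⟩, ⟨⟨bB, hbB⟩, hPB⟩, comm⟩ :=
    exists_rep hsum hqs hql T.mor₁ h₁ h₂
  have e := isoTriangleOfIso₁₂ _ T (DerivedCategory.mappingCone_triangle_distinguished f) hT
    a b comm
  refine ⟨CochainComplex.mappingCone f, ⟨⟨max bA bB, fun i hi => ?_⟩, fun i hi => ?_⟩,
    ⟨Triangle.π₃.mapIso e⟩⟩
  · rw [CochainComplex.mappingCone.isZero_X_iff]
    exact ⟨hbA _ (by lia), hbB i (by lia)⟩
  · exact P.prop_of_iso ((HomologicalComplex.homotopyCofiber.XIsoBiprod f i (i + 1) rfl) ≪≫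
      biprod.isoProd _ _).symm (hsum _ _ (hPA (i + 1) (by lia)) (hPB i hi))

end Helpers

open CategoryTheory.Pretriangulated in
/-- Punctual site: let C be an abelian category and C₀ a strictly full additive subcategory,
quasi-stable under kernels of epimorphisms and quasi-liftable; n-pseudo-coherent means isomorphic in
D(C) to a strictly n-pseudo-coherent complex. For a distinguished triangle E ⟶ F ⟶ G ⟶ E⟦1⟧ of D(C):
if E is (n+1)- and F is n-pseudo-coherent then G is n-pseudo-coherent; if E and G are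
n-pseudo-coherent so is F; if F is (n+1)- and G is n-pseudo-coherent then E is
(n+1)-pseudo-coherent. -/
theorem result {C : Type u} [Category.{v} C] [Abelian C] [HasDerivedCategory.{w} C]
    (P : ObjectProperty C) [P.IsClosedUnderIsomorphisms] [P.ContainsZero] (hsum : ∀ X Y : C, P X → P Y → P (X ⨯ Y))
    (hqs : PCoh.IsQuasiStableUnderKernels P) (hql : PCoh.IsQuasiLiftable P)
    (n : ℤ) (T : Triangle (DerivedCategory C)) (hT : T ∈ distinguishedTriangles) :
    ((∃ E : CochainComplex C ℤ, PCoh.IsStrictPC P (n + 1) E ∧ Nonempty (DerivedCategory.Q.obj E ≅ T.obj₁)) → (∃ E : CochainComplex C ℤ, PCoh.IsStrictPC P n E ∧ Nonempty (DerivedCategory.Q.obj E ≅ T.obj₂)) →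
        (∃ E : CochainComplex C ℤ, PCoh.IsStrictPC P n E ∧ Nonempty (DerivedCategory.Q.obj E ≅ T.obj₃))) ∧
      ((∃ E : CochainComplex C ℤ, PCoh.IsStrictPC P n E ∧ Nonempty (DerivedCategory.Q.obj E ≅ T.obj₁)) → (∃ E : CochainComplex C ℤ, PCoh.IsStrictPC P n E ∧ Nonempty (DerivedCategory.Q.obj E ≅ T.obj₃)) →
        (∃ E : CochainComplex C ℤ, PCoh.IsStrictPC P n E ∧ Nonempty (DerivedCategory.Q.obj E ≅ T.obj₂))) ∧
      ((∃ E : CochainComplex C ℤ, PCoh.IsStrictPC P (n + 1) E ∧ Nonempty (DerivedCategory.Q.obj E ≅ T.obj₂)) → (∃ E : CochainComplex C ℤ, PCoh.IsStrictPC P n E ∧ Nonempty (DerivedCategory.Q.obj E ≅ T.obj₃)) →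
        (∃ E : CochainComplex C ℤ, PCoh.IsStrictPC P (n + 1) E ∧ Nonempty (DerivedCategory.Q.obj E ≅ T.obj₁))) := by
  refine ⟨fun h₁ h₂ => cone hsum hqs hql n T hT h₁ h₂, fun h₁ h₃ => ?_, fun h₂ h₃ => ?_⟩
  · -- rotate backwards: `G[-1] ⟶ E ⟶ F ⟶ G`
    have h := cone hsum hqs hql n T.invRotate (inv_rot_of_distTriang T hT)
      (by
        have := NPC.shift h₃ (-1)
        rw [show n - -1 = n + 1 by lia] at this
        exact this) h₁
    exact h
  · -- rotate forwards: `F ⟶ G ⟶ E[1] ⟶ F[1]`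
    have h : NPC P n (T.obj₁⟦(1 : ℤ)⟧) :=
      cone hsum hqs hql n T.rotate (rot_of_distTriang T hT) h₂ h₃
    have h' := NPC.shift h (-1)
    rw [show n - -1 = n + 1 by lia] at h'
    exact h'.of_iso (shiftShiftNeg T.obj₁ (1 : ℤ))

end Groth.Agent.S5599
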