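import Groth.Statements.S6954
import Groth.Agent.Lib.DRingPerfAmp

set_option autoImplicit false
universe u
open CategoryTheory CategoryTheory.Limits
attribute [local instance] HasDerivedCategory.standard
open DRing

namespace Groth.Agent.S6954

/-- Let R be a commutative ring and K an object of D(R). Then K is perfect (isomorphic in D(R) to a
bounded complex of finite projective modules) if and only if K is pseudo-coherent (isomorphic to a
bounded above complex of finite free modules) and has finite tor dimension (isomorphic to a bounded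
complex of flat modules). -/
theorem result (R : Type u) [CommRing R] (K : Dual.D R) :
    DRing.IsPerfect R K ↔ DRing.IsPseudoCoherent' R K ∧ DRing.HasFiniteTorDimCx R K := by
  constructor
  · rintro ⟨E, a, b, hE1, hE2, hE3⟩
    refine ⟨?_, a, b, E, hE1, fun i => ?_, hE3⟩
    · rw [Groth.Agent.Lib.DRingPCoh21.isPseudoCoherent'_iff_forall]
      intro m
      rw [← Groth.Agent.Lib.DRingPCoh21.isStrictPC_fp_iff]
      exact ⟨E, ⟨⟨b, fun i hi => hE1 i (Or.inr hi)⟩, fun i _ => hE2 i⟩, hE3⟩
    · obtain ⟨h1, h2⟩ := hE2 i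
      infer_instance
  · rintro ⟨hpc, a, b, F, hF1, hF2, hF3⟩
    rw [Groth.Agent.Lib.DRingPCoh21.isPseudoCoherent'_iff_forall] at hpc
    have h1 := (Groth.Agent.Lib.DRingPCoh21.isPseudoCoherent_iff R (a - 1) K).1 (hpc (a - 1))
    obtain ⟨E', h1', h2', h3'⟩ := Groth.Agent.Lib.DRingPerfAmp.pa_fp_of_pc_of_flat R K a (max a b)
      (le_max_left a b) h1
      ⟨F, hF2, fun i hi => hF1 i (hi.imp id (fun h => lt_of_le_of_lt (le_max_right a b) h)), hF3⟩
    exact ⟨E', a, max a b, h2', h1', h3'⟩

end Groth.Agent.S6954
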