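import Groth.Statements.S6960
import Groth.Agent.S6954
import Groth.Agent.S2087
import Groth.Agent.S6949

set_option autoImplicit false
universe u
open CategoryTheory CategoryTheory.Limits
attribute [local instance] HasDerivedCategory.standard
open DRing

namespace Groth.Agent.S6960

/-- Let R be a commutative ring, f_1, ..., f_r elements generating the unit ideal and K a cochain
complex of R-modules. If for every i the termwise localization K ⊗_R R_(f_i) is a perfect object of
D(R_(f_i)), then K is a perfect object of D(R). -/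
theorem result {R : Type u} [CommRing R] {r : ℕ} (f : Fin r → R)
    (hf : Ideal.span (Set.range f) = ⊤) (K : DRing.Cx R)
    (hK : ∀ i, DRing.IsPerfect (Localization.Away (f i))
      (DRing.toD (((ModuleCat.extendScalars (algebraMap R (Localization.Away (f i)))).mapHomologicalComplex
        (ComplexShape.up ℤ)).obj K))) :
    DRing.IsPerfect R (DRing.toD K) := by
  have h1 : ∀ i, DRing.IsPseudoCoherent' (Localization.Away (f i))
      (DRing.toD (((ModuleCat.extendScalars (algebraMap R (Localization.Away (f i)))).mapHomologicalComplex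
        (ComplexShape.up ℤ)).obj K)) ∧ DRing.HasFiniteTorDimCx (Localization.Away (f i))
      (DRing.toD (((ModuleCat.extendScalars (algebraMap R (Localization.Away (f i)))).mapHomologicalComplex
        (ComplexShape.up ℤ)).obj K)) := fun i => (Groth.Agent.S6954.result _ _).1 (hK i)
  have h2 : ∀ i, ∃ a b : ℤ, DRing.HasTorAmplitudeIn (Localization.Away (f i)) a b
      (DRing.toD (((ModuleCat.extendScalars (algebraMap R (Localization.Away (f i)))).mapHomologicalComplex
        (ComplexShape.up ℤ)).obj K)) := fun i => (h1 i).2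
  choose a b hab using h2
  obtain ⟨a₀, ha₀⟩ : ∃ n : ℤ, ∀ i, n ≤ a i := by
    obtain ⟨n, hn⟩ := (Finset.univ.image (fun i => -a i)).exists_le
    exact ⟨-n, fun i => by
      have := hn _ (Finset.mem_image_of_mem (fun i => -a i) (Finset.mem_univ i))
      lia⟩
  obtain ⟨b₀, hb₀⟩ : ∃ n : ℤ, ∀ i, b i ≤ n := by
    obtain ⟨n, hn⟩ := (Finset.univ.image b).exists_le
    exact ⟨n, fun i => hn _ (Finset.mem_image_of_mem b (Finset.mem_univ i))⟩
  refine (Groth.Agent.S6954.result R _).2 ⟨?_, a₀, b₀, ?_⟩
  · rw [Groth.Agent.Lib.DRingPCoh21.isPseudoCoherent'_iff_forall]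
    intro m
    refine Groth.Agent.S2087.result f hf K m (fun i => ?_)
    exact (Groth.Agent.Lib.DRingPCoh21.isPseudoCoherent'_iff_forall _ _).1 (h1 i).1 m
  · refine Groth.Agent.S6949.result f hf K a₀ b₀ (fun i => ?_)
    obtain ⟨E, hE1, hE2, hE3⟩ := hab i
    exact ⟨E, fun j hj => hE1 j (by have := ha₀ i; have := hb₀ i; lia), hE2, hE3⟩

end Groth.Agent.S6960
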