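import Groth.Statements.S1676
import Groth.Agent.Lib.SecSmoothSch

set_option autoImplicit false
universe u
open CategoryTheory CategoryTheory.Limits AlgebraicGeometry TopologicalSpace
open SDiv

namespace Groth.Agent.S1676

open Groth.Agent.Lib.SecSmooth Groth.Agent.Lib.SecSmoothSch RingTheory.Sequence

/-- transport of a weakly regular sequence generating `J.map` along the canonical isomorphism of two
localizations away from `w`, with properness of the ideal -/
theorem exists_isRegular_of_good {B : Type u} [CommRing B] (J 𝔓 : Ideal B) [𝔓.IsPrime]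
    (hJ : J ≤ 𝔓) (w : B) (hw : w ∉ 𝔓) (u : List (Localization.Away w))
    (hu : IsWeaklyRegular (Localization.Away w) u)
    (hJu : J.map (algebraMap B (Localization.Away w)) = Ideal.ofList u)
    (T : Type u) [CommRing T] [Algebra B T] [IsLocalization.Away w T] :
    ∃ rs : List T, IsRegular T rs ∧ J.map (algebraMap B T) = Ideal.ofList rs := by
  let e : Localization.Away w ≃ₐ[B] T := IsLocalization.algEquiv (Submonoid.powers w) _ T
  have hmap : J.map (algebraMap B T) = Ideal.ofList (u.map e) := by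
    have h1 : (J.map (algebraMap B (Localization.Away w))).map (e : Localization.Away w →+* T) =
        J.map (algebraMap B T) := by
      rw [Ideal.map_map]
      congr 1
      ext b
      exact e.commutes b
    rw [← h1, hJu, Ideal.map_ofList]
    rfl
  refine ⟨u.map e, ⟨?_, ?_⟩, hmap⟩
  · refine (e.toAddEquiv.isWeaklyRegular_congr ?_).1 hu
    rw [List.forall₂_map_right_iff]
    exact List.forall₂_same.mpr fun r _ x => map_mul e r x
  · rw [← hmap]
    have hdisj : Disjoint (Submonoid.powers w : Set B) (𝔓 : Set B) := by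
      rw [Set.disjoint_left]
      rintro _ ⟨k, rfl⟩ hk
      exact hw (Ideal.IsPrime.mem_of_pow_mem ‹_› k hk)
    have hp : (𝔓.map (algebraMap B T)).IsPrime :=
      IsLocalization.isPrime_of_isPrime_disjoint (Submonoid.powers w) T 𝔓 ‹_› hdisj
    intro htop
    apply hp.ne_top
    rw [eq_top_iff]
    have h2 : (⊤ : Ideal T) ≤ J.map (algebraMap B T) := by
      intro x _
      have hx : x ∈ (⊤ : Submodule T T) := trivial
      rw [htop] at hx
      have : J.map (algebraMap B T) • (⊤ : Submodule T T) ≤ J.map (algebraMap B T) := by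
        rw [Submodule.smul_le]
        intro r hr n _
        exact Ideal.mul_mem_right _ _ hr
      exact this hx
    exact h2.trans (Ideal.map_mono hJ)


/-- For a section that is a closed immersion, e.g. when f is separated: let f : X ⟶ S be a smooth
morphism and σ : S ⟶ X a section of f which is a closed immersion. Then σ is a regular closed
immersion. -/
theorem result {X S : Scheme.{u}} (f : X ⟶ S) [Smooth f] (σ : S ⟶ X)
    (hσ : σ ≫ f = 𝟙 S) [IsClosedImmersion σ] : Mor2.IsRegularClosedImmersion σ := by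
  refine ⟨inferInstance, fun z => ?_⟩
  obtain ⟨V, U, hzV, e₁, e₂⟩ := exists_section_chart f σ hσ z
  have hsm : (f.appLE V.1 U.1 e₁).hom.Smooth :=
    HasRingHomProperty.appLE (P := @Smooth) f inferInstance V U e₁
  let _ : Algebra Γ(S, V.1) Γ(X, U.1) := (f.appLE V.1 U.1 e₁).hom.toAlgebra
  have : Algebra.Smooth Γ(S, V.1) Γ(X, U.1) := hsm
  let τ : Γ(X, U.1) →ₐ[Γ(S, V.1)] Γ(S, V.1) :=
    { toRingHom := (σ.appLE U.1 V.1 e₂).hom
      commutes' := fun c => by
        have := appLE_comp_section f σ hσ V.1 U.1 e₁ e₂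
        exact congrArg (fun φ => φ.hom c) this }
  -- `σ⁻¹ U = V`
  have hUV : σ ⁻¹ᵁ U.1 = V.1 := by
    refine le_antisymm (fun y hy => ?_) e₂
    have h1 : f (σ y) ∈ V.1 := e₁ hy
    have : f (σ y) = y := by
      rw [← Scheme.Hom.comp_apply, hσ]
      rfl
    rwa [this] at h1
  -- the kernel ideal on `U`
  have hker : σ.ker.ideal U = RingHom.ker τ.toRingHom := by
    rw [Scheme.Hom.ker_apply]
    ext b
    simp only [RingHom.mem_ker]
    show (σ.app U.1).hom b = 0 ↔ (σ.appLE U.1 V.1 e₂).hom b = 0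
    have hiso : IsIso (S.presheaf.map (homOfLE e₂).op) := by
      have : IsIso (homOfLE e₂) := by
        refine ⟨homOfLE hUV.le, ?_, ?_⟩ <;> rfl
      infer_instance
    have hinj : Function.Injective (S.presheaf.map (homOfLE e₂).op).hom :=
      ((ConcreteCategory.isIso_iff_bijective _).1 hiso).1
    rw [Scheme.Hom.appLE, CommRingCat.comp_apply]
    constructor
    · intro h
      rw [h, map_zero]
    · intro h
      exact hinj (by rw [h, map_zero])
  -- the prime of `σ z`
  let 𝔓 := (U.2.primeIdealOf ⟨σ z, e₂ hzV⟩).asIdeal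
  have h𝔓 : 𝔓.IsPrime := (U.2.primeIdealOf ⟨σ z, e₂ hzV⟩).isPrime
  have hJ𝔓 : RingHom.ker τ.toRingHom ≤ 𝔓 := by
    intro b hb
    have hc := IsAffineOpen.comap_primeIdealOf_appLE (f := σ) U.1 U.2 V.1 V.2 e₂ hzV
    have : b ∈ ((V.2.primeIdealOf ⟨z, hzV⟩).comap (σ.appLE U.1 V.1 e₂).hom).asIdeal := by
      show (σ.appLE U.1 V.1 e₂).hom b ∈ (V.2.primeIdealOf ⟨z, hzV⟩).asIdeal
      have hb' : (σ.appLE U.1 V.1 e₂).hom b = 0 := hb
      rw [hb']
      exact Ideal.zero_mem _
    rw [hc] at this
    exact this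
  obtain ⟨w, hw, u, hu, hJu⟩ := good_ker_of_smooth τ 𝔓 hJ𝔓
  refine ⟨X.basicOpen w, U.2.basicOpen w, ?_, ?_⟩
  · -- `σ z ∈ D(w)`
    have h1 : U.2.primeIdealOf ⟨σ z, e₂ hzV⟩ ∈ U.2.fromSpec ⁻¹ᵁ X.basicOpen w := by
      rw [U.2.fromSpec_preimage_basicOpen]
      exact hw
    have h2 : U.2.fromSpec (U.2.primeIdealOf ⟨σ z, e₂ hzV⟩) ∈ X.basicOpen w := h1
    rwa [U.2.fromSpec_primeIdealOf] at h2
  · have hloc : IsLocalization.Away w Γ(X, X.basicOpen w) := U.2.isLocalization_basicOpen w
    obtain ⟨rs, hrs, hmap⟩ := exists_isRegular_of_good (RingHom.ker τ.toRingHom) 𝔓 hJ𝔓 w hw u hu hJu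
      Γ(X, X.basicOpen w)
    refine ⟨rs, hrs, ?_⟩
    rw [← hmap, ← hker]
    exact (σ.ker.map_ideal_basicOpen U w).symm

end Groth.Agent.S1676
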