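import Groth.Statements.S9729
import Groth.Agent.Lib.KRegImm
import Groth.Agent.S8652
import Groth.Agent.S8654

set_option autoImplicit false
universe u
open FlatMor

namespace Groth.Agent.S9729

open AlgebraicGeometry CategoryTheory Limits in
/-- Let f : X ⟶ Y and g : Y ⟶ S be morphisms with g smooth. If f ≫ g is a local complete intersection
morphism (Koszul at every point of X) then f is a local complete intersection morphism. -/
theorem result {X Y S : Scheme.{u}} (f : X ⟶ Y) (g : Y ⟶ S) [Smooth g]
    (h : ∀ x : X, Synt.IsKoszulAt (f ≫ g) x) (x : X) : Synt.IsKoszulAt f x := by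
  obtain ⟨U, P, i, π, hxU, hlft, hi, hπ, hfac⟩ := h x
  -- the smooth `Y`-scheme `P ×_S Y`
  let q : pullback π g ⟶ P := pullback.fst π g
  let i' : (U : Scheme.{u}) ⟶ pullback π g :=
    pullback.lift i (U.ι ≫ f) (by rw [hfac, Category.assoc])
  have hi'q : i' ≫ q = i := pullback.lift_fst _ _ _
  have hi'π : i' ≫ pullback.snd π g = U.ι ≫ f := pullback.lift_snd _ _ _
  -- the graph
  let Γ : (U : Scheme.{u}) ⟶ pullback i q := pullback.lift (𝟙 _) i' (by rw [hi'q, Category.id_comp])
  have hΓ1 : Γ ≫ pullback.fst i q = 𝟙 _ := pullback.lift_fst _ _ _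
  have hΓ2 : Γ ≫ pullback.snd i q = i' := pullback.lift_snd _ _ _
  have h1 : RegImm.IsRegularImmersion .koszul Γ :=
    Groth.Agent.Lib.KRegImm.isRegularImmersion_koszul_of_section (pullback.fst i q) Γ hΓ1
  have h2 : RegImm.IsRegularImmersion .koszul (pullback.snd i q) :=
    Groth.Agent.S8652.result i q (pullback.snd i q) (pullback.fst i q)
      (IsPullback.of_hasPullback i q) hi
  have h3 := Groth.Agent.S8654.result (pullback.snd i q) Γ h2 h1
  rw [hΓ2] at h3
  have hlft' : LocallyOfFiniteType ((U.ι ≫ f) ≫ g) := by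
    rw [Category.assoc]
    exact hlft
  exact ⟨U, pullback π g, i', pullback.snd π g, hxU, locallyOfFiniteType_of_comp (U.ι ≫ f) g, h3,
    inferInstance, hi'π⟩

end Groth.Agent.S9729
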