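import Groth.Statements.S8658
import Groth.Agent.S8652
import Mathlib.AlgebraicGeometry.Morphisms.Smooth
import Mathlib.AlgebraicGeometry.Morphisms.Flat

set_option autoImplicit false
universe u
open CategoryTheory CategoryTheory.Limits AlgebraicGeometry
open Synt

namespace Groth.Agent.S8658

/-- Let f : X ⟶ Y be a local complete intersection morphism in the factorisation sense (around each
point of X, f is locally of finite type and factors as a Koszul-regular immersion followed by a
smooth morphism), and let g : Y' ⟶ Y be flat. Then for any cartesian square, the base change f' : X'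
⟶ Y' is a local complete intersection morphism in the same sense. -/
theorem result {X Y X' Y' : Scheme.{u}} (f : X ⟶ Y) (g : Y' ⟶ Y) [Flat g]
    (f' : X' ⟶ Y') (g' : X' ⟶ X) (hsq : IsPullback g' f' f g)
    (hf : ∀ x : X, Synt.IsKoszulAt f x) : ∀ x' : X', Synt.IsKoszulAt f' x' := by
  intro x'
  obtain ⟨U, P, i₀, π, hxU, hlft, hi₀, hπ, hfac⟩ := hf (g' x')
  haveI := hπ
  let U' : X'.Opens := g' ⁻¹ᵁ U
  have hcomm : ((g' ∣_ U) ≫ i₀) ≫ π = (U'.ι ≫ f') ≫ g := by
    rw [Category.assoc, hfac, ← Category.assoc, morphismRestrict_ι, Category.assoc, Category.assoc,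
      hsq.w]
  let i₀' : (U' : Scheme.{u}) ⟶ pullback π g := pullback.lift ((g' ∣_ U) ≫ i₀) (U'.ι ≫ f') hcomm
  have h1 : i₀' ≫ pullback.fst π g = (g' ∣_ U) ≫ i₀ := pullback.lift_fst _ _ _
  have h2 : i₀' ≫ pullback.snd π g = U'.ι ≫ f' := pullback.lift_snd _ _ _
  have hleft : IsPullback U'.ι (g' ∣_ U) g' U.ι := (isPullback_morphismRestrict g' U).flip
  have hbig : IsPullback (U'.ι ≫ f') (g' ∣_ U) g (U.ι ≫ f) := hleft.paste_horiz hsq.flip
  have hright : IsPullback (pullback.snd π g) (pullback.fst π g) g π :=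
    (IsPullback.of_hasPullback π g).flip
  have hbig' : IsPullback (i₀' ≫ pullback.snd π g) (g' ∣_ U) g (i₀ ≫ π) := by
    rw [h2, hfac]
    exact hbig
  have hsq' : IsPullback i₀' (g' ∣_ U) (pullback.fst π g) i₀ :=
    IsPullback.of_right hbig' h1 hright
  refine ⟨U', pullback π g, i₀', pullback.snd π g, hxU, ?_, ?_, inferInstance, h2⟩
  · exact MorphismProperty.of_isPullback (P := @LocallyOfFiniteType) hbig.flip hlft
  · exact Groth.Agent.S8652.result i₀ (pullback.fst π g) i₀' (g' ∣_ U) hsq'.flip hi₀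

end Groth.Agent.S8658

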