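import Groth.Statements.S10567
import Groth.Agent.Lib.H69AlgSpLocST

set_option autoImplicit false
universe u
open CategoryTheory CategoryTheory.Limits AlgebraicGeometry
open AlgSp

namespace Groth.Agent.S10567

/-- A property P of morphisms of algebraic spaces over S that is smooth local on the source, smooth
local on the base, and stable under postcomposition with smooth morphisms (whenever g : Y ⟶ Z is
smooth and f : X ⟶ Y has P, the composite f ≫ g has P) is smooth local on source-and-target. -/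
theorem result {S : Scheme.{u}} (P : MorphismProperty (AlgSp.Sp S))
    (h1 : AlgSp.IsLocalOnSource (AlgSp.IsSmCover (S := S)) P)
    (h2 : AlgSp.IsLocalOnBase (AlgSp.IsSmCover (S := S)) P)
    (h3 : ∀ ⦃X Y Z : AlgSp.Space S⦄ (f : X ⟶ Y) (g : Y ⟶ Z), P f.hom → AlgSp.LocP @Smooth g.hom → P (f ≫ g).hom) :
    AlgSp.IsSmoothLocalST P := by
  refine ⟨?_, ?_, ?_⟩
  · -- precomposition with smooth morphisms
    intro X Y Z hX hY hZ f g hf hg
    have hc : AlgSp.IsSmCover (Groth.Agent.Lib.H69AlgSpLocST.pairObj X Y) (Groth.Agent.Lib.H69AlgSpLocST.pairMap f) :=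
      Groth.Agent.Lib.H69AlgSpLocST.isCover_pair _ f hf (Groth.Agent.Lib.H69AlgSpLocST.locP_smooth_id hY)
    exact (h1 (Groth.Agent.Lib.H69AlgSpLocST.pairObj X Y) (Groth.Agent.Lib.H69AlgSpLocST.pairMap f) hY (Groth.Agent.Lib.H69AlgSpLocST.isAlgSpace_pairObj hX hY) hc g hZ).1 hg (Sum.inl ⟨⟩)
  · -- smooth base change
    intro X Y X' Y' hX hY hX' hY' f g f' g' sq hg hf
    have hc : AlgSp.IsSmCover (Groth.Agent.Lib.H69AlgSpLocST.pairObj Y' Y) (Groth.Agent.Lib.H69AlgSpLocST.pairMap g) :=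
      Groth.Agent.Lib.H69AlgSpLocST.isCover_pair _ g hg (Groth.Agent.Lib.H69AlgSpLocST.locP_smooth_id hY)
    refine (h2 (Groth.Agent.Lib.H69AlgSpLocST.pairObj Y' Y) (Groth.Agent.Lib.H69AlgSpLocST.pairMap g) hY (Groth.Agent.Lib.H69AlgSpLocST.isAlgSpace_pairObj hY' hY) hc f hX
      (Groth.Agent.Lib.H69AlgSpLocST.pairObj X' X) (Groth.Agent.Lib.H69AlgSpLocST.pairHom f' f) (Groth.Agent.Lib.H69AlgSpLocST.pairMap g') (Groth.Agent.Lib.H69AlgSpLocST.isAlgSpace_pairObj hX' hX) ?_).1 hf (Sum.inl ⟨⟩)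
    rintro (_ | _)
    · exact sq
    · exact IsPullback.id_horiz f
  · -- locality
    intro X Y hX hY f
    constructor
    · intro hf x
      exact ⟨X, Y, 𝟙 X, 𝟙 Y, f, x, hX, hY, Groth.Agent.Lib.H69AlgSpLocST.locP_smooth_id hX, Groth.Agent.Lib.H69AlgSpLocST.locP_smooth_id hY, by simp,
        AlgSp.Points.map_id x, hf⟩
    · intro H
      obtain ⟨U₀, a₀, ha₀e, ha₀s⟩ := hX.atlas
      choose U V a b h v hU hV ha hb comm hv hP using
        fun t : ↥U₀.left => H (AlgSp.Points.ofPt a₀ t)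
      have hc : AlgSp.IsSmCover U a := by
        refine ⟨ha, fun x => ?_⟩
        obtain ⟨t, rfl⟩ := Groth.Agent.Lib.H86AlgSpPoints.ofPt_surjective ha₀s x
        exact ⟨t, v t, hv t⟩
      refine (h1 U a hX hU hc f hY).2 fun t => ?_
      have := h3 (X := ⟨U t, hU t⟩) (Y := ⟨V t, hV t⟩) (Z := ⟨Y, hY⟩)
        (ObjectProperty.homMk (h t)) (ObjectProperty.homMk (b t)) (hP t) (hb t)
      rw [comm t]
      exact this

end Groth.Agent.S10567
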