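import Groth.Statements.S10667
-- import your own Groth.Agent.* helpers here
import Mathlib
import Groth.Agent.Lib.AlgSpLCIFpqc83

set_option autoImplicit false
set_option linter.style.haveILetI false
universe u
open CategoryTheory CategoryTheory.Limits AlgebraicGeometry
open AlgSp

namespace Groth.Agent.S10667

/-- The property of being a local complete intersection morphism of algebraic spaces over S is fpqc
local on the base: for an fpqc covering of an algebraic space Y by algebraic spaces Y_i and pullback
squares X_i = X ×_Y Y_i, a morphism f : X ⟶ Y is a local complete intersection morphism if and only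
if every base change X_i ⟶ Y_i is. -/
theorem result {S : Scheme.{u}} : AlgSp.IsLocalOnBase (AlgSp.IsFpqcCover (S := S)) AlgSp.IsLCIMor := by
  intro ι Y Yi g hY hYi hcov X f hX Xi p q hXi sq
  constructor
  · intro h i
    exact Groth.Agent.Lib.AlgSpLCIFpqc83.locP_lci_of_isPullback_flat hX hY (hYi i) (sq i)
      (hcov.1 i) h
  · intro h
    have hft : AlgSp.LocP @LocallyOfFiniteType f :=
      (Groth.Agent.Lib.AlgSpFpqc.isLocalOnBase_fpqc_locP_locallyOfFiniteType Yi g hY hYi hcov f hX
        Xi p q hXi sq).2 (fun i => Groth.Agent.Lib.AlgSpLCIFpqc83.locP_lft_of_locP_lci (h i))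
    exact Groth.Agent.Lib.AlgSpLCIFpqc83.locP_lci_of_hasFpqcRefinement hX hY hYi hcov.1 hcov.2 sq
      hft h

end Groth.Agent.S10667
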