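import Groth.Statements.S1146
import Groth.Agent.Lib.SpecDim
import Mathlib.AlgebraicGeometry.Morphisms.QuasiFinite
import Mathlib.AlgebraicGeometry.Morphisms.UniversallyOpen
import Mathlib.AlgebraicGeometry.Morphisms.Etale
import Mathlib.RingTheory.Unramified.LocalStructure

set_option autoImplicit false
open CategoryTheory CategoryTheory.Limits AlgebraicGeometry Opposite
universe u
open Desc

namespace Groth.Agent.S1146

open Groth.Agent.Lib.SpecDim

lemma locallyQuasiFinite_of_etale {U V : Scheme.{u}} (f : U ⟶ V) [Etale f] :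
    LocallyQuasiFinite f := by
  rw [HasRingHomProperty.iff_appLE (P := @LocallyQuasiFinite)]
  intro U' V' e
  have h := HasRingHomProperty.appLE @Etale f inferInstance U' V' e
  algebraize [(f.appLE U' V' e).hom]
  change Algebra.QuasiFinite _ _
  infer_instance

lemma key {U V : Scheme.{u}} (f : U ⟶ V) [Etale f] (W : Set U) (hW : IsOpen W) :
    topologicalKrullDim W = topologicalKrullDim (f.base '' W) := by
  have hopen : IsOpen (f.base '' W) := f.isOpenMap _ hW
  have : QuasiSober W := hW.isOpenEmbedding_subtypeVal.quasiSober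
  have : QuasiSober (f.base '' W) := hopen.isOpenEmbedding_subtypeVal.quasiSober
  have := locallyQuasiFinite_of_etale f
  let φ : W → (f.base '' W) := fun a => ⟨f.base a.1, a.1, a.2, rfl⟩
  apply topologicalKrullDim_eq_of_generalizingMap φ
  · exact (f.continuous.comp continuous_subtype_val).subtype_mk _
  · rintro ⟨_, a, ha, rfl⟩
    exact ⟨⟨a, ha⟩, rfl⟩
  · intro a b hab
    have h1 : (b : V) ⤳ f.base a.1 := by
      have := hab.map continuous_subtype_val
      exact this
    obtain ⟨a', ha', hfa'⟩ := Flat.generalizingMap f h1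
    have ha'W : a' ∈ W := ha'.mem_open hW a.2
    refine ⟨⟨a', ha'W⟩, ?_, Subtype.ext hfa'⟩
    exact (subtype_specializes_iff _ _).mpr ha'
  · intro a a' haa' hφ
    have h1 : (a : U) ⤳ (a' : U) := (subtype_specializes_iff _ _).mp haa'
    have h2 : f.base a.1 = f.base a'.1 := congrArg Subtype.val hφ
    have hd := (f.isDiscrete_preimage_singleton (f.base a'.1)).to_subtype
    let x : (f ⁻¹' {f.base a'.1} : Set U) := ⟨a.1, h2⟩
    let x' : (f ⁻¹' {f.base a'.1} : Set U) := ⟨a'.1, rfl⟩
    have h3 : x ⤳ x' := (subtype_specializes_iff x x').mpr h1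
    have h4 : x = x' := h3.eq
    have h5 : (x : U) = (x' : U) := congrArg Subtype.val h4
    exact Subtype.ext h5

/-- Let f : U ⟶ V be an etale morphism of schemes and u a point of U. Then the local dimension of U at u
(the infimum of the Krull dimensions of open neighbourhoods) equals the local dimension of V at
f(u). -/
theorem result {U V : Scheme.{u}} (f : U ⟶ V) [Etale f] (u : U) :
    FlatMor.localDim U u = FlatMor.localDim V (f.base u) := by
  unfold FlatMor.localDim
  apply le_antisymm
  · refine le_iInf fun W' => ?_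
    obtain ⟨W', hW'⟩ := W'
    have hu : u ∈ f ⁻¹ᵁ W' := hW'
    refine (iInf_le _ ⟨f ⁻¹ᵁ W', hu⟩).trans ?_
    change topologicalKrullDim ((f ⁻¹ᵁ W' : U.Opens) : Set U) ≤ topologicalKrullDim (W' : Set V)
    rw [key f ((f ⁻¹ᵁ W' : U.Opens) : Set U) (f ⁻¹ᵁ W').isOpen]
    have hsub : f.base '' ((f ⁻¹ᵁ W' : U.Opens) : Set U) ⊆ (W' : Set V) := by
      rintro _ ⟨a, ha, rfl⟩
      exact ha
    exact (Topology.IsEmbedding.inclusion hsub).isInducing.topologicalKrullDim_le
  · refine le_iInf fun W => ?_
    obtain ⟨W, hW⟩ := W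
    have hopen : IsOpen (f.base '' (W : Set U)) := f.isOpenMap _ W.2
    have hfu : f.base u ∈ (⟨f.base '' (W : Set U), hopen⟩ : V.Opens) := ⟨u, hW, rfl⟩
    refine (iInf_le _ ⟨⟨f.base '' (W : Set U), hopen⟩, hfu⟩).trans ?_
    change topologicalKrullDim (f.base '' (W : Set U)) ≤ topologicalKrullDim (W : Set U)
    rw [key f (W : Set U) W.isOpen]

end Groth.Agent.S1146
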