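import Groth.Statements.S9721
-- import your own Groth.Agent.* helpers here

set_option autoImplicit false
universe u
open CategoryTheory AlgebraicGeometry
open Mor

namespace Groth.Agent.S9721

section general

variable {P : MorphismProperty Scheme.{u}}
  {Q : ∀ {R S : Type u} [CommRing R] [CommRing S], (R →+* S) → Prop}

/-- For affine opens `U`, `V`, the restriction `f.resLE V U e` has `P` iff `f.appLE V U e` has `Q`. -/
theorem resLE_iff [HasRingHomProperty P Q] {X S : Scheme.{u}} (f : X ⟶ S) {U : X.Opens} {V : S.Opens}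
    (hU : IsAffineOpen U) (hV : IsAffineOpen V) (e : U ≤ f ⁻¹ᵁ V) :
    P (f.resLE V U e) ↔ Q (f.appLE V U e).hom := by
  have : IsAffine U.toScheme := hU
  have : IsAffine V.toScheme := hV
  rw [HasRingHomProperty.iff_of_isAffine (P := P)]
  have : (RingHom.toMorphismProperty Q).RespectsIso :=
    RingHom.toMorphismProperty_respectsIso_iff.mp
      (HasRingHomProperty.isLocal_ringHomProperty P).respectsIso
  exact (MorphismProperty.arrow_mk_iso_iff (RingHom.toMorphismProperty Q)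
    (arrowResLEAppIso f V U e))

/-- If `U.ι ≫ f` has `P` for an affine open `U` mapping into the affine open `V`, then
`f.appLE V U e` has `Q`. -/
theorem appLE_of_ι_comp [HasRingHomProperty P Q] {X S : Scheme.{u}} (f : X ⟶ S) {U : X.Opens}
    {V : S.Opens} (hU : IsAffineOpen U) (hV : IsAffineOpen V) (e : U ≤ f ⁻¹ᵁ V)
    (H : P (U.ι ≫ f)) : Q (f.appLE V U e).hom := by
  have : IsAffine U.toScheme := hU
  have e' : (⊤ : U.toScheme.Opens) ≤ (U.ι ≫ f) ⁻¹ᵁ V := by
    intro y _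
    exact e y.2
  have h1 := HasRingHomProperty.appLE P (U.ι ≫ f) H ⟨V, hV⟩ ⟨⊤, isAffineOpen_top _⟩ e'
  have h2 : (U.ι ≫ f).appLE V ⊤ e' = f.appLE V (U.ι ''ᵁ ⊤) (by simpa using e) := by
    rw [Scheme.Hom.comp_appLE, Scheme.Opens.ι_appLE]
    rfl
  rw [h2] at h1
  exact (f.appLE_congr _ rfl (Scheme.Opens.ι_image_top U) (fun φ => Q φ.hom)).mp h1

end general

/-- Let f : X ⟶ S be a morphism, x a point of X and V an affine open neighbourhood of f(x) in S. Then f
is smooth on some open neighbourhood of x if and only if there is an affine open neighbourhood U of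
x with f(U) ⊆ V such that the induced ring map Γ(S, V) ⟶ Γ(X, U) is standard smooth. -/
theorem result {X S : Scheme.{u}} (f : X ⟶ S) (x : X)
    (V : S.Opens) (hV : IsAffineOpen V) (hxV : f x ∈ V) :
    (∃ W : X.Opens, x ∈ W ∧ Smooth (W.ι ≫ f)) ↔
      ∃ (U : X.Opens) (_ : IsAffineOpen U) (_ : x ∈ U) (e : U ≤ f ⁻¹ᵁ V),
        (f.appLE V U e).hom.IsStandardSmooth := by
  constructor
  · rintro ⟨W, hxW, hW⟩
    -- an affine neighbourhood inside `W ⊓ f ⁻¹ᵁ V`
    obtain ⟨U₀, hU₀, hxU₀, hU₀le⟩ : ∃ U₀ : X.Opens, IsAffineOpen U₀ ∧ x ∈ U₀ ∧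
        U₀ ≤ W ⊓ f ⁻¹ᵁ V := by
      obtain ⟨_, ⟨U₀, hU₀, rfl⟩, hxU₀, hU₀le⟩ :=
        X.isBasis_affineOpens.exists_subset_of_mem_open
          (show x ∈ ((W ⊓ f ⁻¹ᵁ V : X.Opens) : Set X) from ⟨hxW, hxV⟩) (W ⊓ f ⁻¹ᵁ V).2
      exact ⟨U₀, hU₀, hxU₀, hU₀le⟩
    have hU₀W : U₀ ≤ W := fun y hy => (hU₀le hy).1
    have e₀ : U₀ ≤ f ⁻¹ᵁ V := fun y hy => (hU₀le hy).2
    have hsm : Smooth (U₀.ι ≫ f) := by
      rw [← X.homOfLE_ι hU₀W, Category.assoc]
      infer_instance
    have hQ : (f.appLE V U₀ e₀).hom.Smooth := appLE_of_ι_comp (P := @Smooth) f hU₀ hV e₀ hsm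
    rw [RingHom.smooth_iff_locally_isStandardSmooth,
      RingHom.locally_iff_isLocalization RingHom.isStandardSmooth_respectsIso] at hQ
    obtain ⟨s, hs, hfs⟩ := hQ
    apply iSup_basicOpen_of_span_eq_top at hs
    have : x ∈ (⨆ i ∈ (s : Set Γ(X, U₀)), X.basicOpen i) := hs.symm ▸ hxU₀
    have : ∃ r ∈ s, x ∈ X.basicOpen r := by simpa using this
    obtain ⟨r, hr, hrs⟩ := this
    refine ⟨X.basicOpen r, hU₀.basicOpen r, hrs, (X.basicOpen_le r).trans e₀, ?_⟩
    rw [← f.appLE_map e₀ (homOfLE (X.basicOpen_le r)).op]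
    have : IsLocalization.Away r Γ(X, X.basicOpen r) := hU₀.isLocalization_basicOpen r
    exact hfs r hr _
  · rintro ⟨U, hU, hxU, e, h⟩
    refine ⟨U, hxU, ?_⟩
    have h1 : Smooth (f.resLE V U e) :=
      (resLE_iff (P := @Smooth) f hU hV e).mpr h.smooth
    rw [← Scheme.Hom.resLE_comp_ι f e]
    infer_instance

end Groth.Agent.S9721
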