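import Groth.Statements.S7406
import Groth.Agent.Lib.H80EtaleStalk
import Mathlib.RingTheory.Etale.Field

set_option autoImplicit false
universe u
open CategoryTheory AlgebraicGeometry
open Desc

namespace Groth.Agent.S7406

section helpers

open CategoryTheory.Limits

/-- The residue field extension of an étale morphism gives an étale morphism of spectra. -/
lemma etale_SpecMap_residueFieldMap {V V' : Scheme.{u}} (b : V' ⟶ V) [Etale b] (v' : V') :
    Etale (Spec.map (b.residueFieldMap v')) := by
  have h1 := (Groth.Agent.Lib.H80EtaleStalk.stalk_formallyUnramified_iff b v').mp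
    (FormallyUnramified.stalkMap b v')
  rw [HasRingHomProperty.Spec_iff (P := @Etale)]
  algebraize [(b.residueFieldMap v').hom]
  have hfin : Module.Finite (V.residueField (b v')) (V'.residueField v') := h1.2.1
  have hsep : Algebra.IsSeparable (V.residueField (b v')) (V'.residueField v') := h1.2.2
  have hfe : Algebra.FormallyEtale (V.residueField (b v')) (V'.residueField v') :=
    Algebra.FormallyEtale.of_isSeparable _ _
  have hfp : Algebra.FinitePresentation (V.residueField (b v')) (V'.residueField v') :=
    Algebra.FinitePresentation.of_finiteType.mp inferInstance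
  exact ⟨hfe, hfp⟩

theorem main {U U' V V' : Scheme.{u}} (h : U ⟶ V) (h' : U' ⟶ V') (a : U' ⟶ U)
    (b : V' ⟶ V) [Etale a] [Etale b] (comm : h' ≫ b = a ≫ h) (v' : V')
    (φ : h'.fiber v' ⟶ h.fiber (b v')) (hφ1 : φ ≫ h.fiberι (b v') = h'.fiberι v' ≫ a)
    (hφ2 : φ ≫ h.fiberToSpecResidueField (b v') = h'.fiberToSpecResidueField v' ≫ Spec.map (b.residueFieldMap v')) :
    Etale φ := by
  -- notation
  set s := Spec.map (b.residueFieldMap v') with hs
  set i := V.fromSpecResidueField (b v') with hi
  set i' := V'.fromSpecResidueField v' with hi'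
  set ιF := h.fiberι (b v') with hιF
  set τF := h.fiberToSpecResidueField (b v') with hτF
  set ι' := h'.fiberι v' with hι'
  set τ' := h'.fiberToSpecResidueField v' with hτ'
  have hsi : s ≫ i = i' ≫ b := Scheme.Hom.SpecMap_residueFieldMap_fromSpecResidueField b v'
  have hA : IsPullback ιF τF h i := IsPullback.of_hasPullback h i
  have hA' : IsPullback ι' τ' h' i' := IsPullback.of_hasPullback h' i'
  have hs_et : Etale s := etale_SpecMap_residueFieldMap b v'
  -- W = F ×_k k'
  have hW : IsPullback (pullback.fst τF s) (pullback.snd τF s) τF s := IsPullback.of_hasPullback τF s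
  let ψ : h'.fiber v' ⟶ pullback τF s := pullback.lift φ τ' hφ2
  have hψ1 : ψ ≫ pullback.fst τF s = φ := pullback.lift_fst _ _ _
  have hψ2 : ψ ≫ pullback.snd τF s = τ' := pullback.lift_snd _ _ _
  -- Q = U ×_V V'
  have hQ : IsPullback (pullback.fst h b) (pullback.snd h b) h b := IsPullback.of_hasPullback h b
  let c : U' ⟶ pullback h b := pullback.lift a h' comm.symm
  have hc1 : c ≫ pullback.fst h b = a := pullback.lift_fst _ _ _
  have hc2 : c ≫ pullback.snd h b = h' := pullback.lift_snd _ _ _
  have hc_et : Etale c := by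
    have : Etale (c ≫ pullback.fst h b) := by rw [hc1]; infer_instance
    exact Etale.of_comp c (pullback.fst h b)
  -- θ : W ⟶ Q
  have hθcond : (pullback.fst τF s ≫ ιF) ≫ h = (pullback.snd τF s ≫ i') ≫ b := by
    rw [Category.assoc, hA.w, ← Category.assoc, hW.w, Category.assoc, hsi, Category.assoc]
  let θ : pullback τF s ⟶ pullback h b :=
    pullback.lift (pullback.fst τF s ≫ ιF) (pullback.snd τF s ≫ i') hθcond
  have hθ1 : θ ≫ pullback.fst h b = pullback.fst τF s ≫ ιF := pullback.lift_fst _ _ _
  have hθ2 : θ ≫ pullback.snd h b = pullback.snd τF s ≫ i' := pullback.lift_snd _ _ _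
  -- W is Q ×_{V'} k'
  have hbig1 : IsPullback (θ ≫ pullback.fst h b) (pullback.snd τF s) h (i' ≫ b) := by
    rw [hθ1, ← hsi]
    exact hW.paste_horiz hA
  have hWQ : IsPullback θ (pullback.snd τF s) (pullback.snd h b) i' :=
    IsPullback.of_right hbig1 hθ2 hQ
  -- F' is U' ×_Q W
  have hbig2 : IsPullback (ψ ≫ pullback.snd τF s) ι' i' (c ≫ pullback.snd h b) := by
    rw [hψ2, hc2]
    exact hA'.flip
  have hcomm : ψ ≫ θ = ι' ≫ c := by
    apply pullback.hom_ext
    · rw [Category.assoc, hθ1, ← Category.assoc, hψ1, hφ1, Category.assoc, hc1]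
    · rw [Category.assoc, hθ2, ← Category.assoc, hψ2, Category.assoc, hc2, hA'.w]
  have hF' : IsPullback ψ ι' θ c := IsPullback.of_right hbig2 hcomm hWQ.flip
  have hψ_et : Etale ψ := MorphismProperty.of_isPullback (P := @Etale) hF'.flip hc_et
  have hw1_et : Etale (pullback.fst τF s) :=
    MorphismProperty.of_isPullback (P := @Etale) hW.flip hs_et
  rw [← hψ1]
  infer_instance


end helpers

/-- Consider a commutative square of schemes with horizontal maps `h' : U' → V'`, `h : U → V` and étale
vertical maps `a : U' → U`, `b : V' → V`, and let `v' ∈ V'` with image `v = b(v')`. Then the induced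
morphism of fibres `U'_{v'} → U_v` is étale. (The morphism of fibres is characterised by its
compatibility with `a` and with `Spec κ(v') → Spec κ(v)`.) -/
theorem result {U U' V V' : Scheme.{u}} (h : U ⟶ V) (h' : U' ⟶ V') (a : U' ⟶ U)
    (b : V' ⟶ V) [Etale a] [Etale b] (comm : h' ≫ b = a ≫ h) (v' : V')
    (φ : h'.fiber v' ⟶ h.fiber (b v')) (hφ1 : φ ≫ h.fiberι (b v') = h'.fiberι v' ≫ a)
    (hφ2 : φ ≫ h.fiberToSpecResidueField (b v') = h'.fiberToSpecResidueField v' ≫ Spec.map (b.residueFieldMap v')) :
    Etale φ := by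
  exact main h h' a b comm v' φ hφ1 hφ2

end Groth.Agent.S7406
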