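import Groth.Statements.S7408
import Groth.Agent.S7406
import Groth.Agent.S1146
-- import your own Groth.Agent.* helpers here

set_option autoImplicit false
universe u
open CategoryTheory AlgebraicGeometry
open Desc

namespace Groth.Agent.S7408

open CategoryTheory.Limits in
/-- The canonical morphism of fibres `U'_{v'} → U_{b v'}` of a commutative square. -/
noncomputable def fiberMap {U U' V V' : Scheme.{u}} (h : U ⟶ V) (h' : U' ⟶ V') (a : U' ⟶ U)
    (b : V' ⟶ V) (comm : h' ≫ b = a ≫ h) (v' : V') : h'.fiber v' ⟶ h.fiber (b v') :=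
  pullback.lift (h'.fiberι v' ≫ a)
    (h'.fiberToSpecResidueField v' ≫ Spec.map (b.residueFieldMap v')) (by
      rw [Category.assoc, ← comm, Scheme.Hom.fiber_fac_assoc, Category.assoc,
        Scheme.Hom.SpecMap_residueFieldMap_fromSpecResidueField])

open CategoryTheory.Limits in
theorem fiberMap_fiberι {U U' V V' : Scheme.{u}} (h : U ⟶ V) (h' : U' ⟶ V') (a : U' ⟶ U)
    (b : V' ⟶ V) (comm : h' ≫ b = a ≫ h) (v' : V') :
    fiberMap h h' a b comm v' ≫ h.fiberι (b v') = h'.fiberι v' ≫ a :=
  pullback.lift_fst _ _ _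

open CategoryTheory.Limits in
theorem fiberMap_fiberToSpecResidueField {U U' V V' : Scheme.{u}} (h : U ⟶ V) (h' : U' ⟶ V')
    (a : U' ⟶ U) (b : V' ⟶ V) (comm : h' ≫ b = a ≫ h) (v' : V') :
    fiberMap h h' a b comm v' ≫ h.fiberToSpecResidueField (b v') =
      h'.fiberToSpecResidueField v' ≫ Spec.map (b.residueFieldMap v') :=
  pullback.lift_snd _ _ _

/-- The local dimension of the fibre `f⁻¹(y)` at a point `z` lying over `x` is `fibreDimAt f x`. -/
theorem localDim_fiber_eq {X Y : Scheme.{u}} (f : X ⟶ Y) (x : X) (y : Y) (hy : f x = y)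
    (z : f.fiber y) (hz : f.fiberι y z = x) :
    FlatMor.localDim (f.fiber y) z = FlatMor.fibreDimAt f x := by
  subst hy
  have : z = f.asFiber x :=
    (f.fiberι _).isEmbedding.injective (by rw [hz, Scheme.Hom.fiberι_asFiber])
  subst this
  rfl

/-- The local dimension of the fibre at a point is étale local on the source-and-target: for a
commutative square with horizontal maps `h' : U' → V'`, `h : U → V`, étale vertical maps `a : U' →
U`, `b : V' → V` and `u' ∈ U'`, the local dimension at `a(u')` of the fibre of `h` equals the local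
dimension at `u'` of the fibre of `h'`. -/
theorem result {U U' V V' : Scheme.{u}} (h : U ⟶ V) (h' : U' ⟶ V') (a : U' ⟶ U)
    (b : V' ⟶ V) [Etale a] [Etale b] (comm : h' ≫ b = a ≫ h) (u' : U') :
    FlatMor.fibreDimAt h (a u') = FlatMor.fibreDimAt h' u' := by
  have hφ : Etale (fiberMap h h' a b comm (h' u')) :=
    Groth.Agent.S7406.result h h' a b comm (h' u') _ (fiberMap_fiberι h h' a b comm (h' u'))
      (fiberMap_fiberToSpecResidueField h h' a b comm (h' u'))
  have hy : h (a u') = b (h' u') := by
    rw [← Scheme.Hom.comp_apply, ← comm, Scheme.Hom.comp_apply]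
  have hz : h.fiberι (b (h' u')) (fiberMap h h' a b comm (h' u') (h'.asFiber u')) = a u' := by
    rw [← Scheme.Hom.comp_apply, fiberMap_fiberι, Scheme.Hom.comp_apply,
      Scheme.Hom.fiberι_asFiber]
  rw [← localDim_fiber_eq h (a u') (b (h' u')) hy _ hz]
  exact (Groth.Agent.S1146.result (fiberMap h h' a b comm (h' u')) (h'.asFiber u')).symm

end Groth.Agent.S7408
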