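import Groth.Statements.S9429
import Mathlib
import Groth.Agent.Lib.H56FibDimSmooth2
import Groth.Agent.Lib.H56LocDimRing

set_option autoImplicit false
universe u
open Synt

namespace Groth.Agent.S9429

section Helpers

namespace D1

open Groth.Agent.Lib.H56LocDim Groth.Agent.Lib.TopKrullDim PrimeSpectrum TopologicalSpace

/-- A nonempty space all of whose local dimensions are `d` has dimension `d`. -/
lemma dim_eq_of_localDim_eq {X : Type*} [TopologicalSpace X] [Nonempty X] (d : ℕ)
    (h : ∀ x : X, FlatMor.localDim X x = d) : topologicalKrullDim X = d := by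
  apply le_antisymm
  · unfold topologicalKrullDim Order.krullDim
    refine iSup_le fun p => ?_
    obtain ⟨x, hx⟩ := p.head.isIrreducible.nonempty
    obtain ⟨U, hxU, hU⟩ := exists_open_dim_eq_localDim x
    rw [h x] at hU
    rw [← hU]
    exact length_le_dim_of_head_meets_open p U U.isOpen x hx hxU
  · obtain ⟨x⟩ := ‹Nonempty X›
    rw [← h x]
    exact (localDim_le_dim_open x ⊤ trivial).trans (topologicalKrullDim_subspace_le _ _)

/-- The Krull dimension of a nontrivial standard smooth algebra of relative dimension `d` over a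
field is `d`. -/
theorem ringKrullDim_of_isStandardSmoothOfRelativeDimension (k T : Type u) [Field k] [CommRing T]
    [Algebra k T] [Nontrivial T] (d : ℕ) [hT : Algebra.IsStandardSmoothOfRelativeDimension d k T] :
    ringKrullDim T = d := by
  rw [← PrimeSpectrum.topologicalKrullDim_eq_ringKrullDim]
  obtain ⟨x₀⟩ : Nonempty (PrimeSpectrum T) := inferInstance
  set φ := comap (algebraMap k T) with hφ
  have hfib : ∀ z : PrimeSpectrum T, fibLocDim φ z = d := fun z =>
    fibLocDim_of_isStandardSmoothOfRelativeDimension k T d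
      ((RingHom.isStandardSmoothOfRelativeDimension_algebraMap (n := d)).mpr hT) z
  haveI : Nonempty (φ ⁻¹' {φ x₀}) := ⟨⟨x₀, rfl⟩⟩
  have h1 : topologicalKrullDim (φ ⁻¹' {φ x₀}) = d := by
    apply dim_eq_of_localDim_eq
    rintro ⟨z, hz⟩
    rw [localDim_fibre_eq φ z (φ x₀) hz]
    exact hfib z
  rw [← h1]
  symm
  refine IsHomeomorph.topologicalKrullDim_eq Subtype.val ?_
  rw [isHomeomorph_iff_isEmbedding_surjective]
  refine ⟨Topology.IsEmbedding.subtypeVal, fun z => ⟨⟨z, ?_⟩, rfl⟩⟩
  exact Subsingleton.elim _ _

end D1

namespace D2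

open D1 MvPolynomial

theorem isGlobalCI_of_isStandardSmooth (k T : Type u) [Field k] [CommRing T] [Algebra k T]
    [Nontrivial T] [hstd : Algebra.IsStandardSmooth k T] : Synt.IsGlobalCI k T := by
  obtain ⟨ι, σ, _, _, ⟨P⟩⟩ := hstd.out
  haveI : Algebra.IsStandardSmoothOfRelativeDimension P.dimension k T :=
    ⟨ι, σ, inferInstance, inferInstance, P, rfl⟩
  have hdim := ringKrullDim_of_isStandardSmoothOfRelativeDimension k T P.dimension
  let P' := P.toPresentation.reindex (Finite.equivFin ι).symm (Finite.equivFin σ).symm
  refine Or.inr ⟨Nat.card ι, Nat.card σ, Nat.card_le_card_of_injective P.map P.map_inj,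
    aeval P'.val, P'.relation, ?_, ?_, ?_⟩
  · have := P'.algebraMap_surjective
    intro y
    obtain ⟨x, hx⟩ := this y
    exact ⟨x, by rw [← hx, P'.algebraMap_apply]⟩
  · rw [P'.span_range_relation_eq_ker, P'.ker_eq_ker_aeval_val]
    rfl
  · rw [hdim]
    rfl

theorem main (k : Type u) [Field k] (S : Type u) [CommRing S] [Algebra k S]
    [Algebra.Smooth k S] : Synt.IsLCIOver k S := by
  refine ⟨inferInstance, fun p => ?_⟩
  haveI : Algebra.IsSmoothAt k p.asIdeal := by
    have h : Algebra.smoothLocus k S = Set.univ := Algebra.smoothLocus_eq_univ_iff.mpr inferInstance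
    have : p ∈ Algebra.smoothLocus k S := h ▸ Set.mem_univ p
    exact this
  obtain ⟨g, hg, hstd⟩ := Algebra.IsSmoothAt.exists_notMem_isStandardSmooth k p.asIdeal
  refine ⟨g, hg, ?_⟩
  haveI : Nontrivial (Localization.Away g) := by
    have hp : (Ideal.map (algebraMap S (Localization.Away g)) p.asIdeal).IsPrime :=
      IsLocalization.isPrime_of_isPrime_disjoint (.powers g) _ _ p.2
        ((Ideal.disjoint_powers_iff_notMem_of_isPrime _).mpr hg)
    exact (⟨_, hp⟩ : PrimeSpectrum (Localization.Away g)).nontrivial
  exact isGlobalCI_of_isStandardSmooth k (Localization.Away g)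

end D2

end Helpers

/-- A smooth algebra over a field k is a local complete intersection over k (finite type, and locally on
Spec S by principal opens a global complete intersection). -/
theorem result (k : Type u) [Field k] (S : Type u) [CommRing S] [Algebra k S]
    [Algebra.Smooth k S] : Synt.IsLCIOver k S := by
  exact D2.main k S

end Groth.Agent.S9429
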