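import Groth.Statements.S9699
import Mathlib
import Groth.Agent.S9429

set_option autoImplicit false
universe u
open CategoryTheory CategoryTheory.Limits AlgebraicGeometry
open Synt

namespace Groth.Agent.S9699

section Helpers

namespace D3

open AlgebraicGeometry CategoryTheory

theorem isSyntomic_of_smooth (R A : Type u) [CommRing R] [CommRing A] [Algebra R A]
    [Algebra.Smooth R A] : Synt.IsSyntomic R A :=
  ⟨inferInstance, inferInstance, fun p =>
    Groth.Agent.S9429.result p.asIdeal.ResidueField (p.asIdeal.Fiber A)⟩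

theorem main {X S : Scheme.{u}} (f : X ⟶ S) [Smooth f] : Synt.IsSyntomicMor f := by
  intro x
  obtain ⟨V, hV, hxV, -⟩ := exists_isAffineOpen_mem_and_subset
    (x := f.base x) (U := ⊤) trivial
  obtain ⟨U, hU, hxU, hUV⟩ := exists_isAffineOpen_mem_and_subset
    (x := x) (U := f ⁻¹ᵁ V) hxV
  refine ⟨⟨U, hU⟩, ⟨V, hV⟩, hUV, hxU, ?_⟩
  have hsm : RingHom.Smooth (f.appLE V U hUV).hom :=
    HasRingHomProperty.appLE (P := @Smooth) f inferInstance ⟨V, hV⟩ ⟨U, hU⟩ hUV
  letI := (f.appLE V U hUV).hom.toAlgebra
  haveI : Algebra.Smooth Γ(S, V) Γ(X, U) := hsm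
  exact isSyntomic_of_smooth Γ(S, V) Γ(X, U)

end D3

end Helpers

/-- A smooth morphism of schemes is syntomic (flat, locally of finite presentation, with local complete
intersection fibres, in the affine-local sense of Synt.IsSyntomicMor). -/
theorem result {X S : Scheme.{u}} (f : X ⟶ S) [Smooth f] :
    Synt.IsSyntomicMor f := by
  exact D3.main f

end Groth.Agent.S9699
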