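import Groth.Statements.S2085
import Groth.Agent.Lib.SerreSk

set_option autoImplicit false
universe u
open CAlg

namespace Groth.Agent.S2085

open Groth.Agent.Lib IsLocalRing

/-- Let `M` be a finite module over a Noetherian ring `R`. Then every associated prime of `M` is minimal
in the support of `M` (no embedded primes) if and only if `M` satisfies Serre's condition `(S_1)`. -/
theorem result {R M : Type u} [CommRing R] [IsNoetherianRing R] [AddCommGroup M] [Module R M]
    [Module.Finite R M] :
    (∀ p ∈ associatedPrimes R M, p ∈ (Module.annihilator R M).minimalPrimes) ↔ LocCoh.HasSk 1 R M := by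
  constructor
  · intro h p hp
    by_cases hnt : Nontrivial (LocalizedModule p.primeCompl M)
    · by_cases hd : (1 : ℕ∞) ≤ LocCoh.depth (Localization.AtPrime p) (LocalizedModule p.primeCompl M)
      · refine (min_le_left _ _).trans ?_
        exact_mod_cast hd
      · have hass := (SerreSk.maximalIdeal_mem_associatedPrimes_iff
          (R := Localization.AtPrime p) (LocalizedModule p.primeCompl M)).mpr hd
        rw [← Module.associatedPrimes.preimage_comap_associatedPrimes_eq_associatedPrimes_of_isLocalizedModule
          p.primeCompl (Localization.AtPrime p) (LocalizedModule.mkLinearMap p.primeCompl M),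
          Set.mem_preimage] at hass
        have hpass : p ∈ associatedPrimes R M := by
          have := Localization.AtPrime.under_maximalIdeal (I := p)
          rw [Ideal.under] at this
          rwa [this] at hass
        have hmin := h p hpass
        have h0 := SerreSk.supportDim_localization_le_zero_of_mem_minimalPrimes p M hmin
        refine (min_le_right _ _).trans (h0.trans ?_)
        exact_mod_cast (zero_le (a := LocCoh.depth (Localization.AtPrime p) (LocalizedModule p.primeCompl M)))
    · rw [not_nontrivial_iff_subsingleton] at hnt
      rw [Module.supportDim_eq_bot_of_subsingleton]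
      simp
  · intro hS p hp
    have hprime : p.IsPrime := hp.isPrime
    have hSp := hS p
    have hass := Module.associatedPrimes.mem_associatedPrimes_atPrime_of_mem_associatedPrimes hp
    have hnt : Nontrivial (LocalizedModule p.primeCompl M) := by
      by_contra hnt
      rw [not_nontrivial_iff_subsingleton] at hnt
      have : associatedPrimes (Localization.AtPrime p) (LocalizedModule p.primeCompl M) = ∅ :=
        associatedPrimes.eq_empty_of_subsingleton
      change maximalIdeal _ ∈ associatedPrimes (Localization.AtPrime p)
        (LocalizedModule p.primeCompl M) at hass
      rw [this] at hass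
      exact hass
    have hd := (SerreSk.maximalIdeal_mem_associatedPrimes_iff
          (R := Localization.AtPrime p) (LocalizedModule p.primeCompl M)).mp hass
    have hd0 : LocCoh.depth (Localization.AtPrime p) (LocalizedModule p.primeCompl M) = 0 := by
      rw [not_le] at hd
      exact Order.lt_one_iff.mp hd
    rw [hd0] at hSp
    have hsd : Module.supportDim (Localization.AtPrime p) (LocalizedModule p.primeCompl M) ≤ 0 := by
      rcases min_le_iff.mp hSp with h1 | h1
      · exfalso
        have : ((1 : ℕ∞) : WithBot ℕ∞) ≤ ((0 : ℕ∞) : WithBot ℕ∞) := by exact_mod_cast h1
        rw [WithBot.coe_le_coe] at this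
        simp at this
      · exact_mod_cast h1
    refine SerreSk.mem_minimalPrimes_of_supportDim_localization_le_zero p M ?_ hsd
    have := IsAssociatedPrime.annihilator_le hp
    rwa [Submodule.annihilator_top] at this

end Groth.Agent.S2085
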