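import Groth.Statements.S9363
import Groth.Agent.Lib.SyntLCI3
import Groth.Agent.Lib.KoszulAffine

set_option autoImplicit false
set_option linter.style.haveILetI false
universe u
open Synt

namespace Groth.Agent.S9363

open AlgebraicGeometry CategoryTheory in
/-- f : X → S is syntomic if and only if, for every affine open V of S and every affine open U of X
mapped into V, the induced map O_S(V) → O_X(U) makes O_X(U) a syntomic algebra over O_S(V). -/
theorem result {X S : Scheme.{u}} (f : X ⟶ S) :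
    Synt.IsSyntomicMor f ↔
      ∀ (U : X.affineOpens) (V : S.affineOpens) (e : U.1 ≤ f ⁻¹ᵁ V.1),
        letI := (f.appLE V.1 U.1 e).hom.toAlgebra
        Synt.IsSyntomic Γ(S, V.1) Γ(X, U.1) := by
  constructor
  · intro hf
    have hflat : Flat f := by
      rw [HasRingHomProperty.iff_exists_appLE (P := @Flat)
        (RingHom.Flat.stableUnderComposition.stableUnderCompositionWithLocalizationAway
          RingHom.Flat.holdsForLocalizationAway).left]
      intro x
      obtain ⟨U, V, e, hxU, hsyn⟩ := hf x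
      exact ⟨V, U, hxU, e, hsyn.1⟩
    have hK : ∀ x : X, Synt.IsKoszulAt f x := by
      intro x
      obtain ⟨U, V, e, hxU, hsyn⟩ := hf x
      letI := (f.appLE V.1 U.1 e).hom.toAlgebra
      exact Groth.Agent.Lib.KoszulAtLCI.isKoszulAt_of_lciHom f x U.2 V.2 e hxU
        (Groth.Agent.Lib.SyntLCI.isLCI_of_isSyntomic hsyn)
    intro U V e
    letI := (f.appLE V.1 U.1 e).hom.toAlgebra
    haveI : Module.Flat Γ(S, V.1) Γ(X, U.1) := f.flat_appLE V.2 U.2 e
    exact Groth.Agent.Lib.SyntLCI.isSyntomic_of_isLCI_of_flat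
      (Groth.Agent.Lib.KoszulAffine.lciHom_appLE_of_forall_isKoszulAt f U.2 V.2 e (fun x _ => hK x))
  · intro h x
    obtain ⟨V, hV, hxV, -⟩ := TopologicalSpace.Opens.isBasis_iff_nbhd.mp S.isBasis_affineOpens
      (show f x ∈ (⊤ : S.Opens) from trivial)
    obtain ⟨U, hU, hxU, hUV⟩ := TopologicalSpace.Opens.isBasis_iff_nbhd.mp X.isBasis_affineOpens
      (show x ∈ f ⁻¹ᵁ V from hxV)
    exact ⟨⟨U, hU⟩, ⟨V, hV⟩, hUV, hxU, h ⟨U, hU⟩ ⟨V, hV⟩ hUV⟩

end Groth.Agent.S9363

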