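import Groth.Statements.S9269
import Groth.Agent.Lib.KoszulPolyRetr

set_option autoImplicit false
universe u
attribute [local instance] HasDerivedCategory.standard
open CategoryTheory
open LCI

namespace Groth.Agent.S9269

/-- Let B be an A-algebra of finite type. If the kernel of one presentation A[x_1, ..., x_n] → B is a
Koszul-regular ideal, then the kernel of any other presentation A[y_1, ..., y_m] → B is a
Koszul-regular ideal. -/
theorem result (A B : Type u) [CommRing A] [CommRing B]
    [Algebra A B] (n m : ℕ) (α : MvPolynomial (Fin n) A →ₐ[A] B) (hα : Function.Surjective α)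
    (β : MvPolynomial (Fin m) A →ₐ[A] B) (hβ : Function.Surjective β)
    (h : LCI.IsKoszulRegularIdeal (RingHom.ker α.toRingHom)) :
    LCI.IsKoszulRegularIdeal (RingHom.ker β.toRingHom) := by
  classical
  choose f hf using fun j : Fin m => hα (β (MvPolynomial.X j))
  choose g hg using fun i : Fin n => hβ (α (MvPolynomial.X i))
  let D₁ := Groth.Agent.Lib.KoszulPolyRetr.polyRetr (R := A) m (Equiv.refl (Fin n ⊕ Fin m)) f
  let D₂ := Groth.Agent.Lib.KoszulPolyRetr.polyRetr (R := A) n (Equiv.sumComm (Fin m) (Fin n)) g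
  have hcomp : α.comp (Groth.Agent.Lib.KoszulPolyRetr.evHom m (Equiv.refl (Fin n ⊕ Fin m)) f) =
      β.comp (Groth.Agent.Lib.KoszulPolyRetr.evHom n (Equiv.sumComm (Fin m) (Fin n)) g) := by
    apply MvPolynomial.algHom_ext
    intro v
    cases v with
    | inl i =>
      have h1 := Groth.Agent.Lib.KoszulPolyRetr.evHom_X_inl m (Equiv.refl (Fin n ⊕ Fin m)) f i
      have h2 := Groth.Agent.Lib.KoszulPolyRetr.evHom_X_inr n (Equiv.sumComm (Fin m) (Fin n)) g i
      rw [AlgHom.comp_apply, AlgHom.comp_apply]
      rw [Equiv.refl_apply] at h1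
      rw [Equiv.sumComm_apply, Sum.swap_inr] at h2
      rw [h1, h2, hg]
    | inr j =>
      have h1 := Groth.Agent.Lib.KoszulPolyRetr.evHom_X_inr m (Equiv.refl (Fin n ⊕ Fin m)) f j
      have h2 := Groth.Agent.Lib.KoszulPolyRetr.evHom_X_inl n (Equiv.sumComm (Fin m) (Fin n)) g j
      rw [AlgHom.comp_apply, AlgHom.comp_apply]
      rw [Equiv.refl_apply] at h1
      rw [Equiv.sumComm_apply, Sum.swap_inl] at h2
      rw [h1, h2, hf]
  have hker : (RingHom.ker α.toRingHom).comap D₁.ev = (RingHom.ker β.toRingHom).comap D₂.ev := by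
    rw [RingHom.comap_ker, RingHom.comap_ker]
    have h3 : α.toRingHom.comp D₁.ev = β.toRingHom.comp D₂.ev :=
      RingHom.ext fun x => AlgHom.congr_fun hcomp x
    rw [h3]
  have h1 := D₁.isKoszulRegularIdeal_comap _ h
  rw [hker] at h1
  exact D₂.isKoszulRegularIdeal_of_comap _ h1

end Groth.Agent.S9269

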