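import Groth.Statements.S9253
import Groth.Agent.Lib.KoszulAway
import Groth.Agent.S9269
import Mathlib.RingTheory.RingHom.FiniteType

set_option autoImplicit false
universe u
attribute [local instance] HasDerivedCategory.standard
open CategoryTheory
open LCI

namespace Groth.Agent.S9253

open Groth.Agent.Lib.KoszulQuot Groth.Agent.Lib.KoszulIdeal Groth.Agent.Lib.KoszulSurj
  Groth.Agent.Lib.KoszulAway in
/-- the local step: if `S_{α gt}` is LCI over `R` then `ker α` is locally generated by a
Koszul-regular sequence near every prime not containing `gt` -/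
theorem genAt_of_isLCI_away {R S : Type u} [CommRing R] [CommRing S] [Algebra R S] (n : ℕ)
    (α : MvPolynomial (Fin n) R →ₐ[R] S) (hα : Function.Surjective α)
    (gt : MvPolynomial (Fin n) R) (hLCI : LCI.IsLCI R (Localization.Away (α gt)))
    (𝔭 : PrimeSpectrum (MvPolynomial (Fin n) R)) (h𝔭 : RingHom.ker α.toRingHom ≤ 𝔭.asIdeal)
    (hgt : gt ∉ 𝔭.asIdeal) :
    ∃ G : MvPolynomial (Fin n) R, G ∉ 𝔭.asIdeal ∧ GenAt (RingHom.ker α.toRingHom) G := by
  -- the localized presentation
  have hT : Submonoid.map α.toRingHom (Submonoid.powers gt) = Submonoid.powers (α gt) :=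
    Submonoid.map_powers _ _
  let α' : Localization.Away gt →+* Localization.Away (α gt) :=
    IsLocalization.map (Localization.Away (α gt)) α.toRingHom
      (hT.symm ▸ (Submonoid.powers gt).le_comap_map)
  have hα'ker : RingHom.ker α' = (RingHom.ker α.toRingHom).map
      (algebraMap (MvPolynomial (Fin n) R) (Localization.Away gt)) :=
    IsLocalization.ker_map (Localization.Away (α gt)) α.toRingHom hT
  have hα'alg : ∀ p, α' (algebraMap _ _ p) = algebraMap S (Localization.Away (α gt)) (α p) :=
    fun p => IsLocalization.map_eq _ p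
  have hα'surj : Function.Surjective α' := by
    intro y
    obtain ⟨s, ⟨_, k, rfl⟩, rfl⟩ := IsLocalization.exists_mk'_eq (Submonoid.powers (α gt)) y
    obtain ⟨p, rfl⟩ := hα s
    refine ⟨IsLocalization.mk' _ p (⟨gt ^ k, k, rfl⟩ : Submonoid.powers gt), ?_⟩
    rw [IsLocalization.map_mk']
    congr 1
    exact Subtype.ext (map_pow α gt k)
  -- the presentation of `S_{α gt}` by `R[t, x]`
  let β : MvPolynomial (Fin (n + 1)) R →ₐ[R] Localization.Away (α gt) :=
    { toRingHom := α'.comp (θ gt).toRingHom
      commutes' := fun r => by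
        show α' (θ gt (algebraMap R _ r)) = algebraMap R _ r
        rw [AlgHom.commutes, IsScalarTower.algebraMap_apply R (MvPolynomial (Fin n) R)
          (Localization.Away gt), hα'alg, AlgHom.commutes,
          ← IsScalarTower.algebraMap_apply] }
  have hβsurj : Function.Surjective β := hα'surj.comp (θ_surjective gt)
  obtain ⟨_, k, β₀, hβ₀, hKR⟩ := hLCI
  have hKβ := Groth.Agent.S9269.result R (Localization.Away (α gt)) k (n + 1) β₀ hβ₀ β hβsurj hKR
  have hkerβ : RingHom.ker β.toRingHom =
      ((RingHom.ker α.toRingHom).map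
        (algebraMap (MvPolynomial (Fin n) R) (Localization.Away gt))).comap (awaySurjKR gt).ev := by
    rw [← hα'ker, RingHom.comap_ker]
    rfl
  rw [hkerβ] at hKβ
  have hI' := (awaySurjKR gt).isKoszulRegularIdeal_of_comap _ hKβ
  -- the prime of the localization
  have hdisj : Disjoint (Submonoid.powers gt : Set (MvPolynomial (Fin n) R)) 𝔭.asIdeal := by
    rw [Set.disjoint_left]
    rintro _ ⟨k, rfl⟩ hk
    exact hgt (𝔭.isPrime.mem_of_pow_mem k hk)
  have hprime : (𝔭.asIdeal.map
      (algebraMap (MvPolynomial (Fin n) R) (Localization.Away gt))).IsPrime :=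
    IsLocalization.isPrime_of_isPrime_disjoint (Submonoid.powers gt) _ _ 𝔭.isPrime hdisj
  have hcomap : (𝔭.asIdeal.map
      (algebraMap (MvPolynomial (Fin n) R) (Localization.Away gt))).comap
      (algebraMap (MvPolynomial (Fin n) R) (Localization.Away gt)) = 𝔭.asIdeal :=
    IsLocalization.comap_map_of_isPrime_disjoint (Submonoid.powers gt) _ 𝔭.isPrime hdisj
  rw [isKoszulRegularIdeal_iff] at hI'
  obtain ⟨h', hh', hgen⟩ := hI' ⟨_, hprime⟩ (Ideal.map_mono h𝔭)
  obtain ⟨l, hl, hIl⟩ := hgen.exists_list (Localization.Away h')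
  obtain ⟨k', a, ha⟩ := IsLocalization.Away.surj gt h'
  have hassoc : Associated (algebraMap (MvPolynomial (Fin n) R) (Localization.Away gt) a) h' := by
    rw [← ha]
    refine (Associated.symm ?_)
    exact associated_mul_unit_right _ _ ((IsLocalization.Away.algebraMap_isUnit gt).pow k')
  have ha𝔭 : a ∉ 𝔭.asIdeal := by
    intro hmem
    apply hh'
    have h1 : algebraMap (MvPolynomial (Fin n) R) (Localization.Away gt) a ∈
        𝔭.asIdeal.map (algebraMap (MvPolynomial (Fin n) R) (Localization.Away gt)) :=
      Ideal.mem_map_of_mem _ hmem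
    rw [← ha] at h1
    exact (Ideal.mul_unit_mem_iff_mem _
      ((IsLocalization.Away.algebraMap_isUnit gt).pow k')).mp h1
  haveI : IsLocalization.Away (gt * a) (Localization.Away h') :=
    IsLocalization.Away.mul_of_associated gt a h' hassoc
  refine ⟨gt * a, ?_, GenAt.mk (Localization.Away h') l hl ?_⟩
  · intro hmem
    rcases 𝔭.isPrime.mem_or_mem hmem with h1 | h1
    · exact hgt h1
    · exact ha𝔭 h1
  · rw [IsScalarTower.algebraMap_eq (MvPolynomial (Fin n) R) (Localization.Away gt)
      (Localization.Away h'), ← Ideal.map_map, hIl]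


/-- Let R → S be a ring map and g_1, ..., g_m elements of S generating the unit ideal. When every
localization S_{g_j} is a local complete intersection algebra over R, so is S. -/
theorem result (R S : Type u) [CommRing R] [CommRing S] [Algebra R S]
    (m : ℕ) (g : Fin m → S) (hg : Ideal.span (Set.range g) = ⊤)
    (h : ∀ j, LCI.IsLCI R (Localization.Away (g j))) : LCI.IsLCI R S := by
  -- finite type
  have hft : Algebra.FiniteType R S := by
    rw [← RingHom.finiteType_algebraMap]
    refine RingHom.finiteType_ofLocalizationSpanTarget (algebraMap R S) (Set.range g) hg ?_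
    rintro ⟨_, j, rfl⟩
    have h1 : (algebraMap S (Localization.Away (g j))).comp (algebraMap R S) =
        algebraMap R (Localization.Away (g j)) :=
      (IsScalarTower.algebraMap_eq R S (Localization.Away (g j))).symm
    show ((algebraMap S (Localization.Away (g j))).comp (algebraMap R S)).FiniteType
    rw [h1, RingHom.finiteType_algebraMap]
    exact (h j).1
  refine ⟨hft, ?_⟩
  obtain ⟨n, α, hα⟩ := Algebra.FiniteType.iff_quotient_mvPolynomial''.mp hft
  refine ⟨n, α, hα, ?_⟩
  rw [Groth.Agent.Lib.KoszulIdeal.isKoszulRegularIdeal_iff]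
  intro 𝔭 h𝔭
  -- some `g j` is not in the image prime
  have hex : ∃ j, g j ∉ 𝔭.asIdeal.map α.toRingHom := by
    by_contra hcon
    rw [not_exists] at hcon
    have h1 : Ideal.span (Set.range g) ≤ 𝔭.asIdeal.map α.toRingHom := by
      rw [Ideal.span_le]
      rintro _ ⟨j, rfl⟩
      exact not_not.mp (hcon j)
    rw [hg, top_le_iff] at h1
    have h2 : (𝔭.asIdeal.map α.toRingHom).comap α.toRingHom = 𝔭.asIdeal := by
      rw [Ideal.comap_map_of_surjective α.toRingHom hα]
      exact sup_eq_left.mpr h𝔭
    rw [h1, Ideal.comap_top] at h2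
    exact 𝔭.isPrime.ne_top h2.symm
  obtain ⟨j, hj⟩ := hex
  obtain ⟨gt, hgt⟩ := hα (g j)
  have hgt𝔭 : gt ∉ 𝔭.asIdeal := by
    intro hmem
    apply hj
    rw [← hgt]
    exact Ideal.mem_map_of_mem _ hmem
  exact genAt_of_isLCI_away n α hα gt (by rw [hgt]; exact h j) 𝔭 h𝔭 hgt𝔭

end Groth.Agent.S9253

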