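import Groth.Statements.S9758
import Groth.Agent.Lib.SyntLCI3

set_option autoImplicit false
set_option linter.style.haveILetI false
universe u
open FlatMor

namespace Groth.Agent.S9758

open AlgebraicGeometry CategoryTheory Limits in
/-- A morphism of schemes f : X ⟶ S is flat and a local complete intersection morphism (Koszul at every
point) if and only if it is syntomic. -/
theorem result {X S : Scheme.{u}} (f : X ⟶ S) :
    (Flat f ∧ ∀ x : X, Synt.IsKoszulAt f x) ↔ Synt.IsSyntomicMor f := by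
  constructor
  · rintro ⟨hfl, hK⟩ x
    obtain ⟨V, hV, hxV, -⟩ := TopologicalSpace.Opens.isBasis_iff_nbhd.mp S.isBasis_affineOpens
      (show f x ∈ (⊤ : S.Opens) from trivial)
    obtain ⟨U, hU, e, hx, hl⟩ :=
      Groth.Agent.Lib.KoszulAtLCI.exists_lciHom_of_isKoszulAt f x (hK x) hV hxV
    refine ⟨⟨U, hU⟩, ⟨V, hV⟩, e, hx, ?_⟩
    letI := (f.appLE V U e).hom.toAlgebra
    haveI : Module.Flat Γ(S, V) Γ(X, U) := f.flat_appLE hV hU e
    exact Groth.Agent.Lib.SyntLCI.isSyntomic_of_isLCI_of_flat hl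
  · intro hf
    refine ⟨?_, fun x => ?_⟩
    · rw [HasRingHomProperty.iff_exists_appLE (P := @Flat)
        (RingHom.Flat.stableUnderComposition.stableUnderCompositionWithLocalizationAway
          RingHom.Flat.holdsForLocalizationAway).left]
      intro x
      obtain ⟨U, V, e, hxU, hsyn⟩ := hf x
      exact ⟨V, U, hxU, e, hsyn.1⟩
    · obtain ⟨U, V, e, hxU, hsyn⟩ := hf x
      letI := (f.appLE V.1 U.1 e).hom.toAlgebra
      exact Groth.Agent.Lib.KoszulAtLCI.isKoszulAt_of_lciHom f x U.2 V.2 e hxU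
        (Groth.Agent.Lib.SyntLCI.isLCI_of_isSyntomic hsyn)

end Groth.Agent.S9758

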