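import Groth.Statements.S10261
import Groth.Agent.S10262
import Groth.Agent.Lib.AlgSpBasic3
import Groth.Agent.Lib.H86AlgSpOpen
import Groth.Agent.Lib.AlgSpDescent
import Groth.Agent.Lib.H69AlgSp

set_option autoImplicit false
universe u
open CategoryTheory CategoryTheory.Limits AlgebraicGeometry
open AlgSp

namespace Groth.Agent.S10261

/-- An etale and universally injective morphism of algebraic spaces is an open immersion. -/
theorem result {S : Scheme.{u}} {X Y : AlgSp.Space S}
    (f : X ⟶ Y) (het : AlgSp.IsEtaleMor f.hom) (hinj : AlgSp.IsUnivInjectiveMor f.hom) :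
    AlgSp.RepWith @IsOpenImmersion f.hom := by
  have hloc : LocP @Etale f.hom := (Groth.Agent.Lib.AlgSpLocP.isEtaleMor_iff_locP Y.property f.hom).1 het
  have hlu : LocP (@LocallyOfFiniteType ⊓ @FormallyUnramified) f.hom := by
    intro U V a b h ha hb comm
    have : Etale h.left := hloc a b h ha hb comm
    exact ⟨inferInstance, inferInstance⟩
  have hΔ : RepWith @IsOpenImmersion (pullback.diagonal f.hom) :=
    (Groth.Agent.S10262.result f).1 hlu
  have hΔs : Function.Surjective (Points.map (pullback.diagonal f.hom)) :=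
    Groth.Agent.Lib.AlgSpBasic.isSurjectiveMor_diagonal_of_isUnivInjectiveMor f.hom hinj
  have hΔi : IsIso (pullback.diagonal f.hom) :=
    Groth.Agent.Lib.H86AlgSpSub.isIso_of_repWith_isOpenImmersion_of_surjective hΔ hΔs
  have hmono : Mono f.hom := (pullback.isIso_diagonal_iff f.hom).1 hΔi
  -- the image of `f` is open
  have hopen : IsOpenMap (Points.map f.hom) :=
    Groth.Agent.Lib.AlgSpDescent.isUnivOpenMor_of_isEtaleMor X.property Y.property.diag het
      Y.property (𝟙 Y.obj) (𝟙 X.obj) f.hom (IsPullback.of_horiz_isIso ⟨by simp⟩)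
  have hW : IsOpen (Set.range (Points.map f.hom)) := hopen.isOpen_range
  set W := Set.range (Points.map f.hom) with hWdef
  have hj : RepWith @IsOpenImmersion (Groth.Agent.Lib.H86AlgSpOpen.openSubι Y.obj W) :=
    Groth.Agent.Lib.H86AlgSpOpen.openSubι_repWith hW
  have hjr : Set.range (Points.map (Groth.Agent.Lib.H86AlgSpOpen.openSubι Y.obj W)) = W :=
    Groth.Agent.Lib.H86AlgSpOpen.range_map_openSubι
  obtain ⟨g, hg⟩ := Groth.Agent.Lib.H86AlgSpSub.exists_factor_of_range_subset hj f.hom
    (by rw [hjr])
  set j := Groth.Agent.Lib.H86AlgSpOpen.openSubι Y.obj W with hjdef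
  have hjm : Mono j := Groth.Agent.Lib.AlgSpBasic.mono_of_repWith
    (P := @IsOpenImmersion) (fun _ _ k (hk : IsOpenImmersion k) => by
      change Mono k
      infer_instance) hj
  have hgm : Mono g := by
    have : Mono (g ≫ j) := by rw [hg]; exact hmono
    exact mono_of_mono g j
  -- `g` is an epimorphism: use an atlas of `X`
  obtain ⟨U, p, hp, hps⟩ := X.property.atlas
  have hpg : RepWith @Etale (p ≫ g) := by
    apply Groth.Agent.Lib.AlgSpBasic.repWith_of_comp_mono _ (p ≫ g) j
    rw [Category.assoc, hg]
    exact het p hp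
  have hjinj : Function.Injective (Points.map j) :=
    Groth.Agent.Lib.AlgSpPoints.injective_map_of_representable hj.rep (fun T t => by
      have : IsOpenImmersion (hj.rep.snd t).left := hj.property_snd t
      exact (hj.rep.snd t).left.isOpenEmbedding.injective)
  have hpsurj : Function.Surjective (Points.map p) :=
    Groth.Agent.Lib.AlgSpPoints.surjective_map_of_representable hp.rep
      (fun T t => (hps.property _ _ _ (hp.rep.isPullback t)).surj)
  have hpgs : Function.Surjective (Points.map (p ≫ g)) := by
    intro y'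
    have hy : Points.map j y' ∈ W := hjr.le ⟨y', rfl⟩
    obtain ⟨x, hx⟩ := hy
    obtain ⟨u, rfl⟩ := hpsurj x
    refine ⟨u, hjinj ?_⟩
    rw [← hx, ← hg, Points.map_comp, Points.map_comp]
  have hpgS : RepWith @Surjective (p ≫ g) := by
    refine ⟨hpg.rep, fun T V t fst snd sq => ?_⟩
    change Surjective snd.left
    have h1 : Function.Surjective (Points.map ((yon S).map snd)) :=
      Groth.Agent.Lib.AlgSpPoints.isSurjectiveMor_of_isPullback sq hpgs
    exact ⟨(Groth.Agent.Lib.AlgSpPoints.surjective_map_yon_map_iff snd).1 h1⟩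
  have hls : Sheaf.IsLocallySurjective (p ≫ g) :=
    Groth.Agent.Lib.H69AlgSp.isLocallySurjective_of_etale_surjective _ hpg hpgS
  have hepi : Epi (p ≫ g) := inferInstance
  have hge : Epi g := epi_of_epi p g
  have hgi : IsIso g := isIso_of_mono_of_epi g
  rw [← hg]
  exact MorphismProperty.RespectsIso.precomp _ g j hj

end Groth.Agent.S10261
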