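import Groth.Statements.S2076
import Groth.Agent.Lib.LimClosedIntoStage

set_option autoImplicit false
universe u
open CategoryTheory AlgebraicGeometry
open Lim

namespace Groth.Agent.S2076

/-- Let `X = lim X_i` be a cofiltered limit of quasi-compact schemes over `S` with affine transition
morphisms and `h : Y → X` a closed immersion with `Y → S` locally of finite type. Then `Y → X_i` is
a closed immersion for some `i`. -/
theorem result {I : Type u} [SmallCategory I] [IsCofiltered I] (S : Scheme.{u})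
    (D : I ⥤ Over S) (c : Limits.Cone D) (hc : Limits.IsLimit c)
    [∀ (i j : I) (f : i ⟶ j), IsAffineHom (D.map f).left] [∀ i, CompactSpace (D.obj i).left]
    {Y : Scheme.{u}} (h : Y ⟶ c.pt.left) [IsClosedImmersion h] [LocallyOfFiniteType (h ≫ c.pt.hom)] :
    ∃ i : I, IsClosedImmersion (h ≫ (c.π.app i).left) := by
  classical
  let D' : I ⥤ Scheme.{u} := D ⋙ Over.forget S
  let c' : Limits.Cone D' := (Over.forget S).mapCone c
  have hc' : Limits.IsLimit c' := Limits.isLimitOfPreserves (Over.forget S) hc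
  haveI haff' : ∀ {i j : I} (f : i ⟶ j), IsAffineHom (D'.map f) := fun f =>
    (inferInstance : IsAffineHom (D.map f).left)
  haveI : ∀ i, CompactSpace (D'.obj i) := fun i =>
    (inferInstance : CompactSpace (D.obj i).left)
  let τ : ∀ i, D'.obj i ⟶ S := fun i => (D.obj i).hom
  have hτ : ∀ {i j : I} (f : i ⟶ j), D'.map f ≫ τ j = τ i := fun f => Over.w (D.map f)
  have hπ : ∀ i, c'.π.app i ≫ τ i = c.pt.hom := fun i => Over.w (c.π.app i)
  let h' : Y ⟶ c'.pt := h
  haveI : IsClosedImmersion h' := (inferInstance : IsClosedImmersion h)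
  let i₀ : I := (IsCofiltered.nonempty (C := I)).some
  haveI : LocallyOfFiniteType (h' ≫ c'.π.app i₀ ≫ τ i₀) := by
    rw [hπ i₀]
    exact (inferInstanceAs (LocallyOfFiniteType (h ≫ c.pt.hom)))
  -- affine cover of `X_{i₀}` subordinate to affine opens of `S`
  have hcov : ∀ x : D'.obj i₀, ∃ (U : (D'.obj i₀).Opens) (V : S.Opens),
      IsAffineOpen U ∧ IsAffineOpen V ∧ x ∈ U ∧ U ≤ τ i₀ ⁻¹ᵁ V := by
    intro x
    obtain ⟨_, ⟨V, hV : IsAffineOpen V, rfl⟩, hxV, -⟩ :=
      S.isBasis_affineOpens.exists_subset_of_mem_open (Set.mem_univ ((τ i₀).base x)) isOpen_univ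
    obtain ⟨_, ⟨U, hU : IsAffineOpen U, rfl⟩, hxU, hUV⟩ :=
      (D'.obj i₀).isBasis_affineOpens.exists_subset_of_mem_open
        (show x ∈ ((τ i₀ ⁻¹ᵁ V : (D'.obj i₀).Opens) : Set (D'.obj i₀)) from hxV)
        (τ i₀ ⁻¹ᵁ V).2
    exact ⟨U, V, hU, hV, hxU, hUV⟩
  choose U V hU hV hxU hUV using hcov
  obtain ⟨t, ht⟩ := CompactSpace.elim_nhds_subcover (fun x => ((U x : (D'.obj i₀).Opens) :
    Set (D'.obj i₀))) (fun x => (U x).2.mem_nhds (hxU x))
  have key : ∀ x : D'.obj i₀, ∃ j : Over i₀, ∀ (k : Over i₀) (_ : k ⟶ j),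
      IsClosedImmersion ((h' ≫ c'.π.app k.left) ∣_ (D'.map k.hom ⁻¹ᵁ U x)) := fun x =>
    Groth.Agent.Lib.LimStructureMap.exists_isClosedImmersion_restrict_stage D' c' hc' τ hτ i₀
      (U x) (hU x) (V x) (hV x) (hUV x) h'
  choose j hj using key
  obtain ⟨k, hk⟩ := IsCofiltered.inf_objs_exists (t.image j)
  refine ⟨k.left, ?_⟩
  change IsClosedImmersion (h' ≫ c'.π.app k.left)
  refine (IsZariskiLocalAtTarget.iff_of_iSup_eq_top (P := @IsClosedImmersion)
    (fun x : t => D'.map k.hom ⁻¹ᵁ U x.1) ?_).mpr (fun x => ?_)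
  · rw [eq_top_iff]
    intro y _
    have hy : (D'.map k.hom).base y ∈ ⋃ x ∈ t, ((U x : (D'.obj i₀).Opens) : Set (D'.obj i₀)) := by
      rw [ht]
      trivial
    simp only [Set.mem_iUnion] at hy
    obtain ⟨x, hxt, hyx⟩ := hy
    exact TopologicalSpace.Opens.mem_iSup.mpr ⟨⟨x, hxt⟩, hyx⟩
  · obtain ⟨m⟩ := hk (Finset.mem_image_of_mem j x.2)
    exact hj x.1 k m

end Groth.Agent.S2076
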