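-- Statement S2594.
import Groth.Statements.S2594
import Groth.Agent.Lib.H30GenFib
import Mathlib

set_option autoImplicit false
open CategoryTheory AlgebraicGeometry
universe u
open EGA43

namespace Groth.Agent.S2594

open CategoryTheory.Limits
open Groth.Agent.Lib.H30GenFib Groth.Agent.Lib.H30FibBC Groth.Agent.Lib.H56LocDim
  Groth.Agent.Lib.H30DimField TopologicalSpace


theorem fibreDimAt_comp_of_isOpenImmersion {V X Y : Scheme.{u}} (j : V ⟶ X) [IsOpenImmersion j]
    (f : X ⟶ Y) (v : V) :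
    FlatMor.fibreDimAt (j ≫ f) v = FlatMor.fibreDimAt f (j v) := by
  rw [fibreDimAt_eq_fibLocDim, fibreDimAt_eq_fibLocDim]
  exact fibLocDim_eq_of_square j.isOpenEmbedding (i := id) Function.injective_id
    (fun a => (j ≫ f) a) (fun a => f a) (fun _ => rfl) v

theorem fib_cond_iff {X Y : Scheme.{u}} (f : X ⟶ Y) [LocallyOfFiniteType f] (e : ℕ) :
    (∀ x' : X, ∀ Z ∈ irreducibleComponents (↥(f.fiber (f.base x')) : Type u),
      topologicalKrullDim (↥Z : Type u) = e) ↔
    ∀ x : X, FlatMor.fibreDimAt f x = (e : WithBot ℕ∞) := by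
  rw [← hasRelDim_iff]
  constructor
  · intro h y T hT
    obtain ⟨z, hz⟩ := hT.1.nonempty
    have hy : ∃ x : X, f x = y := by
      refine ⟨f.fiberι y z, ?_⟩
      have : f.fiberι y z ∈ Set.range (f.fiberι y) := ⟨z, rfl⟩
      rw [f.range_fiberι y] at this
      exact this
    obtain ⟨x, rfl⟩ := hy
    exact h x T hT
  · intro h x' Z hZ
    exact h _ Z hZ

/-- maximal points of an open subscheme are maximal -/
theorem isMax_ι {X : Scheme.{u}} (U : X.Opens) (z : U.toScheme) (hz : IsMaxPt z) :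
    IsMaxPt (U.ι z) := by
  intro ξ hξ
  have hξU : ξ ∈ U := hξ.mem_open U.isOpen z.2
  obtain ⟨ξ', rfl⟩ : ξ ∈ Set.range U.ι := by
    rw [Scheme.Opens.range_ι]; exact hξU
  have h1 : ξ' ⤳ z := by
    rw [← U.ι.isOpenEmbedding.isInducing.specializes_iff]
    exact hξ
  rw [hz _ h1]

/-- maximal points lying in an open subscheme are maximal there -/
theorem isMax_of_ι {X : Scheme.{u}} (U : X.Opens) (z : U.toScheme) (hz : IsMaxPt (U.ι z)) :
    IsMaxPt z := by
  intro ξ hξ
  have h1 : U.ι ξ ⤳ U.ι z := hξ.map U.ι.continuous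
  exact U.ι.isOpenEmbedding.injective (hz _ h1)

theorem finite_isMax (T : Type u) [TopologicalSpace T] [T0Space T] [QuasiSober T]
    [NoetherianSpace T] : {z : T | IsMaxPt z}.Finite := by
  refine Set.Finite.of_injOn (f := fun z : T => closure ({z} : Set T))
    (t := irreducibleComponents T) ?_ ?_ NoetherianSpace.finite_irreducibleComponents
  · intro z hz
    apply Groth.Agent.Lib.GenericDense68.closure_singleton_mem_irreducibleComponents
    intro y hy
    rw [hz y hy]
  · intro a _ b _ hab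
    exact ((inseparable_iff_closure_eq.mpr hab)).eq

theorem main {X Y Y' : Scheme.{u}} (f : X ⟶ Y) [LocallyOfFiniteType f] (g : Y' ⟶ Y) [Flat g]
    [IsLocallyNoetherian Y']
    (x : X) (h : EGA43.IsEquidimAt f x) (x' : ↥(pullback f g))
    (hx' : (pullback.fst f g).base x' = x) :
    EGA43.IsEquidimAt (pullback.snd f g) x' := by
  obtain ⟨e, U, hxU, hcomp, hfib⟩ := h
  haveI : IsLocallyNoetherian (pullback f g) :=
    LocallyOfFiniteType.isLocallyNoetherian (pullback.snd f g)
  have hx'U : x' ∈ (pullback.fst f g) ⁻¹ᵁ U := by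
    show (pullback.fst f g).base x' ∈ U
    rw [hx']; exact hxU
  obtain ⟨V, hV, hx'V, hVU⟩ := exists_isAffineOpen_mem_and_subset hx'U
  haveI : IsNoetherianRing Γ(pullback f g, V) :=
    IsLocallyNoetherian.component_noetherian ⟨V, hV⟩
  haveI : NoetherianSpace V := noetherianSpace_of_isAffineOpen V hV
  -- the bad set
  have hSfin : {ζ : ↥(pullback f g) | ζ ∈ V ∧ IsMaxPt ζ ∧ ¬ ζ ⤳ x'}.Finite := by
    refine ((finite_isMax V.toScheme).image V.ι).subset ?_
    rintro ζ ⟨hζV, hζmax, -⟩
    obtain ⟨ζ₀, rfl⟩ : ζ ∈ Set.range V.ι := by rw [Scheme.Opens.range_ι]; exact hζV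
    exact ⟨ζ₀, isMax_of_ι V ζ₀ hζmax, rfl⟩
  have hclosed : IsClosed (⋃ ζ ∈ {ζ : ↥(pullback f g) | ζ ∈ V ∧ IsMaxPt ζ ∧ ¬ ζ ⤳ x'},
      closure ({ζ} : Set ↥(pullback f g))) :=
    hSfin.isClosed_biUnion (fun _ _ => isClosed_closure)
  obtain ⟨U'', hU''def⟩ : ∃ U'' : (pullback f g).Opens,
      U'' = V ⊓ ⟨_, hclosed.isOpen_compl⟩ := ⟨_, rfl⟩
  have hU''V : U'' ≤ V := hU''def ▸ inf_le_left
  have hx'U'' : x' ∈ U'' := by
    rw [hU''def]
    refine ⟨hx'V, ?_⟩
    show x' ∉ _
    simp only [Set.mem_iUnion, not_exists]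
    rintro ζ ⟨-, -, hζ⟩ hmem
    exact hζ (specializes_iff_mem_closure.mpr hmem)
  have hmaxU'' : ∀ ζ : ↥(pullback f g), ζ ∈ U'' → IsMaxPt ζ → ζ ⤳ x' := by
    intro ζ hζU hζmax
    by_contra hcon
    rw [hU''def] at hζU
    apply hζU.2
    show ζ ∈ ⋃ _, _
    simp only [Set.mem_iUnion]
    exact ⟨ζ, ⟨hζU.1, hζmax, hcon⟩, subset_closure rfl⟩
  have hcomp' : ∀ Z ∈ irreducibleComponents (U.toScheme : Type u),
      ∃ W ∈ irreducibleComponents (Y : Type u), f x ∈ W ∧ closure ((U.ι ≫ f) '' Z) = W := hcomp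
  have hfib' : ∀ x' : U.toScheme,
      ∀ Z ∈ irreducibleComponents (↥((U.ι ≫ f).fiber ((U.ι ≫ f).base x')) : Type u),
      topologicalKrullDim (↥Z : Type u) = e := hfib
  clear hcomp hfib
  have h2 : ∀ Z ∈ irreducibleComponents (U''.toScheme : Type u),
      ∃ W ∈ irreducibleComponents (Y' : Type u), (pullback.snd f g) x' ∈ W ∧
        closure ((U''.ι ≫ pullback.snd f g) '' Z) = W := by
    intro Z hZ
    obtain ⟨ζ'', hζ''⟩ : ∃ z, IsGenericPoint z Z :=
      QuasiSober.sober hZ.1 (isClosed_of_mem_irreducibleComponents Z hZ)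
    have hζ''max : IsMaxPt ζ'' := by
      rw [← hζ''.def] at hZ
      exact (closure_mem_irreducibleComponents_iff ζ'').mp hZ
    have hζ'max : IsMaxPt (U''.ι ζ'') := isMax_ι U'' ζ'' hζ''max
    have hζ'sp : U''.ι ζ'' ⤳ x' := hmaxU'' _ ζ''.2 hζ'max
    -- image in X
    have hπmax : IsMaxPt ((pullback.fst f g) (U''.ι ζ'')) := isMax_of_flat _ _ hζ'max
    have hπU : (pullback.fst f g) (U''.ι ζ'') ∈ U := hVU (hU''V ζ''.2)
    obtain ⟨ζU, hζU⟩ : (pullback.fst f g) (U''.ι ζ'') ∈ Set.range U.ι := by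
      rw [Scheme.Opens.range_ι]; exact hπU
    have hζUmax : IsMaxPt ζU := isMax_of_ι U ζU (hζU ▸ hπmax)
    have hZ₀ : closure ({ζU} : Set U.toScheme) ∈ irreducibleComponents U.toScheme :=
      (closure_mem_irreducibleComponents_iff ζU).mpr hζUmax
    obtain ⟨W, hW, -, hWeq⟩ := hcomp' _ hZ₀
    have hWeq' : closure ({f ((pullback.fst f g) (U''.ι ζ''))} : Set Y) = W := by
      rw [← hWeq, closure_image_closure (U.ι ≫ f).continuous, Set.image_singleton]
      congr 2
      rw [← hζU]
      rfl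
    have hηmax : IsMaxPt (g ((pullback.snd f g) (U''.ι ζ''))) := by
      have : g ((pullback.snd f g) (U''.ι ζ'')) = f ((pullback.fst f g) (U''.ι ζ'')) :=
        (congrArg (fun φ : pullback f g ⟶ Y => φ (U''.ι ζ''))
          (pullback.condition (f := f) (g := g))).symm
      rw [this]
      rw [← hWeq'] at hW
      exact (closure_mem_irreducibleComponents_iff _).mp hW
    have hη'max := isMax_snd f g _ hζ'max hηmax
    refine ⟨closure {(pullback.snd f g) (U''.ι ζ'')},
      (closure_mem_irreducibleComponents_iff _).mpr hη'max, ?_, ?_⟩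
    · exact specializes_iff_mem_closure.mp (hζ'sp.map (pullback.snd f g).continuous)
    · rw [← hζ''.def, closure_image_closure (U''.ι ≫ pullback.snd f g).continuous,
        Set.image_singleton]
      rfl
  have h3 : ∀ x' : U''.toScheme,
      ∀ Z ∈ irreducibleComponents
        (↥((U''.ι ≫ pullback.snd f g).fiber ((U''.ι ≫ pullback.snd f g).base x')) : Type u),
      topologicalKrullDim (↥Z : Type u) = e := by
    rw [fib_cond_iff]
    intro u
    rw [fibreDimAt_comp_of_isOpenImmersion, fibreDimAt_eq_of_isPullback f g (pullback.fst f g)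
      (pullback.snd f g) (IsPullback.of_hasPullback f g)]
    have hπU : (pullback.fst f g) (U''.ι u) ∈ U := hVU (hU''V u.2)
    obtain ⟨ζU, hζU⟩ : (pullback.fst f g) (U''.ι u) ∈ Set.range U.ι := by
      rw [Scheme.Opens.range_ι]; exact hπU
    have key := (fib_cond_iff (U.ι ≫ f) e).mp hfib' ζU
    rw [fibreDimAt_comp_of_isOpenImmersion, hζU] at key
    exact key
  exact ⟨e, U'', hx'U'', h2, h3⟩

open CategoryTheory.Limits in

open CategoryTheory.Limits in
/-- Let f : X ⟶ Y be locally of finite type and equidimensional at a point x, and g : Y' ⟶ Y a flat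
morphism with Y' locally Noetherian (the source states this for arbitrary Y', but its proof reduces
to the case where every irreducible component passes through the point, which needs the irreducible
components to be locally finite). Then the base change X ×_Y Y' ⟶ Y' is equidimensional at every
point lying over x. -/
theorem result {X Y Y' : Scheme.{u}} (f : X ⟶ Y) [LocallyOfFiniteType f] (g : Y' ⟶ Y) [Flat g] [IsLocallyNoetherian Y']
    (x : X) (h : EGA43.IsEquidimAt f x) (x' : ↥(pullback f g)) (hx' : (pullback.fst f g).base x' = x) :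
    EGA43.IsEquidimAt (pullback.snd f g) x' := by
  exact main f g x h x' hx'

end Groth.Agent.S2594
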