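import Groth.Statements.S9357
import Groth.Agent.Lib.H30FibBC
import Groth.Agent.Lib.FibreDimAtFormula

set_option autoImplicit false
universe u
open FibDim

namespace Groth.Agent.S9357
open AlgebraicGeometry CategoryTheory
open Groth.Agent.Lib.H30DimRel Groth.Agent.Lib.H30IrrFib

theorem rt_le_fibreDimAt' {X Y : Scheme.{u}} (f : X ⟶ Y) [LocallyOfFiniteType f] (x : X) :
    ((rt f x : ℕ) : WithBot ℕ∞) ≤ FlatMor.fibreDimAt f x := by
  rw [Groth.Agent.Lib.FibreDimAtFormula.fibreDimAt_eq_add f x (rt f x) (trdeg_eq_rt f x)]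
  exact le_add_of_nonneg_left ringKrullDim_nonneg_of_nontrivial

theorem localDim_mono_of_specializes {T : Type*} [TopologicalSpace T] {w x : T} (h : w ⤳ x) :
    FlatMor.localDim T w ≤ FlatMor.localDim T x := by
  unfold FlatMor.localDim
  refine le_iInf fun U => ?_
  exact iInf_le (fun U : {U : TopologicalSpace.Opens T // w ∈ U} =>
    topologicalKrullDim (U.1 : Set T)) ⟨U.1, h.mem_open U.1.2 U.2⟩

theorem fibreDimAt_mono {X Y : Scheme.{u}} (f : X ⟶ Y) {w x : X} (h : w ⤳ x) (hf : f w = f x) :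
    FlatMor.fibreDimAt f w ≤ FlatMor.fibreDimAt f x := by
  obtain ⟨z, hz⟩ : ∃ z : f.fiber (f x), f.fiberι (f x) z = w := by
    have : w ∈ Set.range (f.fiberι (f x)) := by
      rw [f.range_fiberι]; exact hf
    exact this
  rw [← Groth.Agent.Lib.H56LocDim.localDim_fiber_eq f w (f x) hf z hz]
  change _ ≤ FlatMor.localDim (f.fiber (f x)) (f.asFiber x)
  apply localDim_mono_of_specializes
  have hind : Topology.IsInducing (f.fiberι (f x)) := (f.fiberι (f x)).isEmbedding.isInducing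
  rw [← hind.specializes_iff, hz, f.fiberι_asFiber]
  exact h

theorem le_part {X Y Z : Scheme.{u}} (f : X ⟶ Y) (g : Y ⟶ Z) [LocallyOfFiniteType f]
    [LocallyOfFiniteType g] (d e : ℕ)
    (hf : ∀ x : ↑X, FlatMor.fibreDimAt f x ≤ d) (hg : ∀ y : ↑Y, FlatMor.fibreDimAt g y ≤ e)
    (x : X) : FlatMor.fibreDimAt (f ≫ g) x ≤ (d + e : ℕ) := by
  obtain ⟨w, -, -, -, hw⟩ := exists_rt_eq_fibreDimAt (f ≫ g) x
  rw [← hw, rt_comp f g w]
  have h1 : ((rt f w : ℕ) : WithBot ℕ∞) ≤ d := (rt_le_fibreDimAt' f w).trans (hf w)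
  have h2 : ((rt g (f w) : ℕ) : WithBot ℕ∞) ≤ e := (rt_le_fibreDimAt' g (f w)).trans (hg (f w))
  have h1' : rt f w ≤ d := by exact_mod_cast h1
  have h2' : rt g (f w) ≤ e := by exact_mod_cast h2
  have : rt g (f w) + rt f w ≤ d + e := by omega
  exact_mod_cast this

theorem ge_part {X Y Z : Scheme.{u}} (f : X ⟶ Y) (g : Y ⟶ Z) [LocallyOfFiniteType f]
    [LocallyOfFiniteType g] [Flat f] (d e : ℕ)
    (hf : ∀ x : ↑X, FlatMor.fibreDimAt f x = d) (hg : ∀ y : ↑Y, FlatMor.fibreDimAt g y = e)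
    (x : X) : ((d + e : ℕ) : WithBot ℕ∞) ≤ FlatMor.fibreDimAt (f ≫ g) x := by
  obtain ⟨η, hηz, hηy, -, hη⟩ := exists_rt_eq_fibreDimAt g (f x)
  rw [hg (f x)] at hη
  obtain ⟨w₀, hw₀x, hw₀η⟩ : ∃ w₀ : X, w₀ ⤳ x ∧ f w₀ = η := by
    obtain ⟨w₀, h1, h2⟩ := (Flat.generalizingMap f) hηy
    exact ⟨w₀, h1, h2⟩
  obtain ⟨w, hwη, hww₀, -, hw⟩ := exists_rt_eq_fibreDimAt f w₀
  rw [hf w₀] at hw
  have hwx : w ⤳ x := hww₀.trans hw₀x
  have hfib : (f ≫ g) w = (f ≫ g) x := by
    change g (f w) = g (f x)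
    rw [hwη, hw₀η, hηz]
  have h1 : ((rt (f ≫ g) w : ℕ) : WithBot ℕ∞) ≤ FlatMor.fibreDimAt (f ≫ g) w :=
    rt_le_fibreDimAt' (f ≫ g) w
  have h2 : FlatMor.fibreDimAt (f ≫ g) w ≤ FlatMor.fibreDimAt (f ≫ g) x :=
    fibreDimAt_mono (f ≫ g) hwx hfib
  refine le_trans ?_ (h1.trans h2)
  rw [rt_comp f g w]
  have e1 : rt f w = d := by exact_mod_cast hw
  have e2 : rt g (f w) = e := by rw [hwη, hw₀η]; exact_mod_cast hη
  rw [e1, e2, add_comm]


open AlgebraicGeometry CategoryTheory in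
/-- Suppose both f : X → Y and g : Y → Z are morphisms locally of finite type. When the relative
dimension of f is at most d and that of g is at most e, the composite g ∘ f has relative dimension
at most d + e. Moreover, when f is flat of relative dimension exactly d and g is of relative
dimension exactly e, the composite g ∘ f is of relative dimension exactly d + e (every nonempty
fibre equidimensional of that dimension). -/
theorem result {X Y Z : Scheme.{u}} (f : X ⟶ Y) (g : Y ⟶ Z) [LocallyOfFiniteType f] [LocallyOfFiniteType g] (d e : ℕ) :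
    ((∀ x : ↑X, FlatMor.fibreDimAt f x ≤ d) → (∀ y : ↑Y, FlatMor.fibreDimAt g y ≤ e) →
        ∀ x : ↑X, FlatMor.fibreDimAt (f ≫ g) x ≤ (d + e : ℕ)) ∧
      (Cyc.HasRelDim f d → Cyc.HasRelDim g e → Flat f → Cyc.HasRelDim (f ≫ g) (d + e)) := by
  refine ⟨fun hf hg x => le_part f g d e hf hg x, fun hf hg hflat => ?_⟩
  rw [Groth.Agent.Lib.H30FibBC.hasRelDim_iff] at hf hg ⊢
  intro x
  exact le_antisymm (le_part f g d e (fun x => (hf x).le) (fun y => (hg y).le) x)
    (ge_part f g d e hf hg x)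

end Groth.Agent.S9357
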