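import Groth.Statements.S9355
import Mathlib
import Groth.Agent.Lib.H79FibLocDimBC
import Groth.Agent.Lib.H56LocDimSch

set_option autoImplicit false
universe u
open FibDim

namespace Groth.Agent.S9355

open AlgebraicGeometry CategoryTheory TopologicalSpace
open Groth.Agent.Lib.H56LocDim Groth.Agent.Lib.H79FibLocDimBC

theorem chart {X S : Scheme.{u}} (f : X ⟶ S) [LocallyOfFinitePresentation f] (n : ℕ)
    {U : X.Opens} {V : S.Opens} (hU : IsAffineOpen U) (hV : IsAffineOpen V) (e : U ≤ f ⁻¹ᵁ V) :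
    IsCompact ({x : ↑X | FlatMor.fibreDimAt f x ≤ n} ∩ (U : Set X)) := by
  have hfp : (f.appLE V U e).hom.FinitePresentation :=
    HasRingHomProperty.appLE (P := @LocallyOfFinitePresentation) f inferInstance ⟨V, hV⟩ ⟨U, hU⟩ e
  let _ : Algebra Γ(S, V) Γ(X, U) := (f.appLE V U e).hom.toAlgebra
  have : Algebra.FinitePresentation Γ(S, V) Γ(X, U) := hfp
  have hc := (isCompact_isOpen_fibLocDim_le Γ(S, V) Γ(X, U) n).1
  have himg : ({x : ↑X | FlatMor.fibreDimAt f x ≤ n} ∩ (U : Set X)) =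
      hU.fromSpec.base '' {q : PrimeSpectrum Γ(X, U) |
        fibLocDim (PrimeSpectrum.comap (algebraMap Γ(S, V) Γ(X, U))) q ≤ (n : WithBot ℕ∞)} := by
    ext x
    constructor
    · rintro ⟨hx, hxU⟩
      rw [← hU.range_fromSpec] at hxU
      obtain ⟨q, rfl⟩ := hxU
      refine ⟨q, ?_, rfl⟩
      change fibLocDim _ q ≤ _
      have := fibreDimAt_fromSpec f hU hV e q
      exact this.symm.le.trans hx
    · rintro ⟨q, hq, rfl⟩
      refine ⟨?_, ?_⟩
      · change FlatMor.fibreDimAt f _ ≤ _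
        exact (fibreDimAt_fromSpec f hU hV e q).le.trans hq
      · rw [← hU.range_fromSpec]
        exact ⟨q, rfl⟩
  rw [himg]
  exact hc.image hU.fromSpec.continuous

theorem result' {X S : Scheme.{u}} (f : X ⟶ S) [LocallyOfFinitePresentation f] (n : ℕ) :
    IsRetrocompact {x : ↑X | FlatMor.fibreDimAt f x ≤ n} := by
  intro U hUc hUo
  -- cover U by good affine charts
  have hcover : ∀ x ∈ U, ∃ (W : X.Opens) (V : S.Opens), IsAffineOpen W ∧ IsAffineOpen V ∧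
      W ≤ f ⁻¹ᵁ V ∧ x ∈ W ∧ (W : Set X) ⊆ U := by
    intro x hx
    obtain ⟨V, hV, hxV⟩ : ∃ V : S.Opens, IsAffineOpen V ∧ f.base x ∈ V := by
      obtain ⟨_, ⟨V, hV, rfl⟩, hxV, -⟩ := S.isBasis_affineOpens.exists_subset_of_mem_open
        (Set.mem_univ (f.base x)) isOpen_univ
      exact ⟨V, hV, hxV⟩
    let O : X.Opens := (f ⁻¹ᵁ V) ⊓ ⟨U, hUo⟩
    have hxO : x ∈ O := ⟨hxV, hx⟩
    obtain ⟨_, ⟨W, hW, rfl⟩, hxW, hWO⟩ := X.isBasis_affineOpens.exists_subset_of_mem_open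
      hxO O.isOpen
    exact ⟨W, V, hW, hV, fun y hy => (hWO hy).1, hxW, fun y hy => (hWO hy).2⟩
  choose W V hW hV hWV hxW hWU using hcover
  obtain ⟨t, ht⟩ := hUc.elim_finite_subcover (fun x : U => ((W x.1 x.2 : X.Opens) : Set X))
    (fun x => (W x.1 x.2).isOpen) (fun x hx => Set.mem_iUnion.2 ⟨⟨x, hx⟩, hxW x hx⟩)
  have hEq : {x : ↑X | FlatMor.fibreDimAt f x ≤ n} ∩ U =
      ⋃ x ∈ t, ({x : ↑X | FlatMor.fibreDimAt f x ≤ n} ∩ ((W x.1 x.2 : X.Opens) : Set X)) := by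
    ext y
    simp only [Set.mem_inter_iff, Set.mem_iUnion, exists_prop]
    constructor
    · rintro ⟨hy, hyU⟩
      obtain ⟨x, hxt, hyx⟩ := Set.mem_iUnion₂.1 (ht hyU)
      exact ⟨x, hxt, hy, hyx⟩
    · rintro ⟨x, hxt, hy, hyx⟩
      exact ⟨hy, hWU x.1 x.2 hyx⟩
  rw [hEq]
  exact t.isCompact_biUnion fun x _ => chart f n (hW x.1 x.2) (hV x.1 x.2) (hWV x.1 x.2)


open AlgebraicGeometry CategoryTheory in
/-- For f : X → S locally of finite presentation and n ≥ 0, the open set U_n of points x with dim_x(X_{f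
x}) ≤ n is retrocompact in X. -/
theorem result {X S : Scheme.{u}} (f : X ⟶ S) [LocallyOfFinitePresentation f] (n : ℕ) :
    IsRetrocompact {x : ↑X | FlatMor.fibreDimAt f x ≤ n} := by
  exact result' f n

end Groth.Agent.S9355
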