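import Groth.Statements.S1240
import Mathlib
import Groth.Agent.Lib.H79FibDimStrata
import Groth.Agent.Lib.H56ValFib
import Groth.Agent.Lib.ValSpecialize
import Groth.Agent.Lib.DenseSpecializes

set_option autoImplicit false
universe u
open FlatMor

namespace Groth.Agent.S1240

open AlgebraicGeometry CategoryTheory Limits Topology IsLocalRing
open Groth.Agent.Lib.H56ValTrdeg Groth.Agent.Lib.H56OpenDim Groth.Agent.Lib.H56LocDim

/-- Over a valuation ring: if `f` is flat and locally of finite type and the local fibre dimension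
is `≤ e` at all points of the generic fibre, then it is `≤ e` everywhere. -/
theorem val_case (R : Type u) [CommRing R] [IsDomain R] [ValuationRing R] {X : Scheme.{u}}
    (f : X ⟶ Spec (CommRingCat.of R)) [Flat f] [LocallyOfFiniteType f] (e : ℕ)
    (hgen : ∀ x : X, f x = (⟨⊥, Ideal.isPrime_bot⟩ : PrimeSpectrum R) →
      FlatMor.fibreDimAt f x ≤ e) (x : X) :
    FlatMor.fibreDimAt f x ≤ e := by
  obtain ⟨w, hwx, hfw, hwmax, hw⟩ := exists_maxInFibre_fibreDimAt_eq f x
  have hη : (⟨⊥, Ideal.isPrime_bot⟩ : PrimeSpectrum R) ⤳ f w :=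
    Groth.Agent.Lib.ValSpecialize.bot_specializes _
  obtain ⟨w', hw'w, hfw'⟩ := Flat.generalizingMap f hη
  have h1 : tdeg f w ≤ tdeg f w' := tdeg_le_of_specializes_Spec R f w w' hw'w
  have h2 := tdeg_le_fibreDimAt f w'
  have h3 := hgen w' hfw'
  rw [hw]
  calc ((tdeg f w : ℕ) : WithBot ℕ∞) ≤ ((tdeg f w' : ℕ) : WithBot ℕ∞) := by exact_mod_cast h1
    _ ≤ FlatMor.fibreDimAt f w' := h2
    _ ≤ e := h3

/-- the case of finite presentation -/
theorem lfp_case {X S : Scheme.{u}} (f : X ⟶ S) [Flat f] [LocallyOfFinitePresentation f]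
    (U : S.Opens) (hU : Dense (U : Set S)) (e : ℕ)
    (hle : ∀ x : X, f.base x ∈ U → FlatMor.fibreDimAt f x ≤ e) (x : X) :
    FlatMor.fibreDimAt f x ≤ e := by
  obtain ⟨w, hw1, hw2, hw3, hw⟩ := Groth.Agent.Lib.H30IrrFib.exists_rt_eq_fibreDimAt f x
  have hmax : ∀ y : X, f y = f w → y ⤳ w → y = w := fun y hy hyw => hw3 y (hy.trans hw1) hyw
  obtain ⟨w', h1, h2, -, h4⟩ := Groth.Agent.Lib.H30IrrFib.exists_rt_eq_fibreDimAt f w
  rw [hmax w' h1 h2] at h4
  have hnhds := Groth.Agent.Lib.H79FibDimStrata.setOf_fibreDimAt_eq_mem_nhds f w hmax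
  obtain ⟨N, hNsub, hNopen, hwN⟩ := mem_nhds_iff.mp hnhds
  have himg : IsOpen (f '' N) := f.isOpenMap N hNopen
  obtain ⟨_, ⟨y, hyN, rfl⟩, hyU⟩ := hU.inter_open_nonempty (f '' N) himg ⟨f w, w, hwN, rfl⟩
  have := hNsub hyN
  simp only [Set.mem_ofPred_eq] at this
  rw [← hw, h4, ← this]
  exact hle y hyU

open AlgebraicGeometry CategoryTheory in
/-- Let f : X → S be flat and locally of finite type and U ⊆ S a dense open such that the fibres of f at
points over U have local dimension at most e everywhere. If f is locally of finite presentation, or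
U is retrocompact in S, then every fibre of f has local dimension at most e at every point. -/
theorem result {X S : Scheme.{u}} (f : X ⟶ S) [Flat f] [LocallyOfFiniteType f]
    (U : S.Opens) (hU : Dense (U : Set S)) (e : ℕ)
    (hle : ∀ x : X, f.base x ∈ U → FlatMor.fibreDimAt f x ≤ e)
    (h : LocallyOfFinitePresentation f ∨ IsRetrocompact (U : Set S)) (x : X) :
    FlatMor.fibreDimAt f x ≤ e := by
  classical
  rcases h with h | h
  · exact lfp_case f U hU e hle x
  · -- retrocompact case: reduce to a valuation ring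
    haveI : QuasiCompact U.ι :=
      quasiCompact_iff_isSpectralMap.mpr (IsRetrocompact_iff_isSpectralMap_subtypeVal.mp h)
    have hd : DenseRange U.ι := by
      rw [DenseRange, Scheme.Opens.range_ι]; exact hU
    obtain ⟨u, hu⟩ := Groth.Agent.Lib.DenseSpecializes.exists_specializes_of_denseRange U.ι hd (f x)
    obtain ⟨A, l, hl1, hl2⟩ :=
      Groth.Agent.Lib.ValSpecialize.exists_valuationSubring_of_specializes' hu
    -- base change
    have hsq : IsPullback (pullback.fst f l) (pullback.snd f l) f l := IsPullback.of_hasPullback f l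
    obtain ⟨x', hx'1, hx'2⟩ :=
      Scheme.Pullback.exists_preimage_pullback (f := f) (g := l) x (closedPoint A) hl1.symm
    have hbc := fun z => Groth.Agent.Lib.H30FibBC.fibreDimAt_eq_of_isPullback f l (pullback.fst f l)
      (pullback.snd f l) hsq z
    rw [← hx'1, ← hbc x']
    refine val_case A (pullback.snd f l) e ?_ x'
    intro z hz
    rw [hbc z]
    apply hle
    have hcomm : f ((pullback.fst f l) z) = l ((pullback.snd f l) z) := by
      have := congrArg (fun φ : pullback f l ⟶ S => φ z) hsq.w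
      exact this
    change f ((pullback.fst f l) z) ∈ U
    rw [hcomm, hz, hl2]
    exact u.2

end Groth.Agent.S1240
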