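import Groth.Statements.S12765
import Groth.Agent.Lib.SelfProd
import Groth.Agent.Lib.AlgStFp

set_option autoImplicit false
open CategoryTheory AlgebraicGeometry
universe u
open AlgSt

namespace Groth.Agent.S12765

open Groth.Agent.Lib.FpEquiv Groth.Agent.Lib.EquivOver Groth.Agent.Lib.SelfProd
  Groth.Agent.Lib.AlgStFp

/-- (1) ⇔ (3): for `𝒳` fibred in groupoids over `(Sch/S)`, the diagonal `𝒳 ⟶ 𝒳 × 𝒳` is representable by
algebraic spaces if and only if for every scheme `U` over `S` every 1-morphism `(Sch/U) ⟶ 𝒳` is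
representable by algebraic spaces. -/
theorem result {S : Scheme.{u}} {𝒳 : AlgSt.Cat S} (h𝒳 : FibCat.IsFibGrpd 𝒳.p) :
    AlgSt.RepByAlgSp1 (FibCat.diag (FibCat.toSelf 𝒳)) ↔
      ∀ (U : Over S) (x : FibCat.overCat U ⥤ᵇ 𝒳), AlgSt.RepByAlgSp1 x := by
  constructor
  · intro hΔ U x V y
    have h1 : AlgSt.RepByAlgSp (FibCat.fp (BasedFunctor.comp (prodSlice V U) (prodMap y x))
        (FibCat.diag (FibCat.toSelf 𝒳))) := hΔ (V ⨯ U) _
    have e1 : EquivOver (FibCat.fp (BasedFunctor.comp (prodSlice V U) (prodMap y x))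
        (FibCat.diag (FibCat.toSelf 𝒳))) (FibCat.fp (prodMap y x) (FibCat.diag (FibCat.toSelf 𝒳))) :=
      fp_precomp_left (prodSlice V U) (prodSlice_isEquivOver V U) (prodMap y x) _
    have e2 : EquivOver (FibCat.fp y x)
        (FibCat.fp (prodMap y x) (FibCat.diag (FibCat.toSelf 𝒳))) :=
      ⟨diagEquiv y x, diagEquiv_isEquivOver y x⟩
    exact repByAlgSp_of_equivOver (e1.trans e2.symm) h1
  · intro hyp W K
    let Δ := FibCat.diag (FibCat.toSelf 𝒳)
    let K₁ := splitFst K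
    let K₂ := splitSnd K
    let δ := FibCat.diag (FibCat.toSelf (FibCat.overCat W))
    let q := FibCat.fpFst (prodMap K₁ K₂) Δ
    have e1 : EquivOver (FibCat.fp K Δ) (FibCat.fp (BasedFunctor.comp δ (prodMap K₁ K₂)) Δ) :=
      fp_congr_left (splitIso K) Δ
    have e2 : EquivOver (FibCat.fp δ q) (FibCat.fp (BasedFunctor.comp δ (prodMap K₁ K₂)) Δ) :=
      fp_pasteLeft δ (prodMap K₁ K₂) Δ
    have hB : AlgSt.RepByAlgSp (FibCat.fp (prodMap K₁ K₂) Δ) :=
      repByAlgSp_of_equivOver ⟨diagEquiv K₁ K₂, diagEquiv_isEquivOver K₁ K₂⟩ (hyp W K₂ W K₁)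
    obtain ⟨c₀, hc₀⟩ := isEquivOver_inv (prodSlice_isEquivOver W W)
    have hH : ∃ (H : AlgSp.Sp S) (c : FibCat.fp (FibCat.toSelf (FibCat.overCat W))
        (FibCat.toSelf (FibCat.overCat W)) ⥤ᵇ AlgSt.ofSp H),
        FibCat.IsEquivOver c ∧ AlgSp.Representable (Limits.diag H) :=
      ⟨(AlgSp.yon S).obj (W ⨯ W), BasedFunctor.comp c₀ (AlgSt.ofOverCat (W ⨯ W)),
        isEquivOver_comp hc₀ (ofOverCat_isEquivOver (W ⨯ W)),
        (AlgSp.IsAlgSpace.yon_obj (W ⨯ W)).diag⟩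
    have h3 : AlgSt.RepByAlgSp (FibCat.fp δ q) := repByAlgSp_fp (repByAlgSp_overCat W) hB hH δ q
    exact repByAlgSp_of_equivOver (e2.trans e1.symm) h3

end Groth.Agent.S12765
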