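import Groth.Statements.S12792
import Groth.Agent.Lib.FibGrpd
import Groth.Agent.Lib.FpEquiv
import Groth.Agent.Lib.LiftSqBaseChange
-- import your own Groth.Agent.* helpers here

set_option autoImplicit false
open CategoryTheory
universe w v u
open Stk

namespace Groth.Agent.S12792

set_option backward.isDefEq.respectTransparency false
set_option backward.isDefEq.respectTransparency.types false
set_option linter.style.haveILetI false
set_option linter.unusedVariables false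

open FibCat Groth.Agent.Lib.FibGrpd Groth.Agent.Lib.FpEquiv Groth.Agent.Lib.LiftSqBaseChange

section Restr

universe v₂ u₂ v₃ u₃ v₄ u₄ v₅ u₅ v₆ u₆

variable {C : Type u} [Category.{v} C]
  {𝒜 : BasedCategory.{v₂, u₂} C} {ℬ : BasedCategory.{v₃, u₃} C} (ι : 𝒜 ⥤ᵇ ℬ)
  {𝒳 : BasedCategory.{v₄, u₄} C} {𝒴 : BasedCategory.{v₅, u₅} C} {𝒮 : BasedCategory.{v₆, u₆} C}
  (F : 𝒳 ⥤ᵇ 𝒮) (G : 𝒴 ⥤ᵇ 𝒮)

theorem restr_map_app {𝒵 : BasedCategory.{v₄, u₄} C} {H H' : ℬ ⥤ᵇ 𝒵} (α : H ⟶ H') (a : 𝒜.obj) :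
    ((Stk.restr ι 𝒵).map α).toNatTrans.app a = α.toNatTrans.app (ι.obj a) := rfl

theorem restr_fp_faithful [(Stk.restr ι 𝒳).Faithful] [(Stk.restr ι 𝒴).Faithful] :
    (Stk.restr ι (fp F G)).Faithful where
  map_injective {H H'} α β h := by
    have h1 : BasedCategory.whiskerRight α (fpFst F G) = BasedCategory.whiskerRight β (fpFst F G) := by
      apply (Stk.restr ι 𝒳).map_injective
      apply BasedNatTrans.homCategory.ext
      ext a
      exact congrArg (fun γ => (γ.toNatTrans.app a).hom.fst) h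
    have h2 : BasedCategory.whiskerRight α (fpSnd F G) = BasedCategory.whiskerRight β (fpSnd F G) := by
      apply (Stk.restr ι 𝒴).map_injective
      apply BasedNatTrans.homCategory.ext
      ext a
      exact congrArg (fun γ => (γ.toNatTrans.app a).hom.snd) h
    apply fp_natTrans_ext
    · intro w
      exact congrArg (fun γ => γ.toNatTrans.app w) h1
    · intro w
      exact congrArg (fun γ => γ.toNatTrans.app w) h2

theorem restr_fp_full [(Stk.restr ι 𝒳).Full] [(Stk.restr ι 𝒴).Full] [(Stk.restr ι 𝒮).Faithful] :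
    (Stk.restr ι (fp F G)).Full where
  map_surjective {H H'} γ := by
    let γ₁ : (Stk.restr ι 𝒳).obj (BasedFunctor.comp H (fpFst F G)) ⟶
        (Stk.restr ι 𝒳).obj (BasedFunctor.comp H' (fpFst F G)) :=
      BasedCategory.whiskerRight γ (fpFst F G)
    let γ₂ : (Stk.restr ι 𝒴).obj (BasedFunctor.comp H (fpSnd F G)) ⟶
        (Stk.restr ι 𝒴).obj (BasedFunctor.comp H' (fpSnd F G)) :=
      BasedCategory.whiskerRight γ (fpSnd F G)
    obtain ⟨α₁, hα₁⟩ := (Stk.restr ι 𝒳).map_surjective γ₁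
    obtain ⟨α₂, hα₂⟩ := (Stk.restr ι 𝒴).map_surjective γ₂
    have e1 : ∀ a : 𝒜.obj, α₁.toNatTrans.app (ι.obj a) = (γ.toNatTrans.app a).hom.fst :=
      fun a => congrArg (fun δ => δ.toNatTrans.app a) hα₁
    have e2 : ∀ a : 𝒜.obj, α₂.toNatTrans.app (ι.obj a) = (γ.toNatTrans.app a).hom.snd :=
      fun a => congrArg (fun δ => δ.toNatTrans.app a) hα₂
    let θ₁ : BasedFunctor.comp (BasedFunctor.comp H (fpFst F G)) F ⟶
        BasedFunctor.comp (BasedFunctor.comp H' (fpSnd F G)) G :=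
      BasedCategory.whiskerRight α₁ F ≫ BasedCategory.whiskerLeft H' (fpIso F G).hom
    let θ₂ : BasedFunctor.comp (BasedFunctor.comp H (fpFst F G)) F ⟶
        BasedFunctor.comp (BasedFunctor.comp H' (fpSnd F G)) G :=
      BasedCategory.whiskerLeft H (fpIso F G).hom ≫ BasedCategory.whiskerRight α₂ G
    have compat : θ₁ = θ₂ := by
      apply (Stk.restr ι 𝒮).map_injective
      apply BasedNatTrans.homCategory.ext
      ext a
      show F.map (α₁.toNatTrans.app (ι.obj a)) ≫ (H'.obj (ι.obj a)).obj.iso.hom =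
        (H.obj (ι.obj a)).obj.iso.hom ≫ G.map (α₂.toNatTrans.app (ι.obj a))
      rw [e1, e2]
      exact (γ.toNatTrans.app a).hom.w
    refine ⟨fpNatTrans α₁ α₂ (fun w => congrArg (fun δ => δ.toNatTrans.app w) compat), ?_⟩
    apply fp_natTrans_ext
    · intro a
      exact e1 a
    · intro a
      exact e2 a

theorem restr_fp_essSurj [(Stk.restr ι 𝒳).EssSurj] [(Stk.restr ι 𝒴).EssSurj]
    [(Stk.restr ι 𝒮).Full] [(Stk.restr ι 𝒮).Faithful] :
    (Stk.restr ι (fp F G)).EssSurj where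
  mem_essImage H₀ := by
    let A : ℬ ⥤ᵇ 𝒳 := (Stk.restr ι 𝒳).objPreimage (BasedFunctor.comp H₀ (fpFst F G))
    let eA : BasedFunctor.comp ι A ≅ BasedFunctor.comp H₀ (fpFst F G) :=
      (Stk.restr ι 𝒳).objObjPreimageIso _
    let B : ℬ ⥤ᵇ 𝒴 := (Stk.restr ι 𝒴).objPreimage (BasedFunctor.comp H₀ (fpSnd F G))
    let eB : BasedFunctor.comp ι B ≅ BasedFunctor.comp H₀ (fpSnd F G) :=
      (Stk.restr ι 𝒴).objObjPreimageIso _
    let φ₀ : (Stk.restr ι 𝒮).obj (BasedFunctor.comp A F) ≅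
        (Stk.restr ι 𝒮).obj (BasedFunctor.comp B G) :=
      whiskerRightIso eA F ≪≫ Groth.Agent.Lib.FpEquiv.whiskerLeftIso H₀ (fpIso F G) ≪≫
        (whiskerRightIso eB G).symm
    let φ : BasedFunctor.comp A F ≅ BasedFunctor.comp B G := (Stk.restr ι 𝒮).preimageIso φ₀
    have hφ : ∀ a : 𝒜.obj, φ.hom.toNatTrans.app (ι.obj a) =
        F.map (eA.hom.toNatTrans.app a) ≫ (H₀.obj a).obj.iso.hom ≫
          G.map (eB.inv.toNatTrans.app a) := by
      intro a
      have h1 : (Stk.restr ι 𝒮).map φ.hom = φ₀.hom :=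
        Functor.map_preimage (Stk.restr ι 𝒮) φ₀.hom
      exact congrArg (fun δ => δ.toNatTrans.app a) h1
    let H : ℬ ⥤ᵇ fp F G := fpLift A B φ
    have hAB : ∀ a : 𝒜.obj, eB.inv.toNatTrans.app a ≫ eB.hom.toNatTrans.app a = 𝟙 _ :=
      fun a => iso_inv_hom_app eB a
    have hAA : ∀ a : 𝒜.obj, eA.inv.toNatTrans.app a ≫ eA.hom.toNatTrans.app a = 𝟙 _ :=
      fun a => iso_inv_hom_app eA a
    let hom : BasedFunctor.comp ι H ⟶ H₀ :=
      fpNatTrans (H := BasedFunctor.comp ι H) (H' := H₀) eA.hom eB.hom (by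
        intro a
        show F.map (eA.hom.toNatTrans.app a) ≫ (H₀.obj a).obj.iso.hom =
          φ.hom.toNatTrans.app (ι.obj a) ≫ G.map (eB.hom.toNatTrans.app a)
        rw [hφ a, Category.assoc, Category.assoc, ← G.map_comp, hAB a]
        have h0 : G.map (𝟙 ((H₀.comp (fpSnd F G)).obj a)) = 𝟙 _ := G.toFunctor.map_id _
        rw [h0]
        erw [Category.comp_id])
    let inv : H₀ ⟶ BasedFunctor.comp ι H :=
      fpNatTrans (H := H₀) (H' := BasedFunctor.comp ι H) eA.inv eB.inv (by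
        intro a
        show F.map (eA.inv.toNatTrans.app a) ≫ φ.hom.toNatTrans.app (ι.obj a) =
          (H₀.obj a).obj.iso.hom ≫ G.map (eB.inv.toNatTrans.app a)
        rw [hφ a, ← Category.assoc, ← F.map_comp, hAA a]
        have h0 : F.map (𝟙 ((H₀.comp (fpFst F G)).obj a)) = 𝟙 _ := F.toFunctor.map_id _
        rw [h0]
        erw [Category.id_comp])
    refine ⟨H, ⟨⟨hom, inv, ?_, ?_⟩⟩⟩
    · apply fp_natTrans_ext
      · intro a
        exact iso_hom_inv_app eA a
      · intro a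
        exact iso_hom_inv_app eB a
    · apply fp_natTrans_ext
      · intro a
        exact iso_inv_hom_app eA a
      · intro a
        exact iso_inv_hom_app eB a

theorem restr_fp_isEquivalence (hX : (Stk.restr ι 𝒳).IsEquivalence)
    (hY : (Stk.restr ι 𝒴).IsEquivalence) (hS1 : (Stk.restr ι 𝒮).Full)
    (hS2 : (Stk.restr ι 𝒮).Faithful) : (Stk.restr ι (fp F G)).IsEquivalence := by
  haveI := restr_fp_faithful ι F G
  haveI := restr_fp_full ι F G
  haveI := restr_fp_essSurj ι F G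
  exact { }

end Restr


/-- For categories `𝒳`, `𝒴` over `C` that are stacks in groupoids for the topology `J`, a category `𝒮`
over `C` that is a prestack in groupoids for `J`, and functors `F : 𝒳 ⟶ 𝒮`, `G : 𝒴 ⟶ 𝒮` over `C`,
the 2-fibre product `𝒳 ×_𝒮 𝒴` over `C` is a stack in groupoids for `J`. (The published statement
takes `𝒮` a stack in groupoids as well; its proof uses only that morphisms of `𝒮` glue uniquely,
which is the hypothesis made here.) -/
theorem result {C : Type u} [Category.{v} C] (J : GrothendieckTopology C) {𝒳 𝒴 𝒮 : BasedCategory.{v, max u v} C}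
    (F : 𝒳 ⥤ᵇ 𝒮) (G : 𝒴 ⥤ᵇ 𝒮) (h𝒳 : Stk.IsStack J 𝒳) (h𝒴 : Stk.IsStack J 𝒴) (h𝒮 : Stk.IsPrestack J 𝒮) :
    Stk.IsStack J (FibCat.fp F G) := by
  obtain ⟨hfX, hX⟩ := h𝒳
  obtain ⟨hfY, hY⟩ := h𝒴
  obtain ⟨hfS, hS⟩ := h𝒮
  haveI := hfX
  haveI := hfY
  haveI := hfS
  refine ⟨fp_isFibGrpd F G, fun U R hR => ?_⟩
  exact restr_fp_isEquivalence (Stk.sieveIncl R) F G (hX R hR) (hY R hR) (hS R hR).1 (hS R hR).2

end Groth.Agent.S12792
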