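import Groth.Statements.S0602
import Groth.Agent.S2085
import Mathlib.RingTheory.KrullDimension.Zero
import Mathlib.RingTheory.RegularLocalRing.Defs
import Mathlib.RingTheory.LocalProperties.Reduced
import Mathlib.RingTheory.Ideal.Height

set_option autoImplicit false
universe u
open CAlg

namespace Groth.Agent.S0602

/-- A Noetherian ring is reduced exactly when it satisfies the conditions R₀ and S₁. -/
theorem result (R : Type u) [CommRing R] [IsNoetherianRing R] :
    IsReduced R ↔ (LocCoh.HasRk 0 R ∧ LocCoh.HasSk 1 R R) := by
  rw [← Groth.Agent.S2085.result (R := R) (M := R)]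
  have hann : Module.annihilator R R = ⊥ := by
    rw [eq_bot_iff]
    intro a ha
    have := Module.mem_annihilator.mp ha 1
    simpa using this
  have hminR : ∀ p : Ideal R, p ∈ (⊥ : Ideal R).minimalPrimes ↔ p ∈ minimalPrimes R := by
    intro p
    rfl
  constructor
  · intro hred
    refine ⟨?_, ?_⟩
    · intro p hp hht
      have h0 : p.height = 0 := by
        have : p.height ≤ 0 := by exact_mod_cast hht
        exact le_antisymm this bot_le
      have hmin : p ∈ minimalPrimes R := Ideal.height_eq_zero_iff.mp h0
      have : Ring.KrullDimLE 0 (Localization.AtPrime p) :=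
        Ring.KrullDimLE.of_isLocalization p hmin _
      have hf : IsField (Localization.AtPrime p) := Ring.KrullDimLE.isField_of_isReduced
      let _ := hf.toField
      infer_instance
    · intro p hp
      rw [hann]
      obtain ⟨hpprime, x, hx⟩ := hp
      have hx0 : x ≠ 0 := by
        rintro rfl
        apply hpprime.ne_top
        rw [hx, Ideal.radical_eq_top, eq_top_iff]
        intro a _
        rw [Submodule.mem_colon_singleton]
        simp
      have hrad : sInf (⊥ : Ideal R).minimalPrimes = ⊥ := by
        rw [Ideal.sInf_minimalPrimes]
        have := nilradical_eq_zero R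
        rw [nilradical, Ideal.zero_eq_bot] at this
        exact this
      have hxnot : x ∉ sInf (⊥ : Ideal R).minimalPrimes := by
        rw [hrad]
        exact hx0
      rw [Submodule.mem_sInf] at hxnot
      push Not at hxnot
      obtain ⟨q, hq, hxq⟩ := hxnot
      have hpq : p ≤ q := by
        intro a ha
        rw [hx] at ha
        obtain ⟨k, hk⟩ := ha
        rw [Submodule.mem_colon_singleton] at hk
        have h1 : a ^ k * x ∈ q := by
          have : a ^ k • x = 0 := by simpa using hk
          rw [smul_eq_mul] at this
          rw [this]
          exact q.zero_mem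
        rcases hq.1.1.mem_or_mem h1 with h2 | h2
        · exact hq.1.1.mem_of_pow_mem k h2
        · exact absurd h2 hxq
      have hqp : q ≤ p := hq.2 ⟨hpprime, bot_le⟩ hpq
      rw [le_antisymm hpq hqp]
      exact hq
  · rintro ⟨hR0, hS1⟩
    constructor
    intro x hx
    by_contra hx0
    obtain ⟨P, hP, hle⟩ := exists_le_isAssociatedPrime_of_isNoetherianRing R x hx0
    have hPmin : P ∈ minimalPrimes R := by
      have := hS1 P hP
      rwa [hann] at this
    have := hP.isPrime
    have h0 : P.height = 0 := Ideal.height_eq_zero_iff.mpr hPmin
    have hreg : IsRegularLocalRing (Localization.AtPrime P) := hR0 P (by rw [h0]; simp)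
    have hdim : ringKrullDim (Localization.AtPrime P) = 0 := by
      rw [IsLocalization.AtPrime.ringKrullDim_eq_height P, h0]
      rfl
    have hsp := hreg.spanFinrank_maximalIdeal
    rw [hdim] at hsp
    have hsp0 : (IsLocalRing.maximalIdeal (Localization.AtPrime P)).spanFinrank = 0 := by
      exact_mod_cast hsp
    have hbot : IsLocalRing.maximalIdeal (Localization.AtPrime P) = ⊥ :=
      (Submodule.spanFinrank_eq_zero_iff_eq_bot
        (IsNoetherian.noetherian (IsLocalRing.maximalIdeal (Localization.AtPrime P)))).mp hsp0
    have hf : IsField (Localization.AtPrime P) :=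
      IsLocalRing.isField_iff_maximalIdeal_eq.mpr hbot
    let _ := hf.toField
    have hx1 : algebraMap R (Localization.AtPrime P) x = 0 :=
      (hx.map (algebraMap R (Localization.AtPrime P))).eq_zero
    rw [IsLocalization.map_eq_zero_iff P.primeCompl] at hx1
    obtain ⟨s, hs⟩ := hx1
    have hsP : (s : R) ∈ P := hle (by
      rw [Submodule.mem_colon_singleton]
      simpa using hs)
    exact s.2 hsP

end Groth.Agent.S0602
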