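import Groth.Statements.S16667
import Groth.Agent.Lib.H8CM9

set_option autoImplicit false
universe u
open CAlg

namespace Groth.Agent.S16667

/-- Let A be a Noetherian integral domain satisfying Serre's condition (S_2), with fraction field K. An
element of K which lies in the localization A_p for every prime p of A with depth(A_p) = 1 lies in
A. -/
theorem result {A : Type u} [CommRing A] [IsDomain A]
    [IsNoetherianRing A] (hS2 : LocCoh.HasSk 2 A A) (x : FractionRing A)
    (hx : ∀ (p : Ideal A) [p.IsPrime],
      LocCoh.depth (Localization.AtPrime p) (Localization.AtPrime p) = 1 →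
        x ∈ Set.range (algebraMap (Localization.AtPrime p) (FractionRing A))) :
    x ∈ Set.range (algebraMap A (FractionRing A)) := by
  obtain ⟨a, b, rfl⟩ := IsLocalization.exists_mk'_eq (nonZeroDivisors A) x
  have hb0 : (b : A) ≠ 0 := nonZeroDivisors.coe_ne_zero b
  set N : Submodule A A := Ideal.span {(b : A)} with hN
  set abar : A ⧸ N := Submodule.Quotient.mk a with habar
  by_cases h0 : abar = 0
  · rw [habar, Submodule.Quotient.mk_eq_zero, hN] at h0
    obtain ⟨d, hd⟩ := Ideal.mem_span_singleton'.1 h0
    refine ⟨d, ?_⟩
    rw [eq_comm, IsLocalization.mk'_eq_iff_eq_mul, ← map_mul, hd]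
  · exfalso
    obtain ⟨P, hP, hle⟩ := exists_le_isAssociatedPrime_of_isNoetherianRing A abar h0
    have : P.IsPrime := hP.isPrime
    have hbP : (b : A) ∈ P := by
      obtain ⟨_, y, hy⟩ := (isAssociatedPrime_iff).1 hP
      rw [hy, Submodule.mem_colon_singleton]
      obtain ⟨y', rfl⟩ := Submodule.Quotient.mk_surjective _ y
      rw [Submodule.mem_bot, ← Submodule.Quotient.mk_smul, Submodule.Quotient.mk_eq_zero, hN,
        smul_eq_mul]
      exact Ideal.mul_mem_right _ _ (Ideal.mem_span_singleton_self _)
    have hreg : IsSMulRegular A (b : A) := by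
      intro u v huv
      exact mul_left_cancel₀ hb0 huv
    have hdepth := (Groth.Agent.Lib.H8CM.depth_localization_of_mem_associatedPrimes P hbP hreg).1 hP
    obtain ⟨y, hy⟩ := hx P hdepth
    obtain ⟨a', s, rfl⟩ := IsLocalization.exists_mk'_eq P.primeCompl y
    have hs : (s : A) ∈ P := by
      apply hle
      rw [Submodule.mem_colon_singleton, Submodule.mem_bot, habar, ← Submodule.Quotient.mk_smul,
        Submodule.Quotient.mk_eq_zero, hN, smul_eq_mul]
      rw [Ideal.mem_span_singleton']
      refine ⟨a', ?_⟩
      apply IsFractionRing.injective A (FractionRing A)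
      have h1 : algebraMap (Localization.AtPrime P) (FractionRing A)
          (IsLocalization.mk' (Localization.AtPrime P) a' s) * algebraMap A (FractionRing A) (s : A)
          = algebraMap A (FractionRing A) a' := by
        rw [IsScalarTower.algebraMap_apply A (Localization.AtPrime P) (FractionRing A) (s : A),
          ← map_mul, IsLocalization.mk'_spec, ← IsScalarTower.algebraMap_apply]
      have h2 : IsLocalization.mk' (FractionRing A) a b * algebraMap A (FractionRing A) (b : A)
          = algebraMap A (FractionRing A) a := IsLocalization.mk'_spec _ _ _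
      rw [hy] at h1
      rw [map_mul, map_mul, ← h1, ← h2]
      ring
    exact s.2 hs

end Groth.Agent.S16667
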