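-- Statement S9259.
import Groth.Statements.S9259
import Groth.Agent.Lib.H14GeomP7
import Groth.Agent.Lib.H87Serre2
import Mathlib

set_option autoImplicit false
universe u
open CAlg

namespace Groth.Agent.S9259

section Helpers
open TensorProduct
open Groth.Agent.Lib.H14GeomP Groth.Agent.Lib.H87Serre2

theorem crit_mp (A B : Type u) [CommRing A] [CommRing B] [Algebra A B] (h : CAlg.IsRegularHom A B)
    (K : Type u) [Field K] [Algebra A K] (hK : Algebra.EssFiniteType A K) :
    IsRegularRing (K ⊗[A] B) := by
  haveI : IsNoetherianRing (K ⊗[A] B) :=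
    isNoetherianRing_field_tensor A B K (Or.inr hK) (fun p _ => (h.2 p).1)
  exact isRegularRing_field_tensor_of_isRegularHom A B h K

theorem crit_mpr (A B : Type u) [CommRing A] [CommRing B] [Algebra A B] [Module.Flat A B]
    (h : ∀ (K : Type u) [Field K] [Algebra A K], Algebra.EssFiniteType A K →
      IsRegularRing (K ⊗[A] B)) :
    CAlg.IsRegularHom A B := by
  refine ⟨inferInstance, fun p _ => ⟨?_, fun k' _ _ hfin => ?_⟩⟩
  · have := h p.ResidueField inferInstance
    infer_instance
  · letI : Algebra A k' :=
      ((algebraMap p.ResidueField k').comp (algebraMap A p.ResidueField)).toAlgebra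
    haveI : IsScalarTower A p.ResidueField k' := IsScalarTower.of_algebraMap_eq (fun x => rfl)
    haveI : Algebra.EssFiniteType A k' := Algebra.EssFiniteType.comp A p.ResidueField k'
    exact good_regular.of_equiv
      (Algebra.TensorProduct.cancelBaseChange A p.ResidueField p.ResidueField k' B).symm.toRingEquiv
      (h k' inferInstance)

theorem regular_target_localization (A B B' : Type u) [CommRing A] [CommRing B] [CommRing B']
    [Algebra A B] [Algebra B B'] [Algebra A B'] [IsScalarTower A B B'] (M : Submonoid B)
    [IsLocalization M B'] (h : CAlg.IsRegularHom A B) : CAlg.IsRegularHom A B' := by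
  haveI := h.1
  haveI : Module.Flat B B' := IsLocalization.flat B' M
  haveI : Module.Flat A B' := Module.Flat.trans A B B'
  refine crit_mpr A B' (fun K _ _ hK => ?_)
  haveI hreg := crit_mp A B h K hK
  letI : Algebra (K ⊗[A] B) (K ⊗[A] B') :=
    (Algebra.TensorProduct.map (AlgHom.id A K) (IsScalarTower.toAlgHom A B B')).toAlgebra
  haveI : IsScalarTower K (K ⊗[A] B) (K ⊗[A] B') :=
    .of_algebraMap_eq <| by intro; simp [RingHom.algebraMap_toAlgebra]
  haveI := IsLocalization.tensorProduct_tensorProduct_right A K M B'
    (by ext; simp [RingHom.algebraMap_toAlgebra])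
  exact isRegularRing_of_isLocalization
    (M.map (Algebra.TensorProduct.includeRight (R := A) (A := K))) (K ⊗[A] B')

theorem regular_source_localization (A A' C : Type u) [CommRing A] [CommRing A'] [CommRing C]
    [Algebra A A'] [Algebra A C] [Algebra A' C] [IsScalarTower A A' C] (S : Submonoid A)
    [IsLocalization S A'] (h : CAlg.IsRegularHom A C) : CAlg.IsRegularHom A' C := by
  haveI := h.1
  haveI : Module.Flat A' C := (Module.flat_iff_of_isLocalization A' S C).2 inferInstance
  refine crit_mpr A' C (fun K _ _ hK => ?_)
  letI : Algebra A K := ((algebraMap A' K).comp (algebraMap A A')).toAlgebra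
  haveI : IsScalarTower A A' K := IsScalarTower.of_algebraMap_eq (fun x => rfl)
  haveI : Algebra.EssFiniteType A A' := Algebra.EssFiniteType.of_isLocalization A' S
  haveI : Algebra.EssFiniteType A K := Algebra.EssFiniteType.comp A A' K
  have hreg := crit_mp A C h K inferInstance
  exact good_regular.of_equiv (IsLocalization.algebraTensorEquiv S A' K C).symm.toRingEquiv hreg

theorem tower (R Λ : Type u) [CommRing R] [CommRing Λ] [Algebra R Λ] (q : Ideal Λ) [q.IsPrime] :
    letI := (Localization.localRingHom (Ideal.comap (algebraMap R Λ) q) q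
      (algebraMap R Λ) rfl).toAlgebra
    IsScalarTower R (Localization.AtPrime (Ideal.comap (algebraMap R Λ) q))
      (Localization.AtPrime q) := by
  letI := (Localization.localRingHom (Ideal.comap (algebraMap R Λ) q) q
      (algebraMap R Λ) rfl).toAlgebra
  refine IsScalarTower.of_algebraMap_eq (fun x => ?_)
  rw [RingHom.algebraMap_toAlgebra, Localization.localRingHom_to_map,
    IsScalarTower.algebraMap_apply R Λ]

theorem claimA (R Λ : Type u) [CommRing R] [CommRing Λ] [Algebra R Λ]
    (h : CAlg.IsRegularHom R Λ) (q : Ideal Λ) [q.IsPrime] :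
    letI := (Localization.localRingHom (Ideal.comap (algebraMap R Λ) q) q
      (algebraMap R Λ) rfl).toAlgebra
    CAlg.IsRegularHom (Localization.AtPrime (Ideal.comap (algebraMap R Λ) q))
      (Localization.AtPrime q) := by
  letI := (Localization.localRingHom (Ideal.comap (algebraMap R Λ) q) q
      (algebraMap R Λ) rfl).toAlgebra
  haveI := tower R Λ q
  have h1 : CAlg.IsRegularHom R (Localization.AtPrime q) :=
    regular_target_localization R Λ _ q.primeCompl h
  exact regular_source_localization R _ _ (Ideal.comap (algebraMap R Λ) q).primeCompl h1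

theorem regularLocal_of_localization (G G' : Type u) [CommRing G] [CommRing G'] [Algebra G G']
    (M : Submonoid G) [IsLocalization M G'] [IsRegularRing G'] (Q : Ideal G) [hQ : Q.IsPrime]
    (hdisj : Disjoint (M : Set G) (Q : Set G)) : IsRegularLocalRing (Localization.AtPrime Q) := by
  let P := Q.map (algebraMap G G')
  have hP : P.IsPrime := IsLocalization.isPrime_of_isPrime_disjoint M G' Q hQ hdisj
  have hreg : IsRegularLocalRing (Localization.AtPrime P) := inferInstance
  have hloc := IsLocalization.isLocalization_isLocalization_atPrime_isLocalization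
    (M := M) (Localization.AtPrime P) P
  simp_rw [P, IsLocalization.under_map_of_isPrime_disjoint M G' hQ hdisj] at hloc
  exact IsRegularLocalRing.of_ringEquiv (IsLocalization.algEquiv Q.primeCompl
    (Localization.AtPrime P) (Localization.AtPrime Q)).toRingEquiv

attribute [local instance] Algebra.TensorProduct.rightAlgebra in
theorem fiber_noeth (R Λ : Type u) [CommRing R] [CommRing Λ] [Algebra R Λ] [IsNoetherianRing Λ]
    (p : Ideal R) [p.IsPrime] : IsNoetherianRing (p.Fiber Λ) := by
  haveI : IsNoetherianRing (Localization (Algebra.algebraMapSubmonoid Λ p.primeCompl)) :=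
    IsLocalization.isNoetherianRing (Algebra.algebraMapSubmonoid Λ p.primeCompl) _ inferInstance
  let e : p.Fiber Λ ≃+* (Localization (Algebra.algebraMapSubmonoid Λ p.primeCompl) ⧸
      (IsLocalRing.maximalIdeal (Localization p.primeCompl)).map
        (algebraMap (Localization p.primeCompl)
          (Localization (Algebra.algebraMapSubmonoid Λ p.primeCompl)))) :=
    (Ideal.Fiber.algEquivQuotient (S := Λ) p).toRingEquiv
  exact isNoetherianRing_of_ringEquiv _ e.symm

theorem claimB (R Λ : Type u) [CommRing R] [CommRing Λ] [Algebra R Λ] [IsNoetherianRing Λ]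
    (h : ∀ (n : Ideal Λ) [n.IsMaximal],
        letI := (Localization.localRingHom (Ideal.comap (algebraMap R Λ) n) n
          (algebraMap R Λ) rfl).toAlgebra
        CAlg.IsRegularHom (Localization.AtPrime (Ideal.comap (algebraMap R Λ) n))
          (Localization.AtPrime n)) :
    CAlg.IsRegularHom R Λ := by
  haveI : Module.Flat R Λ := by
    refine Module.flat_of_isLocalized_maximal Λ Λ (fun n _ => Localization.AtPrime n)
      (fun n _ => Algebra.linearMap Λ (Localization.AtPrime n)) (fun n hn => ?_)
    letI := (Localization.localRingHom (Ideal.comap (algebraMap R Λ) n) n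
      (algebraMap R Λ) rfl).toAlgebra
    haveI := tower R Λ n
    haveI := (h n).1
    haveI : Module.Flat R (Localization.AtPrime (Ideal.comap (algebraMap R Λ) n)) :=
      IsLocalization.flat _ (Ideal.comap (algebraMap R Λ) n).primeCompl
    exact Module.Flat.trans R (Localization.AtPrime (Ideal.comap (algebraMap R Λ) n))
      (Localization.AtPrime n)
  refine crit_mpr R Λ (fun K _ _ hK => ?_)
  haveI : IsNoetherianRing (K ⊗[R] Λ) :=
    isNoetherianRing_field_tensor R Λ K (Or.inr hK) (fun p _ => fiber_noeth R Λ p)
  refine isRegularRing_of_maximal (fun Q hQ => ?_)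
  let q : Ideal Λ := Q.comap (Algebra.TensorProduct.includeRight : Λ →ₐ[R] K ⊗[R] Λ).toRingHom
  haveI : q.IsPrime := Ideal.comap_isPrime _ _
  obtain ⟨n, hn, hqn⟩ := q.exists_le_maximal (Ideal.IsPrime.ne_top inferInstance)
  let pn : Ideal R := Ideal.comap (algebraMap R Λ) n
  haveI : pn.IsPrime := Ideal.comap_isPrime _ _
  letI alg := (Localization.localRingHom pn n (algebraMap R Λ) rfl).toAlgebra
  haveI tw : IsScalarTower R (Localization.AtPrime pn) (Localization.AtPrime n) := tower R Λ n
  have hn' := h n
  have hu : ∀ s : pn.primeCompl, IsUnit (algebraMap R K s) := by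
    intro s
    refine IsUnit.mk0 _ (fun h0 => s.2 ?_)
    have h1 : (Algebra.TensorProduct.includeRight : Λ →ₐ[R] K ⊗[R] Λ) (algebraMap R Λ s) = 0 := by
      rw [AlgHom.commutes, Algebra.TensorProduct.algebraMap_apply, h0, TensorProduct.zero_tmul]
    have hq : algebraMap R Λ s ∈ q := by
      show (Algebra.TensorProduct.includeRight : Λ →ₐ[R] K ⊗[R] Λ) (algebraMap R Λ s) ∈ Q
      rw [h1]; exact Q.zero_mem
    exact hqn hq
  letI : Algebra (Localization.AtPrime pn) K := (IsLocalization.lift (M := pn.primeCompl) hu).toAlgebra
  haveI : IsScalarTower R (Localization.AtPrime pn) K := IsScalarTower.of_algebraMap_eq (fun x => by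
    rw [RingHom.algebraMap_toAlgebra, IsLocalization.lift_eq])
  haveI : Algebra.EssFiniteType (Localization.AtPrime pn) K := Algebra.EssFiniteType.of_comp R _ K
  have hreg1 : IsRegularRing (K ⊗[Localization.AtPrime pn] Localization.AtPrime n) :=
    crit_mp _ _ hn' K inferInstance
  have hreg2 : IsRegularRing (K ⊗[R] Localization.AtPrime n) :=
    good_regular.of_equiv (IsLocalization.algebraTensorEquiv pn.primeCompl
      (Localization.AtPrime pn) K (Localization.AtPrime n)).toRingEquiv hreg1
  letI : Algebra (K ⊗[R] Λ) (K ⊗[R] Localization.AtPrime n) :=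
    (Algebra.TensorProduct.map (AlgHom.id R K)
      (IsScalarTower.toAlgHom R Λ (Localization.AtPrime n))).toAlgebra
  haveI : IsScalarTower K (K ⊗[R] Λ) (K ⊗[R] Localization.AtPrime n) :=
    .of_algebraMap_eq <| by intro; simp [RingHom.algebraMap_toAlgebra]
  haveI := IsLocalization.tensorProduct_tensorProduct_right R K n.primeCompl (Localization.AtPrime n)
    (by ext; simp [RingHom.algebraMap_toAlgebra])
  haveI := hreg2
  refine regularLocal_of_localization (K ⊗[R] Λ) (K ⊗[R] Localization.AtPrime n)
    (n.primeCompl.map (Algebra.TensorProduct.includeRight (R := R) (A := K))) Q ?_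
  rw [Set.disjoint_left]
  rintro _ ⟨x, hx, rfl⟩ hxQ
  exact hx (hqn hxQ)

theorem main (R Λ : Type u) [CommRing R] [CommRing Λ] [Algebra R Λ]
    [IsNoetherianRing Λ] :
    (CAlg.IsRegularHom R Λ ↔
      ∀ (q : Ideal Λ) [q.IsPrime],
        letI := (Localization.localRingHom (Ideal.comap (algebraMap R Λ) q) q (algebraMap R Λ) rfl).toAlgebra
        CAlg.IsRegularHom (Localization.AtPrime (Ideal.comap (algebraMap R Λ) q))
          (Localization.AtPrime q)) ∧
    (CAlg.IsRegularHom R Λ ↔
      ∀ (n : Ideal Λ) [n.IsMaximal],
        letI := (Localization.localRingHom (Ideal.comap (algebraMap R Λ) n) n (algebraMap R Λ) rfl).toAlgebra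
        CAlg.IsRegularHom (Localization.AtPrime (Ideal.comap (algebraMap R Λ) n))
          (Localization.AtPrime n)) := by
  refine ⟨⟨fun h q _ => claimA R Λ h q, fun h => claimB R Λ (fun n _ => h n)⟩,
    ⟨fun h n _ => claimA R Λ h n, fun h => claimB R Λ h⟩⟩

end Helpers

/-- Regularity of a ring map is a local property: for a ring map R → Λ with Noetherian target,
regularity of R → Λ is equivalent to regularity of every induced local map R_p → Λ_q (q a prime of
Λ, p = q ∩ R), and also to regularity of those induced maps at the maximal ideals q of Λ. (The maps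
of local rings are the canonical localized maps.) -/
theorem result (R Λ : Type u) [CommRing R] [CommRing Λ] [Algebra R Λ]
    [IsNoetherianRing Λ] :
    (CAlg.IsRegularHom R Λ ↔
      ∀ (q : Ideal Λ) [q.IsPrime],
        letI := (Localization.localRingHom (Ideal.comap (algebraMap R Λ) q) q (algebraMap R Λ) rfl).toAlgebra
        CAlg.IsRegularHom (Localization.AtPrime (Ideal.comap (algebraMap R Λ) q))
          (Localization.AtPrime q)) ∧
    (CAlg.IsRegularHom R Λ ↔
      ∀ (n : Ideal Λ) [n.IsMaximal],
        letI := (Localization.localRingHom (Ideal.comap (algebraMap R Λ) n) n (algebraMap R Λ) rfl).toAlgebra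
        CAlg.IsRegularHom (Localization.AtPrime (Ideal.comap (algebraMap R Λ) n))
          (Localization.AtPrime n)) := by
  exact main R Λ

end Groth.Agent.S9259
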