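import Groth.Statements.S10228
import Groth.Agent.Lib.H86AlgSpOpen
import Groth.Agent.Lib.AlgSpQC

set_option autoImplicit false
universe u
open CategoryTheory CategoryTheory.Limits AlgebraicGeometry Topology TopologicalSpace
open AlgSp

namespace Groth.Agent.S10228

open Groth.Agent.Lib.H86AlgSpPoints Groth.Agent.Lib.H86AlgSpOpen in
/-- If a family of morphisms of sheaves `j i : Y i ⟶ F` is a colimit cofan, every point of `F` comes
from some `Y i`. -/
theorem points_eq_iUnion_range {S : Scheme.{u}} {ι : Type u} (Y : ι → AlgSp.Sp S)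
    (c : Cofan Y) (hc : IsColimit c) :
    (⋃ i, Set.range (AlgSp.Points.map (c.inj i))) = Set.univ := by
  set W : Set (AlgSp.Points c.pt) := ⋃ i, Set.range (AlgSp.Points.map (c.inj i)) with hW
  -- each injection factors through the subsheaf of sections with all points in `W`
  have hle : ∀ i, Subfunctor.range (c.inj i).hom ≤ subW c.pt W := by
    rintro i T _ ⟨x, rfl⟩ t
    have h1 : yE.symm ((c.inj i).hom.app T x) = yE.symm x ≫ c.inj i := (yE_symm_comp x (c.inj i)).symm
    rw [h1, ← AlgSp.Points.map_ofPt]
    exact Set.mem_iUnion.2 ⟨i, _, rfl⟩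
  let l : ∀ i, Y i ⟶ openSub c.pt W := fun i =>
    ObjectProperty.homMk (Subfunctor.lift (c.inj i).hom (hle i))
  have hl : ∀ i, l i ≫ openSubι c.pt W = c.inj i := fun i => by
    apply ObjectProperty.hom_ext
    rfl
  let d : c.pt ⟶ openSub c.pt W := Cofan.IsColimit.desc hc l
  have hd : d ≫ openSubι c.pt W = 𝟙 _ := by
    apply Cofan.IsColimit.hom_ext hc
    intro i
    rw [← Category.assoc, Cofan.IsColimit.fac, hl, Category.comp_id]
  rw [Set.eq_univ_iff_forall]
  intro x
  have h2 : x ∈ Set.range (AlgSp.Points.map (openSubι c.pt W)) :=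
    ⟨AlgSp.Points.map d x, by rw [← AlgSp.Points.map_comp, hd, AlgSp.Points.map_id]⟩
  rwa [range_map_openSubι] at h2

/-- An algebraic space that is the coproduct of finitely many quasi-compact algebraic spaces is
quasi-compact: if X_i (i in a finite type) are quasi-compact algebraic spaces over a scheme S and
the underlying sheaf of the algebraic space X is a coproduct of the underlying sheaves of the X_i
(given by a colimit cofan of fppf sheaves whose cone point is the sheaf of X), then X is
quasi-compact. -/
theorem result {S : Scheme.{u}} {ι : Type u} [Finite ι] (Xi : ι → AlgSp.Space S)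
    (X : AlgSp.Space S) (c : Cofan fun i => (Xi i).obj) (hc : IsColimit c) (hX : c.pt = X.obj)
    (hqc : ∀ i, AlgSp.IsQuasiCompactSp (Xi i).obj) :
    AlgSp.IsQuasiCompactSp X.obj := by
  obtain ⟨Xo, Xp⟩ := X
  change c.pt = Xo at hX
  subst hX
  change AlgSp.IsQuasiCompactSp c.pt
  have hcomp : ∀ i, IsCompact (Set.range (AlgSp.Points.map (c.inj i))) := fun i => by
    have : CompactSpace (AlgSp.Points (Xi i).obj) :=
      Groth.Agent.Lib.AlgSpQC.compactSpace_points_of_isQuasiCompactSp (hqc i)
    exact isCompact_range (AlgSp.Points.continuous_map (c.inj i))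
  have huniv : IsCompact (Set.univ : Set (AlgSp.Points c.pt)) := by
    rw [← points_eq_iUnion_range (fun i => (Xi i).obj) c hc]
    exact isCompact_iUnion hcomp
  have : CompactSpace (AlgSp.Points c.pt) := ⟨huniv⟩
  exact Groth.Agent.Lib.AlgSpQC.isQuasiCompactSp_of_compactSpace_points Xp

end Groth.Agent.S10228
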