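import Groth.Statements.S12796
import Groth.Agent.Lib.FibGrpd

set_option autoImplicit false
open CategoryTheory
universe w v u
open Stk

namespace Groth.Agent.S12796

section Aux

open Opposite

universe v₂ u₂

variable {C : Type u} [Category.{v} C] {P : Cᵒᵖ ⥤ Type w}

theorem base_eq {𝒜 : BasedCategory.{v₂, u₂} C} (H : 𝒜 ⥤ᵇ ofPsh P) (a : 𝒜.obj) :
    (H.obj a).base = 𝒜.p.obj a := H.w_obj a

/-- The section over `𝒜.p a` carried by a based functor to `ofPsh P`. -/
def sec {𝒜 : BasedCategory.{v₂, u₂} C} (H : 𝒜 ⥤ᵇ ofPsh P) (a : 𝒜.obj) :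
    P.obj (op (𝒜.p.obj a)) :=
  P.map (eqToHom (base_eq H a).symm).op (H.obj a).sec

theorem map_hom_eq {𝒜 : BasedCategory.{v₂, u₂} C} (H : 𝒜 ⥤ᵇ ofPsh P) {a b : 𝒜.obj} (f : a ⟶ b) :
    (H.map f).hom = eqToHom (base_eq H a) ≫ 𝒜.p.map f ≫ eqToHom (base_eq H b).symm := by
  have := Functor.congr_hom H.w f
  simpa using this

theorem sec_map {𝒜 : BasedCategory.{v₂, u₂} C} (H : 𝒜 ⥤ᵇ ofPsh P) {a b : 𝒜.obj} (f : a ⟶ b) :
    P.map (𝒜.p.map f).op (sec H b) = sec H a := by
  have key : 𝒜.p.map f ≫ eqToHom (base_eq H b).symm =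
      eqToHom (base_eq H a).symm ≫ (H.map f).hom := by
    rw [map_hom_eq]; simp
  unfold sec
  rw [← (H.map f).map_sec, ← Functor.map_comp_apply, ← Functor.map_comp_apply,
    ← op_comp, ← op_comp, key]

theorem map_eqToHom_eq_iff {X Y : C} (e : X = Y) (s : P.obj (op Y)) (t : P.obj (op X)) :
    P.map (eqToHom e).op s = t ↔ s = P.map (eqToHom e.symm).op t := by
  subst e
  simp

theorem app_hom_eq {𝒜 : BasedCategory.{v₂, u₂} C} {H H' : 𝒜 ⥤ᵇ ofPsh P} (α : H ⟶ H')
    (a : 𝒜.obj) :
    (α.toNatTrans.app a).hom = eqToHom ((base_eq H a).trans (base_eq H' a).symm) := by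
  have h : (ofPsh P).p.IsHomLift (𝟙 (𝒜.p.obj a)) (α.toNatTrans.app a) := α.isHomLift' a
  have := IsHomLift.fac' (ofPsh P).p (𝟙 (𝒜.p.obj a)) (α.toNatTrans.app a)
  simpa using this

instance subsingleton_hom {𝒜 : BasedCategory.{v₂, u₂} C} (H H' : 𝒜 ⥤ᵇ ofPsh P) :
    Subsingleton (H ⟶ H') :=
  ⟨fun α β => by
    apply BasedNatTrans.homCategory.ext
    ext a
    exact (app_hom_eq α a).trans (app_hom_eq β a).symm⟩

theorem sec_eq_of_hom {𝒜 : BasedCategory.{v₂, u₂} C} {H H' : 𝒜 ⥤ᵇ ofPsh P} (α : H ⟶ H')
    (a : 𝒜.obj) : sec H a = sec H' a := by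
  unfold sec
  rw [← (α.toNatTrans.app a).map_sec, ← Functor.map_comp_apply, ← op_comp, app_hom_eq,
    eqToHom_trans]

/-- Two based functors to `ofPsh P` with the same sections are related by a 2-morphism. -/
def homOfSecEq {𝒜 : BasedCategory.{v₂, u₂} C} {H H' : 𝒜 ⥤ᵇ ofPsh P}
    (h : ∀ a, sec H a = sec H' a) : H ⟶ H' where
  toNatTrans :=
    { app := fun a => ⟨eqToHom ((base_eq H a).trans (base_eq H' a).symm), by
        have h1 := (map_eqToHom_eq_iff _ _ _).1 (h a)
        rw [h1]
        unfold sec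
        rw [← Functor.map_comp_apply, ← op_comp, eqToHom_trans]⟩
      naturality := fun a b f => by
        apply EltObj.hom_ext
        rw [EltObj.comp_hom, EltObj.comp_hom, map_hom_eq, map_hom_eq]
        simp }
  isHomLift' := fun a => by
    apply IsHomLift.of_fac (ofPsh P).p _ _ (base_eq H a) (base_eq H' a)
    simp

/-- The functor over `C` from the slice `C/U` attached to a section over `U`. -/
def ofElt {U : C} (x : P.obj (op U)) : FibCat.overCat U ⥤ᵇ ofPsh P where
  toFunctor :=
    { obj := fun a => ⟨a.left, P.map a.hom.op x⟩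
      map := fun {a b} f => ⟨f.left, by
        show P.map f.left.op (P.map b.hom.op x) = P.map a.hom.op x
        rw [← Functor.map_comp_apply, ← op_comp, Over.w f]⟩ }
  w := rfl

theorem sec_ofElt {U : C} (x : P.obj (op U)) (a : Over U) :
    sec (ofElt x) a = P.map a.hom.op x := by
  show P.map (eqToHom (rfl : a.left = a.left)).op (P.map a.hom.op x) = P.map a.hom.op x
  simp

/-- The functor over `C` from a sieve attached to a compatible family. -/
def ofFam {U : C} {R : Sieve U} (x : Presieve.FamilyOfElements P (R : Presieve U))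
    (hx : x.Compatible) : sieveCat R ⥤ᵇ ofPsh P where
  toFunctor :=
    { obj := fun a => ⟨a.obj.left, x a.obj.hom a.property⟩
      map := fun {a b} f => ⟨f.hom.left, by
        have h1 := hx.to_sieveCompatible b.obj.hom f.hom.left b.property
        have h2 : f.hom.left ≫ b.obj.hom = a.obj.hom := Over.w f.hom
        show P.map f.hom.left.op (x b.obj.hom b.property) = x a.obj.hom a.property
        rw [← h1]
        congr 1⟩ }
  w := rfl

theorem sec_ofFam {U : C} {R : Sieve U} (x : Presieve.FamilyOfElements P (R : Presieve U))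
    (hx : x.Compatible) (a : (sieveCat R).obj) :
    sec (ofFam x hx) a = x a.obj.hom a.property := by
  show P.map (eqToHom (rfl : a.obj.left = a.obj.left)).op (x a.obj.hom a.property) =
    x a.obj.hom a.property
  simp

theorem sec_comp_sieveIncl {U : C} {R : Sieve U} (H : FibCat.overCat U ⥤ᵇ ofPsh P)
    (a : (sieveCat R).obj) :
    sec (BasedFunctor.comp (sieveIncl R) H) a = sec H a.obj := rfl

theorem sec_eq_map_sec_id {U : C} (H : FibCat.overCat U ⥤ᵇ ofPsh P) (a : Over U) :
    sec H a = P.map a.hom.op (sec H (Over.mk (𝟙 U))) := by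
  have := sec_map H (Over.homMk a.hom (by simp) : a ⟶ Over.mk (𝟙 U))
  exact this.symm

theorem isStackFor_iff {U : C} (R : Sieve U) :
    Stk.IsStackFor R (ofPsh P) ↔ Presieve.IsSheafFor P (R : Presieve U) := by
  constructor
  · intro hE x hx
    have : (resSieve R (ofPsh P)).IsEquivalence := hE
    let H := (resSieve R (ofPsh P)).objPreimage (ofFam x hx)
    let e : (resSieve R (ofPsh P)).obj H ≅ ofFam x hx :=
      (resSieve R (ofPsh P)).objObjPreimageIso (ofFam x hx)
    refine ⟨sec H (Over.mk (𝟙 U)), ?_, ?_⟩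
    · intro Y f hf
      have h1 := sec_eq_map_sec_id H (Over.mk f)
      have h2 : sec H (Over.mk f) = sec (ofFam x hx) ⟨Over.mk f, hf⟩ :=
        sec_eq_of_hom e.hom ⟨Over.mk f, hf⟩
      rw [sec_ofFam] at h2
      exact h1.symm.trans h2
    · intro y hy
      let H₁ : FibCat.overCat U ⥤ᵇ ofPsh P := ofElt y
      have hsec : ∀ a : (sieveCat R).obj,
          sec ((resSieve R (ofPsh P)).obj H₁) a = sec ((resSieve R (ofPsh P)).obj H) a := by
        intro a
        have h1 : sec ((resSieve R (ofPsh P)).obj H₁) a = P.map a.obj.hom.op y :=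
          sec_ofElt y a.obj
        have h2 : sec ((resSieve R (ofPsh P)).obj H) a = sec (ofFam x hx) a :=
          sec_eq_of_hom e.hom a
        rw [h1, h2, sec_ofFam]
        exact hy a.obj.hom a.property
      obtain ⟨α, -⟩ := (resSieve R (ofPsh P)).map_surjective (homOfSecEq hsec)
      have h3 := sec_eq_of_hom α (Over.mk (𝟙 U))
      rw [sec_ofElt] at h3
      have h4 : P.map (Over.mk (𝟙 U)).hom.op y = y := by
        show P.map (𝟙 U).op y = y
        simp
      rw [h4] at h3
      exact h3
  · intro hS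
    have hfaith : (resSieve R (ofPsh P)).Faithful := ⟨fun _ => Subsingleton.elim _ _⟩
    have hfull : (resSieve R (ofPsh P)).Full := by
      refine ⟨fun {H H'} γ => ⟨homOfSecEq (fun a => ?_), Subsingleton.elim _ _⟩⟩
      rw [sec_eq_map_sec_id H a, sec_eq_map_sec_id H' a]
      congr 1
      apply hS.isSeparatedFor.ext
      intro Y f hf
      have e1 := sec_eq_map_sec_id H (Over.mk f)
      have e2 := sec_eq_map_sec_id H' (Over.mk f)
      have e3 : sec H (Over.mk f) = sec H' (Over.mk f) := sec_eq_of_hom γ ⟨Over.mk f, hf⟩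
      exact e1.symm.trans (e3.trans e2)
    have hess : (resSieve R (ofPsh P)).EssSurj := by
      refine ⟨fun K => ?_⟩
      let x : Presieve.FamilyOfElements P (R : Presieve U) :=
        fun Y f hf => sec K ⟨Over.mk f, hf⟩
      have hx : x.Compatible := by
        rw [Presieve.compatible_iff_sieveCompatible]
        intro Y Z f g hf
        let m : (⟨Over.mk (g ≫ f), R.downward_closed hf g⟩ : (sieveCat R).obj) ⟶
            ⟨Over.mk f, hf⟩ := ObjectProperty.homMk (Over.homMk g)
        exact (sec_map K m).symm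
      let t := hS.amalgamate x hx
      have ht : ∀ a : (sieveCat R).obj,
          sec ((resSieve R (ofPsh P)).obj (ofElt t)) a = sec K a := by
        intro a
        have h1 : sec ((resSieve R (ofPsh P)).obj (ofElt t)) a = P.map a.obj.hom.op t :=
          sec_ofElt t a.obj
        rw [h1]
        exact hS.valid_glue hx a.obj.hom a.property
      exact ⟨ofElt t, ⟨⟨homOfSecEq ht, homOfSecEq (fun a => (ht a).symm),
        Subsingleton.elim _ _, Subsingleton.elim _ _⟩⟩⟩
    exact { }

end Aux

/-- For a presheaf of sets `P` on `C`, the category over `C` attached to `P` (which is fibred in sets)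
is a stack in groupoids for the topology `J` if and only if `P` is a sheaf for `J`: under the
correspondence between presheaves and categories fibred in sets, sheaves correspond to stacks. -/
theorem result {C : Type u} [Category.{v} C] (J : GrothendieckTopology C) (P : Cᵒᵖ ⥤ Type w) :
    Stk.IsStack J (Stk.ofPsh P) ↔ Presieve.IsSheaf J P := by
  constructor
  · intro h U R hR
    exact (isStackFor_iff R).1 (h.2 R hR)
  · intro h
    exact ⟨Stk.isFibGrpd_ofPsh P, fun U R hR => (isStackFor_iff R).2 (h R hR)⟩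

end Groth.Agent.S12796
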