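import Groth.Statements.S12795
import Groth.Agent.Lib.H43StkDescent

set_option autoImplicit false
set_option backward.isDefEq.respectTransparency false
set_option backward.isDefEq.respectTransparency.types false
open CategoryTheory
universe w v u
open Stk
open Groth.Agent.Lib.FibGrpd Groth.Agent.Lib.FpEquiv Groth.Agent.Lib.FibYoneda Groth.Agent.Lib.H43StkDescent
  Groth.Agent.Lib.StkEquiv

namespace Groth.Agent.S12795


section Helpers

variable {C : Type u} [Category.{v} C] {𝒳 : BasedCategory.{v, max u v} C} (Q : ObjectProperty 𝒳.obj)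

/-- The full subcategory on `Q` as a category over `C`. -/
abbrev sub : BasedCategory.{v, max u v} C := BasedCategory.ofFunctor (Q.ι ⋙ 𝒳.p)

/-- The inclusion of the full subcategory, a functor over `C`. -/
def incl : sub Q ⥤ᵇ 𝒳 where
  toFunctor := Q.ι
  w := rfl

instance : (incl Q).toFunctor.Full := inferInstanceAs Q.ι.Full
instance : (incl Q).toFunctor.Faithful := inferInstanceAs Q.ι.Faithful

theorem sub_isFibGrpd [FibCat.IsFibGrpd 𝒳.p]
    (h1 : ∀ ⦃y x : 𝒳.obj⦄ (_ : y ⟶ x), Q x →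
      ∃ (y' : 𝒳.obj) (e : y ≅ y'), Q y' ∧ 𝒳.p.IsHomLift (𝟙 (𝒳.p.obj y)) e.hom) :
    FibCat.IsFibGrpd (sub Q).p where
  exists_lift {x V} f := by
    obtain ⟨y, φ, hφ⟩ := FibCat.IsFibGrpd.exists_lift (p := 𝒳.p) (x := x.obj) f
    obtain ⟨y', e, hy', he⟩ := h1 φ x.property
    refine ⟨⟨y', hy'⟩, ObjectProperty.homMk (e.inv ≫ φ), ?_⟩
    have hV : 𝒳.p.obj y = V := IsHomLift.domain_eq 𝒳.p f φ
    rw [hV] at he
    haveI : 𝒳.p.IsHomLift (𝟙 V) e.inv := IsHomLift.lift_id_inv 𝒳.p V e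
    have h2 : 𝒳.p.IsHomLift (𝟙 V ≫ f) (e.inv ≫ φ) := inferInstance
    rw [Category.id_comp] at h2
    exact (isHomLift_comp_iff Q.ι 𝒳.p f _).2 h2
  isStronglyCartesian {y x} φ := by
    have h := FibCat.IsFibGrpd.isStronglyCartesian (p := 𝒳.p) φ.hom
    refine { toIsHomLift := inferInstance, universal_property' := ?_ }
    intro a' g φ' hφ'
    haveI hφ'' : 𝒳.p.IsHomLift (g ≫ 𝒳.p.map φ.hom) φ'.hom :=
      (isHomLift_comp_iff Q.ι 𝒳.p _ φ').1 hφ'
    obtain ⟨χ, ⟨hχ1, hχ2⟩, huniq⟩ := h.universal_property' g φ'.hom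
    refine ⟨ObjectProperty.homMk χ, ⟨(isHomLift_comp_iff Q.ι 𝒳.p g _).2 hχ1, ?_⟩, ?_⟩
    · apply ObjectProperty.hom_ext
      exact hχ2
    · rintro χ' ⟨h1', h2'⟩
      apply ObjectProperty.hom_ext
      exact huniq χ'.hom ⟨(isHomLift_comp_iff Q.ι 𝒳.p g χ').1 h1',
        congrArg (fun m => m.hom) h2'⟩

end Helpers

/-- Let `𝒳` be a stack in groupoids over `C` for the topology `J` and `Q` a property of objects of `𝒳`
such that (1) for every morphism `y ⟶ x` of `𝒳` whose target satisfies `Q`, `y` is isomorphic, by an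
isomorphism lying over an identity, to an object satisfying `Q`, and (3) for every covering sieve
`R` on `U` and every object `x` over `U`: if every source of a morphism to `x` lying over an arrow
of `R` is isomorphic over an identity to an object satisfying `Q`, then so is `x`. Then the full
subcategory of `𝒳` on `Q`, with the restricted structure functor, is a stack in groupoids for `J`.
(The published statement has a further condition (2), fullness of the subcategory, which is built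
into the full subcategory here; and its word isomorphic is read as isomorphic by an isomorphism
lying over an identity; the published statement is for stacks that are not necessarily in groupoids,
this row treats stacks in groupoids.) -/
theorem result {C : Type u} [Category.{v} C] (J : GrothendieckTopology C) {𝒳 : BasedCategory.{v, max u v} C}
    (h𝒳 : Stk.IsStack J 𝒳) (Q : ObjectProperty 𝒳.obj)
    (h1 : ∀ ⦃y x : 𝒳.obj⦄ (φ : y ⟶ x), Q x → ∃ (y' : 𝒳.obj) (e : y ≅ y'), Q y' ∧ 𝒳.p.IsHomLift (𝟙 (𝒳.p.obj y)) e.hom)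
    (h3 : ∀ ⦃U : C⦄ (R : Sieve U), R ∈ J U → ∀ (x : 𝒳.obj), 𝒳.p.obj x = U →
      (∀ ⦃V : C⦄ (f : V ⟶ U), R f → ∀ (y : 𝒳.obj) (φ : y ⟶ x), 𝒳.p.IsHomLift f φ →
        ∃ (y' : 𝒳.obj) (e : y ≅ y'), Q y' ∧ 𝒳.p.IsHomLift (𝟙 V) e.hom) →
      ∃ (x' : 𝒳.obj) (e : x ≅ x'), Q x' ∧ 𝒳.p.IsHomLift (𝟙 U) e.hom) :
    Stk.IsStack J (BasedCategory.ofFunctor (Q.ι ⋙ 𝒳.p)) := by
  haveI := h𝒳.1
  refine ⟨sub_isFibGrpd Q h1, fun U R hR => ?_⟩
  have hst : (Stk.resSieve R 𝒳).IsEquivalence := h𝒳.2 R hR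
  haveI := postcomp_faithful (Stk.sieveCat R) (incl Q)
  haveI := postcomp_full (Stk.sieveCat R) (incl Q)
  haveI := postcomp_faithful (FibCat.overCat U) (incl Q)
  haveI := postcomp_full (FibCat.overCat U) (incl Q)
  have sq : Stk.resSieve R (sub Q) ⋙ postcomp (Stk.sieveCat R) (incl Q) ≅
      postcomp (FibCat.overCat U) (incl Q) ⋙ Stk.resSieve R 𝒳 :=
    restrPostcompIso (Stk.sieveIncl R) (incl Q)
  haveI hfaith : (Stk.resSieve R (sub Q)).Faithful := by
    haveI : (postcomp (FibCat.overCat U) (incl Q) ⋙ Stk.resSieve R 𝒳).Faithful := inferInstance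
    exact Functor.Faithful.of_comp_iso sq
  haveI hfull : (Stk.resSieve R (sub Q)).Full := by
    haveI : (postcomp (FibCat.overCat U) (incl Q) ⋙ Stk.resSieve R 𝒳).Full := inferInstance
    haveI : (Stk.resSieve R (sub Q) ⋙ postcomp (Stk.sieveCat R) (incl Q)).Full :=
      Functor.Full.of_iso sq.symm
    exact Functor.Full.of_comp_faithful _ (postcomp (Stk.sieveCat R) (incl Q))
  haveI hess : (Stk.resSieve R (sub Q)).EssSurj := by
    refine ⟨fun D => ?_⟩
    let D' : Stk.sieveCat R ⥤ᵇ 𝒳 := BasedFunctor.comp D (incl Q)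
    let H := (Stk.resSieve R 𝒳).objPreimage D'
    let η : (Stk.resSieve R 𝒳).obj H ≅ D' := (Stk.resSieve R 𝒳).objObjPreimageIso D'
    -- the value at the top is isomorphic to an object of `Q`
    have hx₀ : 𝒳.p.obj (H.obj (overTop U)) = U := H.w_obj (overTop U)
    obtain ⟨x', e₀, hx', he₀⟩ := h3 R hR (H.obj (overTop U)) hx₀ (by
      intro V f hf y φ hφ
      let a : (Stk.sieveCat R).obj := ⟨Over.mk f, hf⟩
      haveI : 𝒳.p.IsHomLift f (H.map (toOverTop U (Over.mk f))) :=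
        map_toOverTop_isHomLift H (Over.mk f)
      obtain ⟨e₁, he₁, _⟩ := exists_iso_of_isHomLift f (H.map (toOverTop U (Over.mk f))) φ
      haveI he₂ : 𝒳.p.IsHomLift (𝟙 V) (appIso η a).hom := appIso_isHomLift η rfl
      refine ⟨(D.obj a).obj, e₁ ≪≫ appIso η a, (D.obj a).property, ?_⟩
      have : 𝒳.p.IsHomLift (𝟙 V ≫ 𝟙 V) (e₁.hom ≫ (appIso η a).hom) := inferInstance
      simpa using this)
    -- hence so are all values
    have hall : ∀ T : (FibCat.overCat U).obj, ∃ (x : (sub Q).obj)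
        (e : (incl Q).toFunctor.obj x ≅ H.toFunctor.obj T),
        𝒳.p.IsHomLift (𝟙 ((FibCat.overCat U).p.obj T)) e.hom := by
      intro T
      obtain ⟨y', e, hy', he⟩ := h1 (H.map (toOverTop U T) ≫ e₀.hom) hx'
      have hT : 𝒳.p.obj (H.obj T) = T.left := H.w_obj T
      rw [hT] at he
      exact ⟨⟨y', hy'⟩, e.symm, IsHomLift.lift_id_inv 𝒳.p T.left e⟩
    obtain ⟨H', ⟨θ⟩⟩ := exists_lift_of_ff (incl Q) H hall
    refine ⟨H', ⟨(postcomp (Stk.sieveCat R) (incl Q)).preimageIso ?_⟩⟩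
    exact Groth.Agent.Lib.FpEquiv.whiskerLeftIso (Stk.sieveIncl R) θ ≪≫ η
  exact { }

end Groth.Agent.S12795
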