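import Groth.Statements.S10271
import Groth.Agent.Lib.H86AffineMor
import Groth.Agent.Lib.AlgSpQC
import Groth.Agent.Lib.H69AlgSpMor
-- import your own Groth.Agent.* helpers here

set_option autoImplicit false
set_option linter.style.haveILetI false
universe u
open CategoryTheory CategoryTheory.Limits AlgebraicGeometry
open AlgSp

namespace Groth.Agent.S10271

open Groth.Agent.Lib.H86ZarGlue Groth.Agent.Lib

/-- A morphism of algebraic spaces is finite if and only if it is affine and proper. -/
theorem result {S : Scheme.{u}} {X Y : AlgSp.Space S} (f : X ⟶ Y) :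
    AlgSp.IsFiniteMor f.hom ↔ (AlgSp.IsAffineMor f.hom ∧ AlgSp.IsProperMor f.hom) := by
  rw [isFiniteMor_iff_repWith, isAffineMor_iff_repWith, repWith_isFinite_iff, repWith_isIntegralHom_iff]
  constructor
  · rintro ⟨⟨h1, h2⟩, h3⟩
    have hf := h1.1
    refine ⟨h1, ?_, ⟨?_, ?_⟩, ?_⟩
    · refine (H69AlgSpMor.separation_iff_repWith_of_representable f hf).1.2 ?_
      exact H69AlgSp.repWith_mono (fun _ _ g (_ : IsAffineHom g) => (inferInstance : IsSeparated g)) h1
    · exact (locP_lft_iff_repWith X.property Y.property hf).2 h3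
    · refine AlgSpQC.isQuasiCompactMor_of_repWith ?_
      exact H69AlgSp.repWith_mono (fun _ _ g (_ : IsAffineHom g) => (inferInstance : QuasiCompact g)) h1
    · exact (isUnivClosedMor_iff_repWith _ hf).2 h2
  · rintro ⟨h1, -, ⟨h3, -⟩, h4⟩
    have hf := h1.1
    exact ⟨⟨h1, (isUnivClosedMor_iff_repWith _ hf).1 h4⟩,
      (locP_lft_iff_repWith X.property Y.property hf).1 h3⟩

end Groth.Agent.S10271
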