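import Groth.Statements.S8852

set_option autoImplicit false
universe u
open CategoryTheory CategoryTheory.Limits AlgebraicGeometry TopologicalSpace
open SDiv

namespace Groth.Agent.S8852

section algebra

variable {A : Type*} [CommRing A]

/-- If `I * J = (f)` with `f` a nonzerodivisor, then outside any prime we can find
`x₀ ∈ I`, `y₀ ∈ J` with `x₀ y₀ = a f`, `a ∉ p`. -/
lemma exists_factor {I J : Ideal A} {f : A} (hf : f ∈ nonZeroDivisors A)
    (hIJ : I * J = Ideal.span {f}) (p : Ideal A) [hp : p.IsPrime] :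
    ∃ a x₀ y₀ : A, a ∉ p ∧ x₀ ∈ I ∧ y₀ ∈ J ∧ x₀ * y₀ = a * f := by
  by_contra hcon
  push Not at hcon
  -- every product x*y with x∈I, y∈J lies in p • (f)
  have key : I * J ≤ p * Ideal.span {f} := by
    rw [Ideal.mul_le]
    intro x hx y hy
    have hxy : x * y ∈ Ideal.span {f} := hIJ ▸ Ideal.mul_mem_mul hx hy
    obtain ⟨a, ha⟩ := Ideal.mem_span_singleton'.mp hxy
    have hap : a ∈ p := by
      by_contra hap
      exact hcon a x y hap hx hy ha.symm
    rw [← ha]
    exact Ideal.mul_mem_mul hap (Ideal.mem_span_singleton_self f)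
  have hfmem : f ∈ p * Ideal.span {f} := key (hIJ ▸ Ideal.mem_span_singleton_self f)
  rw [Ideal.mem_mul_span_singleton] at hfmem
  obtain ⟨z, hz, hzf⟩ := hfmem
  have h1 : (z - 1) * f = 0 := by rw [sub_mul, hzf, one_mul, sub_self]
  have h2 : z - 1 = 0 := (mem_nonZeroDivisors_iff_right.mp hf) _ h1
  have h3 : z = 1 := sub_eq_zero.mp h2
  exact hp.ne_top ((Ideal.eq_top_iff_one p).mpr (h3 ▸ hz))

variable {B : Type*} [CommRing B] [Algebra A B]

lemma map_eq_span_of_factor {I J : Ideal A} {f : A} (hf : f ∈ nonZeroDivisors A)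
    (hIJ : I * J = Ideal.span {f}) {a x₀ y₀ : A} (hx₀ : x₀ ∈ I) (hy₀ : y₀ ∈ J)
    (hxy : x₀ * y₀ = a * f) [IsLocalization.Away a B] :
    I.map (algebraMap A B) = Ideal.span {algebraMap A B x₀} := by
  apply le_antisymm
  · rw [Ideal.map_le_iff_le_comap]
    intro z hz
    rw [Ideal.mem_comap]
    have hzy : z * y₀ ∈ Ideal.span {f} := hIJ ▸ Ideal.mul_mem_mul hz hy₀
    obtain ⟨c, hc⟩ := Ideal.mem_span_singleton'.mp hzy
    have h1 : (z * a - x₀ * c) * f = 0 := by
      have : z * a * f = x₀ * c * f := by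
        calc z * a * f = z * (a * f) := by ring
          _ = z * (x₀ * y₀) := by rw [hxy]
          _ = x₀ * (z * y₀) := by ring
          _ = x₀ * (c * f) := by rw [hc]
          _ = x₀ * c * f := by ring
      rw [sub_mul, this, sub_self]
    have h2 : z * a = x₀ * c := sub_eq_zero.mp ((mem_nonZeroDivisors_iff_right.mp hf) _ h1)
    have hu : IsUnit (algebraMap A B a) := IsLocalization.Away.algebraMap_isUnit a
    obtain ⟨u, hu⟩ := hu
    rw [Ideal.mem_span_singleton']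
    refine ⟨algebraMap A B c * ↑u⁻¹, ?_⟩
    have h3 : algebraMap A B z * algebraMap A B a = algebraMap A B x₀ * algebraMap A B c := by
      rw [← map_mul, ← map_mul, h2]
    calc algebraMap A B c * ↑u⁻¹ * algebraMap A B x₀
        = (algebraMap A B x₀ * algebraMap A B c) * ↑u⁻¹ := by ring
      _ = algebraMap A B z * (↑u * ↑u⁻¹) := by rw [← h3, hu]; ring
      _ = algebraMap A B z := by rw [Units.mul_inv, mul_one]
  · rw [Ideal.span_singleton_le_iff_mem]
    exact Ideal.mem_map_of_mem _ hx₀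

lemma nzd_of_factor {f : A} (hf : f ∈ nonZeroDivisors A) {a x₀ y₀ : A}
    (hxy : x₀ * y₀ = a * f) [IsLocalization.Away a B] :
    algebraMap A B x₀ ∈ nonZeroDivisors B := by
  have hfB : algebraMap A B f ∈ nonZeroDivisors B :=
    IsLocalization.map_nonZeroDivisors_le (Submonoid.powers a) B
      (Submonoid.mem_map_of_mem _ hf)
  have hu : IsUnit (algebraMap A B a) := IsLocalization.Away.algebraMap_isUnit a
  have haf : algebraMap A B a * algebraMap A B f ∈ nonZeroDivisors B :=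
    mul_mem hu.mem_nonZeroDivisors hfB
  rw [← map_mul, ← hxy, map_mul] at haf
  exact (mul_mem_nonZeroDivisors.mp haf).1

end algebra

lemma left_of_mul {X : Scheme.{u}} (𝓘 𝓙 : X.IdealSheafData)
    (h : BlowUp.IsEffCartierIdeal (𝓘 * 𝓙)) : BlowUp.IsEffCartierIdeal 𝓘 := by
  intro x
  obtain ⟨U, hxU, f, hf, hIJ⟩ := h x
  rw [Scheme.IdealSheafData.ideal_mul, Pi.mul_apply] at hIJ
  let p : Ideal Γ(X, U.1) := (U.2.primeIdealOf ⟨x, hxU⟩).asIdeal
  obtain ⟨a, x₀, y₀, hap, hx₀, hy₀, hxy⟩ := exists_factor hf hIJ p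
  have hxa : x ∈ X.basicOpen a := by
    have h1 : U.2.fromSpec (U.2.primeIdealOf ⟨x, hxU⟩) = x := U.2.fromSpec_primeIdealOf ⟨x, hxU⟩
    have h2 : U.2.primeIdealOf ⟨x, hxU⟩ ∈ U.2.fromSpec ⁻¹ᵁ X.basicOpen a := by
      rw [U.2.fromSpec_preimage_basicOpen]
      exact hap
    rw [← h1]
    exact h2
  refine ⟨X.affineBasicOpen a, hxa, ?_⟩
  have hloc : IsLocalization.Away a Γ(X, X.basicOpen a) := U.2.isLocalization_basicOpen a
  refine ⟨algebraMap Γ(X, U.1) Γ(X, X.basicOpen a) x₀,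
    nzd_of_factor (B := Γ(X, X.basicOpen a)) hf hxy, ?_⟩
  rw [← 𝓘.map_ideal_basicOpen U a]
  exact map_eq_span_of_factor (B := Γ(X, X.basicOpen a)) hf hIJ hx₀ hy₀ hxy

/-- Let 𝓘, 𝓙 be quasi-coherent ideal sheaves on a scheme X (closed subschemes Z, Y). If the product 𝓘𝓙
is the ideal sheaf of an effective Cartier divisor D, then 𝓘 and 𝓙 are ideal sheaves of effective
Cartier divisors (and D is their sum, D having ideal 𝓘𝓙 by assumption). -/
theorem result {X : Scheme.{u}} (𝓘 𝓙 : X.IdealSheafData)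
    (h : BlowUp.IsEffCartierIdeal (𝓘 * 𝓙)) : BlowUp.IsEffCartierIdeal 𝓘 ∧ BlowUp.IsEffCartierIdeal 𝓙 := by
  refine ⟨left_of_mul 𝓘 𝓙 h, left_of_mul 𝓙 𝓘 ?_⟩
  rw [mul_comm]
  exact h

end Groth.Agent.S8852
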