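import Groth.Statements.S0013
import Groth.Agent.Lib.HBridge
import Groth.Agent.Lib.AffVan
import Groth.Agent.S0464

set_option autoImplicit false
universe u
open Coherent

namespace Groth.Agent.S0013

open AlgebraicGeometry in
/-- Let X be a scheme with an open covering all of whose nonempty finite intersections are affine. For a
quasi-coherent module M and every degree p, Čech cohomology with respect to this covering is
isomorphic to sheaf cohomology; only the existence of an isomorphism of additive groups is asserted
(the published statement gives an isomorphism of modules over the global sections). -/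
theorem result (X : Scheme.{u}) {ι : Type u}
    (U : ι → X.Opens) (hcov : ⨆ i, U i = ⊤)
    (hU : ∀ s : Finset ι, s.Nonempty → IsAffineOpen (⨅ i ∈ s, U i))
    (M : X.Modules) [Coh.IsQCoh M] (p : ℕ) :
    Nonempty (↑(CohB1.cechH U M p) ≃+ Coh.HH X M p) := by
  classical
  have hacyc : ∀ (n : ℕ) (a : Fin (n + 1) → ι) (q : ℕ),
      Subsingleton (CohTop.HU (Coh.toAb M) (q + 1) (iInf fun k => U (a k))) := by
    intro n a q
    have hs : (Finset.univ.image a).Nonempty := ⟨a 0, Finset.mem_image_of_mem a (Finset.mem_univ 0)⟩
    have haff := hU _ hs
    have heq : (⨅ i ∈ Finset.univ.image a, U i) = iInf fun k => U (a k) := by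
      apply le_antisymm
      · exact le_iInf fun k => iInf₂_le (a k) (Finset.mem_image_of_mem a (Finset.mem_univ k))
      · refine le_iInf₂ fun i hi => ?_
        obtain ⟨k, -, rfl⟩ := Finset.mem_image.1 hi
        exact iInf_le _ k
    rw [heq] at haff
    exact subsingleton_of_forall_eq 0 fun α =>
      Groth.Agent.Lib.AffVan.HU_eq_zero_of_isAffineOpen M inferInstance q haff α
  obtain ⟨e⟩ := Groth.Agent.S0464.result (X := X.toTopCat) (Coh.toAb M) U hacyc p
  have htop : iSup U = ⊤ := hcov
  rw [htop] at e
  exact ⟨e.trans (Groth.Agent.Lib.HBridge.HEquivHUTop (Coh.toAb M) p).symm⟩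

end Groth.Agent.S0013
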