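import Groth.Statements.S0002
import Mathlib
import Groth.Agent.Lib.H90ProperFin
import Groth.Agent.Lib.CohFinDevissageHyp
import Groth.Agent.S0818

set_option autoImplicit false
universe u
open Coh

namespace Groth.Agent.S0002

open CategoryTheory AlgebraicGeometry in
/-- Finiteness of coherent cohomology over an affine base: if A is a Noetherian ring, X is a scheme
proper over Spec A and M is a coherent O_X-module, then each H^n(X, M) is a finite A-module.
(`Coh.IsCoh` is quasi-coherent of finite type, which is coherent here since X is locally
Noetherian.) -/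
theorem result (A : Type u) [CommRing A] [IsNoetherianRing A] (X : Scheme.{u})
    [X.Over (Spec (CommRingCat.of A))] [IsProper (X ↘ Spec (CommRingCat.of A))]
    (M : X.Modules) (hM : Coh.IsCoh M) (n : ℕ) : Module.Finite A (Coh.HH X M n) := by
  rcases isEmpty_or_nonempty X with hX | hX
  · exact Groth.Agent.Lib.CohFinDevissageHyp.finite_HH_of_isEmpty A M n
  · haveI : IsLocallyNoetherian X :=
      LocallyOfFiniteType.isLocallyNoetherian (X ↘ Spec (CommRingCat.of A))
    haveI : CompactSpace X :=
      QuasiCompact.compactSpace_of_compactSpace (X ↘ Spec (CommRingCat.of A))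
    haveI : AlgebraicGeometry.IsNoetherian X := {}
    exact Groth.Agent.S0818.result X (fun F => ∀ n, Module.Finite A (Coh.HH X F n))
      (Groth.Agent.Lib.CohFinDevissageHyp.hP A) (Groth.Agent.Lib.CohFinDevissageHyp.h₁ A)
      (fun Z i _ _ => Groth.Agent.Lib.H90ProperFin.exists_devissage_module A X Z i) M hM n

end Groth.Agent.S0002
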