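import Groth.Statements.S0047
import Groth.Agent.Lib.FlasqueAcyclic
import Groth.Agent.Lib.ModStalk
import Mathlib.Topology.Sheaves.SheafCondition.UniqueGluing

set_option autoImplicit false
universe u
open Coherent

namespace Groth.Agent.S0047

open AlgebraicGeometry CategoryTheory TopologicalSpace Opposite

/-- In a quasi-sober Noetherian space, a closed set all of whose points are closed is finite. -/
lemma finite_of_isClosed_of_points_closed {α : Type*} [TopologicalSpace α] [NoetherianSpace α]
    [QuasiSober α] {C : Set α} (hC : IsClosed C) (h : ∀ x ∈ C, IsClosed ({x} : Set α)) :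
    C.Finite := by
  obtain ⟨T, hTf, hTc, hTi, rfl⟩ := NoetherianSpace.exists_finite_set_isClosed_irreducible hC
  refine Set.Finite.sUnion hTf (fun t ht => ?_)
  obtain ⟨x, hx⟩ := QuasiSober.sober (hTi t ht) (hTc t ht)
  have hxt : x ∈ t := hx.mem
  have hcl : IsClosed ({x} : Set α) := h x (Set.mem_sUnion.2 ⟨t, ht, hxt⟩)
  have : t = {x} := by
    rw [← hx.def, hcl.closure_eq]
  rw [this]
  exact Set.finite_singleton x

variable {X : Scheme.{u}}

/-- a closed set of closed points of a locally Noetherian scheme meets every affine open in a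
finite set -/
lemma finite_inter_of_points_closed [IsLocallyNoetherian X] {Z : Set X} (hZ : IsClosed Z)
    (h0 : ∀ x ∈ Z, IsClosed ({x} : Set X)) (W : X.Opens) (hW : IsAffineOpen W) :
    (Z ∩ W).Finite := by
  have : IsNoetherianRing Γ(X, W) := IsLocallyNoetherian.component_noetherian ⟨W, hW⟩
  have h1 : NoetherianSpace W.toScheme := noetherianSpace_of_isAffineOpen W hW
  have h2 : QuasiSober W.toScheme := inferInstance
  let ι : W.toScheme → X := fun y => W.ι.base y
  have hι : Continuous ι := W.ι.base.hom.continuous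
  have hιinj : Function.Injective ι := W.ι.isOpenEmbedding.injective
  have hC : IsClosed (ι ⁻¹' Z) := hZ.preimage hι
  have hfin := finite_of_isClosed_of_points_closed hC (fun y hy => by
    have : ({y} : Set W.toScheme) = ι ⁻¹' ({ι y} : Set X) := by
      ext z
      simp only [Set.mem_singleton_iff, Set.mem_preimage]
      exact ⟨fun h => by rw [h], fun h => hιinj h⟩
    rw [this]
    exact (h0 (ι y) hy).preimage hι)
  have : Z ∩ W = ι '' (ι ⁻¹' Z) := by
    ext x
    constructor
    · rintro ⟨hx, hxW⟩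
      exact ⟨⟨x, hxW⟩, hx, rfl⟩
    · rintro ⟨y, hy, rfl⟩
      exact ⟨hy, y.2⟩
  rw [this]
  exact hfin.image _

/-- every subset of a closed set of closed points of a locally Noetherian scheme is closed -/
lemma isClosed_of_subset [IsLocallyNoetherian X] {Z : Set X} (hZ : IsClosed Z)
    (h0 : ∀ x ∈ Z, IsClosed ({x} : Set X)) {Z' : Set X} (hZ' : Z' ⊆ Z) : IsClosed Z' := by
  rw [← isOpen_compl_iff, isOpen_iff_forall_mem_open]
  intro x hx
  obtain ⟨W, hW, hxW, -⟩ := Opens.isBasis_iff_nbhd.1 X.isBasis_affineOpens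
    (show x ∈ (⊤ : X.Opens) from trivial)
  have hfin : (Z' ∩ W).Finite :=
    (finite_inter_of_points_closed hZ h0 W hW).subset (Set.inter_subset_inter_left _ hZ')
  have hcl : IsClosed (Z' ∩ W) := by
    have : Z' ∩ W = ⋃ z ∈ Z' ∩ W, ({z} : Set X) := (Set.biUnion_of_singleton _).symm
    rw [this]
    exact hfin.isClosed_biUnion (fun z hz => h0 z (hZ' hz.1))
  refine ⟨W ∩ (Z' ∩ W)ᶜ, ?_, W.2.inter hcl.isOpen_compl, ⟨hxW, fun h => hx h.1⟩⟩
  rintro y ⟨hyW, hy⟩ hyZ'
  exact hy ⟨hyZ', hyW⟩

/-- sections vanish on opens missing the support -/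
lemma eq_zero_of_disjoint_support (M : X.Modules) (U : X.Opens)
    (hU : ∀ x ∈ U, x ∉ CohB1.support M) (s : (Coh.toAb M).obj.obj (op U)) : s = 0 := by
  apply TopCat.Presheaf.section_ext (Coh.toAb M) U
  intro x hx
  have : Subsingleton (M.presheaf.stalk x) := not_not.1 (hU x hx)
  exact Subsingleton.elim (α := M.presheaf.stalk x) _ _

/-- A coherent module on a locally Noetherian scheme whose support consists of closed points is
flasque. -/
lemma isFlasque_toAb [IsLocallyNoetherian X] (M : X.Modules) (hM : Coh.IsCoh M)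
    (h0 : ∀ x ∈ CohB1.support M, IsClosed ({x} : Set X)) :
    TopCat.Sheaf.IsFlasque (Coh.toAb M) where
  epi {U V} i := by
    rw [AddCommGrpCat.epi_iff_surjective]
    intro s
    obtain ⟨U⟩ := U
    obtain ⟨V⟩ := V
    have hVU : V ≤ U := leOfHom i.unop
    have hZ : IsClosed (CohB1.support M) :=
      Groth.Agent.Lib.ModStalk.isClosed_support_of_isFT M hM.2
    have hcl : IsClosed (CohB1.support M ∩ V) := isClosed_of_subset hZ h0 Set.inter_subset_left
    let U' : X.Opens := U ⊓ ⟨(CohB1.support M ∩ V)ᶜ, hcl.isOpen_compl⟩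
    let cov : ULift.{u} Bool → X.Opens := fun b => bif b.down then V else U'
    let sf : ∀ b : ULift.{u} Bool, ToType ((Coh.toAb M).obj.obj (op (cov b))) := fun b =>
      match b with
      | ⟨true⟩ => s
      | ⟨false⟩ => 0
    have hvan : ∀ t : (Coh.toAb M).obj.obj (op (V ⊓ U')), t = 0 := fun t =>
      eq_zero_of_disjoint_support M (V ⊓ U') (fun x (hx : x ∈ V ⊓ U') hxZ =>
        hx.2.2 ⟨hxZ, hx.1⟩) t
    have hvan' : ∀ t : (Coh.toAb M).obj.obj (op (U' ⊓ V)), t = 0 := fun t =>
      eq_zero_of_disjoint_support M (U' ⊓ V) (fun x (hx : x ∈ U' ⊓ V) hxZ =>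
        hx.1.2 ⟨hxZ, hx.2⟩) t
    have hcompat : TopCat.Presheaf.IsCompatible (Coh.toAb M).obj cov sf := by
      rintro ⟨_ | _⟩ ⟨_ | _⟩
      · rfl
      · exact (hvan' _).trans (hvan' _).symm
      · exact (hvan _).trans (hvan _).symm
      · rfl
    have hcover : U ≤ iSup cov := by
      intro x hx
      rw [Opens.mem_iSup]
      by_cases hxZ : x ∈ CohB1.support M ∩ V
      · exact ⟨⟨true⟩, hxZ.2⟩
      · exact ⟨⟨false⟩, hx, hxZ⟩
    obtain ⟨t, ht, -⟩ := TopCat.Sheaf.existsUnique_gluing' (Coh.toAb M) cov U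
      (fun b => homOfLE (by
        obtain ⟨_ | _⟩ := b
        · exact inf_le_left
        · exact hVU)) hcover sf hcompat
    exact ⟨t, ht ⟨true⟩⟩

end Groth.Agent.S0047

namespace Groth.Agent.S0047

open AlgebraicGeometry in
/-- On a locally Noetherian scheme, a coherent module whose support consists of closed points (i.e. has
dimension ≤ 0) satisfies H^i(X, F) = 0 for all i > 0. (Global generation is not stated.) -/
theorem result (X : Scheme.{u}) [IsLocallyNoetherian X]
    (M : X.Modules) (hM : Coh.IsCoh M) (h0 : ∀ x ∈ CohB1.support M, IsClosed ({x} : Set X))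
    (i : ℕ) (hi : 0 < i) : Subsingleton (Coh.HH X M i) := by
  obtain ⟨n, rfl⟩ := Nat.exists_eq_succ_of_ne_zero hi.ne'
  have := isFlasque_toAb M hM h0
  exact Groth.Agent.Lib.FlasqueAcyclic.subsingleton_H (Coh.toAb M) n

end Groth.Agent.S0047
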