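import Groth.Statements.S1526
import Groth.Agent.S0047
import Groth.Agent.Lib.ModStalk
-- import your own Groth.Agent.* helpers here

set_option autoImplicit false
universe u
open CategoryTheory CategoryTheory.Limits AlgebraicGeometry
open Variety

namespace Groth.Agent.S1526

open AlgebraicGeometry

/-- In a `T0` space, a point of a closed subset of Krull dimension `≤ 0` is closed. -/
theorem isClosed_singleton_of_krullDim_le_zero {α : Type*} [TopologicalSpace α] [T0Space α]
    {Z : Set α} (hZ : IsClosed Z) (hdim : topologicalKrullDim Z ≤ 0) (x : α) (hx : x ∈ Z) :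
    IsClosed ({x} : Set α) := by
  rw [← closure_eq_iff_isClosed]
  refine Set.Subset.antisymm ?_ subset_closure
  intro y hy
  have hyZ : y ∈ Z := (hZ.closure_subset_iff.mpr (Set.singleton_subset_iff.mpr hx)) hy
  -- irreducible closed subsets of `Z`
  let cx : TopologicalSpace.IrreducibleCloseds Z :=
    ⟨closure {⟨x, hx⟩}, isIrreducible_singleton.closure, isClosed_closure⟩
  let cy : TopologicalSpace.IrreducibleCloseds Z :=
    ⟨closure {⟨y, hyZ⟩}, isIrreducible_singleton.closure, isClosed_closure⟩
  have hle : cy ≤ cx := by
    change closure {(⟨y, hyZ⟩ : Z)} ⊆ closure {(⟨x, hx⟩ : Z)}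
    apply closure_minimal _ isClosed_closure
    rw [Set.singleton_subset_iff, closure_subtype]
    simpa using hy
  have hmin : IsMin cx := by
    have := (Order.krullDim_nonpos_iff_forall_isMin (α := TopologicalSpace.IrreducibleCloseds Z)).mp
      hdim
    exact this cx
  have hle' : cx ≤ cy := hmin hle
  have hxy : (⟨x, hx⟩ : Z) ∈ closure {(⟨y, hyZ⟩ : Z)} := hle' (subset_closure rfl)
  rw [closure_subtype] at hxy
  have hxy' : x ∈ closure ({y} : Set α) := by simpa using hxy
  have h1 : y ⤳ x := specializes_iff_mem_closure.mpr hxy'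
  have h2 : x ⤳ y := specializes_iff_mem_closure.mpr hy
  exact (h1.antisymm h2).eq

end Groth.Agent.S1526

namespace Groth.Agent.S1526

/-- On a proper scheme over a field, a coherent module whose support has dimension at most zero has
vanishing cohomology in all positive degrees. -/
theorem result (k : Type u) [Field k] (X : Scheme.{u}) [X.Over (Spec (CommRingCat.of k))] [IsProper (X ↘ (Spec (CommRingCat.of k)))]
    (F : X.Modules) (hF : Coh.IsCoh F) (hsupp : topologicalKrullDim (CohB1.support F) ≤ 0)
    (i : ℕ) (hi : 1 ≤ i) : Subsingleton (Coh.HH X F i) := by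
  have : IsLocallyNoetherian X :=
    LocallyOfFiniteType.isLocallyNoetherian (X ↘ (Spec (CommRingCat.of k)))
  have hZ : IsClosed (CohB1.support F) :=
    Groth.Agent.Lib.ModStalk.isClosed_support_of_isFT F hF.2
  exact Groth.Agent.S0047.result X F hF
    (fun x hx => isClosed_singleton_of_krullDim_le_zero hZ hsupp x hx) i hi

end Groth.Agent.S1526
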