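import Groth.Statements.S1527
import Groth.Agent.S0047
import Groth.Agent.S1526
import Groth.Agent.Lib.H78GlobGen2
import Groth.Agent.Lib.IdealMod
-- import your own Groth.Agent.* helpers here

set_option autoImplicit false
universe u
open CategoryTheory CategoryTheory.Limits AlgebraicGeometry
open Variety

namespace Groth.Agent.S1527

open AlgebraicGeometry CategoryTheory Opposite TopologicalSpace
open Groth.Agent.Lib.H78GlobGen2 Groth.Agent.Lib.H78TensorGen Groth.Agent.Lib.StructureModule

variable {X : Scheme.{u}}

/-- A module whose underlying abelian sheaf is flasque is globally generated. -/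
theorem isGloballyGenerated_of_isFlasque (F : X.Modules)
    (hfl : TopCat.Sheaf.IsFlasque (Coh.toAb F)) : Curv2.IsGloballyGenerated F := by
  refine ⟨Γ(F, ⊤), ofSections F (fun σ => σ), ?_⟩
  apply Groth.Agent.Lib.IdealMod.epi_of_locally_surjective
  intro U s x hx
  refine ⟨U, le_refl U, hx, ?_⟩
  -- extend `s` to a global section
  have hepi : Epi ((Coh.toAb F).obj.map (homOfLE (le_top : U ≤ ⊤)).op) := hfl.epi _
  rw [AddCommGrpCat.epi_iff_surjective] at hepi
  obtain ⟨σ, hσ⟩ := hepi s
  refine ⟨(ιF σ).app U (toSec U 1), ?_⟩
  have h1 := ofSections_app F (fun σ : Γ(F, ⊤) => σ) σ U 1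
  rw [one_smul] at h1
  refine h1.trans ?_
  change rs F le_top σ = F.val.map (𝟙 _) s
  rw [F.val.map_id]
  exact hσ

end Groth.Agent.S1527

namespace Groth.Agent.S1527

/-- On a proper scheme over a field, a coherent module whose support has dimension at most zero is
globally generated (a quotient of a free module). -/
theorem result (k : Type u) [Field k] (X : Scheme.{u}) [X.Over (Spec (CommRingCat.of k))] [IsProper (X ↘ (Spec (CommRingCat.of k)))]
    (F : X.Modules) (hF : Coh.IsCoh F) (hsupp : topologicalKrullDim (CohB1.support F) ≤ 0) :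
    Curv2.IsGloballyGenerated F := by
  have : IsLocallyNoetherian X :=
    LocallyOfFiniteType.isLocallyNoetherian (X ↘ (Spec (CommRingCat.of k)))
  have hZ : IsClosed (CohB1.support F) :=
    Groth.Agent.Lib.ModStalk.isClosed_support_of_isFT F hF.2
  exact isGloballyGenerated_of_isFlasque F (Groth.Agent.S0047.isFlasque_toAb F hF
    (fun x hx => Groth.Agent.S1526.isClosed_singleton_of_krullDim_le_zero hZ hsupp x hx))

end Groth.Agent.S1527
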