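import Groth.Statements.S0569
import Groth.Agent.Lib.TateN2B98
import Groth.Agent.Lib.H87Japanese
import Groth.Agent.S4562

set_option autoImplicit false
universe u
open CAlg

namespace Groth.Agent.S0569

set_option maxHeartbeats 400000

open Groth.Agent.Lib.TateN2A98

/-- N-2 passes from `R ⧸ I` to `R` when `I = ⊥`. -/
theorem isN2_of_quotient_bot (R : Type u) [CommRing R] [IsDomain R] (I : Ideal R) (hI : I = ⊥)
    [I.IsPrime] (h2 : CAlg.IsN2 (R ⧸ I)) : CAlg.IsN2 R := by
  intro L _ _ _ _ hfd
  have hIK : ∀ a ∈ I, algebraMap R (FractionRing R) a = 0 := by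
    intro a ha; rw [hI, Ideal.mem_bot] at ha; rw [ha, map_zero]
  have hIL : ∀ a ∈ I, algebraMap R L a = 0 := by
    intro a ha; rw [hI, Ideal.mem_bot] at ha; rw [ha, map_zero]
  letI algDK : Algebra (R ⧸ I) (FractionRing R) :=
    (Ideal.Quotient.lift I (algebraMap R (FractionRing R)) hIK).toAlgebra
  letI algDL : Algebra (R ⧸ I) L := (Ideal.Quotient.lift I (algebraMap R L) hIL).toAlgebra
  have hDK : ∀ r : R, algebraMap (R ⧸ I) (FractionRing R) (Ideal.Quotient.mk I r) =
      algebraMap R (FractionRing R) r := fun r => rfl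
  have hDL : ∀ r : R, algebraMap (R ⧸ I) L (Ideal.Quotient.mk I r) = algebraMap R L r :=
    fun r => rfl
  haveI : IsScalarTower (R ⧸ I) (FractionRing R) L := IsScalarTower.of_algebraMap_eq (fun d => by
    obtain ⟨r, rfl⟩ := Ideal.Quotient.mk_surjective d
    rw [hDL, hDK, ← IsScalarTower.algebraMap_apply])
  haveI : IsScalarTower R (R ⧸ I) L := IsScalarTower.of_algebraMap_eq (fun r => (hDL r).symm)
  haveI : FaithfulSMul (R ⧸ I) (FractionRing R) :=
    (faithfulSMul_iff_algebraMap_injective (R ⧸ I) (FractionRing R)).mpr (by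
      rw [injective_iff_map_eq_zero]
      intro d hd
      obtain ⟨r, rfl⟩ := Ideal.Quotient.mk_surjective d
      rw [hDK] at hd
      have h0 : r = 0 := IsFractionRing.injective R (FractionRing R) (by rw [hd, map_zero])
      rw [h0, map_zero])
  haveI : IsFractionRing (R ⧸ I) (FractionRing R) := IsFractionRing.of_field (R ⧸ I) (FractionRing R)
    (fun z => by
      obtain ⟨a, b, hb, rfl⟩ := IsFractionRing.div_surjective (A := R) z
      exact ⟨Ideal.Quotient.mk I a, Ideal.Quotient.mk I b, by rw [hDK, hDK]⟩)
  have hfinD : Module.Finite (R ⧸ I) (integralClosure (R ⧸ I) L) :=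
    Groth.Agent.Lib.H87Japanese.finite_of_isN2 (R ⧸ I) h2 (FractionRing R) L hfd
  haveI : Module.Finite R (integralClosure (R ⧸ I) L) := Module.Finite.trans (R ⧸ I) _
  haveI : Algebra.IsIntegral R (R ⧸ I) := Algebra.IsIntegral.of_finite R (R ⧸ I)
  let f : (integralClosure (R ⧸ I) L) →ₗ[R] (integralClosure R L) :=
    { toFun := fun c => ⟨c.1, isIntegral_trans (R := R) (A := R ⧸ I) c.1 c.2⟩
      map_add' := fun _ _ => rfl
      map_smul' := fun _ _ => rfl }
  have hf : Function.Surjective f := fun y =>
    ⟨⟨y.1, IsIntegral.tower_top (A := R ⧸ I) y.2⟩, rfl⟩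
  exact Module.Finite.of_surjective f hf

/-- Tate's lemma for a finite purely inseparable extension. -/
theorem tate_main (R : Type u) [CommRing R] [IsDomain R] [IsNoetherianRing R]
    [IsIntegrallyClosed R]
    (x : R) (hx0 : x ≠ 0) [(Ideal.span ({x} : Set R)).IsPrime]
    (h2 : CAlg.IsN2 (R ⧸ Ideal.span ({x} : Set R))) [IsAdicComplete (Ideal.span ({x} : Set R)) R]
    (K' : Type u) [Field K'] [Algebra R K'] [Algebra (FractionRing R) K']
    [IsScalarTower R (FractionRing R) K'] (hfd : FiniteDimensional (FractionRing R) K')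
    (hpi : IsPurelyInseparable (FractionRing R) K') :
    Module.Finite R (integralClosure R K') := by
  classical
  obtain ⟨q₀, hq₀⟩ := ExpChar.exists (FractionRing R)
  have hQ : 0 < q₀ ^ IsPurelyInseparable.exponent (FractionRing R) K' :=
    pow_pos (expChar_pos (FractionRing R) q₀) _
  have hpowK' : ∀ a : K', a ^ (q₀ ^ IsPurelyInseparable.exponent (FractionRing R) K') ∈
      (algebraMap (FractionRing R) K').range :=
    fun a => IsPurelyInseparable.exponent_def' (FractionRing R) q₀ a
  haveI : ExpChar (AlgebraicClosure K') q₀ :=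
    expChar_of_injective_algebraMap
      (algebraMap (FractionRing R) (AlgebraicClosure K')).injective q₀
  obtain ⟨y, hy⟩ := IsAlgClosed.exists_pow_nat_eq (algebraMap R (AlgebraicClosure K') x) hQ
  have hyint : IsIntegral K' y := by
    apply IsIntegral.of_pow hQ
    rw [hy, IsScalarTower.algebraMap_apply R K' (AlgebraicClosure K')]
    exact isIntegral_algebraMap
  -- the field `K'' = K'(y)`
  haveI : FiniteDimensional K' (IntermediateField.adjoin K' ({y} : Set (AlgebraicClosure K'))) :=
    IntermediateField.adjoin.finiteDimensional hyint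
  haveI : FiniteDimensional (FractionRing R)
      (IntermediateField.adjoin K' ({y} : Set (AlgebraicClosure K'))) :=
    Module.Finite.trans K' _
  haveI : IsScalarTower R (FractionRing R)
      (IntermediateField.adjoin K' ({y} : Set (AlgebraicClosure K'))) :=
    IsScalarTower.of_algebraMap_eq (fun r => Subtype.ext
      (IsScalarTower.algebraMap_apply R (FractionRing R) (AlgebraicClosure K') r))
  have hP : ∀ z ∈ IntermediateField.adjoin K' ({y} : Set (AlgebraicClosure K')),
      ∃ k : FractionRing R, algebraMap (FractionRing R) (AlgebraicClosure K') k =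
        z ^ (q₀ ^ IsPurelyInseparable.exponent (FractionRing R) K') := by
    intro z hz
    refine IntermediateField.adjoin_induction K'
      (p := fun z _ => ∃ k : FractionRing R,
        algebraMap (FractionRing R) (AlgebraicClosure K') k =
          z ^ (q₀ ^ IsPurelyInseparable.exponent (FractionRing R) K')) ?_ ?_ ?_ ?_ ?_ hz
    · intro w hw
      rw [Set.mem_singleton_iff] at hw
      subst hw
      exact ⟨algebraMap R (FractionRing R) x, by rw [hy, ← IsScalarTower.algebraMap_apply]⟩
    · intro k'
      obtain ⟨k, hk⟩ := hpowK' k'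
      exact ⟨k, by rw [← map_pow, ← hk, ← IsScalarTower.algebraMap_apply]⟩
    · intro a b _ _ ha hb
      obtain ⟨ka, hka⟩ := ha
      obtain ⟨kb, hkb⟩ := hb
      exact ⟨ka + kb, by rw [map_add, hka, hkb, add_pow_expChar_pow]⟩
    · intro a _ ha
      obtain ⟨ka, hka⟩ := ha
      exact ⟨ka⁻¹, by rw [map_inv₀, hka, inv_pow]⟩
    · intro a b _ _ ha hb
      obtain ⟨ka, hka⟩ := ha
      obtain ⟨kb, hkb⟩ := hb
      exact ⟨ka * kb, by rw [map_mul, hka, hkb, mul_pow]⟩
  have hpow'' : ∀ z : IntermediateField.adjoin K' ({y} : Set (AlgebraicClosure K')),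
      z ^ (q₀ ^ IsPurelyInseparable.exponent (FractionRing R) K') ∈
        (algebraMap (FractionRing R)
          (IntermediateField.adjoin K' ({y} : Set (AlgebraicClosure K')))).range := by
    intro z
    obtain ⟨k, hk⟩ := hP z.1 z.2
    exact ⟨k, Subtype.ext hk⟩
  have hfin'' : Module.Finite R
      (integralClosure R (IntermediateField.adjoin K' ({y} : Set (AlgebraicClosure K')))) :=
    tate_core R x hx0 h2 (FractionRing R)
      (IntermediateField.adjoin K' ({y} : Set (AlgebraicClosure K')))
      (q₀ ^ IsPurelyInseparable.exponent (FractionRing R) K') hQ hpow''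
      ⟨y, IntermediateField.subset_adjoin K' {y} (Set.mem_singleton y)⟩ (Subtype.ext hy)
  have hnoeth : IsNoetherian R
      (integralClosure R (IntermediateField.adjoin K' ({y} : Set (AlgebraicClosure K')))) :=
    isNoetherian_of_isNoetherianRing_of_finite R _
  let f : (integralClosure R K') →ₗ[R]
      (integralClosure R (IntermediateField.adjoin K' ({y} : Set (AlgebraicClosure K')))) :=
    { toFun := fun c => ⟨algebraMap K'
          (IntermediateField.adjoin K' ({y} : Set (AlgebraicClosure K'))) c.1,
        c.2.algebraMap⟩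
      map_add' := fun a b => Subtype.ext (map_add _ _ _)
      map_smul' := fun r a => Subtype.ext (by
        simp only [RingHom.id_apply]
        rw [Subalgebra.coe_smul, Subalgebra.coe_smul, Algebra.smul_def, Algebra.smul_def,
          map_mul, ← IsScalarTower.algebraMap_apply]) }
  have hf : Function.Injective f := by
    intro a b hab
    have h1 := congrArg Subtype.val hab
    exact Subtype.ext ((algebraMap K'
      (IntermediateField.adjoin K' ({y} : Set (AlgebraicClosure K')))).injective h1)
  exact Module.Finite.of_injective f hf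


/-- Let `R` be an integrally closed Noetherian domain and `x` an element such that `R/xR` is a domain
which is N-2 and `R` is complete with respect to `xR`. Then `R` is N-2. -/
theorem result (R : Type u) [CommRing R] [IsDomain R]
    [IsNoetherianRing R] [IsIntegrallyClosed R] (x : R) [(Ideal.span ({x} : Set R)).IsPrime]
    (h2 : CAlg.IsN2 (R ⧸ Ideal.span ({x} : Set R))) [IsAdicComplete (Ideal.span ({x} : Set R)) R] :
    CAlg.IsN2 R := by
  by_cases hx0 : x = 0
  · exact isN2_of_quotient_bot R (Ideal.span ({x} : Set R))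
      (Ideal.span_singleton_eq_bot.mpr hx0) h2
  · apply Groth.Agent.S4562.result R
    intro K' _ _ _ _ hfd hpi
    exact tate_main R x hx0 h2 K' hfd hpi

end Groth.Agent.S0569
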