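import Groth.Statements.S0581
import Groth.Agent.Lib.CohenStructure
import Groth.Agent.S0578
import Groth.Agent.S2456

set_option autoImplicit false
universe u
open CAlg

namespace Groth.Agent.S0581

open IsLocalRing in
/-- The case of a coefficient field. -/
theorem of_field {R : Type u} [CommRing R]
    [IsDomain R] [IsLocalRing R] [IsNoetherianRing R] [IsAdicComplete (maximalIdeal R) R]
    {K : Type u} [Field K] (σ : K →+* R)
    (hσ : Function.Surjective ((residue R).comp σ)) :
    ∃ (Λ : Type u) (_ : CommRing Λ) (n : ℕ) (f : MvPowerSeries (Fin n) Λ →+* R),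
      (IsField Λ ∨ CAlg.IsCohenRing Λ) ∧ Function.Injective f ∧ f.Finite ∧
      Function.Surjective ((residue R).comp f) := by
  have hmK : maximalIdeal K = Ideal.span {(0 : K)} := by
    rw [IsLocalRing.maximalIdeal_eq_bot, Ideal.span_singleton_eq_bot.mpr rfl]
  have hc : IsAdicComplete (maximalIdeal K) K := by
    rw [IsLocalRing.maximalIdeal_eq_bot]
    infer_instance
  obtain ⟨n, f, h1, h2, h3⟩ := Groth.Agent.Lib.CohenStructure.exists_powerSeries σ 0 hmK
    (by rw [map_zero]; exact Ideal.zero_mem _) (Or.inl rfl) hσ
  exact ⟨K, inferInstance, n, f, Or.inl (Field.toIsField K), h1, h2, h3⟩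

/-- A complete Noetherian local domain `R` contains a subring `R₀` over which it is module-finite with
the same residue field, where `R₀` is a power series ring in finitely many variables over a field or
over a Cohen ring. Stated with `R₀` given as the image of an injective ring map. -/
theorem result (R : Type u) [CommRing R]
    [IsDomain R] [IsLocalRing R] [IsNoetherianRing R] [IsAdicComplete (IsLocalRing.maximalIdeal R) R] :
    ∃ (Λ : Type u) (_ : CommRing Λ) (n : ℕ) (f : MvPowerSeries (Fin n) Λ →+* R),
      (IsField Λ ∨ CAlg.IsCohenRing Λ) ∧ Function.Injective f ∧ f.Finite ∧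
      Function.Surjective ((IsLocalRing.residue R).comp f) := by
  classical
  obtain ⟨q, hq⟩ := CharP.exists (IsLocalRing.ResidueField R)
  have hJ : IsLocalRing.maximalIdeal R ≠ ⊤ := Ideal.IsPrime.ne_top'
  rcases CharP.char_is_prime_or_zero (IsLocalRing.ResidueField R) q with hqp | hq0
  · -- positive residue characteristic
    have hfact : Fact q.Prime := ⟨hqp⟩
    obtain ⟨W, hWr, hWl, hW, ⟨e⟩⟩ := Groth.Agent.S0578.result q (IsLocalRing.ResidueField R)
    obtain ⟨hdom, hdvr, hcomp, p, hp, hmax⟩ := id hW
    have hloc : IsLocalRing (R ⧸ IsLocalRing.maximalIdeal R) :=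
      inferInstanceAs (IsLocalRing (IsLocalRing.ResidueField R))
    let u : W →+* R ⧸ IsLocalRing.maximalIdeal R := e.toRingHom.comp (IsLocalRing.residue W)
    have hu : ∀ x, u x = e (IsLocalRing.residue W x) := fun x => rfl
    have hlocu : IsLocalHom u := by
      refine ⟨fun x hx => ?_⟩
      have hx' : IsUnit (e (IsLocalRing.residue W x)) := hx
      have h1 : IsUnit (IsLocalRing.residue W x) := by
        have h2 := hx'.map e.symm
        have h3 : e.symm (e (IsLocalRing.residue W x)) = IsLocalRing.residue W x :=
          e.symm_apply_apply _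
        rw [h3] at h2
        exact h2
      exact isUnit_of_map_unit (IsLocalRing.residue W) x h1
    obtain ⟨v, hvloc, hv⟩ := Groth.Agent.S2456.result_cohen hp hmax
      (IsLocalRing.maximalIdeal R) hJ u
    have hv' : ∀ x, IsLocalRing.residue R (v x) = e (IsLocalRing.residue W x) :=
      fun x => RingHom.congr_fun hv x
    have hres : Function.Surjective ((IsLocalRing.residue R).comp v) := by
      intro z
      obtain ⟨w, hw⟩ := IsLocalRing.residue_surjective (e.symm z)
      refine ⟨w, ?_⟩
      show IsLocalRing.residue R (v w) = z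
      rw [hv', hw, RingEquiv.apply_symm_apply]
    have hpm : v (p : W) ∈ IsLocalRing.maximalIdeal R := by
      rw [← IsLocalRing.residue_eq_zero_iff, hv']
      have : IsLocalRing.residue W (p : W) = 0 := by
        rw [IsLocalRing.residue_eq_zero_iff, hmax]
        exact Ideal.mem_span_singleton_self _
      rw [this, map_zero]
    by_cases hp0 : v (p : W) = 0
    · -- `p = 0` in `R`: a coefficient field
      have hker : ∀ a ∈ IsLocalRing.maximalIdeal W, v a = 0 := by
        intro a ha
        rw [hmax] at ha
        obtain ⟨c, rfl⟩ := Ideal.mem_span_singleton.mp ha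
        rw [map_mul, hp0, zero_mul]
      let σ : IsLocalRing.ResidueField W →+* R :=
        Ideal.Quotient.lift (IsLocalRing.maximalIdeal W) v hker
      have hσ : ∀ w, σ (IsLocalRing.residue W w) = v w := fun w => rfl
      refine of_field σ ?_
      intro z
      obtain ⟨w, hw⟩ := hres z
      exact ⟨IsLocalRing.residue W w, hw⟩
    · -- mixed characteristic
      obtain ⟨n, f, h1, h2, h3⟩ := Groth.Agent.Lib.CohenStructure.exists_powerSeries v (p : W) hmax
        hpm (Or.inr hp0) hres
      exact ⟨W, hWr, n, f, Or.inr hW, h1, h2, h3⟩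
  · -- residue characteristic zero
    subst hq0
    have hcz : CharZero (IsLocalRing.ResidueField R) := CharP.charP_to_charZero _
    obtain ⟨v, -, hv⟩ := Groth.Agent.S2456.result_charZero
      (W := IsLocalRing.ResidueField R) (Field.toIsField _)
      (IsLocalRing.maximalIdeal R) hJ (RingHom.id _)
    refine of_field v ?_
    intro z
    exact ⟨z, RingHom.congr_fun hv z⟩

end Groth.Agent.S0581
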