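import Groth.Statements.S0346
import Mathlib.CategoryTheory.Monoidal.Cartesian.Grp

set_option autoImplicit false
universe u v
open CategoryTheory MonoidalCategory CartesianMonoidalCategory MonObj GrpObj AlgebraicGeometry
open GrpSch

namespace Groth.Agent.S0346

section cat

variable {C : Type*} [Category C] [CartesianMonoidalCategory C]

/-- The diagonal of a group object is the pullback of the unit section along the
division map `(g, h) ↦ g⁻¹ * h`. -/
theorem isPullback_diag_unit (G : C) [GrpObj G] :
    IsPullback (lift (𝟙 G) (𝟙 G)) (toUnit G) ((fst G G)⁻¹ * snd G G) η[G] where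
  w := by
    rw [MonObj.comp_mul, GrpObj.comp_inv]
    simp [← Hom.one_def]
  isLimit' := Nonempty.intro <| Limits.PullbackCone.IsLimit.mk _
    (fun s => s.fst ≫ fst G G)
    (by
      intro s
      have h := s.condition
      rw [MonObj.comp_mul, GrpObj.comp_inv, toUnit_unique s.snd (toUnit _), ← Hom.one_def,
        inv_mul_eq_one] at h
      apply CartesianMonoidalCategory.hom_ext <;> simp [h])
    (fun s => toUnit_unique _ _)
    (by
      intro s m hm₁ hm₂
      rw [← hm₁]
      simp)

end cat

/-- A group scheme over any base scheme is separated over the base exactly when its unit section is a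
closed immersion, and quasi-separated exactly when the unit section is quasi-compact. -/
theorem result (S : Scheme.{u}) (G : Over S) [GrpObj G] : (IsSeparated G.hom ↔ IsClosedImmersion η[G].left) ∧ (QuasiSeparated G.hom ↔ QuasiCompact η[G].left) := by
  have hpb := (isPullback_diag_unit G).map (Over.forget S)
  have hdiag : (lift (𝟙 G) (𝟙 G)).left = Limits.pullback.diagonal G.hom := rfl
  have hsec : η[G].left ≫ G.hom = 𝟙 S := by simp
  simp only [Over.forget_obj, Over.forget_map] at hpb
  rw [hdiag] at hpb
  refine ⟨⟨fun h => ?_, fun h => ⟨?_⟩⟩, ⟨fun h => ?_, fun h => ⟨?_⟩⟩⟩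
  · have : IsClosedImmersion (η[G].left ≫ G.hom) := by
      rw [hsec]; exact inferInstanceAs (IsClosedImmersion (𝟙 S))
    exact IsClosedImmersion.of_comp η[G].left G.hom
  · exact MorphismProperty.of_isPullback hpb.flip h
  · have : QuasiCompact (η[G].left ≫ G.hom) := by
      rw [hsec]; exact inferInstanceAs (QuasiCompact (𝟙 S))
    exact QuasiCompact.of_comp η[G].left G.hom
  · exact MorphismProperty.of_isPullback hpb.flip h

end Groth.Agent.S0346
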