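import Groth.Statements.S5331
import Groth.Agent.S0346

set_option autoImplicit false
universe u
open CategoryTheory CategoryTheory.Limits MonoidalCategory CartesianMonoidalCategory MonObj GrpObj AlgebraicGeometry
open SGA3

namespace Groth.Agent.S5331

/-- Let S be a scheme whose underlying topological space is discrete. Then every S-group scheme is
separated over S. -/
theorem result (S : Scheme.{u}) [DiscreteTopology S] (G : Over S) [GrpObj G] :
    IsSeparated G.hom := by
  rw [(Groth.Agent.S0346.result S G).1]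
  have hid : η[G].left ≫ G.hom = 𝟙 S := by
    simp
  let V : S → S.Opens := fun s => ⟨{s}, isOpen_discrete _⟩
  let U : S → G.left.Opens := fun s => G.hom ⁻¹ᵁ V s
  have hU : iSup U = ⊤ := by
    rw [eq_top_iff]
    intro g _
    exact TopologicalSpace.Opens.mem_iSup.mpr ⟨G.hom g, rfl⟩
  rw [IsZariskiLocalAtTarget.iff_of_iSup_eq_top (P := @IsClosedImmersion) U hU]
  intro s
  have hsub : Subsingleton ↥(η[G].left ⁻¹ᵁ U s : Scheme.{u}) := by
    constructor
    rintro ⟨a, ha⟩ ⟨b, hb⟩
    have ha' : G.hom (η[G].left a) = s := ha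
    have hb' : G.hom (η[G].left b) = s := hb
    have e1 : G.hom (η[G].left a) = a := by
      rw [← Scheme.Hom.comp_apply, hid]; rfl
    have e2 : G.hom (η[G].left b) = b := by
      rw [← Scheme.Hom.comp_apply, hid]; rfl
    apply Subtype.ext
    show a = b
    rw [← e1, ← e2, ha', hb']
  have hrange : Set.range ((U s).ι ≫ G.hom) ⊆ Set.range (η[G].left ⁻¹ᵁ U s).ι := by
    rintro _ ⟨⟨g, hg⟩, rfl⟩
    have hg' : G.hom g = s := hg
    rw [Scheme.Opens.range_ι]
    show G.hom (η[G].left (G.hom g)) = s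
    have e1 : G.hom (η[G].left (G.hom g)) = G.hom g := by
      rw [← Scheme.Hom.comp_apply, hid]; rfl
    rw [e1, hg']
  let f : (U s : Scheme.{u}) ⟶ (η[G].left ⁻¹ᵁ U s : Scheme.{u}) :=
    IsOpenImmersion.lift (η[G].left ⁻¹ᵁ U s).ι ((U s).ι ≫ G.hom) hrange
  refine isClosedImmersion_of_comp_eq_id f (η[G].left ∣_ U s) ?_
  rw [← cancel_mono (η[G].left ⁻¹ᵁ U s).ι]
  simp only [Category.assoc, f, IsOpenImmersion.lift_fac, Category.id_comp]
  rw [morphismRestrict_ι_assoc, hid]
  exact Category.comp_id _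

end Groth.Agent.S5331
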