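import Groth.Statements.S9200
import Mathlib.AlgebraicGeometry.AffineTransitionLimit

set_option autoImplicit false
universe u
open CategoryTheory AlgebraicGeometry
open Lim

namespace Groth.Agent.S9200

/-- Let S be a scheme and X = lim X_i a cofiltered limit of S-schemes X_i (a diagram with a compatible
family of structure maps to S) with affine transition morphisms, every X_i quasi-compact and
quasi-separated; the structure map X → S is the composite X → X_{i₀} → S for any index i₀. Assume S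
is quasi-compact and quasi-separated. If X → S is affine, then X_i → S is affine for all i beyond
some index i₁. -/
theorem result {I : Type u} [SmallCategory I] [IsCofiltered I] (S : Scheme.{u}) [CompactSpace S] [QuasiSeparatedSpace S]
    (D : I ⥤ Scheme.{u}) (t : D ⟶ (Functor.const I).obj S) (c : Limits.Cone D) (hc : Limits.IsLimit c)
    [∀ (i j : I) (a : i ⟶ j), IsAffineHom (D.map a)]
    [∀ i, CompactSpace (D.obj i)] [∀ i, QuasiSeparatedSpace (D.obj i)] (i₀ : I)
    [IsAffineHom (c.π.app i₀ ≫ t.app i₀)] :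
    ∃ i₁ : I, ∀ (i : I) (_ : i ⟶ i₁), IsAffineHom (t.app i) := by
  classical
  haveI : ∀ {i j : I} (f : i ⟶ j), IsAffineHom (D.map f) := fun f => inferInstance
  have hnat : ∀ {i j : I} (f : i ⟶ j), D.map f ≫ t.app j = t.app i := fun f => by
    have := t.naturality f
    simpa using this
  have hπ : ∀ i, c.π.app i ≫ t.app i = c.π.app i₀ ≫ t.app i₀ := fun i => by
    have e1 : c.π.app i ≫ t.app i = c.π.app (IsCofiltered.min i i₀) ≫ t.app _ := by
      rw [← c.w (IsCofiltered.minToLeft i i₀), Category.assoc, hnat]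
    have e2 : c.π.app i₀ ≫ t.app i₀ = c.π.app (IsCofiltered.min i i₀) ≫ t.app _ := by
      rw [← c.w (IsCofiltered.minToRight i i₀), Category.assoc, hnat]
    rw [e1, e2]
  have key : ∀ V : S.Opens, IsAffineOpen V → ∃ j : I, ∀ (k : I) (_ : k ⟶ j),
      IsAffineOpen ((t.app k) ⁻¹ᵁ V) := by
    intro V hV
    have hU : IsAffineOpen ((c.π.app i₀ ≫ t.app i₀) ⁻¹ᵁ V) := hV.preimage _
    obtain ⟨i, W, hW, hWU⟩ := exists_isAffineOpen_preimage_eq D c hc _ hU
    haveI : QuasiCompact (t.app i) :=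
      quasiCompact_of_compactSpace (X := D.obj i) (Y := S) (t.app i)
    have hcpt : IsCompact (((t.app i) ⁻¹ᵁ V : (D.obj i).Opens) : Set (D.obj i)) :=
      QuasiCompact.isCompact_preimage (f := t.app i) _ V.2 hV.isCompact
    have heq : c.π.app i ⁻¹ᵁ W = c.π.app i ⁻¹ᵁ ((t.app i) ⁻¹ᵁ V) := by
      rw [hWU, ← Scheme.Hom.comp_preimage, hπ i]
    obtain ⟨j, fji, hj⟩ := exists_map_preimage_eq_map_preimage D c hc hW.isCompact hcpt heq
    refine ⟨j, fun k ψ => ?_⟩
    have e : (t.app k) ⁻¹ᵁ V = D.map ψ ⁻¹ᵁ (D.map fji ⁻¹ᵁ W) := by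
      rw [hj, ← Scheme.Hom.comp_preimage, ← Scheme.Hom.comp_preimage, Category.assoc, hnat, hnat]
    rw [e]
    exact (hW.preimage (D.map fji)).preimage (D.map ψ)
  obtain ⟨s, hs, htop⟩ := isCompact_iff_finite_and_eq_biUnion_affineOpens.mp
    (show IsCompact ((⊤ : S.Opens) : Set S) from isCompact_univ)
  have key' : ∀ V : S.affineOpens, ∃ j : I, ∀ (k : I) (_ : k ⟶ j),
      IsAffineOpen ((t.app k) ⁻¹ᵁ V.1) := fun V => key V.1 V.2
  choose j hj using key'
  obtain ⟨i₁, hi₁⟩ := IsCofiltered.inf_objs_exists (hs.toFinset.image j)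
  refine ⟨i₁, fun i φ => ?_⟩
  refine (HasAffineProperty.iff_of_iSup_eq_top (P := @IsAffineHom)
    (fun V : s => V.1) ?_).mpr (fun V => ?_)
  · rw [eq_top_iff]
    intro x _
    have hx : x ∈ (⊤ : S.Opens) := trivial
    rw [htop] at hx
    simp only [TopologicalSpace.Opens.mem_iSup] at hx
    obtain ⟨V, hV, hxV⟩ := hx
    exact TopologicalSpace.Opens.mem_iSup.mpr ⟨⟨V, hV⟩, hxV⟩
  · obtain ⟨m⟩ := hi₁ (Finset.mem_image_of_mem j (hs.mem_toFinset.mpr V.2))
    exact hj V.1 i (φ ≫ m)

end Groth.Agent.S9200
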