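import Groth.Statements.S0594
import Groth.Agent.S9200
import Groth.Agent.Lib.LimStructureMap

set_option autoImplicit false
universe u
open CategoryTheory AlgebraicGeometry
open Lim

namespace Groth.Agent.S0594

/-- Over a quasi-compact quasi-separated base `S`, let `X` be the limit of a cofiltered system of
quasi-compact quasi-separated `S`-schemes, locally of finite type over `S`, whose transition
morphisms are closed immersions. If `X → S` is a closed immersion then so is `Xᵢ → S` for some index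
`i`. -/
theorem result {I : Type u} [SmallCategory I] [IsCofiltered I]
    (S : Scheme.{u}) [CompactSpace S] [QuasiSeparatedSpace S]
    (D : I ⥤ Scheme.{u}) (t : D ⟶ (Functor.const I).obj S) (c : Limits.Cone D)
    (hc : Limits.IsLimit c) [∀ (i j : I) (f : i ⟶ j), IsClosedImmersion (D.map f)]
    [∀ i, CompactSpace (D.obj i)] [∀ i, QuasiSeparatedSpace (D.obj i)]
    [∀ i, LocallyOfFiniteType (t.app i)] (i₀ : I) [IsClosedImmersion (c.π.app i₀ ≫ t.app i₀)] :
    ∃ i : I, IsClosedImmersion (t.app i) := by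
  classical
  haveI : ∀ {i j : I} (f : i ⟶ j), IsClosedImmersion (D.map f) := fun f => inferInstance
  have hnat : ∀ {i j : I} (f : i ⟶ j), D.map f ≫ t.app j = t.app i := fun f => by
    have := t.naturality f
    simpa using this
  let τ : ∀ i, D.obj i ⟶ S := fun i => t.app i
  have hτ : ∀ {i j : I} (f : i ⟶ j), D.map f ≫ τ j = τ i := fun f => hnat f
  have hπ : ∀ i, c.π.app i ≫ τ i = c.π.app i₀ ≫ τ i₀ := fun i => by
    have e1 : c.π.app i ≫ τ i = c.π.app (IsCofiltered.min i i₀) ≫ τ _ := by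
      rw [← c.w (IsCofiltered.minToLeft i i₀), Category.assoc, hτ]
    have e2 : c.π.app i₀ ≫ τ i₀ = c.π.app (IsCofiltered.min i i₀) ≫ τ _ := by
      rw [← c.w (IsCofiltered.minToRight i i₀), Category.assoc, hτ]
    rw [e1, e2]
  haveI hcl : ∀ i, IsClosedImmersion (c.π.app i ≫ τ i) := fun i => by
    rw [hπ i]
    exact (inferInstance : IsClosedImmersion (c.π.app i₀ ≫ t.app i₀))
  haveI : IsAffineHom (c.π.app i₀ ≫ t.app i₀) := inferInstance
  obtain ⟨i₁, hi₁⟩ := Groth.Agent.S9200.result S D t c hc i₀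
  haveI hlft : ∀ i, LocallyOfFiniteType (τ i) := fun i =>
    (inferInstance : LocallyOfFiniteType (t.app i))
  have haff : ∀ (k : I) (_ : k ⟶ i₁) (V : S.Opens), IsAffineOpen V → IsAffineOpen (τ k ⁻¹ᵁ V) :=
    fun k φ V hV => by
      haveI : IsAffineHom (τ k) := hi₁ k φ
      exact hV.preimage (τ k)
  have key : ∀ V : S.affineOpens, ∃ (j : I) (_ : j ⟶ i₁), ∀ (k : I) (_ : k ⟶ j),
      Function.Surjective ((τ k).app V.1) := fun V =>
    Groth.Agent.Lib.LimStructureMap.exists_surjective_app_stage D c hc τ hτ i₁ V.1 V.2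
      (haff i₁ (𝟙 _) V.1 V.2)
  obtain ⟨s, hs, htop⟩ := isCompact_iff_finite_and_eq_biUnion_affineOpens.mp
    (show IsCompact ((⊤ : S.Opens) : Set S) from isCompact_univ)
  choose j fj hj using key
  obtain ⟨i₂, hi₂⟩ := IsCofiltered.inf_objs_exists (insert i₁ (hs.toFinset.image j))
  obtain ⟨φ₁⟩ := hi₂ (Finset.mem_insert_self _ _)
  refine ⟨i₂, ?_⟩
  change IsClosedImmersion (τ i₂)
  refine Groth.Agent.Lib.LimStructureMap.isClosedImmersion_of_cover (τ i₂) (fun V : s => V.1.1) ?_
    (fun V => V.1.2) (fun V => haff i₂ φ₁ _ V.1.2) (fun V => ?_)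
  · rw [eq_top_iff]
    intro x _
    have hx : x ∈ (⊤ : S.Opens) := trivial
    rw [htop] at hx
    simp only [TopologicalSpace.Opens.mem_iSup] at hx
    obtain ⟨V, hV, hxV⟩ := hx
    exact TopologicalSpace.Opens.mem_iSup.mpr ⟨⟨V, hV⟩, hxV⟩
  · obtain ⟨m⟩ := hi₂ (Finset.mem_insert_of_mem
      (Finset.mem_image_of_mem j (hs.mem_toFinset.mpr V.2)))
    exact hj V.1 i₂ m

end Groth.Agent.S0594
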