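import Groth.Statements.S12711
-- import your own Groth.Agent.* helpers here

set_option autoImplicit false
universe u v
open CategoryTheory
open ArtFun ArtFun.Art

namespace Groth.Agent.S12711

/-- If B together with p₁ : B → A₁ and p₂ : B → A₂ is the fibre product A₁ ×_A A₂ in the category of
Artinian local Λ-algebras with residue field k, and f₂ : A₂ → A is a small extension, then the
projection p₁ : B → A₁ is a small extension. -/
theorem result {Λ : Type u} {k : Type u} [CommRing Λ] [Field k] [Algebra Λ k]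
    [IsNoetherianRing Λ] [Module.Finite Λ k]
    {B A A₁ A₂ : ArtFun.Art Λ k} {p₁ : B ⟶ A₁} {p₂ : B ⟶ A₂} {f₁ : A₁ ⟶ A} {f₂ : A₂ ⟶ A}
    (h : ArtFun.Art.IsFibreProd p₁ p₂ f₁ f₂) (hf₂ : ArtFun.Art.IsSmallExt f₂) :
    ArtFun.Art.IsSmallExt p₁ := by
  obtain ⟨hsurj, hne, ⟨t, ht⟩, hkill⟩ := hf₂
  have ht_mem : t ∈ RingHom.ker f₂.toAlgHom := by
    rw [ht]; exact Submodule.mem_span_singleton_self t
  have hkill' : ∀ m ∈ IsLocalRing.maximalIdeal A₂, ∀ x ∈ RingHom.ker f₂.toAlgHom, m * x = 0 := by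
    intro m hm x hx
    have : m * x ∈ IsLocalRing.maximalIdeal A₂ * RingHom.ker f₂.toAlgHom := Ideal.mul_mem_mul hm hx
    rw [hkill] at this
    exact this
  -- the element of `B` over `(0, t)`
  obtain ⟨bt, hbt1, hbt2⟩ := h.surj 0 t (by
    rw [map_zero]; exact ((RingHom.mem_ker).1 ht_mem).symm)
  have hker_p₂ : ∀ b : B, b ∈ RingHom.ker p₁.toAlgHom → p₂ b ∈ RingHom.ker f₂.toAlgHom := by
    intro b hb
    rw [RingHom.mem_ker]
    have := h.w_apply b
    rw [show p₁ b = 0 from hb, map_zero] at this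
    exact this.symm
  refine ⟨?_, ?_, ?_, ?_⟩
  · intro a₁
    obtain ⟨a₂, ha₂⟩ := hsurj (f₁ a₁)
    obtain ⟨b, hb, -⟩ := h.surj a₁ a₂ ha₂.symm
    exact ⟨b, hb⟩
  · intro hbot
    have hbt_mem : bt ∈ RingHom.ker p₁.toAlgHom := hbt1
    rw [hbot, Ideal.mem_bot] at hbt_mem
    have ht0 : t = 0 := by rw [← hbt2, hbt_mem, map_zero]
    apply hne
    rw [ht, ht0]
    simp
  · refine ⟨⟨bt, ?_⟩⟩
    apply le_antisymm
    · intro b hb
      have hb2 := hker_p₂ b hb
      rw [ht, Submodule.mem_span_singleton] at hb2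
      obtain ⟨c, hc⟩ := hb2
      obtain ⟨c', hc'⟩ := B.res_surjective (A₂.res c)
      have hdiff : p₂ c' - c ∈ IsLocalRing.maximalIdeal A₂ := by
        rw [ArtFun.Art.mem_maximalIdeal_iff, map_sub, ArtFun.Art.res_app, hc', sub_self]
      have hmul : (p₂ c' - c) * t = 0 := hkill' _ hdiff t ht_mem
      have heq : b = c' * bt := by
        apply h.inj
        · rw [show p₁ b = 0 from hb, map_mul, hbt1, mul_zero]
        · rw [map_mul, hbt2, ← hc, smul_eq_mul]
          rw [sub_mul, sub_eq_zero] at hmul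
          exact hmul.symm
      rw [heq]
      exact Submodule.smul_mem _ c' (Submodule.mem_span_singleton_self bt)
    · rw [Submodule.span_singleton_le_iff_mem]
      exact hbt1
  · rw [eq_bot_iff, Ideal.mul_le]
    intro m hm b hb
    rw [Ideal.mem_bot]
    apply h.inj
    · rw [map_mul, show p₁ b = 0 from hb, mul_zero, map_zero]
    · rw [map_mul, map_zero]
      refine hkill' _ ?_ _ (hker_p₂ b hb)
      rw [ArtFun.Art.mem_maximalIdeal_iff, ArtFun.Art.res_app, ← ArtFun.Art.mem_maximalIdeal_iff]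
      exact hm

end Groth.Agent.S12711
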