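import Groth.Statements.S1309
import Groth.Agent.Lib.ThickeningBC
import Mathlib.RingTheory.FiniteType
import Mathlib.RingTheory.RingHom.FiniteType

set_option autoImplicit false
universe u
open FlatMor

namespace Groth.Agent.S1309

open Groth.Agent.Lib.ThickeningBC

lemma finiteType_of_surjective_of_nilpotent {R S T : Type*} [CommRing R] [CommRing S] [CommRing T]
    [Algebra R S] [Algebra R T] (ψ : S →ₐ[R] T) (hψ : Function.Surjective ψ) (I : Ideal R)
    (hI : IsNilpotent I) (hker : RingHom.ker ψ ≤ I.map (algebraMap R S))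
    [Algebra.FiniteType R T] : Algebra.FiniteType R S := by
  classical
  obtain ⟨t, ht⟩ := (Algebra.FiniteType.out : (⊤ : Subalgebra R T).FG)
  let t' : Finset S := t.image (Function.surjInv hψ)
  have ht' : ψ '' (t' : Set S) = (t : Set T) := by
    ext x
    simp only [t', Finset.coe_image, Set.mem_image, Finset.mem_coe]
    constructor
    · rintro ⟨_, ⟨y, hy, rfl⟩, rfl⟩
      rwa [Function.surjInv_eq hψ]
    · intro hx
      exact ⟨_, ⟨x, hx, rfl⟩, Function.surjInv_eq hψ x⟩
  let C : Subalgebra R S := Algebra.adjoin R (t' : Set S)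
  have hC : C.map ψ = ⊤ := by
    rw [AlgHom.map_adjoin, ht', ht]
  suffices h : Subalgebra.toSubmodule C = ⊤ by
    refine ⟨⟨t', ?_⟩⟩
    apply Subalgebra.toSubmodule_injective
    rw [h]; rfl
  apply eq_top_of_top_le_sup_smul I hI
  intro b _
  have hb : ψ b ∈ C.map ψ := by rw [hC]; trivial
  obtain ⟨c, hc, hcb⟩ := hb
  have hk : b - c ∈ RingHom.ker ψ := by
    rw [RingHom.mem_ker, map_sub]
    have : ψ c = ψ b := hcb
    simp [this]
  have hk' : b - c ∈ I • (⊤ : Submodule R S) := by
    rw [Ideal.smul_top_eq_map]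
    exact hker hk
  have : b = c + (b - c) := by ring
  rw [this]
  exact Submodule.add_mem_sup hc hk'

open CategoryTheory Limits in
lemma finiteType_of_isPushout {A' A B' B : CommRingCat.{u}} {α : A' ⟶ B'} {φ : A' ⟶ A}
    {ψ : B' ⟶ B} {β : A ⟶ B} (h : IsPushout α φ ψ β) (hφ : Function.Surjective φ.hom)
    (hψ : Function.Surjective ψ.hom) (hI : IsNilpotent (RingHom.ker φ.hom))
    (hβ : β.hom.FiniteType) : α.hom.FiniteType := by
  have hcomp : (ψ.hom.comp α.hom).FiniteType := by
    have : ψ.hom.comp α.hom = β.hom.comp φ.hom := by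
      rw [← CommRingCat.hom_comp, ← CommRingCat.hom_comp, h.w]
    rw [this]
    exact hβ.comp (RingHom.FiniteType.of_surjective _ hφ)
  letI := α.hom.toAlgebra
  letI := (ψ.hom.comp α.hom).toAlgebra
  let ψ' : B' →ₐ[A'] B := ⟨ψ.hom, fun _ => rfl⟩
  have : Algebra.FiniteType A' B := hcomp
  exact finiteType_of_surjective_of_nilpotent ψ' hψ _ hI (ker_le_map_of_isPushout h hφ)

open AlgebraicGeometry CategoryTheory Limits in
/-- Let S ⟶ S' be a finite order thickening and let X be the base change of a scheme X' over S' to S (so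
X ⟶ X' is again a thickening). Then X ⟶ S is locally of finite type if and only if X' ⟶ S' is. -/
theorem result {X X' S S' : Scheme.{u}} (iX : X ⟶ X') (iS : S ⟶ S') (f : X ⟶ S) (f' : X' ⟶ S')
    (hS : MoreMor.IsFiniteOrderThickening iS) (hc : IsPullback iX f f' iS) :
    LocallyOfFiniteType f ↔ LocallyOfFiniteType f' := by
  have := hS.1.1
  constructor
  · intro hf
    exact of_isPullback_of_isNilpotent (P := @LocallyOfFiniteType)
      (fun h h1 h2 h3 h4 => finiteType_of_isPushout h h1 h2 h3 h4) hc hS.2 hf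
  · intro hf'
    exact MorphismProperty.of_isPullback hc hf'

end Groth.Agent.S1309
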