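import Groth.Statements.S1313
import Groth.Agent.Lib.ThickeningSOS

set_option autoImplicit false
universe u
open FlatMor

namespace Groth.Agent.S1313

open AlgebraicGeometry CategoryTheory Limits in
/-- Let Y ⟶ Y' be a thickening, let X be the base change to Y of a scheme X' over Y', and assume both X
⟶ Y and X' ⟶ Y' are locally of finite type. Then X ⟶ Y is a closed immersion if and only if X' ⟶ Y'
is. -/
theorem result {X X' Y Y' : Scheme.{u}} (iX : X ⟶ X') (iY : Y ⟶ Y') (f : X ⟶ Y) (f' : X' ⟶ Y')
    (hY : MoreMor.IsThickening iY) (hc : IsPullback iX f f' iY) [LocallyOfFiniteType f] [LocallyOfFiniteType f'] :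
    IsClosedImmersion f ↔ IsClosedImmersion f' := by
  constructor
  · intro hf
    have hsos : SurjectiveOnStalks f' :=
      Groth.Agent.Lib.ThickeningSOS.surjectiveOnStalks_of_thickening iX iY f f' hY hc inferInstance
    have hemb : Topology.IsEmbedding f' :=
      Groth.Agent.Lib.ThickeningSOS.isEmbedding_of_thickening iX iY f f' hY hc
        f.isClosedEmbedding.isEmbedding
    have hiX := Groth.Agent.Lib.ThickeningLft.isThickening_left hY hc
    have h2 : Surjective iX := hiX.2
    have h3 : IsClosedImmersion iY := hY.1
    have hrange : Set.range f' = Set.range (f ≫ iY) := by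
      rw [← hc.w]
      change _ = Set.range ((f' : X' → Y') ∘ iX)
      rw [Set.range_comp, iX.surjective.range_eq, Set.image_univ]
    have hclosed : IsClosed (Set.range f') := by
      rw [hrange]
      exact (f ≫ iY).isClosedEmbedding.isClosed_range
    exact ⟨⟨hemb, hclosed⟩⟩
  · intro hf'
    exact MorphismProperty.of_isPullback hc hf'

end Groth.Agent.S1313
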