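import Groth.Statements.S5777
import Groth.Agent.Lib.FlatCrit

set_option autoImplicit false
universe u
open EGA41

namespace Groth.Agent.S5777

open TensorProduct Function Groth.Agent.Lib.FlatCrit

/-- Tor step: if `Tor₁(A/I, M) = 0` and `a` is regular on `M/IM` then `Tor₁(A/(I + (a)), M) = 0`. -/
theorem tor1Zero_sup_span {A : Type u} [CommRing A] {M : Type u} [AddCommGroup M] [Module A M]
    (I : Ideal A) (a : A)
    (h : Tor1Zero A (A ⧸ I) M) (ha : IsSMulRegular (M ⧸ (I • ⊤ : Submodule A M)) a) :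
    Tor1Zero A (A ⧸ (I ⊔ Ideal.span {a})) M := by
  unfold Tor1Zero at h ⊢
  let f12 : (A ⧸ I) →ₗ[A] (A ⧸ I) := LinearMap.lsmul A (A ⧸ I) a
  let f23 : (A ⧸ I) →ₗ[A] (A ⧸ (I ⊔ Ideal.span {a})) :=
    Submodule.mapQ I (I ⊔ Ideal.span {a}) LinearMap.id (by
      intro x hx
      exact Submodule.mem_sup_left hx)
  have hsurj : Surjective f23 := by
    intro y
    obtain ⟨y, rfl⟩ := Submodule.mkQ_surjective _ y
    exact ⟨Submodule.Quotient.mk y, rfl⟩
  have hex : Exact f12 f23 := by
    intro y
    obtain ⟨y, rfl⟩ := Submodule.mkQ_surjective _ y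
    constructor
    · intro hy
      have hy' : y ∈ I ⊔ Ideal.span {a} := by
        have : (Submodule.Quotient.mk y : A ⧸ (I ⊔ Ideal.span {a})) = 0 := hy
        rwa [Submodule.Quotient.mk_eq_zero] at this
      obtain ⟨i, hi, s, hs, rfl⟩ := Submodule.mem_sup.mp hy'
      obtain ⟨c, rfl⟩ := Ideal.mem_span_singleton'.mp hs
      refine ⟨Submodule.Quotient.mk c, ?_⟩
      show a • (Submodule.Quotient.mk c : A ⧸ I) = I.mkQ (i + c * a)
      rw [map_add, Submodule.mkQ_apply, Submodule.mkQ_apply,
        (Submodule.Quotient.mk_eq_zero I).mpr hi, zero_add, ← Submodule.Quotient.mk_smul,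
        smul_eq_mul, mul_comm]
    · rintro ⟨z, hz⟩
      rw [← hz]
      obtain ⟨z, rfl⟩ := Submodule.mkQ_surjective _ z
      show (Submodule.Quotient.mk (a • z) : A ⧸ (I ⊔ Ideal.span {a})) = 0
      rw [Submodule.Quotient.mk_eq_zero]
      exact Submodule.mem_sup_right (Ideal.mem_span_singleton'.mpr ⟨z, by rw [smul_eq_mul, mul_comm]⟩)
  have hinj1 : Injective (f12.rTensor M) := by
    have h1 : f12.rTensor M = LinearMap.lsmul A _ a := by
      ext x m
      simp [f12, smul_tmul']
    rw [h1]
    have h2 : IsSMulRegular ((A ⧸ I) ⊗[A] M) a :=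
      ((TensorProduct.quotTensorEquivQuotSMul M I).isSMulRegular_congr a).mpr ha
    exact h2
  have key := @lTensor_injective_of_exact_of_exact_of_rTensor_injective A _ (A ⧸ I) (A ⧸ I)
    (A ⧸ (I ⊔ Ideal.span {a})) (LinearMap.ker (pres A M)) (M →₀ A) M _ _ _ _ _ _ _ _ _ _ _ _
    f12 f23 (LinearMap.ker (pres A M)).subtype (pres A M) hex hsurj (pres_exact A M)
    (pres_surjective A M) hinj1
  exact key h

theorem tor1Zero_ofList {A : Type u} [CommRing A] {M : Type u} [AddCommGroup M] [Module A M]
    (fs : List A) (h : RingTheory.Sequence.IsWeaklyRegular M fs) :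
    ∀ i ≤ fs.length, Tor1Zero A (A ⧸ Ideal.ofList (fs.take i)) M := by
  intro i
  induction i with
  | zero =>
    intro _
    rw [List.take_zero, Ideal.ofList_nil]
    have : Module.Flat A (A ⧸ (⊥ : Ideal A)) :=
      Module.Flat.of_linearEquiv (Submodule.quotEquivOfEqBot _ rfl)
    exact tor1Zero_of_flat_left
  | succ i ih =>
    intro hi
    have h1 := ih (by omega)
    have h2 := h.regular_mod_prev i (by omega)
    have h3 : fs.take (i+1) = fs.take i ++ [fs[i]] := by
      rw [List.take_succ_eq_append_getElem]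
    rw [h3, Ideal.ofList_append, Ideal.ofList_singleton]
    exact tor1Zero_sup_span _ _ h1 h2

theorem tor1Zero_ofList' {A : Type u} [CommRing A] {M : Type u} [AddCommGroup M] [Module A M]
    (fs : List A) (h : RingTheory.Sequence.IsWeaklyRegular M fs) :
    Tor1Zero A (A ⧸ Ideal.ofList fs) M := by
  have := tor1Zero_ofList fs h fs.length le_rfl
  rwa [List.take_length] at this

/-- transfer of flatness between `(A/J) ⊗ M` and `M/JM` -/
noncomputable def quotEquiv {A : Type u} [CommRing A] (M : Type u) [AddCommGroup M] [Module A M]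
    (J : Ideal A) : ((A ⧸ J) ⊗[A] M) ≃ₗ[A ⧸ J] (M ⧸ (J • ⊤ : Submodule A M)) :=
  (TensorProduct.quotTensorEquivQuotSMul M J).extendScalarsOfSurjective Ideal.Quotient.mk_surjective


/-- Let φ : A → B be a local homomorphism of Noetherian local rings, M a finitely generated B-module and
(f_i)_{1 ≤ i ≤ n} an A-regular sequence of elements of the maximal ideal of A, generating the ideal
J. Then M is flat over A if and only if M/JM is flat over A/J and (f_i) is an M-regular sequence. -/
theorem result (A B : Type u) [CommRing A] [CommRing B]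
    [IsLocalRing A] [IsLocalRing B] [IsNoetherianRing A] [IsNoetherianRing B] [Algebra A B]
    [IsLocalHom (algebraMap A B)] (M : Type u) [AddCommGroup M] [Module B M] [Module A M]
    [IsScalarTower A B M] [Module.Finite B M] (fs : List A) (hfs : ∀ f ∈ fs, f ∈ IsLocalRing.maximalIdeal A)
    (hA : RingTheory.Sequence.IsWeaklyRegular A fs) :
    Module.Flat A M ↔
      Module.Flat (A ⧸ Ideal.ofList fs) (M ⧸ (Ideal.ofList fs • (⊤ : Submodule A M))) ∧
        RingTheory.Sequence.IsWeaklyRegular M fs := by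
  constructor
  · intro hM
    refine ⟨Module.Flat.of_linearEquiv (quotEquiv M (Ideal.ofList fs)).symm, ?_⟩
    have h1 : RingTheory.Sequence.IsWeaklyRegular (M ⊗[A] A) fs := hA.isWeaklyRegular_lTensor (M₂ := M)
    exact ((TensorProduct.rid A M).isWeaklyRegular_congr fs).mp h1
  · rintro ⟨h1, h2⟩
    have hJ : Ideal.ofList fs ≤ IsLocalRing.maximalIdeal A := by
      rw [Ideal.ofList, Ideal.span_le]
      intro x hx
      exact hfs x hx
    have hJB : (Ideal.ofList fs).map (algebraMap A B) ≤ Ideal.jacobson ⊥ := by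
      rw [IsLocalRing.jacobson_eq_maximalIdeal ⊥ bot_ne_top]
      exact (Ideal.map_mono hJ).trans (IsLocalRing.map_maximalIdeal_le (algebraMap A B))
    have : Module.Flat (A ⧸ Ideal.ofList fs) ((A ⧸ Ideal.ofList fs) ⊗[A] M) :=
      Module.Flat.of_linearEquiv (quotEquiv M (Ideal.ofList fs))
    refine flat_of_idealSeparated (Ideal.ofList fs) ?_ ?_
    · intro 𝔞 x hx
      exact eq_zero_of_forall_mem_pow_smul_top (S := B) (Ideal.ofList fs) hJB x hx
    · exact (tor1Zero_quotient_iff _).mp (tor1Zero_ofList' fs h2)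

end Groth.Agent.S5777
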