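import Groth.Statements.S2082
import Groth.Agent.S5777
import Groth.Agent.Lib.RegularLocal
import Groth.Agent.Lib.H8CM5

set_option autoImplicit false
universe u
open CAlg

namespace Groth.Agent.S2082

open IsLocalRing

/-- Take a local homomorphism `R → S` between Noetherian local rings, where `R` is regular, `S` is
Cohen–Macaulay, and `dim S = dim R + dim (S/𝔪_R S)`. Then `S` is flat over `R`. -/
theorem result {R S : Type u} [CommRing R] [CommRing S] [IsRegularLocalRing R]
    [LocCoh.IsCohenMacaulayLocalRing S] [Algebra R S] [IsLocalHom (algebraMap R S)]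
    (hdim : ringKrullDim S = ringKrullDim R +
      ringKrullDim (S ⧸ (IsLocalRing.maximalIdeal R).map (algebraMap R S))) :
    Module.Flat R S := by
  obtain ⟨d, hd⟩ : ∃ d : ℕ, ringKrullDim R = d :=
    ⟨_, IsRegularLocalRing.spanFinrank_maximalIdeal.symm⟩
  have : IsRegularLocalRing (R ⧸ maximalIdeal R) := by
    change IsRegularLocalRing (ResidueField R)
    infer_instance
  obtain ⟨x, c, hc, hx, -⟩ := Groth.Agent.Lib.RegularLocal.exists_generators R d hd
    (maximalIdeal R)
  have hreg := Groth.Agent.Lib.RegularLocal.isRegular_ofFn R d hd x hx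
  have hmem : ∀ f ∈ List.ofFn x, f ∈ maximalIdeal R := by
    intro f hf
    rw [List.mem_ofFn] at hf
    obtain ⟨i, rfl⟩ := hf
    rw [← hx]
    exact Ideal.subset_span ⟨i, rfl⟩
  have hofList : Ideal.ofList (List.ofFn x) = maximalIdeal R := by
    rw [← hx, Ideal.ofList]
    congr 1
    ext a
    simp [List.mem_ofFn]
  rw [Groth.Agent.S5777.result R S S (List.ofFn x) hmem hreg.toIsWeaklyRegular]
  constructor
  · have hmax : (Ideal.ofList (List.ofFn x)).IsMaximal := hofList ▸ inferInstance
    let _ : Field (R ⧸ Ideal.ofList (List.ofFn x)) := Ideal.Quotient.field _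
    infer_instance
  · rw [← RingTheory.Sequence.isWeaklyRegular_map_algebraMap_iff S S (List.ofFn x)]
    rw [Groth.Agent.Lib.H8CM.isWeaklyRegular_self_iff]
    · rw [List.length_map, List.length_ofFn, ← Ideal.map_ofList, hofList, hdim, hd, add_comm]
    · intro r hr
      rw [List.mem_map] at hr
      obtain ⟨f, hf, rfl⟩ := hr
      exact map_nonunit (algebraMap R S) f (hmem f hf)

end Groth.Agent.S2082
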