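-- Statement S7414.
import Groth.Statements.S7414
import Groth.Agent.S9259
import Groth.Agent.Lib.ComplMap
import Groth.Agent.Lib.StalkSubring
import Mathlib

set_option autoImplicit false
universe u
open CategoryTheory AlgebraicGeometry
open Mor

namespace Groth.Agent.S7414

open Groth.Agent.Lib.ComplMap

theorem complMap_id {S : Type u} [CommRing S] (I : Ideal S) (h : I.map (RingHom.id S) ≤ I)
    (x : AdicCompletion I S) : FSch.complMap I I (RingHom.id S) h x = x := by
  refine AdicCompletion.ext_evalₐ fun n => ?_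
  rw [evalₐ_complMap]
  obtain ⟨y, hy⟩ := Ideal.Quotient.mk_surjective (AdicCompletion.evalₐ I n x)
  rw [← hy]
  simp

theorem exists_complEquiv {S T : Type u} [CommRing S] [CommRing T] (I : Ideal S) (K : Ideal T)
    (e : S ≃+* T) (h : I.map (e : S →+* T) = K) :
    ∃ e' : AdicCompletion I S ≃+* AdicCompletion K T,
      ∀ s, e' (algebraMap S (AdicCompletion I S) s) = algebraMap T (AdicCompletion K T) (e s) := by
  have h' : K.map (e.symm : T →+* S) ≤ I := by
    rw [← h, Ideal.map_map]
    have : (e.symm : T →+* S).comp (e : S →+* T) = RingHom.id S := by ext; simp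
    rw [this, Ideal.map_id]
  have h1 : ∀ x, FSch.complMap K I (e.symm : T →+* S) h' (FSch.complMap I K (e : S →+* T) h.le x) = x := by
    intro x
    have hc : (e.symm : T →+* S).comp (e : S →+* T) = RingHom.id S := by ext; simp
    have h'' : I.map ((e.symm : T →+* S).comp (e : S →+* T)) ≤ I := by rw [hc, Ideal.map_id]
    rw [complMap_comp I K I _ _ h.le h' h'', Groth.Agent.Lib.StalkSubring.complMap_congr I I hc h''
      (by rw [Ideal.map_id]), complMap_id]
  have h2 : ∀ x, FSch.complMap I K (e : S →+* T) h.le (FSch.complMap K I (e.symm : T →+* S) h' x) = x := by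
    intro x
    have hc : (e : S →+* T).comp (e.symm : T →+* S) = RingHom.id T := by ext; simp
    have h'' : K.map ((e : S →+* T).comp (e.symm : T →+* S)) ≤ K := by rw [hc, Ideal.map_id]
    rw [complMap_comp K I K _ _ h' h.le h'', Groth.Agent.Lib.StalkSubring.complMap_congr K K hc h''
      (by rw [Ideal.map_id]), complMap_id]
  refine ⟨RingEquiv.ofRingHom (FSch.complMap I K (e : S →+* T) h.le)
    (FSch.complMap K I (e.symm : T →+* S) h') (RingHom.ext h2) (RingHom.ext h1), fun s => ?_⟩
  exact complMap_algebraMap I K _ h.le s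

theorem isRegularHom_of_ringEquiv {A A' B B' : Type u} [CommRing A] [CommRing A'] [CommRing B]
    [CommRing B'] [Algebra A B] [Algebra A' B'] (e : A ≃+* A') (e' : B ≃+* B')
    (hc : ∀ a, e' (algebraMap A B a) = algebraMap A' B' (e a)) (h : CAlg.IsRegularHom A B) :
    CAlg.IsRegularHom A' B' := by
  letI : Algebra B B' := (e' : B →+* B').toAlgebra
  letI : Algebra A B' := ((algebraMap A' B').comp (e : A →+* A')).toAlgebra
  haveI : IsScalarTower A B B' := .of_algebraMap_eq (fun a => by
    simp only [RingHom.algebraMap_toAlgebra, RingHom.coe_comp, RingHom.coe_coe, Function.comp_apply]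
    exact (hc a).symm)
  haveI : IsLocalization (⊥ : Submonoid B) B' := by
    refine IsLocalization.of_le_isUnit_of_bijective ?_ e'.bijective
    rintro _ ⟨x, hx, rfl⟩
    rw [Submonoid.mem_bot.mp hx, map_one]
    exact isUnit_one
  have h1 : CAlg.IsRegularHom A B' :=
    Groth.Agent.S9259.regular_target_localization A B B' ⊥ h
  letI : Algebra A A' := (e : A →+* A').toAlgebra
  haveI : IsScalarTower A A' B' := .of_algebraMap_eq (fun a => rfl)
  haveI : IsLocalization (⊥ : Submonoid A) A' := by
    refine IsLocalization.of_le_isUnit_of_bijective ?_ e.bijective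
    rintro _ ⟨x, hx, rfl⟩
    rw [Submonoid.mem_bot.mp hx, map_one]
    exact isUnit_one
  exact Groth.Agent.S9259.regular_source_localization A A' B' ⊥ h1

/-- transport of the G-ring condition at a local ring along a ring iso -/
theorem gcond_of_ringEquiv {A A' : Type u} [CommRing A] [CommRing A'] [IsLocalRing A]
    [IsLocalRing A'] (e : A ≃+* A')
    (h : CAlg.IsRegularHom A (AdicCompletion (IsLocalRing.maximalIdeal A) A)) :
    CAlg.IsRegularHom A' (AdicCompletion (IsLocalRing.maximalIdeal A') A') := by
  have hm : (IsLocalRing.maximalIdeal A).map (e : A →+* A') = IsLocalRing.maximalIdeal A' := by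
    have : ((IsLocalRing.maximalIdeal A).map (e : A →+* A')).IsMaximal :=
      Ideal.IsMaximal.map_bijective (e : A →+* A') e.bijective inferInstance
    exact IsLocalRing.eq_maximalIdeal this
  obtain ⟨e', he'⟩ := exists_complEquiv _ _ e hm
  exact isRegularHom_of_ringEquiv e e' he' h

theorem main (X : Scheme.{u}) :
    (∀ x : X, ∃ U : X.Opens, x ∈ U ∧ IsAffineOpen U ∧ CAlg.IsGRing Γ(X, U)) ↔
      ∀ U : X.Opens, IsAffineOpen U → CAlg.IsGRing Γ(X, U) := by
  constructor
  · intro h U hU
    choose V hxV hV hG using h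
    haveI : IsLocallyNoetherian X := by
      refine isLocallyNoetherian_of_affine_cover (S := fun x : X => ⟨V x, hV x⟩) ?_
        (fun x => (hG x).1)
      rw [eq_top_iff]
      intro x _
      exact TopologicalSpace.Opens.mem_iSup.mpr ⟨x, hxV x⟩
    haveI hN : IsNoetherianRing Γ(X, U) := IsLocallyNoetherian.component_noetherian ⟨U, hU⟩
    refine ⟨hN, fun p hp => ?_⟩
    -- the point
    let y : PrimeSpectrum Γ(X, U) := ⟨p, hp⟩
    let x : X := hU.fromSpec y
    have hxU : x ∈ U := by
      have : x ∈ Set.range hU.fromSpec := Set.mem_range_self y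
      rwa [hU.range_fromSpec] at this
    have hlocU := hU.isLocalization_stalk' y hxU
    have hlocV := (hV x).isLocalization_stalk ⟨x, hxV x⟩
    let p' : Ideal Γ(X, V x) := ((hV x).primeIdealOf ⟨x, hxV x⟩).asIdeal
    have hreg := (hG x).2 p'
    let e1 : Localization.AtPrime p' ≃+* X.presheaf.stalk x :=
      letI := X.presheaf.algebra_section_stalk (U := V x) ⟨x, hxV x⟩
      (IsLocalization.algEquiv p'.primeCompl (Localization.AtPrime p') (X.presheaf.stalk x)).toRingEquiv
    let e2 : Localization.AtPrime p ≃+* X.presheaf.stalk x :=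
      letI := X.presheaf.algebra_section_stalk (U := U) ⟨x, hxU⟩
      (@IsLocalization.algEquiv _ _ p.primeCompl (Localization.AtPrime p) _ _ _ (X.presheaf.stalk x) _
        _ hlocU).toRingEquiv
    exact gcond_of_ringEquiv (e1.trans e2.symm) hreg
  · intro h x
    obtain ⟨U, hU, hxU, -⟩ := TopologicalSpace.Opens.isBasis_iff_nbhd.mp X.isBasis_affineOpens
      (U := ⊤) (x := x) trivial
    exact ⟨U, hxU, hU, h U hU⟩

/-- A scheme `X` is a G-scheme (every point has an affine open neighbourhood with G-ring coordinate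
ring) if and only if `O_X(U)` is a G-ring for every affine open `U ⊆ X`. -/
theorem result (X : Scheme.{u}) :
    (∀ x : X, ∃ U : X.Opens, x ∈ U ∧ IsAffineOpen U ∧ CAlg.IsGRing Γ(X, U)) ↔
      ∀ U : X.Opens, IsAffineOpen U → CAlg.IsGRing Γ(X, U) := by
  exact main X

end Groth.Agent.S7414
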