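import Groth.Statements.S16713
import Groth.Agent.S0341
import Groth.Agent.Lib.H14GorLCI
import Groth.Agent.Lib.H8CM
import Groth.Agent.Lib.ConormalKoszul32

set_option autoImplicit false
universe u
open CotT

namespace Groth.Agent.S16713

/-- In a Gorenstein ring every associated prime of the ring is a minimal prime. -/
theorem mem_minimalPrimes_of_isAssociatedPrime {A : Type u} [CommRing A]
    (hG : LocCoh.IsGorensteinRing A) {q : Ideal A} (hq : IsAssociatedPrime q A) :
    q ∈ minimalPrimes A := by
  have hqp : q.IsPrime := hq.isPrime
  have hGq : LocCoh.IsGorensteinLocalRing (Localization.AtPrime q) :=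
    hG.isGorensteinLocalRing_localization q
  have hCM : LocCoh.IsCohenMacaulayLocalRing (Localization.AtPrime q) :=
    Groth.Agent.S0341.result _
  have hass : IsLocalRing.maximalIdeal (Localization.AtPrime q) ∈
      associatedPrimes (Localization.AtPrime q) (Localization.AtPrime q) := by
    apply Module.associatedPrimes.mem_associatedPrimes_of_comap_mem_associatedPrimes_of_isLocalizedModule
      q.primeCompl (Algebra.linearMap A (Localization.AtPrime q))
    have hc : Ideal.comap (algebraMap A (Localization.AtPrime q))
        (IsLocalRing.maximalIdeal (Localization.AtPrime q)) = q :=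
      IsLocalization.AtPrime.under_maximalIdeal (Localization.AtPrime q) q
    rw [hc]
    exact hq
  have h1 := Groth.Agent.Lib.H8CM.ringKrullDim_quotient_eq_of_isCM
    (R := Localization.AtPrime q) (M := Localization.AtPrime q) hCM.supportDim_eq_depth hass
  rw [Module.supportDim_self_eq_ringKrullDim,
    IsLocalization.AtPrime.ringKrullDim_eq_height q (Localization.AtPrime q)] at h1
  have h2 : ringKrullDim (Localization.AtPrime q ⧸
      IsLocalRing.maximalIdeal (Localization.AtPrime q)) = 0 := by
    let _ : Field (Localization.AtPrime q ⧸ IsLocalRing.maximalIdeal (Localization.AtPrime q)) :=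
      Ideal.Quotient.field _
    exact ringKrullDim_eq_zero_of_field _
  rw [h2] at h1
  rw [← Ideal.height_eq_zero_iff]
  exact_mod_cast h1.symm

/-- The final assertion, in the case where the base is a field. Let k be a field and A a k-algebra which
is a local complete intersection over k (of finite type, presented by a polynomial algebra in
finitely many variables with Koszul-regular kernel) and generically smooth over k, in the sense that
the localization of A at each of its minimal primes is formally smooth over k. Then H^1 of the naive
cotangent complex L_{A/k} vanishes: for the presentation A = P/I by the polynomial k-algebra P on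
the elements of A, the conormal map I/I² → Ω_{P/k} ⊗_P A is injective, so that L_{A/k} is
quasi-isomorphic to Ω_{A/k}. (The published statement is for a generically smooth syntomic morphism
over an arbitrary base, where it fails when the base has embedded points: over B = k[s,t]/(s², st)
with 2 invertible in k, the algebra B[x]/(x² − t) is a relative complete intersection, free of rank
two and smooth where x is invertible, yet the class of s·x·(x² − t) is a non-zero element of the
kernel of its conormal map. This row states the case of an algebra of finite type over a field.) -/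
theorem result (k : Type u) [Field k]
    (A : Type u) [CommRing A] [Algebra k A] (hlci : LCI.IsLCI k A)
    (hgs : ∀ (p : Ideal A) [p.IsPrime], p ∈ minimalPrimes A → Algebra.FormallySmooth k (Localization.AtPrime p)) :
    Subsingleton (Algebra.H1Cotangent k A) := by
  have hG : LocCoh.IsGorensteinRing A :=
    Groth.Agent.Lib.H14GorLCI.isGorensteinRing_of_isLCI k A
      (Groth.Agent.Lib.H14GorHom.isGorensteinRing_of_field k) hlci
  have hN : IsNoetherianRing A := inferInstance
  obtain ⟨-, n, f, hf, hK⟩ := hlci
  have hfe : (MvPolynomial.aeval (R := k) fun i : Fin n => f (MvPolynomial.X i)) = f := by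
    apply MvPolynomial.algHom_ext
    intro i
    simp
  let G : Algebra.Generators k A (Fin n) :=
    Algebra.Generators.ofSurjective (fun i => f (MvPolynomial.X i)) (by rw [hfe]; exact hf)
  have hker : G.toExtension.ker = RingHom.ker f.toRingHom := by
    ext x
    change algebraMap G.Ring A x = 0 ↔ f x = 0
    rw [Algebra.Generators.algebraMap_apply]
    change (MvPolynomial.aeval (R := k) fun i : Fin n => f (MvPolynomial.X i)) x = 0 ↔ f x = 0
    rw [hfe]
  have hK' : LCI.IsKoszulRegularIdeal G.toExtension.ker := by
    rw [hker]
    exact hK
  obtain ⟨hfin, hproj⟩ :=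
    Groth.Agent.Lib.ConormalKoszul32.finite_projective_cotangent G.toExtension hK'
  obtain ⟨s, hs⟩ := Module.projective_def'.mp hproj
  have hsinj : Function.Injective s := by
    intro a b hab
    have := congrArg (Finsupp.linearCombination A id) hab
    have ha := LinearMap.congr_fun hs a
    have hb := LinearMap.congr_fun hs b
    simp only [LinearMap.coe_comp, Function.comp_apply, LinearMap.id_coe, id_eq] at ha hb
    rw [← ha, ← hb]
    exact this
  -- the injection of `H¹` into the conormal module
  let ι : Algebra.H1Cotangent k A →ₗ[A] G.toExtension.Cotangent :=
    (LinearMap.ker G.toExtension.cotangentComplex).subtype ∘ₗ G.equivH1Cotangent.symm.toLinearMap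
  have hι : Function.Injective ι :=
    Subtype.val_injective.comp G.equivH1Cotangent.symm.injective
  refine ⟨fun x y => ?_⟩
  rw [← sub_eq_zero]
  by_contra hne
  set z := x - y with hz
  have h1 : s (ι z) ≠ 0 := by
    intro h0
    exact hne (hι (hsinj (by rw [h0, map_zero, map_zero])))
  obtain ⟨m, hm⟩ : ∃ m, s (ι z) m ≠ 0 := by
    by_contra hall
    push Not at hall
    exact h1 (Finsupp.ext hall)
  obtain ⟨q, hq, hle⟩ := exists_le_isAssociatedPrime_of_isNoetherianRing (R := A) (s (ι z) m) hm
  have hqp : q.IsPrime := hq.isPrime
  have hqmin := mem_minimalPrimes_of_isAssociatedPrime hG hq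
  have hfs := hgs q hqmin
  have hsub : Subsingleton (Algebra.H1Cotangent k (Localization.AtPrime q)) :=
    Algebra.FormallySmooth.subsingleton_h1Cotangent
  have hloc : IsLocalizedModule q.primeCompl
      (Algebra.H1Cotangent.map k k A (Localization.AtPrime q)) := inferInstance
  have h0 : Algebra.H1Cotangent.map k k A (Localization.AtPrime q) z =
      Algebra.H1Cotangent.map k k A (Localization.AtPrime q) 0 := Subsingleton.elim _ _
  obtain ⟨c, hc⟩ := hloc.exists_of_eq h0
  rw [smul_zero] at hc
  apply c.2
  apply hle
  rw [Submodule.mem_colon_singleton, Submodule.mem_bot]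
  have : (c : A) • z = 0 := hc
  rw [← Finsupp.smul_apply, ← map_smul, ← map_smul, this, map_zero, map_zero]
  rfl

end Groth.Agent.S16713
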