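import Groth.Statements.S2041
import Groth.Agent.Lib.EtaleFactor
import Mathlib.RingTheory.IntegralClosure.Algebra.Ideal
-- import your own Groth.Agent.* helpers here

set_option autoImplicit false
universe u
open CAlg

namespace Groth.Agent.S2041

open Polynomial in
/-- An element of `IB`, `B` integral over `A`, is a root of a monic polynomial congruent to a power
of `X` modulo `I`; substituting `X^2 - X` gives the polynomial used below. -/
theorem exists_monic_of_sq_sub_mem {A B : Type u} [CommRing A] [CommRing B] [Algebra A B]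
    [Algebra.IsIntegral A B] (I : Ideal A) (b : B) (hb : b * b - b ∈ I.map (algebraMap A B)) :
    ∃ (F : A[X]) (d : ℕ), F.Monic ∧ aeval b F = 0 ∧
      F.map (Ideal.Quotient.mk I) = X ^ (d + 1) * (X - 1) ^ (d + 1) := by
  rcases subsingleton_or_nontrivial A with hA | hA
  · have hB : Subsingleton B := Module.subsingleton A B
    exact ⟨1, 0, monic_one, Subsingleton.elim _ _, Subsingleton.elim _ _⟩
  obtain ⟨P, hPm, hP0, hPc⟩ := Polynomial.exists_monic_aeval_eq_zero_forall_mem_of_mem_map hb
  have hPmap : P.map (Ideal.Quotient.mk I) = X ^ P.natDegree := by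
    ext i
    rw [coeff_map, coeff_X_pow]
    split_ifs with hi
    · rw [hi, hPm.coeff_natDegree, map_one]
    · exact (Ideal.Quotient.eq_zero_iff_mem).2 (hPc i hi)
  have hQm : (X ^ 2 - X : A[X]).Monic := by
    apply monic_X_pow_sub
    rw [degree_X]
    norm_num
  have hQdeg : (X ^ 2 - X : A[X]).natDegree ≠ 0 := by
    rw [natDegree_sub_eq_left_of_natDegree_lt] <;> simp
  refine ⟨(X ^ 2 - X) * P.comp (X ^ 2 - X), P.natDegree, hQm.mul (hPm.comp hQm hQdeg), ?_, ?_⟩
  · rw [map_mul, aeval_comp]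
    have : aeval b (X ^ 2 - X : A[X]) = b * b - b := by simp [pow_two]
    rw [this, hP0, mul_zero]
  · rw [Polynomial.map_mul, Polynomial.map_comp, hPmap]
    simp only [Polynomial.map_sub, Polynomial.map_pow, Polynomial.map_X, X_pow_comp]
    rw [← pow_succ', ← mul_pow]
    congr 1
    ring

open TensorProduct in
/-- Let `I ⊆ A` be an ideal, `A → B` integral and `ē` an idempotent of `B/IB`. Then there is an étale
`A`-algebra `A'` with `A/I → A'/IA'` bijective and an idempotent of `A' ⊗ B` whose class modulo `I`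
agrees with that of any lift of `ē`. -/
theorem result {A B : Type u} [CommRing A] [CommRing B] [Algebra A B]
    [Algebra.IsIntegral A B] (I : Ideal A) (e : B ⧸ I.map (algebraMap A B)) (he : IsIdempotentElem e) :
    ∃ (A' : Type u) (_ : CommRing A') (_ : Algebra A A'), Algebra.Etale A A' ∧
      Function.Bijective (algebraMap (A ⧸ I) (A' ⧸ I.map (algebraMap A A'))) ∧
      ∃ e' : A' ⊗[A] B, IsIdempotentElem e' ∧
        ∀ b : B, Ideal.Quotient.mk (I.map (algebraMap A B)) b = e →
          e' - 1 ⊗ₜ b ∈ I.map (algebraMap A (A' ⊗[A] B)) := by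
  obtain ⟨b₀, hb₀⟩ := Ideal.Quotient.mk_surjective e
  have hb₀I : b₀ * b₀ - b₀ ∈ I.map (algebraMap A B) := by
    rw [← Ideal.Quotient.eq_zero_iff_mem, map_sub, map_mul, hb₀, he.eq, sub_self]
  obtain ⟨F, d, hFm, hF0, hFmap⟩ := exists_monic_of_sq_sub_mem I b₀ hb₀I
  have hcop : IsCoprime ((Polynomial.X : Polynomial (A ⧸ I)) ^ (d + 1))
      ((Polynomial.X - 1 : Polynomial (A ⧸ I)) ^ (d + 1)) := by
    apply IsCoprime.pow
    exact ⟨1, -1, by ring⟩
  obtain ⟨A', _, _, hEt, hbij, G, H, hGm, hHm, hFGH, ⟨U, V, hUV⟩, hG, hH⟩ :=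
    Groth.Agent.Lib.EtaleFactor.exists_etale_lift_factorization I F hFm
      (Polynomial.X ^ (d + 1)) ((Polynomial.X - 1) ^ (d + 1))
      (Polynomial.monic_X_pow _) ((Polynomial.monic_X_sub_C (1 : A ⧸ I)).pow _) hcop hFmap
  refine ⟨A', inferInstance, inferInstance, hEt, hbij, ?_⟩
  set IA' : Ideal A' := I.map (algebraMap A A') with hIA'
  set B' := A' ⊗[A] B
  set IB' : Ideal B' := I.map (algebraMap A B') with hIB'
  let β : B' := 1 ⊗ₜ b₀
  let N : Submodule A' B' := IB'.restrictScalars A'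
  have hNmem : ∀ x, x ∈ N ↔ x ∈ IB' := fun x => Iff.rfl
  have hincl : ∀ x ∈ I.map (algebraMap A B), (1 : A') ⊗ₜ[A] x ∈ IB' := by
    intro x hx
    have h1 : (Algebra.TensorProduct.includeRight : B →ₐ[A] B') x ∈
        (I.map (algebraMap A B)).map
          (Algebra.TensorProduct.includeRight : B →ₐ[A] B').toRingHom :=
      Ideal.mem_map_of_mem _ hx
    rw [Ideal.map_map] at h1
    have h2 : (Algebra.TensorProduct.includeRight : B →ₐ[A] B').toRingHom.comp (algebraMap A B) =
        algebraMap A B' := by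
      ext a
      exact (Algebra.TensorProduct.includeRight : B →ₐ[A] B').commutes a
    rw [h2] at h1
    exact h1
  have h𝔞 : ∀ a ∈ IA', ∀ y : B', a • y ∈ N := by
    intro a ha y
    rw [hNmem, Algebra.smul_def]
    refine IB'.mul_mem_right _ ?_
    have h1 : algebraMap A' B' a ∈ IA'.map (algebraMap A' B') := Ideal.mem_map_of_mem _ ha
    rwa [hIA', Ideal.map_map, ← IsScalarTower.algebraMap_eq] at h1
  have hβ : β * β - β ∈ N := by
    rw [hNmem]
    have : β * β - β = (1 : A') ⊗ₜ[A] (b₀ * b₀ - b₀) := by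
      change (1 : A') ⊗ₜ[A] b₀ * (1 : A') ⊗ₜ[A] b₀ - (1 : A') ⊗ₜ[A] b₀ = _
      rw [Algebra.TensorProduct.tmul_mul_tmul, mul_one, TensorProduct.tmul_sub]
    rw [this]
    exact hincl _ hb₀I
  have hGH0 : Polynomial.aeval β (G * H) = 0 := by
    rw [← hFGH, Polynomial.aeval_map_algebraMap]
    have : β = (Algebra.TensorProduct.includeRight : B →ₐ[A] B') b₀ := rfl
    rw [this, Polynomial.aeval_algHom_apply, hF0, map_zero]
  have hcoefG : ∀ i, (G - Polynomial.X ^ (d + 1)).coeff i ∈ IA' := by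
    intro i
    have := congrArg (fun p => Polynomial.coeff p i) hG
    simp only [Polynomial.coeff_map, Polynomial.map_pow, Polynomial.map_X] at this
    rw [← Ideal.Quotient.eq_zero_iff_mem, Polynomial.coeff_sub, map_sub, this, sub_eq_zero]
    rw [← Polynomial.coeff_map, Polynomial.map_pow, Polynomial.map_X]
  have hcoefH : ∀ i, (H - (Polynomial.X - 1) ^ (d + 1)).coeff i ∈ IA' := by
    intro i
    have := congrArg (fun p => Polynomial.coeff p i) hH
    simp only [Polynomial.coeff_map, Polynomial.map_pow, Polynomial.map_X, Polynomial.map_sub,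
      Polynomial.map_one] at this
    rw [← Ideal.Quotient.eq_zero_iff_mem, Polynomial.coeff_sub, map_sub, this, sub_eq_zero]
    rw [← Polynomial.coeff_map, Polynomial.map_pow, Polynomial.map_sub, Polynomial.map_X,
      Polynomial.map_one]
  obtain ⟨hidem, hmem⟩ := Groth.Agent.Lib.EtaleFactor.idem_of_factorization IA' N
    (fun x hx y => IB'.mul_mem_left y hx) (fun x hx y => IB'.mul_mem_right y hx) h𝔞 β hβ
    G H U V (d + 1) (Nat.le_add_left 1 d) hUV hGH0 hcoefG hcoefH
  refine ⟨Polynomial.aeval β (U * G), hidem, fun b hb => ?_⟩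
  have hbb : b - b₀ ∈ I.map (algebraMap A B) := by
    rw [← Ideal.Quotient.eq_zero_iff_mem, map_sub, hb, hb₀, sub_self]
  have h1 := hincl _ hbb
  rw [TensorProduct.tmul_sub] at h1
  have h2 : Polynomial.aeval β (U * G) - 1 ⊗ₜ[A] b =
      (Polynomial.aeval β (U * G) - β) - ((1 : A') ⊗ₜ[A] b - (1 : A') ⊗ₜ[A] b₀) := by
    simp only [β]; abel
  rw [h2]
  exact IB'.sub_mem ((hNmem _).1 hmem) h1

end Groth.Agent.S2041
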