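import Groth.Statements.S2042
import Groth.Agent.Lib.EtaleLift
import Mathlib.RingTheory.Polynomial.UniversalFactorizationRing
-- import your own Groth.Agent.* helpers here

set_option autoImplicit false
universe u
open CAlg

namespace Groth.Agent.S2042

open Polynomial in
/-- Let `I ⊆ A` be an ideal and `f ∈ A[X]` monic whose image in `(A/I)[X]` factors as a product of two
monic polynomials generating the unit ideal. Then over some étale `A`-algebra `A'` with `A/I →
A'/IA'` bijective, `f` factors as a product of two monic polynomials lifting the given factors. -/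
theorem result {A : Type u} [CommRing A] (I : Ideal A) (f : A[X])
    (hf : f.Monic) (g h : (A ⧸ I)[X]) (hg : g.Monic) (hh : h.Monic) (hcop : IsCoprime g h)
    (hfgh : f.map (Ideal.Quotient.mk I) = g * h) :
    ∃ (A' : Type u) (_ : CommRing A') (_ : Algebra A A'), Algebra.Etale A A' ∧
      Function.Bijective (algebraMap (A ⧸ I) (A' ⧸ I.map (algebraMap A A'))) ∧
      ∃ g' h' : A'[X], g'.Monic ∧ h'.Monic ∧ f.map (algebraMap A A') = g' * h' ∧
        g'.map (Ideal.Quotient.mk (I.map (algebraMap A A'))) =
          g.map (algebraMap (A ⧸ I) (A' ⧸ I.map (algebraMap A A'))) ∧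
        h'.map (Ideal.Quotient.mk (I.map (algebraMap A A'))) =
          h.map (algebraMap (A ⧸ I) (A' ⧸ I.map (algebraMap A A'))) := by
  rcases subsingleton_or_nontrivial (A ⧸ I) with hsub | hnt
  · -- the degenerate case `I = ⊤`
    let A' := Localization.Away (0 : A)
    have hA' : Subsingleton A' :=
      IsLocalization.subsingleton (M := Submonoid.powers (0 : A)) (S := A') ⟨1, by simp⟩
    have hq : Subsingleton (A' ⧸ I.map (algebraMap A A')) := inferInstance
    refine ⟨A', inferInstance, inferInstance, inferInstance, ⟨?_, ?_⟩, 1, 1, monic_one, monic_one,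
      Subsingleton.elim _ _, Subsingleton.elim _ _, Subsingleton.elim _ _⟩
    · intro x y _
      exact Subsingleton.elim _ _
    · intro y
      exact ⟨0, Subsingleton.elim _ _⟩
  · set m := g.natDegree with hm
    set k := h.natDegree with hk
    set n := f.natDegree with hn'
    have hn : n = m + k := by
      have := congrArg Polynomial.natDegree hfgh
      rwa [hf.natDegree_map, hg.natDegree_mul hh] at this
    let p : MonicDegreeEq A n := .mk f hf rfl
    let σ : UniversalCoprimeFactorizationRing m k hn p →ₐ[A] A ⧸ I :=
      (UniversalCoprimeFactorizationRing.homEquiv (A ⧸ I) m k hn p).symm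
        ⟨(.mk g hg rfl, .mk h hh rfl), hfgh.symm, hcop⟩
    have hσ : UniversalCoprimeFactorizationRing.homEquiv (A ⧸ I) m k hn p σ =
        ⟨(.mk g hg rfl, .mk h hh rfl), hfgh.symm, hcop⟩ := Equiv.apply_symm_apply _ _
    have hσ1 : (UniversalCoprimeFactorizationRing.factor₁ m k hn p).1.map σ.toRingHom = g := by
      have := congrArg (fun q => q.1.1.1) hσ
      simp only [MonicDegreeEq.mk_coe] at this
      rw [← this]
      simp [UniversalCoprimeFactorizationRing.homEquiv, UniversalFactorizationRing.homEquiv,
        UniversalCoprimeFactorizationRing.factor₁, MonicDegreeEq.map, Polynomial.map_map]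
      rfl
    have hσ2 : (UniversalCoprimeFactorizationRing.factor₂ m k hn p).1.map σ.toRingHom = h := by
      have := congrArg (fun q => q.1.2.1) hσ
      simp only [MonicDegreeEq.mk_coe] at this
      rw [← this]
      simp [UniversalCoprimeFactorizationRing.homEquiv, UniversalFactorizationRing.homEquiv,
        UniversalCoprimeFactorizationRing.factor₂, MonicDegreeEq.map, Polynomial.map_map]
      rfl
    obtain ⟨A', _, _, hEt, hbij, τ, hτ⟩ := Groth.Agent.Lib.EtaleLift.exists_etale_lift_of_etale I σ
    have hcomp : (Ideal.Quotient.mk (I.map (algebraMap A A'))).comp τ.toRingHom =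
        (algebraMap (A ⧸ I) (A' ⧸ I.map (algebraMap A A'))).comp σ.toRingHom :=
      RingHom.ext hτ
    refine ⟨A', inferInstance, inferInstance, hEt, hbij,
      (UniversalCoprimeFactorizationRing.factor₁ m k hn p).1.map τ.toRingHom,
      (UniversalCoprimeFactorizationRing.factor₂ m k hn p).1.map τ.toRingHom,
      (UniversalCoprimeFactorizationRing.factor₁ m k hn p).monic.map _,
      (UniversalCoprimeFactorizationRing.factor₂ m k hn p).monic.map _, ?_, ?_, ?_⟩
    · rw [← Polynomial.map_mul, UniversalCoprimeFactorizationRing.factor₁_mul_factor₂,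
        MonicDegreeEq.map_coe, Polynomial.map_map]
      congr 1
      ext a
      simp
    · rw [Polynomial.map_map, hcomp, ← Polynomial.map_map, hσ1]
    · rw [Polynomial.map_map, hcomp, ← Polynomial.map_map, hσ2]

end Groth.Agent.S2042
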