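import Groth.Statements.S4295
import Groth.Agent.Lib.PCohLimit21B

set_option autoImplicit false
universe w v u
open CategoryTheory CategoryTheory.Limits
open PCoh

namespace Groth.Agent.S4295

/-- Punctual site: let C be an abelian category and C₀ a strictly full additive subcategory (closed
under isomorphisms, containing zero, closed under binary products) which is quasi-stable under
kernels of epimorphisms and quasi-liftable in C. If F ∈ D(C) is C₀-pseudo-coherent (for every n
isomorphic to a bounded above complex with terms in C₀ from degree n on), then F is isomorphic in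
D(C) to the image of one bounded above complex all of whose terms lie in C₀. -/
theorem result {C : Type u} [Category.{v} C] [Abelian C] [HasDerivedCategory.{w} C]
    (P : ObjectProperty C) [P.IsClosedUnderIsomorphisms] [P.ContainsZero] (hsum : ∀ X Y : C, P X → P Y → P (X ⨯ Y))
    (hqs : PCoh.IsQuasiStableUnderKernels P) (hql : PCoh.IsQuasiLiftable P)
    (F : DerivedCategory C) (hF : PCoh.IsPC P F) :
    ∃ E : CochainComplex C ℤ, PCoh.IsStrictPCAll P E ∧ Nonempty (DerivedCategory.Q.obj E ≅ F) := by
  obtain ⟨L, hL, ⟨e⟩⟩ := hF 0
  have hG : PCoh.IsPC P (DerivedCategory.Q.obj L) :=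
    Groth.Agent.Lib.PCohLimit21.isPC_of_iso P e.symm hF
  obtain ⟨m, hm⟩ := Groth.Agent.Lib.PCohLimit21.exists_bound_homology P L hG
  obtain ⟨E', t, hE', ht, -⟩ :=
    Groth.Agent.Lib.PCohLimit21.exists_strictPCAll_quasiIso P hsum hqs hql L hG m hm
  have : IsIso (DerivedCategory.Q.map t) := (DerivedCategory.isIso_Q_map_iff_quasiIso C t).2 ht
  exact ⟨E', hE', ⟨asIso (DerivedCategory.Q.map t) ≪≫ e⟩⟩

end Groth.Agent.S4295
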