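import Groth.Statements.S5598
import Groth.Agent.Lib.PCohStupid
import Groth.Agent.S5600

set_option autoImplicit false
universe w v u
open CategoryTheory CategoryTheory.Limits
open PCoh

namespace Groth.Agent.S5598

/-- (i') ⇔ (ii') (punctual site): let C be an abelian category and C₀ a strictly full additive
subcategory, quasi-stable under kernels of epimorphisms and quasi-liftable. An object F of D(C) is
n-pseudo-coherent (isomorphic in D(C) to a strictly n-pseudo-coherent complex) if and only if there
are a strictly perfect complex E (bounded, all terms in C₀) and a morphism E ⟶ F of D(C) which is an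
n-isomorphism: an isomorphism on H^i for i > n and an epimorphism on H^n. -/
theorem result {C : Type u} [Category.{v} C] [Abelian C] [HasDerivedCategory.{w} C]
    (P : ObjectProperty C) [P.IsClosedUnderIsomorphisms] [P.ContainsZero] (hsum : ∀ X Y : C, P X → P Y → P (X ⨯ Y))
    (hqs : PCoh.IsQuasiStableUnderKernels P) (hql : PCoh.IsQuasiLiftable P)
    (n : ℤ) (F : DerivedCategory C) :
    (∃ E : CochainComplex C ℤ, PCoh.IsStrictPC P n E ∧ Nonempty (DerivedCategory.Q.obj E ≅ F)) ↔
      ∃ (E : CochainComplex C ℤ) (a b : ℤ) (α : DerivedCategory.Q.obj E ⟶ F),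
        (∀ i : ℤ, i < a ∨ b < i → IsZero (E.X i)) ∧ (∀ i : ℤ, P (E.X i)) ∧
        (∀ i : ℤ, n < i → IsIso ((DerivedCategory.homologyFunctor C i).map α)) ∧
        Epi ((DerivedCategory.homologyFunctor C n).map α) := by
  constructor
  · rintro ⟨E, ⟨⟨b, hb⟩, hP⟩, ⟨e⟩⟩
    have hι : ∀ i : ℤ, n ≤ i → IsIso ((Groth.Agent.Lib.PCohStupid.sigmaGEι E n).f i) :=
      fun i hi => Groth.Agent.Lib.PCohStupid.isIso_sigmaGEι_f E n i hi
    refine ⟨Groth.Agent.Lib.PCohStupid.sigmaGE E n, n, b,
      DerivedCategory.Q.map (Groth.Agent.Lib.PCohStupid.sigmaGEι E n) ≫ e.hom, ?_, ?_, ?_, ?_⟩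
    · rintro i (hi | hi)
      · exact Groth.Agent.Lib.PCohStupid.isZero_sigmaGE_X E n i hi
      · exact Groth.Agent.Lib.PCohStupid.isZero_sigmaGE_X_of_isZero E n i (hb i hi)
    · intro i
      by_cases hi : n ≤ i
      · have := hι i hi
        exact P.prop_of_iso (asIso ((Groth.Agent.Lib.PCohStupid.sigmaGEι E n).f i)).symm (hP i hi)
      · exact P.prop_of_isZero (Groth.Agent.Lib.PCohStupid.isZero_sigmaGE_X E n i (by lia))
    · intro i hi
      rw [Functor.map_comp]
      have h1 := hι (i - 1) (by lia)
      have h2 := hι i (by lia)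
      have h3 := hι (i + 1) (by lia)
      have : IsIso ((DerivedCategory.homologyFunctor C i).map
          (DerivedCategory.Q.map (Groth.Agent.Lib.PCohStupid.sigmaGEι E n))) := by
        rw [Groth.Agent.Lib.PCohStupid.isIso_homologyFunctor_map_Q_iff]
        exact Groth.Agent.Lib.PCohStupid.isIso_homologyMap_of_f _ i inferInstance h2 inferInstance
      infer_instance
    · rw [Functor.map_comp]
      have h2 := hι n le_rfl
      have h3 := hι (n + 1) (by lia)
      have : Epi ((DerivedCategory.homologyFunctor C n).map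
          (DerivedCategory.Q.map (Groth.Agent.Lib.PCohStupid.sigmaGEι E n))) := by
        rw [Groth.Agent.Lib.PCohStupid.epi_homologyFunctor_map_Q_iff]
        exact Groth.Agent.Lib.PCohStupid.epi_homologyMap_of_f _ n h2 inferInstance
      exact epi_comp _ _
  · rintro ⟨E, a, b, α, hz, hP, hiso, hepi⟩
    let F₀ : CochainComplex C ℤ := DerivedCategory.Q.objPreimage F
    let e : DerivedCategory.Q.obj F₀ ≅ F := DerivedCategory.Q.objObjPreimageIso F
    obtain ⟨Y', g, s, hs, hfac⟩ := DerivedCategory.left_fac (α ≫ e.inv)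
    have hg : DerivedCategory.Q.map g = α ≫ e.inv ≫ DerivedCategory.Q.map s := by
      rw [← Category.assoc, hfac]
      simp
    have hgi : ∀ i : ℤ, n < i → IsIso (HomologicalComplex.homologyMap g i) := by
      intro i hi
      rw [← Groth.Agent.Lib.PCohStupid.isIso_homologyFunctor_map_Q_iff, hg, Functor.map_comp,
        Functor.map_comp]
      have := hiso i hi
      infer_instance
    have hge : Epi (HomologicalComplex.homologyMap g n) := by
      rw [← Groth.Agent.Lib.PCohStupid.epi_homologyFunctor_map_Q_iff, hg, Functor.map_comp]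
      have : IsIso ((DerivedCategory.homologyFunctor C n).map
          (e.inv ≫ DerivedCategory.Q.map s)) := inferInstance
      exact epi_comp _ _
    obtain ⟨E', v, u', hvu, hq, hvm, hvi⟩ := Groth.Agent.S5600.result n E Y' g hgi hge
    refine ⟨E', ⟨⟨max b n, fun i hi => ?_⟩, fun i hi => ?_⟩, ⟨?_⟩⟩
    · have := hvi i (by lia)
      exact IsZero.of_iso (hz i (Or.inr (by lia))) (asIso (v.f i)).symm
    · have := hvi i hi
      exact P.prop_of_iso (asIso (v.f i)) (hP i)
    · have : IsIso (DerivedCategory.Q.map u') := by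
        rw [DerivedCategory.isIso_Q_map_iff_quasiIso]
        exact hq
      exact asIso (DerivedCategory.Q.map u') ≪≫ (asIso (DerivedCategory.Q.map s)).symm ≪≫ e

end Groth.Agent.S5598
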