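import Groth.Statements.S7442
import Groth.Agent.Lib.BddFibBase
import Mathlib.AlgebraicGeometry.Morphisms.UniversallyOpen
import Mathlib.AlgebraicGeometry.Morphisms.Flat
import Mathlib.AlgebraicGeometry.Limits
import Mathlib.RingTheory.Flat.FaithfullyFlat.Algebra
import Mathlib.AlgebraicGeometry.Fiber

set_option autoImplicit false
universe u
open CategoryTheory AlgebraicGeometry
open BddFib

namespace Groth.Agent.S7442

/-- topological lemma: a surjective generalizing map from a discrete space to a finite space
forces the target to be discrete. -/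
theorem discrete_of_generalizing {T W : Type*} [TopologicalSpace T] [TopologicalSpace W]
    [DiscreteTopology T] [Finite W] (φ : T → W) (hs : Function.Surjective φ)
    (hg : GeneralizingMap φ) : DiscreteTopology W := by
  haveI : T1Space W := by
    rw [t1Space_iff_specializes_imp_eq]
    intro x y hxy
    obtain ⟨t, rfl⟩ := hs y
    obtain ⟨t', ht', rfl⟩ := hg hxy
    rw [ht'.eq]
  infer_instance

/-- key lemma -/
theorem finiteOfDegLE_of_flat_surjective {K : CommRingCat.{u}} (hK : IsField K)
    {T W : Scheme.{u}} (φ : T ⟶ W) [Flat φ] [Surjective φ] (p : W ⟶ Spec K) (n : ℕ)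
    (hT : BddFib.FiniteOfDegLE K (φ ≫ p) n) : BddFib.FiniteOfDegLE K p n := by
  obtain ⟨hTaff, hTfin, hTrank⟩ := hT
  let _ : Field K := hK.toField
  -- `T` is finite and discrete
  letI algT : Algebra K Γ(T, ⊤) := BddFib.secAlgebra K (φ ≫ p)
  haveI : Module.Finite K Γ(T, ⊤) := hTfin
  haveI : IsArtinianRing Γ(T, ⊤) := IsArtinianRing.of_finite K Γ(T, ⊤)
  haveI : Finite (PrimeSpectrum Γ(T, ⊤)) := inferInstance
  haveI : DiscreteTopology (PrimeSpectrum Γ(T, ⊤)) := inferInstance
  haveI : Finite T := Finite.of_equiv _ T.isoSpec.hom.homeomorph.symm.toEquiv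
  haveI : DiscreteTopology T := T.isoSpec.hom.homeomorph.symm.discreteTopology
  -- `W` is finite and discrete
  haveI : Finite W := Finite.of_surjective φ φ.surjective
  haveI : DiscreteTopology W :=
    discrete_of_generalizing φ φ.surjective (Flat.generalizingMap φ)
  have hWaff : IsAffine W := inferInstance
  -- injectivity of global sections
  have hff : φ.appTop.hom.FaithfullyFlat := by
    rw [← flat_and_surjective_SpecMap_iff]
    have e : Spec.map φ.appTop = T.isoSpec.inv ≫ φ ≫ W.isoSpec.hom := by
      rw [← Scheme.isoSpec_hom_naturality, Iso.inv_hom_id_assoc]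
    rw [e]
    exact ⟨inferInstance, inferInstance⟩
  have hinj : Function.Injective φ.appTop.hom := hff.injective
  letI algW : Algebra K Γ(W, ⊤) := BddFib.secAlgebra K p
  -- the K-linear map
  let L : Γ(W, ⊤) →ₗ[K] Γ(T, ⊤) :=
    { toFun := φ.appTop.hom
      map_add' := map_add _
      map_smul' := by
        intro c x
        change φ.appTop.hom (algebraMap K Γ(W, ⊤) c * x) =
          algebraMap K Γ(T, ⊤) c * φ.appTop.hom x
        rw [map_mul]
        congr 1 }
  have hLinj : Function.Injective L := hinj
  refine ⟨hWaff, Module.Finite.of_injective L hLinj, ?_⟩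
  exact (LinearMap.finrank_le_finrank_of_injective hLinj).trans hTrank

/-- Let `f : X → Y` and `h : Y → Z` with `g = h ∘ f`. If `f` is flat and surjective and `n` bounds the
degrees of the fibres of `g`, then `n` bounds the degrees of the fibres of `h`. -/
theorem result {X Y Z : Scheme.{u}} (f : X ⟶ Y) (h : Y ⟶ Z) [Flat f] [Surjective f]
    (n : ℕ) (hg : BddFib.FibreDegLE (f ≫ h) n) : BddFib.FibreDegLE h n := by
  intro z
  -- the induced map on fibres
  let φ : (f ≫ h).fiber z ⟶ h.fiber z :=
    Limits.pullback.lift ((f ≫ h).fiberι z ≫ f) ((f ≫ h).fiberToSpecResidueField z)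
      (by rw [Category.assoc]; exact (f ≫ h).fiber_fac z)
  have h1 : φ ≫ h.fiberι z = (f ≫ h).fiberι z ≫ f := Limits.pullback.lift_fst _ _ _
  have h2 : φ ≫ h.fiberToSpecResidueField z = (f ≫ h).fiberToSpecResidueField z :=
    Limits.pullback.lift_snd _ _ _
  -- φ is a base change of f
  have big : IsPullback (φ ≫ h.fiberToSpecResidueField z) ((f ≫ h).fiberι z)
      (Z.fromSpecResidueField z) (f ≫ h) := by
    rw [h2]
    exact (IsPullback.of_hasPullback (f ≫ h) (Z.fromSpecResidueField z)).flip
  have right : IsPullback (h.fiberToSpecResidueField z) (h.fiberι z)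
      (Z.fromSpecResidueField z) h := (IsPullback.of_hasPullback h (Z.fromSpecResidueField z)).flip
  have left : IsPullback ((f ≫ h).fiberι z) φ f (h.fiberι z) :=
    (IsPullback.of_right big h1 right).flip
  haveI : Flat φ := MorphismProperty.of_isPullback left inferInstance
  haveI : Surjective φ := MorphismProperty.of_isPullback left inferInstance
  have := hg z
  rw [← h2] at this
  exact finiteOfDegLE_of_flat_surjective (Field.toIsField _) φ _ n this

end Groth.Agent.S7442
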