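import Groth.Statements.S6302
import Mathlib

set_option autoImplicit false
universe u
open CAlg

namespace Groth.Agent.S6302

open TensorProduct in
/-- Let 0 → M₁ → M₂ → M₃ → 0 be a short exact sequence of R-modules with M₃ of finite presentation. If
the sequence is universally exact (its first map is universally injective) then it is split: M₂ → M₃
admits a section. (The converse, split implies universally exact, is elementary and not stated.) -/
theorem result {R : Type u} [CommRing R] {M₁ M₂ M₃ : Type u} [AddCommGroup M₁] [Module R M₁] [AddCommGroup M₂] [Module R M₂] [AddCommGroup M₃] [Module R M₃] [Module.FinitePresentation R M₃] (f : M₁ →ₗ[R] M₂) (g : M₂ →ₗ[R] M₃) (hexact : Function.Exact f g) (hg : Function.Surjective g) (hf : CAlgX.UniversallyInjective R f) : ∃ s : M₃ →ₗ[R] M₂, g.comp s = LinearMap.id := by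
  classical
  obtain ⟨n, K, ϕ, hK⟩ := Module.FinitePresentation.exists_fin R M₃
  obtain ⟨m, k, hk⟩ := Submodule.fg_iff_exists_fin_generating_family.mp hK
  choose y hy using fun j => hg (ϕ.symm (K.mkQ (Pi.single j 1)))
  have hsum : ∀ v : Fin n → R, ∑ j, v j • (Pi.single j 1 : Fin n → R) = v := by
    intro v; ext j; simp [Finset.sum_apply, Pi.single_apply]
  have hx : ∀ i, ∃ x, f x = ∑ j, k i j • y j := by
    intro i
    apply (hexact _).mp
    rw [map_sum]
    simp_rw [map_smul, hy, ← map_smul, ← map_sum, hsum]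
    have : K.mkQ (k i) = 0 := by
      rw [Submodule.mkQ_apply, Submodule.Quotient.mk_eq_zero, ← hk]
      exact Submodule.subset_span ⟨i, rfl⟩
    rw [this, map_zero]
  choose x hx using hx
  let A : (Fin n → R) →ₗ[R] (Fin m → R) :=
    LinearMap.pi (fun i => ∑ j, k i j • LinearMap.proj j)
  have hA : ∀ v i, A v i = ∑ j, k i j * v j := by
    intro v i
    simp [A, LinearMap.sum_apply]
  let Q := (Fin m → R) ⧸ LinearMap.range A
  have hQ := hf Q
  let ξ : M₁ ⊗[R] (Fin m → R) := ∑ i, x i ⊗ₜ[R] (Pi.single i 1 : Fin m → R)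
  have hξ : (LinearMap.range A).mkQ.lTensor M₁ ξ = 0 := by
    apply hQ
    rw [map_zero]
    simp only [ξ, map_sum, LinearMap.lTensor_tmul, LinearMap.rTensor_tmul, hx, TensorProduct.sum_tmul,
      TensorProduct.smul_tmul]
    rw [Finset.sum_comm]
    apply Finset.sum_eq_zero
    intro j _
    rw [← TensorProduct.tmul_sum]
    simp_rw [← map_smul, ← map_sum]
    have h1 : ∑ i, k i j • (Pi.single i 1 : Fin m → R) = A (Pi.single j 1) := by
      ext i
      rw [hA]
      simp [Finset.sum_apply, Pi.single_apply]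
    rw [h1]
    have h2 : (LinearMap.range A).mkQ (A (Pi.single j 1)) = 0 := by
      rw [Submodule.mkQ_apply, Submodule.Quotient.mk_eq_zero]
      exact LinearMap.mem_range_self _ _
    rw [h2, TensorProduct.tmul_zero]
  have hex : Function.Exact (A.lTensor M₁) ((LinearMap.range A).mkQ.lTensor M₁) :=
    lTensor_exact M₁ (LinearMap.exact_map_mkQ_range A) (Submodule.mkQ_surjective _)
  obtain ⟨η, hη⟩ := (hex ξ).mp hξ
  let x' : Fin n → M₁ := TensorProduct.piScalarRightHom R R M₁ (Fin n) η
  have key : ∀ η : M₁ ⊗[R] (Fin n → R), ∀ i,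
      TensorProduct.piScalarRightHom R R M₁ (Fin m) (A.lTensor M₁ η) i =
        ∑ j, k i j • TensorProduct.piScalarRightHom R R M₁ (Fin n) η j := by
    intro η i
    induction η using TensorProduct.induction_on with
    | zero => simp
    | tmul a v =>
      simp only [LinearMap.lTensor_tmul, TensorProduct.piScalarRightHom_tmul, hA, Finset.sum_smul,
        mul_smul]
    | add a b ha hb =>
      simp only [map_add, Pi.add_apply, ha, hb, smul_add, Finset.sum_add_distrib]
  have hxx : ∀ i, x i = ∑ j, k i j • x' j := by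
    intro i
    rw [← key η i, hη]
    simp [ξ, Finset.sum_apply, Pi.single_apply]
  -- the section
  let y' : Fin n → M₂ := fun j => y j - f (x' j)
  let s₀ : (Fin n → R) →ₗ[R] M₂ := Fintype.linearCombination R y'
  have hs₀ : K ≤ LinearMap.ker s₀ := by
    rw [← hk, Submodule.span_le]
    rintro _ ⟨i, rfl⟩
    simp only [SetLike.mem_coe, LinearMap.mem_ker, s₀, Fintype.linearCombination_apply, y',
      smul_sub, Finset.sum_sub_distrib]
    rw [← hx i, hxx i, map_sum]
    simp [map_smul]
  refine ⟨(K.liftQ s₀ hs₀) ∘ₗ ϕ.toLinearMap, ?_⟩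
  have h1 : g ∘ₗ s₀ = ϕ.symm.toLinearMap ∘ₗ K.mkQ := by
    apply LinearMap.pi_ext'
    intro j
    ext
    simp [s₀, y', Fintype.linearCombination_apply, hy, hexact.apply_apply_eq_zero]
  ext z
  obtain ⟨v, hv⟩ := K.mkQ_surjective (ϕ z)
  simp only [LinearMap.comp_apply, LinearEquiv.coe_coe, LinearMap.id_apply]
  rw [← hv, Submodule.mkQ_apply, Submodule.liftQ_apply]
  have := LinearMap.congr_fun h1 v
  simp only [LinearMap.comp_apply] at this
  rw [this, hv]
  simp

end Groth.Agent.S6302
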