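import Groth.Statements.S6388
import Mathlib.LinearAlgebra.TensorProduct.RightExactness
import Mathlib.LinearAlgebra.Prod

set_option autoImplicit false
universe u
open CAlg

namespace Groth.Agent.S6388

open TensorProduct

section
variable {R : Type u} [CommRing R] {M N M' : Type u}
    [AddCommGroup M] [Module R M] [AddCommGroup N] [Module R N] [AddCommGroup M'] [Module R M']
    (f : M →ₗ[R] N) (g : M →ₗ[R] M')

/-- the canonical map `M' → N'` to the pushout -/
noncomputable abbrev pushoutInl : M' →ₗ[R] (M' × N) ⧸ LinearMap.range (g.prod (-f)) :=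
  (LinearMap.range (g.prod (-f))).mkQ ∘ₗ LinearMap.inl R M' N

/-- the canonical map `N → N'` to the pushout -/
noncomputable abbrev pushoutInr : N →ₗ[R] (M' × N) ⧸ LinearMap.range (g.prod (-f)) :=
  (LinearMap.range (g.prod (-f))).mkQ ∘ₗ LinearMap.inr R M' N

lemma pushout_comm : pushoutInl f g ∘ₗ g = pushoutInr f g ∘ₗ f := by
  ext m
  simp only [LinearMap.comp_apply, LinearMap.inl_apply, LinearMap.inr_apply, Submodule.mkQ_apply]
  rw [Submodule.Quotient.eq]
  refine ⟨m, ?_⟩
  simp

/-- `Q`-wise version: domination at `Q` iff the pushout map is injective after `⊗ Q`. -/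
lemma ker_le_iff_injective (Q : Type u) [AddCommGroup Q] [Module R Q] :
    LinearMap.ker (f.rTensor Q) ≤ LinearMap.ker (g.rTensor Q) ↔
      Function.Injective ((pushoutInl f g).rTensor Q) := by
  constructor
  · intro hdom
    rw [injective_iff_map_eq_zero]
    intro y hy
    set φ : M →ₗ[R] M' × N := g.prod (-f) with hφ
    rw [LinearMap.rTensor_comp, LinearMap.comp_apply] at hy
    have h1 : (LinearMap.inl R M' N).rTensor Q y ∈
        LinearMap.ker ((LinearMap.range φ).mkQ.rTensor Q) := hy
    rw [rTensor_mkQ] at h1
    obtain ⟨w, hw⟩ := h1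
    -- lift w along M → range φ
    obtain ⟨z, rfl⟩ := LinearMap.rTensor_surjective Q (LinearMap.surjective_rangeRestrict φ) w
    have hw' : φ.rTensor Q z = (LinearMap.inl R M' N).rTensor Q y := by
      rw [← hw, ← LinearMap.comp_apply, ← LinearMap.rTensor_comp]
      rfl
    have h2 : f.rTensor Q z = 0 := by
      have := congrArg ((LinearMap.snd R M' N).rTensor Q) hw'
      rw [← LinearMap.comp_apply, ← LinearMap.comp_apply, ← LinearMap.rTensor_comp,
        ← LinearMap.rTensor_comp] at this
      have e1 : LinearMap.snd R M' N ∘ₗ φ = -f := by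
        ext m; simp [hφ]
      have e2 : LinearMap.snd R M' N ∘ₗ LinearMap.inl R M' N = 0 := by
        ext m; simp
      rw [e1, e2] at this
      simpa using this
    have h3 : g.rTensor Q z = 0 := hdom h2
    have := congrArg ((LinearMap.fst R M' N).rTensor Q) hw'
    rw [← LinearMap.comp_apply, ← LinearMap.comp_apply, ← LinearMap.rTensor_comp,
      ← LinearMap.rTensor_comp] at this
    have e1 : LinearMap.fst R M' N ∘ₗ φ = g := by
      ext m; simp [hφ]
    have e2 : LinearMap.fst R M' N ∘ₗ LinearMap.inl R M' N = LinearMap.id := by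
      ext m; simp
    rw [e1, e2, h3] at this
    simpa using this.symm
  · intro hinj z hz
    rw [LinearMap.mem_ker] at hz ⊢
    apply hinj
    rw [map_zero, ← LinearMap.comp_apply, ← LinearMap.rTensor_comp, pushout_comm,
      LinearMap.rTensor_comp, LinearMap.comp_apply, hz, map_zero]

end

/-- Let f : M → N and g : M → M' be maps of R-modules and let N' be their pushout, realised as the
quotient of M' × N by the submodule of elements (g x, -f x). Then g dominates f — for every module Q
the kernel of f ⊗ id_Q is contained in the kernel of g ⊗ id_Q — if and only if the canonical map M'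
→ N' is universally injective. -/
theorem result (R : Type u) [CommRing R] {M N M' : Type u}
    [AddCommGroup M] [Module R M] [AddCommGroup N] [Module R N] [AddCommGroup M'] [Module R M']
    (f : M →ₗ[R] N) (g : M →ₗ[R] M') :
    (∀ (Q : Type u) [AddCommGroup Q] [Module R Q], LinearMap.ker (f.rTensor Q) ≤ LinearMap.ker (g.rTensor Q)) ↔
      CAlgX.UniversallyInjective R
        ((LinearMap.range (g.prod (-f))).mkQ ∘ₗ LinearMap.inl R M' N) := by
  constructor
  · intro h Q _ _
    exact (ker_le_iff_injective f g Q).mp (h Q)
  · intro h Q _ _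
    exact (ker_le_iff_injective f g Q).mpr (h Q)

end Groth.Agent.S6388
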