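import Groth.Statements.S6359
import Groth.Agent.S6388
import Groth.Agent.S6302
import Mathlib.Algebra.Exact.Basic

set_option autoImplicit false
universe u
open CAlg

namespace Groth.Agent.S6359

open TensorProduct Groth.Agent.S6388

section
variable {R : Type u} [CommRing R] {M N M' : Type u}
    [AddCommGroup M] [Module R M] [AddCommGroup N] [Module R N] [AddCommGroup M'] [Module R M']
    (f : M →ₗ[R] N) (g : M →ₗ[R] M')

/-- the projection from the pushout to the cokernel of `f` -/
noncomputable def pushoutToCoker :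
    ((M' × N) ⧸ LinearMap.range (g.prod (-f))) →ₗ[R] N ⧸ LinearMap.range f :=
  (LinearMap.range (g.prod (-f))).liftQ ((LinearMap.range f).mkQ ∘ₗ LinearMap.snd R M' N) (by
    rintro _ ⟨m, rfl⟩
    rw [LinearMap.mem_ker]
    simp only [LinearMap.comp_apply, LinearMap.prod_apply, LinearMap.snd_apply,
      Submodule.mkQ_apply]
    rw [Submodule.Quotient.mk_eq_zero]
    exact (LinearMap.range f).neg_mem ⟨m, rfl⟩)

lemma pushoutToCoker_mk (m' : M') (n : N) :
    pushoutToCoker f g (Submodule.Quotient.mk (m', n)) = Submodule.Quotient.mk n := rfl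

lemma pushoutToCoker_surjective : Function.Surjective (pushoutToCoker f g) := by
  intro y
  obtain ⟨n, rfl⟩ := Submodule.Quotient.mk_surjective _ y
  exact ⟨Submodule.Quotient.mk (0, n), rfl⟩

lemma pushout_exact : Function.Exact (pushoutInl f g) (pushoutToCoker f g) := by
  intro y
  constructor
  · intro hy
    obtain ⟨⟨m', n⟩, rfl⟩ := Submodule.Quotient.mk_surjective _ y
    rw [pushoutToCoker_mk, Submodule.Quotient.mk_eq_zero] at hy
    obtain ⟨m, rfl⟩ := hy
    refine ⟨m' + g m, ?_⟩
    simp only [LinearMap.comp_apply, LinearMap.inl_apply, Submodule.mkQ_apply]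
    rw [Submodule.Quotient.eq]
    refine ⟨m, ?_⟩
    simp
  · rintro ⟨m', rfl⟩
    simp only [LinearMap.comp_apply, LinearMap.inl_apply, Submodule.mkQ_apply,
      pushoutToCoker_mk, Submodule.Quotient.mk_zero]

end

/-- Let f : M → N and g : M → M' be maps of R-modules such that the cokernel of f is finitely presented.
Then g dominates f (for every module Q the kernel of f ⊗ id_Q is contained in the kernel of g ⊗
id_Q) if and only if g factors through f. -/
theorem result (R : Type u) [CommRing R] {M N M' : Type u}
    [AddCommGroup M] [Module R M] [AddCommGroup N] [Module R N] [AddCommGroup M'] [Module R M']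
    (f : M →ₗ[R] N) (g : M →ₗ[R] M') [Module.FinitePresentation R (N ⧸ LinearMap.range f)] :
    (∀ (Q : Type u) [AddCommGroup Q] [Module R Q], LinearMap.ker (f.rTensor Q) ≤ LinearMap.ker (g.rTensor Q)) ↔
      ∃ h : N →ₗ[R] M', g = h ∘ₗ f := by
  constructor
  · intro hdom
    have huniv : CAlgX.UniversallyInjective R (pushoutInl f g) :=
      (Groth.Agent.S6388.result R f g).mp hdom
    have hinj : Function.Injective (pushoutInl f g) := by
      intro a b hab
      have h1 : (pushoutInl f g).rTensor R (a ⊗ₜ[R] (1 : R)) =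
          (pushoutInl f g).rTensor R (b ⊗ₜ[R] (1 : R)) := by
        rw [LinearMap.rTensor_tmul, LinearMap.rTensor_tmul, hab]
      have h2 := huniv R h1
      have := congrArg (TensorProduct.rid R M') h2
      simpa using this
    obtain ⟨s, hs⟩ := Groth.Agent.S6302.result (pushoutInl f g) (pushoutToCoker f g)
      (pushout_exact f g) (pushoutToCoker_surjective f g) huniv
    have htfae := (pushout_exact f g).split_tfae hinj (pushoutToCoker_surjective f g)
    have h01 : (∃ l, pushoutToCoker f g ∘ₗ l = LinearMap.id) ↔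
        (∃ l, l ∘ₗ pushoutInl f g = LinearMap.id) := htfae.out 0 1
    obtain ⟨r, hr⟩ := h01.mp ⟨s, hs⟩
    refine ⟨r ∘ₗ pushoutInr f g, ?_⟩
    rw [LinearMap.comp_assoc, ← pushout_comm, ← LinearMap.comp_assoc, hr, LinearMap.id_comp]
  · rintro ⟨h, rfl⟩ Q _ _ z hz
    rw [LinearMap.mem_ker] at hz ⊢
    rw [LinearMap.rTensor_comp, LinearMap.comp_apply, hz, map_zero]

end Groth.Agent.S6359
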