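import Groth.Statements.S0583
import Mathlib.Algebra.DirectSum.Module
import Mathlib.LinearAlgebra.Projection
import Mathlib.Order.Zorn
import Mathlib.Order.CompactlyGenerated.Basic
import Mathlib.LinearAlgebra.Finsupp.Span
import Mathlib.Data.Set.Countable

set_option autoImplicit false
universe u
open scoped Classical
open CAlg

namespace Groth.Agent.S0583

section cg
variable {R : Type u} [CommRing R]

/-- countably generated submodule -/
def SubCG {X : Type u} [AddCommGroup X] [Module R X] (L : Submodule R X) : Prop :=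
  ∃ s : Set X, s.Countable ∧ Submodule.span R s = L

lemma SubCG.map {X Y : Type u} [AddCommGroup X] [Module R X] [AddCommGroup Y] [Module R Y]
    (g : X →ₗ[R] Y) {L : Submodule R X} (h : SubCG L) : SubCG (L.map g) := by
  obtain ⟨s, hs, rfl⟩ := h
  exact ⟨g '' s, hs.image g, by rw [Submodule.map_span]⟩

lemma SubCG.biSup {X : Type u} [AddCommGroup X] [Module R X] {ι : Type u} (A : Set ι)
    (hA : A.Countable) (N : ι → Submodule R X) (h : ∀ a ∈ A, SubCG (N a)) :
    SubCG (⨆ a ∈ A, N a) := by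
  choose! S hS using h
  refine ⟨⋃ a ∈ A, S a, hA.biUnion (fun a ha => (hS a ha).1), ?_⟩
  rw [Submodule.span_iUnion₂]
  exact iSup_congr fun a => iSup_congr fun ha => (hS a ha).2

lemma isCountablyGenerated_of_subCG {X : Type u} [AddCommGroup X] [Module R X]
    (L : Submodule R X) (h : SubCG L) : CAlg.IsCountablyGenerated R L := by
  obtain ⟨s, hs, rfl⟩ := h
  refine ⟨{x | (x : X) ∈ s}, hs.preimage Subtype.val_injective, ?_⟩
  apply Submodule.map_injective_of_injective (Submodule.span R s).injective_subtype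
  rw [Submodule.map_span, Submodule.map_top, Submodule.range_subtype]
  congr 1
  ext x
  constructor
  · rintro ⟨y, hy, rfl⟩
    exact hy
  · intro hx
    exact ⟨⟨x, Submodule.subset_span hx⟩, hx, rfl⟩

lemma subCG_of_isCountablyGenerated {X : Type u} [AddCommGroup X] [Module R X]
    (L : Submodule R X) (h : CAlg.IsCountablyGenerated R L) : SubCG L := by
  obtain ⟨s, hs, hspan⟩ := h
  refine ⟨L.subtype '' s, hs.image _, ?_⟩
  rw [← Submodule.map_span, hspan, Submodule.map_top, Submodule.range_subtype]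

/-- inserting an element disjoint from the supremum keeps independence (submodules) -/
lemma sSupIndep_insert {X : Type u} [AddCommGroup X] [Module R X] (𝓛 : Set (Submodule R X))
    (C : Submodule R X) (h𝓛 : sSupIndep 𝓛) (hC : Disjoint C (sSup 𝓛)) :
    sSupIndep (insert C 𝓛) := by
  intro b hb
  by_cases hCmem : C ∈ 𝓛
  · rw [Set.insert_eq_of_mem hCmem] at hb ⊢
    exact h𝓛 hb
  rcases hb with rfl | hb
  · have : insert b 𝓛 \ {b} = 𝓛 := by
      ext L
      simp only [Set.mem_sdiff, Set.mem_insert_iff, Set.mem_singleton_iff]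
      constructor
      · rintro ⟨h1 | h1, h2⟩
        · exact absurd h1 h2
        · exact h1
      · intro hL
        exact ⟨Or.inr hL, fun h => hCmem (h ▸ hL)⟩
    rw [this]
    exact hC
  · have hbC : b ≠ C := fun h => hCmem (h ▸ hb)
    have : insert C 𝓛 \ {b} = insert C (𝓛 \ {b}) := by
      ext L
      simp only [Set.mem_sdiff, Set.mem_insert_iff, Set.mem_singleton_iff]
      constructor
      · rintro ⟨h1 | h1, h2⟩
        · exact Or.inl h1
        · exact Or.inr ⟨h1, h2⟩
      · rintro (h1 | ⟨h1, h2⟩)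
        · exact ⟨Or.inl h1, fun h => hbC (h.symm.trans h1)⟩
        · exact ⟨Or.inr h1, h2⟩
    rw [this, sSup_insert, Submodule.disjoint_def]
    intro x hxb hx
    obtain ⟨c, hc, y, hy, rfl⟩ := Submodule.mem_sup.mp hx
    have hy' : y ∈ sSup 𝓛 := (sSup_le_sSup (Set.sdiff_subset : 𝓛 \ {b} ⊆ 𝓛) : sSup (𝓛 \ {b}) ≤ sSup 𝓛) hy
    have hb' : b ≤ sSup 𝓛 := le_sSup hb
    have hc0 : c = 0 := by
      have h1 : c ∈ sSup 𝓛 := by
        have : c = (c + y) - y := by abel
        rw [this]
        exact Submodule.sub_mem _ (hb' hxb) hy'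
      exact (Submodule.disjoint_def.mp hC) c hc h1
    rw [hc0, zero_add] at hxb ⊢
    exact (Submodule.disjoint_def.mp (h𝓛 hb)) y hxb hy

end cg

section main
variable {R : Type u} [CommRing R] {M : Type u} [AddCommGroup M] [Module R M]
  {ι : Type u} (N : ι → Submodule R M) (P Q : Submodule R M) (hPQ : IsCompl P Q)

/-- the partial sums of the decomposition -/
def MJ (J : Set ι) : Submodule R M := ⨆ i ∈ J, N i

lemma MJ_mono {J J' : Set ι} (h : J ⊆ J') : MJ N J ≤ MJ N J' :=
  biSup_mono h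

lemma MJ_union (J J' : Set ι) : MJ N (J ∪ J') = MJ N J ⊔ MJ N J' :=
  iSup_union

/-- projection to `P` viewed as an endomorphism-like map -/
noncomputable def πP : M →ₗ[R] P := Submodule.projectionOnto P Q hPQ

/-- `J` is closed if `M_J` is stable under the projection to `P` -/
def Closed (J : Set ι) : Prop := ∀ x ∈ MJ N J, (πP P Q hPQ x : M) ∈ MJ N J

/-- the part of `P` inside `M_J` -/
def PJ (J : Set ι) : Submodule R P := (MJ N J).comap P.subtype

lemma PJ_mono {J J' : Set ι} (h : J ⊆ J') : PJ N P J ≤ PJ N P J' :=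
  Submodule.comap_mono (MJ_mono N h)

/-- good pairs -/
def Good (p : Set ι × Set (Submodule R P)) : Prop :=
  Closed N P Q hPQ p.1 ∧ sSupIndep p.2 ∧ sSup p.2 = PJ N P p.1 ∧ ∀ L ∈ p.2, SubCG L

lemma good_chain_ub (c : Set (Set ι × Set (Submodule R P)))
    (hc : c ⊆ {p | Good N P Q hPQ p}) (hchain : IsChain (· ≤ ·) c) :
    ∃ ub ∈ {p | Good N P Q hPQ p}, ∀ z ∈ c, z ≤ ub := by
  rcases c.eq_empty_or_nonempty with rfl | hne
  · refine ⟨(∅, ∅), ⟨?_, sSupIndep_empty, ?_, ?_⟩, fun z hz => absurd hz (Set.notMem_empty z)⟩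
    · intro x hx
      have : MJ N (∅ : Set ι) = ⊥ := by simp [MJ]
      rw [this, Submodule.mem_bot] at hx
      rw [hx, map_zero]
      exact Submodule.zero_mem _
    · have : MJ N (∅ : Set ι) = ⊥ := by simp [MJ]
      simp only [sSup_empty, PJ, this]
      ext x
      simp
    · intro L hL
      exact absurd hL (Set.notMem_empty L)
  · have hne' : Nonempty c := hne.to_subtype
    -- directedness of the family of M_J
    have hdirM : Directed (· ≤ ·) (fun z : c => MJ N z.1.1) := by
      intro a b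
      rcases hchain.total a.2 b.2 with h | h
      · exact ⟨b, MJ_mono N h.1, le_rfl⟩
      · exact ⟨a, le_rfl, MJ_mono N h.1⟩
    have hMJ : MJ N (⋃ z : c, z.1.1) = ⨆ z : c, MJ N z.1.1 := by
      simp only [MJ]
      rw [iSup_iUnion]
    refine ⟨(⋃ z : c, z.1.1, ⋃ z : c, z.1.2), ⟨?_, ?_, ?_, ?_⟩, ?_⟩
    · -- closed
      intro x hx
      rw [hMJ, Submodule.mem_iSup_of_directed _ hdirM] at hx ⊢
      obtain ⟨z, hz⟩ := hx
      exact ⟨z, (hc z.2).1 x hz⟩
    · -- independence
      apply sSupIndep_iUnion_of_directed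
      · intro a b
        rcases hchain.total a.2 b.2 with h | h
        · exact ⟨b, h.2, le_rfl⟩
        · exact ⟨a, le_rfl, h.2⟩
      · intro z
        exact (hc z.2).2.1
    · -- sup
      rw [sSup_iUnion]
      have : ∀ z : c, sSup z.1.2 = PJ N P z.1.1 := fun z => (hc z.2).2.2.1
      simp only [this]
      ext x
      simp only [PJ, Submodule.mem_comap]
      rw [hMJ, Submodule.mem_iSup_of_directed _ hdirM]
      have hdirP : Directed (· ≤ ·) (fun z : c => (MJ N z.1.1).comap P.subtype) := by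
        intro a b
        obtain ⟨d, h1, h2⟩ := hdirM a b
        exact ⟨d, Submodule.comap_mono h1, Submodule.comap_mono h2⟩
      rw [Submodule.mem_iSup_of_directed _ hdirP]
      rfl
    · intro L hL
      obtain ⟨_, ⟨z, rfl⟩, hz⟩ := hL
      exact (hc z.2).2.2.2 L hz
    · intro z hz
      exact ⟨Set.subset_iUnion (fun z : c => z.1.1) ⟨z, hz⟩,
        Set.subset_iUnion (fun z : c => z.1.2) ⟨z, hz⟩⟩

end main

section extend
variable {R : Type u} [CommRing R] {M : Type u} [AddCommGroup M] [Module R M]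
  {ι : Type u} (N : ι → Submodule R M) (P Q : Submodule R M) (hPQ : IsCompl P Q)

lemma πP_coe_of_mem (p : M) (hp : p ∈ P) : (πP P Q hPQ p : M) = p := by
  unfold πP
  rw [Submodule.projectionOnto_apply_of_mem_left hPQ hp]

include hPQ in
lemma extend_good (hindep : iSupIndep N) (htop : iSup N = ⊤) (hcg : ∀ i, SubCG (N i))
    (J : Set ι) (𝓛 : Set (Submodule R P)) (hgood : Good N P Q hPQ (J, 𝓛)) (i : ι) :
    ∃ q : Set ι × Set (Submodule R P), Good N P Q hPQ q ∧ (J, 𝓛) ≤ q ∧ i ∈ q.1 := by
  classical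
  obtain ⟨hclosed, h𝓛indep, h𝓛sup, h𝓛cg⟩ := hgood
  -- supports
  have hsupp : ∀ x : M, ∃ s : Finset ι, x ∈ ⨆ j ∈ s, N j := by
    intro x
    apply Submodule.exists_finset_of_mem_iSup N
    rw [htop]; trivial
  choose supp hsupp using hsupp
  choose S hScount hSspan using hcg
  -- closure operator
  let Φ : Set ι → Set ι := fun A => A ∪ ⋃ a ∈ A, ⋃ g ∈ S a, (supp (πP P Q hPQ g : M) : Set ι)
  let Aseq : ℕ → Set ι := fun n => Φ^[n] {i}
  let A : Set ι := ⋃ n, Aseq n
  have hAseq_succ : ∀ n, Aseq (n + 1) = Φ (Aseq n) := fun n => Function.iterate_succ_apply' Φ n {i}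
  have hAseq_count : ∀ n, (Aseq n).Countable := by
    intro n
    induction n with
    | zero => exact Set.countable_singleton i
    | succ n ih =>
      rw [hAseq_succ]
      refine ih.union (ih.biUnion fun a _ => (hScount a).biUnion fun g _ => ?_)
      exact (Finset.finite_toSet _).countable
  have hAcount : A.Countable := Set.countable_iUnion hAseq_count
  have hiA : i ∈ A := Set.mem_iUnion.mpr ⟨0, rfl⟩
  -- stability of M_A
  have hgenA : ∀ a ∈ A, ∀ g ∈ S a, (πP P Q hPQ g : M) ∈ MJ N A := by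
    intro a ha g hg
    obtain ⟨n, hn⟩ := Set.mem_iUnion.mp ha
    have hsub : (supp (πP P Q hPQ g : M) : Set ι) ⊆ A := by
      intro j hj
      refine Set.mem_iUnion.mpr ⟨n + 1, ?_⟩
      rw [hAseq_succ]
      refine Or.inr ?_
      simp only [Set.mem_iUnion]
      exact ⟨a, hn, g, hg, hj⟩
    exact (biSup_mono (fun j hj => hsub hj) : (⨆ j ∈ supp (πP P Q hPQ g : M), N j) ≤ MJ N A)
      (hsupp _)
  have hstabA : MJ N A ≤ (MJ N A).comap (P.subtype ∘ₗ πP P Q hPQ) := by
    apply iSup₂_le
    intro a ha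
    rw [← hSspan a]
    apply Submodule.span_le.mpr
    intro g hg
    exact hgenA a ha g hg
  -- J ∪ A closed
  have hclosed' : Closed N P Q hPQ (J ∪ A) := by
    intro x hx
    rw [MJ_union] at hx ⊢
    obtain ⟨y, hy, z, hz, rfl⟩ := Submodule.mem_sup.mp hx
    rw [map_add, Submodule.coe_add]
    exact Submodule.add_mem_sup (hclosed y hy) (hstabA hz)
  -- the projection onto M_J
  have hcompl : IsCompl (MJ N J) (MJ N Jᶜ) := by
    constructor
    · exact hindep.disjoint_biSup_biSup disjoint_compl_right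
    · rw [codisjoint_iff, ← MJ_union, Set.union_compl_self]
      simp only [MJ, Set.mem_univ, iSup_pos]
      exact htop
  let eJ : M →ₗ[R] M := (MJ N J).subtype ∘ₗ Submodule.projectionOnto (MJ N J) (MJ N Jᶜ) hcompl
  have heJ_mem : ∀ x, eJ x ∈ MJ N J := fun x => Submodule.coe_mem _
  have heJ_id : ∀ x ∈ MJ N J, eJ x = x := by
    intro x hx
    simp only [eJ, LinearMap.comp_apply, Submodule.subtype_apply]
    rw [Submodule.projectionOnto_apply_of_mem_left hcompl hx]
  -- τ and σ
  let τ : P →ₗ[R] P := πP P Q hPQ ∘ₗ eJ ∘ₗ P.subtype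
  have hτ_mem : ∀ p : P, τ p ∈ PJ N P J := by
    intro p
    show ((πP P Q hPQ (eJ p) : P) : M) ∈ MJ N J
    exact hclosed _ (heJ_mem _)
  have hτ_id : ∀ p : P, p ∈ PJ N P J → τ p = p := by
    intro p hp
    have hp' : (p : M) ∈ MJ N J := hp
    apply Subtype.ext
    show ((πP P Q hPQ (eJ p) : P) : M) = p
    rw [heJ_id _ hp', πP_coe_of_mem P Q hPQ _ p.2]
  let σ : P →ₗ[R] P := LinearMap.id - τ
  have hτσ : ∀ p : P, τ (σ p) = 0 := by
    intro p
    simp only [σ, LinearMap.sub_apply, LinearMap.id_apply, map_sub]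
    rw [hτ_id _ (hτ_mem p), sub_self]
  have hπ_id : ∀ p : P, πP P Q hPQ (p : M) = p := by
    intro p
    apply Subtype.ext
    exact πP_coe_of_mem P Q hPQ _ p.2
  -- the new summand
  let C : Submodule R P := (MJ N A).map (σ ∘ₗ πP P Q hPQ)
  have hCcg : SubCG C :=
    SubCG.map _ (SubCG.biSup A hAcount N (fun a _ => ⟨S a, hScount a, hSspan a⟩))
  have hdisj : Disjoint C (PJ N P J) := by
    rw [Submodule.disjoint_def]
    rintro x ⟨m, _, rfl⟩ hx
    have h1 : τ (σ (πP P Q hPQ m)) = σ (πP P Q hPQ m) := hτ_id _ hx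
    rw [hτσ] at h1
    exact h1.symm
  have hsup : C ⊔ PJ N P J = PJ N P (J ∪ A) := by
    apply le_antisymm
    · apply sup_le
      · rintro _ ⟨m, hm, rfl⟩
        show ((σ (πP P Q hPQ m) : P) : M) ∈ MJ N (J ∪ A)
        simp only [σ, LinearMap.sub_apply, LinearMap.id_apply, Submodule.coe_sub]
        apply Submodule.sub_mem
        · exact MJ_mono N Set.subset_union_right (hstabA hm)
        · exact MJ_mono N Set.subset_union_left (hτ_mem _)
      · exact PJ_mono N P Set.subset_union_left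
    · intro p hp
      have hp' : (p : M) ∈ MJ N (J ∪ A) := hp
      rw [MJ_union] at hp'
      obtain ⟨y, hy, z, hz, hyz⟩ := Submodule.mem_sup.mp hp'
      have h1 : p = πP P Q hPQ y + πP P Q hPQ z := by
        rw [← map_add, hyz, hπ_id]
      have h2 : πP P Q hPQ z = σ (πP P Q hPQ z) + τ (πP P Q hPQ z) := by
        simp only [σ, LinearMap.sub_apply, LinearMap.id_apply, sub_add_cancel]
      rw [h1, h2]
      have hC : σ (πP P Q hPQ z) ∈ C := ⟨z, hz, rfl⟩
      have hy' : πP P Q hPQ y ∈ PJ N P J := hclosed y hy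
      have : πP P Q hPQ y + (σ (πP P Q hPQ z) + τ (πP P Q hPQ z)) =
          σ (πP P Q hPQ z) + (πP P Q hPQ y + τ (πP P Q hPQ z)) := by abel
      rw [this]
      exact Submodule.add_mem_sup hC (Submodule.add_mem _ hy' (hτ_mem _))
  refine ⟨(J ∪ A, insert C 𝓛), ⟨hclosed', ?_, ?_, ?_⟩, ⟨Set.subset_union_left, Set.subset_insert C 𝓛⟩,
    Or.inr hiA⟩
  · apply sSupIndep_insert 𝓛 C h𝓛indep
    show Disjoint C (sSup 𝓛)
    have : sSup 𝓛 = PJ N P J := h𝓛sup
    rw [this]
    exact hdisj
  · show sSup (insert C 𝓛) = PJ N P (J ∪ A)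
    have : sSup 𝓛 = PJ N P J := h𝓛sup
    rw [sSup_insert, this, hsup]
  · intro L hL
    rcases hL with rfl | hL
    · exact hCcg
    · exact h𝓛cg L hL

end extend

/-- If a module is an internal direct sum of countably generated submodules, then any direct summand of
it is again an internal direct sum of countably generated submodules. -/
theorem result (R : Type u) [CommRing R] (M : Type u)
    [AddCommGroup M] [Module R M] (ι : Type u) (N : ι → Submodule R M) (hN : DirectSum.IsInternal N)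
    (hc : ∀ i, CAlg.IsCountablyGenerated R (N i)) (P Q : Submodule R M) (hPQ : IsCompl P Q) :
    ∃ (κ : Type u) (L : κ → Submodule R P), DirectSum.IsInternal L ∧
      ∀ k, CAlg.IsCountablyGenerated R (L k) := by
  have hindep : iSupIndep N := hN.submodule_iSupIndep
  have htop : iSup N = ⊤ := hN.submodule_iSup_eq_top
  have hcg : ∀ i, SubCG (N i) := fun i => subCG_of_isCountablyGenerated _ (hc i)
  obtain ⟨m, hm⟩ := zorn_le₀ {p | Good N P Q hPQ p} (good_chain_ub N P Q hPQ)
  obtain ⟨J, 𝓛⟩ := m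
  have hgood : Good N P Q hPQ (J, 𝓛) := hm.prop
  have hJ : J = Set.univ := by
    by_contra hne
    obtain ⟨i, hi⟩ : ∃ i, i ∉ J := by
      rw [Set.eq_univ_iff_forall] at hne
      push Not at hne
      exact hne
    obtain ⟨q, hq, hle, hiq⟩ := extend_good N P Q hPQ hindep htop hcg J 𝓛 hgood i
    have := hm.le_of_ge hq hle
    exact hi (this.1 hiq)
  subst hJ
  obtain ⟨_, h𝓛indep, h𝓛sup, h𝓛cg⟩ := hgood
  have hPJ : PJ N P Set.univ = ⊤ := by
    ext x
    simp [PJ, MJ, htop]
  refine ⟨𝓛, fun k => k.1, ?_, fun k => isCountablyGenerated_of_subCG _ (h𝓛cg k.1 k.2)⟩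
  refine @DirectSum.isInternal_submodule_of_iSupIndep_of_iSup_eq_top R _ _
    (fun a b => Classical.propDecidable (a = b)) _ _ _ _ ?_ ?_
  · exact (sSupIndep_iff 𝓛).mp h𝓛indep
  · have : sSup 𝓛 = PJ N P Set.univ := h𝓛sup
    rw [← sSup_eq_iSup', this, hPJ]

end Groth.Agent.S0583
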