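import Groth.Statements.S6338
-- import your own Groth.Agent.* helpers here

set_option autoImplicit false
universe u
open CAlg

namespace Groth.Agent.S6338

open TensorProduct in
lemma piRightHom_naturality (R : Type u) [CommRing R] {M₁ M₂ : Type u}
    [AddCommGroup M₁] [Module R M₁] [AddCommGroup M₂] [Module R M₂] (f : M₁ →ₗ[R] M₂)
    (ι : Type u) (Q : ι → Type u) [∀ i, AddCommGroup (Q i)] [∀ i, Module R (Q i)]
    (x : M₁ ⊗[R] (∀ i, Q i)) (i : ι) :
    TensorProduct.piRightHom R R M₂ Q (f.rTensor (∀ i, Q i) x) i =
      f.rTensor (Q i) (TensorProduct.piRightHom R R M₁ Q x i) := by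
  induction x using TensorProduct.induction_on with
  | zero => simp
  | tmul m q => simp
  | add x y hx hy => simp only [map_add, Pi.add_apply, hx, hy]

/-- Let M₁ → M₂ be a universally injective map of modules over a commutative ring (equivalently the
first map of a universally exact short exact sequence). If M₂ is Mittag-Leffler then so is M₁. -/
theorem result (R : Type u) [CommRing R] {M₁ M₂ : Type u}
    [AddCommGroup M₁] [Module R M₁] [AddCommGroup M₂] [Module R M₂] (f : M₁ →ₗ[R] M₂)
    (hf : CAlgX.UniversallyInjective R f) (h₂ : CAlg.IsMittagLeffler R M₂) :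
    CAlg.IsMittagLeffler R M₁ := by
  intro ι Q _ _
  intro x y hxy
  apply hf (∀ i, Q i)
  apply h₂ ι Q
  funext i
  rw [piRightHom_naturality, piRightHom_naturality, hxy]

end Groth.Agent.S6338
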