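import Groth.Statements.S6337
import Groth.Agent.S6338
import Mathlib.LinearAlgebra.DirectSum.TensorProduct

set_option autoImplicit false
universe u
open CAlg

namespace Groth.Agent.S6337

open TensorProduct Classical in
lemma directSumLeft_apply_eq (R : Type u) [CommRing R] {ι : Type u} (M : ι → Type u)
    [∀ i, AddCommGroup (M i)] [∀ i, Module R (M i)] (P : Type u) [AddCommGroup P] [Module R P]
    (x : (DirectSum ι M) ⊗[R] P) (i : ι) :
    TensorProduct.directSumLeft R R M P x i = (DirectSum.component R ι M i).rTensor P x := by
  induction x using TensorProduct.induction_on with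
  | zero => simp
  | tmul m p =>
    rw [TensorProduct.directSumLeft_tmul, LinearMap.rTensor_tmul, DirectSum.apply_eq_component R]
  | add x y hx hy =>
    rw [map_add, DirectSum.add_apply, hx, hy, map_add]

open TensorProduct Classical in
lemma eq_zero_of_component (R : Type u) [CommRing R] {ι : Type u} (M : ι → Type u)
    [∀ i, AddCommGroup (M i)] [∀ i, Module R (M i)] (P : Type u) [AddCommGroup P] [Module R P]
    (x : (DirectSum ι M) ⊗[R] P)
    (hx : ∀ i, (DirectSum.component R ι M i).rTensor P x = 0) : x = 0 := by
  apply (TensorProduct.directSumLeft R R M P).injective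
  rw [map_zero]
  apply DFinsupp.ext
  intro i
  have := directSumLeft_apply_eq R M P x i
  rw [hx i] at this
  exact this

/-- A direct sum of modules is Mittag-Leffler if and only if each summand is Mittag-Leffler. -/
theorem result (R : Type u) [CommRing R] {ι : Type u} (M : ι → Type u)
    [∀ i, AddCommGroup (M i)] [∀ i, Module R (M i)] :
    CAlg.IsMittagLeffler R (DirectSum ι M) ↔ ∀ i, CAlg.IsMittagLeffler R (M i) := by
  classical
  constructor
  · intro h i
    apply Groth.Agent.S6338.result R (DirectSum.lof R ι M i) _ h
    intro Q _ _
    apply Function.LeftInverse.injective (g := (DirectSum.component R ι M i).rTensor Q)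
    intro z
    rw [← LinearMap.comp_apply, ← LinearMap.rTensor_comp, DirectSum.component_comp_lof_same,
      LinearMap.rTensor_id, LinearMap.id_apply]
  · intro h κ Q _ _
    rw [injective_iff_map_eq_zero]
    intro x hx
    apply eq_zero_of_component R M
    intro i
    apply h i κ Q
    funext k
    rw [Groth.Agent.S6338.piRightHom_naturality, hx]
    simp

end Groth.Agent.S6337
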