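import Groth.Statements.S6340
import Groth.Agent.S6338
import Mathlib.LinearAlgebra.TensorProduct.RightExactness

set_option autoImplicit false
universe u
open CAlg

namespace Groth.Agent.S6340

open TensorProduct in
lemma exists_sum_tmul {R : Type u} [CommRing R] {N Q : Type u} [AddCommGroup N] [Module R N]
    [AddCommGroup Q] [Module R Q] (s : Finset N) (hs : Submodule.span R (s : Set N) = ⊤)
    (z : N ⊗[R] Q) : ∃ q : N → Q, z = ∑ n ∈ s, n ⊗ₜ[R] q n := by
  induction z using TensorProduct.induction_on with
  | zero => exact ⟨fun _ => 0, by simp⟩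
  | tmul n q =>
    have hn : n ∈ Submodule.span R (s : Set N) := by rw [hs]; trivial
    obtain ⟨c, hc⟩ := (Submodule.mem_span_finset).mp hn
    refine ⟨fun m => c m • q, ?_⟩
    rw [← hc.2, TensorProduct.sum_tmul]
    refine Finset.sum_congr rfl fun m _ => ?_
    rw [TensorProduct.smul_tmul]
  | add x y hx hy =>
    obtain ⟨q₁, h₁⟩ := hx
    obtain ⟨q₂, h₂⟩ := hy
    refine ⟨fun m => q₁ m + q₂ m, ?_⟩
    rw [h₁, h₂, ← Finset.sum_add_distrib]
    refine Finset.sum_congr rfl fun m _ => ?_
    rw [TensorProduct.tmul_add]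

open TensorProduct in
lemma piRightHom_surjective_of_fg {R : Type u} [CommRing R] {N : Type u} [AddCommGroup N]
    [Module R N] (hN : (⊤ : Submodule R N).FG) (ι : Type u) (Q : ι → Type u)
    [∀ i, AddCommGroup (Q i)] [∀ i, Module R (Q i)] :
    Function.Surjective (TensorProduct.piRightHom R R N Q) := by
  obtain ⟨s, hs⟩ := hN
  intro z
  choose q hq using fun i => exists_sum_tmul s hs (z i)
  refine ⟨∑ n ∈ s, n ⊗ₜ[R] (fun i => q i n), ?_⟩
  funext i
  rw [map_sum, Finset.sum_apply, hq i]
  rfl

/-- Let M₁ → M₂ → M₃ → 0 be exact with M₁ finitely generated; if M₂ is Mittag-Leffler then so is M₃.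
Equivalently, as stated here: the quotient of a Mittag-Leffler module by a finitely generated
submodule is Mittag-Leffler. -/
theorem result (R : Type u) [CommRing R] {M : Type u} [AddCommGroup M] [Module R M]
    (N : Submodule R M) (hN : N.FG) (hM : CAlg.IsMittagLeffler R M) :
    CAlg.IsMittagLeffler R (M ⧸ N) := by
  intro ι Q _ _
  rw [injective_iff_map_eq_zero]
  intro x hx
  obtain ⟨y, rfl⟩ := LinearMap.rTensor_surjective (∀ i, Q i) (Submodule.mkQ_surjective N) x
  have hNfg : (⊤ : Submodule R N).FG := by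
    rw [← Module.finite_def]
    exact Module.Finite.of_fg hN
  have hw : ∀ i, ∃ w : TensorProduct R N (Q i),
      (N.subtype).rTensor (Q i) w = TensorProduct.piRightHom R R M Q y i := by
    intro i
    have h1 : (N.mkQ).rTensor (Q i) (TensorProduct.piRightHom R R M Q y i) = 0 := by
      rw [← Groth.Agent.S6338.piRightHom_naturality, hx]
      rfl
    have h2 : TensorProduct.piRightHom R R M Q y i ∈
        LinearMap.range ((N.subtype).rTensor (Q i)) := by
      rw [← rTensor_mkQ]; exact h1
    exact h2
  choose w hw using hw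
  obtain ⟨v, hv⟩ := piRightHom_surjective_of_fg hNfg ι Q w
  have hy : y = (N.subtype).rTensor (∀ i, Q i) v := by
    apply hM ι Q
    funext i
    rw [Groth.Agent.S6338.piRightHom_naturality, hv, hw]
  rw [hy, ← LinearMap.comp_apply, ← LinearMap.rTensor_comp]
  have : N.mkQ ∘ₗ N.subtype = 0 := by
    ext n
    simp
  rw [this, LinearMap.rTensor_zero, LinearMap.zero_apply]

end Groth.Agent.S6340
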