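import Groth.Statements.S6345
import Groth.Agent.S6340
import Mathlib.LinearAlgebra.TensorProduct.Pi
import Mathlib.LinearAlgebra.TensorProduct.Tower
import Mathlib.RingTheory.Flat.Basic

set_option autoImplicit false
universe u
open CAlg

namespace Groth.Agent.S6345

open TensorProduct

/-- The ring itself is Mittag-Leffler. -/
lemma isMittagLeffler_self (R : Type u) [CommRing R] : CAlg.IsMittagLeffler R R := by
  intro ι Q _ _
  rw [injective_iff_map_eq_zero]
  intro t ht
  have h1 : t = (1 : R) ⊗ₜ[R] (TensorProduct.lid R (∀ i, Q i) t) := by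
    have := (TensorProduct.lid R (∀ i, Q i)).symm_apply_apply t
    rw [TensorProduct.lid_symm_apply] at this
    exact this.symm
  rw [h1] at ht ⊢
  have h2 : TensorProduct.lid R (∀ i, Q i) t = 0 := by
    funext i
    have := congrFun ht i
    rw [TensorProduct.piRightHom_tmul] at this
    have := congrArg (TensorProduct.lid R (Q i)) this
    simpa using this
  rw [h2, TensorProduct.tmul_zero]

/-- Transitivity-type lemma: if `M` is Mittag-Leffler over `S` and the comparison maps for `S` over
`R` stay injective after tensoring with `M`, then `M` is Mittag-Leffler over `R`. -/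
lemma ml_of_tower (R S : Type u) [CommRing R] [CommRing S] [Algebra R S]
    (M : Type u) [AddCommGroup M] [Module S M] [Module R M] [IsScalarTower R S M]
    (hS : ∀ (ι : Type u) (Q : ι → Type u) [∀ i, AddCommGroup (Q i)] [∀ i, Module R (Q i)],
      Function.Injective (LinearMap.lTensor M (TensorProduct.piRightHom R S S Q)))
    (hM : CAlg.IsMittagLeffler S M) :
    CAlg.IsMittagLeffler R M := by
  intro ι Q _ _
  let e := AlgebraTensorModule.cancelBaseChange R S S M (∀ i, Q i)
  let f1 : M ⊗[S] (S ⊗[R] (∀ i, Q i)) →ₗ[S] M ⊗[S] (∀ i, S ⊗[R] Q i) :=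
    LinearMap.lTensor M (TensorProduct.piRightHom R S S Q)
  let f2 : M ⊗[S] (∀ i, S ⊗[R] Q i) →ₗ[S] ∀ i, M ⊗[S] (S ⊗[R] Q i) :=
    TensorProduct.piRightHom S S M (fun i => S ⊗[R] Q i)
  have hf1 : Function.Injective f1 := hS ι Q
  have hf2 : Function.Injective f2 := hM ι (fun i => S ⊗[R] Q i)
  have hcomm : ∀ t : M ⊗[S] (S ⊗[R] (∀ i, Q i)), ∀ i,
      AlgebraTensorModule.cancelBaseChange R S S M (Q i) (f2 (f1 t) i) =
        TensorProduct.piRightHom R R M Q (e t) i := by
    intro t i
    induction t using TensorProduct.induction_on with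
    | zero => simp
    | tmul m y =>
      induction y using TensorProduct.induction_on with
      | zero => simp
      | tmul s q => simp [f1, f2, e]
      | add x y hx hy => simp only [tmul_add, map_add, Pi.add_apply, hx, hy]
    | add x y hx hy => simp only [map_add, Pi.add_apply, hx, hy]
  intro a b hab
  obtain ⟨a', rfl⟩ := e.surjective a
  obtain ⟨b', rfl⟩ := e.surjective b
  congr 1
  apply hf1
  apply hf2
  funext i
  apply (AlgebraTensorModule.cancelBaseChange R S S M (Q i)).injective
  rw [hcomm, hcomm, hab]

lemma piRightHom_eq (R S : Type u) [CommRing R] [CommRing S] [Algebra R S]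
    (ι : Type u) (Q : ι → Type u) [∀ i, AddCommGroup (Q i)] [∀ i, Module R (Q i)]
    (t : S ⊗[R] (∀ i, Q i)) :
    TensorProduct.piRightHom R R S Q t = TensorProduct.piRightHom R S S Q t := by
  induction t using TensorProduct.induction_on with
  | zero => simp
  | tmul s q => simp
  | add x y hx hy => simp only [map_add, hx, hy]

/-- Let I be a finitely generated ideal of a commutative ring R and M an R/I-module. Then M is
Mittag-Leffler over R if and only if it is Mittag-Leffler over R/I. -/
theorem result (R : Type u) [CommRing R] (I : Ideal R) (hI : I.FG)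
    (M : Type u) [AddCommGroup M] [Module (R ⧸ I) M] [Module R M] [IsScalarTower R (R ⧸ I) M] :
    CAlg.IsMittagLeffler R M ↔ CAlg.IsMittagLeffler (R ⧸ I) M := by
  constructor
  · intro hM ι Q _ _
    let _ : ∀ i, Module R (Q i) := fun i => Module.compHom (Q i) (Ideal.Quotient.mk I)
    have : ∀ i, IsScalarTower R (R ⧸ I) (Q i) := fun i =>
      ⟨fun r s q => by
        rw [Algebra.smul_def, mul_smul]; rfl⟩
    have hc : ∀ (P : Type u) [AddCommGroup P] [Module (R ⧸ I) P] [Module R P]
        [IsScalarTower R (R ⧸ I) P], TensorProduct.CompatibleSMul R (R ⧸ I) M P := by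
      intro P _ _ _ _
      exact TensorProduct.CompatibleSMul.of_algebraMap_surjective M P
        Ideal.Quotient.mk_surjective
    have := hc (∀ i, Q i)
    have := fun i => hc (Q i)
    -- comparison maps
    have hinj : ∀ (P : Type u) [AddCommGroup P] [Module (R ⧸ I) P] [Module R P]
        [IsScalarTower R (R ⧸ I) P] [TensorProduct.CompatibleSMul R (R ⧸ I) M P],
        Function.Injective (TensorProduct.mapOfCompatibleSMul R (R ⧸ I) R M P) := by
      intro P _ _ _ _ _
      exact (TensorProduct.equivOfCompatibleSMul R (R ⧸ I) R M P).injective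
    have hcomm : ∀ (t : M ⊗[R ⧸ I] (∀ i, Q i)) (i : ι),
        TensorProduct.piRightHom R R M Q
          (TensorProduct.mapOfCompatibleSMul R (R ⧸ I) R M (∀ i, Q i) t) i =
        TensorProduct.mapOfCompatibleSMul R (R ⧸ I) R M (Q i)
          (TensorProduct.piRightHom (R ⧸ I) (R ⧸ I) M Q t i) := by
      intro t i
      induction t using TensorProduct.induction_on with
      | zero => simp
      | tmul m q => simp
      | add x y hx hy => simp only [map_add, Pi.add_apply, hx, hy]
    intro a b hab
    apply hinj (∀ i, Q i)
    apply hM ι Q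
    funext i
    rw [hcomm, hcomm, hab]
  · intro hM
    apply ml_of_tower R (R ⧸ I) M ?_ hM
    intro ι Q _ _
    -- the comparison map for R/I is bijective
    have hML : CAlg.IsMittagLeffler R (R ⧸ I) :=
      Groth.Agent.S6340.result R I hI (isMittagLeffler_self R)
    have hfg : (⊤ : Submodule R (R ⧸ I)).FG := by
      rw [← Module.finite_def]; infer_instance
    have hbij : Function.Bijective (TensorProduct.piRightHom R (R ⧸ I) (R ⧸ I) Q) := by
      constructor
      · intro a b hab
        apply hML ι Q
        rw [piRightHom_eq, piRightHom_eq, hab]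
      · intro z
        obtain ⟨y, hy⟩ := Groth.Agent.S6340.piRightHom_surjective_of_fg hfg ι Q z
        exact ⟨y, by rw [← piRightHom_eq, hy]⟩
    let g := LinearEquiv.ofBijective (TensorProduct.piRightHom R (R ⧸ I) (R ⧸ I) Q) hbij
    have : LinearMap.lTensor M (TensorProduct.piRightHom R (R ⧸ I) (R ⧸ I) Q) =
        (LinearEquiv.lTensor M g).toLinearMap := by
      rw [LinearEquiv.coe_lTensor]
      rfl
    rw [this]
    exact (LinearEquiv.lTensor M g).injective

end Groth.Agent.S6345
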