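import Groth.Statements.S6344
import Groth.Agent.S6345
import Groth.Agent.S6337
import Mathlib.RingTheory.Finiteness.ModuleFinitePresentation
import Mathlib.Algebra.Module.FinitePresentation
import Mathlib.LinearAlgebra.FreeModule.Basic

set_option autoImplicit false
universe u
open CAlg

namespace Groth.Agent.S6344

open TensorProduct

/-- Mittag-Leffler is invariant under linear equivalences. -/
lemma ml_of_equiv (R : Type u) [CommRing R] {M N : Type u} [AddCommGroup M] [Module R M]
    [AddCommGroup N] [Module R N] (e : M ≃ₗ[R] N) (hN : CAlg.IsMittagLeffler R N) :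
    CAlg.IsMittagLeffler R M := by
  apply Groth.Agent.S6338.result R e.toLinearMap ?_ hN
  intro Q _ _
  have : LinearMap.rTensor Q e.toLinearMap = (LinearEquiv.rTensor Q e).toLinearMap := by
    rw [LinearEquiv.coe_rTensor]
  rw [this]
  exact (LinearEquiv.rTensor Q e).injective

/-- Free modules are Mittag-Leffler. -/
lemma ml_of_free (R : Type u) [CommRing R] (L : Type u) [AddCommGroup L] [Module R L]
    [Module.Free R L] : CAlg.IsMittagLeffler R L := by
  let b := Module.Free.chooseBasis R L
  have h1 : CAlg.IsMittagLeffler R (DirectSum (Module.Free.ChooseBasisIndex R L) (fun _ => R)) :=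
    (Groth.Agent.S6337.result R (fun _ : Module.Free.ChooseBasisIndex R L => R)).mpr
      (fun _ => Groth.Agent.S6345.isMittagLeffler_self R)
  exact ml_of_equiv R (b.repr ≪≫ₗ finsuppLEquivDirectSum R R _) h1

/-- Finitely presented modules are Mittag-Leffler. -/
lemma ml_of_finitePresentation (R : Type u) [CommRing R] (M : Type u) [AddCommGroup M] [Module R M]
    [Module.FinitePresentation R M] : CAlg.IsMittagLeffler R M := by
  obtain ⟨L, _, _, K, e, hfree, _, hK⟩ := Module.FinitePresentation.equiv_quotient.{u, u} R M
  exact ml_of_equiv R e (Groth.Agent.S6340.result R K hK (ml_of_free R L))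

/-- Let R → S be a finite and finitely presented ring map and M an S-module. If M is Mittag-Leffler over
S then M is Mittag-Leffler over R. -/
theorem result (R S : Type u) [CommRing R] [CommRing S]
    [Algebra R S] [Module.Finite R S] [Algebra.FinitePresentation R S]
    (M : Type u) [AddCommGroup M] [Module S M] [Module R M] [IsScalarTower R S M]
    (hM : CAlg.IsMittagLeffler S M) : CAlg.IsMittagLeffler R M := by
  apply Groth.Agent.S6345.ml_of_tower R S M ?_ hM
  intro ι Q _ _
  have : Module.FinitePresentation R S :=
    Module.FinitePresentation.of_finite_of_finitePresentation R S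
  have hML : CAlg.IsMittagLeffler R S := ml_of_finitePresentation R S
  have hfg : (⊤ : Submodule R S).FG := by
    rw [← Module.finite_def]; infer_instance
  have hbij : Function.Bijective (TensorProduct.piRightHom R S S Q) := by
    constructor
    · intro a b hab
      apply hML ι Q
      rw [Groth.Agent.S6345.piRightHom_eq, Groth.Agent.S6345.piRightHom_eq, hab]
    · intro z
      obtain ⟨y, hy⟩ := Groth.Agent.S6340.piRightHom_surjective_of_fg hfg ι Q z
      exact ⟨y, by rw [← Groth.Agent.S6345.piRightHom_eq, hy]⟩
  let g := LinearEquiv.ofBijective (TensorProduct.piRightHom R S S Q) hbij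
  have : LinearMap.lTensor M (TensorProduct.piRightHom R S S Q) =
      (LinearEquiv.lTensor M g).toLinearMap := by
    rw [LinearEquiv.coe_lTensor]
    rfl
  rw [this]
  exact (LinearEquiv.lTensor M g).injective

end Groth.Agent.S6344
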