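import Groth.Statements.S0584
import Groth.Agent.Lib.CtblProjective
import Groth.Agent.S0583
import Groth.Agent.S6344
import Mathlib.LinearAlgebra.LinearIndependent.Lemmas
import Mathlib.LinearAlgebra.Finsupp.Span
import Mathlib.RingTheory.Flat.Basic

set_option autoImplicit false
universe u
open scoped Classical
open CAlg

namespace Groth.Agent.S0584

/-- A retract of a Mittag-Leffler module is Mittag-Leffler. -/
lemma ml_of_retract {R : Type u} [CommRing R] {P M : Type u} [AddCommGroup P] [Module R P]
    [AddCommGroup M] [Module R M] (i : P →ₗ[R] M) (r : M →ₗ[R] P) (h : r ∘ₗ i = LinearMap.id)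
    (hM : CAlg.IsMittagLeffler R M) : CAlg.IsMittagLeffler R P := by
  apply Groth.Agent.S6338.result R i ?_ hM
  intro Q _ _
  apply Function.LeftInverse.injective (g := r.rTensor Q)
  intro x
  rw [← LinearMap.comp_apply, ← LinearMap.rTensor_comp, h, LinearMap.rTensor_id,
    LinearMap.id_apply]

/-- retraction onto a summand of an internal direct sum -/
lemma exists_retraction {R : Type u} [CommRing R] {M : Type u} [AddCommGroup M] [Module R M]
    {ι : Type u} (N : ι → Submodule R M) (hN : DirectSum.IsInternal N) (i : ι) :
    ∃ r : M →ₗ[R] N i, r ∘ₗ (N i).subtype = LinearMap.id := by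
  let e : (DirectSum ι fun i => N i) ≃ₗ[R] M := LinearEquiv.ofBijective (DirectSum.coeLinearMap N) hN
  refine ⟨DirectSum.component R ι (fun i => N i) i ∘ₗ e.symm.toLinearMap, ?_⟩
  ext x
  have : e.symm (x : M) = DirectSum.lof R ι (fun i => N i) i x := by
    rw [LinearEquiv.symm_apply_eq]
    show (x : M) = DirectSum.coeLinearMap N (DirectSum.lof R ι (fun i => N i) i x)
    rw [DirectSum.coeLinearMap_lof]
  simp [this]

/-- Projectivity of a module is equivalent to the conjunction of three conditions — flatness, the
Mittag-Leffler property, and being an internal direct sum of countably generated submodules. -/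
theorem result (R : Type u) [CommRing R] (M : Type u)
    [AddCommGroup M] [Module R M] :
    Module.Projective R M ↔ (Module.Flat R M ∧ CAlg.IsMittagLeffler R M ∧
      ∃ (ι : Type u) (N : ι → Submodule R M), DirectSum.IsInternal N ∧
        ∀ i, CAlg.IsCountablyGenerated R (N i)) := by
  constructor
  · intro hP
    obtain ⟨s, hs⟩ := Module.projective_def'.mp hP
    set π : (M →₀ R) →ₗ[R] M := Finsupp.linearCombination R id with hπ
    have hπs : ∀ m, π (s m) = m := fun m => LinearMap.congr_fun hs m
    refine ⟨inferInstance, ml_of_retract s π hs (Groth.Agent.S6344.ml_of_free R (M →₀ R)), ?_⟩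
    -- Kaplansky
    let N : M → Submodule R (M →₀ R) := fun i => LinearMap.range (Finsupp.lsingle (R := R) (M := R) i)
    have hN : DirectSum.IsInternal N :=
      DirectSum.isInternal_submodule_of_iSupIndep_of_iSup_eq_top
        (iSupIndep_range_lsingle M R R) Finsupp.iSup_lsingle_range
    have hc : ∀ i, CAlg.IsCountablyGenerated R (N i) := by
      intro i
      apply Groth.Agent.S0583.isCountablyGenerated_of_subCG
      refine ⟨{Finsupp.single i 1}, Set.countable_singleton _, ?_⟩
      ext x
      rw [Submodule.mem_span_singleton]
      constructor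
      · rintro ⟨c, rfl⟩
        exact ⟨c, by simp⟩
      · rintro ⟨c, rfl⟩
        exact ⟨c, by simp⟩
    have hPQ : IsCompl (LinearMap.range s) (LinearMap.ker π) := by
      constructor
      · rw [Submodule.disjoint_def]
        rintro x ⟨m, rfl⟩ hx
        rw [LinearMap.mem_ker, hπs] at hx
        rw [hx, map_zero]
      · rw [codisjoint_iff, eq_top_iff]
        intro x _
        rw [Submodule.mem_sup]
        refine ⟨s (π x), ⟨_, rfl⟩, x - s (π x), ?_, by abel⟩
        rw [LinearMap.mem_ker, map_sub, hπs, sub_self]
    obtain ⟨κ, L, hL, hLc⟩ := Groth.Agent.S0583.result R (M →₀ R) M N hN hc _ _ hPQ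
    have hsinj : Function.Injective s := fun a b hab => by
      rw [← hπs a, ← hπs b, hab]
    let e : M ≃ₗ[R] LinearMap.range s := LinearEquiv.ofInjective s hsinj
    refine ⟨κ, fun k => (L k).map e.symm.toLinearMap, ?_, ?_⟩
    · apply DirectSum.isInternal_submodule_of_iSupIndep_of_iSup_eq_top
      · exact LinearMap.iSupIndep_map _ e.symm.injective hL.submodule_iSupIndep
      · rw [← Submodule.map_iSup, hL.submodule_iSup_eq_top, Submodule.map_top,
          LinearMap.range_eq_top]
        exact e.symm.surjective
    · intro k
      apply Groth.Agent.S0583.isCountablyGenerated_of_subCG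
      have h0 := hLc k
      have h1 := Groth.Agent.S0583.subCG_of_isCountablyGenerated (R := R) (X := LinearMap.range s) (L k) h0
      exact Groth.Agent.S0583.SubCG.map e.symm.toLinearMap h1
  · rintro ⟨hflat, hML, ι, N, hN, hc⟩
    have hproj : ∀ i, Module.Projective R (N i) := by
      intro i
      obtain ⟨r, hr⟩ := exists_retraction N hN i
      have : Module.Flat R (N i) := Module.Flat.of_retract (N i).subtype r hr
      exact Groth.Agent.Lib.CtblProjective.projective_of_countablyGenerated
        (ml_of_retract (N i).subtype r hr hML) (hc i)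
    let e : (DirectSum ι fun i => N i) ≃ₗ[R] M := LinearEquiv.ofBijective (DirectSum.coeLinearMap N) hN
    exact Module.Projective.of_equiv' e

end Groth.Agent.S0584
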