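import Groth.Statements.S0582
import Groth.Agent.S0584
import Mathlib.RingTheory.Nakayama
import Mathlib.LinearAlgebra.Finsupp.LinearCombination
import Mathlib.LinearAlgebra.Pi
import Mathlib.LinearAlgebra.DFinsupp
import Mathlib.LinearAlgebra.DirectSum.Basis
import Mathlib.Algebra.DirectSum.Module
import Mathlib.LinearAlgebra.Projection
import Mathlib.LinearAlgebra.FreeModule.Basic
import Mathlib.RingTheory.OrzechProperty
import Mathlib.RingTheory.FiniteType
import Mathlib.RingTheory.LocalRing.MaximalIdeal.Basic
import Mathlib.Algebra.Module.Projective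
import Mathlib.LinearAlgebra.FreeModule.Basic
import Mathlib.LinearAlgebra.Isomorphisms
import Mathlib.RingTheory.Finiteness.Basic
import Mathlib.LinearAlgebra.Matrix.InvariantBasisNumber

set_option autoImplicit false
universe u
open CAlg

namespace Groth.Agent.S0582

section local_
variable {R : Type u} [CommRing R] [IsLocalRing R]

/-- A finitely generated ideal of a local ring has a generating finset such that every linear
relation among the generators has all coefficients in the maximal ideal. -/
lemma exists_minimal_generators (I : Ideal R) (hI : I.FG) :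
    ∃ s : Finset R, Ideal.span (s : Set R) = I ∧
      ∀ c : s → R, ∑ b : s, c b * (b : R) = 0 → ∀ b, c b ∈ IsLocalRing.maximalIdeal R := by
  classical
  have hex : ∃ n : ℕ, ∃ s : Finset R, s.card = n ∧ Ideal.span (s : Set R) = I := by
    obtain ⟨s, hs⟩ := hI
    exact ⟨s.card, s, rfl, hs⟩
  obtain ⟨s, hcard, hs⟩ := Nat.find_spec hex
  refine ⟨s, hs, ?_⟩
  intro c hc j
  by_contra hj
  rw [IsLocalRing.notMem_maximalIdeal] at hj
  obtain ⟨uj, huj⟩ := hj
  -- j lies in the span of the others
  have hjmem : (j : R) ∈ Ideal.span ((s.erase j : Finset R) : Set R) := by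
    have h1 : c j * (j : R) = - ∑ b ∈ Finset.univ.erase j, c b * (b : R) := by
      rw [← Finset.add_sum_erase Finset.univ _ (Finset.mem_univ j)] at hc
      exact eq_neg_of_add_eq_zero_left hc
    have h2 : (j : R) = ↑uj⁻¹ * (c j * (j : R)) := by
      rw [← mul_assoc, ← huj, Units.inv_mul, one_mul]
    have h3 : (j : R) = ↑uj⁻¹ * (- ∑ b ∈ Finset.univ.erase j, c b * (b : R)) := by
      rw [← h1]; exact h2
    have h4 : ↑uj⁻¹ * (- ∑ b ∈ Finset.univ.erase j, c b * (b : R)) ∈
        Ideal.span ((s.erase j : Finset R) : Set R) := by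
      apply Ideal.mul_mem_left
      apply Ideal.neg_mem_iff _ |>.mpr
      refine Submodule.sum_mem _ ?_
      intro b hb
      apply Ideal.mul_mem_left
      apply Ideal.subset_span
      rw [Finset.mem_erase] at hb
      simp only [Finset.coe_erase, Set.mem_sdiff, Finset.mem_coe, Set.mem_singleton_iff]
      exact ⟨b.2, fun h => hb.1 (Subtype.ext h)⟩
    rwa [← h3] at h4
  have hspan : Ideal.span ((s.erase j : Finset R) : Set R) = I := by
    apply le_antisymm
    · rw [← hs]
      apply Ideal.span_mono
      simp
    · rw [← hs, Ideal.span_le]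
      intro b hb
      by_cases hbj : b = j
      · rw [hbj]; exact hjmem
      · apply Ideal.subset_span
        simp only [Finset.coe_erase, Set.mem_sdiff, Finset.mem_coe, Set.mem_singleton_iff]
        exact ⟨hb, hbj⟩
  have hlt : (s.erase j).card < Nat.find hex := by
    rw [← hcard, Finset.card_erase_of_mem j.2]
    have : 0 < s.card := Finset.card_pos.mpr ⟨j, j.2⟩
    omega
  exact Nat.find_min hex hlt ⟨s.erase j, rfl, hspan⟩

omit [IsLocalRing R] in
/-- split injections give complements -/
lemma isCompl_range_ker {A B : Type u} [AddCommGroup A] [Module R A] [AddCommGroup B] [Module R B]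
    (i : A →ₗ[R] B) (r : B →ₗ[R] A) (h : ∀ a, r (i a) = a) :
    IsCompl (LinearMap.range i) (LinearMap.ker r) := by
  constructor
  · rw [Submodule.disjoint_def]
    rintro x ⟨m, rfl⟩ hx
    rw [LinearMap.mem_ker, h] at hx
    rw [hx, map_zero]
  · rw [codisjoint_iff, eq_top_iff]
    intro x _
    rw [Submodule.mem_sup]
    refine ⟨i (r x), ⟨_, rfl⟩, x - i (r x), ?_, by abel⟩
    rw [LinearMap.mem_ker, map_sub, h, sub_self]

/-- Every element of a projective module over a local ring lies in a free direct summand. -/
lemma exists_free_summand (P : Type u) [AddCommGroup P] [Module R P] [Module.Projective R P]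
    (x : P) : ∃ (N C : Submodule R P), IsCompl N C ∧ x ∈ N ∧ Module.Free R N := by
  classical
  obtain ⟨s₀, hs₀⟩ := (Module.projective_def' (R := R) (P := P)).mp inferInstance
  have hx0 : x = ∑ p ∈ (s₀ x).support, (s₀ x) p • p := by
    have := LinearMap.congr_fun hs₀ x
    simp only [LinearMap.comp_apply, LinearMap.id_apply] at this
    conv_lhs => rw [← this]
    rw [Finsupp.linearCombination_apply, Finsupp.sum]
    rfl
  -- the ideal of coefficients
  let ev : (P →ₗ[R] R) →ₗ[R] R := LinearMap.applyₗ x
  let I : Ideal R := LinearMap.range ev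
  have hcoef : ∀ p, (s₀ x) p ∈ I := fun p => ⟨Finsupp.lapply p ∘ₗ s₀, rfl⟩
  have hI : I.FG := by
    refine ⟨(s₀ x).support.image (fun p => (s₀ x) p), ?_⟩
    apply le_antisymm
    · rw [Ideal.span_le]
      intro c hc
      simp only [Finset.coe_image, Set.mem_image, Finset.mem_coe] at hc
      obtain ⟨p, _, rfl⟩ := hc
      exact hcoef p
    · rintro _ ⟨φ, rfl⟩
      have hφx : φ x = ∑ p ∈ (s₀ x).support, (s₀ x) p * φ p := by
        conv_lhs => rw [hx0]
        rw [map_sum]
        simp only [map_smul, smul_eq_mul]
      show φ x ∈ _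
      rw [hφx]
      refine Submodule.sum_mem _ ?_
      intro p hp
      apply Ideal.mul_mem_right
      apply Ideal.subset_span
      simp only [Finset.coe_image, Set.mem_image, Finset.mem_coe]
      exact ⟨p, hp, rfl⟩
  obtain ⟨s, hsI, hmin⟩ := exists_minimal_generators I hI
  -- functionals
  have hφ : ∀ a : s, ∃ φ : P →ₗ[R] R, φ x = a := by
    intro a
    have : (a : R) ∈ I := by
      rw [← hsI]; exact Ideal.subset_span a.2
    obtain ⟨φ, hφ⟩ := this
    exact ⟨φ, hφ⟩
  choose φ hφ using hφ
  -- elements
  let Y' : (s → P) →ₗ[R] P := ∑ a : s, (a : R) • LinearMap.proj a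
  have hY' : ∀ y : s → P, Y' y = ∑ a : s, (a : R) • y a := by
    intro y
    simp [Y', LinearMap.sum_apply]
  have hmem : ∀ c ∈ I, ∀ p : P, c • p ∈ LinearMap.range Y' := by
    intro c hc p
    rw [← hsI] at hc
    obtain ⟨f, hf⟩ := (Submodule.mem_span_finset' (R := R) (s := s)).mp hc
    refine ⟨fun a => f a • p, ?_⟩
    rw [hY', ← hf, Finset.sum_smul]
    apply Finset.sum_congr rfl
    intro a _
    rw [smul_eq_mul, smul_smul, mul_comm]
  have hxY' : x ∈ LinearMap.range Y' := by
    rw [hx0]
    exact Submodule.sum_mem _ fun p _ => hmem _ (hcoef p) p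
  obtain ⟨y, hy⟩ := hxY'
  rw [hY'] at hy
  -- the maps
  let Φ : P →ₗ[R] (s → R) := LinearMap.pi fun a => φ a
  let Y : (s → R) →ₗ[R] P := Fintype.linearCombination R y
  let E : (s → R) →ₗ[R] (s → R) := Φ ∘ₗ Y
  have hE : ∀ (c : s → R) (a : s), E c a = ∑ b : s, c b * φ a (y b) := by
    intro c a
    simp [E, Φ, Y, Fintype.linearCombination_apply, map_sum]
  -- the matrix is congruent to the identity mod the maximal ideal
  have hB : ∀ a b : s, φ a (y b) - (if b = a then 1 else 0) ∈ IsLocalRing.maximalIdeal R := by
    intro a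
    apply hmin
    have h1 : φ a x = ∑ b : s, (b : R) * φ a (y b) := by
      conv_lhs => rw [← hy]
      rw [map_sum]
      simp only [map_smul, smul_eq_mul]
    calc ∑ b : s, (φ a (y b) - (if b = a then 1 else 0)) * (b : R)
        = ∑ b : s, (b : R) * φ a (y b) - ∑ b : s, (if b = a then (b : R) else 0) := by
          rw [← Finset.sum_sub_distrib]
          apply Finset.sum_congr rfl
          intro b _
          split_ifs <;> ring
      _ = 0 := by
          rw [← h1, hφ a, Finset.sum_ite_eq' Finset.univ a (fun b => (b : R))]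
          simp
  -- E is congruent to the identity
  have hEc : ∀ c : s → R, E c - c ∈ IsLocalRing.maximalIdeal R • (⊤ : Submodule R (s → R)) := by
    intro c
    have hcoord : ∀ a, (E c - c) a ∈ IsLocalRing.maximalIdeal R := by
      intro a
      have : (E c - c) a = ∑ b : s, c b * (φ a (y b) - (if b = a then 1 else 0)) := by
        rw [Pi.sub_apply, hE]
        simp only [mul_sub, Finset.sum_sub_distrib, mul_ite, mul_one, mul_zero]
        rw [Finset.sum_ite_eq' Finset.univ a (fun b => c b)]
        simp
      rw [this]
      exact Submodule.sum_mem _ fun b _ => Ideal.mul_mem_left _ _ (hB a b)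
    rw [pi_eq_sum_univ (E c - c)]
    refine Submodule.sum_mem _ fun a _ => ?_
    exact Submodule.smul_mem_smul (hcoord a) Submodule.mem_top
  have hEsurj : Function.Surjective E := by
    rw [← LinearMap.range_eq_top, eq_top_iff]
    apply Submodule.le_of_le_smul_of_le_jacobson_bot (I := IsLocalRing.maximalIdeal R)
      Module.Finite.fg_top (IsLocalRing.maximalIdeal_le_jacobson _)
    intro c _
    rw [Submodule.mem_sup]
    refine ⟨E c, ⟨c, rfl⟩, c - E c, ?_, by abel⟩
    rw [← neg_sub]
    exact Submodule.neg_mem _ (hEc c)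
  have hEbij : Function.Bijective E :=
    OrzechProperty.bijective_of_surjective_endomorphism E hEsurj
  let Ee : (s → R) ≃ₗ[R] (s → R) := LinearEquiv.ofBijective E hEbij
  let r : P →ₗ[R] (s → R) := Ee.symm.toLinearMap ∘ₗ Φ
  have hr : ∀ c, r (Y c) = c := by
    intro c
    show Ee.symm (E c) = c
    exact Ee.symm_apply_apply c
  have hYinj : Function.Injective Y := Function.LeftInverse.injective hr
  refine ⟨LinearMap.range Y, LinearMap.ker r, isCompl_range_ker Y r hr, ?_, ?_⟩
  · refine ⟨fun a => (a : R), ?_⟩
    rw [← hy]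
    simp [Y, Fintype.linearCombination_apply]
  · exact Module.Free.of_equiv (LinearEquiv.ofInjective Y hYinj)

end local_

section indep
variable {R : Type u} [CommRing R] {M : Type u} [AddCommGroup M] [Module R M]

/-- A family of submodules indexed by a linear order, each member disjoint from the supremum of the
earlier ones, is independent. -/
lemma iSupIndep_of_disjoint_lt {ι : Type*} [LinearOrder ι] (N : ι → Submodule R M)
    (h : ∀ i, Disjoint (N i) (⨆ j, ⨆ (_ : j < i), N j)) : iSupIndep N := by
  classical
  rw [iSupIndep_iff_finsetSum_eq_zero_imp_eq_zero]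
  intro s
  induction s using Finset.induction_on_max with
  | empty => intro v _ _ i hi; simp at hi
  | insert a s hlt ih =>
    intro v hv hsum i hi
    have ha : a ∉ s := fun h => lt_irrefl a (hlt a h)
    rw [Finset.sum_insert ha] at hsum
    have h1 : ∑ j ∈ s, v j ∈ ⨆ j, ⨆ (_ : j < a), N j := by
      refine Submodule.sum_mem _ fun j hj => ?_
      exact Submodule.mem_iSup_of_mem j (Submodule.mem_iSup_of_mem (hlt j hj)
        (hv j (Finset.mem_insert_of_mem hj)))
    have h2 : v a = - ∑ j ∈ s, v j := eq_neg_of_add_eq_zero_left hsum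
    have h3 : v a = 0 := by
      have hva : v a ∈ N a := hv a (Finset.mem_insert_self a s)
      have hva' : v a ∈ ⨆ j, ⨆ (_ : j < a), N j := by
        rw [h2]; exact Submodule.neg_mem _ h1
      exact (Submodule.disjoint_def.mp (h a)) _ hva hva'
    rw [h3, zero_add] at hsum
    rcases Finset.mem_insert.mp hi with rfl | hi'
    · exact h3
    · exact ih v (fun j hj => hv j (Finset.mem_insert_of_mem hj)) hsum i hi'

end indep

section ctbl
variable {R : Type u} [CommRing R] [IsLocalRing R]
variable {P : Type u} [AddCommGroup P] [Module R P] [Module.Projective R P]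

/-- relative version of `exists_free_summand` for a direct summand `C` of `P` -/
lemma exists_free_summand_of_isCompl (S C : Submodule R P) (hSC : IsCompl S C) (z : P)
    (hz : z ∈ C) :
    ∃ (N C' : Submodule R P), Disjoint N C' ∧ N ⊔ C' = C ∧ z ∈ N ∧ Module.Free R N := by
  have : Module.Projective R C :=
    Module.Projective.of_split C.subtype (Submodule.projectionOnto C S hSC.symm)
      (Submodule.projectionOnto_comp_subtype hSC.symm)
  obtain ⟨N₀, C₀, h0, hzN, hfree⟩ := exists_free_summand (R := R) C ⟨z, hz⟩
  refine ⟨N₀.map C.subtype, C₀.map C.subtype, ?_, ?_, ?_, ?_⟩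
  · rw [disjoint_iff, ← Submodule.map_inf _ C.injective_subtype, h0.inf_eq_bot, Submodule.map_bot]
  · rw [← Submodule.map_sup, h0.sup_eq_top, Submodule.map_subtype_top]
  · exact ⟨⟨z, hz⟩, hzN, rfl⟩
  · exact Module.Free.of_equiv (Submodule.equivMapOfInjective C.subtype C.injective_subtype N₀)

variable (R P) in
structure Stt where
  S : Submodule R P
  C : Submodule R P
  h : IsCompl S C

lemma exists_next (st : Stt R P) (x : P) :
    ∃ (N : Submodule R P) (st' : Stt R P), Module.Free R N ∧ N ≤ st.C ∧ st'.S = st.S ⊔ N ∧
      x ∈ st'.S := by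
  obtain ⟨N, C', hdisj, hsup, hzN, hfree⟩ := exists_free_summand_of_isCompl st.S st.C st.h
    (Submodule.projectionOnto st.C st.S st.h.symm x : P) (Submodule.coe_mem _)
  have hNC : N ≤ st.C := hsup ▸ le_sup_left
  have hC'C : C' ≤ st.C := hsup ▸ le_sup_right
  refine ⟨N, ⟨st.S ⊔ N, C', ?_⟩, hfree, hNC, rfl, ?_⟩
  · constructor
    · rw [Submodule.disjoint_def]
      intro w hw hw'
      obtain ⟨a, ha, b, hb, rfl⟩ := Submodule.mem_sup.mp hw
      have ha0 : a = 0 := by
        have : a ∈ st.C := by
          have : a = (a + b) - b := by abel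
          rw [this]
          exact Submodule.sub_mem _ (hC'C hw') (hNC hb)
        exact (Submodule.disjoint_def.mp st.h.disjoint) a ha this
      rw [ha0, zero_add] at hw' ⊢
      exact (Submodule.disjoint_def.mp hdisj) b hb hw'
    · rw [codisjoint_iff, sup_assoc, hsup, st.h.sup_eq_top]
  · show x ∈ st.S ⊔ N
    have hx : x = (Submodule.projectionOnto st.S st.C st.h x : P) +
        (Submodule.projectionOnto st.C st.S st.h.symm x : P) := by
      have := Submodule.projection_add_projection_eq_self st.h x
      rw [← Submodule.coe_projectionOnto_apply, ← Submodule.coe_projectionOnto_apply] at this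
      exact this.symm
    rw [hx]
    exact Submodule.add_mem_sup (Submodule.coe_mem _) hzN

noncomputable def nextN (st : Stt R P) (x : P) : Submodule R P := (exists_next st x).choose
noncomputable def next (st : Stt R P) (x : P) : Stt R P := (exists_next st x).choose_spec.choose
lemma next_spec (st : Stt R P) (x : P) :
    Module.Free R (nextN st x) ∧ nextN st x ≤ st.C ∧ (next st x).S = st.S ⊔ nextN st x ∧
      x ∈ (next st x).S :=
  (exists_next st x).choose_spec.choose_spec

variable (R) in
noncomputable def sq (x : ℕ → P) : ℕ → Stt R P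
  | 0 => ⟨⊥, ⊤, isCompl_bot_top⟩
  | n+1 => next (sq x n) (x n)

theorem free_of_seq_span (x : ℕ → P) (hx : Submodule.span R (Set.range x) = ⊤) :
    Module.Free R P := by
  classical
  let N : ℕ → Submodule R P := fun n => nextN (sq R x n) (x n)
  have hfree : ∀ n, Module.Free R (N n) := fun n => (next_spec (sq R x n) (x n)).1
  have hNC : ∀ n, N n ≤ (sq R x n).C := fun n => (next_spec (sq R x n) (x n)).2.1
  have hS : ∀ n, (sq R x (n+1)).S = (sq R x n).S ⊔ N n := fun n => (next_spec (sq R x n) (x n)).2.2.1
  have hxS : ∀ n, x n ∈ (sq R x (n+1)).S := fun n => (next_spec (sq R x n) (x n)).2.2.2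
  have hSeq : ∀ n, (sq R x n).S = ⨆ j, ⨆ (_ : j < n), N j := by
    intro n
    induction n with
    | zero =>
      show (⊥ : Submodule R P) = _
      simp
    | succ n ih =>
      rw [hS, ih]
      apply le_antisymm
      · apply sup_le
        · exact iSup_mono fun j => iSup_mono' fun hj => ⟨Nat.lt_succ_of_lt hj, le_rfl⟩
        · exact le_iSup_of_le n (le_iSup_of_le (Nat.lt_succ_self n) le_rfl)
      · refine iSup_le fun j => iSup_le fun hj => ?_
        rcases Nat.lt_succ_iff_lt_or_eq.mp hj with h | rfl
        · exact le_sup_of_le_left (le_iSup_of_le j (le_iSup_of_le h le_rfl))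
        · exact le_sup_right
  have hindep : iSupIndep N := by
    apply iSupIndep_of_disjoint_lt
    intro n
    rw [← hSeq]
    exact ((sq R x n).h.disjoint.mono_right (hNC n)).symm
  have htop : iSup N = ⊤ := by
    rw [eq_top_iff, ← hx, Submodule.span_le]
    rintro _ ⟨n, rfl⟩
    have := hxS n
    rw [hSeq] at this
    exact (iSup_le fun j => iSup_le fun _ => le_iSup N j) this
  have hint : DirectSum.IsInternal N :=
    DirectSum.isInternal_submodule_of_iSupIndep_of_iSup_eq_top hindep htop
  exact Module.Free.of_equiv (LinearEquiv.ofBijective (DirectSum.coeLinearMap N) hint)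

end ctbl

/-- A projective module, not necessarily finitely generated, over a local ring is free. -/
theorem result (R : Type u) [CommRing R] [IsLocalRing R] (P : Type u)
    [AddCommGroup P] [Module R P] [Module.Projective R P] : Module.Free R P := by
  classical
  obtain ⟨_, _, ι, N, hN, hc⟩ := (Groth.Agent.S0584.result R P).mp inferInstance
  have hfree : ∀ i, Module.Free R (N i) := by
    intro i
    obtain ⟨r, hr⟩ := Groth.Agent.S0584.exists_retraction N hN i
    have : Module.Projective R (N i) := Module.Projective.of_split (N i).subtype r hr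
    obtain ⟨s, hs, hspan⟩ := hc i
    have hs' : (insert (0 : N i) s).Countable := hs.insert 0
    obtain ⟨x, hx⟩ := hs'.exists_eq_range (Set.insert_nonempty 0 s)
    apply free_of_seq_span x
    rw [← hx, eq_top_iff, ← hspan]
    exact Submodule.span_mono (Set.subset_insert 0 s)
  exact Module.Free.of_equiv (LinearEquiv.ofBijective (DirectSum.coeLinearMap N) hN)

end Groth.Agent.S0582
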