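import Groth.Statements.S0457
import Groth.Agent.Lib.FlasqueAcyclic
import Mathlib.CategoryTheory.Sites.LocallyBijective
import Mathlib.CategoryTheory.Sites.ConstantSheaf
import Mathlib.CategoryTheory.Sites.PreservesSheafification
import Mathlib.Algebra.Category.Grp.FilteredColimits

set_option autoImplicit false
universe u
open CategoryTheory
open CohTop

namespace Groth.Agent.S0457

open CategoryTheory CategoryTheory.Limits TopologicalSpace Opposite

variable {X : TopCat.{u}}

/-- the constant presheaf -/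
abbrev cP (X : TopCat.{u}) (A : Type u) [AddCommGroup A] : (Opens X)ᵒᵖ ⥤ AddCommGrpCat.{u} :=
  (Functor.const _).obj (AddCommGrpCat.of A)

/-- the canonical map from the constant presheaf -/
noncomputable def η (X : TopCat.{u}) (A : Type u) [AddCommGroup A] :
    cP X A ⟶ (CohTop.const X A).obj :=
  toSheafify (Opens.grothendieckTopology X) (cP X A)

instance (A : Type u) [AddCommGroup A] :
    Presheaf.IsLocallyInjective (Opens.grothendieckTopology X) (η X A) :=
  inferInstanceAs (Presheaf.IsLocallyInjective (Opens.grothendieckTopology X)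
    (toSheafify (Opens.grothendieckTopology X) (cP X A)))

instance (A : Type u) [AddCommGroup A] :
    Presheaf.IsLocallySurjective (Opens.grothendieckTopology X) (η X A) :=
  inferInstanceAs (Presheaf.IsLocallySurjective (Opens.grothendieckTopology X)
    (toSheafify (Opens.grothendieckTopology X) (cP X A)))

lemma eq_zero_of_bot (F : CohTop.Ab X) {U : Opens X} (h : U = ⊥) (s : F.obj.obj (op U)) : s = 0 := by
  have hT : IsTerminal (F.obj.obj (op U)) := TopCat.Sheaf.isTerminalOfEqEmpty F h
  have h1 : 𝟙 (F.obj.obj (op U)) = 0 := hT.hom_ext _ _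
  have := ConcreteCategory.congr_hom h1 s
  simpa using this

lemma exists_mem_of_ne_bot {U : Opens X} (h : U ≠ ⊥) : ∃ x : X, x ∈ U := by
  by_contra hne
  apply h
  ext x
  simp only [Opens.coe_bot, Set.mem_empty_iff_false, iff_false]
  exact fun hx => hne ⟨x, hx⟩

lemma key [IrreducibleSpace X] (A : Type u) [AddCommGroup A] (U : Opens X) (hU : U ≠ ⊥)
    (s : (CohTop.const X A).obj.obj (op U)) : ∃ a : A, (η X A).app (op U) a = s := by
  have hS := Presheaf.imageSieve_mem (Opens.grothendieckTopology X) (η X A) s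
  obtain ⟨x₀, hx₀⟩ := exists_mem_of_ne_bot hU
  obtain ⟨V₀, f₀, ⟨a₀, ha₀⟩, hxV₀⟩ := hS x₀ hx₀
  refine ⟨a₀, ?_⟩
  -- separatedness
  have hsep : Presieve.IsSeparated (Opens.grothendieckTopology X)
      ((CohTop.const X A).obj ⋙ forget AddCommGrpCat.{u}) :=
    (Presieve.IsSheaf.isSeparated
      ((isSheaf_iff_isSheaf_of_type _ _).1
        ((sheafCompose _ (forget AddCommGrpCat.{u})).obj (CohTop.const X A)).2))
  refine (hsep _ hS).ext ?_
  intro V f ⟨a, ha⟩
  change (CohTop.const X A).obj.map f.op ((η X A).app (op U) a₀) = (CohTop.const X A).obj.map f.op s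
  rw [← ha]
  have hn : (CohTop.const X A).obj.map f.op ((η X A).app (op U) a₀) = (η X A).app (op V) a₀ :=
    (ConcreteCategory.congr_hom ((η X A).naturality f.op) a₀).symm
  rw [hn]
  by_cases hV : V = ⊥
  · rw [eq_zero_of_bot _ hV ((η X A).app (op V) a₀), eq_zero_of_bot _ hV ((η X A).app (op V) a)]
  · -- V nonempty: V ⊓ V₀ nonempty
    obtain ⟨y, hy⟩ := exists_mem_of_ne_bot hV
    have hne : ((V : Set X) ∩ (V₀ : Set X)).Nonempty :=
      nonempty_preirreducible_inter V.2 V₀.2 ⟨y, hy⟩ ⟨x₀, hxV₀⟩
    obtain ⟨z, hzV, hzV₀⟩ := hne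
    let W : Opens X := V ⊓ V₀
    have e1 : (η X A).app (op W) a = (η X A).app (op W) a₀ := by
      have h1 : (CohTop.const X A).obj.map (homOfLE (inf_le_left : W ≤ V)).op ((η X A).app (op V) a) =
          (η X A).app (op W) a :=
        (ConcreteCategory.congr_hom ((η X A).naturality (homOfLE (inf_le_left : W ≤ V)).op) a).symm
      have h2 : (CohTop.const X A).obj.map (homOfLE (inf_le_right : W ≤ V₀)).op ((η X A).app (op V₀) a₀) =
          (η X A).app (op W) a₀ :=
        (ConcreteCategory.congr_hom ((η X A).naturality (homOfLE (inf_le_right : W ≤ V₀)).op) a₀).symm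
      rw [← h1, ← h2, ha, ha₀, ← ConcreteCategory.comp_apply, ← ConcreteCategory.comp_apply,
        ← Functor.map_comp, ← Functor.map_comp]
      rfl
    have hE := Presheaf.equalizerSieve_mem (Opens.grothendieckTopology X) (η X A)
      (X := op W) a a₀ e1
    obtain ⟨T, g, hg, -⟩ := hE z ⟨hzV, hzV₀⟩
    have : a = a₀ := hg
    rw [this]


lemma isFlasque_const [IrreducibleSpace X] (A : Type u) [AddCommGroup A] :
    TopCat.Sheaf.IsFlasque (CohTop.const X A) := by
  constructor
  intro V₀ U₀ i
  obtain ⟨V⟩ := V₀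
  obtain ⟨U⟩ := U₀
  rw [AddCommGrpCat.epi_iff_surjective]
  intro s
  by_cases hU : U = ⊥
  · refine ⟨0, ?_⟩
    rw [eq_zero_of_bot _ hU s, map_zero]
  · obtain ⟨a, rfl⟩ := key A U hU s
    refine ⟨(η X A).app (op V) a, ?_⟩
    exact (ConcreteCategory.congr_hom ((η X A).naturality i) a).symm

/-- If X is an irreducible topological space and A an abelian group, then H^(p+1)(X, A) = 0 for the
constant sheaf with value A. -/
theorem result {X : TopCat.{u}} [IrreducibleSpace X]
    (A : Type u) [AddCommGroup A] (p : ℕ) : Subsingleton (CohTop.H (CohTop.const X A) (p + 1)) := by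
  have := isFlasque_const (X := X) A
  exact Groth.Agent.Lib.FlasqueAcyclic.subsingleton_H (CohTop.const X A) p

end Groth.Agent.S0457
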