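import Groth.Statements.S0926
import Groth.Agent.S0457
import Groth.Prelude.Def_CohCx
import Mathlib.CategoryTheory.Abelian.Exact

set_option autoImplicit false
universe u
open CategoryTheory
open CohTop

namespace Groth.Agent.S0926

open CategoryTheory CategoryTheory.Limits TopologicalSpace Opposite
open Groth.Agent.S0457

lemma image_le_of_sections {Y : TopCat.{u}} {H K C : CohTop.Ab Y} (f : H ⟶ C) (g : K ⟶ C)
    (h : ∀ (V : Opens Y) (s : H.obj.obj (op V)), ∃ t : K.obj.obj (op V),
      g.hom.app (op V) t = f.hom.app (op V) s) :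
    imageSubobject f ≤ imageSubobject g := by
  have w : f ≫ cokernel.π g = 0 := by
    apply Sheaf.hom_ext
    ext V s
    obtain ⟨V⟩ := V
    obtain ⟨t, ht⟩ := h V s
    change (cokernel.π g).hom.app (op V) (f.hom.app (op V) s) = 0
    rw [← ht]
    have h0 := cokernel.condition g
    have h1 := congrArg (fun ψ => ψ.hom.app (op V)) h0
    exact ConcreteCategory.congr_hom h1 t
  have hS : (ShortComplex.mk g (cokernel.π g) (cokernel.condition g)).Exact :=
    ShortComplex.exact_cokernel g
  rw [ShortComplex.exact_iff_image_eq_kernel] at hS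
  change imageSubobject g = kernelSubobject (cokernel.π g) at hS
  rw [hS]
  exact imageSubobject_le f (factorThruKernelSubobject _ f w) (by simp)

lemma choose_d {X : TopCat.{u}} (D : Opens X → AddSubgroup ℤ)
    (hD : ∀ W W' : Opens X, W' ≤ W → D W ≤ D W') (hX : (⊤ : Opens X) ≠ ⊥) :
    ∃ U : Opens X, U ≠ ⊥ ∧ ∃ d : ℤ, ∀ W : Opens X, W ≠ ⊥ → W ≤ U →
      D W = AddSubgroup.zmultiples d := by
  classical
  by_cases h : ∃ n : ℕ, 0 < n ∧ ∃ W : Opens X, W ≠ ⊥ ∧ (n : ℤ) ∈ D W
  · obtain ⟨hn₀, W₀, hW₀, hmem⟩ := Nat.find_spec h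
    refine ⟨W₀, hW₀, (Nat.find h : ℤ), fun W hW hle => ?_⟩
    have hmemW : ((Nat.find h : ℕ) : ℤ) ∈ D W := hD W₀ W hle hmem
    ext a
    rw [Int.mem_zmultiples_iff]
    constructor
    · intro ha
      have hg : ((Int.gcd a (Nat.find h) : ℕ) : ℤ) ∈ D W := by
        rw [Int.gcd_eq_gcd_ab]
        exact add_mem (by rw [mul_comm]; exact zsmul_mem ha _)
          (by rw [mul_comm]; exact zsmul_mem hmemW _)
      have hpos : 0 < Int.gcd a (Nat.find h) :=
        Int.gcd_pos_of_ne_zero_right _ (by exact_mod_cast hn₀.ne')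
      have h1 : Nat.find h ≤ Int.gcd a (Nat.find h) := Nat.find_min' h ⟨hpos, W, hW, hg⟩
      have h2 : Int.gcd a (Nat.find h) ∣ Nat.find h := by
        have := Int.gcd_dvd_right a (Nat.find h)
        exact_mod_cast this
      have h3 : Int.gcd a (Nat.find h) = Nat.find h :=
        le_antisymm (Nat.le_of_dvd hn₀ h2) h1
      have := Int.gcd_dvd_left a (Nat.find h)
      rw [h3] at this
      exact this
    · rintro ⟨k, rfl⟩
      rw [mul_comm]
      exact zsmul_mem hmemW k
  · refine ⟨⊤, hX, 0, fun W hW _ => ?_⟩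
    ext a
    rw [Int.mem_zmultiples_iff]
    constructor
    · intro ha
      by_contra hne
      have ha0 : a ≠ 0 := by
        rintro rfl
        exact hne (dvd_refl 0)
      apply h
      refine ⟨a.natAbs, Int.natAbs_pos.2 ha0, W, hW, ?_⟩
      rcases Int.natAbs_eq a with h1 | h1
      · rw [← h1]; exact ha
      · have : (a.natAbs : ℤ) = -a := by omega
        rw [this]; exact neg_mem ha
    · rintro ⟨k, rfl⟩
      simp

variable {X : TopCat.{u}}

lemma hj (U : Opens X) : Topology.IsOpenEmbedding (CohCx.incl U) := U.isOpenEmbedding'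

lemma functor_le (U : Opens X) (V : Opens (TopCat.of U)) :
    (hj U).isOpenMap.functor.obj V ≤ U := by
  rintro x ⟨y, -, rfl⟩
  exact y.2

/-- the map from the integers to sections of the constant sheaf -/
noncomputable def ηZ (X : TopCat.{u}) (W : Opens X) :
    ℤ →+ (CohTop.const X (ULift.{u} ℤ)).obj.obj (op W) :=
  ((η X (ULift.{u} ℤ)).app (op W)).hom.comp (AddEquiv.ulift.symm : ℤ ≃+ ULift.{u} ℤ).toAddMonoidHom

lemma ηZ_restrict {W W' : Opens X} (i : op W ⟶ op W') (n : ℤ) :
    (CohTop.const X (ULift.{u} ℤ)).obj.map i (ηZ X W n) = ηZ X W' n :=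
  (ConcreteCategory.congr_hom ((η X (ULift.{u} ℤ)).naturality i) (ULift.up n)).symm

lemma ηZ_surjective [IrreducibleSpace X] (W : Opens X) (hW : W ≠ ⊥)
    (s : (CohTop.const X (ULift.{u} ℤ)).obj.obj (op W)) : ∃ n : ℤ, ηZ X W n = s := by
  obtain ⟨a, ha⟩ := key (ULift.{u} ℤ) W hW s
  exact ⟨a.down, ha⟩

/-- the subgroup of integers whose constant section lies in the subsheaf -/
noncomputable def D (H : CohTop.Ab X) (ι : H ⟶ CohTop.const X (ULift.{u} ℤ)) (W : Opens X) :
    AddSubgroup ℤ :=
  (AddMonoidHom.range (ι.hom.app (op W)).hom).comap (ηZ X W)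

lemma mem_D (H : CohTop.Ab X) (ι : H ⟶ CohTop.const X (ULift.{u} ℤ)) (W : Opens X) (n : ℤ) :
    n ∈ D H ι W ↔ ∃ t : H.obj.obj (op W), ι.hom.app (op W) t = ηZ X W n := Iff.rfl

lemma D_mono (H : CohTop.Ab X) (ι : H ⟶ CohTop.const X (ULift.{u} ℤ)) (W W' : Opens X)
    (h : W' ≤ W) : D H ι W ≤ D H ι W' := by
  intro n hn
  rw [mem_D] at hn ⊢
  obtain ⟨t, ht⟩ := hn
  refine ⟨H.obj.map (homOfLE h).op t, ?_⟩
  have := ConcreteCategory.congr_hom (ι.hom.naturality (homOfLE h).op) t
  change ι.hom.app (op W') (H.obj.map (homOfLE h).op t) = _ at this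
  rw [this]
  change (CohTop.const X (ULift.{u} ℤ)).obj.map (homOfLE h).op (ι.hom.app (op W) t) = _
  rw [ht, ηZ_restrict]

theorem main [IrreducibleSpace X]
    (H : CohTop.Ab X) (ι : H ⟶ CohTop.const X (ULift.{u} ℤ)) :
    ∃ (U : Opens X) (d : ℤ), U ≠ ⊥ ∧
      imageSubobject ((CohTop.restrFunctor U).map ι) =
        imageSubobject ((CohTop.restrFunctor U).map (d • 𝟙 (CohTop.const X (ULift.{u} ℤ)))) := by
  have hX : (⊤ : Opens X) ≠ ⊥ := by
    intro h
    obtain ⟨x⟩ := (inferInstance : Nonempty X)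
    have : x ∈ (⊤ : Opens X) := trivial
    rw [h] at this
    exact this
  obtain ⟨U, hU, d, hd⟩ := choose_d (D H ι) (D_mono H ι) hX
  refine ⟨U, d, hU, le_antisymm ?_ ?_⟩
  · apply image_le_of_sections
    intro V s
    by_cases hW : (hj U).isOpenMap.functor.obj V = ⊥
    · refine ⟨0, ?_⟩
      rw [map_zero]
      exact (eq_zero_of_bot (CohTop.const X (ULift.{u} ℤ)) hW _).symm
    · obtain ⟨n, hn⟩ := ηZ_surjective _ hW (ι.hom.app (op ((hj U).isOpenMap.functor.obj V)) s)
      have hmem : n ∈ D H ι ((hj U).isOpenMap.functor.obj V) := ⟨s, hn.symm⟩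
      rw [hd _ hW (functor_le U V), Int.mem_zmultiples_iff] at hmem
      obtain ⟨k, rfl⟩ := hmem
      refine ⟨ηZ X _ k, ?_⟩
      have e : d • ηZ X ((hj U).isOpenMap.functor.obj V) k =
          ηZ X ((hj U).isOpenMap.functor.obj V) (d * k) := by
        rw [← smul_eq_mul, map_zsmul]
      exact e.trans hn
  · apply image_le_of_sections
    intro V s
    by_cases hW : (hj U).isOpenMap.functor.obj V = ⊥
    · refine ⟨0, ?_⟩
      rw [map_zero]
      exact (eq_zero_of_bot (CohTop.const X (ULift.{u} ℤ)) hW _).symm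
    · obtain ⟨m, hm⟩ := ηZ_surjective _ hW s
      have hmem : d * m ∈ D H ι ((hj U).isOpenMap.functor.obj V) := by
        rw [hd _ hW (functor_le U V), Int.mem_zmultiples_iff]
        exact dvd_mul_right d m
      obtain ⟨t, ht⟩ := hmem
      refine ⟨t, ?_⟩
      have e : d • ηZ X ((hj U).isOpenMap.functor.obj V) m =
          ηZ X ((hj U).isOpenMap.functor.obj V) (d * m) := by
        rw [← smul_eq_mul, map_zsmul]
      have e2 : d • s = ηZ X ((hj U).isOpenMap.functor.obj V) (d * m) := by
        rw [← hm]; exact e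
      exact ht.trans e2.symm


open TopologicalSpace CategoryTheory.Limits in
/-- Let X be an irreducible topological space and H an abelian subsheaf of the constant sheaf Z (given
by a monomorphism ι). Then there are a nonempty open U and an integer d such that over U the
subsheaf H coincides with the image of multiplication by d on the constant sheaf: the images of ι|_U
and of (d · id)|_U agree as subobjects of the constant sheaf on U. -/
theorem result {X : TopCat.{u}} [IrreducibleSpace X]
    (H : CohTop.Ab X) (ι : H ⟶ CohTop.const X (ULift.{u} ℤ)) [Mono ι] :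
    ∃ (U : Opens X) (d : ℤ), U ≠ ⊥ ∧
      imageSubobject ((CohTop.restrFunctor U).map ι) =
        imageSubobject ((CohTop.restrFunctor U).map (d • 𝟙 (CohTop.const X (ULift.{u} ℤ)))) := by
  exact main H ι

end Groth.Agent.S0926
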