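import Groth.Statements.S17392
import Groth.Agent.Lib.IdealExtBlowUp68

set_option autoImplicit false
universe u
open BlowUp

namespace Groth.Agent.S17392

open AlgebraicGeometry CategoryTheory Limits in
/-- Let X₁ and X₂ be quasi-compact quasi-separated schemes, q : X₂ → X₁ a quasi-compact separated
morphism, V₁ ⊆ X₁ a quasi-compact open subscheme and U ⊆ q⁻¹(V₁) an open subscheme of X₂ on which q
restricts to an open immersion (so U is identified with an open of V₁). Let Z₁ ⊆ X₁ be a closed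
subset whose open complement is quasi-compact, put Y₁ = Z₁ ∩ V₁, and let Z₂ ⊆ X₂ be a closed subset
whose open complement is also quasi-compact, with q⁻¹(Y₁) ⊆ Z₂. Then there is a quasi-coherent ideal
E of finite type on X₁ with support contained in Z₁ ∖ V₁ (so that blowing up E is V₁-admissible)
such that, for every blowing up c : X₁' → X₁ of X₁ in E with base change q' : X₂' = X₂ ×_{X₁} X₁' →
X₁' and c₂ : X₂' → X₂, one has q'⁻¹(closure of c⁻¹(Y₁)) ∩ closure(c₂⁻¹(U)) ⊆ c₂⁻¹(Z₂) as subsets of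
X₂'. -/
theorem result
    {X₁ X₂ : Scheme.{u}} [CompactSpace X₁] [QuasiSeparatedSpace X₁] [CompactSpace X₂] [QuasiSeparatedSpace X₂]
    (q : X₂ ⟶ X₁) [QuasiCompact q] [IsSeparated q]
    (V₁ : X₁.Opens) (hV₁ : IsCompact (V₁ : Set X₁))
    (U : X₂.Opens) (hU : U ≤ q ⁻¹ᵁ V₁) [IsOpenImmersion (U.ι ≫ q)]
    (Z₁ : Set X₁) (hZ₁ : IsClosed Z₁) (hZ₁c : IsCompact Z₁ᶜ)
    (Z₂ : Set X₂) (hZ₂ : IsClosed Z₂) (hZ₂c : IsCompact Z₂ᶜ)
    (hYZ : (fun x => q x) ⁻¹' (Z₁ ∩ (V₁ : Set X₁)) ⊆ Z₂) :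
    ∃ 𝓔 : X₁.IdealSheafData, BlowUp.IsFiniteTypeIdeal 𝓔 ∧ (𝓔.support : Set X₁) ⊆ Z₁ \ (V₁ : Set X₁) ∧
      ∀ (X₁' : Scheme.{u}) (c : X₁' ⟶ X₁), BlowUp.IsBlowUp c 𝓔 →
        (fun z => (pullback.snd q c) z) ⁻¹' closure ((fun x => c x) ⁻¹' (Z₁ ∩ (V₁ : Set X₁))) ∩
            closure ((fun z => (pullback.fst q c) z) ⁻¹' (U : Set X₂)) ⊆
          (fun z => (pullback.fst q c) z) ⁻¹' Z₂ := by
  classical
  -- finite type ideals with supports `Z₁` and `V₁ᶜ`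
  obtain ⟨𝓘₁, h𝓘₁fg, h𝓘₁⟩ := Groth.Agent.Lib.IdealExt68.exists_finiteType_support_eq
    (⟨Z₁ᶜ, hZ₁.isOpen_compl⟩ : X₁.Opens) hZ₁c
  obtain ⟨𝓘V, h𝓘Vfg, h𝓘V⟩ := Groth.Agent.Lib.IdealExt68.exists_finiteType_support_eq V₁ hV₁
  have h𝓘₁' : (𝓘₁.support : Set X₁) = Z₁ := by
    rw [h𝓘₁]; exact compl_compl Z₁
  -- the power
  obtain ⟨n, hn1, hn⟩ := Groth.Agent.Lib.IdealExtBlowUp68.exists_pow_le_on_open
    (𝓘V.comap q) (𝓘₁.comap q)
    (Groth.Agent.Lib.BlowUpAdm68.isFiniteTypeIdeal_comap q 𝓘V h𝓘Vfg)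
    (⟨Z₂ᶜ, hZ₂.isOpen_compl⟩ : X₂.Opens) hZ₂c (by
      intro w hw hw1
      rw [Scheme.IdealSheafData.support_comap] at hw1 ⊢
      change q w ∈ (𝓘V.support : Set X₁)
      rw [h𝓘V]
      intro hwV
      apply hw
      apply hYZ
      refine ⟨?_, hwV⟩
      rw [← h𝓘₁']
      exact hw1)
  have hsuppE : ((𝓘₁ ⊔ 𝓘V ^ n).support : Set X₁) ⊆ Z₁ \ (V₁ : Set X₁) := by
    rw [Scheme.IdealSheafData.support_sup, Scheme.IdealSheafData.support_pow _ n (by omega)]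
    rintro x ⟨hx1, hx2⟩
    refine ⟨h𝓘₁' ▸ hx1, ?_⟩
    have hx2' : x ∈ (𝓘V.support : Set X₁) := hx2
    rw [h𝓘V] at hx2'
    exact hx2'
  refine ⟨𝓘₁ ⊔ 𝓘V ^ n, ?_, hsuppE, ?_⟩
  · intro W
    rw [Scheme.IdealSheafData.ideal_sup, Pi.sup_apply, Scheme.IdealSheafData.ideal_pow,
      Pi.pow_apply]
    exact Submodule.FG.sup (h𝓘₁fg W) (Ideal.FG.pow (h𝓘Vfg W))
  · intro X₁' c hc z' hz'
    obtain ⟨hz1, hz2⟩ := hz'
    by_contra hzZ₂
    have hcond : pullback.fst q c ≫ q = pullback.snd q c ≫ c := pullback.condition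
    -- supports
    have hsuppE' : ∀ y : X₁', y ∈ ((𝓘₁ ⊔ 𝓘V ^ n).comap c).support → c y ∉ V₁ := by
      intro y hy hyV
      rw [Scheme.IdealSheafData.support_comap] at hy
      exact (hsuppE hy).2 hyV
    have hsupp1 : ∀ y : X₁', c y ∈ Z₁ → y ∈ (𝓘₁.comap c).support := by
      intro y hy
      rw [Scheme.IdealSheafData.support_comap]
      change c y ∈ (𝓘₁.support : Set X₁)
      rw [h𝓘₁']
      exact hy
    -- local data
    obtain ⟨U', hx'U', t, -, hEt⟩ := hc.1 ((pullback.snd q c) z')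
    obtain ⟨_, ⟨D, hD, rfl⟩, hzD, hDle⟩ := X₂.isBasis_affineOpens.exists_subset_of_mem_open
      (show (pullback.fst q c) z' ∈ (⟨Z₂ᶜ, hZ₂.isOpen_compl⟩ : X₂.Opens) from hzZ₂)
      (⟨Z₂ᶜ, hZ₂.isOpen_compl⟩ : X₂.Opens).2
    obtain ⟨_, ⟨N, hN, rfl⟩, hz'N, hNle⟩ :=
      (pullback q c).isBasis_affineOpens.exists_subset_of_mem_open
        (show z' ∈ (pullback.snd q c) ⁻¹ᵁ U'.1 ⊓ (pullback.fst q c) ⁻¹ᵁ D from ⟨hx'U', hzD⟩)
        ((pullback.snd q c) ⁻¹ᵁ U'.1 ⊓ (pullback.fst q c) ⁻¹ᵁ D).2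
    have hNle1 : N ≤ (pullback.snd q c) ⁻¹ᵁ U'.1 := fun y hy => (hNle hy).1
    have hNle2 : N ≤ (pullback.fst q c) ⁻¹ᵁ D := fun y hy => (hNle hy).2
    set φ := ((pullback.snd q c).appLE U'.1 N hNle1).hom with hφ
    set ψ := ((pullback.fst q c).appLE D N hNle2).hom with hψ
    have hE_N : (((𝓘₁ ⊔ 𝓘V ^ n).comap c).comap (pullback.snd q c)).ideal ⟨N, hN⟩ =
        Ideal.span {φ t} := by
      rw [Groth.Agent.Lib.IdealComap.ideal_comap _ (pullback.snd q c) U'.1 U'.2 N hN hNle1,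
        hEt, Ideal.map_span, Set.image_singleton]
    have h1_N : ((𝓘₁.comap c).comap (pullback.snd q c)).ideal ⟨N, hN⟩ =
        Ideal.map φ ((𝓘₁.comap c).ideal U') :=
      Groth.Agent.Lib.IdealComap.ideal_comap _ (pullback.snd q c) U'.1 U'.2 N hN hNle1
    -- the ideal of `𝓔` on `N` is that of `𝓘₁`
    have hEq : (((𝓘₁ ⊔ 𝓘V ^ n).comap c).comap (pullback.snd q c)).ideal ⟨N, hN⟩ =
        ((𝓘₁.comap c).comap (pullback.snd q c)).ideal ⟨N, hN⟩ := by
      have e1 : ((𝓘₁ ⊔ 𝓘V ^ n).comap c).comap (pullback.snd q c) =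
          (𝓘₁.comap q).comap (pullback.fst q c) ⊔
            ((𝓘V.comap q) ^ n).comap (pullback.fst q c) := by
        rw [← Scheme.IdealSheafData.comap_comp, ← hcond, Scheme.IdealSheafData.comap_comp,
          (Scheme.IdealSheafData.map_gc q).l_sup, (Scheme.IdealSheafData.map_gc _).l_sup,
          Groth.Agent.Lib.IdealSheafComap.comap_pow]
      have e2 : (𝓘₁.comap c).comap (pullback.snd q c) =
          (𝓘₁.comap q).comap (pullback.fst q c) := by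
        rw [← Scheme.IdealSheafData.comap_comp, ← hcond, Scheme.IdealSheafData.comap_comp]
      rw [e1, e2, Scheme.IdealSheafData.ideal_sup, Pi.sup_apply]
      apply sup_eq_left.2
      rw [Groth.Agent.Lib.IdealComap.ideal_comap _ (pullback.fst q c) D hD N hN hNle2,
        Groth.Agent.Lib.IdealComap.ideal_comap _ (pullback.fst q c) D hD N hN hNle2,
        Scheme.IdealSheafData.ideal_pow, Pi.pow_apply]
      exact Ideal.map_mono (hn ⟨D, hD⟩ hDle)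
    -- Lemma B on `X₁'`
    have hle₁ : 𝓘₁.comap c ≤ (𝓘₁ ⊔ 𝓘V ^ n).comap c :=
      Scheme.IdealSheafData.comap_mono _ le_sup_left
    have hB := Groth.Agent.Lib.BlowUpSeparate68.le_span_mul_P U' t ((𝓘₁.comap c).ideal U')
      (hEt ▸ hle₁ U') ((fun x => c x) ⁻¹' (Z₁ ∩ (V₁ : Set X₁)))
      (fun y hy hyS => ⟨Groth.Agent.Lib.BlowUpSeparate68.ideal_le_P_of_mem_support _ U' y hy
          (hsupp1 y hyS.1),
        fun ht => hsuppE' y (Groth.Agent.Lib.BlowUpSeparate68.mem_support_of_span_singleton _ U' t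
          hEt y hy ht) hyS.2⟩)
      ((pullback.snd q c) z') hx'U' hz1
    have hle1 : Ideal.map φ ((𝓘₁.comap c).ideal U') ≤ Ideal.span {φ t} *
        Groth.Agent.Lib.BlowUpSeparate68.P ⟨N, hN⟩ z' hz'N := by
      have h6 : Ideal.map φ ((𝓘₁.comap c).ideal U') ≤
          Ideal.map φ (Ideal.span {t} *
            Groth.Agent.Lib.BlowUpSeparate68.P U' ((pullback.snd q c) z') hx'U') :=
        Ideal.map_mono hB
      rw [Ideal.map_mul, Ideal.map_span, Set.image_singleton] at h6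
      exact h6.trans (Ideal.mul_mono_right
        (Groth.Agent.Lib.BlowUpSeparate68.map_P_le (pullback.snd q c) U' ⟨N, hN⟩ hNle1 z' hz'N))
    have ht' : φ t ∈ Ideal.span {φ t} * Groth.Agent.Lib.BlowUpSeparate68.P ⟨N, hN⟩ z' hz'N := by
      apply hle1
      rw [← h1_N, ← hEq, hE_N]
      exact Ideal.mem_span_singleton_self _
    obtain ⟨β, hβ, hβt⟩ := Ideal.mem_span_singleton_mul.1 ht'
    refine Groth.Agent.Lib.BlowUpSeparate68.false_of_mul_eq ⟨N, hN⟩ (φ t) (1 - β) 0 ?_ z' hz'N ?_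
      ((fun z => (pullback.fst q c) z) ⁻¹' (U : Set X₂)) hz2 ?_
    · linear_combination (-1 : Γ(pullback q c, N)) * hβt
    · intro h1
      apply (Groth.Agent.Lib.BlowUpSeparate68.P ⟨N, hN⟩ z' hz'N).ne_top_iff_one.1
        (IsAffineOpen.primeIdealOf hN ⟨z', hz'N⟩).isPrime.ne_top
      have h9 := Ideal.add_mem _ h1 hβ
      have h10 : 1 - β + β = 1 := by ring
      rwa [h10] at h9
    · intro y hy hyS
      refine ⟨Ideal.zero_mem _, fun ht => ?_⟩
      have h7 := Groth.Agent.Lib.BlowUpSeparate68.mem_support_of_span_singleton _ ⟨N, hN⟩ (φ t)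
        hE_N y hy ht
      rw [Scheme.IdealSheafData.support_comap] at h7
      apply hsuppE' _ h7
      have h8 : c ((pullback.snd q c) y) = q ((pullback.fst q c) y) := by
        rw [← Scheme.Hom.comp_apply, ← hcond, Scheme.Hom.comp_apply]
      rw [h8]
      exact hU hyS

end Groth.Agent.S17392
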