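import Groth.Statements.S8857
import Groth.Agent.Lib.IdealExtBlowUp68
import Groth.Agent.Lib.BlowUpUniv2

set_option autoImplicit false
universe u
open CategoryTheory CategoryTheory.Limits AlgebraicGeometry TopologicalSpace
open SDiv

namespace Groth.Agent.S8857

/-- Let X be a quasi-compact and quasi-separated scheme, U, V ⊆ X quasi-compact open subschemes and 𝓘 a
quasi-coherent ideal sheaf on V which is of finite type with support disjoint from U ∩ V (a blowing
up of V in 𝓘 is a (U ∩ V)-admissible blow-up). Then there is a quasi-coherent ideal sheaf 𝓙 on X, of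
finite type with support disjoint from U, whose restriction to V is 𝓘; and every blowing up of X in
𝓙 restricts over V to a blowing up of V in 𝓘 (the U-admissible blow-up of X extends the given one of
V). -/
theorem result (X : Scheme.{u}) [CompactSpace ↥X] [QuasiSeparatedSpace ↥X]
    (U V : X.Opens) (hU : IsCompact (U : Set ↥X)) (hV : IsCompact (V : Set ↥X))
    (𝓘 : (V : Scheme.{u}).IdealSheafData) (h𝓘 : BlowUp.IsAdmissibleFor (V.ι ⁻¹ᵁ U) 𝓘) :
    ∃ 𝓙 : X.IdealSheafData, BlowUp.IsAdmissibleFor U 𝓙 ∧ 𝓙.comap V.ι = 𝓘 ∧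
      ∀ (X' : Scheme.{u}) (c : X' ⟶ X), BlowUp.IsBlowUp c 𝓙 → BlowUp.IsBlowUp (c ∣_ V) 𝓘 := by
  classical
  have : CompactSpace (V : Scheme.{u}) := isCompact_iff_compactSpace.mp hV
  -- the closure ideal
  have hcomap : (𝓘.map V.ι).comap V.ι = 𝓘 :=
    Groth.Agent.Lib.IdealExtBlowUp68.comap_map_of_isOpenImmersion V.ι 𝓘
  have hdisj : Disjoint ((𝓘.map V.ι).support : Set X) (U : Set X) := by
    rw [Scheme.IdealSheafData.support_map, Set.disjoint_left]
    intro x hx hxU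
    obtain ⟨y, hyU, hyI⟩ := mem_closure_iff.1 hx U U.2 hxU
    obtain ⟨v, hv, rfl⟩ := hyI
    exact Set.disjoint_left.1 h𝓘.2 hv hyU
  have hUV : IsCompact ((U ⊔ V : X.Opens) : Set X) := by
    have : ((U ⊔ V : X.Opens) : Set X) = (U : Set X) ∪ V := rfl
    rw [this]; exact hU.union hV
  have hfg : ∀ W : X.affineOpens, W.1 ≤ U ⊔ V → ((𝓘.map V.ι).ideal W).FG := by
    intro W hW
    apply Groth.Agent.Lib.IdealExt68.fg_of_forall_exists_basicOpen
    intro x hx
    rcases hW hx with hxU | hxV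
    · obtain ⟨f, hfU, hxf⟩ := W.2.exists_basicOpen_le (V := U) ⟨x, hxU⟩ hx
      refine ⟨f, hxf, ?_⟩
      rw [Groth.Agent.Lib.IdealExt68.ideal_eq_top_of_disjoint_support _ (X.affineBasicOpen f)
        (hdisj.mono_right hfU)]
      exact ⟨{1}, by simp⟩
    · obtain ⟨f, hfV, hxf⟩ := W.2.exists_basicOpen_le (V := V) ⟨x, hxV⟩ hx
      refine ⟨f, hxf, ?_⟩
      apply Groth.Agent.Lib.IdealExtBlowUp68.fg_of_comap_ι_fg _ V (X.affineBasicOpen f) hfV
      rw [hcomap]
      exact h𝓘.1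
  obtain ⟨𝓙, h1, h2, h3⟩ := Groth.Agent.Lib.IdealExt68.exists_finiteType_le (𝓘.map V.ι) (U ⊔ V)
    hUV hfg
  have hJV : 𝓙.comap V.ι = 𝓘 := by
    rw [← hcomap]
    exact Groth.Agent.Lib.IdealExtBlowUp68.comap_ι_eq_of_forall_ideal_eq 𝓙 (𝓘.map V.ι) V
      (fun D hD => h2 D (hD.trans le_sup_right))
  refine ⟨𝓙, ⟨h3, ?_⟩, hJV, ?_⟩
  · apply Groth.Agent.Lib.IdealExt68.disjoint_support_of_forall_ideal_eq_top
    intro W hW
    rw [h2 W (hW.trans le_sup_left)]
    exact Groth.Agent.Lib.IdealExt68.ideal_eq_top_of_disjoint_support _ W (hdisj.mono_right hW)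
  · intro X' c hc
    have := Groth.Agent.Lib.BlowUpUniv.isBlowUp_of_isPullback_of_flat V.ι 𝓙 c hc (c ∣_ V)
      (c ⁻¹ᵁ V).ι (isPullback_morphismRestrict c V)
    rwa [hJV] at this

end Groth.Agent.S8857
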