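import Groth.Statements.S11268
-- import your own Groth.Agent.* helpers here

set_option autoImplicit false
open W4bk4grassmannian

namespace Groth.Agent.S11268

lemma val_le_apply {d n : ℕ} (a : Fin d → Fin n) (ha : StrictMono a) :
    ∀ (k : ℕ) (hk : k < d), k ≤ (a ⟨k, hk⟩).val := by
  intro k
  induction k with
  | zero => intro _; exact Nat.zero_le _
  | succ k ih =>
    intro hk
    have h1 := ih (Nat.lt_of_succ_lt hk)
    have h2 : a ⟨k, Nat.lt_of_succ_lt hk⟩ < a ⟨k + 1, hk⟩ := ha (by simp [Fin.lt_def])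
    have h3 : (a ⟨k, Nat.lt_of_succ_lt hk⟩).val < (a ⟨k + 1, hk⟩).val := h2
    omega

open W4bk4grassmannian in
/-- Let τ < w in I(d,n), the strictly increasing maps Fin d → Fin n ordered entrywise. Then there is a
Schubert divisor φ of w, i.e. φ < w with Σ_t (φ_t - t) + 1 = Σ_t (w_t - t), such that τ ≤ φ: every
proper Schubert subvariety of X(w) lies in a Schubert divisor of X(w). -/
theorem result (d n : ℕ) (τ w : Idx d n) (h : τ < w) :
    ∃ φ ∈ divisors w, τ ≤ φ := by
  classical
  have hle : ∀ t, τ.1 t ≤ w.1 t := fun t => (le_of_lt h) t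
  have hne : ∃ t, τ.1 t < w.1 t := by
    by_contra! H
    have : τ = w := Subtype.ext (funext fun t => le_antisymm (hle t) (H t))
    exact (ne_of_lt h) this
  obtain ⟨s, hs, hmin⟩ := wellFounded_lt.has_min {t : Fin d | τ.1 t < w.1 t} hne
  have hs' : (τ.1 s).val < (w.1 s).val := hs
  have heq : ∀ t, t < s → τ.1 t = w.1 t := by
    intro t hts
    have : ¬ τ.1 t < w.1 t := fun hlt => hmin t hlt hts
    exact le_antisymm (hle t) (not_lt.1 this)
  have hsval : s.val ≤ (τ.1 s).val := val_le_apply τ.1 τ.2 s.val s.isLt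
  have hwn : (w.1 s).val - 1 < n := by have := (w.1 s).isLt; omega
  let φf : Fin d → Fin n := fun t => if t = s then ⟨(w.1 s).val - 1, hwn⟩ else w.1 t
  have hφs : (φf s).val = (w.1 s).val - 1 := by simp [φf]
  have hφt : ∀ t, t ≠ s → φf t = w.1 t := by intro t ht; simp [φf, ht]
  have hmono : StrictMono φf := by
    intro a b hab
    show (φf a).val < (φf b).val
    by_cases ha : a = s
    · subst ha
      have hb : b ≠ a := ne_of_gt hab
      rw [hφs, hφt b hb]
      have : (w.1 a).val < (w.1 b).val := w.2 hab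
      omega
    · by_cases hb : b = s
      · subst hb
        rw [hφs, hφt a ha, ← heq a hab]
        have : (τ.1 a).val < (τ.1 b).val := τ.2 hab
        omega
      · rw [hφt a ha, hφt b hb]
        exact w.2 hab
  refine ⟨⟨φf, hmono⟩, ⟨?_, ?_⟩, ?_⟩
  · -- φ < w
    refine lt_of_le_of_ne ?_ ?_
    · intro t
      show (φf t).val ≤ (w.1 t).val
      by_cases ht : t = s
      · subst ht; rw [hφs]; omega
      · rw [hφt t ht]
    · intro hEq
      have h1 : φf s = w.1 s := congrFun (congrArg Subtype.val hEq) s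
      have h2 : (φf s).val = (w.1 s).val := congrArg Fin.val h1
      rw [hφs] at h2
      omega
  · -- codeg
    unfold W4bk4grassmannian.codeg
    rw [← Finset.add_sum_erase Finset.univ _ (Finset.mem_univ s),
      ← Finset.add_sum_erase Finset.univ (fun t : Fin d => (w.1 t).val - t.val) (Finset.mem_univ s)]
    have h1 : ∀ t ∈ Finset.univ.erase s, ((⟨φf, hmono⟩ : Idx d n).1 t).val - t.val =
        (w.1 t).val - t.val := by
      intro t ht
      have : t ≠ s := (Finset.mem_erase.1 ht).1
      show (φf t).val - t.val = _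
      rw [hφt t this]
    rw [Finset.sum_congr rfl h1]
    show (φf s).val - s.val + _ + 1 = _
    rw [hφs]
    omega
  · -- τ ≤ φ
    intro t
    show (τ.1 t).val ≤ (φf t).val
    by_cases ht : t = s
    · subst ht; rw [hφs]; omega
    · rw [hφt t ht]; exact hle t

end Groth.Agent.S11268
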