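import Groth.Statements.S11546
import Mathlib.RingTheory.AdicCompletion.AsTensorProduct
import Mathlib.RingTheory.Flat.TorsionFree
import Mathlib.RingTheory.Polynomial.Basic

set_option autoImplicit false
universe u
open AdicRing

namespace Groth.Agent.S11546

theorem eq_zero_of_pow_smul_eq_zero {S : Type*} [CommRing S] (c : S) (hc : c ∈ nonZeroDivisors S)
    (J : Ideal S) (hJ : J = Ideal.span {c})
    (m : ℕ) (x : AdicCompletion J S) (hx : c ^ m • x = 0) : x = 0 := by
  subst hJ
  apply AdicCompletion.ext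
  intro k
  obtain ⟨y, hy⟩ := Submodule.mkQ_surjective _ (x.val (k + m))
  have h1 : c ^ m • x.val (k + m) = 0 := by
    have := congrArg (fun z => z.val (k + m)) hx
    simpa [AdicCompletion.val_smul_apply] using this
  rw [← hy, ← map_smul, Submodule.mkQ_apply, Submodule.Quotient.mk_eq_zero] at h1
  have h2 : c ^ m * y ∈ Ideal.span {c} ^ (k + m) := by
    simpa [Ideal.mul_top] using h1
  rw [Ideal.span_singleton_pow, Ideal.mem_span_singleton] at h2
  obtain ⟨z, hz⟩ := h2
  have h3 : y = c ^ k * z := by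
    have : c ^ m * y = c ^ m * (c ^ k * z) := by rw [hz]; ring
    exact (mul_cancel_left_mem_nonZeroDivisors (pow_mem hc m)).mp this
  have h4 : x.val k = AdicCompletion.transitionMap (Ideal.span {c}) S (Nat.le_add_right k m)
      (x.val (k + m)) := (x.property (Nat.le_add_right k m)).symm
  rw [h4, ← hy]
  simp only [AdicCompletion.val_zero, Pi.zero_apply]
  have h5 : y ∈ (Ideal.span {c} ^ k • ⊤ : Submodule S S) := by
    rw [h3, Ideal.span_singleton_pow]
    simp only [smul_eq_mul, Ideal.mul_top]
    exact Ideal.mul_mem_right _ _ (Ideal.mem_span_singleton_self _)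
  rw [AdicCompletion.transitionMap, Submodule.factorPow, Submodule.factor_mk,
    Submodule.mkQ_apply, Submodule.Quotient.mk_eq_zero]
  exact h5


theorem exists_dvd_pow (R : Type u) [CommRing R] [IsDomain R] [ValuationRing R]
    [Ring.KrullDimLE 1 R] (t : R) (htu : ¬ IsUnit t) (a : R) (ha : a ≠ 0) : ∃ m : ℕ, a ∣ t ^ m := by
  have : t ∈ (Ideal.span {a}).radical := by
    rw [Ideal.radical_eq_sInf, Ideal.mem_sInf]
    rintro P ⟨hP, hPprime⟩
    have hPne : P ≠ ⊥ := by
      intro h
      rw [h] at hP
      exact ha (by simpa using hP (Ideal.mem_span_singleton_self a))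
    have hPmax : P.IsMaximal := hPprime.isMaximal_of_ne_bot hPne
    rw [IsLocalRing.eq_maximalIdeal hPmax]
    exact (IsLocalRing.mem_maximalIdeal t).mpr htu
  obtain ⟨m, hm⟩ := this
  exact ⟨m, Ideal.mem_span_singleton.mp hm⟩

theorem flat_of_valuation (R : Type u) [CommRing R] [IsDomain R] [ValuationRing R]
    [Ring.KrullDimLE 1 R] (t : R) (ht : t ≠ 0) (htu : ¬ IsUnit t) (n : ℕ) :
    Module.Flat R (RPow R (Ideal.span {t}) n) := by
  rw [Module.Flat.flat_iff_torsion_eq_bot_of_isBezout, eq_bot_iff]
  rintro x ⟨⟨a, ha⟩, hax⟩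
  have hax' : a • x = 0 := hax
  have ha0 : a ≠ 0 := nonZeroDivisors.ne_zero ha
  obtain ⟨m, b, hb⟩ := exists_dvd_pow R t htu a ha0
  have h1 : t ^ m • x = 0 := by rw [hb, mul_comm, mul_smul, hax', smul_zero]
  have hJ : Ideal.map (MvPolynomial.C : R →+* MvPolynomial (Fin n) R) (Ideal.span {t}) =
      Ideal.span {MvPolynomial.C t} := by rw [Ideal.map_span, Set.image_singleton]
  have h2 : (MvPolynomial.C t : MvPolynomial (Fin n) R) ^ m • x = 0 := by
    rw [← map_pow]
    have h3 : (MvPolynomial.C (t ^ m) : MvPolynomial (Fin n) R) • x = t ^ m • x :=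
      algebraMap_smul (MvPolynomial (Fin n) R) (t ^ m) x
    rw [h3]
    exact h1
  have hnzd : (MvPolynomial.C t : MvPolynomial (Fin n) R) ∈ nonZeroDivisors (MvPolynomial (Fin n) R) := by
    apply mem_nonZeroDivisors_of_ne_zero
    rwa [Ne, MvPolynomial.C_eq_zero]
  exact eq_zero_of_pow_smul_eq_zero _ hnzd _ hJ m x h2


/-- Let R be a base ring of class (N) or (V) for the ideal I. Then the restricted power series ring
R⟨ζ_1, ..., ζ_n⟩ is flat over R. -/
theorem result
    (R : Type u) [CommRing R] (I : Ideal R) (hR : AdicRing.IsBase R I) (n : ℕ) :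
    Module.Flat R (AdicRing.RPow R I n) := by
  obtain ⟨hc, hN | hV⟩ := hR
  · obtain ⟨hnoeth, -⟩ := hN
    exact Module.Flat.trans R (MvPolynomial (Fin n) R) _
  · obtain ⟨hdom, hpv, hdim, t, ht, rfl⟩ := hV
    have : ValuationRing R := { cond' := hpv.cond' }
    have htu : ¬ IsUnit t := by
      intro hu
      have htop : Ideal.span {t} = ⊤ := Ideal.span_singleton_eq_top.mpr hu
      have hH : IsHausdorff (Ideal.span {t}) R := inferInstance
      have h10 : (1 : R) = 0 := by
        apply hH.haus'
        intro k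
        rw [htop, Ideal.top_pow, SModEq.zero]
        simp
      exact one_ne_zero h10
    exact flat_of_valuation R t ht htu n

end Groth.Agent.S11546
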