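import Groth.Statements.S11525
import Groth.Agent.Lib.BoschCore76D

set_option autoImplicit false
universe u
open AdicRing

namespace Groth.Agent.S11525

/-- Let R be a base ring of class (N) or (V) for the ideal I and A an R-algebra topologically of finite
type without I-power torsion. Then A is topologically of finite presentation. -/
theorem result
    (R : Type u) [CommRing R] (I : Ideal R) (hR : AdicRing.IsBase R I)
    (A : Type u) [CommRing A] [Algebra R A] (hA : AdicRing.TopFiniteType R I A)
    (hT : AdicRing.NoPowTorsion I A) :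
    AdicRing.TopFinitePresentation R I A := by
  obtain ⟨n, φ, hφ⟩ := hA
  refine ⟨n, φ, hφ, ?_⟩
  obtain ⟨hc, hN | hV⟩ := hR
  · obtain ⟨hnoeth, -⟩ := hN
    have := Groth.Agent.Lib.BoschCore76.isNoetherianRing_rpow I n
    exact (isNoetherianRing_iff_ideal_fg _).1 inferInstance _
  · obtain ⟨hdom, hpv, hdim, t, ht, rfl⟩ := hV
    have : ValuationRing R := { cond' := hpv.cond' }
    obtain ⟨htu, hnil⟩ := Groth.Agent.Lib.BoschCore76.isBase_V_unpack t ht
    have hP : AdicRing.TopFiniteType R (Ideal.span {t}) (AdicRing.RPow R (Ideal.span {t}) n) :=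
      ⟨n, AlgHom.id R _, Function.surjective_id⟩
    apply Groth.Agent.Lib.BoschCore76.fg_of_saturated_V t htu hnil hP
      (AdicRing.RPow R (Ideal.span {t}) n) (RingHom.ker φ.toRingHom)
    intro x hx
    rw [RingHom.mem_ker] at hx ⊢
    apply hT (φ.toRingHom x) 1
    intro a ha
    rw [pow_one, Ideal.mem_span_singleton] at ha
    obtain ⟨c, rfl⟩ := ha
    have h1 : φ.toRingHom (algebraMap R (AdicRing.RPow R (Ideal.span {t}) n) t • x) =
        t • φ.toRingHom x := by
      rw [smul_eq_mul, map_mul]
      show φ (algebraMap R _ t) * φ x = t • φ x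
      rw [AlgHom.commutes, Algebra.smul_def]
    rw [h1] at hx
    rw [mul_comm, mul_smul, hx, smul_zero]

end Groth.Agent.S11525
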