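import Groth.Statements.S11529
import Groth.Agent.Lib.BoschCore76F
import Groth.Agent.S3866

set_option autoImplicit false
universe u
open AdicRing

namespace Groth.Agent.S11529

/-- Let R be a base ring of class (N) or (V) for the ideal I, A an R-algebra topologically of finite
type and M a finite A-module. Then M is complete and separated for the I-adic topology. -/
theorem result
    (R : Type u) [CommRing R] (I : Ideal R) (hR : AdicRing.IsBase R I)
    (A : Type u) [CommRing A] [Algebra R A] (hA : AdicRing.TopFiniteType R I A)
    (M : Type u) [AddCommGroup M] [Module A M] [Module R M] [IsScalarTower R A M]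
    [Module.Finite A M] :
    IsAdicComplete I M := by
  obtain ⟨n, φ, hφ⟩ := hA
  rw [Groth.Agent.Lib.BoschCore76.isAdicComplete_iff_of_rpow I φ M]
  let _ : Module (AdicRing.RPow R I n) M := Module.compHom M φ.toRingHom
  let _ : Algebra (AdicRing.RPow R I n) A := φ.toRingHom.toAlgebra
  have : IsScalarTower (AdicRing.RPow R I n) A M :=
    IsScalarTower.of_algebraMap_smul (fun _ _ => rfl)
  have hsurj : Function.Surjective (algebraMap (AdicRing.RPow R I n) A) := hφ
  have hfinPA : Module.Finite (AdicRing.RPow R I n) A :=
    Module.Finite.of_surjective (Algebra.linearMap (AdicRing.RPow R I n) A) hsurj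
  have hfinPM : Module.Finite (AdicRing.RPow R I n) M := Module.Finite.trans A M
  obtain ⟨hc, hN | hV⟩ := hR
  · obtain ⟨hnoeth, -⟩ := hN
    have := Groth.Agent.Lib.BoschCore76.isNoetherianRing_rpow I n
    have := Groth.Agent.Lib.BoschCore76.isAdicComplete_rpow_map I n
      ((isNoetherianRing_iff_ideal_fg R).1 hnoeth I)
    exact Groth.Agent.S3866.result (AdicRing.RPow R I n) _ M
  · obtain ⟨hdom, hpv, hdim, t, ht, rfl⟩ := hV
    have : ValuationRing R := { cond' := hpv.cond' }
    obtain ⟨htu, hnil⟩ := Groth.Agent.Lib.BoschCore76.isBase_V_unpack t ht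
    have := Groth.Agent.Lib.BoschCore76.isAdicComplete_of_finite_rpow t n htu hnil M
    rwa [Ideal.map_span (algebraMap R (AdicRing.RPow R (Ideal.span {t}) n)) {t},
      Set.image_singleton]

end Groth.Agent.S11529
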