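import Groth.Statements.S4610
import Mathlib
-- import your own Groth.Agent.* helpers here

set_option autoImplicit false
universe u
open EGA41

namespace Groth.Agent.S4610

open Polynomial

variable {A : Type u} [CommRing A]

/-- the ideal `(F_i(X_i))`. -/
noncomputable abbrev Iof {r : ℕ} (F : Fin r → A[X]) : Ideal (MvPolynomial (Fin r) A) :=
  Ideal.span (Set.range fun i => Polynomial.aeval (MvPolynomial.X i : MvPolynomial (Fin r) A) (F i))

section step

variable {n : ℕ} (F : Fin (n + 1) → A[X])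

/-- the previous quotient. -/
abbrev B' : Type u := MvPolynomial (Fin n) A ⧸ Iof (fun i => F i.succ)

/-- the last polynomial over the previous quotient. -/
noncomputable abbrev gpoly : (B' F)[X] := (F 0).map (algebraMap A (B' F))

/-- `MvPolynomial (Fin n) A → AdjoinRoot g`. -/
noncomputable def κ : MvPolynomial (Fin n) A →ₐ[A] AdjoinRoot (gpoly F) :=
  (IsScalarTower.toAlgHom A (B' F) (AdjoinRoot (gpoly F))).comp
    (Ideal.Quotient.mkₐ A (Iof (fun i => F i.succ)))

lemma κ_X (j : Fin n) : κ F (MvPolynomial.X j) =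
    AdjoinRoot.of (gpoly F) (Ideal.Quotient.mk _ (MvPolynomial.X j)) := rfl

/-- the map on polynomial rings. -/
noncomputable def φ : MvPolynomial (Fin (n + 1)) A →ₐ[A] AdjoinRoot (gpoly F) :=
  MvPolynomial.aeval (@Fin.cons n (fun _ => AdjoinRoot (gpoly F)) (AdjoinRoot.root (gpoly F))
    (fun j => κ F (MvPolynomial.X j)))

lemma φ_X_zero : φ F (MvPolynomial.X 0) = AdjoinRoot.root (gpoly F) := by
  rw [φ, MvPolynomial.aeval_X, Fin.cons_zero]

lemma φ_X_succ (j : Fin n) : φ F (MvPolynomial.X j.succ) = κ F (MvPolynomial.X j) := by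
  rw [φ, MvPolynomial.aeval_X, Fin.cons_succ]

lemma aeval_root : Polynomial.aeval (AdjoinRoot.root (gpoly F)) (F 0) = 0 := by
  have h := AdjoinRoot.eval₂_root (gpoly F)
  rw [gpoly, Polynomial.eval₂_map] at h
  rw [Polynomial.aeval_def]
  exact h

lemma φ_kills : ∀ a ∈ Iof F, φ F a = 0 := by
  intro a ha
  have hle : Iof F ≤ RingHom.ker (φ F).toRingHom := by
    rw [Iof, Ideal.span_le]
    rintro _ ⟨i, rfl⟩
    show φ F (Polynomial.aeval (MvPolynomial.X i) (F i)) = 0
    rw [← Polynomial.aeval_algHom_apply]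
    refine Fin.cases ?_ (fun j => ?_) i
    · rw [φ_X_zero]
      exact aeval_root F
    · rw [φ_X_succ, Polynomial.aeval_algHom_apply]
      have h0 : Ideal.Quotient.mk (Iof (fun i => F i.succ))
          (Polynomial.aeval (MvPolynomial.X j : MvPolynomial (Fin n) A) (F j.succ)) = 0 :=
        Ideal.Quotient.eq_zero_iff_mem.2 (Ideal.subset_span ⟨j, rfl⟩)
      show AdjoinRoot.of (gpoly F) (Ideal.Quotient.mk _ _) = 0
      rw [h0, map_zero]
  exact hle ha

/-- the comparison map. -/
noncomputable def φbar : (MvPolynomial (Fin (n + 1)) A ⧸ Iof F) →ₐ[A] AdjoinRoot (gpoly F) :=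
  Ideal.Quotient.liftₐ (Iof F) (φ F) (φ_kills F)

lemma φbar_mk (p : MvPolynomial (Fin (n + 1)) A) : φbar F (Ideal.Quotient.mk _ p) = φ F p := rfl

/-- `B' → B`. -/
noncomputable def ιB : B' F →+* (MvPolynomial (Fin (n + 1)) A ⧸ Iof F) :=
  Ideal.Quotient.lift (Iof (fun i => F i.succ))
    ((Ideal.Quotient.mk (Iof F)).comp (MvPolynomial.rename Fin.succ).toRingHom) (by
      intro a ha
      have hle : Iof (fun i => F i.succ) ≤ RingHom.ker
          ((Ideal.Quotient.mk (Iof F)).comp (MvPolynomial.rename Fin.succ :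
            MvPolynomial (Fin n) A →ₐ[A] MvPolynomial (Fin (n + 1)) A).toRingHom) := by
        rw [Iof, Ideal.span_le]
        rintro _ ⟨j, rfl⟩
        show Ideal.Quotient.mk (Iof F) (MvPolynomial.rename Fin.succ
          (Polynomial.aeval (MvPolynomial.X j) (F j.succ))) = 0
        rw [← Polynomial.aeval_algHom_apply, MvPolynomial.rename_X]
        exact Ideal.Quotient.eq_zero_iff_mem.2 (Ideal.subset_span ⟨j.succ, rfl⟩)
      exact hle ha)

lemma ιB_mk (p : MvPolynomial (Fin n) A) :
    ιB F (Ideal.Quotient.mk _ p) = Ideal.Quotient.mk _ (MvPolynomial.rename Fin.succ p) := rfl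

lemma ιB_algebraMap (a : A) : ιB F (algebraMap A (B' F) a) = algebraMap A _ a := by
  show ιB F (Ideal.Quotient.mk _ (MvPolynomial.C a)) = Ideal.Quotient.mk _ (MvPolynomial.C a)
  rw [ιB_mk, MvPolynomial.rename_C]

/-- the inverse. -/
noncomputable def ψ : AdjoinRoot (gpoly F) →+* (MvPolynomial (Fin (n + 1)) A ⧸ Iof F) :=
  AdjoinRoot.lift (ιB F) (Ideal.Quotient.mk _ (MvPolynomial.X 0)) (by
    rw [gpoly, Polynomial.eval₂_map]
    have h1 : (ιB F).comp (algebraMap A (B' F)) =
        algebraMap A (MvPolynomial (Fin (n + 1)) A ⧸ Iof F) :=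
      RingHom.ext (ιB_algebraMap F)
    rw [h1, ← Polynomial.aeval_def]
    have h2 : Polynomial.aeval (Ideal.Quotient.mk (Iof F) (MvPolynomial.X 0)) (F 0) =
        Ideal.Quotient.mk (Iof F) (Polynomial.aeval (MvPolynomial.X 0) (F 0)) :=
      Polynomial.aeval_algHom_apply (Ideal.Quotient.mkₐ A (Iof F)) _ _
    rw [h2]
    exact Ideal.Quotient.eq_zero_iff_mem.2 (Ideal.subset_span ⟨0, rfl⟩))

lemma ψ_root : ψ F (AdjoinRoot.root (gpoly F)) = Ideal.Quotient.mk _ (MvPolynomial.X 0) :=
  AdjoinRoot.lift_root _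

lemma ψ_of (b : B' F) : ψ F (AdjoinRoot.of (gpoly F) b) = ιB F b :=
  AdjoinRoot.lift_of _

lemma ψ_φbar : (ψ F).comp (φbar F).toRingHom = RingHom.id _ := by
  apply Ideal.Quotient.ringHom_ext
  apply MvPolynomial.ringHom_ext
  · intro a
    show ψ F (φ F (MvPolynomial.C a)) = Ideal.Quotient.mk _ (MvPolynomial.C a)
    have h1 : φ F (MvPolynomial.C a) = AdjoinRoot.of (gpoly F) (algebraMap A (B' F) a) := by
      rw [← MvPolynomial.algebraMap_eq, AlgHom.commutes]
      rfl
    rw [h1, ψ_of, ιB_algebraMap]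
    rfl
  · intro i
    show ψ F (φ F (MvPolynomial.X i)) = Ideal.Quotient.mk _ (MvPolynomial.X i)
    refine Fin.cases ?_ (fun j => ?_) i
    · rw [φ_X_zero, ψ_root]
    · rw [φ_X_succ, κ_X, ψ_of, ιB_mk, MvPolynomial.rename_X]

lemma φbar_ιB : (φbar F).toRingHom.comp (ιB F) = AdjoinRoot.of (gpoly F) := by
  apply Ideal.Quotient.ringHom_ext
  apply MvPolynomial.ringHom_ext
  · intro a
    show φ F (MvPolynomial.rename Fin.succ (MvPolynomial.C a)) =
      AdjoinRoot.of (gpoly F) (Ideal.Quotient.mk _ (MvPolynomial.C a))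
    rw [MvPolynomial.rename_C, ← MvPolynomial.algebraMap_eq, AlgHom.commutes]
    rfl
  · intro j
    show φ F (MvPolynomial.rename Fin.succ (MvPolynomial.X j)) =
      AdjoinRoot.of (gpoly F) (Ideal.Quotient.mk _ (MvPolynomial.X j))
    rw [MvPolynomial.rename_X, φ_X_succ, κ_X]

lemma φbar_ψ : (φbar F).toRingHom.comp (ψ F) = RingHom.id _ := by
  apply Ideal.Quotient.ringHom_ext
  apply Polynomial.ringHom_ext
  · intro b
    show φbar F (ψ F (AdjoinRoot.of (gpoly F) b)) = AdjoinRoot.of (gpoly F) b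
    rw [ψ_of]
    exact RingHom.congr_fun (φbar_ιB F) b
  · show φbar F (ψ F (AdjoinRoot.root (gpoly F))) = AdjoinRoot.root (gpoly F)
    rw [ψ_root, φbar_mk, φ_X_zero]

/-- the comparison equivalence. -/
noncomputable def stepEquiv : (MvPolynomial (Fin (n + 1)) A ⧸ Iof F) ≃ₗ[A] AdjoinRoot (gpoly F) :=
  LinearEquiv.ofBijective (φbar F).toLinearMap
    ⟨Function.LeftInverse.injective (g := ψ F) (fun x => RingHom.congr_fun (ψ_φbar F) x),
     Function.RightInverse.surjective (g := ψ F) (fun x => RingHom.congr_fun (φbar_ψ F) x)⟩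

end step

theorem main [Nontrivial A] : ∀ (r : ℕ) (F : Fin r → A[X]), (∀ i, (F i).Monic) →
    Module.Free A (MvPolynomial (Fin r) A ⧸ Iof F) ∧
      Module.finrank A (MvPolynomial (Fin r) A ⧸ Iof F) = ∏ i, (F i).natDegree
  | 0, F, _ => by
    have hI : Iof F = ⊥ := by rw [Iof, Set.range_eq_empty, Ideal.span_empty]
    let e : (MvPolynomial (Fin 0) A ⧸ Iof F) ≃ₗ[A] A :=
      ((Ideal.quotientEquivAlgOfEq A hI).trans
        ((AlgEquiv.quotientBot A (MvPolynomial (Fin 0) A)).trans
          (MvPolynomial.isEmptyAlgEquiv A (Fin 0)))).toLinearEquiv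
    refine ⟨Module.Free.of_equiv e.symm, ?_⟩
    rw [e.finrank_eq, Module.finrank_self]
    simp
  | n + 1, F, hF => by
    obtain ⟨hfree, hrank⟩ := main n (fun i => F i.succ) (fun i => hF i.succ)
    have hg : (gpoly F).Monic := (hF 0).map _
    have h1 : Module.Free (B' F) (AdjoinRoot (gpoly F)) := hg.free_adjoinRoot
    have h2 : Module.Free A (B' F) := hfree
    have hfreeA : Module.Free A (AdjoinRoot (gpoly F)) := Module.Free.trans (S := B' F)
    refine ⟨Module.Free.of_equiv (stepEquiv F).symm, ?_⟩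
    rw [(stepEquiv F).finrank_eq, Fin.prod_univ_succ]
    rcases subsingleton_or_nontrivial (B' F) with hs | hn
    · have h0 : Module.finrank A (B' F) = 0 := Module.finrank_zero_of_subsingleton
      have hs' : Subsingleton (AdjoinRoot (gpoly F)) := by
        refine ⟨fun x y => ?_⟩
        have h10 : (1 : AdjoinRoot (gpoly F)) = 0 := by
          rw [← map_one (AdjoinRoot.of (gpoly F)), Subsingleton.elim (1 : B' F) 0, map_zero]
        rw [← mul_one x, ← mul_one y, h10, mul_zero, mul_zero]
      have h3 : Module.finrank A (AdjoinRoot (gpoly F)) = 0 := Module.finrank_zero_of_subsingleton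
      rw [h3, ← hrank, h0, mul_zero]
    · rw [← Module.finrank_mul_finrank A (B' F) (AdjoinRoot (gpoly F)), hrank,
        (AdjoinRoot.powerBasis' hg).finrank, AdjoinRoot.powerBasis'_dim,
        (hF 0).natDegree_map, mul_comm]


/-- Let A be a nonzero ring and F_1, …, F_r monic one-variable polynomials of degrees d_1, …, d_r; then
A[T_1, …, T_r]/(F_1(T_1), …, F_r(T_r)) is a free A-module of rank ∏ d_i. (The published statement
assumes A local with maximal ideal of square zero and A' local, which this assertion does not use;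
its bound [K' : K] ≤ d and part (ii) are not stated.) -/
theorem result {A : Type u} [CommRing A] [Nontrivial A]
    {r : ℕ} (F : Fin r → Polynomial A) (hF : ∀ i, (F i).Monic) :
    Module.Free A (MvPolynomial (Fin r) A ⧸ Ideal.span (Set.range fun i => Polynomial.aeval (MvPolynomial.X i : MvPolynomial (Fin r) A) (F i))) ∧
      Module.finrank A (MvPolynomial (Fin r) A ⧸ Ideal.span (Set.range fun i => Polynomial.aeval (MvPolynomial.X i : MvPolynomial (Fin r) A) (F i))) =
        Finset.univ.prod fun i => (F i).natDegree := by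
  exact main r F hF

end Groth.Agent.S4610
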