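import Groth.Statements.S2135
import Groth.Agent.Lib.GeomUnibranch98

set_option autoImplicit false
universe u
open CAlg

namespace Groth.Agent.S2135

/-- A local ring `A` is geometrically unibranch if and only if a strict henselization of `A` has a
unique minimal prime ideal. -/
theorem result {A Ash : Type u} [CommRing A] [IsLocalRing A]
    [CommRing Ash] [IsLocalRing Ash] [Algebra A Ash] [IsLocalHom (algebraMap A Ash)]
    [Hensel.IsStrictHenselization A Ash] :
    CAlg2.IsGeomUnibranch A ↔ CAlgX.HasUniqueMinimalPrime Ash := by
  have hff : Module.FaithfullyFlat A Ash :=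
    Groth.Agent.Lib.StrictHenselization.faithfullyFlat_of_isStrictHenselization A Ash
  have hflat : Module.Flat A Ash := inferInstance
  constructor
  · intro hG
    obtain ⟨hD, hL⟩ := hG.1
    have hint : Algebra.IsIntegral A (CAlg2.normRed A) :=
      Groth.Agent.Lib.Unibranch98.isIntegral_normRed A
    have hlh : IsLocalHom (algebraMap A (CAlg2.normRed A)) :=
      Groth.Agent.Lib.Unibranch98.isLocalHom_normRed A
    have hIC : IsIntegrallyClosed (CAlg2.normRed A) :=
      Groth.Agent.Lib.Unibranch98.isIntegrallyClosed_normRed A
    have hPI : IsPurelyInseparable (IsLocalRing.ResidueField A)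
        (IsLocalRing.ResidueField (CAlg2.normRed A)) :=
      Groth.Agent.Lib.GeomUnibranch98.isPurelyInseparable_of_isGeomUnibranch A hG
    have hdom : IsDomain (TensorProduct A (CAlg2.normRed A) Ash) :=
      Groth.Agent.Lib.GeomUnibranch98.isDomain_tensor_of_isStrictHenselization A
        (CAlg2.normRed A) Ash
    exact Groth.Agent.Lib.Unibranch98.hasUniqueMinimalPrime_of_isDomain_tensor (A := A) Ash
  · intro h
    have hH : HenselianLocalRing Ash := Hensel.IsStrictHenselization.henselian (R := A)
    obtain ⟨hD, hL⟩ := Groth.Agent.Lib.Unibranch98.isUnibranch_of_hasUniqueMinimalPrime (A := A) Ash h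
    have hint : Algebra.IsIntegral A (CAlg2.normRed A) :=
      Groth.Agent.Lib.Unibranch98.isIntegral_normRed A
    have hlh : IsLocalHom (algebraMap A (CAlg2.normRed A)) :=
      Groth.Agent.Lib.Unibranch98.isLocalHom_normRed A
    have hlocD : IsLocalRing (TensorProduct A (CAlg2.normRed A) Ash) :=
      Groth.Agent.Lib.Unibranch98.isLocalRing_tensor_of_hasUniqueMinimalPrime (A := A) Ash h
    have hsc : IsSepClosure (IsLocalRing.ResidueField A) (IsLocalRing.ResidueField Ash) :=
      Hensel.IsStrictHenselization.isSepClosure
    have hPI : IsPurelyInseparable (IsLocalRing.ResidueField A)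
        (IsLocalRing.ResidueField (CAlg2.normRed A)) :=
      Groth.Agent.Lib.GeomUnibranch98.isPurelyInseparable_of_isLocalRing_tensor A
        (CAlg2.normRed A) Ash
    exact Groth.Agent.Lib.GeomUnibranch98.isGeomUnibranch_of_isPurelyInseparable A ⟨hD, hL⟩

end Groth.Agent.S2135
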