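import Groth.Statements.S0475
import Mathlib.CategoryTheory.Limits.Preserves.Shapes.Products
import Mathlib.CategoryTheory.Limits.Shapes.ZeroMorphisms

set_option autoImplicit false
universe v u
open CohDer

namespace Groth.Agent.S0475

open CategoryTheory CategoryTheory.Limits

section General

variable {D : Type u} [Category.{v} D] [Preadditive D]

/-- Morphisms `K ⟶ pt` which are finite sums of morphisms factoring through some `inj i`. -/
def FF (K : D) {ι : Type v} {X : ι → D} {pt : D} (inj : ∀ i, X i ⟶ pt) : AddSubgroup (K ⟶ pt) :=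
  AddSubgroup.closure {f | ∃ (i : ι) (g : K ⟶ X i), f = g ≫ inj i}

lemma FF_gen (K : D) {ι : Type v} {X : ι → D} {pt : D} (inj : ∀ i, X i ⟶ pt) (i : ι)
    (g : K ⟶ X i) : g ≫ inj i ∈ FF K inj :=
  AddSubgroup.subset_closure ⟨i, g, rfl⟩

lemma FF_postcomp (K : D) {ι : Type v} {X : ι → D} {pt pt' : D} (inj : ∀ i, X i ⟶ pt)
    (inj' : ∀ i, X i ⟶ pt') (φ : pt ⟶ pt') (hφ : ∀ i, inj i ≫ φ = inj' i)
    {f : K ⟶ pt} (hf : f ∈ FF K inj) : f ≫ φ ∈ FF K inj' := by
  induction hf using AddSubgroup.closure_induction with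
  | mem x hx =>
    obtain ⟨i, g, rfl⟩ := hx
    rw [Category.assoc, hφ]
    exact FF_gen K inj' i g
  | zero => simp
  | add x y _ _ hx hy => simpa using add_mem hx hy
  | neg x _ hx => simpa using neg_mem hx

lemma FF_precomp {K K' : D} (u : K' ⟶ K) {ι : Type v} {X : ι → D} {pt : D} (inj : ∀ i, X i ⟶ pt)
    {f : K ⟶ pt} (hf : f ∈ FF K inj) : u ≫ f ∈ FF K' inj := by
  induction hf using AddSubgroup.closure_induction with
  | mem x hx =>
    obtain ⟨i, g, rfl⟩ := hx
    rw [← Category.assoc]
    exact FF_gen K' inj i (u ≫ g)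
  | zero => simp
  | add x y _ _ hx hy => simpa using add_mem hx hy
  | neg x _ hx => simpa using neg_mem hx

lemma FF_preimage {K : D} (T : D ⥤ D) [T.Additive] [T.Full] [T.Faithful]
    {ι : Type v} {X : ι → D} {pt : D} (inj : ∀ i, X i ⟶ pt)
    {h : T.obj K ⟶ T.obj pt}
    (hh : h ∈ FF (T.obj K) (X := fun i => T.obj (X i)) (fun i => T.map (inj i))) :
    T.preimage h ∈ FF K inj := by
  induction hh using AddSubgroup.closure_induction with
  | mem x hx =>
    obtain ⟨i, g, rfl⟩ := hx
    have : T.preimage (g ≫ T.map (inj i)) = T.preimage g ≫ inj i := by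
      apply T.map_injective
      simp
    rw [this]
    exact FF_gen K inj i _
  | zero =>
    have : T.preimage (0 : T.obj K ⟶ T.obj pt) = 0 := by
      apply T.map_injective
      simp
    rw [this]
    exact zero_mem _
  | add x y _ _ hx hy =>
    have : T.preimage (x + y) = T.preimage x + T.preimage y := by
      apply T.map_injective
      simp
    rw [this]
    exact add_mem hx hy
  | neg x _ hx =>
    have : T.preimage (-x) = -T.preimage x := by
      apply T.map_injective
      simp
    rw [this]
    exact neg_mem hx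

variable [HasCoproducts.{v} D]

open Classical in
lemma homSumToHomCoprod_of (K : D) {ι : Type v} (X : ι → D) (i : ι) (g : K ⟶ X i) :
    homSumToHomCoprod K X (DirectSum.of (fun i => K ⟶ X i) i g) = g ≫ Sigma.ι X i := by
  simp only [homSumToHomCoprod]
  erw [DirectSum.toAddMonoid_of]
  rfl

lemma range_eq_FF (K : D) {ι : Type v} (X : ι → D) :
    (homSumToHomCoprod K X).range = FF K (Sigma.ι X) := by
  classical
  apply le_antisymm
  · rintro _ ⟨x, rfl⟩
    induction x using DirectSum.induction_on with
    | zero => simp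
    | of i g =>
      rw [homSumToHomCoprod_of]
      exact FF_gen K _ i g
    | add x y hx hy =>
      rw [map_add]
      exact add_mem hx hy
  · refine (AddSubgroup.closure_le _).2 ?_
    rintro _ ⟨i, g, rfl⟩
    exact ⟨DirectSum.of (fun i => K ⟶ X i) i g, homSumToHomCoprod_of K X i g⟩

open Classical in
lemma homSumToHomCoprod_comp_π (K : D) {ι : Type v} (X : ι → D)
    (x : DirectSum ι (fun i => K ⟶ X i)) (j : ι) :
    homSumToHomCoprod K X x ≫ Sigma.π X j = x j := by
  induction x using DirectSum.induction_on with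
  | zero => simp
  | of i g =>
    rw [homSumToHomCoprod_of, Category.assoc, Sigma.ι_π]
    by_cases h : i = j
    · subst h
      simp
    · rw [dif_neg h, comp_zero, DirectSum.of_eq_of_ne _ _ _ (Ne.symm h)]
  | add x y hx hy =>
    rw [map_add, Preadditive.add_comp, hx, hy]
    rfl

lemma injective_homSumToHomCoprod (K : D) {ι : Type v} (X : ι → D) :
    Function.Injective (homSumToHomCoprod K X) := by
  intro x y hxy
  refine DFinsupp.ext (fun j => ?_)
  rw [← homSumToHomCoprod_comp_π K X x j, ← homSumToHomCoprod_comp_π K X y j, hxy]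

open Classical in
lemma exists_finset_of_mem_range (K : D) {ι : Type v} (X : ι → D) (g : K ⟶ ∐ X)
    (hg : g ∈ (homSumToHomCoprod K X).range) :
    ∃ S : Finset ι, g = ∑ i ∈ S, (g ≫ Sigma.π X i) ≫ Sigma.ι X i := by
  obtain ⟨x, rfl⟩ := hg
  refine ⟨x.support, ?_⟩
  conv_lhs => rw [← DirectSum.sum_support_of x, map_sum]
  refine Finset.sum_congr rfl (fun i _ => ?_)
  rw [homSumToHomCoprod_of, homSumToHomCoprod_comp_π]

lemma isCompactObject_iff (K : D) :
    IsCompactObject K ↔ ∀ (ι : Type v) (X : ι → D), FF K (Sigma.ι X) = ⊤ := by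
  constructor
  · intro h ι X
    rw [← range_eq_FF]
    exact AddMonoidHom.range_eq_top.2 (h ι X).2
  · intro h ι X
    refine ⟨injective_homSumToHomCoprod K X, ?_⟩
    rw [← AddMonoidHom.range_eq_top, range_eq_FF]
    exact h ι X

lemma FF_eq_top_of_isColimit {K : D} (hK : IsCompactObject K) {ι : Type v} {X : ι → D} {pt : D}
    (inj : ∀ i, X i ⟶ pt) (hc : IsColimit (Cofan.mk pt inj)) : FF K inj = ⊤ := by
  rw [eq_top_iff]
  intro f _
  let e := (coproductIsCoproduct X).coconePointUniqueUpToIso hc
  have he : ∀ i, Sigma.ι X i ≫ e.hom = inj i := fun i =>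
    (coproductIsCoproduct X).comp_coconePointUniqueUpToIso_hom hc ⟨i⟩
  have h1 : f ≫ e.inv ∈ FF K (Sigma.ι X) := by
    rw [(isCompactObject_iff K).1 hK ι X]
    trivial
  have h2 := FF_postcomp K (Sigma.ι X) inj e.hom he h1
  simpa using h2

lemma isCompactObject_of_functor {K K' : D} (hK : IsCompactObject K) (T : D ⥤ D) [T.Additive]
    [T.Full] [T.Faithful] [∀ (ι : Type v), PreservesColimitsOfShape (Discrete ι) T]
    (e : K ≅ T.obj K') : IsCompactObject K' := by
  rw [isCompactObject_iff]
  intro ι X
  rw [eq_top_iff]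
  intro f _
  have hc : IsColimit (Cofan.mk (T.obj (∐ X)) (fun i => T.map (Sigma.ι X i)) :
      Cofan fun i => T.obj (X i)) :=
    isColimitOfHasCoproductOfPreservesColimit T X
  have h1 : e.hom ≫ T.map f ∈ FF K (X := fun i => T.obj (X i)) (fun i => T.map (Sigma.ι X i)) := by
    rw [FF_eq_top_of_isColimit hK _ hc]
    trivial
  have h2 := FF_precomp e.inv _ h1
  rw [Iso.inv_hom_id_assoc] at h2
  have h3 := FF_preimage T (Sigma.ι X) h2
  simpa using h3

end General

variable {D : Type u} [Category.{v} D] [Preadditive D] [Limits.HasZeroObject D] [HasShift D ℤ]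
    [∀ n : ℤ, (shiftFunctor D n).Additive] [Pretriangulated D] [HasCoproducts.{v} D]

open Pretriangulated ZeroObject

lemma isCompactObject_ext₂ (T : Triangle D) (hT : T ∈ distTriang D)
    (h₁ : IsCompactObject T.obj₁) (h₃ : IsCompactObject T.obj₃) : IsCompactObject T.obj₂ := by
  classical
  rw [isCompactObject_iff]
  intro ι X
  rw [eq_top_iff]
  intro f _
  obtain ⟨S, hS⟩ := exists_finset_of_mem_range T.obj₁ X (T.mor₁ ≫ f)
    (AddMonoidHom.range_eq_top.2 (h₁ ι X).2 ▸ AddSubgroup.mem_top _)
  let e : ∐ X ⟶ ∐ X := ∑ i ∈ S, Sigma.π X i ≫ Sigma.ι X i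
  have he : (T.mor₁ ≫ f) ≫ e = T.mor₁ ≫ f := by
    conv_rhs => rw [hS]
    simp only [e, Preadditive.comp_sum, Category.assoc]
  have h0 : T.mor₁ ≫ (f ≫ (𝟙 _ - e)) = 0 := by
    rw [← Category.assoc, Preadditive.comp_sub, Category.comp_id, he, sub_self]
  obtain ⟨h, hh⟩ := Triangle.yoneda_exact₂ T hT _ h0
  have h3 : h ∈ FF T.obj₃ (Sigma.ι X) := by
    rw [(isCompactObject_iff _).1 h₃ ι X]
    trivial
  have : f = f ≫ e + T.mor₂ ≫ h := by
    rw [← hh, Preadditive.comp_sub, Category.comp_id]
    abel
  rw [this]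
  refine add_mem ?_ (FF_precomp T.mor₂ _ h3)
  simp only [e, Preadditive.comp_sum]
  refine sum_mem (fun i _ => ?_)
  rw [← Category.assoc]
  exact FF_gen _ _ i _

/-- In a pretriangulated category with direct sums the property of being a compact object contains zero,
is stable under all shifts and is closed under extensions in distinguished triangles (a triangulated
subcategory in Mathlib's sense). The source also shows it is Karoubian and saturated. -/
theorem result {D : Type u} [Category.{v} D] [Preadditive D] [Limits.HasZeroObject D] [HasShift D ℤ]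
    [∀ n : ℤ, (shiftFunctor D n).Additive] [Pretriangulated D] [HasCoproducts.{v} D] :
    ObjectProperty.IsTriangulated (fun K : D => CohDer.IsCompactObject K) := by
  have hiso : ObjectProperty.IsClosedUnderIsomorphisms (fun K : D => CohDer.IsCompactObject K) := by
    constructor
    intro K K' e hK
    exact isCompactObject_of_functor hK (𝟭 D) e
  have hzero : ObjectProperty.ContainsZero (fun K : D => CohDer.IsCompactObject K) := by
    refine ⟨0, isZero_zero D, ?_⟩
    show IsCompactObject (0 : D)
    rw [isCompactObject_iff]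
    intro ι X
    rw [eq_top_iff]
    intro f _
    have : f = 0 := (isZero_zero D).eq_of_src _ _
    rw [this]
    exact zero_mem _
  have hshift : ObjectProperty.IsStableUnderShift (fun K : D => CohDer.IsCompactObject K) ℤ := by
    refine ⟨fun n => ⟨fun K hK => ?_⟩⟩
    show IsCompactObject ((shiftFunctor D n).obj K)
    exact isCompactObject_of_functor hK (shiftFunctor D (-n))
      ((shiftFunctorCompIsoId D n (-n) (by simp)).symm.app K)
  have hext : ObjectProperty.IsTriangulatedClosed₂ (fun K : D => CohDer.IsCompactObject K) :=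
    ObjectProperty.IsTriangulatedClosed₂.mk' (fun T hT h₁ h₃ => isCompactObject_ext₂ T hT h₁ h₃)
  exact { }

end Groth.Agent.S0475
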