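import Groth.Statements.S0386
import Groth.Agent.Lib.FlatLimFP88
import Groth.Agent.Lib.EtaleLocusBC

set_option autoImplicit false
universe u
open FlatMor

namespace Groth.Agent.S0386

open AlgebraicGeometry CategoryTheory Limits in
/-- Openness of the flat locus: for a morphism f : X ⟶ S locally of finite presentation, the set of
points x of X at which the local ring O_{X,x} is flat over O_{S,f(x)} is open in X. (The published
statement also treats the flat locus of a finitely presented quasi-coherent module; stated here for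
the structure sheaf.) -/
theorem result {X S : Scheme.{u}} (f : X ⟶ S) [LocallyOfFinitePresentation f] :
    IsOpen {x : X | (f.stalkMap x).hom.Flat} := by
  refine isOpen_iff_forall_mem_open.mpr fun x hx => ?_
  obtain ⟨_, ⟨U, hU, rfl⟩, hxU, -⟩ :=
    S.isBasis_affineOpens.exists_subset_of_mem_open (Set.mem_univ (f x)) isOpen_univ
  obtain ⟨_, ⟨V, hV, rfl⟩, hxV, hVU⟩ :=
    X.isBasis_affineOpens.exists_subset_of_mem_open hxU (U.2.preimage f.continuous)
  have := f.finitePresentation_appLE hU hV hVU
  algebraize [(f.appLE U V hVU).hom]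
  have hopen := Groth.Agent.Lib.FlatLimFP88.isOpen_module_flat_locus
    (R := Γ(S, U)) (S := Γ(X, V)) (M := Γ(X, V))
  have hq : hV.primeIdealOf ⟨x, hxV⟩ ∈ {q : PrimeSpectrum Γ(X, V) |
      Module.Flat Γ(S, U) (LocalizedModule q.asIdeal.primeCompl Γ(X, V))} :=
    (Groth.Agent.Lib.EtaleLocusBC.flat_stalkMap_iff U hU V hV hVU hxV).mp hx
  obtain ⟨_, ⟨r, rfl⟩, hrx, hr⟩ :=
    PrimeSpectrum.isTopologicalBasis_basic_opens.exists_subset_of_mem_open hq hopen
  refine ⟨X.basicOpen r, fun y hy => ?_, (X.basicOpen r).2,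
    (Groth.Agent.Lib.UnramifiedLocusBC.mem_basicOpen_iff_primeIdealOf hV r hxV).mpr hrx⟩
  have hyV : y ∈ V := X.basicOpen_le r hy
  change (f.stalkMap y).hom.Flat
  rw [Groth.Agent.Lib.EtaleLocusBC.flat_stalkMap_iff U hU V hV hVU hyV]
  exact hr ((Groth.Agent.Lib.UnramifiedLocusBC.mem_basicOpen_iff_primeIdealOf hV r hyV).mp hy)

end Groth.Agent.S0386
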