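import Groth.Statements.S9766
import Groth.Agent.Lib.FibreStalkCM33
import Groth.Agent.Lib.CMComp33

set_option autoImplicit false
universe u
open FlatMor

namespace Groth.Agent.S9766

open AlgebraicGeometry CategoryTheory Limits in
/-- For morphisms f : X ⟶ Y, g : Y ⟶ Z and a point x of X whose fibre under f ≫ g is locally Noetherian,
Cohen–Macaulayness of f at x (flat at x with Cohen–Macaulay local ring of the fibre at x) together
with that of g at f x implies that f ≫ g is Cohen–Macaulay at x. The published statement assumes all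
fibres of f, g and g ∘ f locally Noetherian; this row assumes only that the fibre of f ≫ g through x
is, which is all the argument uses. -/
theorem result {X Y Z : Scheme.{u}} (f : X ⟶ Y) (g : Y ⟶ Z) (x : X)
    (hN : IsLocallyNoetherian ((f ≫ g).fiber (g (f x))))
    (hf : MoreMor.IsCMAt f x) (hg : MoreMor.IsCMAt g (f x)) : MoreMor.IsCMAt (f ≫ g) x := by
  rw [Groth.Agent.Lib.FibreStalkCM33.isCMAt_iff] at hf hg ⊢
  have hJ : Ideal.map ((f ≫ g).stalkMap x).hom
      (IsLocalRing.maximalIdeal (Z.presheaf.stalk ((f ≫ g) x))) =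
      Ideal.map (f.stalkMap x).hom (Ideal.map (g.stalkMap (f x)).hom
        (IsLocalRing.maximalIdeal (Z.presheaf.stalk (g (f x))))) := by
    rw [Ideal.map_map, ← CommRingCat.hom_comp, ← Scheme.Hom.stalkMap_comp]
    rfl
  have hNoeth : IsNoetherianRing (X.presheaf.stalk x ⧸ Ideal.map ((f ≫ g).stalkMap x).hom
      (IsLocalRing.maximalIdeal (Z.presheaf.stalk ((f ≫ g) x)))) := by
    have h0 : IsLocallyNoetherian ((f ≫ g).fiber ((f ≫ g) x)) := hN
    exact isNoetherianRing_of_ringEquiv _
      (Groth.Agent.Lib.FibreStalk33.fibreStalkEquiv (f ≫ g) x).symm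
  refine ⟨?_, ?_⟩
  · have e : (f ≫ g).stalkMap x = g.stalkMap (f x) ≫ f.stalkMap x :=
      Scheme.Hom.stalkMap_comp f g x
    have h : ((f.stalkMap x).hom.comp (g.stalkMap (f x)).hom).Flat := RingHom.Flat.comp hg.1 hf.1
    rw [e]
    exact h
  · rw [hJ] at hNoeth ⊢
    have hNB : IsNoetherianRing (Y.presheaf.stalk (f x) ⧸ Ideal.map (g.stalkMap (f x)).hom
        (IsLocalRing.maximalIdeal (Z.presheaf.stalk (g (f x))))) := hg.2.1
    exact (Groth.Agent.Lib.CMComp33.isCohenMacaulayLocalRing_comp_iff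
      (g.stalkMap (f x)).hom (f.stalkMap x).hom hf.1).mpr ⟨hg.2, hf.2⟩

end Groth.Agent.S9766
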