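import Groth.Statements.S7137
import Groth.Agent.S5672
import Groth.Agent.Lib.H87AB
import Groth.Agent.Lib.CMFlat33
import Groth.Agent.Lib.DepthSurj
import Groth.Agent.Lib.GradeFlat33
import Mathlib.Tactic

set_option autoImplicit false
universe u
open CategoryTheory
open CAlg

namespace Groth.Agent.S7137

section PdSum

open Groth.Agent.S5672

variable {R : Type u} [CommRing R]

/-- finite powers of a module of projective dimension `< n` have projective dimension `< n`. -/
lemma hasProjectiveDimensionLT_pi (T : Type u) [AddCommGroup T] [Module R T] (n : ℕ)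
    (h : HasProjectiveDimensionLT (ModuleCat.of R T) n) (k : ℕ) :
    HasProjectiveDimensionLT (ModuleCat.of R (Fin k → T)) n := by
  rw [hasProjectiveDimensionLT_iff.{u}]
  intro i hi Y ξ
  have hid : 𝟙 (ModuleCat.of R (Fin k → T)) =
      ∑ j, ModuleCat.ofHom (LinearMap.proj (R := R) (φ := fun _ : Fin k => T) j) ≫
        ModuleCat.ofHom (LinearMap.single R (fun _ : Fin k => T) j) := by
    rw [← ModuleCat.ofHom_id, ← LinearMap.lsum_single (R := R) (φ := fun _ : Fin k => T) R,
      LinearMap.lsum_apply, ofHom_sum']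
    rfl
  rw [← pb_id ξ, hid, pb_sum]
  apply Finset.sum_eq_zero
  intro j _
  rw [pb_comp, Abelian.Ext.eq_zero_of_hasProjectiveDimensionLT
    (pb (ModuleCat.ofHom (LinearMap.single R (fun _ : Fin k => T) j)) ξ) n hi, pb_map_zero]

end PdSum

section Induction

variable {R : Type u} [CommRing R] {S : Type u} [CommRing S] [Algebra R S]

/-- restriction of scalars of the presentation sequence `0 → ker π → N → E → 0` -/
lemma shortExact_restrict {N E : Type u} [AddCommGroup N] [Module S N] [Module R N]
    [IsScalarTower R S N] [AddCommGroup E] [Module S E] [Module R E] [IsScalarTower R S E]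
    (π : N →ₗ[S] E) (hπ : Function.Surjective π) :
    ∃ (T : ShortComplex (ModuleCat.{u} R)), T.ShortExact ∧
      T.X₁ = ModuleCat.of R (LinearMap.ker π) ∧ T.X₂ = ModuleCat.of R N ∧
      T.X₃ = ModuleCat.of R E := by
  refine ⟨ShortComplex.mk
    (ModuleCat.ofHom ((LinearMap.ker π).subtype.restrictScalars R))
    (ModuleCat.ofHom (π.restrictScalars R)) ?_, ?_, rfl, rfl, rfl⟩
  · apply ModuleCat.hom_ext
    apply LinearMap.ext
    intro x
    exact x.2
  · refine ModuleCat.shortComplex_shortExact _ ?_ Subtype.val_injective hπ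
    intro y
    constructor
    · intro hy; exact ⟨⟨y, hy⟩, rfl⟩
    · rintro ⟨z, rfl⟩; exact z.2

variable [IsLocalRing S] [IsNoetherianRing S]

/-- the inductive statement: `pd_S E < n + 1 → pd_R E < e₁ + n + 1`. -/
lemma pd_restrict (e₁ : ℕ) (h₁ : HasProjectiveDimensionLT (ModuleCat.of R S) (e₁ + 1)) (n : ℕ) :
    ∀ (E : Type u) [AddCommGroup E] [Module S E] [Module R E] [IsScalarTower R S E]
      [Module.Finite S E], HasProjectiveDimensionLT (ModuleCat.of S E) (n + 1) →
      HasProjectiveDimensionLT (ModuleCat.of R E) (e₁ + n + 1) := by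
  induction n with
  | zero =>
    intro E _ _ _ _ _ h
    have hproj : Projective (ModuleCat.of S E) := inferInstance
    have hP : Module.Projective S E := (IsProjective.iff_projective (R := S) (P := E)).mpr hproj
    have hfree : Module.Free S E := Module.free_of_flat_of_isLocalRing
    let b := Module.finBasis S E
    let e : E ≃ₗ[R] (Fin (Module.finrank S E) → S) := b.equivFun.restrictScalars R
    have hpi := hasProjectiveDimensionLT_pi S (e₁ + 1) h₁ (Module.finrank S E)
    show HasProjectiveDimensionLT (ModuleCat.of R E) (e₁ + 1)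
    exact hasProjectiveDimensionLT_of_iso e.toModuleIso.symm (e₁ + 1)
  | succ n ih =>
    intro E _ _ _ _ _ h
    obtain ⟨k, π, hπ⟩ := Module.Finite.exists_fin' S E
    obtain ⟨T, hT, h1, h2, h3⟩ := shortExact_restrict (R := S) (S := S) π hπ
    -- over `S`
    have hK : HasProjectiveDimensionLT (ModuleCat.of S (LinearMap.ker π)) (n + 1) := by
      have hX2 : HasProjectiveDimensionLT T.X₂ (n + 1) := by
        rw [h2]
        have : Module.Projective S (Fin k → S) := inferInstance
        have : Projective (ModuleCat.of S (Fin k → S)) :=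
          (IsProjective.iff_projective (R := S) (P := (Fin k → S))).mp inferInstance
        exact hasProjectiveDimensionLT_of_ge _ 1 (n + 1) (by omega)
      have hX3 : HasProjectiveDimensionLT T.X₃ (n + 1 + 1) := by rw [h3]; exact h
      have := hT.hasProjectiveDimensionLT_X₁ (n + 1) hX2 hX3
      rw [h1] at this
      exact this
    have hKR := ih (LinearMap.ker π) hK
    obtain ⟨T', hT', h1', h2', h3'⟩ := shortExact_restrict (R := R) (S := S) π hπ
    have hX1 : HasProjectiveDimensionLT T'.X₁ (e₁ + n + 1) := by rw [h1']; exact hKR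
    have hX2 : HasProjectiveDimensionLT T'.X₂ (e₁ + n + 1 + 1) := by
      rw [h2']
      have hpi := hasProjectiveDimensionLT_pi S (e₁ + 1) h₁ k
      exact hasProjectiveDimensionLT_of_ge _ (e₁ + 1) (e₁ + n + 1 + 1) (by omega)
    have := hT'.hasProjectiveDimensionLT_X₃ (e₁ + n + 1) hX1 hX2
    rw [h3'] at this
    exact this

end Induction

lemma exists_nat_pd {C : Type*} [Category C] [Abelian C] (X : C)
    (h : projectiveDimension X ≠ ⊤) (hz : ¬ Limits.IsZero X) :
    ∃ e : ℕ, projectiveDimension X = e := by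
  have hb : projectiveDimension X ≠ ⊥ := fun hb => hz ((projectiveDimension_eq_bot_iff X).mp hb)
  obtain ⟨d, hd⟩ := WithBot.ne_bot_iff_exists.mp hb
  have hdt : d ≠ ⊤ := by
    rintro rfl
    exact h hd.symm
  refine ⟨d.toNat, ?_⟩
  rw [← hd]
  have := ENat.coe_toNat hdt
  exact_mod_cast congrArg (WithBot.some) this.symm

/-- Take a Noetherian local ring R, an ideal I and a finite module E ≠ 0 over R/I. Suppose that R/I, as
an R-module, and E, as an R/I-module, both have finite projective dimension. Then E, as an R-module,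
has finite projective dimension too, and it equals pd_R(R/I) + pd_{R/I}(E). -/
theorem result (R : Type u) [CommRing R] [IsNoetherianRing R] [IsLocalRing R]
    (I : Ideal R) (E : Type u) [AddCommGroup E] [Module (R ⧸ I) E] [Module R E] [IsScalarTower R (R ⧸ I) E]
    [Module.Finite (R ⧸ I) E] [Nontrivial E]
    (h1 : projectiveDimension (ModuleCat.of R (R ⧸ I)) ≠ ⊤)
    (h2 : projectiveDimension (ModuleCat.of (R ⧸ I) E) ≠ ⊤) :
    projectiveDimension (ModuleCat.of R E) ≠ ⊤ ∧
      projectiveDimension (ModuleCat.of R E) =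
        projectiveDimension (ModuleCat.of R (R ⧸ I)) + projectiveDimension (ModuleCat.of (R ⧸ I) E) := by
  have hI : I ≠ ⊤ := by
    intro h
    have h1 : Subsingleton (R ⧸ I) := Ideal.Quotient.subsingleton_iff.mpr h
    have h2 : Subsingleton E := Module.subsingleton (R ⧸ I) E
    exact not_subsingleton E h2
  have hnt : Nontrivial (R ⧸ I) := Ideal.Quotient.nontrivial_iff.mpr hI
  have hloc : IsLocalRing (R ⧸ I) :=
    IsLocalRing.of_surjective' (Ideal.Quotient.mk I) Ideal.Quotient.mk_surjective
  have hfinE : Module.Finite R E := Module.Finite.trans (R ⧸ I) E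
  have hzS : ¬ Limits.IsZero (ModuleCat.of R (R ⧸ I)) := by
    rw [ModuleCat.isZero_iff_subsingleton]
    exact not_subsingleton _
  have hzE : ¬ Limits.IsZero (ModuleCat.of (R ⧸ I) E) := by
    rw [ModuleCat.isZero_iff_subsingleton]
    exact not_subsingleton _
  have hzE' : ¬ Limits.IsZero (ModuleCat.of R E) := by
    rw [ModuleCat.isZero_iff_subsingleton]
    exact not_subsingleton _
  obtain ⟨e1, he1⟩ := exists_nat_pd _ h1 hzS
  obtain ⟨e2, he2⟩ := exists_nat_pd _ h2 hzE
  have hlt1 : HasProjectiveDimensionLT (ModuleCat.of R (R ⧸ I)) (e1 + 1) :=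
    (projectiveDimension_le_iff _ e1).mp he1.le
  have hlt2 : HasProjectiveDimensionLT (ModuleCat.of (R ⧸ I) E) (e2 + 1) :=
    (projectiveDimension_le_iff _ e2).mp he2.le
  have hltE : HasProjectiveDimensionLT (ModuleCat.of R E) (e1 + e2 + 1) :=
    pd_restrict (R := R) (S := R ⧸ I) e1 hlt1 e2 E hlt2
  have hle : projectiveDimension (ModuleCat.of R E) ≤ ((e1 + e2 : ℕ) : WithBot ℕ∞) :=
    (projectiveDimension_le_iff _ (e1 + e2)).mpr hltE
  have hne : projectiveDimension (ModuleCat.of R E) ≠ ⊤ := by
    intro h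
    rw [h] at hle
    have hlt : ((e1 + e2 : ℕ) : WithBot ℕ∞) < ⊤ := by
      have h' : (((e1 + e2 : ℕ) : ℕ∞) : WithBot ℕ∞) < ((⊤ : ℕ∞) : WithBot ℕ∞) :=
        WithBot.coe_lt_coe.mpr (ENat.natCast_lt_top (e1 + e2))
      exact h'
    exact absurd hle (not_le.mpr hlt)
  refine ⟨hne, ?_⟩
  obtain ⟨e, he⟩ := exists_nat_pd _ hne hzE'
  -- Auslander–Buchsbaum three times
  have ab1 := Groth.Agent.Lib.H87AB.auslander_buchsbaum (R := R) E e he
  have ab2 := Groth.Agent.Lib.H87AB.auslander_buchsbaum (R := R) (R ⧸ I) e1 he1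
  have ab3 := Groth.Agent.Lib.H87AB.auslander_buchsbaum (R := R ⧸ I) E e2 he2
  have d1 : LocCoh.depth R (R ⧸ I) = LocCoh.depth (R ⧸ I) (R ⧸ I) :=
    Groth.Agent.Lib.CMFlat33.depth_quotient_eq I
  have d2 : LocCoh.depth R E = LocCoh.depth (R ⧸ I) E := by
    apply le_antisymm
    · exact Groth.Agent.Lib.DepthSurj.depth_le_depth_of_surjective (R := R) (S := R ⧸ I)
        Ideal.Quotient.mk_surjective E
    · have := Groth.Agent.Lib.GradeFlat33.idealDepth_map_le_of_surjective (R := R) (S := R ⧸ I)
        Ideal.Quotient.mk_surjective (IsLocalRing.maximalIdeal R) E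
      rw [← Groth.Agent.Lib.CMFlat33.maximalIdeal_quotient I] at this
      exact this
  have hdE : LocCoh.depth (R ⧸ I) E ≠ ⊤ := Groth.Agent.Lib.DepthRees.depth_ne_top E
  obtain ⟨dE, hdE'⟩ := ENat.ne_top_iff_exists.mp hdE
  rw [d2, ← hdE'] at ab1
  rw [d1, ab3, ← hdE'] at ab2
  rw [ab2] at ab1
  have hnat : e1 + (e2 + dE) = e + dE := by exact_mod_cast ab1
  have hee : e = e1 + e2 := by omega
  rw [he, he1, he2, hee]
  push_cast
  rfl

end Groth.Agent.S7137
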