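import Groth.Statements.S0343
import Groth.Agent.Lib.H26Rees
import Groth.Agent.S0340
import Groth.Agent.Lib.H29Depth
import Mathlib.Tactic

set_option autoImplicit false
universe u v
open Goren

namespace Groth.Agent.S0343

section Helpers

open IsLocalRing

/-- the residue fields of `A` and of a local quotient `A/I` are isomorphic as `A`-modules. -/
noncomputable def residueEquiv (A : Type u) [CommRing A] [IsLocalRing A] (I : Ideal A)
    [IsLocalRing (A ⧸ I)] [IsLocalHom (Ideal.Quotient.mk I)] :
    ResidueField A ≃ₗ[A] ResidueField (A ⧸ I) :=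
  LinearEquiv.ofBijective
    { toFun := ResidueField.map (Ideal.Quotient.mk I)
      map_add' := map_add _
      map_smul' := by
        intro a x
        simp only [RingHom.id_apply]
        rw [Algebra.smul_def, Algebra.smul_def, map_mul,
          IsScalarTower.algebraMap_apply A (A ⧸ I) (ResidueField (A ⧸ I))]
        rfl }
    (by
      constructor
      · exact (ResidueField.map (Ideal.Quotient.mk I)).injective
      · intro y
        obtain ⟨b, rfl⟩ := residue_surjective y
        obtain ⟨a, rfl⟩ := Ideal.Quotient.mk_surjective b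
        exact ⟨residue A a, rfl⟩)

end Helpers

/-- For a Noetherian local ring A and a non-zero-divisor f in the maximal ideal, A is Gorenstein exactly
when A/(f) is. -/
theorem result (A : Type u) [CommRing A] [IsLocalRing A] [IsNoetherianRing A] (f : A) (hf : f ∈ IsLocalRing.maximalIdeal A) (hreg : IsSMulRegular A f) : LocCoh.IsGorensteinLocalRing A ↔ LocCoh.IsGorensteinLocalRing (A ⧸ Ideal.span {f}) := by
  have hne : Ideal.span {f} ≠ ⊤ := by
    intro h
    have h0 : (1 : A) ∈ Ideal.span {f} := by rw [h]; trivial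
    have h1 : Ideal.span {f} ≤ IsLocalRing.maximalIdeal A :=
      (Ideal.span_singleton_le_iff_mem _).2 hf
    exact (IsLocalRing.maximalIdeal.isMaximal A).ne_top ((Ideal.eq_top_iff_one _).2 (h1 h0))
  have hnt : Nontrivial (A ⧸ Ideal.span {f}) := Ideal.Quotient.nontrivial_iff.mpr hne
  have hlocB : IsLocalRing (A ⧸ Ideal.span {f}) :=
    IsLocalRing.of_surjective' (Ideal.Quotient.mk _) Ideal.Quotient.mk_surjective
  have hlh : IsLocalHom (Ideal.Quotient.mk (Ideal.span {f})) :=
    IsLocalHom.of_surjective _ Ideal.Quotient.mk_surjective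
  have key : ∀ i, 1 ≤ i →
      (Subsingleton (CategoryTheory.Abelian.Ext (ModuleCat.of A (IsLocalRing.ResidueField A))
        (ModuleCat.of A A) (i + 1)) ↔
      Subsingleton (CategoryTheory.Abelian.Ext (ModuleCat.of (A ⧸ Ideal.span {f})
        (IsLocalRing.ResidueField (A ⧸ Ideal.span {f})))
        (ModuleCat.of (A ⧸ Ideal.span {f}) (A ⧸ Ideal.span {f})) i)) := by
    intro i hi
    have h1 := Groth.Agent.Lib.H26Rees.rees_vanish f (M := A) (M' := A ⧸ Ideal.span {f})
      (Submodule.mkQ (Ideal.span {f})) (Submodule.mkQ_surjective _)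
      (Groth.Agent.Lib.H26Rees.exact_mkQ f) hreg hreg i hi
      (IsLocalRing.ResidueField (A ⧸ Ideal.span {f}))
    let e : ModuleCat.of A (IsLocalRing.ResidueField A) ≅
        ModuleCat.of A (IsLocalRing.ResidueField (A ⧸ Ideal.span {f})) :=
      (residueEquiv A (Ideal.span {f})).toModuleIso
    refine Iff.trans ⟨fun h => ?_, fun h => ?_⟩ h1
    · exact Groth.Agent.Lib.H29Depth.subsingleton_ext_of_iso e.symm (i + 1) h
    · exact Groth.Agent.Lib.H29Depth.subsingleton_ext_of_iso e (i + 1) h
  rw [Groth.Agent.S0340.result A, Groth.Agent.S0340.result (A ⧸ Ideal.span {f})]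
  constructor
  · rintro ⟨N0, h⟩
    refine ⟨max N0 1, fun i hi => ?_⟩
    exact (key i (le_trans (le_max_right _ _) hi)).1
      (h (i + 1) (le_trans (le_max_left _ _) (le_trans hi (Nat.le_succ i))))
  · rintro ⟨N0, h⟩
    refine ⟨max N0 1 + 1, fun j hj => ?_⟩
    obtain ⟨i, rfl⟩ : ∃ i, j = i + 1 := ⟨j - 1, by omega⟩
    have hi : max N0 1 ≤ i := by omega
    exact (key i (le_trans (le_max_right _ _) hi)).2 (h i (le_trans (le_max_left _ _) hi))


end Groth.Agent.S0343
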