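import Groth.Statements.S0201
import Groth.Agent.Lib.CSASplit

set_option autoImplicit false
universe u v w
open scoped TensorProduct
open Curves

namespace Groth.Agent.S0201

/-- Every finite central simple algebra over k is split by a finite Galois extension of k. -/
theorem result (k : Type u) [Field k] (A : Type v) [Ring A] [Algebra k A]
    [Algebra.IsCentral k A] [IsSimpleRing A] [FiniteDimensional k A] :
    ∃ (k' : Type u) (_ : Field k') (_ : Algebra k k'), FiniteDimensional k k' ∧
      IsGalois k k' ∧ Curves.Splits k A k' := by
  have : Algebra.IsCentral (SeparableClosure k) (SeparableClosure k ⊗[k] A) :=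
    Groth.Agent.Lib.CSA.isCentral_baseChange
  have : IsSimpleRing (SeparableClosure k ⊗[k] A) := Groth.Agent.Lib.CSA.isSimpleRing_tensor
  obtain ⟨n, hn, ⟨e⟩⟩ := Groth.Agent.Lib.CSA.exists_algEquiv_matrix_of_isSepClosed
    (K := SeparableClosure k) (SeparableClosure k ⊗[k] A)
  obtain ⟨L, hLfin, hL⟩ := Groth.Agent.Lib.CSA.exists_finite_intermediateField_entries e
  let L' : IntermediateField k (SeparableClosure k) :=
    IntermediateField.normalClosure k L (SeparableClosure k)
  have hLL' : L ≤ L' := IntermediateField.le_normalClosure L
  obtain ⟨e'⟩ := Groth.Agent.Lib.CSA.splits_of_entries_mem hn e L'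
    (fun a i j => hLL' (hL a i j))
  have hsep : Algebra.IsSeparable k L' :=
    Algebra.isSeparable_tower_bot_of_isSeparable k L' (SeparableClosure k)
  have hnorm : Normal k L' := inferInstance
  have hfin : FiniteDimensional k L' := inferInstance
  exact ⟨L', inferInstance, inferInstance, hfin, ⟨⟩, n, hn, ⟨e'⟩⟩

end Groth.Agent.S0201
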