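import Groth.Statements.S4740
import Groth.Agent.Lib.CTensor51
import Groth.Agent.Lib.FlatUpstairs51
import Groth.Agent.Lib.FlatCrit
import Groth.Agent.S11958

set_option autoImplicit false
universe u
attribute [local instance] Algebra.TensorProduct.rightAlgebra
open EGA4

namespace Groth.Agent.S4740

open TensorProduct IsLocalRing Groth.Agent.Lib.CTensor51

/-- transport flatness along a ring isomorphism compatible with the algebra structures -/
theorem flat_of_ringEquiv {X Y Z : Type*} [CommRing X] [CommRing Y] [CommRing Z] [Algebra X Y]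
    [Algebra X Z] [Module.Flat X Y] (ρ : Y ≃+* Z)
    (h : ∀ x, ρ (algebraMap X Y x) = algebraMap X Z x) : Module.Flat X Z := by
  rw [← RingHom.flat_algebraMap_iff]
  have h1 : algebraMap X Z = (ρ : Y →+* Z).comp (algebraMap X Y) := by
    ext x
    exact (h x).symm
  rw [h1]
  exact RingHom.Flat.comp (RingHom.flat_algebraMap_iff.mpr inferInstance)
    (RingHom.Flat.of_bijective ρ.bijective)

section

variable (k A B : Type u) [Field k] [CommRing A] [CommRing B] [Algebra k A] [Algebra k B]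
  [IsNoetherianRing A] [IsNoetherianRing B] [IsLocalRing A] [IsLocalRing B]
  [IsAdicComplete (maximalIdeal B) B] [Module.Finite k (ResidueField A)]

theorem cTensorIdeal_fg : (cTensorIdeal k A B).FG := by
  unfold cTensorIdeal
  refine Submodule.FG.sup ?_ ?_
  · exact Ideal.FG.map (IsNoetherian.noetherian (maximalIdeal A))
      (Algebra.TensorProduct.includeLeft : A →ₐ[k] A ⊗[k] B).toRingHom
  · exact Ideal.FG.map (IsNoetherian.noetherian (maximalIdeal B))
      (Algebra.TensorProduct.includeRight : B →ₐ[k] A ⊗[k] B).toRingHom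

instance isNoetherianRing_quotient_aN (n : ℕ) : IsNoetherianRing ((A ⊗[k] B) ⧸ aN k A B n) := by
  haveI : IsNoetherian B ((A ⊗[k] B) ⧸ aN k A B n) := isNoetherian_of_isNoetherianRing_of_finite B _
  exact isNoetherian_of_tower B inferInstance

instance isNoetherianRing_quotient_cTensorIdeal :
    IsNoetherianRing ((A ⊗[k] B) ⧸ cTensorIdeal k A B) :=
  isNoetherianRing_of_surjective ((A ⊗[k] B) ⧸ aN k A B 1) _
    (Ideal.Quotient.factor (aN_le k A B 1 one_pos))
    (Ideal.Quotient.factor_surjective (aN_le k A B 1 one_pos))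

instance isNoetherianRing_cTensor : IsNoetherianRing (CTensor k A B) :=
  Groth.Agent.Lib.AdicNoeth.isNoetherianRing_adicCompletion_of_fg _ (cTensorIdeal_fg k A B)

/-- the ideal `𝔪_Aⁿ C` of the completed tensor product -/
noncomputable abbrev KN (n : ℕ) : Ideal (CTensor k A B) :=
  (aN k A B n).map (algebraMap (A ⊗[k] B) (CTensor k A B))

theorem map_pow_eq_KN (n : ℕ) :
    (maximalIdeal A ^ n).map (algebraMap A (CTensor k A B)) = KN k A B n := by
  change _ = Ideal.map (algebraMap (A ⊗[k] B) (CTensor k A B))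
    (Ideal.map (Algebra.TensorProduct.includeLeft : A →ₐ[k] A ⊗[k] B).toRingHom _)
  rw [Ideal.map_map]
  rfl

theorem map_pow_eq_KN' (n : ℕ) :
    ((maximalIdeal A).map (algebraMap A (CTensor k A B))) ^ n = KN k A B n := by
  rw [← Ideal.map_pow, map_pow_eq_KN]

instance isAdicComplete_quot (n : ℕ) :
    IsAdicComplete ((cTensorIdeal k A B).map (Ideal.Quotient.mk (aN k A B n)))
      ((A ⊗[k] B) ⧸ aN k A B n) :=
  isAdicComplete_quotient k A B n

/-- `C ⧸ 𝔪_AⁿC ≃ (A ⊗ B) ⧸ 𝔪_Aⁿ`. -/
noncomputable def eN (n : ℕ) : (CTensor k A B ⧸ KN k A B n) ≃+* (A ⊗[k] B) ⧸ aN k A B n :=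
  Groth.Agent.Lib.ComplQuot51.quotEquiv (cTensorIdeal k A B) (aN k A B n) (cTensorIdeal_fg k A B)

theorem eN_mk_of (n : ℕ) (t : A ⊗[k] B) :
    eN k A B n (Ideal.Quotient.mk _ (algebraMap (A ⊗[k] B) (CTensor k A B) t)) =
      Ideal.Quotient.mk _ t :=
  Groth.Agent.Lib.ComplQuot51.quotEquiv_mk_of _ _ _ t

theorem eN_symm_mk (n : ℕ) (t : A ⊗[k] B) :
    (eN k A B n).symm (Ideal.Quotient.mk _ t) =
      Ideal.Quotient.mk _ (algebraMap (A ⊗[k] B) (CTensor k A B) t) := by
  rw [RingEquiv.symm_apply_eq, eN_mk_of]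

theorem map_cTensorIdeal_le_jacobson :
    (cTensorIdeal k A B).map (algebraMap (A ⊗[k] B) (CTensor k A B)) ≤
      (⊥ : Ideal (CTensor k A B)).jacobson := by
  haveI : IsAdicComplete ((cTensorIdeal k A B).map (algebraMap (A ⊗[k] B) (CTensor k A B)))
      (CTensor k A B) := AdicCompletion.isAdicComplete_self _ (cTensorIdeal_fg k A B)
  exact IsAdicComplete.le_jacobson_bot _

theorem KN_le (n : ℕ) (hn : 0 < n) :
    KN k A B n ≤ (cTensorIdeal k A B).map (algebraMap (A ⊗[k] B) (CTensor k A B)) :=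
  Ideal.map_mono (aN_le k A B n hn)

theorem map_maximalIdeal_le_jacobson :
    (maximalIdeal A).map (algebraMap A (CTensor k A B)) ≤ (⊥ : Ideal (CTensor k A B)).jacobson := by
  have h := map_pow_eq_KN k A B 1
  rw [pow_one] at h
  rw [h]
  exact (KN_le k A B 1 one_pos).trans (map_cTensorIdeal_le_jacobson k A B)

theorem flat_B_quot (n : ℕ) : Module.Flat B ((A ⊗[k] B) ⧸ aN k A B n) := by
  rw [← RingHom.flat_algebraMap_iff]
  exact Groth.Agent.S11958.flat_quotient k A B (maximalIdeal A ^ n)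

theorem flat_B_quotC (n : ℕ) : Module.Flat B (CTensor k A B ⧸ KN k A B n) := by
  haveI := flat_B_quot k A B n
  refine flat_of_ringEquiv (eN k A B n).symm (fun b => ?_)
  change (eN k A B n).symm (Ideal.Quotient.mk _ (algebraMap B (A ⊗[k] B) b)) = _
  rw [eN_symm_mk]
  rfl

theorem flat_B : Module.Flat B (CTensor k A B) := by
  apply Groth.Agent.Lib.FlatUpstairs51.flat_of_flat_quotient_pow
    ((maximalIdeal A).map (algebraMap A (CTensor k A B))) (map_maximalIdeal_le_jacobson k A B)
  intro n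
  rw [map_pow_eq_KN']
  exact flat_B_quotC k A B n

/-- the ring isomorphism `(A/𝔪ⁿ) ⊗ B ≃ C ⧸ 𝔪ⁿC` -/
noncomputable def rhoN (n : ℕ) : ((A ⧸ maximalIdeal A ^ n) ⊗[k] B) ≃+*
    (CTensor k A B ⧸ (maximalIdeal A ^ n).map (algebraMap A (CTensor k A B))) :=
  ((Algebra.TensorProduct.quotientTensorEquiv (R := k) A B A (maximalIdeal A ^ n)).toRingEquiv.trans
    (Ideal.quotEquivOfEq (show (maximalIdeal A ^ n).map (algebraMap A (A ⊗[k] B)) = aN k A B n
      from rfl))).trans
    ((eN k A B n).symm.trans (Ideal.quotEquivOfEq (map_pow_eq_KN k A B n).symm))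

theorem rhoN_tmul (n : ℕ) (a : A) (b : B) :
    rhoN k A B n ((Ideal.Quotient.mk _ a) ⊗ₜ[k] b) =
      Ideal.Quotient.mk _ (algebraMap (A ⊗[k] B) (CTensor k A B) (a ⊗ₜ[k] b)) := by
  unfold rhoN
  simp only [RingEquiv.trans_apply]
  have h1 : (Algebra.TensorProduct.quotientTensorEquiv (R := k) A B A
      (maximalIdeal A ^ n)).toRingEquiv ((Ideal.Quotient.mk _ a) ⊗ₜ[k] b) =
      Ideal.Quotient.mk _ (a ⊗ₜ[k] b) := rfl
  rw [h1, Ideal.quotEquivOfEq_mk, eN_symm_mk, Ideal.quotEquivOfEq_mk]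

theorem rhoN_algebraMap (n : ℕ) (x : A ⧸ maximalIdeal A ^ n) :
    rhoN k A B n (algebraMap _ _ x) =
      algebraMap (A ⧸ maximalIdeal A ^ n)
        (CTensor k A B ⧸ (maximalIdeal A ^ n).map (algebraMap A (CTensor k A B))) x := by
  obtain ⟨a, rfl⟩ := Ideal.Quotient.mk_surjective x
  rw [Algebra.TensorProduct.algebraMap_apply, Algebra.algebraMap_self_apply, rhoN_tmul]
  rfl

theorem flat_A_quot (n : ℕ) :
    Module.Flat (A ⧸ maximalIdeal A ^ n) ((A ⧸ maximalIdeal A ^ n) ⊗[A] CTensor k A B) := by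
  haveI : Module.Flat (A ⧸ maximalIdeal A ^ n)
      (CTensor k A B ⧸ (maximalIdeal A ^ n).map (algebraMap A (CTensor k A B))) :=
    flat_of_ringEquiv (rhoN k A B n) (rhoN_algebraMap k A B n)
  exact Module.Flat.of_linearEquiv (Algebra.TensorProduct.quotIdealMapEquivQuotTensor
    (CTensor k A B) (maximalIdeal A ^ n)).symm.toLinearEquiv

theorem flat_A : Module.Flat A (CTensor k A B) := by
  refine Groth.Agent.Lib.FlatCrit.flat_of_flat_quotient_pow (maximalIdeal A) ?_
    (fun n _ => flat_A_quot k A B n)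
  intro 𝔞 x hx
  exact Groth.Agent.Lib.FlatCrit.eq_zero_of_forall_mem_pow_smul_top (S := CTensor k A B)
    (maximalIdeal A) (map_maximalIdeal_le_jacobson k A B) x hx

theorem finite_quot (L : Ideal (CTensor k A B)) (hL : KN k A B 1 ≤ L) :
    Module.Finite B (CTensor k A B ⧸ L) := by
  let φ : (A ⊗[k] B) →ₐ[B] CTensor k A B ⧸ L :=
    (Ideal.Quotient.mkₐ B L).comp (IsScalarTower.toAlgHom B (A ⊗[k] B) (CTensor k A B))
  have hφ : ∀ t ∈ aN k A B 1, φ t = 0 := fun t ht =>
    Ideal.Quotient.eq_zero_iff_mem.mpr (hL (Ideal.mem_map_of_mem _ ht))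
  let ψ : ((A ⊗[k] B) ⧸ aN k A B 1) →ₐ[B] CTensor k A B ⧸ L :=
    Ideal.Quotient.liftₐ (aN k A B 1) φ hφ
  refine Module.Finite.of_surjective ψ.toLinearMap ?_
  intro y
  obtain ⟨c, rfl⟩ := Ideal.Quotient.mk_surjective y
  obtain ⟨t, ht⟩ := Ideal.Quotient.mk_surjective (eN k A B 1 (Ideal.Quotient.mk _ c))
  refine ⟨Ideal.Quotient.mk _ t, ?_⟩
  have h1 : Ideal.Quotient.mk (KN k A B 1) c =
      Ideal.Quotient.mk _ (algebraMap (A ⊗[k] B) (CTensor k A B) t) := by
    apply (eN k A B 1).injective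
    rw [eN_mk_of, ht]
  rw [Ideal.Quotient.eq] at h1
  change Ideal.Quotient.mk L (algebraMap (A ⊗[k] B) (CTensor k A B) t) = Ideal.Quotient.mk L c
  rw [eq_comm, Ideal.Quotient.eq]
  exact hL h1

theorem KN_one_le_of_isMaximal (M : Ideal (CTensor k A B)) [hM : M.IsMaximal] :
    KN k A B 1 ≤ M :=
  ((KN_le k A B 1 one_pos).trans (map_cTensorIdeal_le_jacobson k A B)).trans
    (sInf_le ⟨bot_le, hM⟩)

theorem algebraMap_mem_of_isMaximal (M : Ideal (CTensor k A B)) [hM : M.IsMaximal] (b : B)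
    (hb : b ∈ maximalIdeal B) : algebraMap B (CTensor k A B) b ∈ M := by
  refine ((map_cTensorIdeal_le_jacobson k A B).trans (sInf_le ⟨bot_le, hM⟩)) ?_
  change algebraMap (A ⊗[k] B) (CTensor k A B) (algebraMap B (A ⊗[k] B) b) ∈ _
  refine Ideal.mem_map_of_mem _ ?_
  unfold cTensorIdeal
  exact Ideal.mem_sup_right (Ideal.mem_map_of_mem _ hb)

theorem finite_maximalSpectrum :
    (Set.univ : Set (MaximalSpectrum (CTensor k A B))).Finite := by
  haveI : Module.Finite B (CTensor k A B ⧸ KN k A B 1) := finite_quot k A B _ le_rfl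
  have hfin : ((maximalIdeal B).primesOver (CTensor k A B ⧸ KN k A B 1)).Finite :=
    Algebra.QuasiFinite.finite_primesOver _
  rw [Set.finite_univ_iff]
  haveI := hfin.to_subtype
  have hker : ∀ M : MaximalSpectrum (CTensor k A B),
      RingHom.ker (Ideal.Quotient.mk (KN k A B 1)) ≤ M.asIdeal := fun M => by
    rw [Ideal.mk_ker]
    haveI := M.isMaximal
    exact KN_one_le_of_isMaximal k A B M.asIdeal
  let f : MaximalSpectrum (CTensor k A B) →
      ↥((maximalIdeal B).primesOver (CTensor k A B ⧸ KN k A B 1)) := fun M =>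
    ⟨M.asIdeal.map (Ideal.Quotient.mk (KN k A B 1)), by
      haveI := M.isMaximal
      haveI hp : (M.asIdeal.map (Ideal.Quotient.mk (KN k A B 1))).IsPrime :=
        Ideal.map_isPrime_of_surjective Ideal.Quotient.mk_surjective (hker M)
      refine ⟨hp, ⟨?_⟩⟩
      refine (IsLocalRing.eq_maximalIdeal ?_).symm
      have hle : maximalIdeal B ≤ Ideal.under B (M.asIdeal.map (Ideal.Quotient.mk (KN k A B 1))) := by
        intro b hb
        rw [Ideal.mem_comap]
        exact Ideal.mem_map_of_mem _ (algebraMap_mem_of_isMaximal k A B M.asIdeal b hb)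
      have hne : Ideal.under B (M.asIdeal.map (Ideal.Quotient.mk (KN k A B 1))) ≠ ⊤ :=
        (Ideal.IsPrime.under B _).ne_top
      exact (IsLocalRing.maximalIdeal.isMaximal B).eq_of_le hne hle ▸
        IsLocalRing.maximalIdeal.isMaximal B⟩
  refine Finite.of_injective f fun M M' h => ?_
  have h1 : M.asIdeal.map (Ideal.Quotient.mk (KN k A B 1)) =
      M'.asIdeal.map (Ideal.Quotient.mk (KN k A B 1)) := congrArg Subtype.val h
  have h2 := congrArg (Ideal.comap (Ideal.Quotient.mk (KN k A B 1))) h1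
  rw [Ideal.comap_map_of_surjective _ Ideal.Quotient.mk_surjective,
    Ideal.comap_map_of_surjective _ Ideal.Quotient.mk_surjective, ← RingHom.ker_eq_comap_bot,
    sup_eq_left.mpr (hker M), sup_eq_left.mpr (hker M')] at h2
  exact MaximalSpectrum.ext h2

/-- `C ⧸ 𝔪_A C ≃ (A/𝔪_A) ⊗ B`. -/
noncomputable def isoOne :
    (CTensor k A B ⧸ (maximalIdeal A).map (algebraMap A (CTensor k A B))) ≃+*
      ((A ⧸ maximalIdeal A) ⊗[k] B) :=
  ((Ideal.quotEquivOfEq (show (maximalIdeal A).map (algebraMap A (CTensor k A B)) = KN k A B 1 by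
      have h := map_pow_eq_KN k A B 1
      rwa [pow_one] at h)).trans (eN k A B 1)).trans
    ((Ideal.quotEquivOfEq (show aN k A B 1 = (maximalIdeal A).map (algebraMap A (A ⊗[k] B)) by
      unfold aN
      rw [pow_one]
      rfl)).trans
      (Algebra.TensorProduct.quotientTensorEquiv (R := k) A B A (maximalIdeal A)).toRingEquiv.symm)

end

open TensorProduct in
/-- Let k be a field and A, B complete Noetherian local rings containing k, the residue field of A being
a finite extension of k; let C be the completed tensor product of A and B over k (the completion of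
A ⊗_k B at the ideal m_A ⊗ B + A ⊗ m_B). Then (i) C is Noetherian with finitely many maximal ideals;
(ii) C is flat over A and over B; (iii) m_A C is contained in the Jacobson radical of C and C/m_A C
is isomorphic to (A/m_A) ⊗_k B; (iv) the residue field of C at each of its maximal ideals is a
finite B-module. (Completeness of C, also asserted in the published item, is not restated; the
isomorphism in (iii) is asserted to exist only.) -/
theorem result (k A B : Type u) [Field k] [CommRing A] [CommRing B] [Algebra k A] [Algebra k B]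
    [IsNoetherianRing A] [IsNoetherianRing B] [IsLocalRing A] [IsLocalRing B]
    [IsAdicComplete (IsLocalRing.maximalIdeal A) A] [IsAdicComplete (IsLocalRing.maximalIdeal B) B]
    [Module.Finite k (IsLocalRing.ResidueField A)] :
    (IsNoetherianRing (EGA4.CTensor k A B) ∧ (Set.univ : Set (MaximalSpectrum (EGA4.CTensor k A B))).Finite) ∧
      (Module.Flat A (EGA4.CTensor k A B) ∧ Module.Flat B (EGA4.CTensor k A B)) ∧
      ((IsLocalRing.maximalIdeal A).map (algebraMap A (EGA4.CTensor k A B)) ≤ (⊥ : Ideal (EGA4.CTensor k A B)).jacobson ∧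
        Nonempty ((EGA4.CTensor k A B ⧸ (IsLocalRing.maximalIdeal A).map (algebraMap A (EGA4.CTensor k A B))) ≃+*
          ((A ⧸ IsLocalRing.maximalIdeal A) ⊗[k] B))) ∧
      (∀ (M : Ideal (EGA4.CTensor k A B)) [M.IsMaximal], Module.Finite B (EGA4.CTensor k A B ⧸ M)) := by
  refine ⟨⟨isNoetherianRing_cTensor k A B, finite_maximalSpectrum k A B⟩,
    ⟨flat_A k A B, flat_B k A B⟩,
    ⟨map_maximalIdeal_le_jacobson k A B, ⟨isoOne k A B⟩⟩,
    fun M _ => finite_quot k A B M (KN_one_le_of_isMaximal k A B M)⟩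

end Groth.Agent.S4740
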