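-- Statement S4743.
import Groth.Statements.S4743
import Groth.Agent.Lib.H30FinDom
import Groth.Agent.Lib.GeomReducedFibres
import Mathlib

set_option autoImplicit false
universe u
open EGA4

namespace Groth.Agent.S4743

section Helpers
open TensorProduct
open Groth.Agent.Lib.H30FinDom

theorem isReduced_of_ringEquiv {R S : Type u} [CommRing R] [CommRing S] (e : R ≃+* S)
    (h : IsReduced R) : IsReduced S :=
  isReduced_of_injective (e.symm : S →+* R) e.symm.injective

theorem gen_mp (A C : Type u) [CommRing A] [CommRing C] [Algebra A C]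
    (h : ∀ (p : Ideal A) [p.IsPrime], Algebra.IsGeometricallyReduced p.ResidueField (p.Fiber C))
    (B : Type u) [CommRing B] [IsDomain B] [Algebra A B]
    (q : Ideal (B ⊗[A] C)) [q.IsPrime] (hq : q.comap (algebraMap B (B ⊗[A] C)) = ⊥) :
    IsReduced (Localization.AtPrime q) := by
  let K := FractionRing B
  have hred : IsReduced (K ⊗[A] C) :=
    Groth.Agent.Lib.GeomReducedFibres.isReduced_tensorProduct_field A C h K
  haveI : IsReduced ((B ⊗[A] C) ⊗[B] K) := isReduced_of_ringEquiv (equivLoc A C B K) hred
  obtain ⟨Q, hQ, ⟨e⟩⟩ := exists_equiv_of_disjoint (T' := (B ⊗[A] C) ⊗[B] K)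
    (Algebra.algebraMapSubmonoid (B ⊗[A] C) (nonZeroDivisors B)) q
    ((disjoint_iff A C B q).mpr hq)
  exact isReduced_of_ringEquiv e.symm inferInstance

/-- key: reducedness of `k' ⊗ F` for finite `k'`. -/
theorem key (A C : Type u) [CommRing A] [CommRing C] [Algebra A C]
    (h : ∀ (B : Type u) [CommRing B] [IsDomain B] [Algebra A B] [Module.Finite A B]
        (q : Ideal (B ⊗[A] C)) [q.IsPrime],
        q.comap (algebraMap B (B ⊗[A] C)) = ⊥ → IsReduced (Localization.AtPrime q))
    (p : Ideal A) [p.IsPrime] (k' : Type u) [Field k'] [Algebra p.ResidueField k']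
    [Module.Finite p.ResidueField k'] : IsReduced (k' ⊗[p.ResidueField] (p.Fiber C)) := by
  letI : Algebra A k' :=
    ((algebraMap p.ResidueField k').comp (algebraMap A p.ResidueField)).toAlgebra
  haveI : IsScalarTower A p.ResidueField k' := IsScalarTower.of_algebraMap_eq (fun x => rfl)
  obtain ⟨B, hBfin, hBfrac⟩ := exists_finite_subalgebra A p k'
  have hred : IsReduced ((B ⊗[A] C) ⊗[B] k') := by
    refine isReduced_ofLocalizationMaximal ((B ⊗[A] C) ⊗[B] k') (fun Q hQ => ?_)
    obtain ⟨q, hq, hdisj, ⟨e⟩⟩ := exists_equiv_of_prime (T' := (B ⊗[A] C) ⊗[B] k')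
      (Algebra.algebraMapSubmonoid (B ⊗[A] C) (nonZeroDivisors B)) Q
    haveI := h B q ((disjoint_iff A C B q).mp hdisj)
    exact isReduced_of_ringEquiv e inferInstance
  have hred2 : IsReduced (k' ⊗[A] C) := isReduced_of_ringEquiv (equivLoc A C B k').symm hred
  exact isReduced_of_ringEquiv
    (Algebra.TensorProduct.cancelBaseChange A p.ResidueField p.ResidueField k' C).symm.toRingEquiv
    hred2

theorem gen_mpr (A C : Type u) [CommRing A] [CommRing C] [Algebra A C]
    (h : ∀ (B : Type u) [CommRing B] [IsDomain B] [Algebra A B] [Module.Finite A B]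
        (q : Ideal (B ⊗[A] C)) [q.IsPrime],
        q.comap (algebraMap B (B ⊗[A] C)) = ⊥ → IsReduced (Localization.AtPrime q))
    (p : Ideal A) [p.IsPrime] : Algebra.IsGeometricallyReduced p.ResidueField (p.Fiber C) := by
  rw [Algebra.isGeometricallyReduced_field_iff]
  let k := p.ResidueField
  let Ω := AlgebraicClosure k
  have h1 : IsReduced ((p.Fiber C) ⊗[k] Ω) := by
    refine IsReduced.tensorProduct_of_flat_of_forall_fg (fun B hB => ?_)
    obtain ⟨s, hs⟩ := hB
    let E : IntermediateField k Ω := IntermediateField.adjoin k (s : Set Ω)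
    haveI : FiniteDimensional k E := IntermediateField.finiteDimensional_adjoin
      (fun x _ => Algebra.IsIntegral.isIntegral x)
    have hle : B ≤ E.toSubalgebra := by
      rw [← hs]; exact IntermediateField.algebra_adjoin_le_adjoin k _
    have hE : IsReduced (E ⊗[k] (p.Fiber C)) := key A C h p E
    have hE' : IsReduced ((p.Fiber C) ⊗[k] E) :=
      isReduced_of_ringEquiv (R := E ⊗[k] (p.Fiber C)) (S := (p.Fiber C) ⊗[k] E)
        (Algebra.TensorProduct.comm k E (p.Fiber C)).toRingEquiv hE
    exact isReduced_of_injective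
      (Algebra.TensorProduct.map (AlgHom.id k (p.Fiber C)) (Subalgebra.inclusion hle))
      (Module.Flat.lTensor_preserves_injective_linearMap _ (Subalgebra.inclusion_injective hle))
  exact isReduced_of_ringEquiv (R := (p.Fiber C) ⊗[k] Ω) (S := Ω ⊗[k] (p.Fiber C))
    (Algebra.TensorProduct.comm k (p.Fiber C) Ω).toRingEquiv h1

theorem main (A : Type u) [CommRing A] [IsNoetherianRing A]
    [IsLocalRing A] :
    EGA4.HasGeomReducedFormalFibres A ↔
      ∀ (B : Type u) [CommRing B] [IsDomain B] [Algebra A B] [Module.Finite A B]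
        (q : Ideal (B ⊗[A] EGA4.Cpl A)) [q.IsPrime],
        q.comap (algebraMap B (B ⊗[A] EGA4.Cpl A)) = ⊥ → IsReduced (Localization.AtPrime q) := by
  constructor
  · intro h B _ _ _ _ q _ hq
    exact gen_mp A (EGA4.Cpl A) (fun p _ => h p) B q hq
  · intro h p _
    exact gen_mpr A (EGA4.Cpl A) h p

end Helpers

open TensorProduct in
/-- For the property 'geometrically reduced', case of a local ring: let A be a Noetherian local ring
with completion Â. Then the formal fibres of A are geometrically reduced if and only if, for every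
finite A-algebra B which is a domain and every prime ideal q of B ⊗_A Â whose contraction to B is
zero, the local ring of B ⊗_A Â at q is reduced. (The published statement is for semi-local rings;
this row takes A local.) -/
theorem result (A : Type u) [CommRing A] [IsNoetherianRing A]
    [IsLocalRing A] :
    EGA4.HasGeomReducedFormalFibres A ↔
      ∀ (B : Type u) [CommRing B] [IsDomain B] [Algebra A B] [Module.Finite A B]
        (q : Ideal (B ⊗[A] EGA4.Cpl A)) [q.IsPrime],
        q.comap (algebraMap B (B ⊗[A] EGA4.Cpl A)) = ⊥ → IsReduced (Localization.AtPrime q) := by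
  exact main A

end Groth.Agent.S4743
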