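import Groth.Statements.S0499
import Groth.Agent.Lib.H56HenselEtale
import Mathlib.RingTheory.Etale.QuasiFinite
import Mathlib.RingTheory.Idempotents

set_option autoImplicit false
universe u
open Hensel

namespace Groth.Agent.S0499

section

open TensorProduct

theorem main (R : Type u) [CommRing R]
    [HenselianLocalRing R] (S : Type u) [CommRing S] [Algebra R S] [Module.Finite R S] :
    ∃ (ι : Type u) (_ : Fintype ι) (A : ι → Type u) (_ : ∀ i, CommRing (A i)),
      (∀ i, IsLocalRing (A i)) ∧ Nonempty (S ≃+* (∀ i, A i)) := by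
  classical
  obtain ⟨R', _, _, _, P, _, _, n, e, he, P', hP'prime, hP'over, hres, heP', H⟩ :=
    Algebra.exists_etale_completeOrthogonalIdempotents_forall_liesOver_eq (R := R) (S := S)
      (IsLocalRing.maximalIdeal R)
  have hsurj : Function.Surjective (algebraMap R P.ResidueField) := by
    intro x
    obtain ⟨y, rfl⟩ := hres.2 x
    obtain ⟨r, rfl⟩ := Ideal.algebraMap_residueField_surjective (IsLocalRing.maximalIdeal R) y
    exact ⟨r, ((Ideal.ResidueField.mapₐ (IsLocalRing.maximalIdeal R) P (Algebra.ofId _ _)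
      (P.over_def (IsLocalRing.maximalIdeal R))).commutes r).symm⟩
  obtain ⟨σ, hσP, hσ⟩ := Groth.Agent.Lib.H56HenselEtale.exists_section R R' P hsurj
  let ψ : R' ⊗[R] S →ₐ[R] S :=
    Algebra.TensorProduct.productMap ((Algebra.ofId R S).comp σ) (AlgHom.id R S)
  have hψ_tmul : ∀ (r' : R') (s : S), ψ (r' ⊗ₜ[R] s) = algebraMap R S (σ r') * s := fun r' s => by
    simp [ψ]
  have hψsurj : Function.Surjective ψ := fun s => ⟨1 ⊗ₜ[R] s, by simp [hψ_tmul]⟩
  -- kernel of `ψ` lies in every prime over `P`
  have hgen : ∀ (Q : Ideal (R' ⊗[R] S)) [Q.IsPrime] [Q.LiesOver P] (z : R' ⊗[R] S),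
      z - (1 : R') ⊗ₜ[R] ψ z ∈ Q := by
    intro Q _ _ z
    induction z using TensorProduct.induction_on with
    | zero => simp
    | tmul r' s =>
      have h1 : r' ⊗ₜ[R] s - (1 : R') ⊗ₜ[R] ψ (r' ⊗ₜ[R] s) =
          algebraMap R' (R' ⊗[R] S) (r' - algebraMap R R' (σ r')) * ((1 : R') ⊗ₜ[R] s) := by
        rw [hψ_tmul, Algebra.TensorProduct.algebraMap_apply, Algebra.TensorProduct.tmul_mul_tmul,
          one_mul, Algebra.algebraMap_self_apply, mul_one, TensorProduct.sub_tmul]
        congr 1
        rw [← Algebra.smul_def, TensorProduct.tmul_smul, TensorProduct.smul_tmul',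
          Algebra.smul_def, mul_one]
      rw [h1]
      apply Ideal.mul_mem_right
      rw [← Ideal.mem_comap, ← Ideal.under_def, ← Ideal.over_def Q P]
      exact hσ r'
    | add x y hx hy =>
      have : x + y - (1 : R') ⊗ₜ[R] ψ (x + y) =
          (x - (1 : R') ⊗ₜ[R] ψ x) + (y - (1 : R') ⊗ₜ[R] ψ y) := by
        rw [map_add, TensorProduct.tmul_add]; ring
      rw [this]
      exact Ideal.add_mem _ hx hy
  have hker : ∀ (Q : Ideal (R' ⊗[R] S)) [Q.IsPrime] [Q.LiesOver P], RingHom.ker ψ ≤ Q := by
    intro Q _ _ z hz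
    have := hgen Q z
    rwa [RingHom.mem_ker.mp hz, TensorProduct.tmul_zero, sub_zero] at this
  -- the idempotents of `S`
  let ε : Fin (n + 1) → S := fun j => ψ (e j)
  have hε : CompleteOrthogonalIdempotents ε := he.map ψ.toRingHom
  have hidem : ∀ j, ε j * (1 - ε j) = 0 := fun j => by
    rw [mul_sub, mul_one, (hε.idem j).eq, sub_self]
  -- maximal ideals of `S` pull back to primes over `P`
  have hover : ∀ (M : Ideal S) [M.IsMaximal], (M.comap ψ.toRingHom).LiesOver P := by
    intro M _
    have hMm : M.comap (algebraMap R S) = IsLocalRing.maximalIdeal R :=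
      IsLocalRing.eq_maximalIdeal (Ideal.isMaximal_comap_of_isIntegral_of_isMaximal M)
    constructor
    ext r'
    rw [Ideal.under_def, Ideal.mem_comap, Ideal.mem_comap, Algebra.TensorProduct.algebraMap_apply]
    change _ ↔ ψ (algebraMap R' R' r' ⊗ₜ[R] (1 : S)) ∈ M
    rw [Algebra.algebraMap_self_apply, hψ_tmul, mul_one, ← Ideal.mem_comap, hMm, ← hσP]
    rfl
  have hlast : ε (Fin.last n) = 0 := by
    by_contra hne
    have hproper : Ideal.span {1 - ε (Fin.last n)} ≠ ⊤ := by
      intro htop
      rw [Ideal.span_singleton_eq_top] at htop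
      exact hne (htop.mul_left_eq_zero.mp (hidem _))
    obtain ⟨M, hM, hle⟩ := Ideal.exists_le_maximal _ hproper
    have h1 : 1 - ε (Fin.last n) ∈ M := hle (Ideal.subset_span rfl)
    have h2 : ε (Fin.last n) ∈ M := (H (M.comap ψ.toRingHom) inferInstance (hover M)).1
    exact hM.ne_top ((Ideal.eq_top_iff_one _).mpr (by simpa using M.add_mem h1 h2))
  have hloc : ∀ i : Fin n, IsLocalRing (S ⧸ Ideal.span {1 - ε i.castSucc}) := by
    intro i
    have hkeri : RingHom.ker ψ ≤ P' i := hker (P' i)
    have hcm : (Ideal.map ψ (P' i)).comap ψ = P' i := by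
      rw [Ideal.comap_map_of_surjective _ hψsurj]
      exact sup_eq_left.mpr hkeri
    have hMi : (Ideal.map ψ (P' i)).IsPrime := Ideal.map_isPrime_of_surjective hψsurj hkeri
    have hεi : ε i.castSucc ∉ Ideal.map ψ (P' i) := fun h => heP' i (by rw [← hcm]; exact h)
    have hne : Ideal.span {1 - ε i.castSucc} ≠ ⊤ := by
      intro htop
      have h1 : 1 - ε i.castSucc ∈ Ideal.map ψ (P' i) :=
        (hMi.mem_or_mem (by rw [hidem]; exact zero_mem _)).resolve_left hεi
      have h2 : Ideal.span {1 - ε i.castSucc} ≤ Ideal.map ψ (P' i) :=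
        (Ideal.span_singleton_le_iff_mem _).mpr h1
      exact hMi.ne_top (top_le_iff.mp (htop ▸ h2))
    haveI : Nontrivial (S ⧸ Ideal.span {1 - ε i.castSucc}) := Ideal.Quotient.nontrivial_iff.mpr hne
    have key : ∀ (N : Ideal (S ⧸ Ideal.span {1 - ε i.castSucc})) [N.IsMaximal],
        (N.comap (Ideal.Quotient.mk _)).comap ψ.toRingHom = P' i := by
      intro N _
      haveI hMmax : (N.comap (Ideal.Quotient.mk (Ideal.span {1 - ε i.castSucc}))).IsMaximal :=
        Ideal.comap_isMaximal_of_surjective _ Ideal.Quotient.mk_surjective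
      have h1 : 1 - ε i.castSucc ∈ N.comap (Ideal.Quotient.mk (Ideal.span {1 - ε i.castSucc})) := by
        rw [Ideal.mem_comap]
        have h0 : (Ideal.Quotient.mk (Ideal.span {1 - ε i.castSucc})) (1 - ε i.castSucc) = 0 :=
          Ideal.Quotient.eq_zero_iff_mem.mpr (Ideal.subset_span rfl)
        rw [h0]
        exact zero_mem _
      have h2 : ε i.castSucc ∉ N.comap (Ideal.Quotient.mk (Ideal.span {1 - ε i.castSucc})) :=
        fun h => hMmax.ne_top ((Ideal.eq_top_iff_one _).mpr (by simpa using Ideal.add_mem _ h1 h))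
      exact (H _ inferInstance (hover _)).2 i (fun h => h2 h)
    apply IsLocalRing.of_unique_max_ideal
    obtain ⟨N, hN⟩ := Ideal.exists_maximal (S ⧸ Ideal.span {1 - ε i.castSucc})
    refine ⟨N, hN, fun N' hN' => ?_⟩
    have h3 := Ideal.comap_injective_of_surjective ψ.toRingHom hψsurj ((key N').trans (key N).symm)
    exact Ideal.comap_injective_of_surjective _ Ideal.Quotient.mk_surjective h3
  let ε' : ULift.{u} (Fin n) → S := fun i => ε i.down.castSucc
  have hε' : CompleteOrthogonalIdempotents ε' :=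
    { idem := fun i => hε.idem _
      ortho := fun i j hij => hε.ortho (fun h => hij (ULift.ext _ _ (Fin.castSucc_injective _ h)))
      complete := by
        have h1 : ∑ i : ULift.{u} (Fin n), ε' i = ∑ i : Fin n, ε i.castSucc :=
          Fintype.sum_equiv Equiv.ulift _ _ (fun _ => rfl)
        rw [h1, ← hε.complete, Fin.sum_univ_castSucc, hlast, add_zero] }
  exact ⟨ULift.{u} (Fin n), inferInstance, fun i => S ⧸ Ideal.span {1 - ε' i},
    fun i => inferInstance, fun i => hloc i.down, ⟨RingEquiv.ofBijective _ hε'.bijective_pi⟩⟩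

end


/-- An algebra over a henselian local ring that is finitely generated as a module is isomorphic, as a
ring, to a finite product of local rings. -/
theorem result (R : Type u) [CommRing R]
    [HenselianLocalRing R] (S : Type u) [CommRing S] [Algebra R S] [Module.Finite R S] :
    ∃ (ι : Type u) (_ : Fintype ι) (A : ι → Type u) (_ : ∀ i, CommRing (A i)),
      (∀ i, IsLocalRing (A i)) ∧ Nonempty (S ≃+* (∀ i, A i)) := by
  exact main R S

end Groth.Agent.S0499
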