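import Groth.Statements.S9604
-- import your own Groth.Agent.* helpers here

set_option autoImplicit false
universe u
open CAlg

namespace Groth.Agent.S9604

theorem pow_mul_le {R : Type u} [CommRing R] (I J : Ideal R) (c : ℕ) (hI : I ^ c ≤ J) (n : ℕ) :
    I ^ (c * n) ≤ J ^ n := by
  rw [pow_mul]
  exact Ideal.pow_right_mono hI n

theorem one_dir {R : Type u} [CommRing R] (I J : Ideal R) (c d : ℕ) (hc : 0 < c) (hd : 0 < d)
    (hI : I ^ c ≤ J) (hJ : J ^ d ≤ I) (M : Type u) [AddCommGroup M] [Module R M]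
    (h : IsAdicComplete I M) : IsAdicComplete J M := by
  have hIJ : ∀ n, (I ^ (c * n) • ⊤ : Submodule R M) ≤ J ^ n • ⊤ := fun n =>
    Submodule.smul_mono_left (pow_mul_le I J c hI n)
  have hJI : ∀ n, (J ^ (d * n) • ⊤ : Submodule R M) ≤ I ^ n • ⊤ := fun n =>
    Submodule.smul_mono_left (pow_mul_le J I d hJ n)
  have hle : ∀ n, n ≤ d * n := fun n => Nat.le_mul_of_pos_left n hd
  have hle' : ∀ n, n ≤ c * n := fun n => Nat.le_mul_of_pos_left n hc
  refine { haus' := ?_, prec' := ?_ }
  · intro x hx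
    apply h.toIsHausdorff.haus' x
    intro n
    exact SModEq.mono (hJI n) (hx (d * n))
  · intro f hf
    have hg : ∀ {m n : ℕ}, m ≤ n →
        f (d * m) ≡ f (d * n) [SMOD (I ^ m • ⊤ : Submodule R M)] := by
      intro m n hmn
      exact SModEq.mono (hJI m) (hf (Nat.mul_le_mul_left d hmn))
    obtain ⟨L, hL⟩ := h.toIsPrecomplete.prec' (fun k => f (d * k)) hg
    refine ⟨L, fun n => ?_⟩
    have h1 : f n ≡ f (d * (c * n)) [SMOD (J ^ n • ⊤ : Submodule R M)] :=
      hf ((hle' n).trans (hle (c * n)))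
    have h2 : f (d * (c * n)) ≡ L [SMOD (J ^ n • ⊤ : Submodule R M)] :=
      SModEq.mono (hIJ n) (hL (c * n))
    exact h1.trans h2


/-- Let R be a ring and I, J ideals of R with I^c ⊆ J and J^d ⊆ I for some integers c, d > 0. Then for
an R-module, being complete in the I-adic topology is equivalent to being complete in the J-adic
topology. -/
theorem result {R : Type u} [CommRing R] (I J : Ideal R) (c d : ℕ) (hc : 0 < c) (hd : 0 < d) (hI : I ^ c ≤ J) (hJ : J ^ d ≤ I) (M : Type u) [AddCommGroup M] [Module R M] :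
    IsAdicComplete I M ↔ IsAdicComplete J M := by
  exact ⟨one_dir I J c d hc hd hI hJ M, one_dir J I d c hd hc hJ hI M⟩

end Groth.Agent.S9604
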