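import Groth.Statements.S9405
import Groth.Agent.S0499
import Groth.Agent.S3866
import Groth.Agent.S9604
import Mathlib.Tactic
import Mathlib.RingTheory.Spectrum.Maximal.Localization
-- import your own Groth.Agent.* helpers here

set_option autoImplicit false
universe u
open CAlg

namespace Groth.Agent.S9405

open IsLocalRing in
/-- For a finite product of local rings, the map to the product of localizations at maximal
ideals is surjective. -/
theorem pi_surj {ι : Type u} [Finite ι] (A : ι → Type u) [∀ i, CommRing (A i)]
    [∀ i, IsLocalRing (A i)] :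
    Function.Surjective (MaximalSpectrum.toPiLocalization (Π i, A i)) := by
  classical
  intro y
  have hsurj : ∀ i, Function.Surjective (Pi.evalRingHom A i) := fun i a =>
    ⟨Function.update 0 i a, by simp⟩
  let Mi : ∀ i, MaximalSpectrum (Π i, A i) := fun i =>
    ⟨(maximalIdeal (A i)).comap (Pi.evalRingHom A i),
      Ideal.comap_isMaximal_of_surjective _ (hsurj i)⟩
  have hbij : ∀ i, Function.Bijective
      (algebraMap (A i) (Localization.AtPrime (maximalIdeal (A i)))) := by
    intro i
    exact (IsLocalization.atUnits (A i) (maximalIdeal (A i)).primeCompl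
      (S := Localization.AtPrime (maximalIdeal (A i)))
      (fun x hx => IsLocalRing.notMem_maximalIdeal.1 hx)).bijective
  choose a ha using fun i => (hbij i).2
    (Localization.AtPrime.mapPiEvalRingHom (maximalIdeal (A i)) (y (Mi i)))
  refine ⟨a, ?_⟩
  funext M
  obtain ⟨i, 𝔭, h𝔭⟩ := PrimeSpectrum.exists_comap_evalRingHom_eq M.toPrimeSpectrum
  have h𝔭' : (𝔭.asIdeal).comap (Pi.evalRingHom A i) = M.asIdeal := by
    have := congrArg PrimeSpectrum.asIdeal h𝔭
    exact this
  have hmax : 𝔭.asIdeal = maximalIdeal (A i) := by
    apply IsLocalRing.eq_maximalIdeal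
    have hMmax := M.isMaximal
    rw [← h𝔭'] at hMmax
    have := Ideal.map_eq_top_or_isMaximal_of_surjective (Pi.evalRingHom A i) (hsurj i) hMmax
    rw [Ideal.map_comap_of_surjective _ (hsurj i)] at this
    rcases this with h | h
    · exact absurd h 𝔭.2.ne_top
    · exact h
  have hM : M = Mi i := by
    cases M with
    | mk I hI =>
      simp only [Mi]
      congr
      rw [← hmax]
      exact h𝔭'.symm
  rw [hM]
  apply (Localization.AtPrime.mapPiEvalRingHom_bijective (maximalIdeal (A i))).1
  rw [MaximalSpectrum.toPiLocalization_apply_apply]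
  have h1 := Localization.AtPrime.mapPiEvalRingHom_algebraMap_apply (maximalIdeal (A i)) (r := a)
  rw [ha] at h1
  exact h1

/-- A module-finite algebra S over a complete Noetherian local ring R is a finite product of complete
Noetherian local rings; precisely, S has finitely many maximal ideals, S maps bijectively onto the
product of its localizations at them, and each of these localizations is Noetherian and complete for
its maximal ideal. -/
theorem result (R : Type u) [CommRing R]
    [IsLocalRing R] [IsNoetherianRing R] [IsAdicComplete (IsLocalRing.maximalIdeal R) R]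
    (S : Type u) [CommRing S] [Algebra R S] [Module.Finite R S] :
    Finite (MaximalSpectrum S) ∧
      Function.Bijective
        (algebraMap S ((m : MaximalSpectrum S) → Localization.AtPrime m.asIdeal)) ∧
      ∀ m : MaximalSpectrum S, IsNoetherianRing (Localization.AtPrime m.asIdeal) ∧
        IsAdicComplete (IsLocalRing.maximalIdeal (Localization.AtPrime m.asIdeal))
          (Localization.AtPrime m.asIdeal) := by
  classical
  haveI : HenselianLocalRing R :=
    { is_henselian := fun f hf a₀ h₁ h₂ =>
        HenselianRing.is_henselian (I := IsLocalRing.maximalIdeal R) f hf a₀ h₁ (h₂.map _) }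
  obtain ⟨ι, _, A, _, hloc, ⟨e⟩⟩ := Groth.Agent.S0499.result R S
  have := hloc
  have hP := pi_surj A
  have hSsurj : Function.Surjective (MaximalSpectrum.toPiLocalization S) := by
    intro y
    set f : S →+* (Π i, A i) := e.toRingHom with hf
    have hfb : Function.Bijective f := e.bijective
    have hnat := MaximalSpectrum.mapPiLocalization_naturality f hfb
    obtain ⟨p, hp⟩ := hP (MaximalSpectrum.mapPiLocalization f hfb y)
    refine ⟨e.symm p, ?_⟩
    apply (MaximalSpectrum.mapPiLocalization_bijective f hfb).1
    have h2 := RingHom.congr_fun hnat (e.symm p)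
    simp only [RingHom.comp_apply, AlgHom.toRingHom_eq_coe, RingHom.coe_coe] at h2
    rw [h2, ← hp]
    congr 1
    exact e.apply_symm_apply p
  have hSbij : Function.Bijective (MaximalSpectrum.toPiLocalization S) :=
    ⟨MaximalSpectrum.toPiLocalization_injective S, hSsurj⟩
  have hfin : Finite (MaximalSpectrum S) :=
    MaximalSpectrum.finite_of_toPiLocalization_surjective hSsurj
  refine ⟨hfin, hSbij, ?_⟩
  intro m
  have : IsNoetherianRing S := IsNoetherianRing.of_finite R S
  refine ⟨inferInstance, ?_⟩
  -- completeness of the localization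
  set L := Localization.AtPrime m.asIdeal with hL
  have hsurjL : Function.Surjective (algebraMap S L) := by
    intro x
    obtain ⟨s, hs⟩ := hSsurj (Function.update 0 m x)
    refine ⟨s, ?_⟩
    have := congrFun hs m
    rw [MaximalSpectrum.toPiLocalization_apply_apply, Function.update_self] at this
    exact this
  have hfinL : Module.Finite R L :=
    Module.Finite.of_surjective (IsScalarTower.toAlgHom R S L).toLinearMap hsurjL
  have hc1 : IsAdicComplete (IsLocalRing.maximalIdeal R) L :=
    Groth.Agent.S3866.result R (IsLocalRing.maximalIdeal R) L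
  set J : Ideal L := (IsLocalRing.maximalIdeal R).map (algebraMap R L) with hJ
  have hc2 : IsAdicComplete J L :=
    (IsAdicComplete.map_algebraMap_iff (IsLocalRing.maximalIdeal R) L (S := L)).2 hc1
  have hint : Algebra.IsIntegral R L := Algebra.IsIntegral.of_finite R L
  have hcomap : ∀ 𝔭 : Ideal L, 𝔭.IsMaximal →
      𝔭.comap (algebraMap R L) = IsLocalRing.maximalIdeal R := by
    intro 𝔭 h𝔭
    exact IsLocalRing.eq_maximalIdeal (Ideal.isMaximal_comap_of_isIntegral_of_isMaximal 𝔭)
  have hJle : J ≤ IsLocalRing.maximalIdeal L := by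
    rw [hJ, Ideal.map_le_iff_le_comap, hcomap _ (IsLocalRing.maximalIdeal.isMaximal L)]
  have hrad : IsLocalRing.maximalIdeal L ≤ J.radical := by
    rw [Ideal.radical_eq_sInf]
    apply le_sInf
    rintro 𝔭 ⟨hJ𝔭, h𝔭⟩
    have h1 : IsLocalRing.maximalIdeal R ≤ 𝔭.comap (algebraMap R L) := by
      rw [← Ideal.map_le_iff_le_comap]; exact hJ𝔭
    have h2 : 𝔭.comap (algebraMap R L) = IsLocalRing.maximalIdeal R :=
      ((IsLocalRing.maximalIdeal.isMaximal R).eq_of_le (Ideal.IsPrime.ne_top inferInstance) h1).symm
    have h3 : 𝔭.IsMaximal := by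
      apply Ideal.isMaximal_of_isIntegral_of_isMaximal_comap (R := R) 𝔭
      rw [h2]
      exact IsLocalRing.maximalIdeal.isMaximal R
    rw [IsLocalRing.eq_maximalIdeal h3]
  have hfg : (IsLocalRing.maximalIdeal L).FG := IsNoetherian.noetherian _
  obtain ⟨d, hd⟩ := Ideal.exists_pow_le_of_le_radical_of_fg hrad hfg
  have hd' : IsLocalRing.maximalIdeal L ^ (d + 1) ≤ J :=
    (Ideal.pow_le_pow_right (Nat.le_succ d)).trans hd
  exact (Groth.Agent.S9604.result J (IsLocalRing.maximalIdeal L) 1 (d + 1) Nat.one_pos
    (Nat.succ_pos d) (by rw [pow_one]; exact hJle) hd' L).1 hc2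

end Groth.Agent.S9405
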