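import Groth.Statements.S4564
import Groth.Agent.Lib.CompleteNagata98
import Groth.Agent.Lib.FormalFn13
import Groth.Agent.Lib.H14QFCompl
import Groth.Agent.S9405

set_option autoImplicit false
universe u
open CAlg

namespace Groth.Agent.S4564

/-- A domain which is module-finite over a complete Noetherian local ring is local. -/
theorem isLocalRing_of_finite_of_isDomain (A B : Type u) [CommRing A] [IsLocalRing A]
    [IsNoetherianRing A] [IsAdicComplete (IsLocalRing.maximalIdeal A) A]
    [CommRing B] [IsDomain B] [Algebra A B] [Module.Finite A B] : IsLocalRing B := by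
  obtain ⟨-, hbij, -⟩ := Groth.Agent.S9405.result A B
  have hsub : ∀ m₁ m₂ : MaximalSpectrum B, m₁ = m₂ := by
    intro m₁ m₂
    by_contra hne
    classical
    let v : (m : MaximalSpectrum B) → Localization.AtPrime m.asIdeal :=
      fun m => if m = m₁ then 1 else 0
    obtain ⟨e, he⟩ := hbij.2 v
    have hvv : v * (1 - v) = 0 := by
      funext m
      by_cases hm : m = m₁ <;> simp [v, hm]
    have hee : e * (1 - e) = 0 := by
      apply hbij.1
      rw [map_mul, map_sub, map_one, he, hvv, map_zero]
    rcases mul_eq_zero.mp hee with h0 | h1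
    · have : v m₁ = 0 := by rw [← he, h0, map_zero]; rfl
      simp [v] at this
    · have h1' : e = 1 := (sub_eq_zero.mp h1).symm
      have : v m₂ = 1 := by rw [← he, h1', map_one]; rfl
      have hm : ¬ m₂ = m₁ := fun h => hne h.symm
      simp [v, hm] at this
  obtain ⟨M, hM⟩ := Ideal.exists_maximal B
  refine IsLocalRing.of_unique_max_ideal ⟨M, hM, fun M' hM' => ?_⟩
  exact congrArg MaximalSpectrum.asIdeal (hsub ⟨M', hM'⟩ ⟨M, hM⟩)

/-- A local ring, module-finite over a complete Noetherian local ring, is complete. -/
theorem isAdicComplete_of_finite_of_isLocalRing (A B : Type u) [CommRing A] [IsLocalRing A]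
    [IsNoetherianRing A] [IsAdicComplete (IsLocalRing.maximalIdeal A) A]
    [CommRing B] [IsLocalRing B] [Algebra A B] [Module.Finite A B] :
    IsAdicComplete (IsLocalRing.maximalIdeal B) B := by
  haveI : IsNoetherianRing B := IsNoetherianRing.of_finite A B
  haveI : Algebra.IsIntegral A B := Algebra.IsIntegral.of_finite A B
  set mA := IsLocalRing.maximalIdeal A
  set mB := IsLocalRing.maximalIdeal B
  set I : Ideal B := mA.map (algebraMap A B) with hI
  haveI : IsAdicComplete I B :=
    (IsAdicComplete.map_algebraMap_iff mA B).mpr
      (Groth.Agent.Lib.FormalFn13.isAdicComplete_of_finite mA B)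
  have hcomap : mB.comap (algebraMap A B) = mA :=
    IsLocalRing.eq_maximalIdeal
      (Ideal.isMaximal_comap_of_isIntegral_of_isMaximal (R := A) mB)
  have hle : I ≤ mB := by
    rw [hI, Ideal.map_le_iff_le_comap, hcomap]
  have hrad : I.radical = mB := by
    rw [Ideal.radical_eq_sInf]
    apply le_antisymm
    · exact sInf_le ⟨hle, inferInstance⟩
    · refine le_sInf ?_
      rintro P ⟨hP1, hP2⟩
      have h1 : mA ≤ P.comap (algebraMap A B) := by
        rw [← Ideal.map_le_iff_le_comap]; exact hP1
      have h2 : P.comap (algebraMap A B) = mA :=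
        ((IsLocalRing.maximalIdeal.isMaximal A).eq_of_le
          (Ideal.comap_ne_top _ hP2.ne_top) h1).symm
      have h3 : P.IsMaximal :=
        Ideal.isMaximal_of_isIntegral_of_isMaximal_comap (R := A) P
          (h2 ▸ IsLocalRing.maximalIdeal.isMaximal A)
      rw [IsLocalRing.eq_maximalIdeal h3]
  obtain ⟨N, hN⟩ := Ideal.exists_radical_pow_le_of_fg I (IsNoetherian.noetherian _)
  rw [hrad] at hN
  exact Groth.Agent.Lib.H14QFCompl.isAdicComplete_of_le_of_pow_le I mB B hle N hN

/-- Let A be a complete Noetherian local domain with fraction field K and K' a finite extension of K.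
Then the integral closure of A in K' is a local ring, complete for the adic topology of its maximal
ideal. -/
theorem result {A K' : Type u} [CommRing A]
    [IsDomain A] [IsLocalRing A] [IsNoetherianRing A] [IsAdicComplete (IsLocalRing.maximalIdeal A) A]
    [Field K'] [Algebra A K'] [Algebra (FractionRing A) K'] [IsScalarTower A (FractionRing A) K']
    [FiniteDimensional (FractionRing A) K'] :
    ∃ _ : IsLocalRing (integralClosure A K'),
      IsAdicComplete (IsLocalRing.maximalIdeal (integralClosure A K')) (integralClosure A K') := by
  have hN2 : CAlg.IsN2 A := Groth.Agent.Lib.CompleteNagata98.isN2_of_complete_local_domain A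
  haveI : Module.Finite A (integralClosure A K') := hN2 K' inferInstance
  haveI hloc : IsLocalRing (integralClosure A K') :=
    isLocalRing_of_finite_of_isDomain A (integralClosure A K')
  exact ⟨hloc, isAdicComplete_of_finite_of_isLocalRing A (integralClosure A K')⟩

end Groth.Agent.S4564
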