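import Groth.Statements.S3081
import Groth.Agent.Lib.TFinCoprod2
import Groth.Agent.Lib.SGA4EqRel
import Groth.Agent.Lib.EqRelSheaf

set_option autoImplicit false
universe u
open CategoryTheory
open SGA4

namespace Groth.Agent.S3081

open CategoryTheory.Limits in
/-- c): in the category of sheaves of u-small sets on a u-small site, every u-small family has a
coproduct which is disjoint and stable under base change, and every equivalence relation is
effective with universally effective-epimorphic quotient map. -/
theorem result {C : Type u} [SmallCategory C] (J : GrothendieckTopology C) :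
    SGA4.HasDisjointUniversalCoproducts.{u + 1, u} (Sheaf J (Type u)) ∧
    ∀ (R A : Sheaf J (Type u)) (p₁ p₂ : R ⟶ A), SGA4.IsEquivRel p₁ p₂ → SGA4.IsEffectiveUniversalEquivRel p₁ p₂ := by
  constructor
  · intro ι X
    exact ⟨Cofan.mk (∐ X) (Sigma.ι X), coproductIsCoproduct X, inferInstance,
      Groth.Agent.Lib.TFinCoprod.isUniversalColimit_cofan _ (coproductIsCoproduct X)⟩
  · intro R A p₁ p₂ h
    let e : EquivalenceRelation p₁ p₂ := Groth.Agent.Lib.SGA4EqRel.equivalenceRelation h
    refine ⟨Groth.Agent.Lib.EqRelSheaf.quotSheaf J p₁ p₂,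
      Groth.Agent.Lib.EqRelSheaf.quotSheafπ J p₁ p₂,
      Groth.Agent.Lib.EqRelSheaf.sheaf_isKernelPair J e,
      Groth.Agent.Lib.EqRelSheaf.sheaf_isPushout J e, ?_⟩
    intro B' g
    exact (Groth.Agent.Lib.EqRelSheaf.sheafUEER J e).universally_effectiveEpi_π _ _ _
      (IsPullback.of_hasPullback _ g).flip

end Groth.Agent.S3081
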