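import Groth.Statements.S18662
import Groth.Agent.Lib.H87GrShift

set_option autoImplicit false
universe u
open GrLC

namespace Groth.Agent.S18662


open DirectSum Groth.Agent.Lib.H87GrMod Groth.Agent.Lib.H87GrMod2 Groth.Agent.Lib.H87GrShift

/-- A dependent sequence built by successive choices. -/
theorem exists_dep_seq {α : ℕ → Type u} (P : ∀ n, α n → Prop)
    (Rel : ∀ n, α n → α (n + 1) → Prop) (a0 : α 0) (h0 : P 0 a0)
    (step : ∀ n (a : α n), P n a → ∃ b : α (n + 1), P (n + 1) b ∧ Rel n a b) :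
    ∃ t : ∀ n, α n, t 0 = a0 ∧ (∀ n, P n (t n)) ∧ ∀ n, Rel n (t n) (t (n + 1)) := by
  classical
  let t' : ∀ n, {a : α n // P n a} := fun n => Nat.rec (motive := fun n => {a : α n // P n a})
    ⟨a0, h0⟩
    (fun n a => ⟨Classical.choose (step n a.1 a.2), (Classical.choose_spec (step n a.1 a.2)).1⟩) n
  refine ⟨fun n => (t' n).1, rfl, fun n => (t' n).2, fun n => ?_⟩
  exact (Classical.choose_spec (step n (t' n).1 (t' n).2)).2

section General

variable {ι : Type} [AddCommGroup ι] [DecidableEq ι]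
variable {R : Type u} [CommRing R] (𝒜 : ι → AddSubgroup R) [GradedRing 𝒜]
variable {X : Type u} [AddCommGroup X] [Module R X] (𝒳 : ι → AddSubgroup X)
variable {Y : Type u} [AddCommGroup Y] [Module R Y] (𝒴 : ι → AddSubgroup Y)
variable {Z : Type u} [AddCommGroup Z] [Module R Z] (𝒵 : ι → AddSubgroup Z)

/-- Extension along a homogeneous injection of a map homogeneous of degree `δ`. -/
theorem extend_deg' [Decomposition 𝒳] [SetLike.GradedSMul 𝒜 𝒳]
    [Decomposition 𝒴] [SetLike.GradedSMul 𝒜 𝒴] [Decomposition 𝒵] [SetLike.GradedSMul 𝒜 𝒵]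
    (hZ : IsStarInj 𝒜 𝒵) {f : X →ₗ[R] Y} (hf : IsGrHom 𝒳 𝒴 f) (hinj : Function.Injective f)
    {g : X →ₗ[R] Z} {δ : ι} (hg : IsGrHomDeg 𝒳 𝒵 g δ) :
    ∃ h : Y →ₗ[R] Z, IsGrHomDeg 𝒴 𝒵 h δ ∧ h ∘ₗ f = g := by
  let _ := shiftDecomposition 𝒳 (-δ)
  let _ := gradedSMul_shiftGr 𝒳 𝒜 (-δ)
  have hf' : IsGrHomDeg (shiftGr 𝒳 (-δ)) 𝒴 f (-δ) := fun h x hx => hf _ x hx
  have hg' : IsGrHom (shiftGr 𝒳 (-δ)) 𝒵 g := fun h x hx => by
    have := hg _ x hx
    rwa [neg_add_cancel_right] at this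
  obtain ⟨h, hh, hhf⟩ := IsStarInj.extend_deg 𝒜 (shiftGr 𝒳 (-δ)) 𝒴 𝒵 hZ hf' hinj hg'
  exact ⟨h, by rwa [neg_neg] at hh, hhf⟩

end General


section Through

variable {ι : Type} [AddCommGroup ι] [DecidableEq ι]
variable {R : Type u} [CommRing R] (𝒜 : ι → AddSubgroup R) [GradedRing 𝒜]
variable {X : Type u} [AddCommGroup X] [Module R X] (𝒳 : ι → AddSubgroup X)
variable {Y : Type u} [AddCommGroup Y] [Module R Y] (𝒴 : ι → AddSubgroup Y)
variable {Z : Type u} [AddCommGroup Z] [Module R Z] (𝒵 : ι → AddSubgroup Z)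

/-- Extension through a (not necessarily injective) homogeneous map `d`, of a map
homogeneous of degree `δ` vanishing on `ker d`. -/
theorem extend_through [Decomposition 𝒳] [SetLike.GradedSMul 𝒜 𝒳]
    [Decomposition 𝒴] [SetLike.GradedSMul 𝒜 𝒴] [Decomposition 𝒵] [SetLike.GradedSMul 𝒜 𝒵]
    (hZ : IsStarInj 𝒜 𝒵) {d : X →ₗ[R] Y} (hd : IsGrHom 𝒳 𝒴 d)
    {φ : X →ₗ[R] Z} {δ : ι} (hφ : IsGrHomDeg 𝒳 𝒵 φ δ)
    (hker : LinearMap.ker d ≤ LinearMap.ker φ) :
    ∃ ψ : Y →ₗ[R] Z, IsGrHomDeg 𝒴 𝒵 ψ δ ∧ ψ ∘ₗ d = φ := by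
  classical
  have hP : (LinearMap.ker d).IsHomogeneous 𝒳 := isHomogeneous_ker 𝒳 𝒴 hd
  have hT : (⊤ : Submodule R X).IsHomogeneous 𝒳 := fun _ _ _ => Submodule.mem_top
  let T : Submodule R X := ⊤
  let Q : Submodule R T := (LinearMap.ker d).comap T.subtype
  let 𝒢 : ι → AddSubgroup (T ⧸ Q) := fun g =>
    ((𝒳 g).comap T.subtype.toAddMonoidHom).map Q.mkQ.toAddMonoidHom
  have h𝒢 : ∀ g x, x ∈ 𝒢 g ↔ ∃ z : T, (z : X) ∈ 𝒳 g ∧ Q.mkQ z = x := by
    intro g x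
    constructor
    · rintro ⟨z, hz, rfl⟩
      exact ⟨z, hz, rfl⟩
    · rintro ⟨z, hz, rfl⟩
      exact ⟨z, hz, rfl⟩
  have hint : DirectSum.IsInternal 𝒢 :=
    isInternal_quotient_pieces 𝒳 T (LinearMap.ker d) hT hP 𝒢 h𝒢
  letI : Decomposition 𝒢 := hint.chooseDecomposition
  letI : SetLike.GradedSMul 𝒜 𝒢 :=
    { smul_mem := by
        intro i j r x hr hx
        obtain ⟨z, hz, rfl⟩ := (h𝒢 j x).mp hx
        refine (h𝒢 (i +ᵥ j) _).mpr ⟨r • z, ?_, ?_⟩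
        · exact SetLike.GradedSMul.smul_mem (A := 𝒜) (B := 𝒳) hr hz
        · rw [map_smul] }
  have hQd : Q ≤ LinearMap.ker (d ∘ₗ T.subtype) := by
    intro z hz
    rw [LinearMap.mem_ker, LinearMap.comp_apply]
    exact hz
  have hQφ : Q ≤ LinearMap.ker (φ ∘ₗ T.subtype) := by
    intro z hz
    rw [LinearMap.mem_ker, LinearMap.comp_apply]
    exact hker hz
  let dbar : (T ⧸ Q) →ₗ[R] Y := Q.liftQ (d ∘ₗ T.subtype) hQd
  let φbar : (T ⧸ Q) →ₗ[R] Z := Q.liftQ (φ ∘ₗ T.subtype) hQφ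
  have hdbar : IsGrHom 𝒢 𝒴 dbar := by
    intro g x hx
    obtain ⟨z, hz, rfl⟩ := (h𝒢 g x).mp hx
    exact hd g _ hz
  have hφbar : IsGrHomDeg 𝒢 𝒵 φbar δ := by
    intro g x hx
    obtain ⟨z, hz, rfl⟩ := (h𝒢 g x).mp hx
    exact hφ g _ hz
  have hinj : Function.Injective dbar := by
    rw [← LinearMap.ker_eq_bot, Submodule.ker_liftQ_eq_bot']
    · ext z
      simp only [Q, Submodule.mem_comap, LinearMap.mem_ker, LinearMap.comp_apply]
  obtain ⟨ψ, hψ, hψd⟩ := extend_deg' 𝒜 𝒢 𝒴 𝒵 hZ hdbar hinj hφbar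
  refine ⟨ψ, hψ, ?_⟩
  ext x
  have := LinearMap.congr_fun hψd (Q.mkQ ⟨x, Submodule.mem_top⟩)
  exact this

end Through

section Comparison

variable {ι : Type} [AddCommGroup ι] [DecidableEq ι]
variable {R : Type u} [CommRing R] {𝒜 : ι → AddSubgroup R} [GradedRing 𝒜]
variable {M : Type u} [AddCommGroup M] [Module R M] {ℳ : ι → AddSubgroup M}
  [Decomposition ℳ] [SetLike.GradedSMul 𝒜 ℳ]

theorem d_comp_d (E : StarInjRes 𝒜 ℳ) (n : ℕ) (x : (E.X n).carrier) :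
    E.d (n + 1) (E.d n x) = 0 := by
  have : E.d n x ∈ LinearMap.ker (E.d (n + 1)) := by
    rw [E.exact_succ]; exact ⟨x, rfl⟩
  exact this

theorem d_comp_ε (E : StarInjRes 𝒜 ℳ) (m : M) : E.d 0 (E.ε m) = 0 := by
  have : E.ε m ∈ LinearMap.ker (E.d 0) := by
    rw [E.exact_zero]; exact ⟨m, rfl⟩
  exact this

/-- Lifting an endomorphism of degree `δ` of `M` to the resolution. -/
theorem exists_lift_endo (E : StarInjRes 𝒜 ℳ) {θ : M →ₗ[R] M} {δ : ι}
    (hθ : IsGrHomDeg ℳ ℳ θ δ) :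
    ∃ G : ∀ n, (E.X n).carrier →ₗ[R] (E.X n).carrier,
      (∀ n, IsGrHomDeg (E.X n).gr (E.X n).gr (G n) δ) ∧
      (∀ m, G 0 (E.ε m) = E.ε (θ m)) ∧ (∀ n x, G (n + 1) (E.d n x) = E.d n (G n x)) := by
  -- base
  have hεθ : IsGrHomDeg ℳ (E.X 0).gr (E.ε ∘ₗ θ) δ := fun g m hm => E.ε_grHom _ _ (hθ g m hm)
  obtain ⟨G0, hG0, hG0ε⟩ := extend_deg' 𝒜 ℳ (E.X 0).gr (E.X 0).gr (E.starInj 0) E.ε_grHom
    E.ε_injective hεθ
  have hG0ker : ∀ x ∈ LinearMap.ker (E.d 0), G0 x ∈ LinearMap.ker (E.d 0) := by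
    intro x hx
    rw [E.exact_zero] at hx ⊢
    obtain ⟨m, rfl⟩ := hx
    exact ⟨θ m, (LinearMap.congr_fun hG0ε m).symm⟩
  obtain ⟨G, hG0', hGP, hGrel⟩ := exists_dep_seq
    (α := fun n => (E.X n).carrier →ₗ[R] (E.X n).carrier)
    (fun n G => IsGrHomDeg (E.X n).gr (E.X n).gr G δ ∧
      ∀ x ∈ LinearMap.ker (E.d n), G x ∈ LinearMap.ker (E.d n))
    (fun n G G' => ∀ x, G' (E.d n x) = E.d n (G x))
    G0 ⟨hG0, hG0ker⟩
    (by
      rintro n Gn ⟨hGn, hGnker⟩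
      have hφ : IsGrHomDeg (E.X n).gr (E.X (n + 1)).gr (E.d n ∘ₗ Gn) δ :=
        fun g x hx => E.d_grHom n _ _ (hGn g x hx)
      have hker : LinearMap.ker (E.d n) ≤ LinearMap.ker (E.d n ∘ₗ Gn) := by
        intro x hx
        rw [LinearMap.mem_ker, LinearMap.comp_apply]
        exact hGnker x hx
      obtain ⟨G', hG', hG'd⟩ := extend_through 𝒜 (E.X n).gr (E.X (n + 1)).gr (E.X (n + 1)).gr
        (E.starInj (n + 1)) (E.d_grHom n) hφ hker
      refine ⟨G', ⟨hG', ?_⟩, fun x => LinearMap.congr_fun hG'd x⟩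
      intro x hx
      rw [E.exact_succ] at hx ⊢
      obtain ⟨y, rfl⟩ := hx
      exact ⟨Gn y, (LinearMap.congr_fun hG'd y).symm⟩)
  refine ⟨G, fun n => (hGP n).1, ?_, hGrel⟩
  intro m
  rw [hG0']
  exact LinearMap.congr_fun hG0ε m

/-- A chain endomorphism of the resolution, homogeneous of degree `δ`, which vanishes on `M`
is null-homotopic. -/
theorem exists_homotopy (E : StarInjRes 𝒜 ℳ) {δ : ι}
    (τ : ∀ n, (E.X n).carrier →ₗ[R] (E.X n).carrier)
    (hτdeg : ∀ n, IsGrHomDeg (E.X n).gr (E.X n).gr (τ n) δ)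
    (hτd : ∀ n x, τ (n + 1) (E.d n x) = E.d n (τ n x))
    (hτε : ∀ m, τ 0 (E.ε m) = 0) :
    ∃ s : ∀ n, (E.X (n + 1)).carrier →ₗ[R] (E.X n).carrier,
      (∀ x, τ 0 x = s 0 (E.d 0 x)) ∧
      (∀ n x, τ (n + 1) x = E.d n (s n x) + s (n + 1) (E.d (n + 1) x)) := by
  have hker0 : LinearMap.ker (E.d 0) ≤ LinearMap.ker (τ 0) := by
    intro x hx
    rw [E.exact_zero] at hx
    obtain ⟨m, rfl⟩ := hx
    exact hτε m
  obtain ⟨s0, hs0, hs0d⟩ := extend_through 𝒜 (E.X 0).gr (E.X 1).gr (E.X 0).gr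
    (E.starInj 0) (E.d_grHom 0) (hτdeg 0) hker0
  obtain ⟨s, hs0', hsP, hsrel⟩ := exists_dep_seq
    (α := fun n => (E.X (n + 1)).carrier →ₗ[R] (E.X n).carrier)
    (fun n s => IsGrHomDeg (E.X (n + 1)).gr (E.X n).gr s δ ∧
      ∀ x, E.d n (τ n x - s (E.d n x)) = 0)
    (fun n s s' => ∀ x, τ (n + 1) x = E.d n (s x) + s' (E.d (n + 1) x))
    s0 ⟨hs0, fun x => by
      have := LinearMap.congr_fun hs0d x
      rw [LinearMap.comp_apply] at this
      rw [this, sub_self, map_zero]⟩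
    (by
      rintro n sn ⟨hsn, hsnP⟩
      have hφ : IsGrHomDeg (E.X (n + 1)).gr (E.X (n + 1)).gr (τ (n + 1) - E.d n ∘ₗ sn) δ := by
        intro g x hx
        rw [LinearMap.sub_apply, LinearMap.comp_apply]
        exact sub_mem (hτdeg (n + 1) g x hx) (E.d_grHom n _ _ (hsn g x hx))
      have hker : LinearMap.ker (E.d (n + 1)) ≤ LinearMap.ker (τ (n + 1) - E.d n ∘ₗ sn) := by
        intro x hx
        rw [E.exact_succ] at hx
        obtain ⟨y, rfl⟩ := hx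
        rw [LinearMap.mem_ker, LinearMap.sub_apply, LinearMap.comp_apply, hτd, ← map_sub]
        exact hsnP y
      obtain ⟨s', hs', hs'd⟩ := extend_through 𝒜 (E.X (n + 1)).gr (E.X (n + 2)).gr
        (E.X (n + 1)).gr (E.starInj (n + 1)) (E.d_grHom (n + 1)) hφ hker
      have hs'x : ∀ x, s' (E.d (n + 1) x) = τ (n + 1) x - E.d n (sn x) := fun x => by
        have := LinearMap.congr_fun hs'd x
        rwa [LinearMap.comp_apply, LinearMap.sub_apply, LinearMap.comp_apply] at this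
      refine ⟨s', ⟨hs', fun x => ?_⟩, fun x => ?_⟩
      · rw [hs'x, sub_sub_cancel, d_comp_d]
      · rw [hs'x]; abel)
  refine ⟨s, fun x => ?_, hsrel⟩
  rw [hs0']
  exact (LinearMap.congr_fun hs0d x).symm

end Comparison

section Final

variable {R : Type u} [CommRing R] {𝒜 : ℤ → AddSubgroup R} [GradedRing 𝒜]
variable {M : Type u} [AddCommGroup M] [Module R M] {ℳ : ℤ → AddSubgroup M}
  [Decomposition ℳ] [SetLike.GradedSMul 𝒜 ℳ]

/-- A right inverse of an injective homogeneous scalar multiplication is homogeneous of the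
opposite degree. -/
theorem isGrHomDeg_inverse {e : ℤ} {F : R} (hF : F ∈ 𝒜 e) (θ : M →ₗ[R] M)
    (hθ : ∀ x, F • θ x = x) (hinj : Function.Injective (fun x : M => F • x)) :
    IsGrHomDeg ℳ ℳ θ (-e) := by
  intro g y hy
  have h1 : F • (decompose ℳ (θ y) (g + -e) : M) = F • θ y := by
    rw [← decompose_smul_of_mem_left ℳ 𝒜 hF (θ y) (g + -e), hθ y]
    have : e + (g + -e) = g := by abel
    rw [this, decompose_of_mem_same ℳ hy]
  have h2 : (decompose ℳ (θ y) (g + -e) : M) = θ y := hinj h1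
  rw [← h2]
  exact (decompose ℳ (θ y) (g + -e)).2

theorem main (m : HomogeneousIdeal 𝒜)
    (hmsp : m.toIdeal = Ideal.span (⋃ n ∈ Set.Ioi (0 : ℤ), (𝒜 n : Set R)))
    (d : ℤ) (hd : 0 < d) (f : R) (hf : f ∈ 𝒜 d)
    (hbij : Function.Bijective (fun x : M => f • x)) (E : StarInjRes 𝒜 ℳ) (q : ℕ) :
    Subsingleton (E.H m q) := by
  rw [Submodule.Quotient.subsingleton_iff, eq_top_iff]
  rintro ⟨z, hz⟩ -
  rw [Submodule.mem_comap, Submodule.subtype_apply]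
  obtain ⟨⟨N, hN⟩, hzd⟩ := hz
  have hfm : f ∈ m.toIdeal := by
    rw [hmsp]
    exact Ideal.subset_span (Set.mem_biUnion (Set.mem_Ioi.mpr hd) hf)
  have hFz : f ^ N • z = 0 := hN _ (Ideal.pow_mem_pow hfm N)
  have hFdeg : f ^ N ∈ 𝒜 (N • d) := SetLike.pow_mem_graded N hf
  have hFbij : Function.Bijective (fun x : M => f ^ N • x) := by
    rw [← smul_iterate]
    exact hbij.iterate N
  let θe : M ≃ₗ[R] M := LinearEquiv.ofBijective (LinearMap.lsmul R M (f ^ N)) hFbij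
  have hθ : ∀ x, f ^ N • θe.symm.toLinearMap x = x := fun x => θe.apply_symm_apply x
  have hθdeg : IsGrHomDeg ℳ ℳ θe.symm.toLinearMap (-(N • d)) :=
    isGrHomDeg_inverse hFdeg _ hθ hFbij.1
  obtain ⟨G, hGdeg, hGε, hGd⟩ := exists_lift_endo E hθdeg
  let τ : ∀ n, (E.X n).carrier →ₗ[R] (E.X n).carrier := fun n => f ^ N • G n - LinearMap.id
  have hτapp : ∀ n x, τ n x = f ^ N • G n x - x := fun n x => rfl
  have hτdeg : ∀ n, IsGrHomDeg (E.X n).gr (E.X n).gr (τ n) 0 := by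
    intro n g x hx
    rw [hτapp, add_zero]
    refine sub_mem ?_ hx
    have h1 := hGdeg n g x hx
    have h2 := SetLike.GradedSMul.smul_mem (A := 𝒜) (B := (E.X n).gr) hFdeg h1
    rw [vadd_eq_add] at h2
    have : N • d + (g + -(N • d)) = g := by abel
    rwa [this] at h2
  have hτd : ∀ n x, τ (n + 1) (E.d n x) = E.d n (τ n x) := by
    intro n x
    rw [hτapp, hτapp, hGd, map_sub, map_smul]
  have hτε : ∀ x, τ 0 (E.ε x) = 0 := by
    intro x
    rw [hτapp, hGε, ← map_smul, hθ, sub_self]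
  obtain ⟨s, hs0, hs⟩ := exists_homotopy E τ hτdeg hτd hτε
  have hτz : τ q z = -z := by
    rw [hτapp, ← map_smul, hFz, map_zero, zero_sub]
  rcases q with _ | n
  · change z ∈ (⊥ : Submodule R _)
    rw [Submodule.mem_bot]
    have h1 := hs0 z
    rw [hτz, LinearMap.mem_ker.mp hzd, map_zero] at h1
    exact neg_eq_zero.mp h1
  · change z ∈ (gam m.toIdeal (E.X n).carrier).map (E.d n)
    have h1 := hs n z
    rw [hτz, LinearMap.mem_ker.mp hzd, map_zero, add_zero] at h1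
    refine ⟨s n (-z), ⟨N, fun r hr => ?_⟩, ?_⟩
    · rw [← map_smul, smul_neg, hN r hr, neg_zero, map_zero]
    · rw [map_neg, map_neg, ← h1, neg_neg]

end Final


/-- Let R be a graded ring defined over a field, m = R_+, and M a graded R-module satisfying condition
(**): there is a homogeneous f ∈ R_d with d > 0 such that multiplication by f on M is bijective.
Then H^q_m(M) = 0 for every integer q (graded local cohomology, computed from any *injective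
resolution of M in the graded category). Here 'graded ring defined over a field' means R = ⊕_{n ≥ 0}
R_n is Noetherian with R_0 a field, and m = R_+ is its unique graded maximal ideal. -/
theorem result (R : Type u) [CommRing R] [IsNoetherianRing R] (𝒜 : ℤ → AddSubgroup R) [GradedRing 𝒜] (hpos : ∀ n : ℤ, n < 0 → 𝒜 n = ⊥) (h0 : IsField (GrLC.deg0 𝒜)) (m : HomogeneousIdeal 𝒜) (hm : GrLC.IsStarLocal 𝒜 m) (hmsp : m.toIdeal = Ideal.span (⋃ n ∈ Set.Ioi (0 : ℤ), (𝒜 n : Set R))) (M : Type u) [AddCommGroup M] [Module R M] (ℳ : ℤ → AddSubgroup M) [DirectSum.Decomposition ℳ] [SetLike.GradedSMul 𝒜 ℳ] (d : ℤ) (hd : 0 < d) (f : R) (hf : f ∈ 𝒜 d) (hbij : Function.Bijective (fun x : M => f • x)) (E : GrLC.StarInjRes 𝒜 ℳ) (q : ℕ) : Subsingleton (E.H m q) := by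
  exact main m hmsp d hd f hf hbij E q

end Groth.Agent.S18662
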