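import Groth.Statements.S18661
import Groth.Agent.S18662
import Groth.Agent.Lib.H87GrShift
import Mathlib.RingTheory.Finiteness.Ideal
import Mathlib.RingTheory.Filtration
import Mathlib.LinearAlgebra.LinearPMap

set_option autoImplicit false
universe u
open GrLC

namespace Groth.Agent.S18661

open DirectSum Groth.Agent.Lib.H87GrMod Groth.Agent.Lib.H87GrMod2 Groth.Agent.Lib.H87GrShift

section SubQuot

variable {ι : Type} [AddCommGroup ι] [DecidableEq ι]
variable {R : Type u} [CommRing R] (𝒜 : ι → AddSubgroup R) [GradedRing 𝒜]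
variable {U : Type u} [AddCommGroup U] [Module R U] (𝒰 : ι → AddSubgroup U)
variable {X : Type u} [AddCommGroup X] [Module R X] (𝒳 : ι → AddSubgroup X)

/-- The pieces of a subquotient. -/
def sqGr (Z B : Submodule R U) : ι → AddSubgroup (↥Z ⧸ B.comap Z.subtype) := fun g =>
  ((𝒰 g).comap Z.subtype.toAddMonoidHom).map (B.comap Z.subtype).mkQ.toAddMonoidHom

theorem mem_sqGr (Z B : Submodule R U) (g : ι) (x : ↥Z ⧸ B.comap Z.subtype) :
    x ∈ sqGr 𝒰 Z B g ↔ ∃ z : Z, (z : U) ∈ 𝒰 g ∧ (B.comap Z.subtype).mkQ z = x := by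
  constructor
  · rintro ⟨z, hz, rfl⟩
    exact ⟨z, hz, rfl⟩
  · rintro ⟨z, hz, rfl⟩
    exact ⟨z, hz, rfl⟩

/-- The subquotient `Z/(Z ∩ B)` of a graded module as a graded module. -/
noncomputable def sqGMod [Decomposition 𝒰] [SetLike.GradedSMul 𝒜 𝒰] (Z B : Submodule R U)
    (hZ : Z.IsHomogeneous 𝒰) (hB : B.IsHomogeneous 𝒰) : GMod.{u} 𝒜 :=
  letI : Decomposition (sqGr 𝒰 Z B) :=
    (isInternal_quotient_pieces 𝒰 Z B hZ hB (sqGr 𝒰 Z B) (mem_sqGr 𝒰 Z B)).chooseDecomposition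
  letI : SetLike.GradedSMul 𝒜 (sqGr 𝒰 Z B) :=
    { smul_mem := by
        intro i j r x hr hx
        obtain ⟨z, hz, rfl⟩ := (mem_sqGr 𝒰 Z B j x).mp hx
        refine (mem_sqGr 𝒰 Z B (i +ᵥ j) _).mpr ⟨r • z, ?_, ?_⟩
        · exact SetLike.GradedSMul.smul_mem (A := 𝒜) (B := 𝒰) hr hz
        · rw [map_smul] }
  { carrier := ↥Z ⧸ B.comap Z.subtype, gr := sqGr 𝒰 Z B }

/-- Extension from a homogeneous submodule `Z` to the whole module of a map homogeneous of
degree `δ` vanishing on `Z ∩ B`, to a map vanishing on `B`. -/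
theorem extend_sub_quot [Decomposition 𝒰] [SetLike.GradedSMul 𝒜 𝒰]
    [Decomposition 𝒳] [SetLike.GradedSMul 𝒜 𝒳] (hX : IsStarInj 𝒜 𝒳)
    (Z B : Submodule R U) (hZ : Z.IsHomogeneous 𝒰) (hB : B.IsHomogeneous 𝒰)
    (ψ : Z →ₗ[R] X) {δ : ι} (hψ : ∀ g (z : Z), (z : U) ∈ 𝒰 g → ψ z ∈ 𝒳 (g + δ))
    (hψB : ∀ z : Z, (z : U) ∈ B → ψ z = 0) :
    ∃ χ : U →ₗ[R] X, IsGrHomDeg 𝒰 𝒳 χ δ ∧ (∀ z : Z, χ z = ψ z) ∧ ∀ b ∈ B, χ b = 0 := by
  classical
  have hT : (⊤ : Submodule R U).IsHomogeneous 𝒰 := fun _ _ _ => Submodule.mem_top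
  let T : Submodule R U := ⊤
  let W₁ := sqGMod 𝒜 𝒰 Z B hZ hB
  let W₂ := sqGMod 𝒜 𝒰 T B hT hB
  let Q₁ : Submodule R Z := B.comap Z.subtype
  let Q₂ : Submodule R T := B.comap T.subtype
  let inc : Z →ₗ[R] T := Submodule.inclusion le_top
  have hQ : Q₁ ≤ Q₂.comap inc := by
    intro z hz
    exact hz
  let j : W₁.carrier →ₗ[R] W₂.carrier := Submodule.mapQ Q₁ Q₂ inc hQ
  have hj : IsGrHom W₁.gr W₂.gr j := by
    intro g x hx
    obtain ⟨z, hz, rfl⟩ := (mem_sqGr 𝒰 Z B g x).mp hx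
    exact (mem_sqGr 𝒰 T B g _).mpr ⟨inc z, hz, rfl⟩
  have hjinj : Function.Injective j := by
    rw [injective_iff_map_eq_zero]
    intro x hx
    obtain ⟨z, rfl⟩ := Q₁.mkQ_surjective x
    have h1 : Q₂.mkQ (inc z) = 0 := hx
    rw [Submodule.mkQ_apply, Submodule.Quotient.mk_eq_zero] at h1
    exact (Submodule.Quotient.mk_eq_zero Q₁).mpr h1
  have hQψ : Q₁ ≤ LinearMap.ker ψ := by
    intro z hz
    rw [LinearMap.mem_ker]
    exact hψB z hz
  let ψbar : W₁.carrier →ₗ[R] X := Q₁.liftQ ψ hQψ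
  have hψbar : IsGrHomDeg W₁.gr 𝒳 ψbar δ := by
    intro g x hx
    obtain ⟨z, hz, rfl⟩ := (mem_sqGr 𝒰 Z B g x).mp hx
    exact hψ g z hz
  obtain ⟨h, hh, hhj⟩ := Groth.Agent.S18662.extend_deg' 𝒜 W₁.gr W₂.gr 𝒳 hX hj hjinj hψbar
  let top : U →ₗ[R] T := LinearMap.codRestrict T LinearMap.id (fun _ => Submodule.mem_top)
  refine ⟨h ∘ₗ Q₂.mkQ ∘ₗ top, ?_, ?_, ?_⟩
  · intro g x hx
    exact hh g _ ((mem_sqGr 𝒰 T B g _).mpr ⟨top x, hx, rfl⟩)
  · intro z
    have := LinearMap.congr_fun hhj (Q₁.mkQ z)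
    exact this
  · intro b hb
    have h0 : (show W₂.carrier from Q₂.mkQ (top b)) = (0 : W₂.carrier) :=
      (Submodule.Quotient.mk_eq_zero Q₂).mpr hb
    exact (congrArg h h0).trans (map_zero h)

end SubQuot

section Gam

variable {R : Type u} [CommRing R] {X : Type u} [AddCommGroup X] [Module R X]
variable {Y : Type u} [AddCommGroup Y] [Module R Y]

theorem mem_gam_iff {a : Ideal R} {x : X} : x ∈ gam a X ↔ ∃ n : ℕ, ∀ r ∈ a ^ n, r • x = 0 :=
  Iff.rfl

theorem map_mem_gam {a : Ideal R} (f : X →ₗ[R] Y) {x : X} (hx : x ∈ gam a X) :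
    f x ∈ gam a Y := by
  obtain ⟨n, hn⟩ := hx
  exact ⟨n, fun r hr => by rw [← map_smul, hn r hr, map_zero]⟩

/-- A finitely generated submodule of the torsion is killed by a single power. -/
theorem exists_pow_of_fg_le_gam {a : Ideal R} {P : Submodule R X} (hP : P.FG)
    (hle : P ≤ gam a X) : ∃ n : ℕ, ∀ r ∈ a ^ n, ∀ x ∈ P, r • x = 0 := by
  classical
  obtain ⟨S, rfl⟩ := hP
  have hS : ∀ s ∈ S, ∃ n : ℕ, ∀ r ∈ a ^ n, r • s = 0 := fun s hs =>
    hle (Submodule.subset_span hs)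
  choose! f hf using hS
  refine ⟨S.sup f, fun r hr x hx => ?_⟩
  induction hx using Submodule.span_induction with
  | mem s hs =>
    exact hf s hs r (Ideal.pow_le_pow_right (Finset.le_sup hs) hr)
  | zero => exact smul_zero r
  | add x y _ _ hx hy => rw [smul_add, hx, hy, add_zero]
  | smul c x _ hx => rw [smul_comm, hx, smul_zero]

/-- If a power of a finitely generated ideal `a` sends `y` into the `a`-torsion then `y` is
`a`-torsion. -/
theorem mem_gam_of_pow_smul_mem {a : Ideal R} (ha : a.FG) (N : ℕ) (y : X)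
    (h : ∀ r ∈ a ^ N, r • y ∈ gam a X) : y ∈ gam a X := by
  let P : Submodule R X := Submodule.map (LinearMap.toSpanSingleton R X y) (a ^ N)
  have hP : P.FG := Submodule.FG.map _ (Ideal.FG.pow ha)
  have hle : P ≤ gam a X := by
    rintro _ ⟨r, hr, rfl⟩
    exact h r hr
  obtain ⟨n, hn⟩ := exists_pow_of_fg_le_gam hP hle
  refine ⟨n + N, ?_⟩
  have hmul : a ^ n * a ^ N ≤ (LinearMap.ker (LinearMap.toSpanSingleton R X y) : Ideal R) := by
    rw [Ideal.mul_le]
    intro u hu v hv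
    rw [LinearMap.mem_ker, LinearMap.toSpanSingleton_apply, mul_smul]
    exact hn u hu _ ⟨v, hv, rfl⟩
  intro r hr
  rw [pow_add] at hr
  exact hmul hr

end Gam


section Retraction

variable {ι : Type} [AddCommGroup ι] [DecidableEq ι]
variable {R : Type u} [CommRing R] (𝒜 : ι → AddSubgroup R) [GradedRing 𝒜]
variable {X : Type u} [AddCommGroup X] [Module R X] (𝒳 : ι → AddSubgroup X)

theorem isHomogeneous_sup [Decomposition 𝒳] {P Q : Submodule R X}
    (hP : P.IsHomogeneous 𝒳) (hQ : Q.IsHomogeneous 𝒳) : (P ⊔ Q).IsHomogeneous 𝒳 := by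
  intro i x hx
  obtain ⟨u, hu, v, hv, rfl⟩ := Submodule.mem_sup.mp hx
  rw [decompose_add, DirectSum.add_apply, AddSubgroup.coe_add]
  exact Submodule.add_mem_sup (hP i hu) (hQ i hv)

/-- The conditions on a partial retraction. -/
def Good [Decomposition 𝒳] (T : Submodule R X) (p : X →ₗ.[R] X) : Prop :=
  T ≤ p.domain ∧ p.domain.IsHomogeneous 𝒳 ∧
    ∀ x : p.domain, p x ∈ T ∧ (∀ g, (x : X) ∈ 𝒳 g → p x ∈ 𝒳 g) ∧ ((x : X) ∈ T → p x = x)

theorem extend_step [IsNoetherianRing R] [Decomposition 𝒳] [SetLike.GradedSMul 𝒜 𝒳]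
    (hX : IsStarInj 𝒜 𝒳) (a : HomogeneousIdeal 𝒜)
    (p : X →ₗ.[R] X) (hp : Good 𝒳 (gam a.toIdeal X) p) {g : ι} {y : X} (hy : y ∈ 𝒳 g) :
    ∃ t ∈ gam a.toIdeal X, t ∈ 𝒳 g ∧ ∀ (r : R) (h : r • y ∈ p.domain), r • t = p ⟨r • y, h⟩ := by
  classical
  obtain ⟨hTD, hDhom, hpt⟩ := hp
  let D := p.domain
  let sy : R →ₗ[R] X := LinearMap.toSpanSingleton R X y
  let J : Submodule R R := D.comap sy
  have hJhom : J.IsHomogeneous 𝒜 := by
    intro i r hr
    show sy (decompose 𝒜 r i : R) ∈ D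
    rw [LinearMap.toSpanSingleton_apply, ← decompose_smul_of_mem_right 𝒳 𝒜 hy]
    exact hDhom _ hr
  let ψ : J →ₗ[R] X := p.toFun ∘ₗ (LinearMap.codRestrict D (sy ∘ₗ J.subtype) (fun r => r.2))
  have hψdeg : ∀ i (z : J), (z : R) ∈ 𝒜 i → ψ z ∈ 𝒳 (i + g) := by
    intro i z hz
    refine (hpt _).2.1 (i + g) ?_
    have := SetLike.GradedSMul.smul_mem (A := 𝒜) (B := 𝒳) hz hy
    rwa [vadd_eq_add] at this
  have hψT : LinearMap.range ψ ≤ gam a.toIdeal X := by
    rintro _ ⟨z, rfl⟩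
    exact (hpt _).1
  have hrfg : (LinearMap.range ψ).FG := by
    rw [LinearMap.range_eq_map]
    exact Submodule.FG.map _ Module.Finite.fg_top
  obtain ⟨n, hn⟩ := exists_pow_of_fg_le_gam hrfg hψT
  obtain ⟨k, hk⟩ := Ideal.exists_pow_inf_eq_pow_smul a.toIdeal J
  let N := n + k
  have hkill : ∀ z : J, (z : R) ∈ a.toIdeal ^ N → ψ z = 0 := by
    intro z hz
    let K : Submodule R R := (LinearMap.ker ψ).map J.subtype
    have h1 : a.toIdeal ^ n • J ≤ K := by
      rw [Submodule.smul_le]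
      intro u hu j hj
      refine ⟨u • ⟨j, hj⟩, ?_, rfl⟩
      rw [SetLike.mem_coe, LinearMap.mem_ker, map_smul]
      exact hn u hu _ ⟨_, rfl⟩
    have h2 : (z : R) ∈ a.toIdeal ^ N • (⊤ : Submodule R R) ⊓ J := by
      refine ⟨?_, z.2⟩
      have := Submodule.smul_mem_smul hz (Submodule.mem_top : (1 : R) ∈ (⊤ : Submodule R R))
      have h1' : (z : R) • (1 : R) = z := by rw [smul_eq_mul, mul_one]
      rw [h1'] at this
      exact this
    rw [hk N (Nat.le_add_left k n)] at h2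
    have h3 : N - k = n := Nat.add_sub_cancel n k
    rw [h3] at h2
    have h4 : (z : R) ∈ K := h1 (Submodule.smul_mono le_rfl inf_le_right h2)
    obtain ⟨z', hz', hzz'⟩ := h4
    have : z' = z := Subtype.ext hzz'
    rw [← this]; exact hz'
  have hBhom : (a.toIdeal ^ N : Submodule R R).IsHomogeneous 𝒜 :=
    isHomogeneous_pow 𝒜 a.isHomogeneous N
  obtain ⟨χ, hχdeg, hχJ, hχB⟩ :=
    extend_sub_quot 𝒜 𝒜 𝒳 hX J (a.toIdeal ^ N) hJhom hBhom ψ hψdeg hkill
  refine ⟨χ 1, ⟨N, fun r hr => ?_⟩, ?_, ?_⟩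
  · rw [← map_smul, smul_eq_mul, mul_one]; exact hχB r hr
  · have := hχdeg 0 1 SetLike.GradedOne.one_mem
    rwa [zero_add] at this
  · intro r h
    have : r • χ 1 = χ r := by rw [← map_smul, smul_eq_mul, mul_one]
    rw [this]
    exact hχJ ⟨r, h⟩

end Retraction


section Retraction2

variable {ι : Type} [AddCommGroup ι] [DecidableEq ι]
variable {R : Type u} [CommRing R] (𝒜 : ι → AddSubgroup R) [GradedRing 𝒜]
variable {X : Type u} [AddCommGroup X] [Module R X] (𝒳 : ι → AddSubgroup X)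

/-- For a *injective module over a Noetherian graded ring, the torsion submodule is a
homogeneous direct summand: there is a homogeneous retraction onto it. -/
theorem exists_retraction_gam [IsNoetherianRing R] [Decomposition 𝒳] [SetLike.GradedSMul 𝒜 𝒳]
    (hX : IsStarInj 𝒜 𝒳) (a : HomogeneousIdeal 𝒜) :
    ∃ τ : X →ₗ[R] X, IsGrHom 𝒳 𝒳 τ ∧ (∀ x, τ x ∈ gam a.toIdeal X) ∧
      ∀ t ∈ gam a.toIdeal X, τ t = t := by
  classical
  set T := gam a.toIdeal X with hT
  have hThom : T.IsHomogeneous 𝒳 := isHomogeneous_gam 𝒜 𝒳 a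
  let S : Set (X →ₗ.[R] X) := {p | Good 𝒳 T p}
  let p₀ : X →ₗ.[R] X := ⟨T, T.subtype⟩
  have hp₀ : p₀ ∈ S := ⟨le_rfl, hThom, fun x => ⟨x.2, fun g hx => hx, fun _ => rfl⟩⟩
  have hchain : ∀ c ⊆ S, IsChain (· ≤ ·) c → ∀ y ∈ c, ∃ ub ∈ S, ∀ z ∈ c, z ≤ ub := by
    intro c hcS hc y hy
    have hdir : DirectedOn (· ≤ ·) c := hc.directedOn
    refine ⟨LinearPMap.sSup c hdir, ?_, fun z hz => LinearPMap.le_sSup hdir hz⟩
    have hne : c.Nonempty := ⟨y, hy⟩
    refine ⟨(hcS hy).1.trans (LinearPMap.le_sSup hdir hy).1, ?_, ?_⟩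
    · intro i x hx
      obtain ⟨f, hf, hxf⟩ := (LinearPMap.mem_domain_sSup_iff hne hdir).mp hx
      exact (LinearPMap.le_sSup hdir hf).1 ((hcS hf).2.1 i hxf)
    · intro x
      obtain ⟨f, hf, hxf⟩ := (LinearPMap.mem_domain_sSup_iff hne hdir).mp x.2
      have hval : LinearPMap.sSup c hdir x = f ⟨x, hxf⟩ :=
        ((LinearPMap.le_sSup hdir hf).2 rfl).symm
      rw [hval]
      exact (hcS hf).2.2 ⟨x, hxf⟩
  obtain ⟨p, -, hpS, hpmax⟩ := zorn_le_nonempty₀ S hchain p₀ hp₀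
  have hpS' : Good 𝒳 T p := hpS
  have hdom : p.domain = ⊤ := by
    by_contra hne
    obtain ⟨g, y, hy, hyD⟩ : ∃ g, ∃ y ∈ 𝒳 g, y ∉ p.domain := by
      by_contra hall
      push Not at hall
      apply hne
      rw [eq_top_iff]
      intro x _
      rw [← DirectSum.sum_support_decompose 𝒳 x]
      exact Submodule.sum_mem _ (fun i _ => hall i _ (decompose 𝒳 x i).2)
    obtain ⟨t, htT, htg, ht⟩ := extend_step 𝒜 𝒳 hX a p hpS' hy
    have H : ∀ c : R, c • y = 0 → c • t = 0 := by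
      intro c hc
      have h0 : c • y ∈ p.domain := by rw [hc]; exact zero_mem _
      rw [ht c h0]
      have : (⟨c • y, h0⟩ : p.domain) = 0 := Subtype.ext hc
      rw [this, LinearPMap.map_zero]
    let q : X →ₗ.[R] X := LinearPMap.mkSpanSingleton' y t H
    have hqdom : ∀ c : R, c • y ∈ q.domain := fun c =>
      Submodule.mem_span_singleton.mpr ⟨c, rfl⟩
    have hpq : ∀ (x : p.domain) (w : q.domain), (x : X) = w → p x = q w := by
      intro x w hxw
      obtain ⟨c, hc⟩ := Submodule.mem_span_singleton.mp w.2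
      have hw : w = ⟨c • y, hqdom c⟩ := Subtype.ext hc.symm
      rw [hw, LinearPMap.mkSpanSingleton'_apply]
      have hcy : c • y ∈ p.domain := by rw [hc, ← hxw]; exact x.2
      rw [RingHom.id_apply, ht c hcy]
      congr 1
      exact Subtype.ext (hxw.trans hc.symm)
    let p' := p.sup q hpq
    have hle : p ≤ p' := LinearPMap.left_le_sup p q hpq
    have hval : ∀ (x : p.domain) (c : R) (z : p'.domain), (x : X) + c • y = z →
        p' z = p x + c • t := by
      intro x c z hz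
      rw [LinearPMap.sup_apply hpq x ⟨c • y, hqdom c⟩ z hz, LinearPMap.mkSpanSingleton'_apply,
        RingHom.id_apply]
    have hrep : ∀ z : p'.domain, ∃ (x : p.domain) (c : R), (x : X) + c • y = z := by
      intro z
      obtain ⟨x, hx, w, hw, hxw⟩ := Submodule.mem_sup.mp z.2
      obtain ⟨c, rfl⟩ := Submodule.mem_span_singleton.mp hw
      exact ⟨⟨x, hx⟩, c, hxw⟩
    have hp'S : p' ∈ S := by
      refine ⟨hpS'.1.trans hle.1, ?_, ?_⟩
      · exact isHomogeneous_sup 𝒳 hpS'.2.1 (isHomogeneous_span_singleton 𝒳 𝒜 hy)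
      · intro z
        obtain ⟨x, c, hz⟩ := hrep z
        refine ⟨?_, ?_, ?_⟩
        · rw [hval x c z hz]
          exact T.add_mem (hpS'.2.2 x).1 (T.smul_mem c htT)
        · intro h hzh
          have hx' : (decompose 𝒳 (x : X) h : X) ∈ p.domain := hpS'.2.1 h x.2
          have hz' : ((⟨_, hx'⟩ : p.domain) : X) + (decompose 𝒜 c (h - g) : R) • y = z := by
            have h1 : (decompose 𝒳 (z : X) h : X) = z := decompose_of_mem_same 𝒳 hzh
            rw [← h1, ← hz, decompose_add, DirectSum.add_apply, AddSubgroup.coe_add]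
            congr 1
            have h2 := decompose_smul_of_mem_right 𝒳 𝒜 hy c (h - g)
            rw [sub_add_cancel] at h2
            exact h2.symm
          rw [hval _ _ z hz']
          refine add_mem ((hpS'.2.2 _).2.1 h (decompose 𝒳 (x : X) h).2) ?_
          have := SetLike.GradedSMul.smul_mem (A := 𝒜) (B := 𝒳) (decompose 𝒜 c (h - g)).2 htg
          rwa [vadd_eq_add, sub_add_cancel] at this
        · intro hzT
          have hzD : (z : X) ∈ p.domain := hpS'.1 hzT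
          have h1 : p ⟨z, hzD⟩ = p' z := hle.2 rfl
          rw [← h1]
          exact (hpS'.2.2 ⟨z, hzD⟩).2.2 hzT
    have := hpmax hp'S hle
    exact hyD (this.1 (show y ∈ p'.domain from
      Submodule.mem_sup_right (Submodule.mem_span_singleton_self y)))
  have htop : ∀ x : X, x ∈ p.domain := fun x => hdom ▸ Submodule.mem_top
  let e : X →ₗ[R] p.domain := LinearMap.codRestrict p.domain LinearMap.id htop
  refine ⟨p.toFun ∘ₗ e, ?_, ?_, ?_⟩
  · intro g x hx
    exact (hpS'.2.2 (e x)).2.1 g hx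
  · intro x
    exact (hpS'.2.2 (e x)).1
  · intro t ht
    exact (hpS'.2.2 (e t)).2.2 ht

end Retraction2


section Vanishing

variable {ι : Type} [AddCommGroup ι] [DecidableEq ι]
variable {R : Type u} [CommRing R] {𝒜 : ι → AddSubgroup R} [GradedRing 𝒜]
variable {M : Type u} [AddCommGroup M] [Module R M] {ℳ : ι → AddSubgroup M}
  [Decomposition ℳ] [SetLike.GradedSMul 𝒜 ℳ]

/-- The key induction. -/
theorem exists_pi [IsNoetherianRing R] (E : StarInjRes 𝒜 ℳ) (a : HomogeneousIdeal 𝒜)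
    (hM : gam a.toIdeal M = ⊤) (n : ℕ) :
    ∃ π : (E.X n).carrier →ₗ[R] (E.X n).carrier, IsGrHom (E.X n).gr (E.X n).gr π ∧
      (∀ x, ∃ t ∈ gam a.toIdeal (E.X n).carrier, E.d n (π x) = E.d n t) ∧
      ∀ y, E.d n y ∈ gam a.toIdeal (E.X (n + 1)).carrier →
        y - π y ∈ gam a.toIdeal (E.X n).carrier := by
  have hafg : a.toIdeal.FG := IsNoetherian.noetherian a.toIdeal
  induction n with
  | zero =>
    refine ⟨0, fun g x _ => zero_mem _, fun x => ⟨0, zero_mem _, rfl⟩, ?_⟩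
    intro y hy
    rw [LinearMap.zero_apply, sub_zero]
    obtain ⟨N, hN⟩ := hy
    refine mem_gam_of_pow_smul_mem hafg N y (fun r hr => ?_)
    have h1 : r • y ∈ LinearMap.ker (E.d 0) := by
      rw [LinearMap.mem_ker, map_smul]; exact hN r hr
    rw [E.exact_zero] at h1
    obtain ⟨m, hm⟩ := h1
    rw [← hm]
    exact map_mem_gam E.ε (hM ▸ Submodule.mem_top)
  | succ n ih =>
    obtain ⟨π, hπ, hπa, hπb⟩ := ih
    obtain ⟨τ, hτ, hτT, hτid⟩ := exists_retraction_gam 𝒜 (E.X n).gr (E.starInj n) a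
    let φ : (E.X n).carrier →ₗ[R] (E.X n).carrier := (LinearMap.id - τ) ∘ₗ (LinearMap.id - π)
    have hφ_apply : ∀ u, φ u = (u - π u) - τ (u - π u) := fun u => rfl
    have hφdeg : IsGrHomDeg (E.X n).gr (E.X n).gr φ 0 := by
      intro g x hx
      rw [add_zero, hφ_apply]
      have h1 : x - π x ∈ (E.X n).gr g := sub_mem hx (hπ g x hx)
      exact sub_mem h1 (hτ g _ h1)
    have hker : LinearMap.ker (E.d n) ≤ LinearMap.ker φ := by
      intro y hy
      rw [LinearMap.mem_ker] at hy ⊢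
      have h1 : y - π y ∈ gam a.toIdeal (E.X n).carrier := hπb y (by rw [hy]; exact zero_mem _)
      rw [hφ_apply, hτid _ h1, sub_self]
    obtain ⟨ρ, hρdeg, hρd⟩ := Groth.Agent.S18662.extend_through 𝒜 (E.X n).gr (E.X (n + 1)).gr
      (E.X n).gr (E.starInj n) (E.d_grHom n) hφdeg hker
    have hρd' : ∀ u, ρ (E.d n u) = φ u := fun u => LinearMap.congr_fun hρd u
    -- key congruence
    have hK : ∀ u, E.d n (φ u) - E.d n u ∈ gam a.toIdeal (E.X (n + 1)).carrier := by
      intro u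
      obtain ⟨t', ht', hdt'⟩ := hπa u
      have h1 : E.d n (φ u) - E.d n u = - E.d n t' - E.d n (τ (u - π u)) := by
        rw [hφ_apply, map_sub, map_sub, hdt']
        abel
      rw [h1]
      exact sub_mem (neg_mem (map_mem_gam (E.d n) ht')) (map_mem_gam (E.d n) (hτT _))
    refine ⟨E.d n ∘ₗ ρ, ?_, ?_, ?_⟩
    · intro g x hx
      have := hρdeg g x hx
      rw [add_zero] at this
      exact E.d_grHom n g _ this
    · intro x
      refine ⟨0, zero_mem _, ?_⟩
      rw [LinearMap.comp_apply, map_zero]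
      exact Groth.Agent.S18662.d_comp_d E n _
    · intro y hy
      rw [LinearMap.comp_apply]
      set y' := y - E.d n (ρ y) with hy'
      have hdy' : E.d (n + 1) y' = E.d (n + 1) y := by
        rw [hy', map_sub, Groth.Agent.S18662.d_comp_d, sub_zero]
      obtain ⟨N, hN⟩ := hy
      have h2 : E.d n (ρ y') ∈ gam a.toIdeal (E.X (n + 1)).carrier := by
        have : E.d n (ρ y') = - (E.d n (φ (ρ y)) - E.d n (ρ y)) := by
          rw [hy', map_sub, map_sub, hρd']
          abel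
        rw [this]
        exact neg_mem (hK _)
      refine mem_gam_of_pow_smul_mem hafg N y' (fun r hr => ?_)
      have h1 : r • y' ∈ LinearMap.ker (E.d (n + 1)) := by
        rw [LinearMap.mem_ker, map_smul, hdy']; exact hN r hr
      rw [E.exact_succ] at h1
      obtain ⟨w, hw⟩ := h1
      have h3 : E.d n (ρ (r • y')) ∈ gam a.toIdeal (E.X (n + 1)).carrier := by
        rw [map_smul, map_smul]
        exact Submodule.smul_mem _ r h2
      have h4 : r • y' = E.d n (ρ (r • y')) - (E.d n (φ w) - E.d n w) := by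
        rw [← hw, hρd']
        abel
      rw [h4]
      exact sub_mem h3 (hK w)

/-- Vanishing of higher graded local cohomology of a torsion module. -/
theorem H_subsingleton_of_torsion [IsNoetherianRing R] (E : StarInjRes 𝒜 ℳ)
    (a : HomogeneousIdeal 𝒜) (hM : gam a.toIdeal M = ⊤) (q : ℕ) (hq : 1 ≤ q) :
    Subsingleton (E.H a q) := by
  obtain ⟨n, rfl⟩ : ∃ n, q = n + 1 := ⟨q - 1, by omega⟩
  obtain ⟨π, -, hπa, hπb⟩ := exists_pi E a hM n
  rw [Submodule.Quotient.subsingleton_iff, eq_top_iff]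
  rintro ⟨z, hzT, hzker⟩ -
  rw [Submodule.mem_comap]
  show z ∈ (gam a.toIdeal (E.X n).carrier).map (E.d n)
  rw [E.exact_succ] at hzker
  obtain ⟨y, rfl⟩ := hzker
  obtain ⟨t', ht', hdt'⟩ := hπa y
  refine ⟨y - π y + t', add_mem (hπb y hzT) ht', ?_⟩
  rw [map_add, map_sub, ← hdt']
  abel

end Vanishing

/-- Let R be a graded ring defined over a field, m = R_+, and M a graded R-module satisfying condition
(*): for every nonzero x ∈ M the annihilator Ann_R(x) is an m-primary ideal. Then H^0_m(M) = M, i.e.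
every element of M is killed by a power of m, and H^q_m(M) = 0 for every q ≠ 0 (graded local
cohomology, computed from any *injective resolution of M in the graded category). Here 'graded ring
defined over a field' means R = ⊕_{n ≥ 0} R_n is Noetherian with R_0 a field, and m = R_+ is its
unique graded maximal ideal. -/
theorem result (R : Type u) [CommRing R] [IsNoetherianRing R] (𝒜 : ℤ → AddSubgroup R) [GradedRing 𝒜] (hpos : ∀ n : ℤ, n < 0 → 𝒜 n = ⊥) (h0 : IsField (GrLC.deg0 𝒜)) (m : HomogeneousIdeal 𝒜) (hm : GrLC.IsStarLocal 𝒜 m) (hmsp : m.toIdeal = Ideal.span (⋃ n ∈ Set.Ioi (0 : ℤ), (𝒜 n : Set R))) (M : Type u) [AddCommGroup M] [Module R M] (ℳ : ℤ → AddSubgroup M) [DirectSum.Decomposition ℳ] [SetLike.GradedSMul 𝒜 ℳ] (hstar : ∀ x : M, x ≠ 0 → ((Submodule.span R {x}).annihilator).IsPrimary ∧ ((Submodule.span R {x}).annihilator).radical = m.toIdeal) : GrLC.gam m.toIdeal M = ⊤ ∧ ∀ (E : GrLC.StarInjRes 𝒜 ℳ) (q : ℕ), 1 ≤ q → Subsingleton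 (E.H m q) := by
  have hfg : m.toIdeal.FG := IsNoetherian.noetherian m.toIdeal
  have hgam : GrLC.gam m.toIdeal M = ⊤ := by
    rw [eq_top_iff]
    intro x _
    by_cases hx : x = 0
    · rw [hx]; exact zero_mem _
    · obtain ⟨-, hrad⟩ := hstar x hx
      obtain ⟨n, hn⟩ := Ideal.exists_pow_le_of_le_radical_of_fg (le_of_eq hrad.symm) hfg
      exact ⟨n, fun r hr => (Submodule.mem_annihilator_span_singleton _ _).mp (hn hr)⟩
  exact ⟨hgam, fun E q hq => H_subsingleton_of_torsion E m hgam q hq⟩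

end Groth.Agent.S18661
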