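import Groth.Statements.S0433
import Groth.Agent.Lib.RingFibreSq24
import Groth.Agent.Lib.SchemePushout24

set_option autoImplicit false
universe u
open FlatMor

namespace Groth.Agent.S0433


open AlgebraicGeometry CategoryTheory Limits Opposite PrimeSpectrum TopologicalSpace
open Groth.Agent.Lib.RingFibreSq24 Groth.Agent.Lib.SchemePushout24

set_option backward.isDefEq.respectTransparency.types false in
/-- `StructureSheaf.comap` is compatible with the structure maps. -/
theorem comap_algebraMap {R S : Type u} [CommRing R] [CommRing S] (f : R →+* S)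
    (U : Opens (PrimeSpectrum.Top R)) (V : Opens (PrimeSpectrum.Top S))
    (hUV : V.1 ⊆ PrimeSpectrum.comap f ⁻¹' U.1) (x : R) :
    StructureSheaf.comap f U V hUV (algebraMap R ((Spec.structureSheaf R).obj.obj (op U)) x) =
      algebraMap S ((Spec.structureSheaf S).obj.obj (op V)) (f x) :=
  Subtype.ext <| funext fun y => by
    rw [StructureSheaf.comap_apply]
    exact Localization.localRingHom_to_map _ _ _ _ _

set_option backward.isDefEq.respectTransparency.types false in
/-- Sections over basic opens of a fibre square of rings form a fibre square. -/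
theorem sections_fibreSq {A A' B C : Type u} [CommRing A] [CommRing A'] [CommRing B] [CommRing C]
    {π₁ : C →+* B} {π₂ : C →+* A'} {q : B →+* A} {p : A' →+* A} (sq : IsFibreSq π₁ π₂ q p)
    (c : C) (hq : (basicOpen (p (π₂ c))).1 ⊆ PrimeSpectrum.comap q ⁻¹' (basicOpen (π₁ c)).1) :
    IsFibreSq
      (StructureSheaf.comap π₁ (basicOpen c) (basicOpen (π₁ c)) (fun _ h => h))
      (StructureSheaf.comap π₂ (basicOpen c) (basicOpen (π₂ c)) (fun _ h => h))
      (StructureSheaf.comap q (basicOpen (π₁ c)) (basicOpen (p (π₂ c))) hq)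
      (StructureSheaf.comap p (basicOpen (π₂ c)) (basicOpen (p (π₂ c))) (fun _ h => h)) :=
  sq.away c _ _ _ _ (comap_algebraMap _ _ _ _) (comap_algebraMap _ _ _ _)
    (comap_algebraMap _ _ _ _) (comap_algebraMap _ _ _ _)

open AlgebraicGeometry CategoryTheory Limits in
/-- For a surjective ring map A' → A and any ring map B → A, the spectra of A, A', B and of the fibre
product ring B ×_A A' form a pushout square of schemes. -/
theorem result {A A' B : Type u} [CommRing A] [CommRing A'] [CommRing B] (p : A' →+* A) (hp : Function.Surjective p) (q : B →+* A) :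
    IsPushout (Spec.map (CommRingCat.ofHom p)) (Spec.map (CommRingCat.ofHom q))
      (Spec.map (pullback.snd (CommRingCat.ofHom q) (CommRingCat.ofHom p)))
      (Spec.map (pullback.fst (CommRingCat.ofHom q) (CommRingCat.ofHom p))) := by
  have sq : IsFibreSq (pullback.fst (CommRingCat.ofHom q) (CommRingCat.ofHom p)).hom
      (pullback.snd (CommRingCat.ofHom q) (CommRingCat.ofHom p)).hom q p :=
    isFibreSq_pullback (CommRingCat.ofHom q) (CommRingCat.ofHom p)
  set π₁ := pullback.fst (CommRingCat.ofHom q) (CommRingCat.ofHom p) with hπ₁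
  set π₂ := pullback.snd (CommRingCat.ofHom q) (CommRingCat.ofHom p) with hπ₂
  have w : Spec.map (CommRingCat.ofHom p) ≫ Spec.map π₂ =
      Spec.map (CommRingCat.ofHom q) ≫ Spec.map π₁ := by
    rw [← Spec.map_comp, ← Spec.map_comp, pullback.condition]
  refine isPushout_of_basis _ _ _ _ w
    (Set.range fun c : (pullback (CommRingCat.ofHom q) (CommRingCat.ofHom p) : CommRingCat) =>
      (basicOpen c : (Spec _).Opens)) ?_ ?_ ?_ ?_
  · intro t
    rcases sq.range_comap hp t with h | h
    · exact Or.inr h
    · exact Or.inl h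
  · rintro _ ⟨c, rfl⟩ s hs₁ hs₂
    have hq' : (basicOpen (p (π₂.hom c))).1 ⊆
        PrimeSpectrum.comap q ⁻¹' (basicOpen (π₁.hom c)).1 := by
      rw [← sq.comm]; exact fun _ h => h
    exact (sections_fibreSq sq c hq').inj s hs₂ hs₁
  · rintro _ ⟨c, rfl⟩ s t hst
    have hq' : (basicOpen (p (π₂.hom c))).1 ⊆
        PrimeSpectrum.comap q ⁻¹' (basicOpen (π₁.hom c)).1 := by
      rw [← sq.comm]; exact fun _ h => h
    obtain ⟨u, hu₁, hu₂⟩ := (sections_fibreSq sq c hq').surj t s hst.symm
    exact ⟨u, hu₂, hu₁⟩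
  · intro G H hGH t ht
    have hGH' : ∀ x : PrimeSpectrum A, PrimeSpectrum.comap p x ∈ G ↔ PrimeSpectrum.comap q x ∈ H := by
      intro x
      exact (congrArg (fun O : (Spec (CommRingCat.of A)).Opens => x ∈ O) hGH).to_iff
    obtain ⟨c, hc, hcG, hcH⟩ := sq.exists_basicOpen hp G H hGH' t ht
    exact ⟨basicOpen c, ⟨c, rfl⟩, hc, hcG, hcH⟩

end Groth.Agent.S0433
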