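import Groth.Statements.S1440
import Mathlib

set_option autoImplicit false
universe u
open FlatMor

namespace Groth.Agent.S1440

open AlgebraicGeometry CategoryTheory Limits Topology

open scoped Classical in
/-- Key algebra lemma. -/
theorem algB {A B K : Type*} [CommRing A] [CommRing B] [Field K] [Algebra A B]
    [Algebra.FinitePresentation A B] [Algebra A K] [Algebra B K] [IsScalarTower A B K]
    (H : ∀ k : K, ∃ a t : A, algebraMap A K t ≠ 0 ∧ k * algebraMap A K t = algebraMap A K a) :
    ∃ (s : A) (J : Ideal (Localization.Away s)), J.FG ∧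
      Nonempty (B →ₐ[A] (Localization.Away s ⧸ J)) ∧
      Nonempty ((Localization.Away s ⧸ J) →ₐ[A] K) := by
  obtain ⟨n, π, hπ, hker⟩ := Algebra.FinitePresentation.out (R := A) (A := B)
  choose a t ht hat using fun i : Fin n => H (algebraMap B K (π (MvPolynomial.X i)))
  let s : A := ∏ i, t i
  have hs : algebraMap A K s ≠ 0 := by
    simp only [s, map_prod]
    exact Finset.prod_ne_zero_iff.mpr fun i _ => ht i
  have hsu : IsUnit (algebraMap A (Localization.Away s) s) :=
    IsLocalization.Away.algebraMap_isUnit s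
  have htu : ∀ i, IsUnit (algebraMap A (Localization.Away s) (t i)) := fun i =>
    isUnit_of_dvd_unit (map_dvd _ (Finset.dvd_prod_of_mem t (Finset.mem_univ i))) hsu
  let c : Fin n → Localization.Away s := fun i =>
    algebraMap A _ (a i) * ↑((htu i).unit⁻¹)
  let γ₀ : Localization.Away s →ₐ[A] K :=
    IsLocalization.liftAlgHom (M := Submonoid.powers s) (f := Algebra.ofId A K) (by
      rintro ⟨_, m, rfl⟩
      simpa using (hs.isUnit.pow m))
  let θ : MvPolynomial (Fin n) A →ₐ[A] Localization.Away s := MvPolynomial.aeval c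
  have hγc : ∀ i, γ₀ (c i) = algebraMap B K (π (MvPolynomial.X i)) := by
    intro i
    have h1 : γ₀ (algebraMap A _ (t i)) * γ₀ ↑((htu i).unit⁻¹) = 1 := by
      rw [← map_mul]
      have : algebraMap A (Localization.Away s) (t i) * ↑((htu i).unit⁻¹) = 1 := by
        exact (htu i).mul_val_inv
      rw [this, map_one]
    have h2 : γ₀ (algebraMap A _ (t i)) = algebraMap A K (t i) := by simp
    have h3 : γ₀ (algebraMap A _ (a i)) = algebraMap A K (a i) := by simp
    simp only [c, map_mul, h3]
    rw [← hat i, mul_assoc, ← h2, h1, mul_one]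
  have hcomp : γ₀.comp θ = (IsScalarTower.toAlgHom A B K).comp π := by
    apply MvPolynomial.algHom_ext
    intro i
    simp [θ, hγc]
  let J : Ideal (Localization.Away s) := Ideal.map θ (RingHom.ker π.toRingHom)
  have hJ : J.FG := Ideal.FG.map hker _
  have hJle : ∀ x ∈ J, γ₀ x = 0 := by
    intro x hx
    have : J ≤ RingHom.ker γ₀.toRingHom := by
      rw [Ideal.map_le_iff_le_comap]
      intro p hp
      rw [Ideal.mem_comap, RingHom.mem_ker]
      have := congrArg (fun g => g p) hcomp
      simp only [AlgHom.comp_apply] at this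
      change γ₀ (θ p) = 0
      rw [this]
      have hp' : π p = 0 := hp
      simp [hp']
    exact this hx
  refine ⟨s, J, hJ, ⟨?_⟩, ⟨Ideal.Quotient.liftₐ J γ₀ hJle⟩⟩
  let e := Ideal.quotientKerAlgEquivOfSurjective hπ
  refine AlgHom.comp ?_ e.symm.toAlgHom
  refine Ideal.Quotient.liftₐ _ ((Ideal.Quotient.mkₐ A J).comp θ) ?_
  intro p hp
  simp only [AlgHom.comp_apply, Ideal.Quotient.mkₐ_eq_mk]
  rw [Ideal.Quotient.eq_zero_iff_mem]
  exact Ideal.mem_map_of_mem _ hp

theorem algB' {A B : CommRingCat.{u}} {K : Type u} [Field K] (φ : A ⟶ B)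
    (hφ : φ.hom.FinitePresentation)
    (ψ : B ⟶ CommRingCat.of K)
    (H : ∀ k : K, ∃ a t : A, (φ ≫ ψ) t ≠ 0 ∧ k * (φ ≫ ψ) t = (φ ≫ ψ) a) :
    ∃ (C : CommRingCat.{u}) (α : A ⟶ C) (β : B ⟶ C) (γ : C ⟶ CommRingCat.of K),
      φ ≫ β = α ∧ α ≫ γ = φ ≫ ψ ∧ α.hom.FinitePresentation ∧ IsImmersion (Spec.map α) := by
  let _ : Algebra A B := φ.hom.toAlgebra
  let _ : Algebra B K := ψ.hom.toAlgebra
  let _ : Algebra A K := (φ ≫ ψ).hom.toAlgebra
  have : IsScalarTower A B K := IsScalarTower.of_algebraMap_eq' rfl
  have : Algebra.FinitePresentation A B := hφ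
  obtain ⟨s, J, hJ, ⟨β⟩, ⟨γ⟩⟩ := algB (A := A) (B := B) (K := K) H
  have : Algebra.FinitePresentation A (Localization.Away s) :=
    IsLocalization.Away.finitePresentation s
  have : Algebra.FinitePresentation (Localization.Away s) (Localization.Away s ⧸ J) :=
    Algebra.FinitePresentation.quotient hJ
  have : Algebra.FinitePresentation A (Localization.Away s ⧸ J) :=
    Algebra.FinitePresentation.trans A (Localization.Away s) _
  refine ⟨.of (Localization.Away s ⧸ J), CommRingCat.ofHom (algebraMap A _),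
    CommRingCat.ofHom β.toRingHom, CommRingCat.ofHom γ.toRingHom, ?_, ?_, ?_, ?_⟩
  · ext a
    exact β.commutes a
  · ext a
    exact γ.commutes a
  · simpa using (inferInstance : Algebra.FinitePresentation A (Localization.Away s ⧸ J))
  · have : CommRingCat.ofHom (algebraMap A (Localization.Away s ⧸ J)) =
        CommRingCat.ofHom (algebraMap A (Localization.Away s)) ≫
          CommRingCat.ofHom (Ideal.Quotient.mk J) := by
      ext a
      rfl
    rw [this, Spec.map_comp]
    have : IsClosedImmersion (Spec.map (CommRingCat.ofHom (Ideal.Quotient.mk J))) :=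
      IsClosedImmersion.spec_of_surjective _ Ideal.Quotient.mk_surjective
    infer_instance

/-- every element of the residue field at a point of an affine open is a fraction of evaluations. -/
theorem exists_evaluation_fraction {Y : Scheme.{u}} {V : Y.Opens} (hV : IsAffineOpen V) (y : Y)
    (hy : y ∈ V) (k : Y.residueField y) :
    ∃ a t : Γ(Y, V), Y.evaluation V y hy t ≠ 0 ∧
      k * Y.evaluation V y hy t = Y.evaluation V y hy a := by
  obtain ⟨σ, rfl⟩ : ∃ σ, Y.residue y σ = k := Ideal.Quotient.mk_surjective k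
  let := Y.presheaf.algebra_section_stalk ⟨y, hy⟩
  have := hV.isLocalization_stalk ⟨y, hy⟩
  obtain ⟨⟨a, t⟩, hat⟩ := IsLocalization.surj (hV.primeIdealOf ⟨y, hy⟩).asIdeal.primeCompl σ
  refine ⟨a, t, ?_, ?_⟩
  · have hu : IsUnit (Y.presheaf.germ V y hy (t : Γ(Y, V))) :=
      IsLocalization.map_units (M := (hV.primeIdealOf ⟨y, hy⟩).asIdeal.primeCompl)
        (Y.presheaf.stalk y) t
    have : IsUnit (Y.evaluation V y hy (t : Γ(Y, V))) := by
      have := hu.map (Y.residue y).hom
      exact this
    exact this.ne_zero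
  · have := congrArg (Y.residue y) hat
    rw [map_mul] at this
    exact this

theorem exists_immersion_section_at {X Y : Scheme.{u}} (f : X ⟶ Y)
    [LocallyOfFinitePresentation f] [QuasiSeparatedSpace Y]
    (x : X) (hx : Function.Bijective (f.residueFieldMap x)) :
    ∃ (Z : Scheme.{u}) (z : Z ⟶ Y) (g : Z ⟶ X), g ≫ f = z ∧ IsImmersion z ∧
      LocallyOfFinitePresentation z ∧ QuasiCompact z ∧ f x ∈ Set.range z := by
  obtain ⟨_, ⟨V, hV, rfl⟩, hyV, -⟩ :=
    Y.isBasis_affineOpens.exists_subset_of_mem_open (Set.mem_univ (f x)) isOpen_univ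
  obtain ⟨_, ⟨U, hU, rfl⟩, hxU, hUV⟩ :=
    X.isBasis_affineOpens.exists_subset_of_mem_open (show x ∈ (f ⁻¹ᵁ V : Set X) from hyV)
      (f ⁻¹ᵁ V).isOpen
  replace hV : IsAffineOpen V := hV
  replace hU : IsAffineOpen U := hU
  have e : U ≤ f ⁻¹ᵁ V := hUV
  have hφ := LocallyOfFinitePresentation.finitePresentation_appLE f hV hU e
  have hnat : f.appLE V U e ≫ X.evaluation U x hxU =
      Y.evaluation V (f x) hyV ≫ f.residueFieldMap x := by
    rw [Scheme.evaluation_naturality, Scheme.Hom.appLE, Category.assoc]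
    congr 1
    simp only [Scheme.evaluation, ← Category.assoc]
    congr 1
    exact X.presheaf.germ_res _ _ _
  have H : ∀ k : X.residueField x, ∃ a t : Γ(Y, V),
      (f.appLE V U e ≫ X.evaluation U x hxU) t ≠ 0 ∧
        k * (f.appLE V U e ≫ X.evaluation U x hxU) t =
          (f.appLE V U e ≫ X.evaluation U x hxU) a := by
    intro k
    obtain ⟨k', rfl⟩ := hx.2 k
    obtain ⟨a, t, ht, hat⟩ := exists_evaluation_fraction hV (f x) hyV k'
    refine ⟨a, t, ?_, ?_⟩
    · rw [hnat]
      intro h0
      apply ht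
      apply hx.1
      rw [map_zero]
      exact h0
    · rw [hnat]
      have := congrArg (f.residueFieldMap x) hat
      rw [map_mul] at this
      exact this
  obtain ⟨C, α, β, γ, hβ, hγ, hα, himm⟩ :=
    algB' (K := IsLocalRing.ResidueField (X.presheaf.stalk x))
    (f.appLE V U e) hφ (X.evaluation U x hxU) H
  change C ⟶ X.residueField x at γ
  replace hγ : α ≫ γ = f.appLE V U e ≫ X.evaluation U x hxU := hγ
  refine ⟨Spec C, Spec.map α ≫ hV.fromSpec, Spec.map β ≫ hU.fromSpec, ?_, ?_, ?_, ?_, ?_⟩
  · rw [Category.assoc, ← IsAffineOpen.SpecMap_appLE_fromSpec f hV hU e, ← Spec.map_comp_assoc, hβ]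
  · infer_instance
  · have : LocallyOfFinitePresentation (Spec.map α) :=
      (LocallyOfFinitePresentation.SpecMap_iff α).mpr hα
    infer_instance
  · infer_instance
  · have h1 : Spec.map γ ≫ Spec.map α ≫ hV.fromSpec = X.fromSpecResidueField x ≫ f := by
      rw [← Spec.map_comp_assoc, hγ]
      rw [Spec.map_comp_assoc, IsAffineOpen.SpecMap_appLE_fromSpec f hV hU e, ← Category.assoc]
      congr 1
      rw [Scheme.fromSpecResidueField, ← hU.fromSpecStalk_eq_fromSpecStalk hxU,
        IsAffineOpen.fromSpecStalk, ← Spec.map_comp_assoc]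
      rfl
    have pt : Spec (X.residueField x) := Classical.arbitrary _
    refine ⟨Spec.map γ pt, ?_⟩
    have h2 : (Spec.map γ ≫ Spec.map α ≫ hV.fromSpec) pt = (X.fromSpecResidueField x ≫ f) pt := by
      exact congrArg (fun h : Spec (X.residueField x) ⟶ Y => h pt) h1
    have h3 : (X.fromSpecResidueField x ≫ f) pt = f x := by
      rw [Scheme.Hom.comp_apply, Scheme.fromSpecResidueField_apply]
    exact h2.trans h3

theorem isOpen_constructibleTopology_of_isConstructible {X : Type*} [TopologicalSpace X]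
    [CompactSpace X] {s : Set X} (hs : IsConstructible s) :
    IsOpen[constructibleTopology X] s ∧ IsOpen[constructibleTopology X] sᶜ := by
  induction hs using IsConstructible.empty_union_induction with
  | open_retrocompact U hUo hUc =>
    refine ⟨hUc.isCompact.isOpen_constructibleTopology_of_isOpen hUo, ?_⟩
    exact IsCompact.isOpen_constructibleTopology_of_isClosed (s := Uᶜ)
      (by simpa using hUc.isCompact) hUo.isClosed_compl
  | union s hs t ht ihs iht =>
    refine ⟨@IsOpen.union X _ _ (constructibleTopology X) ihs.1 iht.1, ?_⟩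
    rw [Set.compl_union]
    exact @IsOpen.inter X (constructibleTopology X) _ _ ihs.2 iht.2
  | compl s hs ih =>
    refine ⟨ih.2, ?_⟩
    rw [compl_compl]
    exact ih.1

theorem exists_finite_subcover_of_isConstructible {X : Type*} [TopologicalSpace X]
    [CompactSpace X] [QuasiSober X] [PrespectralSpace X] [QuasiSeparatedSpace X]
    {ι : Type*} (T : ι → Set X) (hT : ∀ i, IsConstructible (T i))
    (hcov : ∀ x, ∃ i, x ∈ T i) : ∃ s : Finset ι, ∀ x, ∃ i ∈ s, x ∈ T i := by
  let O : ι → Set (WithConstructibleTopology X) := fun i => WithTopology.ofTopology ⁻¹' (T i)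
  have hO : ∀ i, IsOpen (O i) := fun i => by
    rw [WithConstructibleTopology.isOpen_iff]
    exact (isOpen_constructibleTopology_of_isConstructible (hT i)).1
  have hcov' : (Set.univ : Set (WithConstructibleTopology X)) ⊆ ⋃ i, O i := by
    intro w _
    obtain ⟨i, hi⟩ := hcov w.ofTopology
    exact Set.mem_iUnion.mpr ⟨i, hi⟩
  obtain ⟨s, hs⟩ := isCompact_univ.elim_finite_subcover O hO hcov'
  refine ⟨s, fun x => ?_⟩
  have := hs (Set.mem_univ (WithTopology.toTopology _ x))
  simp only [Set.mem_iUnion] at this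
  obtain ⟨i, his, hi⟩ := this
  exact ⟨i, his, hi⟩

open AlgebraicGeometry CategoryTheory Limits in
/-- Let f : X → Y be locally of finite presentation with Y quasi-compact and quasi-separated, and assume
f is completely decomposed: every point y of Y is the image of a point x at which the residue field
extension is trivial. Then there are finitely many immersions Z_i → Y of finite presentation,
jointly surjective, such that each base change X ×_Y Z_i → Z_i admits a section. -/
theorem result {X Y : Scheme.{u}} (f : X ⟶ Y) [LocallyOfFinitePresentation f] [CompactSpace ↑Y] [QuasiSeparatedSpace ↑Y]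
    (hcd : ∀ y : Y, ∃ x : X, f x = y ∧ Function.Bijective (f.residueFieldMap x)) :
    ∃ (n : ℕ) (Z : Fin n → Scheme.{u}) (z : ∀ i, Z i ⟶ Y), (∀ y : Y, ∃ i, y ∈ Set.range ⇑(z i)) ∧
      ∀ i, IsImmersion (z i) ∧ LocallyOfFinitePresentation (z i) ∧ QuasiCompact (z i) ∧ QuasiSeparated (z i) ∧
        ∃ s : Z i ⟶ pullback f (z i), s ≫ pullback.snd f (z i) = 𝟙 (Z i) := by
  classical
  have key : ∀ y : Y, ∃ (Z : Scheme.{u}) (z : Z ⟶ Y) (g : Z ⟶ X), g ≫ f = z ∧ IsImmersion z ∧
      LocallyOfFinitePresentation z ∧ QuasiCompact z ∧ y ∈ Set.range z := by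
    intro y
    obtain ⟨x, hxy, hx⟩ := hcd y
    have := exists_immersion_section_at f x hx
    rwa [hxy] at this
  choose Z z g hg himm hlfp hqc hmem using key
  have hT : ∀ y, IsConstructible (Set.range (z y)) := by
    intro y
    have := hlfp y
    have := hqc y
    rw [← Set.image_univ]
    exact (z y).isConstructible_image IsConstructible.univ
  obtain ⟨s, hs⟩ := exists_finite_subcover_of_isConstructible (fun y => Set.range (z y)) hT
    (fun y => ⟨y, hmem y⟩)
  let e := s.equivFin
  refine ⟨s.card, fun i => Z (e.symm i), fun i => z (e.symm i), ?_, ?_⟩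
  · intro y
    obtain ⟨i, his, hi⟩ := hs y
    refine ⟨e ⟨i, his⟩, ?_⟩
    show y ∈ Set.range (z (e.symm (e ⟨i, his⟩)))
    rw [Equiv.symm_apply_apply]
    exact hi
  · intro i
    have := himm (e.symm i).1
    refine ⟨himm _, hlfp _, hqc _, inferInstance, ?_⟩
    exact ⟨pullback.lift (g _) (𝟙 _) (by rw [hg, Category.id_comp]), pullback.lift_snd _ _ _⟩

end Groth.Agent.S1440
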