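import Mathlib
import Groth.Agent.Lib.ClosedCond27f
import Groth.Statements.S16245

set_option autoImplicit false
universe u
open CategoryTheory CategoryTheory.Limits AlgebraicGeometry
open SDiv

namespace Groth.Agent.S16245

section Helpers
open MonoidalCategory CartesianMonoidalCategory Groth.Agent.Lib.ClosedCond27

theorem exists_lift_iff {S T : Scheme.{u}} (𝓙 : S.IdealSheafData) (g : T ⟶ S) :
    (∃ t : T ⟶ 𝓙.subscheme, t ≫ 𝓙.subschemeι = g) ↔ 𝓙 ≤ g.ker := by
  constructor
  · rintro ⟨t, rfl⟩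
    conv_lhs => rw [← 𝓙.ker_subschemeι]
    exact Scheme.Hom.le_ker_comp _ _
  · intro h
    have h' : 𝓙.subschemeι.ker ≤ g.ker := by rw [𝓙.ker_subschemeι]; exact h
    exact ⟨IsClosedImmersion.lift 𝓙.subschemeι g h', IsClosedImmersion.lift_fac _ _ _⟩

theorem ker_eq_of_factors {W₁ W₂ X : Scheme.{u}} (m₁ : W₁ ⟶ X) (m₂ : W₂ ⟶ X)
    (a : W₁ ⟶ W₂) (b : W₂ ⟶ W₁) (ha : a ≫ m₂ = m₁) (hb : b ≫ m₁ = m₂) : m₁.ker = m₂.ker := by
  apply le_antisymm
  · rw [← hb]; exact Scheme.Hom.le_ker_comp _ _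
  · rw [← ha]; exact Scheme.Hom.le_ker_comp _ _

theorem key {X S T : Scheme.{u}} (f : X ⟶ S) (𝓘' : X.IdealSheafData) (g : T ⟶ S) :
    ((𝓘'.comap (pullback.fst f g)).subschemeι ≫ pullback.fst f g).ker =
      ((fst (Over.mk (𝓘'.subschemeι ≫ f)) (Over.mk (g ≫ (Over.mk (𝟙 S)).hom))).left ≫
        𝓘'.subschemeι).ker := by
  set P : Over S := Over.mk (𝓘'.subschemeι ≫ f) with hP
  set T' : Over S := Over.mk (g ≫ (Over.mk (𝟙 S)).hom) with hT'
  set p := pullback.fst f g with hp
  set m₁ := (𝓘'.comap p).subschemeι ≫ p with hm₁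
  set m₂ := (fst P T').left ≫ 𝓘'.subschemeι with hm₂
  -- d
  have hd : 𝓘'.subschemeι.ker ≤ m₁.ker := by
    rw [𝓘'.ker_subschemeι, hm₁, ← comap_le_ker_iff, Scheme.IdealSheafData.ker_subschemeι]
  let d : (𝓘'.comap p).subscheme ⟶ 𝓘'.subscheme := IsClosedImmersion.lift 𝓘'.subschemeι m₁ hd
  have hd' : d ≫ 𝓘'.subschemeι = m₁ := IsClosedImmersion.lift_fac _ _ _
  have hPhom : P.hom = 𝓘'.subschemeι ≫ f := rfl
  have hT'hom : T'.hom = g := Category.comp_id g
  have hcond : d ≫ P.hom = ((𝓘'.comap p).subschemeι ≫ pullback.snd f g) ≫ T'.hom := by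
    rw [hPhom, hT'hom, reassoc_of% hd', hm₁, Category.assoc, Category.assoc, hp, pullback.condition]
  let a : (𝓘'.comap p).subscheme ⟶ (P ⊗ T').left := (isPullback_fst_snd P T').lift d _ hcond
  have ha : a ≫ m₂ = m₁ := by
    rw [hm₂, ← Category.assoc, (isPullback_fst_snd P T').lift_fst, hd']
  -- c
  have hc0 : m₂ ≫ f = (snd P T').left ≫ g := by
    rw [hm₂, Category.assoc, ← hPhom, ← hT'hom]
    exact (isPullback_fst_snd P T').w
  let c : (P ⊗ T').left ⟶ pullback f g := pullback.lift m₂ (snd P T').left hc0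
  have hc : c ≫ p = m₂ := pullback.lift_fst _ _ _
  have hb0 : (𝓘'.comap p).subschemeι.ker ≤ c.ker := by
    rw [Scheme.IdealSheafData.ker_subschemeι, comap_le_ker_iff, hc, hm₂]
    conv_lhs => rw [← 𝓘'.ker_subschemeι]
    exact Scheme.Hom.le_ker_comp _ _
  let b : (P ⊗ T').left ⟶ (𝓘'.comap p).subscheme :=
    IsClosedImmersion.lift (𝓘'.comap p).subschemeι c hb0
  have hb : b ≫ m₁ = m₂ := by
    rw [hm₁, ← Category.assoc, IsClosedImmersion.lift_fac, hc]
  exact ker_eq_of_factors m₁ m₂ a b ha hb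

end Helpers

/-- Let f : X → S be a morphism of schemes, D ⊆ X an effective Cartier divisor with ideal sheaf 𝓘, and
D' ⊆ X a closed subscheme with ideal sheaf 𝓘' such that D' → S is finite, flat and locally of finite
presentation (finite locally free). Then there is a closed subscheme Z ⊆ S such that a morphism g :
T → S factors through Z exactly when, on X ×_S T, the inverse image ideal of 𝓘 is contained in the
inverse image ideal of 𝓘', that is, the pull-back of D' is a closed subscheme of the pull-back of D.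
This universal property determines Z, and compatibility of Z with base change follows from it. (In
the source X is a family of elliptic curves and D, D' are relative effective Cartier divisors, D'
then being finite locally free over S; the argument uses only the hypotheses stated here.) -/
theorem result
    {X S : Scheme.{u}} (f : X ⟶ S) (𝓘 𝓘' : X.IdealSheafData) (hD : BlowUp.IsEffCartierIdeal 𝓘)
    [IsFinite (𝓘'.subschemeι ≫ f)] [Flat (𝓘'.subschemeι ≫ f)]
    [LocallyOfFinitePresentation (𝓘'.subschemeι ≫ f)] :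
    ∃ 𝓩 : S.IdealSheafData, ∀ (T : Scheme.{u}) (g : T ⟶ S),
      (∃ t : T ⟶ 𝓩.subscheme, t ≫ 𝓩.subschemeι = g) ↔
        𝓘.comap (pullback.fst f g) ≤ 𝓘'.comap (pullback.fst f g) := by
  classical
  let P : Over S := Over.mk (𝓘'.subschemeι ≫ f)
  let T₀ : Over S := Over.mk (𝟙 S)
  have i1 : IsFinite P.hom := inferInstanceAs (IsFinite (𝓘'.subschemeι ≫ f))
  have i2 : Flat P.hom := inferInstanceAs (Flat (𝓘'.subschemeι ≫ f))
  have i3 : LocallyOfFinitePresentation P.hom :=
    inferInstanceAs (LocallyOfFinitePresentation (𝓘'.subschemeι ≫ f))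
  obtain ⟨𝓙, h𝓙⟩ := Groth.Agent.Lib.ClosedCond27.good_of_finite_flat_lfp P T₀
    (𝓘.comap ((CartesianMonoidalCategory.fst P T₀).left ≫ 𝓘'.subschemeι))
  refine ⟨𝓙, fun T g => ?_⟩
  rw [Groth.Agent.S16245.exists_lift_iff]
  refine (h𝓙 T g).trans ?_
  unfold Groth.Agent.Lib.ClosedCond27.Phi' Groth.Agent.Lib.ClosedCond27.Phi
  rw [Groth.Agent.Lib.ClosedCond27.comap_le_ker_iff, ← Category.assoc, ← Over.comp_left,
    CartesianMonoidalCategory.whiskerLeft_fst]
  have h1 : 𝓘.comap (pullback.fst f g) ≤ 𝓘'.comap (pullback.fst f g) ↔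
      𝓘 ≤ ((𝓘'.comap (pullback.fst f g)).subschemeι ≫ pullback.fst f g).ker := by
    rw [← Groth.Agent.Lib.ClosedCond27.comap_le_ker_iff, Scheme.IdealSheafData.ker_subschemeι]
  rw [h1, Groth.Agent.S16245.key f 𝓘' g]

end Groth.Agent.S16245
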