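import Groth.Statements.S7663
import Groth.Agent.Lib.DvrDominating

set_option autoImplicit false
universe u
open CategoryTheory CategoryTheory.Limits AlgebraicGeometry
open Variety

namespace Groth.Agent.S7663

/-- Let K be a field and A, B ⊆ K subrings with fraction field K, with A Noetherian of dimension one.
Then A ⊗ B → K is not surjective (equivalently, the subring generated by A and B is not K) if and
only if some discrete valuation ring O ⊆ K with fraction field K contains both A and B. -/
theorem result (K : Type u) [Field K]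
    (A : Subring K) [IsFractionRing A K] (B : Subring K) [IsFractionRing B K] [IsNoetherianRing A] (hdim : ringKrullDim A = 1) :
    A ⊔ B ≠ ⊤ ↔ ∃ O : ValuationSubring K, IsDiscreteValuationRing O ∧ A ≤ O.toSubring ∧ B ≤ O.toSubring := by
  constructor
  · intro hne
    obtain ⟨x, hx⟩ : ∃ x : K, x ∉ A ⊔ B := by
      by_contra hcon
      push Not at hcon
      exact hne (eq_top_iff.mpr fun x _ => hcon x)
    obtain ⟨a, b, hb, rfl⟩ := IsFractionRing.div_surjective (A := A) x
    have hb0 : (b : K) ≠ 0 := by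
      have := nonZeroDivisors.ne_zero hb
      exact fun h => this (Subtype.ext h)
    have hbC : (b : K) ∈ A ⊔ B := (le_sup_left : A ≤ A ⊔ B) b.2
    have haC : (a : K) ∈ A ⊔ B := (le_sup_left : A ≤ A ⊔ B) a.2
    let bC : ↥(A ⊔ B) := ⟨b, hbC⟩
    have hI : Ideal.span {bC} ≠ ⊤ := by
      intro hI
      rw [Ideal.span_singleton_eq_top] at hI
      obtain ⟨c, hc⟩ := hI.exists_right_inv
      have hc' : (b : K) * (c : K) = 1 := congrArg Subtype.val hc
      apply hx
      have : algebraMap (↥A) K a / algebraMap (↥A) K b = (a : K) * (c : K) := by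
        show (a : K) / (b : K) = (a : K) * (c : K)
        field_simp
        rw [mul_assoc, hc', mul_one]
      rw [this]
      exact (A ⊔ B).mul_mem haC c.2
    obtain ⟨V, hCV, hIV⟩ := Ideal.image_subset_nonunits_valuationSubring _ hI
    have hbV : (b : K) ∈ V.nonunits :=
      hIV ⟨bC, Ideal.subset_span rfl, rfl⟩
    have hAV : A ≤ V.toSubring := le_sup_left.trans hCV
    have hBV : B ≤ V.toSubring := le_sup_right.trans hCV
    have hd : Ring.KrullDimLE 1 A := Ring.krullDimLE_iff.mpr hdim.le
    have hfrac : ∀ z : K, ∃ x ∈ A, ∃ y ∈ A, z = x / y := by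
      intro z
      obtain ⟨a', b', -, rfl⟩ := IsFractionRing.div_surjective (A := A) z
      exact ⟨a', a'.2, b', b'.2, rfl⟩
    have hVn : IsNoetherianRing V :=
      Groth.Agent.Lib.DvrDominating.isNoetherianRing_valuationSubring_of_le A hfrac V hAV
    have hVtop : V ≠ ⊤ := by
      intro hVt
      have h1 : V.valuation (b : K) < 1 := (V.mem_nonunits_iff).mp hbV
      have h2 : (b : K)⁻¹ ∈ V := by rw [hVt]; trivial
      have h3 : V.valuation (b : K)⁻¹ ≤ 1 := (V.valuation_le_one_iff _).mpr h2
      rw [map_inv₀] at h3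
      have h4 : V.valuation (b : K) ≠ 0 := (map_ne_zero _).mpr hb0
      have h5 : 1 ≤ V.valuation (b : K) := by
        rwa [inv_le_one₀ (zero_lt_iff.mpr h4)] at h3
      exact absurd h1 (not_lt.mpr h5)
    exact ⟨V, Groth.Agent.Lib.DvrDominating.isDiscreteValuationRing_of_isNoetherianRing V hVtop,
      hAV, hBV⟩
  · rintro ⟨O, hO, hAO, hBO⟩ htop
    have hOtop : O.toSubring = ⊤ := eq_top_iff.mpr (htop ▸ sup_le hAO hBO)
    apply IsDiscreteValuationRing.not_isField O
    refine ⟨⟨0, 1, zero_ne_one⟩, mul_comm, fun {x} hx => ?_⟩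
    have hx0 : (x : K) ≠ 0 := fun h => hx (Subtype.ext h)
    have hmem : (x : K)⁻¹ ∈ O := by
      show (x : K)⁻¹ ∈ O.toSubring
      rw [hOtop]; trivial
    exact ⟨⟨(x : K)⁻¹, hmem⟩, Subtype.ext (mul_inv_cancel₀ hx0)⟩

end Groth.Agent.S7663
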