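import Groth.Statements.S10196
import Groth.Agent.Lib.H86AlgSpOpen

set_option autoImplicit false
set_option linter.style.haveILetI false
universe u
open CategoryTheory CategoryTheory.Limits AlgebraicGeometry Topology TopologicalSpace
open AlgSp

namespace Groth.Agent.S10196

open Groth.Agent.Lib.H86AlgSpPoints Groth.Agent.Lib.H86AlgSpSub Groth.Agent.Lib.H86AlgSpOpen

/-- If `h_R = h_U ×_F h_U` then `(t, s)` is an equivalence relation with `r ≫ t ~ r ≫ s`. -/
theorem rel_iff {S : Scheme.{u}} {F : Sp S} {R U : Over S} {s t : R ⟶ U}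
    {p : (yon S).obj U ⟶ F} (hR : IsPullback ((yon S).map t) ((yon S).map s) p p)
    {T : Over S} (x y : T ⟶ U) :
    (∃ r : T ⟶ R, r ≫ t = x ∧ r ≫ s = y) ↔ (yon S).map x ≫ p = (yon S).map y ≫ p := by
  constructor
  · rintro ⟨r, rfl, rfl⟩
    rw [Functor.map_comp, Functor.map_comp, Category.assoc, Category.assoc, hR.w]
  · intro h
    obtain ⟨r, hr⟩ := (yon S).map_surjective (hR.lift _ _ h)
    refine ⟨r, (yon S).map_injective ?_, (yon S).map_injective ?_⟩
    · rw [Functor.map_comp, hr, hR.lift_fst]
    · rw [Functor.map_comp, hr, hR.lift_snd]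

theorem isEqvRel_of_isPullback {S : Scheme.{u}} {F : Sp S} {R U : Over S} {s t : R ⟶ U}
    {p : (yon S).obj U ⟶ F} (hR : IsPullback ((yon S).map t) ((yon S).map s) p p) :
    IsEqvRel s t where
  injective T r r' h1 h2 := by
    apply (yon S).map_injective
    apply hR.hom_ext
    · rw [← Functor.map_comp, ← Functor.map_comp, h1]
    · rw [← Functor.map_comp, ← Functor.map_comp, h2]
  equivalence T := by
    constructor
    · intro x
      exact (rel_iff hR x x).2 rfl
    · intro x y h
      exact (rel_iff hR y x).2 ((rel_iff hR x y).1 h).symm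
    · intro x y z h1 h2
      exact (rel_iff hR x z).2 (((rel_iff hR x y).1 h1).trans ((rel_iff hR y z).1 h2))

/-- Let X be an algebraic space over a scheme S, a : h_U ⟶ X a representable etale map from a scheme U
over S, and X' ⟶ X the open subspace whose image in |X| is the (open) image of U. Then a factors
through a representable etale and surjective a' : h_U ⟶ X', and if R is a scheme over S with h_R =
h_U ×_X h_U then also h_R = h_U ×_{X'} h_U and (U, R, a') is a presentation of X'. -/
theorem result {S : Scheme.{u}} {X X' : AlgSp.Space S} {U : Over S}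
    (a : (AlgSp.yon S).obj U ⟶ X.obj) (ha : AlgSp.RepWith @Etale a)
    (j : X' ⟶ X) (hj : AlgSp.RepWith @IsOpenImmersion j.hom)
    (himage : Set.range (AlgSp.Points.map j.hom) = Set.range (AlgSp.Points.ofPt a)) :
    ∃ a' : (AlgSp.yon S).obj U ⟶ X'.obj, a' ≫ j.hom = a ∧ AlgSp.RepWith @Etale a' ∧ AlgSp.RepWith @Surjective a' ∧
      ∀ (R : Over S) (s t : R ⟶ U), IsPullback ((AlgSp.yon S).map t) ((AlgSp.yon S).map s) a a →
        AlgSp.IsPresentation s t a' := by
  haveI hjm : Mono j.hom := Lib.AlgSpBasic.mono_of_repWith (P := @IsOpenImmersion)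
    (fun _ _ f (hf : IsOpenImmersion f) => (inferInstance : Mono f)) hj
  obtain ⟨a', ha'⟩ := exists_factor_of_range_subset hj a
    (by rw [range_map_eq_range_ofPt, himage])
  have he' : RepWith @Etale a' := repWith_of_comp_mono j.hom (by rw [ha']; exact ha)
  have hsurj : Function.Surjective (Points.map a') := by
    intro x'
    have h1 : Points.map j.hom x' ∈ Set.range (Points.ofPt a) := himage ▸ ⟨x', rfl⟩
    rw [← range_map_eq_range_ofPt] at h1
    obtain ⟨y, hy⟩ := h1
    refine ⟨y, map_injective_of_mono j.hom ?_⟩
    rw [← Points.map_comp, ha', hy]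
  have hs' : RepWith @Surjective a' := repWith_surjective_of_surjective he'.1 hsurj
  refine ⟨a', ha', he', hs', fun R s t hR => ?_⟩
  have hR' : IsPullback ((yon S).map t) ((yon S).map s) a' a' := by
    apply isPullback_of_comp_mono j.hom
    rw [ha']
    exact hR
  exact
    { eqvRel :=
        { toIsEqvRel := isEqvRel_of_isPullback hR
          etale_left := ha.2 a ((yon S).map t) s hR
          etale_right := ha.2 a ((yon S).map s) t hR.flip }
      etale := he'
      surjective := hs'
      isPullback := hR' }

end Groth.Agent.S10196
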