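import Groth.Statements.S1418
import Groth.Agent.Lib.H59GeomPoints

set_option autoImplicit false
universe u
open FlatMor

namespace Groth.Agent.S1418

open AlgebraicGeometry CategoryTheory Limits in
/-- For a cartesian square with π : U → V locally quasi-finite with finite fibres, base change g : V' →
V and h : U' → U, and a function w on U, the fibre integral of w ∘ h along π' equals the fibre
integral of w along π composed with g. -/
theorem result {U V U' V' : Scheme.{u}} (π : U ⟶ V) [LocallyQuasiFinite π] [LocallyOfFiniteType π] (hfin : ∀ v : V, (π ⁻¹' {v}).Finite)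
    (π' : U' ⟶ V') (h : U' ⟶ U) (g : V' ⟶ V) (hc : IsPullback h π' π g) (w : ↑U → ℤ) (v' : V') :
    MoreMor.fibreIntegral π' (w ∘ ⇑h) v' = MoreMor.fibreIntegral π w (g v') := by
  classical
  haveI : LocallyQuasiFinite π' :=
    MorphismProperty.of_isPullback (P := @LocallyQuasiFinite) hc inferInstance
  obtain ⟨K, _, _, φ, -⟩ : ∃ (K : Type u) (_ : Field K) (_ : IsAlgClosed K)
      (_ : V'.residueField v' ⟶ CommRingCat.of K), True :=
    ⟨AlgebraicClosure (V'.residueField v'), inferInstance, inferInstance,
      CommRingCat.ofHom (algebraMap (V'.residueField v') (AlgebraicClosure (V'.residueField v'))),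
      trivial⟩
  obtain ⟨yb', hpt⟩ : ∃ yb' : Spec (.of K) ⟶ V', yb' (IsLocalRing.closedPoint K) = v' :=
    ⟨Spec.map φ ≫ V'.fromSpecResidueField v',
      Scheme.fromSpecResidueField_apply v' ((Spec.map φ) (IsLocalRing.closedPoint K))⟩
  -- lifts correspond under the cartesian square
  let e : Lib.H59GeomPoints.Lifts π' K yb' ≃ Lib.H59GeomPoints.Lifts π K (yb' ≫ g) :=
    { toFun := fun ub' => ⟨ub'.1 ≫ h, by rw [Category.assoc, hc.w, ← Category.assoc, ub'.2]⟩
      invFun := fun ub => ⟨hc.lift ub.1 yb' ub.2, hc.lift_snd _ _ _⟩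
      left_inv := fun ub' => by
        apply Subtype.ext
        apply hc.hom_ext
        · simp
        · simp [ub'.2]
      right_inv := fun ub => by
        apply Subtype.ext
        simp }
  haveI hfinL : Finite (Lib.H59GeomPoints.Lifts π K (yb' ≫ g)) :=
    Lib.H59GeomPoints.finite_lifts π (yb' ≫ g) (hfin _)
      (fun u => Lib.H59GeomPoints.finite_residueFieldMap π u)
  haveI hfinL' : Finite (Lib.H59GeomPoints.Lifts π' K yb') := Finite.of_equiv _ e.symm
  have H1 := Lib.H59GeomPoints.fibreIntegral_eq_sum_lifts π'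
    (fun u => Lib.H59GeomPoints.finite_residueFieldMap π' u) yb' (w ∘ ⇑h)
  have H2 := Lib.H59GeomPoints.fibreIntegral_eq_sum_lifts π
    (fun u => Lib.H59GeomPoints.finite_residueFieldMap π u) (yb' ≫ g) w
  have hpt2 : (yb' ≫ g) (IsLocalRing.closedPoint K) = g v' := congrArg (⇑g) hpt
  rw [hpt] at H1
  rw [hpt2] at H2
  rw [H1, H2, ← finsum_comp_equiv e]
  rfl

end Groth.Agent.S1418
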