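import Groth.Statements.S0018
import Mathlib
import Groth.Agent.Lib.H90OXModAffine
import Groth.Agent.Lib.CohFinite

set_option autoImplicit false
universe u
open Coherent

namespace Groth.Agent.S0018

set_option backward.isDefEq.respectTransparency false in
open AlgebraicGeometry in
/-- On a locally Noetherian scheme an O_X-module is quasi-coherent of finite type if and only if it is
of finite presentation. (Either condition is what 'coherent' means there.) -/
theorem result (X : Scheme.{u}) [IsLocallyNoetherian X] (M : X.Modules) :
    Coh.IsCoh M ↔ CohB1.IsFP M := by
  constructor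
  · rintro ⟨h1, h2⟩
    haveI : M.IsQuasicoherent := h1
    haveI : M.IsFiniteType := h2
    refine Groth.Agent.Lib.H90OXModAffine.isFinitePresentation_of_forall_affine M fun U => ?_
    haveI : IsNoetherianRing Γ(X, U.1) := IsLocallyNoetherian.component_noetherian U
    haveI : Module.Finite Γ(X, U.1) Γ(M, U.1) :=
      Groth.Agent.Lib.CohFinite.finite_sections_of_isAffineOpen M U.2
    exact Module.finitePresentation_of_finite Γ(X, U.1) Γ(M, U.1)
  · intro h
    haveI : SheafOfModules.IsFinitePresentation (R := X.ringCatSheaf) M := h
    exact ⟨inferInstance, inferInstance⟩

end Groth.Agent.S0018
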