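import Groth.Statements.S7134
-- import your own Groth.Agent.* helpers here
import Mathlib
import Groth.Agent.Lib.CohenSmooth
import Groth.Agent.Lib.CohenSmoothLocal
import Groth.Agent.Lib.AdicFSField50
import Groth.Agent.Lib.RegularLocal
import Groth.Agent.S2451

set_option autoImplicit false
set_option linter.style.haveILetI false
universe u
open EtAlg

namespace Groth.Agent.S7134

open IsLocalRing

section helpers
variable {A B : Type u} [CommRing A] [IsLocalRing A] [CommRing B] [IsLocalRing B] [Algebra A B]
  [IsLocalHom (algebraMap A B)]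

lemma map_pow_mem' {R S : Type*} [CommRing R] [CommRing S] (f : R →+* S) (I : Ideal R) (K : Ideal S)
    (h : ∀ x ∈ I, f x ∈ K) (k : ℕ) (t : R) (ht : t ∈ I ^ k) : f t ∈ K ^ k := by
  have h1 : I.map f ≤ K := by
    rw [Ideal.map_le_iff_le_comap]
    intro t ht
    exact h t ht
  have h2 := Ideal.pow_right_mono h1 k
  rw [← Ideal.map_pow] at h2
  exact h2 (Ideal.mem_map_of_mem _ ht)

lemma algebraMap_mem_maximalIdeal (a : A) (ha : a ∈ maximalIdeal A) :
    algebraMap A B a ∈ maximalIdeal B := by
  rw [mem_maximalIdeal, mem_nonunits_iff] at ha ⊢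
  exact fun hu => ha (isUnit_of_map_unit (algebraMap A B) a hu)

/-- conversion from the adic-base notion. -/
lemma adic_of_formallySmoothAdic
    (h : EGA41.IsFormallySmoothAdic A (maximalIdeal A) B (maximalIdeal B)) :
    CAlgX.IsAdicFormallySmooth A B (maximalIdeal B) := by
  intro C _ _ J hJ ψ hk
  obtain ⟨k, hk⟩ := hk
  refine h C J ⟨2, hJ⟩ ⟨k * 2, ?_⟩ ψ ⟨k, hk⟩
  have h1 : ∀ a ∈ maximalIdeal A ^ k, algebraMap A C a ∈ J := by
    intro a ha
    rw [← Ideal.Quotient.eq_zero_iff_mem]
    have h2 : algebraMap A B a ∈ maximalIdeal B ^ k :=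
      map_pow_mem' (algebraMap A B) (maximalIdeal A) (maximalIdeal B)
        (fun x hx => algebraMap_mem_maximalIdeal x hx) k a ha
    have h3 := hk _ h2
    rw [ψ.commutes] at h3
    exact h3
  rw [eq_bot_iff, pow_mul, Ideal.map_pow, ← hJ]
  exact Ideal.pow_right_mono (Ideal.map_le_iff_le_comap.mpr h1) 2

/-- base change of adic formal smoothness to the residue field of the base. -/
lemma adic_baseChange_residue
    (Bb : Type u) [CommRing Bb] [IsLocalRing Bb] [Algebra B Bb] [Algebra (ResidueField A) Bb]
    [Algebra A Bb] [IsScalarTower A B Bb] [IsScalarTower A (ResidueField A) Bb]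
    (hsurj : Function.Surjective (algebraMap B Bb))
    (hker : RingHom.ker (algebraMap B Bb) = (maximalIdeal A).map (algebraMap A B))
    (h : CAlgX.IsAdicFormallySmooth A B (maximalIdeal B)) :
    CAlgX.IsAdicFormallySmooth (ResidueField A) Bb (maximalIdeal Bb) := by
  intro C _ _ J hJ ψ hk
  obtain ⟨k, hk⟩ := hk
  letI : Algebra A C :=
    ((algebraMap (ResidueField A) C).comp (algebraMap A (ResidueField A))).toAlgebra
  haveI : IsScalarTower A (ResidueField A) C := IsScalarTower.of_algebraMap_eq (fun _ => rfl)
  have hkerle : RingHom.ker (algebraMap B Bb) ≤ maximalIdeal B := by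
    rw [hker, Ideal.map_le_iff_le_comap]
    intro a ha
    exact algebraMap_mem_maximalIdeal a ha
  have hmem : ∀ x ∈ maximalIdeal B, algebraMap B Bb x ∈ maximalIdeal Bb := by
    intro x hx
    rw [mem_maximalIdeal, mem_nonunits_iff] at hx ⊢
    intro hu
    apply hx
    obtain ⟨y', hy'⟩ := hu.exists_right_inv
    obtain ⟨y, rfl⟩ := hsurj y'
    have h1 : x * y - 1 ∈ maximalIdeal B := by
      apply hkerle
      rw [RingHom.mem_ker, map_sub, map_mul, hy', map_one, sub_self]
    have h2 : IsUnit (x * y) := by
      have h3 : x * y = 1 + (x * y - 1) := by ring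
      rw [h3]
      by_contra hcon
      have h4 : 1 + (x * y - 1) ∈ maximalIdeal B := by
        rw [mem_maximalIdeal, mem_nonunits_iff]; exact hcon
      have h5 := Ideal.sub_mem _ h4 h1
      rw [add_sub_cancel_right] at h5
      exact (Ideal.ne_top_iff_one _).mp (maximalIdeal.isMaximal B).ne_top h5
    exact isUnit_of_mul_isUnit_left h2
  let ψB : B →ₐ[A] C ⧸ J := (ψ.restrictScalars A).comp (IsScalarTower.toAlgHom A B Bb)
  have hψB : ∀ b, ψB b = ψ (algebraMap B Bb b) := fun b => rfl
  obtain ⟨χ, hχ⟩ := h C J hJ ψB ⟨k, fun x hx => by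
    rw [hψB]
    exact hk _ (map_pow_mem' (algebraMap B Bb) (maximalIdeal B) (maximalIdeal Bb) hmem k x hx)⟩
  have hχ' : ∀ b, Ideal.Quotient.mk J (χ b) = ψ (algebraMap B Bb b) :=
    fun b => AlgHom.congr_fun hχ b
  have hle : RingHom.ker (IsScalarTower.toAlgHom A B Bb).toRingHom ≤ RingHom.ker χ.toRingHom := by
    have : RingHom.ker (IsScalarTower.toAlgHom A B Bb).toRingHom =
        (maximalIdeal A).map (algebraMap A B) := hker
    rw [this, Ideal.map_le_iff_le_comap]
    intro a ha
    rw [Ideal.mem_comap, RingHom.mem_ker]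
    change χ (algebraMap A B a) = 0
    rw [χ.commutes, IsScalarTower.algebraMap_apply A (ResidueField A) C]
    have : algebraMap A (ResidueField A) a = 0 := by
      change residue A a = 0
      rw [residue_eq_zero_iff]
      exact ha
    rw [this, map_zero]
  let χA : Bb →ₐ[A] C := AlgHom.liftOfSurjective (IsScalarTower.toAlgHom A B Bb) hsurj χ hle
  have hχA : ∀ b, χA (algebraMap B Bb b) = χ b := fun b =>
    AlgHom.liftOfSurjective_apply (IsScalarTower.toAlgHom A B Bb) hsurj χ hle b
  let χk : Bb →ₐ[ResidueField A] C :=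
    { χA.toRingHom with
      commutes' := fun c => by
        obtain ⟨a, rfl⟩ := residue_surjective c
        change χA (algebraMap (ResidueField A) Bb (algebraMap A (ResidueField A) a)) =
          algebraMap (ResidueField A) C (algebraMap A (ResidueField A) a)
        rw [← IsScalarTower.algebraMap_apply A (ResidueField A) Bb,
          ← IsScalarTower.algebraMap_apply A (ResidueField A) C, χA.commutes] }
  refine ⟨χk, ?_⟩
  ext y
  obtain ⟨b, rfl⟩ := hsurj y
  change Ideal.Quotient.mk J (χA (algebraMap B Bb b)) = ψ (algebraMap B Bb b)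
  rw [hχA, hχ']

end helpers

/-- For an injective local homomorphism A → B of discrete valuation rings, A → B is formally smooth for
the adic topology of the maximal ideal of B if and only if A → B is weakly unramified and the
residue field of B is a separable (possibly transcendental, i.e. geometrically reduced) extension of
the residue field of A. -/
theorem result (A B : Type u) [CommRing A]
    [IsDomain A] [IsDiscreteValuationRing A] [CommRing B] [IsDomain B] [IsDiscreteValuationRing B] [Algebra A B]
    (hinj : Function.Injective (algebraMap A B)) [IsLocalHom (algebraMap A B)] :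
    CAlgX.IsAdicFormallySmooth A B (IsLocalRing.maximalIdeal B) ↔
      EtRam.IsWeaklyUnramified A B ∧
        Algebra.IsGeometricallyReduced (IsLocalRing.ResidueField A) (IsLocalRing.ResidueField B) := by
  constructor
  · intro h
    -- the quotient `B / m_A B`
    have hle : (maximalIdeal A).map (algebraMap A B) ≤ maximalIdeal B := by
      rw [Ideal.map_le_iff_le_comap]
      intro a ha
      exact algebraMap_mem_maximalIdeal a ha
    have hmax : (maximalIdeal A).map (algebraMap A B) = maximalIdeal B := by
      let I : Ideal B := (maximalIdeal A).map (algebraMap A B)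
      have hI : I ≠ ⊤ := fun htop => (maximalIdeal.isMaximal B).ne_top (top_le_iff.mp (htop ▸ hle))
      haveI : Nontrivial (B ⧸ I) := Ideal.Quotient.nontrivial_iff.mpr hI
      haveI : IsLocalRing (B ⧸ I) :=
        IsLocalRing.of_surjective' (Ideal.Quotient.mk I) Ideal.Quotient.mk_surjective
      letI alg : Algebra (ResidueField A) (B ⧸ I) :=
        (Ideal.Quotient.lift (maximalIdeal A) (algebraMap A (B ⧸ I)) (fun a ha => by
          rw [IsScalarTower.algebraMap_apply A B (B ⧸ I)]
          exact Ideal.Quotient.eq_zero_iff_mem.mpr (Ideal.mem_map_of_mem _ ha))).toAlgebra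
      haveI : IsScalarTower A (ResidueField A) (B ⧸ I) :=
        IsScalarTower.of_algebraMap_eq (fun a => rfl)
      have hadic := adic_baseChange_residue (A := A) (B := B) (B ⧸ I)
        Ideal.Quotient.mk_surjective (Ideal.mk_ker) h
      obtain ⟨hreg, -⟩ := Groth.Agent.Lib.AdicFSField50.regular_of_isAdicFormallySmooth hadic
      haveI hdom : IsDomain (B ⧸ I) := Groth.Agent.Lib.RegularLocal.isDomain (B ⧸ I)
      have hprime : I.IsPrime := (Ideal.Quotient.isDomain_iff_prime I).mp hdom
      have hne : I ≠ ⊥ := by
        obtain ⟨ϖ, hϖ⟩ := IsDiscreteValuationRing.exists_irreducible A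
        intro hbot
        have h1 : algebraMap A B ϖ ∈ I :=
          Ideal.mem_map_of_mem _ ((mem_maximalIdeal _).mpr hϖ.not_isUnit)
        rw [hbot, Ideal.mem_bot] at h1
        have h2 : ϖ = 0 := hinj (by rw [h1, map_zero])
        exact hϖ.ne_zero h2
      have hmaxl : I.IsMaximal := hprime.isMaximal hne
      exact IsLocalRing.eq_maximalIdeal hmaxl
    refine ⟨hmax, ?_⟩
    have hadic := adic_baseChange_residue (A := A) (B := B) (ResidueField B)
      Ideal.Quotient.mk_surjective (by
        rw [hmax]
        exact IsLocalRing.ker_residue) h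
    rw [IsLocalRing.maximalIdeal_eq_bot] at hadic
    haveI : Algebra.FormallySmooth (ResidueField A) (ResidueField B) := by
      refine Algebra.FormallySmooth.of_comp_surjective (fun C _ _ J hJ ψ => ?_)
      exact hadic C J hJ ψ ⟨1, fun x hx => by
        rw [pow_one, Ideal.mem_bot] at hx
        rw [hx, map_zero]⟩
    exact Groth.Agent.S2451.result.mp inferInstance
  · rintro ⟨hmax, hgr⟩
    haveI : Algebra.FormallySmooth (ResidueField A) (ResidueField B) :=
      Groth.Agent.S2451.result.mpr hgr
    haveI : Module.IsTorsionFree A B := Module.isTorsionFree_iff_algebraMap_injective.mpr hinj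
    haveI : Module.Flat A B := inferInstance
    exact adic_of_formallySmoothAdic
      (Groth.Agent.Lib.CohenSmooth.isFormallySmoothAdic_of_flat
        (Groth.Agent.Lib.CohenSmooth.liftKilled_of_formallySmooth_residueField hmax)
        (maximalIdeal B))

end Groth.Agent.S7134
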