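import Groth.Statements.S9317
import Groth.Agent.S9318

set_option autoImplicit false
universe u
open CAlg

namespace Groth.Agent.S9317

open Groth.Agent.S9318 in
/-- approximation: every element of the completion is congruent to an element of `R` modulo any
power of the extended ideal. -/
lemma exists_approx {R : Type u} [CommRing R] (𝔪 : Ideal R) (h𝔪 : 𝔪.FG) (N : ℕ)
    (x : AdicCompletion 𝔪 R) :
    ∃ r : R, x - algebraMap R (AdicCompletion 𝔪 R) r ∈
      (𝔪.map (algebraMap R (AdicCompletion 𝔪 R))) ^ N := by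
  obtain ⟨r, hr⟩ := Ideal.Quotient.mk_surjective (AdicCompletion.evalₐ 𝔪 N x)
  refine ⟨r, mem_of_evalₐ_eq_zero 𝔪 h𝔪 N _ ?_⟩
  rw [map_sub, AdicCompletion.algebraMap_apply, Algebra.algebraMap_self, RingHom.id_apply,
    AdicCompletion.evalₐ_of, hr, sub_self]

/-- two ring maps out of the completion that agree on `R` and kill a power of the extended ideal
are equal. -/
lemma ringHom_ext_of_kill {R T : Type u} [CommRing R] [CommRing T] (𝔪 : Ideal R) (h𝔪 : 𝔪.FG)
    (N : ℕ) (g₁ g₂ : AdicCompletion 𝔪 R →+* T)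
    (hR : ∀ r : R, g₁ (algebraMap R _ r) = g₂ (algebraMap R _ r))
    (h₁ : ∀ x ∈ (𝔪.map (algebraMap R (AdicCompletion 𝔪 R))) ^ N, g₁ x = 0)
    (h₂ : ∀ x ∈ (𝔪.map (algebraMap R (AdicCompletion 𝔪 R))) ^ N, g₂ x = 0) (x) :
    g₁ x = g₂ x := by
  obtain ⟨r, hr⟩ := exists_approx 𝔪 h𝔪 N x
  have e : x = (x - algebraMap R _ r) + algebraMap R _ r := by ring
  rw [e, map_add, map_add, h₁ _ hr, h₂ _ hr, hR]

/-- a ring map killing `J₁` into `J` kills `J₁ ^ 2` when `J ^ 2 = ⊥`. -/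
lemma kill_sq {B A : Type u} [CommRing B] [CommRing A] (g : B →+* A) (J : Ideal A)
    (hJ : J ^ 2 = ⊥) (I : Ideal B) (h : ∀ x ∈ I, g x ∈ J) : ∀ x ∈ I * I, g x = 0 := by
  intro x hx
  have : (I * I).map g ≤ ⊥ := by
    rw [Ideal.map_mul, ← hJ, sq]
    apply Ideal.mul_mono <;>
    · rw [Ideal.map_le_iff_le_comap]
      intro a ha
      exact h a ha
  simpa using this (Ideal.mem_map_of_mem _ hx)


/-- Let `R → S` be a ring map, let `𝔪 ⊆ R` and `𝔫 ⊆ S` be finitely generated ideals such that some power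
of `𝔪` maps into `𝔫`, and let `R^`, `S^` be the `𝔪`-adic and `𝔫`-adic completions. Let `ψ : R^ → S^`
be a ring map whose composite with `R → R^` is the composite `R → S → S^` (there is exactly one such
map, the canonical one, since any such map is continuous for the adic topologies). Then `R → S` is
formally smooth for the `𝔫`-adic topology if and only if `R^ → S^`, i.e. `S^` viewed as an
`R^`-algebra through `ψ`, is formally smooth for the adic topology of the extension of `𝔫` to `S^`. -/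
theorem result {R S : Type u} [CommRing R] [CommRing S]
    [Algebra R S] (𝔪 : Ideal R) (𝔫 : Ideal S) (h𝔪 : 𝔪.FG) (h𝔫 : 𝔫.FG)
    (hc : ∃ c : ℕ, (𝔪 ^ c).map (algebraMap R S) ≤ 𝔫)
    (ψ : AdicCompletion 𝔪 R →+* AdicCompletion 𝔫 S)
    (hψ : ψ.comp (algebraMap R (AdicCompletion 𝔪 R)) =
      (algebraMap S (AdicCompletion 𝔫 S)).comp (algebraMap R S)) :
    CAlgX.IsAdicFormallySmooth R S 𝔫 ↔
      let _ : Algebra (AdicCompletion 𝔪 R) (AdicCompletion 𝔫 S) := ψ.toAlgebra
      CAlgX.IsAdicFormallySmooth (AdicCompletion 𝔪 R) (AdicCompletion 𝔫 S)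
        (𝔫.map (algebraMap S (AdicCompletion 𝔫 S))) := by
  rw [Groth.Agent.S9318.result 𝔫 h𝔫]
  obtain ⟨c, hc⟩ := hc
  let _ : Algebra (AdicCompletion 𝔪 R) (AdicCompletion 𝔫 S) := ψ.toAlgebra
  show CAlgX.IsAdicFormallySmooth R (AdicCompletion 𝔫 S) (𝔫.map (algebraMap S (AdicCompletion 𝔫 S))) ↔
      CAlgX.IsAdicFormallySmooth (AdicCompletion 𝔪 R) (AdicCompletion 𝔫 S)
        (𝔫.map (algebraMap S (AdicCompletion 𝔫 S)))
  set j : R →+* AdicCompletion 𝔪 R := algebraMap R (AdicCompletion 𝔪 R) with hj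
  set 𝔪' : Ideal (AdicCompletion 𝔪 R) := 𝔪.map j with h𝔪'
  set 𝔫' : Ideal (AdicCompletion 𝔫 S) := 𝔫.map (algebraMap S (AdicCompletion 𝔫 S)) with h𝔫'
  have hψj : ∀ r : R, ψ (j r) = algebraMap R (AdicCompletion 𝔫 S) r := by
    intro r
    have := congrArg (fun f => f r) hψ
    exact this
  -- `ψ` is continuous
  have hcont : ∀ N : ℕ, ∀ x ∈ 𝔪' ^ (c * N), ψ x ∈ 𝔫' ^ N := by
    intro N x hx
    have h1 : (𝔪' ^ (c * N)).map ψ ≤ 𝔫' ^ N := by
      rw [pow_mul, Ideal.map_pow]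
      apply Ideal.pow_right_mono
      rw [h𝔪', ← Ideal.map_pow, Ideal.map_map, hψ, ← Ideal.map_map]
      exact Ideal.map_mono hc
    exact h1 (Ideal.mem_map_of_mem _ hx)
  constructor
  · intro h A _ _ J hJ ψ' ⟨k, hk⟩
    let _ : Algebra R A := ((algebraMap (AdicCompletion 𝔪 R) A).comp j).toAlgebra
    let ψ'R : AdicCompletion 𝔫 S →ₐ[R] A ⧸ J :=
      { ψ'.toRingHom with
        commutes' := fun r => by
          show ψ' (algebraMap R (AdicCompletion 𝔫 S) r) = _
          rw [← hψj]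
          exact ψ'.commutes (j r) }
    obtain ⟨χ, hχ⟩ := h A J hJ ψ'R ⟨k, hk⟩
    have hχ' : ∀ y, Ideal.Quotient.mk J (χ y) = ψ' y := by
      intro y
      have := congrArg (fun f => f y) hχ
      exact this
    have hχJ : ∀ y ∈ 𝔫' ^ k, χ.toRingHom y ∈ J := by
      intro y hy
      rw [← Ideal.Quotient.eq_zero_iff_mem]
      show Ideal.Quotient.mk J (χ y) = 0
      rw [hχ', hk y hy]
    have hχ0 : ∀ y ∈ 𝔫' ^ (k + k), χ y = 0 := by
      intro y hy
      rw [pow_add] at hy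
      exact kill_sq χ.toRingHom J hJ _ hχJ y hy
    have hgJ : ∀ y ∈ 𝔪' ^ (c * k), algebraMap (AdicCompletion 𝔪 R) A y ∈ J := by
      intro y hy
      rw [← Ideal.Quotient.eq_zero_iff_mem]
      have : Ideal.Quotient.mk J (algebraMap (AdicCompletion 𝔪 R) A y) = ψ' (ψ y) :=
        (ψ'.commutes y).symm
      rw [this, hk _ (hcont k y hy)]
    have hg0 : ∀ y ∈ 𝔪' ^ (c * (k + k)), algebraMap (AdicCompletion 𝔪 R) A y = 0 := by
      intro y hy
      rw [mul_add, pow_add] at hy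
      exact kill_sq _ J hJ _ hgJ y hy
    have hcomm : ∀ y, χ (ψ y) = algebraMap (AdicCompletion 𝔪 R) A y := by
      intro y
      refine ringHom_ext_of_kill 𝔪 h𝔪 (c * (k + k)) (χ.toRingHom.comp ψ)
        (algebraMap (AdicCompletion 𝔪 R) A) ?_ ?_ hg0 y
      · intro r
        show χ (ψ (j r)) = _
        rw [hψj, χ.commutes]
        rfl
      · intro x hx
        exact hχ0 _ (hcont (k + k) x hx)
    refine ⟨{ χ.toRingHom with commutes' := fun y => hcomm y }, ?_⟩
    ext y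
    exact hχ' y
  · intro h A _ _ J hJ ψ' ⟨k, hk⟩
    set g : R →+* A := algebraMap R A with hg
    have hgJ : ∀ r ∈ 𝔪 ^ (c * k), g r ∈ J := by
      intro r hr
      rw [← Ideal.Quotient.eq_zero_iff_mem]
      have : Ideal.Quotient.mk J (g r) = ψ' (algebraMap R (AdicCompletion 𝔫 S) r) :=
        (ψ'.commutes r).symm
      rw [this, ← hψj]
      apply hk
      apply hcont
      rw [h𝔪', ← Ideal.map_pow]
      exact Ideal.mem_map_of_mem _ hr
    have hg0 : ∀ r ∈ 𝔪 ^ (c * (k + k)), g r = 0 := by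
      intro r hr
      rw [mul_add, pow_add] at hr
      exact kill_sq g J hJ _ hgJ r hr
    set N := c * (k + k) with hN
    let g' : AdicCompletion 𝔪 R →+* A :=
      (Ideal.Quotient.lift (𝔪 ^ N) g hg0).comp (AdicCompletion.evalₐ 𝔪 N).toRingHom
    have hg'j : ∀ r, g' (j r) = g r := by
      intro r
      show Ideal.Quotient.lift (𝔪 ^ N) g hg0 (AdicCompletion.evalₐ 𝔪 N (j r)) = g r
      rw [hj, AdicCompletion.algebraMap_apply, Algebra.algebraMap_self, RingHom.id_apply,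
        AdicCompletion.evalₐ_of, Ideal.Quotient.lift_mk]
    have hg'0 : ∀ y ∈ 𝔪' ^ N, g' y = 0 := by
      intro y hy
      show Ideal.Quotient.lift (𝔪 ^ N) g hg0 (AdicCompletion.evalₐ 𝔪 N y) = 0
      rw [Groth.Agent.S9318.evalₐ_eq_zero_of_mem 𝔪 N y hy, map_zero]
    let _ : Algebra (AdicCompletion 𝔪 R) A := g'.toAlgebra
    have hcomm : ∀ y, ψ' (ψ y) = Ideal.Quotient.mk J (g' y) := by
      intro y
      refine ringHom_ext_of_kill 𝔪 h𝔪 N (ψ'.toRingHom.comp ψ)
        ((Ideal.Quotient.mk J).comp g') ?_ ?_ ?_ y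
      · intro r
        show ψ' (ψ (j r)) = Ideal.Quotient.mk J (g' (j r))
        rw [hψj, hg'j, ψ'.commutes]
        rfl
      · intro x hx
        show ψ' (ψ x) = 0
        apply hk
        exact Ideal.pow_le_pow_right (Nat.le_add_right k k) (hcont (k + k) x hx)
      · intro x hx
        show Ideal.Quotient.mk J (g' x) = 0
        rw [hg'0 x hx, map_zero]
    let ψ'' : AdicCompletion 𝔫 S →ₐ[AdicCompletion 𝔪 R] A ⧸ J :=
      { ψ'.toRingHom with commutes' := fun y => hcomm y }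
    obtain ⟨χ, hχ⟩ := h A J hJ ψ'' ⟨k, hk⟩
    refine ⟨{ χ.toRingHom with
      commutes' := fun r => by
        show χ (algebraMap R (AdicCompletion 𝔫 S) r) = g r
        rw [← hψj, ← hg'j]
        exact χ.commutes (j r) }, ?_⟩
    ext y
    have := congrArg (fun f => f y) hχ
    exact this

end Groth.Agent.S9317
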