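import Groth.Statements.S2038
-- import your own Groth.Agent.* helpers here
import Groth.Agent.Lib.FSFlat2
import Groth.Agent.Lib.FSFibre
import Groth.Agent.Lib.AdicFSGeomRegH44

set_option autoImplicit false
set_option linter.style.haveILetI false
universe u
open CAlg

namespace Groth.Agent.S2038

open IsLocalRing TensorProduct

section Fibre

variable (A B : Type u) [CommRing A] [CommRing B] [IsLocalRing A] [IsLocalRing B] [Algebra A B]

/-- the inclusion `B → κ(𝔪) ⊗ B` -/
noncomputable def incl : B →ₐ[A] (maximalIdeal A).Fiber B :=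
  Algebra.TensorProduct.includeRight

theorem incl_apply (b : B) : incl A B b = 1 ⊗ₜ b := rfl

theorem incl_surjective : Function.Surjective (incl A B) := by
  intro t
  induction t using TensorProduct.induction_on with
  | zero => exact ⟨0, map_zero _⟩
  | tmul x b =>
    obtain ⟨a, rfl⟩ := (maximalIdeal A).algebraMap_residueField_surjective x
    refine ⟨a • b, ?_⟩
    rw [incl_apply, TensorProduct.tmul_smul, TensorProduct.smul_tmul', Algebra.smul_def, mul_one]
  | add x y hx hy =>
    obtain ⟨b, rfl⟩ := hx
    obtain ⟨c, rfl⟩ := hy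
    exact ⟨b + c, map_add _ _ _⟩

variable [IsLocalHom (algebraMap A B)]

theorem nontrivial_fiber : Nontrivial ((maximalIdeal A).Fiber B) := by
  let f : (maximalIdeal A).ResidueField →ₐ[A] ResidueField B :=
    Ideal.ResidueField.liftₐ (maximalIdeal A) (Algebra.ofId A (ResidueField B))
      (by
        intro a ha
        rw [RingHom.mem_ker]
        show algebraMap A (ResidueField B) a = 0
        rw [IsScalarTower.algebraMap_apply A B (ResidueField B)]
        exact (residue_eq_zero_iff _).mpr (map_nonunit (algebraMap A B) a ha))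
      (by
        intro a ha
        have : IsUnit a := notMem_maximalIdeal.mp ha
        exact this.map _)
  let g : (maximalIdeal A).Fiber B →ₐ[A] ResidueField B :=
    Algebra.TensorProduct.lift f (IsScalarTower.toAlgHom A B (ResidueField B))
      (fun _ _ => Commute.all _ _)
  refine ⟨⟨0, 1, fun h => ?_⟩⟩
  have := congrArg g h
  rw [map_zero, map_one] at this
  exact zero_ne_one this

theorem isLocalRing_fiber : IsLocalRing ((maximalIdeal A).Fiber B) := by
  haveI := nontrivial_fiber A B
  exact IsLocalRing.of_surjective' (incl A B).toRingHom (incl_surjective A B)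

theorem isNoetherianRing_fiber [IsNoetherianRing B] : IsNoetherianRing ((maximalIdeal A).Fiber B) :=
  isNoetherianRing_of_surjective B _ (incl A B).toRingHom (incl_surjective A B)

theorem maximalIdeal_fiber :
    haveI := isLocalRing_fiber A B
    maximalIdeal ((maximalIdeal A).Fiber B) = (maximalIdeal B).map (incl A B).toRingHom := by
  haveI := isLocalRing_fiber A B
  exact (map_maximalIdeal_of_surjective (incl A B).toRingHom (incl_surjective A B)).symm

/-- base change of adic formal smoothness to the closed fibre -/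
theorem isAdicFormallySmooth_fiber (h : CAlgX.IsAdicFormallySmooth A B (maximalIdeal B)) :
    haveI := isLocalRing_fiber A B
    CAlgX.IsAdicFormallySmooth (maximalIdeal A).ResidueField ((maximalIdeal A).Fiber B)
      (maximalIdeal ((maximalIdeal A).Fiber B)) := by
  haveI := isLocalRing_fiber A B
  intro C _ _ J hJ ψ hψ
  obtain ⟨k, hk⟩ := hψ
  letI : Algebra A C :=
    ((algebraMap (maximalIdeal A).ResidueField C).comp
      (algebraMap A (maximalIdeal A).ResidueField)).toAlgebra
  haveI : IsScalarTower A (maximalIdeal A).ResidueField C :=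
    IsScalarTower.of_algebraMap_eq (fun _ => rfl)
  let ψ' : B →ₐ[A] C ⧸ J := (ψ.restrictScalars A).comp (incl A B)
  have hψ' : ∃ k : ℕ, ∀ x ∈ maximalIdeal B ^ k, ψ' x = 0 := by
    refine ⟨k, fun x hx => ?_⟩
    show ψ (incl A B x) = 0
    apply hk
    rw [maximalIdeal_fiber, ← Ideal.map_pow]
    exact Ideal.mem_map_of_mem _ hx
  obtain ⟨χ', hχ'⟩ := h C J hJ ψ' hψ'
  let χ : (maximalIdeal A).Fiber B →ₐ[(maximalIdeal A).ResidueField] C :=
    Algebra.TensorProduct.lift (Algebra.ofId _ C) χ' (fun _ _ => Commute.all _ _)
  refine ⟨χ, AlgHom.ext fun t => ?_⟩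
  obtain ⟨b, rfl⟩ := incl_surjective A B t
  have h1 : χ (incl A B b) = χ' b := by
    rw [incl_apply]
    show Algebra.TensorProduct.lift _ _ _ _ = _
    rw [Algebra.TensorProduct.lift_tmul, map_one, one_mul]
  rw [AlgHom.comp_apply, h1]
  exact AlgHom.congr_fun hχ' b

/-- adic formal smoothness of the closed fibre gives the lifting property for algebras killed
by `𝔪_A` -/
theorem liftKilledAdic_of_fiber
    (h : haveI := isLocalRing_fiber A B
      CAlgX.IsAdicFormallySmooth (maximalIdeal A).ResidueField ((maximalIdeal A).Fiber B)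
        (maximalIdeal ((maximalIdeal A).Fiber B))) :
    Groth.Agent.Lib.FSFibre.LiftKilledAdic (maximalIdeal A) B (maximalIdeal B) := by
  haveI := isLocalRing_fiber A B
  intro D _ _ N hN hkill g hg
  obtain ⟨k, hk⟩ := hg
  let ι : (maximalIdeal A).ResidueField →+* D :=
    Ideal.ResidueField.lift (maximalIdeal A) (algebraMap A D)
      (fun a ha => RingHom.mem_ker.mpr (hkill a ha))
      (by
        intro a ha
        have : IsUnit a := notMem_maximalIdeal.mp ha
        exact this.map _)
  letI : Algebra (maximalIdeal A).ResidueField D := ι.toAlgebra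
  haveI : IsScalarTower A (maximalIdeal A).ResidueField D :=
    IsScalarTower.of_algebraMap_eq (fun a =>
      (Ideal.ResidueField.lift_algebraMap (maximalIdeal A) (algebraMap A D) _ _ a).symm)
  let ĝ : (maximalIdeal A).Fiber B →ₐ[(maximalIdeal A).ResidueField] D ⧸ N :=
    Algebra.TensorProduct.lift (Algebra.ofId _ (D ⧸ N)) g (fun _ _ => Commute.all _ _)
  have hĝ : ∀ b : B, ĝ (incl A B b) = g b := by
    intro b
    rw [incl_apply]
    show Algebra.TensorProduct.lift _ _ _ _ = _
    rw [Algebra.TensorProduct.lift_tmul, map_one, one_mul]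
  have hcont : ∃ k : ℕ, ∀ x ∈ maximalIdeal ((maximalIdeal A).Fiber B) ^ k, ĝ x = 0 := by
    refine ⟨k, fun x hx => ?_⟩
    rw [maximalIdeal_fiber, ← Ideal.map_pow] at hx
    have hle : (maximalIdeal B ^ k).map (incl A B).toRingHom ≤ RingHom.ker ĝ.toRingHom := by
      rw [Ideal.map_le_iff_le_comap]
      intro y hy
      rw [Ideal.mem_comap, RingHom.mem_ker]
      show ĝ (incl A B y) = 0
      rw [hĝ]
      exact hk y hy
    exact RingHom.mem_ker.mp (hle hx)
  obtain ⟨χ, hχ⟩ := h D N hN ĝ hcont
  refine ⟨(χ.restrictScalars A).comp (incl A B), AlgHom.ext fun b => ?_⟩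
  show Ideal.Quotient.mk N (χ (incl A B b)) = g b
  rw [← hĝ]
  exact AlgHom.congr_fun hχ (incl A B b)

end Fibre

/-- Let `A → B` be a local homomorphism of Noetherian local rings with residue field `k` of `A`. Then `A
→ B` is flat with special fibre `B ⊗ k` geometrically regular over `k` if and only if `A → B` is
formally smooth for the adic topology of the maximal ideal of `B`. -/
theorem result {A B : Type u} [CommRing A] [CommRing B]
    [IsLocalRing A] [IsLocalRing B] [IsNoetherianRing A] [IsNoetherianRing B] [Algebra A B]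
    [IsLocalHom (algebraMap A B)] :
    (Module.Flat A B ∧ CAlg.IsGeometricallyRegular (IsLocalRing.maximalIdeal A).ResidueField
        ((IsLocalRing.maximalIdeal A).Fiber B)) ↔
      CAlgX.IsAdicFormallySmooth A B (IsLocalRing.maximalIdeal B) := by
  haveI := isLocalRing_fiber A B
  haveI := isNoetherianRing_fiber A B
  constructor
  · rintro ⟨hflat, hgeo⟩
    have h1 := Groth.Agent.Lib.AdicFSGeomRegH44.isAdicFormallySmooth_iff_isGeometricallyRegular.2 hgeo
    exact Groth.Agent.Lib.FSFibre.isAdicFormallySmooth_of_flat (liftKilledAdic_of_fiber A B h1)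
      (map_maximalIdeal_le (algebraMap A B))
  · intro h
    exact ⟨Groth.Agent.Lib.FSFlat.flat_of_isAdicFormallySmooth h,
      Groth.Agent.Lib.AdicFSGeomRegH44.isAdicFormallySmooth_iff_isGeometricallyRegular.1
        (isAdicFormallySmooth_fiber A B h)⟩

end Groth.Agent.S2038
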