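import Groth.Statements.S4594
-- import your own Groth.Agent.* helpers here
import Mathlib

set_option autoImplicit false
set_option linter.style.haveILetI false
universe u
open TensorProduct KaehlerDifferential
open EGA41

namespace Groth.Agent.S4594

lemma exists_section {R₀ P S : Type*} [CommRing R₀] [CommRing P] [CommRing S]
    [Algebra R₀ P] [Algebra P S] [Algebra R₀ S] [IsScalarTower R₀ P S]
    [Algebra.FormallySmooth R₀ S]
    (hs : Function.Surjective (algebraMap P S))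
    (hsq : (RingHom.ker (algebraMap P S)) ^ 2 = ⊥) :
    ∃ σ : S →ₐ[R₀] P, (IsScalarTower.toAlgHom R₀ P S).comp σ = AlgHom.id R₀ S := by
  have hnil : IsNilpotent (RingHom.ker (IsScalarTower.toAlgHom R₀ P S)) := ⟨2, hsq⟩
  refine ⟨Algebra.FormallySmooth.liftOfSurjective (AlgHom.id R₀ S)
    (IsScalarTower.toAlgHom R₀ P S) hs hnil, ?_⟩
  exact AlgHom.ext (fun c => Algebra.FormallySmooth.liftOfSurjective_apply _ _ hs hnil c)

/-- If `S` is formally smooth over `R₀` and `P → S` is a surjection with square-zero kernel,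
the conormal map `ker → S ⊗ Ω_{P/R₀}` is injective. -/
lemma kerToTensor_injective {R₀ P S : Type*} [CommRing R₀] [CommRing P] [CommRing S]
    [Algebra R₀ P] [Algebra P S] [Algebra R₀ S] [IsScalarTower R₀ P S]
    [Algebra.FormallySmooth R₀ S]
    (hs : Function.Surjective (algebraMap P S))
    (hsq : (RingHom.ker (algebraMap P S)) ^ 2 = ⊥) :
    Function.Injective (kerToTensor R₀ P S) := by
  obtain ⟨σ, hσ⟩ := exists_section (R₀ := R₀) hs hsq
  have := retractionOfSectionOfKerSqZero_comp_kerToTensor σ hsq hσ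
  intro x y hxy
  have hx := LinearMap.congr_fun this x
  have hy := LinearMap.congr_fun this y
  rw [LinearMap.comp_apply, LinearMap.id_apply] at hx hy
  rw [← hx, ← hy, hxy]

/-- functoriality of the conormal map. -/
lemma tmul_D_eq_zero {Λ Λ₀ A B C : Type*} [CommRing Λ] [CommRing Λ₀] [CommRing A] [CommRing B]
    [CommRing C] [Algebra Λ Λ₀] [Algebra Λ A] [Algebra Λ₀ B] [Algebra Λ B] [Algebra A B]
    [IsScalarTower Λ Λ₀ B] [IsScalarTower Λ A B] [Algebra A C] [Algebra B C]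
    [IsScalarTower A B C] (a : A)
    (h : (1 : C) ⊗ₜ[A] D Λ A a = 0) : (1 : C) ⊗ₜ[B] D Λ₀ B (algebraMap A B a) = 0 := by
  let Ψ : C ⊗[A] Ω[A⁄Λ] →ₗ[C] C ⊗[B] Ω[B⁄Λ₀] :=
    LinearMap.liftBaseChange C (((TensorProduct.mk B C Ω[B⁄Λ₀] 1).restrictScalars A) ∘ₗ
      (KaehlerDifferential.map Λ Λ₀ A B))
  have hΨ : Ψ ((1 : C) ⊗ₜ[A] D Λ A a) = (1 : C) ⊗ₜ[B] D Λ₀ B (algebraMap A B a) := by
    simp only [Ψ, LinearMap.liftBaseChange_tmul, LinearMap.comp_apply,
      LinearMap.restrictScalars_apply, KaehlerDifferential.map_D, TensorProduct.mk_apply, one_smul]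
  rw [← hΨ, h, map_zero]

/-- the key step: if `x ∈ J` has `1 ⊗ dx = 0` then `x ∈ J² + pA`. -/
lemma mem_of_tmul_D_eq_zero {Λ A C : Type u} [CommRing Λ] [CommRing A]
    [CommRing C] [Algebra Λ A] [Algebra A C] [Algebra Λ C] [IsScalarTower Λ A C]
    (hsurj : Function.Surjective (algebraMap A C)) (p : ℕ)
    [Algebra (Λ ⧸ Ideal.span {(p : Λ)}) C] [IsScalarTower Λ (Λ ⧸ Ideal.span {(p : Λ)}) C]
    [Algebra.FormallySmooth (Λ ⧸ Ideal.span {(p : Λ)}) C]
    (K : Ideal A) (hK : K = RingHom.ker (algebraMap A C) ^ 2 ⊔ Ideal.span {(p : A)})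
    (hp : (p : A) ∈ RingHom.ker (algebraMap A C))
    (x : A) (hx : x ∈ RingHom.ker (algebraMap A C)) (h : (1 : C) ⊗ₜ[A] D Λ A x = 0) :
    x ∈ K := by
  have hKJ : K ≤ RingHom.ker (algebraMap A C) := by
    rw [hK]
    exact sup_le (Ideal.pow_le_self two_ne_zero) ((Ideal.span_singleton_le_iff_mem _).mpr hp)
  have hpK : (p : A) ∈ K := by
    rw [hK]; exact Ideal.mem_sup_right (Ideal.mem_span_singleton_self _)
  let φ₀ : (Λ ⧸ Ideal.span {(p : Λ)}) →+* (A ⧸ K) :=
    Ideal.Quotient.lift _ ((Ideal.Quotient.mk K).comp (algebraMap Λ A)) (by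
      intro a ha
      obtain ⟨c, rfl⟩ := Ideal.mem_span_singleton'.mp ha
      rw [map_mul, map_natCast]
      have h0 : ((p : ℕ) : A ⧸ K) = 0 := by
        rw [← map_natCast (Ideal.Quotient.mk K)]; exact Ideal.Quotient.eq_zero_iff_mem.mpr hpK
      rw [h0, mul_zero])
  letI : Algebra (Λ ⧸ Ideal.span {(p : Λ)}) (A ⧸ K) := φ₀.toAlgebra
  haveI : IsScalarTower Λ (Λ ⧸ Ideal.span {(p : Λ)}) (A ⧸ K) :=
    IsScalarTower.of_algebraMap_eq (fun x => rfl)
  let g₀ : (A ⧸ K) →+* C := Ideal.Quotient.lift K (algebraMap A C) (fun a ha => hKJ ha)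
  letI : Algebra (A ⧸ K) C := g₀.toAlgebra
  haveI : IsScalarTower A (A ⧸ K) C := IsScalarTower.of_algebraMap_eq (fun x => rfl)
  haveI : IsScalarTower (Λ ⧸ Ideal.span {(p : Λ)}) (A ⧸ K) C :=
    IsScalarTower.of_algebraMap_eq (by
      intro y
      obtain ⟨y, rfl⟩ := Ideal.Quotient.mk_surjective y
      change algebraMap (Λ ⧸ Ideal.span {(p : Λ)}) C (algebraMap Λ _ y) =
        g₀ (φ₀ (Ideal.Quotient.mk _ y))
      rw [← IsScalarTower.algebraMap_apply Λ (Λ ⧸ Ideal.span {(p : Λ)}) C,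
        IsScalarTower.algebraMap_apply Λ A C]
      rfl)
  have hgs : Function.Surjective (algebraMap (A ⧸ K) C) := fun c => by
    obtain ⟨a, rfl⟩ := hsurj c
    exact ⟨Ideal.Quotient.mk K a, rfl⟩
  have hker : RingHom.ker (algebraMap (A ⧸ K) C) ≤
      Ideal.map (Ideal.Quotient.mk K) (RingHom.ker (algebraMap A C)) := by
    intro b hb
    obtain ⟨a, rfl⟩ := Ideal.Quotient.mk_surjective b
    exact Ideal.mem_map_of_mem _ (show a ∈ RingHom.ker (algebraMap A C) from hb)
  have hsq : (RingHom.ker (algebraMap (A ⧸ K) C)) ^ 2 = ⊥ := by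
    rw [eq_bot_iff]
    refine (Ideal.pow_right_mono hker 2).trans ?_
    rw [← Ideal.map_pow, Ideal.map_le_iff_le_comap]
    intro a ha
    rw [Ideal.mem_comap, Ideal.mem_bot, Ideal.Quotient.eq_zero_iff_mem, hK]
    exact Ideal.mem_sup_left ha
  have hinj := kerToTensor_injective (R₀ := Λ ⧸ Ideal.span {(p : Λ)}) hgs hsq
  have h1 := tmul_D_eq_zero (Λ₀ := Λ ⧸ Ideal.span {(p : Λ)}) (B := A ⧸ K) x h
  have hxk : Ideal.Quotient.mk K x ∈ RingHom.ker (algebraMap (A ⧸ K) C) := by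
    rw [RingHom.mem_ker]; exact hx
  have h2 : kerToTensor (Λ ⧸ Ideal.span {(p : Λ)}) (A ⧸ K) C ⟨Ideal.Quotient.mk K x, hxk⟩ = 0 := h1
  have h3 := hinj (h2.trans (map_zero _).symm)
  have h4 : Ideal.Quotient.mk K x = 0 := congrArg Subtype.val h3
  exact Ideal.Quotient.eq_zero_iff_mem.mp h4

/-- Let Λ be a ring, A → C a surjection of Λ-algebras with kernel J, C of characteristic p > 0, and π
the class of p·1 in J/J². If C is formally smooth over Λ/pΛ for the discrete topologies, then 0 →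
(J/J²)/Cπ → Ω_{A/Λ} ⊗_A C → Ω_{C/Λ} → 0 is exact: the kernel of the conormal map J/J² → Ω_{A/Λ} ⊗_A
C is the span of π, and the base-change map to Ω_{C/Λ} is surjective with kernel the image of J/J². -/
theorem result {Λ A C : Type u} [CommRing Λ] [CommRing A]
    [CommRing C] [Algebra Λ A] [Algebra A C] [Algebra Λ C] [IsScalarTower Λ A C]
    (hsurj : Function.Surjective (algebraMap A C)) (p : ℕ) [Fact p.Prime] [CharP C p]
    [Algebra (Λ ⧸ Ideal.span {(p : Λ)}) C] [IsScalarTower Λ (Λ ⧸ Ideal.span {(p : Λ)}) C]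
    [Algebra.FormallySmooth (Λ ⧸ Ideal.span {(p : Λ)}) C]
    (hp : (p : A) ∈ RingHom.ker (algebraMap A C)) :
    LinearMap.ker (kerCotangentToTensor Λ A C) =
        Submodule.span A {(RingHom.ker (algebraMap A C)).toCotangent ⟨(p : A), hp⟩} ∧
      LinearMap.range (kerCotangentToTensor Λ A C) = (LinearMap.ker (mapBaseChange Λ A C)).restrictScalars A ∧
      Function.Surjective (mapBaseChange Λ A C) := by
  refine ⟨?_, KaehlerDifferential.range_kerCotangentToTensor Λ A C hsurj,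
    KaehlerDifferential.mapBaseChange_surjective Λ A C hsurj⟩
  apply le_antisymm
  · intro y hy
    obtain ⟨x, rfl⟩ := Ideal.toCotangent_surjective _ y
    rw [LinearMap.mem_ker, kerCotangentToTensor_toCotangent] at hy
    have h4 := mem_of_tmul_D_eq_zero hsurj p _ rfl hp x.1 x.2 hy
    obtain ⟨z, hz, w, hw, hzw⟩ := Submodule.mem_sup.mp h4
    obtain ⟨a, rfl⟩ := Ideal.mem_span_singleton'.mp hw
    have hzJ : z ∈ RingHom.ker (algebraMap A C) := Ideal.pow_le_self two_ne_zero hz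
    have hx : x = ⟨z, hzJ⟩ + a • ⟨(p : A), hp⟩ := Subtype.ext (by simpa using hzw.symm)
    rw [hx, map_add, map_smul, (Ideal.toCotangent_eq_zero _ ⟨z, hzJ⟩).mpr hz, zero_add]
    exact Submodule.smul_mem _ _ (Submodule.mem_span_singleton_self _)
  · rw [Submodule.span_le, Set.singleton_subset_iff, SetLike.mem_coe, LinearMap.mem_ker,
      kerCotangentToTensor_toCotangent]
    have : (p : A) = algebraMap Λ A (p : Λ) := (map_natCast _ _).symm
    simp only [this, Derivation.map_algebraMap, TensorProduct.tmul_zero]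

end Groth.Agent.S4594
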