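import Groth.Statements.S1400
import Groth.Agent.Lib.IndQuasiAffine

set_option autoImplicit false
universe u
open FlatMor

namespace Groth.Agent.S1400

open AlgebraicGeometry CategoryTheory Limits in
/-- Over affine opens `V ⊆ S'`, `W ⊆ S` with `g V ⊆ W`, the preimage of `V` under a base change
of `f` is affine over the preimage of `W` under `f`. -/
theorem isIndQuasiAffine_preimage_of_isPullback {X S X' S' : Scheme.{u}} (f : X ⟶ S) (f' : X' ⟶ S')
    (g' : X' ⟶ X) (g : S' ⟶ S) (hc : IsPullback g' f' f g) (W : S.Opens) (hW : IsAffineOpen W)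
    (V : S'.Opens) (hV : IsAffineOpen V) (hVW : V ≤ g ⁻¹ᵁ W)
    (hfW : MoreMor.IsIndQuasiAffine (f ⁻¹ᵁ W : Scheme.{u})) :
    MoreMor.IsIndQuasiAffine (f' ⁻¹ᵁ V : Scheme.{u}) := by
  have hle : f' ⁻¹ᵁ V ≤ g' ⁻¹ᵁ (f ⁻¹ᵁ W) := by
    intro x hx
    have h1 : g (f' x) ∈ W := hVW hx
    have h2 : f (g' x) = g (f' x) := by
      rw [← Scheme.Hom.comp_apply, ← Scheme.Hom.comp_apply, hc.w]
    change f (g' x) ∈ W
    rw [h2]
    exact h1
  have big : IsPullback ((f' ⁻¹ᵁ V).ι ≫ g') (f' ∣_ V) f (V.ι ≫ g) :=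
    (isPullback_morphismRestrict f' V).flip.paste_horiz hc
  rw [← Scheme.Hom.resLE_comp_ι g hVW, ← Scheme.Hom.resLE_comp_ι g' hle] at big
  have hcomm : g'.resLE (f ⁻¹ᵁ W) (f' ⁻¹ᵁ V) hle ≫ f ∣_ W = f' ∣_ V ≫ g.resLE W V hVW := by
    rw [← cancel_mono W.ι]
    simp only [Category.assoc, Scheme.Hom.resLE_comp_ι, morphismRestrict_ι,
      Scheme.Hom.resLE_comp_ι_assoc, morphismRestrict_ι_assoc, hc.w]
  have sq := (big.of_right hcomm (isPullback_morphismRestrict f W).flip).flip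
  have : IsAffine (V : Scheme.{u}) := hV
  have : IsAffine (W : Scheme.{u}) := hW
  have hgaff : IsAffineHom (g.resLE W V hVW) := inferInstance
  have : IsAffineHom (g'.resLE (f ⁻¹ᵁ W) (f' ⁻¹ᵁ V) hle) :=
    MorphismProperty.of_isPullback (P := @IsAffineHom) sq hgaff
  exact Lib.IndQuasiAffine.isIndQuasiAffine_of_isAffineHom
    (g'.resLE (f ⁻¹ᵁ W) (f' ⁻¹ᵁ V) hle) hfW

open AlgebraicGeometry CategoryTheory Limits in
/-- The base change of an ind-quasi-affine morphism is ind-quasi-affine. -/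
theorem result {X S X' S' : Scheme.{u}} (f : X ⟶ S) (f' : X' ⟶ S') (g' : X' ⟶ X) (g : S' ⟶ S)
    (hc : IsPullback g' f' f g) (hf : MoreMor.IsIndQuasiAffineHom f) : MoreMor.IsIndQuasiAffineHom f' := by
  intro V' hV'
  rw [Lib.IndQuasiAffine.isIndQuasiAffine_opens_iff]
  intro U' hU'V' hU'
  refine Lib.IndQuasiAffine.isQuasiAffine_opens_of_forall_exists_basicOpen U' hU' fun x' hx' => ?_
  have hy : f' x' ∈ V' := hU'V' hx'
  obtain ⟨W, hW, hgW, -⟩ := exists_isAffineOpen_mem_and_subset (x := g (f' x')) (U := ⊤) trivial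
  obtain ⟨s₀, hs₀le, hys₀⟩ := hV'.exists_basicOpen_le (V := g ⁻¹ᵁ W) ⟨f' x', hgW⟩ hy
  refine ⟨f'.appLE V' U' hU'V' s₀, ?_, ?_⟩
  · rw [Scheme.basicOpen_appLE]
    exact ⟨hx', hys₀⟩
  · have hc' : IsCompact (X'.basicOpen (f'.appLE V' U' hU'V' s₀) : Set X') :=
      isCompact_basicOpen X' hU' _
    have key := isIndQuasiAffine_preimage_of_isPullback f f' g' g hc W hW (S'.basicOpen s₀)
      (hV'.basicOpen s₀) hs₀le (hf W hW)
    refine (Lib.IndQuasiAffine.isIndQuasiAffine_opens_iff _).mp key _ ?_ hc'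
    rw [Scheme.basicOpen_appLE]
    exact inf_le_right

end Groth.Agent.S1400
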