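import Groth.Statements.S1397
import Groth.Agent.Lib.IndQuasiAffine

set_option autoImplicit false
universe u
open FlatMor

namespace Groth.Agent.S1397

open AlgebraicGeometry CategoryTheory Limits in
/-- Ind-quasi-affine morphisms are stable under composition. -/
theorem result {X Y Z : Scheme.{u}} (f : X ⟶ Y) (g : Y ⟶ Z) (hf : MoreMor.IsIndQuasiAffineHom f) (hg : MoreMor.IsIndQuasiAffineHom g) :
    MoreMor.IsIndQuasiAffineHom (f ≫ g) := by
  intro W hW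
  rw [Lib.IndQuasiAffine.isIndQuasiAffine_opens_iff]
  intro U hUW hU
  obtain ⟨V, hVc, hUV, hVW⟩ : ∃ V : Y.Opens, IsCompact (V : Set Y) ∧ f '' (U : Set X) ⊆ V ∧
      V ≤ g ⁻¹ᵁ W := Lib.IndQuasiAffine.exists_isCompact_opens_between
    (hU.image f.continuous) (g ⁻¹ᵁ W) (by rintro _ ⟨x, hx, rfl⟩; exact hUW hx)
  have hVq : Scheme.IsQuasiAffine (V : Scheme.{u}) :=
    (Lib.IndQuasiAffine.isIndQuasiAffine_opens_iff _).mp (hg W hW) V hVW hVc
  have hUV' : U ≤ f ⁻¹ᵁ V := fun x hx => hUV ⟨x, hx, rfl⟩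
  refine Lib.IndQuasiAffine.isQuasiAffine_opens_of_forall_exists_basicOpen U hU fun x hx => ?_
  obtain ⟨_, ⟨_, ⟨r, hr, rfl⟩, rfl⟩, hxr, -⟩ := (Scheme.IsQuasiAffine.isBasis_basicOpen
    (V : Scheme.{u})).exists_subset_of_mem_open
      (Set.mem_univ (⟨f x, hUV' hx⟩ : (V : Scheme.{u}))) isOpen_univ
  obtain ⟨r', rfl⟩ : ∃ r', V.topIso.inv r' = r :=
    ⟨V.topIso.hom r, by rw [← CommRingCat.comp_apply, Iso.hom_inv_id]; rfl⟩
  have himg : V.ι ''ᵁ (V : Scheme.{u}).basicOpen (V.topIso.inv r') = Y.basicOpen r' :=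
    Scheme.Opens.ι_image_basicOpen_topIso_inv V r'
  have haff : IsAffineOpen (Y.basicOpen r') := himg ▸ hr.image_of_isOpenImmersion V.ι
  have hmem : f x ∈ Y.basicOpen r' := by
    rw [← himg]
    exact ⟨⟨f x, hUV' hx⟩, hxr, rfl⟩
  refine ⟨f.appLE V U hUV' r', ?_, ?_⟩
  · rw [Scheme.basicOpen_appLE]
    exact ⟨hx, hmem⟩
  · have hc : IsCompact (X.basicOpen (f.appLE V U hUV' r') : Set X) := isCompact_basicOpen X hU _
    refine (Lib.IndQuasiAffine.isIndQuasiAffine_opens_iff _).mp (hf _ haff) _ ?_ hc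
    rw [Scheme.basicOpen_appLE]
    exact inf_le_right

end Groth.Agent.S1397
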