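import Groth.Statements.S12058
import Mathlib.Algebra.Homology.DerivedCategory.Ext.ExactSequences

set_option autoImplicit false
universe w v u
open CategoryTheory CategoryTheory.Limits CategoryTheory.Abelian
open SGA3

namespace Groth.Agent.S12058

section
variable {C : Type u} [Category.{v} C] [Abelian C]

/-- pushout of a short exact sequence along a map out of the kernel. -/
theorem pushout_shortExact {T : ShortComplex C} (hT : T.ShortExact) {Q : C} (ψ : T.X₁ ⟶ Q) :
    ∃ (B : C) (f : Q ⟶ B) (g : B ⟶ T.X₃) (d : T.X₂ ⟶ B) (w : f ≫ g = 0),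
      (ShortComplex.mk f g w).ShortExact ∧ T.f ≫ d = ψ ≫ f ∧ d ≫ g = T.g := by
  have := hT.mono_f
  have := hT.epi_g
  have hw : T.f ≫ T.g = ψ ≫ (0 : Q ⟶ T.X₃) := by rw [T.zero, comp_zero]
  let g : pushout T.f ψ ⟶ T.X₃ := pushout.desc T.g 0 hw
  have hdg : pushout.inl T.f ψ ≫ g = T.g := pushout.inl_desc _ _ _
  have hfg : pushout.inr T.f ψ ≫ g = 0 := pushout.inr_desc _ _ _
  refine ⟨pushout T.f ψ, pushout.inr T.f ψ, g, pushout.inl T.f ψ, hfg, ?_, pushout.condition, hdg⟩
  have hepi : Epi g := by
    have : Epi (pushout.inl T.f ψ ≫ g) := by rw [hdg]; infer_instance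
    exact epi_of_epi (pushout.inl T.f ψ) g
  refine ⟨ShortComplex.exact_of_g_is_cokernel _ ?_⟩
  refine CokernelCofork.IsColimit.ofπ _ _
    (fun {W} t ht => hT.exact.desc (pushout.inl T.f ψ ≫ t) (by
      rw [← Category.assoc, pushout.condition, Category.assoc]
      dsimp at ht
      rw [ht, comp_zero])) ?_ ?_
  · intro W t ht
    dsimp at ht ⊢
    apply pushout.hom_ext
    · rw [← Category.assoc, hdg, ShortComplex.Exact.g_desc]
    · rw [← Category.assoc, hfg, zero_comp, ht]
  · intro W t ht b hb
    dsimp at ht hb ⊢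
    rw [← cancel_epi g, hb]
    apply pushout.hom_ext
    · rw [← Category.assoc, hdg, ShortComplex.Exact.g_desc]
    · rw [← Category.assoc, hfg, zero_comp, ht]

end


/-- In an abelian category, let 0 → A' → A → A'' → 0 be a short exact sequence, φ : A' ⟶ Q a morphism
and π : A'' ⟶ P an epimorphism with kernel C. Consider the quadruples (B, f, g, h) with 0 → Q → B →
P → 0 short exact (maps f, g) and h : A ⟶ B such that the squares commute: (A' → A → B) = (A' → Q →
B) and (A → B → P) = (A → A'' → P). Such a quadruple exists if and only if the image in Ext¹(C, Q)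
of the class of the given extension in Ext¹(A'', A') (push forward along φ, pull back along the
inclusion C → A'') is zero. -/
theorem result {C : Type u} [Category.{v} C] [Abelian C]
    [HasExt.{w} C] {S : ShortComplex C} (hS : S.ShortExact) {Q P : C} (φ : S.X₁ ⟶ Q) (π : S.X₃ ⟶ P) [Epi π] :
    (∃ (B : C) (f : Q ⟶ B) (g : B ⟶ P) (h : S.X₂ ⟶ B) (w : f ≫ g = 0),
        (ShortComplex.mk f g w).ShortExact ∧ S.f ≫ h = φ ≫ f ∧ h ≫ g = S.g ≫ π) ↔
      (Ext.mk₀ (kernel.ι π)).comp (hS.extClass.comp (Ext.mk₀ φ) (add_zero 1)) (zero_add 1) = 0 := by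
  have := hS.mono_f
  have := hS.epi_g
  constructor
  · rintro ⟨B, f, g, h, w, hT, c1, c2⟩
    let α : S ⟶ ShortComplex.mk f g w := ⟨φ, h, π, c1.symm, c2⟩
    have nat := ShortComplex.ShortExact.extClass_naturality hS hT α
    change hS.extClass.comp (Ext.mk₀ φ) (add_zero 1) = (Ext.mk₀ π).comp hT.extClass (zero_add 1) at nat
    rw [nat, Ext.mk₀_comp_mk₀_assoc, kernel.condition, Ext.mk₀_zero, Ext.zero_comp]
  · intro h0
    -- the pullback of `S` along `ι`
    set ι := kernel.ι π with hι
    let AC := pullback S.g ι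
    let k : AC ⟶ S.X₂ := pullback.fst S.g ι
    let pC : AC ⟶ kernel π := pullback.snd S.g ι
    have hcond : k ≫ S.g = pC ≫ ι := pullback.condition
    let j : S.X₁ ⟶ AC := pullback.lift S.f 0 (by rw [S.zero, zero_comp])
    have hjk : j ≫ k = S.f := pullback.lift_fst _ _ _
    have hjp : j ≫ pC = 0 := pullback.lift_snd _ _ _
    have hmonoj : Mono j := by
      have : Mono (j ≫ k) := by rw [hjk]; infer_instance
      exact mono_of_mono j k
    have hSC : (ShortComplex.mk j pC hjp).ShortExact := by
      have hepi : Epi pC := by dsimp [pC]; infer_instance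
      refine ⟨ShortComplex.exact_of_f_is_kernel _ ?_⟩
      have hl : ∀ {W : C} (t : W ⟶ AC), t ≫ pC = 0 → (t ≫ k) ≫ S.g = 0 := by
        intro W t ht
        rw [Category.assoc, hcond, ← Category.assoc, ht, zero_comp]
      have fac : ∀ {W : C} (t : W ⟶ AC) (ht : t ≫ pC = 0),
          hS.exact.lift (t ≫ k) (hl t ht) ≫ j = t := by
        intro W t ht
        apply pullback.hom_ext
        · rw [Category.assoc]
          erw [hjk]
          rw [ShortComplex.Exact.lift_f]
        · rw [Category.assoc]
          erw [hjp]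
          rw [comp_zero]
          exact ht.symm
      exact KernelFork.IsLimit.ofι _ _
        (fun {W} t ht => hS.exact.lift (t ≫ k) (hl t ht))
        (fun {W} t ht => fac t ht)
        (fun {W} t ht b hb => by
          dsimp at hb ⊢
          rw [← cancel_mono j, hb, fac t ht])
    let β : ShortComplex.mk j pC hjp ⟶ S := ⟨𝟙 _, k, ι, by simp [hjk], hcond⟩
    have nat := ShortComplex.ShortExact.extClass_naturality hSC hS β
    change hSC.extClass.comp (Ext.mk₀ (𝟙 _)) (add_zero 1) = (Ext.mk₀ ι).comp hS.extClass (zero_add 1)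
      at nat
    rw [Ext.comp_mk₀_id] at nat
    have hzero : hSC.extClass.comp (Ext.mk₀ φ) (add_zero 1) = 0 := by
      rw [nat, Ext.comp_assoc_of_third_deg_zero]
      exact h0
    obtain ⟨x₂, hx₂⟩ := Ext.contravariant_sequence_exact₁ hSC Q (Ext.mk₀ φ) (add_zero 1) hzero
    obtain ⟨ψ, rfl⟩ := (Ext.mk₀_bijective _ _).2 x₂
    rw [Ext.mk₀_comp_mk₀] at hx₂
    have hψ : j ≫ ψ = φ := (Ext.mk₀_bijective _ _).1 hx₂
    -- the sequence `0 → AC → A → P → 0`
    have hkw : k ≫ S.g ≫ π = 0 := by
      rw [← Category.assoc, hcond, Category.assoc, hι, kernel.condition, comp_zero]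
    have hT : (ShortComplex.mk k (S.g ≫ π) hkw).ShortExact := by
      have hmonok : Mono k := by dsimp [k]; infer_instance
      have hepi : Epi (S.g ≫ π) := epi_comp _ _
      refine ⟨ShortComplex.exact_of_f_is_kernel _ ?_⟩
      refine KernelFork.IsLimit.ofι _ _
        (fun {W} t ht => pullback.lift t (kernel.lift π (t ≫ S.g) (by
          dsimp at ht
          rw [Category.assoc]; exact ht)) (by rw [hι, kernel.lift_ι])) ?_ ?_
      · intro W t ht
        exact pullback.lift_fst _ _ _
      · intro W t ht b hb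
        dsimp at ht hb ⊢
        rw [← cancel_mono k, hb]
        exact (pullback.lift_fst _ _ _).symm
    obtain ⟨B, f, g, d, w, hB, c1, c2⟩ := pushout_shortExact hT ψ
    dsimp at c1 c2 g d
    refine ⟨B, f, g, d, w, hB, ?_, c2⟩
    rw [← hjk, Category.assoc, c1, ← Category.assoc, hψ]

end Groth.Agent.S12058
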