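import Groth.Statements.S13791
import Groth.Agent.Lib.ConstSheaf31
import Mathlib.Algebra.Homology.DerivedCategory.Ext.ExactSequences
import Mathlib.CategoryTheory.Sites.SheafCohomology.Basic

set_option autoImplicit false
universe u
open CategoryTheory
open CohSite

namespace Groth.Agent.S13791

/-- On a site, for a short exact sequence 0 → A → B → C → 0 of abelian groups the map H¹(A) → H¹(B) on
the first cohomology of the associated constant sheaves is injective. Stated for an injective
homomorphism f : A → B (C being its cokernel), with H¹ the Ext-based sheaf cohomology of the site. -/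
theorem result {C : Type u} [SmallCategory C] (J : GrothendieckTopology C)
    {A B : Type u} [AddCommGroup A] [AddCommGroup B] (f : A →+ B) (hf : Function.Injective f) :
    Function.Injective
      (Sheaf.H.map ((constantSheaf J AddCommGrpCat.{u}).map (AddCommGrpCat.ofHom f)) 1) := by
  classical
  open Groth.Agent.ConstSheaf31 CategoryTheory.Limits Abelian in
  -- a general fact about the covariant long exact sequence
  have gen : ∀ {D : Type (u + 1)} [Category.{u} D] [Abelian D] [HasExt.{u} D]
      {T : ShortComplex D} (hT : T.ShortExact) {X : D} (φ : X ⟶ T.X₃) (ψ : X ⟶ T.X₂)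
      (_ : ψ ≫ T.g = φ), (Ext.mk₀ φ).comp hT.extClass (zero_add 1) = 0 := by
    intro D _ _ _ T hT X φ ψ h
    rw [← h, ← Ext.mk₀_comp_mk₀, Ext.comp_assoc_of_second_deg_zero, hT.comp_extClass,
      Ext.comp_zero]
  let S : ShortComplex AddCommGrpCat.{u} :=
    ShortComplex.mk (AddCommGrpCat.ofHom f) (cokernel.π (AddCommGrpCat.ofHom f))
      (cokernel.condition _)
  have hS : S.ShortExact :=
    { exact := ShortComplex.exact_of_g_is_cokernel _ (cokernelIsCokernel _)
      mono_f := (AddCommGrpCat.mono_iff_injective _).2 hf
      epi_g := inferInstanceAs (Epi (cokernel.π (AddCommGrpCat.ofHom f))) }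
  have hsurj : Function.Surjective S.g.hom := (AddCommGrpCat.epi_iff_surjective _).1 hS.epi_g
  have hS' := shortExact_map_constantSheaf J S hS
  rw [injective_iff_map_eq_zero]
  intro x hx
  rw [Sheaf.H.map_apply] at hx
  obtain ⟨x₃, hx₃⟩ := Ext.covariant_sequence_exact₁ _ hS' x hx (zero_add 1)
  obtain ⟨φ, rfl⟩ := (Ext.mk₀_bijective _ _).2 x₃
  obtain ⟨ψ, hψ⟩ := exists_lift J S.g hsurj φ
  rw [← hx₃]
  exact gen hS' φ ψ hψ

end Groth.Agent.S13791
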