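import Groth.Statements.S12289
-- import your own Groth.Agent.* helpers here

set_option autoImplicit false
universe u w m
open scoped TensorProduct
open DefT

namespace Groth.Agent.S12289

section aux

variable {A : Type u} {B : Type u} [CommRing A] [CommRing B] [Algebra A B] {ι σ : Type w}
  (P : Algebra.Presentation A B ι σ)

theorem toCot_surjective : Function.Surjective (CotT.toCot P) := by
  intro x
  obtain ⟨⟨a, ha⟩, rfl⟩ := Algebra.Extension.Cotangent.mk_surjective x
  have ha' : a ∈ LinearMap.range (CotT.jmap P) := by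
    rw [CotT.range_jmap]; exact ha
  obtain ⟨f, rfl⟩ := ha'
  exact ⟨(1 : B) ⊗ₜ f, by rw [CotT.toCot_tmul, one_smul]; rfl⟩

theorem exists_one_tmul (z : CotT.L1 P) : ∃ f : CotT.relMod P, z = (1 : B) ⊗ₜ f := by
  induction z using TensorProduct.induction_on with
  | zero => exact ⟨0, by rw [TensorProduct.tmul_zero]⟩
  | tmul b f =>
    obtain ⟨r, rfl⟩ := P.toExtension.algebraMap_surjective b
    refine ⟨r • f, ?_⟩
    rw [← TensorProduct.smul_tmul, Algebra.smul_def, mul_one]
  | add x y hx hy =>
    obtain ⟨f, rfl⟩ := hx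
    obtain ⟨g, rfl⟩ := hy
    exact ⟨f + g, by rw [TensorProduct.tmul_add]⟩

theorem ker_toCot_le_range_d2 : LinearMap.ker (CotT.toCot P) ≤ LinearMap.range (CotT.d2 P) := by
  intro z hz
  obtain ⟨f, rfl⟩ := exists_one_tmul P z
  rw [LinearMap.mem_ker, CotT.toCot_tmul, one_smul,
    Algebra.Extension.Cotangent.mk_eq_zero_iff] at hz
  have hz' : CotT.jmap P f ∈ P.toExtension.ker ^ 2 := hz
  have h1 : CotT.jmap P f ∈ Submodule.map (CotT.jmap P)
      (P.toExtension.ker • (⊤ : Submodule P.toExtension.Ring (CotT.relMod P))) := by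
    rw [Submodule.map_smul'', Submodule.map_top, CotT.range_jmap]
    change CotT.jmap P f ∈ P.toExtension.ker • P.toExtension.ker
    rw [smul_eq_mul, ← pow_two]
    exact hz'
  obtain ⟨g, hg, hgf⟩ := h1
  have hq : f - g ∈ CotT.relKer P := by
    rw [CotT.relKer, LinearMap.mem_ker, map_sub, hgf, sub_self]
  have hg0 : (1 : B) ⊗ₜ[P.toExtension.Ring] g = (0 : CotT.L1 P) := by
    refine Submodule.smul_induction_on hg ?_ ?_
    · intro a ha n _
      have ha0 : algebraMap P.toExtension.Ring B a = 0 := ha
      rw [← TensorProduct.smul_tmul, Algebra.smul_def, ha0, zero_mul, TensorProduct.zero_tmul]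
    · intro x y hx hy
      rw [TensorProduct.tmul_add, hx, hy, add_zero]
  refine ⟨Submodule.Quotient.mk ((1 : B) ⊗ₜ ⟨f - g, hq⟩), ?_⟩
  rw [CotT.d2_mk_tmul]
  change (1 : B) ⊗ₜ[P.toExtension.Ring] (f - g) = 1 ⊗ₜ f
  rw [TensorProduct.tmul_sub, hg0, sub_zero]

end aux

/-- Let k be a commutative ring and B a k-algebra presented as R/I with R = k[x_i] a polynomial ring
(any set of variables) and chosen generators of I, and let M be a B-module; T^0(B/k, M) and T^1(B/k,
M) are computed from this presentation. Then the sequence 0 → T^0(B/k, M) → Hom_B(Ω_{R/k} ⊗_R B, M)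
→ Hom_B(I/I², M) → T^1(B/k, M) → 0 is exact, where the middle map is composition with the conormal
map d : I/I² → Ω_{R/k} ⊗_R B and the last map sends φ to the class of φ ∘ (F/IF → I/I²): the
submodule T^0(B/k, M) of Hom_B(Ω_{R/k} ⊗ B, M) is the kernel of composition with d, the kernel of
Hom_B(I/I², M) → T^1(B/k, M) is the image of composition with d, and Hom_B(I/I², M) → T^1(B/k, M) is
surjective. (The published statement takes finitely many variables over a field and adds that the
same holds over any base ring; this row allows any base ring and any set of variables.) -/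
theorem result
    (k B : Type u) [CommRing k] [CommRing B] [Algebra k B] (ι σ : Type w) (P : Algebra.Presentation k B ι σ)
    (M : Type m) [AddCommGroup M] [Module B M] :
    LinearMap.ker (CotT.d1Star P M) = LinearMap.ker (LinearMap.lcomp B M P.toExtension.cotangentComplex) ∧
    LinearMap.ker (CotT.homToT1 P M) = LinearMap.range (LinearMap.lcomp B M P.toExtension.cotangentComplex) ∧
    Function.Surjective (CotT.homToT1 P M) := by
  have hsurj := toCot_surjective P
  refine ⟨?_, ?_, ?_⟩
  · ext φ
    simp only [LinearMap.mem_ker, CotT.d1Star_apply, LinearMap.lcomp_apply']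
    constructor
    · intro h
      ext x
      obtain ⟨z, rfl⟩ := hsurj x
      exact LinearMap.congr_fun h z
    · intro h
      rw [CotT.d1, ← LinearMap.comp_assoc, h, LinearMap.zero_comp]
  · ext φ
    rw [LinearMap.mem_ker, LinearMap.mem_range]
    change Submodule.Quotient.mk _ = 0 ↔ _
    rw [Submodule.Quotient.mk_eq_zero, Submodule.mem_comap, LinearMap.mem_range]
    constructor
    · rintro ⟨ψ, hψ⟩
      refine ⟨ψ, ?_⟩
      rw [LinearMap.lcomp_apply']
      ext x
      obtain ⟨z, rfl⟩ := hsurj x
      exact LinearMap.congr_fun hψ z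
    · rintro ⟨ψ, hψ⟩
      refine ⟨ψ, ?_⟩
      rw [LinearMap.lcomp_apply'] at hψ
      rw [CotT.d1Star_apply, CotT.d1, ← LinearMap.comp_assoc, hψ]
      rfl
  · intro x
    obtain ⟨c, rfl⟩ := Submodule.mkQ_surjective _ x
    have hc : (c : CotT.L1 P →ₗ[B] M) ∘ₗ CotT.d2 P = 0 := c.2
    have hker : LinearMap.ker (CotT.toCot P) ≤ LinearMap.ker (c : CotT.L1 P →ₗ[B] M) := by
      intro z hz
      obtain ⟨w, rfl⟩ := ker_toCot_le_range_d2 P hz
      exact LinearMap.congr_fun hc w
    let e := LinearMap.quotKerEquivOfSurjective (CotT.toCot P) hsurj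
    let φ : P.toExtension.Cotangent →ₗ[B] M :=
      ((LinearMap.ker (CotT.toCot P)).liftQ (c : CotT.L1 P →ₗ[B] M) hker) ∘ₗ e.symm.toLinearMap
    have hφ : φ ∘ₗ CotT.toCot P = (c : CotT.L1 P →ₗ[B] M) := by
      ext z
      change ((LinearMap.ker (CotT.toCot P)).liftQ (c : CotT.L1 P →ₗ[B] M) hker)
        (e.symm (CotT.toCot P z)) = c.1 z
      have : e.symm (CotT.toCot P z) = Submodule.Quotient.mk z := by
        rw [LinearEquiv.symm_apply_eq]
        rfl
      rw [this, Submodule.liftQ_apply]
    refine ⟨φ, ?_⟩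
    change Submodule.Quotient.mk _ = Submodule.Quotient.mk c
    congr 1
    exact Subtype.ext hφ

end Groth.Agent.S12289
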