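import Groth.Statements.S12057
import Groth.Agent.Lib.UnitFinLocFree

set_option autoImplicit false
universe u
open CategoryTheory CategoryTheory.Limits AlgebraicGeometry
open FGA

namespace Groth.Agent.S12057

section Helpers

open CategoryTheory CategoryTheory.Limits AlgebraicGeometry Opposite TopologicalSpace
open Groth.Agent.Lib.H90Invertible Groth.Agent.Lib.StructureModule Groth.Agent.Lib.H78TensorGen
open Groth.Agent.Lib.H78SecCoord Groth.Agent.Lib.H78PullSec

variable {X S : Scheme.{u}} (f : X ⟶ S)

/-- a generator of `L` over `f⁻¹U` is a generator of `f_*L` over `U` when `O_S ≅ f_*O_X` -/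
lemma isGen_pushforward (hf : ∀ U : S.Opens, Function.Bijective (f.app U)) (L : X.Modules)
    (U : S.Opens) (e : Γ(L, f ⁻¹ᵁ U)) (he : IsGen L (f ⁻¹ᵁ U) e) :
    IsGen ((Scheme.Modules.pushforward f).obj L) U (toPush f L U e) := by
  intro W hW
  have h1 := he (f ⁻¹ᵁ W) (f.preimage_mono hW)
  have h2 : (fun a : Γ(S, W) => a • ((Scheme.Modules.pushforward f).obj L).presheaf.map
      (homOfLE hW).op (toPush f L U e)) =
      (fun b : Γ(X, f ⁻¹ᵁ W) => b • L.presheaf.map (homOfLE (f.preimage_mono hW)).op e) ∘
        (fun a => f.app W a) := by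
    funext a
    rfl
  rw [h2]
  exact h1.comp (hf W)

/-- the counit maps the pulled back generator to the generator -/
lemma counit_pb (L : X.Modules) (U : S.Opens) (e : Γ(L, f ⁻¹ᵁ U)) :
    ((Scheme.Modules.pullbackPushforwardAdjunction f).counit.app L).app (f ⁻¹ᵁ U)
      (pb f ((Scheme.Modules.pushforward f).obj L) (toPush f L U e)) = e := by
  have h := (Scheme.Modules.pullbackPushforwardAdjunction f).right_triangle_components L
  have h2 := congrArg (fun ψ => Scheme.Modules.Hom.app ψ U (toPush f L U e)) h
  exact h2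

/-- a morphism sending a free generator over `V` to a free generator over `V` is bijective on sections over
opens contained in `V` -/
lemma bijective_app_of_isGen {X : Scheme.{u}} {M M' : X.Modules} (φ : M ⟶ M') (V : X.Opens) (g : Γ(M, V))
    (hg : IsGen M V g) (hg' : IsGen M' V (φ.app V g)) (W : X.Opens) (hW : W ≤ V) :
    Function.Bijective (φ.app W) := by
  have h1 := hg W hW
  have h2 := hg' W hW
  have h3 : (fun a : Γ(X, W) => a • M'.presheaf.map (homOfLE hW).op (φ.app V g)) =
      (fun x => φ.app W x) ∘ (fun a : Γ(X, W) => a • M.presheaf.map (homOfLE hW).op g) := by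
    funext a
    change _ = φ.app W (a • rs M hW g)
    rw [Scheme.Modules.Hom.app_smul]
    congr 1
    exact (app_rs φ hW g).symm
  rw [h3] at h2
  exact (Function.Bijective.of_comp_iff _ h1).mp h2

end Helpers

/-- Let f : X ⟶ S be a morphism of schemes such that for every open U of S the induced map from sections
of the structure sheaf of S over U to sections of the structure sheaf of X over the inverse image of
U is bijective. Let L be an invertible module on X which is trivial locally over S: every point of S
has an open neighbourhood U such that the restriction of L to the inverse image of U is isomorphic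
to the structure sheaf. Then L is isomorphic to the pullback along f of an invertible module on S.
(The relative Picard group here is the group of global sections of the first higher direct image of
the sheaf of units, so its elements vanishing are exactly the classes trivial locally over the
base.) -/
theorem result {X S : Scheme.{u}} (f : X ⟶ S)
    (hf : ∀ U : S.Opens, Function.Bijective (f.app U)) (L : X.Modules) (hL : PicF.IsInvertible L)
    (hloc : ∀ s : S, ∃ U : S.Opens, s ∈ U ∧
      Nonempty ((Scheme.Modules.pullback (f ⁻¹ᵁ U).ι).obj L ≅ Coh.structureModule (f ⁻¹ᵁ U))) :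
    ∃ N : S.Modules, PicF.IsInvertible N ∧ Nonempty (L ≅ (Scheme.Modules.pullback f).obj N) := by
  open Groth.Agent.Lib.H90Invertible Groth.Agent.Lib.H78PullSec TopologicalSpace in
  have key : ∀ s : S, ∃ (U : S.Opens) (e : Γ(L, f ⁻¹ᵁ U)), s ∈ U ∧ IsGen L (f ⁻¹ᵁ U) e := by
    intro s
    obtain ⟨U, hs, ⟨a⟩⟩ := hloc s
    have h1 : Nonempty (L.restrict (f ⁻¹ᵁ U).ι ≅ Coh.structureModule (f ⁻¹ᵁ U)) :=
      ⟨(Scheme.Modules.restrictFunctorIsoPullback (f ⁻¹ᵁ U).ι).app L ≪≫ a⟩
    obtain ⟨e, he⟩ := (nonempty_restrict_ι_iso_iff L _).mp h1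
    exact ⟨U, e, hs, he⟩
  choose U e hsU he using key
  refine ⟨(Scheme.Modules.pushforward f).obj L, ?_, ?_⟩
  · rw [isInvertible_iff_exists_isGen]
    intro s
    exact ⟨U s, hsU s, _, isGen_pushforward f hf L (U s) (e s) (he s)⟩
  · have hiso : IsIso ((Scheme.Modules.pullbackPushforwardAdjunction f).counit.app L) := by
      refine Groth.Agent.Lib.IdealMod.isIso_of_bijective_on_basis _
        (fun W : {W : X.Opens // ∃ s, W ≤ f ⁻¹ᵁ U s} => W.1) ?_ (fun W => ?_)
      · refine Opens.isBasis_iff_nbhd.mpr fun {V x} hx => ?_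
        exact ⟨V ⊓ f ⁻¹ᵁ U (f x), ⟨⟨V ⊓ f ⁻¹ᵁ U (f x), f x, inf_le_right⟩, rfl⟩,
          ⟨hx, hsU (f x)⟩, inf_le_left⟩
      · obtain ⟨W, s, hW⟩ := W
        refine bijective_app_of_isGen _ (f ⁻¹ᵁ U s)
          (pb f ((Scheme.Modules.pushforward f).obj L) (toPush f L (U s) (e s)))
          (isGen_pb f (isGen_pushforward f hf L (U s) (e s) (he s))) ?_ W hW
        rw [counit_pb]
        exact he s
    exact ⟨(asIso ((Scheme.Modules.pullbackPushforwardAdjunction f).counit.app L)).symm⟩


end Groth.Agent.S12057
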