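import Groth.Statements.S10869
import Groth.Agent.Lib.GlobGenLocal
import Groth.Agent.Lib.QuasiAffineGlobGen
import Groth.Agent.Lib.ModPullback
import Groth.Agent.S12057

set_option autoImplicit false
universe u
open Coh

namespace Groth.Agent.S10869

open CategoryTheory AlgebraicGeometry in
/-- For f : X → S quasi-compact and quasi-separated and F a quasi-coherent O_X-module, the counit
f^*f_*F → F is an epimorphism iff F is a quotient of f^*G for some quasi-coherent O_S-module G, iff
the restriction of F to the inverse image of every affine open of S is globally generated. -/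
theorem result {X S : Scheme.{u}} (f : X ⟶ S) [QuasiCompact f] [QuasiSeparated f]
    (F : X.Modules) (hF : Coh.IsQCoh F) :
    (Epi ((Scheme.Modules.pullbackPushforwardAdjunction f).counit.app F) ↔
      ∃ G : S.Modules, Coh.IsQCoh G ∧ ∃ φ : (Scheme.Modules.pullback f).obj G ⟶ F, Epi φ) ∧
    (Epi ((Scheme.Modules.pullbackPushforwardAdjunction f).counit.app F) ↔
      ∀ U : S.Opens, IsAffineOpen U → Curv2.IsGloballyGenerated (F.restrict (f ⁻¹ᵁ U).ι)) := by
  have hFq : F.IsQuasicoherent := hF
  have hpush : ((Scheme.Modules.pushforward f).obj F).IsQuasicoherent :=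
    Groth.Agent.Lib.H90OXModQcqs.isQuasicoherent_pushforward_of_qcqs f F
  refine ⟨⟨fun h => ⟨(Scheme.Modules.pushforward f).obj F, hpush, _, h⟩, ?_⟩, ⟨?_, ?_⟩⟩
  · rintro ⟨G, -, φ, hφ⟩
    have h1 : φ = (Scheme.Modules.pullback f).map
        ((Scheme.Modules.pullbackPushforwardAdjunction f).homEquiv G F φ) ≫
        (Scheme.Modules.pullbackPushforwardAdjunction f).counit.app F := by
      have := (Scheme.Modules.pullbackPushforwardAdjunction f).homEquiv_counit (X := G) (Y := F)
        (g := (Scheme.Modules.pullbackPushforwardAdjunction f).homEquiv G F φ)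
      rw [Equiv.symm_apply_apply] at this
      exact this
    rw [h1] at hφ
    exact epi_of_epi ((Scheme.Modules.pullback f).map
        ((Scheme.Modules.pullbackPushforwardAdjunction f).homEquiv G F φ)) _
  · intro h U hU
    have : IsAffine U.toScheme := hU
    have hqc : Coh.IsQCoh (((Scheme.Modules.pushforward f).obj F).restrict U.ι) :=
      Scheme.Modules.isQuasicoherent_restrictFunctor _ _
    have h1 := Groth.Agent.Lib.QuasiAffineGlobGen.isGloballyGenerated_of_isQuasiAffine U.toScheme _ hqc
    have h2 := Groth.Agent.Lib.GlobGenDescent.isGloballyGenerated_pullback (f ∣_ U) h1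
    obtain ⟨K, q, hq⟩ := h2
    have h3 : Epi ((Scheme.Modules.restrictFunctor (f ⁻¹ᵁ U).ι).map
        ((Scheme.Modules.pullbackPushforwardAdjunction f).counit.app F)) := inferInstance
    let ψ : (Scheme.Modules.pullback (f ∣_ U)).obj
        (((Scheme.Modules.pushforward f).obj F).restrict U.ι) ⟶ F.restrict (f ⁻¹ᵁ U).ι :=
      (Groth.Agent.Lib.ModPullback.restrictPullbackIso f U
        ((Scheme.Modules.pushforward f).obj F)).inv ≫
      (Scheme.Modules.restrictFunctor (f ⁻¹ᵁ U).ι).map
        ((Scheme.Modules.pullbackPushforwardAdjunction f).counit.app F)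
    have h4 : Epi ψ := @epi_comp _ _ _ _ _ _ inferInstance _ h3
    exact ⟨K, q ≫ ψ, @epi_comp _ _ _ _ _ q hq ψ h4⟩
  · intro h
    apply Groth.Agent.Lib.IdealMod.epi_of_locally_surjective
    intro W s x hx
    obtain ⟨_, ⟨U, hU : IsAffineOpen U, rfl⟩, hxU, -⟩ :=
      (S.isBasis_affineOpens).exists_subset_of_mem_open (Set.mem_univ (f x)) isOpen_univ
    have hsurj : Function.Surjective
        (((Scheme.Modules.pullbackPushforwardAdjunction f).counit.app F).app ((f ⁻¹ᵁ U).ι ''ᵁ ⊤)) := by
      have e : (f ⁻¹ᵁ U).ι ''ᵁ ⊤ = f ⁻¹ᵁ U := Scheme.Opens.ι_image_top _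
      rw [e]
      intro σ
      exact ⟨_, Groth.Agent.S12057.counit_pb f F U σ⟩
    obtain ⟨V, hVW, hxV, t, ht⟩ :=
      Groth.Agent.Lib.GlobGenLocal.exists_preimage_of_restrict_globGen (f ⁻¹ᵁ U).ι
        ((Scheme.Modules.pullbackPushforwardAdjunction f).counit.app F) (h U hU) hsurj W s
        ⟨x, hxU⟩ hx
    exact ⟨V, hVW, hxV, t, ht⟩

end Groth.Agent.S10869
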