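import Groth.Statements.S0050
import Groth.Agent.Lib.H78H1Ample

set_option autoImplicit false
universe u
open Coherent

namespace Groth.Agent.S0050

open AlgebraicGeometry CategoryTheory in
/-- Let X be a quasi-compact scheme and L an invertible O_X-module. If for every quasi-coherent sheaf of
ideals I ⊆ O_X there is some n ≥ 1 with H¹(X, I ⊗ L^{⊗n}) = 0, then L is ample, in the sense that X
is covered by affine opens of the form X_s for sections s of positive tensor powers of L. (In the
Lean statement the exponent is written n + 1 with n a natural number.) -/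
theorem result (X : Scheme.{u}) [CompactSpace X] (L : X.Modules)
    (hL : PicF.IsInvertible L)
    (h : ∀ (I : X.Modules) (i : I ⟶ Coh.structureModule X), Mono i → Coh.IsQCoh I →
      ∃ n : ℕ, Subsingleton (Coh.HH X (CohB1.tensorMod I (CohB1.tensorPow L (n + 1))) 1)) :
    CohB1.IsAmple L := by
  refine ⟨hL, inferInstance, fun x₀ => ?_⟩
  obtain ⟨x, hxmem, hx⟩ := IsClosed.exists_closed_singleton (isClosed_closure (s := ({x₀} : Set X)))
    ⟨x₀, subset_closure rfl⟩
  have hspec : x₀ ⤳ x := specializes_iff_mem_closure.2 hxmem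
  obtain ⟨U₀, hxU₀, e₀, he₀⟩ := (Groth.Agent.Lib.H90Invertible.isInvertible_iff_exists_isGen L).1 hL x
  obtain ⟨U, hU, hxU, hUle⟩ := TopologicalSpace.Opens.isBasis_iff_nbhd.1 X.isBasis_affineOpens hxU₀
  have he : Groth.Agent.Lib.H90Invertible.IsGen L U (Groth.Agent.Lib.H78TensorGen.rs L hUle e₀) := he₀.mono hUle
  obtain ⟨n, hn⟩ := h (ClSub.idealMod (Scheme.IdealSheafData.vanishingIdeal (Groth.Agent.Lib.H78H1Ample.cl U hx)))
    (ClSub.idealModι _) inferInstance (Groth.Agent.Lib.H77QCohKernel.isQuasicoherent_idealMod _)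
  obtain ⟨s, hxs, haff⟩ := Groth.Agent.Lib.H78H1Ample.exists_sec_of_H1
    (Groth.Agent.Lib.H78TensorGen.isInvertible_tensorPow hL (n + 1)) hU
    (Groth.Agent.Lib.H78TensorGen.isGen_epow he (n + 1)) hxU hx hn
  exact ⟨n, s, hspec.mem_open (CohB1.genLocus _ s).2 hxs, haff⟩

end Groth.Agent.S0050
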