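import Groth.Statements.S7658
import Mathlib.AlgebraicGeometry.PullbackCarrier
import Mathlib.AlgebraicGeometry.Morphisms.LocalIso
import Mathlib.AlgebraicGeometry.Morphisms.OpenImmersion
import Mathlib.AlgebraicGeometry.Morphisms.Separated

set_option autoImplicit false
universe u
open CategoryTheory CategoryTheory.Limits AlgebraicGeometry
open Variety

namespace Groth.Agent.S7658

/-- A point whose closure is an irreducible component is maximal for specialization. -/
theorem specializes_of_mem_irreducibleComponents {T : Type*} [TopologicalSpace T] (ζ : T)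
    (h : closure ({ζ} : Set T) ∈ irreducibleComponents T) (η : T) (hη : η ⤳ ζ) : ζ ⤳ η := by
  have h1 : closure ({ζ} : Set T) ⊆ closure ({η} : Set T) := by
    rw [← specializes_iff_closure_subset]
    exact hη
  have h2 : IsIrreducible (closure ({η} : Set T)) := isIrreducible_singleton.closure
  have h3 : closure ({η} : Set T) ⊆ closure ({ζ} : Set T) := h.2 h2 h1
  rw [specializes_iff_closure_subset]
  exact h3

/-- In a quasi-sober space, a point maximal for specialization has closure an irreducible
component. -/
theorem mem_irreducibleComponents_of_specializes {T : Type*} [TopologicalSpace T] [QuasiSober T]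
    (ξ : T) (h : ∀ η : T, η ⤳ ξ → ξ ⤳ η) : closure ({ξ} : Set T) ∈ irreducibleComponents T := by
  refine ⟨isIrreducible_singleton.closure, ?_⟩
  intro S hS hle
  obtain ⟨η, hη⟩ := QuasiSober.sober hS.closure isClosed_closure
  have h1 : η ⤳ ξ := by
    rw [specializes_iff_mem_closure, hη.def]
    exact subset_closure (hle (subset_closure rfl))
  have h2 := h η h1
  rw [specializes_iff_closure_subset, hη.def] at h2
  exact subset_closure.trans h2

/-- A local isomorphism maps generic points of irreducible components to generic points of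
irreducible components. -/
theorem map_generic {P X : Scheme.{u}} (g : P ⟶ X)
    (hloc : ∀ z : P, ∃ U : P.Opens, z ∈ U ∧ IsOpenImmersion (U.ι ≫ g)) (ζ : P)
    (hζ : closure ({ζ} : Set P) ∈ irreducibleComponents (P : Type u)) :
    closure ({g.base ζ} : Set X) ∈ irreducibleComponents (X : Type u) := by
  apply mem_irreducibleComponents_of_specializes
  intro η hη
  obtain ⟨U, hζU, hU⟩ := hloc ζ
  have hopen : IsOpen (Set.range (U.ι ≫ g).base) := (U.ι ≫ g).isOpenEmbedding.isOpen_range
  obtain ⟨ζ', hζ'⟩ : ∃ ζ' : (U : Scheme.{u}), U.ι.base ζ' = ζ := by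
    have : ζ ∈ Set.range U.ι.base := by
      rw [Scheme.Opens.range_ι]
      exact hζU
    exact this
  have hζr : g.base ζ ∈ Set.range (U.ι ≫ g).base := ⟨ζ', by rw [← hζ']; rfl⟩
  have hηr : η ∈ Set.range (U.ι ≫ g).base := hη.mem_open hopen hζr
  obtain ⟨η₀, rfl⟩ := hηr
  have hspec : η₀ ⤳ ζ' := by
    rw [← (U.ι ≫ g).isOpenEmbedding.isInducing.specializes_iff]
    have : (U.ι ≫ g).base ζ' = g.base ζ := by rw [← hζ']; rfl
    rw [this]
    exact hη
  have h1 : U.ι.base η₀ ⤳ ζ := by
    rw [← hζ']
    exact hspec.map U.ι.continuous
  have h2 : ζ ⤳ U.ι.base η₀ := specializes_of_mem_irreducibleComponents ζ hζ _ h1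
  exact h2.map g.continuous

set_option backward.isDefEq.respectTransparency false in
/-- A point of `X ×_Y X` both of whose projections lie in an open on which `f` is a monomorphism
lies on the diagonal. -/
theorem mem_range_diagonal {X Y : Scheme.{u}} (f : X ⟶ Y) (N : X.Opens) [Mono (N.ι ≫ f)]
    (ζ : ↑(pullback f f)) (h1 : (pullback.fst f f).base ζ ∈ N) (h2 : (pullback.snd f f).base ζ ∈ N) :
    ζ ∈ Set.range (pullback.diagonal f).base := by
  let j := N.ι ≫ f
  let m : pullback j j ⟶ pullback f f :=
    pullback.map j j f f N.ι N.ι (𝟙 Y) (by simp [j]) (by simp [j])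
  have hrange : Set.range m.base =
      (pullback.fst f f).base ⁻¹' Set.range N.ι.base ∩ (pullback.snd f f).base ⁻¹' Set.range N.ι.base :=
    Scheme.Pullback.range_map j j f f N.ι N.ι (𝟙 Y) (by simp [j]) (by simp [j])
  have hζ : ζ ∈ Set.range m.base := by
    rw [hrange, Scheme.Opens.range_ι]
    exact ⟨h1, h2⟩
  obtain ⟨ζ₀, rfl⟩ := hζ
  have hfs : pullback.fst j j = pullback.snd j j := by
    rw [← cancel_mono j]
    exact pullback.condition
  have hm : m = pullback.fst j j ≫ N.ι ≫ pullback.diagonal f := by
    apply pullback.hom_ext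
    · simp [m]
    · simp [m, hfs]
  refine ⟨N.ι.base ((pullback.fst j j).base ζ₀), ?_⟩
  rw [hm]
  rfl

/-- A separated morphism of schemes f : X → Y such that X has an open covering on whose members f
restricts to open immersions, and such that no two distinct generic points of irreducible components
of X have the same image under f, is an open immersion. -/
theorem result {X Y : Scheme.{u}}
    (f : X ⟶ Y) [IsSeparated f]
    (hloc : ∀ x : X, ∃ U : X.Opens, x ∈ U ∧ IsOpenImmersion (U.ι ≫ f))
    (hinj : ∀ ξ ξ' : X, closure ({ξ} : Set X) ∈ irreducibleComponents (X : Type u) → closure ({ξ'} : Set X) ∈ irreducibleComponents (X : Type u) →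
      f.base ξ = f.base ξ' → ξ = ξ') :
    IsOpenImmersion f := by
  have hli : IsLocalIso f := ⟨hloc⟩
  have hli1 : IsLocalIso (pullback.fst f f) := MorphismProperty.pullback_fst _ _ hli
  have hli2 : IsLocalIso (pullback.snd f f) := MorphismProperty.pullback_snd _ _ hli
  have hclosed : IsClosed (Set.range (pullback.diagonal f).base) :=
    (pullback.diagonal f).isClosedEmbedding.isClosed_range
  have hfinj : Function.Injective f.base := by
    intro x x' hxx'
    obtain ⟨z, hz1, hz2⟩ := Scheme.Pullback.exists_preimage_pullback (f := f) (g := f) x x' hxx'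
    -- the generic point of an irreducible component through `z`
    obtain ⟨ζ, hζ⟩ := QuasiSober.sober (isIrreducible_irreducibleComponent (x := z))
      isClosed_irreducibleComponent
    have hζcomp : closure ({ζ} : Set ↑(pullback f f)) ∈ irreducibleComponents ↑(pullback f f) := by
      rw [hζ.def]
      exact irreducibleComponent_mem_irreducibleComponents z
    have hzζ : z ∈ closure ({ζ} : Set ↑(pullback f f)) := by
      rw [hζ.def]
      exact mem_irreducibleComponent
    have h1 := map_generic (pullback.fst f f) hli1.exists_isOpenImmersion ζ hζcomp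
    have h2 := map_generic (pullback.snd f f) hli2.exists_isOpenImmersion ζ hζcomp
    have hcond : f.base ((pullback.fst f f).base ζ) = f.base ((pullback.snd f f).base ζ) := by
      have := congrArg (fun g : pullback f f ⟶ Y => g.base ζ) (pullback.condition (f := f) (g := f))
      exact this
    have heq := hinj _ _ h1 h2 hcond
    obtain ⟨N, hN, hNopen⟩ := hloc ((pullback.fst f f).base ζ)
    have : Mono (N.ι ≫ f) := inferInstance
    have hζΔ : ζ ∈ Set.range (pullback.diagonal f).base :=
      mem_range_diagonal f N ζ hN (heq ▸ hN)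
    have hzΔ : z ∈ Set.range (pullback.diagonal f).base :=
      (hclosed.closure_subset_iff.mpr (Set.singleton_subset_iff.mpr hζΔ)) hzζ
    obtain ⟨w, rfl⟩ := hzΔ
    have e1 : (pullback.fst f f).base ((pullback.diagonal f).base w) = w := by
      have := congrArg (fun g : X ⟶ X => g.base w) (pullback.diagonal_fst f)
      exact this
    have e2 : (pullback.snd f f).base ((pullback.diagonal f).base w) = w := by
      have := congrArg (fun g : X ⟶ X => g.base w) (pullback.diagonal_snd f)
      exact this
    rw [← hz1, ← hz2, e1, e2]
  apply IsOpenImmersion.of_forall_source_exists f hfinj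
  intro x
  obtain ⟨U, hxU, hU⟩ := hloc x
  refine ⟨U, U.ι, inferInstance, ?_, hU⟩
  rw [Scheme.Opens.opensRange_ι]
  exact hxU

end Groth.Agent.S7658
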