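import Groth.Statements.S7659
import Groth.Agent.S7658
import Groth.Agent.Lib.SpreadOutLFT
import Mathlib.AlgebraicGeometry.SpreadingOut

set_option autoImplicit false
universe u
open CategoryTheory CategoryTheory.Limits AlgebraicGeometry
open Variety

namespace Groth.Agent.S7659

section aux

/-- In a reduced ring with finitely many minimal primes, for every prime `I` there is `h ∉ I`
killing the kernel of the localization at `I`. -/
theorem exists_notMem_forall_mul_eq_zero {R : Type*} [CommRing R] [_root_.IsReduced R]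
    (hR : (minimalPrimes R).Finite) (I : Ideal R) [hI : I.IsPrime] :
    ∃ h : R, h ∉ I ∧ ∀ x y : R, y * x = 0 → y ∉ I → h * x = 0 := by
  classical
  let M' : Finset (Ideal R) := hR.toFinset.filter (fun p => ¬ p ≤ I)
  have hJ : ¬ (M'.inf id ≤ I) := by
    intro hle
    obtain ⟨p, hp, hpI⟩ := (Ideal.IsPrime.inf_le' hI).mp hle
    exact (Finset.mem_filter.mp hp).2 hpI
  obtain ⟨h, hhJ, hhI⟩ := SetLike.not_le_iff_exists.mp hJ
  refine ⟨h, hhI, fun x y hyx hy => ?_⟩
  have hmem : h * x ∈ sInf (minimalPrimes R) := by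
    rw [Submodule.mem_sInf]
    intro (p : Ideal R) hp
    by_cases hpI : p ≤ I
    · have hpp : p.IsPrime := hp.1.1
      have hxp : x ∈ p := by
        have h0 : y * x ∈ p := hyx ▸ p.zero_mem
        exact (hpp.mem_or_mem h0).resolve_left (fun hyp => hy (hpI hyp))
      exact p.mul_mem_left h hxp
    · have hhp : h ∈ p := by
        have hpM : p ∈ M' := Finset.mem_filter.mpr ⟨hR.mem_toFinset.mpr hp, hpI⟩
        exact (Finset.inf_le hpM : M'.inf id ≤ id p) hhJ
      exact p.mul_mem_right x hhp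
  have h2 : sInf (minimalPrimes R) = (⊥ : Ideal R) := by
    rw [minimalPrimes, Ideal.sInf_minimalPrimes]
    exact nilradical_eq_zero R
  rw [h2] at hmem
  simpa using hmem

/-- An affine open of a scheme with finitely many irreducible components has finitely many
minimal primes. -/
theorem finite_minimalPrimes_of_isOpenImmersion {S : Scheme.{u}}
    (hS : (irreducibleComponents (S : Type u)).Finite) {R : CommRingCat.{u}} (j : Spec R ⟶ S)
    [IsOpenImmersion j] : (minimalPrimes R).Finite := by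
  have hG : (genericPoints S).Finite := genericPoints.finite hS
  have hG' : (j.base ⁻¹' genericPoints S).Finite :=
    hG.preimage (j.isOpenEmbedding.injective.injOn)
  refine (hG'.image (fun y : PrimeSpectrum R => y.asIdeal)).subset ?_
  intro p hp
  have hpp : p.IsPrime := hp.1.1
  refine ⟨⟨p, hpp⟩, ?_, rfl⟩
  show closure {j.base ⟨p, hpp⟩} ∈ irreducibleComponents S
  apply Groth.Agent.S7658.map_generic j (fun z => ⟨⊤, trivial, inferInstance⟩)
  show closure ({(⟨p, hpp⟩ : PrimeSpectrum R)} : Set (PrimeSpectrum R)) ∈ _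
  rw [PrimeSpectrum.closure_singleton]
  exact PrimeSpectrum.zeroLocus_ideal_mem_irreducibleComponents.mpr (by rwa [hpp.radical])

/-- A reduced scheme with finitely many irreducible components is germ-injective. -/
theorem isGermInjective_of_isReduced {S : Scheme.{u}} [IsReduced S]
    (hS : (irreducibleComponents (S : Type u)).Finite) : S.IsGermInjective := by
  suffices ∀ (R : CommRingCat.{u}) (j : Spec R ⟶ S) [IsOpenImmersion j],
      (Spec R).IsGermInjective by
    exact @Scheme.IsGermInjective.of_openCover _ (S.affineOpenCover.openCover)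
      (fun i ↦ this _ (S.affineOpenCover.f i))
  intro R j _
  have h1 : IsReduced (Spec R) := isReduced_of_isOpenImmersion j
  have h2 : _root_.IsReduced R := affine_isReduced_iff R |>.mp h1
  refine Scheme.IsGermInjective.Spec fun I hI => ?_
  obtain ⟨h, hh, H⟩ := exists_notMem_forall_mul_eq_zero
    (finite_minimalPrimes_of_isOpenImmersion hS j) I
  exact ⟨h, hh, fun x y e hy => ⟨1, by simpa using H x y e hy⟩⟩

/-- If `j` and `j ≫ f` are open immersions, so is `j.opensRange.ι ≫ f`. -/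
theorem isOpenImmersion_opensRange_ι_comp {Y X S : Scheme.{u}} (j : Y ⟶ X) [IsOpenImmersion j]
    (f : X ⟶ S) [IsOpenImmersion (j ≫ f)] : IsOpenImmersion (j.opensRange.ι ≫ f) := by
  rw [← Scheme.Hom.isoOpensRange_inv_comp j, Category.assoc]
  infer_instance

end aux

/-- Let f : X → S be a morphism of schemes and x a point with image s such that O_{S,s} → O_{X,x} is an
isomorphism, S is reduced with finitely many irreducible components, and f is locally of finite
type. Then f restricted to some open neighbourhood of x is an open immersion. (The published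
statement assumes f of finite type; this row assumes only that f is locally of finite type.) -/
theorem result {X S : Scheme.{u}} (f : X ⟶ S)
    [LocallyOfFiniteType f] [IsReduced S] (hS : (irreducibleComponents (S : Type u)).Finite)
    (x : X) (hx : IsIso (f.stalkMap x)) :
    ∃ U : X.Opens, x ∈ U ∧ IsOpenImmersion (U.ι ≫ f) := by
  have hgi : S.IsGermInjectiveAt (f x) := isGermInjective_of_isReduced hS (f x)
  obtain ⟨V, hsV, g, hg1, hg2⟩ := spread_out_of_isGermInjective (𝟙 S) f (x := f x) (y := x) rfl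
    (inv (f.stalkMap x)) (by simp)
  rw [Category.comp_id] at hg2
  have hx' : x ∈ f ⁻¹ᵁ V := hsV
  -- the section `g` followed by nothing, and `f` followed by `g`, agree near `x`
  have hover : (f ⁻¹ᵁ V).ι ≫ f = ((f ∣_ V) ≫ g) ≫ f := by
    rw [Category.assoc, hg2, morphismRestrict_ι]
  have hkey : (f ⁻¹ᵁ V).fromSpecStalkOfMem x hx' ≫ (f ∣_ V) =
      Spec.map (f.stalkMap x) ≫ V.fromSpecStalkOfMem (f x) hsV := by
    rw [← cancel_mono V.ι, Category.assoc, Category.assoc, morphismRestrict_ι,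
      Scheme.Opens.fromSpecStalkOfMem_ι_assoc, Scheme.Opens.fromSpecStalkOfMem_ι,
      Scheme.SpecMap_stalkMap_fromSpecStalk]
  have hstalk : (f ⁻¹ᵁ V).toScheme.fromSpecStalk ⟨x, hx'⟩ ≫ (f ⁻¹ᵁ V).ι =
      (f ⁻¹ᵁ V).toScheme.fromSpecStalk ⟨x, hx'⟩ ≫ (f ∣_ V) ≫ g := by
    have hdef : Spec.map (inv ((f ⁻¹ᵁ V).ι.stalkMap ⟨x, hx'⟩)) ≫
        (f ⁻¹ᵁ V).toScheme.fromSpecStalk ⟨x, hx'⟩ = (f ⁻¹ᵁ V).fromSpecStalkOfMem x hx' := rfl
    rw [← cancel_epi (Spec.map (inv ((f ⁻¹ᵁ V).ι.stalkMap ⟨x, hx'⟩))), reassoc_of% hdef,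
      reassoc_of% hdef]
    have e1 : (f ⁻¹ᵁ V).fromSpecStalkOfMem x hx' ≫ (f ⁻¹ᵁ V).ι = X.fromSpecStalk x :=
      Scheme.Opens.fromSpecStalkOfMem_ι _ _ _
    have e2 : (f ⁻¹ᵁ V).fromSpecStalkOfMem x hx' ≫ (f ∣_ V) ≫ g = X.fromSpecStalk x := by
      rw [reassoc_of% hkey, ← hg1, ← Category.assoc, ← Spec.map_comp, IsIso.inv_hom_id,
        Spec.map_id, Category.id_comp]
    exact e1.trans e2.symm
  obtain ⟨U', hxU', hU'⟩ := Groth.Agent.Lib.SpreadOutLFT.spread_out_unique_of_locallyOfFiniteType'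
    f (f ⁻¹ᵁ V).ι ((f ∣_ V) ≫ g) hover (x := ⟨x, hx'⟩) hstalk
  -- assemble the local isomorphism
  let j₁ : U'.toScheme ⟶ X := U'.ι ≫ (f ⁻¹ᵁ V).ι
  let f₁ : U'.toScheme ⟶ V.toScheme := U'.ι ≫ (f ∣_ V)
  have hf₁g : f₁ ≫ g = j₁ := by
    simp only [f₁, j₁, Category.assoc]
    exact hU'.symm
  have hf₁V : f₁ ≫ V.ι = j₁ ≫ f := by
    simp only [f₁, j₁, Category.assoc, morphismRestrict_ι]
  let V₁ : V.toScheme.Opens := g ⁻¹ᵁ j₁.opensRange
  have hr1 : Set.range f₁ ⊆ Set.range V₁.ι := by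
    rw [Scheme.Opens.range_ι]
    rintro _ ⟨u, rfl⟩
    show g (f₁ u) ∈ j₁.opensRange
    rw [← Scheme.Hom.comp_apply, hf₁g]
    exact ⟨u, rfl⟩
  have hr2 : Set.range (V₁.ι ≫ g) ⊆ Set.range j₁ := by
    rintro _ ⟨v, rfl⟩
    exact v.2
  let f₁' := IsOpenImmersion.lift V₁.ι f₁ hr1
  let g₁ := IsOpenImmersion.lift j₁ (V₁.ι ≫ g) hr2
  have hf₁' : f₁' ≫ V₁.ι = f₁ := IsOpenImmersion.lift_fac _ _ _
  have hg₁ : g₁ ≫ j₁ = V₁.ι ≫ g := IsOpenImmersion.lift_fac _ _ _
  have h1 : f₁' ≫ g₁ = 𝟙 _ := by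
    rw [← cancel_mono j₁, Category.assoc, hg₁, reassoc_of% hf₁', hf₁g, Category.id_comp]
  have h2 : g₁ ≫ f₁' = 𝟙 _ := by
    rw [← cancel_mono (V₁.ι ≫ V.ι), Category.assoc, reassoc_of% hf₁', hf₁V, reassoc_of% hg₁,
      hg2, Category.id_comp]
  have hiso : IsIso f₁' := ⟨g₁, h1, h2⟩
  have hfac : j₁ ≫ f = f₁' ≫ V₁.ι ≫ V.ι := by rw [reassoc_of% hf₁', hf₁V]
  have hoi : IsOpenImmersion (j₁ ≫ f) := by
    rw [hfac]
    infer_instance
  exact ⟨j₁.opensRange, ⟨⟨⟨x, hx'⟩, hxU'⟩, rfl⟩, isOpenImmersion_opensRange_ι_comp j₁ f⟩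

end Groth.Agent.S7659
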