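-- Statement S4442.
import Groth.Statements.S4442
import Groth.Agent.Lib.H30DimField
import Mathlib

set_option autoImplicit false
universe u
open CategoryTheory CategoryTheory.Limits AlgebraicGeometry
attribute [local instance] Curv2.resAlgebra
open EGA2

namespace Groth.Agent.S4442

open Groth.Agent.Lib.H30DimField

theorem main (k : Type u) [Field k] (X : Scheme.{u})
    [X.Over (Spec (CommRingCat.of k))] [LocallyOfFiniteType (X ↘ (Spec (CommRingCat.of k)))] :
    (∀ x : X, closure ({x} : Set X) ∈ irreducibleComponents (X : Type u) → Algebra.trdeg k (X.residueField x) = 1) ↔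
      ∀ x : X, IsClosed ({x} : Set X) → ringKrullDim (X.presheaf.stalk x) = 1 := by
  haveI := isLocallyNoetherian k X
  have hδ := isDimFun k X
  constructor
  · intro ha x hx
    obtain ⟨ξ, hξmax, hξx, hdim⟩ := stalk_dim_exists hδ x
    have h1 := ha ξ ((closure_mem_irreducibleComponents_iff ξ).mpr hξmax)
    have h2 : td k X ξ = ((1 : ℕ) : ℤ) := td_eq_of_trdeg_eq k X ξ 1 (by exact_mod_cast h1)
    rw [hdim, h2, td_eq_zero_of_isClosed k X x hx]
    rfl
  · intro hb x hx
    have hmax := (closure_mem_irreducibleComponents_iff x).mp hx
    obtain ⟨c, -, hxc, hc⟩ := exists_closed_point k X x Set.univ isOpen_univ trivial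
    have h1 := stalk_dim_ge hδ c x hxc
    rw [hb c hc, td_eq_zero_of_isClosed k X c hc, sub_zero] at h1
    have h2 : (td k X x).toNat ≤ 1 := by exact_mod_cast h1
    have h3 := td_nonneg k X x
    have h4 : td k X x ≠ 0 := by
      intro h0
      have hcl := isClosed_of_td_eq_zero k X x h0
      obtain ⟨ξ, -, hξx, hdim⟩ := stalk_dim_exists hδ x
      rw [hmax ξ hξx, sub_self, hb x hcl] at hdim
      exact absurd hdim (by decide)
    have h5 : td k X x = ((1 : ℕ) : ℤ) := by omega
    have := (trdeg_eq_iff k X x 1).mpr h5
    exact_mod_cast this

/-- (a) ⇔ (b): let X be a scheme of finite type over a field k. The residue fields of the generic points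
of the irreducible components of X all have transcendence degree one over k if and only if the local
ring of X at every closed point has dimension one. (The published statement has a third equivalent
condition: the irreducible closed subsets of X other than the irreducible components are exactly the
closed points of X. This row states only the equivalence of the first two.) -/
theorem result (k : Type u) [Field k] (X : Scheme.{u})
    [X.Over (Spec (CommRingCat.of k))] [LocallyOfFiniteType (X ↘ (Spec (CommRingCat.of k)))]
    [QuasiCompact (X ↘ (Spec (CommRingCat.of k)))] :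
    (∀ x : X, closure ({x} : Set X) ∈ irreducibleComponents (X : Type u) → Algebra.trdeg k (X.residueField x) = 1) ↔
      ∀ x : X, IsClosed ({x} : Set X) → ringKrullDim (X.presheaf.stalk x) = 1 := by
  exact main k X

end Groth.Agent.S4442
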