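import Groth.Statements.S4445
import Groth.Agent.Lib.CurveMor
import Groth.Agent.Lib.H71GeomRedAt

set_option autoImplicit false
universe u
open CategoryTheory CategoryTheory.Limits AlgebraicGeometry
attribute [local instance] Curv2.stalkAlgebra
open EGA2

namespace Groth.Agent.S4445

/-- Let X be a normal irreducible algebraic curve over a field k with field of rational functions K, and
Y an integral complete (proper over k) algebraic curve with field of rational functions L. Dominant
k-morphisms X ⟶ Y correspond bijectively to k-embeddings L → K: for every k-algebra homomorphism φ :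
L → K there is exactly one k-morphism u : X ⟶ Y mapping the generic point of X to the generic point
of Y and inducing φ on the stalks at the generic points. -/
theorem result (k : Type u) [Field k] (X Y : Scheme.{u})
    [X.Over (Spec (CommRingCat.of k))] [LocallyOfFiniteType (X ↘ (Spec (CommRingCat.of k)))]
    [QuasiCompact (X ↘ (Spec (CommRingCat.of k)))] [IsSeparated (X ↘ (Spec (CommRingCat.of k)))] [IsIntegral X]
    (hX : ∀ x : X, IsClosed ({x} : Set X) → ringKrullDim (X.presheaf.stalk x) = 1) (hnorm : Pi1.IsNormalScheme X)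
    [Y.Over (Spec (CommRingCat.of k))] [IsProper (Y ↘ (Spec (CommRingCat.of k)))] [IsIntegral Y]
    (hY : ∀ y : Y, IsClosed ({y} : Set Y) → ringKrullDim (Y.presheaf.stalk y) = 1)
    (φ : Y.functionField →ₐ[k] X.functionField) :
    ∃! u : X ⟶ Y, u ≫ (Y ↘ (Spec (CommRingCat.of k))) = X ↘ (Spec (CommRingCat.of k)) ∧
      ∃ hu : u.base (genericPoint X) = genericPoint Y,
        (Y.presheaf.stalkSpecializes (specializes_of_eq hu) ≫ u.stalkMap (genericPoint X)).hom = (φ : Y.functionField →+* X.functionField) := by
  have hq : ValuativeCriterion.Existence (Y ↘ (Spec (CommRingCat.of k))) := by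
    have h : UniversallyClosed (Y ↘ (Spec (CommRingCat.of k))) := inferInstance
    rw [UniversallyClosed.eq_valuativeCriterion] at h
    exact h.1
  have hLN : IsLocallyNoetherian X :=
    LocallyOfFiniteType.isLocallyNoetherian (X ↘ (Spec (CommRingCat.of k)))
  have hcpt : CompactSpace X :=
    QuasiCompact.compactSpace_of_compactSpace (X ↘ (Spec (CommRingCat.of k)))
  have hval : ∀ x : X, ValuationRing (X.presheaf.stalk x) := fun x => by
    have hic : IsIntegrallyClosed (X.presheaf.stalk x) := (hnorm x).2
    exact Groth.Agent.Lib.ExtVal.valuationRing_of_isIntegrallyClosed_of_dim_le_one _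
      (Groth.Agent.Lib.ExtVal.dim_stalk_le_one_of_closed hX x)
  let φc : Y.functionField ⟶ X.functionField :=
    CommRingCat.ofHom (φ : Y.functionField →+* X.functionField)
  have hφ : Spec.map φc ≫ Y.fromSpecStalk (genericPoint Y) ≫ (Y ↘ (Spec (CommRingCat.of k))) =
      X.fromSpecStalk (genericPoint X) ≫ (X ↘ (Spec (CommRingCat.of k))) := by
    rw [Groth.Agent.Lib.H71GeomRedAt.fromSpecStalk_comp k Y (genericPoint Y),
      Groth.Agent.Lib.H71GeomRedAt.fromSpecStalk_comp k X (genericPoint X), ← Spec.map_comp]
    congr 1
    ext c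
    exact φ.commutes c
  have key := Groth.Agent.Lib.CurveMor.existsUnique_of_functionField_hom
    (X ↘ (Spec (CommRingCat.of k))) (Y ↘ (Spec (CommRingCat.of k))) hq hval φc hφ
  refine (existsUnique_congr fun u => ?_).mp key
  rw [Groth.Agent.Lib.CurveMor.fromSpecStalk_comp_eq_iff u φc]
  refine and_congr Iff.rfl ?_
  constructor
  · rintro ⟨hu, h⟩
    exact ⟨hu, congrArg CommRingCat.Hom.hom h⟩
  · rintro ⟨hu, h⟩
    exact ⟨hu, CommRingCat.hom_ext h⟩

end Groth.Agent.S4445
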