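import Groth.Statements.S14501
import Mathlib
-- import your own Groth.Agent.* helpers here

set_option autoImplicit false
universe u
open IntTh

namespace Groth.Agent.S14501

lemma finiteLength_of_smul_eq_zero (A : Type u) [CommRing A] [IsDomain A] [IsNoetherianRing A]
    (hA : ringKrullDim A = 1)
    (Q : Type u) [AddCommGroup Q] [Module A Q] [Module.Finite A Q] (a : A) (ha : a ≠ 0)
    (hQ : ∀ q : Q, a • q = 0) :
    Module.length A Q ≠ ⊤ := by
  set I := Ideal.span {a} with hI
  have hdim : ringKrullDim (A ⧸ I) ≤ 0 := by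
    have h1 := ringKrullDim_quotient_succ_le_of_nonZeroDivisor (mem_nonZeroDivisors_of_ne_zero ha)
    rw [hA] at h1
    change ringKrullDim (A ⧸ I) + 1 ≤ 1 at h1
    generalize ringKrullDim (A ⧸ I) = x at h1 ⊢
    induction x using WithBot.recBotCoe with
    | bot => exact bot_le
    | coe n =>
      have h2 : ((n + 1 : ℕ∞) : WithBot ℕ∞) ≤ ((1 : ℕ∞) : WithBot ℕ∞) := by exact_mod_cast h1
      rw [WithBot.coe_le_coe] at h2
      have : n = 0 := by
        induction n using ENat.recTopCoe with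
        | top => simp at h2
        | coe k =>
          have : (k : ℕ∞) + 1 ≤ 1 := h2
          have : k + 1 ≤ 1 := by exact_mod_cast this
          have : k = 0 := by omega
          simp [this]
      rw [this]; rfl
  have hk : Ring.KrullDimLE 0 (A ⧸ I) := by
    rw [Ring.KrullDimLE, Order.krullDimLE_iff]
    exact_mod_cast hdim
  have hart : IsArtinianRing (A ⧸ I) := isArtinianRing_iff_krullDimLE_zero.mpr hk
  have htors : Module.IsTorsionBySet A Q I := by
    rw [hI, Module.isTorsionBySet_span_singleton_iff]; exact hQ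
  let _ := htors.module
  have hst : IsScalarTower A (A ⧸ I) Q := htors.isScalarTower
  have hfin : Module.Finite (A ⧸ I) Q := Module.Finite.of_restrictScalars_finite A (A ⧸ I) Q
  rw [Module.length_eq_of_surjective (R := A ⧸ I) Ideal.Quotient.mk_surjective]
  exact Module.length_ne_top

lemma length_chain {R M : Type*} [Ring R] [AddCommGroup M] [Module R M] (P Q T : Submodule R M)
    (h1 : P ≤ Q) (h2 : Q ≤ T) :
    Module.length R (↥T ⧸ P.submoduleOf T) =
      Module.length R (↥Q ⧸ P.submoduleOf Q) + Module.length R (↥T ⧸ Q.submoduleOf T) := by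
  let f : (↥Q ⧸ P.submoduleOf Q) →ₗ[R] (↥T ⧸ P.submoduleOf T) :=
    Submodule.mapQ _ _ (Submodule.inclusion h2) (fun x hx => hx)
  let g : (↥T ⧸ P.submoduleOf T) →ₗ[R] (↥T ⧸ Q.submoduleOf T) :=
    Submodule.mapQ _ _ LinearMap.id (fun x hx => h1 hx)
  have hf : ∀ x, f (Submodule.Quotient.mk x) = Submodule.Quotient.mk (Submodule.inclusion h2 x) :=
    fun x => rfl
  have hg : ∀ x, g (Submodule.Quotient.mk x) = Submodule.Quotient.mk x := fun x => rfl
  refine Module.length_eq_add_of_exact f g ?_ ?_ ?_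
  · rw [← LinearMap.ker_eq_bot, LinearMap.ker_eq_bot']
    intro x hx
    obtain ⟨x, rfl⟩ := Submodule.mkQ_surjective _ x
    rw [Submodule.mkQ_apply] at hx ⊢
    rw [hf, Submodule.Quotient.mk_eq_zero] at hx
    rw [Submodule.Quotient.mk_eq_zero]
    exact hx
  · intro y
    obtain ⟨y, rfl⟩ := Submodule.mkQ_surjective _ y
    exact ⟨Submodule.mkQ _ y, rfl⟩
  · intro y
    constructor
    · intro hy
      obtain ⟨t, rfl⟩ := Submodule.mkQ_surjective _ y
      rw [Submodule.mkQ_apply, hg, Submodule.Quotient.mk_eq_zero] at hy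
      exact ⟨Submodule.Quotient.mk ⟨(t : M), hy⟩, rfl⟩
    · rintro ⟨x, rfl⟩
      obtain ⟨q, rfl⟩ := Submodule.mkQ_surjective _ x
      rw [Submodule.mkQ_apply, hf, hg, Submodule.Quotient.mk_eq_zero]
      exact q.2

section
variable (A : Type u) [CommRing A] [IsDomain A] (K : Type u) [Field K] [Algebra A K]
    [IsFractionRing A K] (V : Type u) [AddCommGroup V] [Module K V] [Module A V]
    [IsScalarTower A K V]

lemma exists_smul_mem (N : Submodule A V) (hN : Submodule.span K (N : Set V) = ⊤) (v : V) :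
    ∃ a : A, a ≠ 0 ∧ a • v ∈ N := by
  have hv : v ∈ Submodule.span K (N : Set V) := hN ▸ Submodule.mem_top
  induction hv using Submodule.span_induction with
  | mem x hx => exact ⟨1, one_ne_zero, by simpa using hx⟩
  | zero => exact ⟨1, one_ne_zero, by simp⟩
  | add x y _ _ hx hy =>
    obtain ⟨a, ha, hax⟩ := hx
    obtain ⟨b, hb, hby⟩ := hy
    refine ⟨a * b, mul_ne_zero ha hb, ?_⟩
    rw [smul_add]
    refine add_mem ?_ ?_
    · rw [mul_comm, mul_smul]; exact N.smul_mem b hax
    · rw [mul_smul]; exact N.smul_mem a hby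
  | smul c x _ hx =>
    obtain ⟨a, ha, hax⟩ := hx
    obtain ⟨r, s, hs, rfl⟩ := IsFractionRing.div_surjective (A := A) c
    refine ⟨s * a, mul_ne_zero (nonZeroDivisors.ne_zero hs) ha, ?_⟩
    have hs0 : algebraMap A K s ≠ 0 := by
      intro h
      exact nonZeroDivisors.ne_zero hs ((IsFractionRing.injective A K) (h.trans (map_zero _).symm))
    have : (s * a) • ((algebraMap A K r / algebraMap A K s) • x) = r • (a • x) := by
      rw [← algebraMap_smul K (s * a), smul_smul, ← algebraMap_smul K r, ← algebraMap_smul K a,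
        smul_smul]
      congr 1
      rw [map_mul]
      field_simp
    rw [this]; exact N.smul_mem r hax

lemma exists_smul_le (M N : Submodule A V) (hM : M.FG)
    (hN : Submodule.span K (N : Set V) = ⊤) : ∃ a : A, a ≠ 0 ∧ ∀ m ∈ M, a • m ∈ N := by
  classical
  obtain ⟨s, rfl⟩ := hM
  induction s using Finset.induction_on with
  | empty => exact ⟨1, one_ne_zero, by simp⟩
  | insert x s hx ih =>
    obtain ⟨a, ha, h⟩ := ih
    obtain ⟨b, hb, hbx⟩ := exists_smul_mem A K V N hN x
    refine ⟨a * b, mul_ne_zero ha hb, ?_⟩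
    intro m hm
    rw [Finset.coe_insert, Submodule.mem_span_insert] at hm
    obtain ⟨c, z, hz, rfl⟩ := hm
    rw [smul_add]
    refine add_mem ?_ ?_
    · rw [smul_comm, mul_smul]; exact N.smul_mem _ (N.smul_mem a hbx)
    · rw [mul_comm, mul_smul]; exact N.smul_mem b (h z hz)

end

lemma toNat_split {x y z : ℕ∞} (h : x = y + z) (hx : x ≠ ⊤) :
    (x.toNat : ℤ) = y.toNat + z.toNat := by
  have hy : y ≠ ⊤ := fun hy => hx (by rw [h, hy, top_add])
  have hz : z ≠ ⊤ := fun hz => hx (by rw [h, hz, add_top])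
  rw [h, ENat.toNat_add hy hz]; push_cast; rfl

/-- Take a one-dimensional Noetherian local domain A with fraction field K, V a finite-dimensional
K-vector space and M₁, M₂, M₃ lattices in V (finitely generated A-submodules spanning V over K).
Define the distance d(M, M') as length_A(M/(M ∩ M')) − length_A(M'/(M ∩ M')), with the (finite)
lengths read as natural numbers. Then d(M₁, M₃) = d(M₁, M₂) + d(M₂, M₃). -/
theorem result (A : Type u) [CommRing A] [IsDomain A] [IsNoetherianRing A]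
    [IsLocalRing A] (hA : ringKrullDim A = 1) (K : Type u) [Field K] [Algebra A K]
    [IsFractionRing A K] (V : Type u) [AddCommGroup V] [Module K V] [Module A V]
    [IsScalarTower A K V] [FiniteDimensional K V]
    (M₁ M₂ M₃ : Submodule A V) [Submodule.IsLattice K M₁] [Submodule.IsLattice K M₂]
    [Submodule.IsLattice K M₃] :
    ((Module.length A (↥M₁ ⧸ (M₁ ⊓ M₃).submoduleOf M₁)).toNat : ℤ) -
        ((Module.length A (↥M₃ ⧸ (M₁ ⊓ M₃).submoduleOf M₃)).toNat : ℤ) =
      (((Module.length A (↥M₁ ⧸ (M₁ ⊓ M₂).submoduleOf M₁)).toNat : ℤ) -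
        ((Module.length A (↥M₂ ⧸ (M₁ ⊓ M₂).submoduleOf M₂)).toNat : ℤ)) +
      (((Module.length A (↥M₂ ⧸ (M₂ ⊓ M₃).submoduleOf M₂)).toNat : ℤ) -
        ((Module.length A (↥M₃ ⧸ (M₂ ⊓ M₃).submoduleOf M₃)).toNat : ℤ)) := by
  classical
  set L : Submodule A V := M₁ ⊓ M₂ ⊓ M₃ with hL
  have hL1 : L ≤ M₁ := inf_le_left.trans inf_le_left
  have hL2 : L ≤ M₂ := inf_le_left.trans inf_le_right
  have hL3 : L ≤ M₃ := inf_le_right
  have hsp : ∀ (N : Submodule A V) [Submodule.IsLattice K N], Submodule.span K (N : Set V) = ⊤ :=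
    fun N _ => Submodule.IsLattice.span_eq_top
  have hfg : ∀ (N : Submodule A V) [Submodule.IsLattice K N], N.FG :=
    fun N _ => Submodule.IsLattice.fg
  -- finiteness of the length of `M / L`
  have hfin : ∀ (M : Submodule A V) [Submodule.IsLattice K M] (hLM : L ≤ M),
      Module.length A (↥M ⧸ L.submoduleOf M) ≠ ⊤ := by
    intro M _ hLM
    obtain ⟨a₁, ha₁, h₁⟩ := exists_smul_le A K V M M₁ (hfg M) (hsp M₁)
    obtain ⟨a₂, ha₂, h₂⟩ := exists_smul_le A K V M M₂ (hfg M) (hsp M₂)
    obtain ⟨a₃, ha₃, h₃⟩ := exists_smul_le A K V M M₃ (hfg M) (hsp M₃)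
    refine finiteLength_of_smul_eq_zero A hA _ (a₁ * a₂ * a₃)
      (mul_ne_zero (mul_ne_zero ha₁ ha₂) ha₃) ?_
    intro q
    obtain ⟨m, rfl⟩ := Submodule.mkQ_surjective _ q
    rw [← map_smul, Submodule.mkQ_apply, Submodule.Quotient.mk_eq_zero]
    change ((a₁ * a₂ * a₃) • m : ↥M).1 ∈ L
    rw [Submodule.coe_smul]
    refine ⟨⟨?_, ?_⟩, ?_⟩
    · rw [mul_assoc, mul_comm, mul_smul]; exact M₁.smul_mem _ (h₁ _ m.2)
    · rw [mul_comm a₁ a₂, mul_assoc, mul_comm, mul_smul]; exact M₂.smul_mem _ (h₂ _ m.2)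
    · rw [mul_smul]; exact M₃.smul_mem _ (h₃ _ m.2)
  have c12a := toNat_split (length_chain L (M₁ ⊓ M₂) M₁ (le_inf hL1 hL2) inf_le_left) (hfin M₁ hL1)
  have c12b := toNat_split (length_chain L (M₁ ⊓ M₂) M₂ (le_inf hL1 hL2) inf_le_right) (hfin M₂ hL2)
  have c23a := toNat_split (length_chain L (M₂ ⊓ M₃) M₂ (le_inf hL2 hL3) inf_le_left) (hfin M₂ hL2)
  have c23b := toNat_split (length_chain L (M₂ ⊓ M₃) M₃ (le_inf hL2 hL3) inf_le_right) (hfin M₃ hL3)
  have c13a := toNat_split (length_chain L (M₁ ⊓ M₃) M₁ (le_inf hL1 hL3) inf_le_left) (hfin M₁ hL1)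
  have c13b := toNat_split (length_chain L (M₁ ⊓ M₃) M₃ (le_inf hL1 hL3) inf_le_right) (hfin M₃ hL3)
  linarith

end Groth.Agent.S14501
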