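import Groth.Statements.S14502
import Mathlib
import Groth.Agent.S14501
-- import your own Groth.Agent.* helpers here

set_option autoImplicit false
universe u
open IntTh

namespace Groth.Agent.S14502

open Groth.Agent.S14501

section ord
variable (A : Type u) [CommRing A] [IsDomain A] [IsNoetherianRing A] (hA : ringKrullDim A = 1)
  (K : Type u) [Field K] [Algebra A K] [IsFractionRing A K]

include hA in
theorem krullDimLE_one : Ring.KrullDimLE 1 A := by
  rw [Ring.KrullDimLE, Order.krullDimLE_iff]
  have : ringKrullDim A ≤ 1 := le_of_eq hA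
  exact_mod_cast this

include hA in
theorem ordFrac_eq (f : K) :
    CycAlg.ordFrac A K f =
      haveI := krullDimLE_one A hA
      WithZero.recZeroCoe (motive := fun _ => ℤ) 0 (fun z => Multiplicative.toAdd z)
        (Ring.ordFrac A f) := by
  have := krullDimLE_one A hA
  have h : IsNoetherianRing A ∧ Ring.KrullDimLE 1 A ∧ Nontrivial A ∧ IsFractionRing A K :=
    ⟨inferInstance, inferInstance, inferInstance, inferInstance⟩
  rw [CycAlg.ordFrac, dif_pos h]

include hA in
theorem ordFrac_mul {x y : K} (hx : x ≠ 0) (hy : y ≠ 0) :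
    CycAlg.ordFrac A K (x * y) = CycAlg.ordFrac A K x + CycAlg.ordFrac A K y := by
  haveI := krullDimLE_one A hA
  rw [ordFrac_eq A hA K, ordFrac_eq A hA K, ordFrac_eq A hA K, map_mul]
  have h1 : Ring.ordFrac A x ≠ 0 := (map_ne_zero _).mpr hx
  have h2 : Ring.ordFrac A y ≠ 0 := (map_ne_zero _).mpr hy
  obtain ⟨a, ha⟩ := WithZero.ne_zero_iff_exists.mp h1
  obtain ⟨b, hb⟩ := WithZero.ne_zero_iff_exists.mp h2
  rw [← ha, ← hb, ← WithZero.coe_mul]
  simp only [WithZero.recZeroCoe_coe, toAdd_mul]

include hA in
theorem ordFrac_one : CycAlg.ordFrac A K 1 = 0 := by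
  have := ordFrac_mul A hA K (x := (1 : K)) (y := 1) one_ne_zero one_ne_zero
  rw [mul_one] at this
  linarith

include hA in
theorem ordFrac_inv {x : K} (hx : x ≠ 0) : CycAlg.ordFrac A K x⁻¹ = - CycAlg.ordFrac A K x := by
  have := ordFrac_mul A hA K hx (inv_ne_zero hx)
  rw [mul_inv_cancel₀ hx, ordFrac_one A hA K] at this
  linarith

include hA in
theorem ordFrac_algebraMap {r : A} (hr : r ≠ 0) :
    CycAlg.ordFrac A K (algebraMap A K r) =
      ((Module.length A (A ⧸ Ideal.span {r})).toNat : ℤ) := by
  haveI := krullDimLE_one A hA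
  have hr' : r ∈ nonZeroDivisors A := mem_nonZeroDivisors_of_ne_zero hr
  rw [ordFrac_eq A hA K, Ring.ordFrac_eq_ord A hr, Ring.ordMonoidWithZeroHom_eq_ord hr']
  have hne := Ring.ord_ne_top (R := A) hr'
  rw [Ring.ord] at hne ⊢
  obtain ⟨n, hn⟩ := ENat.ne_top_iff_exists.mp hne
  rw [← hn]
  simp

end ord

section dist
variable {A : Type u} [CommRing A] {V : Type u} [AddCommGroup V] [Module A V]

/-- The lattice distance. -/
noncomputable def dist (M N : Submodule A V) : ℤ :=
  ((Module.length A (↥M ⧸ (M ⊓ N).submoduleOf M)).toNat : ℤ) -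
    ((Module.length A (↥N ⧸ (M ⊓ N).submoduleOf N)).toNat : ℤ)

theorem dist_self (M : Submodule A V) : dist M M = 0 := sub_self _

theorem length_map_eq (e : V ≃ₗ[A] V) (M P : Submodule A V) :
    Module.length A (↥(M.map (e : V →ₗ[A] V)) ⧸
        (P.map (e : V →ₗ[A] V)).submoduleOf (M.map (e : V →ₗ[A] V))) =
      Module.length A (↥M ⧸ P.submoduleOf M) := by
  symm
  refine LinearEquiv.length_eq (Submodule.Quotient.equiv _ _ (e.submoduleMap M) ?_)
  ext ⟨y, hy⟩
  simp only [Submodule.mem_map, Submodule.submoduleOf, Submodule.mem_comap, Submodule.subtype_apply,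
    Subtype.exists]
  constructor
  · rintro ⟨x, hx, hxP, h⟩
    have : e x = y := congrArg Subtype.val h
    exact ⟨x, hxP, this⟩
  · rintro ⟨x, hxP, rfl⟩
    obtain ⟨x', hx', hxe⟩ := hy
    have : x' = x := e.injective hxe
    subst this
    exact ⟨x', hx', hxP, rfl⟩

theorem dist_map (e : V ≃ₗ[A] V) (M N : Submodule A V) :
    dist (M.map (e : V →ₗ[A] V)) (N.map (e : V →ₗ[A] V)) = dist M N := by
  unfold dist
  have h : M.map (e : V →ₗ[A] V) ⊓ N.map (e : V →ₗ[A] V) = (M ⊓ N).map (e : V →ₗ[A] V) :=
    (Submodule.map_inf _ e.injective).symm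
  rw [h, length_map_eq e M (M ⊓ N), length_map_eq e N (M ⊓ N)]

theorem dist_of_le {M N : Submodule A V} (h : N ≤ M) :
    dist M N = ((Module.length A (↥M ⧸ N.submoduleOf M)).toNat : ℤ) := by
  unfold dist
  rw [inf_eq_right.mpr h]
  have : Module.length A (↥N ⧸ N.submoduleOf N) = 0 := by
    rw [Module.length_eq_zero_iff]
    rw [Submodule.submoduleOf_self]
    infer_instance
  rw [this]
  simp

end dist

section lattice
variable (A : Type u) [CommRing A] [IsDomain A] [IsNoetherianRing A] [IsLocalRing A]
  (hA : ringKrullDim A = 1) (K : Type u) [Field K] [Algebra A K] [IsFractionRing A K]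
  (V : Type u) [AddCommGroup V] [Module K V] [Module A V] [IsScalarTower A K V]
  [FiniteDimensional K V]

omit [IsDomain A] [IsNoetherianRing A] [IsLocalRing A] [IsFractionRing A K]
  [FiniteDimensional K V] in
theorem isLattice_map (M : Submodule A V) [Submodule.IsLattice K M] (φ : V ≃ₗ[K] V) :
    Submodule.IsLattice K (M.map (φ.toLinearMap.restrictScalars A)) where
  fg := Submodule.FG.map _ Submodule.IsLattice.fg
  span_eq_top := by
    have h1 : ((M.map (φ.toLinearMap.restrictScalars A) : Submodule A V) : Set V) =
        φ.toLinearMap '' (M : Set V) := rfl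
    rw [h1, ← Submodule.map_span, Submodule.IsLattice.span_eq_top, Submodule.map_top,
      LinearMap.range_eq_top]
    exact φ.surjective

include hA in
theorem dist_add (M₁ M₂ M₃ : Submodule A V) [Submodule.IsLattice K M₁] [Submodule.IsLattice K M₂]
    [Submodule.IsLattice K M₃] : dist M₁ M₃ = dist M₁ M₂ + dist M₂ M₃ :=
  Groth.Agent.S14501.result A hA K V M₁ M₂ M₃

include hA in
theorem length_lt_top (M N : Submodule A V) [Submodule.IsLattice K M] [Submodule.IsLattice K N] :
    Module.length A (↥M ⧸ (M ⊓ N).submoduleOf M) < ⊤ := by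
  obtain ⟨a, ha, h⟩ := exists_smul_le A K V M N Submodule.IsLattice.fg
    Submodule.IsLattice.span_eq_top
  refine lt_top_iff_ne_top.mpr (finiteLength_of_smul_eq_zero A hA _ a ha ?_)
  intro q
  obtain ⟨m, rfl⟩ := Submodule.mkQ_surjective _ q
  rw [← map_smul, Submodule.mkQ_apply, Submodule.Quotient.mk_eq_zero]
  change ((a • m : ↥M) : V) ∈ M ⊓ N
  rw [Submodule.coe_smul]
  exact ⟨M.smul_mem a m.2, h _ m.2⟩

include hA in
theorem dist_comm (M N : Submodule A V) [Submodule.IsLattice K M] [Submodule.IsLattice K N] :
    dist M N = - dist N M := by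
  have := dist_add A hA K V M N M
  rw [dist_self] at this
  linarith

include hA in
/-- The distance from a lattice to its image does not depend on the lattice. -/
theorem dist_map_indep (M L : Submodule A V) [Submodule.IsLattice K M] [Submodule.IsLattice K L]
    (φ : V ≃ₗ[K] V) :
    dist M (M.map (φ.toLinearMap.restrictScalars A)) =
      dist L (L.map (φ.toLinearMap.restrictScalars A)) := by
  haveI := isLattice_map A K V M φ
  haveI := isLattice_map A K V L φ
  have h1 := dist_add A hA K V M L (M.map (φ.toLinearMap.restrictScalars A))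
  have h2 := dist_add A hA K V L (L.map (φ.toLinearMap.restrictScalars A))
    (M.map (φ.toLinearMap.restrictScalars A))
  have h3 : dist (L.map (φ.toLinearMap.restrictScalars A))
      (M.map (φ.toLinearMap.restrictScalars A)) = dist L M :=
    dist_map (φ.restrictScalars A) L M
  have h4 := dist_comm A hA K V M L
  linarith

end lattice

section std
variable (A : Type u) [CommRing A] [IsDomain A] [IsNoetherianRing A] [IsLocalRing A]
  (hA : ringKrullDim A = 1) (K : Type u) [Field K] [Algebra A K] [IsFractionRing A K]
  (V : Type u) [AddCommGroup V] [Module K V] [Module A V] [IsScalarTower A K V]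
  [FiniteDimensional K V] {ι : Type} [Fintype ι] [DecidableEq ι] (b : Module.Basis ι K V)

/-- The standard lattice of a basis. -/
abbrev stdL : Submodule A V := Submodule.span A (Set.range b)

omit [IsDomain A] [IsNoetherianRing A] [IsLocalRing A] [IsFractionRing A K]
  [FiniteDimensional K V] [DecidableEq ι] in
theorem isLattice_stdL : Submodule.IsLattice K (stdL A K V b) where
  fg := Submodule.fg_span (Set.finite_range b)
  span_eq_top := by
    rw [eq_top_iff, ← b.span_eq]
    exact Submodule.span_mono Submodule.subset_span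

/-- The distance from the standard lattice to its image. -/
noncomputable def F (φ : V ≃ₗ[K] V) : ℤ :=
  dist (stdL A K V b) ((stdL A K V b).map (φ.toLinearMap.restrictScalars A))

include hA in
theorem F_trans (φ ψ : V ≃ₗ[K] V) : F A K V b (φ.trans ψ) = F A K V b φ + F A K V b ψ := by
  haveI := isLattice_stdL A K V b
  haveI := isLattice_map A K V (stdL A K V b) φ
  haveI := isLattice_map A K V (stdL A K V b) ψ
  haveI := isLattice_map A K V (stdL A K V b) (φ.trans ψ)
  unfold F
  have h1 : (stdL A K V b).map ((φ.trans ψ).toLinearMap.restrictScalars A) =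
      ((stdL A K V b).map (φ.toLinearMap.restrictScalars A)).map
        (ψ.toLinearMap.restrictScalars A) := by
    rw [← Submodule.map_comp]
    rfl
  have h2 := dist_add A hA K V (stdL A K V b)
    ((stdL A K V b).map (ψ.toLinearMap.restrictScalars A))
    ((stdL A K V b).map ((φ.trans ψ).toLinearMap.restrictScalars A))
  have h3 : dist ((stdL A K V b).map (ψ.toLinearMap.restrictScalars A))
      ((stdL A K V b).map ((φ.trans ψ).toLinearMap.restrictScalars A)) =
      dist (stdL A K V b) ((stdL A K V b).map (φ.toLinearMap.restrictScalars A)) := by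
    rw [h1]
    exact dist_map (ψ.restrictScalars A) _ _
  rw [h2, h3, add_comm]

omit [IsDomain A] [IsNoetherianRing A] [IsLocalRing A] [IsFractionRing A K]
  [FiniteDimensional K V] [DecidableEq ι] in
theorem F_of_map_eq (φ : V ≃ₗ[K] V)
    (h : (stdL A K V b).map (φ.toLinearMap.restrictScalars A) = stdL A K V b) :
    F A K V b φ = 0 := by
  unfold F
  rw [h, dist_self]

open Classical in
/-- `F` on matrices. -/
noncomputable def G (N : Matrix ι ι K) : ℤ :=
  if h : IsUnit N.det then F A K V b (Matrix.toLinearEquiv b N h) else 0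

omit [IsDomain A] [IsNoetherianRing A] [IsLocalRing A] [IsFractionRing A K]
  [FiniteDimensional K V] in
theorem G_eq (N : Matrix ι ι K) (h : IsUnit N.det) :
    G A K V b N = F A K V b (Matrix.toLinearEquiv b N h) := dif_pos h

include hA in
theorem G_mul (N₁ N₂ : Matrix ι ι K) (h₁ : IsUnit N₁.det) (h₂ : IsUnit N₂.det) :
    G A K V b (N₁ * N₂) = G A K V b N₁ + G A K V b N₂ := by
  have h : IsUnit (N₁ * N₂).det := by rw [Matrix.det_mul]; exact h₁.mul h₂
  rw [G_eq A K V b _ h, G_eq A K V b _ h₁, G_eq A K V b _ h₂]
  have : Matrix.toLinearEquiv b (N₁ * N₂) h =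
      (Matrix.toLinearEquiv b N₂ h₂).trans (Matrix.toLinearEquiv b N₁ h₁) := by
    ext x
    change Matrix.toLin b b (N₁ * N₂) x = Matrix.toLin b b N₁ (Matrix.toLin b b N₂ x)
    rw [Matrix.toLin_mul b b b]
    rfl
  rw [this, F_trans A hA K V b, add_comm]

omit [IsDomain A] [IsNoetherianRing A] [IsLocalRing A] [IsFractionRing A K]
  [FiniteDimensional K V] in
theorem map_le_of_integral (N : Matrix ι ι K)
    (hN : ∀ i j, N i j ∈ Set.range (algebraMap A K)) :
    (stdL A K V b).map ((Matrix.toLin b b N).restrictScalars A) ≤ stdL A K V b := by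
  rw [stdL, Submodule.map_span, Submodule.span_le]
  rintro _ ⟨_, ⟨k, rfl⟩, rfl⟩
  simp only [LinearMap.coe_restrictScalars, Matrix.toLin_self, SetLike.mem_coe]
  refine Submodule.sum_mem _ fun j _ => ?_
  obtain ⟨a, ha⟩ := hN j k
  rw [← ha, algebraMap_smul]
  exact Submodule.smul_mem _ _ (Submodule.subset_span ⟨j, rfl⟩)

omit [IsDomain A] [IsNoetherianRing A] [IsLocalRing A] [IsFractionRing A K]
  [FiniteDimensional K V] in
theorem G_eq_zero_of_integral (N N' : Matrix ι ι K)
    (hN : ∀ i j, N i j ∈ Set.range (algebraMap A K))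
    (hN' : ∀ i j, N' i j ∈ Set.range (algebraMap A K)) (h1 : N * N' = 1) :
    G A K V b N = 0 := by
  have hu : IsUnit N.det := by
    have : N.det * N'.det = 1 := by rw [← Matrix.det_mul, h1, Matrix.det_one]
    exact IsUnit.of_mul_eq_one _ this
  rw [G_eq A K V b N hu]
  apply F_of_map_eq
  apply le_antisymm
  · exact map_le_of_integral A K V b N hN
  · intro x hx
    have hx' := map_le_of_integral A K V b N' hN' (Submodule.mem_map_of_mem hx)
    refine ⟨_, hx', ?_⟩
    change Matrix.toLin b b N (Matrix.toLin b b N' x) = x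
    rw [← LinearMap.comp_apply, ← Matrix.toLin_mul b b b, h1, Matrix.toLin_one]
    rfl

include hA in
theorem G_one : G A K V b 1 = 0 := by
  have h1 : IsUnit (1 : Matrix ι ι K).det := by simp
  have := G_mul A hA K V b 1 1 h1 h1
  rw [mul_one] at this
  linarith

theorem transvection_conj {ι : Type} [Fintype ι] [DecidableEq ι] {K : Type u} [Field K]
    (i j : ι) (hij : i ≠ j) (r s : K) (hs : s ≠ 0) :
    Matrix.transvection i j (r / s) =
      Matrix.diagonal (Function.update (1 : ι → K) j s) * Matrix.transvection i j r *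
        Matrix.diagonal (Function.update (1 : ι → K) j s⁻¹) := by
  ext a b
  simp only [Matrix.transvection, Matrix.mul_diagonal, Matrix.diagonal_mul, Matrix.add_apply,
    Matrix.one_apply, Matrix.single_apply, Function.update_apply, Pi.one_apply]
  by_cases hai : i = a
  · subst hai
    by_cases hbj : j = b
    · subst hbj
      simp [hij, div_eq_mul_inv]
    · have hbj' : ¬ b = j := fun h => hbj h.symm
      simp [hij, hbj, hbj']
  · by_cases hab : a = b
    · subst hab
      by_cases haj : a = j
      · subst haj
        simp [hai, hs]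
      · simp [hai, haj]
    · simp [hai, hab]

theorem diag_update_mul {ι : Type} [Fintype ι] [DecidableEq ι] {K : Type u} [Field K]
    (j : ι) (s t : K) :
    Matrix.diagonal (Function.update (1 : ι → K) j s) *
      Matrix.diagonal (Function.update (1 : ι → K) j t) =
      Matrix.diagonal (Function.update (1 : ι → K) j (s * t)) := by
  rw [Matrix.diagonal_mul_diagonal]
  congr 1
  funext k
  by_cases hk : k = j
  · subst hk; simp
  · simp [Function.update_of_ne hk]

theorem det_diag_update {ι : Type} [Fintype ι] [DecidableEq ι] {K : Type u} [Field K]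
    (j : ι) (s : K) : (Matrix.diagonal (Function.update (1 : ι → K) j s)).det = s := by
  rw [Matrix.det_diagonal, Finset.prod_eq_single j]
  · simp
  · intro k _ hk; simp [Function.update_of_ne hk]
  · intro h; exact absurd (Finset.mem_univ j) h

include hA in
theorem G_diag_inv (j : ι) (s : K) (hs : s ≠ 0) :
    G A K V b (Matrix.diagonal (Function.update (1 : ι → K) j s⁻¹)) =
      - G A K V b (Matrix.diagonal (Function.update (1 : ι → K) j s)) := by
  have h1 : IsUnit (Matrix.diagonal (Function.update (1 : ι → K) j s)).det := by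
    rw [det_diag_update]; exact isUnit_iff_ne_zero.mpr hs
  have h2 : IsUnit (Matrix.diagonal (Function.update (1 : ι → K) j s⁻¹)).det := by
    rw [det_diag_update]; exact isUnit_iff_ne_zero.mpr (inv_ne_zero hs)
  have := G_mul A hA K V b _ _ h1 h2
  rw [diag_update_mul, mul_inv_cancel₀ hs] at this
  have h3 : Matrix.diagonal (Function.update (1 : ι → K) j (1 : K)) = 1 := by
    rw [← Matrix.diagonal_one]; congr 1; funext k; simp
  rw [h3, G_one A hA K V b] at this
  linarith

include hA in
theorem G_transvection (i j : ι) (hij : i ≠ j) (c : K) :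
    G A K V b (Matrix.transvection i j c) = 0 := by
  obtain ⟨r, s, hs, rfl⟩ := IsFractionRing.div_surjective (A := A) c
  have hs0 : algebraMap A K s ≠ 0 := by
    intro h
    exact nonZeroDivisors.ne_zero hs ((IsFractionRing.injective A K) (h.trans (map_zero _).symm))
  have hint : ∀ (x : A) (a c : ι),
      Matrix.transvection i j (algebraMap A K x) a c ∈ Set.range (algebraMap A K) := by
    intro x a c
    simp only [Matrix.transvection, Matrix.add_apply, Matrix.one_apply, Matrix.single_apply]
    split_ifs
    · exact ⟨1 + x, by simp⟩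
    · exact ⟨1, by simp⟩
    · exact ⟨x, by simp⟩
    · exact ⟨0, by simp⟩
  have hTr : G A K V b (Matrix.transvection i j (algebraMap A K r)) = 0 := by
    refine G_eq_zero_of_integral A K V b _ (Matrix.transvection i j (algebraMap A K (-r)))
      (hint r) (hint (-r)) ?_
    rw [Matrix.transvection_mul_transvection_same _ _ hij]
    simp
  have h1 : IsUnit (Matrix.diagonal (Function.update (1 : ι → K) j (algebraMap A K s))).det := by
    rw [det_diag_update]; exact isUnit_iff_ne_zero.mpr hs0
  have h2 : IsUnit (Matrix.diagonal (Function.update (1 : ι → K) j (algebraMap A K s)⁻¹)).det := by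
    rw [det_diag_update]; exact isUnit_iff_ne_zero.mpr (inv_ne_zero hs0)
  have h3 : IsUnit (Matrix.transvection i j (algebraMap A K r)).det := by
    rw [Matrix.det_transvection_of_ne _ _ hij]; exact isUnit_one
  rw [transvection_conj i j hij _ _ hs0, G_mul A hA K V b _ _ (by
    rw [Matrix.det_mul]; exact h1.mul h3) h2, G_mul A hA K V b _ _ h1 h3, hTr,
    G_diag_inv A hA K V b j _ hs0]
  ring

omit [IsDomain A] [IsNoetherianRing A] [IsLocalRing A] [IsFractionRing A K]
  [FiniteDimensional K V] [Module A V] [IsScalarTower A K V] [Algebra A K] in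
theorem repr_toLin_diagonal (d : ι → K) (y : V) (l : ι) :
    b.repr (Matrix.toLin b b (Matrix.diagonal d) y) l = d l * b.repr y l := by
  rw [Matrix.toLin_apply]
  simp only [Matrix.mulVec_diagonal]
  rw [b.repr_sum_self]

include hA in
theorem G_diag_integral (k : ι) (r : A) (hr : r ≠ 0) :
    G A K V b (Matrix.diagonal (Function.update (1 : ι → K) k (algebraMap A K r))) =
      ((Module.length A (A ⧸ Ideal.span {r})).toNat : ℤ) := by
  have hr0 : algebraMap A K r ≠ 0 := by
    intro h
    exact hr ((IsFractionRing.injective A K) (h.trans (map_zero _).symm))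
  set E := Matrix.diagonal (Function.update (1 : ι → K) k (algebraMap A K r)) with hE
  have hu : IsUnit E.det := by
    rw [hE, det_diag_update]; exact isUnit_iff_ne_zero.mpr hr0
  have hint : ∀ a c, E a c ∈ Set.range (algebraMap A K) := by
    intro a c
    simp only [hE, Matrix.diagonal_apply, Function.update_apply, Pi.one_apply]
    split_ifs
    · exact ⟨r, rfl⟩
    · exact ⟨1, by simp⟩
    · exact ⟨0, by simp⟩
  rw [G_eq A K V b E hu, F]
  have hle : (stdL A K V b).map ((Matrix.toLinearEquiv b E hu).toLinearMap.restrictScalars A) ≤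
      stdL A K V b := map_le_of_integral A K V b E hint
  rw [dist_of_le hle]
  congr 2
  -- the coordinate map
  let bA := b.restrictScalars A
  let g : ↥(stdL A K V b) →ₗ[A] A ⧸ Ideal.span {r} :=
    (Ideal.span {r}).mkQ ∘ₗ (bA.coord k)
  have hgx : ∀ x, g x = Ideal.Quotient.mk (Ideal.span {r}) (bA.repr x k) := fun x => rfl
  have hg : Function.Surjective g := by
    intro q
    obtain ⟨a, rfl⟩ := Ideal.Quotient.mk_surjective q
    refine ⟨a • bA k, ?_⟩
    rw [hgx]
    simp
  have hker : LinearMap.ker g =
      ((stdL A K V b).map ((Matrix.toLinearEquiv b E hu).toLinearMap.restrictScalars A)).submoduleOf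
        (stdL A K V b) := by
    ext x
    have hxrepr : ∀ l, algebraMap A K (bA.repr x l) = b.repr (x : V) l :=
      fun l => b.restrictScalars_repr_apply A x l
    rw [LinearMap.mem_ker, hgx, Ideal.Quotient.eq_zero_iff_mem, Ideal.mem_span_singleton']
    change _ ↔ (x : V) ∈ Submodule.map _ _
    rw [Submodule.mem_map]
    constructor
    · rintro ⟨t, ht⟩
      refine ⟨(x : V) + (t - t * r) • b k, ?_, ?_⟩
      · exact Submodule.add_mem _ x.2
          (Submodule.smul_mem _ _ (Submodule.subset_span ⟨k, rfl⟩))
      · apply b.repr.injective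
        ext l
        change b.repr (Matrix.toLin b b E _) l = _
        rw [repr_toLin_diagonal, ← hxrepr]
        by_cases hl : l = k
        · subst hl
          simp only [map_add, Finsupp.coe_add, Pi.add_apply, ← hxrepr, ← ht,
            Function.update_self, ← algebraMap_smul K (t - t * r), map_smul,
            Module.Basis.repr_self, Finsupp.smul_single, smul_eq_mul, mul_one,
            Finsupp.single_eq_same, map_sub, map_mul]
          ring
        · simp only [map_add, Finsupp.coe_add, Pi.add_apply, ← hxrepr,
            Function.update_of_ne hl, ← algebraMap_smul K (t - t * r), map_smul,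
            Module.Basis.repr_self, Finsupp.smul_single, smul_eq_mul, mul_one,
            Pi.one_apply, one_mul]
          rw [Finsupp.single_apply, if_neg (Ne.symm hl), add_zero]
    · rintro ⟨y, hy, hyx⟩
      refine ⟨bA.repr ⟨y, hy⟩ k, ?_⟩
      apply IsFractionRing.injective A K
      rw [hxrepr, ← hyx]
      change _ = b.repr (Matrix.toLin b b E y) k
      rw [repr_toLin_diagonal, Function.update_self, map_mul,
        b.restrictScalars_repr_apply A ⟨y, hy⟩ k]
      ring
  rw [← hker]
  exact (LinearEquiv.length_eq (g.quotKerEquivOfSurjective hg))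

include hA in
theorem G_diag_single (k : ι) (c : K) (hc : c ≠ 0) :
    G A K V b (Matrix.diagonal (Function.update (1 : ι → K) k c)) = CycAlg.ordFrac A K c := by
  obtain ⟨r, s, hs, rfl⟩ := IsFractionRing.div_surjective (A := A) c
  have hs' : s ≠ 0 := nonZeroDivisors.ne_zero hs
  have hs0 : algebraMap A K s ≠ 0 := by
    intro h
    exact hs' ((IsFractionRing.injective A K) (h.trans (map_zero _).symm))
  have hr0 : algebraMap A K r ≠ 0 := by
    intro h
    rw [h, zero_div] at hc
    exact hc rfl
  have hr' : r ≠ 0 := by
    intro h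
    rw [h, map_zero] at hr0
    exact hr0 rfl
  have h1 : IsUnit (Matrix.diagonal (Function.update (1 : ι → K) k
      (algebraMap A K r / algebraMap A K s))).det := by
    rw [det_diag_update]; exact isUnit_iff_ne_zero.mpr hc
  have h2 : IsUnit (Matrix.diagonal (Function.update (1 : ι → K) k (algebraMap A K s))).det := by
    rw [det_diag_update]; exact isUnit_iff_ne_zero.mpr hs0
  have h3 := G_mul A hA K V b _ _ h1 h2
  rw [diag_update_mul, div_mul_cancel₀ _ hs0, G_diag_integral A hA K V b k r hr',
    G_diag_integral A hA K V b k s hs'] at h3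
  have h4 : CycAlg.ordFrac A K (algebraMap A K r / algebraMap A K s) =
      ((Module.length A (A ⧸ Ideal.span {r})).toNat : ℤ) -
        ((Module.length A (A ⧸ Ideal.span {s})).toNat : ℤ) := by
    rw [div_eq_mul_inv, ordFrac_mul A hA K hr0 (inv_ne_zero hs0), ordFrac_inv A hA K hs0,
      ordFrac_algebraMap A hA K hr', ordFrac_algebraMap A hA K hs']
    ring
  rw [h4]
  linarith

include hA in
theorem G_diag_aux (S : Finset ι) : ∀ d : ι → K, (∀ l, d l ≠ 0) → (∀ l, l ∉ S → d l = 1) →
    G A K V b (Matrix.diagonal d) = ∑ l ∈ S, CycAlg.ordFrac A K (d l) := by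
  induction S using Finset.induction_on with
  | empty =>
    intro d _ h1
    have : d = 1 := funext fun l => h1 l (Finset.notMem_empty l)
    have h2 : Matrix.diagonal (1 : ι → K) = 1 := Matrix.diagonal_one
    rw [this, h2, G_one A hA K V b, Finset.sum_empty]
  | insert k S hk ih =>
    intro d hd h1
    have hsplit : Matrix.diagonal d = Matrix.diagonal (Function.update d k 1) *
        Matrix.diagonal (Function.update (1 : ι → K) k (d k)) := by
      rw [Matrix.diagonal_mul_diagonal]
      congr 1
      funext l
      by_cases hl : l = k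
      · subst hl; simp
      · simp [Function.update_of_ne hl]
    have hd' : ∀ l, Function.update d k 1 l ≠ 0 := by
      intro l
      by_cases hl : l = k
      · subst hl; simp
      · rw [Function.update_of_ne hl]; exact hd l
    have hu1 : IsUnit (Matrix.diagonal (Function.update d k 1)).det := by
      rw [Matrix.det_diagonal]
      exact isUnit_iff_ne_zero.mpr (Finset.prod_ne_zero_iff.mpr fun l _ => hd' l)
    have hu2 : IsUnit (Matrix.diagonal (Function.update (1 : ι → K) k (d k))).det := by
      rw [det_diag_update]; exact isUnit_iff_ne_zero.mpr (hd k)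
    rw [hsplit, G_mul A hA K V b _ _ hu1 hu2, G_diag_single A hA K V b k (d k) (hd k),
      ih (Function.update d k 1) hd' ?_, Finset.sum_insert hk, add_comm]
    · congr 1
      refine Finset.sum_congr rfl fun l hl => ?_
      have : l ≠ k := fun h => hk (h ▸ hl)
      rw [Function.update_of_ne this]
    · intro l hl
      by_cases hlk : l = k
      · subst hlk; simp
      · rw [Function.update_of_ne hlk]
        exact h1 l (by simp [hlk, hl])

include hA in
theorem ordFrac_prod (S : Finset ι) (d : ι → K) (hd : ∀ l, d l ≠ 0) :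
    CycAlg.ordFrac A K (∏ l ∈ S, d l) = ∑ l ∈ S, CycAlg.ordFrac A K (d l) := by
  induction S using Finset.induction_on with
  | empty => simp [ordFrac_one A hA K]
  | insert k S hk ih =>
    rw [Finset.prod_insert hk, Finset.sum_insert hk,
      ordFrac_mul A hA K (hd k) (Finset.prod_ne_zero_iff.mpr fun l _ => hd l), ih]

include hA in
theorem G_eq_ordFrac_det (N : Matrix ι ι K) (hN : N.det ≠ 0) :
    G A K V b N = CycAlg.ordFrac A K N.det := by
  refine Matrix.diagonal_transvection_induction_of_det_ne_zero
    (fun N => G A K V b N = CycAlg.ordFrac A K N.det) N hN ?_ ?_ ?_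
  · intro d hd
    rw [Matrix.det_diagonal] at hd ⊢
    have hd' : ∀ l, d l ≠ 0 := fun l => (Finset.prod_ne_zero_iff.mp hd) l (Finset.mem_univ l)
    rw [G_diag_aux A hA K V b Finset.univ d hd' (fun l hl => absurd (Finset.mem_univ l) hl),
      ordFrac_prod A hA K Finset.univ d hd']
  · intro t
    change G A K V b (Matrix.transvection t.i t.j t.c) = _
    rw [G_transvection A hA K V b t.i t.j t.hij, t.det, ordFrac_one A hA K]
  · intro N₁ N₂ h₁ h₂ p₁ p₂
    rw [G_mul A hA K V b N₁ N₂ (isUnit_iff_ne_zero.mpr h₁) (isUnit_iff_ne_zero.mpr h₂), p₁, p₂,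
      Matrix.det_mul, ordFrac_mul A hA K h₁ h₂]

end std


/-- Let A be a Noetherian local domain of Krull dimension one with fraction field K, V a
finite-dimensional K-vector space, M a lattice in V (a finitely generated A-submodule spanning V
over K) and φ a K-linear automorphism of V. Then φ(M) is a lattice, the A-modules M/(M ∩ φ(M)) and
φ(M)/(M ∩ φ(M)) have finite length, and the distance length_A(M/(M ∩ φ(M))) − length_A(φ(M)/(M ∩
φ(M))) equals the order of det φ at the closed point, i.e. length_A(A/(a)) − length_A(A/(b)) for det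
φ = a/b. -/
theorem result (A : Type u) [CommRing A] [IsDomain A] [IsNoetherianRing A]
    [IsLocalRing A] (hA : ringKrullDim A = 1) (K : Type u) [Field K] [Algebra A K]
    [IsFractionRing A K] (V : Type u) [AddCommGroup V] [Module K V] [Module A V]
    [IsScalarTower A K V] [FiniteDimensional K V]
    (M : Submodule A V) [Submodule.IsLattice K M] (φ : V ≃ₗ[K] V) :
    Submodule.IsLattice K (M.map (φ.toLinearMap.restrictScalars A)) ∧
      Module.length A (↥M ⧸ (M ⊓ M.map (φ.toLinearMap.restrictScalars A)).submoduleOf M) < ⊤ ∧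
      Module.length A (↥(M.map (φ.toLinearMap.restrictScalars A)) ⧸
          (M ⊓ M.map (φ.toLinearMap.restrictScalars A)).submoduleOf
            (M.map (φ.toLinearMap.restrictScalars A))) < ⊤ ∧
      ((Module.length A (↥M ⧸ (M ⊓ M.map (φ.toLinearMap.restrictScalars A)).submoduleOf M)).toNat : ℤ) -
          ((Module.length A (↥(M.map (φ.toLinearMap.restrictScalars A)) ⧸
            (M ⊓ M.map (φ.toLinearMap.restrictScalars A)).submoduleOf
              (M.map (φ.toLinearMap.restrictScalars A)))).toNat : ℤ) =
        CycAlg.ordFrac A K (LinearMap.det φ.toLinearMap) := by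
  classical
  haveI hlat := isLattice_map A K V M φ
  refine ⟨hlat, length_lt_top A hA K V M _, ?_, ?_⟩
  · have := length_lt_top A hA K V (M.map (φ.toLinearMap.restrictScalars A)) M
    rwa [inf_comm] at this
  · let b := Module.finBasis K V
    haveI := isLattice_stdL A K V b
    have h1 := dist_map_indep A hA K V M (stdL A K V b) φ
    set N := LinearMap.toMatrix b b φ.toLinearMap with hNdef
    have hdet : N.det = LinearMap.det φ.toLinearMap := LinearMap.det_toMatrix b _
    have hN : N.det ≠ 0 := by
      rw [hdet]
      exact (LinearEquiv.isUnit_det' φ).ne_zero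
    have h2 := G_eq_ordFrac_det A hA K V b N hN
    rw [G_eq A K V b N (isUnit_iff_ne_zero.mpr hN)] at h2
    have h3 : Matrix.toLinearEquiv b N (isUnit_iff_ne_zero.mpr hN) = φ := by
      ext x
      change Matrix.toLin b b N x = φ x
      rw [hNdef, Matrix.toLin_toMatrix]
      rfl
    rw [h3, hdet] at h2
    rw [← h2]
    exact h1

end Groth.Agent.S14502
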