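import Groth.Statements.S6479
import Groth.Agent.Lib.CycFlatPull

set_option autoImplicit false
universe u
open CategoryTheory AlgebraicGeometry
open CategoryTheory.Limits
open Cyc

namespace Groth.Agent.S6479

/-- Let p : X' → X and p' : X'' → X' be flat with shifts c and c' on the dimension functions at generic
points of fibre components. Then the composite p' ≫ p has shift c + c' at generic points of its
fibre components, and g^* followed by (g')^* is (g ∘ g')^* on k-cycles: Cyc.pullFun (p' ≫ p) δ'' δ
(c + c') α = Cyc.pullFun p' δ'' δ' c' (Cyc.pullFun p δ' δ c α). Setting: p : X' → X is flat (not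
necessarily of finite type), (X, δ) and (X', δ') satisfy Cyc.IsSetup, and δ'(x') = δ(p x') + c
whenever x' is maximal under generalization inside its fibre p⁻¹(p x'); g^* : Z_k(X) → Z_{k+c}(X')
is the coefficientwise flat pullback Cyc.pullFun p δ' δ c. (The published statement takes both maps
to be base changes along flat S″ → S′ → S of one scheme locally of finite type over S, and has a
third part, the same composition on Chow groups, which follows; this row allows any two flat maps
with the shift conditions.) -/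
theorem result (X X' X'' : Scheme.{u}) (p : X' ⟶ X) (p' : X'' ⟶ X') [Flat p] [Flat p'] (δ : X → ℤ) (δ' : X' → ℤ) (δ'' : X'' → ℤ) (hX : Cyc.IsSetup X δ) (hX' : Cyc.IsSetup X' δ') (hX'' : Cyc.IsSetup X'' δ'') (c c' : ℤ) (hc : ∀ x' : X', (∀ y, p y = p x' → y ⤳ x' → y = x') → δ' x' = δ (p x') + c) (hc' : ∀ x'' : X'', (∀ y, p' y = p' x'' → y ⤳ x'' → y = x'') → δ'' x'' = δ' (p' x'') + c') (k : ℤ) (α : AlgebraicCycle X ℤ) (hα : α ∈ Cyc.Zk X δ k) : (∀ x'' : X'', (∀ y, (p' ≫ p) y = (p' ≫ p) x'' → y ⤳ x'' → y = x'') → δ'' x'' = δ ((p' ≫ p) x'') + (c + c')) ∧ Cyc.pullFun (p' ≫ p) δ'' δ (c + c') ⇑α = Cyc.pullFun p' δ'' δ' c' (Cyc.pullFun p δ' δ c ⇑α) := by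
  have hkey : ∀ x'' : X'', δ'' x'' = δ (p (p' x'')) + (c + c') ↔
      (δ'' x'' = δ' (p' x'') + c' ∧ δ' (p' x'') = δ (p (p' x'')) + c) := by
    intro x''
    have h1 := Groth.Agent.Lib.CycFlatPull.delta_le hX''.2.2 hc' x''
    have h2 := Groth.Agent.Lib.CycFlatPull.delta_le hX'.2.2 hc (p' x'')
    constructor
    · intro h; constructor <;> omega
    · rintro ⟨h3, h4⟩; omega
  refine ⟨?_, ?_⟩
  · intro x'' hmax
    have hmax' : ∀ y, p' y = p' x'' → y ⤳ x'' → y = x'' := by
      intro y hy hsp
      refine hmax y ?_ hsp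
      show p (p' y) = p (p' x'')
      rw [hy]
    have hmaxp : ∀ y, p y = p (p' x'') → y ⤳ p' x'' → y = p' x'' := by
      intro y' hy' hsp
      obtain ⟨y'', hy''sp, hy''⟩ := Flat.generalizingMap p' hsp
      have h1 : y'' = x'' := by
        refine hmax y'' ?_ hy''sp
        show p (p' y'') = p (p' x'')
        rw [hy'', hy']
      rw [← hy'', h1]
    have h1 := hc' x'' hmax'
    have h2 := hc (p' x'') hmaxp
    show δ'' x'' = δ (p (p' x'')) + (c + c')
    omega
  · funext x''
    unfold Cyc.pullFun
    by_cases h : δ'' x'' = δ ((p' ≫ p) x'') + (c + c')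
    · obtain ⟨h1, h2⟩ := (hkey x'').mp h
      rw [if_pos h, if_pos h1, if_pos h2]
      have hlen := Groth.Agent.Lib.CycFlatPull.length_quot_tower (p.stalkMap (p' x'')).hom
        (p'.stalkMap x'').hom (Flat.stalkMap p' x'')
      have hcomp : ((p' ≫ p).stalkMap x'').hom =
          (p'.stalkMap x'').hom.comp (p.stalkMap (p' x'')).hom := by
        rw [Scheme.Hom.stalkMap_comp]; rfl
      have hlen' : Module.length (X''.presheaf.stalk x'')
          (X''.presheaf.stalk x'' ⧸ Ideal.map ((p' ≫ p).stalkMap x'').hom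
            (IsLocalRing.maximalIdeal (X.presheaf.stalk ((p' ≫ p) x'')))) =
          Module.length (X'.presheaf.stalk (p' x''))
            (X'.presheaf.stalk (p' x'') ⧸ Ideal.map (p.stalkMap (p' x'')).hom
              (IsLocalRing.maximalIdeal (X.presheaf.stalk (p (p' x''))))) *
          Module.length (X''.presheaf.stalk x'')
            (X''.presheaf.stalk x'' ⧸ Ideal.map (p'.stalkMap x'').hom
              (IsLocalRing.maximalIdeal (X'.presheaf.stalk (p' x'')))) := by
        rw [hcomp]; exact hlen
      rw [hlen', ENat.toNat_mul, Nat.cast_mul, mul_assoc]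
      rfl
    · rw [if_neg h]
      by_cases h1 : δ'' x'' = δ' (p' x'') + c'
      · rw [if_pos h1]
        by_cases h2 : δ' (p' x'') = δ (p (p' x'')) + c
        · exact absurd ((hkey x'').mpr ⟨h1, h2⟩) h
        · rw [if_neg h2, zero_mul]
      · rw [if_neg h1]

end Groth.Agent.S6479
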