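-- Statement S1857.
import Groth.Statements.S1857
import Groth.Agent.S6479
import Groth.Agent.Lib.H30FibBC
import Groth.Agent.Lib.H79FibDimComp
import Mathlib

set_option autoImplicit false
universe u
open CategoryTheory AlgebraicGeometry
open Cyc

namespace Groth.Agent.S1857

open Groth.Agent.Lib.H30FibBC Groth.Agent.Lib.H30FibRes

/-- the shift condition of flat pullback from relative dimension and compatibility of dimension
functions -/
theorem shift_of_hasRelDim {X Y : Scheme.{u}} (f : X ⟶ Y) [LocallyOfFiniteType f] (δX : X → ℤ)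
    (δY : Y → ℤ) (r : ℕ) (hr : Cyc.HasRelDim f r) (hf : Cyc.DeltaCompat f δX δY) (x : X)
    (hmax : ∀ y, f y = f x → y ⤳ x → y = x) : δX x = δY (f x) + r := by
  obtain ⟨n, hn, hδ⟩ := hf x
  have h1 := trdeg_of_hasRelDim f r hr x hmax
  rw [hn] at h1
  have : n = r := by exact_mod_cast h1
  rw [hδ, this]

theorem main (X Y Z : Scheme.{u}) (δX : X → ℤ) (δY : Y → ℤ) (δZ : Z → ℤ) (hX : Cyc.IsSetup X δX) (hY : Cyc.IsSetup Y δY) (hZ : Cyc.IsSetup Z δZ) (f : X ⟶ Y) (g : Y ⟶ Z) [Flat f] [LocallyOfFiniteType f] [Flat g] [LocallyOfFiniteType g] (r s : ℕ) (hr : Cyc.HasRelDim f r) (hs : Cyc.HasRelDim g s) (hf : Cyc.DeltaCompat f δX δY) (hg : Cyc.DeltaCompat g δY δZ) (k : ℤ) : Cyc.HasRelDim (f ≫ g) (r + s) ∧ ∀ α : AlgebraicCycle Z ℤ, α ∈ Cyc.Zk Z δZ k → Cyc.pullFun f δX δY r (Cyc.pullFun g δY δZ s ⇑α) = Cyc.pullFun (f ≫ g) δX δZ ((r : ℤ) + s) ⇑α := by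
  refine ⟨?_, ?_⟩
  · rw [hasRelDim_iff] at hr hs ⊢
    intro x
    have h1 := (Groth.Agent.Lib.H79FibDimComp.fibreDimAt_comp f g x).2 (Flat.stalkMap f x)
    rw [h1, hr x, hs (f x)]
    push_cast
    rfl
  · intro α hα
    have key := (Groth.Agent.S6479.result Z Y X g f δZ δY δX hZ hY hX s r
      (shift_of_hasRelDim g δY δZ s hs hg) (shift_of_hasRelDim f δX δY r hr hf) k α hα).2
    rw [← key, add_comm]

/-- For flat morphisms f : X → Y and g : Y → Z locally of finite type of relative dimensions r and s,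
the composite has relative dimension r + s and (g ∘ f)^* = f^* ∘ g^* on k-cycles (equality of
coefficient functions). Here a pair (X, δ) with Cyc.IsSetup plays the role of a scheme locally of
finite type over a fixed base with a dimension function (X locally Noetherian with universally
catenary local rings, δ a dimension function), and Cyc.DeltaCompat records that the dimension
function upstairs is the induced one. -/
theorem result (X Y Z : Scheme.{u}) (δX : X → ℤ) (δY : Y → ℤ) (δZ : Z → ℤ) (hX : Cyc.IsSetup X δX) (hY : Cyc.IsSetup Y δY) (hZ : Cyc.IsSetup Z δZ) (f : X ⟶ Y) (g : Y ⟶ Z) [Flat f] [LocallyOfFiniteType f] [Flat g] [LocallyOfFiniteType g] (r s : ℕ) (hr : Cyc.HasRelDim f r) (hs : Cyc.HasRelDim g s) (hf : Cyc.DeltaCompat f δX δY) (hg : Cyc.DeltaCompat g δY δZ) (k : ℤ) : Cyc.HasRelDim (f ≫ g) (r + s) ∧ ∀ α : AlgebraicCycle Z ℤ, α ∈ Cyc.Zk Z δZ k → Cyc.pullFun f δX δY r (Cyc.pullFun g δY δZ s ⇑α) = Cyc.pullFun (f ≫ g) δX δZ ((r : ℤ) +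 s) ⇑α := by
  exact main X Y Z δX δY δZ hX hY hZ f g r s hr hs hf hg k

end Groth.Agent.S1857
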