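import Groth.Statements.S1923
import Groth.Agent.S6462
import Groth.Agent.Lib.H30DimField
import Groth.Agent.Lib.H90PushStalkLocal
import Groth.Agent.Lib.GenericFree

set_option autoImplicit false
universe u
open CategoryTheory AlgebraicGeometry

namespace Groth.Agent.S1923

/-- length of the double quotient -/
theorem length_quot_quot {R : Type u} [CommRing R] (I : Ideal R) (hI : I = ⊥) (f : R) :
    Module.length (R ⧸ I) ((R ⧸ I) ⧸ Ideal.span {Ideal.Quotient.mk I f}) =
      Module.length R (R ⧸ Ideal.span {f}) := by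
  subst hI
  rw [← Module.length_eq_of_surjective (S := R) (R := R ⧸ (⊥ : Ideal R))
    (M := (R ⧸ (⊥ : Ideal R)) ⧸ Ideal.span {Ideal.Quotient.mk (⊥ : Ideal R) f})
    Ideal.Quotient.mk_surjective]
  have h1 : Ideal.span {Ideal.Quotient.mk (⊥ : Ideal R) f} =
      (Ideal.span {f}).map (Ideal.Quotient.mkₐ R (⊥ : Ideal R)) := by
    rw [Ideal.map_span, Set.image_singleton]; rfl
  have e1 := (DoubleQuot.quotQuotEquivQuotSupₐ R (⊥ : Ideal R) (Ideal.span {f})).toLinearEquiv
  have e2 : (R ⧸ ((⊥ : Ideal R) ⊔ Ideal.span {f})) ≃ₗ[R] R ⧸ Ideal.span {f} :=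
    Submodule.quotEquivOfEq _ _ (by rw [bot_sup_eq])
  rw [h1]
  exact (e1.trans e2).length_eq

theorem ordFrac_eq_length {R : Type u} [CommRing R] [IsNoetherianRing R] (I : Ideal R)
    (hI : I = ⊥) {κ : Type u} [Field κ] [Algebra (R ⧸ I) κ] [IsFractionRing (R ⧸ I) κ]
    [Ring.KrullDimLE 1 (R ⧸ I)] (f : R) (hf : f ≠ 0) :
    CycAlg.ordFrac (R ⧸ I) κ (algebraMap (R ⧸ I) κ (Ideal.Quotient.mk I f)) =
      ((Module.length R (R ⧸ Ideal.span {f})).toNat : ℤ) := by
  haveI : IsDomain (R ⧸ I) := (FaithfulSMul.algebraMap_injective (R ⧸ I) κ).isDomain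
  have hne : Ideal.Quotient.mk I f ≠ 0 := by
    intro h
    rw [Ideal.Quotient.eq_zero_iff_mem, hI] at h
    exact hf h
  have hnzd : Ideal.Quotient.mk I f ∈ nonZeroDivisors (R ⧸ I) :=
    mem_nonZeroDivisors_iff_ne_zero.mpr hne
  unfold CycAlg.ordFrac
  rw [dif_pos ⟨inferInstance, inferInstance, inferInstance, inferInstance⟩]
  have htop : Ring.ord (R ⧸ I) (Ideal.Quotient.mk I f) ≠ ⊤ := Ring.ord_ne_top hnzd
  obtain ⟨n, hn⟩ := ENat.ne_top_iff_exists.mp htop
  rw [Ring.ordFrac_eq_ord (R ⧸ I) hne, Ring.ordMonoidWithZeroHom_eq_coe (R ⧸ I) hnzd hn.symm]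
  have hlen : Module.length R (R ⧸ Ideal.span {f}) = n := by
    rw [← length_quot_quot I hI f]
    exact hn.symm
  rw [hlen]
  simp

open Groth.Agent.Lib.H90Invertible Groth.Agent.Lib.H90PushStalkLocal in
/-- for `L` invertible, `ξ ⤳ x` and a generator `t` of `L_x`, the specialization of `t` is a free
generator of `L_ξ`. -/
theorem bijective_smul_stalkSpecializes {X : Scheme.{u}} {L : X.Modules}
    (hL : PicF.IsInvertible L) {ξ x : X} (h : ξ ⤳ x)
    (t : L.presheaf.stalk x) (ht : Submodule.span (X.presheaf.stalk x) {t} = ⊤) :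
    Function.Bijective (fun a : X.presheaf.stalk ξ => a • (L.presheaf.stalkSpecializes h) t) := by
  obtain ⟨V, hx, s₀, hs⟩ := (isInvertible_iff_exists_isGen L).mp hL x
  have hξ : ξ ∈ V := h.mem_open V.isOpen hx
  have bx := IsGen.stalk_bijective hs x hx
  have bξ := IsGen.stalk_bijective hs ξ hξ
  have hsp : (L.presheaf.stalkSpecializes h) (L.presheaf.germ V x hx s₀) =
      L.presheaf.germ V ξ hξ s₀ :=
    ConcreteCategory.congr_hom (L.presheaf.germ_stalkSpecializes (U := V) hx h) s₀
  obtain ⟨u, hu⟩ := bx.2 t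
  simp only at hu
  have hmem : (L.presheaf.germ V x hx s₀ : L.presheaf.stalk x) ∈
      Submodule.span (X.presheaf.stalk x) {t} := by rw [ht]; trivial
  obtain ⟨v, hv⟩ := Submodule.mem_span_singleton.mp hmem
  have hvu : v * u = 1 := by
    apply bx.1
    simp only
    rw [mul_smul, hu, hv, one_smul]
  have hspt : (L.presheaf.stalkSpecializes h) t =
      (X.presheaf.stalkSpecializes h u) • (L.presheaf.germ V ξ hξ s₀ : L.presheaf.stalk ξ) := by
    rw [← hu, Groth.Agent.Lib.GenericFree.stalkSpecializes_smul, hsp]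
  have hunit : IsUnit (X.presheaf.stalkSpecializes h u) := by
    refine IsUnit.of_mul_eq_one (X.presheaf.stalkSpecializes h v) ?_
    rw [mul_comm, ← map_mul, hvu, map_one]
  rw [hspt]
  have : (fun a : X.presheaf.stalk ξ => a • ((X.presheaf.stalkSpecializes h u) •
      (L.presheaf.germ V ξ hξ s₀ : L.presheaf.stalk ξ))) =
      (fun a : X.presheaf.stalk ξ => a • (L.presheaf.germ V ξ hξ s₀ : L.presheaf.stalk ξ)) ∘
        (fun a => a * (X.presheaf.stalkSpecializes h u)) := by
    funext a
    simp only [Function.comp_apply, mul_smul]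
  rw [this]
  exact bξ.comp (IsUnit.isUnit_iff_mulRight_bijective.mp hunit)

theorem secOrdAt_eq {X : Scheme.{u}} (L : X.Modules) (ξ x : X) (h : ξ ⤳ x) (s : Cyc.secFibre L ξ)
    (ht : ∃ t : L.presheaf.stalk x, Submodule.span (X.presheaf.stalk x) {t} = ⊤)
    (hφ : ∃ φ : X.presheaf.stalk ξ,
        s = φ • (Submodule.Quotient.mk ((L.presheaf.stalkSpecializes h) (Classical.choose ht)) :
          Cyc.secFibre L ξ)) :
    ∃ φ : X.presheaf.stalk ξ,
      s = φ • (Submodule.Quotient.mk ((L.presheaf.stalkSpecializes h) (Classical.choose ht)) :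
          Cyc.secFibre L ξ) ∧
      Cyc.secOrdAt L ξ x h s = Cyc.ordAt x ξ h (X.residue ξ φ) := by
  refine ⟨Classical.choose hφ, Classical.choose_spec hφ, ?_⟩
  unfold Cyc.secOrdAt
  rw [dif_pos ht, dif_pos hφ]

theorem zeroSectionFun_eq {X : Scheme.{u}} (δ : X → ℤ) (k : ℤ) (L : X.Modules)
    (s : L.presheaf.obj (Opposite.op ⊤)) (ξ : X) (hk : δ ξ = k)
    (ht : ∃ t : L.presheaf.stalk ξ, Submodule.span (X.presheaf.stalk ξ) {t} = ⊤)
    (hf : ∃ f : X.presheaf.stalk ξ, (L.presheaf.germ ⊤ ξ trivial) s = f • Classical.choose ht) :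
    ∃ f : X.presheaf.stalk ξ, (L.presheaf.germ ⊤ ξ trivial) s = f • Classical.choose ht ∧
      Cyc.zeroSectionFun δ k L s ξ =
        ((Module.length (X.presheaf.stalk ξ)
          (↥(X.presheaf.stalk ξ) ⧸ Ideal.span {f})).toNat : ℤ) := by
  refine ⟨Classical.choose hf, Classical.choose_spec hf, ?_⟩
  unfold Cyc.zeroSectionFun
  rw [if_pos hk, dif_pos ht, dif_pos hf]

theorem maximalIdeal_genericPoint_eq_bot (X : Scheme.{u}) [IsIntegral X] :
    IsLocalRing.maximalIdeal (X.presheaf.stalk (genericPoint X)) = ⊥ := by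
  have hfield : IsField (X.presheaf.stalk (genericPoint X)) :=
    Field.toIsField X.functionField
  exact IsLocalRing.isField_iff_maximalIdeal_eq.mp hfield

theorem specMap_injective (X : Scheme.{u}) [IsIntegral X] (x : X) (h : genericPoint X ⤳ x) :
    Function.Injective (Cyc.specMap x (genericPoint X) h) := by
  have h1 : Function.Injective (X.presheaf.stalkSpecializes h).hom :=
    Groth.Agent.Lib.GenericFree.stalkSpecializes_genericPoint_injective x
  have h2 : Function.Injective (X.residue (genericPoint X)).hom := by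
    rw [injective_iff_map_eq_zero]
    intro a ha
    have hmem : a ∈ IsLocalRing.maximalIdeal (X.presheaf.stalk (genericPoint X)) :=
      (IsLocalRing.residue_eq_zero_iff a).mp ha
    rw [maximalIdeal_genericPoint_eq_bot] at hmem
    exact hmem
  exact h2.comp h1

theorem isFractionRing_locQuot (X : Scheme.{u}) [IsIntegral X] (x : X) (h : genericPoint X ⤳ x) :
    IsFractionRing (Cyc.LocQuot x (genericPoint X) h) (X.residueField (genericPoint X)) := by
  have hinj : Function.Injective (algebraMap (Cyc.LocQuot x (genericPoint X) h)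
      (X.residueField (genericPoint X))) :=
    RingHom.kerLift_injective (Cyc.specMap x (genericPoint X) h)
  haveI : FaithfulSMul (Cyc.LocQuot x (genericPoint X) h) (X.residueField (genericPoint X)) :=
    (faithfulSMul_iff_algebraMap_injective _ _).mpr hinj
  apply IsFractionRing.of_field
  intro z
  obtain ⟨a, rfl⟩ := IsLocalRing.residue_surjective z
  obtain ⟨⟨r, s⟩, hrs⟩ := IsLocalization.surj (nonZeroDivisors (X.presheaf.stalk x))
    (S := X.functionField) a
  have hs0 : (s : X.presheaf.stalk x) ≠ 0 := nonZeroDivisors.ne_zero s.2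
  have hsne : Cyc.specMap x (genericPoint X) h s ≠ 0 := by
    intro h0
    exact hs0 (specMap_injective X x h (h0.trans (map_zero _).symm))
  refine ⟨Ideal.Quotient.mk _ r, Ideal.Quotient.mk _ (s : X.presheaf.stalk x), ?_⟩
  rw [eq_div_iff]
  · have := congrArg (X.residue (genericPoint X)).hom hrs
    rw [map_mul] at this
    exact this
  · exact hsne

/-- Let X be integral with δ(η) = n, L an invertible O_X-module and s a global section of L whose germ
at η is nonzero. Then div_L(s) = [Z(s)]_{n−1} as (n − 1)-cycles, where s is viewed as a rational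
section through its image in L(η). Here L(ξ) = L_ξ/𝔪_ξ L_ξ is the space of rational sections of L on
the closure of ξ, div_{L|W}(s) and c_1(L) ∩ α are computed as coefficient functions from chosen
nonzero rational sections (Cyc.secDivFun, Cyc.c1CapFun), and results are compared up to rational
equivalence for any cycles with those coefficients. A pair (X, δ) with Cyc.IsSetup plays the role of
a scheme locally of finite type over a fixed base with a dimension function (X locally Noetherian
with universally catenary local rings, δ a dimension function), and Cyc.DeltaCompat records that the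
dimension function upstairs is the induced one. -/
theorem result (X : Scheme.{u}) [IsIntegral X] (δ : X → ℤ) (hX : Cyc.IsSetup X δ) (n : ℤ) (hn : δ (genericPoint X) = n) (L : X.Modules) (hL : PicF.IsInvertible L) (s : L.presheaf.obj (Opposite.op ⊤)) (hs : (L.presheaf.germ ⊤ (genericPoint X) trivial) s ≠ 0) : Cyc.secDivFun δ L (genericPoint X) (Submodule.Quotient.mk ((L.presheaf.germ ⊤ (genericPoint X) trivial) s)) = Cyc.zeroSectionFun δ (n - 1) L s := by
  obtain ⟨hNoeth, _, hdim⟩ := hX
  haveI := hNoeth
  funext x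
  have hspec : genericPoint X ⤳ x := (genericPoint_spec X).specializes trivial
  by_cases hx : δ x + 1 = n
  · have hcond : genericPoint X ⤳ x ∧ δ x + 1 = δ (genericPoint X) := ⟨hspec, by rw [hn]; exact hx⟩
    have hk : δ x = n - 1 := by omega
    -- generator of `L_x`
    obtain ⟨m, hm⟩ := Groth.Agent.Lib.H90PushStalkLocal.exists_stalk_bijective_of_isInvertible hL x
    have ht : ∃ t : L.presheaf.stalk x, Submodule.span (X.presheaf.stalk x) {t} = ⊤ := by
      refine ⟨m, ?_⟩
      rw [eq_top_iff]
      intro y _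
      obtain ⟨a, ha⟩ := hm.2 y
      exact Submodule.mem_span_singleton.mpr ⟨a, ha⟩
    have htspec := Classical.choose_spec ht
    have bij := bijective_smul_stalkSpecializes hL hspec (Classical.choose ht) htspec
    have hgerm : (L.presheaf.stalkSpecializes hspec) ((L.presheaf.germ ⊤ x trivial) s) =
        (L.presheaf.germ ⊤ (genericPoint X) trivial) s :=
      ConcreteCategory.congr_hom (L.presheaf.germ_stalkSpecializes (U := ⊤) trivial hspec) s
    have hf : ∃ f : X.presheaf.stalk x,
        (L.presheaf.germ ⊤ x trivial) s = f • Classical.choose ht := by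
      have hmem : (L.presheaf.germ ⊤ x trivial) s ∈
          Submodule.span (X.presheaf.stalk x) {Classical.choose ht} := by rw [htspec]; trivial
      obtain ⟨a, ha⟩ := Submodule.mem_span_singleton.mp hmem
      exact ⟨a, ha.symm⟩
    have hφ : ∃ φ : X.presheaf.stalk (genericPoint X),
        (Submodule.Quotient.mk ((L.presheaf.germ ⊤ (genericPoint X) trivial) s) :
          Cyc.secFibre L (genericPoint X)) =
        φ • (Submodule.Quotient.mk ((L.presheaf.stalkSpecializes hspec) (Classical.choose ht)) :
          Cyc.secFibre L (genericPoint X)) := by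
      obtain ⟨φ₀, hφ₀⟩ := bij.2 ((L.presheaf.germ ⊤ (genericPoint X) trivial) s)
      refine ⟨φ₀, ?_⟩
      rw [← Submodule.Quotient.mk_smul]
      exact congrArg _ hφ₀.symm
    obtain ⟨φ, hφs, hL1⟩ := secOrdAt_eq L (genericPoint X) x hspec _ ht hφ
    obtain ⟨f, hfs, hR1⟩ := zeroSectionFun_eq δ (n - 1) L s x hk ht hf
    unfold Cyc.secDivFun
    rw [dif_pos hcond, hL1, hR1]
    -- `φ = sp f`
    have hφf : φ = X.presheaf.stalkSpecializes hspec f := by
      have h1 : (L.presheaf.germ ⊤ (genericPoint X) trivial) s =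
          (X.presheaf.stalkSpecializes hspec f) •
            (L.presheaf.stalkSpecializes hspec) (Classical.choose ht) := by
        rw [← hgerm, hfs, Groth.Agent.Lib.GenericFree.stalkSpecializes_smul]
      rw [← Submodule.Quotient.mk_smul, Submodule.Quotient.eq, h1, ← sub_smul,
        maximalIdeal_genericPoint_eq_bot, Submodule.bot_smul, Submodule.mem_bot] at hφs
      have h2 := bij.1 (a₁ := X.presheaf.stalkSpecializes hspec f - φ) (a₂ := 0)
        (by simp only; rw [hφs, zero_smul])
      exact (sub_eq_zero.mp h2).symm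
    have hf0 : f ≠ 0 := by
      intro h0
      apply hs
      rw [← hgerm, hfs, h0, zero_smul, map_zero]
    have hker : RingHom.ker (Cyc.specMap x (genericPoint X) hspec) = ⊥ :=
      (RingHom.injective_iff_ker_eq_bot _).mp (specMap_injective X x hspec)
    haveI := isFractionRing_locQuot X x hspec
    haveI : Ring.KrullDimLE 1 (Cyc.LocQuot x (genericPoint X) hspec) := by
      rw [Ring.krullDimLE_iff, Groth.Agent.S6462.part2 hdim x (genericPoint X) hspec]
      have : (δ (genericPoint X) - δ x).toNat = 1 := by omega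
      rw [this]
    have hres : X.residue (genericPoint X) φ =
        algebraMap (Cyc.LocQuot x (genericPoint X) hspec) (X.residueField (genericPoint X))
          (Ideal.Quotient.mk _ f) := by
      rw [hφf]
      rfl
    unfold Cyc.ordAt
    rw [hres]
    exact ordFrac_eq_length (RingHom.ker (Cyc.specMap x (genericPoint X) hspec)) hker f hf0
  · unfold Cyc.secDivFun Cyc.zeroSectionFun
    rw [dif_neg (fun h => hx (by rw [← hn]; exact h.2)), if_neg (fun h => hx (by omega))]

end Groth.Agent.S1923
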