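import Groth.Statements.S1905
import Groth.Agent.S1923
import Groth.Agent.S1857
import Groth.Agent.Lib.CycFlatPull

set_option autoImplicit false
universe u
open CategoryTheory AlgebraicGeometry
open Cyc

namespace Groth.Agent.S1905

/-- `CycAlg.ordFrac` is additive on quotients -/
theorem ordFrac_div {R : Type u} [CommRing R] {K : Type u} [Field K] [Algebra R K]
    [IsNoetherianRing R] [Ring.KrullDimLE 1 R] [Nontrivial R] [IsFractionRing R K]
    (u v : K) (hu : u ≠ 0) (hv : v ≠ 0) :
    CycAlg.ordFrac R K (u / v) = CycAlg.ordFrac R K u - CycAlg.ordFrac R K v := by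
  have key : ∀ w : K, CycAlg.ordFrac R K w =
      WithZero.recZeroCoe (motive := fun _ => ℤ) 0 (fun z => Multiplicative.toAdd z)
        (Ring.ordFrac R w) := by
    intro w
    unfold CycAlg.ordFrac
    rw [dif_pos ⟨inferInstance, inferInstance, inferInstance, inferInstance⟩]
  rw [key, key, key, map_div₀]
  have hu' : Ring.ordFrac R u ≠ 0 := by
    rw [map_ne_zero]; exact hu
  have hv' : Ring.ordFrac R v ≠ 0 := by
    rw [map_ne_zero]; exact hv
  obtain ⟨a, ha⟩ := WithZero.ne_zero_iff_exists.mp hu'
  obtain ⟨b, hb⟩ := WithZero.ne_zero_iff_exists.mp hv'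
  rw [← ha, ← hb, ← WithZero.coe_div]
  simp only [WithZero.recZeroCoe_coe]
  rfl

/-- the order of a fraction in terms of lengths -/
theorem ordFrac_frac {R : Type u} [CommRing R] [IsNoetherianRing R] (I : Ideal R)
    (hI : I = ⊥) {κ : Type u} [Field κ] [Algebra (R ⧸ I) κ] [IsFractionRing (R ⧸ I) κ]
    [Ring.KrullDimLE 1 (R ⧸ I)] (a b : R) (ha : a ≠ 0) (hb : b ≠ 0) :
    CycAlg.ordFrac (R ⧸ I) κ (algebraMap (R ⧸ I) κ (Ideal.Quotient.mk I a) /
        algebraMap (R ⧸ I) κ (Ideal.Quotient.mk I b)) =
      ((Module.length R (R ⧸ Ideal.span {a})).toNat : ℤ) -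
        ((Module.length R (R ⧸ Ideal.span {b})).toNat : ℤ) := by
  haveI : IsDomain (R ⧸ I) := (FaithfulSMul.algebraMap_injective (R ⧸ I) κ).isDomain
  have hne : ∀ c : R, c ≠ 0 → algebraMap (R ⧸ I) κ (Ideal.Quotient.mk I c) ≠ 0 := by
    intro c hc h
    rw [map_eq_zero_iff _ (FaithfulSMul.algebraMap_injective (R ⧸ I) κ),
      Ideal.Quotient.eq_zero_iff_mem, hI] at h
    exact hc h
  rw [ordFrac_div _ _ (hne a ha) (hne b hb),
    Groth.Agent.S1923.ordFrac_eq_length I hI a ha, Groth.Agent.S1923.ordFrac_eq_length I hI b hb]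

open IsLocalRing in
/-- lengths of principal quotients along a flat local homomorphism -/
theorem length_quot_span_map {A B : Type u} [CommRing A] [CommRing B] [IsLocalRing A]
    [IsLocalRing B] (φ : A →+* B) [IsLocalHom φ] (hflat : φ.Flat) (a : A) :
    Module.length B (B ⧸ Ideal.span {φ a}) =
      Module.length A (A ⧸ Ideal.span {a}) *
        Module.length B (B ⧸ (maximalIdeal A).map φ) := by
  letI := φ.toAlgebra
  haveI : Module.Flat A B := hflat
  haveI : IsLocalHom (algebraMap A B) := inferInstanceAs (IsLocalHom φ)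
  have h1 := IsLocalRing.length_baseChange A B (A ⧸ Ideal.span {a})
  have e := (Algebra.TensorProduct.quotIdealMapEquivTensorQuot B
    (Ideal.span {a})).toLinearEquiv
  rw [← e.length_eq] at h1
  have h2 : (Ideal.span {a}).map (algebraMap A B) = Ideal.span {φ a} := by
    rw [Ideal.map_span, Set.image_singleton]; rfl
  rw [h2] at h1
  exact h1

section Geometry

variable {X Y : Scheme.{u}}

/-- a flat morphism of integral schemes maps the generic point to the generic point -/
theorem map_genericPoint [IsIntegral X] [IsIntegral Y] (f : X ⟶ Y) [Flat f] :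
    f (genericPoint X) = genericPoint Y := by
  have h1 : genericPoint Y ⤳ f (genericPoint X) := genericPoint_specializes _
  obtain ⟨a, ha, hfa⟩ := (Flat.generalizingMap f) h1
  have h2 : genericPoint X ⤳ a := genericPoint_specializes _
  have : a = genericPoint X := (ha.antisymm h2).eq
  rw [← hfa, this]

/-- `specMap` at a point equal to the generic point is injective -/
theorem specMap_injective' [IsIntegral Y] (ξ : Y) (hξ : ξ = genericPoint Y) (y : Y) (h : ξ ⤳ y) :
    Function.Injective (Cyc.specMap y ξ h) := by
  subst hξ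
  exact Groth.Agent.S1923.specMap_injective Y y h

theorem isFractionRing_locQuot' [IsIntegral Y] (ξ : Y) (hξ : ξ = genericPoint Y) (y : Y)
    (h : ξ ⤳ y) : IsFractionRing (Cyc.LocQuot y ξ h) (Y.residueField ξ) := by
  subst hξ
  exact Groth.Agent.S1923.isFractionRing_locQuot Y y h

/-- compatibility of `specMap` with a morphism -/
theorem specMap_comm (f : X ⟶ Y) (x η : X) (h : η ⤳ x) (a : Y.presheaf.stalk (f x)) :
    (f.residueFieldMap η).hom (Cyc.specMap (f x) (f η) (f.base.hom.map_specializes h) a) =
      Cyc.specMap x η h ((f.stalkMap x).hom a) := by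
  unfold Cyc.specMap
  have h1 := Scheme.Hom.stalkSpecializes_stalkMap_apply f η x h a
  have h2 := congr($(Scheme.residue_residueFieldMap f η)
    (Y.presheaf.stalkSpecializes (f.base.hom.map_specializes h) a))
  simp only [CommRingCat.comp_apply] at h2
  change (f.residueFieldMap η).hom ((Y.residue (f η)).hom
    ((Y.presheaf.stalkSpecializes (f.base.hom.map_specializes h)).hom a)) =
    (X.residue η).hom ((X.presheaf.stalkSpecializes h).hom ((f.stalkMap x).hom a))
  rw [← h1]
  exact h2

end Geometry

section Main

open IsLocalRing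

/-- the algebraic heart: comparison of the orders along a flat local homomorphism -/
theorem key_identity {A B : Type u} [CommRing A] [CommRing B] [IsLocalRing A]
    [IsLocalRing B] (φ : A →+* B) [IsLocalHom φ] (hflat : φ.Flat) (a b : A) :
    ((Module.length B (B ⧸ Ideal.span {φ a})).toNat : ℤ) -
      ((Module.length B (B ⧸ Ideal.span {φ b})).toNat : ℤ) =
    (((Module.length A (A ⧸ Ideal.span {a})).toNat : ℤ) -
      ((Module.length A (A ⧸ Ideal.span {b})).toNat : ℤ)) *
      ((Module.length B (B ⧸ (maximalIdeal A).map φ)).toNat : ℤ) := by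
  rw [length_quot_span_map φ hflat a, length_quot_span_map φ hflat b, ENat.toNat_mul,
    ENat.toNat_mul]
  push_cast
  ring

theorem length_quot_span_eq_zero_of_isUnit {A : Type u} [CommRing A] (a : A) (ha : IsUnit a) :
    Module.length A (A ⧸ Ideal.span {a}) = 0 := by
  have : Ideal.span {a} = ⊤ := Ideal.span_singleton_eq_top.mpr ha
  haveI : Subsingleton (A ⧸ Ideal.span {a}) := by
    rw [this]
    exact Ideal.Quotient.subsingleton_iff.mpr rfl
  exact Module.length_eq_zero

/-- in a local ring whose quotient by a zero ideal `I` is a zero-dimensional domain, nonzero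
elements are units -/
theorem isUnit_of_krullDimLE_zero {A : Type u} [CommRing A] (I : Ideal A) (hI : I = ⊥)
    [IsDomain (A ⧸ I)] [Ring.KrullDimLE 0 (A ⧸ I)] (a : A) (ha : a ≠ 0) : IsUnit a := by
  have hfield : IsField (A ⧸ I) := Ring.KrullDimLE.isField_of_isDomain
  have hne : Ideal.Quotient.mk I a ≠ 0 := by
    intro h
    rw [Ideal.Quotient.eq_zero_iff_mem, hI] at h
    exact ha h
  obtain ⟨c, hc⟩ := hfield.mul_inv_cancel hne
  obtain ⟨c, rfl⟩ := Ideal.Quotient.mk_surjective c
  rw [← map_mul, ← map_one (Ideal.Quotient.mk I), Ideal.Quotient.eq, hI, Ideal.mem_bot,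
    sub_eq_zero] at hc
  exact IsUnit.of_mul_eq_one c hc

end Main


/-- Let f : X → Y be a flat morphism, locally of finite type, of relative dimension r between integral
schemes, and g a nonzero rational function on Y, taken in the residue field at f(η_X) (the generic
point of Y). Then f^*(div_Y g) = div_X(g ∘ f) coefficientwise, where g ∘ f is the image of g in
κ(η_X). A pair (X, δ) with Cyc.IsSetup plays the role of a scheme locally of finite type over a
fixed base with a dimension function (X locally Noetherian with universally catenary local rings, δ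
a dimension function), and Cyc.DeltaCompat records that the dimension function upstairs is the
induced one. -/
theorem result (X Y : Scheme.{u}) [IsIntegral X] [IsIntegral Y] (δX : X → ℤ) (δY : Y → ℤ) (hX : Cyc.IsSetup X δX) (hY : Cyc.IsSetup Y δY) (f : X ⟶ Y) [Flat f] [LocallyOfFiniteType f] (r : ℕ) (hr : Cyc.HasRelDim f r) (hδ : Cyc.DeltaCompat f δX δY) (g : Y.residueField (f (genericPoint X))) (hg : g ≠ 0) : Cyc.pullFun f δX δY r (Cyc.divFun δY (f (genericPoint X)) g) = Cyc.divFun δX (genericPoint X) (f.residueFieldMap (genericPoint X) g) := by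
  classical
  obtain ⟨hXn, hXuc, hXd⟩ := hX
  obtain ⟨hYn, hYuc, hYd⟩ := hY
  have hgen : f (genericPoint X) = genericPoint Y := map_genericPoint f
  have hc := Groth.Agent.S1857.shift_of_hasRelDim f δX δY r hr hδ
  have hη : δX (genericPoint X) = δY (f (genericPoint X)) + r :=
    hc _ (fun y _ hy => ((genericPoint_specializes y).antisymm hy).eq.symm)
  funext x
  have hle := Groth.Agent.Lib.CycFlatPull.delta_le (p := f) (δ := δY) (δ' := δX) (c := r)
    hXd hc x
  have hspX : genericPoint X ⤳ x := genericPoint_specializes x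
  have hspY : f (genericPoint X) ⤳ f x := f.base.hom.map_specializes hspX
  have hdY : δY (f x) ≤ δY (f (genericPoint X)) :=
    Groth.Agent.S6462.delta_le_of_specializes hYd hspY
  have hRHS : Cyc.divFun δX (genericPoint X) (f.residueFieldMap (genericPoint X) g) x =
      if h : genericPoint X ⤳ x ∧ δX x + 1 = δX (genericPoint X) then
        Cyc.ordAt x (genericPoint X) h.1 (f.residueFieldMap (genericPoint X) g) else 0 := rfl
  have hLdiv : Cyc.divFun δY (f (genericPoint X)) g (f x) =
      if h : f (genericPoint X) ⤳ f x ∧ δY (f x) + 1 = δY (f (genericPoint X)) then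
        Cyc.ordAt (f x) (f (genericPoint X)) h.1 g else 0 := rfl
  have hLHS : Cyc.pullFun f δX δY r (Cyc.divFun δY (f (genericPoint X)) g) x =
      if δX x = δY (f x) + r then
        Cyc.divFun δY (f (genericPoint X)) g (f x) *
          ((Module.length (X.presheaf.stalk x)
            (X.presheaf.stalk x ⧸ Ideal.map (f.stalkMap x).hom
              (IsLocalRing.maximalIdeal (Y.presheaf.stalk (f x))))).toNat : ℤ)
      else 0 := rfl
  rw [hLHS, hRHS]
  by_cases hA : δX x + 1 = δX (genericPoint X)
  · rw [dif_pos ⟨hspX, hA⟩]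
    haveI : IsNoetherianRing (X.presheaf.stalk x) := inferInstance
    haveI : IsNoetherianRing (Y.presheaf.stalk (f x)) := inferInstance
    have hflat : (f.stalkMap x).hom.Flat := Flat.stalkMap f x
    have hIX : RingHom.ker (Cyc.specMap x (genericPoint X) hspX) = ⊥ :=
      (RingHom.injective_iff_ker_eq_bot _).mp (Groth.Agent.S1923.specMap_injective X x hspX)
    have hinjY := specMap_injective' _ hgen _ hspY
    have hIY : RingHom.ker (Cyc.specMap (f x) (f (genericPoint X)) hspY) = ⊥ :=
      (RingHom.injective_iff_ker_eq_bot _).mp hinjY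
    haveI hfrX := Groth.Agent.S1923.isFractionRing_locQuot X x hspX
    haveI hfrY := isFractionRing_locQuot' _ hgen (f x) hspY
    haveI hdomY : IsDomain (Cyc.LocQuot (f x) (f (genericPoint X)) hspY) :=
      (FaithfulSMul.algebraMap_injective _ (Y.residueField (f (genericPoint X)))).isDomain
    -- write `g` as a fraction
    obtain ⟨a', b', hb', hab⟩ := IsFractionRing.div_surjective
      (A := Cyc.LocQuot (f x) (f (genericPoint X)) hspY) g
    obtain ⟨a, rfl⟩ := Ideal.Quotient.mk_surjective a'
    obtain ⟨b, rfl⟩ := Ideal.Quotient.mk_surjective b'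
    have hb0 : b ≠ 0 := by
      rintro rfl
      exact nonZeroDivisors.ne_zero hb' (map_zero _)
    have ha0 : a ≠ 0 := by
      rintro rfl
      apply hg
      rw [← hab, map_zero, map_zero, zero_div]
    -- the images upstairs
    have hmk : ∀ c : Y.presheaf.stalk (f x),
        algebraMap (Cyc.LocQuot (f x) (f (genericPoint X)) hspY)
          (Y.residueField (f (genericPoint X))) (Ideal.Quotient.mk _ c) =
        Cyc.specMap (f x) (f (genericPoint X)) hspY c := fun c => rfl
    have hmkX : ∀ c : X.presheaf.stalk x,
        algebraMap (Cyc.LocQuot x (genericPoint X) hspX)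
          (X.residueField (genericPoint X)) (Ideal.Quotient.mk _ c) =
        Cyc.specMap x (genericPoint X) hspX c := fun c => rfl
    have hφne : ∀ c : Y.presheaf.stalk (f x), c ≠ 0 → (f.stalkMap x).hom c ≠ 0 := by
      intro c hc h0
      have h1 := specMap_comm f x (genericPoint X) hspX c
      rw [h0, map_zero] at h1
      have h2 : Cyc.specMap (f x) (f (genericPoint X)) hspY c = 0 :=
        (map_eq_zero_iff _ (RingHom.injective _)).mp h1
      exact hc (hinjY (h2.trans (map_zero _).symm))
    have hρ : (f.residueFieldMap (genericPoint X)) g =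
        algebraMap (Cyc.LocQuot x (genericPoint X) hspX) (X.residueField (genericPoint X))
            (Ideal.Quotient.mk _ ((f.stalkMap x).hom a)) /
          algebraMap (Cyc.LocQuot x (genericPoint X) hspX) (X.residueField (genericPoint X))
            (Ideal.Quotient.mk _ ((f.stalkMap x).hom b)) := by
      rw [← hab, hmk, hmk, hmkX, hmkX]
      change (f.residueFieldMap (genericPoint X)).hom _ = _
      rw [map_div₀, specMap_comm f x (genericPoint X) hspX a,
        specMap_comm f x (genericPoint X) hspX b]
    -- dimension upstairs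
    have hdimX : ringKrullDim (Cyc.LocQuot x (genericPoint X) hspX) = (1 : ℕ) := by
      rw [Groth.Agent.S6462.part2 hXd x _ hspX]
      have : δX (genericPoint X) - δX x = 1 := by omega
      rw [this]
      rfl
    haveI : Ring.KrullDimLE 1 (Cyc.LocQuot x (genericPoint X) hspX) :=
      Ring.krullDimLE_iff.mpr hdimX.le
    have hR : Cyc.ordAt x (genericPoint X) hspX ((f.residueFieldMap (genericPoint X)) g) =
        (((Module.length (Y.presheaf.stalk (f x))
            (Y.presheaf.stalk (f x) ⧸ Ideal.span {a})).toNat : ℤ) -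
          ((Module.length (Y.presheaf.stalk (f x))
            (Y.presheaf.stalk (f x) ⧸ Ideal.span {b})).toNat : ℤ)) *
        ((Module.length (X.presheaf.stalk x)
            (X.presheaf.stalk x ⧸ Ideal.map (f.stalkMap x).hom
              (IsLocalRing.maximalIdeal (Y.presheaf.stalk (f x))))).toNat : ℤ) := by
      rw [hρ]
      unfold Cyc.ordAt
      rw [ordFrac_frac _ hIX _ _ (hφne a ha0) (hφne b hb0),
        key_identity (f.stalkMap x).hom hflat a b]
    rw [hR]
    by_cases h1 : δX x = δY (f x) + r
    · rw [if_pos h1, hLdiv, dif_pos ⟨hspY, by omega⟩]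
      have hdimY : ringKrullDim (Cyc.LocQuot (f x) (f (genericPoint X)) hspY) = (1 : ℕ) := by
        rw [Groth.Agent.S6462.part2 hYd (f x) _ hspY]
        have : δY (f (genericPoint X)) - δY (f x) = 1 := by omega
        rw [this]
        rfl
      haveI : Ring.KrullDimLE 1 (Cyc.LocQuot (f x) (f (genericPoint X)) hspY) :=
        Ring.krullDimLE_iff.mpr hdimY.le
      congr 1
      unfold Cyc.ordAt
      rw [← hab, ordFrac_frac _ hIY a b ha0 hb0]
    · rw [if_neg h1]
      have hdimY : ringKrullDim (Cyc.LocQuot (f x) (f (genericPoint X)) hspY) = (0 : ℕ) := by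
        rw [Groth.Agent.S6462.part2 hYd (f x) _ hspY]
        have : δY (f (genericPoint X)) - δY (f x) = 0 := by
          have := lt_of_le_of_ne hle h1
          omega
        rw [this]
        rfl
      haveI : Ring.KrullDimLE 0 (Cyc.LocQuot (f x) (f (genericPoint X)) hspY) :=
        Ring.krullDimLE_iff.mpr hdimY.le
      rw [length_quot_span_eq_zero_of_isUnit a (isUnit_of_krullDimLE_zero _ hIY a ha0),
        length_quot_span_eq_zero_of_isUnit b (isUnit_of_krullDimLE_zero _ hIY b hb0)]
      simp
  · rw [dif_neg (fun h => hA h.2)]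
    by_cases h1 : δX x = δY (f x) + r
    · rw [if_pos h1, hLdiv, dif_neg, zero_mul]
      intro h2
      apply hA
      have := h2.2
      omega
    · rw [if_neg h1]

end Groth.Agent.S1905
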