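import Groth.Statements.S1907
import Groth.Agent.S1905
import Groth.Agent.S1857
import Groth.Agent.Lib.CycFlatPull
import Groth.Agent.S1833
import Groth.Agent.Lib.LocFact82
import Groth.Agent.Lib.PurInsepTensorLength

set_option autoImplicit false
universe u
open CategoryTheory AlgebraicGeometry
open Cyc

namespace Groth.Agent.S1907

section Alg

/-- `CycAlg.ordFrac` of an element of the ring is its order of vanishing -/
theorem ordFrac_algebraMap {R : Type u} [CommRing R] [IsNoetherianRing R] [IsDomain R]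
    [Ring.KrullDimLE 1 R] {K : Type u} [Field K] [Algebra R K] [IsFractionRing R K]
    (c : R) (hc : c ≠ 0) :
    CycAlg.ordFrac R K (algebraMap R K c) = ((Ring.ord R c).toNat : ℤ) := by
  have hnzd : c ∈ nonZeroDivisors R := mem_nonZeroDivisors_iff_ne_zero.mpr hc
  unfold CycAlg.ordFrac
  rw [dif_pos ⟨inferInstance, inferInstance, inferInstance, inferInstance⟩]
  have htop : Ring.ord R c ≠ ⊤ := Ring.ord_ne_top hnzd
  obtain ⟨n, hn⟩ := ENat.ne_top_iff_exists.mp htop
  rw [Ring.ordFrac_eq_ord R hc, Ring.ordMonoidWithZeroHom_eq_coe R hnzd hn.symm, ← hn]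
  simp

theorem ordFrac_frac {R : Type u} [CommRing R] [IsNoetherianRing R] [IsDomain R]
    [Ring.KrullDimLE 1 R] {K : Type u} [Field K] [Algebra R K] [IsFractionRing R K]
    (c d : R) (hc : c ≠ 0) (hd : d ≠ 0) :
    CycAlg.ordFrac R K (algebraMap R K c / algebraMap R K d) =
      ((Ring.ord R c).toNat : ℤ) - ((Ring.ord R d).toNat : ℤ) := by
  have hinj := FaithfulSMul.algebraMap_injective R K
  rw [Groth.Agent.S1905.ordFrac_div _ _
      (fun h => hc (hinj (h.trans (map_zero _).symm)))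
      (fun h => hd (hinj (h.trans (map_zero _).symm))),
    ordFrac_algebraMap c hc, ordFrac_algebraMap d hd]

/-- the image of a nonzero element of a domain under a flat ring map is a nonzerodivisor -/
theorem ker_lsmul_eq_bot_of_flat {A B : Type u} [CommRing A] [CommRing B] [IsDomain A]
    (φ : A →+* B) (hflat : φ.Flat) (a : A) (ha : a ≠ 0) :
    LinearMap.ker (LinearMap.lsmul B B (φ a)) = ⊥ := by
  letI := φ.toAlgebra
  haveI : Module.Flat A B := hflat
  have hreg : IsSMulRegular B a :=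
    Module.Flat.isSMulRegular_of_nonZeroDivisors (mem_nonZeroDivisors_iff_ne_zero.mpr ha)
  rw [LinearMap.ker_eq_bot]
  intro b b' hbb
  apply hreg
  simp only [LinearMap.lsmul_apply, smul_eq_mul] at hbb
  change φ a * b = φ a * b'
  exact hbb

end Alg

section Geom

open Groth.Agent.Lib.LocFact82

variable {X Y : Scheme.{u}}

theorem ker_specMap_eq_genPrime (x ξ : X) (h : ξ ⤳ x) :
    RingHom.ker (Cyc.specMap x ξ h) = genPrime X h :=
  Groth.Agent.S6462.ker_specMap x ξ h

/-- `κ(ξ)` is the fraction field of `O_{X,x}/𝔭_ξ` for any specialization `ξ ⤳ x` -/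
theorem isFractionRing_locQuot (x ξ : X) (h : ξ ⤳ x) :
    IsFractionRing (Cyc.LocQuot x ξ h) (X.residueField ξ) := by
  have hinj : Function.Injective (algebraMap (Cyc.LocQuot x ξ h) (X.residueField ξ)) :=
    RingHom.kerLift_injective (Cyc.specMap x ξ h)
  haveI : FaithfulSMul (Cyc.LocQuot x ξ h) (X.residueField ξ) :=
    (faithfulSMul_iff_algebraMap_injective _ _).mpr hinj
  apply IsFractionRing.of_field
  intro z
  obtain ⟨a, rfl⟩ := IsLocalRing.residue_surjective z
  letI := (X.presheaf.stalkSpecializes h).hom.toAlgebra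
  haveI := isLocalization_genPrime X h
  obtain ⟨⟨r, s⟩, hrs⟩ := IsLocalization.surj (genPrime X h).primeCompl
    (S := X.presheaf.stalk ξ) a
  have hsne : Cyc.specMap x ξ h s ≠ 0 := by
    intro h0
    have : (s : X.presheaf.stalk x) ∈ RingHom.ker (Cyc.specMap x ξ h) := h0
    rw [ker_specMap_eq_genPrime] at this
    exact s.2 this
  refine ⟨Ideal.Quotient.mk _ r, Ideal.Quotient.mk _ (s : X.presheaf.stalk x), ?_⟩
  rw [eq_div_iff]
  · have := congrArg (X.residue ξ).hom hrs
    rw [map_mul] at this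
    exact this
  · exact hsne

end Geom

section Points

open Groth.Agent.Lib.LocFact82

variable {X Y : Scheme.{u}} [IsIntegral Y] (f : X ⟶ Y) {δX : X → ℤ} {δY : Y → ℤ}
  (hXd : Cyc.IsDimFun X δX) (hYd : Cyc.IsDimFun Y δY) {k r : ℤ}
  (hk : δY (genericPoint Y) = k) (hle : ∀ z : X, δX z ≤ δY (f z) + r)

include hYd hk hle in
theorem bound (z : X) : δX z ≤ k + r := by
  have h1 := hle z
  have h2 := Groth.Agent.S6462.delta_le_of_specializes hYd (genericPoint_specializes (f z))
  omega

include hXd hYd hk hle in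
theorem gen_props (x : X) (hx1 : δX x + 1 = k + r) (ζ : X) (h : ζ ⤳ x) (hne : ζ ≠ x) :
    δX ζ = k + r ∧ f ζ = genericPoint Y ∧ (∀ x' : X, x' ⤳ ζ → x' = ζ) := by
  have h1 := (hXd ζ x h hne).1
  have h2 := bound f hYd hk hle ζ
  have h3 : δX ζ = k + r := by omega
  refine ⟨h3, ?_, ?_⟩
  · by_contra hη
    have h4 := (hYd (genericPoint Y) (f ζ) (genericPoint_specializes (f ζ))
      (fun e => hη e.symm)).1
    have h5 := hle ζ
    omega
  · intro x' hx'
    by_contra hne'
    have h4 := (hXd x' ζ hx' hne').1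
    have h5 := bound f hYd hk hle x'
    omega

theorem specializes_of_genPrime_le {ζ ζ' x : X} (h : ζ ⤳ x) (h' : ζ' ⤳ x)
    (hle : genPrime X h' ≤ genPrime X h) : ζ' ⤳ ζ := by
  have h1 : (⟨genPrime X h', inferInstance⟩ : PrimeSpectrum (X.presheaf.stalk x)) ⤳
      ⟨genPrime X h, inferInstance⟩ :=
    (PrimeSpectrum.le_iff_specializes _ _).mp hle
  have := h1.map (X.fromSpecStalk x).continuous
  rwa [fromSpecStalk_genPrime, fromSpecStalk_genPrime] at this

theorem genPrime_eq_maximalIdeal {ζ x : X} (h : ζ ⤳ x) (e : ζ = x) :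
    genPrime X h = IsLocalRing.maximalIdeal (X.presheaf.stalk x) := by
  subst e
  exact genPrime_refl X ζ

end Points

section Transport

open Groth.Agent.Lib.LocFact82

variable {X Y : Scheme.{u}}

theorem residueFieldMap_congr_specMap (f : X ⟶ Y) (x ξ : X) (h : ξ ⤳ x) (η : Y) (e : f ξ = η)
    (hη : η ⤳ f x) (a : Y.presheaf.stalk (f x)) :
    (f.residueFieldMap ξ).hom ((Y.residueFieldCongr e.symm).hom (Cyc.specMap (f x) η hη a)) =
      Cyc.specMap x ξ h ((f.stalkMap x).hom a) := by
  subst e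
  rw [← Groth.Agent.S1905.specMap_comm f x ξ h a]
  simp

theorem specMap_stalkMap_ne_zero [IsIntegral Y] (f : X ⟶ Y) (x ζ : X) (h : ζ ⤳ x)
    (hfζ : f ζ = genericPoint Y) (a : Y.presheaf.stalk (f x)) (ha : a ≠ 0) :
    Cyc.specMap x ζ h ((f.stalkMap x).hom a) ≠ 0 := by
  intro h0
  rw [← Groth.Agent.S1905.specMap_comm f x ζ h a] at h0
  have h2 : Cyc.specMap (f x) (f ζ) (f.base.hom.map_specializes h) a = 0 :=
    (map_eq_zero_iff _ (RingHom.injective _)).mp h0
  exact ha (Groth.Agent.S1905.specMap_injective' _ hfζ _ _ (h2.trans (map_zero _).symm))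

end Transport

section GoodSec

open Groth.Agent.Lib.LocFact82 Groth.Agent.Lib.LenQuotFormula

variable {X Y : Scheme.{u}} [IsIntegral Y] (f : X ⟶ Y) [Flat f] {δX : X → ℤ} {δY : Y → ℤ}
  (hXd : Cyc.IsDimFun X δX) (hYd : Cyc.IsDimFun Y δY) {k r : ℤ}
  (hk : δY (genericPoint Y) = k) (hle : ∀ z : X, δX z ≤ δY (f z) + r)

include hXd hYd hk hle in
theorem good (x : X) (hx1 : δX x + 1 = k + r) (a : Y.presheaf.stalk (f x)) (ha : a ≠ 0) :
    Good ((f.stalkMap x).hom a) (X.presheaf.stalk x) := by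
  constructor
  · intro q _ q' _ hlt
    obtain ⟨ζ, h, hq⟩ := exists_genPrime_eq X x q.asIdeal
    obtain ⟨ζ', h', hq'⟩ := exists_genPrime_eq X x q'.asIdeal
    by_contra hqm
    have hne : ζ ≠ x := fun e => hqm (hq ▸ genPrime_eq_maximalIdeal h e)
    have hsp : ζ' ⤳ ζ := specializes_of_genPrime_le h h' (by rw [hq, hq']; exact hlt.le)
    have hne' : ζ' ≠ ζ := by
      rintro rfl
      exact hlt.ne (PrimeSpectrum.ext (hq'.symm.trans hq))
    have h1 := (gen_props f hXd hYd hk hle x hx1 ζ h hne).1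
    have h2 := (hXd ζ' ζ hsp hne').1
    have h3 := bound f hYd hk hle ζ'
    omega
  · intro q _ hxq
    obtain ⟨ζ, h, hq⟩ := exists_genPrime_eq X x q.asIdeal
    by_contra hqm
    have hne : ζ ≠ x := fun e => hqm (hq ▸ genPrime_eq_maximalIdeal h e)
    obtain ⟨-, hfζ, -⟩ := gen_props f hXd hYd hk hle x hx1 ζ h hne
    apply specMap_stalkMap_ne_zero f x ζ h hfζ a ha
    have : (f.stalkMap x).hom a ∈ RingHom.ker (Cyc.specMap x ζ h) := by
      rw [ker_specMap_eq_genPrime, hq]; exact hxq
    exact this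

end GoodSec

section Formula

open Groth.Agent.Lib.LocFact82 Groth.Agent.Lib.LenQuotFormula
open Pointwise

theorem T_finite {B : Type u} [CommRing B] [IsNoetherianRing B] [IsLocalRing B] (y : B)
    (hG : Good y B) : (T B).Finite := by
  refine hG.finite.subset ?_
  intro q hq
  refine ⟨?_, hq⟩
  have : Module.support B B = Set.univ := by
    rw [Module.support_of_algebra]
    have : RingHom.ker (algebraMap B B) = ⊥ :=
      (RingHom.injective_iff_ker_eq_bot _).mp (fun _ _ h => h)
    rw [this]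
    simp
  rw [this]
  trivial

theorem toNat_length_formula {B : Type u} [CommRing B] [IsNoetherianRing B] [IsLocalRing B] (y : B)
    (hG : Good y B) (hker : LinearMap.ker (LinearMap.lsmul B B y) = ⊥) :
    (Module.length B (B ⧸ Ideal.span {y})).toNat =
      ∑ᶠ q ∈ T B, (c y q).toNat * (ellq B q).toNat := by
  have hmain := main (x := y) B hG
  have hfin := hG.length_quot_lt_top
  have h0 : Module.length B (LinearMap.ker (LinearMap.lsmul B B y)) = 0 := by
    rw [hker]
    exact Module.length_eq_zero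
  have hspan : y • (⊤ : Submodule B B) = Ideal.span {y} := by
    rw [← Submodule.ideal_span_singleton_smul, smul_eq_mul, Ideal.mul_top]
  rw [h0, zero_add] at hmain
  have hTfin := T_finite y hG
  unfold S at hmain
  rw [finsum_mem_eq_finite_toFinset_sum _ hTfin] at hmain
  rw [finsum_mem_eq_finite_toFinset_sum _ hTfin]
  have hlen : Module.length B (B ⧸ Ideal.span {y}) =
      Module.length B (B ⧸ y • (⊤ : Submodule B B)) := by
    rw [hspan]
  rw [hlen, hmain]
  rw [hmain] at hfin
  have hne : ∀ q ∈ hTfin.toFinset, c y q * ellq B q ≠ ⊤ := ENat.sum_ne_top.mp hfin.ne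
  rw [ENat.toNat_sum hne]
  refine Finset.sum_congr rfl fun q _ => ?_
  rw [ENat.toNat_mul]

theorem length_localizedModule_self {R : Type u} [CommRing R] (p : Ideal R) [p.IsPrime] :
    Module.length (Localization.AtPrime p) (LocalizedModule p.primeCompl R) =
      Module.length (Localization.AtPrime p) (Localization.AtPrime p) := by
  have e : LocalizedModule p.primeCompl R ≃ₗ[R] Localization.AtPrime p :=
    IsLocalizedModule.iso p.primeCompl (Algebra.linearMap R (Localization.AtPrime p))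
  exact (e.extendScalarsOfIsLocalization p.primeCompl (Localization.AtPrime p)).length_eq

theorem ellq_genPrime {X : Scheme.{u}} (x ξ : X) (h : ξ ⤳ x) :
    ellq (X.presheaf.stalk x)
        (⟨genPrime X h, inferInstance⟩ : PrimeSpectrum (X.presheaf.stalk x)) =
      Module.length (X.presheaf.stalk ξ) (X.presheaf.stalk ξ) := by
  unfold ellq
  rw [length_localizedModule_self]
  let _ := (X.presheaf.stalkSpecializes h).hom.toAlgebra
  have := isLocalization_genPrime X h
  exact Groth.Agent.Lib.PurInsepTensorLength.length_self_eq_of_ringEquiv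
    (IsLocalization.algEquiv (genPrime X h).primeCompl
      (Localization.AtPrime (genPrime X h)) (X.presheaf.stalk ξ)).toRingEquiv

theorem ord_quot_congr {B : Type u} [CommRing B] (I J : Ideal B) (e : I = J) (y : B) :
    Ring.ord (B ⧸ I) (Ideal.Quotient.mk I y) = Ring.ord (B ⧸ J) (Ideal.Quotient.mk J y) := by
  subst e; rfl

theorem ordAt_eq {X : Scheme.{u}} [IsLocallyNoetherian X] {δX : X → ℤ}
    (hXd : Cyc.IsDimFun X δX) (x ξ : X) (h : ξ ⤳ x) (hdim : δX x + 1 = δX ξ)
    (y z : X.presheaf.stalk x) (hy : Cyc.specMap x ξ h y ≠ 0) (hz : Cyc.specMap x ξ h z ≠ 0) :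
    Cyc.ordAt x ξ h (Cyc.specMap x ξ h y / Cyc.specMap x ξ h z) =
      ((c y (⟨genPrime X h, inferInstance⟩ : PrimeSpectrum (X.presheaf.stalk x))).toNat : ℤ) -
        ((c z (⟨genPrime X h, inferInstance⟩ : PrimeSpectrum (X.presheaf.stalk x))).toNat : ℤ) := by
  haveI : IsNoetherianRing (X.presheaf.stalk x) := inferInstance
  haveI : (RingHom.ker (Cyc.specMap x ξ h)).IsPrime := RingHom.ker_isPrime _
  haveI : IsDomain (Cyc.LocQuot x ξ h) := Ideal.Quotient.isDomain _
  haveI := isFractionRing_locQuot x ξ h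
  have hdimX : ringKrullDim (Cyc.LocQuot x ξ h) = (1 : ℕ) := by
    rw [Groth.Agent.S6462.part2 hXd x _ h]
    have : δX ξ - δX x = 1 := by omega
    rw [this]
    rfl
  haveI : Ring.KrullDimLE 1 (Cyc.LocQuot x ξ h) := Ring.krullDimLE_iff.mpr hdimX.le
  have hy' : Ideal.Quotient.mk (RingHom.ker (Cyc.specMap x ξ h)) y ≠ 0 := by
    intro h0
    exact hy (RingHom.mem_ker.mp (Ideal.Quotient.eq_zero_iff_mem.mp h0))
  have hz' : Ideal.Quotient.mk (RingHom.ker (Cyc.specMap x ξ h)) z ≠ 0 := by
    intro h0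
    exact hz (RingHom.mem_ker.mp (Ideal.Quotient.eq_zero_iff_mem.mp h0))
  have key := ordFrac_frac (K := X.residueField ξ) _ _ hy' hz'
  unfold Cyc.ordAt
  rw [ord_quot_congr _ _ (ker_specMap_eq_genPrime x ξ h) y,
    ord_quot_congr _ _ (ker_specMap_eq_genPrime x ξ h) z] at key
  exact key

end Formula

section Reindex

open Groth.Agent.Lib.LocFact82 Groth.Agent.Lib.LenQuotFormula

theorem reindex {X : Scheme.{u}} (x : X) (P : X → Prop) (F : {ξ : X // P ξ} → ℤ)
    (G : PrimeSpectrum (X.presheaf.stalk x) → ℤ)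
    (hF : ∀ ξ : {ξ : X // P ξ}, ∀ h : ξ.1 ⤳ x, F ξ = G ⟨genPrime X h, inferInstance⟩)
    (hF0 : ∀ ξ : {ξ : X // P ξ}, ¬ ξ.1 ⤳ x → F ξ = 0)
    (hne : ∀ ξ : {ξ : X // P ξ}, ξ.1 ≠ x)
    (hP : ∀ ζ : X, ζ ⤳ x → ζ ≠ x → P ζ) :
    ∑ᶠ ξ, F ξ = ∑ᶠ q ∈ T (X.presheaf.stalk x), G q := by
  classical
  let e : {ξ : X // P ξ} → PrimeSpectrum (X.presheaf.stalk x) := fun ξ =>
    if h : ξ.1 ⤳ x then ⟨genPrime X h, inferInstance⟩ else IsLocalRing.closedPoint _
  let s : Set {ξ : X // P ξ} := {ξ | ξ.1 ⤳ x}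
  have hsupp : Function.support F ⊆ s := by
    intro ξ hξ
    by_contra hns
    exact hξ (hF0 ξ hns)
  rw [← finsum_mem_univ, finsum_mem_inter_support_eq' F Set.univ s
    (fun ξ hξ => ⟨fun _ => hsupp hξ, fun _ => trivial⟩)]
  refine finsum_mem_eq_of_bijOn e ⟨?_, ?_, ?_⟩ ?_
  · intro ξ (hξ : ξ.1 ⤳ x)
    show (e ξ).asIdeal ≠ IsLocalRing.maximalIdeal _
    simp only [e, dif_pos hξ]
    intro heq
    rw [← genPrime_refl X x] at heq
    exact hne ξ (eq_of_genPrime_eq X hξ specializes_rfl heq)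
  · intro ξ (hξ : ξ.1 ⤳ x) ξ' (hξ' : ξ'.1 ⤳ x) hee
    simp only [e, dif_pos hξ, dif_pos hξ'] at hee
    exact Subtype.ext (eq_of_genPrime_eq X hξ hξ' (congrArg PrimeSpectrum.asIdeal hee))
  · intro q (hq : q.asIdeal ≠ IsLocalRing.maximalIdeal _)
    obtain ⟨ζ, h, hζ⟩ := exists_genPrime_eq X x q.asIdeal
    have hζx : ζ ≠ x := fun e' => hq (hζ ▸ genPrime_eq_maximalIdeal h e')
    refine ⟨⟨ζ, hP ζ h hζx⟩, h, ?_⟩
    simp only [e, dif_pos h]
    exact PrimeSpectrum.ext hζ
  · intro ξ (hξ : ξ.1 ⤳ x)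
    simp only [e, dif_pos hξ]
    exact hF ξ hξ

end Reindex

/-- Let Y be integral with δY(η_Y) = k, f : X → Y flat, locally of finite type, of relative dimension r,
and g a nonzero rational function on Y. Then f^*(div_Y g) = Σ_j n_j · div_{X_j}(g|_{X_j}) as (k + r
− 1)-cycles on X, the sum over the irreducible components X_j of X (generic points ξ_j, which map to
η_Y) with n_j the length of O_{X,ξ_j}, and g|_{X_j} the image of g in κ(ξ_j). A pair (X, δ) with
Cyc.IsSetup plays the role of a scheme locally of finite type over a fixed base with a dimension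
function (X locally Noetherian with universally catenary local rings, δ a dimension function), and
Cyc.DeltaCompat records that the dimension function upstairs is the induced one. -/
theorem result (X Y : Scheme.{u}) [IsIntegral Y] (δX : X → ℤ) (δY : Y → ℤ) (hX : Cyc.IsSetup X δX) (hY : Cyc.IsSetup Y δY) (f : X ⟶ Y) [Flat f] [LocallyOfFiniteType f] (r : ℕ) (hr : Cyc.HasRelDim f r) (hδ : Cyc.DeltaCompat f δX δY) (k : ℤ) (hk : δY (genericPoint Y) = k) (g : Y.residueField (genericPoint Y)) (hg : g ≠ 0) (x : X) : Cyc.pullFun f δX δY r (Cyc.divFun δY (genericPoint Y) g) x = ∑ᶠ ξ : {ξ : X // (∀ x' : X, x' ⤳ ξ → x' = ξ) ∧ f ξ = genericPoint Y}, ((Module.length (X.presheaf.stalk ξ.1) (X.presheaf.stalk ξ.1)).toNat : ℤ) * Cyc.divFun δX ξ.1 (f.residueFieldMap ξ.1 ((Y.residueFieldCongr ξ.2.2.symm).hom g)) x := by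
  classical
  obtain ⟨hXn, hXuc, hXd⟩ := hX
  obtain ⟨hYn, hYuc, hYd⟩ := hY
  have hc := Groth.Agent.S1857.shift_of_hasRelDim f δX δY r hr hδ
  have hle : ∀ z : X, δX z ≤ δY (f z) + (r : ℤ) := fun z =>
    Groth.Agent.Lib.CycFlatPull.delta_le (p := f) (δ := δY) (δ' := δX) (c := r) hXd hc z
  have hidx : ∀ ξ : X, (∀ x' : X, x' ⤳ ξ → x' = ξ) → f ξ = genericPoint Y → δX ξ = k + r := by
    intro ξ hmax hfξ
    have := hc ξ (fun y _ hy => hmax y hy)
    rw [this, hfξ, hk]
  have hspY : genericPoint Y ⤳ f x := genericPoint_specializes _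
  have hLdiv : Cyc.divFun δY (genericPoint Y) g (f x) =
      if h : genericPoint Y ⤳ f x ∧ δY (f x) + 1 = δY (genericPoint Y) then
        Cyc.ordAt (f x) (genericPoint Y) h.1 g else 0 := rfl
  have hLHS : Cyc.pullFun f δX δY r (Cyc.divFun δY (genericPoint Y) g) x =
      if δX x = δY (f x) + r then
        Cyc.divFun δY (genericPoint Y) g (f x) *
          ((Module.length (X.presheaf.stalk x)
            (X.presheaf.stalk x ⧸ Ideal.map (f.stalkMap x).hom
              (IsLocalRing.maximalIdeal (Y.presheaf.stalk (f x))))).toNat : ℤ)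
      else 0 := rfl
  have hdivX : ∀ (ξ : X) (u : X.residueField ξ), Cyc.divFun δX ξ u x =
      if h : ξ ⤳ x ∧ δX x + 1 = δX ξ then Cyc.ordAt x ξ h.1 u else 0 := fun _ _ => rfl
  have hdY : δY (f x) ≤ k := by
    rw [← hk]
    exact Groth.Agent.S6462.delta_le_of_specializes hYd hspY
  rw [hLHS]
  by_cases hx1 : δX x + 1 = k + r
  · -- the main case
    haveI : IsNoetherianRing (X.presheaf.stalk x) := inferInstance
    haveI : IsNoetherianRing (Y.presheaf.stalk (f x)) := inferInstance
    have hflat : (f.stalkMap x).hom.Flat := Flat.stalkMap f x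
    have hinjY := Groth.Agent.S1905.specMap_injective' (genericPoint Y) rfl (f x) hspY
    have hIY : RingHom.ker (Cyc.specMap (f x) (genericPoint Y) hspY) = ⊥ :=
      (RingHom.injective_iff_ker_eq_bot _).mp hinjY
    haveI hfrY := Groth.Agent.S1905.isFractionRing_locQuot' (genericPoint Y) rfl (f x) hspY
    haveI hdomY : IsDomain (Cyc.LocQuot (f x) (genericPoint Y) hspY) :=
      (FaithfulSMul.algebraMap_injective _ (Y.residueField (genericPoint Y))).isDomain
    obtain ⟨a', b', hb', hab⟩ := IsFractionRing.div_surjective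
      (A := Cyc.LocQuot (f x) (genericPoint Y) hspY) g
    obtain ⟨a, rfl⟩ := Ideal.Quotient.mk_surjective a'
    obtain ⟨b, rfl⟩ := Ideal.Quotient.mk_surjective b'
    have hb0 : b ≠ 0 := by
      rintro rfl
      exact nonZeroDivisors.ne_zero hb' (map_zero _)
    have ha0 : a ≠ 0 := by
      rintro rfl
      apply hg
      rw [← hab, map_zero, map_zero, zero_div]
    have hmk : ∀ c : Y.presheaf.stalk (f x),
        algebraMap (Cyc.LocQuot (f x) (genericPoint Y) hspY)
          (Y.residueField (genericPoint Y)) (Ideal.Quotient.mk _ c) =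
        Cyc.specMap (f x) (genericPoint Y) hspY c := fun c => rfl
    have hGa := good f hXd hYd hk hle x hx1 a ha0
    have hGb := good f hXd hYd hk hle x hx1 b hb0
    have hka := ker_lsmul_eq_bot_of_flat (f.stalkMap x).hom hflat a ha0
    have hkb := ker_lsmul_eq_bot_of_flat (f.stalkMap x).hom hflat b hb0
    have hTfin := T_finite _ hGa
    have hLa := congrArg (Nat.cast : ℕ → ℤ) (toNat_length_formula _ hGa hka)
    have hLb := congrArg (Nat.cast : ℕ → ℤ) (toNat_length_formula _ hGb hkb)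
    rw [finsum_mem_eq_finite_toFinset_sum _ hTfin] at hLa hLb
    push_cast at hLa hLb
    -- the right hand side
    have hRHS := reindex x (fun ξ : X => (∀ x' : X, x' ⤳ ξ → x' = ξ) ∧ f ξ = genericPoint Y)
      (fun ξ => ((Module.length (X.presheaf.stalk ξ.1) (X.presheaf.stalk ξ.1)).toNat : ℤ) *
        Cyc.divFun δX ξ.1 (f.residueFieldMap ξ.1 ((Y.residueFieldCongr ξ.2.2.symm).hom g)) x)
      (fun q => (((Groth.Agent.Lib.LenQuotFormula.c ((f.stalkMap x).hom a) q).toNat : ℤ) -
          ((Groth.Agent.Lib.LenQuotFormula.c ((f.stalkMap x).hom b) q).toNat : ℤ)) *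
        ((Groth.Agent.Lib.LenQuotFormula.ellq (X.presheaf.stalk x) q).toNat : ℤ))
      (by
        intro ξ h
        have hδξ := hidx ξ.1 ξ.2.1 ξ.2.2
        have hgξ : (f.residueFieldMap ξ.1) ((Y.residueFieldCongr ξ.2.2.symm).hom g) =
            Cyc.specMap x ξ.1 h ((f.stalkMap x).hom a) /
              Cyc.specMap x ξ.1 h ((f.stalkMap x).hom b) := by
          rw [← hab, hmk, hmk]
          change (f.residueFieldMap ξ.1).hom ((Y.residueFieldCongr ξ.2.2.symm).hom _) = _
          rw [map_div₀, map_div₀,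
            residueFieldMap_congr_specMap f x ξ.1 h (genericPoint Y) ξ.2.2 hspY a,
            residueFieldMap_congr_specMap f x ξ.1 h (genericPoint Y) ξ.2.2 hspY b]
        simp only []
        rw [hdivX, dif_pos ⟨h, by omega⟩, hgξ,
          ordAt_eq hXd x ξ.1 h (by omega) _ _
            (specMap_stalkMap_ne_zero f x ξ.1 h ξ.2.2 a ha0)
            (specMap_stalkMap_ne_zero f x ξ.1 h ξ.2.2 b hb0),
          ellq_genPrime x ξ.1 h, mul_comm])
      (by
        intro ξ h
        simp only []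
        rw [hdivX, dif_neg (fun h' => h h'.1), mul_zero])
      (by
        intro ξ e
        have hδξ := hidx ξ.1 ξ.2.1 ξ.2.2
        rw [e] at hδξ
        omega)
      (by
        intro ζ h hne
        obtain ⟨-, h2, h3⟩ := gen_props f hXd hYd hk hle x hx1 ζ h hne
        exact ⟨h3, h2⟩)
    rw [hRHS, finsum_mem_eq_finite_toFinset_sum _ hTfin]
    have hRHS2 : ∑ q ∈ hTfin.toFinset,
        (((Groth.Agent.Lib.LenQuotFormula.c ((f.stalkMap x).hom a) q).toNat : ℤ) -
          ((Groth.Agent.Lib.LenQuotFormula.c ((f.stalkMap x).hom b) q).toNat : ℤ)) *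
        ((Groth.Agent.Lib.LenQuotFormula.ellq (X.presheaf.stalk x) q).toNat : ℤ) =
        ((Module.length (X.presheaf.stalk x)
          (X.presheaf.stalk x ⧸ Ideal.span {(f.stalkMap x).hom a})).toNat : ℤ) -
        ((Module.length (X.presheaf.stalk x)
          (X.presheaf.stalk x ⧸ Ideal.span {(f.stalkMap x).hom b})).toNat : ℤ) := by
      rw [hLa, hLb, ← Finset.sum_sub_distrib]
      refine Finset.sum_congr rfl fun q _ => ?_
      ring
    rw [hRHS2]
    by_cases h1 : δX x = δY (f x) + r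
    · rw [if_pos h1, hLdiv, dif_pos ⟨hspY, by omega⟩]
      have hdimY : ringKrullDim (Cyc.LocQuot (f x) (genericPoint Y) hspY) = (1 : ℕ) := by
        rw [Groth.Agent.S6462.part2 hYd (f x) _ hspY]
        have : δY (genericPoint Y) - δY (f x) = 1 := by omega
        rw [this]
        rfl
      haveI : Ring.KrullDimLE 1 (Cyc.LocQuot (f x) (genericPoint Y) hspY) :=
        Ring.krullDimLE_iff.mpr hdimY.le
      unfold Cyc.ordAt
      rw [← hab, Groth.Agent.S1905.ordFrac_frac _ hIY a b ha0 hb0,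
        Groth.Agent.S1905.key_identity (f.stalkMap x).hom hflat a b]
    · rw [if_neg h1]
      have hdimY : ringKrullDim (Cyc.LocQuot (f x) (genericPoint Y) hspY) = (0 : ℕ) := by
        rw [Groth.Agent.S6462.part2 hYd (f x) _ hspY]
        have : δY (genericPoint Y) - δY (f x) = 0 := by
          have := lt_of_le_of_ne (hle x) h1
          omega
        rw [this]
        rfl
      haveI : Ring.KrullDimLE 0 (Cyc.LocQuot (f x) (genericPoint Y) hspY) :=
        Ring.krullDimLE_iff.mpr hdimY.le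
      have hua := Groth.Agent.S1905.isUnit_of_krullDimLE_zero _ hIY a ha0
      have hub := Groth.Agent.S1905.isUnit_of_krullDimLE_zero _ hIY b hb0
      rw [Groth.Agent.S1905.length_quot_span_eq_zero_of_isUnit _ (hua.map (f.stalkMap x).hom),
        Groth.Agent.S1905.length_quot_span_eq_zero_of_isUnit _ (hub.map (f.stalkMap x).hom)]
      simp
  · have hR : ∀ ξ : {ξ : X // (∀ x' : X, x' ⤳ ξ → x' = ξ) ∧ f ξ = genericPoint Y},
        Cyc.divFun δX ξ.1 (f.residueFieldMap ξ.1 ((Y.residueFieldCongr ξ.2.2.symm).hom g)) x = 0 := by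
      intro ξ
      rw [hdivX, dif_neg]
      intro h
      apply hx1
      rw [h.2, hidx ξ.1 ξ.2.1 ξ.2.2]
    simp only [hR, mul_zero, finsum_zero]
    by_cases h1 : δX x = δY (f x) + r
    · rw [if_pos h1, hLdiv, dif_neg, zero_mul]
      intro h2
      apply hx1
      have := h2.2
      omega
    · rw [if_neg h1]

end Groth.Agent.S1907
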