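import Groth.Statements.S1838
import Mathlib.LinearAlgebra.Dimension.FreeAndStrongRankCondition
import Mathlib.RingTheory.Length

set_option autoImplicit false
set_option linter.unusedSectionVars false
universe u v
open CycDet

namespace Groth.Agent.S1838

open IsLocalRing

section aux

variable {R : Type u} [CommRing R] [IsLocalRing R] {M : Type v} [AddCommGroup M] [Module R M]

lemma spanBefore_mono {l : ℕ} (e : Fin l → M) {i j : ℕ} (h : i ≤ j) :
    spanBefore R M e i ≤ spanBefore R M e j := by
  unfold spanBefore
  apply Submodule.span_mono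
  apply Set.image_mono
  intro t ht
  exact lt_of_lt_of_le ht h

lemma mem_spanBefore {l : ℕ} (e : Fin l → M) {i : ℕ} (t : Fin l) (h : (t : ℕ) < i) :
    e t ∈ spanBefore R M e i :=
  Submodule.subset_span ⟨t, h, rfl⟩

lemma spanBefore_congr {l : ℕ} (e e' : Fin l → M) (i : ℕ)
    (h : ∀ t : Fin l, (t : ℕ) < i → e' t = e t) :
    spanBefore R M e' i = spanBefore R M e i := by
  unfold spanBefore
  congr 1
  apply Set.image_congr
  intro t ht
  exact h t ht

lemma spanBefore_zero {l : ℕ} (e : Fin l → M) : spanBefore R M e 0 = ⊥ := by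
  unfold spanBefore
  simp

lemma spanBefore_succ {l : ℕ} (e : Fin l → M) (j : Fin l) :
    spanBefore R M e ((j : ℕ) + 1) = spanBefore R M e j ⊔ Submodule.span R {e j} := by
  unfold spanBefore
  rw [← Submodule.span_union]
  congr 1
  ext x
  constructor
  · rintro ⟨t, ht, rfl⟩
    rcases Nat.lt_succ_iff_lt_or_eq.mp ht with h | h
    · left
      exact ⟨t, h, rfl⟩
    · right
      have : t = j := Fin.ext h
      simp [this]
  · rintro (⟨t, ht, rfl⟩ | h)
    · exact ⟨t, Nat.lt_succ_of_lt ht, rfl⟩
    · rw [Set.mem_singleton_iff] at h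
      exact ⟨j, Nat.lt_succ_self _, h.symm⟩

lemma spanBefore_comp_swap {l : ℕ} (g : Fin l → M) (j b : Fin l) (i : ℕ)
    (hj : (j : ℕ) < i) (hb : (b : ℕ) < i) :
    spanBefore R M (g ∘ Equiv.swap j b) i = spanBefore R M g i := by
  unfold spanBefore
  congr 1
  rw [Set.image_comp]
  congr 1
  ext t
  constructor
  · rintro ⟨s, hs, rfl⟩
    by_cases h1 : s = j
    · subst h1
      simpa using hb
    · by_cases h2 : s = b
      · subst h2
        simpa using hj
      · rw [Equiv.swap_apply_of_ne_of_ne h1 h2]
        exact hs
  · intro ht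
    refine ⟨Equiv.swap j b t, ?_, by simp⟩
    by_cases h1 : t = j
    · subst h1
      simpa using hb
    · by_cases h2 : t = b
      · subst h2
        simpa using hj
      · rw [Equiv.swap_apply_of_ne_of_ne h1 h2]
        exact ht

/-- A tuple none of whose entries lies in the span of the earlier ones. -/
def IsND {l : ℕ} (e : Fin l → M) : Prop := ∀ a : Fin l, e a ∉ spanBefore R M e a

lemma height_spanBefore_ge [IsArtinian R M] [IsNoetherian R M] {l : ℕ} (e : Fin l → M)
    (hnd : IsND (R := R) e) (i : ℕ) (hi : i ≤ l) :
    (i : ℕ∞) ≤ Order.height (spanBefore R M e i) := by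
  induction i with
  | zero => simp
  | succ i ih =>
    have hil : i < l := hi
    have h1 := ih (Nat.le_of_lt hil)
    have hlt : spanBefore R M e i < spanBefore R M e (i + 1) := by
      refine lt_of_le_of_ne (spanBefore_mono e (Nat.le_succ i)) ?_
      intro heq
      apply hnd ⟨i, hil⟩
      show e ⟨i, hil⟩ ∈ spanBefore R M e i
      rw [heq]
      exact mem_spanBefore e ⟨i, hil⟩ (Nat.lt_succ_self i)
    have h2 := Submodule.height_strictMono hlt
    push_cast
    exact (ENat.add_one_le_iff (ENat.natCast_ne_top i)).mpr (lt_of_le_of_lt h1 h2)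

lemma spanBefore_top_of_isND {l : ℕ} (hM : IsFiniteLength R M)
    (hl : Module.length R M = l) (e : Fin l → M)
    (hnd : IsND (R := R) e) : spanBefore R M e l = ⊤ := by
  rw [isFiniteLength_iff_isNoetherian_isArtinian] at hM
  obtain ⟨h1, h2⟩ := hM
  by_contra hne
  have h3 := height_spanBefore_ge e hnd l le_rfl
  have h4 := Submodule.length_lt hne
  rw [Module.length_submodule, hl] at h4
  exact absurd h3 (not_le.mpr h4)

/-- The span of the admissible relations. -/
noncomputable abbrev Rel (R : Type u) [CommRing R] [IsLocalRing R] (M : Type v) [AddCommGroup M] [Module R M]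
    (l : ℕ) : Submodule (ResidueField R) (Free R M l) :=
  Submodule.span (ResidueField R) (relSet R M l)

lemma relA {l : ℕ} (e : Adm R M l) (a : Fin l) (h : e.1 a ∈ spanBefore R M e.1 a) :
    sym R M e ∈ Rel R M l :=
  Submodule.subset_span (Or.inl (Or.inl ⟨e, a, h, rfl⟩))

lemma relB {l : ℕ} (e e' : Adm R M l) (a : Fin l) (c : Rˣ)
    (h1 : ∀ j, j ≠ a → e.1 j = e'.1 j)
    (h2 : e.1 a - (c : R) • e'.1 a ∈ spanBefore R M e.1 a) :
    sym R M e - IsLocalRing.residue R (c : R) • sym R M e' ∈ Rel R M l :=
  Submodule.subset_span (Or.inl (Or.inr ⟨e, e', a, c, h1, h2, rfl⟩))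

lemma relC {l : ℕ} (e e' : Adm R M l) (a b : Fin l) (hab : (b : ℕ) + 1 = (a : ℕ))
    (h1 : ∀ r ∈ maximalIdeal R, r • e.1 a ∈ spanBefore R M e.1 b)
    (h2 : e'.1 = e.1 ∘ Equiv.swap a b) :
    sym R M e + sym R M e' ∈ Rel R M l :=
  Submodule.subset_span (Or.inr ⟨e, e', a, b, hab, h1, h2, rfl⟩)

/-- Swapping two adjacent entries keeps admissibility under the hypothesis of relation (c). -/
lemma isAdmissible_swap {l : ℕ} (g : Fin l → M) (hg : IsAdmissible R M g) (j b : Fin l)
    (hjb : (b : ℕ) + 1 = (j : ℕ))
    (H : ∀ r ∈ maximalIdeal R, r • g j ∈ spanBefore R M g b) :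
    IsAdmissible R M (g ∘ Equiv.swap j b) := by
  have hbj : b ≠ j := by
    intro h
    rw [h] at hjb
    omega
  have hfix : ∀ t : Fin l, (t : ℕ) < b → Equiv.swap j b t = t := by
    intro t ht
    apply Equiv.swap_apply_of_ne_of_ne
    · intro h
      rw [h] at ht
      omega
    · intro h
      rw [h] at ht
      omega
  have hsb : spanBefore R M (g ∘ Equiv.swap j b) b = spanBefore R M g b := by
    apply spanBefore_congr
    intro t ht
    simp [hfix t ht]
  intro i r hr
  rcases lt_trichotomy (i : ℕ) (b : ℕ) with hi | hi | hi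
  · have h1 : spanBefore R M (g ∘ Equiv.swap j b) i = spanBefore R M g i := by
      apply spanBefore_congr
      intro t ht
      simp [hfix t (lt_trans ht hi)]
    rw [h1]
    simp only [Function.comp_apply, hfix i hi]
    exact hg i r hr
  · have hib : i = b := Fin.ext hi
    subst hib
    rw [hsb]
    simp only [Function.comp_apply, Equiv.swap_apply_right]
    exact H r hr
  · by_cases hij : i = j
    · subst hij
      simp only [Function.comp_apply, Equiv.swap_apply_left]
      have h2 : spanBefore R M (g ∘ Equiv.swap i b) b ≤ spanBefore R M (g ∘ Equiv.swap i b) i :=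
        spanBefore_mono _ (by omega)
      apply h2
      rw [hsb]
      exact hg b r hr
    · have hji : (j : ℕ) < i := by
        have : (i : ℕ) ≠ (j : ℕ) := fun h => hij (Fin.ext h)
        omega
      rw [spanBefore_comp_swap g j b i hji (by omega)]
      have hib : i ≠ b := by
        intro h
        rw [h] at hi
        omega
      simp only [Function.comp_apply, Equiv.swap_apply_of_ne_of_ne hij hib]
      exact hg i r hr

section main

variable {l : ℕ} (f : Adm R M l)

/-- The symbol of `e` is a multiple of the symbol of `f` modulo relations. -/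
def P (e : Adm R M l) : Prop :=
  ∃ c : ResidueField R, sym R M e - c • sym R M f ∈ Rel R M l

lemma claimB (k : ℕ) (hk : k < l)
    (IH : ∀ e : Adm R M l, (∀ t : Fin l, (t : ℕ) < k + 1 → e.1 t = f.1 t) → P f e) :
    ∀ (d : ℕ) (g : Adm R M l) (j : Fin l), (j : ℕ) = k + d →
      (∀ t : Fin l, (t : ℕ) < k → g.1 t = f.1 t) → g.1 j = f.1 ⟨k, hk⟩ → P f g := by
  intro d
  induction d with
  | zero =>
    intro g j hj hg hgj
    apply IH
    intro t ht
    by_cases h : (t : ℕ) < k
    · exact hg t h
    · have : t = j := Fin.ext (by omega)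
      rw [this, hgj]
      have hjk : j = ⟨k, hk⟩ := Fin.ext (by simpa using hj)
      rw [hjk]
  | succ d ih =>
    intro g j hj hg hgj
    have hbl : k + d < l := by
      have := j.2
      omega
    set b : Fin l := ⟨k + d, hbl⟩ with hb
    have hjb : (b : ℕ) + 1 = (j : ℕ) := by
      simp [hb, hj]
      omega
    have hsk : spanBefore R M g.1 k = spanBefore R M f.1 k :=
      spanBefore_congr f.1 g.1 k hg
    have H : ∀ r ∈ maximalIdeal R, r • g.1 j ∈ spanBefore R M g.1 b := by
      intro r hr
      rw [hgj]
      have h1 : r • f.1 ⟨k, hk⟩ ∈ spanBefore R M f.1 k := f.2 ⟨k, hk⟩ r hr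
      rw [← hsk] at h1
      exact spanBefore_mono g.1 (by simp [hb]) h1
    have hadm : IsAdmissible R M (g.1 ∘ Equiv.swap j b) :=
      isAdmissible_swap g.1 g.2 j b hjb H
    set g' : Adm R M l := ⟨g.1 ∘ Equiv.swap j b, hadm⟩ with hg'
    have hrel : sym R M g + sym R M g' ∈ Rel R M l := relC g g' j b hjb H rfl
    have hP : P f g' := by
      apply ih g' b (by simp [hb])
      · intro t ht
        have h1 : t ≠ j := by
          intro h
          rw [h] at ht
          omega
        have h2 : t ≠ b := by
          intro h
          rw [h] at ht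
          simp [hb] at ht
        show g.1 (Equiv.swap j b t) = f.1 t
        rw [Equiv.swap_apply_of_ne_of_ne h1 h2]
        exact hg t ht
      · show g.1 (Equiv.swap j b b) = f.1 ⟨k, hk⟩
        rw [Equiv.swap_apply_right]
        exact hgj
    obtain ⟨c', hc'⟩ := hP
    refine ⟨-c', ?_⟩
    have : sym R M g - (-c') • sym R M f =
        (sym R M g + sym R M g') - (sym R M g' - c' • sym R M f) := by
      rw [neg_smul]
      abel
    rw [this]
    exact Submodule.sub_mem _ hrel hc'

lemma claimA (hf : IsND (R := R) f.1)
    (hspan : ∀ e : Adm R M l, IsND (R := R) e.1 → spanBefore R M e.1 l = ⊤) :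
    ∀ (d k : ℕ), k + d = l → ∀ e : Adm R M l,
      (∀ t : Fin l, (t : ℕ) < k → e.1 t = f.1 t) → P f e := by
  intro d
  induction d with
  | zero =>
    intro k hk e he
    have : e = f := by
      apply Subtype.ext
      funext t
      exact he t (by have := t.2; omega)
    rw [this]
    exact ⟨1, by simp⟩
  | succ d ih =>
    intro k hkd e he
    have hk : k < l := by omega
    by_cases hnd : IsND (R := R) e.1
    · -- the nondegenerate case
      have htop := hspan e hnd
      set x : M := f.1 ⟨k, hk⟩ with hx
      have hsk : spanBefore R M e.1 k = spanBefore R M f.1 k :=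
        spanBefore_congr f.1 e.1 k he
      have hxk : x ∉ spanBefore R M e.1 k := by
        rw [hsk]
        exact hf ⟨k, hk⟩
      have hex : ∃ i : ℕ, x ∈ spanBefore R M e.1 i := ⟨l, by rw [htop]; trivial⟩
      classical
      set i₀ := Nat.find hex with hi₀
      have hi₀mem : x ∈ spanBefore R M e.1 i₀ := Nat.find_spec hex
      have hi₀l : i₀ ≤ l := Nat.find_min' hex (by rw [htop]; trivial)
      have hki₀ : k < i₀ := by
        by_contra h
        exact hxk (spanBefore_mono e.1 (not_lt.mp h) hi₀mem)
      have hjl : i₀ - 1 < l := by omega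
      set j : Fin l := ⟨i₀ - 1, hjl⟩ with hj
      have hj1 : (j : ℕ) + 1 = i₀ := by
        simp [hj]
        omega
      have hxj : x ∉ spanBefore R M e.1 j := by
        have hlt : (j : ℕ) < i₀ := by omega
        exact Nat.find_min hex hlt
      have hxj1 : x ∈ spanBefore R M e.1 ((j : ℕ) + 1) := by
        rw [hj1]
        exact hi₀mem
      rw [spanBefore_succ, Submodule.mem_sup] at hxj1
      obtain ⟨y, hy, z, hz, hyz⟩ := hxj1
      rw [Submodule.mem_span_singleton] at hz
      obtain ⟨a, rfl⟩ := hz
      have hau : IsUnit a := by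
        by_contra hna
        have ham : a ∈ maximalIdeal R := (IsLocalRing.mem_maximalIdeal a).mpr hna
        apply hxj
        rw [← hyz]
        exact Submodule.add_mem _ hy (e.2 j a ham)
      obtain ⟨u, rfl⟩ := hau
      have hkj : k ≤ (j : ℕ) := by
        simp [hj]
        omega
      -- the modified tuple
      set e'f : Fin l → M := Function.update e.1 j x with he'f
      have he'j : e'f j = x := by simp [he'f]
      have he'ne : ∀ t : Fin l, t ≠ j → e'f t = e.1 t := by
        intro t ht
        simp [he'f, Function.update_of_ne ht]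
      have hsle : ∀ i : ℕ, i ≤ (j : ℕ) → spanBefore R M e'f i = spanBefore R M e.1 i := by
        intro i hi
        apply spanBefore_congr
        intro t ht
        apply he'ne
        intro h
        rw [h] at ht
        omega
      have hxin : x ∈ spanBefore R M e.1 ((j : ℕ) + 1) := by
        rw [hj1]
        exact hi₀mem
      have hsgt : ∀ i : ℕ, (j : ℕ) < i → spanBefore R M e'f i = spanBefore R M e.1 i := by
        intro i hi
        apply le_antisymm
        · apply Submodule.span_le.mpr
          rintro _ ⟨t, ht, rfl⟩
          by_cases htj : t = j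
          · rw [htj, he'j]
            exact spanBefore_mono e.1 hi hxin
          · rw [he'ne t htj]
            exact mem_spanBefore e.1 t ht
        · apply Submodule.span_le.mpr
          rintro _ ⟨t, ht, rfl⟩
          by_cases htj : t = j
          · rw [htj]
            have h1 : x ∈ spanBefore R M e'f i := by
              rw [← he'j]
              exact mem_spanBefore e'f j hi
            have h2 : y ∈ spanBefore R M e'f i := by
              have : y ∈ spanBefore R M e'f j := by
                rw [hsle j le_rfl]
                exact hy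
              exact spanBefore_mono e'f (le_of_lt hi) this
            have h3 : e.1 j = ((u⁻¹ : Rˣ) : R) • (x - y) := by
              rw [← hyz]
              simp [smul_smul]
            show e.1 j ∈ spanBefore R M e'f i
            rw [h3]
            exact Submodule.smul_mem _ _ (Submodule.sub_mem _ h1 h2)
          · rw [← he'ne t htj]
            exact mem_spanBefore e'f t ht
      have hsall : ∀ i : ℕ, spanBefore R M e'f i = spanBefore R M e.1 i := by
        intro i
        rcases le_or_gt i (j : ℕ) with h | h
        · exact hsle i h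
        · exact hsgt i h
      have hadm : IsAdmissible R M e'f := by
        intro i r hr
        rw [hsall]
        by_cases hij : i = j
        · rw [hij, he'j]
          have h1 : r • x ∈ spanBefore R M f.1 k := f.2 ⟨k, hk⟩ r hr
          rw [← hsk] at h1
          exact spanBefore_mono e.1 hkj h1
        · rw [he'ne i hij]
          exact e.2 i r hr
      set e' : Adm R M l := ⟨e'f, hadm⟩ with he'
      have hrel : sym R M e - IsLocalRing.residue R ((u⁻¹ : Rˣ) : R) • sym R M e' ∈ Rel R M l := by
        apply relB e e' j u⁻¹
        · intro t ht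
          exact (he'ne t ht).symm
        · show e.1 j - ((u⁻¹ : Rˣ) : R) • e'f j ∈ spanBefore R M e.1 j
          rw [he'j]
          have : e.1 j - ((u⁻¹ : Rˣ) : R) • x = -(((u⁻¹ : Rˣ) : R) • y) := by
            rw [← hyz]
            simp [smul_smul]
          rw [this]
          exact Submodule.neg_mem _ (Submodule.smul_mem _ _ hy)
      have hP : P f e' := by
        apply claimB f k hk (ih (k + 1) (by omega)) ((j : ℕ) - k) e' j (by omega)
        · intro t ht
          show e'f t = f.1 t
          rw [he'ne t]
          · exact he t ht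
          · intro h
            rw [h] at ht
            omega
        · exact he'j
      obtain ⟨c', hc'⟩ := hP
      refine ⟨IsLocalRing.residue R ((u⁻¹ : Rˣ) : R) * c', ?_⟩
      have : sym R M e - (IsLocalRing.residue R ((u⁻¹ : Rˣ) : R) * c') • sym R M f =
          (sym R M e - IsLocalRing.residue R ((u⁻¹ : Rˣ) : R) • sym R M e') +
            IsLocalRing.residue R ((u⁻¹ : Rˣ) : R) • (sym R M e' - c' • sym R M f) := by
        rw [smul_sub, mul_smul]
        abel
      rw [this]
      exact Submodule.add_mem _ hrel (Submodule.smul_mem _ _ hc')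
    · -- the degenerate case
      unfold IsND at hnd
      push Not at hnd
      obtain ⟨a, ha⟩ := hnd
      exact ⟨0, by simpa using relA e a ha⟩

end main

end aux

lemma rank_detOfLen_le_one (R : Type u) [CommRing R] [IsLocalRing R] (M : Type v) [AddCommGroup M]
    [Module R M] (hM : IsFiniteLength R M) (l : ℕ) (hlen : Module.length R M = (l : ℕ∞)) :
    Module.rank (IsLocalRing.ResidueField R) (DetOfLen R M l) ≤ 1 := by
  classical
  have key : ∃ v₀ : DetOfLen R M l, ∀ e : Adm R M l, ∃ c : ResidueField R,
      (Submodule.Quotient.mk (sym R M e) : DetOfLen R M l) = c • v₀ := by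
    by_cases hall : ∀ e : Adm R M l, sym R M e ∈ Rel R M l
    · refine ⟨0, fun e => ⟨0, ?_⟩⟩
      rw [smul_zero]
      exact (Submodule.Quotient.mk_eq_zero _).mpr (hall e)
    · push Not at hall
      obtain ⟨f, hf⟩ := hall
      have hfnd : IsND (R := R) f.1 := by
        intro a ha
        exact hf (relA f a ha)
      refine ⟨Submodule.Quotient.mk (sym R M f), fun e => ?_⟩
      obtain ⟨c, hc⟩ := claimA f hfnd
        (fun e he => spanBefore_top_of_isND hM hlen e.1 he) l 0 (by simp) e
        (by intro t ht; omega)
      refine ⟨c, ?_⟩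
      rw [← Submodule.Quotient.mk_smul, Submodule.Quotient.eq]
      exact hc
  obtain ⟨v₀, hv₀⟩ := key
  rw [rank_le_one_iff]
  refine ⟨v₀, fun v => ?_⟩
  obtain ⟨x, rfl⟩ := Submodule.Quotient.mk_surjective _ v
  induction x using Finsupp.induction_linear with
  | zero => exact ⟨0, by simp⟩
  | add x y hx hy =>
    obtain ⟨r1, h1⟩ := hx
    obtain ⟨r2, h2⟩ := hy
    exact ⟨r1 + r2, by rw [add_smul, h1, h2, Submodule.Quotient.mk_add]⟩
  | single e c =>
    obtain ⟨c', hc'⟩ := hv₀ e
    refine ⟨c * c', ?_⟩
    have : (Finsupp.single e c : Free R M l) = c • sym R M e := by simp [sym]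
    rw [this, Submodule.Quotient.mk_smul, hc', mul_smul]

/-- For a finite length module M over a local ring with residue field κ, the κ-vector space det_κ(M) of
symbols modulo admissible relations has dimension at most 1. -/
theorem result (R : Type u) [CommRing R] [IsLocalRing R] (M : Type v) [AddCommGroup M] [Module R M] (hM : IsFiniteLength R M) : Module.rank (IsLocalRing.ResidueField R) (CycDet.Det R M) ≤ 1 := by
  exact rank_detOfLen_le_one R M hM (Module.length R M).toNat
    (ENat.natCast_toNat (Module.length_ne_top_iff.mpr hM)).symm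

end Groth.Agent.S1838
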