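import Groth.Statements.S6482
import Mathlib.RingTheory.AlgebraicIndependent.Transcendental
import Mathlib.LinearAlgebra.Dimension.StrongRankCondition

set_option autoImplicit false
universe u
open CategoryTheory AlgebraicGeometry
open CategoryTheory.Limits
open Cyc

namespace Groth.Agent.S6482

/-- a surjective map of fields has transcendence degree zero and degree one -/
theorem trdeg_finrank_of_surjective {K L : Type u} [Field K] [Field L] (φ : K →+* L)
    (hφ : Function.Surjective φ) :
    (letI := φ.toAlgebra; Algebra.trdeg K L) = 0 ∧ (letI := φ.toAlgebra; Module.finrank K L) = 1 := by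
  let _ := φ.toAlgebra
  have hsurj : Function.Surjective (algebraMap K L) := hφ
  have : Module.Finite K L := Module.Finite.of_surjective (Algebra.linearMap K L) hsurj
  exact ⟨trdeg_eq_zero, Module.finrank_of_bijective_algebraMap ⟨φ.injective, hsurj⟩⟩

/-- Let f : Y → X be an envelope. Then f_* : Z_k(Y) → Z_k(X) is surjective, hence so is f_* : CH_k(Y) →
CH_k(X). An envelope is a proper, completely decomposed morphism (every point of the target has a
point over it with trivial residue field extension; this prelude's Cyc.IsCompletelyDecomposed). Here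
a pair (X, δ) with Cyc.IsSetup plays the role of a scheme locally of finite type over the base (S,
δ) (X locally Noetherian with universally catenary local rings, δ a dimension function), and
Cyc.DeltaCompat records that the dimension function upstairs is the induced one. -/
theorem result (X Y : Scheme.{u}) (δ : X → ℤ) (δY : Y → ℤ) (hX : Cyc.IsSetup X δ) (hY : Cyc.IsSetup Y δY) (f : Y ⟶ X) [IsProper f] (hcd : Cyc.IsCompletelyDecomposed f) (hδ : Cyc.DeltaCompat f δY δ) (k : ℤ) (α : AlgebraicCycle X ℤ) (hα : α ∈ Cyc.Zk X δ k) : ∃ β : AlgebraicCycle Y ℤ, β ∈ Cyc.Zk Y δY k ∧ AlgebraicCycle.map f δY δ β = α := by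
  classical
  choose s hs hsurj using hcd
  -- the dimension of a chosen point
  have hdim : ∀ x : X, δY (s x) = δ x := by
    intro x
    obtain ⟨n, hn, hn'⟩ := hδ (s x)
    have h0 := (trdeg_finrank_of_surjective (f.residueFieldMap (s x)).hom (hsurj x)).1
    rw [h0] at hn
    have : n = 0 := by exact_mod_cast hn.symm
    rw [hn', this, hs x]
    simp
  have hdeg : ∀ x : X, f.residueDegree (s x) = 1 := fun x =>
    (trdeg_finrank_of_surjective (f.residueFieldMap (s x)).hom (hsurj x)).2
  -- the cycle upstairs
  let b : Y → ℤ := fun y => if y = s (f y) then α (f y) else 0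
  have hb_supp : ∀ y, b y ≠ 0 → y = s (f y) ∧ α (f y) ≠ 0 := by
    intro y hy
    by_cases h : y = s (f y)
    · exact ⟨h, by simpa [b, if_pos h] using hy⟩
    · exact (hy (by simp [b, if_neg h])).elim
  let β : AlgebraicCycle Y ℤ :=
    { toFun := b
      supportWithinDomain' := by simp
      supportLocallyFiniteWithinDomain' := by
        intro y _
        obtain ⟨t, ht, hfin⟩ := α.supportLocallyFiniteWithinDomain' (f y) (Set.mem_univ _)
        refine ⟨f ⁻¹' t, f.continuous.continuousAt.preimage_mem_nhds ht, ?_⟩
        refine (hfin.image s).subset ?_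
        rintro y' ⟨hy't, hy'⟩
        obtain ⟨h1, h2⟩ := hb_supp y' hy'
        exact ⟨f y', ⟨hy't, h2⟩, h1.symm⟩ }
  refine ⟨β, ?_, ?_⟩
  · intro y hy
    by_contra hne
    obtain ⟨h1, h2⟩ := hb_supp y hne
    have h3 : δ (f y) = k := by
      by_contra h
      exact h2 (hα (f y) h)
    rw [h1, hdim, h3] at hy
    exact hy rfl
  · ext x
    change ∑ᶠ y ∈ f ⁻¹' {x}, b y * ((AlgebraicCycle.mapCoeff f δY δ y : ℕ) : ℤ) = α x
    rw [finsum_mem_def, finsum_eq_single _ (s x)]
    · have hmem : s x ∈ f ⁻¹' {x} := hs x
      have hb : b (s x) = α x := by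
        simp only [b]
        rw [hs x, if_pos rfl]
      have hc : AlgebraicCycle.mapCoeff f δY δ (s x) = 1 := by
        unfold AlgebraicCycle.mapCoeff
        rw [if_pos (by rw [hdim x]; exact congrArg δ (hs x).symm), hdeg]
      rw [Set.indicator_of_mem hmem, hb, hc]
      simp
    · intro y hy
      by_cases hmem : y ∈ f ⁻¹' {x}
      · rw [Set.indicator_of_mem hmem]
        have hfy : f y = x := hmem
        have : b y = 0 := by
          simp only [b]
          rw [if_neg]
          rw [hfy]
          exact hy
        rw [this, zero_mul]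
      · exact Set.indicator_of_notMem hmem _

end Groth.Agent.S6482
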