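import Groth.Statements.S0318
import Groth.Agent.Lib.LocCohTorsion
import Groth.Agent.Lib.H29Depth
import Groth.Agent.Lib.DepthLoc33
-- import your own Groth.Agent.* helpers here

set_option autoImplicit false
universe u v
open LocCoh

namespace Groth.Agent.S0318

open CategoryTheory Abelian Groth.Agent.Lib.LocCohConcrete Groth.Agent.Lib.H29Depth
  Groth.Agent.Lib.LocCohLES

variable {R : Type u} [CommRing R] [IsNoetherianRing R] (I : Ideal R) (M : Type u)
  [AddCommGroup M] [Module R M] [Module.Finite R M]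

theorem subsingleton_ext_of_subsingleton (N : ModuleCat.{u} R) [Subsingleton N]
    (Y : ModuleCat.{u} R) (i : ℕ) : Subsingleton (Ext N Y i) := by
  refine subsingleton_of_forall_eq 0 fun x => ?_
  have h0 : (𝟙 N : N ⟶ N) = 0 := (ModuleCat.isZero_of_subsingleton N).eq_of_src _ _
  rw [← Ext.mk₀_id_comp x, h0, Ext.mk₀_zero, Ext.zero_comp]

/-- Rees: `Ext^i(N, M) = 0` for `i < depth_I M`, `N` finite with support in `V(I)`. -/
theorem subsingleton_ext_of_support (hIM : I • (⊤ : Submodule R M) ≠ ⊤) (d : ℕ)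
    (hd : (d : ℕ∞) ≤ LocCoh.idealDepth I M) (N : ModuleCat.{u} R) [Module.Finite R N]
    (hN : Module.support R N ⊆ PrimeSpectrum.zeroLocus I) (i : ℕ) (hi : i < d) :
    Subsingleton (Ext N (ModuleCat.of R M) i) := by
  by_cases hnt : Nontrivial N
  · have hlt : I • (⊤ : Submodule R (ModuleCat.of R M)) < ⊤ := lt_top_iff_ne_top.mpr hIM
    have tfae := ModuleCat.exists_isRegular_tfae I d (ModuleCat.of R M) hlt
    have h41 := tfae.out 3 0
    exact h41.mp ((le_idealDepth_iff I M hIM d).mp hd) N hnt inferInstance hN i hi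
  · have : Subsingleton N := not_nontrivial_iff_subsingleton.mp hnt
    exact subsingleton_ext_of_subsingleton N _ i

theorem support_Q_subset (k : ℕ) :
    Module.support R (Q I k) ⊆ PrimeSpectrum.zeroLocus I := by
  intro p hp
  have hp' : p ∈ Module.support R (R ⧸ I ^ k) := hp
  rw [Module.support_eq_zeroLocus, Ideal.annihilator_quotient] at hp'
  have h1 : I ^ k ≤ p.asIdeal := hp'
  exact (Ideal.IsPrime.le_of_pow_le h1 : I ≤ p.asIdeal)

/-- vanishing below the depth. -/
theorem subsingleton_H_of_lt (hIM : I • (⊤ : Submodule R M) ≠ ⊤) (d : ℕ)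
    (hd : (d : ℕ∞) ≤ LocCoh.idealDepth I M) (i : ℕ) (hi : i < d) :
    Subsingleton (LocCoh.H I i M) := by
  refine subsingleton_of_forall_eq 0 fun y => ?_
  obtain ⟨n, x, rfl⟩ := exists_rep I M i y
  have : Subsingleton (Ext (Q I n) (ModuleCat.of R M) i) :=
    subsingleton_ext_of_support I M hIM d hd (Q I n) (support_Q_subset I n) i hi
  rw [Subsingleton.elim x 0, map_zero]

/-- the transition maps `Ext^d(R/I^n, M) → Ext^d(R/I^k, M)` are injective for `d ≤ depth`. -/
theorem transition_injective (hIM : I • (⊤ : Submodule R M) ≠ ⊤) (d : ℕ)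
    (hd : (d : ℕ∞) ≤ LocCoh.idealDepth I M) {n k : ℕ} (h : n ≤ k)
    (x : Ext (Q I n) (ModuleCat.of R M) d)
    (hx : (Ext.mk₀ (proj I h)).comp x (zero_add d) = 0) : x = 0 := by
  have hsurj : Function.Surjective (proj I h).hom := by
    intro y
    obtain ⟨r, rfl⟩ := Submodule.Quotient.mk_surjective _ y
    exact ⟨Submodule.Quotient.mk r, rfl⟩
  rcases Nat.eq_zero_or_pos d with rfl | hd0
  · have : Epi (proj I h) := (ModuleCat.epi_iff_surjective _).mpr hsurj
    exact Ext.precomp_mk₀_injective_of_epi (ModuleCat.of R M) (proj I h) (by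
      simpa using hx)
  · obtain ⟨e, rfl⟩ := Nat.exists_eq_succ_of_ne_zero hd0.ne'
    let g : (R ⧸ I ^ k) →ₗ[R] (R ⧸ I ^ n) := (proj I h).hom
    let f : LinearMap.ker g →ₗ[R] (R ⧸ I ^ k) := (LinearMap.ker g).subtype
    have hf : Function.Injective f := Submodule.injective_subtype _
    have hfg : Function.Exact f g := LinearMap.exact_subtype_ker_map g
    have hS : (ses f g hfg).ShortExact := ses_shortExact f g hf hfg hsurj
    have hK : Module.support R (ModuleCat.of R (LinearMap.ker g)) ⊆
        PrimeSpectrum.zeroLocus I :=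
      (Module.support_subset_of_injective f hf).trans (support_Q_subset I k)
    have hKfin : Module.Finite R (ModuleCat.of R (LinearMap.ker g)) :=
      inferInstanceAs (Module.Finite R (LinearMap.ker g))
    have hsub : Subsingleton (Ext (ModuleCat.of R (LinearMap.ker g)) (ModuleCat.of R M) e) :=
      subsingleton_ext_of_support I M hIM (e + 1) hd _ hK e (Nat.lt_succ_self e)
    obtain ⟨z, rfl⟩ := Ext.contravariant_sequence_exact₃ hS (ModuleCat.of R M) x hx
      (add_comm 1 e)
    rw [Subsingleton.elim z 0, Ext.comp_zero]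

theorem nontrivial_H_of_eq (hIM : I • (⊤ : Submodule R M) ≠ ⊤) (d : ℕ)
    (hd : LocCoh.idealDepth I M = d) : Nontrivial (LocCoh.H I d M) := by
  have hd' : (d : ℕ∞) ≤ LocCoh.idealDepth I M := hd.ge
  -- `Ext^d(R/I, M) ≠ 0`
  have hne : ¬ Subsingleton (Ext (ModuleCat.of R (R ⧸ I)) (ModuleCat.of R M) d) := by
    intro hs
    have h1 : ((d + 1 : ℕ) : ℕ∞) ≤ LocCoh.idealDepth I M := by
      rw [le_idealDepth_iff_ext I M hIM (d + 1)]
      intro i hi
      rcases Nat.lt_succ_iff_lt_or_eq.mp hi with hlt | rfl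
      · exact (le_idealDepth_iff_ext I M hIM d).mp hd' i hlt
      · exact hs
    rw [hd] at h1
    have : d + 1 ≤ d := by exact_mod_cast h1
    omega
  let eQ : Q I 1 ≅ ModuleCat.of R (R ⧸ I) :=
    (Submodule.quotEquivOfEq (I ^ 1) I (pow_one I)).toModuleIso
  have hne1 : ¬ Subsingleton (Ext (Q I 1) (ModuleCat.of R M) d) := fun hs =>
    hne (subsingleton_ext_of_iso eQ.symm d hs)
  rw [not_subsingleton_iff_nontrivial] at hne1
  obtain ⟨x, hx⟩ := exists_ne (0 : Ext (Q I 1) (ModuleCat.of R M) d)
  refine ⟨⟨HιE I M d 1 x, 0, ?_⟩⟩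
  intro h0
  obtain ⟨k, hk, hzero⟩ := (HιE_eq_zero_iff I M d x).mp h0
  exact hx (transition_injective I M hIM d hd' hk x hzero)

theorem idealDepth_ne_top (hIM : I • (⊤ : Submodule R M) ≠ ⊤) :
    LocCoh.idealDepth I M ≠ ⊤ := by
  have hnt : Nontrivial (M ⧸ I • (⊤ : Submodule R M)) :=
    Submodule.Quotient.nontrivial_iff.mpr hIM
  obtain ⟨p, hp⟩ := Module.nonempty_support_of_nontrivial (R := R)
    (M := M ⧸ I • (⊤ : Submodule R M))
  rw [Module.support_quotient] at hp
  obtain ⟨hpM, hpI⟩ := hp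
  have hI : I ≤ p.asIdeal := hpI
  have hntp : Nontrivial (LocalizedModule p.asIdeal.primeCompl M) :=
    Module.mem_support_iff.mp hpM
  have hle := Groth.Agent.Lib.DepthLoc33.idealDepth_le_depth_of_isLocalizedModule p.asIdeal
    (Localization.AtPrime p.asIdeal)
    (LocalizedModule.mkLinearMap p.asIdeal.primeCompl M) I hI
  intro htop
  rw [htop, top_le_iff] at hle
  exact Groth.Agent.Lib.DepthRees.depth_ne_top
    (R := Localization.AtPrime p.asIdeal) (LocalizedModule p.asIdeal.primeCompl M) hle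

/-- Part (1): =(3): for a finite module M over a Noetherian ring and an ideal I with IM ≠ M, the I-depth
of M is the least degree in which the local cohomology of M with support in I is nonzero. -/
theorem result (R : Type u) [CommRing R] [IsNoetherianRing R] (I : Ideal R) (M : Type u) [AddCommGroup M] [Module R M] [Module.Finite R M] (hIM : I • (⊤ : Submodule R M) ≠ ⊤) (n : ℕ) : LocCoh.idealDepth I M = n ↔ ((∀ i : ℕ, i < n → Subsingleton (LocCoh.H I i M)) ∧ Nontrivial (LocCoh.H I n M)) := by
  constructor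
  · intro h
    exact ⟨fun i hi => subsingleton_H_of_lt I M hIM n h.ge i hi, nontrivial_H_of_eq I M hIM n h⟩
  · rintro ⟨h1, h2⟩
    obtain ⟨d, hd⟩ := ENat.ne_top_iff_exists.mp (idealDepth_ne_top I M hIM)
    rw [← hd]
    congr 1
    rcases lt_trichotomy d n with hlt | heq | hgt
    · have := nontrivial_H_of_eq I M hIM d hd.symm
      have := h1 d hlt
      exact absurd ‹Nontrivial (LocCoh.H I d M)› (not_nontrivial _)
    · exact heq
    · have := subsingleton_H_of_lt I M hIM d hd.le n hgt
      exact absurd h2 (not_nontrivial _)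

end Groth.Agent.S0318
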