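import Groth.Statements.S12099
import Mathlib.CategoryTheory.Abelian.Refinements

set_option autoImplicit false
universe v u
open CategoryTheory CategoryTheory.Limits
open PCoh

namespace Groth.Agent.S12099

/-- for an epimorphism `w`, the induced map `ker (w ≫ u) ⟶ ker u` is an epimorphism -/
theorem epi_kernel_map_of_epi {C : Type u} [Category.{v} C] [Abelian C] {A B D : C}
    (w : A ⟶ B) (u : B ⟶ D) [Epi w] :
    Epi (kernel.lift u (kernel.ι (w ≫ u) ≫ w) (by rw [Category.assoc, kernel.condition])) := by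
  rw [epi_iff_surjective_up_to_refinements]
  intro T x
  obtain ⟨T', p, hp, y, hy⟩ := surjective_up_to_refinements_of_epi w (x ≫ kernel.ι u)
  have hy0 : y ≫ w ≫ u = 0 := by
    rw [← Category.assoc, ← hy, Category.assoc, Category.assoc, kernel.condition, comp_zero,
      comp_zero]
  refine ⟨T', p, hp, kernel.lift _ y hy0, ?_⟩
  rw [← cancel_mono (kernel.ι u), Category.assoc, Category.assoc, kernel.lift_ι,
    kernel.lift_ι_assoc, hy]

/-- a quotient of an object of finite type is of finite type -/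
theorem finiteType_of_epi {C : Type u} [Category.{v} C] [Abelian C] (P : ObjectProperty C)
    {X Y : C} (f : X ⟶ Y) [Epi f] (hX : PCoh.IsOfFiniteType P X) : PCoh.IsOfFiniteType P Y := by
  obtain ⟨E, π, hE, hπ⟩ := hX
  exact ⟨E, π ≫ f, hE, epi_comp _ _⟩

/-- Punctual site: let C be an abelian category and C₀ a strictly full additive subcategory,
quasi-liftable in C. For an exact sequence F → G → H → 0 with F of C₀-finite type and G precoherent
relative to C₀ (every morphism from a C₀-object into G has kernel of C₀-finite type), H is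
precoherent relative to C₀. -/
theorem result {C : Type u} [Category.{v} C] [Abelian C]
    (P : ObjectProperty C) [P.IsClosedUnderIsomorphisms] [P.ContainsZero] (hsum : ∀ X Y : C, P X → P Y → P (X ⨯ Y))
    (hql : PCoh.IsQuasiLiftable P)
    (S : ShortComplex C) (hS : S.Exact) (hg : Epi S.g)
    (hF : PCoh.IsOfFiniteType P S.X₁) (hG : ∀ (E : C) (u : E ⟶ S.X₂), P E → PCoh.IsOfFiniteType P (kernel u)) :
    ∀ (E : C) (u : E ⟶ S.X₃), P E → PCoh.IsOfFiniteType P (kernel u) := by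
  intro E u hE
  obtain ⟨E₁, π₁, hE₁, hπ₁⟩ := hF
  -- lift `u` along `S.g` after refining `E`
  have hpb : Epi (pullback.fst u S.g) := inferInstance
  obtain ⟨E₂, v, hE₂, hv⟩ := hql _ _ (pullback.fst u S.g) hpb hE
  obtain ⟨w, hw⟩ : ∃ w : E₂ ⟶ E, w = v ≫ pullback.fst u S.g := ⟨_, rfl⟩
  obtain ⟨u₂, hu₂⟩ : ∃ u₂ : E₂ ⟶ S.X₂, u₂ = v ≫ pullback.snd u S.g := ⟨_, rfl⟩
  have hwu : w ≫ u = u₂ ≫ S.g := by
    rw [hw, hu₂, Category.assoc, Category.assoc, pullback.condition]
  have hwepi : Epi w := by rw [hw]; exact hv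
  -- the map `E₁ ⊞ E₂ ⟶ G`
  obtain ⟨φ, hφ⟩ : ∃ φ : E₁ ⊞ E₂ ⟶ S.X₂, φ = biprod.desc (π₁ ≫ S.f) u₂ := ⟨_, rfl⟩
  have hPsum : P (E₁ ⊞ E₂) := P.prop_of_iso (biprod.isoProd E₁ E₂).symm (hsum _ _ hE₁ hE₂)
  have hK := hG _ φ hPsum
  -- the map `ker φ ⟶ ker (w ≫ u)`
  have hκ0 : (kernel.ι φ ≫ biprod.snd) ≫ w ≫ u = 0 := by
    have h1 : kernel.ι φ ≫ φ ≫ S.g = 0 := by rw [kernel.condition_assoc, zero_comp]
    have h2 : φ ≫ S.g = biprod.snd ≫ u₂ ≫ S.g := by
      rw [hφ]
      ext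
      · simp
      · simp
    rw [h2] at h1
    rw [Category.assoc, hwu]
    exact h1
  have hκ : Epi (kernel.lift (w ≫ u) (kernel.ι φ ≫ biprod.snd) hκ0) := by
    rw [epi_iff_surjective_up_to_refinements]
    intro T x
    obtain ⟨e₂, he₂⟩ : ∃ e₂ : T ⟶ E₂, e₂ = x ≫ kernel.ι (w ≫ u) := ⟨_, rfl⟩
    have he₂0 : (e₂ ≫ u₂) ≫ S.g = 0 := by
      rw [Category.assoc, ← hwu, he₂, Category.assoc, kernel.condition, comp_zero]
    obtain ⟨T', p, hp, y, hy⟩ := hS.exact_up_to_refinements (e₂ ≫ u₂) he₂0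
    obtain ⟨T'', p', hp', z, hz⟩ := surjective_up_to_refinements_of_epi π₁ y
    have hlift : biprod.lift (-z) (p' ≫ p ≫ e₂) ≫ φ = 0 := by
      rw [hφ, biprod.lift_desc, Preadditive.neg_comp, ← Category.assoc z, ← hz]
      simp only [Category.assoc]
      rw [← hy]
      simp
    refine ⟨T'', p' ≫ p, epi_comp _ _, kernel.lift φ _ hlift, ?_⟩
    rw [← cancel_mono (kernel.ι (w ≫ u))]
    simp only [Category.assoc, kernel.lift_ι, kernel.lift_ι_assoc, biprod.lift_snd, he₂]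
  have h2 := epi_kernel_map_of_epi w u
  have hK' : PCoh.IsOfFiniteType P (kernel (w ≫ u)) :=
    @finiteType_of_epi _ _ _ P _ _ _ hκ hK
  exact @finiteType_of_epi _ _ _ P _ _ _ h2 hK'

end Groth.Agent.S12099
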