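import Groth.Statements.S5624
import Mathlib.CategoryTheory.Abelian.Refinements

set_option autoImplicit false
universe v u
open CategoryTheory CategoryTheory.Limits
open PCoh

namespace Groth.Agent.S5624

/-- Punctual site: let C be an abelian category and C₀ a strictly full additive subcategory,
quasi-liftable in C, and let 0 → F → G → H → 0 be a short exact sequence. If F and H are precoherent
relative to C₀ then G is precoherent; if F and H are of C₀-finite type then G is of C₀-finite type. -/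
theorem result {C : Type u} [Category.{v} C] [Abelian C]
    (P : ObjectProperty C) [P.IsClosedUnderIsomorphisms] [P.ContainsZero] (hsum : ∀ X Y : C, P X → P Y → P (X ⨯ Y))
    (hql : PCoh.IsQuasiLiftable P)
    (S : ShortComplex C) (hS : S.ShortExact) :
    ((∀ (E : C) (u : E ⟶ S.X₁), P E → PCoh.IsOfFiniteType P (kernel u)) → (∀ (E : C) (u : E ⟶ S.X₃), P E → PCoh.IsOfFiniteType P (kernel u)) →
        (∀ (E : C) (u : E ⟶ S.X₂), P E → PCoh.IsOfFiniteType P (kernel u))) ∧
      (PCoh.IsOfFiniteType P S.X₁ → PCoh.IsOfFiniteType P S.X₃ → PCoh.IsOfFiniteType P S.X₂) := by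
  have hmono : Mono S.f := hS.mono_f
  have hepi : Epi S.g := hS.epi_g
  constructor
  · intro hF hH E u hE
    obtain ⟨E', π', hE', hπ'⟩ := hH E (u ≫ S.g) hE
    have hk : (π' ≫ kernel.ι (u ≫ S.g) ≫ u) ≫ S.g = 0 := by
      simp only [Category.assoc, kernel.condition, comp_zero]
    let u' : E' ⟶ S.X₁ := hS.exact.lift (π' ≫ kernel.ι (u ≫ S.g) ≫ u) hk
    have hu' : u' ≫ S.f = π' ≫ kernel.ι (u ≫ S.g) ≫ u := hS.exact.lift_f _ _
    obtain ⟨E'', π'', hE'', hπ''⟩ := hF E' u' hE'
    have hθ : (kernel.ι u' ≫ π' ≫ kernel.ι (u ≫ S.g)) ≫ u = 0 := by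
      simp only [Category.assoc]
      rw [← hu', kernel.condition_assoc, zero_comp]
    let θ : kernel u' ⟶ kernel u := kernel.lift u (kernel.ι u' ≫ π' ≫ kernel.ι (u ≫ S.g)) hθ
    have : Epi θ := by
      rw [epi_iff_surjective_up_to_refinements]
      intro A y
      have hy3 : (y ≫ kernel.ι u) ≫ (u ≫ S.g) = 0 := by
        rw [Category.assoc, kernel.condition_assoc, zero_comp, comp_zero]
      obtain ⟨A', p, hp, x, hx⟩ := surjective_up_to_refinements_of_epi π'
        (kernel.lift (u ≫ S.g) (y ≫ kernel.ι u) hy3)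
      have hx0 : x ≫ u' = 0 := by
        rw [← cancel_mono S.f, Category.assoc, hu', zero_comp, ← Category.assoc, ← hx, Category.assoc,
          kernel.lift_ι_assoc, Category.assoc, kernel.condition, comp_zero, comp_zero]
      refine ⟨A', p, hp, kernel.lift u' x hx0, ?_⟩
      rw [← cancel_mono (kernel.ι u), Category.assoc, Category.assoc, kernel.lift_ι, kernel.lift_ι_assoc,
        ← reassoc_of% hx, kernel.lift_ι]
    exact ⟨E'', π'' ≫ θ, hE'', epi_comp _ _⟩
  · rintro ⟨E₁, π₁, h1, hπ₁⟩ ⟨E₃, π₃, h3, hπ₃⟩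
    have hsnd : Epi (pullback.snd S.g π₃) := inferInstance
    obtain ⟨F', v, hF', hv⟩ := hql (pullback S.g π₃) E₃ (pullback.snd S.g π₃) hsnd h3
    let w : F' ⟶ S.X₂ := v ≫ pullback.fst S.g π₃
    have hw : w ≫ S.g = (v ≫ pullback.snd S.g π₃) ≫ π₃ := by
      simp only [w, Category.assoc, pullback.condition]
    let ψ : E₁ ⨯ F' ⟶ S.X₂ := prod.fst ≫ π₁ ≫ S.f + prod.snd ≫ w
    have : Epi ψ := by
      rw [epi_iff_surjective_up_to_refinements]
      intro A y
      have : Epi ((v ≫ pullback.snd S.g π₃) ≫ π₃) := epi_comp _ _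
      obtain ⟨A₁, p₁, hp₁, x₁, hx₁⟩ := surjective_up_to_refinements_of_epi
        ((v ≫ pullback.snd S.g π₃) ≫ π₃) (y ≫ S.g)
      have h0 : (p₁ ≫ y - x₁ ≫ w) ≫ S.g = 0 := by
        rw [Preadditive.sub_comp, Category.assoc, Category.assoc, hw, hx₁, sub_self]
      obtain ⟨A₂, p₂, hp₂, x₂, hx₂⟩ := hS.exact.exact_up_to_refinements _ h0
      obtain ⟨A₃, p₃, hp₃, x₃, hx₃⟩ := surjective_up_to_refinements_of_epi π₁ x₂
      refine ⟨A₃, p₃ ≫ p₂ ≫ p₁, inferInstance, prod.lift x₃ (p₃ ≫ p₂ ≫ x₁), ?_⟩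
      simp only [ψ, Preadditive.comp_add, prod.lift_fst_assoc, prod.lift_snd_assoc]
      rw [← reassoc_of% hx₃, ← hx₂]
      simp only [Preadditive.comp_sub, Category.assoc]
      abel
    exact ⟨E₁ ⨯ F', ψ, hsum _ _ h1 hF', this⟩

end Groth.Agent.S5624
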