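import Groth.Statements.S5608
import Groth.Agent.Lib.H43PCohD
import Groth.Agent.S5623
import Groth.Agent.S5624
import Groth.Agent.S12099
import Mathlib.Algebra.Homology.DerivedCategory.HomologySequence

set_option autoImplicit false
set_option linter.unusedSectionVars false
universe w v u
open CategoryTheory CategoryTheory.Limits
open PCoh

namespace Groth.Agent.S5608

open Groth.Agent.Lib.H43PCohD

section

variable {C : Type u} [Category.{v} C] [Abelian C] (P : ObjectProperty C)

/-- `X` is precoherent: every map from an object of `P` has a kernel of finite type -/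
def Precoh (X : C) : Prop := ∀ (E : C) (u : E ⟶ X), P E → PCoh.IsOfFiniteType P (kernel u)

lemma ft_of_epi {X Y : C} (f : X ⟶ Y) (hf : Epi f) (hX : PCoh.IsOfFiniteType P X) :
    PCoh.IsOfFiniteType P Y := by
  obtain ⟨E, π, hE, hπ⟩ := hX
  exact ⟨E, π ≫ f, hE, epi_comp _ _⟩

lemma ft_of_iso {X Y : C} (e : X ≅ Y) (hX : PCoh.IsOfFiniteType P X) :
    PCoh.IsOfFiniteType P Y := ft_of_epi P e.hom inferInstance hX

lemma ft_of_P {X : C} (hX : P X) : PCoh.IsOfFiniteType P X := ⟨X, 𝟙 X, hX, inferInstance⟩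

lemma precoh_of_mono {X Y : C} (i : X ⟶ Y) [Mono i] (hY : Precoh P Y) : Precoh P X := by
  intro E u hE
  exact ft_of_iso P (kernelCompMono u i) (hY E (u ≫ i) hE)

lemma precoh_of_iso {X Y : C} (e : X ≅ Y) (hX : Precoh P X) : Precoh P Y :=
  precoh_of_mono P e.inv hX

variable [P.IsClosedUnderIsomorphisms] [P.ContainsZero]

/-- four-term exact sequence: the second term is of finite type -/
theorem ft_of_exact4 (hsum : ∀ X Y : C, P X → P Y → P (X ⨯ Y)) (hql : PCoh.IsQuasiLiftable P)
    {A B D D' : C} (α : A ⟶ B) (β : B ⟶ D) (γ : D ⟶ D') (h1 : α ≫ β = 0) (h2 : β ≫ γ = 0)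
    (e1 : (ShortComplex.mk α β h1).Exact) (e2 : (ShortComplex.mk β γ h2).Exact)
    (hA : PCoh.IsOfFiniteType P A) (hD : PCoh.IsOfFiniteType P D) (hD' : Precoh P D') :
    PCoh.IsOfFiniteType P B := by
  have hK : PCoh.IsOfFiniteType P (kernel γ) :=
    Groth.Agent.S5623.result P hsum hql (ShortComplex.mk (kernel.ι γ) γ (by simp))
      (ShortComplex.exact_kernel γ) (by dsimp; infer_instance) hD hD'
  obtain ⟨β', hβ'⟩ : ∃ β' : B ⟶ kernel γ, β' = kernel.lift γ β h2 := ⟨_, rfl⟩
  have hβ'ι : β' ≫ kernel.ι γ = β := by rw [hβ', kernel.lift_ι]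
  have hβ'epi : Epi β' := by rw [hβ']; exact e2.epi_kernelLift
  have hαβ' : α ≫ β' = 0 := by
    rw [← cancel_mono (kernel.ι γ), Category.assoc, hβ'ι, h1, zero_comp]
  have hepi : Epi (kernel.lift β' α hαβ') := by
    rw [epi_iff_surjective_up_to_refinements]
    intro T x
    have hx0 : (x ≫ kernel.ι β') ≫ β = 0 := by
      rw [← hβ'ι, Category.assoc, kernel.condition_assoc, zero_comp, comp_zero]
    obtain ⟨T', p, hp, y, hy⟩ := e1.exact_up_to_refinements (x ≫ kernel.ι β') hx0
    refine ⟨T', p, hp, y, ?_⟩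
    rw [← cancel_mono (kernel.ι β')]
    simp only [Category.assoc, kernel.lift_ι]
    exact hy
  have hK1 : PCoh.IsOfFiniteType P (kernel β') := ft_of_epi P _ hepi hA
  have hSE : (ShortComplex.mk (kernel.ι β') β' (by simp)).ShortExact :=
    { exact := ShortComplex.exact_kernel β'
      mono_f := by dsimp; infer_instance
      epi_g := hβ'epi }
  exact (Groth.Agent.S5624.result P hsum hql _ hSE).2 hK1 hK

variable (hcoh : ∀ (X E : C) (u : E ⟶ X), P X → P E → PCoh.IsOfFiniteType P (kernel u))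

include hcoh in
lemma precoh_of_P {X : C} (hX : P X) : Precoh P X := fun E u hE => hcoh X E u hX hE

include hcoh in
lemma ft_cycles (G : CochainComplex C ℤ) (i : ℤ) (h1 : P (G.X i)) (h2 : P (G.X (i + 1))) :
    PCoh.IsOfFiniteType P (G.cycles i) := by
  have e : kernel (G.d i (i + 1)) ≅ G.cycles i :=
    IsLimit.conePointUniqueUpToIso (kernelIsKernel _) (G.cyclesIsKernel i (i + 1) (by simp))
  exact ft_of_iso P e (hcoh _ _ _ h2 h1)

include hcoh in
lemma ft_homology (G : CochainComplex C ℤ) (i : ℤ) (h1 : P (G.X i)) (h2 : P (G.X (i + 1))) :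
    PCoh.IsOfFiniteType P (G.homology i) :=
  ft_of_epi P (G.homologyπ i) inferInstance (ft_cycles P hcoh G i h1 h2)

include hcoh in
lemma precoh_homology (hsum : ∀ X Y : C, P X → P Y → P (X ⨯ Y)) (hql : PCoh.IsQuasiLiftable P)
    (G : CochainComplex C ℤ) (i : ℤ) (h0 : P (G.X (i - 1))) (h1 : P (G.X i)) :
    Precoh P (G.homology i) := by
  have hcyc : Precoh P (G.cycles i) := precoh_of_mono P (G.iCycles i) (precoh_of_P P hcoh h1)
  exact Groth.Agent.S12099.result P hsum hql
    (ShortComplex.mk (G.toCycles (i - 1) i) (G.homologyπ i) (G.toCycles_comp_homologyπ (i - 1) i))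
    (ShortComplex.exact_of_g_is_cokernel _ (G.homologyIsCokernel (i - 1) i (by simp)))
    (by dsimp; infer_instance) (ft_of_P P h0) hcyc

end

section

variable {C : Type u} [Category.{v} C] [Abelian C] [HasDerivedCategory.{w} C]
  (P : ObjectProperty C) [P.IsClosedUnderIsomorphisms] [P.ContainsZero]
  (hsum : ∀ X Y : C, P X → P Y → P (X ⨯ Y)) (hql : PCoh.IsQuasiLiftable P)
  (hcoh : ∀ (X E : C) (u : E ⟶ X), P X → P E → PCoh.IsOfFiniteType P (kernel u))

include hsum hql hcoh in
/-- finite type of `H^{k-1}` of the cone -/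
theorem ft_cone_step (G X : CochainComplex C ℤ) (w : G ⟶ X) (k : ℤ) (h1G : P (G.X k))
    (h2G : P (G.X (k + 1)))
    (h1 : PCoh.IsOfFiniteType P ((DerivedCategory.homologyFunctor C (k - 1)).obj
      (DerivedCategory.Q.obj X)))
    (h2 : Precoh P ((DerivedCategory.homologyFunctor C k).obj (DerivedCategory.Q.obj X))) :
    PCoh.IsOfFiniteType P ((CochainComplex.mappingCone w).homology (k - 1)) := by
  have hT := DerivedCategory.mappingCone_triangle_distinguished w
  have hk : k - 1 + 1 = k := by lia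
  have e3 := DerivedCategory.HomologySequence.exact₃ _ hT (k - 1) k hk
  have e1 := DerivedCategory.HomologySequence.exact₁ _ hT (k - 1) k hk
  have hGk : PCoh.IsOfFiniteType P ((DerivedCategory.homologyFunctor C k).obj
      (DerivedCategory.Q.obj G)) :=
    ft_of_iso P (homologyIso G k).symm (ft_homology P hcoh G k h1G h2G)
  have := ft_of_exact4 P hsum hql _ _ _ _ _ e3 e1 h1 hGk h2
  exact ft_of_iso P (homologyIso (CochainComplex.mappingCone w) (k - 1)) this

include hsum hql hcoh in
theorem exists_nqis (X : CochainComplex C ℤ) (n N : ℤ)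
    (hb : ∀ i : ℤ, N ≤ i → IsZero (X.homology i))
    (hft : ∀ i : ℤ, n ≤ i → PCoh.IsOfFiniteType P ((DerivedCategory.homologyFunctor C i).obj
      (DerivedCategory.Q.obj X)))
    (hpc : ∀ i : ℤ, n < i → Precoh P ((DerivedCategory.homologyFunctor C i).obj
      (DerivedCategory.Q.obj X))) :
    ∀ d : ℕ, n ≤ N - d → ∃ (G : CochainComplex C ℤ) (w : G ⟶ X),
      (∃ b : ℤ, ∀ i : ℤ, b < i → IsZero (G.X i)) ∧ (∀ i : ℤ, P (G.X i)) ∧ NQis (N - d) w := by
  intro d
  induction d with
  | zero =>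
    intro _
    obtain ⟨Z, hZ⟩ := HasZeroObject.zero (C := CochainComplex C ℤ)
    have hZX : ∀ i : ℤ, IsZero (Z.X i) := fun i =>
      (HomologicalComplex.eval C (ComplexShape.up ℤ) i).map_isZero hZ
    have hZH : ∀ i : ℤ, IsZero (Z.homology i) := fun i =>
      ShortComplex.isZero_homology_of_isZero_X₂ _ (hZX i)
    refine ⟨Z, hZ.to_ X, ⟨0, fun i _ => hZX i⟩, fun i => ?_, ?_, ?_⟩
    · exact P.prop_of_isZero (hZX i)
    · intro i hi
      have hXi : IsZero (X.homology i) := hb i (by push_cast at hi; lia)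
      exact ⟨⟨0, (hZH i).eq_of_src _ _, hXi.eq_of_tgt _ _⟩⟩
    · have hXi : IsZero (X.homology (N - ((0 : ℕ) : ℤ))) := hb _ (by push_cast; lia)
      exact ⟨fun a b _ => hXi.eq_of_src a b⟩
  | succ d ih =>
    intro hd
    obtain ⟨k, hk⟩ : ∃ k : ℤ, k = N - (d : ℤ) := ⟨_, rfl⟩
    have hk' : N - ((d + 1 : ℕ) : ℤ) = k - 1 := by push_cast; lia
    rw [hk'] at hd ⊢
    obtain ⟨G, w, ⟨b, hbG⟩, hGP, hw⟩ := ih (by lia)
    rw [← hk] at hw
    have hcone := ft_cone_step P hsum hql hcoh G X w k (hGP k) (hGP (k + 1)) (hft (k - 1) hd)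
      (hpc k (by lia))
    have hk1 : k - 1 + 1 = k := by lia
    obtain ⟨G₁, v₁, w₁, hv₁w₁, hm₁, hi₁, hP₁, hw₁⟩ := modification_step P hsum hql (k - 1) G X w
      (by rw [hk1]; exact hw) hcone
    refine ⟨G₁, w₁, ⟨max b (k - 1), fun i hi => ?_⟩, fun i => ?_, hw₁⟩
    · have := hi₁ i (by have := le_max_right b (k - 1); lia)
      exact IsZero.of_iso (hbG i (lt_of_le_of_lt (le_max_left _ _) hi)) (asIso (v₁.f i)).symm
    · by_cases hik : i = k - 1
      · subst hik
        exact hP₁ (hGP _)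
      · have := hi₁ i hik
        exact P.prop_of_iso (asIso (v₁.f i)) (hGP i)

end

/-- Punctual site: let C be an abelian category and C₀ a strictly full additive subcategory,
quasi-liftable in C, whose objects are C₀-coherent (of C₀-finite type, and every morphism from an
object of C₀ into them has kernel of C₀-finite type). For F ∈ D(C) with bounded above cohomology and
n an integer: F is n-pseudo-coherent (isomorphic to a strictly n-pseudo-coherent complex) if and
only if H^n(F) is of C₀-finite type and H^i(F) is C₀-coherent for every i > n. -/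
theorem result {C : Type u} [Category.{v} C] [Abelian C] [HasDerivedCategory.{w} C]
    (P : ObjectProperty C) [P.IsClosedUnderIsomorphisms] [P.ContainsZero] (hsum : ∀ X Y : C, P X → P Y → P (X ⨯ Y))
    (hql : PCoh.IsQuasiLiftable P)
    (hcoh : ∀ (X E : C) (u : E ⟶ X), P X → P E → PCoh.IsOfFiniteType P (kernel u))
    (n : ℤ) (F : DerivedCategory C) (b : ℤ) (hb : ∀ i : ℤ, b < i → IsZero ((DerivedCategory.homologyFunctor C i).obj F)) :
    (∃ E : CochainComplex C ℤ, PCoh.IsStrictPC P n E ∧ Nonempty (DerivedCategory.Q.obj E ≅ F)) ↔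
      (PCoh.IsOfFiniteType P ((DerivedCategory.homologyFunctor C n).obj F) ∧
        ∀ i : ℤ, n < i → (PCoh.IsOfFiniteType P ((DerivedCategory.homologyFunctor C i).obj F) ∧
          ∀ (E : C) (u : E ⟶ (DerivedCategory.homologyFunctor C i).obj F), P E → PCoh.IsOfFiniteType P (kernel u))) := by
  constructor
  · rintro ⟨E, ⟨_, hEP⟩, ⟨e⟩⟩
    have eH : ∀ i : ℤ, E.homology i ≅ (DerivedCategory.homologyFunctor C i).obj F := fun i =>
      (homologyIso E i).symm ≪≫ (DerivedCategory.homologyFunctor C i).mapIso e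
    refine ⟨ft_of_iso P (eH n) (ft_homology P hcoh E n (hEP n le_rfl) (hEP (n + 1) (by lia))),
      fun i hi => ⟨ft_of_iso P (eH i) (ft_homology P hcoh E i (hEP i hi.le) (hEP (i + 1) (by lia))),
        ?_⟩⟩
    exact precoh_of_iso P (eH i) (precoh_homology P hcoh hsum hql E i (hEP (i - 1) (by lia))
      (hEP i hi.le))
  · rintro ⟨hn, hi⟩
    obtain ⟨X, ⟨e⟩⟩ : ∃ X : CochainComplex C ℤ, Nonempty (DerivedCategory.Q.obj X ≅ F) :=
      ⟨_, ⟨DerivedCategory.Q.objObjPreimageIso F⟩⟩
    have eH : ∀ i : ℤ, (DerivedCategory.homologyFunctor C i).obj F ≅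
        (DerivedCategory.homologyFunctor C i).obj (DerivedCategory.Q.obj X) := fun i =>
      (DerivedCategory.homologyFunctor C i).mapIso e.symm
    obtain ⟨N, hN⟩ : ∃ N : ℤ, N = max b n + 1 := ⟨_, rfl⟩
    have hbN : b < N := by have := le_max_left b n; lia
    have hnN : n ≤ N := by have := le_max_right b n; lia
    have hbX : ∀ i : ℤ, N ≤ i → IsZero (X.homology i) := fun i hi =>
      IsZero.of_iso (hb i (by lia)) ((homologyIso X i).symm ≪≫ (eH i).symm)
    have hft : ∀ i : ℤ, n ≤ i → PCoh.IsOfFiniteType P ((DerivedCategory.homologyFunctor C i).obj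
        (DerivedCategory.Q.obj X)) := by
      intro i hi'
      rcases hi'.lt_or_eq with h | h
      · exact ft_of_iso P (eH i) (hi i h).1
      · subst h; exact ft_of_iso P (eH n) hn
    have hpc : ∀ i : ℤ, n < i → Precoh P ((DerivedCategory.homologyFunctor C i).obj
        (DerivedCategory.Q.obj X)) := fun i hi' => precoh_of_iso P (eH i) (hi i hi').2
    obtain ⟨G, w, hbG, hGP, hw⟩ := exists_nqis P hsum hql hcoh X n N hbX hft hpc (N - n).toNat
      (by rw [Int.toNat_of_nonneg (by lia)]; lia)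
    have hNn : N - ((N - n).toNat : ℤ) = n := by rw [Int.toNat_of_nonneg (by lia)]; lia
    rw [hNn] at hw
    obtain ⟨E', v, u', _, hE', hu', _, _⟩ := exists_factor_qis P n G X ⟨hbG, fun i _ => hGP i⟩ w hw
    have : IsIso (DerivedCategory.Q.map u') := (DerivedCategory.isIso_Q_map_iff_quasiIso C u').2 hu'
    exact ⟨E', hE', ⟨asIso (DerivedCategory.Q.map u') ≪≫ e⟩⟩

end Groth.Agent.S5608
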