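import Mathlib
import Groth.Statements.S12305
import Groth.Agent.Lib.CotTIndep01
import Groth.Agent.Lib.LocSplit

set_option autoImplicit false
universe u
open CotT

namespace Groth.Agent.S12305

set_option linter.style.haveILetI false
set_option linter.unusedVariables false

open Groth.Agent.Lib.CotTIndep Groth.Agent.Lib.LocSplit

section
variable {A B : Type u} [CommRing A] [CommRing B] [Algebra A B]
  {ι σ : Type u} (P : Algebra.Presentation A B ι σ) (f : B)

/-- (ii) for `Y` of the extension iff a retraction up to `f ^ n`. -/
theorem Y_killed_iff [Module.Finite B P.toExtension.Cotangent] :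
    (∃ n₀ : ℕ, ∀ (M : Type u) [AddCommGroup M] [Module B M] [Module.Finite B M],
      ∀ x : Y M P.toExtension, f ^ n₀ • x = 0) ↔
    ∃ (n : ℕ) (g : P.toExtension.CotangentSpace →ₗ[B] P.toExtension.Cotangent),
      g ∘ₗ P.toExtension.cotangentComplex = f ^ n • LinearMap.id := by
  constructor
  · rintro ⟨n, h⟩
    have h0 := h P.toExtension.Cotangent (Submodule.Quotient.mk LinearMap.id)
    rw [← Submodule.Quotient.mk_smul, Submodule.Quotient.mk_eq_zero] at h0
    obtain ⟨g, hg⟩ := h0
    exact ⟨n, g, hg⟩
  · rintro ⟨n, g, hg⟩
    refine ⟨n, fun M _ _ _ x => ?_⟩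
    obtain ⟨v, rfl⟩ := Submodule.Quotient.mk_surjective _ x
    rw [← Submodule.Quotient.mk_smul, Submodule.Quotient.mk_eq_zero]
    refine ⟨v ∘ₗ g, ?_⟩
    change (v ∘ₗ g) ∘ₗ P.toExtension.cotangentComplex = _
    rw [LinearMap.comp_assoc, hg, LinearMap.comp_smul, LinearMap.comp_id]

end

section
variable {A B : Type u} [CommRing A] [CommRing B] [Algebra A B]

theorem T1_killed_iff {ι σ : Type u} (P : Algebra.Presentation A B ι σ) (f : B) :
    (∃ n₀ : ℕ, ∀ (M : Type u) [AddCommGroup M] [Module B M] [Module.Finite B M],
      ∀ x : CotT.T1 (CotT.canon A B) M, f ^ n₀ • x = 0) ↔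
    (∃ n₀ : ℕ, ∀ (M : Type u) [AddCommGroup M] [Module B M] [Module.Finite B M],
      ∀ x : Y M P.toExtension, f ^ n₀ • x = 0) := by
  constructor
  · rintro ⟨n, h⟩
    refine ⟨n, fun M _ _ _ x => ?_⟩
    let e : CotT.T1 (CotT.canon A B) M ≃ₗ[B] Y M P.toExtension :=
      (T1equiv (CotT.canon A B) P M).trans (T1equivY P M)
    have := h M (e.symm x)
    rw [← map_smul, LinearEquiv.map_eq_zero_iff] at this
    exact this
  · rintro ⟨n, h⟩
    refine ⟨n, fun M _ _ _ x => ?_⟩
    let e : CotT.T1 (CotT.canon A B) M ≃ₗ[B] Y M P.toExtension :=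
      (T1equiv (CotT.canon A B) P M).trans (T1equivY P M)
    have := h M (e x)
    rw [← map_smul, LinearEquiv.map_eq_zero_iff] at this
    exact this

theorem smooth_iff [Algebra.FinitePresentation A B] (f : B) :
    (∀ q : PrimeSpectrum B, f ∉ q.asIdeal → q ∈ Algebra.smoothLocus A B) ↔
    Subsingleton (LocalizedModule (Submonoid.powers f) (Algebra.H1Cotangent A B)) ∧
      Module.Projective (Localization.Away f) (LocalizedModule.Away f Ω[B⁄A]) := by
  have h0 : (∀ q : PrimeSpectrum B, f ∉ q.asIdeal → q ∈ Algebra.smoothLocus A B) ↔
      ↑(PrimeSpectrum.basicOpen f) ⊆ Algebra.smoothLocus A B := by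
    rfl
  rw [h0, Algebra.smoothLocus_eq_compl_support_inter, Set.subset_inter_iff, Set.subset_compl_comm,
    PrimeSpectrum.basicOpen_eq_zeroLocus_compl, compl_compl,
    ← LocalizedModule.subsingleton_iff_support_subset,
    ← PrimeSpectrum.basicOpen_eq_zeroLocus_compl, Module.basicOpen_subset_freeLocus_iff]

theorem H1_subsingleton_iff {ι : Type u} (P : Algebra.Generators A B ι) (f : B) :
    Subsingleton (LocalizedModule (Submonoid.powers f) (Algebra.H1Cotangent A B)) ↔
    Subsingleton (LocalizedModule (Submonoid.powers f) (LinearMap.ker P.toExtension.cotangentComplex)) := by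
  let e0 : LinearMap.ker P.toExtension.cotangentComplex ≃ₗ[B] P.toExtension.H1Cotangent :=
    LinearEquiv.refl B _
  let e : LinearMap.ker P.toExtension.cotangentComplex ≃ₗ[B] Algebra.H1Cotangent A B :=
    e0.trans P.equivH1Cotangent
  rw [LocalizedModule.subsingleton_iff, LocalizedModule.subsingleton_iff]
  constructor
  · intro h m
    obtain ⟨r, hr, hrm⟩ := h (e m)
    refine ⟨r, hr, ?_⟩
    rw [← map_smul, LinearEquiv.map_eq_zero_iff] at hrm
    exact hrm
  · intro h m
    obtain ⟨r, hr, hrm⟩ := h (e.symm m)
    refine ⟨r, hr, ?_⟩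
    rw [← map_smul, LinearEquiv.map_eq_zero_iff] at hrm
    exact hrm

end


/-- Let k be an algebraically closed field, A a finitely generated k-algebra which is a domain, smooth
over k and of Krull dimension one (the coordinate ring of a nonsingular affine curve T), t ∈ A an
element generating a maximal ideal (a point 0 of T), and B a finitely generated flat A-algebra (an
affine flat family X = Spec B over T). Then the following are equivalent: (i) B is smooth over A at
every prime of B not containing t, that is, every fibre of X over a point of T other than 0 is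
smooth; (ii) there is an integer n₀ such that t^(n₀) annihilates the cotangent module T¹(B/A, M),
computed from the choice-free presentation of B over A, for every finitely generated B-module M. -/
theorem result
    {k : Type u} [Field k] [IsAlgClosed k] (A B : Type u) [CommRing A] [CommRing B] [IsDomain A]
    [Algebra k A] [Algebra.FiniteType k A] [Algebra.Smooth k A] (hdim : ringKrullDim A = 1)
    (t : A) (ht : (Ideal.span {t}).IsMaximal)
    [Algebra A B] [Algebra.FiniteType A B] [Module.Flat A B] :
    (∀ q : PrimeSpectrum B, algebraMap A B t ∉ q.asIdeal → q ∈ Algebra.smoothLocus A B) ↔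
    ∃ n₀ : ℕ, ∀ (M : Type u) [AddCommGroup M] [Module B M] [Module.Finite B M],
      ∀ x : CotT.T1 (CotT.canon A B) M, (algebraMap A B t) ^ n₀ • x = 0 := by
  haveI : IsNoetherianRing A := Algebra.FiniteType.isNoetherianRing k A
  haveI : Algebra.FinitePresentation A B := Algebra.FinitePresentation.of_finiteType.mp inferInstance
  let P := (Algebra.Presentation.ofFinitePresentation A B).reindex (Equiv.ulift.{u}) (Equiv.ulift.{u})
  haveI : Module.Finite B P.toExtension.Cotangent := Algebra.Extension.Cotangent.finite P.fg_ker
  haveI : Module.Free B P.toExtension.CotangentSpace := Module.Free.of_basis P.cotangentSpaceBasis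
  haveI : Module.Finite B P.toExtension.CotangentSpace := Module.Finite.of_basis P.cotangentSpaceBasis
  haveI : Module.FinitePresentation B P.toExtension.CotangentSpace :=
    Module.finitePresentation_of_projective _ _
  rw [T1_killed_iff P (algebraMap A B t), Y_killed_iff P (algebraMap A B t), smooth_iff (algebraMap A B t),
    H1_subsingleton_iff P.toGenerators (algebraMap A B t)]
  constructor
  · rintro ⟨h1, h2⟩
    exact exists_retract_of_loc (algebraMap A B t) P.toExtension.cotangentComplex P.toExtension.toKaehler
      P.toExtension.exact_cotangentComplex_toKaehler P.toExtension.toKaehler_surjective h1 h2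
  · rintro ⟨n, g, hg⟩
    exact ⟨ker_subsingleton_of_retract (algebraMap A B t) P.toExtension.cotangentComplex n g hg,
      projective_of_retract (algebraMap A B t) P.toExtension.cotangentComplex P.toExtension.toKaehler
        P.toExtension.exact_cotangentComplex_toKaehler P.toExtension.toKaehler_surjective n g hg⟩

end Groth.Agent.S12305
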