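import Groth.Statements.S12730
import Groth.Agent.Lib.H59SchlessStart
import Groth.Agent.Lib.H59SchlessVersal
import Groth.Agent.Lib.H59SchlessCRingQuot
import Groth.Agent.Lib.H59SchlessChevalley

set_option autoImplicit false
universe u v
open CategoryTheory
open ArtFun

namespace Groth.Agent.S12730

/-- For functors, a functor on Artinian local Λ-algebras with residue field k with F(k) a point,
satisfying (S1) and (S2) and with finite-dimensional tangent space has a versal family over some
complete local Noetherian Λ-algebra with residue field k. -/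
theorem result {Λ : Type u} {k : Type u} [CommRing Λ] [Field k] [Algebra Λ k]
    [IsNoetherianRing Λ] [Module.Finite Λ k]
    (F : ArtFun.Art Λ k ⥤ Type v) [ArtFun.TangentStr F]
    (h0 : ArtFun.H0 F) (h1 : ArtFun.S1 F) (h2 : ArtFun.Heps F) (h3 : ArtFun.Hfin F) :
    ArtFun.HasVersal F := by
  obtain ⟨S, hS, s₀, V, hV, hs₀⟩ := Groth.Agent.Lib.H59SchlessStart.exists_start F h0 h2 h3
  have hanti := Groth.Agent.Lib.H59SchlessVersal.tower_ker_antitone h1 s₀
  have hJ : (⨅ n, (Groth.Agent.Lib.H59SchlessStep.tower h1 s₀ n).ker) ≤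
      IsLocalRing.maximalIdeal S.carrier :=
    (iInf_le _ 0).trans (Groth.Agent.Lib.H59SchlessQuot.ker_le_maximalIdeal _)
  let R : ArtFun.CRing Λ k := Groth.Agent.Lib.H59SchlessCRingQuot.quot S _ hJ
  have hchev := Groth.Agent.Lib.H59SchlessChevalley.exists_le_iInf_sup_pow S _ hanti
  exact ⟨⟨R, Groth.Agent.Lib.H59SchlessVersal.limitFamily h1 s₀ R
      (Groth.Agent.Lib.H59SchlessCRingQuot.quotMk S _ hJ)
      (Groth.Agent.Lib.H59SchlessCRingQuot.res_comp_quotMk S _ hJ)
      (Groth.Agent.Lib.H59SchlessCRingQuot.ker_quotMk S _ hJ) hchev,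
    Groth.Agent.Lib.H59SchlessVersal.limitFamily_isVersal h1 s₀ R
      (Groth.Agent.Lib.H59SchlessCRingQuot.quotMk S _ hJ)
      (Groth.Agent.Lib.H59SchlessCRingQuot.quotMk_surjective S _ hJ)
      (Groth.Agent.Lib.H59SchlessCRingQuot.res_comp_quotMk S _ hJ)
      (Groth.Agent.Lib.H59SchlessCRingQuot.ker_quotMk S _ hJ) hchev hS h2 V hV hs₀⟩⟩

end Groth.Agent.S12730
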