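import Groth.Statements.S8287
import Groth.Agent.Lib.H60RelTwistMap
import Groth.Agent.Lib.H60RelTwistGen
import Groth.Agent.Lib.H60LineAlg
import Groth.Agent.Lib.H78PullSec

set_option autoImplicit false
universe u
open CategoryTheory CategoryTheory.Limits AlgebraicGeometry Opposite TopologicalSpace
open scoped HomogeneousIdeal
noncomputable section
open EGA2

namespace Groth.Agent.S8287

open Groth.Agent.Lib.H90Invertible Groth.Agent.Lib.H78TensorGen Groth.Agent.Lib.H60GrTwist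
  Groth.Agent.Lib.H60RelTwist Groth.Agent.Lib.H60RelTwistGen Groth.Agent.Lib.H60RelTwistMap
  Groth.Agent.Lib.H78PullSec GrTwist

/-- A morphism of modules carrying free generators over a cover to free generators is an
isomorphism. -/
theorem isIso_of_isGen {X : Scheme.{u}} {M N : X.Modules} (f : M ⟶ N) {ι : Type*}
    (U : ι → X.Opens) (hU : ⨆ i, U i = ⊤) (e : ∀ i, Γ(M, U i)) (he : ∀ i, IsGen M (U i) (e i))
    (he' : ∀ i, IsGen N (U i) (f.app (U i) (e i))) : IsIso f := by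
  refine Groth.Agent.Lib.H90OXModLocal.isIso_of_small hU f fun W hW => ?_
  obtain ⟨i, hi⟩ := hW
  rw [ConcreteCategory.isIso_iff_bijective]
  have h1 := he i W hi
  have h2 := he' i W hi
  have key : (f.app W) ∘ (fun a : Γ(X, W) => a • M.presheaf.map (homOfLE hi).op (e i)) =
      (fun a : Γ(X, W) => a • N.presheaf.map (homOfLE hi).op (f.app (U i) (e i))) := by
    funext a
    simp only [Function.comp_apply]
    rw [Scheme.Modules.Hom.app_smul]
    congr 1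
    exact Groth.Agent.Lib.RelGlueHom.app_res f hi (e i)
  rw [← key] at h2
  exact (Function.Bijective.of_comp_iff _ h1).mp h2

/-- The adjoint of `θ : M ⟶ f_* N` sends the pullback of a section `e` to `θ e`. -/
theorem adj_pb {X Y : Scheme.{u}} (f : X ⟶ Y) {M : Y.Modules} {N : X.Modules}
    (θ : M ⟶ (Scheme.Modules.pushforward f).obj N) {V : Y.Opens} (e : Γ(M, V)) :
    (((Scheme.Modules.pullbackPushforwardAdjunction f).homEquiv M N).symm θ).app (f ⁻¹ᵁ V)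
      (pb f M e) = θ.app V e := by
  have h1 := (Scheme.Modules.pullbackPushforwardAdjunction f).homEquiv_unit (X := M) (Y := N)
    (f := ((Scheme.Modules.pullbackPushforwardAdjunction f).homEquiv M N).symm θ)
  rw [Equiv.apply_symm_apply] at h1
  have h2 := congrArg (fun ψ => Scheme.Modules.Hom.app ψ V e) h1
  exact h2.symm


theorem main {Y PA PB : Scheme.{u}} {𝒜 ℬ : RelProj.QCGrAlg Y}
    (φ : 𝒜.toQCAlg ⟶ ℬ.toQCAlg) (hφ : RelProj.IsGradedHom φ) (hgen : 𝒜.IsGenDegOne)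
    (hirr : ∀ (U : Y.Opens) (hU : IsAffineOpen U),
      (ℬ.deg U hU)₊ ≤ ((𝒜.deg U hU)₊).map (RelProj.gradedHomAt φ hφ U hU))
    (pA : PA ⟶ Y) (pB : PB ⟶ Y)
    (chartA : ∀ (U : Y.Opens) (hU : IsAffineOpen U), (((pA ⁻¹ᵁ U : PA.Opens) : Scheme.{u}) ≅ Proj (𝒜.deg U hU)))
    (chartB : ∀ (U : Y.Opens) (hU : IsAffineOpen U), (((pB ⁻¹ᵁ U : PB.Opens) : Scheme.{u}) ≅ Proj (ℬ.deg U hU)))
    (hA : RelProj.IsRelProj 𝒜 pA chartA) (hB : RelProj.IsRelProj ℬ pB chartB)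
    (h : PB ⟶ PA) (hh : RelProj.IsRelProjMap φ hφ hirr chartA chartB h) (n : ℤ)
    (LA : PA.Modules)
    (lamA : ∀ (U : Y.Opens) (hU : IsAffineOpen U),
      LA ⟶ (Scheme.Modules.pushforward (RelProj.emb pA chartA U hU)).obj (GrTwist.twist (𝒜.deg U hU) n))
    (hLA : RelProj.IsRelTwist 𝒜 pA chartA n LA lamA)
    (LB : PB.Modules)
    (lamB : ∀ (U : Y.Opens) (hU : IsAffineOpen U),
      LB ⟶ (Scheme.Modules.pushforward (RelProj.emb pB chartB U hU)).obj (GrTwist.twist (ℬ.deg U hU) n))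
    (hLB : RelProj.IsRelTwist ℬ pB chartB n LB lamB) :
    Nonempty ((Scheme.Modules.pullback h).obj LA ≅ LB) := by
  classical
  obtain ⟨θ, hθ, -⟩ := existsUnique_theta hA hB hh hLA hLB
  -- the index set: affine opens with a degree-one element
  let ι : Type u := Σ U : Y.affineOpens, {g : 𝒜.presheaf.obj (op U.1) // g ∈ 𝒜.deg U.1 U.2 1}
  let VA : ι → PA.Opens := fun i =>
    RelProj.emb pA chartA i.1.1 i.1.2 ''ᵁ Proj.basicOpen (𝒜.deg i.1.1 i.1.2) i.2.1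
  have hVA : ∀ i : ι, VA i ≤ pA ⁻¹ᵁ i.1.1 := by
    intro i
    rw [← opensRange_emb (chart := chartA)]
    exact (RelProj.emb pA chartA i.1.1 i.1.2).image_le_opensRange _
  have heq : ∀ i : ι, RelProj.emb pA chartA i.1.1 i.1.2 ⁻¹ᵁ (VA i) =
      Proj.basicOpen (𝒜.deg i.1.1 i.1.2) i.2.1 :=
    fun i => (RelProj.emb pA chartA i.1.1 i.1.2).preimage_image_eq _
  -- generators of `LA`
  have hex : ∀ i : ι, ∃ e : Γ(LA, VA i), IsGen LA (VA i) e ∧
      ∀ (x : ↥(RelProj.emb pA chartA i.1.1 i.1.2 ⁻¹ᵁ (VA i))) (hx : i.2.1 ∉ x.1.asHomogeneousIdeal),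
        sval (lamS lamA i.1.1 i.1.2 (VA i) e) x =
          (((fUnit x.1 i.2.1 hx) ^ n : (Loc (𝒜.deg i.1.1 i.1.2) x.1)ˣ) :
            Loc (𝒜.deg i.1.1 i.1.2) x.1) := by
    intro i
    obtain ⟨t, ht, htv⟩ := exists_gen_val i.2.2 n n (by simp)
      (RelProj.emb pA chartA i.1.1 i.1.2 ⁻¹ᵁ (VA i)) (fun x => (heq i).le x.2)
    obtain ⟨e, he⟩ := (lamS_bijective hLA i.1.1 i.1.2 (VA i) (hVA i)).2 t
    refine ⟨e, isGen_of_lamS hLA i.1.1 i.1.2 (VA i) (hVA i) e (by rw [he]; exact ht), ?_⟩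
    intro x hx
    rw [he, htv]
  choose e he hev using hex
  -- the adjoint morphism
  let θ' : (Scheme.Modules.pullback h).obj LA ⟶ LB :=
    ((Scheme.Modules.pullbackPushforwardAdjunction h).homEquiv LA LB).symm θ
  suffices IsIso θ' from ⟨asIso θ'⟩
  refine isIso_of_isGen θ' (fun i => h ⁻¹ᵁ VA i) ?_ (fun i => pb h LA (e i))
    (fun i => isGen_pb h (he i)) ?_
  · rw [eq_top_iff]
    intro z _
    obtain ⟨U, hU, hzU, -⟩ := exists_isAffineOpen_mem_and_subset (x := pB.base z) (U := ⊤) trivial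
    have hzr : z ∈ (RelProj.emb pB chartB U hU).opensRange := by
      rw [opensRange_emb]; exact hzU
    obtain ⟨y, rfl⟩ := hzr
    obtain ⟨g, hg1, hgy⟩ := Groth.Agent.Lib.H60LineAlg.exists_deg_one_notMem (𝒜.deg U hU)
      (hgen U hU) (ProjectiveSpectrum.comap (RelProj.gradedHomAt φ hφ U hU) (hirr U hU) y)
    refine Opens.mem_iSup.2 ⟨⟨⟨U, hU⟩, ⟨g, hg1⟩⟩, ?_⟩
    exact (mem_iff hh U hU _ y).mpr ⟨_, hgy, rfl⟩
  · intro i
    rw [adj_pb]
    have hW' : h ⁻¹ᵁ VA i ≤ pB ⁻¹ᵁ i.1.1 := by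
      rw [← Groth.Agent.Lib.RelProjMap.preimage_eq φ hφ hirr hA hB h hh i.1.1]
      exact h.preimage_mono (hVA i)
    have hgA : ∀ y : ↥(RelProj.emb pB chartB i.1.1 i.1.2 ⁻¹ᵁ (h ⁻¹ᵁ VA i)),
        i.2.1 ∉ (ProjectiveSpectrum.comap (RelProj.gradedHomAt φ hφ i.1.1 i.1.2)
          (hirr i.1.1 i.1.2) y.1).asHomogeneousIdeal := by
      intro y
      have h1 := (mem_iff hh i.1.1 i.1.2 (VA i) y.1).mp y.2
      exact (heq i).le h1
    have hD' : ∀ y : ↥(RelProj.emb pB chartB i.1.1 i.1.2 ⁻¹ᵁ (h ⁻¹ᵁ VA i)),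
        RelProj.gradedHomAt φ hφ i.1.1 i.1.2 i.2.1 ∉ y.1.asHomogeneousIdeal := fun y => hgA y
    obtain ⟨t', ht', ht'v⟩ := exists_gen_val
      ((RelProj.gradedHomAt φ hφ i.1.1 i.1.2).map_mem i.2.2) n n (by simp) _ hD'
    refine isGen_of_lamS hLB i.1.1 i.1.2 _ hW' _ ?_
    have hkey : lamS lamB i.1.1 i.1.2 _ (θ.app (VA i) (e i)) = t' := by
      apply Groth.Agent.Lib.H60GrTwist.sec_ext
      intro y
      have hy' := (mem_iff hh i.1.1 i.1.2 (VA i) y.1).mp y.2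
      rw [ht'v]
      refine (hθ i.1.1 i.1.2 (VA i) (e i) y.1 y.2 hy').trans ?_
      have h3 := hev i ⟨_, hy'⟩ (hgA y)
      have h4 : GrTwist.val (V := RelProj.emb pA chartA i.1.1 i.1.2 ⁻¹ᵁ VA i)
          ((lamA i.1.1 i.1.2).app (VA i) (e i)) ⟨_, hy'⟩ =
          sval (lamS lamA i.1.1 i.1.2 (VA i) (e i)) ⟨_, hy'⟩ := rfl
      rw [h4, h3]
      exact locMap_fUnit_zpow _ _ _ _ _ (hD' y) n
    rw [hkey]
    exact ht'


/-- Let φ : 𝒜 → ℬ be a surjective graded homomorphism of quasi-coherent positively graded O_Y-algebras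
with 𝒜 generated by 𝒜_1, and h : Proj(ℬ) → Proj(𝒜) the closed immersion it induces. Then for every
integer n the inverse image h^*(O_{Proj(𝒜)}(n)) is isomorphic to O_{Proj(ℬ)}(n) (existence of an
isomorphism only; the published identification is canonical, and allows φ merely eventually
surjective). -/
theorem result {Y PA PB : Scheme.{u}} {𝒜 ℬ : RelProj.QCGrAlg Y}
    (φ : 𝒜.toQCAlg ⟶ ℬ.toQCAlg) (hφ : RelProj.IsGradedHom φ) (hgen : 𝒜.IsGenDegOne)
    (hsurj : ∀ (U : Y.Opens) (hU : IsAffineOpen U), Function.Surjective (φ.hom.app (op U)).hom)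
    (hirr : ∀ (U : Y.Opens) (hU : IsAffineOpen U),
      (ℬ.deg U hU)₊ ≤ ((𝒜.deg U hU)₊).map (RelProj.gradedHomAt φ hφ U hU))
    (pA : PA ⟶ Y) (pB : PB ⟶ Y)
    (chartA : ∀ (U : Y.Opens) (hU : IsAffineOpen U), (((pA ⁻¹ᵁ U : PA.Opens) : Scheme.{u}) ≅ Proj (𝒜.deg U hU)))
    (chartB : ∀ (U : Y.Opens) (hU : IsAffineOpen U), (((pB ⁻¹ᵁ U : PB.Opens) : Scheme.{u}) ≅ Proj (ℬ.deg U hU)))
    (hA : RelProj.IsRelProj 𝒜 pA chartA) (hB : RelProj.IsRelProj ℬ pB chartB)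
    (h : PB ⟶ PA) (hh : RelProj.IsRelProjMap φ hφ hirr chartA chartB h) (n : ℤ)
    (LA : PA.Modules)
    (lamA : ∀ (U : Y.Opens) (hU : IsAffineOpen U),
      LA ⟶ (Scheme.Modules.pushforward (RelProj.emb pA chartA U hU)).obj (GrTwist.twist (𝒜.deg U hU) n))
    (hLA : RelProj.IsRelTwist 𝒜 pA chartA n LA lamA)
    (LB : PB.Modules)
    (lamB : ∀ (U : Y.Opens) (hU : IsAffineOpen U),
      LB ⟶ (Scheme.Modules.pushforward (RelProj.emb pB chartB U hU)).obj (GrTwist.twist (ℬ.deg U hU) n))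
    (hLB : RelProj.IsRelTwist ℬ pB chartB n LB lamB) :
    Nonempty ((Scheme.Modules.pullback h).obj LA ≅ LB) := by
  exact main φ hφ hgen hirr pA pB chartA chartB hA hB h hh n LA lamA hLA LB lamB hLB

end Groth.Agent.S8287
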