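import Groth.Statements.S4861
import Mathlib.RingTheory.Ideal.KrullsHeightTheorem
import Mathlib.RingTheory.Ideal.MinimalPrime.Noetherian
import Mathlib.RingTheory.Localization.Ideal

set_option autoImplicit false
universe u

namespace Groth.Agent.S4861

section
variable {B : Type u} [CommRing B] [IsDomain B] [IsNoetherianRing B]

/-- Key lemma: if `f ≠ 0` lies in every nonzero prime of a Noetherian domain, then every nonzero
prime is minimal over `(f)`. -/
lemma mem_minimalPrimes_of_forall_mem {f : B} (hf : f ≠ 0)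
    (h : ∀ p : Ideal B, p.IsPrime → p ≠ ⊥ → f ∈ p) (q : Ideal B) [hq : q.IsPrime] (hq0 : q ≠ ⊥) :
    q ∈ (Ideal.span {f}).minimalPrimes := by
  classical
  by_contra hqS
  have hfin : (Ideal.span {f}).minimalPrimes.Finite :=
    Ideal.finite_minimalPrimes_of_isNoetherianRing B _
  have hfq : Ideal.span {f} ≤ q := by
    rw [Ideal.span_singleton_le_iff_mem]; exact h q hq hq0
  obtain ⟨p₀, hp₀, hp₀q⟩ := Ideal.exists_minimalPrimes_le hfq
  -- prime avoidance
  have havoid : ¬ ((q : Set B) ⊆ ⋃ p ∈ (hfin.toFinset : Set (Ideal B)), (p : Set B)) := by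
    intro hsub
    rw [Ideal.subset_union_prime p₀ p₀ (fun p hp _ _ => by
      rw [Set.Finite.mem_toFinset] at hp; exact hp.1.1)] at hsub
    obtain ⟨p, hp, hqp⟩ := hsub
    rw [Set.Finite.mem_toFinset] at hp
    have : p ≤ p₀ := hp.2 hp₀.1 (hp₀q.trans hqp)
    have : q = p₀ := le_antisymm (hqp.trans this) hp₀q
    exact hqS (this ▸ hp₀)
  rw [Set.not_subset] at havoid
  obtain ⟨x, hxq, hx⟩ := havoid
  simp only [Set.mem_iUnion, not_exists, Finset.mem_coe, Set.Finite.mem_toFinset] at hx
  have hx0 : x ≠ 0 := by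
    rintro rfl
    exact hx p₀ hp₀ (zero_mem _)
  have hxq' : Ideal.span {x} ≤ q := by
    rw [Ideal.span_singleton_le_iff_mem]; exact hxq
  obtain ⟨p', hp', hp'q⟩ := Ideal.exists_minimalPrimes_le hxq'
  have hp'prime : p'.IsPrime := hp'.1.1
  have hxp' : x ∈ p' := hp'.1.2 (Ideal.mem_span_singleton_self x)
  have hp'0 : p' ≠ ⊥ := fun h0 => hx0 (by simpa [h0] using hxp')
  have hfp' : Ideal.span {f} ≤ p' := by
    rw [Ideal.span_singleton_le_iff_mem]; exact h p' hp'prime hp'0
  obtain ⟨p₁, hp₁, hp₁p'⟩ := Ideal.exists_minimalPrimes_le hfp'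
  have hp₁prime : p₁.IsPrime := hp₁.1.1
  have hp₁0 : p₁ ≠ ⊥ := fun h0 => hf (by
    have := hp₁.1.2 (Ideal.mem_span_singleton_self f); simpa [h0] using this)
  have hht : p'.height ≤ 1 := Ideal.height_le_one_of_isPrincipal_of_mem_minimalPrimes _ p' hp'
  have heq : p₁ = p' := by
    by_contra hne
    have hlt : p₁ < p' := lt_of_le_of_ne hp₁p' hne
    have h1 : (⊥ : Ideal B).height < p₁.height :=
      Ideal.height_strict_mono_of_isPrime (bot_lt_iff_ne_bot.2 hp₁0)
    have h2 : p₁.height < p'.height := Ideal.height_strict_mono_of_isPrime hlt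
    have h3 : (1 : ℕ∞) ≤ p₁.height := Order.one_le_iff_pos.2 (lt_of_le_of_lt zero_le h1)
    exact absurd (lt_of_le_of_lt h3 h2) (not_lt.2 hht)
  exact hx p₁ hp₁ (heq ▸ hxp')

lemma mem_of_isField_away {f : B} (hf : f ≠ 0) (hfield : IsField (Localization.Away f))
    (p : Ideal B) (hp : p.IsPrime) (hp0 : p ≠ ⊥) : f ∈ p := by
  by_contra hfp
  have hdisj : Disjoint (Submonoid.powers f : Set B) p :=
    (Ideal.disjoint_powers_iff_notMem_of_isPrime f).2 hfp
  have hprime := IsLocalization.isPrime_of_isPrime_disjoint (Submonoid.powers f)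
    (Localization.Away f) p hp hdisj
  have hinj : Function.Injective (algebraMap B (Localization.Away f)) :=
    IsLocalization.injective _ (powers_le_nonZeroDivisors_of_noZeroDivisors hf)
  obtain ⟨x, hxp, hx0⟩ := Submodule.exists_mem_ne_zero_of_ne_bot hp0
  have : Nontrivial (Localization.Away f) := hinj.nontrivial
  refine Ring.not_isField_iff_exists_prime.2 ⟨_, ?_, hprime⟩ hfield
  intro hbot
  have : algebraMap B (Localization.Away f) x ∈
      Ideal.map (algebraMap B (Localization.Away f)) p := Ideal.mem_map_of_mem _ hxp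
  rw [hbot, Ideal.mem_bot] at this
  exact hx0 (hinj (by simpa using this))

lemma finite_of_forall_mem {f : B} (hf : f ≠ 0)
    (h : ∀ p : Ideal B, p.IsPrime → p ≠ ⊥ → f ∈ p) : Finite (PrimeSpectrum B) := by
  have hfin := Ideal.finite_minimalPrimes_of_isNoetherianRing B (Ideal.span {f})
  have : (Set.univ : Set (PrimeSpectrum B)).Finite := by
    apply Set.Finite.of_finite_image (f := PrimeSpectrum.asIdeal) _
      (fun _ _ _ _ h => PrimeSpectrum.ext h)
    apply (hfin.insert ⊥).subset
    rintro _ ⟨p, -, rfl⟩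
    by_cases hp0 : p.asIdeal = ⊥
    · left; exact hp0
    · right; exact mem_minimalPrimes_of_forall_mem hf h p.asIdeal hp0
  exact Set.finite_univ_iff.1 this

lemma height_le_one_of_forall_mem {f : B} (hf : f ≠ 0)
    (h : ∀ p : Ideal B, p.IsPrime → p ≠ ⊥ → f ∈ p) (p : Ideal B) [hp : p.IsPrime] :
    p.height ≤ 1 := by
  by_cases hp0 : p = ⊥
  · subst hp0
    simp
  · exact Ideal.height_le_one_of_isPrincipal_of_mem_minimalPrimes _ p
      (mem_minimalPrimes_of_forall_mem hf h p hp0)

omit [IsNoetherianRing B] in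
lemma exists_f_of_finite [Finite (PrimeSpectrum B)] :
    ∃ f : B, f ≠ 0 ∧ ∀ p : Ideal B, p.IsPrime → p ≠ ⊥ → f ∈ p := by
  classical
  have : Fintype (PrimeSpectrum B) := Fintype.ofFinite _
  have hx : ∀ p : PrimeSpectrum B, ∃ x : B, x ≠ 0 ∧ (p.asIdeal ≠ ⊥ → x ∈ p.asIdeal) := by
    intro p
    by_cases hp0 : p.asIdeal = ⊥
    · exact ⟨1, one_ne_zero, fun h => absurd hp0 h⟩
    · obtain ⟨x, hxp, hx0⟩ := Submodule.exists_mem_ne_zero_of_ne_bot hp0
      exact ⟨x, hx0, fun _ => hxp⟩
  choose x hx0 hxp using hx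
  refine ⟨∏ p, x p, Finset.prod_ne_zero_iff.2 (fun p _ => hx0 p), fun p hp hp0 => ?_⟩
  exact Ideal.mem_of_dvd p (Finset.dvd_prod_of_mem x (Finset.mem_univ ⟨p, hp⟩)) (hxp ⟨p, hp⟩ hp0)

lemma isField_away {f : B} (hf : f ≠ 0)
    (h : ∀ p : Ideal B, p.IsPrime → p ≠ ⊥ → f ∈ p) : IsField (Localization.Away f) := by
  have : IsDomain (Localization.Away f) :=
    IsLocalization.isDomain_localization (powers_le_nonZeroDivisors_of_noZeroDivisors hf)
  by_contra hnf
  obtain ⟨P, hP0, hP⟩ := Ring.not_isField_iff_exists_prime.1 hnf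
  have hcomap : (P.comap (algebraMap B (Localization.Away f))).IsPrime := hP.comap _
  have hfP : f ∉ P.comap (algebraMap B (Localization.Away f)) := fun hmem =>
    hP.ne_top (Ideal.eq_top_of_isUnit_mem _ hmem (IsLocalization.Away.algebraMap_isUnit f))
  have h0 : P.comap (algebraMap B (Localization.Away f)) = ⊥ :=
    by_contra (fun h0 => hfP (h _ hcomap h0))
  apply hP0
  rw [← IsLocalization.map_under (Submonoid.powers f) (Localization.Away f) P]
  change Ideal.map _ (P.comap (algebraMap B (Localization.Away f))) = ⊥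
  rw [h0, Ideal.map_bot]

lemma isMaximal_of_dim_le_one (hdim : ringKrullDim B ≤ 1) (p : Ideal B) [hp : p.IsPrime]
    (hp0 : p ≠ ⊥) : p.IsMaximal := by
  obtain ⟨m, hm, hpm⟩ := Ideal.exists_le_maximal p hp.ne_top
  by_cases hne : p = m
  · exact hne ▸ hm
  · exfalso
    have hlt : p < m := lt_of_le_of_ne hpm hne
    have hmp : m.IsPrime := hm.isPrime
    have h1 : (⊥ : Ideal B).height < p.height :=
      Ideal.height_strict_mono_of_isPrime (bot_lt_iff_ne_bot.2 hp0)
    have h2 : p.height < m.height := Ideal.height_strict_mono_of_isPrime hlt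
    have h3 : (1 : ℕ∞) ≤ p.height := Order.one_le_iff_pos.2 (lt_of_le_of_lt zero_le h1)
    have h4 : (m.height : WithBot ℕ∞) ≤ 1 :=
      (Ideal.height_le_ringKrullDim_of_ne_top hm.ne_top).trans hdim
    have h5 : m.height ≤ 1 := by exact_mod_cast h4
    exact absurd (lt_of_le_of_lt h3 h2) (not_lt.2 h5)

end

/-- For a Noetherian integral domain B the following are equivalent (and hence equivalent to: the
fraction field of B is a finitely generated B-algebra; the generic point of Spec B is open): a) the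
localization B_f is a field for some nonzero f; e) Spec B is finite; f) B is semi-local (finitely
many maximal ideals) of Krull dimension at most 1. -/
theorem result (B : Type u) [CommRing B] [IsDomain B]
    [IsNoetherianRing B] :
    [∃ f : B, f ≠ 0 ∧ IsField (Localization.Away f),
      Finite (PrimeSpectrum B),
      Finite (MaximalSpectrum B) ∧ ringKrullDim B ≤ 1].TFAE := by
  classical
  tfae_have 1 → 2 := fun ⟨f, hf, hfield⟩ =>
    finite_of_forall_mem hf (mem_of_isField_away hf hfield)
  tfae_have 2 → 1 := fun hfin => by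
    obtain ⟨f, hf, h⟩ := exists_f_of_finite (B := B)
    exact ⟨f, hf, isField_away hf h⟩
  tfae_have 2 → 3 := fun hfin => by
    obtain ⟨f, hf, h⟩ := exists_f_of_finite (B := B)
    refine ⟨Finite.of_injective MaximalSpectrum.toPrimeSpectrum
      MaximalSpectrum.toPrimeSpectrum_injective, ?_⟩
    rw [ringKrullDim_le_iff_height_le]
    intro p hp
    have := height_le_one_of_forall_mem hf h p
    exact_mod_cast this
  tfae_have 3 → 2 := fun ⟨hfin, hdim⟩ => by
    let g : PrimeSpectrum B → Option (MaximalSpectrum B) := fun p =>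
      if h : p.asIdeal = ⊥ then none
      else some ⟨p.asIdeal, isMaximal_of_dim_le_one hdim p.asIdeal h⟩
    refine Finite.of_injective g ?_
    intro p q hpq
    by_cases hp : p.asIdeal = ⊥ <;> by_cases hq : q.asIdeal = ⊥
    · exact PrimeSpectrum.ext (hp.trans hq.symm)
    · simp [g, hp, hq] at hpq
    · simp [g, hp, hq] at hpq
    · simp only [g, hp, hq, dite_false, Option.some.injEq, MaximalSpectrum.mk.injEq] at hpq
      exact PrimeSpectrum.ext hpq
  tfae_finish

end Groth.Agent.S4861
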