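import Groth.Statements.S7651
import Groth.Agent.Lib.TotalFrac
import Mathlib.RingTheory.Spectrum.Prime.Topology
import Mathlib.RingTheory.Spectrum.Prime.Noetherian
import Mathlib.RingTheory.KrullDimension.Zero
import Mathlib.RingTheory.Localization.LocalizationLocalization
import Mathlib.RingTheory.Ideal.Height
import Mathlib.RingTheory.Ideal.KrullsHeightTheorem
import Mathlib.RingTheory.LocalRing.ResidueField.Ideal
import Mathlib.RingTheory.HopkinsLevitzki

set_option autoImplicit false
set_option maxHeartbeats 400000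
universe u
open CategoryTheory CategoryTheory.Limits AlgebraicGeometry
open Variety

namespace Groth.Agent.S7651

open IsLocalRing
open scoped nonZeroDivisors

section Basic

variable {A : Type u} [CommRing A] [IsLocalRing A] [IsNoetherianRing A]

lemma maximalIdeal_notMem_minimalPrimes (hdim : ringKrullDim A = 1) :
    maximalIdeal A ∉ minimalPrimes A := by
  intro hm
  have h0 : Ring.KrullDimLE 0 A := by
    rw [Ring.krullDimLE_zero_iff]
    intro I hI
    have hle : I ≤ maximalIdeal A := le_maximalIdeal hI.ne_top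
    have hge : maximalIdeal A ≤ I := hm.2 ⟨hI, bot_le⟩ hle
    rw [le_antisymm hle hge]; exact maximalIdeal.isMaximal A
  have h1 := (Ring.krullDimLE_iff (n := 0)).1 h0
  rw [hdim] at h1
  exact absurd h1 (by norm_num)

lemma eq_maximalIdeal_of_notMem_minimalPrimes (hdim : ringKrullDim A = 1) (p : Ideal A)
    [hp : p.IsPrime] (hpmin : p ∉ minimalPrimes A) : p = maximalIdeal A := by
  by_contra hne
  have hpm : p < maximalIdeal A := lt_of_le_of_ne (le_maximalIdeal hp.ne_top) hne
  obtain ⟨q, hq, hqp⟩ := Ideal.exists_minimalPrimes_le (bot_le : (⊥ : Ideal A) ≤ p)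
  have hqp' : q < p := lt_of_le_of_ne hqp (fun h => hpmin (h ▸ hq))
  have : q.IsPrime := hq.1.1
  have h1 : q.height < p.height := Ideal.height_strict_mono_of_isPrime hqp'
  have h2 : p.height < (maximalIdeal A).height := Ideal.height_strict_mono_of_isPrime hpm
  have h3 : (1 : ℕ∞) ≤ p.height := Order.one_le_iff_pos.2 (lt_of_le_of_lt zero_le h1)
  have h4 : ((maximalIdeal A).height : WithBot ℕ∞) ≤ 1 :=
    (Ideal.height_le_ringKrullDim_of_ne_top (maximalIdeal.isMaximal A).ne_top).trans hdim.le
  have h5 : (maximalIdeal A).height ≤ 1 := by exact_mod_cast h4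
  exact absurd (lt_of_le_of_lt h3 h2) (not_lt.2 h5)

lemma exists_avoid (hdim : ringKrullDim A = 1) :
    ∃ f ∈ maximalIdeal A, ∀ p ∈ minimalPrimes A, f ∉ p := by
  classical
  have hfin : (minimalPrimes A).Finite := minimalPrimes.finite_of_isNoetherianRing A
  by_contra hcon
  push Not at hcon
  have hsub : (maximalIdeal A : Set A) ⊆ ⋃ q ∈ (hfin.toFinset : Set (Ideal A)), (q : Set A) := by
    intro y hy
    obtain ⟨q, hq, hyq⟩ := hcon y hy
    exact Set.mem_biUnion (by simpa using hq) hyq
  rw [Ideal.subset_union_prime (maximalIdeal A) (maximalIdeal A) (fun q hq _ _ => by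
      rw [Set.Finite.mem_toFinset] at hq; exact hq.1.1)] at hsub
  obtain ⟨q, hq, hmq⟩ := hsub
  rw [Set.Finite.mem_toFinset] at hq
  have : q = maximalIdeal A := le_antisymm (le_maximalIdeal hq.1.1.ne_top) hmq
  exact maximalIdeal_notMem_minimalPrimes hdim (this ▸ hq)

lemma rad_iff (hdim : ringKrullDim A = 1) (f : A) (hf : f ∈ maximalIdeal A) :
    (maximalIdeal A = (Ideal.span {f}).radical) ↔ (∀ p ∈ minimalPrimes A, f ∉ p) := by
  constructor
  · intro h p hp hfp
    have hpp : p.IsPrime := hp.1.1
    have h1 : (Ideal.span {f}).radical ≤ p := by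
      rw [hpp.radical_le_iff, Ideal.span_singleton_le_iff_mem]; exact hfp
    rw [← h] at h1
    have h2 : p = maximalIdeal A := le_antisymm (le_maximalIdeal hpp.ne_top) h1
    exact maximalIdeal_notMem_minimalPrimes hdim (h2 ▸ hp)
  · intro h
    rw [Ideal.radical_eq_sInf]
    apply le_antisymm
    · apply le_sInf
      rintro J ⟨hfJ, hJ⟩
      have hJmin : J ∉ minimalPrimes A :=
        fun hJm => h J hJm (hfJ (Ideal.mem_span_singleton_self f))
      rw [eq_maximalIdeal_of_notMem_minimalPrimes hdim J hJmin]
    · apply sInf_le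
      exact ⟨by rwa [Ideal.span_singleton_le_iff_mem], inferInstance⟩

lemma exists_regular_of_depth (h : LocCoh.depth A A = 1) :
    ∃ r ∈ maximalIdeal A, r ∈ A⁰ := by
  unfold LocCoh.depth LocCoh.idealDepth at h
  split_ifs at h with htop
  · exact absurd h (by simp)
  · by_contra hcon
    push Not at hcon
    have hle : (⨆ (rs : List A) (_ : RingTheory.Sequence.IsWeaklyRegular A rs ∧
        ∀ r ∈ rs, r ∈ maximalIdeal A), (rs.length : ℕ∞)) ≤ 0 := by
      apply iSup₂_le
      rintro rs ⟨hreg, hmem⟩
      cases rs with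
      | nil => simp
      | cons r rs' =>
        exfalso
        have hr : IsSMulRegular A r :=
          ((RingTheory.Sequence.isWeaklyRegular_cons_iff A r rs').1 hreg).1
        apply hcon r (hmem r (List.mem_cons_self ..))
        rw [mem_nonZeroDivisors_iff_right]
        intro x hx
        apply hr
        change r * x = r * 0
        rw [mul_zero, mul_comm]; exact hx
    rw [h] at hle
    exact absurd hle (by norm_num)

lemma avoid_of_mem_nzd (f : A) (hf : f ∈ A⁰) : ∀ p ∈ minimalPrimes A, f ∉ p :=
  fun _ hp hfp =>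
    Set.disjoint_left.1 (Ideal.disjoint_nonZeroDivisors_of_mem_minimalPrimes hp) hfp hf

lemma mem_nzd_of_avoid (hdim : ringKrullDim A = 1) (hdr : LocCoh.depth A A = 1 ∨ IsReduced A)
    (f : A) (hf : f ∈ maximalIdeal A) (h2 : ∀ p ∈ minimalPrimes A, f ∉ p) : f ∈ A⁰ := by
  rcases hdr with hd | hred
  · obtain ⟨r, hrm, hr⟩ := exists_regular_of_depth hd
    have hrad := (rad_iff hdim f hf).2 h2
    have hr2 : r ∈ (Ideal.span {f}).radical := hrad ▸ hrm
    obtain ⟨n, hn⟩ := hr2
    obtain ⟨c, hc⟩ := Ideal.mem_span_singleton'.1 hn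
    have hrn : r ^ n ∈ A⁰ := pow_mem hr n
    rw [← hc] at hrn
    exact (mul_mem_nonZeroDivisors.1 hrn).2
  · exact Groth.Agent.Lib.TotalFrac.mem_nonZeroDivisors_iff_forall_notMem.2
      (fun q => h2 q.1 q.2)

lemma isLocalization_of_avoid (hdim : ringKrullDim A = 1) (f : A) (hf : f ∈ maximalIdeal A)
    (hnzd : f ∈ A⁰) : IsLocalization A⁰ (Localization.Away f) := by
  apply IsLocalization.of_le (Submonoid.powers f) A⁰ (Submonoid.powers_le.2 hnzd)
  intro s hs
  by_cases hsm : s ∈ maximalIdeal A
  · have hrad := (rad_iff hdim s hsm).2 (avoid_of_mem_nzd s hs)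
    have hf2 : f ∈ (Ideal.span {s}).radical := hrad ▸ hf
    obtain ⟨n, hn⟩ := hf2
    obtain ⟨c, hc⟩ := Ideal.mem_span_singleton'.1 hn
    have hu : IsUnit (algebraMap A (Localization.Away f) (f ^ n)) := by
      rw [map_pow]; exact (IsLocalization.Away.algebraMap_isUnit f).pow n
    rw [← hc, map_mul] at hu
    exact isUnit_of_mul_isUnit_right hu
  · have hsu : IsUnit s := by
      rwa [mem_maximalIdeal, mem_nonunits_iff, not_not] at hsm
    exact hsu.map _

lemma mem_nzd_of_isLocalization (f : A) (h : IsLocalization A⁰ (Localization.Away f)) :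
    f ∈ A⁰ := by
  have hinj : Function.Injective (algebraMap A (Localization.Away f)) :=
    IsLocalization.injective _ (le_refl A⁰)
  have hu : IsUnit (algebraMap A (Localization.Away f) f) :=
    IsLocalization.Away.algebraMap_isUnit f
  rw [mem_nonZeroDivisors_iff_right]
  intro x hx
  apply hinj
  rw [map_zero]
  have h1 : algebraMap A (Localization.Away f) x * algebraMap A (Localization.Away f) f = 0 := by
    rw [← map_mul, hx, map_zero]
  exact (hu.mul_left_eq_zero).1 h1

end Basic

section Main

variable {A : Type u} [CommRing A] [IsLocalRing A] [IsNoetherianRing A]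

/-- index type of the products in the statement -/
abbrev MinSpec (A : Type u) [CommRing A] :=
  {p : PrimeSpectrum A // p.asIdeal ∈ minimalPrimes A}

lemma avoid_of_algEquiv_pi {f : A} {C : MinSpec A → Type*} [∀ p, CommRing (C p)]
    [∀ p, Algebra A (C p)]
    (hC : ∀ p : MinSpec A, IsUnit (algebraMap A (C p) f) → f ∉ p.1.asIdeal)
    (e : Localization.Away f ≃ₐ[A] (∀ p : MinSpec A, C p)) :
    ∀ p ∈ minimalPrimes A, f ∉ p := by
  intro p hp
  have hu : IsUnit (algebraMap A (Localization.Away f) f) :=
    IsLocalization.Away.algebraMap_isUnit f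
  have hu2 : IsUnit (e (algebraMap A _ f)) := hu.map e
  rw [e.commutes] at hu2
  have := (Pi.isUnit_iff.1 hu2) ⟨⟨p, hp.1.1⟩, hp⟩
  exact hC _ this

variable (hdim : ringKrullDim A = 1) (f : A) (hf : f ∈ maximalIdeal A)
  (h2 : ∀ p ∈ minimalPrimes A, f ∉ p)

include hdim hf in
lemma comap_mem_minimalPrimes (q : Ideal (Localization.Away f)) [hq : q.IsPrime] :
    q.comap (algebraMap A (Localization.Away f)) ∈ minimalPrimes A := by
  by_contra hmin
  have h1 := eq_maximalIdeal_of_notMem_minimalPrimes hdim _ hmin
  have hfq : f ∈ q.comap (algebraMap A (Localization.Away f)) := h1 ▸ hf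
  exact hq.ne_top (Ideal.eq_top_of_isUnit_mem _ hfq (IsLocalization.Away.algebraMap_isUnit f))

include hdim hf in
lemma krullDimLE_zero_away : Ring.KrullDimLE 0 (Localization.Away f) := by
  rw [Ring.krullDimLE_zero_iff]
  intro I hI
  obtain ⟨M, hM, hIM⟩ := Ideal.exists_le_maximal I hI.ne_top
  have hMp : M.IsPrime := hM.isPrime
  have hcI := comap_mem_minimalPrimes hdim f hf I
  have hcM := comap_mem_minimalPrimes hdim f hf M
  have hle : I.comap (algebraMap A (Localization.Away f)) ≤
      M.comap (algebraMap A (Localization.Away f)) := Ideal.comap_mono hIM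
  have hge := hcM.2 hcI.1 hle
  have heq : I.comap (algebraMap A (Localization.Away f)) =
      M.comap (algebraMap A (Localization.Away f)) := le_antisymm hle hge
  have heq' : Ideal.under A I = Ideal.under A M := heq
  have : I = M := by
    rw [← IsLocalization.map_under (Submonoid.powers f) (Localization.Away f) I,
      ← IsLocalization.map_under (Submonoid.powers f) (Localization.Away f) M, heq']
  rw [this]; exact hM

/-- the map from primes of `A_f` to minimal primes of `A` -/
noncomputable def toMin (q : PrimeSpectrum (Localization.Away f)) : MinSpec A :=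
  ⟨⟨q.asIdeal.comap (algebraMap A (Localization.Away f)), inferInstance⟩,
    comap_mem_minimalPrimes hdim f hf q.asIdeal⟩

lemma toMin_injective : Function.Injective (toMin hdim f hf) := by
  intro q q' h
  have h1 : q.asIdeal.comap (algebraMap A (Localization.Away f)) =
      q'.asIdeal.comap (algebraMap A (Localization.Away f)) :=
    congrArg (fun p : MinSpec A => p.1.asIdeal) h
  have h1' : Ideal.under A q.asIdeal = Ideal.under A q'.asIdeal := h1
  apply PrimeSpectrum.ext
  rw [← IsLocalization.map_under (Submonoid.powers f) (Localization.Away f) q.asIdeal,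
    ← IsLocalization.map_under (Submonoid.powers f) (Localization.Away f) q'.asIdeal, h1']

include h2 in
lemma toMin_surjective : Function.Surjective (toMin hdim f hf) := by
  intro p
  have hpp : p.1.asIdeal.IsPrime := p.1.2
  have hdisj : Disjoint (Submonoid.powers f : Set A) p.1.asIdeal :=
    (Ideal.disjoint_powers_iff_notMem_of_isPrime f).2 (h2 _ p.2)
  have hprime := IsLocalization.isPrime_of_isPrime_disjoint (Submonoid.powers f)
    (Localization.Away f) p.1.asIdeal hpp hdisj
  refine ⟨⟨_, hprime⟩, ?_⟩
  apply Subtype.ext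
  apply PrimeSpectrum.ext
  exact IsLocalization.under_map_of_isPrime_disjoint (Submonoid.powers f)
    (Localization.Away f) hpp hdisj

include hdim hf h2 in
lemma exists_algEquiv_pi_localization :
    Nonempty (Localization.Away f ≃ₐ[A]
      (∀ p : MinSpec A, Localization.AtPrime p.1.asIdeal)) := by
  have hK : Ring.KrullDimLE 0 (Localization.Away f) := krullDimLE_zero_away hdim f hf
  have hArt : IsArtinianRing (Localization.Away f) :=
    IsNoetherianRing.isArtinianRing_of_krullDimLE_zero
  let e0 : PrimeSpectrum (Localization.Away f) ≃ MinSpec A :=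
    Equiv.ofBijective (toMin hdim f hf) ⟨toMin_injective hdim f hf, toMin_surjective hdim f hf h2⟩
  let E1 : Localization.Away f ≃ₐ[A]
      (∀ q : PrimeSpectrum (Localization.Away f), Localization.AtPrime q.asIdeal) :=
    (PrimeSpectrum.toPiLocalizationEquiv (Localization.Away f)).restrictScalars A
  let E2 : (∀ q : PrimeSpectrum (Localization.Away f), Localization.AtPrime q.asIdeal) ≃ₐ[A]
      (∀ q : PrimeSpectrum (Localization.Away f),
        Localization.AtPrime ((e0 q).1.asIdeal)) :=
    AlgEquiv.piCongrRight (fun q =>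
      (IsLocalization.localizationLocalizationAtPrimeIsoLocalization (Submonoid.powers f)
        q.asIdeal).symm)
  let E3 : (∀ q : PrimeSpectrum (Localization.Away f),
        Localization.AtPrime ((e0 q).1.asIdeal)) ≃ₐ[A]
      (∀ p : MinSpec A, Localization.AtPrime p.1.asIdeal) :=
    AlgEquiv.piCongrLeft A (fun p : MinSpec A => Localization.AtPrime p.1.asIdeal) e0
  exact ⟨(E1.trans E2).trans E3⟩

omit [IsLocalRing A] [IsNoetherianRing A] in
lemma exists_algEquiv_residueField [IsReduced A] (p : Ideal A) [hp : p.IsPrime]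
    (hmin : p ∈ minimalPrimes A) :
    Nonempty (Localization.AtPrime p ≃ₐ[A] p.ResidueField) := by
  have hK : Ring.KrullDimLE 0 (Localization.AtPrime p) :=
    Ring.KrullDimLE.of_isLocalization p hmin (Localization.AtPrime p)
  have hfield : IsField (Localization.AtPrime p) := Ring.KrullDimLE.isField_of_isReduced
  have hbot : maximalIdeal (Localization.AtPrime p) = ⊥ :=
    (IsLocalRing.isField_iff_maximalIdeal_eq).1 hfield
  refine ⟨AlgEquiv.ofBijective
    (IsScalarTower.toAlgHom A (Localization.AtPrime p) p.ResidueField) ⟨?_, ?_⟩⟩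
  · rw [injective_iff_map_eq_zero]
    intro x hx
    have hx' : IsLocalRing.residue (Localization.AtPrime p) x = 0 := hx
    rw [IsLocalRing.residue_eq_zero_iff, hbot, Ideal.mem_bot] at hx'
    exact hx'
  · exact IsLocalRing.residue_surjective

end Main

/-- Let (A, m) be a Noetherian local ring of dimension one and f ∈ m. Then (1) m = √(f), (2) f lies in
no minimal prime of A, and (3) A_f ≅ ∏_{p minimal} A_p as A-algebras, are equivalent; such an f
exists; if A has depth one, for instance if A is reduced, they are also equivalent to (4) f is a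
nonzerodivisor and to (5) A → A_f is the localization of A at all its nonzerodivisors; and if A is
reduced they are also equivalent to (6) A_f ≅ ∏_{p minimal} κ(p) as A-algebras. -/
theorem result (A : Type u) [CommRing A] [IsLocalRing A]
    [IsNoetherianRing A] (hdim : ringKrullDim A = 1) :
    (∃ f ∈ IsLocalRing.maximalIdeal A, ∀ p ∈ minimalPrimes A, f ∉ p) ∧
    ∀ f ∈ IsLocalRing.maximalIdeal A,
      ((IsLocalRing.maximalIdeal A = (Ideal.span {f}).radical) ↔ (∀ p ∈ minimalPrimes A, f ∉ p)) ∧
      ((∀ p ∈ minimalPrimes A, f ∉ p) ↔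
        Nonempty (Localization.Away f ≃ₐ[A] (∀ p : {p : PrimeSpectrum A // p.asIdeal ∈ minimalPrimes A}, Localization.AtPrime p.1.asIdeal))) ∧
      ((LocCoh.depth A A = 1 ∨ IsReduced A) →
        ((∀ p ∈ minimalPrimes A, f ∉ p) ↔ f ∈ nonZeroDivisors A) ∧
        ((∀ p ∈ minimalPrimes A, f ∉ p) ↔ IsLocalization (nonZeroDivisors A) (Localization.Away f))) ∧
      (IsReduced A →
        ((∀ p ∈ minimalPrimes A, f ∉ p) ↔
          Nonempty (Localization.Away f ≃ₐ[A] (∀ p : {p : PrimeSpectrum A // p.asIdeal ∈ minimalPrimes A}, p.1.asIdeal.ResidueField)))) := by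
  refine ⟨exists_avoid hdim, fun f hf => ⟨rad_iff hdim f hf, ⟨?_, ?_⟩, ?_, ?_⟩⟩
  · exact fun h2 => exists_algEquiv_pi_localization hdim f hf h2
  · rintro ⟨e⟩
    refine avoid_of_algEquiv_pi (C := fun p => Localization.AtPrime p.1.asIdeal) ?_ e
    intro p hu
    have hpp : p.1.asIdeal.IsPrime := p.1.2
    exact (IsLocalization.AtPrime.isUnit_to_map_iff (Localization.AtPrime p.1.asIdeal)
      p.1.asIdeal f).1 hu
  · intro hdr
    refine ⟨⟨fun h2 => mem_nzd_of_avoid hdim hdr f hf h2, avoid_of_mem_nzd f⟩,
      ⟨fun h2 => isLocalization_of_avoid hdim f hf (mem_nzd_of_avoid hdim hdr f hf h2),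
        fun h => avoid_of_mem_nzd f (mem_nzd_of_isLocalization f h)⟩⟩
  · intro hred
    constructor
    · intro h2
      obtain ⟨e⟩ := exists_algEquiv_pi_localization hdim f hf h2
      have hres : ∀ p : MinSpec A,
          Nonempty (Localization.AtPrime p.1.asIdeal ≃ₐ[A] p.1.asIdeal.ResidueField) := by
        intro p
        have hpp : p.1.asIdeal.IsPrime := p.1.2
        exact exists_algEquiv_residueField p.1.asIdeal p.2
      exact ⟨e.trans (AlgEquiv.piCongrRight (fun p => (hres p).some))⟩
    · rintro ⟨e⟩
      refine avoid_of_algEquiv_pi (C := fun p => p.1.asIdeal.ResidueField) ?_ e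
      intro p hu hfp
      have hpp : p.1.asIdeal.IsPrime := p.1.2
      rw [← Ideal.algebraMap_residueField_eq_zero] at hfp
      rw [hfp] at hu
      exact not_isUnit_zero hu


end Groth.Agent.S7651
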