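import Groth.Statements.S9262
import Groth.Agent.S0540
import Groth.Agent.Lib.RegularFlatLocal
import Groth.Agent.Lib.AdicDim
import Groth.Agent.Lib.HenselizationRegular
-- import your own Groth.Agent.* helpers here

set_option autoImplicit false
universe u
open Hensel

namespace Groth.Agent.S9262

open IsLocalRing in
/-- Being a discrete valuation ring ascends and descends along a flat local homomorphism of
Noetherian local rings with `m_A B = m_B`. -/
theorem dvr_iff_of_flat {A B : Type u} [CommRing A] [CommRing B] [Algebra A B] [IsLocalRing A]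
    [IsLocalRing B] [IsNoetherianRing A] [IsNoetherianRing B] [Module.Flat A B]
    [IsLocalHom (algebraMap A B)]
    (hmap : (maximalIdeal A).map (algebraMap A B) = maximalIdeal B) :
    (∃ _ : IsDomain A, IsDiscreteValuationRing A) ↔
      (∃ _ : IsDomain B, IsDiscreteValuationRing B) := by
  have hff : Module.FaithfullyFlat A B := Module.FaithfullyFlat.of_flat_of_isLocalHom
  have hinj : Function.Injective (algebraMap A B) := FaithfulSMul.algebraMap_injective A B
  constructor
  · rintro ⟨hdom, hdvr⟩
    obtain ⟨π, hπ⟩ := (IsPrincipalIdealRing.principal (maximalIdeal A)).principal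
    have hπ' : maximalIdeal A = Ideal.span {π} := hπ
    have hπ0 : π ≠ 0 := by
      rintro rfl
      apply IsDiscreteValuationRing.not_a_field A
      rw [hπ']; simp
    apply Groth.Agent.Lib.AdicDim.exists_isDiscreteValuationRing_of_maximalIdeal_eq_span_singleton
      (π := algebraMap A B π)
    · rw [← hmap, hπ', Ideal.map_span, Set.image_singleton]
    · rintro ⟨n, hn⟩
      rw [← map_pow, map_eq_zero_iff _ hinj] at hn
      exact hπ0 (pow_eq_zero_iff (by
        rintro rfl
        simp at hn) |>.1 hn)
  · rintro ⟨hdom, hdvr⟩
    have hdomA : IsDomain A := hinj.isDomain _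
    refine ⟨hdomA, ?_⟩
    rw [← IsLocalRing.finrank_CotangentSpace_eq_one_iff,
      ← IsLocalRing.spanFinrank_maximalIdeal_eq_finrank_cotangentSpace,
      ← Groth.Agent.Lib.RegularFlatLocal.spanFinrank_maximalIdeal_eq hmap,
      IsLocalRing.spanFinrank_maximalIdeal_eq_finrank_cotangentSpace]
    exact IsLocalRing.finrank_CotangentSpace_eq_one _

/-- Let R be a Noetherian local ring with henselization S and strict henselization T. Then R is a
discrete valuation ring exactly when S is one, and exactly when T is one. -/
theorem result (R S T : Type u)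
    [CommRing R] [IsLocalRing R] [IsNoetherianRing R] [CommRing S] [IsLocalRing S] [Algebra R S]
    [IsLocalHom (algebraMap R S)] [Hensel.IsHenselization R S] [CommRing T] [IsLocalRing T]
    [Algebra R T] [IsLocalHom (algebraMap R T)] [Hensel.IsStrictHenselization R T] :
    ((∃ _ : IsDomain R, IsDiscreteValuationRing R) ↔ (∃ _ : IsDomain S, IsDiscreteValuationRing S)) ∧
      ((∃ _ : IsDomain R, IsDiscreteValuationRing R) ↔
        (∃ _ : IsDomain T, IsDiscreteValuationRing T)) := by
  have hS : IsNoetherianRing S :=
    (Groth.Agent.Lib.HenselizationNoeth.isNoetherianRing_iff_of_isHenselization R S).mp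
      inferInstance
  have hT : IsNoetherianRing T := (Groth.Agent.S0540.result R T).mp inferInstance
  have hffS : Module.FaithfullyFlat R S :=
    Groth.Agent.Lib.HenselizationFlat.faithfullyFlat_of_isHenselization R S
  have hffT : Module.FaithfullyFlat R T :=
    Groth.Agent.Lib.StrictHenselization.faithfullyFlat_of_isStrictHenselization R T
  exact ⟨dvr_iff_of_flat (Groth.Agent.Lib.HenselizationUP.map_maximalIdeal_eq R S),
    dvr_iff_of_flat (Groth.Agent.Lib.StrictHenselizationMax.map_maximalIdeal_eq R T)⟩

end Groth.Agent.S9262
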