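import Groth.Statements.S11250
import Groth.Agent.Lib.PlSMT5

set_option autoImplicit false
universe u
open W4bk4grassmannian

namespace Groth.Agent.S11250

open W4bk4grassmannian in
/-- The shuffle relations together with the vanishing coordinates generate the homogeneous ideal of a
Schubert variety: let K be an algebraically closed field, 0 < d < n, and I(d,n) the strictly
increasing maps Fin d → Fin n ordered entrywise; S = K[X_θ : θ ∈ I(d,n)] is the Plücker polynomial
ring and, for τ ∈ I(d,n), J(τ) ⊆ S is the ideal of polynomials vanishing at the d × d row-minors of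
every n × d matrix over K whose minors on rows φ ≰ τ are zero (the homogeneous ideal of the Schubert
variety X(τ) ⊆ G(d,n)). Then the ideal I(τ) generated by the quadratic shuffle relations at pivots
(for i, j ∈ I(d,n) and r with j_t ≤ i_t for t < r and i_r < j_r, the signed sum over all shuffles of
the rows i_0, …, i_r, j_r, …, j_{d-1}) together with the variables X_φ, φ ≰ τ, is equal to J(τ). For
τ the largest element this says that the shuffle relations generate the homogeneous ideal of the
Grassmannian G(d,n). -/
theorem result (K : Type u) [Field K] [IsAlgClosed K] (d n : ℕ)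
    (hd : 0 < d) (hdn : d < n) (τ : Idx d n) :
    plIdeal K τ = schubertVanishing K d n τ := by
  open Groth.Agent.Lib.PlSMT in
  apply le_antisymm
  · unfold plIdeal
    rw [Ideal.span_le]
    rintro f (⟨i, j, r, hp, rfl⟩ | ⟨φ, hφ, rfl⟩)
    · exact plIdealTop_le_schubertVanishing K τ (shuffleRel_mem_plIdealTop K hp)
    · exact X_mem_schubertVanishing K hφ
  · intro f hf
    have hI : plIdealTop (d := d) (n := n) K ≤ plIdeal K τ :=
      Ideal.span_mono Set.subset_union_left
    have hQ : ∀ θ : Idx d n, ¬ θ ≤ τ → MvPolynomial.X θ ∈ plIdeal K τ :=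
      fun θ h => Ideal.subset_span (Or.inr ⟨θ, h, rfl⟩)
    obtain ⟨F, hF, hfF⟩ := exists_std_rep K (plIdeal K τ) hI (· ≤ τ) hQ f
    have hle : plIdeal K τ ≤ schubertVanishing K d n τ := by
      unfold plIdeal
      rw [Ideal.span_le]
      rintro f (⟨i, j, r, hp, rfl⟩ | ⟨φ, hφ, rfl⟩)
      · exact plIdealTop_le_schubertVanishing K τ (shuffleRel_mem_plIdealTop K hp)
      · exact X_mem_schubertVanishing K hφ
    have hFmem : F ∈ schubertVanishing K d n τ := by
      have : F = f - (f - F) := by ring
      rw [this]
      exact Ideal.sub_mem _ hf (hle hfF)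
    have hF0 : F = 0 := eq_zero_of_mem_schubert_of_std K hd τ F hFmem (fun e he => hF e he)
    rw [hF0, sub_zero] at hfF
    exact hfF

end Groth.Agent.S11250
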