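import Groth.Statements.S11254
import Groth.Agent.Lib.PlSMT5
import Groth.Agent.S11268

set_option autoImplicit false
universe u
open W4bk4grassmannian

namespace Groth.Agent.S11254

open W4bk4grassmannian in
/-- Let K be an algebraically closed field, 0 < d < n, and I(d,n) the strictly increasing maps Fin d →
Fin n ordered entrywise; S = K[X_θ : θ ∈ I(d,n)] is the Plücker polynomial ring and, for τ ∈ I(d,n),
J(τ) ⊆ S is the ideal of polynomials vanishing at the d × d row-minors of every n × d matrix over K
whose minors on rows φ ≰ τ are zero (the homogeneous ideal of the Schubert variety X(τ) ⊆ G(d,n)).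
Let τ ∈ I(d,n) admit some φ < τ (X(τ) has positive dimension). Then J(τ) + (X_τ) = ⋂_φ J(φ), the
intersection over the Schubert divisors φ of τ, i.e. the φ < τ with Σ_t (φ_t - t) + 1 = Σ_t (τ_t -
t). (For the zero-dimensional Schubert variety there is no divisor and the left side is the
irrelevant ideal, so positive dimension is required at the level of ideals.) -/
theorem result (K : Type u) [Field K] [IsAlgClosed K]
    (d n : ℕ) (hd : 0 < d) (hdn : d < n) (τ : Idx d n) (hτ : ∃ φ : Idx d n, φ < τ) :
    schubertVanishing K d n τ ⊔ Ideal.span {MvPolynomial.X τ} =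
      ⨅ φ ∈ divisors τ, schubertVanishing K d n φ := by
  open Groth.Agent.Lib.PlSMT in
  classical
  have hle : schubertVanishing K d n τ ⊔ Ideal.span {MvPolynomial.X τ} ≤
      ⨅ φ ∈ divisors τ, schubertVanishing K d n φ := by
    apply sup_le
    · exact le_iInf fun φ => le_iInf fun hφ => schubertVanishing_mono K hφ.1.le
    · rw [Ideal.span_le, Set.singleton_subset_iff]
      show MvPolynomial.X τ ∈ ⨅ φ ∈ divisors τ, schubertVanishing K d n φ
      rw [Ideal.mem_iInf]
      intro φ
      rw [Ideal.mem_iInf]
      intro hφ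
      exact X_mem_schubertVanishing K (fun h => (lt_iff_le_not_ge.1 hφ.1).2 h)
  apply le_antisymm hle
  intro f hf
  set I : Ideal (PlRing K d n) := schubertVanishing K d n τ ⊔ Ideal.span {MvPolynomial.X τ} with hI
  have hIle : plIdealTop (d := d) (n := n) K ≤ I :=
    le_trans (plIdealTop_le_schubertVanishing K τ) le_sup_left
  have hQ : ∀ θ : Idx d n, ¬ θ < τ → MvPolynomial.X θ ∈ I := by
    intro θ hθ
    by_cases h : θ ≤ τ
    · have : θ = τ := eq_of_le_of_not_lt h hθ
      rw [this]
      exact Ideal.mem_sup_right (Ideal.subset_span rfl)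
    · exact Ideal.mem_sup_left (X_mem_schubertVanishing K h)
  obtain ⟨F, hF, hfF⟩ := exists_std_rep K I hIle (· < τ) hQ f
  have hFmem : F ∈ ⨅ φ ∈ divisors τ, schubertVanishing K d n φ := by
    have : F = f - (f - F) := by ring
    rw [this]
    exact Ideal.sub_mem _ hf (hle hfF)
  have hF0 : F = 0 := by
    by_contra hne
    obtain ⟨e, he⟩ := MvPolynomial.support_nonempty.2 hne
    have hdiv : ∃ φ ∈ divisors τ, ∀ θ ∈ e.support, θ ≤ φ := by
      by_cases he0 : e = 0
      · obtain ⟨φ₀, hφ₀⟩ := hτ
        obtain ⟨φ, hφ, -⟩ := Groth.Agent.S11268.result d n φ₀ τ hφ₀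
        refine ⟨φ, hφ, fun θ hθ => ?_⟩
        rw [he0] at hθ
        simp at hθ
      · obtain ⟨m, hm, hmtop⟩ := exists_top (hF e he).1 he0
        obtain ⟨φ, hφ, hmφ⟩ := Groth.Agent.S11268.result d n m τ ((hF e he).2 m hm)
        exact ⟨φ, hφ, fun θ hθ => le_trans (hmtop θ hθ) hmφ⟩
    obtain ⟨φ, hφ, hall⟩ := hdiv
    have hFφ : F ∈ schubertVanishing K d n φ := by
      rw [Ideal.mem_iInf] at hFmem
      have := hFmem φ
      rw [Ideal.mem_iInf] at this
      exact this hφ
    have := coeff_eq_zero_of_mem_schubert K hd φ F hFφ (fun e he => (hF e he).1) e hall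
    exact (MvPolynomial.mem_support_iff.1 he) this
  rw [hF0, sub_zero] at hfF
  exact hfF

end Groth.Agent.S11254
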