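import Groth.Statements.S11259
import Groth.Agent.Lib.SchubertPrime
import Groth.Agent.Lib.NormalAway

set_option autoImplicit false
universe u
open W4bk4grassmannian

namespace Groth.Agent.S11259

open W4bk4grassmannian in
/-- Let K be an algebraically closed field, 0 < d < n, and I(d,n) the strictly increasing maps Fin d →
Fin n ordered entrywise; S = K[X_θ : θ ∈ I(d,n)] is the Plücker polynomial ring and, for τ ∈ I(d,n),
J(τ) ⊆ S is the ideal of polynomials vanishing at the d × d row-minors of every n × d matrix over K
whose minors on rows φ ≰ τ are zero (the homogeneous ideal of the Schubert variety X(τ) ⊆ G(d,n)).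
Then S/J(τ), the coordinate ring of the cone over X(τ), is a domain that is integrally closed in its
field of fractions. -/
theorem result (K : Type u) [Field K] [IsAlgClosed K] (d n : ℕ)
    (hd : 0 < d) (hdn : d < n) (τ : Idx d n) :
    IsDomain (PlRing K d n ⧸ schubertVanishing K d n τ) ∧
      IsIntegrallyClosed (PlRing K d n ⧸ schubertVanishing K d n τ) := by
  open Groth.Agent.Lib.PlSMT Groth.Agent.Lib.SchubertCell in
  classical
  have hdom : IsDomain (PlRing K d n ⧸ schubertVanishing K d n τ) := isDomain_schB K hd τ
  refine ⟨hdom, ?_⟩
  let L := Localization.Away (MvPolynomial.X none : CellP K τ)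
  let _ : Algebra (PlRing K d n ⧸ schubertVanishing K d n τ) L := (cellMap K τ hd).toAlgebra
  have hloc : IsLocalization.Away
      (Ideal.Quotient.mk (schubertVanishing K d n τ) (MvPolynomial.X τ)) L :=
    isLocalization_cell K τ hd
  have hdomL : IsDomain L :=
    IsLocalization.isDomain_localization
      (powers_le_nonZeroDivisors_of_noZeroDivisors (MvPolynomial.X_ne_zero _))
  have hic : IsIntegrallyClosed L := inferInstance
  exact Groth.Agent.Lib.NormalAway.isIntegrallyClosed_of_away
    (Ideal.Quotient.mk (schubertVanishing K d n τ) (MvPolynomial.X τ))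
    (mk_X_self_ne_zero K τ) (isRadical_span_mk_X K τ hd hdn) L

end Groth.Agent.S11259
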