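import Groth.Statements.S0305
import Groth.Agent.Lib.InjHull

set_option autoImplicit false
universe u v
open InjHull

namespace Groth.Agent.S0305

/-- Let R be a commutative ring, p a prime ideal, and E an injective hull of R/p. Then E is
indecomposable, and E is also an injective hull of the residue field κ(p). -/
theorem result (R : Type u) [CommRing R] (p : Ideal R) [p.IsPrime] (E : Type u) [AddCommGroup E] [Module R E] (f : (R ⧸ p) →ₗ[R] E) (hf : InjHull.IsInjectiveHull f) : InjHull.IsIndecomposable R E ∧ ∃ g : p.ResidueField →ₗ[R] E, InjHull.IsInjectiveHull g := by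
  have hess := (Lib.InjHull.ess_iff (LinearMap.range f)).mp hf.essential
  refine ⟨⟨?_, ?_⟩, ?_⟩
  · exact hf.injective.nontrivial
  · intro N N' hNN'
    by_contra hcon
    push Not at hcon
    obtain ⟨hN, hN'⟩ := hcon
    obtain ⟨x, hxN, hx0⟩ := (Submodule.ne_bot_iff N).mp hN
    obtain ⟨y, hyN', hy0⟩ := (Submodule.ne_bot_iff N').mp hN'
    obtain ⟨r, hr0, ⟨a, ha⟩⟩ := hess x hx0
    obtain ⟨s, hs0, ⟨b, hb⟩⟩ := hess y hy0
    obtain ⟨a', rfl⟩ := Ideal.Quotient.mk_surjective a
    obtain ⟨b', rfl⟩ := Ideal.Quotient.mk_surjective b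
    have hfa : f (Ideal.Quotient.mk p a') ∈ N := ha ▸ N.smul_mem r hxN
    have hfb : f (Ideal.Quotient.mk p b') ∈ N' := hb ▸ N'.smul_mem s hyN'
    have hz1 : f (Ideal.Quotient.mk p (b' * a')) ∈ N := by
      have : Ideal.Quotient.mk p (b' * a') = b' • Ideal.Quotient.mk p a' := by
        rw [map_mul]; rfl
      rw [this, map_smul]
      exact N.smul_mem b' hfa
    have hz2 : f (Ideal.Quotient.mk p (b' * a')) ∈ N' := by
      have : Ideal.Quotient.mk p (b' * a') = a' • Ideal.Quotient.mk p b' := by
        rw [mul_comm, map_mul]; rfl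
      rw [this, map_smul]
      exact N'.smul_mem a' hfb
    have hz : f (Ideal.Quotient.mk p (b' * a')) ∈ N ⊓ N' := ⟨hz1, hz2⟩
    rw [hNN'.inf_eq_bot, Submodule.mem_bot] at hz
    have hmem : b' * a' ∈ p :=
      Ideal.Quotient.eq_zero_iff_mem.mp (hf.injective (hz.trans (map_zero f).symm))
    rcases Ideal.IsPrime.mem_or_mem ‹p.IsPrime› hmem with h | h
    · apply hs0
      rw [← hb, Ideal.Quotient.eq_zero_iff_mem.mpr h, map_zero]
    · apply hr0
      rw [← ha, Ideal.Quotient.eq_zero_iff_mem.mpr h, map_zero]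
  · let ι : (R ⧸ p) →ₗ[R] p.ResidueField :=
      (IsScalarTower.toAlgHom R (R ⧸ p) p.ResidueField).toLinearMap
    have hιinj : Function.Injective ι := Ideal.injective_algebraMap_quotient_residueField p
    have hι : InjHull.IsEssentialInj ι := by
      refine ⟨hιinj, ?_⟩
      rw [Lib.InjHull.ess_iff]
      intro x hx
      obtain ⟨a, s, hs, rfl⟩ := IsFractionRing.div_surjective (A := R ⧸ p) x
      obtain ⟨s', rfl⟩ := Ideal.Quotient.mk_surjective s
      have hs0 : algebraMap (R ⧸ p) p.ResidueField (Ideal.Quotient.mk p s') ≠ 0 :=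
        IsFractionRing.to_map_ne_zero_of_mem_nonZeroDivisors hs
      have key : s' • (algebraMap (R ⧸ p) p.ResidueField a /
          algebraMap (R ⧸ p) p.ResidueField (Ideal.Quotient.mk p s')) =
          algebraMap (R ⧸ p) p.ResidueField a := by
        rw [Algebra.smul_def, IsScalarTower.algebraMap_apply R (R ⧸ p) p.ResidueField]
        change algebraMap (R ⧸ p) p.ResidueField (Ideal.Quotient.mk p s') * _ = _
        field_simp
      refine ⟨s', ?_, ?_⟩
      · rw [key]
        intro h0
        apply hx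
        rw [h0, zero_div]
      · rw [key]
        exact ⟨a, rfl⟩
    obtain ⟨g, -, hg⟩ := Lib.InjHull.hull_of_essential_extension hf ι hι
    exact ⟨g, hg⟩

end Groth.Agent.S0305
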