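import Groth.Statements.S0302
import Groth.Agent.Lib.InjHull

set_option autoImplicit false
universe u v
open InjHull

namespace Groth.Agent.S0302

/-- Two injective hulls of the same module are isomorphic by an isomorphism compatible with the two
embeddings. -/
theorem result (R : Type u) [CommRing R] (M : Type u) [AddCommGroup M] [Module R M] (E : Type u) [AddCommGroup E] [Module R E] (E' : Type u) [AddCommGroup E'] [Module R E'] (f : M →ₗ[R] E) (hf : InjHull.IsInjectiveHull f) (g : M →ₗ[R] E') (hg : InjHull.IsInjectiveHull g) : ∃ e : E ≃ₗ[R] E', e.toLinearMap ∘ₗ f = g := by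
  obtain ⟨α, hα⟩ := Lib.InjHull.extend hg.isInjective f hf.injective g
  have hαinj : Function.Injective α :=
    Lib.InjHull.injective_of_comp_essential hf.toIsEssentialInj α (hα ▸ hg.injective)
  obtain ⟨C, hC⟩ := Lib.InjHull.exists_isCompl_range hf.isInjective α hαinj
  have hCbot : C = ⊥ := by
    by_contra hne
    apply hg.essential C hne
    rw [eq_bot_iff]
    rintro x ⟨hxC, ⟨m, rfl⟩⟩
    have hx : g m ∈ LinearMap.range α := ⟨f m, by rw [← hα]; rfl⟩
    have : g m ∈ LinearMap.range α ⊓ C := ⟨hx, hxC⟩
    rw [hC.inf_eq_bot] at this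
    exact this
  have hsurj : Function.Surjective α := by
    rw [← LinearMap.range_eq_top]
    have := hC.sup_eq_top
    rwa [hCbot, sup_bot_eq] at this
  exact ⟨LinearEquiv.ofBijective α ⟨hαinj, hsurj⟩, by ext x; rw [← hα]; rfl⟩

end Groth.Agent.S0302
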