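import Groth.Statements.S6965
import Groth.Agent.Lib.DInjBaer
import Groth.Agent.Lib.ProjResolution
import Mathlib.Algebra.Category.ModuleCat.EnoughInjectives

set_option autoImplicit false
universe u
open CategoryTheory CategoryTheory.Limits
attribute [local instance] HasDerivedCategory.standard
open DRing

namespace Groth.Agent.S6965

open Groth.Agent.Lib.DInjHom Groth.Agent.Lib.DInjGE Groth.Agent.Lib.DInjBaer
  Groth.Agent.Lib.DInjTrunc

/-- (1) ⇒ (2) -/
theorem hom_eq_zero_of_rep (R : Type u) [CommRing R] (K : Dual.D R) (a b : ℤ)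
    (h : DRing.HasInjAmplitudeIn R a b K) (N : Type u) [AddCommGroup N] [Module R N] (i : ℤ)
    (hi : i < a ∨ b < i) (φ : Dual.inD R N ⟶ K⟦i⟧) : φ = 0 := by
  obtain ⟨E, hE, hinj, ⟨e⟩⟩ := h
  have : E.IsStrictlyGE a := by
    rw [CochainComplex.isStrictlyGE_iff]
    exact fun j hj => hE j (Or.inl hj)
  have hI : ∀ j, Injective (E.X j) := fun j =>
    have := hinj j
    Module.injective_object_of_injective_module R (E.X j)
  exact hom_vanishing_of_injective_amplitude E a b hI hE K e (ModuleCat.of R N) i hi φ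

/-- (3) ⇒ (1) -/
theorem rep_of_cyclic (R : Type u) [CommRing R] (K : Dual.D R) (a b : ℤ)
    (h : ∀ (I : Ideal R) (i : ℤ), (i < a ∨ b < i) →
      Subsingleton (DRing.ExtD R (Dual.inD R (R ⧸ I)) K i)) :
    DRing.HasInjAmplitudeIn R a b K := by
  -- reformulation of the hypothesis
  have h' : ∀ (J : Ideal R) (i : ℤ), (i < a ∨ b < i) →
      ∀ ψ : (DerivedCategory.singleFunctor (ModuleCat.{u} R) i).obj (ModuleCat.of R (R ⧸ J)) ⟶ K,
        ψ = 0 := by
    intro J i hi
    rw [← hom_single_shift_iff]
    intro φ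
    exact (h J i hi).elim φ 0
  -- lower bound
  have hge : DerivedCategory.IsGE K a := by
    rw [DerivedCategory.isGE_iff]
    intro i hi
    let L := DerivedCategory.Q.objPreimage K
    let e : DerivedCategory.Q.obj L ≅ K := DerivedCategory.Q.objObjPreimageIso K
    have hL := isZero_homology_of_cyclic L i (fun y hy => by
      have h1 := h' ⊥ i (Or.inl hi) (DerivedCategory.Q.map (fromSingle L i y hy) ≫ e.hom)
      rw [← cancel_mono e.hom, zero_comp]
      exact h1)
    exact hL.of_iso ((DerivedCategory.homologyFunctor _ i).mapIso e.symm ≪≫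
      (DerivedCategory.homologyFunctorFactors _ i).app L)
  -- injective resolution
  obtain ⟨L, hL, ⟨e₀⟩⟩ := DerivedCategory.exists_iso_Q_obj_of_isGE K a
  obtain ⟨I, j, hj, hI, hIa⟩ :=
    CochainComplex.Plus.modelCategoryQuillen.exists_quasiIso_injective L a
  have hjiso : IsIso (DerivedCategory.Q.map j) := by
    rw [DerivedCategory.isIso_Q_map_iff_quasiIso]
    exact hj
  let e : DerivedCategory.Q.obj I ≅ K := (asIso (DerivedCategory.Q.map j)).symm ≪≫ e₀.symm
  have hkinj : I.IsKInjective := CochainComplex.isKInjective_of_injective I a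
  have hI' : ∀ (J : Ideal R) (i : ℤ), (i < a ∨ b < i) →
      ∀ ψ : (DerivedCategory.singleFunctor (ModuleCat.{u} R) i).obj (ModuleCat.of R (R ⧸ J)) ⟶
        DerivedCategory.Q.obj I, ψ = 0 := by
    intro J i hi ψ
    have h1 := h' J i hi (ψ ≫ e.hom)
    rw [← cancel_mono e.hom, zero_comp]
    exact h1
  have hfac : ∀ (J : Ideal R) (i₀ i i₁ : ℤ) (_ : i₀ + 1 = i) (_ : i + 1 = i₁), b < i →
      ∀ (y : ModuleCat.of R (R ⧸ J) ⟶ I.X i), y ≫ I.d i i₁ = 0 →
        ∃ s : ModuleCat.of R (R ⧸ J) ⟶ I.X i₀, s ≫ I.d i₀ i = y := by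
    intro J i₀ i i₁ h0 h1 hi y hy
    exact exists_factor' I i₀ i i₁ h0 h1 y hy (hI' J i (Or.inr hi))
  have hex : ∀ i : ℤ, b < i → I.ExactAt i := by
    intro i hi
    exact exactAt_of_cyclic_factor I (i - 1) i (i + 1) (by lia) rfl
      (hfac ⊥ (i - 1) i (i + 1) (by lia) rfl hi)
  have hIb : Module.Injective R (I.X b) := Module.injective_module_of_injective_object R (I.X b)
  have hZ : Module.Injective R (I.cycles b) :=
    injective_cycles_of_baer I b (b + 1) (b + 1 + 1) rfl
      (fun J => hfac J b (b + 1) (b + 1 + 1) rfl rfl (by lia))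
  have hZ' : Injective (I.cycles b) := Module.injective_object_of_injective_module R (I.cycles b)
  obtain ⟨h1, h2, h3, h4⟩ := truncLE_props I a b hex
  have hιiso : IsIso (DerivedCategory.Q.map (I.ιTruncLE b)) := by
    rw [DerivedCategory.isIso_Q_map_iff_quasiIso]
    exact h4
  refine ⟨I.truncLE b, ?_, fun i => ?_, ⟨asIso (DerivedCategory.Q.map (I.ιTruncLE b)) ≪≫ e⟩⟩
  · rintro i (hi | hi)
    · exact (I.truncLE b).isZero_of_isStrictlyGE a i hi
    · exact (I.truncLE b).isZero_of_isStrictlyLE b i hi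
  · have := h3 i
    exact Module.injective_module_of_injective_object R ((I.truncLE b).X i)

/-- Let R be a commutative ring, K an object of D(R) and a, b integers. These three conditions are
equivalent: (1) the injective amplitude of K lies in [a, b], meaning K is isomorphic in D(R) to a
complex of injective R-modules vanishing outside [a, b]; (2) Hom(N[0], K[i]) = 0 in D(R) for every
R-module N and every integer i outside [a, b]; (3) Hom((R/I)[0], K[i]) = 0 in D(R) for every ideal I
of R and every integer i outside [a, b]. -/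
theorem result (R : Type u) [CommRing R] (K : Dual.D R) (a b : ℤ) :
    [DRing.HasInjAmplitudeIn R a b K,
      ∀ (N : Type u) [AddCommGroup N] [Module R N] (i : ℤ), (i < a ∨ b < i) →
        Subsingleton (DRing.ExtD R (Dual.inD R N) K i),
      ∀ (I : Ideal R) (i : ℤ), (i < a ∨ b < i) → Subsingleton (DRing.ExtD R (Dual.inD R (R ⧸ I)) K i)].TFAE := by
  tfae_have 1 → 2 := by
    intro h N _ _ i hi
    exact ⟨fun f g => by
      rw [hom_eq_zero_of_rep R K a b h N i hi f, hom_eq_zero_of_rep R K a b h N i hi g]⟩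
  tfae_have 2 → 3 := by
    intro h I i hi
    exact h (R ⧸ I) i hi
  tfae_have 3 → 1 := by
    intro h
    exact rep_of_cyclic R K a b h
  tfae_finish

end Groth.Agent.S6965
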