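import Groth.Statements.S4450
import Groth.Agent.Lib.DvrDominating
import Mathlib.AlgebraicGeometry.ValuativeCriterion
import Mathlib.RingTheory.RingHom.EssFiniteType

set_option autoImplicit false
universe u
open CategoryTheory CategoryTheory.Limits AlgebraicGeometry
open EGA2

namespace Groth.Agent.S4450

/-- Let Y be a locally Noetherian scheme, p : X ⟶ Y a morphism locally of finite type, x a point of X, y
= p(x) and y' a specialization of y distinct from y. Then there are a discrete valuation ring A with
field of fractions the residue field k(x) and a morphism Spec A ⟶ Y mapping the closed point to y'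
and restricting on Spec k(x) to the canonical morphism Spec k(x) ⟶ X ⟶ Y (so the generic point goes
to y, and the rational map from Spec A to X so defined induces the identity of k(x)). -/
theorem result {X Y : Scheme.{u}} [IsLocallyNoetherian Y]
    (p : X ⟶ Y) [LocallyOfFiniteType p] (x : X) (y' : Y) (hsp : p.base x ⤳ y') (hne : y' ≠ p.base x) :
    ∃ (A : ValuationSubring (X.residueField x)) (h : Spec (CommRingCat.of A) ⟶ Y), IsDiscreteValuationRing A ∧
      h.base (IsLocalRing.closedPoint A) = y' ∧
      Spec.map (CommRingCat.ofHom A.subtype) ≫ h = X.fromSpecResidueField x ≫ p := by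
  -- the specialization map on stalks is not local, since `y' ≠ p x`
  have hnotlocal : ¬ IsLocalHom (Y.presheaf.stalkSpecializes hsp).hom := by
    intro hloc
    apply hne
    have h1 : Spec.map (Y.presheaf.stalkSpecializes hsp) ≫ Y.fromSpecStalk y' =
        Y.fromSpecStalk (p.base x) := Scheme.SpecMap_stalkSpecializes_fromSpecStalk hsp
    have h2 : Spec.map (Y.presheaf.stalkSpecializes hsp)
        (IsLocalRing.closedPoint (Y.presheaf.stalk (p.base x))) =
        IsLocalRing.closedPoint (Y.presheaf.stalk y') :=
      IsLocalRing.comap_closedPoint (Y.presheaf.stalkSpecializes hsp).hom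
    have h3 := congrArg (fun g => g.base (IsLocalRing.closedPoint (Y.presheaf.stalk (p.base x)))) h1
    simp only [Scheme.Hom.comp_base, TopCat.coe_comp, Function.comp_apply] at h3
    rw [h2, Y.fromSpecStalk_closedPoint, Y.fromSpecStalk_closedPoint] at h3
    exact h3
  obtain ⟨t, ht_unit, ht_nonunit⟩ : ∃ t : Y.presheaf.stalk y',
      IsUnit ((Y.presheaf.stalkSpecializes hsp).hom t) ∧ ¬ IsUnit t := by
    by_contra hcon
    push Not at hcon
    exact hnotlocal ⟨fun a ha => hcon a ha⟩
  let φ : Y.presheaf.stalk y' ⟶ X.residueField x :=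
    Y.presheaf.stalkSpecializes hsp ≫ p.stalkMap x ≫ X.residue x
  -- `φ` is essentially of finite type
  have hφ : φ.hom.EssFiniteType := by
    have h1 : (Y.presheaf.stalkSpecializes hsp).hom.EssFiniteType := by
      obtain ⟨_, ⟨U, hU, rfl⟩, hyU, -⟩ :=
        Y.isBasis_affineOpens.exists_subset_of_mem_open (Set.mem_univ y') isOpen_univ
      have hxU : p.base x ∈ U := hsp.mem_open U.2 hyU
      refine RingHom.EssFiniteType.of_comp (Y.presheaf.germ U y' hyU).hom ?_
      have hcomp : (Y.presheaf.stalkSpecializes hsp).hom.comp (Y.presheaf.germ U y' hyU).hom =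
          (Y.presheaf.germ U (p.base x) hxU).hom := by
        rw [← CommRingCat.hom_comp, TopCat.Presheaf.germ_stalkSpecializes]
      rw [hcomp]
      let _ := Y.presheaf.algebra_section_stalk ⟨p.base x, hxU⟩
      have hloc := hU.isLocalization_stalk ⟨p.base x, hxU⟩
      exact Algebra.EssFiniteType.of_isLocalization _ (hU.primeIdealOf ⟨p.base x, hxU⟩).asIdeal.primeCompl
    have h2 : (p.stalkMap x).hom.EssFiniteType := LocallyOfFiniteType.stalkMap p x
    have h3 : (X.residue x).hom.EssFiniteType :=
      (RingHom.FiniteType.of_surjective _ (X.residue_surjective x)).essFiniteType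
    exact (h1.comp h2).comp h3
  let _ : Algebra (Y.presheaf.stalk y') (X.residueField x) := φ.hom.toAlgebra
  have hess : Algebra.EssFiniteType (Y.presheaf.stalk y') (X.residueField x) := hφ
  have hφt_unit : IsUnit (φ.hom t) := by
    have : φ.hom t = (p.stalkMap x ≫ X.residue x).hom ((Y.presheaf.stalkSpecializes hsp).hom t) :=
      rfl
    rw [this]
    exact ht_unit.map _
  have hR : ∃ t ∈ IsLocalRing.maximalIdeal (Y.presheaf.stalk y'),
      algebraMap (Y.presheaf.stalk y') (X.residueField x) t ≠ 0 :=
    ⟨t, (IsLocalRing.mem_maximalIdeal t).mpr ht_nonunit, hφt_unit.ne_zero⟩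
  obtain ⟨A, hAdvr, hA, hA_local⟩ := Groth.Agent.Lib.DvrDominating.exists_dvr_dominating
    (Y.presheaf.stalk y') (X.residueField x) hR
  let ψ : Y.presheaf.stalk y' ⟶ CommRingCat.of A :=
    CommRingCat.ofHom (φ.hom.codRestrict _ hA)
  have w : X.fromSpecResidueField x ≫ p =
      Spec.map (CommRingCat.ofHom (algebraMap A (X.residueField x))) ≫
        Spec.map ψ ≫ Y.fromSpecStalk y' := by
    rw [Scheme.fromSpecResidueField, Category.assoc, ← Scheme.SpecMap_stalkMap_fromSpecStalk,
      ← Scheme.SpecMap_stalkSpecializes_fromSpecStalk hsp]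
    simp_rw [← Spec.map_comp_assoc]
    rfl
  refine ⟨A, Spec.map ψ ≫ Y.fromSpecStalk y', hAdvr, ?_, ?_⟩
  · -- the closed point goes to `y'`
    simp only [Scheme.Hom.comp_base, TopCat.coe_comp, Function.comp_apply]
    have : Spec.map ψ (IsLocalRing.closedPoint A) =
        IsLocalRing.closedPoint (Y.presheaf.stalk y') :=
      @IsLocalRing.comap_closedPoint _ _ _ _ _ _ (φ.hom.codRestrict A.toSubring hA) hA_local
    rw [this, Y.fromSpecStalk_closedPoint]
  · exact w.symm

end Groth.Agent.S4450
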