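import Mathlib
import Groth.Statements.S9235

set_option autoImplicit false
universe u
open Brnch

namespace Groth.Agent.S9235

section Helpers

/-- an element avoiding all minimal primes of a reduced ring is a non-zero-divisor -/
theorem mem_nonZeroDivisors_of_avoid {R : Type u} [CommRing R] [IsReduced R] (s : R)
    (hs : ∀ q ∈ minimalPrimes R, s ∉ q) : s ∈ nonZeroDivisors R := by
  rw [mem_nonZeroDivisors_iff_right]
  intro x hx
  have hx' : x ∈ nilradical R := by
    rw [nilradical, ← Ideal.sInf_minimalPrimes, Ideal.mem_sInf]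
    intro q hq
    have hq' : q.IsPrime := hq.1.1
    have : x * s ∈ q := by rw [hx]; exact q.zero_mem
    exact (hq'.mem_or_mem this).resolve_right (hs q hq)
  rw [nilradical_eq_zero] at hx'
  exact hx'

theorem subsingleton_minimalPrimes {R : Type u} [CommRing R] [IsReduced R]
    (hfin : (minimalPrimes R).Finite)
    [IsLocalRing (integralClosure R (FractionRing R))] :
    ∀ p₁ ∈ minimalPrimes R, ∀ p₂ ∈ minimalPrimes R, p₁ = p₂ := by
  classical
  intro p₁ hp₁ p₂ hp₂
  by_contra hne
  have hp₁' : p₁.IsPrime := hp₁.1.1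
  set P := hfin.toFinset with hP
  have hPmem : ∀ q, q ∈ P ↔ q ∈ minimalPrimes R := fun q => hfin.mem_toFinset
  set P' := P.erase p₁ with hP'
  have hP'mem : ∀ q, q ∈ P' ↔ q ∈ minimalPrimes R ∧ q ≠ p₁ := by
    intro q; rw [hP', Finset.mem_erase, hPmem]; tauto
  have hmin : ∀ q ∈ minimalPrimes R, ∀ q' ∈ minimalPrimes R, q ≤ q' → q = q' := by
    intro q hq q' hq' hle
    exact le_antisymm hle (hq'.2 hq.1 hle)
  -- a ∈ ⋂_{q ≠ p₁} q, a ∉ p₁
  obtain ⟨a, haI, hap⟩ : ∃ a, a ∈ P'.inf id ∧ a ∉ p₁ := by
    by_contra hcon
    push Not at hcon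
    have hle : P'.inf id ≤ p₁ := fun a ha => hcon a ha
    obtain ⟨q, hq, hqle⟩ := hp₁'.inf_le'.mp hle
    obtain ⟨hq1, hq2⟩ := (hP'mem q).mp hq
    exact hq2 (hmin q hq1 p₁ hp₁ hqle)
  have haq : ∀ q ∈ minimalPrimes R, q ≠ p₁ → a ∈ q := by
    intro q hq hqne
    have : P'.inf id ≤ q := Finset.inf_le (f := id) ((hP'mem q).mpr ⟨hq, hqne⟩)
    exact this haI
  -- b ∈ p₁ avoiding all other minimal primes
  obtain ⟨b, hbp, hbq⟩ : ∃ b, b ∈ p₁ ∧ ∀ q ∈ minimalPrimes R, q ≠ p₁ → b ∉ q := by
    by_contra hcon
    push Not at hcon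
    have hsub : ((p₁ : Ideal R) : Set R) ⊆ ⋃ q ∈ (↑P' : Set (Ideal R)), (id q : Ideal R) := by
      intro b hb
      obtain ⟨q, hq, hqne, hbq⟩ := hcon b hb
      simp only [Set.mem_iUnion]
      exact ⟨q, (hP'mem q).mpr ⟨hq, hqne⟩, hbq⟩
    obtain ⟨q, hq, hle⟩ := (Ideal.subset_union_prime (s := P') (f := id) p₁ p₁
      (fun q hq _ _ => ((hP'mem q).mp hq).1.1.1)).mp hsub
    obtain ⟨hq1, hq2⟩ := (hP'mem q).mp hq
    exact hq2 (hmin p₁ hp₁ q hq1 hle).symm
  -- a * b = 0
  have hab : a * b = 0 := by
    have : a * b ∈ nilradical R := by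
      rw [nilradical, ← Ideal.sInf_minimalPrimes, Ideal.mem_sInf]
      intro q hq
      by_cases hq1 : q = p₁
      · rw [hq1]; exact p₁.mul_mem_left _ hbp
      · exact q.mul_mem_right _ (haq q hq hq1)
    rwa [nilradical_eq_zero] at this
  -- s = a + b is a nonzerodivisor
  have hs : a + b ∈ nonZeroDivisors R := by
    apply mem_nonZeroDivisors_of_avoid
    intro q hq hmem
    by_cases hq1 : q = p₁
    · rw [hq1] at hmem
      exact hap ((Ideal.add_mem_iff_left p₁ hbp).mp hmem)
    · exact hbq q hq hq1 ((Ideal.add_mem_iff_right q (haq q hq hq1)).mp hmem)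
  have has : a * (a + b) = a * a := by rw [mul_add, hab, add_zero]
  -- the idempotent
  set e : FractionRing R := IsLocalization.mk' (FractionRing R) a ⟨a + b, hs⟩ with he
  have hee : e * e = e := by
    rw [he, ← IsLocalization.mk'_mul, IsLocalization.mk'_eq_iff_eq]
    congr 1
    simp only [Submonoid.coe_mul]
    linear_combination (-(a + b)) * has
  have hint : IsIntegral R e := by
    refine ⟨Polynomial.X * (Polynomial.X - Polynomial.C 1), ?_, ?_⟩
    · exact Polynomial.monic_X.mul (Polynomial.monic_X_sub_C 1)
    · simp [mul_sub, hee]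
  let e' : integralClosure R (FractionRing R) := ⟨e, hint⟩
  have he'e' : e' * (1 - e') = 0 := by
    apply Subtype.ext
    simp only [e', MulMemClass.coe_mul, AddSubgroupClass.coe_sub, OneMemClass.coe_one,
      ZeroMemClass.coe_zero]
    rw [mul_sub, mul_one, hee, sub_self]
  have hinj : Function.Injective (algebraMap R (FractionRing R)) :=
    IsLocalization.injective (FractionRing R) (le_refl _)
  rcases IsLocalRing.isUnit_or_isUnit_one_sub_self e' with hu | hu
  · -- 1 - e' = 0, so e = 1, so a = a + b, b = 0
    have h1 : 1 - e' = 0 := (hu.mul_right_eq_zero).mp he'e'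
    have h2 : e = 1 := by
      have := congrArg Subtype.val h1
      simp only [e', AddSubgroupClass.coe_sub, OneMemClass.coe_one, ZeroMemClass.coe_zero] at this
      exact (sub_eq_zero.mp this).symm
    rw [he, IsLocalization.mk'_eq_iff_eq_mul, one_mul] at h2
    have h3 : a = a + b := hinj h2
    have hb0 : b = 0 := by linear_combination -h3
    exact hbq p₂ hp₂ (Ne.symm hne) (hb0 ▸ p₂.zero_mem)
  · -- e' = 0, so a = 0
    have h1 : e' = 0 := (hu.mul_left_eq_zero).mp he'e'
    have h2 : e = 0 := congrArg Subtype.val h1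
    rw [he, IsLocalization.mk'_eq_zero_iff] at h2
    obtain ⟨m, hm⟩ := h2
    have ha0 : a = 0 := by
      have := m.2
      rw [mem_nonZeroDivisors_iff] at this
      exact this.1 a hm
    exact hap (ha0 ▸ p₁.zero_mem)

end Helpers

/-- A local ring A has exactly one branch if and only if it is unibranch. Here the number of branches is
computed as the number of maximal ideals of the integral closure of A_red in its total ring of
fractions (infinity when A has infinitely many minimal primes). -/
theorem result (A : Type u) [CommRing A] [IsLocalRing A] :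
    Brnch.numBranches A = 1 ↔ CAlg2.IsUnibranch A := by
  classical
  have hminA : minimalPrimes A = (nilradical A).minimalPrimes := by
    rw [nilradical, Ideal.radical_minimalPrimes]; rfl
  constructor
  · intro h
    unfold Brnch.numBranches at h
    split_ifs at h with hfin
    swap
    · exact absurd h (by simp)
    obtain ⟨hU⟩ := ENat.card_eq_one_iff_unique.mp h
    have hloc : IsLocalRing (CAlg2.normRed A) := by
      apply IsLocalRing.of_unique_max_ideal
      refine ⟨hU.default.asIdeal, hU.default.isMaximal, fun I hI => ?_⟩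
      have := hU.uniq ⟨I, hI⟩
      exact congrArg MaximalSpectrum.asIdeal this
    refine ⟨?_, hloc⟩
    -- reducedness and finiteness for red A
    have hred : IsReduced (CAlg2.red A) :=
      (Ideal.isRadical_iff_quotient_reduced (nilradical A)).mp (Ideal.radical_isRadical ⊥)
    set f : A →+* CAlg2.red A := Ideal.Quotient.mk (nilradical A) with hf
    have hfsurj : Function.Surjective f := Ideal.Quotient.mk_surjective
    have himage : (nilradical A).minimalPrimes =
        Ideal.comap f '' (minimalPrimes (CAlg2.red A)) := by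
      have := Ideal.comap_minimalPrimes_eq_of_surjective hfsurj (⊥ : Ideal (CAlg2.red A))
      rw [← RingHom.ker_eq_comap_bot, hf, Ideal.mk_ker] at this
      exact this
    have hfinR : (minimalPrimes (CAlg2.red A)).Finite := by
      apply Set.Finite.of_finite_image (f := Ideal.comap f)
      · rw [← himage, ← hminA]; exact hfin
      · exact (Ideal.comap_injective_of_surjective f hfsurj).injOn
    have hsub := subsingleton_minimalPrimes hfinR
    have hnt : Nontrivial (CAlg2.red A) := by
      apply Ideal.Quotient.nontrivial_iff.mpr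
      intro htop
      have h1 : (1 : A) ∈ nilradical A := htop ▸ Submodule.mem_top
      rw [mem_nilradical] at h1
      obtain ⟨n, hn⟩ := h1
      rw [one_pow] at hn
      exact one_ne_zero hn
    obtain ⟨p, hp⟩ := Ideal.nonempty_minimalPrimes (I := (⊥ : Ideal (CAlg2.red A)))
      bot_ne_top
    have hsingle : minimalPrimes (CAlg2.red A) = {p} := by
      ext q
      constructor
      · intro hq; exact hsub q hq p hp
      · rintro rfl; exact hp
    have hpbot : p = ⊥ := by
      have h1 : sInf (minimalPrimes (CAlg2.red A)) = nilradical (CAlg2.red A) :=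
        Ideal.sInf_minimalPrimes
      rw [hsingle, sInf_singleton] at h1
      rw [h1]
      exact nilradical_eq_zero _
    have hprime : (nilradical A).IsPrime := by
      have h1 : nilradical A = Ideal.comap f p := by
        rw [hpbot, ← RingHom.ker_eq_comap_bot, hf, Ideal.mk_ker]
      rw [h1]
      have : p.IsPrime := hp.1.1
      exact Ideal.comap_isPrime f p
    exact Ideal.Quotient.isDomain (nilradical A)
  · rintro ⟨hdom, hloc⟩
    have hprime : (nilradical A).IsPrime := (Ideal.Quotient.isDomain_iff_prime _).mp hdom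
    have hfin : (minimalPrimes A).Finite := by
      rw [hminA, Ideal.minimalPrimes_eq_subsingleton_self]
      exact Set.finite_singleton _
    unfold Brnch.numBranches
    rw [if_pos hfin, ENat.card_eq_one_iff_unique]
    refine ⟨⟨⟨⟨IsLocalRing.maximalIdeal (CAlg2.normRed A), inferInstance⟩⟩, fun m => ?_⟩⟩
    exact MaximalSpectrum.ext (IsLocalRing.eq_maximalIdeal m.isMaximal)

end Groth.Agent.S9235
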