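import Groth.Statements.S9236
import Groth.Agent.Lib.BrnchPI98
import Groth.Agent.S9235

set_option autoImplicit false
universe u
open Brnch

namespace Groth.Agent.S9236

open IsLocalRing Groth.Agent.Lib.BrnchPI98

/-- A local ring A has exactly one geometric branch if and only if it is geometrically unibranch
(unibranch with purely inseparable residue field extension of the integral closure). The number of
geometric branches counts the maximal ideals of the integral closure of A_red in its total ring of
fractions with multiplicity the separable degree of the residue field extension. -/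
theorem result (A : Type u) [CommRing A] [IsLocalRing A] :
    Brnch.numGeomBranches A = 1 ↔ CAlg2.IsGeomUnibranch A := by
  classical
  constructor
  · intro h
    have hfin : (minimalPrimes A).Finite := by
      by_contra hinf
      unfold Brnch.numGeomBranches at h
      rw [if_neg hinf] at h
      exact ENat.top_ne_one h
    have hcard : ENat.card (Σ m' : MaximalSpectrum (CAlg2.normRed A), Brnch.Emb A m') = 1 := by
      unfold Brnch.numGeomBranches at h
      rwa [if_pos hfin] at h
    have huniq : Subsingleton (Σ m' : MaximalSpectrum (CAlg2.normRed A), Brnch.Emb A m') ∧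
        Nonempty (Σ m' : MaximalSpectrum (CAlg2.normRed A), Brnch.Emb A m') := by
      rw [← Nat.card_eq_one_iff_unique]
      have hfinS : Finite (Σ m' : MaximalSpectrum (CAlg2.normRed A), Brnch.Emb A m') := by
        rw [← ENat.card_lt_top, hcard]
        exact ENat.one_lt_top
      rw [ENat.card_eq_coe_natCard] at hcard
      exact_mod_cast hcard
    obtain ⟨hsub, ⟨x₀⟩⟩ := huniq
    have hsubMax : Subsingleton (MaximalSpectrum (CAlg2.normRed A)) := ⟨fun m1 m2 => by
      obtain ⟨σ1⟩ := nonempty_emb A m1
      obtain ⟨σ2⟩ := nonempty_emb A m2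
      exact congrArg Sigma.fst (hsub.elim ⟨m1, σ1⟩ ⟨m2, σ2⟩)⟩
    have hnb : Brnch.numBranches A = 1 := by
      unfold Brnch.numBranches
      rw [if_pos hfin]
      haveI : Finite (MaximalSpectrum (CAlg2.normRed A)) := Finite.of_subsingleton
      rw [ENat.card_eq_coe_natCard, Nat.card_eq_one_iff_unique.mpr ⟨hsubMax, ⟨x₀.1⟩⟩]
      rfl
    have hU : CAlg2.IsUnibranch A := (Groth.Agent.S9235.result A).mp hnb
    refine ⟨hU, fun m' hm' => ?_⟩
    have hsubE : Subsingleton (Brnch.Emb A ⟨m', hm'⟩) := ⟨fun σ τ => by
      have h1 := hsub.elim ⟨⟨m', hm'⟩, σ⟩ ⟨⟨m', hm'⟩, τ⟩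
      exact eq_of_heq (Sigma.mk.inj_iff.mp h1).2⟩
    exact (subsingleton_emb_iff A ⟨m', hm'⟩).mp hsubE
  · rintro ⟨hU, hPI⟩
    have hnb : Brnch.numBranches A = 1 := (Groth.Agent.S9235.result A).mpr hU
    have hfin : (minimalPrimes A).Finite := by
      by_contra hinf
      unfold Brnch.numBranches at hnb
      rw [if_neg hinf] at hnb
      exact ENat.top_ne_one hnb
    have hcardMax : ENat.card (MaximalSpectrum (CAlg2.normRed A)) = 1 := by
      unfold Brnch.numBranches at hnb
      rwa [if_pos hfin] at hnb
    haveI : Finite (MaximalSpectrum (CAlg2.normRed A)) := by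
      rw [← ENat.card_lt_top, hcardMax]
      exact ENat.one_lt_top
    have hsubE : ∀ m' : MaximalSpectrum (CAlg2.normRed A), Subsingleton (Brnch.Emb A m') := by
      intro m'
      rw [subsingleton_emb_iff]
      haveI := m'.isMaximal
      exact hPI m'.asIdeal
    rw [(numGeomBranches_eq_numBranches_iff A hfin).mpr hsubE, hnb]

end Groth.Agent.S9236
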