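import Groth.Statements.S2125
import Groth.Agent.Lib.HenselizationFlat
import Mathlib.RingTheory.Ideal.MinimalPrime.Localization
import Mathlib.LinearAlgebra.TensorProduct.Quotient
import Mathlib.RingTheory.Flat.Basic

set_option autoImplicit false
universe u
open CAlg

namespace Groth.Agent.S2125

/-- A formal criterion: if `φ : B → B'` has nil kernel and every element of `B'` can be multiplied
by a non-zero-divisor into the range of `φ`, then contraction is a bijection on minimal primes. -/
theorem bijOn_minimalPrimes_comap {B B' : Type*} [CommRing B] [CommRing B'] (φ : B →+* B')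
    (h1 : RingHom.ker φ ≤ nilradical B)
    (h2 : ∀ x : B', ∃ c ∈ nonZeroDivisors B', c * x ∈ φ.range) :
    Set.BijOn (fun P : Ideal B' => P.comap φ) (minimalPrimes B') (minimalPrimes B) := by
  have hsurj : ∀ P ∈ minimalPrimes B, ∃ P' ∈ minimalPrimes B', P'.comap φ = P := by
    intro P hP
    have hPprime : P.IsPrime := hP.1.1
    have hP' : P ∈ ((⊥ : Ideal B').comap φ).minimalPrimes := by
      refine ⟨⟨hPprime, ?_⟩, fun q hq hqP => hP.2 ⟨hq.1, bot_le⟩ hqP⟩
      intro x hx
      have hx' : x ∈ RingHom.ker φ := by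
        rw [RingHom.mem_ker]
        simpa using hx
      exact nilradical_le_prime P (h1 hx')
    exact Ideal.exists_minimalPrimes_comap_eq φ P hP'
  have hle : ∀ P₁' P₂' : Ideal B', P₂' ∈ minimalPrimes B' →
      P₁'.comap φ ≤ P₂'.comap φ → P₁' ≤ P₂' := by
    intro P₁' P₂' h₂ hle x hx
    obtain ⟨c, hc, b, hb⟩ := h2 x
    have hcx : c * x ∈ P₁' := P₁'.mul_mem_left c hx
    rw [← hb] at hcx
    have hb2 : b ∈ P₂'.comap φ := hle hcx
    have h3 : c * x ∈ P₂' := by rw [← hb]; exact hb2
    have hprime : P₂'.IsPrime := h₂.1.1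
    rcases hprime.mem_or_mem h3 with h | h
    · exact absurd hc (notMem_nonZeroDivisors_of_mem_mem_minimalPrimes h h₂)
    · exact h
  refine ⟨?_, ?_, ?_⟩
  · intro P' hP'
    have hprime' : P'.IsPrime := hP'.1.1
    have hprime : (P'.comap φ).IsPrime := Ideal.comap_isPrime φ P'
    obtain ⟨P₁, hP₁, hP₁le⟩ := Ideal.exists_minimalPrimes_le (I := ⊥) (J := P'.comap φ) bot_le
    obtain ⟨P₁', hP₁', hc⟩ := hsurj P₁ hP₁
    have h1' : P₁' ≤ P' := hle P₁' P' hP' (by rw [hc]; exact hP₁le)
    have h2' : P' ≤ P₁' := hP'.2 ⟨hP₁'.1.1, bot_le⟩ h1'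
    have h3 : P₁' = P' := le_antisymm h1' h2'
    show P'.comap φ ∈ minimalPrimes B
    rw [← h3, hc]; exact hP₁
  · intro P' hP' P'' hP'' h
    have h' : P'.comap φ = P''.comap φ := h
    exact le_antisymm (hle P' P'' hP'' (le_of_eq h')) (hle P'' P' hP' (le_of_eq h'.symm))
  · intro P hP
    obtain ⟨P', hP', hc⟩ := hsurj P hP
    exact ⟨P', hP', hc⟩

section Concrete

open TensorProduct

variable {A : Type u} [CommRing A]

theorem smul_eq_zero_normRed (s : A)
    (hs : Ideal.Quotient.mk (nilradical A) s ∈ nonZeroDivisors (CAlg2.red A))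
    (x : CAlg2.normRed A) (hx : s • x = 0) : x = 0 := by
  have h1 : ((s • x : CAlg2.normRed A) : FractionRing (CAlg2.red A)) = 0 := by rw [hx]; rfl
  have h2 : ((s • x : CAlg2.normRed A) : FractionRing (CAlg2.red A))
      = algebraMap (CAlg2.red A) (FractionRing (CAlg2.red A))
          (Ideal.Quotient.mk (nilradical A) s) * (x : FractionRing (CAlg2.red A)) := by
    show s • (x : FractionRing (CAlg2.red A)) = _
    rw [Algebra.smul_def,
      IsScalarTower.algebraMap_apply A (CAlg2.red A) (FractionRing (CAlg2.red A))]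
    rfl
  have hu : IsUnit (algebraMap (CAlg2.red A) (FractionRing (CAlg2.red A))
      (Ideal.Quotient.mk (nilradical A) s)) :=
    IsLocalization.map_units (FractionRing (CAlg2.red A))
      (⟨_, hs⟩ : nonZeroDivisors (CAlg2.red A))
  rw [h2] at h1
  have h3 : (x : FractionRing (CAlg2.red A)) = 0 := (hu.mul_right_eq_zero).mp h1
  exact Subtype.ext h3

theorem smul_eq_zero_tensor (B : Type u) [CommRing B] [Algebra A B] [Module.Flat A B] (s : A)
    (hs : Ideal.Quotient.mk (nilradical A) s ∈ nonZeroDivisors (CAlg2.red A))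
    (y : (CAlg2.normRed A) ⊗[A] B) (hy : s • y = 0) : y = 0 := by
  let f : CAlg2.normRed A →ₗ[A] CAlg2.normRed A := LinearMap.lsmul A (CAlg2.normRed A) s
  have hf : Function.Injective f := by
    rw [injective_iff_map_eq_zero]
    intro x hx
    exact smul_eq_zero_normRed s hs x hx
  have hinj := Module.Flat.rTensor_preserves_injective_linearMap (M := B) f hf
  have key : ∀ z : (CAlg2.normRed A) ⊗[A] B, (f.rTensor B) z = s • z := by
    intro z
    induction z using TensorProduct.induction_on with
    | zero => simp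
    | tmul a b => rw [LinearMap.rTensor_tmul, TensorProduct.smul_tmul']; rfl
    | add x y hx hy => rw [map_add, hx, hy, smul_add]
  apply hinj
  rw [key, hy, map_zero]

theorem exists_smul_eq_includeRight (B : Type u) [CommRing B] [Algebra A B]
    (x : (CAlg2.normRed A) ⊗[A] B) :
    ∃ s : A, Ideal.Quotient.mk (nilradical A) s ∈ nonZeroDivisors (CAlg2.red A) ∧
      ∃ b : B, s • x = (1 : CAlg2.normRed A) ⊗ₜ[A] b := by
  induction x using TensorProduct.induction_on with
  | zero => exact ⟨1, by rw [map_one]; exact one_mem _, 0, by simp⟩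
  | tmul a b =>
    obtain ⟨⟨r, s⟩, hrs⟩ := IsLocalization.surj (nonZeroDivisors (CAlg2.red A))
      (a : FractionRing (CAlg2.red A))
    obtain ⟨r₀, rfl⟩ := Ideal.Quotient.mk_surjective r
    obtain ⟨s₀, hs₀⟩ := Ideal.Quotient.mk_surjective (s : CAlg2.red A)
    refine ⟨s₀, by rw [hs₀]; exact s.2, r₀ • b, ?_⟩
    have e : ∀ a₀ : A, algebraMap A (CAlg2.red A) a₀ = Ideal.Quotient.mk (nilradical A) a₀ :=
      fun _ => rfl
    have h : s₀ • a = r₀ • (1 : CAlg2.normRed A) := by
      apply Subtype.ext
      show s₀ • (a : FractionRing (CAlg2.red A)) = r₀ • (1 : FractionRing (CAlg2.red A))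
      rw [Algebra.smul_def, Algebra.smul_def, mul_one,
        IsScalarTower.algebraMap_apply A (CAlg2.red A) (FractionRing (CAlg2.red A)),
        IsScalarTower.algebraMap_apply A (CAlg2.red A) (FractionRing (CAlg2.red A)) r₀,
        e, e, hs₀, mul_comm]
      exact hrs
    rw [TensorProduct.smul_tmul', h, TensorProduct.smul_tmul]
  | add x y hx hy =>
    obtain ⟨s, hs, b, hb⟩ := hx
    obtain ⟨t, ht, c, hc⟩ := hy
    refine ⟨s * t, by rw [map_mul]; exact mul_mem hs ht, t • b + s • c, ?_⟩
    have e1 : (s * t) • x = (1 : CAlg2.normRed A) ⊗ₜ[A] (t • b) := by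
      rw [mul_comm, mul_smul, hb, TensorProduct.tmul_smul]
    have e2 : (s * t) • y = (1 : CAlg2.normRed A) ⊗ₜ[A] (s • c) := by
      rw [mul_smul, hc, TensorProduct.tmul_smul]
    rw [smul_add, e1, e2, TensorProduct.tmul_add]

theorem mem_nilradical_of_tmul_eq_zero (B : Type u) [CommRing B] [Algebra A B] [Module.Flat A B]
    (b : B) (hb : (1 : CAlg2.normRed A) ⊗ₜ[A] b = 0) : b ∈ nilradical B := by
  let g : CAlg2.red A →ₗ[A] CAlg2.normRed A :=
    (IsScalarTower.toAlgHom A (CAlg2.red A) (CAlg2.normRed A)).toLinearMap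
  have hg : Function.Injective g := by
    intro x y hxy
    have h1 : algebraMap (CAlg2.red A) (CAlg2.normRed A) x
        = algebraMap (CAlg2.red A) (CAlg2.normRed A) y := hxy
    have h2 : algebraMap (CAlg2.red A) (FractionRing (CAlg2.red A)) x
        = algebraMap (CAlg2.red A) (FractionRing (CAlg2.red A)) y := congrArg Subtype.val h1
    exact IsFractionRing.injective (CAlg2.red A) (FractionRing (CAlg2.red A)) h2
  have hinj := Module.Flat.rTensor_preserves_injective_linearMap (M := B) g hg
  have h0 : (1 : CAlg2.red A) ⊗ₜ[A] b = 0 := by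
    apply hinj
    rw [LinearMap.rTensor_tmul, map_zero]
    have hg1 : g 1 = 1 := map_one (IsScalarTower.toAlgHom A (CAlg2.red A) (CAlg2.normRed A))
    rw [hg1]; exact hb
  have h1 : (Submodule.Quotient.mk b : B ⧸ (nilradical A • (⊤ : Submodule A B))) = 0 := by
    rw [← TensorProduct.quotTensorEquivQuotSMul_mk_one_tmul (nilradical A) b, h0, map_zero]
  rw [Submodule.Quotient.mk_eq_zero] at h1
  refine Submodule.smul_induction_on h1 ?_ ?_
  · intro r hr n _
    rw [Algebra.smul_def]
    refine (nilradical B).mul_mem_right _ ?_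
    rw [mem_nilradical] at hr ⊢
    exact hr.map (algebraMap A B)
  · intro x y hx hy
    exact (nilradical B).add_mem hx hy

end Concrete

open TensorProduct in
/-- Let `A` be a local ring with finitely many minimal primes, `A'` the integral closure of `A_red` in
its total ring of fractions and `A^h` the henselization of `A`. Then contraction along `A^h → A' ⊗_A
A^h` is a bijection from the minimal primes of `A' ⊗_A A^h` onto the minimal primes of `A^h`. -/
theorem result {A Ah : Type u} [CommRing A] [IsLocalRing A]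
    (hfin : (minimalPrimes A).Finite) [CommRing Ah] [IsLocalRing Ah] [Algebra A Ah] [IsLocalHom (algebraMap A Ah)]
    [Hensel.IsHenselization A Ah] :
    Set.BijOn (fun P : Ideal ((CAlg2.normRed A) ⊗[A] Ah) =>
        P.comap (Algebra.TensorProduct.includeRight.toRingHom :
          Ah →+* (CAlg2.normRed A) ⊗[A] Ah))
      (minimalPrimes ((CAlg2.normRed A) ⊗[A] Ah))
      (minimalPrimes Ah) := by
  have hff : Module.FaithfullyFlat A Ah :=
    Groth.Agent.Lib.HenselizationFlat.faithfullyFlat_of_isHenselization A Ah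
  have hflat : Module.Flat A Ah := inferInstance
  refine bijOn_minimalPrimes_comap (B := Ah) (B' := (CAlg2.normRed A) ⊗[A] Ah)
    (Algebra.TensorProduct.includeRight.toRingHom :
      Ah →+* (CAlg2.normRed A) ⊗[A] Ah) ?_ ?_
  · intro b hb
    rw [RingHom.mem_ker] at hb
    exact mem_nilradical_of_tmul_eq_zero Ah b hb
  · intro x
    obtain ⟨s, hs, b, hb⟩ := exists_smul_eq_includeRight Ah x
    refine ⟨algebraMap A _ s, ?_, b, ?_⟩
    · rw [mem_nonZeroDivisors_iff_left]
      intro y hy
      apply smul_eq_zero_tensor Ah s hs y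
      rw [Algebra.smul_def]; exact hy
    · show (1 : CAlg2.normRed A) ⊗ₜ[A] b = algebraMap A _ s * x
      rw [← Algebra.smul_def, hb]

end Groth.Agent.S2125
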