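import Groth.Statements.S9237
import Groth.Agent.Lib.Brnch98
import Groth.Agent.Lib.LocalEtaleNbhd
import Groth.Agent.S2801
import Groth.Agent.S2125
import Groth.Agent.Lib.HenselizationFlat

set_option autoImplicit false
universe u
open Brnch

namespace Groth.Agent.S9237

section Count

open TensorProduct IsLocalRing

attribute [local instance] Algebra.TensorProduct.rightAlgebra

variable (A S : Type u) [CommRing A] [IsLocalRing A] [CommRing S] [IsLocalRing S] [Algebra A S]
  [IsLocalHom (algebraMap A S)] [Hensel.IsHenselization A S]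
  (A' : Type u) [CommRing A'] [Algebra A A'] [Algebra.IsIntegral A A']

theorem hS : ∀ F : Finset S, ∃ (E : Type u) (_ : CommRing E) (_ : Algebra A E)
    (_ : Algebra.Etale A E) (φ : E →ₐ[A] S), ∀ x ∈ F, x ∈ φ.range := by
  intro F
  obtain ⟨E, i1, i2, hE, -, φ, hφ⟩ :=
    Groth.Agent.Lib.LocalEtaleNbhd.exists_etale_of_finset A S F
  exact ⟨E, i1, i2, hE, φ, hφ⟩

/-- The contraction to `A'` of a maximal ideal of `A' ⊗[A] S` is maximal. -/
theorem isMaximal_comap_includeLeft (N : Ideal (A' ⊗[A] S)) (hN : N.IsMaximal) :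
    (N.comap (Algebra.TensorProduct.includeLeft : A' →ₐ[A] A' ⊗[A] S)).IsMaximal := by
  have hint : Algebra.IsIntegral S (A' ⊗[A] S) :=
    Groth.Agent.Lib.Unibranch98.isIntegral_right A A' S
  have h1 : (N.comap (algebraMap S (A' ⊗[A] S))).IsMaximal :=
    Ideal.isMaximal_comap_of_isIntegral_of_isMaximal (R := S) N
  have h2 : N.comap (algebraMap S (A' ⊗[A] S)) = maximalIdeal S := IsLocalRing.eq_maximalIdeal h1
  set n := N.comap (Algebra.TensorProduct.includeLeft : A' →ₐ[A] A' ⊗[A] S) with hn
  have hnprime : n.IsPrime := Ideal.comap_isPrime _ _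
  have h3 : maximalIdeal A ≤ n.comap (algebraMap A A') := by
    intro a ha
    show (Algebra.TensorProduct.includeLeft : A' →ₐ[A] A' ⊗[A] S) (algebraMap A A' a) ∈ N
    have h4 : (Algebra.TensorProduct.includeLeft : A' →ₐ[A] A' ⊗[A] S) (algebraMap A A' a)
        = algebraMap S (A' ⊗[A] S) (algebraMap A S a) := by
      rw [Algebra.TensorProduct.includeLeft_apply, Algebra.TensorProduct.right_algebraMap_apply,
        Algebra.algebraMap_eq_smul_one, Algebra.algebraMap_eq_smul_one, TensorProduct.smul_tmul]
    rw [h4]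
    have h5 : algebraMap A S a ∈ maximalIdeal S := map_nonunit (algebraMap A S) a ha
    rw [← h2] at h5
    exact h5
  have h6 : maximalIdeal A = n.comap (algebraMap A A') :=
    (maximalIdeal.isMaximal A).eq_of_le (Ideal.comap_ne_top _ hnprime.ne_top) h3
  exact Ideal.isMaximal_of_isIntegral_of_isMaximal_comap (R := A) n
    (h6 ▸ maximalIdeal.isMaximal A)

theorem isLocalHom_quot (n : Ideal A') [hn : n.IsMaximal] :
    IsLocalHom (algebraMap A (A' ⧸ n)) := by
  constructor
  intro a ha
  by_contra hna
  have h1 : a ∈ maximalIdeal A := hna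
  have h2 : (n.comap (algebraMap A A')).IsMaximal :=
    Ideal.isMaximal_comap_of_isIntegral_of_isMaximal (R := A) n
  have h3 : n.comap (algebraMap A A') = maximalIdeal A := IsLocalRing.eq_maximalIdeal h2
  have h4 : algebraMap A A' a ∈ n := by rw [← h3] at h1; exact h1
  have h5 : algebraMap A (A' ⧸ n) a = 0 := by
    rw [IsScalarTower.algebraMap_apply A A' (A' ⧸ n), Ideal.Quotient.algebraMap_eq,
      Ideal.Quotient.eq_zero_iff_mem]
    exact h4
  rw [h5] at ha
  have : Nontrivial (A' ⧸ n) := Ideal.Quotient.nontrivial_iff.mpr hn.ne_top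
  exact not_isUnit_zero ha

theorem isLocalRing_quot_tensor (n : Ideal A') [hn : n.IsMaximal] :
    IsLocalRing ((A' ⧸ n) ⊗[A] S) := by
  have h1 : IsLocalRing (A' ⧸ n) := by
    letI := Ideal.Quotient.field n
    exact inferInstance
  have h2 : IsLocalHom (algebraMap A (A' ⧸ n)) := isLocalHom_quot A A' n
  have h3 : Algebra.IsIntegral A' (A' ⧸ n) :=
    Algebra.isIntegral_of_surjective Ideal.Quotient.mk_surjective
  have h4 : Algebra.IsIntegral A (A' ⧸ n) :=
    Algebra.IsIntegral.trans (R := A) (A := A') (B := A' ⧸ n)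
  obtain ⟨h, -, -⟩ := Groth.Agent.S2801.result A (A' ⧸ n) S
  exact h

/-- The reduction map `A' ⊗ S → (A'/n) ⊗ S`. -/
noncomputable def piN (n : Ideal A') : A' ⊗[A] S →ₐ[A] (A' ⧸ n) ⊗[A] S :=
  Algebra.TensorProduct.map (Ideal.Quotient.mkₐ A n) (AlgHom.id A S)

theorem piN_surjective (n : Ideal A') : Function.Surjective (piN A S A' n) :=
  Algebra.TensorProduct.map_surjective _ _ (Ideal.Quotient.mkₐ_surjective A n)
    Function.surjective_id

theorem ker_piN (n : Ideal A') : RingHom.ker (piN A S A' n)
    = n.map (Algebra.TensorProduct.includeLeft : A' →ₐ[A] A' ⊗[A] S) := by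
  have h := Algebra.TensorProduct.rTensor_ker (R := A) (S := A) (C := S) (Ideal.Quotient.mkₐ A n)
    (Ideal.Quotient.mkₐ_surjective A n)
  have hk : RingHom.ker (Ideal.Quotient.mkₐ A n) = n := by
    ext x
    rw [RingHom.mem_ker, Ideal.Quotient.mkₐ_eq_mk, Ideal.Quotient.eq_zero_iff_mem]
  rw [hk] at h
  exact h

/-- Over each maximal ideal of `A'` there is exactly one maximal ideal of `A' ⊗[A] S`. -/
theorem exists_maximal_over (n : MaximalSpectrum A') :
    ∃ N₀ : Ideal (A' ⊗[A] S), N₀.IsMaximal ∧
      N₀.comap (Algebra.TensorProduct.includeLeft : A' →ₐ[A] A' ⊗[A] S) = n.asIdeal ∧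
      ∀ N : Ideal (A' ⊗[A] S), N.IsMaximal →
        n.asIdeal.map (Algebra.TensorProduct.includeLeft : A' →ₐ[A] A' ⊗[A] S) ≤ N → N = N₀ := by
  have hn : n.asIdeal.IsMaximal := n.isMaximal
  have hloc : IsLocalRing ((A' ⧸ n.asIdeal) ⊗[A] S) := isLocalRing_quot_tensor A S A' n.asIdeal
  set π : A' ⊗[A] S →+* (A' ⧸ n.asIdeal) ⊗[A] S := (piN A S A' n.asIdeal).toRingHom with hπ
  have hπs : Function.Surjective π := piN_surjective A S A' n.asIdeal
  have hker : RingHom.ker π
      = n.asIdeal.map (Algebra.TensorProduct.includeLeft : A' →ₐ[A] A' ⊗[A] S) :=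
    ker_piN A S A' n.asIdeal
  have hmax : ((maximalIdeal ((A' ⧸ n.asIdeal) ⊗[A] S)).comap π).IsMaximal :=
    Ideal.comap_isMaximal_of_surjective π hπs
  refine ⟨(maximalIdeal ((A' ⧸ n.asIdeal) ⊗[A] S)).comap π, hmax, ?_, ?_⟩
  · have hle : n.asIdeal ≤ ((maximalIdeal ((A' ⧸ n.asIdeal) ⊗[A] S)).comap π).comap
        (Algebra.TensorProduct.includeLeft : A' →ₐ[A] A' ⊗[A] S) := by
      intro a ha
      show π ((Algebra.TensorProduct.includeLeft : A' →ₐ[A] A' ⊗[A] S) a)
        ∈ maximalIdeal ((A' ⧸ n.asIdeal) ⊗[A] S)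
      have h0 : π ((Algebra.TensorProduct.includeLeft : A' →ₐ[A] A' ⊗[A] S) a) = 0 := by
        rw [← RingHom.mem_ker, hker]
        exact Ideal.mem_map_of_mem _ ha
      rw [h0]
      exact Ideal.zero_mem _
    exact (hn.eq_of_le (Ideal.comap_ne_top _ hmax.ne_top) hle).symm
  · intro N hN hle
    exact Groth.Agent.Lib.Brnch98.eq_comap_maximalIdeal π hπs hN (by rw [hker]; exact hle)

/-- Counting: minimal primes of `A' ⊗[A] S` correspond to maximal ideals of `A'`. -/
theorem card_minimalPrimes_tensor
    (hA' : ∀ (P : Ideal A') [P.IsPrime],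
      IsDomain (Localization.AtPrime P) ∧ IsIntegrallyClosed (Localization.AtPrime P)) :
    ENat.card (minimalPrimes (A' ⊗[A] S)) = ENat.card (MaximalSpectrum A') := by
  classical
  have hhens : HenselianLocalRing S := Hensel.IsHenselization.henselian (R := A)
  have hff : Module.FaithfullyFlat A S :=
    Groth.Agent.Lib.HenselizationFlat.faithfullyFlat_of_isHenselization A S
  have hflat : Module.Flat A S := inferInstance
  have hint : Algebra.IsIntegral S (A' ⊗[A] S) :=
    Groth.Agent.Lib.Unibranch98.isIntegral_right A A' S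
  have hS' := hS A S
  choose N₀ hN₀max hN₀comap hN₀uniq using exists_maximal_over A S A'
  have hex : ∀ n : MaximalSpectrum A', ∃ P ∈ minimalPrimes (A' ⊗[A] S), P ≤ N₀ n := by
    intro n
    have : (N₀ n).IsPrime := (hN₀max n).isPrime
    exact Ideal.exists_minimalPrimes_le (I := ⊥) (J := N₀ n) bot_le
  choose P hPmin hPle using hex
  let g : MaximalSpectrum A' → minimalPrimes (A' ⊗[A] S) := fun n => ⟨P n, hPmin n⟩
  have hinj : Function.Injective g := by
    intro n n' h
    have hPP : P n = P n' := congrArg Subtype.val h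
    have hprime : (P n).IsPrime := (hPmin n).1.1
    have hNN : N₀ n = N₀ n' :=
      Groth.Agent.Lib.Brnch98.maximal_unique_of_prime_le S (A' ⊗[A] S) (P n) (hN₀max n)
        (hN₀max n') (hPle n) (hPP ▸ hPle n')
    apply MaximalSpectrum.ext
    rw [← hN₀comap n, ← hN₀comap n', hNN]
  have hsurj : Function.Surjective g := by
    rintro ⟨Q, hQ⟩
    have hQprime : Q.IsPrime := hQ.1.1
    obtain ⟨N, hNmax, hQN⟩ := Ideal.exists_le_maximal Q hQprime.ne_top
    have hnmax := isMaximal_comap_includeLeft A S A' N hNmax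
    let n : MaximalSpectrum A' := ⟨_, hnmax⟩
    have hN : N = N₀ n := hN₀uniq n N hNmax Ideal.map_comap_le
    have hNprime : N.IsPrime := hNmax.isPrime
    refine ⟨n, Subtype.ext ?_⟩
    exact Groth.Agent.Lib.Brnch98.minimalPrimes_eq_of_le A' hS' hA' N (hPmin n) hQ
      (hN ▸ hPle n) hQN
  exact (ENat.card_congr (Equiv.ofBijective g ⟨hinj, hsurj⟩)).symm

end Count


/-- Let A be a local ring and S a henselization of A. Then the number of minimal prime ideals of S, a
natural number or infinity, equals the number of branches of A as computed from the integral closure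
of A_red in its total ring of fractions: infinity if A has infinitely many minimal primes, and
otherwise the number of maximal ideals of that integral closure. -/
theorem result (A S : Type u) [CommRing A]
    [IsLocalRing A] [CommRing S] [IsLocalRing S] [Algebra A S] [IsLocalHom (algebraMap A S)]
    [Hensel.IsHenselization A S] :
    ENat.card (minimalPrimes S) = Brnch.numBranches A := by
  classical
  unfold Brnch.numBranches
  by_cases hfin : (minimalPrimes A).Finite
  · rw [if_pos hfin]
    have hbij := Groth.Agent.S2125.result (A := A) (Ah := S) hfin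
    have h1 : ENat.card (minimalPrimes (TensorProduct A (CAlg2.normRed A) S))
        = ENat.card (minimalPrimes S) :=
      ENat.card_congr (Set.BijOn.equiv _ hbij)
    rw [← h1]
    have := Groth.Agent.Lib.Unibranch98.isIntegral_normRed A
    exact card_minimalPrimes_tensor A S (CAlg2.normRed A)
      (fun P _ => Groth.Agent.Lib.Brnch98.normRed_normal_localization A hfin P)
  · rw [if_neg hfin]
    rw [ENat.card_eq_top, Set.infinite_coe_iff]
    have hff : Module.FaithfullyFlat A S :=
      Groth.Agent.Lib.HenselizationFlat.faithfullyFlat_of_isHenselization A S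
    have hinj : Function.Injective (algebraMap A S) := FaithfulSMul.algebraMap_injective A S
    have hsub : minimalPrimes A ⊆ Ideal.comap (algebraMap A S) '' minimalPrimes S := by
      intro p hp
      have hp' : p ∈ ((⊥ : Ideal S).comap (algebraMap A S)).minimalPrimes := by
        rw [Ideal.comap_bot_of_injective _ hinj]
        exact hp
      obtain ⟨P, hP, hPp⟩ := Ideal.exists_minimalPrimes_comap_eq (algebraMap A S) p hp'
      exact ⟨P, hP, hPp⟩
    exact Set.Infinite.of_image _ (Set.Infinite.mono hsub hfin)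

end Groth.Agent.S9237
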