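import Groth.Statements.S18415
import Groth.Agent.Lib.EtRootCover

set_option autoImplicit false
universe u
open CategoryTheory AlgebraicGeometry
open EtCoh

namespace Groth.Agent.S18415

open Groth.Agent.Lib.EtRootCover Polynomial

/-- the Artin–Schreier standard etale pair `(T^p - T - a, 1)` over a ring with `p = 0` -/
noncomputable def asPair {R : Type u} [CommRing R] (p : ℕ) (hp : p.Prime) (h0 : (p : R) = 0)
    (a : R) : StandardEtalePair R where
  f := X ^ p - (X + C a)
  monic_f := by
    apply monic_X_pow_sub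
    have h1 : (X + C a : R[X]).degree ≤ 1 := by
      refine (degree_add_le _ _).trans ?_
      rw [max_le_iff]
      exact ⟨degree_X_le, degree_C_le.trans (by norm_num)⟩
    refine lt_of_le_of_lt h1 ?_
    exact_mod_cast hp.one_lt
  g := 1
  cond := ⟨-1, 0, 1, by
    simp [derivative_X_pow, h0]⟩

lemma exists_as_root {K : Type u} [Field K] [IsSepClosed K] (p : ℕ) (hp : p.Prime)
    (h0 : ((p : ℕ) : K) = 0) (c : K) : ∃ ω : K, ω ^ p - (ω + c) = 0 := by
  have hlt : (X + C c : K[X]).degree < (p : ℕ) := by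
    have h1 : (X + C c : K[X]).degree ≤ 1 := by
      refine (degree_add_le _ _).trans ?_
      rw [max_le_iff]
      exact ⟨degree_X_le, degree_C_le.trans (by norm_num)⟩
    refine lt_of_le_of_lt h1 ?_
    exact_mod_cast hp.one_lt
  have hdeg : (X ^ p - (X + C c) : K[X]).degree ≠ 0 := by
    rw [degree_sub_eq_left_of_degree_lt (by rwa [degree_X_pow]), degree_X_pow]
    exact_mod_cast hp.ne_zero
  have hsep : (X ^ p - (X + C c) : K[X]).Separable := by
    rw [separable_def]
    have hd : derivative (X ^ p - (X + C c) : K[X]) = -1 := by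
      simp [derivative_X_pow, h0]
    rw [hd]
    exact isCoprime_one_right.neg_right
  obtain ⟨ω, hω⟩ := IsSepClosed.exists_root _ hdeg hsep
  refine ⟨ω, ?_⟩
  have : eval ω (X ^ p - (X + C c)) = 0 := hω
  simpa using this

lemma asPair_hasMap {R K : Type u} [CommRing R] [CommRing K] [Algebra R K] (p : ℕ) (hp : p.Prime)
    (h0 : (p : R) = 0) (a : R) (ω : K) (h : ω ^ p - (ω + algebraMap R K a) = 0) :
    (asPair p hp h0 a).HasMap ω := by
  refine ⟨?_, ?_⟩
  · show aeval ω (X ^ p - (X + C a)) = 0
    simpa using h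
  · show IsUnit (aeval ω (1 : R[X]))
    simp

lemma asPair_X_eq {R : Type u} [CommRing R] (p : ℕ) (hp : p.Prime) (h0 : (p : R) = 0) (a : R) :
    (asPair p hp h0 a).X ^ p - (asPair p hp h0 a).X = algebraMap R (asPair p hp h0 a).Ring a := by
  have h : aeval (asPair p hp h0 a).X (X ^ p - (X + C a)) = 0 := (asPair p hp h0 a).hasMap_X.1
  have h2 : (asPair p hp h0 a).X ^ p -
      ((asPair p hp h0 a).X + algebraMap R (asPair p hp h0 a).Ring a) = 0 := by simpa using h
  linear_combination h2

/-- Let p be a prime and X a scheme with p = 0 in Γ(X, O_X). Then the Artin–Schreier endomorphism x ↦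
x^p − x of the additive group sheaf G_a on the small étale site of X is an epimorphism of abelian
étale sheaves (the right-hand exactness of 0 → Z/p → G_a → G_a → 0 on X_et). (The published example
takes X a variety over a field of characteristic p; this row assumes only that p = 0 in Γ(X, O_X).) -/
theorem result
    (p : ℕ) (hp : p.Prime) {X : Scheme.{u}} (h0 : (p : Γ(X, ⊤)) = 0) :
    Epi (W4c5etcohweilstudent.artinSchreierEndo X p hp h0) := by
  apply epi_of_forall_exists_lift
  intro V a v
  obtain ⟨R, ι, hι, 𝔭, rfl⟩ := exists_affine_nbhd V v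
  -- the ring homomorphisms `Γ(X) → Γ(V) → R`
  let ρ : Γ(V.left, ⊤) →+* R := (Scheme.ΓSpecIso R).hom.hom.comp ι.appTop.hom
  let σ : Γ(X, ⊤) →+* R := ρ.comp V.hom.appTop.hom
  have hpR : ((p : ℕ) : R) = 0 := by
    have := congrArg σ h0
    rwa [map_natCast, map_zero] at this
  let a0 : Γ(V.left, ⊤) := a.down
  let aR : R := ρ a0
  let P : StandardEtalePair R := asPair p hp hpR aR
  -- a root in the separable closure of the residue field
  let ψ : R →+* SeparableClosure 𝔭.asIdeal.ResidueField := sepPt 𝔭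
  have hψp : ((p : ℕ) : SeparableClosure 𝔭.asIdeal.ResidueField) = 0 := by
    have := congrArg ψ hpR
    rwa [map_natCast, map_zero] at this
  obtain ⟨ω, hωeq⟩ := exists_as_root p hp hψp (ψ aR)
  have hmap : letI := ψ.toAlgebra; P.HasMap ω := by
    let _ := ψ.toAlgebra
    exact asPair_hasMap p hp hpR aR ω hωeq
  obtain ⟨w, hw⟩ := exists_point_rootCover V ι P 𝔭 ω hmap
  have hXeq : P.X ^ p - P.X = algebraMap R P.Ring aR := asPair_X_eq p hp hpR aR
  let b : EtCoh.sect (EtCoh.Ga X) (rootCover V ι P) :=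
    ⟨(Scheme.ΓSpecIso (CommRingCat.of P.Ring)).inv.hom P.X⟩
  refine ⟨rootCover V ι P, rootCoverHom V ι P, b, ⟨w, hw⟩, ?_⟩
  have hR : (EtCoh.Ga X).obj.map (rootCoverHom V ι P).op a =
      ⟨(rootCoverHom V ι P).left.appTop.hom a0⟩ := rfl
  have hL : (W4c5etcohweilstudent.artinSchreierEndo X p hp h0).hom.app (Opposite.op (rootCover V ι P)) b =
      ⟨((Scheme.ΓSpecIso (CommRingCat.of P.Ring)).inv.hom P.X) ^ p -
        (Scheme.ΓSpecIso (CommRingCat.of P.Ring)).inv.hom P.X⟩ := rfl
  rw [hR, hL]
  congr 1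
  have h1 := rootCoverHom_appTop V ι P a0
  refine Eq.trans ?_ h1.symm
  rw [← map_pow, ← map_sub, hXeq]
  rfl

end Groth.Agent.S18415
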