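import Groth.Statements.S0069
import Groth.Agent.Lib.EtGermB

set_option autoImplicit false
open CategoryTheory CategoryTheory.Limits AlgebraicGeometry Opposite
universe u
open EtBase

namespace Groth.Agent.S0069

open Groth.Agent.Lib.EtGerm Groth.Agent.Lib.EtStalkConservative

/-- Abelian case, first half — the pushforward along a closed immersion has zero stalk at geometric
points outside the closed subscheme. -/
theorem result {Z X : Scheme.{u}} (i : Z ⟶ X) [IsClosedImmersion i] [EtCoh.BCCont i]
    (G : EtCoh.Ab Z) {Ω : Type u} [Field Ω] [IsSepClosed Ω] (ξ : Spec (CommRingCat.of Ω) ⟶ X)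
    (hξ : Disjoint (Set.range ξ.base) (Set.range i.base)) :
    IsZero ((EtCoh.stalk ξ).obj ((EtCoh.push i).obj G)) := by
  apply isZero_stalk_of_forall_germ
  intro U y s
  have hcl : IsClosed (U.hom ⁻¹' (Set.range i)) :=
    (Scheme.Hom.isClosedEmbedding i).isClosed_range.preimage U.hom.continuous
  let W : U.left.Opens := ⟨(U.hom ⁻¹' (Set.range i))ᶜ, hcl.isOpen_compl⟩
  have hyW : Nbhd.pt ξ y ∈ W := by
    show Nbhd.pt ξ y ∉ U.hom ⁻¹' (Set.range i)
    intro hmem
    have h1 : U.hom (Nbhd.pt ξ y) ∈ Set.range i := hmem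
    rw [Nbhd.hom_pt] at h1
    exact Set.disjoint_left.1 hξ ⟨default, rfl⟩ h1
  have : IsEmpty ((EtCoh.bc i).obj (openSub U W)).left := by
    refine ⟨fun p => ?_⟩
    let w : W := (pullback.fst (openSub U W).hom i : ((EtCoh.bc i).obj (openSub U W)).left ⟶ _) p
    let z : Z := (pullback.snd (openSub U W).hom i : ((EtCoh.bc i).obj (openSub U W)).left ⟶ _) p
    have hcomm : (openSub U W).hom w = i z := by
      have := congrArg (fun f : ((EtCoh.bc i).obj (openSub U W)).left ⟶ X => f p)
        (pullback.condition (f := (openSub U W).hom) (g := i))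
      exact this
    have hw : (W.ι w) ∉ U.hom ⁻¹' (Set.range i) := by
      have : (W.ι w) ∈ W := by
        rw [Scheme.Opens.ι_apply]
        exact w.2
      exact this
    exact hw ⟨z, hcomm.symm⟩
  have : Subsingleton (EtCoh.sect ((EtCoh.push i).obj G) (openSub U W)) :=
    subsingleton_sect_of_isEmpty G ((EtCoh.bc i).obj (openSub U W))
  exact germ_eq_zero_of_subsingleton ξ _ W y hyW s

end Groth.Agent.S0069
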