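import Groth.Statements.S0101
import Mathlib.CategoryTheory.Abelian.GrothendieckAxioms.Basic
import Mathlib.Algebra.Category.Grp.AB

set_option autoImplicit false
open CategoryTheory CategoryTheory.Limits AlgebraicGeometry Opposite
universe u
open EtBase

namespace Groth.Agent.S0101

universe v₁ v₂ v₃ u₁ u₂ u₃

section
variable {C : Type u₁} [Category.{v₁} C] {D : Type u₂} [Category.{v₂} D] (E : Type u₃) [Category.{v₃} E]

set_option backward.defeqAttrib.useBackward true in
set_option backward.isDefEq.respectTransparency false in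
/-- The evaluation of `F.lan` at `X` is the colimit over the costructured arrows over `X`
(universe-general version of the Mathlib statement). -/
noncomputable def lanEvaluationIsoColim' (F : C ⥤ D) (X : D)
    [∀ X : D, HasColimitsOfShape (CostructuredArrow F X) E] :
    F.lan ⋙ (evaluation D E).obj X ≅
      (Functor.whiskeringLeft _ _ E).obj (CostructuredArrow.proj F X) ⋙ colim :=
  NatIso.ofComponents (fun G =>
    IsColimit.coconePointUniqueUpToIso
    (Functor.isPointwiseLeftKanExtensionLeftKanExtensionUnit F G X)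
    (colimit.isColimit _)) (fun {G₁ G₂} φ => by
      apply (Functor.isPointwiseLeftKanExtensionLeftKanExtensionUnit F G₁ X).hom_ext
      intro T
      have h₁ := fun (G : C ⥤ E) => IsColimit.comp_coconePointUniqueUpToIso_hom
        (Functor.isPointwiseLeftKanExtensionLeftKanExtensionUnit F G X) (colimit.isColimit _) T
      have h₂ := congr_app (F.lanUnit.naturality φ) T.left
      dsimp at h₁ h₂ ⊢
      simp only [Category.assoc] at h₁ ⊢
      simp only [Functor.lan, Functor.lanUnit] at h₂ ⊢
      rw [reassoc_of% h₁, NatTrans.naturality_assoc, ← reassoc_of% h₂, h₁,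
        ι_colimMap, Functor.whiskerLeft_app]
      rfl)

/-- Universe-general version of `lan_preservesFiniteLimits_of_flat`. -/
theorem lan_preservesFiniteLimits_of_flat' (F : C ⥤ D) [RepresentablyFlat F]
    [∀ X : Dᵒᵖ, HasColimitsOfShape (CostructuredArrow F.op X) E]
    [∀ X : Dᵒᵖ, HasExactColimitsOfShape (CostructuredArrow F.op X) E] [HasFiniteLimits E] :
    PreservesFiniteLimits (F.op.lan : (Cᵒᵖ ⥤ E) ⥤ Dᵒᵖ ⥤ E) := by
  apply preservesFiniteLimits_of_preservesFiniteLimitsOfSize.{0}
  intro J _ _
  apply preservesLimitsOfShape_of_evaluation (F.op.lan : (Cᵒᵖ ⥤ E) ⥤ Dᵒᵖ ⥤ E) J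
  intro K
  have : PreservesFiniteLimits (colim : (CostructuredArrow F.op K ⥤ E) ⥤ E) :=
    HasExactColimitsOfShape.preservesFiniteLimits
  have : PreservesLimitsOfShape J
      ((Functor.whiskeringLeft (CostructuredArrow F.op K) Cᵒᵖ E).obj (CostructuredArrow.proj F.op K)) :=
    inferInstance
  exact preservesLimitsOfShape_of_natIso (lanEvaluationIsoColim' _ _ _).symm

end


/-- Part (1) — pullback of abelian étale sheaves along a morphism of schemes is exact (it is a left
adjoint and preserves finite limits). -/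
theorem result {X Y : Scheme.{u}} (f : X ⟶ Y) [EtCoh.BCCont f] :
    PreservesFiniteLimits (EtCoh.pull f) := by
  have hAB : AB5OfSize.{u, u + 1} AddCommGrpCat.{u + 1} :=
    AB5OfSize_of_univLE.{u, u + 1, u + 1, u + 1} AddCommGrpCat.{u + 1}
  have hfilt : ∀ K : (X.Etale)ᵒᵖ, IsFiltered (CostructuredArrow (EtCoh.bc f).op K) := fun K =>
    IsFiltered.of_equivalence (structuredArrowOpEquivalence (EtCoh.bc f) (unop K))
  have : PreservesFiniteLimits ((EtCoh.bc f).op.lan :
      ((Y.Etale)ᵒᵖ ⥤ AddCommGrpCat.{u + 1}) ⥤ (X.Etale)ᵒᵖ ⥤ AddCommGrpCat.{u + 1}) :=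
    lan_preservesFiniteLimits_of_flat' _ (EtCoh.bc f)
  exact Functor.sheafPullbackConstruction.preservesFiniteLimits (EtCoh.bc f) AddCommGrpCat.{u + 1}
    Y.smallEtaleTopology X.smallEtaleTopology

end Groth.Agent.S0101
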