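import Groth.Statements.S4764
import Groth.Agent.Lib.LimFlat

set_option autoImplicit false
universe u
open CategoryTheory AlgebraicGeometry
open Lim8

namespace Groth.Agent.S4764

/-- Let S = lim S_i be a cofiltered limit of schemes with affine transition maps and let i be an index
such that every transition map S_j ⟶ S_i is flat. Then the canonical projection S ⟶ S_i is flat. -/
theorem result {I : Type u} [SmallCategory I] [IsCofiltered I]
    (D : I ⥤ Scheme.{u}) (c : Limits.Cone D) (hc : Limits.IsLimit c)
    [∀ (i j : I) (f : i ⟶ j), IsAffineHom (D.map f)] (i : I)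
    (hf : ∀ (j : I) (φ : j ⟶ i), Flat (D.map φ)) : Flat (c.π.app i) := by
  have hA : ∀ {i j : I} (f : i ⟶ j), IsAffineHom (D.map f) := fun f => inferInstance
  rw [IsZariskiLocalAtTarget.iff_of_iSup_eq_top (P := @Flat)
    (fun U : (D.obj i).affineOpens => U.1) (iSup_affineOpens_eq_top _)]
  intro U
  have haff : ∀ j : Over i, IsAffine ((opensDiagram D i U.1).obj j) := by
    intro j
    have h0 : IsAffineHom (D.map j.hom) := hA j.hom
    exact U.2.preimage (D.map j.hom)
  have hflat : ∀ (j : Over i) (φ : j ⟶ Over.mk (𝟙 i)),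
      Flat ((opensDiagram D i U.1).map φ) := by
    intro j φ
    have : Flat (D.map φ.left) := hf j.left φ.left
    dsimp [opensDiagram]
    infer_instance
  have key := Groth.Agent.Lib.LimFlat.flat_π_of_isAffine (opensDiagram D i U.1)
    (opensCone D c i U.1) (isLimitOpensCone D c hc i U.1) (Over.mk (𝟙 i)) hflat
  dsimp [opensCone] at key
  rw [← Scheme.Hom.resLE_eq_morphismRestrict]
  have hU : D.map (𝟙 i) ⁻¹ᵁ U.1 = U.1 := by simp
  exact (Scheme.Hom.resLE_congr (c.π.app i) _ hU rfl @Flat).1 key

end Groth.Agent.S4764
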