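import Groth.Statements.S6629

set_option autoImplicit false
open CategoryTheory CategoryTheory.Limits AlgebraicGeometry Opposite
universe u
open EtDesc

namespace Groth.Agent.S6629

section Aux

variable {X Y : Scheme.{u}}

set_option backward.isDefEq.respectTransparency.types false in
/-- Pointwise criterion for covering sieves of the small etale site. -/
lemma mem_smallEtale_iff (W : X.Etale) (R : Sieve W) :
    R ∈ X.smallEtaleTopology W ↔
      ∀ x : W.left, ∃ (Z : X.Etale) (k : Z ⟶ W) (z : Z.left), R k ∧ k.left z = x := by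
  have eX : X.smallEtaleTopology =
      (X.smallPretopology (P := EtCoh.etaleMP) (Q := EtCoh.etaleMP)).toGrothendieck :=
    Scheme.smallGrothendieckTopology_eq_toGrothendieck_smallPretopology X le_rfl
  constructor
  · intro h x
    rw [eX] at h
    obtain ⟨Z, k, z, hk, -, hz⟩ := (Scheme.mem_toGrothendieck_smallPretopology W R).1 h x
    exact ⟨Z, k, z, hk, hz⟩
  · intro h
    rw [eX]
    refine (Scheme.mem_toGrothendieck_smallPretopology W R).2 fun x => ?_
    obtain ⟨Z, k, z, hk, hz⟩ := h x
    exact ⟨Z, k, z, hk, inferInstance, hz⟩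

/-- The empty sieve covers an object with empty underlying space. -/
lemma bot_mem_of_isEmpty (W : X.Etale) [IsEmpty W.left] :
    (⊥ : Sieve W) ∈ X.smallEtaleTopology W := by
  rw [mem_smallEtale_iff]
  intro x
  exact (IsEmpty.false x).elim

/-- Sections of a sheaf over an object with empty underlying space are unique. -/
lemma sect_subsingleton_of_isEmpty (F : Sh X) (W : X.Etale) [IsEmpty W.left] :
    Subsingleton (F.obj.obj (op W)) := by
  constructor
  intro s t
  have hsep := ((isSheaf_iff_isSheaf_of_type _ _).1 F.property).isSeparated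
  refine (hsep _ (bot_mem_of_isEmpty W)).ext ?_
  intro Z k hk
  exact hk.elim

/-- Gluing of sections over a disjoint open-like covering family. -/
lemma glue_disjoint (F : Sh X) (Q : X.Etale) {μ : Type u} (Wa : μ → X.Etale)
    (ia : ∀ a, Wa a ⟶ Q) (hmono : ∀ a, Mono (ia a).left)
    (hdisj : ∀ a b, a ≠ b → Disjoint (Set.range (ia a).left) (Set.range (ia b).left))
    (hcov : ⋃ a, Set.range (ia a).left = Set.univ) (s : ∀ a, F.obj.obj (op (Wa a))) :
    ∃! t : F.obj.obj (op Q), ∀ a, F.obj.map (ia a).op t = s a := by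
  have hmem : Sieve.ofArrows _ ia ∈ X.smallEtaleTopology Q :=
    (Scheme.ofArrows_mem_smallEtaleTopology_iff ia).2 hcov
  have hsh := ((isSheaf_iff_isSheaf_of_type _ _).1 F.property) _ hmem
  have hsh' : Presieve.IsSheafFor F.obj (Presieve.ofArrows _ ia) :=
    (Presieve.isSheafFor_iff_generate _).2 hsh
  refine (Presieve.isSheafFor_arrows_iff _ _).1 hsh' s ?_
  intro a b Z ga gb hab
  by_cases h : a = b
  · subst h
    have : ga = gb := by
      apply MorphismProperty.Over.Hom.ext
      have h1 : ga.left ≫ (ia a).left = gb.left ≫ (ia a).left :=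
        congrArg (fun m => m.left) hab
      exact (cancel_mono (ia a).left).1 h1
    rw [this]
  · have : IsEmpty Z.left := by
      refine ⟨fun z => ?_⟩
      have h1 : (ga.left ≫ (ia a).left) z = (gb.left ≫ (ia b).left) z :=
        congrArg (fun m : Z ⟶ Q => m.left z) hab
      refine Set.disjoint_left.1 (hdisj a b h) ⟨ga.left z, rfl⟩ ⟨gb.left z, ?_⟩
      exact h1.symm
    have := sect_subsingleton_of_isEmpty F Z
    exact Subsingleton.elim _ _

set_option backward.isDefEq.respectTransparency false in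
theorem result_aux (f : X ⟶ Y) (hB : BigSite.PropB f) :
    (EtDesc.pushSh f).PreservesEpimorphisms := by
  refine ⟨fun {F G} a ha => ?_⟩
  rw [← Sheaf.isLocallySurjective_iff_epi] at ha ⊢
  refine ⟨fun {V₁} t => ?_⟩
  rw [mem_smallEtale_iff]
  intro y
  let P := (EtCoh.bc f).obj V₁
  let t' : G.obj.obj (op P) := t
  have hS := Presheaf.imageSieve_mem X.smallEtaleTopology a.hom (U := op P) t'
  rw [mem_smallEtale_iff] at hS
  choose Z k z hk hz using hS
  let σ := pullbackSymmetry V₁.hom f
  obtain ⟨κ, V', v', hv', hsurj, hW⟩ := hB V₁.left V₁.hom P.left (fun x => (Z x).left)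
    (fun x => (k x).left ≫ σ.hom) (fun x => inferInstance) (by
      intro x'
      refine ⟨σ.inv x', z (σ.inv x'), ?_⟩
      rw [Scheme.Hom.comp_apply, hz]
      exact Scheme.inv_hom_apply σ x')
  obtain ⟨j, y', rfl⟩ := hsurj y
  have hvj := hv' j
  let Vj : Y.Etale := Scheme.Etale.mk (v' j ≫ V₁.hom)
  let gj : Vj ⟶ V₁ := MorphismProperty.Over.homMk (v' j) rfl trivial
  refine ⟨Vj, gj, y', ?_, rfl⟩
  obtain ⟨μ, W, hdisj, hsup, hfac⟩ := hW j
  choose xa h hh using hfac
  let Q := (EtCoh.bc f).obj Vj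
  let τ := pullbackSymmetry (v' j ≫ V₁.hom) f
  let Wa : μ → X.Etale := fun a => Scheme.Etale.mk ((W a).ι ≫ τ.inv ≫ Q.hom)
  let ia : ∀ a, Wa a ⟶ Q := fun a =>
    MorphismProperty.Over.homMk ((W a).ι ≫ τ.inv) (Category.assoc _ _ _) trivial
  let bg : pullback (v' j ≫ V₁.hom) f ⟶ pullback V₁.hom f := ((EtCoh.bc f).map gj).left
  have hbg1 : bg ≫ pullback.fst V₁.hom f = pullback.fst (v' j ≫ V₁.hom) f ≫ v' j :=
    (EtCoh.isPullback_bc_map f gj).w
  have hbg2 : bg ≫ pullback.snd V₁.hom f = pullback.snd (v' j ≫ V₁.hom) f :=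
    Over.w ((EtCoh.bc f).map gj).hom
  have hmap : pullback.map f (v' j ≫ V₁.hom) f V₁.hom (𝟙 X) (v' j) (𝟙 Y) (by simp) (by simp) =
      τ.inv ≫ bg ≫ σ.hom := by
    apply pullback.hom_ext
    · simp only [pullback.lift_fst, Category.assoc, Category.comp_id, σ, τ,
        pullbackSymmetry_hom_comp_fst, hbg2, pullbackSymmetry_inv_comp_snd]
    · simp only [pullback.lift_snd, Category.assoc, σ, τ,
        pullbackSymmetry_hom_comp_snd, hbg1, pullbackSymmetry_inv_comp_fst_assoc]
  have e3 : ∀ a, h a ≫ (k (xa a)).left = (W a).ι ≫ τ.inv ≫ bg := fun a => by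
    rw [← cancel_mono σ.hom, Category.assoc, hh a, hmap]
    simp only [Category.assoc]
  have e4 : ∀ a, h a ≫ (Z (xa a)).hom = (Wa a).hom := fun a => by
    have hk' : (k (xa a)).left ≫ P.hom = (Z (xa a)).hom := Over.w (k (xa a)).hom
    rw [← hk', ← Category.assoc, e3 a]
    change ((W a).ι ≫ τ.inv ≫ bg) ≫ pullback.snd V₁.hom f =
      (W a).ι ≫ τ.inv ≫ pullback.snd (v' j ≫ V₁.hom) f
    simp only [Category.assoc, hbg2]
  let ha' : ∀ a, Wa a ⟶ Z (xa a) := fun a => MorphismProperty.Over.homMk (h a) (e4 a) trivial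
  have hkey : ∀ a, ha' a ≫ k (xa a) = ia a ≫ (EtCoh.bc f).map gj := fun a => by
    apply MorphismProperty.Over.Hom.ext
    exact (e3 a).trans (Category.assoc _ _ _).symm
  have hk2 : ∀ x, ∃ s : F.obj.obj (op (Z x)), a.hom.app (op (Z x)) s = G.obj.map (k x).op t' := hk
  choose s₀ hs₀ using hk2
  have hmono : ∀ a, Mono (ia a).left := fun a => by
    change Mono ((W a).ι ≫ τ.inv)
    infer_instance
  have hdisj' : ∀ a b, a ≠ b → Disjoint (Set.range (ia a).left) (Set.range (ia b).left) := by
    intro a b hab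
    rw [Set.disjoint_left]
    rintro _ ⟨p, rfl⟩ ⟨p', hp'⟩
    have h1 : ((W b).ι ≫ τ.inv) p' = ((W a).ι ≫ τ.inv) p := hp'
    have h2 : (W b).ι p' = (W a).ι p := by
      have := congrArg (fun q => τ.hom q) h1
      simpa [Scheme.Hom.comp_apply, Scheme.inv_hom_apply] using this
    have h3 : (W a).ι p ∈ W a ⊓ W b := ⟨p.2, h2 ▸ p'.2⟩
    rw [(disjoint_iff.1 (hdisj a b hab))] at h3
    exact h3
  have hcov : ⋃ a, Set.range (ia a).left = Set.univ := by
    ext q
    simp only [Set.mem_iUnion, Set.mem_range, Set.mem_univ, iff_true]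
    have hq : τ.hom q ∈ (⨆ a, W a) := by rw [hsup]; trivial
    obtain ⟨a, ha⟩ := TopologicalSpace.Opens.mem_iSup.1 hq
    refine ⟨a, ⟨τ.hom q, ha⟩, ?_⟩
    change ((W a).ι ≫ τ.inv) ⟨τ.hom q, ha⟩ = q
    rw [Scheme.Hom.comp_apply]
    exact Scheme.hom_inv_apply τ q
  let s : ∀ a, F.obj.obj (op (Wa a)) := fun a => F.obj.map (ha' a).op (s₀ (xa a))
  obtain ⟨sQ, hsQ, -⟩ := glue_disjoint F Q Wa ia hmono hdisj' hcov s
  refine ⟨sQ, ?_⟩
  change a.hom.app (op Q) sQ = G.obj.map ((EtCoh.bc f).map gj).op t'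
  obtain ⟨u₀, -, hu₀⟩ := glue_disjoint G Q Wa ia hmono hdisj' hcov
    (fun a => G.obj.map (ia a).op (G.obj.map ((EtCoh.bc f).map gj).op t'))
  have h1 : a.hom.app (op Q) sQ = u₀ := by
    apply hu₀
    intro b
    have n1 := ConcreteCategory.congr_hom (a.hom.naturality (ia b).op) sQ
    simp only [types_comp_apply] at n1
    rw [← n1, hsQ b]
    have n2 := ConcreteCategory.congr_hom (a.hom.naturality (ha' b).op) (s₀ (xa b))
    simp only [types_comp_apply] at n2
    change a.hom.app (op (Wa b)) (F.obj.map (ha' b).op (s₀ (xa b))) = _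
    rw [n2, hs₀]
    simp only [← Functor.map_comp_apply, ← op_comp]
    rw [hkey b]
    simp only [op_comp, Functor.map_comp_apply]
    rfl
  have h2 : G.obj.map ((EtCoh.bc f).map gj).op t' = u₀ := hu₀ _ fun b => rfl
  rw [h1, h2]

end Aux

/-- Let f : X ⟶ Y be a morphism of schemes satisfying condition (B) (for every etale V ⟶ Y and every
etale covering of X ×_Y V there is an etale covering of V by schemes V_j such that each X ×_Y V_j is
a disjoint union of open subschemes each mapping into X ×_Y V through a member of the given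
covering). Then the direct image of sheaves of sets on the small etale sites along f sends
epimorphisms to epimorphisms. -/
theorem result {X Y : Scheme.{u}} (f : X ⟶ Y) (hB : BigSite.PropB f) :
    (EtDesc.pushSh f).PreservesEpimorphisms :=
  result_aux f hB

end Groth.Agent.S6629
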