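import Groth.Statements.S0108
import Groth.Agent.Lib.EtRootCover

set_option autoImplicit false
open CategoryTheory CategoryTheory.Limits AlgebraicGeometry Opposite
universe u
open EtBase

namespace Groth.Agent.S0108

open Groth.Agent.Lib.EtRootCover Polynomial

/-- the Kummer standard etale pair `(T^n - a, n T^(n-1))` -/
noncomputable def kummerPair {R : Type u} [CommRing R] (n : ℕ) (hn : n ≠ 0) (a : R) :
    StandardEtalePair R where
  f := X ^ n - C a
  monic_f := monic_X_pow_sub_C a hn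
  g := C (n : R) * X ^ (n - 1)
  cond := ⟨1, 0, 1, by simp [derivative_X_pow]⟩

/-- The Kummer sequence — when n is invertible on S, the n-th power map on the multiplicative group
sheaf is an epimorphism of étale sheaves (its kernel μ_n is, by definition in the prelude, the sheaf
of n-th roots of unity, so the sequence 0 → μ_n → G_m → G_m → 0 is exact). -/
theorem result (S : Scheme.{u}) (n : ℕ) (hn : IsUnit (n : Γ(S, ⊤))) : Epi (EtCoh.powMap S n) := by
  apply epi_of_forall_exists_lift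
  intro V a v
  obtain ⟨R, ι, hι, 𝔭, rfl⟩ := exists_affine_nbhd V v
  -- the ring homomorphisms `Γ(S) → Γ(V) → R`
  let ρ : Γ(V.left, ⊤) →+* R := (Scheme.ΓSpecIso R).hom.hom.comp ι.appTop.hom
  let σ : Γ(S, ⊤) →+* R := ρ.comp V.hom.appTop.hom
  have hnR : IsUnit ((n : ℕ) : R) := by
    have := hn.map σ
    rwa [map_natCast] at this
  have : Nontrivial R := ⟨⟨0, 1, fun h => 𝔭.isPrime.ne_top ((Ideal.eq_top_iff_one _).2
    (h ▸ 𝔭.asIdeal.zero_mem))⟩⟩
  have hn0 : n ≠ 0 := by
    rintro rfl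
    simp at hnR
  -- the unit
  let a0 : (Γ(V.left, ⊤))ˣ := Additive.toMul a.down
  let aR : Rˣ := Units.map ρ.toMonoidHom a0
  let P : StandardEtalePair R := kummerPair n hn0 (aR : R)
  -- a root in the separable closure of the residue field
  let ψ : R →+* SeparableClosure 𝔭.asIdeal.ResidueField := sepPt 𝔭
  have hψn : ((n : ℕ) : SeparableClosure 𝔭.asIdeal.ResidueField) ≠ 0 := by
    have := hnR.map ψ
    rw [map_natCast] at this
    exact this.ne_zero
  have hψa : ψ (aR : R) ≠ 0 := (aR.isUnit.map ψ).ne_zero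
  have hdeg : (X ^ n - C (ψ (aR : R))).degree ≠ 0 := by
    rw [degree_X_pow_sub_C (Nat.pos_of_ne_zero hn0)]
    exact_mod_cast hn0
  obtain ⟨ω, hω⟩ := IsSepClosed.exists_root (X ^ n - C (ψ (aR : R))) hdeg
    (separable_X_pow_sub_C (ψ (aR : R)) hψn hψa)
  have hωn : ω ^ n = ψ (aR : R) := by
    have : eval ω (X ^ n - C (ψ (aR : R))) = 0 := hω
    simpa [sub_eq_zero] using this
  have hω0 : ω ≠ 0 := by
    rintro rfl
    rw [zero_pow hn0] at hωn
    exact hψa hωn.symm
  have hmap : letI := ψ.toAlgebra; P.HasMap ω := by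
    let _ := ψ.toAlgebra
    refine ⟨?_, ?_⟩
    · show aeval ω (X ^ n - C (aR : R)) = 0
      have : algebraMap R (SeparableClosure 𝔭.asIdeal.ResidueField) (aR : R) = ψ (aR : R) := rfl
      simp [hωn, this]
    · show IsUnit (aeval ω (C ((n : ℕ) : R) * X ^ (n - 1)))
      have : algebraMap R (SeparableClosure 𝔭.asIdeal.ResidueField) ((n : ℕ) : R) =
          ((n : ℕ) : SeparableClosure 𝔭.asIdeal.ResidueField) := map_natCast ψ n
      simp only [map_mul, aeval_C, map_pow, aeval_X, this]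
      exact (mul_ne_zero hψn (pow_ne_zero _ hω0)).isUnit
  obtain ⟨w, hw⟩ := exists_point_rootCover V ι P 𝔭 ω hmap
  -- `P.X` is a unit with `P.X ^ n = a`
  have hXn : P.X ^ n = algebraMap R P.Ring (aR : R) := by
    have h : aeval P.X (X ^ n - C (aR : R)) = 0 := P.hasMap_X.1
    simpa [sub_eq_zero] using h
  have hXu : IsUnit P.X := by
    have : IsUnit (P.X ^ n) := by
      rw [hXn]
      exact aR.isUnit.map _
    exact (isUnit_pow_iff hn0).1 this
  let bu : (Γ((rootCover V ι P).left, ⊤))ˣ :=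
    Units.map (Scheme.ΓSpecIso (CommRingCat.of P.Ring)).inv.hom.toMonoidHom hXu.unit
  let b : EtCoh.sect (EtCoh.Gm S) (rootCover V ι P) := ⟨Additive.ofMul bu⟩
  refine ⟨rootCover V ι P, rootCoverHom V ι P, b, ⟨w, hw⟩, ?_⟩
  -- the equation
  have hR : (EtCoh.Gm S).obj.map (rootCoverHom V ι P).op a =
      ⟨Additive.ofMul (Units.map (rootCoverHom V ι P).left.appTop.hom.toMonoidHom a0)⟩ := rfl
  have hL : (EtCoh.powMap S n).hom.app (op (rootCover V ι P)) b = ⟨Additive.ofMul (bu ^ n)⟩ := by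
    unfold EtCoh.powMap
    rfl
  rw [hR, hL]
  congr 2
  apply Units.ext
  show ((Scheme.ΓSpecIso (CommRingCat.of P.Ring)).inv.hom P.X) ^ n =
    (rootCoverHom V ι P).left.appTop.hom (a0 : Γ(V.left, ⊤))
  have h1 := rootCoverHom_appTop V ι P (a0 : Γ(V.left, ⊤))
  refine Eq.trans ?_ h1.symm
  rw [← map_pow, hXn]
  rfl

end Groth.Agent.S0108
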