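import Groth.Statements.S13802
-- import your own Groth.Agent.* helpers here
import Groth.Agent.Lib.EtaPtStruct

set_option autoImplicit false
universe u
open EtaPt

namespace Groth.Agent.S13802

/-- For a commutative ring A with finitely many minimal prime ideals, the canonical map q_A from A to
the pointwise ring M_η(A) is integral. Here η is a natural transformation from the identity of the
category of fields to an endofunctor F with F(η_K) bijective and η_K purely inseparable for every
field K, N_η(A) is the product of the F(k(p)) over the primes p of A with diagonal map t_A, and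
M_η(A) ⊆ N_η(A) is the subring of elements sent into the range of t_R by every ring map from A to a
valuation ring R at whose fraction field η is bijective; q_A : A → M_η(A) is the corestriction of
t_A. -/
theorem result (η : EtaPt.FieldEndo.{u}) (A : Type u) [CommRing A]
    (hA : (minimalPrimes A).Finite) : (η.q A).IsIntegral := by
  classical
  intro x
  -- for each prime, a monic polynomial killing the component
  have hint : ∀ p : PrimeSpectrum A, ∃ P : Polynomial A, P.Monic ∧
      Polynomial.eval₂ ((η.eta p.asIdeal.ResidueField).comp
        (algebraMap A p.asIdeal.ResidueField)) ((x : η.N A) p) P = 0 :=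
    fun p => Groth.Agent.Lib.EtaPtStruct.isIntegralElem_of_mem_M η x.2 p
  choose P hPm hP using hint
  -- index over minimal primes
  let Q : Ideal A → Polynomial A := fun I =>
    if h : I.IsPrime then P ⟨I, h⟩ else 1
  have hQm : ∀ I, (Q I).Monic := by
    intro I
    by_cases h : I.IsPrime
    · simp only [Q, dif_pos h]; exact hPm _
    · simp only [Q, dif_neg h]; exact Polynomial.monic_one
  refine ⟨∏ I ∈ hA.toFinset, Q I, Polynomial.monic_prod_of_monic _ _ (fun I _ => hQm I), ?_⟩
  apply Subtype.ext
  apply Groth.Agent.Lib.EtaPtStruct.eq_zero_of_minimalPrimes η (SetLike.coe_mem _)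
  intro p hp
  let g : η.M A →+* η.obj p.asIdeal.ResidueField :=
    (Pi.evalRingHom (fun p : PrimeSpectrum A => η.obj p.asIdeal.ResidueField) p).comp (η.M A).subtype
  change g (Polynomial.eval₂ (η.q A) x _) = 0
  rw [Polynomial.hom_eval₂, Polynomial.eval₂_finsetProd]
  apply Finset.prod_eq_zero (i := p.asIdeal) (hA.mem_toFinset.mpr hp)
  have hQ : Q p.asIdeal = P p := by
    simp only [Q, dif_pos p.isPrime]
  rw [hQ]
  exact hP p

end Groth.Agent.S13802
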