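import Groth.Statements.S1426
import Groth.Agent.Lib.H59Weight

set_option autoImplicit false
universe u
open FlatMor

namespace Groth.Agent.S1426

open AlgebraicGeometry CategoryTheory Limits in
/-- Let f : X → Y be a morphism of schemes which is separated, locally of finite type and locally
quasi-finite with finite fibres (finite fibres are assumed so that the fibre integral is a finite
sum), and let w be a weighting of f with w(x) > 0 for all x. Then the fibre integral of w along f is
a lower semicontinuous function on Y. -/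
theorem result {X Y : Scheme.{u}} (f : X ⟶ Y) [LocallyQuasiFinite f] [LocallyOfFiniteType f] [IsSeparated f] (hfin : ∀ y : Y, (f ⁻¹' {y}).Finite)
    (w : ↑X → ℤ) (hw : MoreMor.IsWeighting f w) (hpos : ∀ x, 0 < w x) :
    LowerSemicontinuous (MoreMor.fibreIntegral f w) := by
  intro y₀ c hc
  obtain ⟨E, e, ε, N, he, heε, hN, hεN, U, hU, hconst⟩ :=
    Groth.Agent.Lib.H59Weight.exists_etale_const f hfin w hw y₀
  have hopen : IsOpen (e '' N) := e.isOpenMap _ hN
  refine Filter.mem_of_superset (hopen.mem_nhds ⟨ε, hεN, heε⟩) ?_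
  rintro _ ⟨ε', hε', rfl⟩
  change c < MoreMor.fibreIntegral f w (e ε')
  rw [Groth.Agent.Lib.H59Weight.fibreIntegral_eq_J_pullback f hfin w e ε']
  have hfib : {z : ↑(pullback f e) | pullback.snd f e z = ε' ∧ z ∈ Set.univ}.Finite := by
    have := Groth.Agent.Lib.H59FibInt.finite_fibre_of_isPullback (IsPullback.of_hasPullback f e) ε'
      (hfin (e ε'))
    refine this.subset ?_
    rintro z ⟨hz, -⟩
    exact hz
  calc c < MoreMor.fibreIntegral f w y₀ := hc
    _ = _ := (hconst ε' hε').symm
    _ ≤ _ := Groth.Agent.Lib.H59FibInt.J_mono _ _ ε' (fun z => (hpos _).le)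
      (fun _ _ _ => Set.mem_univ _) hfib

end Groth.Agent.S1426
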