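import Groth.Statements.S7517
import Groth.Agent.Lib.GrpTopBC45
import Groth.Agent.Lib.GeomDescent

set_option autoImplicit false
universe u
open CategoryTheory MonoidalCategory CartesianMonoidalCategory MonObj GrpObj AlgebraicGeometry
open GrpSch
open CategoryTheory.Limits Groth.Agent.Lib.GrpTopPts45 Groth.Agent.Lib.GrpTopBC45 Groth.Agent.Lib.UniqueComp45

namespace Groth.Agent.S7517

/-- Let G be a group scheme over a field k and Z the irreducible component of G passing through the
identity e (there is exactly one). Then Z is geometrically irreducible over k: for any closed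
immersion incl : Z -> G from an irreducible scheme whose image is an irreducible component of G
containing e, the composite Z -> G -> Spec k is geometrically irreducible. (Parts (1) and (2) of the
source are not stated here.) -/
theorem result (K : Type u) [Field K] (G : Over (Spec (CommRingCat.of K))) [GrpObj G] (Z : Scheme.{u}) (incl : Z ⟶ G.left) [IsClosedImmersion incl] [IrreducibleSpace Z] (hZ : Set.range ⇑incl ∈ irreducibleComponents ↥G.left) (he : η[G].left (IsLocalRing.closedPoint K) ∈ Set.range ⇑incl) : GeometricallyIrreducible (incl ≫ G.hom) := by
  let hG : GrpObj (Over.mk G.hom) := ‹GrpObj G›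
  have hr : Set.range incl = irreducibleComponent (unitPt (Over.mk G.hom)) :=
    (uniqueComp G.hom _).eq_irreducibleComponent hZ he
  have hirr : IrreducibleSpace ↥(pullback (incl ≫ G.hom) (gbar K)) := by
    let e := pullbackRightPullbackFstIso G.hom (gbar K) incl
    rw [← e.hom.homeomorph.irreducibleSpace_iff]
    have hcl : IsClosedImmersion (pullback.snd incl (pbar G.hom)) := inferInstance
    have hemb : Topology.IsEmbedding (pullback.snd incl (pbar G.hom)) :=
      (pullback.snd incl (pbar G.hom)).isClosedEmbedding.isEmbedding
    have hrange : Set.range (pullback.snd incl (pbar G.hom)) =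
        irreducibleComponent (unitPt (Over.mk (pullback.snd G.hom (gbar K)))) := by
      rw [Scheme.Pullback.range_snd, hr, preimage_unitComp]
    have h2 : IrreducibleSpace (Set.range (pullback.snd incl (pbar G.hom))) :=
      Subtype.irreducibleSpace (hrange ▸ isIrreducible_irreducibleComponent)
    exact hemb.toHomeomorph.irreducibleSpace_iff.mpr h2
  have h1 := Groth.Agent.Lib.AlgClosedGeom.geometricallyIrreducible_of_irreducibleSpace
    (pullback.snd (incl ≫ G.hom) (gbar K))
  refine ⟨Groth.Agent.Lib.GeomDescent.geometrically_of_pullback_snd_of_surjective _ ?_ _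
    (gbar K) h1.1⟩
  intro W Z' p hp hW
  have hW' : IrreducibleSpace ↥W := hW
  exact p.surjective.irreducibleSpace p.continuous

end Groth.Agent.S7517
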