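import Groth.Statements.S13199
import Groth.Agent.Lib.GeomUnibranchSmooth61
import Groth.Agent.Lib.GeomUnibranchEquiv96
import Groth.Agent.Lib.HenselQFLocalization61
import Groth.Agent.Lib.H30NormalSmooth

set_option autoImplicit false
universe u
open Hensel

namespace Groth.Agent.S13199

/-- Let R be a Noetherian integral domain which is a strictly henselian local ring (henselian with
separably closed residue field), R' a smooth R-algebra and p a prime ideal of R' lying over the
maximal ideal of R (that is, containing its image). Then the local ring R'_p is an integral domain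
and is geometrically unibranch: the integral closure of R'_p in its fraction field is a local ring
whose residue field is purely inseparable over that of R'_p. (The published statement concludes that
every strict henselization of R'_p is an integral domain; for a local ring this is equivalent to
being an integral domain which is geometrically unibranch, the conclusion stated here.) -/
theorem result
    (R R' : Type u) [CommRing R] [IsDomain R] [IsNoetherianRing R] [HenselianLocalRing R]
    [IsSepClosed (IsLocalRing.ResidueField R)]
    [CommRing R'] [Algebra R R'] [Algebra.Smooth R R']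
    (p : Ideal R') [p.IsPrime] (hp : (IsLocalRing.maximalIdeal R).map (algebraMap R R') ≤ p) :
    IsDomain (Localization.AtPrime p) ∧ CAlg2.IsGeomUnibranch (Localization.AtPrime p) := by
  -- `R` is geometrically unibranch
  have hself : Hensel.IsStrictHenselization R R :=
    Groth.Agent.Lib.HenselQFLocalization61.isStrictHenselization_self R
  have hGUR : CAlg2.IsGeomUnibranch R := by
    rw [Groth.Agent.S2135.result (A := R) (Ash := R)]
    refine ⟨⊥, ?_, ?_⟩
    · rw [IsDomain.minimalPrimes_eq_singleton_bot]
      rfl
    · intro q hq
      rw [IsDomain.minimalPrimes_eq_singleton_bot] at hq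
      exact hq
  -- the prime `p` lies over the maximal ideal
  have hpq : p.comap (algebraMap R R') = IsLocalRing.maximalIdeal R := by
    have hle : IsLocalRing.maximalIdeal R ≤ p.comap (algebraMap R R') :=
      Ideal.map_le_iff_le_comap.mp hp
    exact ((IsLocalRing.maximalIdeal.isMaximal R).eq_of_le
      (Ideal.comap_ne_top _ (Ideal.IsPrime.ne_top ‹p.IsPrime›)) hle).symm
  -- `R ≃ R_m`
  let e : R ≃ₐ[R] Localization.AtPrime (IsLocalRing.maximalIdeal R) :=
    IsLocalization.atUnits R (IsLocalRing.maximalIdeal R).primeCompl (by
      intro x hx
      exact (IsLocalRing.notMem_maximalIdeal.mp hx))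
  have hGUm : CAlg2.IsGeomUnibranch (Localization.AtPrime (IsLocalRing.maximalIdeal R)) :=
    (Groth.Agent.Lib.GeomUnibranchEquiv96.isGeomUnibranch_iff_of_ringEquiv
      e.toRingEquiv).mp hGUR
  have hGUp : CAlg2.IsGeomUnibranch (Localization.AtPrime p) :=
    Groth.Agent.Lib.GeomUnibranchSmooth61.isGeomUnibranch_atPrime_of_smooth R R' p
      ((Groth.Agent.Lib.H80PolyGU.isGeomUnibranch_atPrime_congr hpq).mpr hGUm)
  refine ⟨?_, hGUp⟩
  -- domain: reduced + prime nilradical
  have hdomm : IsDomain (Localization.AtPrime (IsLocalRing.maximalIdeal R)) :=
    IsLocalization.isDomain_localization (IsLocalRing.maximalIdeal R).primeCompl_le_nonZeroDivisors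
  have hred : IsReduced (Localization.AtPrime p) :=
    Groth.Agent.Lib.H30NormalSmooth.isReduced_of_smooth_atPrime R R' p (IsLocalRing.maximalIdeal R)
      hpq (Localization.AtPrime (IsLocalRing.maximalIdeal R)) (Localization.AtPrime p)
  have hN : (nilradical (Localization.AtPrime p)).IsPrime :=
    (Ideal.Quotient.isDomain_iff_prime _).mp hGUp.1.1
  rw [nilradical_eq_zero] at hN
  have hbot : (⊥ : Ideal (Localization.AtPrime p)).IsPrime := hN
  exact IsDomain.of_bot_isPrime _

end Groth.Agent.S13199
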