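import Groth.Statements.S17730
import Groth.Agent.Lib.StrictHensPrime61
import Groth.Agent.Lib.StrictHenselizationProps

set_option autoImplicit false
universe u
open Hensel

namespace Groth.Agent.S17730

open IsLocalRing in
/-- Let R be a Noetherian local ring which is strictly henselian (henselian with separably closed
residue field), Δ a prime element of R, R' a smooth R-algebra, q a prime ideal of R' containing the
image of the maximal ideal of R, and T a strict henselization of the localization R'_q. Then the
image of Δ in T is a prime element of T. (This is the published statement, that a prime element of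
the étale local ring of the base at a geometric point remains prime in the étale local ring of a
smooth scheme over it at a geometric point above, written for the base the spectrum of R; the
published hypothesis that the base be smooth-factorial, meaning that all its smooth schemes are
locally factorial, is not used by the argument and is omitted; R is taken Noetherian, which the
published statement does not state and the argument requires.) -/
theorem result
    (R R' T : Type u) [CommRing R] [IsNoetherianRing R] [HenselianLocalRing R]
    [IsSepClosed (ResidueField R)]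
    [CommRing R'] [Algebra R R'] [Algebra.Smooth R R']
    (q : Ideal R') [q.IsPrime] (hq : (maximalIdeal R).map (algebraMap R R') ≤ q)
    [CommRing T] [IsLocalRing T] [Algebra (Localization.AtPrime q) T]
    [IsLocalHom (algebraMap (Localization.AtPrime q) T)]
    [Hensel.IsStrictHenselization (Localization.AtPrime q) T]
    (Δ : R) (hΔ : Prime Δ) :
    Prime (algebraMap (Localization.AtPrime q) T
      (algebraMap R' (Localization.AtPrime q) (algebraMap R R' Δ))) := by
  classical
  have hΔm : Δ ∈ maximalIdeal R := (mem_maximalIdeal _).mpr hΔ.not_isUnit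
  have hIprime : (Ideal.span {Δ} : Ideal R).IsPrime :=
    (Ideal.span_singleton_prime hΔ.ne_zero).mpr hΔ
  have hIm : (Ideal.span {Δ} : Ideal R) ≤ maximalIdeal R :=
    (Ideal.span_singleton_le_iff_mem _).mpr hΔm
  have hIBq : (Ideal.span {Δ} : Ideal R).map (algebraMap R R') ≤ q :=
    (Ideal.map_mono hIm).trans hq
  -- the quotient `D = R / Δ`
  have hDhens : HenselianLocalRing (R ⧸ (Ideal.span {Δ} : Ideal R)) :=
    Groth.Agent.Lib.HenselizationUP.henselianLocalRing_of_surjective
      (Ideal.Quotient.mk (Ideal.span {Δ} : Ideal R)) Ideal.Quotient.mk_surjective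
  have hloc : IsLocalHom (Ideal.Quotient.mk (Ideal.span {Δ} : Ideal R)) :=
    IsLocalHom.of_surjective _ Ideal.Quotient.mk_surjective
  have hsc : IsSepClosed (ResidueField (R ⧸ (Ideal.span {Δ} : Ideal R))) :=
    Groth.Agent.Lib.StrictHensQuot96.isSepClosed_of_ringEquiv
      (RingEquiv.ofBijective _
        (Groth.Agent.Lib.StrictHensQuot96.residueFieldMap_bijective_of_surjective
          (Ideal.Quotient.mk (Ideal.span {Δ} : Ideal R)) Ideal.Quotient.mk_surjective))
  have hsm : Algebra.Smooth (R ⧸ (Ideal.span {Δ} : Ideal R))
      (R' ⧸ (Ideal.span {Δ} : Ideal R).map (algebraMap R R')) :=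
    Algebra.Smooth.of_equiv
      (Algebra.TensorProduct.quotIdealMapEquivQuotTensor R' (Ideal.span {Δ} : Ideal R)).symm
  have hqb : (q.map (Ideal.Quotient.mk
      ((Ideal.span {Δ} : Ideal R).map (algebraMap R R')))).IsPrime :=
    Ideal.map_isPrime_of_surjective Ideal.Quotient.mk_surjective
      (by rw [Ideal.mk_ker]; exact hIBq)
  have hqb_le : (maximalIdeal (R ⧸ (Ideal.span {Δ} : Ideal R))).map
      (algebraMap (R ⧸ (Ideal.span {Δ} : Ideal R))
        (R' ⧸ (Ideal.span {Δ} : Ideal R).map (algebraMap R R'))) ≤
      q.map (Ideal.Quotient.mk ((Ideal.span {Δ} : Ideal R).map (algebraMap R R'))) := by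
    rw [Ideal.map_le_iff_le_comap]
    intro x hx
    obtain ⟨r, rfl⟩ := Ideal.Quotient.mk_surjective x
    have hr : r ∈ maximalIdeal R := by
      rw [mem_maximalIdeal] at hx ⊢
      intro hru
      exact hx (hru.map _)
    rw [Ideal.mem_comap]
    have : algebraMap (R ⧸ (Ideal.span {Δ} : Ideal R))
        (R' ⧸ (Ideal.span {Δ} : Ideal R).map (algebraMap R R'))
        (Ideal.Quotient.mk _ r) = Ideal.Quotient.mk _ (algebraMap R R' r) := rfl
    rw [this]
    exact Ideal.mem_map_of_mem _ (hq (Ideal.mem_map_of_mem _ hr))
  obtain ⟨hdom, hGU⟩ := Groth.Agent.S13199.result (R ⧸ (Ideal.span {Δ} : Ideal R))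
    (R' ⧸ (Ideal.span {Δ} : Ideal R).map (algebraMap R R'))
    (q.map (Ideal.Quotient.mk ((Ideal.span {Δ} : Ideal R).map (algebraMap R R')))) hqb_le
  -- the localization of the quotient is the quotient of the localization
  have hsub : Algebra.algebraMapSubmonoid
      (R' ⧸ (Ideal.span {Δ} : Ideal R).map (algebraMap R R')) q.primeCompl =
      (q.map (Ideal.Quotient.mk
        ((Ideal.span {Δ} : Ideal R).map (algebraMap R R')))).primeCompl := by
    ext y
    constructor
    · rintro ⟨a, ha, rfl⟩
      intro hmem
      exact ha ((Ideal.mem_quotient_iff_mem hIBq).mp hmem)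
    · intro hy
      obtain ⟨a, rfl⟩ := Ideal.Quotient.mk_surjective y
      refine ⟨a, ?_, rfl⟩
      intro ha
      exact hy (Ideal.mem_map_of_mem _ ha)
  have h1 : IsLocalization (Algebra.algebraMapSubmonoid
      (R' ⧸ (Ideal.span {Δ} : Ideal R).map (algebraMap R R')) q.primeCompl)
      (Localization.AtPrime q ⧸ ((Ideal.span {Δ} : Ideal R).map (algebraMap R R')).map
        (algebraMap R' (Localization.AtPrime q))) := inferInstance
  rw [hsub] at h1
  have h2 : IsLocalization.AtPrime
      (Localization.AtPrime q ⧸ ((Ideal.span {Δ} : Ideal R).map (algebraMap R R')).map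
        (algebraMap R' (Localization.AtPrime q)))
      (q.map (Ideal.Quotient.mk ((Ideal.span {Δ} : Ideal R).map (algebraMap R R')))) := h1
  let e : Localization.AtPrime
      (q.map (Ideal.Quotient.mk ((Ideal.span {Δ} : Ideal R).map (algebraMap R R')))) ≃ₐ[
      R' ⧸ (Ideal.span {Δ} : Ideal R).map (algebraMap R R')]
      (Localization.AtPrime q ⧸ ((Ideal.span {Δ} : Ideal R).map (algebraMap R R')).map
        (algebraMap R' (Localization.AtPrime q))) :=
    IsLocalization.algEquiv (q.map (Ideal.Quotient.mk
      ((Ideal.span {Δ} : Ideal R).map (algebraMap R R')))).primeCompl _ _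
  have hlocQ : IsLocalRing (Localization.AtPrime q ⧸
      ((Ideal.span {Δ} : Ideal R).map (algebraMap R R')).map
        (algebraMap R' (Localization.AtPrime q))) := e.toRingEquiv.isLocalRing
  have hred : IsReduced (Localization.AtPrime q ⧸
      ((Ideal.span {Δ} : Ideal R).map (algebraMap R R')).map
        (algebraMap R' (Localization.AtPrime q))) :=
    isReduced_of_injective e.symm.toRingEquiv.toRingHom e.symm.injective
  have hGU' : CAlg2.IsGeomUnibranch (Localization.AtPrime q ⧸
      ((Ideal.span {Δ} : Ideal R).map (algebraMap R R')).map
        (algebraMap R' (Localization.AtPrime q))) :=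
    (Groth.Agent.Lib.GeomUnibranchEquiv96.isGeomUnibranch_iff_of_ringEquiv
      e.symm.toRingEquiv).mpr hGU
  have hprime := Groth.Agent.Lib.StrictHensPrime61.isPrime_map_of_isStrictHenselization
    (Localization.AtPrime q) T
    (((Ideal.span {Δ} : Ideal R).map (algebraMap R R')).map
      (algebraMap R' (Localization.AtPrime q))) hred hGU'
  rw [Ideal.map_span, Set.image_singleton, Ideal.map_span, Set.image_singleton, Ideal.map_span,
    Set.image_singleton] at hprime
  -- injectivity of `R → T`
  have hflat1 : Module.Flat R (Localization.AtPrime q) :=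
    have : Module.Flat R' (Localization.AtPrime q) := IsLocalization.flat _ q.primeCompl
    Module.Flat.trans R R' (Localization.AtPrime q)
  have hlocRL : IsLocalHom (algebraMap R (Localization.AtPrime q)) := by
    refine ⟨fun a ha => ?_⟩
    by_contra hau
    have ham : a ∈ maximalIdeal R := (mem_maximalIdeal _).mpr hau
    have haq : algebraMap R R' a ∈ q := hq (Ideal.mem_map_of_mem _ ham)
    rw [IsScalarTower.algebraMap_apply R R' (Localization.AtPrime q)] at ha
    have : algebraMap R' (Localization.AtPrime q) (algebraMap R R' a) ∈
        maximalIdeal (Localization.AtPrime q) :=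
      (IsLocalization.AtPrime.to_map_mem_maximal_iff (Localization.AtPrime q) q _).mpr haq
    exact (mem_maximalIdeal _).mp this ha
  have hff1 : Module.FaithfullyFlat R (Localization.AtPrime q) :=
    Module.FaithfullyFlat.of_flat_of_isLocalHom
  have hff2 : Module.FaithfullyFlat (Localization.AtPrime q) T :=
    Groth.Agent.Lib.StrictHenselization.faithfullyFlat_of_isStrictHenselization _ T
  have hinj1 : Function.Injective (algebraMap R (Localization.AtPrime q)) :=
    FaithfulSMul.algebraMap_injective R (Localization.AtPrime q)
  have hinj2 : Function.Injective (algebraMap (Localization.AtPrime q) T) :=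
    FaithfulSMul.algebraMap_injective (Localization.AtPrime q) T
  have hne : algebraMap (Localization.AtPrime q) T
      (algebraMap R' (Localization.AtPrime q) (algebraMap R R' Δ)) ≠ 0 := by
    intro h0
    rw [← IsScalarTower.algebraMap_apply R R' (Localization.AtPrime q)] at h0
    exact hΔ.ne_zero (hinj1 (hinj2 (by rw [h0, map_zero, map_zero])))
  exact (Ideal.span_singleton_prime hne).mp hprime

end Groth.Agent.S17730
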