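import Groth.Statements.S9460
import Groth.Agent.Lib.StrictHenselizationEpi61

set_option autoImplicit false
universe u
open Hensel

namespace Groth.Agent.S9460

section aux

open TensorProduct IsLocalRing

variable (R : Type u) [CommRing R] (S : Type u) [CommRing S] [Algebra R S]
    (Rh : Type u) [CommRing Rh] [Algebra R Rh]
    (Sh : Type u) [CommRing Sh] [Algebra S Sh] [Algebra R Sh] [IsScalarTower R S Sh]
    [Algebra Rh Sh] [IsScalarTower R Rh Sh]

/-- The canonical map `Rh ⊗[R] S → Sh`. -/
noncomputable abbrev phi : Rh ⊗[R] S →ₐ[R] Sh :=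
  Algebra.TensorProduct.lift (IsScalarTower.toAlgHom R Rh Sh) (IsScalarTower.toAlgHom R S Sh)
    (fun _ _ => Commute.all _ _)

theorem phi_tmul (x : Rh) (s : S) :
    phi R S Rh Sh (x ⊗ₜ[R] s) = algebraMap Rh Sh x * algebraMap S Sh s := by
  simp [phi]

variable [IsLocalRing Sh]

/-- The prime `Q`. -/
noncomputable abbrev Q : Ideal (Rh ⊗[R] S) := Ideal.comap (phi R S Rh Sh) (maximalIdeal Sh)

theorem isUnit_phi (y : (Q R S Rh Sh).primeCompl) : IsUnit (phi R S Rh Sh (y : Rh ⊗[R] S)) := by
  have := y.2
  by_contra h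
  exact this h

/-- The induced map `(Rh ⊗[R] S)_Q → Sh`. -/
noncomputable def Phi : Localization.AtPrime (Q R S Rh Sh) →+* Sh :=
  IsLocalization.lift (M := (Q R S Rh Sh).primeCompl) (g := (phi R S Rh Sh).toRingHom)
    (isUnit_phi R S Rh Sh)

theorem Phi_algebraMap (d : Rh ⊗[R] S) :
    Phi R S Rh Sh (algebraMap _ _ d) = phi R S Rh Sh d :=
  IsLocalization.lift_eq _ d

theorem isLocalHom_Phi : IsLocalHom (Phi R S Rh Sh) := by
  refine ⟨fun x hx => ?_⟩
  obtain ⟨d, s, rfl⟩ := IsLocalization.exists_mk'_eq (Q R S Rh Sh).primeCompl x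
  have h1 : Phi R S Rh Sh (IsLocalization.mk' _ d s) * phi R S Rh Sh (s : Rh ⊗[R] S)
      = phi R S Rh Sh d := by
    rw [← Phi_algebraMap, ← Phi_algebraMap, ← map_mul, IsLocalization.mk'_spec]
  have h2 : IsUnit (phi R S Rh Sh d) := by
    rw [← h1]; exact hx.mul (isUnit_phi R S Rh Sh s)
  have h3 : d ∈ (Q R S Rh Sh).primeCompl := fun hd => hd h2
  have h4 : IsUnit (algebraMap _ (Localization.AtPrime (Q R S Rh Sh)) d) :=
    IsLocalization.map_units _ (⟨d, h3⟩ : (Q R S Rh Sh).primeCompl)
  have h5 : (IsLocalization.mk' (Localization.AtPrime (Q R S Rh Sh)) d s)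
      * algebraMap _ _ (s : Rh ⊗[R] S) = algebraMap _ _ d := IsLocalization.mk'_spec _ d s
  exact isUnit_of_mul_isUnit_left (h5 ▸ h4)

variable (q : Ideal S) [q.IsPrime] [Algebra (Localization.AtPrime q) Sh]
    [IsLocalHom (algebraMap (Localization.AtPrime q) Sh)]
    [IsScalarTower S (Localization.AtPrime q) Sh]

theorem comap_includeRight :
    q = (Q R S Rh Sh).comap
      (Algebra.TensorProduct.includeRight (R := R) (A := Rh) (B := S)).toRingHom := by
  ext x
  simp only [Ideal.mem_comap, AlgHom.toRingHom_eq_coe, RingHom.coe_coe,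
    Algebra.TensorProduct.includeRight_apply]
  rw [phi_tmul, map_one, one_mul, IsScalarTower.algebraMap_apply S (Localization.AtPrime q) Sh,
    ← Ideal.mem_comap, IsLocalRing.maximalIdeal_comap,
    IsLocalization.AtPrime.to_map_mem_maximal_iff _ q]

end aux

open TensorProduct in
/-- Let R → S be a ring map, q a prime of S over p, and R^{sh}, S^{sh} strict henselizations of R_p and
S_q, S^{sh} carrying a compatible R^{sh}-algebra structure (a map R^{sh} → S^{sh} over R; these
correspond to the embeddings of separable closures in the published statement). Let φ : R^{sh} ⊗_R S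
→ S^{sh} be the induced map and Q the preimage under φ of the maximal ideal (a prime over the
maximal ideal of R^{sh} and over q). Then S^{sh} is a strict henselization of (R^{sh} ⊗_R S)_Q:
every strict henselization E of that local ring admits a ring isomorphism E ≅ S^{sh} compatible with
the two maps from R^{sh} ⊗_R S. -/
theorem result (R : Type u) [CommRing R]
    (S : Type u) [CommRing S] [Algebra R S] (p : Ideal R) [p.IsPrime] (q : Ideal S) [q.IsPrime]
    [q.LiesOver p]
    (Rh : Type u) [CommRing Rh] [IsLocalRing Rh] [Algebra (Localization.AtPrime p) Rh]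
    [IsLocalHom (algebraMap (Localization.AtPrime p) Rh)]
    [Hensel.IsStrictHenselization (Localization.AtPrime p) Rh] [Algebra R Rh]
    [IsScalarTower R (Localization.AtPrime p) Rh]
    (Sh : Type u) [CommRing Sh] [IsLocalRing Sh] [Algebra (Localization.AtPrime q) Sh]
    [IsLocalHom (algebraMap (Localization.AtPrime q) Sh)]
    [Hensel.IsStrictHenselization (Localization.AtPrime q) Sh] [Algebra S Sh]
    [IsScalarTower S (Localization.AtPrime q) Sh] [Algebra R Sh] [IsScalarTower R S Sh]
    [Algebra Rh Sh] [IsScalarTower R Rh Sh]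
    (E : Type u) [CommRing E] [IsLocalRing E]
    [Algebra (Localization.AtPrime (Ideal.comap (Algebra.TensorProduct.lift (IsScalarTower.toAlgHom R Rh Sh) (IsScalarTower.toAlgHom R S Sh)
          (fun _ _ => Commute.all _ _)) (IsLocalRing.maximalIdeal Sh))) E]
    [IsLocalHom (algebraMap (Localization.AtPrime
      (Ideal.comap (Algebra.TensorProduct.lift (IsScalarTower.toAlgHom R Rh Sh) (IsScalarTower.toAlgHom R S Sh)
          (fun _ _ => Commute.all _ _)) (IsLocalRing.maximalIdeal Sh))) E)]
    [Hensel.IsStrictHenselization (Localization.AtPrime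
      (Ideal.comap (Algebra.TensorProduct.lift (IsScalarTower.toAlgHom R Rh Sh) (IsScalarTower.toAlgHom R S Sh)
          (fun _ _ => Commute.all _ _)) (IsLocalRing.maximalIdeal Sh))) E] :
    ∃ e : E ≃+* Sh, ∀ d : Rh ⊗[R] S,
      e (algebraMap (Localization.AtPrime
        (Ideal.comap (Algebra.TensorProduct.lift (IsScalarTower.toAlgHom R Rh Sh) (IsScalarTower.toAlgHom R S Sh)
          (fun _ _ => Commute.all _ _)) (IsLocalRing.maximalIdeal Sh))) E
        (algebraMap (Rh ⊗[R] S) _ d)) = (Algebra.TensorProduct.lift (IsScalarTower.toAlgHom R Rh Sh) (IsScalarTower.toAlgHom R S Sh)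
          (fun _ _ => Commute.all _ _)) d := by
  let _ : Algebra (Localization.AtPrime (Q R S Rh Sh)) Sh := (Phi R S Rh Sh).toAlgebra
  have hPhi : IsLocalHom (algebraMap (Localization.AtPrime (Q R S Rh Sh)) Sh) :=
    isLocalHom_Phi R S Rh Sh
  have halg : ∀ x, algebraMap (Localization.AtPrime (Q R S Rh Sh)) Sh x = Phi R S Rh Sh x :=
    fun _ => rfl
  have hq := comap_includeRight R S Rh Sh q
  have hp : p = q.comap (algebraMap R S) := Ideal.LiesOver.over
  let ρ : Localization.AtPrime p →+* Localization.AtPrime q :=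
    Localization.localRingHom p q (algebraMap R S) hp
  have hρ : IsLocalHom ρ := Localization.isLocalHom_localRingHom p q (algebraMap R S) hp
  let j : Localization.AtPrime q →+* Localization.AtPrime (Q R S Rh Sh) :=
    Localization.localRingHom q (Q R S Rh Sh)
      (Algebra.TensorProduct.includeRight (R := R) (A := Rh) (B := S)).toRingHom hq
  let k : Rh →+* Localization.AtPrime (Q R S Rh Sh) :=
    (algebraMap (Rh ⊗[R] S) (Localization.AtPrime (Q R S Rh Sh))).comp
      (Algebra.TensorProduct.includeLeft (R := R) (S := R) (A := Rh) (B := S)).toRingHom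
  have hjs : ∀ s : S, j (algebraMap S (Localization.AtPrime q) s)
      = algebraMap (Rh ⊗[R] S) (Localization.AtPrime (Q R S Rh Sh)) ((1 : Rh) ⊗ₜ[R] s) :=
    fun s => Localization.localRingHom_to_map q (Q R S Rh Sh) _ hq s
  have hkx : ∀ x : Rh, k x
      = algebraMap (Rh ⊗[R] S) (Localization.AtPrime (Q R S Rh Sh)) (x ⊗ₜ[R] (1 : S)) :=
    fun x => rfl
  have hj : (algebraMap (Localization.AtPrime (Q R S Rh Sh)) Sh).comp j
      = algebraMap (Localization.AtPrime q) Sh := by
    refine IsLocalization.ringHom_ext q.primeCompl ?_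
    ext s
    simp only [RingHom.coe_comp, Function.comp_apply]
    rw [hjs, halg, Phi_algebraMap, phi_tmul, map_one, one_mul,
      ← IsScalarTower.algebraMap_apply S (Localization.AtPrime q) Sh]
  have hjk : j.comp ρ = k.comp (algebraMap (Localization.AtPrime p) Rh) := by
    refine IsLocalization.ringHom_ext p.primeCompl ?_
    ext r
    simp only [RingHom.coe_comp, Function.comp_apply]
    rw [show ρ (algebraMap R (Localization.AtPrime p) r)
        = algebraMap S (Localization.AtPrime q) (algebraMap R S r) from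
      Localization.localRingHom_to_map p q _ hp r, hjs,
      ← IsScalarTower.algebraMap_apply R (Localization.AtPrime p) Rh, hkx,
      Algebra.algebraMap_eq_smul_one (A := S), Algebra.algebraMap_eq_smul_one (A := Rh),
      TensorProduct.smul_tmul]
  have hepi : ∀ (T : Type u) [CommRing T] (u v : Localization.AtPrime (Q R S Rh Sh) →+* T),
      u.comp j = v.comp j → u.comp k = v.comp k → u = v := by
    intro T _ u v huv1 huv2
    refine IsLocalization.ringHom_ext (Q R S Rh Sh).primeCompl ?_
    refine RingHom.ext fun d => ?_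
    simp only [RingHom.coe_comp, Function.comp_apply]
    induction d using TensorProduct.induction_on with
    | zero => simp
    | tmul x s =>
      have e : (x ⊗ₜ[R] s : Rh ⊗[R] S) = (x ⊗ₜ[R] (1 : S)) * ((1 : Rh) ⊗ₜ[R] s) := by
        rw [Algebra.TensorProduct.tmul_mul_tmul, one_mul, mul_one]
      rw [e, map_mul, map_mul, map_mul, ← hkx, ← hjs]
      have e1 : u (k x) = v (k x) := congrArg (fun φ : Rh →+* T => φ x) huv2
      have e2 : u (j (algebraMap S (Localization.AtPrime q) s))
          = v (j (algebraMap S (Localization.AtPrime q) s)) :=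
        congrArg (fun φ : Localization.AtPrime q →+* T => φ (algebraMap S _ s)) huv1
      rw [e1, e2]
    | add x y hx hy => rw [map_add, map_add, map_add, hx, hy]
  have hH : Hensel.IsStrictHenselization (Localization.AtPrime (Q R S Rh Sh)) Sh :=
    Groth.Agent.Lib.StrictHenselizationEpi61.isStrictHenselization_of_epi
      (Localization.AtPrime p) Rh (Localization.AtPrime q) Sh
      (Localization.AtPrime (Q R S Rh Sh)) ρ j k hj hjk hepi
  obtain ⟨e⟩ := Groth.Agent.Lib.StrictHenselizationEpi61.exists_algEquiv_of_isStrictHenselization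
    (Localization.AtPrime (Q R S Rh Sh)) E Sh
  refine ⟨e.toRingEquiv, fun d => ?_⟩
  have := e.commutes (algebraMap (Rh ⊗[R] S) (Localization.AtPrime (Q R S Rh Sh)) d)
  rw [halg, Phi_algebraMap] at this
  exact this


end Groth.Agent.S9460
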