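import Groth.Statements.S9289
import Groth.Agent.Lib.H14QFCompl4

set_option autoImplicit false
universe u
open CAlg

namespace Groth.Agent.S9289

/-- Let R and R' be Noetherian rings with R' of finite type over R and quasi-finite at the prime p' of
R', lying over p. If R_p has geometrically regular formal fibres, so does R'_{p'}; stated as: if the
completion map of R_p is regular, so is that of R'_{p'}. -/
theorem result (R R' : Type u) [CommRing R]
    [CommRing R'] [IsNoetherianRing R] [IsNoetherianRing R'] [Algebra R R'] [Algebra.FiniteType R R']
    (p' : Ideal R') [p'.IsPrime] [Algebra.QuasiFiniteAt R p']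
    (h : CAlg.IsRegularHom (Localization.AtPrime (Ideal.comap (algebraMap R R') p'))
      (AdicCompletion (IsLocalRing.maximalIdeal (Localization.AtPrime (Ideal.comap (algebraMap R R') p')))
        (Localization.AtPrime (Ideal.comap (algebraMap R R') p')))) :
    CAlg.IsRegularHom (Localization.AtPrime p')
      (AdicCompletion (IsLocalRing.maximalIdeal (Localization.AtPrime p')) (Localization.AtPrime p')) := by
  letI := (Localization.localRingHom (Ideal.comap (algebraMap R R') p') p' (algebraMap R R') rfl).toAlgebra
  haveI := Groth.Agent.Lib.H14AdicLocal.isLocalHom_localRingHom R R' p'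
  haveI := Groth.Agent.Lib.H14QFCompl.essFiniteType_localRingHom R R' p'
  haveI := Groth.Agent.Lib.H14QFCompl.finite_residueField_localRingHom R R' p'
  exact Groth.Agent.Lib.H14QFCompl.isRegularHom_cpl_of_quasiFinite
    (Localization.AtPrime (Ideal.comap (algebraMap R R') p')) (Localization.AtPrime p')
    (Groth.Agent.Lib.H14QFCompl.maximalIdeal_le_radical_localRingHom R R' p') h

end Groth.Agent.S9289
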