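import Groth.Statements.S0345
import Groth.Agent.Lib.H29Gorenstein

set_option autoImplicit false
universe u v
open Goren

namespace Groth.Agent.S0345

/-- For a Noetherian ring A, the A-module A has finite injective dimension exactly when every
localization of A at a prime is Gorenstein and A has finite Krull dimension. -/
theorem result (A : Type u) [CommRing A] [IsNoetherianRing A] : (∃ n : ℕ, CategoryTheory.HasInjectiveDimensionLT (ModuleCat.of A A) n) ↔ (LocCoh.IsGorensteinRing A ∧ ringKrullDim A < ⊤) := by
  open CategoryTheory Groth.Agent.Lib.H29Gorenstein in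
  constructor
  · rintro ⟨n, hn⟩
    have hn1 : HasInjectiveDimensionLT (ModuleCat.of A A) (n + 1) :=
      hasInjectiveDimensionLT_of_ge _ n (n + 1) (Nat.le_succ n)
    have hG : ∀ (p : Ideal A) [p.IsPrime],
        LocCoh.IsGorensteinLocalRing (Localization.AtPrime p) := fun p _ =>
      { exists_hasInjectiveDimensionLT :=
          ⟨n + 1, hasInjectiveDimensionLT_localization A p n hn1⟩ }
    refine ⟨{ isGorensteinLocalRing_localization := hG }, ?_⟩
    rcases subsingleton_or_nontrivial A with hA | hA
    · rw [ringKrullDim_eq_bot_of_subsingleton]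
      exact bot_lt_top
    · have hle : ringKrullDim A ≤ (n : WithBot ℕ∞) := by
        rw [← Ideal.sup_isMaximal_height_eq_ringKrullDim]
        refine WithBot.coe_le_coe.mpr (iSup₂_le_iff.mpr fun P hP => ?_)
        have hP' : P.IsPrime := hP.isPrime
        have := hG P
        obtain ⟨d, hd⟩ := exists_ringKrullDim_eq_natCast (Localization.AtPrime P)
        obtain ⟨i, hdi, hi⟩ := exists_not_subsingleton_ext_ge_dim d (Localization.AtPrime P) hd
        have hin : i ≤ n := by
          by_contra hlt
          rw [not_le] at hlt
          have := hasInjectiveDimensionLT_localization A P n hn1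
          exact hi (HasInjectiveDimensionLT.subsingleton _ (n + 1) i hlt _)
        rw [IsLocalization.AtPrime.ringKrullDim_eq_height P] at hd
        have hd' : P.height = (d : ℕ∞) := by exact_mod_cast hd
        rw [hd']
        exact_mod_cast hdi.trans hin
      exact lt_of_le_of_lt hle (WithBot.coe_lt_coe.mpr (ENat.natCast_lt_top n))
  · rintro ⟨hG, hdim⟩
    rcases subsingleton_or_nontrivial A with hA | hA
    · exact ⟨0, (ModuleCat.isZero_of_subsingleton (ModuleCat.of A A)).hasInjectiveDimensionLT_zero⟩
    · have h0 : 0 ≤ ringKrullDim A := ringKrullDim_nonneg_of_nontrivial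
      have hbot : ringKrullDim A ≠ ⊥ := fun h => by rw [h] at h0; exact absurd h0 (by decide)
      obtain ⟨x, hx⟩ := WithBot.ne_bot_iff_exists.mp hbot
      have hxtop : x ≠ ⊤ := by
        rintro rfl
        rw [← hx] at hdim
        exact lt_irrefl _ hdim
      obtain ⟨d, rfl⟩ := ENat.ne_top_iff_exists.mp hxtop
      refine ⟨d + 1, ?_⟩
      change HasInjectiveDimensionLE (ModuleCat.of A A) d
      rw [ModuleCat.hasInjectiveDimensionLE_iff_forall_primeSpectrum]
      intro p
      have := hG.isGorensteinLocalRing_localization p.asIdeal
      obtain ⟨dp, hdp, -, hinj⟩ := gorenstein_invariants (Localization.AtPrime p.asIdeal)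
      rw [IsLocalization.AtPrime.ringKrullDim_eq_height p.asIdeal] at hdp
      have hle : (p.asIdeal.height : WithBot ℕ∞) ≤ ringKrullDim A :=
        Ideal.height_le_ringKrullDim_of_isPrime
      rw [hdp, ← hx] at hle
      have hle' : dp ≤ d := by exact_mod_cast hle
      have h2 : HasInjectiveDimensionLT
          (ModuleCat.of (Localization.AtPrime p.asIdeal) (Localization.AtPrime p.asIdeal)) (d + 1) :=
        hasInjectiveDimensionLT_of_ge _ (dp + 1) (d + 1) (by omega)
      exact hasInjectiveDimensionLT_of_iso (locSelfIso A p.asIdeal).symm (d + 1)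

end Groth.Agent.S0345
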