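import Groth.Statements.S12601
import Mathlib.LinearAlgebra.Matrix.NonsingularInverse
import Mathlib.LinearAlgebra.Dimension.Constructions
import Mathlib.LinearAlgebra.Dimension.Finite
import Mathlib.LinearAlgebra.FiniteDimensional.Basic
import Mathlib.Order.Interval.Finset.Fin
-- import your own Groth.Agent.* helpers here

set_option autoImplicit false
open FunFld

namespace Groth.Agent.S12601

theorem span_Iio_eq_span_jumps {K M : Type*} [Field K] [AddCommGroup M] [Module K M] (c : ℕ → M) (m : ℕ) :
    Submodule.span K (c '' Set.Iio m) =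
      Submodule.span K (c '' {j | j < m ∧ FunFld.IsJump K c j}) := by
  induction m with
  | zero => simp
  | succ m ih =>
    apply le_antisymm
    · rw [Submodule.span_le]
      rintro _ ⟨j, hj, rfl⟩
      have hmono : Submodule.span K (c '' {i | i < m ∧ FunFld.IsJump K c i}) ≤
          Submodule.span K (c '' {i | i < m + 1 ∧ FunFld.IsJump K c i}) :=
        Submodule.span_mono (Set.image_mono fun i hi => ⟨Nat.lt_succ_of_lt hi.1, hi.2⟩)
      rcases Nat.lt_succ_iff_lt_or_eq.mp hj with hlt | rfl
      · have : c j ∈ Submodule.span K (c '' Set.Iio m) := Submodule.subset_span ⟨j, hlt, rfl⟩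
        rw [ih] at this
        exact hmono this
      · by_cases hjump : FunFld.IsJump K c j
        · exact Submodule.subset_span ⟨j, ⟨Nat.lt_succ_self j, hjump⟩, rfl⟩
        · have : c j ∈ Submodule.span K (c '' Set.Iio j) := not_not.mp hjump
          rw [ih] at this
          exact hmono this
    · exact Submodule.span_mono (Set.image_mono fun i hi => hi.1)


/-- Over an algebraically closed constant field, if `j'₁ < ⋯ < j'ₙ` is a strictly increasing sequence
with `det [τ(φ) | D^(j'₁) φ | ⋯ | D^(j'ₙ) φ] ≠ 0`, then the `τ`-orders `j₁ < ⋯ < jₙ` of `φ` satisfy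
`jₗ ≤ j'ₗ` for all `l`. -/
theorem result
    (k K : Type*) [Field k] [IsAlgClosed k] [Field K] [Algebra k K]
    (hK : FunFld.IsFunctionField k K) {n : ℕ} (φ : Fin (n + 1) → K) (hφ : LinearIndependent k φ)
    (τ : K →ₐ[k] K) (s : K) (H : K →ₐ[k] PowerSeries K) (hH : LocRes.IsHasseFamily s H)
    (J : Fin n → ℕ) (hJ : FunFld.IsOrders K (FunFld.hcol τ H φ) J)
    (J' : Fin n → ℕ) (hJ' : StrictMono J') (hdet : (FunFld.wrMat τ H φ J').det ≠ 0) :
    ∀ l, J l ≤ J' l := by
  classical
  intro l
  by_contra hlt
  rw [not_le] at hlt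
  set c := FunFld.hcol τ H φ with hc
  set W := Submodule.span K (c '' Set.Iio (J' l + 2)) with hW
  -- upper bound on the dimension of `W`
  have hW1 : Module.finrank K W ≤ (l : ℕ) + 1 := by
    let T : Finset ℕ := insert 0 ((Finset.Iio l).image (fun i => J i + 1))
    have hsub : {j | j < J' l + 2 ∧ FunFld.IsJump K c j} ⊆ (T : Set ℕ) := by
      rintro j ⟨hj, hjump⟩
      rcases j with _ | j
      · simp [T]
      · obtain ⟨i, rfl⟩ : j ∈ Set.range J := (hJ.2 j).mpr hjump
        have hil : i < l := by
          have : J i < J l := by omega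
          exact hJ.1.lt_iff_lt.mp this
        simp only [T, Finset.coe_insert, Finset.coe_image, Finset.coe_Iio, Set.mem_insert_iff,
          Set.mem_image, Set.mem_Iio]
        exact Or.inr ⟨i, hil, rfl⟩
    have hle : W ≤ Submodule.span K ((T.image c : Finset _) : Set (Fin (n + 1) → K)) := by
      rw [hW, span_Iio_eq_span_jumps, Finset.coe_image]
      exact Submodule.span_mono (Set.image_mono hsub)
    calc Module.finrank K W ≤ Module.finrank K
          (Submodule.span K ((T.image c : Finset _) : Set (Fin (n + 1) → K))) :=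
          Submodule.finrank_mono hle
      _ ≤ (T.image c).card := finrank_span_finset_le_card _
      _ ≤ T.card := Finset.card_image_le
      _ ≤ ((Finset.Iio l).image (fun i => J i + 1)).card + 1 := Finset.card_insert_le _ _
      _ ≤ (Finset.Iio l).card + 1 := Nat.add_le_add_right Finset.card_image_le 1
      _ = (l : ℕ) + 1 := by rw [Fin.card_Iio]
  -- `l + 2` linearly independent vectors in `W`
  have hunit : IsUnit (FunFld.wrMat τ H φ J') :=
    (Matrix.isUnit_iff_isUnit_det _).mpr (IsUnit.mk0 _ hdet)
  have hcols := Matrix.linearIndependent_cols_iff_isUnit.mpr hunit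
  let g : Fin (n + 1) → ℕ := fun x => Fin.cases (motive := fun _ => ℕ) 0 (fun m => J' m + 1) x
  have hcol : ∀ x, (FunFld.wrMat τ H φ J').col x = c (g x) := by
    intro x
    funext i
    refine Fin.cases ?_ (fun m => ?_) x
    · simp [Matrix.col, FunFld.wrMat, g, hc, FunFld.hcol]
    · simp [Matrix.col, FunFld.wrMat, g, hc, FunFld.hcol]
  have hl : (l : ℕ) + 2 ≤ n + 1 := by have := l.2; omega
  let e : Fin ((l : ℕ) + 2) → Fin (n + 1) := Fin.castLE hl
  have he : Function.Injective e := Fin.castLE_injective hl
  have hmemW : ∀ x : Fin ((l : ℕ) + 2), c (g (e x)) ∈ W := by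
    intro x
    refine Submodule.subset_span ⟨g (e x), ?_, rfl⟩
    simp only [Set.mem_Iio]
    have hx : (e x : ℕ) ≤ (l : ℕ) + 1 := by
      have := x.2
      simp only [e, Fin.val_castLE]; omega
    revert hx
    refine Fin.cases ?_ (fun m => ?_) (e x)
    · intro _; simp [g]
    · intro hm
      have hml : m ≤ l := by
        rw [Fin.le_def]; simp only [Fin.val_succ] at hm; omega
      have := hJ'.monotone hml
      simp only [g, Fin.cases_succ]; omega
  have hli : LinearIndependent K (fun x : Fin ((l : ℕ) + 2) => (⟨c (g (e x)), hmemW x⟩ : W)) := by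
    apply LinearIndependent.of_comp W.subtype
    have : (W.subtype ∘ fun x : Fin ((l : ℕ) + 2) => (⟨c (g (e x)), hmemW x⟩ : W)) =
        (FunFld.wrMat τ H φ J').col ∘ e := by
      funext x
      simp [hcol]
    rw [this]
    exact hcols.comp e he
  have := hli.fintype_card_le_finrank
  simp only [Fintype.card_fin] at this
  omega

end Groth.Agent.S12601
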