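import Groth.Statements.S12595
-- import your own Groth.Agent.* helpers here

set_option autoImplicit false
open FunFld

namespace Groth.Agent.S12595

theorem algHom_eq_id_of_adjoin {k K : Type*} [Field k] [Field K] [Algebra k K] (S : Set K)
    (hS : IntermediateField.adjoin k S = ⊤) (τ : K →ₐ[k] K) (h : ∀ x ∈ S, τ x = x) :
    τ = AlgHom.id k K := by
  let E : IntermediateField k K :=
    { carrier := {x | τ x = x}
      mul_mem' := fun {a b} ha hb => by
        simp only [Set.mem_ofPred_eq] at ha hb ⊢
        rw [map_mul, ha, hb]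
      add_mem' := fun {a b} ha hb => by
        simp only [Set.mem_ofPred_eq] at ha hb ⊢
        rw [map_add, ha, hb]
      algebraMap_mem' := fun r => by
        simp only [Set.mem_ofPred_eq]
        exact τ.commutes r
      inv_mem' := fun a ha => by
        simp only [Set.mem_ofPred_eq] at ha ⊢
        rw [map_inv₀, ha] }
  have hle : IntermediateField.adjoin k S ≤ E := IntermediateField.adjoin_le_iff.mpr h
  rw [hS] at hle
  ext x
  exact hle (IntermediateField.mem_top : x ∈ (⊤ : IntermediateField k K))


/-- Over an algebraically closed constant field, let `φ` be a birational projective map of the function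
field `K` (the ratios `φ i / φ 0` generate `K`), `τ` a `k`-endomorphism of `K` and `H` a total Hasse
derivative. Then the first `τ`-order of `φ` is positive — the column `φ` of `0`-th Hasse derivatives
lies in the `K`-span of the leading column `τ(φ)` — exactly when `τ` is the identity. -/
theorem result
    (k K : Type*) [Field k] [IsAlgClosed k] [Field K] [Algebra k K]
    (hK : FunFld.IsFunctionField k K) {n : ℕ} (φ : Fin (n + 1) → K) (h0 : φ 0 ≠ 0)
    (hbir : IntermediateField.adjoin k (Set.range fun i => φ i / φ 0) = ⊤)
    (τ : K →ₐ[k] K) (s : K) (H : K →ₐ[k] PowerSeries K) (hH : LocRes.IsHasseFamily s H) :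
    ¬ FunFld.IsJump K (FunFld.hcol τ H φ) 1 ↔ τ = AlgHom.id k K := by
  have hc1 : FunFld.hcol τ H φ 1 = φ := by
    funext i
    change LocRes.hasseD H 0 (φ i) = φ i
    rw [LocRes.hasseD_apply, PowerSeries.coeff_zero_eq_constantCoeff_apply]
    exact hH.2 (φ i)
  have hI : (FunFld.hcol τ H φ) '' Set.Iio 1 = {fun i => τ (φ i)} := by
    ext v
    simp only [Set.mem_image, Set.mem_Iio, Nat.lt_one_iff, Set.mem_singleton_iff]
    constructor
    · rintro ⟨j, rfl, rfl⟩; rfl
    · rintro rfl; exact ⟨0, rfl, rfl⟩
  unfold FunFld.IsJump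
  rw [not_not, hc1, hI, Submodule.mem_span_singleton]
  constructor
  · rintro ⟨a, ha⟩
    have ha' : ∀ i, a * τ (φ i) = φ i := fun i => congrFun ha i
    have ha0 : a ≠ 0 := by
      intro h
      apply h0
      rw [← ha' 0, h, zero_mul]
    apply algHom_eq_id_of_adjoin _ hbir
    rintro _ ⟨i, rfl⟩
    simp only
    rw [map_div₀]
    conv_rhs => rw [← ha' i, ← ha' 0, mul_div_mul_left _ _ ha0]
  · rintro rfl
    exact ⟨1, by funext i; simp⟩

end Groth.Agent.S12595
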