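import Groth.Statements.S12602
import Groth.Agent.S12595
import Mathlib.LinearAlgebra.LinearIndependent.Lemmas
import Mathlib.LinearAlgebra.FiniteDimensional.Lemmas
import Mathlib.LinearAlgebra.Dimension.Constructions

set_option autoImplicit false
open FunFld

namespace Groth.Agent.S12602

section gen
variable {K M : Type*} [Field K] [AddCommGroup M] [Module K M]

theorem image_Iio_succ (f : ℕ → M) (j : ℕ) :
    f '' Set.Iio (j + 1) = insert (f j) (f '' Set.Iio j) := by
  ext x
  simp only [Set.mem_image, Set.mem_Iio, Set.mem_insert_iff]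
  constructor
  · rintro ⟨i, hi, rfl⟩
    rcases Nat.lt_succ_iff_lt_or_eq.mp hi with h | rfl
    · exact Or.inr ⟨i, h, rfl⟩
    · exact Or.inl rfl
  · rintro (rfl | ⟨i, hi, rfl⟩)
    · exact ⟨j, Nat.lt_succ_self j, rfl⟩
    · exact ⟨i, Nat.lt_succ_of_lt hi, rfl⟩

theorem image_Iio_succ' (f : ℕ → M) (j : ℕ) :
    f '' Set.Iio (j + 1) = insert (f 0) ((fun i => f (i + 1)) '' Set.Iio j) := by
  ext x
  simp only [Set.mem_image, Set.mem_Iio, Set.mem_insert_iff]
  constructor
  · rintro ⟨i, hi, rfl⟩
    rcases i with _ | i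
    · exact Or.inl rfl
    · exact Or.inr ⟨i, by omega, rfl⟩
  · rintro (rfl | ⟨i, hi, rfl⟩)
    · exact ⟨0, by omega, rfl⟩
    · exact ⟨i + 1, by omega, rfl⟩

theorem linearIndepOn_jumps (c : ℕ → M) (m : ℕ) :
    LinearIndepOn K c {j | j < m ∧ FunFld.IsJump K c j} := by
  induction m with
  | zero =>
    have : {j | j < 0 ∧ FunFld.IsJump K c j} = (∅ : Set ℕ) := by
      ext j; simp
    rw [this]; exact linearIndepOn_empty K c
  | succ m ih =>
    by_cases hm : FunFld.IsJump K c m
    · have : {j | j < m + 1 ∧ FunFld.IsJump K c j} = insert m {j | j < m ∧ FunFld.IsJump K c j} := by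
        ext j
        simp only [Set.mem_ofPred_eq, Set.mem_insert_iff]
        constructor
        · rintro ⟨h1, h2⟩
          rcases Nat.lt_succ_iff_lt_or_eq.mp h1 with h | rfl
          · exact Or.inr ⟨h, h2⟩
          · exact Or.inl rfl
        · rintro (rfl | ⟨h1, h2⟩)
          · exact ⟨Nat.lt_succ_self _, hm⟩
          · exact ⟨Nat.lt_succ_of_lt h1, h2⟩
      rw [this]
      refine ih.insert fun h => hm ?_
      exact Submodule.span_mono (Set.image_mono fun i hi => hi.1) h
    · have : {j | j < m + 1 ∧ FunFld.IsJump K c j} = {j | j < m ∧ FunFld.IsJump K c j} := by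
        ext j
        simp only [Set.mem_ofPred_eq]
        constructor
        · rintro ⟨h1, h2⟩
          rcases Nat.lt_succ_iff_lt_or_eq.mp h1 with h | rfl
          · exact ⟨h, h2⟩
          · exact absurd h2 hm
        · rintro ⟨h1, h2⟩
          exact ⟨Nat.lt_succ_of_lt h1, h2⟩
      rw [this]; exact ih

/-- The exchange argument. `D` is the sequence of columns, `v` the new leading column. -/
theorem exchange_jumps (D : ℕ → M) (v : M) (hv : v ≠ 0)
    (h1 : D 0 ∉ Submodule.span K {v})
    (hN : ∃ N, v ∈ Submodule.span K (D '' Set.Iio N)) :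
    ∃ j0, 1 ≤ j0 ∧ D j0 ∉ Submodule.span K (D '' Set.Iio j0) ∧
      ∀ j, 1 ≤ j → (D j ∉ Submodule.span K (insert v (D '' Set.Iio j)) ↔
        (D j ∉ Submodule.span K (D '' Set.Iio j) ∧ j ≠ j0)) := by
  classical
  have hmono : ∀ a b, a ≤ b → v ∈ Submodule.span K (D '' Set.Iio a) →
      v ∈ Submodule.span K (D '' Set.Iio b) := fun a b hab h =>
    Submodule.span_mono (Set.image_mono (Set.Iio_subset_Iio hab)) h
  have hP0 : v ∉ Submodule.span K (D '' Set.Iio 0) := by
    have : D '' Set.Iio 0 = ∅ := by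
      ext x; simp
    rw [this, Submodule.span_empty]
    exact hv
  have hP1 : v ∉ Submodule.span K (D '' Set.Iio 1) := by
    have : D '' Set.Iio 1 = {D 0} := by
      ext x
      simp only [Set.mem_image, Set.mem_Iio, Nat.lt_one_iff, Set.mem_singleton_iff]
      constructor
      · rintro ⟨j, rfl, rfl⟩; rfl
      · rintro rfl; exact ⟨0, rfl, rfl⟩
    rw [this]
    intro h
    apply h1
    have h' : v ∈ Submodule.span K (insert (D 0) (∅ : Set M)) := by simpa using h
    have := mem_span_insert_exchange h' (by simpa using hv)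
    simpa using this
  set jP := Nat.find hN with hjP
  have hPj : v ∈ Submodule.span K (D '' Set.Iio jP) := Nat.find_spec hN
  have hjP2 : 2 ≤ jP := by
    by_contra hlt
    have : jP = 0 ∨ jP = 1 := by omega
    rcases this with h | h
    · rw [h] at hPj; exact hP0 hPj
    · rw [h] at hPj; exact hP1 hPj
  obtain ⟨j0, hj0⟩ : ∃ j0, jP = j0 + 1 := ⟨jP - 1, by omega⟩
  have hPj0 : v ∈ Submodule.span K (D '' Set.Iio (j0 + 1)) := hj0 ▸ hPj
  have hnPj0 : v ∉ Submodule.span K (D '' Set.Iio j0) := by
    apply Nat.find_min hN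
    omega
  have hmin : ∀ j, v ∈ Submodule.span K (D '' Set.Iio j) → j0 + 1 ≤ j := by
    intro j hj
    rw [← hj0]
    exact Nat.find_min' hN hj
  refine ⟨j0, by omega, ?_, ?_⟩
  · intro h
    apply hnPj0
    rw [image_Iio_succ, Submodule.span_insert_eq_span h] at hPj0
    exact hPj0
  · intro j hj
    constructor
    · intro hjump
      refine ⟨fun h => hjump (Submodule.span_mono (Set.subset_insert _ _) h), ?_⟩
      rintro rfl
      apply hjump
      rw [image_Iio_succ] at hPj0
      exact mem_span_insert_exchange hPj0 hnPj0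
    · rintro ⟨hjump, hne⟩ hmem
      have hv' : v ∈ Submodule.span K (D '' Set.Iio (j + 1)) := by
        rw [image_Iio_succ]
        exact mem_span_insert_exchange hmem hjump
      have h1 := hmin _ hv'
      have h2 : j0 + 1 ≤ j := by omega
      have hvj : v ∈ Submodule.span K (D '' Set.Iio j) := hmono _ _ h2 hPj0
      rw [Submodule.span_insert_eq_span hvj] at hmem
      exact hjump hmem

end gen


/-- Over an algebraically closed constant field, for a birational projective map `φ = (φ₀, …, φₙ)`, `n ≥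
1`, with orders `j₁ < ⋯ < jₙ`, and `τ ≠ 1`, the `τ`-orders of `φ` are `(0, j₁, …, j_{m-1}, j_{m+1},
…, jₙ)` for some `m`: the jump indices of `[τ(φ) | D^(0) φ | D^(1) φ | ⋯]` after the leading column
are `0` and the `jₗ` with `l ≠ m`. -/
theorem result
    (k K : Type*) [Field k] [IsAlgClosed k] [Field K] [Algebra k K]
    (hK : FunFld.IsFunctionField k K) {n : ℕ} (hn : 0 < n) (φ : Fin (n + 1) → K) (hφ : LinearIndependent k φ)
    (h0 : φ 0 ≠ 0) (hbir : IntermediateField.adjoin k (Set.range fun i => φ i / φ 0) = ⊤)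
    (τ : K →ₐ[k] K) (hτ : τ ≠ AlgHom.id k K) (s : K) (H : K →ₐ[k] PowerSeries K) (hH : LocRes.IsHasseFamily s H)
    (J : Fin n → ℕ) (hJ : FunFld.IsOrders K (FunFld.hcol (AlgHom.id k K) H φ) J) :
    ∃ m : Fin n, ∀ j : ℕ,
      FunFld.IsJump K (FunFld.hcol τ H φ) (j + 1) ↔ (j = 0 ∨ ∃ l, l ≠ m ∧ J l = j) := by
  classical
  set c := FunFld.hcol (AlgHom.id k K) H φ with hc
  set c' := FunFld.hcol τ H φ with hc'
  set D : ℕ → (Fin (n + 1) → K) := fun j i => LocRes.hasseD H j (φ i) with hD
  set v : Fin (n + 1) → K := fun i => τ (φ i) with hvdef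
  have hcD : (fun i => c (i + 1)) = D := rfl
  have hc'D : (fun i => c' (i + 1)) = D := rfl
  have hc0 : c 0 = φ := rfl
  have hc'0 : c' 0 = v := rfl
  have hD0 : D 0 = φ := by
    funext i
    change LocRes.hasseD H 0 (φ i) = φ i
    rw [LocRes.hasseD_apply, PowerSeries.coeff_zero_eq_constantCoeff_apply]
    exact hH.2 (φ i)
  have hφ0 : φ ≠ 0 := fun h => h0 (by rw [h]; rfl)
  have hv : v ≠ 0 := by
    intro h
    have : τ (φ 0) = 0 := congrFun h 0
    exact h0 ((map_eq_zero τ).mp this)
  -- first jump of `c'`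
  have hj1 : FunFld.IsJump K c' 1 :=
    not_not.mp ((Groth.Agent.S12595.result k K hK φ h0 hbir τ s H hH).not.mpr hτ)
  have h1 : D 0 ∉ Submodule.span K {v} := by
    have h' : c' 1 ∉ Submodule.span K (c' '' Set.Iio (0 + 1)) := hj1
    rw [image_Iio_succ' c' 0, hc'0] at h'
    have hempty : (fun i => c' (i + 1)) '' Set.Iio 0 = ∅ := by ext y; simp
    rw [hempty] at h'
    change c' 1 ∉ Submodule.span K {v}
    simpa using h'
  -- the columns span everything
  have hN : ∃ N, v ∈ Submodule.span K (D '' Set.Iio N) := by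
    let u : Fin (n + 1) → ℕ := fun x => Fin.cases (motive := fun _ => ℕ) 0 (fun l => J l + 1) x
    have hujump : ∀ x, FunFld.IsJump K c (u x) := by
      intro x
      refine Fin.cases ?_ (fun l => ?_) x
      · change c 0 ∉ Submodule.span K (c '' Set.Iio 0)
        have : c '' Set.Iio 0 = ∅ := by ext y; simp
        rw [this, Submodule.span_empty, hc0]
        exact hφ0
      · exact (hJ.2 (J l)).mp ⟨l, rfl⟩
    have huinj : Function.Injective u := by
      intro x y
      refine Fin.cases ?_ (fun l => ?_) x <;> refine Fin.cases ?_ (fun l' => ?_) y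
      · intro _; rfl
      · intro h; simp only [u, Fin.cases_zero, Fin.cases_succ] at h; omega
      · intro h; simp only [u, Fin.cases_zero, Fin.cases_succ] at h; omega
      · intro h
        simp only [u, Fin.cases_succ] at h
        have : J l = J l' := by omega
        rw [hJ.1.injective this]
    set m' := Finset.univ.sup u with hm'
    have hult : ∀ x, u x < m' + 1 := fun x =>
      Nat.lt_succ_of_le (Finset.le_sup (f := u) (Finset.mem_univ x))
    let u' : Fin (n + 1) → {j | j < m' + 1 ∧ FunFld.IsJump K c j} := fun x => ⟨u x, hult x, hujump x⟩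
    have hu'inj : Function.Injective u' := fun x y h => huinj (congrArg Subtype.val h)
    have hli := (linearIndepOn_jumps (K := K) c (m' + 1)).comp u' hu'inj
    have htop := hli.span_eq_top_of_card_eq_finrank' (by simp)
    refine ⟨m' + 1, ?_⟩
    have hle : Submodule.span K (Set.range ((fun x : {j | j < m' + 1 ∧ FunFld.IsJump K c j} => c x) ∘ u')) ≤
        Submodule.span K (D '' Set.Iio (m' + 1)) := by
      apply Submodule.span_mono
      rintro _ ⟨x, rfl⟩
      simp only [Function.comp_apply, u']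
      rcases hux : u x with _ | i
      · exact ⟨0, Nat.succ_pos _, by rw [hD0]; rfl⟩
      · refine ⟨i, ?_, rfl⟩
        have := hult x
        simp only [Set.mem_Iio]; omega
    rw [htop] at hle
    exact hle Submodule.mem_top
  obtain ⟨j0, hj0, hjump0, hiff⟩ := exchange_jumps D v hv h1 hN
  have hcjump : ∀ j, 1 ≤ j → (FunFld.IsJump K c (j + 1) ↔ D j ∉ Submodule.span K (D '' Set.Iio j)) := by
    intro j hj
    unfold FunFld.IsJump
    have hmem : D 0 ∈ D '' Set.Iio j := ⟨0, hj, rfl⟩
    rw [image_Iio_succ' c j, hcD, hc0, ← hD0, Set.insert_eq_of_mem hmem]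
    rfl
  have hc'jump : ∀ j, (FunFld.IsJump K c' (j + 1) ↔
      D j ∉ Submodule.span K (insert v (D '' Set.Iio j))) := by
    intro j
    unfold FunFld.IsJump
    rw [image_Iio_succ' c' j, hc'D, hc'0]
    rfl
  obtain ⟨m, hm⟩ : j0 ∈ Set.range J := (hJ.2 j0).mpr ((hcjump j0 hj0).mpr hjump0)
  refine ⟨m, fun j => ?_⟩
  rcases Nat.eq_zero_or_pos j with rfl | hjpos
  · exact ⟨fun _ => Or.inl rfl, fun _ => hj1⟩
  · rw [hc'jump j, hiff j hjpos, ← hcjump j hjpos, ← hJ.2 j]
    constructor
    · rintro ⟨⟨l, rfl⟩, hne⟩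
      refine Or.inr ⟨l, ?_, rfl⟩
      rintro rfl
      exact hne hm
    · rintro (h | ⟨l, hl, rfl⟩)
      · omega
      · refine ⟨⟨l, rfl⟩, ?_⟩
        intro h
        apply hl
        exact hJ.1.injective (h.trans hm.symm)

end Groth.Agent.S12602
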