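import Groth.Statements.S12600
import Groth.Agent.Lib.AlgClosedTensor2
import Groth.Agent.Lib.H40FunFld
import Groth.Agent.S12601
import Groth.Agent.S12602

set_option autoImplicit false
open FunFld

namespace Groth.Agent.S12600

open TensorProduct

variable {k K : Type*} [Field k] [Field K] [Algebra k K]

theorem transcendental_of_hasse (hK : FunFld.IsFunctionField k K) {s : K}
    {H : K →ₐ[k] PowerSeries K} (hH : LocRes.IsHasseFamily s H) : Transcendental k s := by
  intro halg
  obtain ⟨c, rfl⟩ := hK.2 s halg
  have h1 := congrArg (PowerSeries.coeff 1) hH.1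
  rw [H.commutes, PowerSeries.algebraMap_apply] at h1
  simp at h1

open IntermediateField IntermediateField.algebraAdjoinAdjoin in
theorem isAlgebraic_adjoin (hK : FunFld.IsFunctionField k K) {s : K} (hs : Transcendental k s) :
    Algebra.IsAlgebraic (Algebra.adjoin k {s}) K := by
  have := Groth.Agent.Lib.H40FunFld.finiteDimensional_adjoin_of_transcendental hK hs
  have : Algebra.IsAlgebraic k⟮s⟯ K := Algebra.IsAlgebraic.of_finite _ _
  exact Algebra.IsAlgebraic.trans (Algebra.adjoin k {s}) k⟮s⟯ K

open Polynomial in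
/-- `C s + X` is transcendental over `K` in `K⟦X⟧`. -/
theorem aeval_C_add_X_injective (s : K) :
    Function.Injective (Polynomial.aeval (R := K) (PowerSeries.C s + PowerSeries.X : PowerSeries K)) := by
  rw [injective_iff_map_eq_zero]
  intro p hp
  have h1 : Polynomial.aeval (R := K) (PowerSeries.C s + PowerSeries.X : PowerSeries K) p
      = ((p.comp (Polynomial.X + Polynomial.C s) : K[X]) : PowerSeries K) := by
    have := Polynomial.aeval_algHom_apply (Polynomial.coeToPowerSeries.algHom K (R := K))
      (Polynomial.X + Polynomial.C s) p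
    simp only [Polynomial.coeToPowerSeries.algHom_apply, Algebra.algebraMap_self, PowerSeries.map_id,
      Polynomial.coe_add, Polynomial.coe_X, Polynomial.coe_C, id_eq] at this
    rw [add_comm, this, Polynomial.comp, Polynomial.aeval_def]
    rfl
  rw [h1] at hp
  have h2 : p.comp (Polynomial.X + Polynomial.C s) = 0 := Polynomial.coe_injective K (by simpa using hp)
  exact Polynomial.comp_X_add_C_eq_zero_iff.mp h2

open Polynomial in
theorem isAlgebraic_poly (hK : FunFld.IsFunctionField k K) {s : K} (hs : Transcendental k s) (b : K) :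
    letI : Algebra k[X] K := (Polynomial.aeval s : k[X] →ₐ[k] K).toRingHom.toAlgebra
    IsAlgebraic k[X] b := by
  letI : Algebra k[X] K := (Polynomial.aeval s : k[X] →ₐ[k] K).toRingHom.toAlgebra
  have h0 := (isAlgebraic_adjoin hK hs).isAlgebraic b
  let f : k[X] →ₐ[k] Algebra.adjoin k {s} :=
    (Polynomial.aeval s : k[X] →ₐ[k] K).codRestrict (Algebra.adjoin k {s})
      (fun p => Polynomial.aeval_mem_adjoin_singleton k s)
  have hf : Function.Surjective f := by
    rintro ⟨a, ha⟩
    rw [Algebra.adjoin_singleton_eq_range_aeval] at ha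
    obtain ⟨p, rfl⟩ := ha
    exact ⟨p, rfl⟩
  refine IsAlgebraic.of_ringHom_of_comp_eq (S := Algebra.adjoin k {s}) (B := K) f (RingHom.id K) h0 hf
    Function.injective_id ?_
  ext <;> rfl

open Polynomial in
theorem mu_injective [IsAlgClosed k] (hK : FunFld.IsFunctionField k K) {s : K}
    {H : K →ₐ[k] PowerSeries K} (hH : LocRes.IsHasseFamily s H) :
    Function.Injective
      (Algebra.TensorProduct.productLeftAlgHom (Algebra.ofId K (PowerSeries K)) H) := by
  have hs := transcendental_of_hasse hK hH
  haveI : IsDomain (K ⊗[k] K) := Groth.Agent.Lib.AlgClosedTensor2.isDomain_tensorProduct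
  letI a1 : Algebra k[X] K := (Polynomial.aeval s : k[X] →ₐ[k] K).toRingHom.toAlgebra
  letI a2 : Algebra K[X] (K ⊗[k] K) :=
    (Polynomial.aeval ((1 : K) ⊗ₜ[k] s) : K[X] →ₐ[K] K ⊗[k] K).toRingHom.toAlgebra
  have ha2 : ∀ p : K[X], algebraMap K[X] (K ⊗[k] K) p = Polynomial.aeval ((1 : K) ⊗ₜ[k] s) p :=
    fun p => rfl
  have halg2 : ∀ z : K ⊗[k] K, IsAlgebraic K[X] z := by
    intro z
    induction z using TensorProduct.induction_on with
    | zero => exact isAlgebraic_zero
    | tmul a b =>
      have : a ⊗ₜ[k] b = (a ⊗ₜ[k] (1 : K)) * ((1 : K) ⊗ₜ[k] b) := by simp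
      rw [this]
      refine IsAlgebraic.mul ?_ ?_
      · have : a ⊗ₜ[k] (1 : K) = algebraMap K[X] (K ⊗[k] K) (C a) := by
          rw [ha2, Polynomial.aeval_C]; rfl
        rw [this]; exact isAlgebraic_algebraMap _
      · refine (isAlgebraic_poly hK hs b).ringHom_of_comp_eq (Polynomial.mapRingHom (algebraMap k K))
          (Algebra.TensorProduct.includeRight : K →ₐ[k] K ⊗[k] K)
          (Polynomial.map_injective _ (algebraMap k K).injective) ?_
        ext c
        · simp [RingHom.algebraMap_toAlgebra]
        · simp [RingHom.algebraMap_toAlgebra]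
    | add x y hx hy => exact hx.add hy
  rw [injective_iff_map_eq_zero]
  intro z hz
  by_contra hz0
  obtain ⟨r, hr, w, hw⟩ := (halg2 z).exists_nonzero_dvd (mem_nonZeroDivisors_of_ne_zero hz0)
  apply hr
  apply aeval_C_add_X_injective s
  rw [map_zero, ← hH.1]
  have h3 := congrArg (Algebra.TensorProduct.productLeftAlgHom (Algebra.ofId K (PowerSeries K)) H) hw
  rw [map_mul, hz, zero_mul, ha2, ← Polynomial.aeval_algHom_apply] at h3
  simpa using h3

section LA
variable {K M : Type*} [Field K] [AddCommGroup M] [Module K M]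

theorem linearIndepOn_all_jumps (c : ℕ → M) : LinearIndepOn K c {j | FunFld.IsJump K c j} := by
  have : {j | FunFld.IsJump K c j} = ⋃ m : ℕ, {j | j < m ∧ FunFld.IsJump K c j} := by
    ext j
    simp only [Set.mem_ofPred_eq, Set.mem_iUnion]
    exact ⟨fun h => ⟨j + 1, Nat.lt_succ_self j, h⟩, fun ⟨m, _, h⟩ => h⟩
  rw [this]
  refine linearIndepOn_iUnion_of_directed ?_ (fun m => Groth.Agent.S12602.linearIndepOn_jumps c m)
  refine Monotone.directed_le ?_
  intro a b hab j hj
  exact ⟨lt_of_lt_of_le hj.1 hab, hj.2⟩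

theorem span_range_le_span_jumps (c : ℕ → M) :
    Submodule.span K (Set.range c) ≤ Submodule.span K (c '' {j | FunFld.IsJump K c j}) := by
  rw [Submodule.span_le]
  rintro _ ⟨j, rfl⟩
  have h1 : c j ∈ Submodule.span K (c '' Set.Iio (j + 1)) :=
    Submodule.subset_span ⟨j, Nat.lt_succ_self j, rfl⟩
  rw [Groth.Agent.S12601.span_Iio_eq_span_jumps] at h1
  exact Submodule.span_mono (Set.image_mono fun i hi => hi.2) h1

end LA

/-- Linear algebra core: a sequence of columns in `K^(n+1)` with nonzero leading column and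
spanning everything has exactly `n` later jumps, and the corresponding minor is invertible. -/
theorem exists_orders {K : Type*} [Field K] {n : ℕ} (c : ℕ → Fin (n + 1) → K) (h0 : c 0 ≠ 0)
    (htop : Submodule.span K (Set.range c) = ⊤) :
    ∃ J : Fin n → ℕ, FunFld.IsOrders K c J ∧
      LinearIndependent K (fun x : Fin (n + 1) =>
        c (Fin.cases (motive := fun _ => ℕ) 0 (fun m => J m + 1) x)) := by
  classical
  set S : Set ℕ := {j | FunFld.IsJump K c j} with hS
  have hli : LinearIndepOn K c S := linearIndepOn_all_jumps c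
  have hsp : ⊤ ≤ Submodule.span K (Set.range fun x : S => c x) := by
    rw [← htop]
    refine (span_range_le_span_jumps c).trans (le_of_eq ?_)
    congr 1
    ext v
    simp only [Set.mem_image, Set.mem_range, Subtype.exists, exists_prop]
    rfl
  let b : Module.Basis S K (Fin (n + 1) → K) := Module.Basis.mk hli hsp
  have hfin : Finite S := Module.Finite.finite_basis b
  have hSfin : S.Finite := Set.toFinite S
  have hcard : hSfin.toFinset.card = n + 1 := by
    have h1 := Module.finrank_eq_nat_card_basis b
    rw [Module.finrank_pi, Fintype.card_fin] at h1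
    rw [h1, Nat.card_coe_set_eq, Set.ncard_eq_toFinset_card S hSfin]
  have h0S : 0 ∈ S := by
    change c 0 ∉ Submodule.span K (c '' Set.Iio 0)
    simpa using h0
  set T : Finset ℕ := hSfin.toFinset with hT
  let T' : Finset ℕ := T.preimage Nat.succ Nat.succ_injective.injOn
  have hTT' : T = insert 0 (T'.map ⟨Nat.succ, Nat.succ_injective⟩) := by
    ext j
    rcases j with _ | j
    · simp [hT, h0S]
    · simp [T']
  have hT' : T'.card = n := by
    have : T.card = (T'.map ⟨Nat.succ, Nat.succ_injective⟩).card + 1 := by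
      conv_lhs => rw [hTT']
      rw [Finset.card_insert_of_notMem]
      simp
    rw [Finset.card_map, hcard] at this
    omega
  have hmem : ∀ j, j ∈ T' ↔ FunFld.IsJump K c (j + 1) := by
    intro j
    simp [T', hT, hS]
  let J : Fin n ↪o ℕ := T'.orderEmbOfFin hT'
  refine ⟨J, ⟨J.strictMono, fun j => ?_⟩, ?_⟩
  · rw [← hmem j, ← Finset.mem_coe, ← Finset.range_orderEmbOfFin T' hT']
  · let g : Fin (n + 1) → ℕ := fun x => Fin.cases (motive := fun _ => ℕ) 0 (fun m => J m + 1) x
    have hgS : ∀ x, g x ∈ S := by
      intro x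
      refine Fin.cases ?_ (fun m => ?_) x
      · exact h0S
      · change FunFld.IsJump K c (J m + 1)
        rw [← hmem]
        exact Finset.orderEmbOfFin_mem T' hT' m
    have hginj : Function.Injective g := by
      intro x y
      refine Fin.cases ?_ (fun m => ?_) x <;> refine Fin.cases ?_ (fun m' => ?_) y
      · intro _; rfl
      · intro h; simp [g] at h
      · intro h; simp [g] at h
      · intro h
        simp only [g, Fin.cases_succ, add_left_inj] at h
        rw [J.injective h]
    have := hli.comp (fun x : Fin (n + 1) => (⟨g x, hgS x⟩ : S))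
      (fun x y h => hginj (congrArg Subtype.val h))
    exact this

theorem rows_indep [IsAlgClosed k] (hK : FunFld.IsFunctionField k K) {s : K}
    {H : K →ₐ[k] PowerSeries K} (hH : LocRes.IsHasseFamily s H) {n : ℕ} (φ : Fin (n + 1) → K)
    (hφ : LinearIndependent k φ) (a : Fin (n + 1) → K)
    (ha : ∀ j, ∑ i, a i * LocRes.hasseD H j (φ i) = 0) : a = 0 := by
  have hz : Algebra.TensorProduct.productLeftAlgHom (Algebra.ofId K (PowerSeries K)) H
      (∑ i, a i ⊗ₜ[k] φ i) = 0 := by
    rw [map_sum]
    ext j
    rw [map_sum, map_zero, ← ha j]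
    refine Finset.sum_congr rfl fun i _ => ?_
    rw [Algebra.TensorProduct.lift_tmul, Algebra.ofId_apply, ← PowerSeries.C_eq_algebraMap,
      PowerSeries.coeff_C_mul]
    rfl
  have h1 := mu_injective hK hH (hz.trans (map_zero _).symm)
  have hli := Module.Flat.linearIndependent_one_tmul (S := K) hφ
  rw [Fintype.linearIndependent_iff] at hli
  funext i
  refine hli a ?_ i
  rw [← h1]
  refine Finset.sum_congr rfl fun i _ => ?_
  rw [TensorProduct.smul_tmul', smul_eq_mul, mul_one]



/-- Over an algebraically closed constant field, for a linearly independent tuple `φ = (φ₀, …, φₙ)`, a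
`k`-endomorphism `τ` and a total Hasse derivative `H`, there are exactly `n` `τ`-orders `j₁ < ⋯ <
jₙ` and the Wronskian `det [τ(φ) | D^(j₁) φ | ⋯ | D^(jₙ) φ]` is nonzero. -/
theorem result
    (k K : Type*) [Field k] [IsAlgClosed k] [Field K] [Algebra k K]
    (hK : FunFld.IsFunctionField k K) {n : ℕ} (φ : Fin (n + 1) → K) (hφ : LinearIndependent k φ)
    (τ : K →ₐ[k] K) (s : K) (H : K →ₐ[k] PowerSeries K) (hH : LocRes.IsHasseFamily s H) :
    ∃ J : Fin n → ℕ, FunFld.IsOrders K (FunFld.hcol τ H φ) J ∧ (FunFld.wrMat τ H φ J).det ≠ 0 := by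
  classical
  set c := FunFld.hcol τ H φ with hc
  have h0 : c 0 ≠ 0 := by
    intro h
    have h1 : τ (φ 0) = 0 := congrFun h 0
    rw [map_eq_zero_iff τ τ.toRingHom.injective] at h1
    exact hφ.ne_zero 0 h1
  have htop : Submodule.span K (Set.range c) = ⊤ := by
    by_contra hne
    obtain ⟨f, hf0, hf⟩ := Submodule.exists_le_ker_of_lt_top _ (lt_top_iff_ne_top.mpr hne)
    apply hf0
    have ha : (fun i => f (fun j => if i = j then 1 else 0)) = 0 := by
      refine rows_indep hK hH φ hφ _ fun j => ?_
      have h1 : f (c (j + 1)) = 0 := hf (Submodule.subset_span ⟨j + 1, rfl⟩)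
      rw [LinearMap.pi_apply_eq_sum_univ] at h1
      refine Eq.trans ?_ h1
      refine Finset.sum_congr rfl fun i _ => ?_
      rw [smul_eq_mul, mul_comm]
      rfl
    refine LinearMap.ext fun v => ?_
    rw [LinearMap.pi_apply_eq_sum_univ]
    simp only [LinearMap.zero_apply]
    refine Finset.sum_eq_zero fun i _ => ?_
    rw [congrFun ha i]
    simp
  obtain ⟨J, hJ, hli⟩ := exists_orders c h0 htop
  refine ⟨J, hJ, ?_⟩
  have hcol : (FunFld.wrMat τ H φ J).col =
      fun x => c (Fin.cases (motive := fun _ => ℕ) 0 (fun m => J m + 1) x) := by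
    funext x i
    refine Fin.cases ?_ (fun m => ?_) x
    · simp [Matrix.col, FunFld.wrMat, hc, FunFld.hcol]
    · simp [Matrix.col, FunFld.wrMat, hc, FunFld.hcol]
  rw [← hcol] at hli
  have hunit := Matrix.linearIndependent_cols_iff_isUnit.mp hli
  exact ((Matrix.isUnit_iff_isUnit_det _).mp hunit).ne_zero

end Groth.Agent.S12600
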