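import Groth.Statements.S12598
import Groth.Agent.S12600
import Groth.Agent.S12601
import Mathlib.FieldTheory.PurelyInseparable.Basic
import Mathlib.Algebra.CharP.Reduced
import Mathlib.RingTheory.PowerSeries.Substitution
import Mathlib.RingTheory.PowerSeries.Order
import Mathlib.RingTheory.Polynomial.Basic
import Mathlib.LinearAlgebra.Matrix.Block
import Mathlib.LinearAlgebra.Finsupp.LinearCombination

set_option autoImplicit false
open FunFld

namespace Groth.Agent.S12598

variable {k K : Type*} [Field k] [Field K] [Algebra k K]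

/-- Hensel-type uniqueness: two lifts of a separable element with the same constant term agree. -/
theorem hensel_unique {E : Type*} [Field E] [Algebra E K]
    (G₁ G₂ : K →+* PowerSeries K)
    (h12 : G₁.comp (algebraMap E K) = G₂.comp (algebraMap E K))
    (hc₁ : ∀ y, PowerSeries.constantCoeff (G₁ y) = y)
    (hc₂ : ∀ y, PowerSeries.constantCoeff (G₂ y) = y)
    (y : K) (hy : IsSeparable E y) : G₁ y = G₂ y := by
  set G : E →+* PowerSeries K := G₁.comp (algebraMap E K) with hG
  set f := minpoly E y with hf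
  have hint : IsIntegral E y := hy.isIntegral
  set P : Polynomial (PowerSeries K) := f.map G with hP
  have ha : P.eval (G₁ y) = 0 := by
    rw [hP, Polynomial.eval_map, hG, ← Polynomial.hom_eval₂, ← Polynomial.aeval_def, hf,
      minpoly.aeval, map_zero]
  have hb : P.eval (G₂ y) = 0 := by
    rw [hP, Polynomial.eval_map, h12, ← Polynomial.hom_eval₂, ← Polynomial.aeval_def, hf,
      minpoly.aeval, map_zero]
  obtain ⟨c, hc⟩ := P.binomExpansion (G₁ y) (G₂ y - G₁ y)
  rw [add_sub_cancel, ha, hb, zero_add] at hc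
  have hfac : (P.derivative.eval (G₁ y) + c * (G₂ y - G₁ y)) * (G₂ y - G₁ y) = 0 := by
    rw [hc]; ring
  have hεG : (PowerSeries.constantCoeff (R := K)).comp G = algebraMap E K := by
    ext e
    simp [hG, hc₁]
  have hne : P.derivative.eval (G₁ y) + c * (G₂ y - G₁ y) ≠ 0 := by
    intro h0
    have h1 := congrArg (PowerSeries.constantCoeff (R := K)) h0
    rw [map_add, map_mul, map_sub, hc₁, hc₂, sub_self, mul_zero, add_zero, map_zero, hP,
      Polynomial.derivative_map, Polynomial.eval_map, Polynomial.hom_eval₂, hεG, hc₁,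
      ← Polynomial.aeval_def] at h1
    exact hy.aeval_derivative_ne_zero (minpoly.aeval E y) h1
  rcases mul_eq_zero.mp hfac with h | h
  · exact absurd h hne
  · exact (sub_eq_zero.mp h).symm

/-- The equalizer of two algebra maps from a field to a commutative ring, as an intermediate
field. -/
def eqField {R : Type*} [CommRing R] [Algebra k R] (G₁ G₂ : K →ₐ[k] R) : IntermediateField k K where
  toSubalgebra := AlgHom.equalizer G₁ G₂
  inv_mem' := by
    intro y hy
    have hy' : G₁ y = G₂ y := hy
    change G₁ y⁻¹ = G₂ y⁻¹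
    by_cases h0 : y = 0
    · simp [h0]
    · have e1 : G₁ y⁻¹ * G₁ y = 1 := by rw [← map_mul, inv_mul_cancel₀ h0, map_one]
      have e2 : G₂ y * G₂ y⁻¹ = 1 := by rw [← map_mul, mul_inv_cancel₀ h0, map_one]
      calc G₁ y⁻¹ = G₁ y⁻¹ * (G₂ y * G₂ y⁻¹) := by rw [e2, mul_one]
        _ = (G₁ y⁻¹ * G₁ y) * G₂ y⁻¹ := by rw [hy']; ring
        _ = G₂ y⁻¹ := by rw [e1, one_mul]

theorem mem_eqField {R : Type*} [CommRing R] [Algebra k R] (G₁ G₂ : K →ₐ[k] R) (y : K) :
    y ∈ eqField G₁ G₂ ↔ G₁ y = G₂ y := Iff.rfl

open IntermediateField in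
/-- Uniqueness of Hasse-type families. -/
theorem hasse_unique (G₁ G₂ : K →ₐ[k] PowerSeries K)
    (hc₁ : ∀ y, PowerSeries.constantCoeff (G₁ y) = y)
    (hc₂ : ∀ y, PowerSeries.constantCoeff (G₂ y) = y)
    (s : K) (hs : G₁ s = G₂ s) (halg : Algebra.IsAlgebraic k⟮s⟯ K) : G₁ = G₂ := by
  set E := eqField G₁ G₂ with hE
  have hsE : k⟮s⟯ ≤ E := by
    rw [adjoin_simple_le_iff]
    exact hs
  have halgE : Algebra.IsAlgebraic E K := by
    refine ⟨fun y => ?_⟩
    have := (halg.isAlgebraic y).ringHom_of_comp_eq (S := E) (B := K)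
      (IntermediateField.inclusion hsE) (RingHom.id K) (IntermediateField.inclusion hsE).injective
      (by ext; rfl)
    simpa using this
  have h12 : (G₁ : K →+* PowerSeries K).comp (algebraMap E K) =
      (G₂ : K →+* PowerSeries K).comp (algebraMap E K) := by
    ext1 e
    exact e.2
  have hsep : ∀ z : K, IsSeparable E z → G₁ z = G₂ z := fun z hz =>
    hensel_unique (E := E) (G₁ : K →+* PowerSeries K) (G₂ : K →+* PowerSeries K) h12 hc₁ hc₂ z hz
  set q := ringExpChar E with hq
  haveI : ExpChar (PowerSeries K) q :=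
    expChar_of_injective_ringHom (f := ((G₁ : K →+* PowerSeries K).comp (algebraMap E K)))
      (RingHom.injective _) q
  ext1 y
  obtain ⟨n, ⟨z, hz⟩⟩ := IsPurelyInseparable.pow_mem (separableClosure E K) q y
  have hz' : G₁ (z : K) = G₂ (z : K) := hsep z (mem_separableClosure_iff.mp z.2)
  have hz2 : ((z : K)) = y ^ q ^ n := hz
  rw [hz2, map_pow, map_pow] at hz'
  exact iterateFrobenius_inj (PowerSeries K) q n hz'

section PS
variable {R : Type*} [CommRing R]

theorem coeff_pow_of_lt {u : PowerSeries R} (hu : PowerSeries.constantCoeff u = 0) {j d : ℕ}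
    (h : j < d) : PowerSeries.coeff j (u ^ d) = 0 := by
  apply PowerSeries.coeff_of_lt_order
  refine lt_of_lt_of_le ?_ (PowerSeries.le_order_pow_of_constantCoeff_eq_zero d hu)
  exact_mod_cast h

theorem coeff_pow_self {u : PowerSeries R} (hu : PowerSeries.constantCoeff u = 0) (j : ℕ) :
    PowerSeries.coeff j (u ^ j) = (PowerSeries.coeff 1 u) ^ j := by
  obtain ⟨v, rfl⟩ := PowerSeries.X_dvd_iff.mpr hu
  rw [mul_pow, PowerSeries.coeff_X_pow_mul', if_pos le_rfl, Nat.sub_self,
    PowerSeries.coeff_zero_eq_constantCoeff_apply, map_pow]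
  congr 1
  have := PowerSeries.coeff_X_pow_mul' v 1 1
  rw [pow_one] at this
  rw [this, if_pos le_rfl, Nat.sub_self, PowerSeries.coeff_zero_eq_constantCoeff_apply]

theorem coeff_subst_eq_sum {u : PowerSeries R} (hu : PowerSeries.constantCoeff u = 0)
    (f : PowerSeries R) (j : ℕ) :
    PowerSeries.coeff j (f.subst u) =
      ∑ d ∈ Finset.range (j + 1), PowerSeries.coeff d f * PowerSeries.coeff j (u ^ d) := by
  rw [PowerSeries.coeff_subst' (PowerSeries.HasSubst.of_constantCoeff_zero' hu)]
  rw [finsum_eq_sum_of_support_subset]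
  · rfl
  · intro d hd
    rw [Function.mem_support] at hd
    simp only [Finset.coe_range, Set.mem_Iio]
    by_contra hlt
    apply hd
    rw [coeff_pow_of_lt hu (by omega), smul_zero]

theorem constantCoeff_subst' {u : PowerSeries R} (hu : PowerSeries.constantCoeff u = 0)
    (f : PowerSeries R) : PowerSeries.constantCoeff (f.subst u) = PowerSeries.constantCoeff f := by
  rw [← PowerSeries.coeff_zero_eq_constantCoeff_apply, coeff_subst_eq_sum hu]
  simp

end PS

/-- Chain rule for total Hasse derivatives. -/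
theorem chain_rule (hK : FunFld.IsFunctionField k K) {s t : K} {Hs Ht : K →ₐ[k] PowerSeries K}
    (hHs : LocRes.IsHasseFamily s Hs) (hHt : LocRes.IsHasseFamily t Ht) (y : K) :
    Ht y = (Hs y).subst (Ht s - PowerSeries.C s) := by
  have hu0 : PowerSeries.constantCoeff (Ht s - PowerSeries.C s) = 0 := by
    rw [map_sub, hHt.2, PowerSeries.constantCoeff_C, sub_self]
  have hu := PowerSeries.HasSubst.of_constantCoeff_zero' hu0
  let G₂ : K →ₐ[k] PowerSeries K :=
    ((PowerSeries.substAlgHom hu : PowerSeries K →ₐ[K] PowerSeries K).restrictScalars k).comp Hs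
  have hG₂ : ∀ z, G₂ z = (Hs z).subst (Ht s - PowerSeries.C s) := by
    intro z
    simp only [G₂, AlgHom.comp_apply, AlgHom.restrictScalars_apply, PowerSeries.coe_substAlgHom]
  have hs := Groth.Agent.S12600.transcendental_of_hasse hK hHs
  have := Groth.Agent.Lib.H40FunFld.finiteDimensional_adjoin_of_transcendental hK hs
  have halg : Algebra.IsAlgebraic (IntermediateField.adjoin k {s}) K :=
    Algebra.IsAlgebraic.of_finite _ _
  have key : Ht = G₂ := by
    refine hasse_unique Ht G₂ hHt.2 (fun z => ?_) s ?_ halg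
    · rw [hG₂, constantCoeff_subst' hu0, hHs.2]
    · rw [hG₂, hHs.1, PowerSeries.subst_add hu, PowerSeries.subst_X hu]
      have : (PowerSeries.C s : PowerSeries K).subst (Ht s - PowerSeries.C s) = PowerSeries.C s :=
        PowerSeries.subst_C (a := Ht s - PowerSeries.C s) s
      rw [this]; ring
  rw [← hG₂, ← key]

theorem hasseD_one_ne_zero (hK : FunFld.IsFunctionField k K) {s t : K}
    {Hs Ht : K →ₐ[k] PowerSeries K}
    (hHs : LocRes.IsHasseFamily s Hs) (hHt : LocRes.IsHasseFamily t Ht) :
    LocRes.hasseD Ht 1 s ≠ 0 := by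
  have hu0 : PowerSeries.constantCoeff (Hs t - PowerSeries.C t) = 0 := by
    rw [map_sub, hHs.2, PowerSeries.constantCoeff_C, sub_self]
  have h1 := chain_rule hK hHt hHs s
  have h2 := congrArg (PowerSeries.coeff 1) h1
  rw [hHs.1, coeff_subst_eq_sum hu0] at h2
  simp only [Finset.sum_range_succ, Finset.range_zero, Finset.sum_empty, zero_add, pow_zero,
    pow_one, map_add, PowerSeries.coeff_one_X, PowerSeries.coeff_one, one_ne_zero, if_false,
    mul_zero, PowerSeries.coeff_C] at h2
  intro h
  rw [LocRes.hasseD_apply] at h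
  rw [h, zero_mul] at h2
  exact one_ne_zero h2

/-- Abstract form: two column sequences related by a triangular change with unit diagonal. -/
theorem span_eq_and_jump_iff {K M : Type*} [Field K] [AddCommGroup M] [Module K M] (c c' : ℕ → M)
    (d : ℕ → K) (hd : ∀ j, d j ≠ 0) (h0 : c' 0 = c 0)
    (hs : ∀ j, c' (j + 1) - d j • c (j + 1) ∈ Submodule.span K (c '' Set.Iio (j + 1))) :
    (∀ m, Submodule.span K (c' '' Set.Iio m) = Submodule.span K (c '' Set.Iio m)) ∧
    ∀ j, FunFld.IsJump K c' j ↔ FunFld.IsJump K c j := by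
  have hspan : ∀ m, Submodule.span K (c' '' Set.Iio m) = Submodule.span K (c '' Set.Iio m) := by
    intro m
    induction m with
    | zero => simp
    | succ m ih =>
      have hI : Set.Iio (m + 1) = insert m (Set.Iio m) := by
        ext i; simp
      rw [hI, Set.image_insert_eq, Set.image_insert_eq, Submodule.span_insert, Submodule.span_insert, ih]
      cases m with
      | zero =>
        rw [h0]
      | succ j =>
        have hr := hs j
        have hy := hd j
        set y := d j
        set S := Submodule.span K (c '' Set.Iio (j + 1)) with hS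
        apply le_antisymm
        · refine sup_le ?_ le_sup_right
          rw [Submodule.span_singleton_le_iff_mem]
          have : c' (j + 1) = y • c (j + 1) + (c' (j + 1) - y • c (j + 1)) := by abel
          rw [this]
          exact Submodule.add_mem _
            (Submodule.mem_sup_left (Submodule.smul_mem _ _ (Submodule.mem_span_singleton_self _)))
            (Submodule.mem_sup_right hr)
        · refine sup_le ?_ le_sup_right
          rw [Submodule.span_singleton_le_iff_mem]
          have : c (j + 1) = y⁻¹ • c' (j + 1) - y⁻¹ • (c' (j + 1) - y • c (j + 1)) := by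
            rw [smul_sub, smul_smul, inv_mul_cancel₀ hy, one_smul]; abel
          rw [this]
          exact Submodule.sub_mem _
            (Submodule.mem_sup_left (Submodule.smul_mem _ _ (Submodule.mem_span_singleton_self _)))
            (Submodule.mem_sup_right (Submodule.smul_mem _ _ hr))
  refine ⟨hspan, fun j => ?_⟩
  unfold FunFld.IsJump
  rw [hspan j]
  cases j with
  | zero =>
    rw [h0]
  | succ j =>
    have hr := hs j
    have hy := hd j
    set y := d j
    set S := Submodule.span K (c '' Set.Iio (j + 1)) with hS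
    constructor
    · intro h h'
      apply h
      have : c' (j + 1) = y • c (j + 1) + (c' (j + 1) - y • c (j + 1)) := by abel
      rw [this]
      exact Submodule.add_mem _ (Submodule.smul_mem _ _ h') hr
    · intro h h'
      apply h
      have : c (j + 1) = y⁻¹ • c' (j + 1) - y⁻¹ • (c' (j + 1) - y • c (j + 1)) := by
        rw [smul_sub, smul_smul, inv_mul_cancel₀ hy, one_smul]; abel
      rw [this]
      exact Submodule.sub_mem _ (Submodule.smul_mem _ _ h') (Submodule.smul_mem _ _ hr)

/-- Determinant of the jump minor under a triangular change of columns. -/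
theorem det_change {K : Type*} [Field K] {n : ℕ} (c c' : ℕ → Fin (n + 1) → K)
    (d : ℕ → K) (h0 : c' 0 = c 0)
    (hs : ∀ j, c' (j + 1) - d j • c (j + 1) ∈ Submodule.span K (c '' Set.Iio (j + 1)))
    (J : Fin n → ℕ) (hJ : FunFld.IsOrders K c J) :
    (Matrix.of fun i x => c' (Fin.cases (motive := fun _ => ℕ) 0 (fun m => J m + 1) x) i).det =
      (∏ l, d (J l)) *
        (Matrix.of fun i x => c (Fin.cases (motive := fun _ => ℕ) 0 (fun m => J m + 1) x) i).det := by
  classical
  let g : Fin (n + 1) → ℕ := fun x => Fin.cases (motive := fun _ => ℕ) 0 (fun m => J m + 1) x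
  set Wm : Matrix (Fin (n + 1)) (Fin (n + 1)) K := Matrix.of fun i x => c (g x) i with hWm
  set Wm' : Matrix (Fin (n + 1)) (Fin (n + 1)) K := Matrix.of fun i x => c' (g x) i with hWm'
  change Wm'.det = _ * Wm.det
  have hcol : ∀ x, Wm.col x = c (g x) := fun x => rfl
  have hrem : ∀ l : Fin n, c' (J l + 1) - d (J l) • c (J l + 1) ∈
      Submodule.span K (Wm.col '' (Set.Iio l.succ)) := by
    intro l
    have h1 := hs (J l)
    rw [Groth.Agent.S12601.span_Iio_eq_span_jumps] at h1
    refine Submodule.span_mono ?_ h1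
    rintro _ ⟨j, ⟨hj, hjump⟩, rfl⟩
    rcases j with _ | j
    · exact ⟨0, Fin.succ_pos l, by rw [hcol]; rfl⟩
    · obtain ⟨i, rfl⟩ : j ∈ Set.range J := (hJ.2 j).mpr hjump
      have hil : i < l := hJ.1.lt_iff_lt.mp (by omega)
      exact ⟨i.succ, Fin.succ_lt_succ_iff.mpr hil, by rw [hcol]; rfl⟩
  have hcoef : ∀ l : Fin n, ∃ u : Fin (n + 1) → K, (∀ x, l.succ ≤ x → u x = 0) ∧
      ∑ x, u x • Wm.col x = c' (J l + 1) - d (J l) • c (J l + 1) := by
    intro l
    have h2 := hrem l
    rw [← Finset.coe_Iio, Submodule.mem_span_image_finset_iff_exists_fun'] at h2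
    obtain ⟨u, hu⟩ := h2
    refine ⟨fun x => if x < l.succ then u x else 0, fun x hx => if_neg (not_lt.mpr hx), ?_⟩
    rw [← hu]
    simp only [ite_smul, zero_smul]
    rw [← Finset.sum_filter]
    congr 1
    ext x
    simp
  choose u hu0 husum using hcoef
  let U : Matrix (Fin (n + 1)) (Fin (n + 1)) K := Matrix.of fun x z =>
    Fin.cases (motive := fun _ => K) (if x = 0 then 1 else 0)
      (fun l => u l x + if x = l.succ then d (J l) else 0) z
  have hU : Wm' = Wm * U := by
    ext i z
    rw [Matrix.mul_apply]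
    refine Fin.cases ?_ (fun l => ?_) z
    · simp only [U, Matrix.of_apply, Fin.cases_zero, mul_ite, mul_zero, Finset.sum_ite_eq',
        Finset.mem_univ, if_true]
      simp [hWm, hWm', g, h0]
    · simp only [U, Matrix.of_apply, Fin.cases_succ, mul_add, Finset.sum_add_distrib, mul_ite,
        mul_zero, Finset.sum_ite_eq', Finset.mem_univ, if_true]
      have e1 := congrFun (husum l) i
      simp only [Finset.sum_apply, Pi.smul_apply, Pi.sub_apply, smul_eq_mul, Matrix.col_apply] at e1
      have e2 : Wm' i l.succ = c' (J l + 1) i := by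
        simp [hWm', g]
      have e3 : Wm i l.succ = c (J l + 1) i := by
        simp [hWm, g]
      rw [e2, e3]
      have : ∑ x, Wm i x * u l x = ∑ x, u l x * Wm i x :=
        Finset.sum_congr rfl fun x _ => mul_comm _ _
      rw [this, e1]
      ring
  have hUtri : U.IsUpperTriangular := by
    intro x z hzx
    simp only [id] at hzx
    revert hzx
    refine Fin.cases ?_ (fun l => ?_) z
    · intro hzx
      simp only [U, Matrix.of_apply, Fin.cases_zero]
      rw [if_neg (ne_of_gt hzx)]
    · intro hzx
      simp only [U, Matrix.of_apply, Fin.cases_succ]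
      rw [hu0 l x (le_of_lt hzx), if_neg (ne_of_gt hzx), add_zero]
  have hUdet : U.det = ∏ l, d (J l) := by
    rw [Matrix.det_of_isUpperTriangular hUtri, Fin.prod_univ_succ]
    simp only [U, Matrix.of_apply, Fin.cases_zero, Fin.cases_succ, if_true, one_mul]
    refine Finset.prod_congr rfl fun l _ => ?_
    rw [hu0 l l.succ le_rfl, zero_add]
  rw [hU, Matrix.det_mul, hUdet]
  ring



/-- Over an algebraically closed constant field, the `τ`-order sequence `J = (j₁, …, jₙ)` of a
projective map `φ` does not depend on the separating variable used for the Hasse derivatives, and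
the Wronskians with respect to `t` and to `s` differ by the factor `(ds/dt)^(j₁ + ⋯ + jₙ)`, where
`ds/dt` is the first Hasse derivative of `s` with respect to `t`. -/
theorem result
    (k K : Type*) [Field k] [IsAlgClosed k] [Field K] [Algebra k K]
    (hK : FunFld.IsFunctionField k K) {n : ℕ} (φ : Fin (n + 1) → K) (hφ : LinearIndependent k φ)
    (τ : K →ₐ[k] K) (s : K) (Hs : K →ₐ[k] PowerSeries K) (hHs : LocRes.IsHasseFamily s Hs)
    (t : K) (Ht : K →ₐ[k] PowerSeries K) (hHt : LocRes.IsHasseFamily t Ht) :
    (∀ J : Fin n → ℕ, FunFld.IsOrders K (FunFld.hcol τ Ht φ) J ↔ FunFld.IsOrders K (FunFld.hcol τ Hs φ) J) ∧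
    ∀ J : Fin n → ℕ, FunFld.IsOrders K (FunFld.hcol τ Hs φ) J →
      (FunFld.wrMat τ Ht φ J).det =
        LocRes.hasseD Ht 1 s ^ (∑ l, J l) * (FunFld.wrMat τ Hs φ J).det := by
  classical
  have hu0 : PowerSeries.constantCoeff (Ht s - PowerSeries.C s) = 0 := by
    rw [map_sub, hHt.2, PowerSeries.constantCoeff_C, sub_self]
  set u := Ht s - PowerSeries.C s with hu
  set w := LocRes.hasseD Ht 1 s with hw
  have hw0 : w ≠ 0 := hasseD_one_ne_zero hK hHs hHt
  have hwu : PowerSeries.coeff 1 u = w := by
    rw [hu, map_sub, PowerSeries.coeff_C, if_neg one_ne_zero, sub_zero]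
    rfl
  set c := FunFld.hcol τ Hs φ with hc
  set c' := FunFld.hcol τ Ht φ with hc'
  have h0 : c' 0 = c 0 := rfl
  have hsum : ∀ j, c' (j + 1) =
      ∑ d ∈ Finset.range (j + 1), PowerSeries.coeff j (u ^ d) • c (d + 1) := by
    intro j
    funext i
    have e1 : c' (j + 1) i = PowerSeries.coeff j (Ht (φ i)) := rfl
    rw [e1, chain_rule hK hHs hHt (φ i), coeff_subst_eq_sum hu0, Finset.sum_apply]
    refine Finset.sum_congr rfl fun d _ => ?_
    rw [Pi.smul_apply, smul_eq_mul, mul_comm]
    rfl
  have hs : ∀ j, c' (j + 1) - w ^ j • c (j + 1) ∈ Submodule.span K (c '' Set.Iio (j + 1)) := by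
    intro j
    rw [hsum j, Finset.sum_range_succ, coeff_pow_self hu0 j, hwu, add_sub_cancel_right]
    refine Submodule.sum_mem _ fun m hm => Submodule.smul_mem _ _ (Submodule.subset_span ?_)
    refine ⟨m + 1, ?_, rfl⟩
    have := Finset.mem_range.mp hm
    simp only [Set.mem_Iio]; omega
  obtain ⟨hspan, hjump⟩ := span_eq_and_jump_iff c c' (fun j => w ^ j) (fun j => pow_ne_zero j hw0) h0 hs
  refine ⟨fun J => ?_, fun J hJ => ?_⟩
  · unfold FunFld.IsOrders
    simp only [hjump]
  · have hdet := det_change c c' (fun j => w ^ j) h0 hs J hJ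
    have e : FunFld.wrMat τ Hs φ J =
        Matrix.of fun i x => c (Fin.cases (motive := fun _ => ℕ) 0 (fun m => J m + 1) x) i := by
      ext i x
      refine Fin.cases ?_ (fun m => ?_) x
      · simp [FunFld.wrMat, hc, FunFld.hcol]
      · simp [FunFld.wrMat, hc, FunFld.hcol]
    have e' : FunFld.wrMat τ Ht φ J =
        Matrix.of fun i x => c' (Fin.cases (motive := fun _ => ℕ) 0 (fun m => J m + 1) x) i := by
      ext i x
      refine Fin.cases ?_ (fun m => ?_) x
      · simp [FunFld.wrMat, hc', FunFld.hcol]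
      · simp [FunFld.wrMat, hc', FunFld.hcol]
    rw [e', e, hdet, Finset.prod_pow_eq_pow_sum]

end Groth.Agent.S12598
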