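import Groth.Statements.S12596
import Mathlib.LinearAlgebra.Matrix.ToLin
import Mathlib.LinearAlgebra.Matrix.NonsingularInverse
import Mathlib.LinearAlgebra.Matrix.Nondegenerate
-- import your own Groth.Agent.* helpers here

set_option autoImplicit false
open FunFld

namespace Groth.Agent.S12596

theorem isJump_comp_iff {K M N : Type*} [Field K] [AddCommGroup M] [Module K M] [AddCommGroup N] [Module K N]
    (L : M →ₗ[K] N) (hL : Function.Injective L) (c : ℕ → M) (j : ℕ) :
    FunFld.IsJump K (fun m => L (c m)) j ↔ FunFld.IsJump K c j := by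
  unfold FunFld.IsJump
  have : (fun m => L (c m)) '' Set.Iio j = L '' (c '' Set.Iio j) := by
    rw [Set.image_image]
  rw [this, ← Submodule.map_span]
  constructor
  · intro h h'
    exact h ⟨c j, h', rfl⟩
  · rintro h ⟨y, hy, hyc⟩
    exact h (hL hyc ▸ hy)


/-- Over an algebraically closed constant field, replacing a projective map `φ` by `Aφ` for an
invertible matrix `A` over `k` does not change the `τ`-order sequence, and multiplies every
generalized Wronskian determinant `det [τ(φ) | D^(I₁) φ | ⋯ | D^(Iₙ) φ]` (Hasse derivatives taken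
with `H`) by `det A`. -/
theorem result
    (k K : Type*) [Field k] [IsAlgClosed k] [Field K] [Algebra k K]
    (hK : FunFld.IsFunctionField k K) {n : ℕ} (φ : Fin (n + 1) → K) (hφ : LinearIndependent k φ)
    (τ : K →ₐ[k] K) (s : K) (H : K →ₐ[k] PowerSeries K) (hH : LocRes.IsHasseFamily s H)
    (A : Matrix (Fin (n + 1)) (Fin (n + 1)) k) (hA : A.det ≠ 0)
    (φ' : Fin (n + 1) → K) (hφ' : ∀ i, φ' i = ∑ j, A i j • φ j) :
    (∀ J : Fin n → ℕ, FunFld.IsOrders K (FunFld.hcol τ H φ') J ↔ FunFld.IsOrders K (FunFld.hcol τ H φ) J) ∧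
    ∀ I : Fin n → ℕ, (FunFld.wrMat τ H φ' I).det = algebraMap k K A.det * (FunFld.wrMat τ H φ I).det := by
  classical
  set AK : Matrix (Fin (n + 1)) (Fin (n + 1)) K := A.map (algebraMap k K) with hAK
  have hdet : AK.det = algebraMap k K A.det := by
    rw [hAK, ← RingHom.mapMatrix_apply, ← RingHom.map_det]
  have hdet0 : AK.det ≠ 0 := by
    rw [hdet]; exact (map_ne_zero _).mpr hA
  -- k-linearity of τ and of the Hasse derivatives
  have hτ : ∀ i, τ (φ' i) = ∑ l, AK i l * τ (φ l) := by
    intro i
    rw [hφ' i, map_sum]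
    refine Finset.sum_congr rfl fun l _ => ?_
    rw [map_smul, Algebra.smul_def]; rfl
  have hD : ∀ j i, LocRes.hasseD H j (φ' i) = ∑ l, AK i l * LocRes.hasseD H j (φ l) := by
    intro j i
    simp only [LocRes.hasseD_apply]
    rw [hφ' i, map_sum, map_sum]
    refine Finset.sum_congr rfl fun l _ => ?_
    rw [map_smul, ← algebraMap_smul K (A i l) (H (φ l)), PowerSeries.coeff_smul]
    rfl
  -- the columns transform by `AK`
  have hcol : ∀ j, FunFld.hcol τ H φ' j = AK.mulVecLin (FunFld.hcol τ H φ j) := by
    intro j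
    funext i
    cases j with
    | zero => simp only [FunFld.hcol, Matrix.mulVecLin_apply, Matrix.mulVec, dotProduct]; exact hτ i
    | succ j => simp only [FunFld.hcol, Matrix.mulVecLin_apply, Matrix.mulVec, dotProduct]; exact hD j i
  have hinj : Function.Injective AK.mulVecLin := by
    intro x y hxy
    exact Matrix.mulVec_injective_of_det_ne_zero hdet0 hxy
  have hjump : ∀ j, FunFld.IsJump K (FunFld.hcol τ H φ') j ↔ FunFld.IsJump K (FunFld.hcol τ H φ) j := by
    intro j
    have : FunFld.hcol τ H φ' = fun m => AK.mulVecLin (FunFld.hcol τ H φ m) := funext hcol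
    rw [this]
    exact isJump_comp_iff AK.mulVecLin hinj _ j
  refine ⟨fun J => ?_, fun I => ?_⟩
  · unfold FunFld.IsOrders
    simp only [hjump]
  · have hmat : FunFld.wrMat τ H φ' I = AK * FunFld.wrMat τ H φ I := by
      ext i c
      rw [Matrix.mul_apply]
      refine Fin.cases ?_ (fun m => ?_) c
      · simp only [FunFld.wrMat, Matrix.of_apply, Fin.cases_zero]; exact hτ i
      · simp only [FunFld.wrMat, Matrix.of_apply, Fin.cases_succ]; exact hD (I m) i
    rw [hmat, Matrix.det_mul, hdet]

end Groth.Agent.S12596
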