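import Groth.Statements.S12597
import Mathlib.LinearAlgebra.Matrix.Block
import Mathlib.LinearAlgebra.Finsupp.LinearCombination
import Mathlib.Algebra.BigOperators.NatAntidiagonal
import Mathlib.RingTheory.PowerSeries.Basic
-- import your own Groth.Agent.* helpers here

set_option autoImplicit false
open FunFld

namespace Groth.Agent.S12597

theorem span_Iio_eq_span_jumps {K M : Type*} [Field K] [AddCommGroup M] [Module K M] (c : ℕ → M) (m : ℕ) :
    Submodule.span K (c '' Set.Iio m) =
      Submodule.span K (c '' {j | j < m ∧ FunFld.IsJump K c j}) := by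
  induction m with
  | zero => simp
  | succ m ih =>
    apply le_antisymm
    · rw [Submodule.span_le]
      rintro _ ⟨j, hj, rfl⟩
      have hmono : Submodule.span K (c '' {i | i < m ∧ FunFld.IsJump K c i}) ≤
          Submodule.span K (c '' {i | i < m + 1 ∧ FunFld.IsJump K c i}) :=
        Submodule.span_mono (Set.image_mono fun i hi => ⟨Nat.lt_succ_of_lt hi.1, hi.2⟩)
      rcases Nat.lt_succ_iff_lt_or_eq.mp hj with hlt | rfl
      · have : c j ∈ Submodule.span K (c '' Set.Iio m) := Submodule.subset_span ⟨j, hlt, rfl⟩
        rw [ih] at this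
        exact hmono this
      · by_cases hjump : FunFld.IsJump K c j
        · exact Submodule.subset_span ⟨j, ⟨Nat.lt_succ_self j, hjump⟩, rfl⟩
        · have : c j ∈ Submodule.span K (c '' Set.Iio j) := not_not.mp hjump
          rw [ih] at this
          exact hmono this
    · exact Submodule.span_mono (Set.image_mono fun i hi => hi.1)

/-- Abstract form: two column sequences related by a unitriangular-up-to-scalars change. -/
theorem span_eq_and_jump_iff {K M : Type*} [Field K] [AddCommGroup M] [Module K M] (c c' : ℕ → M)
    (a y : K) (ha : a ≠ 0) (hy : y ≠ 0) (h0 : c' 0 = a • c 0)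
    (hs : ∀ j, c' (j + 1) - y • c (j + 1) ∈ Submodule.span K (c '' Set.Iio (j + 1))) :
    (∀ m, Submodule.span K (c' '' Set.Iio m) = Submodule.span K (c '' Set.Iio m)) ∧
    ∀ j, FunFld.IsJump K c' j ↔ FunFld.IsJump K c j := by
  have hspan : ∀ m, Submodule.span K (c' '' Set.Iio m) = Submodule.span K (c '' Set.Iio m) := by
    intro m
    induction m with
    | zero => simp
    | succ m ih =>
      have hI : Set.Iio (m + 1) = insert m (Set.Iio m) := by
        ext i; simp
      rw [hI, Set.image_insert_eq, Set.image_insert_eq, Submodule.span_insert, Submodule.span_insert, ih]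
      cases m with
      | zero =>
        rw [h0]
        congr 1
        exact Submodule.span_singleton_smul_eq (IsUnit.mk0 a ha) (c 0)
      | succ j =>
        have hr := hs j
        set S := Submodule.span K (c '' Set.Iio (j + 1)) with hS
        apply le_antisymm
        · refine sup_le ?_ le_sup_right
          rw [Submodule.span_singleton_le_iff_mem]
          have : c' (j + 1) = y • c (j + 1) + (c' (j + 1) - y • c (j + 1)) := by abel
          rw [this]
          exact Submodule.add_mem _
            (Submodule.mem_sup_left (Submodule.smul_mem _ _ (Submodule.mem_span_singleton_self _)))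
            (Submodule.mem_sup_right hr)
        · refine sup_le ?_ le_sup_right
          rw [Submodule.span_singleton_le_iff_mem]
          have : c (j + 1) = y⁻¹ • c' (j + 1) - y⁻¹ • (c' (j + 1) - y • c (j + 1)) := by
            rw [smul_sub, smul_smul, inv_mul_cancel₀ hy, one_smul]; abel
          rw [this]
          exact Submodule.sub_mem _
            (Submodule.mem_sup_left (Submodule.smul_mem _ _ (Submodule.mem_span_singleton_self _)))
            (Submodule.mem_sup_right (Submodule.smul_mem _ _ hr))
  refine ⟨hspan, fun j => ?_⟩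
  unfold FunFld.IsJump
  rw [hspan j]
  cases j with
  | zero =>
    have hI : Set.Iio (0 : ℕ) = ∅ := by ext i; simp
    rw [hI, Set.image_empty, Submodule.span_empty, Submodule.mem_bot,
      Submodule.mem_bot, h0, smul_eq_zero]
    simp [ha]
  | succ j =>
    have hr := hs j
    set S := Submodule.span K (c '' Set.Iio (j + 1)) with hS
    constructor
    · intro h h'
      apply h
      have : c' (j + 1) = y • c (j + 1) + (c' (j + 1) - y • c (j + 1)) := by abel
      rw [this]
      exact Submodule.add_mem _ (Submodule.smul_mem _ _ h') hr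
    · intro h h'
      apply h
      have : c (j + 1) = y⁻¹ • c' (j + 1) - y⁻¹ • (c' (j + 1) - y • c (j + 1)) := by
        rw [smul_sub, smul_smul, inv_mul_cancel₀ hy, one_smul]; abel
      rw [this]
      exact Submodule.sub_mem _ (Submodule.smul_mem _ _ h') (Submodule.smul_mem _ _ hr)


/-- Over an algebraically closed constant field, multiplying a projective map `φ = (φ₀, …, φₙ)` by a
nonzero function `y` does not change its `τ`-order sequence `J`, and multiplies the Wronskian `det
[τ(φ) | D^(j₁) φ | ⋯ | D^(jₙ) φ]` taken at that sequence by `τ(y) yⁿ`. -/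
theorem result
    (k K : Type*) [Field k] [IsAlgClosed k] [Field K] [Algebra k K]
    (hK : FunFld.IsFunctionField k K) {n : ℕ} (φ : Fin (n + 1) → K) (hφ : LinearIndependent k φ)
    (τ : K →ₐ[k] K) (s : K) (H : K →ₐ[k] PowerSeries K) (hH : LocRes.IsHasseFamily s H) (y : K) (hy : y ≠ 0) :
    (∀ J : Fin n → ℕ, FunFld.IsOrders K (FunFld.hcol τ H (y • φ)) J ↔ FunFld.IsOrders K (FunFld.hcol τ H φ) J) ∧
    ∀ J : Fin n → ℕ, FunFld.IsOrders K (FunFld.hcol τ H φ) J →
      (FunFld.wrMat τ H (y • φ) J).det = τ y * y ^ n * (FunFld.wrMat τ H φ J).det := by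
  classical
  set c := FunFld.hcol τ H φ with hc
  set c' := FunFld.hcol τ H (y • φ) with hc'
  have hτy : τ y ≠ 0 := (map_ne_zero τ).mpr hy
  have hD0 : LocRes.hasseD H 0 y = y := by
    rw [LocRes.hasseD_apply, PowerSeries.coeff_zero_eq_constantCoeff_apply]; exact hH.2 y
  have hleib : ∀ j i, LocRes.hasseD H j (y * φ i) =
      ∑ p ∈ Finset.HasAntidiagonal.antidiagonal j, LocRes.hasseD H p.1 y * LocRes.hasseD H p.2 (φ i) := by
    intro j i
    simp only [LocRes.hasseD_apply, map_mul, PowerSeries.coeff_mul]
  have h0 : c' 0 = τ y • c 0 := by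
    funext i
    simp [hc, hc', FunFld.hcol]
  have hsum : ∀ j, c' (j + 1) = ∑ m ∈ Finset.range (j + 1), LocRes.hasseD H m y • c (j - m + 1) := by
    intro j
    funext i
    have : c' (j + 1) i = LocRes.hasseD H j (y * φ i) := by
      simp [hc', FunFld.hcol]
    rw [this, hleib, Finset.Nat.sum_antidiagonal_eq_sum_range_succ
      (fun a b => LocRes.hasseD H a y * LocRes.hasseD H b (φ i)), Finset.sum_apply]
    refine Finset.sum_congr rfl fun m _ => ?_
    simp [hc, FunFld.hcol]
  have hs : ∀ j, c' (j + 1) - y • c (j + 1) ∈ Submodule.span K (c '' Set.Iio (j + 1)) := by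
    intro j
    rw [hsum j, Finset.sum_range_succ', hD0, Nat.sub_zero, add_sub_cancel_right]
    refine Submodule.sum_mem _ fun m hm => Submodule.smul_mem _ _ (Submodule.subset_span ?_)
    refine ⟨j - (m + 1) + 1, ?_, rfl⟩
    have := Finset.mem_range.mp hm
    simp only [Set.mem_Iio]; omega
  obtain ⟨hspan, hjump⟩ := span_eq_and_jump_iff c c' (τ y) y hτy hy h0 hs
  refine ⟨fun J => ?_, fun J hJ => ?_⟩
  · unfold FunFld.IsOrders
    simp only [hjump]
  · set Wm := FunFld.wrMat τ H φ J with hWm
    set Wm' := FunFld.wrMat τ H (y • φ) J with hWm'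
    let g : Fin (n + 1) → ℕ := fun x => Fin.cases (motive := fun _ => ℕ) 0 (fun m => J m + 1) x
    have hcol : ∀ x, Wm.col x = c (g x) := by
      intro x
      funext i
      refine Fin.cases ?_ (fun m => ?_) x
      · simp [Matrix.col, hWm, FunFld.wrMat, g, hc, FunFld.hcol]
      · simp [Matrix.col, hWm, FunFld.wrMat, g, hc, FunFld.hcol]
    have hcol' : ∀ x, Wm'.col x = c' (g x) := by
      intro x
      funext i
      refine Fin.cases ?_ (fun m => ?_) x
      · simp [Matrix.col, hWm', FunFld.wrMat, g, hc', FunFld.hcol]
      · simp [Matrix.col, hWm', FunFld.wrMat, g, hc', FunFld.hcol]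
    have hrem : ∀ l : Fin n, c' (J l + 1) - y • c (J l + 1) ∈
        Submodule.span K (Wm.col '' (Set.Iio l.succ)) := by
      intro l
      have h1 := hs (J l)
      rw [span_Iio_eq_span_jumps] at h1
      refine Submodule.span_mono ?_ h1
      rintro _ ⟨j, ⟨hj, hjump⟩, rfl⟩
      rcases j with _ | j
      · exact ⟨0, Fin.succ_pos l, by rw [hcol]; rfl⟩
      · obtain ⟨i, rfl⟩ : j ∈ Set.range J := (hJ.2 j).mpr hjump
        have hil : i < l := hJ.1.lt_iff_lt.mp (by omega)
        exact ⟨i.succ, Fin.succ_lt_succ_iff.mpr hil, by rw [hcol]; rfl⟩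
    have hcoef : ∀ l : Fin n, ∃ u : Fin (n + 1) → K, (∀ x, l.succ ≤ x → u x = 0) ∧
        ∑ x, u x • Wm.col x = c' (J l + 1) - y • c (J l + 1) := by
      intro l
      have h2 := hrem l
      rw [← Finset.coe_Iio, Submodule.mem_span_image_finset_iff_exists_fun'] at h2
      obtain ⟨u, hu⟩ := h2
      refine ⟨fun x => if x < l.succ then u x else 0, fun x hx => if_neg (not_lt.mpr hx), ?_⟩
      rw [← hu]
      simp only [ite_smul, zero_smul]
      rw [← Finset.sum_filter]
      congr 1
      ext x
      simp
    choose u hu0 husum using hcoef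
    let U : Matrix (Fin (n + 1)) (Fin (n + 1)) K := Matrix.of fun x z =>
      Fin.cases (motive := fun _ => K) (if x = 0 then τ y else 0)
        (fun l => u l x + if x = l.succ then y else 0) z
    have hU : Wm' = Wm * U := by
      ext i z
      rw [Matrix.mul_apply]
      refine Fin.cases ?_ (fun l => ?_) z
      · simp only [U, Matrix.of_apply, Fin.cases_zero, mul_ite, mul_zero, Finset.sum_ite_eq',
          Finset.mem_univ, if_true]
        simp [hWm, hWm', FunFld.wrMat, mul_comm]
      · simp only [U, Matrix.of_apply, Fin.cases_succ, mul_add, Finset.sum_add_distrib, mul_ite,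
          mul_zero, Finset.sum_ite_eq', Finset.mem_univ, if_true]
        have e1 := congrFun (husum l) i
        simp only [Finset.sum_apply, Pi.smul_apply, Pi.sub_apply, smul_eq_mul, Matrix.col_apply] at e1
        have e2 : Wm' i l.succ = c' (J l + 1) i := by
          simp [hWm', FunFld.wrMat, hc', FunFld.hcol]
        have e3 : Wm i l.succ = c (J l + 1) i := by
          simp [hWm, FunFld.wrMat, hc, FunFld.hcol]
        rw [e2, e3]
        have : ∑ x, Wm i x * u l x = ∑ x, u l x * Wm i x :=
          Finset.sum_congr rfl fun x _ => mul_comm _ _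
        rw [this, e1]
        ring
    have hUtri : U.IsUpperTriangular := by
      intro x z hzx
      simp only [id] at hzx
      revert hzx
      refine Fin.cases ?_ (fun l => ?_) z
      · intro hzx
        simp only [U, Matrix.of_apply, Fin.cases_zero]
        rw [if_neg (ne_of_gt hzx)]
      · intro hzx
        simp only [U, Matrix.of_apply, Fin.cases_succ]
        rw [hu0 l x (le_of_lt hzx), if_neg (ne_of_gt hzx), add_zero]
    have hUdet : U.det = τ y * y ^ n := by
      rw [Matrix.det_of_isUpperTriangular hUtri, Fin.prod_univ_succ]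
      simp only [U, Matrix.of_apply, Fin.cases_zero, Fin.cases_succ, if_true]
      congr 1
      rw [Finset.prod_eq_pow_card (b := y)]
      · simp
      · intro l _
        rw [hu0 l l.succ le_rfl, zero_add]
    rw [hU, Matrix.det_mul, hUdet]
    ring

end Groth.Agent.S12597
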