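import Groth.Statements.S12611
import Groth.Agent.Lib.FFClass58b

set_option autoImplicit false
open FunFld

namespace Groth.Agent.S12611

open Groth.Agent.Lib.FFExp58 in
theorem binom_id_ne_zero {k : Type*} [Field k] {n : ℕ} {d : ℤ}
    (hchar : ringChar k = 0 ∨ d < ringChar k) (J' : Fin n → ℕ) (hJ' : StrictMono J')
    (hd : ∀ l, (J' l : ℤ) ≤ d) :
    (FunFld.binomMat k J' (fun l : Fin n => (l : ℕ))).det ≠ 0 := by
  have h := det_choose_ne_zero (k := k) J' (fun r r' hrr' =>
    hJ'.injective (natCast_inj_of_char hchar (hd r) (hd r') hrr'))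
  exact h

open Groth.Agent.Lib.FFExp58 in
theorem binom_succ_ne_zero {k : Type*} [Field k] {n : ℕ} {d : ℤ}
    (hchar : ringChar k = 0 ∨ d < ringChar k) (J' : Fin n → ℕ) (hJ' : StrictMono J')
    (h1 : ∀ l, 1 ≤ J' l) (hd : ∀ l, (J' l : ℤ) ≤ d) :
    (FunFld.binomMat k J' (fun l : Fin n => (l : ℕ) + 1)).det ≠ 0 := by
  classical
  rcases Nat.eq_zero_or_pos n with hn | hn
  · subst hn
    rw [Matrix.det_isEmpty]
    exact one_ne_zero
  have hd0 : (0 : ℤ) ≤ d := le_trans (by positivity) (hd ⟨0, hn⟩)
  set jj : Fin (n + 1) → ℕ := fun r => Fin.cases (motive := fun _ => ℕ) 0 (fun l => J' l) r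
    with hjj
  have hjj0 : jj 0 = 0 := rfl
  have hjjs : ∀ l : Fin n, jj l.succ = J' l := fun l => by simp [hjj]
  have hjjd : ∀ r, (jj r : ℤ) ≤ d := by
    intro r
    refine Fin.cases ?_ (fun l => ?_) r
    · simpa [hjj0] using hd0
    · rw [hjjs]; exact hd l
  have hinj : Function.Injective fun r => (jj r : k) := by
    intro r r' hrr'
    have h2 : jj r = jj r' := natCast_inj_of_char hchar (hjjd r) (hjjd r') hrr'
    revert h2
    refine Fin.cases ?_ (fun l => ?_) r
    · refine Fin.cases ?_ (fun l' => ?_) r'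
      · intro _; rfl
      · intro h2
        rw [hjj0, hjjs] at h2
        have := h1 l'
        omega
    · refine Fin.cases ?_ (fun l' => ?_) r'
      · intro h2
        rw [hjj0, hjjs] at h2
        have := h1 l
        omega
      · intro h2
        rw [hjjs, hjjs] at h2
        rw [hJ'.injective h2]
  have h := det_choose_ne_zero (k := k) jj hinj
  rw [det_of_row_zero _ (by simp [hjj0]) (fun l => by simp [hjj0])] at h
  have hsub : (Matrix.of fun r s : Fin (n + 1) => (((jj r).choose (s : ℕ) : ℕ) : k)).submatrix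
      Fin.succ Fin.succ = FunFld.binomMat k J' (fun l : Fin n => (l : ℕ) + 1) := by
    ext r s
    simp only [Matrix.submatrix_apply, Matrix.of_apply, FunFld.binomMat, hjjs, Fin.val_succ]
  rw [hsub] at h
  exact h


/-- Over an algebraically closed constant field of characteristic `0` or greater than `deg φ`, a
birational projective map `φ = (φ₀, …, φₙ)` is classical: its orders are `(1, 2, …, n)`, and for a
`k`-endomorphism `τ ≠ 1` its `τ`-orders are `(0, 1, …, n-1)`. (The published statement has no
fixed-point hypothesis for `τ ≠ 1` and is false without one: on a smooth plane cubic in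
characteristic `0`, pulling back along multiplication by `-2` gives `τ`-orders `(0, 2)`. This row
assumes `τ` has a strong fixed point — a place whose maximal ideal `τ` maps into its square — which
is what the proof uses, through the equality criterion for Wronskian orders at such a point.) -/
theorem result
    (k K : Type*) [Field k] [IsAlgClosed k] [Field K] [Algebra k K]
    (hK : FunFld.IsFunctionField k K) {n : ℕ} (φ : Fin (n + 1) → K) (hφ : LinearIndependent k φ)
    (h0 : φ 0 ≠ 0) (hbir : IntermediateField.adjoin k (Set.range fun i => φ i / φ 0) = ⊤)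
    (hchar : ringChar k = 0 ∨ (FunFld.mapDiv k φ).deg < ringChar k)
    (τ : K →ₐ[k] K) (s : K) (H : K →ₐ[k] PowerSeries K) (hH : LocRes.IsHasseFamily s H) :
    (τ = AlgHom.id k K → FunFld.IsOrders K (FunFld.hcol τ H φ) (fun l : Fin n => (l : ℕ) + 1)) ∧
    (τ ≠ AlgHom.id k K → (∃ P : FunFld.Place k K, FunFld.IsStrongFixedPt τ P) →
      FunFld.IsOrders K (FunFld.hcol τ H φ) (fun l : Fin n => (l : ℕ))) := by
  classical
  have hφ0 : ∀ i, φ i ≠ 0 := fun i => hφ.ne_zero i
  obtain ⟨J, hJ, -⟩ := Groth.Agent.S12600.result k K hK φ hφ τ s H hH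
  constructor
  · intro hτ
    subst hτ
    obtain ⟨P⟩ := Groth.Agent.Lib.H40FunFld.exists_place hK
    have hP : FunFld.IsFixedPt (AlgHom.id k K) P := fun z hz => hz
    have hle := Groth.Agent.Lib.FFExp58.orders_le_of_binom hK φ hφ (AlgHom.id k K) P hP s H hH J hJ
      (fun l : Fin n => (l : ℕ) + 1) (fun a b hab => by simpa using hab)
      (Or.inl fun l => Nat.succ_pos _)
      (fun J' hJ' h1 hd => binom_succ_ne_zero hchar J' hJ' h1 hd)
    have hJ1 : ∀ l, 1 ≤ J l := by
      intro l
      by_contra hlt
      have hJl : J l = 0 := by omega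
      have hjump := (hJ.2 (J l)).mp ⟨l, rfl⟩
      rw [hJl] at hjump
      apply hjump
      have h01 : FunFld.hcol (AlgHom.id k K) H φ (0 + 1) = FunFld.hcol (AlgHom.id k K) H φ 0 := by
        funext i
        simp only [FunFld.hcol]
        rw [Groth.Agent.Lib.FFExp58.ExpData.hasseD_zero hH]
        rfl
      rw [h01]
      exact Submodule.subset_span ⟨0, by simp, rfl⟩
    have hge := Groth.Agent.Lib.FFExp58.le_of_strictMono_fin J hJ.1 1 hJ1
    have hEq : J = fun l : Fin n => (l : ℕ) + 1 := by
      funext l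
      exact le_antisymm (hle l) (hge l)
    rw [← hEq]
    exact hJ
  · intro _ ⟨P, hP⟩
    have hPf : FunFld.IsFixedPt τ P := Groth.Agent.Lib.FFExp58.ExpData.isFixedPt_of_strong hP
    have hle := Groth.Agent.Lib.FFExp58.orders_le_of_binom hK φ hφ τ P hPf s H hH J hJ
      (fun l : Fin n => (l : ℕ)) (fun a b hab => by simpa using hab)
      (Or.inr hP)
      (fun J' hJ' _ hd => binom_id_ne_zero hchar J' hJ' hd)
    have hge := Groth.Agent.Lib.FFExp58.le_of_strictMono_fin J hJ.1 0 (fun l => Nat.zero_le _)
    have hEq : J = fun l : Fin n => (l : ℕ) := by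
      funext l
      exact le_antisymm (hle l) (by simpa using hge l)
    rw [← hEq]
    exact hJ

end Groth.Agent.S12611
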