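import Groth.Statements.S4544
import Mathlib.Algebra.TrivSqZeroExt.Basic
import Mathlib.Algebra.TrivSqZeroExt.Ideal
import Mathlib.RingTheory.Kaehler.Basic
import Mathlib.Tactic

set_option autoImplicit false
universe u
open EGA41

namespace Groth.Agent.S4544

section helpers

open TensorProduct

variable {A B : Type u} [CommRing A] [CommRing B] [Algebra A B]

theorem lift_of_surjective (𝔞 : Ideal A) (𝔟 : Ideal B)
    (h : EGA41.IsFormallySmoothAdic A 𝔞 B 𝔟) {E E'' : Type u} [CommRing E] [CommRing E'']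
    [Algebra A E] [Algebra A E'']
    (q : E →ₐ[A] E'') (hq : Function.Surjective q) (hnil : IsNilpotent (RingHom.ker q))
    (hE : ∃ k : ℕ, (𝔞 ^ k).map (algebraMap A E) = ⊥) (u : B →ₐ[A] E'')
    (hu : ∃ k : ℕ, ∀ x ∈ 𝔟 ^ k, u x = 0) :
    ∃ v : B →ₐ[A] E, q.comp v = u := by
  let e : (E ⧸ RingHom.ker q) ≃ₐ[A] E'' := Ideal.quotientKerAlgEquivOfSurjective hq
  obtain ⟨v, hv⟩ := h E (RingHom.ker q) hnil hE (e.symm.toAlgHom.comp u) (by
    obtain ⟨k, hk⟩ := hu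
    exact ⟨k, fun x hx => by simp [hk x hx]⟩)
  refine ⟨v, ?_⟩
  ext b
  have h1 := congrArg (fun f => e (f b)) hv
  simpa [e] using h1

section tsze

variable {C : Type u} [CommRing C] [Algebra A C] [Algebra B C] [IsScalarTower A B C]
variable {L : Type u} [AddCommGroup L] [Module C L] [Module Cᵐᵒᵖ L] [IsCentralScalar C L]
  [Module B L] [IsScalarTower B C L] [Module A L] [IsScalarTower A B L] [IsScalarTower A C L]
  [IsScalarTower A Cᵐᵒᵖ L]

/-- derivation to algebra hom -/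
def derivToHom (D : Derivation A B L) : B →ₐ[A] TrivSqZeroExt C L where
  toFun b := TrivSqZeroExt.inl (algebraMap B C b) + TrivSqZeroExt.inr (D b)
  map_one' := by simp
  map_zero' := by simp
  map_add' x y := by
    ext <;> simp
  map_mul' x y := by
    ext
    · simp
    · simp [TrivSqZeroExt.snd_mul, op_smul_eq_smul]
  commutes' a := by
    ext
    · simp [TrivSqZeroExt.algebraMap_eq_inl', IsScalarTower.algebraMap_apply A B C]
    · simp [TrivSqZeroExt.algebraMap_eq_inl']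

def homToDeriv (v : B →ₐ[A] TrivSqZeroExt C L) (hv : ∀ b, (v b).fst = algebraMap B C b) :
    Derivation A B L where
  toFun b := (v b).snd
  map_add' x y := by simp
  map_smul' a b := by simp
  map_one_eq_zero' := by simp
  leibniz' b b' := by
    simp [TrivSqZeroExt.snd_mul, hv, op_smul_eq_smul]

end tsze

section lifting

variable (𝔞 : Ideal A) (𝔟 : Ideal B)

theorem exists_derivation_lift (hAB : ∃ k : ℕ, (𝔞 ^ k).map (algebraMap A B) ≤ 𝔟)
    (h : EGA41.IsFormallySmoothAdic A 𝔞 B 𝔟) (𝔄 : Ideal B) (h𝔄 : ∃ n : ℕ, 𝔟 ^ n ≤ 𝔄)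
    {L L'' : Type u} [AddCommGroup L] [Module (B ⧸ 𝔄) L] [Module (B ⧸ 𝔄)ᵐᵒᵖ L]
    [IsCentralScalar (B ⧸ 𝔄) L] [Module B L] [IsScalarTower B (B ⧸ 𝔄) L] [Module A L]
    [IsScalarTower A B L] [IsScalarTower A (B ⧸ 𝔄) L] [IsScalarTower A (B ⧸ 𝔄)ᵐᵒᵖ L]
    [AddCommGroup L''] [Module (B ⧸ 𝔄) L''] [Module (B ⧸ 𝔄)ᵐᵒᵖ L'']
    [IsCentralScalar (B ⧸ 𝔄) L''] [Module B L''] [IsScalarTower B (B ⧸ 𝔄) L''] [Module A L'']
    [IsScalarTower A B L''] [IsScalarTower A (B ⧸ 𝔄) L''] [IsScalarTower A (B ⧸ 𝔄)ᵐᵒᵖ L'']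
    (π : L →ₗ[B ⧸ 𝔄] L'') (hπ : Function.Surjective π) (D'' : Derivation A B L'') :
    ∃ D : Derivation A B L, ∀ b, π (D b) = D'' b := by
  obtain ⟨k, hk⟩ := hAB
  obtain ⟨n, hn⟩ := h𝔄
  let q : TrivSqZeroExt (B ⧸ 𝔄) L →ₐ[A] TrivSqZeroExt (B ⧸ 𝔄) L'' :=
    (TrivSqZeroExt.map π).restrictScalars A
  have hq : Function.Surjective q := by
    intro x
    obtain ⟨l, hl⟩ := hπ x.snd
    refine ⟨TrivSqZeroExt.inl x.fst + TrivSqZeroExt.inr l, ?_⟩
    ext
    · simp [q, TrivSqZeroExt.fst_map]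
    · simp [q, TrivSqZeroExt.snd_map, hl]
  have hker : RingHom.ker q ≤ TrivSqZeroExt.kerIdeal (B ⧸ 𝔄) L := by
    intro x hx
    rw [RingHom.mem_ker] at hx
    have : (q x).fst = 0 := by rw [hx]; simp
    simpa [q, TrivSqZeroExt.fst_map, TrivSqZeroExt.kerIdeal] using this
  have hnil : IsNilpotent (RingHom.ker q) := by
    refine ⟨2, ?_⟩
    rw [Ideal.zero_eq_bot, eq_bot_iff, ← TrivSqZeroExt.kerIdeal_sq (B ⧸ 𝔄) L]
    exact Ideal.pow_right_mono hker 2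
  have hA𝔄 : ∀ a ∈ 𝔞 ^ (k * n), algebraMap A (B ⧸ 𝔄) a = 0 := by
    intro a ha
    rw [IsScalarTower.algebraMap_apply A B (B ⧸ 𝔄), Ideal.Quotient.algebraMap_eq,
      Ideal.Quotient.eq_zero_iff_mem]
    apply hn
    have h1 : algebraMap A B a ∈ ((𝔞 ^ k) ^ n).map (algebraMap A B) := by
      rw [← pow_mul]; exact Ideal.mem_map_of_mem _ ha
    rw [Ideal.map_pow] at h1
    exact Ideal.pow_right_mono hk n h1
  have hE : ∃ k : ℕ, (𝔞 ^ k).map (algebraMap A (TrivSqZeroExt (B ⧸ 𝔄) L)) = ⊥ := by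
    refine ⟨k * n, ?_⟩
    rw [eq_bot_iff, Ideal.map_le_iff_le_comap]
    intro a ha
    rw [Ideal.mem_comap, Ideal.mem_bot, TrivSqZeroExt.algebraMap_eq_inl', hA𝔄 a ha]
    simp
  have hu : ∃ k : ℕ, ∀ x ∈ 𝔟 ^ k, (derivToHom (C := B ⧸ 𝔄) D'') x = 0 := by
    refine ⟨n + n, fun x hx => ?_⟩
    rw [pow_add] at hx
    refine Submodule.mul_induction_on hx (fun y hy z hz => ?_) (fun y z hy hz => ?_)
    · have hy0 : Ideal.Quotient.mk 𝔄 y = 0 := by
        rw [Ideal.Quotient.eq_zero_iff_mem]; exact hn hy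
      have hz0 : Ideal.Quotient.mk 𝔄 z = 0 := by
        rw [Ideal.Quotient.eq_zero_iff_mem]; exact hn hz
      rw [map_mul]
      simp [derivToHom, hy0, hz0]
    · rw [map_add, hy, hz, add_zero]
  obtain ⟨v, hv⟩ := lift_of_surjective 𝔞 𝔟 h q hq hnil hE (derivToHom (C := B ⧸ 𝔄) D'') hu
  have hv' : ∀ b, q (v b) = derivToHom (C := B ⧸ 𝔄) D'' b := fun b => by
    rw [← hv]; rfl
  have hfst : ∀ b, (v b).fst = algebraMap B (B ⧸ 𝔄) b := by
    intro b
    have := congrArg TrivSqZeroExt.fst (hv' b)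
    simpa [q, TrivSqZeroExt.fst_map, derivToHom] using this
  refine ⟨homToDeriv v hfst, fun b => ?_⟩
  have := congrArg TrivSqZeroExt.snd (hv' b)
  simpa [q, TrivSqZeroExt.snd_map, derivToHom, homToDeriv] using this

end lifting


end helpers


open TensorProduct in
/-- Let B (𝔟-adic) be a formally smooth topological A-algebra over A (𝔞-adic), the structure map being
continuous (a power of 𝔞 maps into 𝔟); squares of open ideals of B are then open. For every open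
ideal 𝔄 of B (an ideal containing a power of 𝔟), Ω_{B/A} ⊗_B (B/𝔄) = Ω_{B/A}/𝔄Ω_{B/A} is a
projective (B/𝔄)-module. -/
theorem result {A B : Type u} [CommRing A] [CommRing B] [Algebra A B]
    (𝔞 : Ideal A) (𝔟 : Ideal B) (hAB : ∃ k : ℕ, (𝔞 ^ k).map (algebraMap A B) ≤ 𝔟)
    (h : EGA41.IsFormallySmoothAdic A 𝔞 B 𝔟) (𝔄 : Ideal B) (h𝔄 : ∃ n : ℕ, 𝔟 ^ n ≤ 𝔄) :
    Module.Projective (B ⧸ 𝔄) ((B ⧸ 𝔄) ⊗[B] Ω[B⁄A]) := by
  refine Module.Projective.of_lifting_property'' fun f hf => ?_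
  let D'' : Derivation A B ((B ⧸ 𝔄) ⊗[B] Ω[B⁄A]) :=
    (TensorProduct.mk B (B ⧸ 𝔄) Ω[B⁄A] 1).compDer (KaehlerDifferential.D A B)
  obtain ⟨D, hD⟩ := exists_derivation_lift 𝔞 𝔟 hAB h 𝔄 h𝔄 f hf D''
  let g : Ω[B⁄A] →ₗ[B] (((B ⧸ 𝔄) ⊗[B] Ω[B⁄A]) →₀ (B ⧸ 𝔄)) := D.liftKaehlerDifferential
  refine ⟨LinearMap.liftBaseChange (B ⧸ 𝔄) g, ?_⟩
  have key : (f.restrictScalars B).comp g = TensorProduct.mk B (B ⧸ 𝔄) Ω[B⁄A] 1 := by
    apply Derivation.liftKaehlerDifferential_unique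
    ext b
    simp [g, hD, D'']
  refine LinearMap.ext fun x => ?_
  induction x using TensorProduct.induction_on with
  | zero => simp
  | add x y hx hy => simp only [map_add, hx, hy]
  | tmul c ω =>
    have := LinearMap.congr_fun key ω
    simp only [LinearMap.coe_comp, LinearMap.coe_restrictScalars, Function.comp_apply,
      TensorProduct.mk_apply] at this
    simp [this, TensorProduct.smul_tmul']

end Groth.Agent.S4544
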