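import Groth.Statements.S4542
import Groth.Agent.S4544
import Mathlib.RingTheory.AdicCompletion.RingHom
import Mathlib.Tactic

set_option autoImplicit false
universe u
open EGA41

namespace Groth.Agent.S4542


section helpers

variable {A B C : Type u} [CommRing A] [CommRing B] [CommRing C] [Algebra A B] [Algebra A C]

theorem exists_glue (I1 I2 : Ideal C) (f1 : B →ₐ[A] C ⧸ I1) (f2 : B →ₐ[A] C ⧸ I2)
    (hcompat : ∀ b, Ideal.Quotient.factor (le_sup_left : I1 ≤ I1 ⊔ I2) (f1 b) =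
      Ideal.Quotient.factor (le_sup_right : I2 ≤ I1 ⊔ I2) (f2 b)) :
    ∃ w : B →ₐ[A] C ⧸ (I1 ⊓ I2),
      (∀ b, Ideal.Quotient.factor (inf_le_left : I1 ⊓ I2 ≤ I1) (w b) = f1 b) ∧
      (∀ b, Ideal.Quotient.factor (inf_le_right : I1 ⊓ I2 ≤ I2) (w b) = f2 b) := by
  let ι : C ⧸ (I1 ⊓ I2) →ₐ[A] (C ⧸ I1) × (C ⧸ I2) :=
    AlgHom.prod (Ideal.Quotient.factorₐ A inf_le_left) (Ideal.Quotient.factorₐ A inf_le_right)
  have hι : Function.Injective ι := by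
    rw [injective_iff_map_eq_zero]
    intro x hx
    obtain ⟨c, rfl⟩ := Ideal.Quotient.mk_surjective x
    have h1 : Ideal.Quotient.mk I1 c = 0 := congrArg Prod.fst hx
    have h2 : Ideal.Quotient.mk I2 c = 0 := congrArg Prod.snd hx
    rw [Ideal.Quotient.eq_zero_iff_mem] at h1 h2 ⊢
    exact ⟨h1, h2⟩
  have hrange : ∀ b, ∃ x, ι x = (f1 b, f2 b) := by
    intro b
    obtain ⟨c1, hc1⟩ := Ideal.Quotient.mk_surjective (f1 b)
    obtain ⟨c2, hc2⟩ := Ideal.Quotient.mk_surjective (f2 b)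
    have h := hcompat b
    rw [← hc1, ← hc2, Ideal.Quotient.factor_mk, Ideal.Quotient.factor_mk, Ideal.Quotient.eq,
      Submodule.mem_sup] at h
    obtain ⟨i1, hi1, i2, hi2, hsum⟩ := h
    refine ⟨Ideal.Quotient.mk _ (c1 - i1), ?_⟩
    refine Prod.ext ?_ ?_
    · change Ideal.Quotient.mk I1 (c1 - i1) = f1 b
      rw [← hc1, Ideal.Quotient.eq]
      simpa using I1.neg_mem hi1
    · change Ideal.Quotient.mk I2 (c1 - i1) = f2 b
      rw [← hc2, Ideal.Quotient.eq]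
      have : c1 - i1 - c2 = i2 := by linear_combination -hsum
      rw [this]; exact hi2
  choose w hw using hrange
  refine ⟨{ toFun := w
            map_one' := hι (by rw [hw, map_one, map_one, map_one]; rfl)
            map_mul' := fun x y => hι (by rw [hw, map_mul, map_mul, map_mul, hw, hw]; rfl)
            map_zero' := hι (by rw [hw, map_zero, map_zero, map_zero]; rfl)
            map_add' := fun x y => hι (by rw [hw, map_add, map_add, map_add, hw, hw]; rfl)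
            commutes' := fun a => hι (by
              rw [hw, AlgHom.commutes, AlgHom.commutes, AlgHom.commutes]; rfl) }, ?_, ?_⟩
  · intro b
    exact congrArg Prod.fst (hw b)
  · intro b
    exact congrArg Prod.snd (hw b)

theorem sup_pow_le (J 𝔠 : Ideal C) (t : ℕ) : (J ⊔ 𝔠) ^ t ≤ J ^ t ⊔ 𝔠 := by
  induction t with
  | zero => simp
  | succ t ih =>
    rw [pow_succ]
    calc (J ⊔ 𝔠) ^ t * (J ⊔ 𝔠) ≤ (J ^ t ⊔ 𝔠) * (J ⊔ 𝔠) := Ideal.mul_mono_left ih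
      _ = J ^ t * J ⊔ J ^ t * 𝔠 ⊔ (𝔠 * J ⊔ 𝔠 * 𝔠) := by rw [Ideal.sup_mul, Ideal.mul_sup, Ideal.mul_sup]
      _ ≤ J ^ (t + 1) ⊔ 𝔠 := by
        rw [← pow_succ]
        refine sup_le (sup_le le_sup_left (le_sup_of_le_right Ideal.mul_le_right))
          (sup_le (le_sup_of_le_right Ideal.mul_le_left) (le_sup_of_le_right Ideal.mul_le_left))


/-- the inductive property of the approximations -/
def P (𝔟 : Ideal B) (𝔠 J : Ideal C) (u : B →ₐ[A] C ⧸ J) (n : ℕ) (v : B →ₐ[A] C ⧸ 𝔠 ^ n) : Prop :=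
  (∀ b, Ideal.Quotient.factor (le_sup_right : 𝔠 ^ n ≤ J ⊔ 𝔠 ^ n) (v b) =
    Ideal.Quotient.factor (le_sup_left : J ≤ J ⊔ 𝔠 ^ n) (u b)) ∧ ∃ k : ℕ, ∀ x ∈ 𝔟 ^ k, v x = 0

theorem step (𝔞 : Ideal A) (𝔟 : Ideal B) (𝔠 : Ideal C) (hB : EGA41.IsFormallySmoothAdic A 𝔞 B 𝔟)
    (hAC : ∃ k : ℕ, (𝔞 ^ k).map (algebraMap A C) ≤ 𝔠)
    (J : Ideal C) (hJ : ∃ t : ℕ, J ^ t ≤ 𝔠)
    (u : B →ₐ[A] C ⧸ J) (hu : ∃ k : ℕ, (𝔟 ^ k).map u.toRingHom ≤ 𝔠.map (Ideal.Quotient.mk J))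
    (n : ℕ) (v : B →ₐ[A] C ⧸ 𝔠 ^ n) (hv : P 𝔟 𝔠 J u n v) :
    ∃ v' : B →ₐ[A] C ⧸ 𝔠 ^ (n + 1), P 𝔟 𝔠 J u (n + 1) v' ∧
      (Ideal.Quotient.factorₐ A (Ideal.pow_le_pow_right n.le_succ)).comp v' = v := by
  obtain ⟨kA, hkA⟩ := hAC
  obtain ⟨t, ht⟩ := hJ
  obtain ⟨ku, hku⟩ := hu
  obtain ⟨hv1, kv, hkv⟩ := hv
  let f2 : B →ₐ[A] C ⧸ (J ⊔ 𝔠 ^ (n + 1)) :=
    (Ideal.Quotient.factorₐ A (le_sup_left : J ≤ J ⊔ 𝔠 ^ (n + 1))).comp u
  have hpow : 𝔠 ^ (n + 1) ≤ 𝔠 ^ n := Ideal.pow_le_pow_right n.le_succ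
  -- compatibility
  have hcompat : ∀ b, Ideal.Quotient.factor
      (le_sup_left : 𝔠 ^ n ≤ 𝔠 ^ n ⊔ (J ⊔ 𝔠 ^ (n + 1))) (v b) =
      Ideal.Quotient.factor (le_sup_right : J ⊔ 𝔠 ^ (n + 1) ≤ 𝔠 ^ n ⊔ (J ⊔ 𝔠 ^ (n + 1))) (f2 b) := by
    intro b
    have hle : J ⊔ 𝔠 ^ n ≤ 𝔠 ^ n ⊔ (J ⊔ 𝔠 ^ (n + 1)) :=
      sup_le (le_sup_of_le_right le_sup_left) le_sup_left
    have h := congrArg (Ideal.Quotient.factor hle) (hv1 b)
    rw [Ideal.Quotient.factor_comp_apply, Ideal.Quotient.factor_comp_apply] at h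
    rw [h]
    change _ = Ideal.Quotient.factor (le_sup_right : J ⊔ 𝔠 ^ (n + 1) ≤ 𝔠 ^ n ⊔ (J ⊔ 𝔠 ^ (n + 1)))
      (Ideal.Quotient.factor (le_sup_left : J ≤ J ⊔ 𝔠 ^ (n + 1)) (u b))
    rw [Ideal.Quotient.factor_comp_apply]
  obtain ⟨w, hw1, hw2⟩ := exists_glue (𝔠 ^ n) (J ⊔ 𝔠 ^ (n + 1)) v f2 hcompat
  have hK : 𝔠 ^ (n + 1) ≤ 𝔠 ^ n ⊓ (J ⊔ 𝔠 ^ (n + 1)) := le_inf hpow le_sup_right
  let q : C ⧸ 𝔠 ^ (n + 1) →ₐ[A] C ⧸ (𝔠 ^ n ⊓ (J ⊔ 𝔠 ^ (n + 1))) := Ideal.Quotient.factorₐ A hK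
  have hq : Function.Surjective q := Ideal.Quotient.factor_surjective hK
  -- the kernel of q is nilpotent
  have hkerle : RingHom.ker q ≤ (𝔠 ^ n ⊓ (J ⊔ 𝔠 ^ (n + 1))).map (Ideal.Quotient.mk (𝔠 ^ (n + 1))) := by
    intro x hx
    obtain ⟨c, rfl⟩ := Ideal.Quotient.mk_surjective x
    rw [RingHom.mem_ker] at hx
    have : Ideal.Quotient.mk (𝔠 ^ n ⊓ (J ⊔ 𝔠 ^ (n + 1))) c = 0 := hx
    rw [Ideal.Quotient.eq_zero_iff_mem] at this
    exact Ideal.mem_map_of_mem _ this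
  have hKpow : (𝔠 ^ n ⊓ (J ⊔ 𝔠 ^ (n + 1))) ^ (t * (n + 1)) ≤ 𝔠 ^ (n + 1) := by
    have h1 : 𝔠 ^ n ⊓ (J ⊔ 𝔠 ^ (n + 1)) ≤ J ⊔ 𝔠 :=
      inf_le_right.trans (sup_le_sup_left (Ideal.pow_le_self (Nat.succ_ne_zero n)) J)
    have h2 : (𝔠 ^ n ⊓ (J ⊔ 𝔠 ^ (n + 1))) ^ t ≤ 𝔠 :=
      (Ideal.pow_right_mono h1 t).trans ((sup_pow_le J 𝔠 t).trans (sup_le ht le_rfl))
    rw [pow_mul]
    exact Ideal.pow_right_mono h2 (n + 1)
  have hnil : IsNilpotent (RingHom.ker q) := by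
    refine ⟨t * (n + 1), ?_⟩
    rw [Ideal.zero_eq_bot, eq_bot_iff]
    calc RingHom.ker q ^ (t * (n + 1))
        ≤ ((𝔠 ^ n ⊓ (J ⊔ 𝔠 ^ (n + 1))).map (Ideal.Quotient.mk (𝔠 ^ (n + 1)))) ^ (t * (n + 1)) :=
          Ideal.pow_right_mono hkerle _
      _ = ((𝔠 ^ n ⊓ (J ⊔ 𝔠 ^ (n + 1))) ^ (t * (n + 1))).map (Ideal.Quotient.mk (𝔠 ^ (n + 1))) :=
          (Ideal.map_pow _ _ _).symm
      _ ≤ (𝔠 ^ (n + 1)).map (Ideal.Quotient.mk (𝔠 ^ (n + 1))) := Ideal.map_mono hKpow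
      _ = ⊥ := Ideal.map_quotient_self _
  -- discreteness of the test algebra
  have hE : ∃ k : ℕ, (𝔞 ^ k).map (algebraMap A (C ⧸ 𝔠 ^ (n + 1))) = ⊥ := by
    refine ⟨kA * (n + 1), ?_⟩
    rw [eq_bot_iff, Ideal.map_le_iff_le_comap]
    intro a ha
    rw [Ideal.mem_comap, Ideal.mem_bot, IsScalarTower.algebraMap_apply A C (C ⧸ 𝔠 ^ (n + 1)),
      Ideal.Quotient.algebraMap_eq, Ideal.Quotient.eq_zero_iff_mem]
    have h1 : algebraMap A C a ∈ ((𝔞 ^ kA) ^ (n + 1)).map (algebraMap A C) := by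
      rw [← pow_mul]; exact Ideal.mem_map_of_mem _ ha
    rw [Ideal.map_pow] at h1
    exact Ideal.pow_right_mono hkA (n + 1) h1
  -- continuity of w
  have hf2 : ∀ x ∈ 𝔟 ^ (ku * (n + 1)), f2 x = 0 := by
    intro x hx
    have h1 : u x ∈ ((𝔟 ^ ku) ^ (n + 1)).map u.toRingHom := by
      rw [← pow_mul]; exact Ideal.mem_map_of_mem _ hx
    rw [Ideal.map_pow] at h1
    have h2 : u x ∈ (𝔠 ^ (n + 1)).map (Ideal.Quotient.mk J) := by
      rw [Ideal.map_pow]; exact Ideal.pow_right_mono hku (n + 1) h1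
    rw [Ideal.mem_map_iff_of_surjective _ Ideal.Quotient.mk_surjective] at h2
    obtain ⟨c, hc, hcu⟩ := h2
    change Ideal.Quotient.factor (le_sup_left : J ≤ J ⊔ 𝔠 ^ (n + 1)) (u x) = 0
    rw [← hcu, Ideal.Quotient.factor_mk, Ideal.Quotient.eq_zero_iff_mem]
    exact Ideal.mem_sup_right hc
  have hwcont : ∃ k : ℕ, ∀ x ∈ 𝔟 ^ k, w x = 0 := by
    refine ⟨kv + ku * (n + 1), fun x hx => ?_⟩
    have hx1 : x ∈ 𝔟 ^ kv := Ideal.pow_le_pow_right (Nat.le_add_right _ _) hx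
    have hx2 : x ∈ 𝔟 ^ (ku * (n + 1)) := Ideal.pow_le_pow_right (Nat.le_add_left _ _) hx
    have h1 := hw1 x
    have h2 := hw2 x
    rw [hkv x hx1] at h1
    rw [hf2 x hx2] at h2
    obtain ⟨c, hc⟩ := Ideal.Quotient.mk_surjective (w x)
    rw [← hc, Ideal.Quotient.factor_mk, Ideal.Quotient.eq_zero_iff_mem] at h1 h2
    rw [← hc, Ideal.Quotient.eq_zero_iff_mem]
    exact ⟨h1, h2⟩
  obtain ⟨v', hv'⟩ := Groth.Agent.S4544.lift_of_surjective 𝔞 𝔟 hB q hq hnil hE w hwcont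
  have hv'' : ∀ b, Ideal.Quotient.factor hK (v' b) = w b := fun b => by
    rw [← hv']; rfl
  refine ⟨v', ⟨?_, ?_⟩, ?_⟩
  · intro b
    have h2 := hw2 b
    rw [← hv'' b, Ideal.Quotient.factor_comp_apply] at h2
    rw [h2]
    rfl
  · obtain ⟨kw, hkw⟩ := hwcont
    refine ⟨kw * (t * (n + 1)), fun x hx => ?_⟩
    have h1 : (𝔟 ^ kw).map v'.toRingHom ≤ RingHom.ker q := by
      rw [Ideal.map_le_iff_le_comap]
      intro y hy
      rw [Ideal.mem_comap, RingHom.mem_ker]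
      change q (v' y) = 0
      have := hv'' y
      rw [hkw y hy] at this
      exact this
    have h2 : v' x ∈ ((𝔟 ^ kw) ^ (t * (n + 1))).map v'.toRingHom := by
      rw [← pow_mul]; exact Ideal.mem_map_of_mem _ hx
    rw [Ideal.map_pow] at h2
    have h3 := Ideal.pow_right_mono h1 (t * (n + 1)) h2
    obtain ⟨m, hm⟩ := hnil
    have : RingHom.ker q ^ (t * (n + 1)) = ⊥ := by
      rw [eq_bot_iff]
      calc RingHom.ker q ^ (t * (n + 1))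
          ≤ ((𝔠 ^ n ⊓ (J ⊔ 𝔠 ^ (n + 1))).map (Ideal.Quotient.mk (𝔠 ^ (n + 1)))) ^ (t * (n + 1)) :=
            Ideal.pow_right_mono hkerle _
        _ = ((𝔠 ^ n ⊓ (J ⊔ 𝔠 ^ (n + 1))) ^ (t * (n + 1))).map (Ideal.Quotient.mk (𝔠 ^ (n + 1))) :=
            (Ideal.map_pow _ _ _).symm
        _ ≤ (𝔠 ^ (n + 1)).map (Ideal.Quotient.mk (𝔠 ^ (n + 1))) := Ideal.map_mono hKpow
        _ = ⊥ := Ideal.map_quotient_self _
    rw [this] at h3
    exact h3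
  · ext b
    have h1 := hw1 b
    rw [← hv'' b, Ideal.Quotient.factor_comp_apply] at h1
    exact h1

end helpers


/-- Let B (𝔟-adic) be formally smooth over A (𝔞-adic); let C be a topological A-algebra for the 𝔠-adic
topology (a power of 𝔞 maps into 𝔠) which is complete, and J an ideal which is closed, i.e. C/J is
Hausdorff for the 𝔠-adic topology, and whose powers tend to 0, i.e. some power of J lies in 𝔠. Then
every continuous A-algebra homomorphism u : B → C/J (a power of 𝔟 maps into the image of 𝔠) factors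
as B → C → C/J with B → C a continuous A-algebra homomorphism (a power of 𝔟 maps into 𝔠). -/
theorem result {A B C : Type u} [CommRing A] [CommRing B] [CommRing C] [Algebra A B]
    [Algebra A C] (𝔞 : Ideal A) (𝔟 : Ideal B) (𝔠 : Ideal C) (hB : EGA41.IsFormallySmoothAdic A 𝔞 B 𝔟)
    [IsAdicComplete 𝔠 C] (hAC : ∃ k : ℕ, (𝔞 ^ k).map (algebraMap A C) ≤ 𝔠)
    (J : Ideal C) (hJ : ∃ t : ℕ, J ^ t ≤ 𝔠) [IsHausdorff (𝔠.map (Ideal.Quotient.mk J)) (C ⧸ J)]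
    (u : B →ₐ[A] C ⧸ J) (hu : ∃ k : ℕ, (𝔟 ^ k).map u.toRingHom ≤ 𝔠.map (Ideal.Quotient.mk J)) :
    ∃ v : B →ₐ[A] C, (∃ k : ℕ, (𝔟 ^ k).map v.toRingHom ≤ 𝔠) ∧ (Ideal.Quotient.mkₐ A J).comp v = u := by
  -- the zeroth approximation
  have hsub0 : Subsingleton (C ⧸ 𝔠 ^ 0) := by
    rw [Ideal.Quotient.subsingleton_iff, pow_zero, Ideal.one_eq_top]
  have hsub0' : Subsingleton (C ⧸ (J ⊔ 𝔠 ^ 0)) := by
    rw [Ideal.Quotient.subsingleton_iff, pow_zero, Ideal.one_eq_top, sup_top_eq]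
  let v0 : B →ₐ[A] C ⧸ 𝔠 ^ 0 :=
    { toFun := fun _ => 0
      map_one' := Subsingleton.elim _ _
      map_mul' := fun _ _ => Subsingleton.elim _ _
      map_zero' := rfl
      map_add' := fun _ _ => Subsingleton.elim _ _
      commutes' := fun _ => Subsingleton.elim _ _ }
  have hv0 : P 𝔟 𝔠 J u 0 v0 := ⟨fun b => Subsingleton.elim _ _, 0, fun x _ => Subsingleton.elim _ _⟩
  -- the sequence of approximations
  have hstep : ∀ (n : ℕ) (s : {v : B →ₐ[A] C ⧸ 𝔠 ^ n // P 𝔟 𝔠 J u n v}),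
      ∃ s' : {v : B →ₐ[A] C ⧸ 𝔠 ^ (n + 1) // P 𝔟 𝔠 J u (n + 1) v},
        (Ideal.Quotient.factorₐ A (Ideal.pow_le_pow_right n.le_succ)).comp s'.1 = s.1 := by
    intro n s
    obtain ⟨v', hv', hc⟩ := step 𝔞 𝔟 𝔠 hB hAC J hJ u hu n s.1 s.2
    exact ⟨⟨v', hv'⟩, hc⟩
  choose next hnext using hstep
  let seq : ∀ n : ℕ, {v : B →ₐ[A] C ⧸ 𝔠 ^ n // P 𝔟 𝔠 J u n v} :=
    fun n => Nat.rec ⟨v0, hv0⟩ (fun n s => next n s) n
  let f : ∀ n : ℕ, B →ₐ[A] C ⧸ 𝔠 ^ n := fun n => (seq n).1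
  have hfP : ∀ n, P 𝔟 𝔠 J u n (f n) := fun n => (seq n).2
  have hfsucc : ∀ n, (Ideal.Quotient.factorₐ A (Ideal.pow_le_pow_right n.le_succ)).comp (f (n + 1))
      = f n := fun n => hnext n (seq n)
  have hf : ∀ {m n : ℕ} (hle : m ≤ n),
      (Ideal.Quotient.factorₐ A (Ideal.pow_le_pow_right hle)).comp (f n) = f m := by
    intro m n hle
    induction n, hle using Nat.le_induction with
    | base => simp
    | succ n hmn ih =>
      rw [← ih, ← hfsucc n, ← AlgHom.comp_assoc, Ideal.Quotient.factorₐ_comp]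
  let v : B →ₐ[A] C := IsAdicComplete.liftAlgHom 𝔠 f hf
  have hvmk : ∀ n x, Ideal.Quotient.mk (𝔠 ^ n) (v x) = f n x := fun n x =>
    IsAdicComplete.mk_liftAlgHom 𝔠 f hf n x
  refine ⟨v, ?_, ?_⟩
  · obtain ⟨-, k, hk⟩ := hfP 1
    refine ⟨k, ?_⟩
    rw [Ideal.map_le_iff_le_comap]
    intro x hx
    rw [Ideal.mem_comap]
    have h1 := hvmk 1 x
    rw [hk x hx, Ideal.Quotient.eq_zero_iff_mem, pow_one] at h1
    exact h1
  · ext b
    change Ideal.Quotient.mk J (v b) = u b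
    rw [← sub_eq_zero]
    apply IsHausdorff.haus (inferInstance : IsHausdorff (𝔠.map (Ideal.Quotient.mk J)) (C ⧸ J))
    intro n
    rw [SModEq.zero, smul_eq_mul, Ideal.mul_top, ← Ideal.map_pow]
    obtain ⟨c', hc'⟩ := Ideal.Quotient.mk_surjective (u b)
    have h1 := (hfP n).1 b
    rw [← hvmk n b, ← hc', Ideal.Quotient.factor_mk, Ideal.Quotient.factor_mk, Ideal.Quotient.eq,
      Submodule.mem_sup] at h1
    obtain ⟨j, hj, e, he, hsum⟩ := h1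
    rw [← hc', ← map_sub, ← hsum, map_add, Ideal.Quotient.eq_zero_iff_mem.mpr hj, zero_add]
    exact Ideal.mem_map_of_mem _ he

end Groth.Agent.S4542
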