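import Groth.Statements.S4543
import Groth.Agent.S4542
import Mathlib.RingTheory.AdicCompletion.Basic
import Mathlib.RingTheory.Flat.EquationalCriterion
import Mathlib.Tactic

set_option autoImplicit false
universe u
open EGA41

namespace Groth.Agent.S4543


section helpers

variable {A : Type*} [CommRing A] (J : Ideal A) {M N : Type*} [AddCommGroup M] [Module A M]
  [AddCommGroup N] [Module A N]

theorem approx_step (φ : M →ₗ[A] N)
    (hs : ∀ y : N, ∃ x : M, y - φ x ∈ J • (⊤ : Submodule A N)) (n : ℕ) :
    ∀ y ∈ J ^ n • (⊤ : Submodule A N), ∃ x ∈ J ^ n • (⊤ : Submodule A M),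
      y - φ x ∈ J ^ (n + 1) • (⊤ : Submodule A N) := by
  intro y hy
  refine Submodule.smul_induction_on hy ?_ ?_
  · intro a ha y' _
    obtain ⟨x', hx'⟩ := hs y'
    refine ⟨a • x', Submodule.smul_mem_smul ha trivial, ?_⟩
    rw [map_smul, ← smul_sub, pow_succ, Submodule.mul_smul]
    exact Submodule.smul_mem_smul ha hx'
  · rintro y1 y2 ⟨x1, hx1, h1⟩ ⟨x2, hx2, h2⟩
    refine ⟨x1 + x2, Submodule.add_mem _ hx1 hx2, ?_⟩
    have : y1 + y2 - φ (x1 + x2) = (y1 - φ x1) + (y2 - φ x2) := by rw [map_add]; abel
    rw [this]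
    exact Submodule.add_mem _ h1 h2

theorem surjective_of_complete [IsPrecomplete J M] [IsHausdorff J N] (φ : M →ₗ[A] N)
    (hs : ∀ y : N, ∃ x : M, y - φ x ∈ J • (⊤ : Submodule A N)) : Function.Surjective φ := by
  intro y
  have hstep : ∀ (n : ℕ) (s : {s : M // y - φ s ∈ J ^ n • (⊤ : Submodule A N)}),
      ∃ s' : {s : M // y - φ s ∈ J ^ (n + 1) • (⊤ : Submodule A N)},
        s'.1 - s.1 ∈ J ^ n • (⊤ : Submodule A M) := by
    rintro n ⟨s, hs'⟩
    obtain ⟨x, hx, hx'⟩ := approx_step J φ hs n _ hs'
    refine ⟨⟨s + x, ?_⟩, ?_⟩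
    · have : y - φ (s + x) = y - φ s - φ x := by rw [map_add]; abel
      rw [this]; exact hx'
    · simpa using hx
  choose next hnext using hstep
  let seq : ∀ n : ℕ, {s : M // y - φ s ∈ J ^ n • (⊤ : Submodule A N)} :=
    fun n => Nat.rec ⟨0, by simp⟩ (fun n s => next n s) n
  have hsucc : ∀ n, (seq (n + 1)).1 - (seq n).1 ∈ J ^ n • (⊤ : Submodule A M) :=
    fun n => hnext n (seq n)
  have hcauchy : ∀ {m n : ℕ}, m ≤ n →
      (seq m).1 ≡ (seq n).1 [SMOD (J ^ m • ⊤ : Submodule A M)] := by
    intro m n hmn
    induction n, hmn using Nat.le_induction with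
    | base => rfl
    | succ n hmn ih =>
      refine ih.trans ?_
      rw [SModEq.sub_mem]
      have h1 : (seq n).1 - (seq (n + 1)).1 ∈ J ^ n • (⊤ : Submodule A M) := by
        rw [← neg_sub]; exact Submodule.neg_mem _ (hsucc n)
      exact Submodule.smul_mono_left (Ideal.pow_le_pow_right hmn) h1
  obtain ⟨L, hL⟩ := IsPrecomplete.prec ‹IsPrecomplete J M› hcauchy
  refine ⟨L, ?_⟩
  symm
  rw [← sub_eq_zero]
  apply IsHausdorff.haus ‹IsHausdorff J N›
  intro n
  rw [SModEq.zero]
  have h1 : (seq n).1 - L ∈ J ^ n • (⊤ : Submodule A M) := by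
    rw [← SModEq.sub_mem]; exact hL n
  have h2 : φ ((seq n).1 - L) ∈ J ^ n • (⊤ : Submodule A N) := by
    have : φ ((seq n).1 - L) ∈ (J ^ n • (⊤ : Submodule A M)).map φ := Submodule.mem_map_of_mem h1
    rw [Submodule.map_smul''] at this
    exact Submodule.smul_mono le_rfl le_top this
  have h3 : y - φ L = (y - φ (seq n).1) + φ ((seq n).1 - L) := by rw [map_sub]; abel
  rw [h3]
  exact Submodule.add_mem _ (seq n).2 h2

theorem ker_le_smul_ker [Module.Flat A N] (φ : M →ₗ[A] N) (hsurj : Function.Surjective φ)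
    (hinj : ∀ x, φ x ∈ J • (⊤ : Submodule A N) → x ∈ J • (⊤ : Submodule A M)) :
    LinearMap.ker φ ≤ J • LinearMap.ker φ := by
  classical
  intro x hx
  rw [LinearMap.mem_ker] at hx
  have hxJ : x ∈ J • (⊤ : Submodule A M) := hinj x (by rw [hx]; exact Submodule.zero_mem _)
  have hspan : (⊤ : Submodule A M) = Submodule.span A (Set.range (id : M → M)) := by simp
  rw [hspan, Submodule.mem_ideal_smul_span_iff_exists_sum] at hxJ
  obtain ⟨a, ha, hsum⟩ := hxJ
  simp only [id] at hsum
  -- the relation in N
  have hrel : ∑ i : a.support, a i.1 • φ i.1 = 0 := by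
    rw [Finset.sum_coe_sort a.support (fun i => a i • φ i), ← hx, ← hsum, Finsupp.sum, map_sum]
    simp
  obtain ⟨k, b, y, hy0, hb0⟩ := Module.Flat.isTrivialRelation_of_sum_smul_eq_zero hrel
  have hy : ∀ i : a.support, φ i.1 = ∑ j, b i j • y j := hy0
  have hb : ∀ j, ∑ i : a.support, a i.1 * b i j = 0 := hb0
  choose m' hm' using fun j => hsurj (y j)
  have hk : ∀ i : a.support, i.1 - ∑ j, b i j • m' j ∈ LinearMap.ker φ := by
    intro i
    rw [LinearMap.mem_ker, map_sub, map_sum, hy i]
    simp [hm']
  have hx' : x = ∑ i : a.support, a i.1 • (i.1 - ∑ j, b i j • m' j) := by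
    have h1 : ∑ i : a.support, a i.1 • ∑ j, b i j • m' j = 0 := by
      simp_rw [Finset.smul_sum, smul_smul]
      rw [Finset.sum_comm]
      simp_rw [← Finset.sum_smul, hb, zero_smul, Finset.sum_const_zero]
    simp_rw [smul_sub, Finset.sum_sub_distrib, h1, sub_zero]
    rw [Finset.sum_coe_sort a.support (fun i => a i • i), ← hsum, Finsupp.sum]
  rw [hx']
  exact Submodule.sum_mem _ fun i _ => Submodule.smul_mem_smul (ha i.1) (hk i)

theorem injective_of_flat [IsHausdorff J M] [Module.Flat A N] (φ : M →ₗ[A] N)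
    (hsurj : Function.Surjective φ)
    (hinj : ∀ x, φ x ∈ J • (⊤ : Submodule A N) → x ∈ J • (⊤ : Submodule A M)) :
    Function.Injective φ := by
  have h1 := ker_le_smul_ker J φ hsurj hinj
  have h2 : ∀ n : ℕ, LinearMap.ker φ ≤ J ^ n • (⊤ : Submodule A M) := by
    intro n
    induction n with
    | zero => simp
    | succ n ih =>
      calc LinearMap.ker φ ≤ J • LinearMap.ker φ := h1
        _ ≤ J • (J ^ n • (⊤ : Submodule A M)) := Submodule.smul_mono le_rfl ih
        _ = J ^ (n + 1) • (⊤ : Submodule A M) := by rw [← Submodule.mul_smul, ← pow_succ']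
  rw [← LinearMap.ker_eq_bot, eq_bot_iff]
  intro x hx
  rw [Submodule.mem_bot]
  apply IsHausdorff.haus ‹IsHausdorff J M›
  intro n
  rw [SModEq.zero]
  exact h2 n hx

end helpers


open IsLocalRing in
/-- Let A be a Noetherian ring, J an ideal of A, B and B' two A-algebras which are Noetherian local
rings, the structure maps being continuous for the J-adic topology on A (JB and JB' lie in the
maximal ideals); suppose B and B' are complete for the J-adic topologies, B is a formally smooth
A-algebra for the J-adic topology on A and the JB-adic topology on B (nilpotent test ideals, test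
algebras killed by a power of J, test maps killing a power of JB), and B' is a flat A-module. Then
every (A/J)-algebra isomorphism u₀ : B/JB ≅ B'/JB' comes from an A-algebra isomorphism u : B ≅ B' by
passing to quotients. (B is taken formally smooth for the JB-adic topology, the topology along which
the argument lifts B → B'/JB' to B'; read with the convention that a local ring carries the adic
topology of its maximal ideal, the published hypothesis would be formal smoothness for the
maximal-ideal topology on B, a weaker condition when JB is strictly smaller than the maximal ideal,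
and that reading is not what the argument establishes.) -/
theorem result {A B B' : Type u} [CommRing A] [IsNoetherianRing A] (J : Ideal A)
    [CommRing B] [IsLocalRing B] [IsNoetherianRing B] [Algebra A B]
    [CommRing B'] [IsLocalRing B'] [IsNoetherianRing B'] [Algebra A B']
    (hB : J.map (algebraMap A B) ≤ maximalIdeal B) (hB' : J.map (algebraMap A B') ≤ maximalIdeal B')
    [IsAdicComplete (J.map (algebraMap A B)) B] [IsAdicComplete (J.map (algebraMap A B')) B']
    (hfs : EGA41.IsFormallySmoothAdic A J B (J.map (algebraMap A B))) [Module.Flat A B']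
    (u₀ : (B ⧸ J.map (algebraMap A B)) ≃ₐ[A ⧸ J] (B' ⧸ J.map (algebraMap A B'))) :
    ∃ u : B ≃ₐ[A] B', ∀ b : B,
      Ideal.Quotient.mk (J.map (algebraMap A B')) (u b) = u₀ (Ideal.Quotient.mk (J.map (algebraMap A B)) b) := by
  let u : B →ₐ[A] B' ⧸ J.map (algebraMap A B') :=
    { toFun := fun b => u₀ (Ideal.Quotient.mk (J.map (algebraMap A B)) b)
      map_one' := by simp
      map_mul' := by simp
      map_zero' := by simp
      map_add' := by simp
      commutes' := fun a => by
        have h1 : Ideal.Quotient.mk (J.map (algebraMap A B)) (algebraMap A B a) =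
            algebraMap (A ⧸ J) (B ⧸ J.map (algebraMap A B)) (Ideal.Quotient.mk J a) := rfl
        rw [h1, u₀.commutes]
        rfl }
  have : IsHausdorff ((J.map (algebraMap A B')).map (Ideal.Quotient.mk (J.map (algebraMap A B'))))
      (B' ⧸ J.map (algebraMap A B')) := by
    rw [Ideal.map_quotient_self]; infer_instance
  obtain ⟨v, -, hv⟩ := Groth.Agent.S4542.result J (J.map (algebraMap A B)) (J.map (algebraMap A B'))
    hfs ⟨1, by simp⟩ (J.map (algebraMap A B')) ⟨1, by simp⟩ u ⟨1, by
      rw [pow_one, Ideal.map_le_iff_le_comap]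
      intro x hx
      rw [Ideal.mem_comap]
      have : u x = 0 := by
        change u₀ (Ideal.Quotient.mk _ x) = 0
        rw [Ideal.Quotient.eq_zero_iff_mem.mpr hx, map_zero]
      change u x ∈ _
      rw [this]; exact Ideal.zero_mem _⟩
  have hv' : ∀ b, Ideal.Quotient.mk (J.map (algebraMap A B')) (v b) =
      u₀ (Ideal.Quotient.mk (J.map (algebraMap A B)) b) := fun b => by
    have := congrArg (fun f => f b) hv
    exact this
  have : IsAdicComplete J B := (IsAdicComplete.map_algebraMap_iff (S := B) J B).mp inferInstance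
  have : IsAdicComplete J B' := (IsAdicComplete.map_algebraMap_iff (S := B') J B').mp inferInstance
  have hmem : ∀ y : B', y ∈ J • (⊤ : Submodule A B') ↔ y ∈ J.map (algebraMap A B') := by
    intro y; rw [Ideal.smul_top_eq_map]; rfl
  have hmemB : ∀ y : B, y ∈ J • (⊤ : Submodule A B) ↔ y ∈ J.map (algebraMap A B) := by
    intro y; rw [Ideal.smul_top_eq_map]; rfl
  have hs : ∀ y : B', ∃ x : B, y - v.toLinearMap x ∈ J • (⊤ : Submodule A B') := by
    intro y
    obtain ⟨xbar, hxbar⟩ := u₀.surjective (Ideal.Quotient.mk _ y)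
    obtain ⟨x, rfl⟩ := Ideal.Quotient.mk_surjective xbar
    refine ⟨x, ?_⟩
    rw [hmem, ← Ideal.Quotient.eq]
    change _ = Ideal.Quotient.mk _ (v x)
    rw [hv' x, hxbar]
  have hinj : ∀ x : B, v.toLinearMap x ∈ J • (⊤ : Submodule A B') → x ∈ J • (⊤ : Submodule A B) := by
    intro x hx
    rw [hmem] at hx
    rw [hmemB]
    change v x ∈ _ at hx
    rw [← Ideal.Quotient.eq_zero_iff_mem, hv' x] at hx
    rw [← Ideal.Quotient.eq_zero_iff_mem]
    exact (map_eq_zero_iff u₀ u₀.injective).mp hx
  have hsurj' : Function.Surjective v.toLinearMap := surjective_of_complete J v.toLinearMap hs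
  have hinj' : Function.Injective v.toLinearMap := injective_of_flat J v.toLinearMap hsurj' hinj
  refine ⟨AlgEquiv.ofBijective v ⟨hinj', hsurj'⟩, fun b => ?_⟩
  exact hv' b

end Groth.Agent.S4543
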