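import Groth.Statements.S7433
import Groth.Agent.Lib.BddFibBase
import Mathlib.AlgebraicGeometry.Fiber

set_option autoImplicit false
universe u
open CategoryTheory AlgebraicGeometry
open BddFib

namespace Groth.Agent.S7433

theorem forward {X Y : Scheme.{u}} (f : X ⟶ Y) (n : ℕ) (hf : BddFib.FibreDegLE f n)
    (k : Type u) [Field k] (g : Spec (CommRingCat.of k) ⟶ Y) :
    BddFib.FiniteOfDegLE (CommRingCat.of k) (Limits.pullback.snd f g) n := by
  obtain ⟨y, ψ, rfl⟩ : ∃ (y : Y) (ψ : Y.residueField y ⟶ CommRingCat.of k),
      g = Spec.map ψ ≫ Y.fromSpecResidueField y :=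
    ⟨_, _, (Scheme.descResidueField_stalkClosedPointTo_fromSpecResidueField k Y g).symm⟩
  let g'' : Limits.pullback f (Spec.map ψ ≫ Y.fromSpecResidueField y) ⟶ f.fiber y :=
    Limits.pullback.lift (Limits.pullback.fst _ _) (Limits.pullback.snd _ _ ≫ Spec.map ψ)
      (by rw [Limits.pullback.condition, Category.assoc])
  have h1 : g'' ≫ f.fiberι y = Limits.pullback.fst _ _ := Limits.pullback.lift_fst _ _ _
  have h2 : g'' ≫ f.fiberToSpecResidueField y = Limits.pullback.snd _ _ ≫ Spec.map ψ :=
    Limits.pullback.lift_snd _ _ _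
  have big : IsPullback (g'' ≫ f.fiberι y) (Limits.pullback.snd f
      (Spec.map ψ ≫ Y.fromSpecResidueField y)) f (Spec.map ψ ≫ Y.fromSpecResidueField y) := by
    rw [h1]; exact IsPullback.of_hasPullback _ _
  have right : IsPullback (f.fiberι y) (f.fiberToSpecResidueField y) f
      (Y.fromSpecResidueField y) := IsPullback.of_hasPullback _ _
  have left := IsPullback.of_right big h2 right
  exact Groth.Agent.Lib.BddFibBase.finiteOfDegLE_of_isPullback
    (Field.toIsField _) (Field.toIsField k) _ _ ψ g'' left n (hf y)

/-- Let `f : X → Y` be a morphism of schemes and `n ≥ 0`. Then `n` bounds the degrees of the fibres of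
`f` if and only if for every field `k` and every morphism `Spec k → Y` the base change `X_k = Spec k
×_Y X` is finite over `k` of degree at most `n`. -/
theorem result {X Y : Scheme.{u}} (f : X ⟶ Y) (n : ℕ) :
    BddFib.FibreDegLE f n ↔ ∀ (k : Type u) [Field k] (g : Spec (CommRingCat.of k) ⟶ Y),
      BddFib.FiniteOfDegLE (CommRingCat.of k) (Limits.pullback.snd f g) n := by
  constructor
  · intro hf k _ g
    exact forward f n hf k g
  · intro h y
    exact h (Y.residueField y) (Y.fromSpecResidueField y)

end Groth.Agent.S7433
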