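import Groth.Statements.S7437
import Groth.Agent.Lib.BddFibBase
import Mathlib.AlgebraicGeometry.Fiber

set_option autoImplicit false
universe u
open CategoryTheory AlgebraicGeometry
open BddFib

namespace Groth.Agent.S7437

/-- When every fibre of `f : X → Y` has degree at most `n`, the same bound `n` holds for the fibres of
any base change `f' : X' → Y'` of `f` along a morphism `Y' → Y`. -/
theorem result {X Y X' Y' : Scheme.{u}} (f : X ⟶ Y) (g : Y' ⟶ Y) (f' : X' ⟶ Y') (g' : X' ⟶ X)
    (h : IsPullback g' f' f g) (n : ℕ) (hf : BddFib.FibreDegLE f n) : BddFib.FibreDegLE f' n := by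
  intro y'
  exact Groth.Agent.Lib.BddFibBase.finiteOfDegLE_of_isPullback
    (Field.toIsField _) (Field.toIsField _) _ _ (g.residueFieldMap y') _
    (isPullback_fiberToSpecResidueField_of_isPullback h y') n (hf (g y'))

end Groth.Agent.S7437
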