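import Groth.Statements.S7436
import Groth.Agent.Lib.BddFibBase
import Groth.Agent.Lib.BddFibComp
import Groth.Agent.S7433
import Groth.Agent.S7437
import Groth.Agent.S7442
import Mathlib.AlgebraicGeometry.Limits
import Mathlib.AlgebraicGeometry.Fiber

set_option autoImplicit false
set_option linter.style.haveILetI false
universe u
open CategoryTheory AlgebraicGeometry TensorProduct
open BddFib

namespace Groth.Agent.S7436

/-- A scheme finite over a field (in the sense of `FiniteOfDegLE`) is finite and discrete. -/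
theorem finite_discrete_of_finiteOfDegLE {K : CommRingCat.{u}} (hK : IsField K) {T : Scheme.{u}}
    (p : T ⟶ Spec K) (n : ℕ) (hT : BddFib.FiniteOfDegLE K p n) :
    Finite T ∧ DiscreteTopology T := by
  obtain ⟨hTaff, hTfin, -⟩ := hT
  let _ : Field K := hK.toField
  letI algT : Algebra K Γ(T, ⊤) := BddFib.secAlgebra K p
  haveI : Module.Finite K Γ(T, ⊤) := hTfin
  haveI : IsArtinianRing Γ(T, ⊤) := IsArtinianRing.of_finite K Γ(T, ⊤)
  haveI : Finite (PrimeSpectrum Γ(T, ⊤)) := inferInstance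
  haveI : DiscreteTopology (PrimeSpectrum Γ(T, ⊤)) := inferInstance
  exact ⟨Finite.of_equiv _ T.isoSpec.hom.homeomorph.symm.toEquiv,
    T.isoSpec.hom.homeomorph.symm.discreteTopology⟩

/-- If the target is finite discrete and all fibres are finite over the residue fields, the source
is finite discrete. -/
theorem finite_discrete_of_fibreDegLE {T W : Scheme.{u}} (φ : T ⟶ W) (n : ℕ)
    (hφ : BddFib.FibreDegLE φ n) [Finite W] [DiscreteTopology W] :
    Finite T ∧ DiscreteTopology T := by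
  have hfib : ∀ w : W, Finite (φ ⁻¹' {w}) ∧ DiscreteTopology (φ ⁻¹' {w}) := by
    intro w
    obtain ⟨h1, h2⟩ := finite_discrete_of_finiteOfDegLE (Field.toIsField _) _ n (hφ w)
    exact ⟨Finite.of_equiv _ (φ.fiberHomeo w).toEquiv, (φ.fiberHomeo w).discreteTopology⟩
  constructor
  · rw [← Set.finite_univ_iff]
    have : (Set.univ : Set T) = ⋃ w : W, φ ⁻¹' {w} := by
      ext t; simp
    rw [this]
    exact Set.finite_iUnion fun w => Set.finite_coe_iff.mp (hfib w).1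
  · rw [discreteTopology_iff_isOpen_singleton]
    intro t
    have hU : IsOpen (φ ⁻¹' {φ t}) := (isOpen_discrete _).preimage φ.continuous
    haveI := (hfib (φ t)).2
    have := hU.isOpenMap_subtype_val {⟨t, rfl⟩} (isOpen_discrete _)
    simpa using this

theorem isoSpec_inv_appTop' (W : Scheme.{u}) [IsAffine W] :
    W.isoSpec.inv.appTop = (Scheme.ΓSpecIso Γ(W, ⊤)).inv := by
  have h1 : W.isoSpec.hom.appTop = (Scheme.ΓSpecIso Γ(W, ⊤)).hom := by
    rw [Scheme.isoSpec_hom, Scheme.toSpecΓ_appTop]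
  have h2 : W.isoSpec.inv.appTop ≫ W.isoSpec.hom.appTop = 𝟙 _ := by
    rw [← Scheme.Hom.comp_appTop, Iso.hom_inv_id]
    rfl
  rw [h1] at h2
  rw [← cancel_mono (Scheme.ΓSpecIso Γ(W, ⊤)).hom, h2, Iso.inv_hom_id]

/-- key lemma: composition over a field. -/
theorem finiteOfDegLE_comp {K : CommRingCat.{u}} (hK : IsField K)
    {T W : Scheme.{u}} (φ : T ⟶ W) (p : W ⟶ Spec K) (n m : ℕ)
    (hφ : BddFib.FibreDegLE φ n) (hp : BddFib.FiniteOfDegLE K p m) :
    BddFib.FiniteOfDegLE K (φ ≫ p) (n * m) := by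
  obtain ⟨hW1, hW2⟩ := finite_discrete_of_finiteOfDegLE hK p m hp
  obtain ⟨hT1, hT2⟩ := finite_discrete_of_fibreDegLE φ n hφ
  obtain ⟨hWaff, hWfin, hWrank⟩ := hp
  have hTaff : IsAffine T := inferInstance
  let _ : Field K := hK.toField
  letI algB : Algebra K Γ(W, ⊤) := BddFib.secAlgebra K p
  letI algC : Algebra K Γ(T, ⊤) := BddFib.secAlgebra K (φ ≫ p)
  letI algBC : Algebra Γ(W, ⊤) Γ(T, ⊤) := φ.appTop.hom.toAlgebra
  haveI : IsScalarTower K Γ(W, ⊤) Γ(T, ⊤) := .of_algebraMap_eq' rfl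
  haveI : Module.Finite K Γ(W, ⊤) := hWfin
  have key : ∀ q : Ideal Γ(W, ⊤), q.IsMaximal →
      Module.Finite (Γ(W, ⊤) ⧸ q) ((Γ(W, ⊤) ⧸ q) ⊗[Γ(W, ⊤)] Γ(T, ⊤)) ∧
      Module.finrank (Γ(W, ⊤) ⧸ q) ((Γ(W, ⊤) ⧸ q) ⊗[Γ(W, ⊤)] Γ(T, ⊤)) ≤ n := by
    intro q hq
    haveI := hq
    letI : Field (Γ(W, ⊤) ⧸ q) := Ideal.Quotient.field q
    let L : CommRingCat.{u} := CommRingCat.of (Γ(W, ⊤) ⧸ q)
    let mkq : Γ(W, ⊤) ⟶ L := CommRingCat.ofHom (algebraMap Γ(W, ⊤) (Γ(W, ⊤) ⧸ q))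
    let g : Spec L ⟶ W := Spec.map mkq ≫ W.isoSpec.inv
    have hg : g.appTop = mkq ≫ (Scheme.ΓSpecIso L).inv := by
      rw [Scheme.Hom.comp_appTop, isoSpec_inv_appTop', Scheme.ΓSpecIso_inv_naturality]
    have hfw := Groth.Agent.S7433.forward φ n hφ (Γ(W, ⊤) ⧸ q) g
    obtain ⟨hPaff, hPfin, hPrank⟩ := hfw
    have pb : IsPullback (Limits.pullback.fst φ g) (Limits.pullback.snd φ g) φ g :=
      IsPullback.of_hasPullback φ g
    have push := isPushout_appTop_of_isPullback pb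
    let φ' : L ⟶ Γ(Limits.pullback φ g, ⊤) :=
      (Scheme.ΓSpecIso L).inv ≫ (Limits.pullback.snd φ g).appTop
    let γ : Γ(T, ⊤) ⟶ Γ(Limits.pullback φ g, ⊤) := (Limits.pullback.fst φ g).appTop
    have push' : IsPushout φ.appTop mkq γ φ' := by
      refine push.of_iso (Iso.refl _) (Iso.refl _) (Scheme.ΓSpecIso L) (Iso.refl _) ?_ ?_ ?_ ?_
      · simp
      · simp [hg]
      · simp [γ]
      · simp [φ']
    letI algLP : Algebra (Γ(W, ⊤) ⧸ q) Γ(Limits.pullback φ g, ⊤) := φ'.hom.toAlgebra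
    letI algCP : Algebra Γ(T, ⊤) Γ(Limits.pullback φ g, ⊤) := γ.hom.toAlgebra
    letI algBP : Algebra Γ(W, ⊤) Γ(Limits.pullback φ g, ⊤) := (γ.hom.comp φ.appTop.hom).toAlgebra
    haveI : IsScalarTower Γ(W, ⊤) Γ(T, ⊤) Γ(Limits.pullback φ g, ⊤) := .of_algebraMap_eq' rfl
    haveI : IsScalarTower Γ(W, ⊤) (Γ(W, ⊤) ⧸ q) Γ(Limits.pullback φ g, ⊤) :=
      .of_algebraMap_eq' <| congr($(push'.w).hom)
    have hpo : Algebra.IsPushout Γ(W, ⊤) Γ(T, ⊤) (Γ(W, ⊤) ⧸ q) Γ(Limits.pullback φ g, ⊤) :=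
      CommRingCat.isPushout_iff_isPushout.mp push'
    have hpo' : Algebra.IsPushout Γ(W, ⊤) (Γ(W, ⊤) ⧸ q) Γ(T, ⊤) Γ(Limits.pullback φ g, ⊤) :=
      hpo.symm
    let e : (Γ(W, ⊤) ⧸ q) ⊗[Γ(W, ⊤)] Γ(T, ⊤) ≃ₐ[Γ(W, ⊤) ⧸ q] Γ(Limits.pullback φ g, ⊤) :=
      Algebra.IsPushout.equiv Γ(W, ⊤) (Γ(W, ⊤) ⧸ q) Γ(T, ⊤) Γ(Limits.pullback φ g, ⊤)
    have hPfin' : Module.Finite (Γ(W, ⊤) ⧸ q) Γ(Limits.pullback φ g, ⊤) := hPfin
    refine ⟨Module.Finite.equiv e.symm.toLinearEquiv, ?_⟩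
    rw [e.toLinearEquiv.finrank_eq]
    exact hPrank
  obtain ⟨h1, h2⟩ := Groth.Agent.Lib.BddFibComp.algebra_case K Γ(W, ⊤) Γ(T, ⊤) n key
  refine ⟨hTaff, h1, h2.trans ?_⟩
  exact Nat.mul_le_mul_left _ hWrank

/-- When every fibre of `f : X → Y` has degree at most `n` and every fibre of `g : Y → Z` has degree at
most `m`, every fibre of `g ∘ f` has degree at most `n m`. -/
theorem result {X Y Z : Scheme.{u}} (f : X ⟶ Y) (g : Y ⟶ Z) (n m : ℕ) (hf : BddFib.FibreDegLE f n)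
    (hg : BddFib.FibreDegLE g m) : BddFib.FibreDegLE (f ≫ g) (n * m) := by
  intro z
  -- the induced map on fibres
  let φ : (f ≫ g).fiber z ⟶ g.fiber z :=
    Limits.pullback.lift ((f ≫ g).fiberι z ≫ f) ((f ≫ g).fiberToSpecResidueField z)
      (by rw [Category.assoc]; exact (f ≫ g).fiber_fac z)
  have h1 : φ ≫ g.fiberι z = (f ≫ g).fiberι z ≫ f := Limits.pullback.lift_fst _ _ _
  have h2 : φ ≫ g.fiberToSpecResidueField z = (f ≫ g).fiberToSpecResidueField z :=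
    Limits.pullback.lift_snd _ _ _
  -- φ is a base change of f
  have big : IsPullback (φ ≫ g.fiberToSpecResidueField z) ((f ≫ g).fiberι z)
      (Z.fromSpecResidueField z) (f ≫ g) := by
    rw [h2]
    exact (IsPullback.of_hasPullback (f ≫ g) (Z.fromSpecResidueField z)).flip
  have right : IsPullback (g.fiberToSpecResidueField z) (g.fiberι z)
      (Z.fromSpecResidueField z) g := (IsPullback.of_hasPullback g (Z.fromSpecResidueField z)).flip
  have left : IsPullback ((f ≫ g).fiberι z) φ f (g.fiberι z) :=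
    (IsPullback.of_right big h1 right).flip
  have hφ : BddFib.FibreDegLE φ n :=
    Groth.Agent.S7437.result f (g.fiberι z) φ ((f ≫ g).fiberι z) left n hf
  rw [← h2]
  exact finiteOfDegLE_comp (Field.toIsField _) φ _ n m hφ (hg z)

end Groth.Agent.S7436
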