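import Groth.Statements.S7439
import Mathlib.AlgebraicGeometry.Morphisms.ClosedImmersion
import Mathlib.AlgebraicGeometry.Morphisms.Immersion

set_option autoImplicit false
universe u
open CategoryTheory AlgebraicGeometry
open BddFib

namespace Groth.Agent.S7439

/-- A scheme over `Spec K` whose structure map is surjective on global sections (source affine)
is finite of degree at most one. -/
theorem finiteOfDegLE_one_of_surjective (K : CommRingCat.{u}) [Nontrivial K] {T : Scheme.{u}}
    (p : T ⟶ Spec K) [IsAffine T] (hp : Function.Surjective p.appTop) :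
    BddFib.FiniteOfDegLE K p 1 := by
  let _ : Algebra K Γ(T, ⊤) := BddFib.secAlgebra K p
  have hsurj : Function.Surjective (algebraMap K Γ(T, ⊤)) := by
    change Function.Surjective ((Scheme.ΓSpecIso K).inv ≫ p.appTop).hom.toAlgebra.algebraMap
    rw [RingHom.algebraMap_toAlgebra, CommRingCat.hom_comp, RingHom.coe_comp]
    exact hp.comp (ConcreteCategory.bijective_of_isIso (Scheme.ΓSpecIso K).inv).2
  have hsurj' : Function.Surjective (Algebra.linearMap K Γ(T, ⊤)) := hsurj
  have hfin : Module.Finite K Γ(T, ⊤) := Module.Finite.of_surjective _ hsurj'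
  refine ⟨inferInstance, hfin, ?_⟩
  calc Module.finrank K Γ(T, ⊤) ≤ Module.finrank K K :=
        LinearMap.finrank_le_finrank_of_surjective hsurj'
    _ = 1 := Module.finrank_self K

/-- Every immersion has universally bounded fibres, with `1` as a bound for the degrees of its fibres. -/
theorem result {X Y : Scheme.{u}} (f : X ⟶ Y) [IsImmersion f] :
    BddFib.FibreDegLE f 1 := by
  intro y
  have himm : IsImmersion (f.fiberToSpecResidueField y) :=
    inferInstanceAs (IsImmersion (Limits.pullback.snd f (Y.fromSpecResidueField y)))
  have hcl : IsClosedImmersion (f.fiberToSpecResidueField y) :=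
    IsClosedImmersion.of_isPreimmersion _ (Set.subsingleton_of_subsingleton.isClosed)
  obtain ⟨haff, hsurj⟩ :=
    IsClosedImmersion.isAffine_surjective_of_isAffine (f.fiberToSpecResidueField y)
  exact finiteOfDegLE_one_of_surjective (Y.residueField y) _ hsurj

end Groth.Agent.S7439
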