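import Groth.Statements.S7441
import Groth.Agent.Lib.BddFibBase
import Groth.Agent.Lib.BddFibQF
import Groth.Agent.S7433
import Groth.Agent.S7436
import Groth.Agent.S7439
import Mathlib.AlgebraicGeometry.Limits
import Mathlib.AlgebraicGeometry.Fiber
import Mathlib.AlgebraicGeometry.Morphisms.QuasiFinite
import Mathlib.AlgebraicGeometry.Morphisms.FiniteType

set_option autoImplicit false
set_option linter.style.haveILetI false
universe u
open CategoryTheory AlgebraicGeometry TensorProduct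
open BddFib

namespace Groth.Agent.S7441

/-- Fibre degree bound for `Spec.map` from an algebraic bound on all field-valued fibres. -/
theorem fibreDegLE_SpecMap {R A : CommRingCat.{u}} (ρ : R ⟶ A) (N : ℕ)
    (h : ∀ (k : Type u) [Field k] (χ : R →+* k),
      letI := ρ.hom.toAlgebra
      letI := χ.toAlgebra
      Module.Finite k (k ⊗[R] A) ∧ Module.finrank k (k ⊗[R] A) ≤ N) :
    BddFib.FibreDegLE (Spec.map ρ) N := by
  rw [Groth.Agent.S7433.result]
  intro k _ g
  obtain ⟨χ, rfl⟩ := Spec.map_surjective g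
  have pb : IsPullback (Limits.pullback.fst (Spec.map ρ) (Spec.map χ))
      (Limits.pullback.snd (Spec.map ρ) (Spec.map χ)) (Spec.map ρ) (Spec.map χ) :=
    IsPullback.of_hasPullback _ _
  have push := isPushout_appTop_of_isPullback pb
  let P := Limits.pullback (Spec.map ρ) (Spec.map χ)
  let φ' : CommRingCat.of k ⟶ Γ(P, ⊤) :=
    (Scheme.ΓSpecIso (CommRingCat.of k)).inv ≫ (Limits.pullback.snd (Spec.map ρ) (Spec.map χ)).appTop
  let γ : A ⟶ Γ(P, ⊤) :=
    (Scheme.ΓSpecIso A).inv ≫ (Limits.pullback.fst (Spec.map ρ) (Spec.map χ)).appTop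
  have push' : IsPushout ρ χ γ φ' := by
    refine push.of_iso (Scheme.ΓSpecIso R) (Scheme.ΓSpecIso A) (Scheme.ΓSpecIso (CommRingCat.of k))
      (Iso.refl _) ?_ ?_ ?_ ?_
    · simp
    · simp
    · simp [γ]
    · simp [φ']
  letI algRA : Algebra R A := ρ.hom.toAlgebra
  letI algRk : Algebra R k := χ.hom.toAlgebra
  letI algkP : Algebra k Γ(P, ⊤) := φ'.hom.toAlgebra
  letI algAP : Algebra A Γ(P, ⊤) := γ.hom.toAlgebra
  letI algRP : Algebra R Γ(P, ⊤) := (γ.hom.comp ρ.hom).toAlgebra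
  haveI : IsScalarTower R A Γ(P, ⊤) := .of_algebraMap_eq' rfl
  haveI : IsScalarTower R k Γ(P, ⊤) := .of_algebraMap_eq' <| congr($(push'.w).hom)
  have hpo : Algebra.IsPushout R A k Γ(P, ⊤) := CommRingCat.isPushout_iff_isPushout.mp push'
  have hpo' : Algebra.IsPushout R k A Γ(P, ⊤) := hpo.symm
  let e : k ⊗[R] A ≃ₐ[k] Γ(P, ⊤) := Algebra.IsPushout.equiv R k A Γ(P, ⊤)
  obtain ⟨h1, h2⟩ := h k χ.hom
  refine ⟨inferInstance, Module.Finite.equiv e.toLinearEquiv, ?_⟩
  change Module.finrank k Γ(P, ⊤) ≤ N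
  rw [← e.toLinearEquiv.finrank_eq]
  exact h2

/-- `FibreDegLE` is invariant under isomorphisms of arrows. -/
theorem fibreDegLE_of_arrow_iso {X Y X' Y' : Scheme.{u}} (f : X ⟶ Y) (f' : X' ⟶ Y')
    (e : Arrow.mk f ≅ Arrow.mk f') (n : ℕ) (h : BddFib.FibreDegLE f n) :
    BddFib.FibreDegLE f' n := by
  have hw : f' = e.inv.left ≫ f ≫ e.hom.right := by
    have h1 : e.hom.left ≫ f' = f ≫ e.hom.right := e.hom.w
    have h2 : e.inv.left ≫ e.hom.left = 𝟙 _ := by
      simp
    rw [← h1, ← Category.assoc, h2, Category.id_comp]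
  haveI : IsIso e.hom.right := inferInstance
  haveI : IsIso e.inv.left := inferInstance
  have h1 := Groth.Agent.S7436.result f e.hom.right n 1 h (Groth.Agent.S7439.result _)
  have h2 := Groth.Agent.S7436.result e.inv.left (f ≫ e.hom.right) 1 (n * 1)
    (Groth.Agent.S7439.result _) h1
  rw [hw]
  simpa using h2

/-- Local version: around each point of the source there is an open on which the fibre degrees are
bounded. -/
theorem exists_open_fibreDegLE {X Y : Scheme.{u}} (f : X ⟶ Y) [LocallyQuasiFinite f]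
    [LocallyOfFiniteType f] (x : X) :
    ∃ (U : X.Opens) (N : ℕ), x ∈ U ∧ BddFib.FibreDegLE (U.ι ≫ f) N := by
  obtain ⟨_, ⟨V, hV, rfl⟩, hxV, -⟩ := Y.isBasis_affineOpens.exists_subset_of_mem_open
    (Set.mem_univ (f x)) isOpen_univ
  obtain ⟨_, ⟨U₀, hU₀, rfl⟩, hxU₀, hU₀V : U₀ ≤ f ⁻¹ᵁ V⟩ :=
    X.isBasis_affineOpens.exists_subset_of_mem_open hxV (f ⁻¹ᵁ V).2
  have hft : (f.appLE V U₀ hU₀V).hom.FiniteType := f.finiteType_appLE hV hU₀ hU₀V
  have hqf : (f.appLE V U₀ hU₀V).hom.QuasiFinite :=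
    LocallyQuasiFinite.quasiFinite_appLE hV hU₀ hU₀V
  letI algRS : Algebra Γ(Y, V) Γ(X, U₀) := (f.appLE V U₀ hU₀V).hom.toAlgebra
  haveI : Algebra.FiniteType Γ(Y, V) Γ(X, U₀) := hft
  haveI : Algebra.QuasiFinite Γ(Y, V) Γ(X, U₀) := hqf
  let p := hU₀.primeIdealOf ⟨x, hxU₀⟩
  obtain ⟨r, N, hrp, hN⟩ :=
    Groth.Agent.Lib.BddFibQF.exists_fibre_bound_of_quasiFiniteAt (R := Γ(Y, V)) p.asIdeal
  let U : X.Opens := X.basicOpen r
  have hU : IsAffineOpen U := hU₀.basicOpen r
  have hUU₀ : U ≤ U₀ := X.basicOpen_le r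
  have e' : U ≤ f ⁻¹ᵁ V := hUU₀.trans hU₀V
  have hxU : x ∈ U := by
    have h1 : hU₀.fromSpec p = x := hU₀.fromSpec_primeIdealOf ⟨x, hxU₀⟩
    have h2 : p ∈ hU₀.fromSpec ⁻¹ᵁ X.basicOpen r := by
      rw [hU₀.fromSpec_preimage_basicOpen]
      exact hrp
    rw [← h1]
    exact h2
  refine ⟨U, N, hxU, ?_⟩
  -- the algebraic bound
  letI algRA : Algebra Γ(Y, V) Γ(X, U) := (f.appLE V U e').hom.toAlgebra
  haveI : IsScalarTower Γ(Y, V) Γ(X, U₀) Γ(X, U) := by
    refine .of_algebraMap_eq' ?_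
    change (f.appLE V U e').hom =
      (X.presheaf.map (homOfLE hUU₀).op).hom.comp (f.appLE V U₀ hU₀V).hom
    rw [← CommRingCat.hom_comp, Scheme.Hom.appLE_map]
  haveI : IsLocalization.Away r Γ(X, U) := hU₀.isLocalization_basicOpen r
  have hSpec : BddFib.FibreDegLE (Spec.map (f.appLE V U e')) N := by
    apply fibreDegLE_SpecMap
    intro k _ χ
    letI : Algebra Γ(Y, V) k := χ.toAlgebra
    exact hN Γ(X, U) k
  have h1 := Groth.Agent.S7436.result (Spec.map (f.appLE V U e')) hV.fromSpec N 1 hSpec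
    (Groth.Agent.S7439.result _)
  have h2 := Groth.Agent.S7436.result hU.isoSpec.hom (Spec.map (f.appLE V U e') ≫ hV.fromSpec) 1
    (N * 1) (Groth.Agent.S7439.result _) h1
  have hcomp : hU.isoSpec.hom ≫ Spec.map (f.appLE V U e') ≫ hV.fromSpec = U.ι ≫ f := by
    rw [IsAffineOpen.SpecMap_appLE_fromSpec f hV hU e', ← Category.assoc,
      IsAffineOpen.isoSpec_hom_fromSpec]
  rw [hcomp] at h2
  simpa using h2

/-- sections vanishing on a jointly surjective family of open immersions vanish. -/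
theorem eq_zero_of_appTop_eq_zero {T : Scheme.{u}} {ι : Type*} (Ti : ι → Scheme.{u})
    (φ : ∀ i, Ti i ⟶ T) [∀ i, IsOpenImmersion (φ i)]
    (hcov : ∀ t : T, ∃ i, t ∈ Set.range (φ i)) (s : Γ(T, ⊤))
    (hs : ∀ i, (φ i).appTop s = 0) : s = 0 := by
  apply TopCat.Presheaf.section_ext T.sheaf ⊤ s 0
  intro t ht
  obtain ⟨i, s₀, rfl⟩ := hcov t
  have h1 := Scheme.Hom.germ_stalkMap_apply (φ i) ⊤ s₀ ht s
  have h2 : (φ i).app ⊤ s = 0 := hs i
  rw [h2, map_zero] at h1
  have hinj : Function.Injective ((φ i).stalkMap s₀) :=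
    (ConcreteCategory.bijective_of_isIso ((φ i).stalkMap s₀)).1
  rw [map_zero]
  apply hinj
  exact h1.trans (map_zero _).symm

/-- cover lemma over a field. -/
theorem finiteOfDegLE_of_openCover {K : CommRingCat.{u}} (hK : IsField K) {T : Scheme.{u}}
    (p : T ⟶ Spec K) {ι : Type} [Fintype ι] (Ti : ι → Scheme.{u})
    (φ : ∀ i, Ti i ⟶ T) [∀ i, IsOpenImmersion (φ i)]
    (hcov : ∀ t : T, ∃ i, t ∈ Set.range (φ i)) (N : ι → ℕ)
    (h : ∀ i, BddFib.FiniteOfDegLE K (φ i ≫ p) (N i)) :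
    BddFib.FiniteOfDegLE K p (∑ i, N i) := by
  have hfd : ∀ i, Finite (Ti i) ∧ DiscreteTopology (Ti i) := fun i =>
    Groth.Agent.S7436.finite_discrete_of_finiteOfDegLE hK (φ i ≫ p) (N i) (h i)
  haveI hTfin : Finite T := by
    rw [← Set.finite_univ_iff]
    have : (Set.univ : Set T) = ⋃ i, Set.range (φ i) := by
      ext t
      simpa using hcov t
    rw [this]
    exact Set.finite_iUnion fun i => by
      haveI := (hfd i).1
      exact Set.finite_range _
  haveI hTdisc : DiscreteTopology T := by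
    rw [discreteTopology_iff_isOpen_singleton]
    intro t
    obtain ⟨i, s₀, rfl⟩ := hcov t
    haveI := (hfd i).2
    have := (φ i).isOpenEmbedding.isOpenMap {s₀} (isOpen_discrete _)
    simpa using this
  have hTaff : IsAffine T := inferInstance
  let _ : Field K := hK.toField
  letI algT : Algebra K Γ(T, ⊤) := BddFib.secAlgebra K p
  letI algTi : ∀ i, Algebra K Γ(Ti i, ⊤) := fun i => BddFib.secAlgebra K (φ i ≫ p)
  haveI hfin : ∀ i, Module.Finite K Γ(Ti i, ⊤) := fun i => (h i).2.1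
  have hrank : ∀ i, Module.finrank K Γ(Ti i, ⊤) ≤ N i := fun i => (h i).2.2
  let L : Γ(T, ⊤) →ₗ[K] (∀ i, Γ(Ti i, ⊤)) :=
    { toFun := fun s i => (φ i).appTop s
      map_add' := by
        intro a b
        ext i
        simp
      map_smul' := by
        intro c x
        ext i
        change (φ i).appTop.hom (algebraMap K Γ(T, ⊤) c * x) =
          algebraMap K Γ(Ti i, ⊤) c * (φ i).appTop.hom x
        rw [map_mul]
        congr 1 }
  have hLinj : Function.Injective L := by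
    rw [← LinearMap.ker_eq_bot, LinearMap.ker_eq_bot']
    intro s hs
    apply eq_zero_of_appTop_eq_zero Ti φ hcov s
    intro i
    exact congrFun hs i
  refine ⟨hTaff, Module.Finite.of_injective L hLinj, ?_⟩
  calc Module.finrank K Γ(T, ⊤) ≤ Module.finrank K (∀ i, Γ(Ti i, ⊤)) :=
        LinearMap.finrank_le_finrank_of_injective hLinj
    _ = ∑ i, Module.finrank K Γ(Ti i, ⊤) := Module.finrank_pi_fintype K
    _ ≤ ∑ i, N i := Finset.sum_le_sum fun i _ => hrank i

/-- cover lemma: bounds on a finite open cover of the source add up. -/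
theorem fibreDegLE_of_openCover {X Y : Scheme.{u}} (f : X ⟶ Y) {ι : Type} [Fintype ι]
    (U : ι → X.Opens) (hU : ∀ x : X, ∃ i, x ∈ U i) (N : ι → ℕ)
    (h : ∀ i, BddFib.FibreDegLE ((U i).ι ≫ f) (N i)) : BddFib.FibreDegLE f (∑ i, N i) := by
  intro y
  -- the induced maps on fibres
  let φ : ∀ i, ((U i).ι ≫ f).fiber y ⟶ f.fiber y := fun i =>
    Limits.pullback.lift (((U i).ι ≫ f).fiberι y ≫ (U i).ι)
      (((U i).ι ≫ f).fiberToSpecResidueField y)
      (by rw [Category.assoc]; exact ((U i).ι ≫ f).fiber_fac y)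
  have h1 : ∀ i, φ i ≫ f.fiberι y = ((U i).ι ≫ f).fiberι y ≫ (U i).ι := fun i =>
    Limits.pullback.lift_fst _ _ _
  have h2 : ∀ i, φ i ≫ f.fiberToSpecResidueField y =
      ((U i).ι ≫ f).fiberToSpecResidueField y := fun i => Limits.pullback.lift_snd _ _ _
  have left : ∀ i, IsPullback (((U i).ι ≫ f).fiberι y) (φ i) (U i).ι (f.fiberι y) := by
    intro i
    have big : IsPullback (φ i ≫ f.fiberToSpecResidueField y) (((U i).ι ≫ f).fiberι y)
        (Y.fromSpecResidueField y) ((U i).ι ≫ f) := by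
      rw [h2]
      exact (IsPullback.of_hasPullback ((U i).ι ≫ f) (Y.fromSpecResidueField y)).flip
    have right : IsPullback (f.fiberToSpecResidueField y) (f.fiberι y)
        (Y.fromSpecResidueField y) f :=
      (IsPullback.of_hasPullback f (Y.fromSpecResidueField y)).flip
    exact (IsPullback.of_right big (h1 i) right).flip
  haveI : ∀ i, IsOpenImmersion (φ i) := fun i =>
    MorphismProperty.of_isPullback (left i) inferInstance
  have hcov : ∀ t : f.fiber y, ∃ i, t ∈ Set.range (φ i) := by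
    intro t
    obtain ⟨i, hi⟩ := hU (f.fiberι y t)
    obtain ⟨c, -, hc⟩ := Scheme.exists_preimage_of_isPullback (left i)
      (⟨f.fiberι y t, hi⟩ : (U i).toScheme) t rfl
    exact ⟨i, c, hc⟩
  refine finiteOfDegLE_of_openCover (Field.toIsField _) _ _ φ hcov N ?_
  intro i
  rw [h2]
  exact h i y

/-- Let `f : X → Y` be locally quasi-finite (locally of finite type with discrete fibres) with `X`
quasi-compact. Then the fibres of `f` are universally bounded. -/
theorem result {X Y : Scheme.{u}} (f : X ⟶ Y) [LocallyQuasiFinite f]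
    [LocallyOfFiniteType f] [CompactSpace X] : BddFib.UnivBounded f := by
  choose U N hxU hN using exists_open_fibreDegLE f
  obtain ⟨t, ht⟩ := isCompact_univ.elim_finite_subcover (fun x => ((U x : X.Opens) : Set X))
    (fun x => (U x).2) (fun x _ => Set.mem_iUnion.mpr ⟨x, hxU x⟩)
  -- index type: `Fin t.card`
  let idx : Fin t.card → X := fun j => (t.equivFin.symm j : X)
  refine ⟨∑ j : Fin t.card, N (idx j), ?_⟩
  apply fibreDegLE_of_openCover f (fun j => U (idx j)) ?_ (fun j => N (idx j))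
  · intro j
    exact hN (idx j)
  · intro x
    have := ht (Set.mem_univ x)
    simp only [Set.mem_iUnion, exists_prop] at this
    obtain ⟨x₀, hx₀, hx⟩ := this
    refine ⟨t.equivFin ⟨x₀, hx₀⟩, ?_⟩
    simpa [idx] using hx

end Groth.Agent.S7441
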