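import Groth.Statements.S10895
import Mathlib
import Groth.Agent.Lib.LocalIsoSpread

set_option autoImplicit false
universe u
open CategoryTheory AlgebraicGeometry
open FlatMor

namespace Groth.Agent.S10895

/-- A closed immersion of finite presentation which is flat at a point x is an isomorphism over some
open neighbourhood of the image of x. -/
theorem result {X Y : Scheme.{u}} (f : X ⟶ Y) [IsClosedImmersion f]
    [LocallyOfFinitePresentation f] (x : X) (hflat : (f.stalkMap x).hom.Flat) :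
    ∃ V : Y.Opens, f.base x ∈ V ∧ IsIso (f ∣_ V) := by
  classical
  -- the stalk map at `x` is an isomorphism
  have hiso : IsIso (f.stalkMap x) := by
    rw [ConcreteCategory.isIso_iff_bijective]
    refine ⟨?_, f.stalkMap_surjective x⟩
    letI : Algebra (Y.presheaf.stalk (f x)) (X.presheaf.stalk x) := (f.stalkMap x).hom.toAlgebra
    haveI : Module.Flat (Y.presheaf.stalk (f x)) (X.presheaf.stalk x) := hflat
    haveI : IsLocalHom (algebraMap (Y.presheaf.stalk (f x)) (X.presheaf.stalk x)) :=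
      inferInstanceAs (IsLocalHom (f.stalkMap x).hom)
    haveI : Module.FaithfullyFlat (Y.presheaf.stalk (f x)) (X.presheaf.stalk x) :=
      Module.FaithfullyFlat.of_flat_of_isLocalHom
    exact FaithfulSMul.algebraMap_injective (Y.presheaf.stalk (f x)) (X.presheaf.stalk x)
  -- spread out
  have h : (𝟙 Y : Y ⟶ Y).stalkMap (f x) ≫ f.stalkMap x =
      Y.presheaf.stalkSpecializes
        (Inseparable.of_eq (rfl : f x = (𝟙 Y : Y ⟶ Y) (f x))).specializes ≫ f.stalkMap x := by
    rw [Scheme.Hom.stalkMap_id]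
    exact congrArg (· ≫ f.stalkMap x) (TopCat.Presheaf.stalkSpecializes_refl _ _).symm
  obtain ⟨U, hxU, V', hyV', F, hF, -, hFS⟩ :=
    Groth.Agent.Lib.LocalIsoSpread.exists_iso_opens f (𝟙 Y) (x := x) (y := f x) rfl
      (f.stalkMap x) h
  have hopen : IsOpenImmersion (U.ι ≫ f) := by
    rw [← hFS]
    infer_instance
  let V : Y.Opens := (U.ι ≫ f).opensRange
  have hpre : f ⁻¹ᵁ V = U := by
    ext y
    constructor
    · rintro ⟨u, hu⟩
      have : f (U.ι u) = f y := hu
      have h2 := f.isClosedEmbedding.injective this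
      rw [← h2]
      exact u.2
    · intro hy
      exact ⟨⟨y, hy⟩, rfl⟩
  refine ⟨V, ⟨⟨x, hxU⟩, rfl⟩, ?_⟩
  have hopen' : IsOpenImmersion ((f ⁻¹ᵁ V).ι ≫ f) := by
    have : ∀ W : X.Opens, W = U → IsOpenImmersion (W.ι ≫ f) := by
      rintro _ rfl
      exact hopen
    exact this _ hpre
  have hres : IsOpenImmersion (f ∣_ V) := by
    have h1 : IsOpenImmersion ((f ∣_ V) ≫ V.ι) := by
      rw [morphismRestrict_ι]
      exact hopen'
    exact IsOpenImmersion.of_comp (f ∣_ V) V.ι
  have hsurj : Function.Surjective (f ∣_ V) := by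
    rintro ⟨v, u, hu⟩
    have hmem : U.ι u ∈ f ⁻¹ᵁ V := by
      rw [hpre]
      exact u.2
    refine ⟨⟨U.ι u, hmem⟩, ?_⟩
    apply Subtype.ext
    have h1 : ((f ∣_ V) ≫ V.ι) ⟨U.ι u, hmem⟩ = ((f ⁻¹ᵁ V).ι ≫ f) ⟨U.ι u, hmem⟩ := by
      rw [morphismRestrict_ι]
    exact h1.trans hu
  haveI : Epi (f ∣_ V).base := (TopCat.epi_iff_surjective _).mpr hsurj
  exact IsOpenImmersion.isIso (f ∣_ V)

end Groth.Agent.S10895
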