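import Groth.Statements.S10890
import Mathlib
-- import your own Groth.Agent.* helpers here

set_option autoImplicit false
universe u
open CAlgX

namespace Groth.Agent.S10890

open Matrix in
/-- Row-multilinear expansion of a minor of a product (weak Cauchy–Binet). -/
theorem det_mul_submatrix {R : Type*} [CommRing R] {l m n r : ℕ} (a : Matrix (Fin l) (Fin m) R)
    (J : Matrix (Fin m) (Fin n) R) (ρ : Fin r → Fin l) (γ : Fin r → Fin n) :
    ((a * J).submatrix ρ γ).det =
      ∑ σ : Fin r → Fin m, (∏ i, a (ρ i) (σ i)) * (J.submatrix σ γ).det := by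
  have h : (a * J).submatrix ρ γ =
      Matrix.of (fun i => ∑ j, a (ρ i) j • (fun c => J j (γ c))) := by
    ext i c
    simp [Matrix.mul_apply, Finset.sum_apply]
  rw [h]
  change Matrix.detRowAlternating.toMultilinearMap
    (fun i => ∑ j, a (ρ i) j • (fun c => J j (γ c))) = _
  rw [MultilinearMap.map_sum]
  refine Finset.sum_congr rfl fun σ _ => ?_
  rw [MultilinearMap.map_smul_univ]
  rfl

theorem minorIdeal_mul_le_right {R : Type u} [CommRing R] {l m n : ℕ} (a : Matrix (Fin l) (Fin m) R)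
    (J : Matrix (Fin m) (Fin n) R) (k : ℕ) :
    CAlgX.minorIdeal (a * J) k ≤ CAlgX.minorIdeal J k := by
  unfold CAlgX.minorIdeal
  rw [Ideal.span_le]
  rintro _ ⟨⟨ρ, γ⟩, rfl⟩
  simp only
  rw [det_mul_submatrix]
  exact Ideal.sum_mem _ fun σ _ => Ideal.mul_mem_left _ _ (Ideal.subset_span ⟨⟨σ, γ⟩, rfl⟩)

theorem minorIdeal_transpose {R : Type u} [CommRing R] {m n : ℕ} (A : Matrix (Fin m) (Fin n) R)
    (k : ℕ) : CAlgX.minorIdeal A.transpose k = CAlgX.minorIdeal A k := by
  unfold CAlgX.minorIdeal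
  congr 1
  ext d
  constructor
  · rintro ⟨⟨e, f⟩, rfl⟩
    refine ⟨⟨f, e⟩, ?_⟩
    simp only
    rw [← Matrix.det_transpose]
    rfl
  · rintro ⟨⟨e, f⟩, rfl⟩
    refine ⟨⟨f, e⟩, ?_⟩
    simp only
    rw [← Matrix.det_transpose]
    rfl

theorem minorIdeal_mul_le_left {R : Type u} [CommRing R] {l m n : ℕ} (J : Matrix (Fin l) (Fin m) R)
    (s : Matrix (Fin m) (Fin n) R) (k : ℕ) :
    CAlgX.minorIdeal (J * s) k ≤ CAlgX.minorIdeal J k := by
  rw [← minorIdeal_transpose, Matrix.transpose_mul, ← minorIdeal_transpose J]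
  exact minorIdeal_mul_le_right _ _ _

theorem minorIdeal_eq_bot_of_rows_lt {R : Type u} [CommRing R] {m n : ℕ} (A : Matrix (Fin m) (Fin n) R)
    (k : ℕ) (hk : m < k) : CAlgX.minorIdeal A k = ⊥ := by
  unfold CAlgX.minorIdeal
  rw [eq_bot_iff, Ideal.span_le]
  rintro _ ⟨⟨e, f⟩, rfl⟩
  simp only [SetLike.mem_coe, Ideal.mem_bot]
  have he : ¬ Function.Injective e := by
    intro he
    have := Fintype.card_le_of_injective e he
    simp at this
    omega
  rw [Function.Injective] at he
  push Not at he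
  obtain ⟨a₁, a₂, heq, hne⟩ := he
  exact Matrix.det_zero_of_row_eq hne (by ext b; simp [heq])

theorem minorIdeal_one_eq_top {R : Type u} [CommRing R] (r : ℕ) :
    CAlgX.minorIdeal (1 : Matrix (Fin r) (Fin r) R) r = ⊤ := by
  rw [Ideal.eq_top_iff_one]
  unfold CAlgX.minorIdeal
  refine Ideal.subset_span ⟨⟨id, id⟩, ?_⟩
  simp

theorem exists_unit_minor {R : Type u} [CommRing R] [IsLocalRing R] {n m : ℕ}
    (A : Matrix (Fin n) (Fin m) R) (r : ℕ) (h : CAlgX.minorIdeal A r = ⊤) :
    ∃ (f : Fin r → Fin n) (g : Fin r → Fin m), IsUnit (A.submatrix f g).det := by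
  by_contra hcon
  push Not at hcon
  have hle : CAlgX.minorIdeal A r ≤ IsLocalRing.maximalIdeal R := by
    unfold CAlgX.minorIdeal
    rw [Ideal.span_le]
    rintro _ ⟨⟨f, g⟩, rfl⟩
    exact (IsLocalRing.mem_maximalIdeal _).2 (hcon f g)
  rw [h] at hle
  exact (IsLocalRing.maximalIdeal.isMaximal R).ne_top (top_le_iff.1 hle)

theorem entry_eq_of_minor_zero {R : Type u} [CommRing R] {n m : ℕ} (A : Matrix (Fin n) (Fin m) R)
    (r : ℕ) (h1 : CAlgX.minorIdeal A (r + 1) = ⊥)
    (f : Fin r → Fin n) (g : Fin r → Fin m) (hu : IsUnit (A.submatrix f g).det)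
    (i : Fin n) (c : Fin m) :
    A i c = (A.submatrix (fun _ : Fin 1 => i) g * (A.submatrix f g)⁻¹ *
      A.submatrix f (fun _ : Fin 1 => c)) 0 0 := by
  classical
  set B := A.submatrix f g with hB
  have hinv : Invertible B := Matrix.invertibleOfIsUnitDet B hu
  let F : Fin r ⊕ Fin 1 → Fin n := Sum.elim f (fun _ => i)
  let G : Fin r ⊕ Fin 1 → Fin m := Sum.elim g (fun _ => c)
  have hM : A.submatrix F G = Matrix.fromBlocks B (A.submatrix f (fun _ : Fin 1 => c))
      (A.submatrix (fun _ : Fin 1 => i) g)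
      (A.submatrix (fun _ : Fin 1 => i) (fun _ : Fin 1 => c)) := by
    ext (a | a) (b | b) <;> rfl
  have hdet0 : (A.submatrix F G).det = 0 := by
    have hmem : ((A.submatrix F G).submatrix finSumFinEquiv.symm finSumFinEquiv.symm).det ∈
        CAlgX.minorIdeal A (r + 1) := by
      rw [Matrix.submatrix_submatrix]
      exact Ideal.subset_span ⟨⟨F ∘ finSumFinEquiv.symm, G ∘ finSumFinEquiv.symm⟩, rfl⟩
    rw [h1, Ideal.mem_bot, Matrix.det_submatrix_equiv_self] at hmem
    exact hmem
  have h2 : ∀ M : Matrix (Fin 1) (Fin 1) R, M.det = M 0 0 := fun M => Matrix.det_unique M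
  rw [hM, Matrix.det_fromBlocks₁₁, h2] at hdet0
  have h0 := hu.mul_left_cancel (hdet0.trans (mul_zero _).symm)
  rw [Matrix.sub_apply, sub_eq_zero, Matrix.invOf_eq_nonsing_inv] at h0
  exact h0

open Matrix

theorem summand_of_minors {R : Type u} [CommRing R] [IsLocalRing R] (n m r : ℕ)
    (A : Matrix (Fin n) (Fin m) R)
    (h1 : CAlgX.minorIdeal A (r + 1) = ⊥) (h2 : CAlgX.minorIdeal A r = ⊤) :
    ∃ N' : Submodule R (Fin n → R), IsCompl (LinearMap.range (Matrix.mulVecLin A)) N' ∧
        Module.finrank R (LinearMap.range (Matrix.mulVecLin A)) = r := by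
  classical
  obtain ⟨f, g, hu⟩ := exists_unit_minor A r h2
  set B := A.submatrix f g with hB
  set C := A.submatrix id g with hC
  have hA : C * (B⁻¹ * A.submatrix f id) = A := by
    ext i c
    refine Eq.trans ?_ (entry_eq_of_minor_zero A r h1 f g hu i c).symm
    rw [Matrix.mul_assoc]
    simp only [Matrix.mul_apply, Matrix.submatrix_apply, id, hC]
    rfl
  have hC' : A * (1 : Matrix (Fin m) (Fin m) R).submatrix id g = C := by
    ext i j
    simp [hC, Matrix.mul_apply, Matrix.one_apply]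
  have hrange : LinearMap.range (Matrix.mulVecLin A) = LinearMap.range (Matrix.mulVecLin C) := by
    apply le_antisymm
    · rintro _ ⟨v, rfl⟩
      refine ⟨(B⁻¹ * A.submatrix f id) *ᵥ v, ?_⟩
      rw [Matrix.mulVecLin_apply, Matrix.mulVecLin_apply, Matrix.mulVec_mulVec, hA]
    · rintro _ ⟨u, rfl⟩
      refine ⟨(1 : Matrix (Fin m) (Fin m) R).submatrix id g *ᵥ u, ?_⟩
      rw [Matrix.mulVecLin_apply, Matrix.mulVecLin_apply, Matrix.mulVec_mulVec, hC']
  have hBC : ∀ u : Fin r → R, (C *ᵥ u) ∘ f = B *ᵥ u := by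
    intro u
    ext k
    simp [Matrix.mulVec, dotProduct, hB, hC]
  have hB0 : ∀ u : Fin r → R, B *ᵥ u = 0 → u = 0 := by
    intro u h
    have : B⁻¹ *ᵥ (B *ᵥ u) = u := by
      rw [Matrix.mulVec_mulVec, Matrix.nonsing_inv_mul B hu, Matrix.one_mulVec]
    rw [← this, h, Matrix.mulVec_zero]
  have hinj : Function.Injective (Matrix.mulVecLin C) := by
    rw [← LinearMap.ker_eq_bot, LinearMap.ker_eq_bot']
    intro u h
    rw [Matrix.mulVecLin_apply] at h
    apply hB0
    rw [← hBC, h]
    rfl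
  refine ⟨LinearMap.ker (LinearMap.funLeft R R f), ⟨?_, ?_⟩, ?_⟩
  · rw [hrange, Submodule.disjoint_def]
    rintro _ ⟨u, rfl⟩ hx
    rw [LinearMap.mem_ker] at hx
    rw [Matrix.mulVecLin_apply] at hx ⊢
    have : u = 0 := by
      apply hB0
      rw [← hBC]
      exact hx
    rw [this, Matrix.mulVec_zero]
  · rw [hrange, codisjoint_iff, eq_top_iff]
    intro v _
    refine Submodule.mem_sup.2 ⟨C *ᵥ (B⁻¹ *ᵥ (v ∘ f)), ⟨_, rfl⟩, v - C *ᵥ (B⁻¹ *ᵥ (v ∘ f)), ?_, by abel⟩
    rw [LinearMap.mem_ker, map_sub, sub_eq_zero]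
    change v ∘ f = (C *ᵥ (B⁻¹ *ᵥ (v ∘ f))) ∘ f
    rw [hBC, Matrix.mulVec_mulVec, Matrix.mul_nonsing_inv B hu, Matrix.one_mulVec]
  · rw [hrange, LinearMap.finrank_range_of_inj hinj]
    simp

theorem minors_of_summand {R : Type u} [CommRing R] [IsLocalRing R] (n m r : ℕ)
    (A : Matrix (Fin n) (Fin m) R) (N' : Submodule R (Fin n → R))
    (hc : IsCompl (LinearMap.range (Matrix.mulVecLin A)) N')
    (hfr : Module.finrank R (LinearMap.range (Matrix.mulVecLin A)) = r) :
    CAlgX.minorIdeal A (r + 1) = ⊥ ∧ CAlgX.minorIdeal A r = ⊤ := by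
  classical
  set P := LinearMap.range (Matrix.mulVecLin A) with hP
  let π : (Fin n → R) →ₗ[R] P := Submodule.projectionOnto P N' hc
  have hπ : ∀ x : P, π x = x := fun x => Submodule.projectionOnto_apply_left hc x
  have hproj : Module.Projective R P := Module.Projective.of_split P.subtype π (by
    ext x
    simp [hπ])
  have hfin : Module.Finite R P := inferInstance
  have hfp : Module.FinitePresentation R P := Module.finitePresentation_of_projective R P
  have hfree : Module.Free R P := Module.free_of_flat_of_isLocalRing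
  let b : Module.Basis (Fin r) R P := Module.finBasisOfFinrankEq R P hfr
  let Pr : (Fin n → R) →ₗ[R] (Fin r → R) := b.equivFun.toLinearMap ∘ₗ π
  let J : (Fin r → R) →ₗ[R] (Fin n → R) := P.subtype ∘ₗ b.equivFun.symm.toLinearMap
  have hJPA : J ∘ₗ Pr ∘ₗ Matrix.toLin' A = Matrix.toLin' A := by
    refine LinearMap.ext fun v => ?_
    have hv : Matrix.toLin' A v ∈ P := ⟨v, rfl⟩
    have : π (Matrix.toLin' A v) = ⟨Matrix.toLin' A v, hv⟩ := hπ ⟨_, hv⟩
    simp only [LinearMap.comp_apply, J, Pr, this, LinearEquiv.coe_coe, LinearEquiv.symm_apply_apply,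
      Submodule.subtype_apply]
  have hsurj : Function.Surjective (Pr ∘ₗ Matrix.toLin' A) := by
    intro w
    obtain ⟨v, hv⟩ := (b.equivFun.symm w).2
    refine ⟨v, ?_⟩
    have hv' : Matrix.toLin' A v = (b.equivFun.symm w : Fin n → R) := hv
    have : π (Matrix.toLin' A v) = b.equivFun.symm w := by
      rw [hv']; exact hπ _
    simp only [LinearMap.comp_apply, Pr, this, LinearEquiv.coe_coe, LinearEquiv.apply_symm_apply]
  obtain ⟨s, hs⟩ := Module.projective_lifting_property (Pr ∘ₗ Matrix.toLin' A)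
    (LinearMap.id : (Fin r → R) →ₗ[R] (Fin r → R)) hsurj
  set Jm := LinearMap.toMatrix' J
  set Pm := LinearMap.toMatrix' Pr
  set S := LinearMap.toMatrix' s
  have e1 : Jm * (Pm * A) = A := by
    have := congrArg LinearMap.toMatrix' hJPA
    rwa [LinearMap.toMatrix'_comp, LinearMap.toMatrix'_comp, LinearMap.toMatrix'_toLin'] at this
  have e2 : Pm * A * S = 1 := by
    have := congrArg LinearMap.toMatrix' hs
    rwa [LinearMap.toMatrix'_comp, LinearMap.toMatrix'_comp, LinearMap.toMatrix'_toLin',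
      LinearMap.toMatrix'_id] at this
  constructor
  · rw [eq_bot_iff, ← e1]
    refine (minorIdeal_mul_le_right Jm (Pm * A) (r + 1)).trans ?_
    rw [minorIdeal_eq_bot_of_rows_lt (Pm * A) (r + 1) (Nat.lt_succ_self r)]
  · rw [eq_top_iff, ← minorIdeal_one_eq_top r, ← e2]
    exact (minorIdeal_mul_le_left (Pm * A) S r).trans (minorIdeal_mul_le_right Pm A r)

/-- (i) ⇔ (ii): let R be a local ring, A an n × m matrix over R regarded as a linear map R^m → R^n, and
1 ≤ r ≤ n. Then the image of A is a direct summand of R^n of rank r if and only if every (r+1) ×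
(r+1) minor of A is zero and the r × r minors of A generate the unit ideal. (The printed statement
is over an arbitrary ring with 'direct summand of rank r'; its proof localises at once, and this row
states the local case, where a direct summand of R^n is free and its rank is its finrank.) -/
theorem result (R : Type u) [CommRing R] [IsLocalRing R] (n m r : ℕ)
    (hr : 1 ≤ r) (hrn : r ≤ n) (A : Matrix (Fin n) (Fin m) R) :
    (∃ N' : Submodule R (Fin n → R), IsCompl (LinearMap.range (Matrix.mulVecLin A)) N' ∧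
        Module.finrank R (LinearMap.range (Matrix.mulVecLin A)) = r) ↔
      (CAlgX.minorIdeal A (r + 1) = ⊥ ∧ CAlgX.minorIdeal A r = ⊤) := by
  constructor
  · rintro ⟨N', hc, hfr⟩
    exact minors_of_summand n m r A N' hc hfr
  · rintro ⟨h1, h2⟩
    exact summand_of_minors n m r A h1 h2

end Groth.Agent.S10890
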