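import Groth.Statements.S19962
import Groth.Agent.Lib.H29BE5

set_option autoImplicit false
universe u
open CAlg

namespace Groth.Agent.S19962

/-- Let R be a Noetherian commutative ring, not assumed local, and 0 → R^(n_e) → ⋯ → R^(n_1) → R^(n_0) a
complex of finite free modules with 1 ≤ e, the map R^(n_(i+1)) → R^(n_i) being given by the matrix A
i. Suppose that for every 1 ≤ j ≤ e the matrix of R^(n_j) → R^(n_(j-1)) has rank n_j - n_(j+1) + ⋯ ±
n_e, the rank of a matrix being the largest size of a nonzero minor, and that its ideal of minors of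
that size is either the unit ideal or contains an R-regular sequence of length j. Then the complex
is exact at R^(n_e), …, R^(n_1). -/
theorem result {R : Type u} [CommRing R] [IsNoetherianRing R]
    (e : ℕ) (he : 1 ≤ e) (n : ℕ → ℕ) (A : (i : ℕ) → Matrix (Fin (n i)) (Fin (n (i + 1))) R)
    (hA : ∀ i, i + 2 ≤ e → A i * A (i + 1) = 0)
    (hrank : ∀ j, 1 ≤ j → j ≤ e →
      (CAlgX.matrixRank (A (j - 1)) : ℤ) = ∑ t ∈ Finset.Icc j e, (-1 : ℤ) ^ (t - j) * (n t : ℤ))
    (hdet : ∀ j, 1 ≤ j → j ≤ e →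
      CAlgX.detIdeal (A (j - 1)) = ⊤ ∨
        ∃ rs : List R, rs.length = j ∧ (∀ r ∈ rs, r ∈ CAlgX.detIdeal (A (j - 1))) ∧
          RingTheory.Sequence.IsRegular R rs) :
    LinearMap.ker (A (e - 1)).mulVecLin = ⊥ ∧
      ∀ i, i + 2 ≤ e → LinearMap.ker (A i).mulVecLin = LinearMap.range (A (i + 1)).mulVecLin := by
  classical
  let r : ℕ → ℕ := fun j => CAlgX.matrixRank (A (j - 1))
  have hre : r e = n e := by
    have h := hrank e he le_rfl
    rw [Finset.Icc_self, Finset.sum_singleton, Nat.sub_self, pow_zero, one_mul] at h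
    exact_mod_cast h
  have hrr : ∀ j, 1 ≤ j → j + 1 ≤ e → r (j + 1) + r j = n j := by
    intro j hj hje
    have h1 := hrank j hj (by omega)
    have h2 := hrank (j + 1) (by omega) hje
    have h3 : ∑ t ∈ Finset.Icc j e, (-1 : ℤ) ^ (t - j) * (n t : ℤ) =
        (n j : ℤ) - ∑ t ∈ Finset.Icc (j + 1) e, (-1 : ℤ) ^ (t - (j + 1)) * (n t : ℤ) := by
      rw [Finset.Icc_eq_cons_Ioc (by omega : j ≤ e), Finset.sum_cons, Nat.sub_self, pow_zero,
        one_mul, ← Finset.Icc_add_one_left_eq_Ioc, sub_eq_add_neg, ← Finset.sum_neg_distrib]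
      congr 1
      refine Finset.sum_congr rfl fun t ht => ?_
      have ht' : j + 1 ≤ t := (Finset.mem_Icc.mp ht).1
      have : t - j = (t - (j + 1)) + 1 := by omega
      rw [this, pow_succ]
      ring
    have h4 : ((r (j + 1) : ℕ) : ℤ) + (r j : ℤ) = (n j : ℤ) := by
      show (CAlgX.matrixRank (A (j + 1 - 1)) : ℤ) + (CAlgX.matrixRank (A (j - 1)) : ℤ) = _
      rw [h1, h2, h3]
      ring
    exact_mod_cast h4
  have hdet' : ∀ j, j + 1 ≤ e →
      CAlgX.minorIdeal (A j) (r (j + 1)) = ⊤ ∨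
        ∃ rs : List R, rs.length = j + 1 ∧ (∀ x ∈ rs, x ∈ CAlgX.minorIdeal (A j) (r (j + 1))) ∧
          RingTheory.Sequence.IsRegular R rs := by
    intro j hj
    exact hdet (j + 1) (by omega) hj
  exact Groth.Agent.Lib.H29BE5.be_exact e he n A hA r hre hrr hdet'

end Groth.Agent.S19962
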