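import Groth.Statements.S0057
import Groth.Agent.Lib.FormalFn20
import Groth.Agent.S2435

set_option autoImplicit false
universe u
open Coherent

namespace Groth.Agent.S0057

theorem hyp2435 : Groth.Agent.Lib.FormalFn20.Hyp2435.{u} :=
  fun A _ _ m X _ _ F hF p => Groth.Agent.S2435.result A m X F hF p


open AlgebraicGeometry CategoryTheory in
/-- Let A be Noetherian, I an ideal, X proper over Spec A and F coherent on X. For each p there is c ≥ 0
such that for all n ≥ c the kernel of H^p(X, F) → H^p(X, F/I^(n+1)F) is contained in I^(n-c) H^p(X,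
F). (An index shift by one relative to the published statement is absorbed in c.) -/
theorem result (A : Type u) [CommRing A] [IsNoetherianRing A]
    (I : Ideal A) (X : Scheme.{u}) [X.Over (Spec (CommRingCat.of A))]
    [IsProper (X ↘ Spec (CommRingCat.of A))] (M : X.Modules) (hM : Coh.IsCoh M) (p : ℕ) :
    ∃ c : ℕ, ∀ n : ℕ, c ≤ n →
      ((Formal.toHHmodPow I M p n).ker : Set (Coh.HH X M p)) ⊆
        ((I ^ (n - c) • (⊤ : Submodule A (Coh.HH X M p)) : Submodule A (Coh.HH X M p)) : Set (Coh.HH X M p)) := by
  exact Groth.Agent.Lib.FormalFn20.ker_toHHmodPow_subset hyp2435 A I X M hM p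

end Groth.Agent.S0057
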