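import Groth.Statements.S9238
import Groth.Agent.Lib.BrnchGeom98
import Groth.Agent.Lib.H56ShGen
import Groth.Agent.Lib.StrictHenselizationProps

set_option autoImplicit false
universe u
open Brnch

namespace Groth.Agent.S9238

open TensorProduct IsLocalRing Groth.Agent.Lib.Brnch98 Groth.Agent.Lib.BrnchSum98
  Groth.Agent.Lib.BrnchGeom98


/-- Let A be a local ring and S a strict henselization of A. Then the number of minimal prime ideals of
S, a natural number or infinity, equals the number of geometric branches of A as computed from the
integral closure of A_red in its total ring of fractions (maximal ideals counted with multiplicity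
the separable degree of their residue field over that of A; infinity if A has infinitely many
minimal primes). -/
theorem result (A S : Type u) [CommRing A]
    [IsLocalRing A] [CommRing S] [IsLocalRing S] [Algebra A S] [IsLocalHom (algebraMap A S)]
    [Hensel.IsStrictHenselization A S] :
    ENat.card (minimalPrimes S) = Brnch.numGeomBranches A := by
  classical
  unfold Brnch.numGeomBranches
  have hff : Module.FaithfullyFlat A S :=
    Groth.Agent.Lib.StrictHenselization.faithfullyFlat_of_isStrictHenselization A S
  by_cases hfin : (minimalPrimes A).Finite
  · rw [if_pos hfin]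
    have hflat : Module.Flat A S := inferInstance
    have hbij := Groth.Agent.Lib.Unibranch98.bijOn_of_flat (A := A) S
    rw [← ENat.card_congr (Set.BijOn.equiv _ hbij)]
    have hhens : HenselianLocalRing S := Hensel.IsStrictHenselization.henselian (R := A)
    have hsc : IsSepClosure (ResidueField A) (ResidueField S) :=
      Hensel.IsStrictHenselization.isSepClosure
    have hint := Groth.Agent.Lib.Unibranch98.isIntegral_normRed A
    have hS' : ∀ F : Finset S, ∃ (E : Type u) (_ : CommRing E) (_ : Algebra A E)
        (_ : Algebra.Etale A E) (φ : E →ₐ[A] S), ∀ x ∈ F, x ∈ φ.range :=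
      fun F => Groth.Agent.Lib.H56ShGen.exists_etale_of_finset A S F
    rw [card_minimalPrimes_eq_card_maximalSpectrum A S (CAlg2.normRed A) hS'
      (fun P _ => normRed_normal_localization A hfin P)]
    have hsep : Algebra.IsSeparable (ResidueField A) (ResidueField S) := IsSepClosure.separable
    have halg : Algebra.IsAlgebraic (ResidueField A) (ResidueField S) := inferInstance
    let ι : ResidueField S →ₐ[ResidueField A] AlgebraicClosure (ResidueField A) :=
      IsAlgClosed.lift
    have hsepclosed : IsSepClosed (ResidueField S) := IsSepClosure.sep_closed (ResidueField A)
    letI : Algebra S (TensorProduct A (CAlg2.normRed A) S) := Algebra.TensorProduct.rightAlgebra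
    have hintD : Algebra.IsIntegral S (TensorProduct A (CAlg2.normRed A) S) :=
      Groth.Agent.Lib.Unibranch98.isIntegral_right A (CAlg2.normRed A) S
    rw [card_maximalSpectrum_eq_card_homs S (TensorProduct A (CAlg2.normRed A) S)
      (AlgebraicClosure (ResidueField A))
      (ι : ResidueField S →+* AlgebraicClosure (ResidueField A))]
    let j : S →ₐ[A] AlgebraicClosure (ResidueField A) :=
      { toRingHom := (ι : ResidueField S →+* AlgebraicClosure (ResidueField A)).comp (residue S)
        commutes' := fun a => by
          show ι (residue S (algebraMap A S a)) = algebraMap A (AlgebraicClosure (ResidueField A)) a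
          rw [← ResidueField.algebraMap_residue, ι.commutes,
            IsScalarTower.algebraMap_apply A (ResidueField A) (AlgebraicClosure (ResidueField A))]
          rfl }
    have hj : (j : S →+* AlgebraicClosure (ResidueField A))
        = (ι : ResidueField S →+* AlgebraicClosure (ResidueField A)).comp (residue S) := rfl
    rw [← hj, card_homs_tensor A S (CAlg2.normRed A) (AlgebraicClosure (ResidueField A)) j,
      card_sigma_emb A, algebraMap_eq_fA, ← toClosure_eq]
  · rw [if_neg hfin]
    rw [ENat.card_eq_top, Set.infinite_coe_iff]
    have hinj : Function.Injective (algebraMap A S) := FaithfulSMul.algebraMap_injective A S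
    have hsub : minimalPrimes A ⊆ Ideal.comap (algebraMap A S) '' minimalPrimes S := by
      intro p hp
      have hp' : p ∈ ((⊥ : Ideal S).comap (algebraMap A S)).minimalPrimes := by
        rw [Ideal.comap_bot_of_injective _ hinj]
        exact hp
      obtain ⟨P, hP, hPp⟩ := Ideal.exists_minimalPrimes_comap_eq (algebraMap A S) p hp'
      exact ⟨P, hP, hPp⟩
    exact Set.Infinite.of_image _ (Set.Infinite.mono hsub hfin)

end Groth.Agent.S9238
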