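-- Statement S1182.
import Groth.Statements.S1182
import Groth.Agent.Lib.H30NormalSmooth
import Mathlib

set_option autoImplicit false
universe u
open Desc

namespace Groth.Agent.S1182

open Groth.Agent.Lib.H30NormalSmooth

/-- Let A → B be a smooth ring map. If A is a normal ring (all local rings integrally closed domains)
then so is B; and if moreover A → B is faithfully flat and B is normal, then A is normal. So
normality can be checked smooth-locally. -/
theorem result (A B : Type u) [CommRing A] [CommRing B] [Algebra A B] [Algebra.Smooth A B] :
    (EGA4.IsNormalRing A → EGA4.IsNormalRing B) ∧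
    (Module.FaithfullyFlat A B → EGA4.IsNormalRing B → EGA4.IsNormalRing A) := by
  constructor
  · intro hA q _
    exact normal_of_smooth_atPrime A B q (q.comap (algebraMap A B)) rfl
      (Localization.AtPrime (q.comap (algebraMap A B))) (Localization.AtPrime q) (hA _)
  · intro hff hB p _
    obtain ⟨⟨q, hq⟩, hqp⟩ := PrimeSpectrum.comap_surjective_of_faithfullyFlat (A := A) (B := B) ⟨p, inferInstance⟩
    have hqp' : q.under A = p := congrArg PrimeSpectrum.asIdeal hqp
    subst hqp'
    let := Localization.AtPrime.algebraOfLiesOver (q.under A) q
    have : IsLocalHom (algebraMap (Localization.AtPrime <| q.under A) (Localization.AtPrime q)) := by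
      rw [RingHom.algebraMap_toAlgebra]
      exact Localization.isLocalHom_localRingHom (q.under A) q (algebraMap A B) Ideal.LiesOver.over
    have : Module.FaithfullyFlat (Localization.AtPrime (q.under A)) (Localization.AtPrime q) :=
      Module.FaithfullyFlat.of_flat_of_isLocalHom
    exact normal_of_faithfullyFlat (Localization.AtPrime (q.under A)) (Localization.AtPrime q) (hB q)

end Groth.Agent.S1182
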