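import Groth.Statements.S12143
import Groth.Agent.Lib.SymQCAlgUniq
import Groth.Agent.Lib.SymFreeRankOne
import Groth.Agent.Lib.ProjPolyOne
import Groth.Agent.Lib.H90Invertible
import Mathlib.AlgebraicGeometry.Morphisms.IsIso

set_option autoImplicit false
universe u
open CategoryTheory CategoryTheory.Limits AlgebraicGeometry TopologicalSpace Opposite
open scoped HomogeneousIdeal
noncomputable section
open EGA2

namespace Groth.Agent.S12143

/-- Let L be an invertible O_X-module and 𝒮L = ⊕_{n ≥ 0} L^{⊗n} its graded symmetric algebra; then the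
structure morphism Proj(𝒮L) → X of the relative homogeneous spectrum is an isomorphism (the graded
algebra O_X[T] twisted by L has the same Proj as O_X[T], which is X). -/
theorem result {X PL : Scheme.{u}} (L : X.Modules)
    (hL : PicF.IsInvertible L) (hLq : Coh.IsQCoh L)
    (𝒮L : RelProj.QCGrAlg X) (j : L ⟶ 𝒮L.toModule) (hj : RelProj.IsGrSymAlg L 𝒮L j)
    (pL : PL ⟶ X) (chartL : ∀ (U : X.Opens) (hU : IsAffineOpen U), (((pL ⁻¹ᵁ U : PL.Opens) : Scheme.{u}) ≅ Proj (𝒮L.deg U hU)))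
    (hPL : RelProj.IsRelProj 𝒮L pL chartL) :
    IsIso pL := by
  haveI : L.IsQuasicoherent := hLq
  have hloc : ∀ x : X, ∃ W : X.Opens, IsAffineOpen W ∧ x ∈ W ∧ ∃ s : Γ(L, W),
      Function.Bijective (fun a : Γ(X, W) => a • s) := by
    intro x
    obtain ⟨V, hxV, s, hs⟩ := (Groth.Agent.Lib.H90Invertible.isInvertible_iff_exists_isGen L).mp hL x
    obtain ⟨_, ⟨W, hW, rfl⟩, hxW, hWV⟩ := X.isBasis_affineOpens.exists_subset_of_mem_open hxV V.2
    exact ⟨W, hW, hxW, _, hs W hWV⟩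
  choose W hW hxW s hs using hloc
  have hcov : ⨆ x, W x = ⊤ := top_le_iff.mp fun x _ => Opens.mem_iSup.mpr ⟨x, hxW x⟩
  rw [← MorphismProperty.isomorphisms.iff,
    IsZariskiLocalAtTarget.iff_of_iSup_eq_top (P := MorphismProperty.isomorphisms Scheme.{u}) W hcov]
  intro x
  rw [MorphismProperty.isomorphisms.iff]
  -- ring-level input
  obtain ⟨e, he, he'⟩ := Groth.Agent.Lib.SymQCAlg.exists_ringEquiv L 𝒮L.toQCAlg j hj.1 (W x) (hW x)
  have hbij : Function.Bijective (Polynomial.eval₂RingHom (𝒮L.str.app (op (W x))).hom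
      (show 𝒮L.presheaf.obj (op (W x)) from j.app (W x) (s x))) :=
    Groth.Agent.Lib.SymFreeRankOne.bijective_eval₂_of_ringEquiv e _ he _ (s x) (he' (s x)) (hs x)
  have hiso : IsIso (Proj.toSpecZero (𝒮L.deg (W x) (hW x)) ≫
      Spec.map (CommRingCat.ofHom (𝒮L.strZero (W x) (hW x)).hom)) :=
    Groth.Agent.Lib.ProjPolyOne.isIso_toSpecZero_comp (𝒮L.deg (W x) (hW x))
      (𝒮L.str.app (op (W x))).hom (𝒮L.str_mem (W x) (hW x)) _ (hj.2 (W x) (hW x) (s x)) hbij
      (𝒮L.strZero (W x) (hW x)).hom (fun r => rfl)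
  have hiso' : IsIso (Proj.toSpecZero (𝒮L.deg (W x) (hW x)) ≫ Spec.map (𝒮L.strZero (W x) (hW x))) := hiso
  have hfac : pL ∣_ W x = (chartL (W x) (hW x)).hom ≫
      (Proj.toSpecZero (𝒮L.deg (W x) (hW x)) ≫ Spec.map (𝒮L.strZero (W x) (hW x))) ≫
        (hW x).isoSpec.inv := by
    rw [← cancel_mono (W x).ι, morphismRestrict_ι, ← hPL.chart_over (W x) (hW x)]
    simp only [Category.assoc, IsAffineOpen.isoSpec_inv_ι]
  rw [hfac]
  infer_instance

end Groth.Agent.S12143
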