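import Groth.Statements.S9723
-- import your own Groth.Agent.* helpers here

set_option autoImplicit false
universe u
open FlatMor

namespace Groth.Agent.S9723

open AlgebraicGeometry CategoryTheory in
/-- The closed immersion attached to a square-zero ideal is surjective on points. -/
theorem surj_of_sq_zero (A : Type u) [CommRing A] (I : Ideal A) (hI : I ^ 2 = ⊥) :
    Function.Surjective (Spec.map (CommRingCat.ofHom (Ideal.Quotient.mk I))) := by
  intro p
  have hp : (show PrimeSpectrum A from p) ∈
      Set.range (PrimeSpectrum.comap (Ideal.Quotient.mk I)) := by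
    rw [range_comap_of_surjective _ _ Ideal.Quotient.mk_surjective]
    rw [Ideal.mk_ker]
    intro x hx
    have : x ^ 2 ∈ I ^ 2 := Ideal.pow_mem_pow hx 2
    rw [hI] at this
    have h0 : x ^ 2 = 0 := by simpa using this
    have : x ^ 2 ∈ (show PrimeSpectrum A from p).asIdeal := by rw [h0]; exact Ideal.zero_mem _
    exact (show PrimeSpectrum A from p).isPrime.mem_of_pow_mem 2 this
  obtain ⟨q, hq⟩ := hp
  exact ⟨q, hq⟩

open AlgebraicGeometry CategoryTheory in
/-- Let f : X ⟶ S be formally étale (unique infinitesimal lifting against square-zero thickenings of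
affine schemes), and let U be an open subscheme of X and V an open subscheme of S such that f maps U
into V. Then the restricted morphism U ⟶ V is formally étale. -/
theorem result {X S : Scheme.{u}} (f : X ⟶ S) (hf : MoreMor.IsFormallyEtaleHom f)
    (U : X.Opens) (V : S.Opens) (h : U ≤ f ⁻¹ᵁ V) : MoreMor.IsFormallyEtaleHom (f.resLE V U h) := by
  intro A _ I hI a b hab
  set i := Spec.map (CommRingCat.ofHom (Ideal.Quotient.mk I)) with hi
  have hsq : i ≫ (b ≫ V.ι) = (a ≫ U.ι) ≫ f := by
    rw [← Category.assoc, hab, Category.assoc, Category.assoc, Scheme.Hom.resLE_comp_ι]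
  obtain ⟨l, ⟨hl1, hl2⟩, hluniq⟩ := hf A I hI (a ≫ U.ι) (b ≫ V.ι) hsq
  have hrange : Set.range l ⊆ Set.range U.ι := by
    rintro _ ⟨p, rfl⟩
    obtain ⟨q, rfl⟩ := surj_of_sq_zero A I hI p
    refine ⟨a q, ?_⟩
    have := congrArg (fun g => g q) hl1
    simpa using this.symm
  refine ⟨IsOpenImmersion.lift U.ι l hrange, ⟨?_, ?_⟩, ?_⟩
  · rw [← cancel_mono U.ι, Category.assoc, IsOpenImmersion.lift_fac, hl1]
  · rw [← cancel_mono V.ι, Category.assoc, Scheme.Hom.resLE_comp_ι, ← Category.assoc,
      IsOpenImmersion.lift_fac, hl2]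
  · rintro l' ⟨h1, h2⟩
    apply IsOpenImmersion.lift_uniq
    apply hluniq
    refine ⟨?_, ?_⟩
    · rw [← Category.assoc, h1]
    · rw [Category.assoc, ← Scheme.Hom.resLE_comp_ι f h, ← Category.assoc, h2]

end Groth.Agent.S9723
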