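-- Statement S11078.
import Groth.Statements.S11078
import Mathlib
import Groth.Agent.Lib.H40FunFldRes

set_option autoImplicit false
open FunFld

namespace Groth.Agent.S11078

section Helpers

variable {k K : Type*} [Field k] [Field K] [Algebra k K] (R : FunFld.Place k K)

theorem val_const (c : k) (hc : c ≠ 0) : R.1 (algebraMap k K c) = 1 := by
  apply le_antisymm (R.2.1 c)
  have h1 := R.2.1 c⁻¹
  have h2 : R.1 (algebraMap k K c) * R.1 (algebraMap k K c⁻¹) = 1 := by
    rw [← map_mul, ← map_mul, mul_inv_cancel₀ hc, map_one, map_one]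
  by_contra hlt
  rw [not_le] at hlt
  have : R.1 (algebraMap k K c) * R.1 (algebraMap k K c⁻¹) < 1 := by
    calc R.1 (algebraMap k K c) * R.1 (algebraMap k K c⁻¹)
        ≤ R.1 (algebraMap k K c) * 1 := mul_le_mul_right h1 _
      _ < 1 := by rwa [mul_one]
  exact absurd h2 (ne_of_lt this)

theorem close_val_le (x : K) (c : k) (h : R.1 (x - algebraMap k K c) < 1) : R.1 x ≤ 1 := by
  have : x = (x - algebraMap k K c) + algebraMap k K c := by ring
  rw [this]
  exact R.1.map_add_le h.le (R.2.1 c)

theorem close_val_eq_one (x : K) (c : k) (hc : c ≠ 0) (h : R.1 (x - algebraMap k K c) < 1) :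
    R.1 x = 1 := by
  have h1 : R.1 (x - algebraMap k K c) < R.1 (algebraMap k K c) := by rwa [val_const R c hc]
  rw [Valuation.map_eq_of_sub_lt R.1 h1, val_const R c hc]

theorem close_lt_one_iff (x : K) (c : k) (h : R.1 (x - algebraMap k K c) < 1) :
    R.1 x < 1 ↔ c = 0 := by
  constructor
  · intro hx
    by_contra hc
    rw [close_val_eq_one R x c hc h] at hx
    exact lt_irrefl _ hx
  · intro hc
    rw [hc, map_zero, sub_zero] at h
    exact h

theorem close_add (x y : K) (c d : k) (hx : R.1 (x - algebraMap k K c) < 1)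
    (hy : R.1 (y - algebraMap k K d) < 1) : R.1 (x + y - algebraMap k K (c + d)) < 1 := by
  have : x + y - algebraMap k K (c + d) = (x - algebraMap k K c) + (y - algebraMap k K d) := by
    rw [map_add]; ring
  rw [this]
  exact R.1.map_add_lt hx hy

theorem close_mul (x y : K) (c d : k) (hx : R.1 (x - algebraMap k K c) < 1)
    (hy : R.1 (y - algebraMap k K d) < 1) : R.1 (x * y - algebraMap k K (c * d)) < 1 := by
  have : x * y - algebraMap k K (c * d) =
      (x - algebraMap k K c) * y + algebraMap k K c * (y - algebraMap k K d) := by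
    rw [map_mul]; ring
  rw [this]
  apply R.1.map_add_lt
  · rw [map_mul]
    calc R.1 (x - algebraMap k K c) * R.1 y ≤ R.1 (x - algebraMap k K c) * 1 :=
          mul_le_mul_right (close_val_le R y d hy) _
      _ < 1 := by rwa [mul_one]
  · rw [map_mul]
    calc R.1 (algebraMap k K c) * R.1 (y - algebraMap k K d) ≤ 1 * R.1 (y - algebraMap k K d) :=
          mul_le_mul_left (R.2.1 c) _
      _ < 1 := by rwa [one_mul]

theorem close_inv (x : K) (c : k) (hc : c ≠ 0) (hx : R.1 (x - algebraMap k K c) < 1) :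
    R.1 (x⁻¹ - algebraMap k K c⁻¹) < 1 := by
  have hx1 := close_val_eq_one R x c hc hx
  have hx0 : x ≠ 0 := by
    intro h0; rw [h0, map_zero] at hx1; exact zero_ne_one hx1
  have hc0 : algebraMap k K c ≠ 0 := by
    intro h0
    have := val_const R c hc
    rw [h0, map_zero] at this; exact zero_ne_one this
  have : x⁻¹ - algebraMap k K c⁻¹ = -((x - algebraMap k K c) * (x⁻¹ * (algebraMap k K c)⁻¹)) := by
    rw [map_inv₀]
    field_simp
    ring
  rw [this, Valuation.map_neg, map_mul, map_mul, map_inv₀, map_inv₀, hx1, val_const R c hc]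
  simpa using hx

theorem exists_const [IsAlgClosed k] (hK : FunFld.IsFunctionField k K) (P : FunFld.Place k K)
    (x : K) (hx : P.1 x ≤ 1) : ∃ c : k, P.1 (x - algebraMap k K c) < 1 := by
  have hfin : Module.Finite k (IsLocalRing.ResidueField P.O) :=
    Groth.Agent.Lib.H40FunFld.finiteDimensional_residueField hK P
  have hint : Algebra.IsIntegral k (IsLocalRing.ResidueField P.O) :=
    @Algebra.IsIntegral.of_finite k (IsLocalRing.ResidueField P.O) _ _ _ hfin
  have hsurj : Function.Surjective (algebraMap k (IsLocalRing.ResidueField P.O)) :=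
    (IsAlgClosed.algebraMap_bijective_of_isIntegral (k := k)).2
  obtain ⟨c, hc⟩ := hsurj (IsLocalRing.residue P.O ⟨x, hx⟩)
  refine ⟨c, ?_⟩
  have h0 : IsLocalRing.residue P.O (⟨x, hx⟩ - ⟨algebraMap k K c, P.2.1 c⟩) = 0 := by
    rw [map_sub, ← Groth.Agent.Lib.H40FunFld.algebraMap_residue, hc, sub_self]
  exact (Groth.Agent.Lib.H40FunFld.residue_eq_zero_iff P _).mp h0

end Helpers

/-- Over an algebraically closed constant field, for a projective map `φ = (φ₀, …, φₙ)`, `n ≥ 1`, and a
point `a = φ(P)` with local ring `O_a`, the fibre `φ⁻¹(a)` consists of the places `Q` with `O_a ⊆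
O_Q` and `m_Q ∩ O_a` equal to the maximal ideal of `O_a` (which is `m_P ∩ O_a`). Here `O_a` consists
of the quotients of polynomials over `k` in the ratios `φᵢ/φⱼ`, `φⱼ` of least order at `P`, with
denominator a unit at `P`; and `Q` has the same image point as `P` when some entry has least order
at both places and the ratios are congruent to common constants modulo both maximal ideals. -/
theorem result
    (k K : Type*) [Field k] [IsAlgClosed k] [Field K] [Algebra k K]
    (hK : FunFld.IsFunctionField k K) {n : ℕ} (hn : 1 ≤ n) (φ : Fin (n + 1) → K)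
    (hφ : LinearIndependent k φ) (P Q : FunFld.Place k K) :
    FunFld.SameImage φ P Q ↔
      ∀ z : K, FunFld.InLocRing φ P z → (Q.1 z ≤ 1 ∧ (Q.1 z < 1 ↔ P.1 z < 1)) := by
  constructor
  · rintro ⟨j, hj0, hjP, hjQ, hcst⟩ z ⟨j', hj'0, hj'P, u, hu, w, hw, hPw, hzw⟩
    let B : Subalgebra k K :=
      { carrier := {x | ∃ c : k, P.1 (x - algebraMap k K c) < 1 ∧ Q.1 (x - algebraMap k K c) < 1}
        mul_mem' := by
          rintro x y ⟨c, h1, h2⟩ ⟨d, h3, h4⟩
          exact ⟨c * d, close_mul P x y c d h1 h3, close_mul Q x y c d h2 h4⟩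
        add_mem' := by
          rintro x y ⟨c, h1, h2⟩ ⟨d, h3, h4⟩
          exact ⟨c + d, close_add P x y c d h1 h3, close_add Q x y c d h2 h4⟩
        algebraMap_mem' := fun c => ⟨c, by simp, by simp⟩ }
    obtain ⟨ct, hct1, hct2⟩ := hcst j'
    have hPj0 : P.1 (φ j) ≠ 0 := by simpa using hj0
    have hPt : P.1 (φ j' / φ j) = 1 := by
      rw [map_div₀, le_antisymm (hjP j') (hj'P j)]
      exact div_self hPj0
    have hct : ct ≠ 0 := by
      intro h0
      have := (close_lt_one_iff P _ ct hct1).mpr h0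
      rw [hPt] at this
      exact lt_irrefl _ this
    have hgen : Set.range (fun i => φ i / φ j') ⊆ B := by
      rintro _ ⟨i, rfl⟩
      obtain ⟨ci, hci1, hci2⟩ := hcst i
      have e : φ i / φ j' = (φ i / φ j) * (φ j' / φ j)⁻¹ := by field_simp
      show φ i / φ j' ∈ B
      rw [e]
      exact ⟨ci * ct⁻¹, close_mul P _ _ _ _ hci1 (close_inv P _ ct hct hct1),
        close_mul Q _ _ _ _ hci2 (close_inv Q _ ct hct hct2)⟩
    have hAB : Algebra.adjoin k (Set.range fun i => φ i / φ j') ≤ B := Algebra.adjoin_le hgen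
    obtain ⟨cu, hcu1, hcu2⟩ := hAB hu
    obtain ⟨cw, hcw1, hcw2⟩ := hAB hw
    have hcw : cw ≠ 0 := by
      intro h0
      have := (close_lt_one_iff P w cw hcw1).mpr h0
      rw [hPw] at this
      exact lt_irrefl _ this
    have hQw : Q.1 w = 1 := close_val_eq_one Q w cw hcw hcw2
    have hQz : Q.1 z = Q.1 u := by rw [← hzw, map_mul, hQw, mul_one]
    have hPz : P.1 z = P.1 u := by rw [← hzw, map_mul, hPw, mul_one]
    refine ⟨by rw [hQz]; exact close_val_le Q u cu hcu2, ?_⟩
    rw [hQz, hPz, close_lt_one_iff Q u cu hcu2, close_lt_one_iff P u cu hcu1]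
  · intro h
    obtain ⟨j, -, hj⟩ := Finset.exists_max_image Finset.univ (fun i => P.1 (φ i))
      ⟨0, Finset.mem_univ _⟩
    have hj0 : φ j ≠ 0 := hφ.ne_zero j
    have hjP : ∀ i, P.1 (φ i) ≤ P.1 (φ j) := fun i => hj i (Finset.mem_univ _)
    have hin : ∀ x ∈ Algebra.adjoin k (Set.range fun i => φ i / φ j), InLocRing φ P x := by
      intro x hx
      exact ⟨j, hj0, hjP, x, hx, 1, Subalgebra.one_mem _, map_one _, mul_one _⟩
    have hgen : ∀ i, φ i / φ j ∈ Algebra.adjoin k (Set.range fun i => φ i / φ j) :=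
      fun i => Algebra.subset_adjoin ⟨i, rfl⟩
    have hPj0 : P.1 (φ j) ≠ 0 := by simpa using hj0
    have hQj0 : Q.1 (φ j) ≠ 0 := by simpa using hj0
    refine ⟨j, hj0, hjP, ?_, ?_⟩
    · intro i
      have := (h _ (hin _ (hgen i))).1
      rw [map_div₀] at this
      rwa [div_le_one₀ (zero_lt_iff.mpr hQj0)] at this
    · intro i
      have hPi : P.1 (φ i / φ j) ≤ 1 := by
        rw [map_div₀, div_le_one₀ (zero_lt_iff.mpr hPj0)]
        exact hjP i
      obtain ⟨c, hc⟩ := exists_const hK P (φ i / φ j) hPi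
      refine ⟨c, hc, ?_⟩
      have hmem : φ i / φ j - algebraMap k K c ∈ Algebra.adjoin k (Set.range fun i => φ i / φ j) :=
        Subalgebra.sub_mem _ (hgen i) (Subalgebra.algebraMap_mem _ c)
      exact (h _ (hin _ hmem)).2.mpr hc

end Groth.Agent.S11078
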