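import Groth.Statements.S12532
import Groth.Agent.Lib.FunFldConductor

set_option autoImplicit false
open FunFld

namespace Groth.Agent.S12532

/-- Over an algebraically closed field `k`, let `φ = (φ₀, …, φₙ)`, `n ≥ 1`, be a birational projective
map of the function field `K/k` and `P` a place with image point `a = φ(P)`. Then for some `N`,
every `z ∈ K` with `ord_Q z ≥ N` at all places `Q` over `a` belongs to the local ring `O_a` of `φ`
at `P` (quotients of polynomials in the ratios `φᵢ/φⱼ` with denominator a unit at `P`). (The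
published statement asserts that each nonzero ideal of `O_a` includes some nonzero ideal of the
integral closure `R_a`, with `R_a/I` finite-dimensional; this row states the inclusion the printed
proof establishes, from which those follow.) -/
theorem result (k K : Type*) [Field k] [IsAlgClosed k] [Field K] [Algebra k K]
    (hK : FunFld.IsFunctionField k K) {n : ℕ} (hn : 1 ≤ n)
    (φ : Fin (n + 1) → K) (hφ : LinearIndependent k φ)
    (hbir : IntermediateField.adjoin k (Set.range fun i => φ i / φ 0) = ⊤) (P : FunFld.Place k K) :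
    ∃ N : ℕ, ∀ z : K, (∀ Q : FunFld.Place k K, FunFld.SameImage φ P Q → Q.1 z ≤ WithZero.exp (-(N : ℤ))) →
      FunFld.InLocRing φ P z := by
  classical
  have hne : ∀ i, φ i ≠ 0 := hφ.ne_zero
  obtain ⟨j, hj⟩ := Groth.Agent.Lib.FunFldLocRing.exists_least φ P
  have hcard : 2 ≤ Fintype.card (Fin (n + 1)) := by rw [Fintype.card_fin]; omega
  obtain ⟨c, hc, hc0, hcond⟩ :=
    Groth.Agent.Lib.FunFldConductor.exists_conductor hK φ hφ hcard 0 hbir j
  obtain ⟨N, hN⟩ := Groth.Agent.Lib.FunFldConductor.exists_val_bound hK c⁻¹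
  refine ⟨N, fun z hz => ?_⟩
  have hzc : ∀ Q : FunFld.Place k K, Groth.Agent.Lib.FunFldLocRing.Least φ j Q →
      Groth.Agent.Lib.FunFldConductor.CommonConst φ j P Q → Q.1 z ≤ Q.1 c := by
    intro Q hQl hcc
    have h1 := hz Q ⟨j, hne j, hj, hQl, hcc⟩
    have h2 := hN Q
    rw [map_inv₀] at h2
    have hQc : Q.1 c ≠ 0 := by simpa using hc0
    have h3 : WithZero.exp (-(N : ℤ)) ≤ Q.1 c := by
      rw [WithZero.exp_neg, inv_le_comm₀ WithZero.exp_pos (zero_lt_iff.mpr hQc)]
      exact h2
    exact h1.trans h3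
  obtain ⟨u, hu, w, hw, hPw, e⟩ :=
    Groth.Agent.Lib.FunFldConductor.main_lemma hK φ j hc0 hcond hj z hzc
  exact ⟨j, hne j, hj, u, hu, w, hw, hPw, e⟩

end Groth.Agent.S12532
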