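import Groth.Statements.S11049
import Mathlib.LinearAlgebra.Isomorphisms
import Mathlib.LinearAlgebra.Dimension.RankNullity
import Mathlib.LinearAlgebra.Dimension.DivisionRing
import Mathlib.LinearAlgebra.FiniteDimensional.Defs
import Mathlib.RingTheory.Finiteness.Finsupp
import Mathlib.Algebra.Algebra.Bilinear
import Mathlib.RingTheory.Ideal.Span

set_option autoImplicit false
open CAlg

namespace Groth.Agent.S11049

/-- For `A ≤ B` with `M ⧸ A` finite: `dim M/A = dim M/B + dim (B/A)`. -/
theorem finrank_chain {k M : Type*} [Field k] [AddCommGroup M] [Module k M]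
    (A B : Submodule k M) (h : A ≤ B) [Module.Finite k (M ⧸ A)] :
    Module.finrank k (M ⧸ A) = Module.finrank k (M ⧸ B) + Module.finrank k (B.map A.mkQ) := by
  have h1 := (B.map A.mkQ).finrank_quotient_add_finrank
  have h2 := (Submodule.quotientQuotientEquivQuotient A B h).finrank_eq
  omega

/-- For `k`-algebras `S ⊆ R` with `R` an integral domain and a nonzero `x ∈ S`, if `R/S` and `R/Rx` are
finite-dimensional over `k` then `dim_k R/Rx = dim_k S/Sx`. (The published statement allows `x = 0`;
then `R` is a field finite over `k` and the two sides are `dim_k R` and `dim_k S`, which differ for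
`S = k ⊊ R`; the published proof multiplies by `x` as an injection, so `x ≠ 0` is assumed here.) -/
theorem result
    (k R : Type*) [Field k] [CommRing R]
    [IsDomain R] [Algebra k R] (S : Subalgebra k R) (x : S) (hx : (x : R) ≠ 0)
    [Module.Finite k (R ⧸ Subalgebra.toSubmodule S)]
    [Module.Finite k (R ⧸ Ideal.span {(x : R)})] :
    Module.finrank k (R ⧸ Ideal.span {(x : R)}) = Module.finrank k (S ⧸ Ideal.span {x}) := by
  classical
  let NS : Submodule k R := Subalgebra.toSubmodule S
  let mx : R →ₗ[k] R := LinearMap.mulLeft k (x : R)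
  let A : Submodule k R := NS.map mx
  let B1 : Submodule k R := (Ideal.span {(x : R)}).restrictScalars k
  have hmx : ∀ r, mx r = (x : R) * r := fun r => rfl
  have hAB1 : A ≤ B1 := by
    rintro _ ⟨s, _, rfl⟩
    change (x : R) * s ∈ Ideal.span {(x : R)}
    exact Ideal.mul_mem_right _ _ (Ideal.subset_span rfl)
  have hAB2 : A ≤ NS := by
    rintro _ ⟨s, hs, rfl⟩
    exact S.mul_mem x.2 hs
  have hmemA : ∀ r : R, (x : R) * r ∈ A ↔ r ∈ NS := by
    intro r
    constructor
    · rintro ⟨s, hs, hsr⟩
      have : s = r := mul_left_cancel₀ hx hsr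
      exact this ▸ hs
    · intro hr
      exact ⟨r, hr, rfl⟩
  -- first map
  let φ : R →ₗ[k] R ⧸ A := A.mkQ ∘ₗ mx
  have hkerφ : LinearMap.ker φ = NS := by
    ext r
    rw [LinearMap.mem_ker, LinearMap.comp_apply, Submodule.mkQ_apply,
      Submodule.Quotient.mk_eq_zero, hmx, hmemA]
  have hrangeφ : LinearMap.range φ = B1.map A.mkQ := by
    rw [LinearMap.range_comp]
    congr 1
    ext r
    constructor
    · rintro ⟨r', rfl⟩
      change (x : R) * r' ∈ Ideal.span {(x : R)}
      exact Ideal.mul_mem_right _ _ (Ideal.subset_span rfl)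
    · intro hr
      obtain ⟨r', rfl⟩ := Ideal.mem_span_singleton'.mp hr
      exact ⟨r', mul_comm _ _⟩
  -- second map
  let ψ : S →ₗ[k] R ⧸ A := A.mkQ ∘ₗ S.val.toLinearMap
  have hkerψ : LinearMap.ker ψ = (Ideal.span {x}).restrictScalars k := by
    ext s
    rw [LinearMap.mem_ker, LinearMap.comp_apply, Submodule.mkQ_apply,
      Submodule.Quotient.mk_eq_zero, Submodule.restrictScalars_mem, Ideal.mem_span_singleton']
    constructor
    · rintro ⟨s', hs', hss'⟩
      refine ⟨⟨s', hs'⟩, Subtype.ext ?_⟩
      rw [mul_comm]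
      exact hss'
    · rintro ⟨s', rfl⟩
      refine ⟨(s' : R), s'.2, ?_⟩
      rw [hmx]
      simp [mul_comm]
  have hrangeψ : LinearMap.range ψ = NS.map A.mkQ := by
    rw [LinearMap.range_comp]
    congr 1
    ext r
    constructor
    · rintro ⟨s, rfl⟩
      exact s.2
    · intro hr
      exact ⟨⟨r, hr⟩, rfl⟩
  -- dimension identities
  have e1 : Module.finrank k (R ⧸ NS) = Module.finrank k (B1.map A.mkQ) := by
    rw [← hrangeφ, ← φ.quotKerEquivRange.finrank_eq, hkerφ]
  have e2 : Module.finrank k (S ⧸ Ideal.span {x}) = Module.finrank k (NS.map A.mkQ) := by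
    rw [← hrangeψ, ← ψ.quotKerEquivRange.finrank_eq, hkerψ]
    exact (Submodule.Quotient.restrictScalarsEquiv k (Ideal.span {x})).finrank_eq.symm
  have e3 : Module.finrank k (R ⧸ Ideal.span {(x : R)}) = Module.finrank k (R ⧸ B1) :=
    (Submodule.Quotient.restrictScalarsEquiv k (Ideal.span {(x : R)})).finrank_eq.symm
  -- finiteness of R ⧸ A
  have hfin1 : Module.Finite k (R ⧸ NS) := inferInstance
  have hfinB1 : Module.Finite k (R ⧸ B1) :=
    Module.Finite.equiv (Submodule.Quotient.restrictScalarsEquiv k (Ideal.span {(x : R)})).symm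
  have hfinsub : Module.Finite k (B1.map A.mkQ) := by
    rw [← hrangeφ]
    have : Module.Finite k (R ⧸ LinearMap.ker φ) := by rw [hkerφ]; exact hfin1
    exact Module.Finite.equiv φ.quotKerEquivRange
  have hfinquot : Module.Finite k ((R ⧸ A) ⧸ B1.map A.mkQ) :=
    Module.Finite.equiv (Submodule.quotientQuotientEquivQuotient A B1 hAB1).symm
  have hfinA : Module.Finite k (R ⧸ A) := Module.Finite.of_submodule_quotient (B1.map A.mkQ)
  have c1 := finrank_chain A B1 hAB1
  have c2 := finrank_chain A NS hAB2
  omega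

end Groth.Agent.S11049
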