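import Groth.Statements.S7629
import Groth.Agent.Lib.H71GeomRedAt
import Mathlib.AlgebraicGeometry.SpreadingOut

set_option autoImplicit false
universe u
open CategoryTheory CategoryTheory.Limits AlgebraicGeometry
open Variety

namespace Groth.Agent.S7629

set_option backward.isDefEq.respectTransparency false in
/-- uniqueness of spreading out, formulated for opens of `X` -/
lemma exists_le_homOfLE_eq {X Z : Scheme.{u}} [IsIntegral X] (U : X.Opens) (x : X) (hx : x ∈ U)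
    (a b : (U : Scheme.{u}) ⟶ Z)
    (h : U.fromSpecStalkOfMem x hx ≫ a = U.fromSpecStalkOfMem x hx ≫ b) :
    ∃ (W : X.Opens) (hW : W ≤ U), x ∈ W ∧ X.homOfLE hW ≫ a = X.homOfLE hW ≫ b := by
  have : Nonempty U := ⟨⟨x, hx⟩⟩
  have h' : (U : Scheme.{u}).fromSpecStalk ⟨x, hx⟩ ≫ a =
      (U : Scheme.{u}).fromSpecStalk ⟨x, hx⟩ ≫ b := by
    simp only [Scheme.Opens.fromSpecStalkOfMem, Category.assoc] at h
    exact (cancel_epi _).mp h
  obtain ⟨W', hxW', hW'⟩ := spread_out_unique_of_isGermInjective' a b h'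
  refine ⟨U.ι ''ᵁ W', Scheme.Opens.ι_image_le U W', ⟨⟨x, hx⟩, hxW', rfl⟩, ?_⟩
  have key : X.homOfLE (Scheme.Opens.ι_image_le U W') = (U.ι.isoImage W').inv ≫ W'.ι := by
    rw [← cancel_mono U.ι]
    simp
  rw [key, Category.assoc, Category.assoc, hW']

/-- two partially defined morphisms that are mutually inverse on opens give an iso of opens -/
lemma exists_iso_of_inverse {X Y : Scheme.{u}} (U₁ : X.Opens) (V₁ : Y.Opens)
    (f : (U₁ : Scheme.{u}) ⟶ Y) (g : (V₁ : Scheme.{u}) ⟶ X)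
    (W : X.Opens) (W' : Y.Opens) (hW : W ≤ U₁) (hW' : W' ≤ V₁)
    (fW : (W : Scheme.{u}) ⟶ V₁) (gW : (W' : Scheme.{u}) ⟶ U₁)
    (c1 : fW ≫ V₁.ι = X.homOfLE hW ≫ f) (c2 : gW ≫ U₁.ι = Y.homOfLE hW' ≫ g)
    (h1 : fW ≫ g = W.ι) (h2 : gW ≫ f = W'.ι) :
    ∃ (U : X.Opens) (V : Y.Opens) (hU : U ≤ W) (φ : (U : Scheme.{u}) ≅ (V : Scheme.{u})),
      φ.hom ≫ V.ι = X.homOfLE (hU.trans hW) ≫ f ∧
      ∀ x : (W : Scheme.{u}), (fW ≫ V₁.ι) x ∈ W' → W.ι x ∈ U := by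
  let F : (W : Scheme.{u}) ⟶ Y := fW ≫ V₁.ι
  let G : (W' : Scheme.{u}) ⟶ X := gW ≫ U₁.ι
  have hFG : ∀ (x : (W : Scheme.{u})) (hx : F x ∈ W'), G ⟨F x, hx⟩ = W.ι x := by
    intro x hx
    have e1 : Y.homOfLE hW' ⟨F x, hx⟩ = fW x := Subtype.ext (Scheme.homOfLE_apply _ _)
    calc G ⟨F x, hx⟩ = (Y.homOfLE hW' ≫ g) ⟨F x, hx⟩ := by rw [← c2]
      _ = g (Y.homOfLE hW' ⟨F x, hx⟩) := rfl
      _ = g (fW x) := by rw [e1]
      _ = (fW ≫ g) x := rfl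
      _ = W.ι x := by rw [h1]
  have hGF : ∀ (y : (W' : Scheme.{u})) (hy : G y ∈ W), F ⟨G y, hy⟩ = W'.ι y := by
    intro y hy
    have e1 : X.homOfLE hW ⟨G y, hy⟩ = gW y := Subtype.ext (Scheme.homOfLE_apply _ _)
    calc F ⟨G y, hy⟩ = (X.homOfLE hW ≫ f) ⟨G y, hy⟩ := by rw [← c1]
      _ = f (X.homOfLE hW ⟨G y, hy⟩) := rfl
      _ = f (gW y) := by rw [e1]
      _ = (gW ≫ f) y := rfl
      _ = W'.ι y := by rw [h2]
  let U : X.Opens := W.ι ''ᵁ (F ⁻¹ᵁ W')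
  let V : Y.Opens := W'.ι ''ᵁ (G ⁻¹ᵁ W)
  have hU : U ≤ W := Scheme.Opens.ι_image_le W _
  have hV : V ≤ W' := Scheme.Opens.ι_image_le W' _
  have hrF : Set.range (X.homOfLE hU ≫ F) ⊆ Set.range V.ι := by
    rintro _ ⟨u, rfl⟩
    obtain ⟨x, hx, hxu⟩ := u.2
    have e0 : X.homOfLE hU u = x := Subtype.ext ((Scheme.homOfLE_apply _ _).trans hxu.symm)
    have e1 : (X.homOfLE hU ≫ F) u = F x := by
      show F (X.homOfLE hU u) = F x
      rw [e0]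
    rw [e1, Scheme.Opens.range_ι]
    refine ⟨⟨F x, hx⟩, ?_, rfl⟩
    show G ⟨F x, hx⟩ ∈ W
    rw [hFG x hx]; exact x.2
  have hrG : Set.range (Y.homOfLE hV ≫ G) ⊆ Set.range U.ι := by
    rintro _ ⟨v, rfl⟩
    obtain ⟨y, hy, hyv⟩ := v.2
    have e0 : Y.homOfLE hV v = y := Subtype.ext ((Scheme.homOfLE_apply _ _).trans hyv.symm)
    have e1 : (Y.homOfLE hV ≫ G) v = G y := by
      show G (Y.homOfLE hV v) = G y
      rw [e0]
    rw [e1, Scheme.Opens.range_ι]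
    refine ⟨⟨G y, hy⟩, ?_, rfl⟩
    show F ⟨G y, hy⟩ ∈ W'
    rw [hGF y hy]; exact y.2
  let FU : (U : Scheme.{u}) ⟶ V := IsOpenImmersion.lift V.ι (X.homOfLE hU ≫ F) hrF
  let GV : (V : Scheme.{u}) ⟶ U := IsOpenImmersion.lift U.ι (Y.homOfLE hV ≫ G) hrG
  have eFU : FU ≫ V.ι = X.homOfLE hU ≫ F := IsOpenImmersion.lift_fac _ _ _
  have eGV : GV ≫ U.ι = Y.homOfLE hV ≫ G := IsOpenImmersion.lift_fac _ _ _
  have key1 : FU ≫ Y.homOfLE (hV.trans hW') = X.homOfLE hU ≫ fW := by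
    rw [← cancel_mono V₁.ι, Category.assoc, Scheme.homOfLE_ι, eFU, Category.assoc]
  have key2 : GV ≫ X.homOfLE (hU.trans hW) = Y.homOfLE hV ≫ gW := by
    rw [← cancel_mono U₁.ι, Category.assoc, Scheme.homOfLE_ι, eGV, Category.assoc]
  have id1 : FU ≫ GV = 𝟙 _ := by
    rw [← cancel_mono U.ι, Category.assoc, eGV, Category.id_comp]
    show FU ≫ Y.homOfLE hV ≫ gW ≫ U₁.ι = U.ι
    rw [c2, Scheme.homOfLE_homOfLE_assoc, reassoc_of% key1, h1, Scheme.homOfLE_ι]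
  have id2 : GV ≫ FU = 𝟙 _ := by
    rw [← cancel_mono V.ι, Category.assoc, eFU, Category.id_comp]
    show GV ≫ X.homOfLE hU ≫ fW ≫ V₁.ι = V.ι
    rw [c1, Scheme.homOfLE_homOfLE_assoc, reassoc_of% key2, h2, Scheme.homOfLE_ι]
  refine ⟨U, V, hU, ⟨FU, GV, id1, id2⟩, ?_, ?_⟩
  · show FU ≫ V.ι = _
    rw [eFU]
    show X.homOfLE hU ≫ fW ≫ V₁.ι = _
    rw [c1, Scheme.homOfLE_homOfLE_assoc]
  · intro x hx
    exact ⟨x, hx, rfl⟩

/-- one half of the construction: shrink `U₁` so that `g ∘ f` is the inclusion -/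
lemma exists_shrink {X Y : Scheme.{u}} [IsIntegral X] (x₀ : X) (y₀ : Y)
    (U₁ : X.Opens) (V₁ : Y.Opens) (hx₀ : x₀ ∈ U₁) (hy₀ : y₀ ∈ V₁)
    (f : (U₁ : Scheme.{u}) ⟶ Y) (g : (V₁ : Scheme.{u}) ⟶ X)
    (α : Spec (X.presheaf.stalk x₀) ⟶ Spec (Y.presheaf.stalk y₀))
    (h1 : U₁.fromSpecStalkOfMem x₀ hx₀ ≫ f = α ≫ Y.fromSpecStalk y₀)
    (h2 : α ≫ V₁.fromSpecStalkOfMem y₀ hy₀ ≫ g = X.fromSpecStalk x₀)
    (h3 : f ⟨x₀, hx₀⟩ = y₀) :
    ∃ (W : X.Opens) (hW : W ≤ U₁) (fW : (W : Scheme.{u}) ⟶ V₁), x₀ ∈ W ∧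
      fW ≫ V₁.ι = X.homOfLE hW ≫ f ∧ fW ≫ g = W.ι := by
  let U₂ : X.Opens := U₁.ι ''ᵁ (f ⁻¹ᵁ V₁)
  have hU₂ : U₂ ≤ U₁ := Scheme.Opens.ι_image_le U₁ _
  have hxU₂ : x₀ ∈ U₂ := ⟨⟨x₀, hx₀⟩, (by show f ⟨x₀, hx₀⟩ ∈ V₁; rw [h3]; exact hy₀), rfl⟩
  have hr : Set.range (X.homOfLE hU₂ ≫ f) ⊆ Set.range V₁.ι := by
    rintro _ ⟨u, rfl⟩
    obtain ⟨x, hx, hxu⟩ := u.2
    have e0 : X.homOfLE hU₂ u = x := Subtype.ext ((Scheme.homOfLE_apply _ _).trans hxu.symm)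
    have e1 : (X.homOfLE hU₂ ≫ f) u = f x := by
      show f (X.homOfLE hU₂ u) = f x
      rw [e0]
    rw [e1, Scheme.Opens.range_ι]
    exact hx
  let fU₂ : (U₂ : Scheme.{u}) ⟶ V₁ := IsOpenImmersion.lift V₁.ι (X.homOfLE hU₂ ≫ f) hr
  have efU₂ : fU₂ ≫ V₁.ι = X.homOfLE hU₂ ≫ f := IsOpenImmersion.lift_fac _ _ _
  have s1 : U₂.fromSpecStalkOfMem x₀ hxU₂ ≫ X.homOfLE hU₂ = U₁.fromSpecStalkOfMem x₀ hx₀ := by
    rw [← cancel_mono U₁.ι, Category.assoc, Scheme.homOfLE_ι, Scheme.Opens.fromSpecStalkOfMem_ι,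
      Scheme.Opens.fromSpecStalkOfMem_ι]
  have s2 : U₂.fromSpecStalkOfMem x₀ hxU₂ ≫ fU₂ = α ≫ V₁.fromSpecStalkOfMem y₀ hy₀ := by
    rw [← cancel_mono V₁.ι, Category.assoc, efU₂, reassoc_of% s1, h1, Category.assoc,
      Scheme.Opens.fromSpecStalkOfMem_ι]
  have s3 : U₂.fromSpecStalkOfMem x₀ hxU₂ ≫ (fU₂ ≫ g) = U₂.fromSpecStalkOfMem x₀ hxU₂ ≫ U₂.ι := by
    rw [reassoc_of% s2, h2, Scheme.Opens.fromSpecStalkOfMem_ι]
  obtain ⟨W, hW, hxW, hWeq⟩ := exists_le_homOfLE_eq U₂ x₀ hxU₂ (fU₂ ≫ g) U₂.ι s3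
  refine ⟨W, hW.trans hU₂, X.homOfLE hW ≫ fU₂, hxW, ?_, ?_⟩
  · rw [Category.assoc, efU₂, Scheme.homOfLE_homOfLE_assoc]
  · rw [Category.assoc, hWeq, Scheme.homOfLE_ι]

lemma fromSpecStalkOfMem_closedPoint {X : Scheme.{u}} (U : X.Opens) (x : X) (hx : x ∈ U)
    (c : ↥(Spec (X.presheaf.stalk x))) (hc : c = IsLocalRing.closedPoint (X.presheaf.stalk x)) :
    U.fromSpecStalkOfMem x hx c = ⟨x, hx⟩ := by
  apply Subtype.ext
  show U.ι (U.fromSpecStalkOfMem x hx c) = x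
  have : (U.fromSpecStalkOfMem x hx ≫ U.ι) c = x := by
    rw [Scheme.Opens.fromSpecStalkOfMem_ι, hc, Scheme.fromSpecStalk_closedPoint]
  exact this

theorem result' (k : Type u) [Field k] (X : Scheme.{u}) [X.Over (Spec (CommRingCat.of k))] [IsIntegral X] [IsSeparated (X ↘ (Spec (CommRingCat.of k)))] [LocallyOfFiniteType (X ↘ (Spec (CommRingCat.of k)))] [QuasiCompact (X ↘ (Spec (CommRingCat.of k)))]
    (Y : Scheme.{u}) [Y.Over (Spec (CommRingCat.of k))] [IsIntegral Y] [IsSeparated (Y ↘ (Spec (CommRingCat.of k)))] [LocallyOfFiniteType (Y ↘ (Spec (CommRingCat.of k)))] [QuasiCompact (Y ↘ (Spec (CommRingCat.of k)))]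
    (e : X.functionField ≅ Y.functionField)
    (he : e.hom.hom.comp (Curv2.stalkMap k X (genericPoint X)) = Curv2.stalkMap k Y (genericPoint Y)) :
    ∃ (U : X.Opens) (V : Y.Opens), (U : Set ↥X).Nonempty ∧
      ∃ φ : (U : Scheme.{u}) ≅ (V : Scheme.{u}), φ.hom ≫ V.ι ≫ (Y ↘ (Spec (CommRingCat.of k))) = U.ι ≫ (X ↘ (Spec (CommRingCat.of k))) := by
  let ξ : X := genericPoint X
  let η : Y := genericPoint Y
  have he' : e.inv.hom.comp (Curv2.stalkMap k Y η) = Curv2.stalkMap k X ξ := by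
    rw [← he]
    ext a
    simp
    rfl
  let φ₁ : Spec X.functionField ⟶ Y := Spec.map e.inv ≫ Y.fromSpecStalk η
  let φ₂ : Spec Y.functionField ⟶ X := Spec.map e.hom ≫ X.fromSpecStalk ξ
  have hφ₁ : φ₁ ≫ (Y ↘ (Spec (CommRingCat.of k))) =
      X.fromSpecStalk ξ ≫ (X ↘ (Spec (CommRingCat.of k))) := by
    simp only [φ₁, Category.assoc]
    rw [Groth.Agent.Lib.H71GeomRedAt.fromSpecStalk_comp,
      Groth.Agent.Lib.H71GeomRedAt.fromSpecStalk_comp, ← Spec.map_comp]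
    congr 1
    ext a
    exact DFunLike.congr_fun he' a
  have hφ₂ : φ₂ ≫ (X ↘ (Spec (CommRingCat.of k))) =
      Y.fromSpecStalk η ≫ (Y ↘ (Spec (CommRingCat.of k))) := by
    simp only [φ₂, Category.assoc]
    rw [Groth.Agent.Lib.H71GeomRedAt.fromSpecStalk_comp,
      Groth.Agent.Lib.H71GeomRedAt.fromSpecStalk_comp, ← Spec.map_comp]
    congr 1
    ext a
    exact DFunLike.congr_fun he a
  obtain ⟨U₁, hξU₁, f, hf₁, hf₂⟩ := spread_out_of_isGermInjective'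
    (X ↘ (Spec (CommRingCat.of k))) (Y ↘ (Spec (CommRingCat.of k))) (x := ξ) φ₁ hφ₁
  obtain ⟨V₁, hηV₁, g, hg₁, hg₂⟩ := spread_out_of_isGermInjective'
    (Y ↘ (Spec (CommRingCat.of k))) (X ↘ (Spec (CommRingCat.of k))) (x := η) φ₂ hφ₂
  -- images of the generic points
  have hfξ : f ⟨ξ, hξU₁⟩ = η := by
    let c : ↥(Spec X.functionField) := IsLocalRing.closedPoint X.functionField
    have e1 : φ₁ c = η := by
      show Y.fromSpecStalk η (Spec.map e.inv c) = η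
      have : Spec.map e.inv c = IsLocalRing.closedPoint Y.functionField :=
        Subsingleton.elim (α := PrimeSpectrum Y.functionField) _ _
      rw [this, Scheme.fromSpecStalk_closedPoint]
    have e2 : φ₁ c = f ⟨ξ, hξU₁⟩ := by
      rw [hf₁]
      show f (U₁.fromSpecStalkOfMem ξ hξU₁ c) = _
      rw [fromSpecStalkOfMem_closedPoint U₁ ξ hξU₁ c rfl]
    rw [← e2, e1]
  have hgη : g ⟨η, hηV₁⟩ = ξ := by
    let c : ↥(Spec Y.functionField) := IsLocalRing.closedPoint Y.functionField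
    have e1 : φ₂ c = ξ := by
      show X.fromSpecStalk ξ (Spec.map e.hom c) = ξ
      have : Spec.map e.hom c = IsLocalRing.closedPoint X.functionField :=
        Subsingleton.elim (α := PrimeSpectrum X.functionField) _ _
      rw [this, Scheme.fromSpecStalk_closedPoint]
    have e2 : φ₂ c = g ⟨η, hηV₁⟩ := by
      rw [hg₁]
      show g (V₁.fromSpecStalkOfMem η hηV₁ c) = _
      rw [fromSpecStalkOfMem_closedPoint V₁ η hηV₁ c rfl]
    rw [← e2, e1]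
  have hinv1 : Spec.map e.inv ≫ Spec.map e.hom = 𝟙 _ := by
    rw [← Spec.map_comp, e.hom_inv_id, Spec.map_id]
  have hinv2 : Spec.map e.hom ≫ Spec.map e.inv = 𝟙 _ := by
    rw [← Spec.map_comp, e.inv_hom_id, Spec.map_id]
  obtain ⟨W, hW, fW, hξW, c1, h1⟩ := exists_shrink ξ η U₁ V₁ hξU₁ hηV₁ f g (Spec.map e.inv)
    hf₁.symm (by rw [← hg₁]; show Spec.map e.inv ≫ Spec.map e.hom ≫ _ = _
                 rw [reassoc_of% hinv1]) hfξ
  obtain ⟨W', hW', gW, hηW', c2, h2⟩ := exists_shrink η ξ V₁ U₁ hηV₁ hξU₁ g f (Spec.map e.hom)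
    hg₁.symm (by rw [← hf₁]; show Spec.map e.hom ≫ Spec.map e.inv ≫ _ = _
                 rw [reassoc_of% hinv2]) hgη
  obtain ⟨U, V, hU, φ, hφ, hmem⟩ :=
    exists_iso_of_inverse U₁ V₁ f g W W' hW hW' fW gW c1 c2 h1 h2
  refine ⟨U, V, ⟨ξ, ?_⟩, φ, ?_⟩
  · refine hmem ⟨ξ, hξW⟩ ?_
    rw [c1]
    have e0 : X.homOfLE hW ⟨ξ, hξW⟩ = ⟨ξ, hξU₁⟩ := Subtype.ext (Scheme.homOfLE_apply _ _)
    show f (X.homOfLE hW ⟨ξ, hξW⟩) ∈ W'
    rw [e0, hfξ]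
    exact hηW'
  · rw [reassoc_of% hφ, hf₂, Scheme.homOfLE_ι_assoc]


/-- (2) ⇒ (3): let X and Y be varieties over a field k (integral, separated, of finite type) and suppose
the function fields k(X) and k(Y) are isomorphic as k-algebras. Then there are nonempty open
subschemes U ⊆ X and V ⊆ Y which are isomorphic as schemes over k. -/
theorem result (k : Type u) [Field k] (X : Scheme.{u}) [X.Over (Spec (CommRingCat.of k))] [IsIntegral X] [IsSeparated (X ↘ (Spec (CommRingCat.of k)))] [LocallyOfFiniteType (X ↘ (Spec (CommRingCat.of k)))] [QuasiCompact (X ↘ (Spec (CommRingCat.of k)))]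
    (Y : Scheme.{u}) [Y.Over (Spec (CommRingCat.of k))] [IsIntegral Y] [IsSeparated (Y ↘ (Spec (CommRingCat.of k)))] [LocallyOfFiniteType (Y ↘ (Spec (CommRingCat.of k)))] [QuasiCompact (Y ↘ (Spec (CommRingCat.of k)))]
    (e : X.functionField ≅ Y.functionField)
    (he : e.hom.hom.comp (Curv2.stalkMap k X (genericPoint X)) = Curv2.stalkMap k Y (genericPoint Y)) :
    ∃ (U : X.Opens) (V : Y.Opens), (U : Set ↥X).Nonempty ∧
      ∃ φ : (U : Scheme.{u}) ≅ (V : Scheme.{u}), φ.hom ≫ V.ι ≫ (Y ↘ (Spec (CommRingCat.of k))) = U.ι ≫ (X ↘ (Spec (CommRingCat.of k))) :=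
  result' k X Y e he

end Groth.Agent.S7629
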