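import Groth.Statements.S1156
import Mathlib.RingTheory.Flat.FaithfullyFlat.Basic
import Mathlib.LinearAlgebra.TensorProduct.Associator
import Mathlib.RingTheory.TensorProduct.Basic

set_option autoImplicit false
universe u
open scoped TensorProduct
open Desc

namespace Groth.Agent.S1156

section
variable (R A : Type u) [CommRing R] [CommRing A] [Algebra R A]

/-- contraction `b ⊗ (c ⊗ z) ↦ (b * c) ⊗ z`. -/
noncomputable def contr (N : Type u) [AddCommGroup N] [Module R N] :
    A ⊗[R] (A ⊗[R] N) →ₗ[R] A ⊗[R] N :=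
  (LinearMap.rTensor N (LinearMap.mul' R A)) ∘ₗ (TensorProduct.assoc R A A N).symm.toLinearMap

@[simp] lemma contr_tmul (N : Type u) [AddCommGroup N] [Module R N] (b c : A) (z : N) :
    contr R A N (b ⊗ₜ[R] (c ⊗ₜ[R] z)) = (b * c) ⊗ₜ[R] z := by
  simp [contr]

variable (M : Type u) [AddCommGroup M] [Module R M]

lemma contr_comp_f :
    contr R A (A ⊗[R] M) ∘ₗ LinearMap.lTensor A (TensorProduct.mk R A (A ⊗[R] M) 1) =
      LinearMap.id := by
  ext b z
  simp

lemma contr_comp_g :
    contr R A (A ⊗[R] M) ∘ₗ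
        LinearMap.lTensor A (LinearMap.lTensor A (TensorProduct.mk R A M 1)) =
      LinearMap.lTensor A (TensorProduct.mk R A M 1) ∘ₗ contr R A M := by
  ext b a m
  simp

end

/-- Exactness of the extended Amitsur complex in degree 0 (injectivity in degree −1 being standard). Let
R → A be faithfully flat and M an R-module. An element x of A ⊗_R M with 1 ⊗ x = (a ⊗ m ↦ a ⊗ 1 ⊗
m)(x) in A ⊗_R A ⊗_R M lies in the image of m ↦ 1 ⊗ m. -/
theorem result (R A : Type u) [CommRing R] [CommRing A] [Algebra R A] [Module.FaithfullyFlat R A]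
    (M : Type u) [AddCommGroup M] [Module R M] (x : A ⊗[R] M)
    (hx : TensorProduct.mk R A (A ⊗[R] M) 1 x = LinearMap.lTensor A (TensorProduct.mk R A M 1) x) :
    x ∈ LinearMap.range (TensorProduct.mk R A M 1) := by
  set i : M →ₗ[R] A ⊗[R] M := TensorProduct.mk R A M 1 with hi
  set f : A ⊗[R] M →ₗ[R] A ⊗[R] (A ⊗[R] M) := TensorProduct.mk R A (A ⊗[R] M) 1 with hf
  set g : A ⊗[R] M →ₗ[R] A ⊗[R] (A ⊗[R] M) := LinearMap.lTensor A i with hg
  have hex : Function.Exact i (f - g) := by
    rw [← Module.FaithfullyFlat.lTensor_exact_iff_exact R A]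
    intro y
    constructor
    · intro hy
      have h1 : LinearMap.lTensor A f y = LinearMap.lTensor A g y := by
        have := hy
        rw [LinearMap.lTensor_sub, LinearMap.sub_apply, sub_eq_zero] at this
        exact this
      have h2 : contr R A (A ⊗[R] M) (LinearMap.lTensor A f y) = y :=
        LinearMap.congr_fun (contr_comp_f R A M) y
      have h3 : contr R A (A ⊗[R] M) (LinearMap.lTensor A g y) =
          LinearMap.lTensor A i (contr R A M y) :=
        LinearMap.congr_fun (contr_comp_g R A M) y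
      refine ⟨contr R A M y, ?_⟩
      rw [← h3, ← h1, h2]
    · rintro ⟨z, rfl⟩
      have hcomp : (f - g) ∘ₗ i = 0 := by
        ext m
        simp [hf, hg, hi]
      have : LinearMap.lTensor A (f - g) ∘ₗ LinearMap.lTensor A i = 0 := by
        rw [← LinearMap.lTensor_comp, hcomp, LinearMap.lTensor_zero]
      exact LinearMap.congr_fun this z
  have hmem : (f - g) x = 0 := by
    simp [LinearMap.sub_apply, hx]
  exact (hex x).mp hmem

end Groth.Agent.S1156
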