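import Groth.Statements.S12125
import Groth.Agent.Lib.H87NagataCrit
import Groth.Agent.S4562
import Groth.Agent.S9392

set_option autoImplicit false
universe u
open EGA4

namespace Groth.Agent.S12125

/-- Let A be a Noetherian ring. Then every quotient of A by a prime ideal is N-2 (i.e. A is a Nagata
ring) if and only if (1) for every maximal ideal m of A every quotient of A_m by a prime ideal is
N-2, and (2) for every prime p of A, writing B = A/p with fraction field K, for every finite purely
inseparable field extension K' of K and every sub-B-algebra B' of K' which is a finite B-module and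
has K' as its fraction field, there is a nonzero element f of B' such that B'_f is an integrally
closed domain. -/
theorem result (A : Type u) [CommRing A] [IsNoetherianRing A] :
    CAlg.IsNagata A ↔
      ((∀ (m : Ideal A) [m.IsMaximal] (P : Ideal (Localization.AtPrime m)) [P.IsPrime],
          CAlg.IsN2 (Localization.AtPrime m ⧸ P)) ∧
        ∀ (p : Ideal A) [p.IsPrime] (K' : Type u) [Field K'] [Algebra (A ⧸ p) K']
          [Algebra (FractionRing (A ⧸ p)) K'] [IsScalarTower (A ⧸ p) (FractionRing (A ⧸ p)) K']
          [FiniteDimensional (FractionRing (A ⧸ p)) K'] [IsPurelyInseparable (FractionRing (A ⧸ p)) K']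
          (B' : Subalgebra (A ⧸ p) K'), Module.Finite (A ⧸ p) B' → IsFractionRing B' K' →
            ∃ f : B', f ≠ 0 ∧ IsIntegrallyClosed (Localization.Away f)) := by
  constructor
  · rintro ⟨_, hN⟩
    refine ⟨fun m hm P hP => ?_, fun p hp K' _ _ _ _ _ _ B' hB'fin hB'frac => ?_⟩
    · have hpP : (P.comap (algebraMap A (Localization.AtPrime m))).IsPrime :=
        Ideal.comap_isPrime _ _
      have hPeq : P = (P.comap (algebraMap A (Localization.AtPrime m))).map
          (algebraMap A (Localization.AtPrime m)) :=
        (IsLocalization.map_comap m.primeCompl _ P).symm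
      have key : ∀ (p : Ideal A) [p.IsPrime] (P' : Ideal (Localization.AtPrime m)) [P'.IsPrime],
          P' = p.map (algebraMap A (Localization.AtPrime m)) →
          CAlg.IsN2 (Localization.AtPrime m ⧸ P') := by
        intro p hp P' hP' hP'eq
        subst hP'eq
        exact Groth.Agent.S9392.result (A ⧸ p)
          (Algebra.algebraMapSubmonoid (A ⧸ p) m.primeCompl) _ (hN p)
      exact key _ P hPeq
    · haveI := hB'fin
      haveI := hB'frac
      haveI : Algebra.IsIntegral (A ⧸ p) B' := Algebra.IsIntegral.of_finite _ _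
      have h := hN p K' inferInstance
      have h' := Groth.Agent.Lib.H87NagataCrit.finite_integralClosure_of_tower (A ⧸ p) K' B' h
      exact Groth.Agent.Lib.H87NagataCrit.exists_away_isIntegrallyClosed B' K' h'
  · rintro ⟨h1, h2⟩
    refine ⟨inferInstance, fun p hp => ?_⟩
    apply Groth.Agent.S4562.result
    intro K' _ _ _ _ hfd hpi
    haveI := hfd
    haveI := hpi
    obtain ⟨B', hB'fin, hB'frac⟩ :=
      Groth.Agent.Lib.H87J2.exists_order (A ⧸ p) (FractionRing (A ⧸ p)) K'
    obtain ⟨f, hf, hic⟩ := h2 p K' B' hB'fin hB'frac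
    have hinj : Function.Injective (algebraMap (A ⧸ p) K') := by
      rw [IsScalarTower.algebraMap_eq (A ⧸ p) (FractionRing (A ⧸ p)) K']
      exact (algebraMap (FractionRing (A ⧸ p)) K').injective.comp
        (IsFractionRing.injective (A ⧸ p) _)
    obtain ⟨f₀, hf₀, T₀, hT₀, ha⟩ :=
      Groth.Agent.Lib.H87NagataCrit.generic_data (A ⧸ p) K' hinj B' hB'fin hB'frac f hf hic
    haveI : Algebra.IsAlgebraic (FractionRing (A ⧸ p)) K' := Algebra.IsAlgebraic.of_finite _ K'
    haveI : Algebra.IsAlgebraic (A ⧸ p) (FractionRing (A ⧸ p)) :=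
      IsLocalization.isAlgebraic _ (nonZeroDivisors (A ⧸ p))
    haveI : Algebra.IsAlgebraic (A ⧸ p) K' :=
      Algebra.IsAlgebraic.trans (A ⧸ p) (FractionRing (A ⧸ p)) K'
    refine Groth.Agent.Lib.FiniteIntClosure98.finite_integralClosure_of_local hinj f₀ hf₀ T₀ hT₀ ha
      ?_
    intro m hm
    haveI := hm
    haveI hMmax : (m.comap (Ideal.Quotient.mk p)).IsMaximal :=
      Ideal.comap_isMaximal_of_surjective _ Ideal.Quotient.mk_surjective
    have hpM : p ≤ m.comap (Ideal.Quotient.mk p) := by
      intro x hx
      rw [Ideal.mem_comap, Ideal.Quotient.eq_zero_iff_mem.mpr hx]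
      exact m.zero_mem
    haveI hPprime : (p.map (algebraMap A
        (Localization.AtPrime (m.comap (Ideal.Quotient.mk p))))).IsPrime :=
      IsLocalization.isPrime_of_isPrime_disjoint (m.comap (Ideal.Quotient.mk p)).primeCompl _ p hp
        (Set.disjoint_left.mpr fun x hx hxp => hx (hpM hxp))
    obtain ⟨T, hT, hTx⟩ := Groth.Agent.Lib.H87NagataCrit.local_data A p
      (m.comap (Ideal.Quotient.mk p)) hpM (h1 _ _) K'
    refine ⟨T, hT, fun x hx => ?_⟩
    obtain ⟨s, hs, hsx⟩ := hTx x hx
    exact ⟨s, by rwa [Ideal.map_comap_of_surjective _ Ideal.Quotient.mk_surjective] at hs, hsx⟩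

end Groth.Agent.S12125
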