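import Groth.Statements.S4790
import Groth.Agent.Lib.H72LimHom
import Groth.Agent.Lib.H72LimMod3
import Groth.Agent.Lib.H72LimLocFree

set_option autoImplicit false
universe u
open CategoryTheory AlgebraicGeometry
open Lim8

namespace Groth.Agent.S4790

/-- Let S = lim S_i be a cofiltered limit of schemes with affine transition maps and S_{i₀} a
quasi-compact quasi-separated stage; let F₀ and G₀ be quasi-coherent O-modules of finite
presentation on S_{i₀}. Then the pullbacks of F₀ and G₀ along S ⟶ S_{i₀} are isomorphic if and only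
if, for some index j over i₀, their pullbacks along S_j ⟶ S_{i₀} are isomorphic. -/
theorem result {I : Type u} [SmallCategory I] [IsCofiltered I]
    (D : I ⥤ Scheme.{u}) (c : Limits.Cone D) (hc : Limits.IsLimit c)
    [∀ (i j : I) (f : i ⟶ j), IsAffineHom (D.map f)] (i₀ : I) [CompactSpace (D.obj i₀)]
    [QuasiSeparatedSpace (D.obj i₀)] (F₀ G₀ : (D.obj i₀).Modules)
    [Coh.IsQCoh F₀] (hF₀fp : CohB1.IsFP F₀)
    [Coh.IsQCoh G₀] (hG₀fp : CohB1.IsFP G₀) :
    Nonempty ((Scheme.Modules.pullback (c.π.app i₀)).obj F₀ ≅ (Scheme.Modules.pullback (c.π.app i₀)).obj G₀) ↔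
      ∃ (j : I) (φ : j ⟶ i₀),
        Nonempty ((Scheme.Modules.pullback (D.map φ)).obj F₀ ≅ (Scheme.Modules.pullback (D.map φ)).obj G₀) := by
  haveI : ∀ {i j : I} (f : i ⟶ j), IsAffineHom (D.map f) := fun f => inferInstance
  haveI : SheafOfModules.IsFinitePresentation (R := (D.obj i₀).ringCatSheaf) F₀ := hF₀fp
  haveI : SheafOfModules.IsFinitePresentation (R := (D.obj i₀).ringCatSheaf) G₀ := hG₀fp
  constructor
  · rintro ⟨e⟩
    obtain ⟨l, hj, hl⟩ := Groth.Agent.Lib.H72LimHom.exists_hom_stage D c hc i₀ F₀ G₀ e.hom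
    haveI : CompactSpace (D.obj l.left) :=
      Groth.Agent.Lib.H72LimMod3.compactSpace_stage (D := D) i₀ l.hom
    haveI : ((Scheme.Modules.pullback (D.map l.hom)).obj F₀).IsFinitePresentation :=
      Groth.Agent.Lib.Fitting82.isFinitePresentation_pullback (D.map l.hom) F₀
    haveI : ((Scheme.Modules.pullback (D.map l.hom)).obj G₀).IsFinitePresentation :=
      Groth.Agent.Lib.Fitting82.isFinitePresentation_pullback (D.map l.hom) G₀
    have hFt : ((Scheme.Modules.pullback (D.map l.hom)).obj F₀).IsFiniteType :=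
      Groth.Agent.Lib.H72LimLocFree.isFiniteType_of_isFinitePresentation _
    have hiso : IsIso ((Scheme.Modules.pullback (c.π.app l.left)).map hj) := by
      have h1 : (Scheme.Modules.pullback (c.π.app l.left)).map hj =
          (Groth.Agent.Lib.H72SecTrans.cIso (Groth.Agent.Lib.H72LimHom.wLim D c i₀ l) F₀).hom ≫
            e.hom ≫
            (Groth.Agent.Lib.H72SecTrans.cIso (Groth.Agent.Lib.H72LimHom.wLim D c i₀ l) G₀).inv := by
        rw [← hl]
        simp
      rw [h1]
      infer_instance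
    obtain ⟨j', φ', h3⟩ := (Groth.Agent.Lib.H72LimMod2.isIso_iff hc l.left hFt inferInstance hj).1 hiso
    haveI := h3
    exact ⟨j', φ' ≫ l.hom,
      ⟨((Groth.Agent.Lib.H72LimMod3.stageIso (D := D) φ' l.hom).app F₀).symm ≪≫
        asIso ((Scheme.Modules.pullback (D.map φ')).map hj) ≪≫
        (Groth.Agent.Lib.H72LimMod3.stageIso (D := D) φ' l.hom).app G₀⟩⟩
  · rintro ⟨j, φ, ⟨e⟩⟩
    exact ⟨((Groth.Agent.Lib.H72LimMod2.limIso D c φ).app F₀).symm ≪≫
      (Scheme.Modules.pullback (c.π.app j)).mapIso e ≪≫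
      (Groth.Agent.Lib.H72LimMod2.limIso D c φ).app G₀⟩

end Groth.Agent.S4790
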