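import Groth.Statements.S13717
import Groth.Agent.Lib.PolLaw23

set_option autoImplicit false
universe u
open scoped TensorProduct
open ZeroCyc

namespace Groth.Agent.S13717

open Groth.Agent.Lib.PolLaw23

theorem postcomp_toFun' {A : Type u} [CommRing A] {M N P : Type u} [AddCommGroup M] [Module A M]
    [AddCommGroup N] [Module A N] [AddCommGroup P] [Module A P] (g : N →ₗ[A] P) (F : M →ₚₗ[A] N)
    (S : Type u) [CommSemiring S] [Algebra A S] (x : S ⊗[A] M) :
    (PolLaw.postcomp g F).toFun' S x = g.lTensor S (F.toFun' S x) := rfl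

theorem precomp_toFun' {A : Type u} [CommRing A] {M N P : Type u} [AddCommGroup M] [Module A M]
    [AddCommGroup N] [Module A N] [AddCommGroup P] [Module A P] (F : N →ₚₗ[A] P) (g : M →ₗ[A] N)
    (S : Type u) [CommSemiring S] [Algebra A S] (x : S ⊗[A] M) :
    (PolLaw.precomp F g).toFun' S x = F.toFun' S (g.lTensor S x) := rfl

/-- Let π : B → B' be a surjective map of commutative A-algebras and let (C, γ) and (C', γ') be the
degree-d divided power algebras Γ^d_A(B) and Γ^d_A(B') with their universal multiplicative laws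
homogeneous of degree d. If φ : C → C' is the A-algebra map with φ ∘ γ = γ' ∘ π, then φ is
surjective; geometrically, for a closed subscheme X of an affine Y over an affine S, Γ^d(X/S) →
Γ^d(Y/S) is a closed immersion. (The published statement is for Y affine over an algebraic space S;
this row is the case of an affine base.) -/
theorem result {A : Type u} [CommRing A] {B : Type u} [CommRing B] [Algebra A B]
    {B' : Type u} [CommRing B'] [Algebra A B'] {C : Type u} [CommRing C] [Algebra A C] {C' : Type u} [CommRing C'] [Algebra A C']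
    {d : ℕ} (γ : PolLaw.MulLaw A B C d) (hγ : PolLaw.IsGammaD γ) (γ' : PolLaw.MulLaw A B' C' d) (hγ' : PolLaw.IsGammaD γ')
    (π : B →ₐ[A] B') (hπ : Function.Surjective π) (φ : C →ₐ[A] C')
    (hφ : PolLaw.postcomp φ.toLinearMap γ.law = (γ'.precomp π).law) :
    Function.Surjective φ := by
  -- the range of φ
  let C₀ : Subalgebra A C' := φ.range
  let incl : C₀ →ₐ[A] C' := C₀.val
  let φ₀ : C →ₐ[A] C₀ := φ.rangeRestrict
  let F : PolLaw.MulLaw A B C₀ d := PolLaw.MulLaw.postcomp φ₀ γ
  have hπ' : Function.Surjective π.toLinearMap := hπ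
  -- value of incl ∘ F
  have hinclF : ∀ (S : Type u) [CommSemiring S] [Algebra A S] (y : S ⊗[A] B),
      incl.toLinearMap.lTensor S (F.law.toFun' S y) = γ'.law.toFun' S (π.toLinearMap.lTensor S y) := by
    intro S _ _ y
    have h1 : incl.toLinearMap.lTensor S (F.law.toFun' S y) =
        φ.toLinearMap.lTensor S (γ.law.toFun' S y) := by
      show incl.toLinearMap.lTensor S (φ₀.toLinearMap.lTensor S (γ.law.toFun' S y)) = _
      rw [← LinearMap.comp_apply, ← LinearMap.lTensor_comp]
      rfl
    rw [h1, ← postcomp_toFun', hφ]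
    rfl
  -- F descends on polynomial rings
  have hpoly : ∀ n : ℕ, DescOn F.law π.toLinearMap (MvPolynomial (Fin n) A) := by
    intro n y y' hyy'
    have hinj : Function.Injective (incl.toLinearMap.lTensor (MvPolynomial (Fin n) A)) :=
      Module.Flat.lTensor_preserves_injective_linearMap _ Subtype.val_injective
    apply hinj
    rw [hinclF, hinclF, hyy']
  have hdesc : ∀ (S : Type u) [CommSemiring S] [Algebra A S], DescOn F.law π.toLinearMap S :=
    fun S _ _ => descOn_of_poly F.law π.toLinearMap hπ' hpoly S
  -- the descended law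
  let G₀ : B' →ₚₗ[A] C₀ := descLaw F.law π.toLinearMap hπ' hdesc
  have hG₀ : ∀ (S : Type u) [CommSemiring S] [Algebra A S] (y : S ⊗[A] B),
      G₀.toFun' S (π.toLinearMap.lTensor S y) = F.law.toFun' S y :=
    fun S _ _ y => descLaw_apply F.law π.toLinearMap hπ' hdesc S y
  have hsurjS : ∀ (S : Type u) [CommSemiring S] [Algebra A S],
      Function.Surjective (π.toLinearMap.lTensor S) :=
    fun S _ _ => LinearMap.lTensor_surjective S hπ'
  let G : PolLaw.MulLaw A B' C₀ d :=
    { law := G₀
      homog := by
        intro S _ _ s x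
        obtain ⟨y, rfl⟩ := hsurjS S x
        have : s • (π.toLinearMap.lTensor S y) = π.toLinearMap.lTensor S (s • y) := by
          rw [PolLaw.lTensor_algHom_apply, PolLaw.lTensor_algHom_apply, map_smul]
        rw [this, hG₀, hG₀, F.homog]
      mult := by
        intro S _ _
        refine ⟨?_, fun x x' => ?_⟩
        · have : (1 : S ⊗[A] B') = π.toLinearMap.lTensor S 1 := by
            rw [PolLaw.lTensor_algHom_apply, map_one]
          rw [this, hG₀, (F.mult S).1]
        · obtain ⟨y, rfl⟩ := hsurjS S x
          obtain ⟨y', rfl⟩ := hsurjS S x'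
          have : π.toLinearMap.lTensor S y * π.toLinearMap.lTensor S y' =
              π.toLinearMap.lTensor S (y * y') := by
            rw [PolLaw.lTensor_algHom_apply, PolLaw.lTensor_algHom_apply,
              PolLaw.lTensor_algHom_apply, map_mul]
          rw [this, hG₀, hG₀, hG₀, (F.mult S).2] }
  -- incl ∘ G = γ'
  have hinclG : PolLaw.postcomp incl.toLinearMap G.law = γ'.law := by
    ext S _ _ x
    obtain ⟨y, rfl⟩ := hsurjS S x
    rw [postcomp_toFun']
    show incl.toLinearMap.lTensor S (G₀.toFun' S _) = _
    rw [hG₀, hinclF]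
  -- universal property
  obtain ⟨ψ, hψ, -⟩ := hγ' C₀ G
  obtain ⟨f, -, hf⟩ := hγ' C' γ'
  have h1 : incl.comp ψ = f := by
    apply hf
    ext S _ _ x
    rw [postcomp_toFun']
    have : (incl.comp ψ).toLinearMap = incl.toLinearMap ∘ₗ ψ.toLinearMap := rfl
    rw [this, LinearMap.lTensor_comp, LinearMap.comp_apply, ← postcomp_toFun', hψ,
      ← postcomp_toFun', hinclG]
  have h2 : AlgHom.id A C' = f := by
    apply hf
    ext S _ _ x
    rw [postcomp_toFun']
    have : (AlgHom.id A C').toLinearMap = LinearMap.id := rfl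
    rw [this, LinearMap.lTensor_id, LinearMap.id_apply]
  intro c'
  have h3 : incl (ψ c') = c' := by
    have := congrArg (fun g : C' →ₐ[A] C' => g c') (h1.trans h2.symm)
    simpa using this
  obtain ⟨c, hc⟩ := (ψ c').2
  exact ⟨c, hc.trans h3⟩

end Groth.Agent.S13717
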