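import Groth.Statements.S11132
import Groth.Agent.Lib.StalkTensor81F

set_option autoImplicit false
universe u
open CategoryTheory AlgebraicGeometry
open DCoh

namespace Groth.Agent.S11132

/-- For a scheme X, a cochain complex F of O_X-modules is K-flat if and only if for every point x of X
the complex of stalks F_x, a complex of modules over the local ring O_{X,x}, is K-flat. (The
published statement is for a diagram of schemes and also compares with the restrictions to each
scheme of the diagram; this row is its case of a single scheme.) -/
theorem result (X : Scheme.{u}) (F : CochainComplex X.Modules ℤ) :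
    DCoh.IsKFlat F ↔ ∀ x : X, DRing.IsKFlat (X.presheaf.stalk x)
      (((DerSch.stalkFunctor X x).mapHomologicalComplex (ComplexShape.up ℤ)).obj F) := by
  constructor
  · intro hF x M hM i
    have h1 := hF (((Groth.Agent.Lib.SkyMod81.skyMod x).mapHomologicalComplex (ComplexShape.up ℤ)).obj M)
      (fun j => Groth.Agent.Lib.StalkTensor81.isZero_homology_skyMod x M j (hM j)) i
    have h2 := (Groth.Agent.Lib.StalkTensor81.isZero_homology_iff_stalk _ i).1 h1 x
    have e : (Groth.Agent.Lib.StalkTensor81.stalkCx x).obj ((DCoh.tensorCx.obj
        (((Groth.Agent.Lib.SkyMod81.skyMod x).mapHomologicalComplex (ComplexShape.up ℤ)).obj M)).obj F) ≅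
        MonoidalCategory.tensorObj M ((Groth.Agent.Lib.StalkTensor81.stalkCx x).obj F) :=
      Groth.Agent.Lib.StalkTensor81.stalkTensorCxIso x _ F ≪≫ MonoidalCategory.whiskerRightIso (Groth.Agent.Lib.StalkTensor81.stalkCxSkyIso x M) ((Groth.Agent.Lib.StalkTensor81.stalkCx x).obj F)
    exact h2.of_iso ((HomologicalComplex.homologyFunctor _ _ i).mapIso e.symm)
  · intro h L hL i
    rw [Groth.Agent.Lib.StalkTensor81.isZero_homology_iff_stalk]
    intro x
    have h1 := h x ((Groth.Agent.Lib.StalkTensor81.stalkCx x).obj L) (fun j => (Groth.Agent.Lib.StalkTensor81.isZero_homology_iff_stalk L j).1 (hL j) x) i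
    exact h1.of_iso ((HomologicalComplex.homologyFunctor _ _ i).mapIso (Groth.Agent.Lib.StalkTensor81.stalkTensorCxIso x L F))

end Groth.Agent.S11132
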