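import Groth.Statements.S6508
import Groth.Agent.Lib.SchKInj66
import Groth.Agent.Lib.PushRestrict

set_option autoImplicit false
universe u
open CategoryTheory
attribute [local instance] HasDerivedCategory.standard
open DCoh

namespace Groth.Agent.S6508

open AlgebraicGeometry CategoryTheory.Limits in
/-- Let f : X → Y be a morphism of schemes, V ⊆ Y open, U = f⁻¹(V) and g : U → V the induced morphism.
Then (Rf_* E)|_V ≅ Rg_*(E|_U) naturally in E ∈ D(O_X); asserted here as the existence of an
isomorphism between the two composite functors D(O_X) → D(O_V), the derived functors being assumed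
to exist. (The published statement is for ringed spaces; this row is for schemes.) -/
theorem result {X Y : Scheme.{u}} (f : X ⟶ Y) (V : Y.Opens)
    [DCoh.HasRpush f] [DCoh.HasRpush (f ∣_ V)]
    [PreservesFiniteLimits (Scheme.Modules.restrictFunctor V.ι)]
    [PreservesFiniteLimits (Scheme.Modules.restrictFunctor (f ⁻¹ᵁ V).ι)] :
    Nonempty (DCoh.Rpush f ⋙ DCoh.restrictD V.ι ≅ DCoh.restrictD (f ⁻¹ᵁ V).ι ⋙ DCoh.Rpush (f ∣_ V)) := by
  have : (Scheme.Modules.restrictFunctor V.ι).Additive :=
    (Scheme.Modules.restrictAdjunction V.ι).left_adjoint_additive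
  have : (Scheme.Modules.restrictFunctor (f ⁻¹ᵁ V).ι).Additive :=
    (Scheme.Modules.restrictAdjunction (f ⁻¹ᵁ V).ι).left_adjoint_additive
  have : PreservesFiniteColimits (Scheme.Modules.restrictFunctor V.ι) :=
    ⟨fun _ _ _ => (Scheme.Modules.restrictAdjunction V.ι).leftAdjoint_preservesColimits.1⟩
  have : PreservesFiniteColimits (Scheme.Modules.restrictFunctor (f ⁻¹ᵁ V).ι) :=
    ⟨fun _ _ _ => (Scheme.Modules.restrictAdjunction (f ⁻¹ᵁ V).ι).leftAdjoint_preservesColimits.1⟩
  exact Groth.Agent.Lib.RDFCrit66.nonempty_RD_comp_iso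
    (Groth.Agent.Lib.SchKInj66.enoughKInj X)
    (Scheme.Modules.pushforward f) (Scheme.Modules.restrictFunctor V.ι)
    (Scheme.Modules.restrictFunctor (f ⁻¹ᵁ V).ι) (Scheme.Modules.pushforward (f ∣_ V))
    (fun I hI => Groth.Agent.Lib.SchKInj66.isKInjective_restrict (f ⁻¹ᵁ V) I hI)
    (Groth.Agent.Lib.SchKInj66.enoughKInj _)
    (Groth.Agent.Lib.PushRestrict.pushRestrictIso f V)

end Groth.Agent.S6508
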