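import Groth.Statements.S17914
import Groth.Agent.Lib.PolLawSpan23
import Groth.Agent.Lib.PolLawExt23
import Groth.Agent.Lib.BCLaw23
import Groth.Prelude.Def_W4c5normfunctorschNorm
import Groth.Prelude.Def_PolLaw2
import Mathlib.RingTheory.Norm.Basic
import Mathlib.RingTheory.IsTensorProduct

set_option autoImplicit false
universe u
open scoped TensorProduct
open PolLaw

namespace Groth.Agent.S17914

open Groth.Agent.Lib.PolLawSpan23 Groth.Agent.Lib.PolLawGen23 Groth.Agent.Lib.BCLaw23

section General

variable {R : Type u} [CommRing R] {Q : Type u} [CommRing Q] [Algebra R Q]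

theorem bcAlong_tmul {X Y : Type u} [AddCommGroup X] [Module R X] [AddCommGroup Y] [Module R Y]
    [Module Q Y] [IsScalarTower R Q Y] (g : X →ₗ[R] Y) (P : Type u) [CommRing P] [Algebra R P]
    [Algebra Q P] [IsScalarTower R Q P] (p : P) (x : X) :
    PolLaw.bcAlong g P (p ⊗ₜ[R] x) = p ⊗ₜ[Q] g x := by
  unfold PolLaw.bcAlong
  simp [LinearMap.liftBaseChange_tmul]

variable (P : Type u) [CommRing P] [Algebra R P] [Algebra Q P] [IsScalarTower R Q P]

/-- `p ⊗ q ↦ p * q`. -/
noncomputable def mu : P ⊗[R] Q →ₗ[R] P :=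
  (Algebra.TensorProduct.lmul' R : P ⊗[R] P →ₐ[R] P).toLinearMap ∘ₗ
    ((IsScalarTower.toAlgHom R Q P).toLinearMap.lTensor P)

theorem mu_tmul (p : P) (q : Q) : mu (R := R) P (p ⊗ₜ[R] q) = p * algebraMap Q P q := by
  simp [mu]

theorem mu_lTensor_comp {C C' : Type u} [CommRing C] [Algebra R C] [CommRing C'] [Algebra R C']
    [Algebra Q C'] [IsScalarTower R Q C'] (θ : C →ₐ[R] C') (π' : C' →ₐ[Q] Q) (y : P ⊗[R] C) :
    mu (R := R) P (((π'.toLinearMap.restrictScalars R) ∘ₗ θ.toLinearMap).lTensor P y) =
      TensorProduct.rid Q P (π'.toLinearMap.lTensor P (PolLaw.bcAlong θ.toLinearMap P y)) := by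
  induction y using TensorProduct.induction_on with
  | zero => simp
  | tmul p c =>
    rw [LinearMap.lTensor_tmul, mu_tmul, bcAlong_tmul, LinearMap.lTensor_tmul, TensorProduct.rid_tmul,
      Algebra.smul_def, mul_comm]
    rfl
  | add x y hx hy => simp only [map_add, hx, hy]

theorem mu_lTensor_algebraMap (y : P ⊗[R] R) :
    mu (R := R) P ((Algebra.linearMap R Q).lTensor P y) = TensorProduct.rid R P y := by
  induction y using TensorProduct.induction_on with
  | zero => simp
  | tmul p r =>
    rw [LinearMap.lTensor_tmul, mu_tmul, TensorProduct.rid_tmul, Algebra.linearMap_apply,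
      ← IsScalarTower.algebraMap_apply, Algebra.smul_def, mul_comm]
  | add x y hx hy => simp only [map_add, hx, hy]

end General

section Kappa

variable {R : Type u} [CommRing R] {Q : Type u} [CommRing Q] [Algebra R Q]
  (S : Type u) [CommRing S] [Algebra R S]

theorem comm_lTensor {E : Type u} [AddCommGroup E] [Module R E] (h : E →ₗ[R] Q) (y : S ⊗[R] E) :
    TensorProduct.comm R S Q (h.lTensor S y) =
      mu (R := R) (Q ⊗[R] S) (h.lTensor (Q ⊗[R] S)
        ((Algebra.TensorProduct.includeRight : S →ₐ[R] Q ⊗[R] S).toLinearMap.rTensor E y)) := by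
  induction y using TensorProduct.induction_on with
  | zero => simp
  | tmul s e =>
    rw [LinearMap.lTensor_tmul, TensorProduct.comm_tmul, LinearMap.rTensor_tmul, LinearMap.lTensor_tmul,
      mu_tmul, AlgHom.toLinearMap_apply, Algebra.TensorProduct.includeRight_apply,
      Algebra.TensorProduct.algebraMap_apply, Algebra.TensorProduct.tmul_mul_tmul, one_mul, mul_one]
    rfl
  | add x y hx hy => simp only [map_add, hx, hy]

end Kappa

section Norm

variable {R R' Q Q' : Type u} [CommRing R] [CommRing R'] [Algebra R R']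
  [CommRing Q] [Algebra R Q] [CommRing Q'] [Algebra R Q'] [Algebra Q Q'] [Algebra R' Q']
  [IsScalarTower R Q Q'] [IsScalarTower R R' Q'] [Algebra.IsPushout R R' Q Q']
  (P : Type u) [CommRing P] [Algebra R P] [Algebra Q P] [IsScalarTower R Q P]

/-- `P ⊗[R] R' ≃ₐ[P] P ⊗[Q] Q'`. -/
noncomputable def bcEquiv : P ⊗[R] R' ≃ₐ[P] P ⊗[Q] Q' :=
  have : Algebra.IsPushout R Q R' Q' := Algebra.IsPushout.symm inferInstance
  (cb R Q P R').symm.trans
    (Algebra.TensorProduct.congr (AlgEquiv.refl : P ≃ₐ[P] P) (Algebra.IsPushout.equiv R Q R' Q'))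

theorem bcEquiv_apply (z : P ⊗[R] R') :
    bcEquiv (Q := Q) (Q' := Q') P z =
      PolLaw.bcAlong (IsScalarTower.toAlgHom R R' Q').toLinearMap P z := by
  have : Algebra.IsPushout R Q R' Q' := Algebra.IsPushout.symm inferInstance
  induction z using TensorProduct.induction_on with
  | zero => simp
  | tmul p r =>
    rw [bcAlong_tmul (Q := Q)]
    unfold bcEquiv
    rw [AlgEquiv.trans_apply, cb_symm_tmul, Algebra.TensorProduct.congr_apply,
      Algebra.TensorProduct.map_tmul]
    simp [Algebra.IsPushout.equiv_tmul]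
  | add x y hx hy => simp only [map_add, hx, hy]

theorem norm_bcAlong (z : P ⊗[R] R') :
    Algebra.norm P (PolLaw.bcAlong (Q := Q) (IsScalarTower.toAlgHom R R' Q').toLinearMap P z) =
      Algebra.norm P z := by
  rw [← bcEquiv_apply]
  exact Algebra.norm_eq_of_algEquiv (bcEquiv (Q := Q) (Q' := Q') P) z

end Norm

theorem main {R R' Q Q' : Type u} [CommRing R] [CommRing R'] [Algebra R R']
    [CommRing Q] [Algebra R Q] [CommRing Q'] [Algebra R Q'] [Algebra Q Q'] [Algebra R' Q']
    [IsScalarTower R Q Q'] [IsScalarTower R R' Q'] [Algebra.IsPushout R R' Q Q']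
    [Module.Free R R'] [Module.Finite R R'] [Module.Free Q Q'] [Module.Finite Q Q']
    (d : ℕ) (hd : Module.finrank R R' = d) (hd' : Module.finrank Q Q' = d)
    {C : Type u} [CommRing C] [Algebra R C] (γ : PolLaw.MulLaw R R' C d) (hγ : PolLaw.IsGammaD γ)
    (π : C →ₐ[R] R) (hπ : PolLaw.MulLaw.postcomp π γ = PolLaw.normLaw R R' d hd)
    {C' : Type u} [CommRing C'] [Algebra R C'] [Algebra Q C'] [IsScalarTower R Q C']
    (γ' : PolLaw.MulLaw Q Q' C' d)
    (π' : C' →ₐ[Q] Q) (hπ' : PolLaw.MulLaw.postcomp π' γ' = PolLaw.normLaw Q Q' d hd')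
    (θ : C →ₐ[R] C')
    (hθ : ∀ (P : Type u) [CommRing P] [Algebra R P] [Algebra Q P] [IsScalarTower R Q P] (z : P ⊗[R] R'),
      γ'.law.toFun' P (PolLaw.bcAlong (IsScalarTower.toAlgHom R R' Q').toLinearMap P z) =
        PolLaw.bcAlong θ.toLinearMap P (γ.law.toFun' P z)) :
    ∀ c : C, π' (θ c) = algebraMap R Q (π c) := by
  have hfg : ((π'.toLinearMap.restrictScalars R) ∘ₗ θ.toLinearMap : C →ₗ[R] Q) =
      (Algebra.linearMap R Q) ∘ₗ π.toLinearMap := by
    apply linearMap_ext_of_isGammaD γ hγ
    apply Groth.Agent.Lib.PolLawExt23.ext_of_poly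
    intro n
    funext z
    rw [postcomp_toFun', postcomp_toFun']
    apply (TensorProduct.comm R (MvPolynomial (Fin n) R) Q).injective
    rw [comm_lTensor, comm_lTensor]
    have hcompat : (Algebra.TensorProduct.includeRight :
        MvPolynomial (Fin n) R →ₐ[R] Q ⊗[R] MvPolynomial (Fin n) R).toLinearMap.rTensor C
          (γ.law.toFun' (MvPolynomial (Fin n) R) z) =
        γ.law.toFun' (Q ⊗[R] MvPolynomial (Fin n) R)
          ((Algebra.TensorProduct.includeRight :
            MvPolynomial (Fin n) R →ₐ[R] Q ⊗[R] MvPolynomial (Fin n) R).toLinearMap.rTensor R' z) :=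
      (γ.law.isCompat_apply' _ z)
    rw [hcompat, mu_lTensor_comp, ← hθ]
    have h1 : ∀ w, π'.toLinearMap.lTensor (Q ⊗[R] MvPolynomial (Fin n) R)
        (γ'.law.toFun' (Q ⊗[R] MvPolynomial (Fin n) R) w) =
        (PolLaw.MulLaw.postcomp π' γ').law.toFun' (Q ⊗[R] MvPolynomial (Fin n) R) w := fun _ => rfl
    rw [h1, hπ', PolLaw.normLaw_apply, TensorProduct.rid_tmul, one_smul, norm_bcAlong]
    rw [LinearMap.lTensor_comp, LinearMap.comp_apply, mu_lTensor_algebraMap]
    have h2 : ∀ w, π.toLinearMap.lTensor (Q ⊗[R] MvPolynomial (Fin n) R)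
        (γ.law.toFun' (Q ⊗[R] MvPolynomial (Fin n) R) w) =
        (PolLaw.MulLaw.postcomp π γ).law.toFun' (Q ⊗[R] MvPolynomial (Fin n) R) w := fun _ => rfl
    rw [h2, hπ, PolLaw.normLaw_apply, TensorProduct.rid_tmul, one_smul]
  intro c
  exact LinearMap.congr_fun hfg c

/-- Affine-free form, stated through universal properties. Let R → R' be a commutative algebra that is
free of rank d as an R-module, Q a commutative R-algebra, and Q' a commutative ring under Q and R'
which is their pushout over R and is free of rank d over Q. Let (C, γ) be the degree-d divided power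
algebra of R' over R with its universal multiplicative law (hypothesis: every multiplicative law of
degree d out of R' factors uniquely through γ) and π : C → R the R-algebra map with π ∘ γ = the norm
law of R' over R; let (C', γ', π') be the analogous data for Q' over Q. Let θ : C → C' be an
R-algebra homomorphism compatible with the two universal laws over every commutative Q-algebra P:
γ'_P applied to the image of z ∈ P ⊗_R R' in P ⊗_Q Q' equals (p ⊗ c ↦ p ⊗ θ c) applied to γ_P(z) (so
θ is the base-change homomorphism of divided power algebras). Then π' (θ c) is the image in Q of π c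
for every c ∈ C: the algebra map attached to the norm commutes with base change. (The published
lemma is for a finite locally free extension of constant rank and states the commutativity of each
of three squares; this row assumes R' free over R and states the commutativity of the composite.) -/
theorem result {R R' Q Q' : Type u} [CommRing R] [CommRing R'] [Algebra R R']
    [CommRing Q] [Algebra R Q] [CommRing Q'] [Algebra R Q'] [Algebra Q Q'] [Algebra R' Q']
    [IsScalarTower R Q Q'] [IsScalarTower R R' Q'] [Algebra.IsPushout R R' Q Q']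
    [Module.Free R R'] [Module.Finite R R'] [Module.Free Q Q'] [Module.Finite Q Q']
    (d : ℕ) (hd : Module.finrank R R' = d) (hd' : Module.finrank Q Q' = d)
    {C : Type u} [CommRing C] [Algebra R C] (γ : PolLaw.MulLaw R R' C d) (hγ : PolLaw.IsGammaD γ)
    (π : C →ₐ[R] R) (hπ : PolLaw.MulLaw.postcomp π γ = PolLaw.normLaw R R' d hd)
    {C' : Type u} [CommRing C'] [Algebra R C'] [Algebra Q C'] [IsScalarTower R Q C']
    (γ' : PolLaw.MulLaw Q Q' C' d) (hγ' : PolLaw.IsGammaD γ')
    (π' : C' →ₐ[Q] Q) (hπ' : PolLaw.MulLaw.postcomp π' γ' = PolLaw.normLaw Q Q' d hd')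
    (θ : C →ₐ[R] C')
    (hθ : ∀ (P : Type u) [CommRing P] [Algebra R P] [Algebra Q P] [IsScalarTower R Q P] (z : P ⊗[R] R'),
      γ'.law.toFun' P (PolLaw.bcAlong (IsScalarTower.toAlgHom R R' Q').toLinearMap P z) =
        PolLaw.bcAlong θ.toLinearMap P (γ.law.toFun' P z)) :
    ∀ c : C, π' (θ c) = algebraMap R Q (π c) := by
  exact Groth.Agent.S17914.main d hd hd' γ hγ π hπ γ' π' hπ' θ hθ

end Groth.Agent.S17914
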