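import Groth.Statements.S6022
import Groth.Agent.Lib.GrothSSFlex
import Groth.Agent.Lib.HZPairDerived
import Groth.Agent.Lib.FlasqueAcyclic
import Groth.Agent.Lib.SpSeqVanish92
import Groth.Agent.Lib.RightDerivedPostComp

set_option autoImplicit false
universe u
open CategoryTheory CategoryTheory.Limits TopologicalSpace
open LocCohZ

namespace Groth.Agent.S6022

open Groth.Agent.Lib.SectDerived (sect)
open Groth.Agent.Lib.HZPairDerived (gammaZV)

/-- vanishing of the local cohomology sheaves in degrees `< n` gives vanishing of cohomology with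
supports over every open, via the spectral sequence `H^p(V, ℋ^q_Z F) ⇒ H^{p+q}_{Z ∩ V}(V, F)` -/
theorem forward {X : TopCat.{u}} (F : CohTop.Ab X) (U : Opens X) (n : ℕ)
    (h : ∀ i : ℕ, i < n → IsZero ((LocCohZ.HZsh U i).obj F)) (V : Opens X) (i : ℕ) (hi : i < n) :
    Subsingleton (LocCohZ.HZ F i (inf_le_left : V ⊓ U ≤ V)) := by
  have hT : ∀ Q : CohTop.Ab X, Injective Q → ∀ q : ℕ, 0 < q →
      IsZero (((sect (Opens.grothendieckTopology X) V).rightDerived q).obj
        ((LocCohZ.sectSuppF U).obj Q)) := by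
    intro Q hQ q hq
    obtain ⟨m, rfl⟩ : ∃ m, q = m + 1 := ⟨q - 1, by omega⟩
    have : TopCat.Sheaf.IsFlasque Q := Groth.Agent.Lib.FlasqueAcyclic.isFlasque_of_injective Q
    have : TopCat.Sheaf.IsFlasque ((LocCohZ.sectSuppF U).obj Q) := Groth.Agent.S19245.result Q U
    obtain ⟨e⟩ := Groth.Agent.Lib.SectDerived.nonempty_rightDerived_obj_iso
      (Opens.grothendieckTopology X) V ((LocCohZ.sectSuppF U).obj Q) (m + 1)
    have := Groth.Agent.Lib.FlasqueAcyclic.subsingleton_HU ((LocCohZ.sectSuppF U).obj Q) V m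
    exact (AddCommGrpCat.isZero_of_subsingleton _).of_iso e
  obtain ⟨E, a, ha, -, hE⟩ := Groth.Agent.Lib.GrothSSFlex.exists_grothendieck_flex
    (LocCohZ.sectSuppF U) (sect (Opens.grothendieckTopology X) V) hT F
    (AddCommGrpCat.of PUnit.{u + 1}) (AddCommGrpCat.isZero_of_subsingleton _)
    (fun m => AddCommGrpCat.of (LocCohZ.HZ F m (inf_le_left : V ⊓ U ≤ V)))
    (fun m => Groth.Agent.Lib.HZPairDerived.nonempty_rightDerived_obj_iso U V F m)
    (fun p q => ((sect (Opens.grothendieckTopology X) V).rightDerived p).obj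
      ((LocCohZ.HZsh U q).obj F))
    (fun p q => ⟨Iso.refl _⟩)
  have hz : ∀ p q : ℤ, p + q = (i : ℤ) → IsZero ((E.page 2 le_rfl).X (p, q)) := by
    intro p q hpq
    obtain ⟨e⟩ := hE p q
    refine IsZero.of_iso ?_ e
    by_cases hc : 0 ≤ p ∧ 0 ≤ q
    · rw [if_pos hc]
      have hq : q.toNat < n := by omega
      exact Functor.map_isZero _ (h _ hq)
    · rw [if_neg hc]
      exact AddCommGrpCat.isZero_of_subsingleton _
  have hH := Groth.Agent.Lib.SpSeqVanish92.isZero_abutment E a 2 le_rfl (i : ℤ) (ha _) hz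
  rw [if_pos (Int.natCast_nonneg i), Int.toNat_natCast] at hH
  exact AddCommGrpCat.subsingleton_of_isZero hH

/-- vanishing of cohomology with supports over every open gives vanishing of the local cohomology
sheaf: `ℋ^i_Z F` is the sheafification of the presheaf `R^i(Γ_Z ⋙ forget) F` whose sections over
`V` are `H^i_{Z ∩ V}(V, F)` -/
theorem backward {X : TopCat.{u}} (F : CohTop.Ab X) (U : Opens X) (i : ℕ)
    (h : ∀ V : Opens X, Subsingleton (LocCohZ.HZ F i (inf_le_left : V ⊓ U ≤ V))) :
    IsZero ((LocCohZ.HZsh U i).obj F) := by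
  let J := Opens.grothendieckTopology X
  let T := LocCohZ.sectSuppF U
  let ι := sheafToPresheaf J AddCommGrpCat.{u}
  let sh := presheafToSheaf J AddCommGrpCat.{u}
  let P : (Opens X)ᵒᵖ ⥤ AddCommGrpCat.{u} := ((T ⋙ ι).rightDerived i).obj F
  have hP : IsZero P := by
    rw [Functor.isZero_iff]
    intro V
    have e1 := Groth.Agent.Lib.RightDerivedPostComp.postCompIsoApp (T ⋙ ι)
      ((evaluation (Opens X)ᵒᵖ AddCommGrpCat.{u}).obj V) i F
    have e2 : ((T ⋙ ι) ⋙ (evaluation (Opens X)ᵒᵖ AddCommGrpCat.{u}).obj V).rightDerived i ≅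
        (gammaZV U V.unop).rightDerived i :=
      Groth.Agent.Lib.RightDerivedPostComp.rightDerivedIsoOfIso (Functor.associator _ _ _) i
    obtain ⟨e3⟩ := Groth.Agent.Lib.HZPairDerived.nonempty_rightDerived_obj_iso U V.unop F i
    have := h V.unop
    exact (AddCommGrpCat.isZero_of_subsingleton _).of_iso (e1 ≪≫ e2.app F ≪≫ e3)
  have e : T ≅ (T ⋙ ι) ⋙ sh :=
    T.rightUnitor.symm ≪≫
      Functor.isoWhiskerLeft T (asIso (sheafificationAdjunction J AddCommGrpCat.{u}).counit).symm ≪≫
      (Functor.associator _ _ _).symm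
  have e4 := Groth.Agent.Lib.RightDerivedPostComp.rightDerivedIsoOfIso e i
  have e5 := Groth.Agent.Lib.RightDerivedPostComp.postCompIsoApp (T ⋙ ι) sh i F
  exact (Functor.map_isZero sh hP).of_iso (e4.app F ≪≫ e5.symm)


/-- Consider a topological space X carrying a sheaf of abelian groups F, a natural number n, and a
closed subset Y of X whose complement is the open set U. The local cohomology sheaves ℋ^i_Y(F) are
zero for every i < n exactly when, for each open V of X, the groups H^i_{Y∩V}(V, F) are zero for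
every i < n. -/
theorem result {X : TopCat.{u}} (F : CohTop.Ab X) (U : Opens X) (n : ℕ) :
    (∀ i : ℕ, i < n → IsZero ((LocCohZ.HZsh U i).obj F)) ↔
      ∀ (V : Opens X) (i : ℕ), i < n → Subsingleton (LocCohZ.HZ F i (inf_le_left : V ⊓ U ≤ V)) := by
  constructor
  · intro h V i hi
    exact forward F U n h V i hi
  · intro h i hi
    exact backward F U i (fun V => h V i hi)

end Groth.Agent.S6022
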