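import Groth.Statements.S19245
import Groth.Agent.Lib.TowerLimSections
import Mathlib.CategoryTheory.Adjunction.Unique
import Mathlib.CategoryTheory.Limits.FunctorCategory.EpiMono

set_option autoImplicit false
universe u
open LocCohZ

namespace Groth.Agent.S19245

open CategoryTheory CategoryTheory.Limits TopologicalSpace Opposite
open Groth.Agent.Lib.TowerLimSections

variable {X : TopCat.{u}}

lemma res_res (F : CohTop.Ab X) {W V T : Opens X} (h₁ : V ≤ W) (h₂ : T ≤ V)
    (s : F.obj.obj (op W)) :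
    F.obj.map (homOfLE h₂).op (F.obj.map (homOfLE h₁).op s) =
      F.obj.map (homOfLE (h₂.trans h₁)).op s := by
  rw [← ConcreteCategory.comp_apply, ← F.obj.map_comp]
  rfl

lemma map_eq_res (F : CohTop.Ab X) {W V : Opens X} (i : op W ⟶ op V) (s : F.obj.obj (op W)) :
    F.obj.map i s = F.obj.map (homOfLE i.unop.le).op s := rfl

lemma glue2 (F : CohTop.Ab X) (U₁ U₂ : Opens X) (s₁ : F.obj.obj (op U₁)) (s₂ : F.obj.obj (op U₂))
    (h : F.obj.map (homOfLE (inf_le_left : U₁ ⊓ U₂ ≤ U₁)).op s₁ =
      F.obj.map (homOfLE (inf_le_right : U₁ ⊓ U₂ ≤ U₂)).op s₂) :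
    ∃ s : F.obj.obj (op (U₁ ⊔ U₂)), F.obj.map (homOfLE (le_sup_left : U₁ ≤ U₁ ⊔ U₂)).op s = s₁ ∧
      F.obj.map (homOfLE (le_sup_right : U₂ ≤ U₁ ⊔ U₂)).op s = s₂ := by
  let Uf : Bool → Opens X := fun b => Bool.rec U₂ U₁ b
  let sf : ∀ b : Bool, F.obj.obj (op (Uf b)) := fun b => Bool.rec (motive := fun b => F.obj.obj (op (Uf b))) s₂ s₁ b
  have hle : ∀ b, Uf b ≤ U₁ ⊔ U₂ := by
    intro b; cases b
    · exact le_sup_right
    · exact le_sup_left
  have hcov : U₁ ⊔ U₂ ≤ iSup Uf := by
    apply sup_le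
    · exact le_iSup Uf true
    · exact le_iSup Uf false
  have hc : TopCat.Presheaf.IsCompatible F.obj Uf sf := by
    intro i j
    cases i <;> cases j
    · rfl
    · change F.obj.map (homOfLE (inf_le_left : U₂ ⊓ U₁ ≤ U₂)).op s₂ =
        F.obj.map (homOfLE (inf_le_right : U₂ ⊓ U₁ ≤ U₁)).op s₁
      have h' := congrArg (F.obj.map (homOfLE (le_of_eq (inf_comm U₂ U₁) : U₂ ⊓ U₁ ≤ U₁ ⊓ U₂)).op) h
      rw [res_res, res_res] at h'
      exact h'.symm
    · exact h
    · rfl
  obtain ⟨s, hs, -⟩ := TopCat.Sheaf.existsUnique_gluing' (F := F) Uf (U₁ ⊔ U₂)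
    (fun b => homOfLE (hle b)) hcov sf hc
  exact ⟨s, hs true, hs false⟩


lemma hf (U : Opens X) : Topology.IsOpenEmbedding (CohCx.incl U) := U.isOpenEmbedding'

/-- the explicit adjunction restriction ⊣ pushforward -/
noncomputable def adj' (U : Opens X) :
    (hf U).sheafPullback AddCommGrpCat.{u} ⊣
      TopCat.Sheaf.pushforward AddCommGrpCat.{u} (CohCx.incl U) :=
  haveI := (hf U).functor_isContinuous
  haveI := instIsContinuousOpensCarrierMapGrothendieckTopology (CohCx.incl U)
  (hf U).isOpenMap.adjunction.sheafPushforwardContinuous (E := AddCommGrpCat.{u})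
    (Opens.grothendieckTopology (TopCat.of U)) (Opens.grothendieckTopology X)

/-- image of preimage -/
noncomputable abbrev FG (U V : Opens X) : Opens X :=
  (hf U).isOpenMap.functor.obj ((Opens.map (CohCx.incl U)).obj V)

lemma FG_le (U V : Opens X) : FG U V ≤ V := ((hf U).isOpenMap.adjunction.counit.app V).le

lemma FG_mono (U : Opens X) {V W : Opens X} (h : V ≤ W) : FG U V ≤ FG U W :=
  ((hf U).isOpenMap.functor.map ((Opens.map (CohCx.incl U)).map (homOfLE h))).le

lemma inf_FG_le (U : Opens X) {V W : Opens X} : V ⊓ FG U W ≤ FG U V := by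
  rintro x ⟨hxV, y, hy, rfl⟩
  exact ⟨y, hxV, rfl⟩

lemma unit'_app (U : Opens X) (A : CohTop.Ab X) (V : Opens X) (s : A.obj.obj (op V)) :
    ((adj' U).unit.app A).hom.app (op V) s = A.obj.map (homOfLE (FG_le U V)).op s := by
  simp [adj']
  rfl

/-- the unit of the pullback-pushforward adjunction -/
noncomputable abbrev η (U : Opens X) (A : CohTop.Ab X) :=
  (TopCat.Sheaf.pullbackPushforwardAdjunction AddCommGrpCat.{u} (CohCx.incl U)).unit.app A

lemma unit_zero_iff (U : Opens X) (A : CohTop.Ab X) (V : Opens X) (s : A.obj.obj (op V)) :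
    (η U A).hom.app (op V) s = 0 ↔ A.obj.map (homOfLE (FG_le U V)).op s = 0 := by
  rw [← unit'_app]
  let adj2 := TopCat.Sheaf.pullbackPushforwardAdjunction AddCommGrpCat.{u} (CohCx.incl U)
  let e := Adjunction.leftAdjointUniq (adj' U) adj2
  let G := TopCat.Sheaf.pushforward AddCommGrpCat.{u} (CohCx.incl U)
  have h1 : (adj' U).unit.app A ≫ G.map (e.hom.app A) = η U A :=
    Adjunction.unit_leftAdjointUniq_hom_app (adj' U) adj2 A
  have h2 : η U A ≫ G.map (e.inv.app A) = (adj' U).unit.app A := by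
    rw [← h1, Category.assoc, ← G.map_comp, Iso.hom_inv_id_app, G.map_id]
    exact Category.comp_id _
  constructor
  · intro h
    have := congrArg (fun ψ => ψ.hom.app (op V)) h2
    have h3 := ConcreteCategory.congr_hom this s
    rw [← h3]
    change (G.map (e.inv.app A)).hom.app (op V) ((η U A).hom.app (op V) s) = 0
    exact (congrArg _ h).trans (map_zero _)
  · intro h
    have := congrArg (fun ψ => ψ.hom.app (op V)) h1
    have h3 := ConcreteCategory.congr_hom this s
    rw [← h3]
    change (G.map (e.hom.app A)).hom.app (op V) (((adj' U).unit.app A).hom.app (op V) s) = 0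
    exact (congrArg _ h).trans (map_zero _)

lemma injective_of_mono {F G : CohTop.Ab X} (f : F ⟶ G) [hf : Mono f] (V : Opens X) :
    Function.Injective (f.hom.app (op V)) := by
  have h1 : Mono f.hom := (Sheaf.Hom.mono_iff_presheaf_mono _ _ f).1 inferInstance
  have h2 : Mono (f.hom.app (op V)) := (NatTrans.mono_iff_mono_app f.hom).1 h1 (op V)
  exact (AddCommGrpCat.mono_iff_injective _).1 h2

lemma main (A : CohTop.Ab X) (hA : TopCat.Sheaf.IsFlasque A) (U : Opens X) {W W' : Opens X}
    (i : op W ⟶ op W') :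
    Function.Surjective ((kernel (η U A) : CohTop.Ab X).obj.map i) := by
  intro t
  have hW : W' ≤ W := i.unop.le
  let s := (kernel.ι (η U A)).hom.app (op W') t
  have hs : (η U A).hom.app (op W') s = 0 := kernel_ι_comp_apply (η U A) W' t
  have hs' := (unit_zero_iff U A W' s).1 hs
  have hcompat : A.obj.map (homOfLE (inf_le_left : W' ⊓ FG U W ≤ W')).op s =
      A.obj.map (homOfLE (inf_le_right : W' ⊓ FG U W ≤ FG U W)).op 0 := by
    rw [map_zero]
    have : A.obj.map (homOfLE (inf_FG_le U : W' ⊓ FG U W ≤ FG U W')).op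
        (A.obj.map (homOfLE (FG_le U W')).op s) = 0 := by rw [hs', map_zero]
    rw [res_res] at this
    exact this
  obtain ⟨s₁, hs₁, hs₁'⟩ := glue2 A W' (FG U W) s 0 hcompat
  have hle : W' ⊔ FG U W ≤ W := sup_le hW (FG_le U W)
  obtain ⟨s₂, hs₂⟩ := restrict_surjective_of_flasque A hA (homOfLE hle).op s₁
  have h0 : A.obj.map (homOfLE (FG_le U W)).op s₂ = 0 := by
    rw [← hs₁', ← hs₂, res_res]
  have h0' := (unit_zero_iff U A W s₂).2 h0
  obtain ⟨t₂, ht₂⟩ := exists_kernel_section (η U A) W s₂ h0'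
  have key : A.obj.map i s₂ = s := by
    rw [map_eq_res, ← hs₁, ← hs₂, res_res]
  refine ⟨t₂, ?_⟩
  apply injective_of_mono (kernel.ι (η U A)) (hf := equalizer.ι_mono) W'
  have hn := ConcreteCategory.congr_hom ((kernel.ι (η U A)).hom.naturality i) t₂
  change (kernel.ι (η U A)).hom.app (op W') ((kernel (η U A) : CohTop.Ab X).obj.map i t₂) =
    A.obj.map i ((kernel.ι (η U A)).hom.app (op W) t₂) at hn
  exact hn.trans ((congrArg _ ht₂).trans key)

open CategoryTheory TopologicalSpace in
/-- Let A be a flasque abelian sheaf on a topological space X and Z = X ∖ U the closed complement of an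
open U. Then the sheaf Γ_Z(A) of sections of A supported in Z is flasque. (The source states the
lemma for every family of supports Φ on a Noetherian topological space, where Γ_Φ(A) is the filtered
union of the Γ_Z(A), Z ∈ Φ; for a single closed Z no Noetherian hypothesis is needed.) -/
theorem result {X : TopCat.{u}} (A : CohTop.Ab X) [TopCat.Sheaf.IsFlasque A]
    (U : Opens X) : TopCat.Sheaf.IsFlasque ((LocCohZ.sectSuppF U).obj A) := by
  constructor
  intro W₀ W₀' i
  obtain ⟨W⟩ := W₀
  obtain ⟨W'⟩ := W₀'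
  exact (AddCommGrpCat.epi_iff_surjective _).2 (main A inferInstance U i)

end Groth.Agent.S19245
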