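import Groth.Statements.S6023
import Groth.Agent.S19245
import Groth.Agent.Lib.AcyclicClass
import Groth.Agent.Lib.FlasqueAcyclic
import Groth.Agent.Lib.TowerLimSections
import Mathlib.Algebra.Homology.ShortComplex.ExactFunctor

set_option autoImplicit false
universe u
open CategoryTheory CategoryTheory.Limits TopologicalSpace
open LocCohZ

namespace Groth.Agent.S6023

open CategoryTheory CategoryTheory.Limits TopologicalSpace Opposite
open Groth.Agent.Lib.TowerLimSections Groth.Agent.Lib.FlasqueAcyclic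
open Groth.Agent.S19245 (η FG FG_le unit_zero_iff injective_of_mono)

variable {X : TopCat.{u}}

lemma surjective_of_shortExact (S : ShortComplex (CohTop.Ab X)) (hS : S.ShortExact)
    (h1 : TopCat.Sheaf.IsFlasque S.X₁) (V : Opens X) :
    Function.Surjective (S.g.hom.app (op V)) := by
  have := TopCat.Sheaf.IsFlasque.epi_of_shortExact (U := V) hS
  exact (AddCommGrpCat.epi_iff_surjective _).1 this

lemma g_f_apply (S : ShortComplex (CohTop.Ab X)) (V : Opens X) (k : S.X₁.obj.obj (op V)) :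
    S.g.hom.app (op V) (S.f.hom.app (op V) k) = 0 := by
  have h := congrArg (fun ψ => ψ.hom.app (op V)) S.zero
  exact ConcreteCategory.congr_hom h k

/-- Lifting sections vanishing on `W` along an epimorphism with flasque kernel. -/
lemma lift_section_vanishing (S : ShortComplex (CohTop.Ab X)) (hS : S.ShortExact)
    (h1 : TopCat.Sheaf.IsFlasque S.X₁) {W V : Opens X} (h : W ≤ V)
    (s'' : S.X₃.obj.obj (op V)) (hs'' : S.X₃.obj.map (homOfLE h).op s'' = 0) :
    ∃ s' : S.X₂.obj.obj (op V), S.g.hom.app (op V) s' = s'' ∧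
      S.X₂.obj.map (homOfLE h).op s' = 0 := by
  obtain ⟨s, hs⟩ := surjective_of_shortExact S hS h1 V s''
  have h0 : S.g.hom.app (op W) (S.X₂.obj.map (homOfLE h).op s) = 0 := by
    have := ConcreteCategory.congr_hom (S.g.hom.naturality (homOfLE h).op) s
    change S.g.hom.app (op W) (S.X₂.obj.map (homOfLE h).op s) =
      S.X₃.obj.map (homOfLE h).op (S.g.hom.app (op V) s) at this
    rw [this, hs, hs'']
  obtain ⟨k, hk⟩ := TopCat.Sheaf.sections_exact_of_left_exact (U := W) hS.exact hS.mono_f _ h0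
  obtain ⟨k', hk'⟩ := restrict_surjective_of_flasque S.X₁ h1 (homOfLE h).op k
  refine ⟨s - S.f.hom.app (op V) k', ?_, ?_⟩
  · rw [map_sub, hs, g_f_apply, sub_zero]
  · have := ConcreteCategory.congr_hom (S.f.hom.naturality (homOfLE h).op) k'
    change S.f.hom.app (op W) (S.X₁.obj.map (homOfLE h).op k') =
      S.X₂.obj.map (homOfLE h).op (S.f.hom.app (op V) k') at this
    rw [map_sub, ← this, hk', hk, sub_self]

lemma hasFlasqueLifting_zq {W V : Opens X} (h : W ≤ V) : HasFlasqueLifting (LocCohZ.zq h) := by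
  intro S hS h1 φ
  let s'' := CohFree.evalGen (Opens.grothendieckTopology X) V S.X₃
    (cokernel.π (CohCx.freeSheafMap (Opens.grothendieckTopology X) (homOfLE h)) ≫ φ)
  have hs'' : S.X₃.obj.map (homOfLE h).op s'' = 0 := by
    have := CohFree.evalGen_freeSheafMap_comp (Opens.grothendieckTopology X) (homOfLE h) S.X₃
      (cokernel.π (CohCx.freeSheafMap (Opens.grothendieckTopology X) (homOfLE h)) ≫ φ)
    rw [← Category.assoc, cokernel.condition, zero_comp, map_zero] at this
    exact this.symm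
  obtain ⟨s', hs'g, hs'W⟩ := lift_section_vanishing S hS h1 h s'' hs''
  have hdesc : CohCx.freeSheafMap (Opens.grothendieckTopology X) (homOfLE h) ≫
      CohFree.ofSect (Opens.grothendieckTopology X) V S.X₂ s' = 0 := by
    apply (CohFree.homEquivSect (Opens.grothendieckTopology X) W S.X₂).injective
    rw [CohFree.homEquivSect_apply, CohFree.evalGen_freeSheafMap_comp, CohFree.evalGen_ofSect,
      map_zero]
    exact hs'W
  refine ⟨cokernel.desc _ (CohFree.ofSect (Opens.grothendieckTopology X) V S.X₂ s') hdesc, ?_⟩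
  rw [← cancel_epi (cokernel.π (CohCx.freeSheafMap (Opens.grothendieckTopology X) (homOfLE h))),
    ← Category.assoc, cokernel.π_desc]
  apply (CohFree.homEquivSect (Opens.grothendieckTopology X) V S.X₃).injective
  rw [CohFree.homEquivSect_apply, CohFree.homEquivSect_apply]
  change S.g.hom.app (op V) (CohFree.evalGen (Opens.grothendieckTopology X) V S.X₂
    (CohFree.ofSect (Opens.grothendieckTopology X) V S.X₂ s')) = s''
  rw [CohFree.evalGen_ofSect]
  exact hs'g

theorem part1 (F : CohTop.Ab X) [TopCat.Sheaf.IsFlasque F] (W V : Opens X) (h : W ≤ V) (i : ℕ)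
    (hi : 0 < i) : Subsingleton (LocCohZ.HZ F i h) := by
  obtain ⟨n, rfl⟩ : ∃ n, i = n + 1 := ⟨i - 1, by omega⟩
  exact subsingleton_of_forall_eq 0 fun x => ext_eq_zero _ (hasFlasqueLifting_zq h) n F x

/-- the inclusion of sections with support -/
noncomputable abbrev ιZ (U : Opens X) (F : CohTop.Ab X) :
    ((LocCohZ.sectSuppF U).obj F : CohTop.Ab X) ⟶ F :=
  kernel.ι (η U F)

instance (U : Opens X) (F : CohTop.Ab X) : Mono (ιZ U F) := equalizer.ι_mono

lemma map_ιZ (U : Opens X) {F G : CohTop.Ab X} (φ : F ⟶ G) :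
    (LocCohZ.sectSuppF U).map φ ≫ ιZ U G = ιZ U F ≫ φ :=
  kernel.lift_ι _ _ _

lemma map_ιZ_apply (U : Opens X) {F G : CohTop.Ab X} (φ : F ⟶ G) (V : Opens X)
    (t : ((LocCohZ.sectSuppF U).obj F : CohTop.Ab X).obj.obj (op V)) :
    (ιZ U G).hom.app (op V) (((LocCohZ.sectSuppF U).map φ).hom.app (op V) t) =
      φ.hom.app (op V) ((ιZ U F).hom.app (op V) t) := by
  have h := congrArg (fun ψ => ψ.hom.app (op V)) (map_ιZ U φ)
  exact ConcreteCategory.congr_hom h t

lemma ιZ_restrict_eq_zero (U : Opens X) (F : CohTop.Ab X) (V : Opens X)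
    (t : ((LocCohZ.sectSuppF U).obj F : CohTop.Ab X).obj.obj (op V)) :
    F.obj.map (homOfLE (FG_le U V)).op ((ιZ U F).hom.app (op V) t) = 0 :=
  (unit_zero_iff U F V _).1 (kernel_ι_comp_apply (η U F) V t)

lemma exists_of_restrict_eq_zero (U : Opens X) (F : CohTop.Ab X) (V : Opens X)
    (s : F.obj.obj (op V)) (hs : F.obj.map (homOfLE (FG_le U V)).op s = 0) :
    ∃ t : ((LocCohZ.sectSuppF U).obj F : CohTop.Ab X).obj.obj (op V),
      (ιZ U F).hom.app (op V) t = s :=
  exists_kernel_section (η U F) V s ((unit_zero_iff U F V s).2 hs)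

lemma epi_sectSupp_of_flasque (U : Opens X) (S : ShortComplex (CohTop.Ab X))
    (hS : S.ShortExact) (h1 : TopCat.Sheaf.IsFlasque S.X₁) :
    Epi ((LocCohZ.sectSuppF U).map S.g) := by
  apply epi_of_sectionwise_surjective
  intro V t''
  obtain ⟨s', hs'g, hs'W⟩ := lift_section_vanishing S hS h1 (FG_le U V)
    ((ιZ U S.X₃).hom.app (op V) t'') (ιZ_restrict_eq_zero U S.X₃ V t'')
  obtain ⟨t, ht⟩ := exists_of_restrict_eq_zero U S.X₂ V s' hs'W
  refine ⟨t, ?_⟩
  apply injective_of_mono (ιZ U S.X₃) V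
  rw [map_ιZ_apply, ht, hs'g]

lemma restrict_map_apply {F G : CohTop.Ab X} (φ : F ⟶ G) {W V : Opens X} (h : W ≤ V)
    (s : F.obj.obj (op V)) :
    G.obj.map (homOfLE h).op (φ.hom.app (op V) s) =
      φ.hom.app (op W) (F.obj.map (homOfLE h).op s) :=
  (ConcreteCategory.congr_hom (φ.hom.naturality (homOfLE h).op) s).symm

lemma preservesFiniteLimits_sectSuppF (U : Opens X) :
    PreservesFiniteLimits (LocCohZ.sectSuppF (X := X) U) := by
  apply ((Functor.preservesFiniteLimits_tfae (LocCohZ.sectSuppF (X := X) U)).out 0 3).1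
  intro S hS
  have := hS.mono_f
  have hm : Mono ((LocCohZ.sectSuppF U).map S.f) := by
    have : Mono ((LocCohZ.sectSuppF U).map S.f ≫ ιZ U S.X₂) := by
      rw [map_ιZ]
      infer_instance
    exact mono_of_mono _ (ιZ U S.X₂)
  refine ⟨?_, hm⟩
  rw [ShortComplex.exact_iff_exact_up_to_refinements]
  intro A x₂ hx₂
  let x₂' : A ⟶ ((LocCohZ.sectSuppF U).obj S.X₂ : CohTop.Ab X) := x₂
  have hx₂' : x₂' ≫ (LocCohZ.sectSuppF U).map S.g = 0 := hx₂
  have h0 : (x₂' ≫ ιZ U S.X₂) ≫ S.g = 0 := by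
    rw [Category.assoc, ← map_ιZ, ← Category.assoc, hx₂', zero_comp]
  let y : A ⟶ S.X₁ := hS.exact.lift (x₂' ≫ ιZ U S.X₂) h0
  have hy : y ≫ S.f = x₂' ≫ ιZ U S.X₂ := hS.exact.lift_f _ _
  have hyη : y ≫ η U S.X₁ = 0 := by
    apply Sheaf.hom_ext
    ext V a
    obtain ⟨V⟩ := V
    change (η U S.X₁).hom.app (op V) (y.hom.app (op V) a) = 0
    rw [unit_zero_iff]
    apply injective_of_mono S.f (FG U V)
    rw [map_zero, ← restrict_map_apply]
    have h1 := congrArg (fun ψ => ψ.hom.app (op V)) hy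
    have h2 := ConcreteCategory.congr_hom h1 a
    change S.f.hom.app (op V) (y.hom.app (op V) a) =
      (ιZ U S.X₂).hom.app (op V) (x₂'.hom.app (op V) a) at h2
    rw [h2]
    exact ιZ_restrict_eq_zero U S.X₂ V _
  let x₁ : A ⟶ ((LocCohZ.sectSuppF U).obj S.X₁ : CohTop.Ab X) := kernel.lift (η U S.X₁) y hyη
  have hx₁ : x₁ ≫ ιZ U S.X₁ = y := kernel.lift_ι (η U S.X₁) y hyη
  refine ⟨A, 𝟙 A, inferInstance, x₁, ?_⟩
  change 𝟙 A ≫ x₂' = x₁ ≫ (LocCohZ.sectSuppF U).map S.f
  rw [Category.id_comp]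
  apply (cancel_mono (ιZ U S.X₂)).1
  rw [Category.assoc, map_ιZ, ← Category.assoc, hx₁, hy]


lemma isFlasque_of_iso {F G : CohTop.Ab X} (e : F ≅ G) (hF : TopCat.Sheaf.IsFlasque F) :
    TopCat.Sheaf.IsFlasque G := by
  constructor
  intro U V i
  have := hF.epi i
  have h1 : G.obj.map i = (e.inv.hom.app U) ≫ F.obj.map i ≫ (e.hom.hom.app V) := by
    rw [← Category.assoc, ← e.inv.hom.naturality i, Category.assoc]
    have : e.inv.hom.app V ≫ e.hom.hom.app V = 𝟙 _ :=
      congrArg (fun ψ => ψ.hom.app V) e.inv_hom_id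
    rw [this, Category.comp_id]
  rw [h1]
  have : IsIso (e.inv.hom.app U) :=
    ⟨e.hom.hom.app U, congrArg (fun ψ => ψ.hom.app U) e.inv_hom_id,
      congrArg (fun ψ => ψ.hom.app U) e.hom_inv_id⟩
  have : IsIso (e.hom.hom.app V) :=
    ⟨e.inv.hom.app V, congrArg (fun ψ => ψ.hom.app V) e.hom_inv_id,
      congrArg (fun ψ => ψ.hom.app V) e.inv_hom_id⟩
  infer_instance

theorem part2 (F : CohTop.Ab X) [TopCat.Sheaf.IsFlasque F] (U : Opens X) (i : ℕ) (hi : 0 < i) :
    IsZero ((LocCohZ.HZsh U i).obj F) := by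
  obtain ⟨n, rfl⟩ : ∃ n, i = n + 1 := ⟨i - 1, by omega⟩
  have := preservesFiniteLimits_sectSuppF (X := X) U
  exact Groth.Agent.Lib.AcyclicClass.isZero_rightDerived_succ (LocCohZ.sectSuppF U)
    (fun F : CohTop.Ab X => TopCat.Sheaf.IsFlasque F)
    (fun F G e hF => isFlasque_of_iso e hF)
    (fun I _ => isFlasque_of_injective I)
    (fun S hS h1 h2 => by
      have : TopCat.Sheaf.IsFlasque S.X₁ := h1
      have : TopCat.Sheaf.IsFlasque S.X₂ := h2
      exact TopCat.Sheaf.IsFlasque.of_shortExact_of_isFlasque₁₂ hS)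
    (fun S hS h1 => epi_sectSupp_of_flasque U S hS h1)
    F inferInstance n

/-- Let F be a flasque abelian sheaf on a topological space X. Then H^i_Z(V, F) = 0 for every locally
closed subset Z = V − W (W ⊆ V opens of X) and every i > 0, and ℋ^i_Z(F) = 0 for every closed subset
Z = X − U and every i > 0. (The sheaf assertion is stated for closed Z only.) -/
theorem result {X : TopCat.{u}} (F : CohTop.Ab X) [TopCat.Sheaf.IsFlasque F] :
    (∀ (W V : Opens X) (h : W ≤ V) (i : ℕ), 0 < i → Subsingleton (LocCohZ.HZ F i h)) ∧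
      ∀ (U : Opens X) (i : ℕ), 0 < i → IsZero ((LocCohZ.HZsh U i).obj F) := by
  exact ⟨fun W V h i hi => part1 F W V h i hi, fun U i hi => part2 F U i hi⟩

end Groth.Agent.S6023
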