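import Groth.Statements.S9623
import Groth.Agent.Lib.H71SepClosedGeom
import Mathlib.AlgebraicGeometry.Geometrically.Connected

set_option autoImplicit false
universe u
open CAlg

namespace Groth.Agent.S9623

open TensorProduct in
/-- Let k be a separably closed field and R, S two k-algebras with connected (nonempty) spectra. Then
Spec(R ⊗_k S) is connected. -/
theorem result {k R S : Type u} [Field k] [IsSepClosed k] [CommRing R] [CommRing S] [Algebra k R] [Algebra k S]
    [ConnectedSpace (PrimeSpectrum R)] [ConnectedSpace (PrimeSpectrum S)] :
    ConnectedSpace (PrimeSpectrum (R ⊗[k] S)) := by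
  open AlgebraicGeometry CategoryTheory CategoryTheory.Limits in
  let f : Spec (CommRingCat.of R) ⟶ Spec (CommRingCat.of k) :=
    Spec.map (CommRingCat.ofHom (algebraMap k R))
  let g : Spec (CommRingCat.of S) ⟶ Spec (CommRingCat.of k) :=
    Spec.map (CommRingCat.ofHom (algebraMap k S))
  have hS : ConnectedSpace ↥(Spec (CommRingCat.of S)) :=
    (inferInstance : ConnectedSpace (PrimeSpectrum S))
  have hR : ConnectedSpace ↥(Spec (CommRingCat.of R)) :=
    (inferInstance : ConnectedSpace (PrimeSpectrum R))
  have hg : GeometricallyConnected g :=
    Groth.Agent.Lib.H71SepClosedGeom.geometricallyConnected_of_connectedSpace g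
  have hc : ConnectedSpace ↥(pullback f g) := inferInstance
  have e := (pullbackSpecIso k R S).hom.homeomorph
  exact e.surjective.connectedSpace e.continuous

end Groth.Agent.S9623
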