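import Groth.Statements.S13696
import Groth.Agent.Lib.CayleyHam23

set_option autoImplicit false
universe u
open scoped TensorProduct
open ZeroCyc

namespace Groth.Agent.S13696

open Groth.Agent.Lib.KerBC23

section

variable {A : Type u} [CommRing A] {B : Type u} [CommRing B] [Algebra A B] {d : ℕ}

theorem eq_rid_tmul {S : Type u} [CommRing S] [Algebra A S] (g : S ⊗[A] A) :
    g = (TensorProduct.rid A S g) ⊗ₜ[A] (1 : A) := by
  induction g using TensorProduct.induction_on with
  | zero => simp
  | tmul x a => simp [TensorProduct.smul_tmul]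
  | add x y hx hy => rw [map_add, TensorProduct.add_tmul, ← hx, ← hy]

/-- For `b ∈ ker F` the characteristic polynomial is `(-X)^d`. -/
theorem chi_of_mem_ker (F : PolLaw.MulLaw A B A d) (b : B) (hb : b ∈ PolLaw.ker F.law) :
    F.law.toFun' (Polynomial A) ((1 : Polynomial A) ⊗ₜ[A] b - Polynomial.X ⊗ₜ[A] (1 : B)) =
      ((-Polynomial.X) ^ d : Polynomial A) ⊗ₜ[A] (1 : A) := by
  have h1 := hb (Polynomial A) (-(Polynomial.X ⊗ₜ[A] (1 : B))) 1
  rw [one_mul] at h1
  have h2 : (1 : Polynomial A) ⊗ₜ[A] b - Polynomial.X ⊗ₜ[A] (1 : B) =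
      -(Polynomial.X ⊗ₜ[A] (1 : B)) + (1 : Polynomial A) ⊗ₜ[A] b := by
    rw [sub_eq_add_neg, add_comm]
  rw [h2, h1]
  have h3 : -(Polynomial.X ⊗ₜ[A] (1 : B)) = (-Polynomial.X : Polynomial A) • (1 : Polynomial A ⊗[A] B) := by
    rw [Algebra.TensorProduct.one_def, TensorProduct.smul_tmul', smul_eq_mul, mul_one, TensorProduct.neg_tmul]
  rw [h3, F.homog, (F.mult _).1, Algebra.TensorProduct.one_def, TensorProduct.smul_tmul', smul_eq_mul, mul_one]

end

/-- Let F : B → A be a multiplicative polynomial law homogeneous of degree d, where B is a commutative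
algebra over the commutative ring A. For b ∈ B the characteristic polynomial of b with respect to F
is χ_b = F_{A[X]}(1 ⊗ b − X ⊗ 1) ∈ A[X] ⊗_A A = A[X], and the Cayley–Hamilton ideal of F is the
ideal of B generated by the elements χ_b(b), b ∈ B. Then the Cayley–Hamilton ideal is contained in
the kernel of F, and the kernel of F is contained in the radical of the Cayley–Hamilton ideal. -/
theorem result {A : Type u} [CommRing A] {B : Type u} [CommRing B] [Algebra A B]
    {d : ℕ} (F : PolLaw.MulLaw A B A d) (χ : B → Polynomial A)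
    (hχ : ∀ b : B, χ b = TensorProduct.rid A (Polynomial A)
      (F.law.toFun' (Polynomial A) ((1 : Polynomial A) ⊗ₜ[A] b - Polynomial.X ⊗ₜ[A] (1 : B)))) :
    Ideal.span (Set.range fun b : B => Polynomial.aeval b (χ b)) ≤ PolLaw.ker F.law ∧
      PolLaw.ker F.law ≤ (Ideal.span (Set.range fun b : B => Polynomial.aeval b (χ b))).radical := by
  constructor
  · rw [Ideal.span_le]
    rintro _ ⟨b, rfl⟩
    apply Groth.Agent.Lib.CayleyHam23.cayley_hamilton F b (χ b)
    rw [hχ b]
    exact Groth.Agent.S13696.eq_rid_tmul _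
  · intro b hb
    refine ⟨d, ?_⟩
    have h1 : χ b = (-Polynomial.X) ^ d := by
      rw [hχ b, Groth.Agent.S13696.chi_of_mem_ker F b hb, TensorProduct.rid_tmul, one_smul]
    have h2 : Polynomial.aeval b (χ b) = (-b) ^ d := by
      rw [h1, map_pow, map_neg, Polynomial.aeval_X]
    have h3 : b ^ d = (-1) ^ d * Polynomial.aeval b (χ b) := by
      rw [h2, ← mul_pow, neg_one_mul, neg_neg]
    rw [h3]
    exact Ideal.mul_mem_left _ _ (Ideal.subset_span ⟨b, rfl⟩)

end Groth.Agent.S13696
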