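import Groth.Statements.S4795
import Groth.Agent.Lib.ConsPairGeomInst

set_option autoImplicit false
universe u
open CategoryTheory AlgebraicGeometry
open Lim8

namespace Groth.Agent.S4795

/-- Let S = lim S_i be a cofiltered limit of schemes with affine transition maps and S_{i₀} a
quasi-compact quasi-separated stage; let X₀ and Y₀ be schemes of finite presentation over S_{i₀},
and let X, Y be their base changes along S ⟶ S_{i₀} (base changes are expressed by pullback
squares). Then X and Y are isomorphic over S if and only if, for some index j over i₀, the base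
changes X_j and Y_j of X₀ and Y₀ along S_j ⟶ S_{i₀} are isomorphic over S_j. -/
theorem result {I : Type u} [SmallCategory I] [IsCofiltered I]
    (D : I ⥤ Scheme.{u}) (c : Limits.Cone D) (hc : Limits.IsLimit c)
    [∀ (i j : I) (f : i ⟶ j), IsAffineHom (D.map f)] (i₀ : I)
    [CompactSpace (D.obj i₀)] [QuasiSeparatedSpace (D.obj i₀)]
    {X₀ Y₀ : Scheme.{u}} (a₀ : X₀ ⟶ D.obj i₀) (b₀ : Y₀ ⟶ D.obj i₀)
    [LocallyOfFinitePresentation a₀] [QuasiCompact a₀] [QuasiSeparated a₀]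
    [LocallyOfFinitePresentation b₀] [QuasiCompact b₀] [QuasiSeparated b₀]
    {X Y : Scheme.{u}} (a : X ⟶ c.pt) (b : Y ⟶ c.pt) (qX : X ⟶ X₀) (qY : Y ⟶ Y₀)
    (hX : IsPullback qX a a₀ (c.π.app i₀)) (hY : IsPullback qY b b₀ (c.π.app i₀)) :
    (∃ e : X ≅ Y, e.hom ≫ b = a) ↔
      ∃ (j : I) (φ : j ⟶ i₀) (Xj Yj : Scheme.{u}) (aj : Xj ⟶ D.obj j) (bj : Yj ⟶ D.obj j)
        (pX : Xj ⟶ X₀) (pY : Yj ⟶ Y₀), IsPullback pX aj a₀ (D.map φ) ∧ IsPullback pY bj b₀ (D.map φ) ∧
        ∃ e : Xj ≅ Yj, e.hom ≫ bj = aj := by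
  haveI : ∀ {i j : I} (f : i ⟶ j), IsAffineHom (D.map f) := fun f => inferInstance
  haveI : CompactSpace X₀ := QuasiCompact.compactSpace_of_compactSpace a₀
  haveI : CompactSpace Y₀ := QuasiCompact.compactSpace_of_compactSpace b₀
  haveI : QuasiSeparatedSpace X₀ := quasiSeparatedSpace_of_quasiSeparated a₀
  haveI : QuasiSeparatedSpace Y₀ := quasiSeparatedSpace_of_quasiSeparated b₀
  constructor
  · rintro ⟨e, he⟩
    let iX : X ≅ Limits.pullback a₀ (c.π.app i₀) := hX.isoPullback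
    let iY : Y ≅ Limits.pullback b₀ (c.π.app i₀) := hY.isoPullback
    let g' : Limits.pullback a₀ (c.π.app i₀) ⟶ Limits.pullback b₀ (c.π.app i₀) :=
      iX.inv ≫ e.hom ≫ iY.hom
    have e1 : iY.hom ≫ Limits.pullback.snd b₀ (c.π.app i₀) = b := hY.isoPullback_hom_snd
    have e2 : iX.inv ≫ a = Limits.pullback.snd a₀ (c.π.app i₀) := hX.isoPullback_inv_snd
    have hg' : g' ≫ Limits.pullback.snd b₀ (c.π.app i₀) = Limits.pullback.snd a₀ (c.π.app i₀) :=
      calc g' ≫ Limits.pullback.snd b₀ (c.π.app i₀)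
          = iX.inv ≫ e.hom ≫ (iY.hom ≫ Limits.pullback.snd b₀ (c.π.app i₀)) := by
            simp only [g', Category.assoc]
        _ = iX.inv ≫ e.hom ≫ b := by rw [e1]
        _ = iX.inv ≫ a := by rw [he]
        _ = Limits.pullback.snd a₀ (c.π.app i₀) := e2
    have hiso : (MorphismProperty.isomorphisms Scheme.{u}) g' :=
      (inferInstance : IsIso (iX.inv ≫ e.hom ≫ iY.hom))
    obtain ⟨k, φ, Xk, Yk, pX, qXk, pY, qYk, gk, hXk, hYk, hgk, hPgk⟩ :=
      Groth.Agent.Lib.SpreadPair.exists_stage_pair D c hc (MorphismProperty.isomorphisms Scheme.{u})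
        Groth.Agent.Lib.ConsPairGeom.descends_isIso a₀ b₀ g' hg' hiso
    haveI : IsIso gk := hPgk
    exact ⟨k, φ, Xk, Yk, qXk, qYk, pX, pY, hXk, hYk, asIso gk, hgk⟩
  · rintro ⟨j, φ, Xj, Yj, aj, bj, pX, pY, hXj, hYj, e, he⟩
    have hw : c.π.app j ≫ D.map φ = c.π.app i₀ := c.w φ
    -- `X = X_j ×_{D j} c.pt`
    let lX : X ⟶ Xj := hXj.lift qX (a ≫ c.π.app j) (by rw [Category.assoc, hw, hX.w])
    have lX1 : lX ≫ pX = qX := hXj.lift_fst _ _ _
    have lX2 : lX ≫ aj = a ≫ c.π.app j := hXj.lift_snd _ _ _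
    have sqX : IsPullback lX a aj (c.π.app j) := by
      refine IsPullback.of_right ?_ lX2 hXj
      rw [lX1, hw]; exact hX
    let lY : Y ⟶ Yj := hYj.lift qY (b ≫ c.π.app j) (by rw [Category.assoc, hw, hY.w])
    have lY1 : lY ≫ pY = qY := hYj.lift_fst _ _ _
    have lY2 : lY ≫ bj = b ≫ c.π.app j := hYj.lift_snd _ _ _
    have sqY : IsPullback lY b bj (c.π.app j) := by
      refine IsPullback.of_right ?_ lY2 hYj
      rw [lY1, hw]; exact hY
    let g : X ⟶ Y := sqY.lift (lX ≫ e.hom) a (by rw [Category.assoc, he, lX2])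
    have g1 : g ≫ lY = lX ≫ e.hom := sqY.lift_fst _ _ _
    have g2 : g ≫ b = a := sqY.lift_snd _ _ _
    have sq : IsPullback lX g e.hom lY := by
      refine IsPullback.of_bot ?_ g1.symm sqY
      rw [g2, he]; exact sqX
    haveI : IsIso g :=
      MorphismProperty.of_isPullback (P := MorphismProperty.isomorphisms Scheme.{u}) sq
        (inferInstance : IsIso e.hom)
    exact ⟨asIso g, g2⟩

end Groth.Agent.S4795
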