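import Groth.Statements.S2004
import Mathlib.Tactic.LinearCombination
import Mathlib.Tactic.Ring

set_option autoImplicit false
universe u
open EtAlg
open TensorProduct

namespace Groth.Agent.S2004

section
variable {R R' : Type u} [CommRing R] [CommRing R'] [Algebra R R'] (f : R)

lemma algebraMap_away_eq_zero_iff (r : R) :
    algebraMap R (Localization.Away f) r = 0 ↔ ∃ n : ℕ, f ^ n * r = 0 := by
  rw [IsLocalization.map_eq_zero_iff (Submonoid.powers f)]
  constructor
  · rintro ⟨⟨_, n, rfl⟩, h⟩
    exact ⟨n, h⟩
  · rintro ⟨n, h⟩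
    exact ⟨⟨f ^ n, n, rfl⟩, h⟩

lemma awayMap_algebraMap (r : R) :
    Localization.awayMap (algebraMap R R') f (algebraMap R (Localization.Away f) r) =
      algebraMap R' (Localization.Away (algebraMap R R' f)) (algebraMap R R' r) := by
  simp [Localization.awayMap, IsLocalization.Away.map, IsLocalization.map_eq]

/-- injectivity part of the bijectivity on quotients, elementwise -/
lemma quot_inj (hq : EtGlue.QuotPowBijective R R' f) (n : ℕ) (hn : 0 < n) (a : R) (c : R')
    (h : algebraMap R R' a = c * algebraMap R R' f ^ n) : ∃ r : R, a = r * f ^ n := by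
  have hmem : algebraMap R R' a ∈ Ideal.map (algebraMap R R') (Ideal.span {f ^ n}) := by
    rw [Ideal.map_span, Set.image_singleton, map_pow, h]
    exact Ideal.mem_span_singleton'.mpr ⟨c, rfl⟩
  have h0 : Ideal.quotientMap (Ideal.map (algebraMap R R') (Ideal.span {f ^ n})) (algebraMap R R')
      Ideal.le_comap_map (Ideal.Quotient.mk _ a) = 0 := by
    rw [Ideal.quotientMap_mk]
    exact Ideal.Quotient.eq_zero_iff_mem.mpr hmem
  have := (hq n hn).1 (h0.trans (map_zero _).symm)
  obtain ⟨r, hr⟩ := Ideal.mem_span_singleton'.mp (Ideal.Quotient.eq_zero_iff_mem.mp this)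
  exact ⟨r, hr.symm⟩

/-- surjectivity part of the bijectivity on quotients, elementwise -/
lemma quot_surj (hq : EtGlue.QuotPowBijective R R' f) (n : ℕ) (hn : 0 < n) (x' : R') :
    ∃ (a : R) (c : R'), x' = algebraMap R R' a + c * algebraMap R R' f ^ n := by
  obtain ⟨a', ha'⟩ := (hq n hn).2 (Ideal.Quotient.mk _ x')
  obtain ⟨a, rfl⟩ := Ideal.Quotient.mk_surjective a'
  rw [Ideal.quotientMap_mk, Ideal.Quotient.eq, Ideal.map_span, Set.image_singleton, map_pow] at ha'
  obtain ⟨c, hc⟩ := Ideal.mem_span_singleton'.mp ha'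
  refine ⟨a, -c, ?_⟩
  rw [neg_mul, hc]
  ring

end

theorem result (R R' : Type u) [CommRing R] [CommRing R'] [Algebra R R'] (f : R)
    (hq : EtGlue.QuotPowBijective R R' f) :
    EtGlue.IsGlueingPair R R' f ↔
      ((∀ x : R, (∃ n : ℕ, f ^ n * x = 0) → algebraMap R R' x = 0 → x = 0) ∧
       (∀ x' : R', (∃ n : ℕ, algebraMap R R' f ^ n * x' = 0) →
          ∃ x : R, (∃ n : ℕ, f ^ n * x = 0) ∧ algebraMap R R' x = x')) := by
  have hu : IsUnit (algebraMap R (Localization.Away f) f) :=
    IsLocalization.Away.algebraMap_isUnit f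
  have hu' : IsUnit (algebraMap R' (Localization.Away (algebraMap R R' f)) (algebraMap R R' f)) :=
    IsLocalization.Away.algebraMap_isUnit (algebraMap R R' f)
  constructor
  · rintro ⟨-, hinj, hmid, -⟩
    refine ⟨fun x hx hx' => ?_, fun x' hx' => ?_⟩
    · apply hinj
      simp only [map_zero, Prod.mk.injEq]
      exact ⟨hx', (algebraMap_away_eq_zero_iff f x).mpr hx⟩
    · have h0 : algebraMap R' (Localization.Away (algebraMap R R' f)) x' =
          Localization.awayMap (algebraMap R R') f 0 := by
        rw [map_zero, algebraMap_away_eq_zero_iff]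
        exact hx'
      obtain ⟨r, hr1, hr2⟩ := hmid x' 0 h0
      exact ⟨r, (algebraMap_away_eq_zero_iff f r).mp hr2, hr1⟩
  · rintro ⟨hT1, hT2⟩
    refine ⟨hq, ?_, ?_, ?_⟩
    · intro r s hrs
      simp only [Prod.mk.injEq] at hrs
      have h1 : algebraMap R R' (r - s) = 0 := by rw [map_sub, hrs.1, sub_self]
      have h2 : algebraMap R (Localization.Away f) (r - s) = 0 := by rw [map_sub, hrs.2, sub_self]
      exact sub_eq_zero.mp (hT1 _ ((algebraMap_away_eq_zero_iff f _).mp h2) h1)
    · intro x y hxy
      obtain ⟨n, a, hya⟩ := IsLocalization.Away.surj f y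
      -- transport to R'_f
      have h1 : algebraMap R' (Localization.Away (algebraMap R R' f))
          (x * algebraMap R R' f ^ n - algebraMap R R' a) = 0 := by
        have e := congrArg (Localization.awayMap (algebraMap R R') f) hya
        rw [map_mul, map_pow, awayMap_algebraMap, awayMap_algebraMap] at e
        rw [map_sub, map_mul, map_pow, hxy, e, sub_self]
      obtain ⟨k, hk⟩ := (algebraMap_away_eq_zero_iff _ _).mp h1
      -- a * f^(k+1) is divisible by f^(n+k+1)
      have h2 : algebraMap R R' (a * f ^ (k + 1)) = x * algebraMap R R' f ^ (n + k + 1) := by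
        have : algebraMap R R' f ^ (k + 1) * (x * algebraMap R R' f ^ n - algebraMap R R' a) = 0 := by
          rw [pow_succ', mul_assoc, hk, mul_zero]
        rw [map_mul, map_pow]
        linear_combination (-1 : R') * this
      obtain ⟨r, hr⟩ := quot_inj f hq (n + k + 1) (Nat.succ_pos _) _ _ h2
      have hy : y = algebraMap R (Localization.Away f) r := by
        have hunit : IsUnit (algebraMap R (Localization.Away f) f ^ (n + k + 1)) := hu.pow _
        apply hunit.mul_left_injective
        simp only
        rw [← map_pow, ← map_mul, ← hr, map_mul, ← hya, map_pow, map_pow]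
        ring
      have h3 : algebraMap R' (Localization.Away (algebraMap R R' f)) (x - algebraMap R R' r) = 0 := by
        rw [map_sub, hxy, hy, awayMap_algebraMap, sub_self]
      obtain ⟨t, ht, htx⟩ := hT2 _ ((algebraMap_away_eq_zero_iff _ _).mp h3)
      refine ⟨r + t, ?_, ?_⟩
      · rw [map_add, htx]; ring
      · rw [map_add, (algebraMap_away_eq_zero_iff f t).mpr ht, add_zero, hy]
    · intro z
      obtain ⟨n, x', hz⟩ := IsLocalization.Away.surj (algebraMap R R' f) z
      obtain ⟨a, c, hac⟩ := quot_surj f hq (n + 1) (Nat.succ_pos _) (x' * algebraMap R R' f)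
      refine ⟨c, - IsLocalization.mk' (Localization.Away f) a
        (⟨f ^ (n + 1), n + 1, rfl⟩ : Submonoid.powers f), ?_⟩
      have hunit : IsUnit (algebraMap R' (Localization.Away (algebraMap R R' f))
          (algebraMap R R' f) ^ (n + 1)) := hu'.pow _
      apply hunit.mul_left_injective
      simp only
      rw [map_neg, sub_neg_eq_add, add_mul, pow_succ, ← mul_assoc z, hz, ← map_mul, hac, map_add,
        map_mul, map_pow, ← pow_succ, add_comm]
      congr 1
      rw [← awayMap_algebraMap, ← map_pow, ← awayMap_algebraMap, ← map_mul]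
      congr 1
      rw [← map_pow]
      exact (IsLocalization.mk'_spec (Localization.Away f) a
        (⟨f ^ (n + 1), n + 1, rfl⟩ : Submonoid.powers f))

end Groth.Agent.S2004
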