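import Groth.Statements.S2005
import Groth.Agent.Lib.EtGlueQuot
import Mathlib.LinearAlgebra.TensorProduct.RightExactness
import Mathlib.RingTheory.Localization.BaseChange
import Mathlib.LinearAlgebra.TensorProduct.Prod

set_option autoImplicit false
universe u
open EtAlg
open TensorProduct

namespace Groth.Agent.S2005

open Groth.Agent.Lib.EtGlueQuot

section
variable {R R' : Type u} [CommRing R] [CommRing R'] [Algebra R R'] {f : R}

/-- `M/f^n M → (R' ⊗ M)/f^n (R' ⊗ M)` is injective, elementwise. -/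
lemma tmul_mem_smul (hq : EtGlue.QuotPowBijective R R' f) (n : ℕ) (hn : 0 < n)
    (M : Type u) [AddCommGroup M] [Module R M] (b : M) (z : R' ⊗[R] M)
    (h : (1 : R') ⊗ₜ[R] b = f ^ n • z) : ∃ r : M, b = f ^ n • r := by
  let K : Submodule R M := LinearMap.range (LinearMap.lsmul R M (f ^ n))
  have hP : ∀ x : M ⧸ K, f ^ n • x = 0 := by
    intro x
    obtain ⟨m, rfl⟩ := K.mkQ_surjective x
    rw [← map_smul, Submodule.mkQ_apply, Submodule.Quotient.mk_eq_zero]
    exact ⟨m, rfl⟩
  obtain ⟨ρ, hρ⟩ := exists_retraction hq n hn (M ⧸ K) hP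
  have h1 := congrArg (fun t => ρ (K.mkQ.lTensor R' t)) h
  simp only [LinearMap.lTensor_tmul, hρ, map_smul, hP] at h1
  rw [Submodule.mkQ_apply, Submodule.Quotient.mk_eq_zero] at h1
  obtain ⟨r, hr⟩ := h1
  exact ⟨r, hr.symm⟩

variable (f) in
lemma mk_eq_zero_iff (M : Type u) [AddCommGroup M] [Module R M] (m : M) :
    LocalizedModule.mkLinearMap (Submonoid.powers f) M m = 0 ↔ ∃ n : ℕ, f ^ n • m = 0 := by
  constructor
  · intro h
    rw [← map_zero (LocalizedModule.mkLinearMap (Submonoid.powers f) M)] at h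
    obtain ⟨⟨_, n, rfl⟩, hc⟩ := IsLocalizedModule.exists_of_eq (S := Submonoid.powers f) h
    refine ⟨n, ?_⟩
    simpa [Submonoid.smul_def] using hc
  · rintro ⟨n, hn⟩
    have hinj := IsLocalizedModule.smul_injective
      (LocalizedModule.mkLinearMap (Submonoid.powers f) M) (⟨f ^ n, n, rfl⟩ : Submonoid.powers f)
    apply hinj
    simp only [Submonoid.smul_def, smul_zero]
    rw [← map_smul, hn, map_zero]


lemma glueable_of_torsion (hq : EtGlue.QuotPowBijective R R' f)
    (M : Type u) [AddCommGroup M] [Module R M]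
    (hT1 : ∀ m : M, (∃ n : ℕ, f ^ n • m = 0) → (1 : R') ⊗ₜ[R] m = 0 → m = 0)
    (hT2 : ∀ x : R' ⊗[R] M, (∃ n : ℕ, f ^ n • x = 0) →
      ∃ m : M, (∃ n : ℕ, f ^ n • m = 0) ∧ (1 : R') ⊗ₜ[R] m = x) :
    EtGlue.IsGlueable R R' f M := by
  constructor
  · intro m m' h
    simp only [Prod.mk.injEq] at h
    have h1 : (1 : R') ⊗ₜ[R] (m - m') = 0 := by rw [TensorProduct.tmul_sub, h.1, sub_self]
    have h2 : LocalizedModule.mkLinearMap (Submonoid.powers f) M (m - m') = 0 := by
      rw [map_sub, h.2, sub_self]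
    exact sub_eq_zero.mp (hT1 _ ((mk_eq_zero_iff f M _).mp h2) h1)
  · intro x y hxy
    obtain ⟨⟨a, s⟩, hy⟩ := IsLocalizedModule.mk'_surjective (Submonoid.powers f)
      (LocalizedModule.mkLinearMap (Submonoid.powers f) M) y
    obtain ⟨_, n, rfl⟩ := s
    simp only [Function.uncurry] at hy
    have hya : f ^ n • y = LocalizedModule.mkLinearMap (Submonoid.powers f) M a := by
      rw [← hy]
      exact IsLocalizedModule.mk'_cancel' (LocalizedModule.mkLinearMap (Submonoid.powers f) M) a
        (⟨f ^ n, n, rfl⟩ : Submonoid.powers f)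
    have h1 : EtGlue.locOfTensor R R' f M (f ^ n • x - (1 : R') ⊗ₜ[R] a) = 0 := by
      rw [map_sub, map_smul, hxy, ← map_smul, hya, IsLocalizedModule.map_apply]
      simp
    obtain ⟨k, hk⟩ := (mk_eq_zero_iff f (R' ⊗[R] M) _).mp h1
    have h2 : (1 : R') ⊗ₜ[R] (f ^ (k + 1) • a) = f ^ (n + k + 1) • x := by
      have h3 : f ^ (k + 1) • (f ^ n • x - (1 : R') ⊗ₜ[R] a) = 0 := by
        rw [pow_succ', mul_smul, hk, smul_zero]
      rw [smul_sub, sub_eq_zero] at h3
      rw [TensorProduct.tmul_smul, ← h3, ← mul_smul, ← pow_add]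
      congr 2
      omega
    obtain ⟨r, hr⟩ := tmul_mem_smul hq (n + k + 1) (Nat.succ_pos _) M _ _ h2
    have hy' : y = LocalizedModule.mkLinearMap (Submonoid.powers f) M r := by
      apply IsLocalizedModule.smul_injective (LocalizedModule.mkLinearMap (Submonoid.powers f) M)
        (⟨f ^ (n + k + 1), n + k + 1, rfl⟩ : Submonoid.powers f)
      simp only [Submonoid.smul_def]
      rw [← map_smul, ← hr, map_smul, ← hya, ← mul_smul, ← pow_add]
      congr 2
      omega
    have h3 : EtGlue.locOfTensor R R' f M (x - (1 : R') ⊗ₜ[R] r) = 0 := by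
      rw [map_sub, hxy, hy', IsLocalizedModule.map_apply]
      simp
    obtain ⟨t, ht, htx⟩ := hT2 _ ((mk_eq_zero_iff f _ _).mp h3)
    refine ⟨r + t, ?_, ?_⟩
    · rw [TensorProduct.tmul_add, htx]
      abel
    · rw [map_add, (mk_eq_zero_iff f M t).mpr ht, add_zero, hy']

lemma torsion_of_glueable (M : Type u) [AddCommGroup M] [Module R M]
    (h : EtGlue.IsGlueable R R' f M) :
    (∀ m : M, (∃ n : ℕ, f ^ n • m = 0) → (1 : R') ⊗ₜ[R] m = 0 → m = 0) ∧
    (∀ x : R' ⊗[R] M, (∃ n : ℕ, f ^ n • x = 0) →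
      ∃ m : M, (∃ n : ℕ, f ^ n • m = 0) ∧ (1 : R') ⊗ₜ[R] m = x) := by
  obtain ⟨hinj, hmid⟩ := h
  refine ⟨fun m hm hm' => ?_, fun x hx => ?_⟩
  · apply hinj
    simp only [TensorProduct.tmul_zero, map_zero, Prod.mk.injEq]
    exact ⟨hm', (mk_eq_zero_iff f M m).mpr hm⟩
  · have h0 : EtGlue.locOfTensor R R' f M x = EtGlue.tensorOfLoc R R' f M 0 := by
      rw [map_zero]
      exact (mk_eq_zero_iff f _ x).mpr hx
    obtain ⟨m, hm1, hm2⟩ := hmid x 0 h0
    exact ⟨m, (mk_eq_zero_iff f M m).mp hm2, hm1⟩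


lemma awayMap_algebraMap' (r : R) :
    Localization.awayMap (algebraMap R R') f (algebraMap R (Localization.Away f) r) =
      algebraMap R' (Localization.Away (algebraMap R R' f)) (algebraMap R R' r) := by
  simp [Localization.awayMap, IsLocalization.Away.map, IsLocalization.map_eq]

lemma torsion_surj_of_glueingPair (hRR : EtGlue.IsGlueingPair R R' f)
    (M : Type u) [AddCommGroup M] [Module R M]
    (x : R' ⊗[R] M) (hx : ∃ n : ℕ, f ^ n • x = 0) :
    ∃ m : M, (∃ n : ℕ, f ^ n • m = 0) ∧ (1 : R') ⊗ₜ[R] m = x := by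
  obtain ⟨-, -, hmid, hsurj⟩ := hRR
  obtain ⟨n, hn⟩ := hx
  let α : R' →ₗ[R] Localization.Away (algebraMap R R' f) :=
    (IsScalarTower.toAlgHom R R' (Localization.Away (algebraMap R R' f))).toLinearMap
  let β : Localization.Away f →ₗ[R] Localization.Away (algebraMap R R' f) :=
    { toFun := Localization.awayMap (algebraMap R R') f
      map_add' := map_add _
      map_smul' := by
        intro r y
        rw [Algebra.smul_def, map_mul, awayMap_algebraMap', RingHom.id_apply, Algebra.smul_def,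
          IsScalarTower.algebraMap_apply R R' (Localization.Away (algebraMap R R' f))] }
  let ι : R →ₗ[R] R' × Localization.Away f :=
    (Algebra.linearMap R R').prod (Algebra.linearMap R (Localization.Away f))
  let δ : R' × Localization.Away f →ₗ[R] Localization.Away (algebraMap R R' f) :=
    α.coprod (-β)
  have hδ : ∀ p : R' × Localization.Away f, δ p =
      algebraMap R' (Localization.Away (algebraMap R R' f)) p.1 -
        Localization.awayMap (algebraMap R R') f p.2 := by
    intro p
    simp only [δ, LinearMap.coprod_apply, LinearMap.neg_apply]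
    rw [← sub_eq_add_neg]
    rfl
  have hexact : Function.Exact ι δ := by
    intro p
    constructor
    · intro hp
      rw [hδ, sub_eq_zero] at hp
      obtain ⟨r, hr1, hr2⟩ := hmid p.1 p.2 hp
      exact ⟨r, Prod.ext hr1 hr2⟩
    · rintro ⟨r, rfl⟩
      rw [hδ, sub_eq_zero]
      exact (awayMap_algebraMap' r).symm
  have hδsurj : Function.Surjective δ := by
    intro z
    obtain ⟨a, b, hab⟩ := hsurj z
    exact ⟨(a, b), (hδ _).trans hab⟩
  have hex := rTensor_exact M hexact hδsurj
  let z : (R' × Localization.Away f) ⊗[R] M := (LinearMap.inl R R' (Localization.Away f)).rTensor M x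
  -- the image of z vanishes
  have hz : δ.rTensor M z = 0 := by
    have h1 : δ.rTensor M z = α.rTensor M x := by
      rw [← LinearMap.rTensor_comp_apply]
      congr 2
      ext r
      simp [δ]
    rw [h1]
    have hu : IsUnit (algebraMap R' (Localization.Away (algebraMap R R' f)) (algebraMap R R' f)) :=
      IsLocalization.Away.algebraMap_isUnit (algebraMap R R' f)
    obtain ⟨u, hu'⟩ := (hu.pow n).exists_left_inv
    let ν : Localization.Away (algebraMap R R' f) →ₗ[R] Localization.Away (algebraMap R R' f) :=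
      LinearMap.mulLeft R u
    let μ : Localization.Away (algebraMap R R' f) →ₗ[R] Localization.Away (algebraMap R R' f) :=
      f ^ n • LinearMap.id
    have hνμ : ν ∘ₗ μ = LinearMap.id := by
      ext y
      simp only [LinearMap.coe_comp, Function.comp_apply, LinearMap.smul_apply, LinearMap.id_coe,
        id_eq, LinearMap.mulLeft_apply, ν, μ]
      rw [Algebra.smul_def, IsScalarTower.algebraMap_apply R R' (Localization.Away (algebraMap R R' f)),
        map_pow, map_pow, ← mul_assoc, hu', one_mul]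
    have h2 : α.rTensor M x = (ν ∘ₗ μ).rTensor M (α.rTensor M x) := by
      rw [hνμ, LinearMap.rTensor_id, LinearMap.id_apply]
    rw [h2, LinearMap.rTensor_comp_apply]
    have h3 : μ.rTensor M (α.rTensor M x) = 0 := by
      simp only [μ, LinearMap.rTensor_smul, LinearMap.rTensor_id, LinearMap.smul_apply,
        LinearMap.id_apply]
      rw [← map_smul, hn, map_zero]
    rw [h3, map_zero]
  obtain ⟨w, hw⟩ := (hex z).mp hz
  obtain ⟨m, rfl⟩ := (TensorProduct.lid R M).symm.surjective w
  rw [TensorProduct.lid_symm_apply, LinearMap.rTensor_tmul] at hw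
  refine ⟨m, ?_, ?_⟩
  · have h1 := congrArg ((LinearMap.snd R R' (Localization.Away f)).rTensor M) hw
    rw [LinearMap.rTensor_tmul] at h1
    simp only [z] at h1
    rw [← LinearMap.rTensor_comp_apply] at h1
    have h2 : (LinearMap.snd R R' (Localization.Away f)) ∘ₗ (LinearMap.inl R R' (Localization.Away f))
        = 0 := by ext; simp
    rw [h2, LinearMap.rTensor_zero, LinearMap.zero_apply] at h1
    have h3 : (LinearMap.snd R R' (Localization.Away f)) (ι 1) = 1 := by simp [ι]
    rw [h3] at h1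
    have h4 := congrArg (LocalizedModule.equivTensorProduct (Submonoid.powers f) M).symm h1
    rw [LocalizedModule.equivTensorProduct_symm_apply_tmul_one, map_zero] at h4
    exact (mk_eq_zero_iff f M m).mp h4
  · have h1 := congrArg ((LinearMap.fst R R' (Localization.Away f)).rTensor M) hw
    rw [LinearMap.rTensor_tmul] at h1
    simp only [z] at h1
    rw [← LinearMap.rTensor_comp_apply] at h1
    have h2 : (LinearMap.fst R R' (Localization.Away f)) ∘ₗ (LinearMap.inl R R' (Localization.Away f))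
        = LinearMap.id := by ext; simp
    rw [h2, LinearMap.rTensor_id, LinearMap.id_apply] at h1
    have h3 : (LinearMap.fst R R' (Localization.Away f)) (ι 1) = 1 := by simp [ι]
    rw [h3] at h1
    exact h1

end

theorem result (R R' : Type u) [CommRing R] [CommRing R'] [Algebra R R'] (f : R)
    (hq : EtGlue.QuotPowBijective R R' f) (M : Type u) [AddCommGroup M] [Module R M] :
    (EtGlue.IsGlueable R R' f M ↔
      ((∀ m : M, (∃ n : ℕ, f ^ n • m = 0) → (1 : R') ⊗ₜ[R] m = 0 → m = 0) ∧
       (∀ x : R' ⊗[R] M, (∃ n : ℕ, f ^ n • x = 0) → ∃ m : M, (∃ n : ℕ, f ^ n • m = 0) ∧ (1 : R') ⊗ₜ[R] m = x))) ∧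
    (EtGlue.IsGlueingPair R R' f →
      (EtGlue.IsGlueable R R' f M ↔ ∀ m : M, (∃ n : ℕ, f ^ n • m = 0) → (1 : R') ⊗ₜ[R] m = 0 → m = 0)) := by
  refine ⟨⟨torsion_of_glueable M, fun h => glueable_of_torsion hq M h.1 h.2⟩, fun hRR => ?_⟩
  exact ⟨fun h => (torsion_of_glueable M h).1,
    fun h => glueable_of_torsion hq M h (torsion_surj_of_glueingPair hRR M)⟩

end Groth.Agent.S2005
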