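import Groth.Statements.S2006
import Groth.Agent.Lib.EtGlueQuot
import Mathlib.RingTheory.Localization.Finiteness
import Mathlib.RingTheory.TensorProduct.Finite
import Mathlib.Algebra.Module.LocalizedModule.Submodule

set_option autoImplicit false
universe u
open EtAlg
open TensorProduct

namespace Groth.Agent.S2006

open Groth.Agent.Lib.EtGlueQuot

theorem result (R R' : Type u) [CommRing R] [CommRing R'] [Algebra R R'] (f : R)
    (hq : EtGlue.QuotPowBijective R R' f) (M : Type u) [AddCommGroup M] [Module R M] :
    Module.Finite R M ↔ Module.Finite R' (R' ⊗[R] M) ∧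
      Module.Finite (Localization.Away f) (LocalizedModule (Submonoid.powers f) M) := by
  classical
  constructor
  · intro h
    exact ⟨inferInstance, inferInstance⟩
  rintro ⟨h1, h2⟩
  -- generators of the base change of the form `1 ⊗ m`
  obtain ⟨T₁, hT₁⟩ : ∃ T₁ : Finset M,
      Submodule.span R' (TensorProduct.mk R R' M 1 '' (T₁ : Set M)) = ⊤ := by
    have htop : Submodule.span R' (TensorProduct.mk R R' M 1 '' (Set.univ : Set M)) = ⊤ := by
      rw [← Submodule.baseChange_span, Submodule.span_univ, Submodule.baseChange_top]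
    have hfg : (Submodule.span R' (TensorProduct.mk R R' M 1 '' (Set.univ : Set M))).FG := by
      rw [htop]; exact h1.fg_top
    obtain ⟨s', hs', hs'eq⟩ := (Submodule.fg_span_iff_fg_span_finset_subset _).mp hfg
    obtain ⟨T₁, -, rfl⟩ := Finset.subset_set_image_iff.mp hs'
    refine ⟨T₁, ?_⟩
    rw [← Finset.coe_image, ← hs'eq, htop]
  -- generators of the localization of the form `m / 1`
  obtain ⟨T₂, hT₂⟩ : ∃ T₂ : Finset M, Submodule.span (Localization.Away f)
      (LocalizedModule.mkLinearMap (Submonoid.powers f) M '' (T₂ : Set M)) = ⊤ := by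
    have htop : Submodule.span (Localization.Away f)
        (LocalizedModule.mkLinearMap (Submonoid.powers f) M '' (Set.univ : Set M)) = ⊤ := by
      rw [← Submodule.localized'_span (Localization.Away f) (Submonoid.powers f)
        (LocalizedModule.mkLinearMap (Submonoid.powers f) M), Submodule.span_univ,
        Submodule.localized'_top]
    have hfg : (Submodule.span (Localization.Away f)
        (LocalizedModule.mkLinearMap (Submonoid.powers f) M '' (Set.univ : Set M))).FG := by
      rw [htop]; exact h2.fg_top
    obtain ⟨s', hs', hs'eq⟩ := (Submodule.fg_span_iff_fg_span_finset_subset _).mp hfg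
    obtain ⟨T₂, -, rfl⟩ := Finset.subset_set_image_iff.mp hs'
    refine ⟨T₂, ?_⟩
    rw [← Finset.coe_image, ← hs'eq, htop]
  let N : Submodule R M := Submodule.span R ((T₁ ∪ T₂ : Finset M) : Set M)
  have hN1 : Submodule.span R (T₁ : Set M) ≤ N :=
    Submodule.span_mono (by simp)
  have hN2 : Submodule.span R (T₂ : Set M) ≤ N :=
    Submodule.span_mono (by simp)
  -- the quotient is f-power torsion
  have htors : ∀ x : M ⧸ N, ∃ n : ℕ, f ^ n • x = 0 := by
    intro x
    obtain ⟨m, rfl⟩ := N.mkQ_surjective x
    have hm : LocalizedModule.mkLinearMap (Submonoid.powers f) M m ∈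
        Submodule.span (Localization.Away f)
          (LocalizedModule.mkLinearMap (Submonoid.powers f) M '' (T₂ : Set M)) := by
      rw [hT₂]; trivial
    obtain ⟨t, ht⟩ := multiple_mem_span_of_mem_localization_span (Submonoid.powers f)
      (Localization.Away f) _ _ hm
    rw [← Submodule.map_span] at ht
    obtain ⟨m', hm', hm'eq⟩ := ht
    obtain ⟨_, l, rfl⟩ := t
    rw [Submonoid.smul_def, ← map_smul] at hm'eq
    obtain ⟨c, hc⟩ := IsLocalizedModule.exists_of_eq (S := Submonoid.powers f) hm'eq
    obtain ⟨_, k, rfl⟩ := c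
    refine ⟨k + l, ?_⟩
    simp only [Submonoid.smul_def] at hc
    rw [← map_smul, Submodule.mkQ_apply, Submodule.Quotient.mk_eq_zero, pow_add, mul_smul, ← hc]
    exact N.smul_mem _ (hN2 hm')
  -- the base change of the quotient vanishes
  have hzero : ∀ m : M, (1 : R') ⊗ₜ[R] (N.mkQ m) = 0 := by
    intro m
    have hmem : (1 : R') ⊗ₜ[R] m ∈ N.baseChange R' := by
      have : (Submodule.span R (T₁ : Set M)).baseChange R' = ⊤ := by
        rw [Submodule.baseChange_span, hT₁]
      have h3 : (Submodule.span R (T₁ : Set M)).baseChange R' ≤ N.baseChange R' :=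
        Submodule.baseChange_mono R' hN1
      exact h3 (this ▸ trivial)
    obtain ⟨y, hy⟩ := hmem
    have := congrArg (N.mkQ.baseChange R') hy
    rw [LinearMap.baseChange_tmul] at this
    rw [← this, ← LinearMap.comp_apply, ← LinearMap.baseChange_comp]
    have h0 : N.mkQ ∘ₗ N.subtype = 0 := by
      ext x
      simp
    rw [h0, LinearMap.baseChange_zero, LinearMap.zero_apply]
  have hQ : ∀ x : M ⧸ N, x = 0 := by
    intro x
    apply eq_zero_of_one_tmul_eq_zero hq (M ⧸ N) htors
    obtain ⟨m, rfl⟩ := N.mkQ_surjective x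
    exact hzero m
  have hNtop : N = ⊤ := by
    rw [eq_top_iff]
    intro m _
    have := hQ (N.mkQ m)
    rwa [Submodule.mkQ_apply, Submodule.Quotient.mk_eq_zero] at this
  exact ⟨⟨T₁ ∪ T₂, hNtop⟩⟩

end Groth.Agent.S2006
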