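import Groth.Statements.S0342
import Groth.Agent.S0340
import Groth.Agent.Lib.RegularLocal
import Mathlib.RingTheory.Regular.ProjectiveDimension

set_option autoImplicit false
universe u v
open Goren

namespace Groth.Agent.S0342

/-- Regular local rings have finite injective dimension over themselves, i.e. are Gorenstein. -/
theorem result (A : Type u) [CommRing A] [IsRegularLocalRing A] : LocCoh.IsGorensteinLocalRing A := by
  rw [Groth.Agent.S0340.result A]
  obtain ⟨s, hs₁, hs₂⟩ := Submodule.FG.exists_span_finset_card_eq_spanFinrank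
    (IsNoetherian.noetherian (IsLocalRing.maximalIdeal A))
  set d := (IsLocalRing.maximalIdeal A).spanFinrank with hd
  have hdim : ringKrullDim A = d := (IsRegularLocalRing.spanFinrank_maximalIdeal).symm
  let e := s.equivFinOfCardEq hs₁
  let x : Fin d → A := fun i => ((e.symm i : s) : A)
  have hrange : Set.range x = (s : Set A) := by
    ext a
    constructor
    · rintro ⟨i, rfl⟩
      exact (e.symm i).2
    · intro ha
      exact ⟨e ⟨a, ha⟩, by simp [x]⟩
  have hx : Ideal.span (Set.range x) = IsLocalRing.maximalIdeal A := by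
    rw [hrange]
    exact hs₂
  have reg := Groth.Agent.Lib.RegularLocal.isRegular_ofFn A d hdim x hx
  have hpd := ModuleCat.projectiveDimension_quotient_eq_length.{u} (List.ofFn x) reg
  have hlist : Ideal.ofList (List.ofFn x) = IsLocalRing.maximalIdeal A := by
    rw [← hx]
    unfold Ideal.ofList
    congr 1
    ext r
    simp [List.mem_ofFn]
  let E : ModuleCat.of A (Shrink.{u} (A ⧸ Ideal.ofList (List.ofFn x))) ≅
      ModuleCat.of A (A ⧸ IsLocalRing.maximalIdeal A) :=
    ((Shrink.linearEquiv A _).trans (Submodule.quotEquivOfEq _ _ hlist)).toModuleIso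
  rw [CategoryTheory.projectiveDimension_eq_of_iso E, List.length_ofFn] at hpd
  have hlt : CategoryTheory.HasProjectiveDimensionLT (ModuleCat.of A (A ⧸ IsLocalRing.maximalIdeal A)) (d + 1) :=
    (CategoryTheory.projectiveDimension_le_iff _ d).mp (le_of_eq hpd)
  exact ⟨d + 1, fun i hi => CategoryTheory.HasProjectiveDimensionLT.subsingleton (hX := hlt)
    (ModuleCat.of A (A ⧸ IsLocalRing.maximalIdeal A)) (d + 1) i hi _⟩

end Groth.Agent.S0342
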