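import Groth.Statements.S5167
import Mathlib.Tactic
import Groth.Agent.Lib.H26GorFin
import Groth.Agent.S0342
import Groth.Agent.S0318
-- import your own Groth.Agent.* helpers here

set_option autoImplicit false
universe u
open LocCoh

namespace Groth.Agent.S5167

/-- local cohomology of a zero module vanishes. -/
theorem subsingleton_H_of_subsingleton {B : Type u} [CommRing B] (I : Ideal B) (X : Type u)
    [AddCommGroup X] [Module B X] [Subsingleton X] (j : ℕ) : Subsingleton (LocCoh.H I j X) := by
  refine subsingleton_of_forall_eq 0 fun y => ?_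
  have h0 : (LinearMap.id : X →ₗ[B] X) = 0 := LinearMap.ext fun x => Subsingleton.elim _ _
  rw [← Groth.Agent.Lib.LocCohLES.Hmap_id I j y, h0, Groth.Agent.Lib.LocCohLES.Hmap_zero]

/-- depth via local cohomology, as used below. -/
theorem lt_depth_add_iff {B : Type u} [CommRing B] [IsLocalRing B] [IsNoetherianRing B]
    (X : Type u) [AddCommGroup X] [Module B X] [Module.Finite B X] (n e : ℕ) :
    (n : ℕ∞) < LocCoh.depth B X + e ↔
      ∀ j : ℕ, j + e ≤ n → Subsingleton (LocCoh.H (IsLocalRing.maximalIdeal B) j X) := by
  by_cases hIM : IsLocalRing.maximalIdeal B • (⊤ : Submodule B X) = ⊤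
  · have htop : LocCoh.depth B X = ⊤ := by
      unfold LocCoh.depth LocCoh.idealDepth
      rw [if_pos hIM]
    have hX : Subsingleton X := by
      have h := Submodule.eq_bot_of_le_smul_of_le_jacobson_bot (IsLocalRing.maximalIdeal B)
        (⊤ : Submodule B X) Module.Finite.fg_top hIM.ge
        (IsLocalRing.maximalIdeal_le_jacobson _)
      exact subsingleton_of_forall_eq 0 fun x => by
        have hx : x ∈ (⊤ : Submodule B X) := Submodule.mem_top
        rw [h] at hx
        exact hx
    rw [htop]
    simp only [top_add, ENat.coe_lt_top, true_iff]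
    intro j _
    exact subsingleton_H_of_subsingleton _ X j
  · obtain ⟨d, hd⟩ := ENat.ne_top_iff_exists.mp
      (Groth.Agent.S0318.idealDepth_ne_top (IsLocalRing.maximalIdeal B) X hIM)
    have hdepth : LocCoh.depth B X = d := hd.symm
    rw [hdepth]
    constructor
    · intro h j hj
      have hlt : n < d + e := by exact_mod_cast h
      exact Groth.Agent.S0318.subsingleton_H_of_lt (IsLocalRing.maximalIdeal B) X hIM d
        hd.le j (by omega)
    · intro h
      by_contra hcon
      have hle : d + e ≤ n := by
        have : ¬ (n < d + e) := fun h' => hcon (by exact_mod_cast h')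
        omega
      have h1 := h d hle
      have h2 := Groth.Agent.S0318.nontrivial_H_of_eq (IsLocalRing.maximalIdeal B) X hIM d hd.symm
      exact absurd h2 (not_nontrivial _)

/-- Let A be a Noetherian local ring which is a quotient of a regular local ring, m its maximal ideal, M
a finite A-module and n ≥ 0. Then H^i_m(M) is of finite length for all i ≤ n if and only if
depth(M_p) > n − dim(A/p) for every prime p ≠ m. -/
theorem result (R : Type u) [CommRing R] [IsRegularLocalRing R] (A : Type u) [CommRing A] [IsLocalRing A] [IsNoetherianRing A] (π : R →+* A) (hπ : Function.Surjective π) (M : Type u) [AddCommGroup M] [Module A M] [Module.Finite A M] (n : ℕ) : (∀ i : ℕ, i ≤ n → IsFiniteLength A (LocCoh.H (IsLocalRing.maximalIdeal A) i M)) ↔ ∀ p : PrimeSpectrum A, p.asIdeal ≠ IsLocalRing.maximalIdeal A → ∀ e : ℕ, ringKrullDim (A ⧸ p.asIdeal) = e → (n : ℕ∞) < LocCoh.depth (Localization.AtPrime p.asIdeal) (LocalizedModule p.asIdeal.primeCompl M) + e := by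
  haveI : LocCoh.IsGorensteinLocalRing R := Groth.Agent.S0342.result R
  letI : Algebra R A := π.toAlgebra
  have hg : Function.Surjective (algebraMap R A) := hπ
  letI : Module R M := Module.compHom M (algebraMap R A)
  haveI : IsScalarTower R A M := IsScalarTower.of_algebraMap_smul (fun _ _ => rfl)
  obtain ⟨r, hr, -, -⟩ := Groth.Agent.Lib.H29Gorenstein.gorenstein_invariants R
  constructor
  · intro h p hp e he
    rw [lt_depth_add_iff]
    intro j hj
    exact (Groth.Agent.Lib.H26GorFin.isFiniteLength_H_iff R r hr A hg M (j + e)).mp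
      (h (j + e) hj) p.asIdeal hp e j he rfl
  · intro h i hi
    rw [Groth.Agent.Lib.H26GorFin.isFiniteLength_H_iff R r hr A hg M i]
    intro p _ hp e j he hje
    have := (lt_depth_add_iff (LocalizedModule p.primeCompl M) n e).mp
      (h ⟨p, inferInstance⟩ hp e he)
    exact this j (by omega)


end Groth.Agent.S5167
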