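import Groth.Statements.S2221
import Groth.Agent.S2215

set_option autoImplicit false
universe u
open Disc

namespace Groth.Agent.S2221

open TensorProduct

theorem dual_swap {R M : Type*} [CommRing R] [AddCommGroup M] [Module R M]
    [Module.Invertible R M] (Φ : M →ₗ[R] R) (x y : M) : Φ x • y = Φ y • x := by
  have h := congrArg (TensorProduct.lift ((LinearMap.lsmul R M).comp Φ))
    (Module.Invertible.tmul_comm (R := R) (m₁ := x) (m₂ := y))
  simpa using h

theorem exists_hom {A B : Type u} [CommRing A] [CommRing B] [Algebra A B]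
    [Module.Finite A B] [Module.Free A B] (x : B)
    (hx : ∀ l : Disc.Omega A B, ∃ c : B, x • l = c • Disc.Omega.trace A B)
    (t : Module.Dual B (Disc.Omega A B) ⊗[B] Disc.Omega A B) :
    ∃ Φ : Disc.Omega A B →ₗ[B] B,
      Φ (Disc.Omega.trace A B) = x * contractLeft B (Disc.Omega A B) t := by
  induction t with
  | zero => exact ⟨0, by simp⟩
  | tmul Ψ l =>
    obtain ⟨c, hc⟩ := hx l
    refine ⟨c • Ψ, ?_⟩
    rw [contractLeft_apply, LinearMap.smul_apply, smul_eq_mul, ← smul_eq_mul (a := x),
      ← map_smul, hc, map_smul, smul_eq_mul]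
  | add t₁ t₂ h₁ h₂ =>
    obtain ⟨Φ₁, h₁⟩ := h₁
    obtain ⟨Φ₂, h₂⟩ := h₂
    exact ⟨Φ₁ + Φ₂, by rw [LinearMap.add_apply, h₁, h₂, map_add, mul_add]⟩

/-- Affine finite free case: let A be a Noetherian ring and B an A-algebra which is finite free as an
A-module, and suppose omega = Hom_A(B, A) is an invertible B-module. Then the different of B over A
(the b with b omega inside B Trace) equals the Noether different of B over A. -/
theorem result {A B : Type u} [CommRing A]
    [CommRing B] [Algebra A B] [IsNoetherianRing A] [Module.Finite A B] [Module.Free A B]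
    [Module.Invertible B (Disc.Omega A B)] :
    Disc.differentSet A B = (Disc.noetherDifferent A B : Set B) := by
  rw [Groth.Agent.S2215.result]
  ext x
  constructor
  · intro hx
    have hx' : ∀ l : Disc.Omega A B, ∃ c : B, x • l = c • Disc.Omega.trace A B := by
      intro l
      obtain ⟨c, hc⟩ := hx l.toLinearMap
      refine ⟨c, ?_⟩
      apply Disc.Omega.ext
      apply LinearMap.ext
      intro y
      exact hc y
    obtain ⟨t, ht⟩ := (Module.Invertible.bijective (R := B) (M := Disc.Omega A B)).2 1
    obtain ⟨Φ, hΦ⟩ := exists_hom x hx' t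
    exact ⟨Φ, by simp only [hΦ, ht, mul_one]⟩
  · rintro ⟨Φ, rfl⟩
    intro φ
    refine ⟨Φ ⟨φ⟩, fun y => ?_⟩
    have h := dual_swap Φ (Disc.Omega.trace A B) ⟨φ⟩
    have h2 := congrArg (fun l : Disc.Omega A B => l.toLinearMap y) h
    simp only [Disc.Omega.smul_toLinearMap_apply] at h2
    exact h2

end Groth.Agent.S2221
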