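import Groth.Statements.S8968
-- import your own Groth.Agent.* helpers here
import Mathlib
import Groth.Agent.S2221

set_option autoImplicit false
set_option linter.style.haveILetI false
universe u
open QFDual

namespace Groth.Agent.S8968

open TensorProduct

section
variable {A B A' B' : Type u} [CommRing A] [CommRing B] [CommRing A'] [CommRing B']
  [Algebra A B] [Module.Finite A B] [Module.Free A B] [Algebra A A'] [Algebra B B'] [Algebra A' B']
  [Algebra A B'] [IsScalarTower A A' B'] [IsScalarTower A B B'] (hB : Algebra.IsPushout A A' B B')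
  [Module.Finite A' B'] [Module.Free A' B']

include hB in
/-- trace commutes with base change -/
lemma trace_bc (x : B) :
    Algebra.trace A' B' (algebraMap B B' x) = algebraMap A A' (Algebra.trace A B x) := by
  classical
  let b := Module.Free.chooseBasis A B
  let b' := hB.out.basis b
  rw [Algebra.trace_eq_matrix_trace b, Algebra.trace_eq_matrix_trace b', Matrix.trace,
    Matrix.trace, map_sum]
  refine Finset.sum_congr rfl fun i _ => ?_
  rw [Matrix.diag_apply, Matrix.diag_apply, Algebra.leftMulMatrix_eq_repr_mul,
    Algebra.leftMulMatrix_eq_repr_mul]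
  have : algebraMap B B' x * b' i = (IsScalarTower.toAlgHom A B B').toLinearMap (x * b i) := by
    rw [hB.out.basis_apply]; simp
  rw [this, hB.out.basis_repr_comp_apply]

lemma bc_trace : bcFin hB (Disc.Omega.trace A B) = Disc.Omega.trace A' B' := by
  apply Disc.Omega.ext
  refine hB.out.algHom_ext _ _ fun x => ?_
  change hB.out.toDual (Algebra.trace A B) ((IsScalarTower.toAlgHom A B B').toLinearMap x) =
    Algebra.trace A' B' (algebraMap B B' x)
  rw [hB.out.toDual_comp_apply, trace_bc hB]

lemma span_bc : Submodule.span B' (Set.range (bcFin hB)) = ⊤ := by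
  rw [eq_top_iff]
  rintro m' -
  have key : ∀ ψ : Module.Dual A' B',
      (⟨ψ⟩ : Disc.Omega A' B') ∈ Submodule.span B' (Set.range (bcFin hB)) := by
    intro ψ
    refine hB.out.dual.inductionOn ψ
      (fun ψ => (⟨ψ⟩ : Disc.Omega A' B') ∈ Submodule.span B' (Set.range (bcFin hB))) ?_ ?_ ?_ ?_
    · exact Submodule.zero_mem _
    · intro φ
      exact Submodule.subset_span ⟨⟨φ⟩, rfl⟩
    · intro a' ψ hψ
      have : (⟨a' • ψ⟩ : Disc.Omega A' B') = algebraMap A' B' a' • (⟨ψ⟩ : Disc.Omega A' B') := by
        apply Disc.Omega.ext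
        ext x
        simp only [Disc.Omega.smul_toLinearMap_apply, LinearMap.smul_apply, smul_eq_mul]
        rw [← Algebra.smul_def, map_smul, smul_eq_mul]
      rw [this]; exact Submodule.smul_mem _ _ hψ
    · intro ψ₁ ψ₂ h₁ h₂
      exact Submodule.add_mem _ h₁ h₂
  exact key m'.toLinearMap

lemma exists_ext (f : Disc.Omega A B →ₗ[B] B) :
    ∃ f' : Disc.Omega A' B' →ₗ[B'] B', ∀ m, f' (bcFin hB m) = algebraMap B B' (f m) := by
  let g : Module.Dual A B →ₗ[A] B' :=
    { toFun := fun φ => algebraMap B B' (f ⟨φ⟩)
      map_add' := fun φ ψ => by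
        have : (⟨φ + ψ⟩ : Disc.Omega A B) = ⟨φ⟩ + ⟨ψ⟩ := rfl
        rw [this, map_add, map_add]
      map_smul' := fun a φ => by
        have : (⟨a • φ⟩ : Disc.Omega A B) = algebraMap A B a • (⟨φ⟩ : Disc.Omega A B) := by
          apply Disc.Omega.ext; ext x
          simp only [Disc.Omega.smul_toLinearMap_apply, LinearMap.smul_apply, smul_eq_mul]
          rw [← Algebra.smul_def, map_smul, smul_eq_mul]
        rw [this, map_smul, smul_eq_mul, map_mul, RingHom.id_apply, Algebra.smul_def,
          ← IsScalarTower.algebraMap_apply A B B'] }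
  let f0 : Module.Dual A' B' →ₗ[A'] B' := hB.out.dual.lift g
  have hf0 : ∀ φ, f0 (hB.out.toDual φ) = algebraMap B B' (f ⟨φ⟩) :=
    fun φ => hB.out.dual.lift_eq g φ
  have hsm : ∀ (b' : B') (ψ : Module.Dual A' B'),
      f0 ((b' • (⟨ψ⟩ : Disc.Omega A' B')).toLinearMap) = b' * f0 ψ := by
    intro b' ψ
    refine hB.out.dual.inductionOn ψ
      (fun ψ => f0 ((b' • (⟨ψ⟩ : Disc.Omega A' B')).toLinearMap) = b' * f0 ψ) ?_ ?_ ?_ ?_
    · have : (b' • (⟨0⟩ : Disc.Omega A' B')).toLinearMap = 0 := by ext x; simp
      rw [this, map_zero, mul_zero]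
    · intro φ
      refine hB.out.inductionOn b'
        (fun b' => f0 ((b' • (⟨hB.out.toDual φ⟩ : Disc.Omega A' B')).toLinearMap) =
          b' * f0 (hB.out.toDual φ)) ?_ ?_ ?_ ?_
      · rw [zero_smul, zero_mul]; exact map_zero f0
      · intro b
        have : ((IsScalarTower.toAlgHom A B B').toLinearMap b) •
            (⟨hB.out.toDual φ⟩ : Disc.Omega A' B') = bcFin hB (b • (⟨φ⟩ : Disc.Omega A B)) := by
          rw [LinearMap.map_smulₛₗ]; rfl
        rw [this]
        change f0 (hB.out.toDual (b • (⟨φ⟩ : Disc.Omega A B)).toLinearMap) = _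
        rw [hf0, hf0, map_smul, smul_eq_mul, map_mul]; rfl
      · intro a' b' h
        have : ((a' • b') • (⟨hB.out.toDual φ⟩ : Disc.Omega A' B')).toLinearMap =
            a' • (b' • (⟨hB.out.toDual φ⟩ : Disc.Omega A' B')).toLinearMap := by
          ext x
          simp only [Disc.Omega.smul_toLinearMap_apply, LinearMap.smul_apply, smul_eq_mul,
            Algebra.smul_def, mul_assoc]
          rw [← Algebra.smul_def, map_smul, smul_eq_mul]
        rw [this, map_smul, h, Algebra.smul_def, Algebra.smul_def, mul_assoc]
      · intro b₁ b₂ h₁ h₂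
        rw [add_smul, Disc.Omega.add_toLinearMap, map_add, h₁, h₂, add_mul]
    · intro a' ψ h
      have : (b' • (⟨a' • ψ⟩ : Disc.Omega A' B')).toLinearMap =
          a' • (b' • (⟨ψ⟩ : Disc.Omega A' B')).toLinearMap := by
        ext x; simp
      rw [this, map_smul, h, map_smul, Algebra.smul_def, Algebra.smul_def]; ring
    · intro ψ₁ ψ₂ h₁ h₂
      have : (b' • (⟨ψ₁ + ψ₂⟩ : Disc.Omega A' B')).toLinearMap =
          (b' • (⟨ψ₁⟩ : Disc.Omega A' B')).toLinearMap +
            (b' • (⟨ψ₂⟩ : Disc.Omega A' B')).toLinearMap := by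
        ext x; simp
      rw [this, map_add, h₁, h₂, map_add, mul_add]
  refine ⟨{ toFun := fun m' => f0 m'.toLinearMap
            map_add' := fun m₁ m₂ => by rw [Disc.Omega.add_toLinearMap, map_add]
            map_smul' := fun b' m' => by simpa using hsm b' m'.toLinearMap }, fun m => ?_⟩
  exact hf0 m.toLinearMap

end

/-- Invertible dualizing module, affine finite free case. Let A and A' be Noetherian rings, B an
A-algebra which is finite free as an A-module, A → A' a ring map and B' a ring making A → A', B → B'
cocartesian (B' = B ⊗_A A', again finite free over A'). Write 𝔇 ⊆ B and 𝔇' ⊆ B' for the differents: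
the ideals of elements b with b · Hom_A(B, A) ⊆ B · Trace_{B/A}, respectively b' · Hom_{A'}(B', A')
⊆ B' · Trace_{B'/A'}. If ω_{B/A} = Hom_A(B, A), with B acting through the argument, is an invertible
B-module, then 𝔇B' = 𝔇'. (The published statement is for the different of a flat quasi-finite
morphism of Noetherian schemes under base change, phrased with the closed subschemes the differents
cut out; this row is the affine finite free case, where the relative dualizing module is Hom_A(B, A)
and the trace element is the trace.) -/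
theorem result (A B A' B' : Type u) [CommRing A] [CommRing B] [CommRing A'] [CommRing B'] [IsNoetherianRing A] [IsNoetherianRing A'] [Algebra A B] [Module.Finite A B] [Module.Free A B] [Algebra A A'] [Algebra B B'] [Algebra A' B'] [Algebra A B'] [IsScalarTower A A' B'] [IsScalarTower A B B'] (hB : Algebra.IsPushout A A' B B') [Module.Finite A' B'] [Module.Free A' B'] [Module.Invertible B (Disc.Omega A B)] : Ideal.map (algebraMap B B') (QFDual.different B (Disc.Omega.trace A B)) = QFDual.different B' (Disc.Omega.trace A' B') := by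
  apply le_antisymm
  · rw [Ideal.map_le_iff_le_comap]
    intro r hr
    rw [Ideal.mem_comap, mem_different_iff]
    rw [mem_different_iff] at hr
    intro m'
    have hm' : m' ∈ Submodule.span B' (Set.range (bcFin hB)) := by rw [span_bc hB]; trivial
    induction hm' using Submodule.span_induction with
    | mem x hx =>
      obtain ⟨m, rfl⟩ := hx
      obtain ⟨c, hc⟩ := hr m
      refine ⟨algebraMap B B' c, ?_⟩
      rw [← bc_trace hB, ← LinearMap.map_smulₛₗ, hc, LinearMap.map_smulₛₗ]
    | zero => exact ⟨0, by simp⟩
    | add x y _ _ hx hy =>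
      obtain ⟨c, hc⟩ := hx
      obtain ⟨d, hd⟩ := hy
      exact ⟨c + d, by rw [add_smul, hc, hd, smul_add]⟩
    | smul b x _ hx =>
      obtain ⟨c, hc⟩ := hx
      exact ⟨b * c, by rw [mul_smul, hc, smul_comm]⟩
  · intro r' hr'
    rw [mem_different_iff] at hr'
    have key : ∀ t : Module.Dual B (Disc.Omega A B) ⊗[B] Disc.Omega A B,
        r' * algebraMap B B' (contractLeft B (Disc.Omega A B) t) ∈
          Ideal.map (algebraMap B B') (different B (Disc.Omega.trace A B)) := by
      intro t
      induction t with
      | zero => simp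
      | tmul f m =>
        obtain ⟨f', hf'⟩ := exists_ext hB f
        obtain ⟨c', hc'⟩ := hr' (bcFin hB m)
        rw [contractLeft_apply, ← hf', ← smul_eq_mul, ← map_smul, ← hc', map_smul,
          ← bc_trace hB, hf', smul_eq_mul]
        apply Ideal.mul_mem_left
        apply Ideal.mem_map_of_mem
        rw [mem_different_iff]
        intro m₂
        exact ⟨f m₂, Groth.Agent.S2221.dual_swap f m₂ _⟩
      | add t₁ t₂ h₁ h₂ =>
        rw [map_add, map_add, mul_add]; exact Ideal.add_mem _ h₁ h₂
    obtain ⟨t, ht⟩ := (Module.Invertible.bijective (R := B) (M := Disc.Omega A B)).2 1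
    have := key t
    rwa [ht, map_one, mul_one] at this

end Groth.Agent.S8968
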