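import Groth.Statements.S8966
-- import your own Groth.Agent.* helpers here
import Mathlib
import Groth.Agent.S8968

set_option autoImplicit false
set_option linter.style.haveILetI false
universe u
open QFDual

namespace Groth.Agent.S8966

open TensorProduct Groth.Agent.S8968

section
variable {A B A' B' : Type u} [CommRing A] [CommRing B] [CommRing A'] [CommRing B']
  [Algebra A B] [Module.Finite A B] [Module.Free A B] [Algebra A A'] [Algebra B B'] [Algebra A' B']
  [Algebra A B'] [IsScalarTower A A' B'] [IsScalarTower A B B'] (hB : Algebra.IsPushout A A' B B')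
  [Module.Finite A' B'] [Module.Free A' B']

include hB in
/-- the inclusion `𝔇 B' ⊆ 𝔇'`, valid for any base change. -/
lemma map_le : Ideal.map (algebraMap B B') (QFDual.different B (Disc.Omega.trace A B)) ≤
    QFDual.different B' (Disc.Omega.trace A' B') := by
  rw [Ideal.map_le_iff_le_comap]
  intro r hr
  rw [Ideal.mem_comap, mem_different_iff]
  rw [mem_different_iff] at hr
  intro m'
  have hm' : m' ∈ Submodule.span B' (Set.range (bcFin hB)) := by rw [span_bc hB]; trivial
  induction hm' using Submodule.span_induction with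
  | mem x hx =>
    obtain ⟨m, rfl⟩ := hx
    obtain ⟨c, hc⟩ := hr m
    refine ⟨algebraMap B B' c, ?_⟩
    rw [← bc_trace hB, ← LinearMap.map_smulₛₗ, hc, LinearMap.map_smulₛₗ]
  | zero => exact ⟨0, by simp⟩
  | add x y _ _ hx hy =>
    obtain ⟨c, hc⟩ := hx
    obtain ⟨d, hd⟩ := hy
    exact ⟨c + d, by rw [add_smul, hc, hd, smul_add]⟩
  | smul b x _ hx =>
    obtain ⟨c, hc⟩ := hx
    exact ⟨b * c, by rw [mul_smul, hc, smul_comm]⟩

/-- extension of semilinear maps `ω → Q` to `B'`-linear maps `ω' → Q`. -/
lemma exists_ext' (Q : Type u) [AddCommGroup Q] [Module B' Q] (g : Disc.Omega A B →+ Q)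
    (hg : ∀ (b : B) (w : Disc.Omega A B), g (b • w) = algebraMap B B' b • g w) :
    ∃ g' : Disc.Omega A' B' →ₗ[B'] Q, ∀ w, g' (bcFin hB w) = g w := by
  letI : Module A' Q := Module.compHom Q (algebraMap A' B')
  letI : Module A Q := Module.compHom Q (algebraMap A B')
  have smulA' : ∀ (a' : A') (x : Q), a' • x = algebraMap A' B' a' • x := fun _ _ => rfl
  have smulA : ∀ (a : A) (x : Q), a • x = algebraMap A B' a • x := fun _ _ => rfl
  haveI : IsScalarTower A' B' Q := ⟨fun a' b' x => by
    rw [smulA', Algebra.smul_def, mul_smul]⟩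
  haveI : IsScalarTower A A' Q := ⟨fun a a' x => by
    rw [smulA', smulA, smulA', Algebra.smul_def, map_mul, ← IsScalarTower.algebraMap_apply,
      mul_smul]⟩
  let g0 : Module.Dual A B →ₗ[A] Q :=
    { toFun := fun φ => g ⟨φ⟩
      map_add' := fun φ ψ => by
        have : (⟨φ + ψ⟩ : Disc.Omega A B) = ⟨φ⟩ + ⟨ψ⟩ := rfl
        rw [this, map_add]
      map_smul' := fun a φ => by
        have : (⟨a • φ⟩ : Disc.Omega A B) = algebraMap A B a • (⟨φ⟩ : Disc.Omega A B) := by
          apply Disc.Omega.ext; ext x
          simp only [Disc.Omega.smul_toLinearMap_apply, LinearMap.smul_apply, smul_eq_mul]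
          rw [← Algebra.smul_def, map_smul, smul_eq_mul]
        rw [this, hg, RingHom.id_apply, ← IsScalarTower.algebraMap_apply A B B', smulA] }
  let f0 : Module.Dual A' B' →ₗ[A'] Q := hB.out.dual.lift g0
  have hf0 : ∀ φ, f0 (hB.out.toDual φ) = g ⟨φ⟩ := fun φ => hB.out.dual.lift_eq g0 φ
  have hsm : ∀ (b' : B') (ψ : Module.Dual A' B'),
      f0 ((b' • (⟨ψ⟩ : Disc.Omega A' B')).toLinearMap) = b' • f0 ψ := by
    intro b' ψ
    refine hB.out.dual.inductionOn ψ
      (fun ψ => f0 ((b' • (⟨ψ⟩ : Disc.Omega A' B')).toLinearMap) = b' • f0 ψ) ?_ ?_ ?_ ?_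
    · have : (b' • (⟨0⟩ : Disc.Omega A' B')).toLinearMap = 0 := by ext x; simp
      rw [this, map_zero, smul_zero]
    · intro φ
      refine hB.out.inductionOn b'
        (fun b' => f0 ((b' • (⟨hB.out.toDual φ⟩ : Disc.Omega A' B')).toLinearMap) =
          b' • f0 (hB.out.toDual φ)) ?_ ?_ ?_ ?_
      · rw [zero_smul, zero_smul]; exact map_zero f0
      · intro b
        have : ((IsScalarTower.toAlgHom A B B').toLinearMap b) •
            (⟨hB.out.toDual φ⟩ : Disc.Omega A' B') = bcFin hB (b • (⟨φ⟩ : Disc.Omega A B)) := by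
          rw [LinearMap.map_smulₛₗ]; rfl
        rw [this]
        change f0 (hB.out.toDual (b • (⟨φ⟩ : Disc.Omega A B)).toLinearMap) = _
        rw [hf0, hf0, hg]; rfl
      · intro a' b' h
        have : ((a' • b') • (⟨hB.out.toDual φ⟩ : Disc.Omega A' B')).toLinearMap =
            a' • (b' • (⟨hB.out.toDual φ⟩ : Disc.Omega A' B')).toLinearMap := by
          ext x
          simp only [Disc.Omega.smul_toLinearMap_apply, LinearMap.smul_apply, smul_eq_mul,
            Algebra.smul_def, mul_assoc]
          rw [← Algebra.smul_def, map_smul, smul_eq_mul]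
        rw [this, map_smul, h, smul_assoc]
      · intro b₁ b₂ h₁ h₂
        rw [add_smul, Disc.Omega.add_toLinearMap, map_add, h₁, h₂, add_smul]
    · intro a' ψ h
      have : (b' • (⟨a' • ψ⟩ : Disc.Omega A' B')).toLinearMap =
          a' • (b' • (⟨ψ⟩ : Disc.Omega A' B')).toLinearMap := by
        ext x; simp
      rw [this, map_smul, h, map_smul, smulA', smulA', smul_smul, smul_smul, mul_comm]
    · intro ψ₁ ψ₂ h₁ h₂
      have : (b' • (⟨ψ₁ + ψ₂⟩ : Disc.Omega A' B')).toLinearMap =
          (b' • (⟨ψ₁⟩ : Disc.Omega A' B')).toLinearMap +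
            (b' • (⟨ψ₂⟩ : Disc.Omega A' B')).toLinearMap := by
        ext x; simp
      rw [this, map_add, h₁, h₂, map_add, smul_add]
  refine ⟨{ toFun := fun m' => f0 m'.toLinearMap
            map_add' := fun m₁ m₂ => by rw [Disc.Omega.add_toLinearMap, map_add]
            map_smul' := fun b' m' => by simpa using hsm b' m'.toLinearMap }, fun m => ?_⟩
  exact hf0 m.toLinearMap

end

section fin
variable {A B : Type u} [CommRing A] [CommRing B] [Algebra A B]

/-- `toLinearMap` as an additive map. -/
def toLM : Disc.Omega A B →+ (B →ₗ[A] A) where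
  toFun := Disc.Omega.toLinearMap
  map_zero' := rfl
  map_add' _ _ := rfl

lemma omega_expand {ι : Type*} [Fintype ι] [DecidableEq ι] (b : Module.Basis ι A B)
    (w : Disc.Omega A B) :
    w = ∑ i, (algebraMap A B (w.toLinearMap (b i))) • (⟨b.coord i⟩ : Disc.Omega A B) := by
  apply Disc.Omega.ext
  apply LinearMap.ext
  intro y
  change w.toLinearMap y = toLM (∑ i, (algebraMap A B (w.toLinearMap (b i))) •
    (⟨b.coord i⟩ : Disc.Omega A B)) y
  rw [map_sum, LinearMap.sum_apply]
  conv_lhs => rw [← b.sum_repr y, map_sum]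
  apply Finset.sum_congr rfl
  intro i _
  change _ = (b.coord i) (algebraMap A B (w.toLinearMap (b i)) * y)
  rw [map_smul, smul_eq_mul, ← Algebra.smul_def, map_smul, smul_eq_mul, Module.Basis.coord_apply,
    mul_comm]

lemma omega_finite [Module.Finite A B] [Module.Free A B] : Module.Finite B (Disc.Omega A B) := by
  classical
  let b := Module.Free.chooseBasis A B
  refine Module.Finite.of_surjective
    (Fintype.linearCombination B (fun i => (⟨b.coord i⟩ : Disc.Omega A B))) ?_
  intro w
  exact ⟨fun i => algebraMap A B (w.toLinearMap (b i)), by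
    rw [Fintype.linearCombination_apply]; exact (omega_expand b w).symm⟩

end fin

/-- If the different is contained in a prime `q` then there is a nonzero functional
`M → κ(q)` killing `τ`. -/
lemma exists_functional {R : Type u} [CommRing R] {M : Type u} [AddCommGroup M] [Module R M]
    [Module.Finite R M] (τ : M) (q : Ideal R) [q.IsPrime] (h : different R τ ≤ q) :
    ∃ l : M →ₗ[R] q.ResidueField, l τ = 0 ∧ ∃ w, l w ≠ 0 := by
  let N := M ⧸ (R ∙ τ)
  have hann : Module.annihilator R N ≤ q := by
    intro r hr
    apply h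
    rw [mem_different_iff]
    intro m
    have h1 : r • (Submodule.mkQ (R ∙ τ) m) = 0 := Module.mem_annihilator.mp hr _
    rw [← map_smul, Submodule.mkQ_apply, Submodule.Quotient.mk_eq_zero,
      Submodule.mem_span_singleton] at h1
    exact h1
  have hsupp : (⟨q, inferInstance⟩ : PrimeSpectrum R) ∈ Module.support R N :=
    Module.mem_support_iff_of_finite.mpr hann
  rw [Module.mem_support_iff_nontrivial_residueField_tensorProduct] at hsupp
  obtain ⟨x, hx⟩ := exists_ne (0 : q.ResidueField ⊗[R] N)
  obtain ⟨f, hf⟩ := Module.Projective.exists_dual_ne_zero q.ResidueField hx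
  have hex : ∃ n : N, f (1 ⊗ₜ n) ≠ 0 := by
    by_contra hall
    push Not at hall
    have hzero : ∀ y : q.ResidueField ⊗[R] N, f y = 0 := by
      intro y
      induction y using TensorProduct.induction_on with
      | zero => simp
      | tmul k n =>
        have : k ⊗ₜ[R] n = k • ((1 : q.ResidueField) ⊗ₜ[R] n) := by
          rw [TensorProduct.smul_tmul', smul_eq_mul, mul_one]
        rw [this, map_smul, hall, smul_zero]
      | add x y hx hy => rw [map_add, hx, hy, add_zero]
    exact hf (hzero x)
  obtain ⟨n, hn⟩ := hex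
  obtain ⟨w, rfl⟩ := Submodule.mkQ_surjective _ n
  refine ⟨((f.restrictScalars R).comp (TensorProduct.mk R q.ResidueField N 1)).comp
    (Submodule.mkQ (R ∙ τ)), ?_, w, hn⟩
  change f (1 ⊗ₜ (Submodule.mkQ (R ∙ τ) τ)) = 0
  rw [Submodule.mkQ_apply, (Submodule.Quotient.mk_eq_zero _).mpr (Submodule.mem_span_singleton_self τ),
    TensorProduct.tmul_zero, map_zero]

/-- First assertion, affine finite free case. Let A and A' be Noetherian rings, B an A-algebra which is
finite free as an A-module, A → A' a ring map and B' a ring making A → A', B → B' cocartesian (B' =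
B ⊗_A A', again finite free over A'). Write 𝔇 ⊆ B and 𝔇' ⊆ B' for the differents: the ideals of
elements b with b · Hom_A(B, A) ⊆ B · Trace_{B/A}, respectively b' · Hom_{A'}(B', A') ⊆ B' ·
Trace_{B'/A'}. Then 𝔇B' ⊆ 𝔇' and these two ideals of B' have the same radical. (The published
statement is for the different of a flat quasi-finite morphism of Noetherian schemes under base
change, phrased with the closed subschemes the differents cut out; this row is the affine finite
free case, where the relative dualizing module is Hom_A(B, A) and the trace element is the trace.) -/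
theorem result (A B A' B' : Type u) [CommRing A] [CommRing B] [CommRing A'] [CommRing B'] [IsNoetherianRing A] [IsNoetherianRing A'] [Algebra A B] [Module.Finite A B] [Module.Free A B] [Algebra A A'] [Algebra B B'] [Algebra A' B'] [Algebra A B'] [IsScalarTower A A' B'] [IsScalarTower A B B'] (hB : Algebra.IsPushout A A' B B') [Module.Finite A' B'] [Module.Free A' B'] : Ideal.map (algebraMap B B') (QFDual.different B (Disc.Omega.trace A B)) ≤ QFDual.different B' (Disc.Omega.trace A' B') ∧ (Ideal.map (algebraMap B B') (QFDual.different B (Disc.Omega.trace A B))).radical = (QFDual.different B' (Disc.Omega.trace A' B')).radical := by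
  refine ⟨map_le hB, le_antisymm (Ideal.radical_mono (map_le hB)) ?_⟩
  rw [Ideal.radical_le_radical_iff]
  intro r' hr'
  rw [Ideal.radical_eq_sInf, Ideal.mem_sInf]
  rintro q' ⟨hq'le, hq'prime⟩
  have hq : different B (Disc.Omega.trace A B) ≤ q'.comap (algebraMap B B') :=
    Ideal.map_le_iff_le_comap.mp hq'le
  haveI := omega_finite (A := A) (B := B)
  obtain ⟨l, hlτ, w, hw⟩ := exists_functional (Disc.Omega.trace A B) (q'.comap (algebraMap B B')) hq
  let ι : (q'.comap (algebraMap B B')).ResidueField →+* q'.ResidueField :=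
    Ideal.ResidueField.map _ _ (algebraMap B B') rfl
  obtain ⟨g', hg'⟩ := exists_ext' hB q'.ResidueField (ι.toAddMonoidHom.comp l.toAddMonoidHom) (by
    intro b w
    change ι (l (b • w)) = algebraMap B B' b • ι (l w)
    rw [map_smul, Algebra.smul_def, map_mul, Ideal.ResidueField.map_algebraMap, Algebra.smul_def])
  obtain ⟨c', hc'⟩ := (mem_different_iff _ _ _).mp hr' (bcFin hB w)
  have h0 : r' • g' (bcFin hB w) = 0 := by
    rw [← map_smul, ← hc', map_smul, ← bc_trace hB, hg']
    change c' • ι (l _) = 0
    rw [hlτ, map_zero, smul_zero]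
  rw [hg', Algebra.smul_def] at h0
  change algebraMap B' q'.ResidueField r' * ι (l w) = 0 at h0
  rcases mul_eq_zero.mp h0 with h1 | h1
  · exact Ideal.algebraMap_residueField_eq_zero.mp h1
  · exact absurd ((map_eq_zero ι).mp h1) hw

end Groth.Agent.S8966
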