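import Groth.Statements.S2217
-- import your own Groth.Agent.* helpers here
import Mathlib
import Groth.Agent.S8966
import Groth.Agent.Lib.H8DoubleAnn

set_option autoImplicit false
set_option linter.style.haveILetI false
universe u
open Disc

namespace Groth.Agent.S2217

open TensorProduct QFDual



section partII

variable {R : Type u} [CommRing R] {M : Type u} [AddCommGroup M] [Module R M]

/-- A finite projective module whose endomorphism ring is `R` is invertible. -/
theorem invertible_of_projective_of_end [Module.Finite R M] [Module.Projective R M]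
    (h : Function.Bijective (LinearMap.lsmul R M)) : Module.Invertible R M := by
  let e1 : Module.Dual R M ⊗[R] M ≃ₗ[R] (M →ₗ[R] M) :=
    LinearEquiv.ofBijective (dualTensorHom R M M) dualTensorHom_bijective
  let e2 : R ≃ₗ[R] (M →ₗ[R] M) := LinearEquiv.ofBijective (LinearMap.lsmul R M) h
  exact Module.Invertible.right (e1.trans e2.symm)

end partII

section partI

variable {A B : Type u} [CommRing A] [CommRing B] [Algebra A B] [Module.Finite A B]
  [Module.Free A B]

/-- Double duality: an `A`-linear functional on `ω` is evaluation at an element of `B`. -/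
lemma exists_eval (Λ : Disc.Omega A B →+ A)
    (hΛ : ∀ (a : A) (w : Disc.Omega A B), Λ (algebraMap A B a • w) = a * Λ w) :
    ∃ c : B, ∀ w : Disc.Omega A B, Λ w = w.toLinearMap c := by
  classical
  let b := Module.Free.chooseBasis A B
  refine ⟨∑ i, Λ (⟨b.coord i⟩ : Disc.Omega A B) • b i, fun w => ?_⟩
  conv_lhs => rw [Groth.Agent.S8966.omega_expand b w]
  rw [map_sum, map_sum]
  refine Finset.sum_congr rfl fun i _ => ?_
  rw [hΛ, map_smul, smul_eq_mul, mul_comm]

/-- `ω` is a faithful `B`-module, in a strong form. -/
lemma eq_zero_of_smul_eq_zero (c : B) (h : ∀ w : Disc.Omega A B, c • w = 0) : c = 0 := by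
  classical
  let b := Module.Free.chooseBasis A B
  apply b.ext_elem
  intro i
  have := congrArg (fun w : Disc.Omega A B => w.toLinearMap 1) (h ⟨b.coord i⟩)
  simp only [Disc.Omega.smul_toLinearMap_apply, mul_one, Disc.Omega.zero_toLinearMap,
    LinearMap.zero_apply] at this
  simpa using this

/-- `End_B(ω) = B`. -/
lemma lsmul_bijective : Function.Bijective (LinearMap.lsmul B (Disc.Omega A B)) := by
  constructor
  · rw [injective_iff_map_eq_zero]
    intro c hc
    apply eq_zero_of_smul_eq_zero (A := A) c
    intro w
    have := LinearMap.congr_fun hc w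
    simpa using this
  · intro f
    let Λ : Disc.Omega A B →+ A :=
      { toFun := fun w => (f w).toLinearMap 1
        map_zero' := by simp
        map_add' := fun w w' => by simp }
    obtain ⟨c, hc⟩ := exists_eval Λ (fun a w => by
      change (f (algebraMap A B a • w)).toLinearMap 1 = a * (f w).toLinearMap 1
      rw [map_smul, Disc.Omega.smul_toLinearMap_apply, mul_one, ← mul_one (algebraMap A B a),
        ← Algebra.smul_def, map_smul, smul_eq_mul])
    refine ⟨c, ?_⟩
    apply LinearMap.ext
    intro w
    apply Disc.Omega.ext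
    apply LinearMap.ext
    intro x
    change (c • w).toLinearMap x = (f w).toLinearMap x
    have h1 : (f w).toLinearMap x = (f (x • w)).toLinearMap 1 := by
      rw [map_smul, Disc.Omega.smul_toLinearMap_apply, mul_one]
    rw [h1]
    have h2 := hc (x • w)
    change (f (x • w)).toLinearMap 1 = _ at h2
    rw [h2, Disc.Omega.smul_toLinearMap_apply, Disc.Omega.smul_toLinearMap_apply, mul_comm]

/-- `ω` separates the points of `B`. -/
lemma eq_zero_of_forall_apply_eq_zero (c : B)
    (h : ∀ w : Disc.Omega A B, w.toLinearMap c = 0) : c = 0 := by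
  classical
  let b := Module.Free.chooseBasis A B
  apply b.ext_elem
  intro i
  have := h ⟨b.coord i⟩
  simpa using this

lemma eq_of_forall_apply_eq (c c' : B)
    (h : ∀ w : Disc.Omega A B, w.toLinearMap c = w.toLinearMap c') : c = c' := by
  rw [← sub_eq_zero]
  apply eq_zero_of_forall_apply_eq_zero (A := A)
  intro w
  rw [map_sub, h w, sub_self]

/-- If `B` is injective as a module over itself, `ω` is a projective `B`-module. -/
theorem omega_projective_of_injective_self [Module.Injective B B] :
    Module.Projective B (Disc.Omega A B) := by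
  classical
  haveI : Module.Finite B (Disc.Omega A B) := Groth.Agent.S8966.omega_finite
  obtain ⟨n, b, hb⟩ := Module.Finite.exists_fin (R := B) (M := Disc.Omega A B)
  -- the injection `B → ωⁿ`
  let ι : B →ₗ[B] (Fin n → Disc.Omega A B) :=
    LinearMap.pi fun i => LinearMap.toSpanSingleton B (Disc.Omega A B) (b i)
  have hι : Function.Injective ι := by
    rw [injective_iff_map_eq_zero]
    intro c hc
    apply eq_zero_of_smul_eq_zero (A := A) c
    intro w
    have hw : w ∈ Submodule.span B (Set.range b) := by rw [hb]; trivial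
    induction hw using Submodule.span_induction with
    | mem x hx =>
      obtain ⟨i, rfl⟩ := hx
      exact congrFun hc i
    | zero => simp
    | add x y _ _ hx hy => rw [smul_add, hx, hy, add_zero]
    | smul a x _ hx => rw [smul_comm, hx, smul_zero]
  obtain ⟨ρ, hρ⟩ := Module.Injective.extension_property B B B (Fin n → Disc.Omega A B) ι hι
    LinearMap.id
  have hρ' : ∀ x : B, ρ (ι x) = x := fun x => LinearMap.congr_fun hρ x
  -- the components of the retraction
  let ρi : Fin n → (Disc.Omega A B →ₗ[B] B) := fun i => ρ ∘ₗ LinearMap.single B (fun _ : Fin n => Disc.Omega A B) i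
  have hsum : ∀ v : Fin n → Disc.Omega A B, ρ v = ∑ i, ρi i (v i) := by
    intro v
    conv_lhs => rw [← Finset.univ_sum_single v]
    rw [map_sum]
    rfl
  -- the dual maps
  have hex : ∀ (i : Fin n) (φ : Disc.Omega A B), ∃ c : B, ∀ ψ : Disc.Omega A B,
      φ.toLinearMap (ρi i ψ) = ψ.toLinearMap c := by
    intro i φ
    let Λ : Disc.Omega A B →+ A :=
      { toFun := fun ψ => φ.toLinearMap (ρi i ψ)
        map_zero' := by simp
        map_add' := fun w w' => by simp }
    exact exists_eval Λ (fun a w => by
      change φ.toLinearMap (ρi i (algebraMap A B a • w)) = a * φ.toLinearMap (ρi i w)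
      rw [map_smul, smul_eq_mul, ← Algebra.smul_def, map_smul, smul_eq_mul])
  choose s hs using hex
  let σ : Disc.Omega A B →ₗ[B] (Fin n → B) :=
    { toFun := fun φ i => s i φ
      map_add' := fun φ φ' => by
        funext i
        apply eq_of_forall_apply_eq (A := A)
        intro ψ
        rw [Pi.add_apply, map_add, ← hs, ← hs, ← hs]
        simp
      map_smul' := fun c φ => by
        funext i
        apply eq_of_forall_apply_eq (A := A)
        intro ψ
        rw [Pi.smul_apply, RingHom.id_apply, ← hs, smul_eq_mul,
          ← Disc.Omega.smul_toLinearMap_apply, ← hs, map_smul, smul_eq_mul,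
          Disc.Omega.smul_toLinearMap_apply] }
  let π : (Fin n → B) →ₗ[B] Disc.Omega A B :=
    LinearMap.lsum B (fun _ => B) B fun i => LinearMap.toSpanSingleton B (Disc.Omega A B) (b i)
  refine Module.Projective.of_split σ π ?_
  apply LinearMap.ext
  intro φ
  apply Disc.Omega.ext
  apply LinearMap.ext
  intro x
  change (π (σ φ)).toLinearMap x = φ.toLinearMap x
  have h1 : π (σ φ) = ∑ i, s i φ • b i := by
    simp [π, σ, LinearMap.lsum_apply]
  rw [h1]
  have h2 : ∀ (t : Finset (Fin n)) (g : Fin n → Disc.Omega A B),
      (∑ i ∈ t, g i).toLinearMap x = ∑ i ∈ t, (g i).toLinearMap x := by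
    intro t g
    induction t using Finset.induction_on with
    | empty => simp
    | insert a t ha ih => rw [Finset.sum_insert ha, Finset.sum_insert ha, ← ih]; simp
  rw [h2]
  have h3 : ∀ i, (s i φ • b i).toLinearMap x = φ.toLinearMap (ρi i (x • b i)) := by
    intro i
    rw [hs, Disc.Omega.smul_toLinearMap_apply, Disc.Omega.smul_toLinearMap_apply, mul_comm]
  simp_rw [h3]
  rw [← map_sum]
  congr 1
  have h4 := hρ' x
  rw [hsum] at h4
  exact h4

end partI

section field

variable {k C : Type u} [Field k] [CommRing C] [Algebra k C]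

/-- `Hom_k(C, k)` is an injective `C`-module. -/
theorem omega_injective : Module.Injective C (Disc.Omega k C) := by
  apply Module.Baer.injective
  intro I g
  let lam : (I.restrictScalars k) →ₗ[k] k :=
    { toFun := fun x => (g ⟨x.1, x.2⟩).toLinearMap 1
      map_add' := fun x y => by
        have : (⟨(x + y).1, (x + y).2⟩ : I) = ⟨x.1, x.2⟩ + ⟨y.1, y.2⟩ := rfl
        rw [this, map_add]; rfl
      map_smul' := fun a x => by
        have : (⟨(a • x).1, (a • x).2⟩ : I) = algebraMap k C a • (⟨x.1, x.2⟩ : I) := by
          apply Subtype.ext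
          change a • x.1 = algebraMap k C a • x.1
          rw [Algebra.smul_def, smul_eq_mul]
        rw [this, map_smul, Disc.Omega.smul_toLinearMap_apply, mul_one, RingHom.id_apply,
          ← mul_one (algebraMap k C a), ← Algebra.smul_def, map_smul] }
  obtain ⟨Lam, hLam⟩ := LinearMap.exists_extend lam
  refine ⟨LinearMap.toSpanSingleton C (Disc.Omega k C) ⟨Lam⟩, fun x hx => ?_⟩
  apply Disc.Omega.ext
  apply LinearMap.ext
  intro y
  change Lam (x * y) = (g ⟨x, hx⟩).toLinearMap y
  have hxy : x * y ∈ I := I.mul_mem_right y hx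
  have h1 : Lam (x * y) = lam ⟨x * y, hxy⟩ := by
    rw [← hLam]; rfl
  rw [h1]
  change (g ⟨x * y, hxy⟩).toLinearMap 1 = _
  have h2 : (⟨x * y, hxy⟩ : I) = y • (⟨x, hx⟩ : I) := by
    apply Subtype.ext
    change x * y = y • x
    rw [smul_eq_mul, mul_comm]
  rw [h2, map_smul, Disc.Omega.smul_toLinearMap_apply, mul_one]

/-- A ring which is injective as a module over itself is Gorenstein. -/
theorem gorenstein_of_injective_self (C : Type u) [CommRing C] [IsNoetherianRing C]
    [Module.Injective C C] : LocCoh.IsGorensteinRing C := by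
  refine { isGorensteinLocalRing_localization := fun p _ => ?_ }
  haveI hD : Module.Injective (Localization.AtPrime p) (Localization.AtPrime p) :=
    Module.injective_of_isLocalizedModule p.primeCompl
      (Algebra.linearMap C (Localization.AtPrime p))
  refine { exists_hasInjectiveDimensionLT := ⟨1, ?_⟩ }
  exact CategoryTheory.injective_iff_hasInjectiveDimensionLT_one.mp
    ((Module.injective_iff_injective_object _ _).mp hD)

/-- F1: if `ω ≅ C` then `C` is Gorenstein. -/
theorem gorenstein_of_equiv [Module.Finite k C] (e : Disc.Omega k C ≃ₗ[C] C) :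
    LocCoh.IsGorensteinRing C := by
  haveI : IsNoetherianRing C := IsNoetherianRing.of_finite k C
  haveI : Module.Injective C C := by
    rw [← Module.Baer.iff_injective]
    exact Module.Baer.of_equiv e (Module.Baer.of_injective omega_injective)
  exact gorenstein_of_injective_self C

end field



section field2

variable {k C : Type u} [Field k] [CommRing C] [Algebra k C]

/-- A Gorenstein ring, finite over a field, is self-injective. -/
theorem injective_self_of_gorenstein [Module.Finite k C] [LocCoh.IsGorensteinRing C] :
    Module.Injective C C := by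
  haveI : IsArtinianRing C := IsArtinianRing.of_finite k C
  apply Module.injective_of_localization_maximal
  intro I hI
  haveI : LocCoh.IsGorensteinLocalRing (Localization.AtPrime I) :=
    LocCoh.IsGorensteinRing.isGorensteinLocalRing_localization I
  haveI : IsArtinianRing (Localization.AtPrime I) :=
    IsArtinianRing.localization_artinian I.primeCompl (Localization.AtPrime I)
  have hdim : ringKrullDim (Localization.AtPrime I) = 0 :=
    (ringKrullDimZero_iff_ringKrullDim_eq_zero).mp inferInstance
  have hinj := (Groth.Agent.Lib.H8DoubleAnn.injective_self_of_gorenstein_dim_zero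
    (Localization.AtPrime I) hdim).1
  rw [← Module.Baer.iff_injective] at hinj ⊢
  let e0 : LocalizedModule I.primeCompl C ≃ₗ[C] Localization.AtPrime I :=
    IsLocalizedModule.linearEquiv I.primeCompl (LocalizedModule.mkLinearMap I.primeCompl C)
      (Algebra.linearMap C (Localization.AtPrime I))
  let e : LocalizedModule I.primeCompl C ≃ₗ[Localization.AtPrime I] Localization.AtPrime I :=
    LinearEquiv.extendScalarsOfIsLocalization I.primeCompl (Localization.AtPrime I) e0
  exact Module.Baer.of_equiv e.symm hinj

end field2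



section bc

variable {A B A' B' : Type u} [CommRing A] [CommRing B] [CommRing A'] [CommRing B']
  [Algebra A B] [Module.Finite A B] [Module.Free A B] [Algebra A A'] [Algebra B B'] [Algebra A' B']
  [Algebra A B'] [IsScalarTower A A' B'] [IsScalarTower A B B'] (hB : Algebra.IsPushout A A' B B')
  [Module.Finite A' B'] [Module.Free A' B']

include hB in
/-- Base change for `ω`: `B' ⊗_B ω_{B/A} ≃ ω_{B'/A'}`. -/
theorem nonempty_bcEquiv :
    Nonempty (B' ⊗[B] Disc.Omega A B ≃ₗ[B'] Disc.Omega A' B') := by
  letI : Module B (Disc.Omega A' B') := Module.compHom _ (algebraMap B B')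
  haveI : IsScalarTower B B' (Disc.Omega A' B') := ⟨fun b b' w => by
    change (b • b') • w = algebraMap B B' b • (b' • w)
    rw [Algebra.smul_def, mul_smul]⟩
  let bcLin : Disc.Omega A B →ₗ[B] Disc.Omega A' B' :=
    { toFun := bcFin hB
      map_add' := map_add _
      map_smul' := fun b w => by
        rw [LinearMap.map_smulₛₗ]; rfl }
  let F : B' ⊗[B] Disc.Omega A B →ₗ[B'] Disc.Omega A' B' := LinearMap.liftBaseChange B' bcLin
  let g : Disc.Omega A B →+ B' ⊗[B] Disc.Omega A B :=
    { toFun := fun w => 1 ⊗ₜ w
      map_zero' := by simp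
      map_add' := fun w w' => by rw [TensorProduct.tmul_add] }
  obtain ⟨G, hG⟩ := Groth.Agent.S8966.exists_ext' hB (B' ⊗[B] Disc.Omega A B) g (fun b w => by
    change (1 : B') ⊗ₜ[B] (b • w) = algebraMap B B' b • ((1 : B') ⊗ₜ[B] w)
    rw [TensorProduct.smul_tmul', ← TensorProduct.smul_tmul, smul_eq_mul, mul_one,
      Algebra.algebraMap_eq_smul_one])
  have hFG : F ∘ₗ G = LinearMap.id := by
    apply LinearMap.ext_on_range (Groth.Agent.S8968.span_bc hB)
    intro w
    rw [LinearMap.comp_apply, hG]
    change F ((1 : B') ⊗ₜ[B] w) = _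
    rw [LinearMap.liftBaseChange_tmul, one_smul]
    rfl
  have hGF : G ∘ₗ F = LinearMap.id := by
    apply TensorProduct.AlgebraTensorModule.ext
    intro b' w
    rw [LinearMap.comp_apply, LinearMap.liftBaseChange_tmul, map_smul]
    change b' • G (bcFin hB w) = _
    rw [hG]
    change b' • ((1 : B') ⊗ₜ[B] w) = _
    rw [TensorProduct.smul_tmul', smul_eq_mul, mul_one]
    rfl
  exact ⟨LinearEquiv.ofLinearMap F G hFG hGF⟩

end bc



section fibre

variable {A B : Type u} [CommRing A] [CommRing B] [Algebra A B] [Module.Finite A B]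
  [Module.Free A B] (p : Ideal A) [p.IsPrime]

attribute [local instance] Algebra.TensorProduct.rightAlgebra

theorem nonempty_fibreEquiv : Nonempty (p.Fiber B ⊗[B] Disc.Omega A B ≃ₗ[p.Fiber B]
    Disc.Omega p.ResidueField (p.Fiber B)) := by
  have hB : Algebra.IsPushout A p.ResidueField B (p.Fiber B) := inferInstance
  exact nonempty_bcEquiv hB

end fibre



section local_gen

variable {B M : Type u} [CommRing B] [AddCommGroup M] [Module B M]

/-- local freeness from a local generator and faithfulness. -/
theorem projective_of_local_generator [Module.FinitePresentation B M]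
    (faithful : ∀ c : B, (∀ w : M, c • w = 0) → c = 0)
    (h : ∀ n : Ideal B, n.IsMaximal →
      ∃ w : M, ∃ s : B, s ∉ n ∧ ∀ x : M, ∃ b : B, s • x = b • w) :
    Module.Projective B M := by
  apply Module.projective_of_localization_maximal
  intro n hn
  obtain ⟨w, s, hs, hw⟩ := h n hn
  let f : Localization.AtPrime n →ₗ[Localization.AtPrime n] LocalizedModule n.primeCompl M :=
    LinearMap.toSpanSingleton _ _ (LocalizedModule.mk w 1)
  have hf : Function.Bijective f := by
    constructor
    · rw [injective_iff_map_eq_zero]
      intro c hc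
      obtain ⟨b, t, rfl⟩ := IsLocalization.exists_mk'_eq n.primeCompl c
      rw [← Localization.mk_eq_mk'] at hc ⊢
      change (Localization.mk b t : Localization.AtPrime n) •
        (LocalizedModule.mk w 1 : LocalizedModule n.primeCompl M) = 0 at hc
      rw [LocalizedModule.mk_smul_mk, ← LocalizedModule.zero_mk 1, LocalizedModule.mk_eq] at hc
      obtain ⟨u, hu⟩ := hc
      rw [one_smul, smul_zero, smul_zero] at hu
      have h0 : (u : B) * b * s = 0 := by
        apply faithful
        intro x
        obtain ⟨b', hb'⟩ := hw x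
        rw [mul_smul, hb', smul_comm, mul_smul]
        change b' • (u • b • w) = 0
        rw [hu, smul_zero]
      rw [Localization.mk_eq_mk', IsLocalization.mk'_eq_zero_iff]
      refine ⟨u * ⟨s, hs⟩, ?_⟩
      rw [Submonoid.coe_mul]
      change (u : B) * s * b = 0
      rw [mul_right_comm]
      exact h0
    · intro y
      induction y using LocalizedModule.induction_on with
      | h x t =>
        obtain ⟨b, hb⟩ := hw x
        refine ⟨Localization.mk b (⟨s, hs⟩ * t), ?_⟩
        change (Localization.mk b (⟨s, hs⟩ * t) : Localization.AtPrime n) •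
          (LocalizedModule.mk w 1 : LocalizedModule n.primeCompl M) = _
        rw [LocalizedModule.mk_smul_mk, ← hb, mul_one]
        exact LocalizedModule.mk_cancel_common_left ⟨s, hs⟩ t x
  exact Module.Projective.of_equiv (LinearEquiv.ofBijective f hf)

/-- Nakayama: a generator modulo `n` is a generator locally at `n`. -/
theorem exists_local_generator [Module.Finite B M] (n : Ideal B) [n.IsMaximal] (w : M)
    (h : ∀ x : M, ∃ b : B, x - b • w ∈ n • (⊤ : Submodule B M)) :
    ∃ s : B, s ∉ n ∧ ∀ x : M, ∃ b : B, s • x = b • w := by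
  let N := M ⧸ Submodule.span B {w}
  have hle : (⊤ : Submodule B N) ≤ n • (⊤ : Submodule B N) := by
    intro y _
    obtain ⟨x, rfl⟩ := Submodule.Quotient.mk_surjective _ y
    obtain ⟨b, hb⟩ := h x
    have h1 : Submodule.Quotient.mk (p := Submodule.span B {w}) x =
        Submodule.Quotient.mk (p := Submodule.span B {w}) (x - b • w) := by
      rw [Submodule.Quotient.mk_sub, eq_comm, sub_eq_self, Submodule.Quotient.mk_eq_zero]
      exact Submodule.smul_mem _ _ (Submodule.mem_span_singleton_self w)
    rw [h1]
    have h2 : (n • (⊤ : Submodule B M)).map (Submodule.mkQ (Submodule.span B {w})) =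
        n • (⊤ : Submodule B N) := by
      rw [Submodule.map_smul'', Submodule.map_top, Submodule.range_mkQ]
    rw [← h2]
    exact Submodule.mem_map_of_mem hb
  obtain ⟨r, hr, hr0⟩ := Submodule.exists_sub_one_mem_and_smul_eq_zero_of_fg_of_le_smul n
    (⊤ : Submodule B N) (Module.Finite.fg_top) hle
  refine ⟨r, fun hrn => ?_, fun x => ?_⟩
  · have : (1 : B) ∈ n := by
      have := n.sub_mem hrn hr
      simpa using this
    exact (Ideal.IsMaximal.ne_top inferInstance) ((Ideal.eq_top_iff_one n).mpr this)
  · have := hr0 (Submodule.Quotient.mk x) trivial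
    rw [← Submodule.Quotient.mk_smul, Submodule.Quotient.mk_eq_zero,
      Submodule.mem_span_singleton] at this
    obtain ⟨b, hb⟩ := this
    exact ⟨b, hb.symm⟩

end local_gen



section rank

variable {B M : Type u} [CommRing B] [AddCommGroup M] [Module B M]

/-- If `L ⊗_B M` is one-dimensional for a field `L` with `ker (B → L) = n`, then `M/nM` is generated
by one element. -/
theorem exists_generator_mod (n : Ideal B) [n.IsMaximal] (L : Type u) [Field L]
    [Algebra B L] (hker : RingHom.ker (algebraMap B L) = n) (e : L ⊗[B] M ≃ₗ[L] L) :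
    ∃ w : M, ∀ x : M, ∃ b : B, x - b • w ∈ n • (⊤ : Submodule B M) := by
  letI : Field (B ⧸ n) := Ideal.Quotient.field n
  letI algKL : Algebra (B ⧸ n) L :=
    (Ideal.Quotient.lift n (algebraMap B L) (fun a ha => by
      rw [← RingHom.mem_ker, hker]; exact ha)).toAlgebra
  haveI : IsScalarTower B (B ⧸ n) L := IsScalarTower.of_algebraMap_eq (fun x => rfl)
  let e1 : L ⊗[B ⧸ n] ((B ⧸ n) ⊗[B] M) ≃ₗ[L] L ⊗[B] M :=
    TensorProduct.AlgebraTensorModule.cancelBaseChange B (B ⧸ n) L L M
  let e2 : ((B ⧸ n) ⊗[B] M) ≃ₗ[B ⧸ n] M ⧸ n • (⊤ : Submodule B M) :=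
    (quotTensorEquivQuotSMul M n).extendScalarsOfSurjective Ideal.Quotient.mk_surjective
  have hrank : Module.finrank (B ⧸ n) (M ⧸ n • (⊤ : Submodule B M)) = 1 := by
    rw [← e2.finrank_eq, ← Module.finrank_baseChange (R := L), e1.finrank_eq, e.finrank_eq,
      Module.finrank_self]
  obtain ⟨v, -, hv⟩ := finrank_eq_one_iff'.mp hrank
  obtain ⟨w, rfl⟩ := Submodule.Quotient.mk_surjective _ v
  refine ⟨w, fun x => ?_⟩
  obtain ⟨c, hc⟩ := hv (Submodule.Quotient.mk x)
  obtain ⟨b, rfl⟩ := Ideal.Quotient.mk_surjective c
  refine ⟨b, ?_⟩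
  rw [← Submodule.Quotient.eq, ← hc]
  rfl

end rank


section main

variable {k C : Type u} [Field k] [CommRing C] [Algebra k C]

/-- F2: a Gorenstein ring finite over a field has invertible `ω`. -/
theorem invertible_of_gorenstein_field [Module.Finite k C] [LocCoh.IsGorensteinRing C] :
    Module.Invertible C (Disc.Omega k C) := by
  haveI := injective_self_of_gorenstein (k := k) (C := C)
  haveI : Module.Finite C (Disc.Omega k C) := Groth.Agent.S8966.omega_finite
  haveI : Module.Projective C (Disc.Omega k C) := omega_projective_of_injective_self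
  exact invertible_of_projective_of_end lsmul_bijective

theorem nonempty_equiv_of_invertible_field [Module.Finite k C]
    [Module.Invertible C (Disc.Omega k C)] : Nonempty (Disc.Omega k C ≃ₗ[C] C) := by
  haveI : IsArtinianRing C := IsArtinianRing.of_finite k C
  haveI : Module.Free C (Disc.Omega k C) := inferInstance
  exact Module.Invertible.free_iff_linearEquiv.mp inferInstance

end main

section main2

variable {A B : Type u} [CommRing A] [CommRing B] [Algebra A B] [Module.Finite A B]
  [Module.Free A B]

attribute [local instance] Algebra.TensorProduct.rightAlgebra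

theorem gorenstein_fibre_of_invertible [Module.Invertible B (Disc.Omega A B)] (p : Ideal A)
    [p.IsPrime] : LocCoh.IsGorensteinRing (p.Fiber B) := by
  obtain ⟨e⟩ := nonempty_fibreEquiv (B := B) p
  haveI : Module.Invertible (p.Fiber B) (Disc.Omega p.ResidueField (p.Fiber B)) :=
    Module.Invertible.congr e
  obtain ⟨e'⟩ := nonempty_equiv_of_invertible_field (k := p.ResidueField) (C := p.Fiber B)
  exact gorenstein_of_equiv e'

theorem invertible_of_gorenstein_fibres [IsNoetherianRing A]
    (h : ∀ (p : Ideal A) [p.IsPrime], LocCoh.IsGorensteinRing (p.Fiber B)) :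
    Module.Invertible B (Disc.Omega A B) := by
  haveI : IsNoetherianRing B := IsNoetherianRing.of_finite A B
  haveI : Module.Finite B (Disc.Omega A B) := Groth.Agent.S8966.omega_finite
  haveI : Module.FinitePresentation B (Disc.Omega A B) := Module.finitePresentation_of_finite B _
  haveI : Module.Projective B (Disc.Omega A B) := by
    apply projective_of_local_generator (eq_zero_of_smul_eq_zero (A := A))
    intro n hn
    haveI := hn
    let N : PrimeSpectrum B := ⟨n, hn.isPrime⟩
    let P : PrimeSpectrum A := PrimeSpectrum.comap (algebraMap A B) N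
    haveI := h P.asIdeal
    haveI : Module.Invertible (P.asIdeal.Fiber B)
        (Disc.Omega P.asIdeal.ResidueField (P.asIdeal.Fiber B)) := invertible_of_gorenstein_field
    obtain ⟨e'⟩ := nonempty_equiv_of_invertible_field (k := P.asIdeal.ResidueField)
      (C := P.asIdeal.Fiber B)
    obtain ⟨e⟩ := nonempty_fibreEquiv (B := B) P.asIdeal
    let x : PrimeSpectrum.comap (algebraMap A B) ⁻¹' {P} := ⟨N, rfl⟩
    let q := PrimeSpectrum.preimageEquivFiber A B P x
    have hq : q.asIdeal.comap (algebraMap B (P.asIdeal.Fiber B)) = n := by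
      have := congrArg (fun y => (y.1).asIdeal) ((PrimeSpectrum.preimageEquivFiber A B P).left_inv x)
      exact this
    haveI : IsArtinianRing (P.asIdeal.Fiber B) :=
      IsArtinianRing.of_finite P.asIdeal.ResidueField (P.asIdeal.Fiber B)
    haveI : q.asIdeal.IsMaximal := IsArtinianRing.isMaximal_of_isPrime q.asIdeal
    letI : Field (P.asIdeal.Fiber B ⧸ q.asIdeal) := Ideal.Quotient.field _
    have hker : RingHom.ker (algebraMap B (P.asIdeal.Fiber B ⧸ q.asIdeal)) = n := by
      rw [IsScalarTower.algebraMap_eq B (P.asIdeal.Fiber B) (P.asIdeal.Fiber B ⧸ q.asIdeal),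
        ← RingHom.comap_ker, Ideal.Quotient.algebraMap_eq, Ideal.mk_ker, hq]
    let eL : (P.asIdeal.Fiber B ⧸ q.asIdeal) ⊗[B] Disc.Omega A B ≃ₗ[P.asIdeal.Fiber B ⧸ q.asIdeal]
        (P.asIdeal.Fiber B ⧸ q.asIdeal) :=
      (TensorProduct.AlgebraTensorModule.cancelBaseChange B (P.asIdeal.Fiber B)
        (P.asIdeal.Fiber B ⧸ q.asIdeal) (P.asIdeal.Fiber B ⧸ q.asIdeal) (Disc.Omega A B)).symm ≪≫ₗ
      TensorProduct.AlgebraTensorModule.congr
        (LinearEquiv.refl (P.asIdeal.Fiber B ⧸ q.asIdeal) (P.asIdeal.Fiber B ⧸ q.asIdeal))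
        (e ≪≫ₗ e') ≪≫ₗ
      TensorProduct.AlgebraTensorModule.rid (P.asIdeal.Fiber B) (P.asIdeal.Fiber B ⧸ q.asIdeal)
        (P.asIdeal.Fiber B ⧸ q.asIdeal)
    obtain ⟨w, hw⟩ := exists_generator_mod n (P.asIdeal.Fiber B ⧸ q.asIdeal) hker eL
    obtain ⟨s, hs, hs'⟩ := exists_local_generator n w hw
    exact ⟨w, s, hs, hs'⟩
  exact invertible_of_projective_of_end lsmul_bijective

end main2

/-- Equivalence of (2) and (4) in the affine finite free case: let A be a Noetherian ring and B an
A-algebra which is finite free as an A-module (so A -> B is flat and quasi-finite). Then all fibre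
rings kappa(p) tensor_A B are Gorenstein if and only if omega_{B/A} = Hom_A(B, A), with its B-module
structure through the argument, is an invertible B-module. -/
theorem result {A B : Type u} [CommRing A] [CommRing B]
    [Algebra A B] [IsNoetherianRing A] [Module.Finite A B] [Module.Free A B] :
    (∀ (p : Ideal A) [p.IsPrime], LocCoh.IsGorensteinRing (p.Fiber B)) ↔
      Module.Invertible B (Disc.Omega A B) := by
  constructor
  · intro h
    exact invertible_of_gorenstein_fibres h
  · intro h p _
    exact gorenstein_fibre_of_invertible p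

end Groth.Agent.S2217
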