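import Groth.Statements.S3626
-- import your own Groth.Agent.* helpers here
import Mathlib
import Groth.Agent.Lib.GorBaseChange83

set_option autoImplicit false
set_option linter.style.haveILetI false
universe u
open CategoryTheory CategoryTheory.Limits AlgebraicGeometry
attribute [local instance] HasDerivedCategory.standard
open Dual3

namespace Groth.Agent.S3626

/-- Let f : X → Y be flat and locally of finite type, g : Y' → Y any morphism and X' = Y' ×_Y X with
projections f' : X' → Y', g' : X' → X. Then for every point x' of X', f' is Gorenstein at x' if and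
only if f is Gorenstein at g'(x'): formation of the Gorenstein locus commutes with base change. -/
theorem result (X Y X' Y' : Scheme.{u}) (f : X ⟶ Y) [Flat f] [LocallyOfFiniteType f] (g : Y' ⟶ Y) (f' : X' ⟶ Y') (g' : X' ⟶ X) (hsq : IsPullback g' f' f g) (x' : X') : Dual3.IsGorensteinAt f' x' ↔ Dual3.IsGorensteinAt f (g' x') := by
  have hfl' : Flat f' := MorphismProperty.of_isPullback (P := @Flat) hsq inferInstance
  constructor
  · intro h
    have hlft : LocallyOfFiniteType (f.fiberToSpecResidueField (g (f' x'))) :=
      MorphismProperty.pullback_snd (P := @LocallyOfFiniteType) _ _ inferInstance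
    have hN : IsLocallyNoetherian (f.fiber (g (f' x'))) :=
      LocallyOfFiniteType.isLocallyNoetherian (f.fiberToSpecResidueField (g (f' x')))
    exact ⟨Flat.stalkMap f (g' x'),
      Groth.Agent.Lib.GorBaseChange83.gor_fibre_descent hsq x' hN h.2⟩
  · intro h
    exact ⟨Flat.stalkMap f' x',
      Groth.Agent.Lib.GorBaseChange83.gor_fibre_ascent_of_locallyOfFiniteType hsq x' h.2⟩

end Groth.Agent.S3626
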