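import Mathlib
import Groth.Statements.S16185

set_option autoImplicit false
universe u
open CategoryTheory CategoryTheory.Limits AlgebraicGeometry
open Dual3

namespace Groth.Agent.S16185

section Helpers

open Abelian

/-- finite injective dimension transports along an additive equivalence of abelian categories -/
lemma hasInjectiveDimensionLT_of_equivalence {C D : Type*} [Category C] [Abelian C] [Category D]
    [Abelian D] (F : C ⥤ D) [F.IsEquivalence] [F.Additive] [EnoughInjectives C] (X : C) (n : ℕ)
    [hX : HasInjectiveDimensionLT X n] : HasInjectiveDimensionLT (F.obj X) n := by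
  letI := HasExt.standard C
  letI := HasExt.standard D
  rw [hasInjectiveDimensionLT_iff]
  intro i hi Y' e
  let Y := F.inv.obj Y'
  let iso : F.obj Y ≅ Y' := F.asEquivalence.counitIso.app Y'
  have h1 : e = (Ext.mk₀ iso.inv).comp ((Ext.mk₀ iso.hom).comp e (zero_add i)) (zero_add i) := by
    rw [← Ext.comp_assoc_of_second_deg_zero, Ext.mk₀_comp_mk₀, iso.inv_hom_id, Ext.mk₀_id_comp]
  obtain ⟨e'', he''⟩ := (F.mapExt_bijective_of_preservesInjectiveObjects Y X i).2
    ((Ext.mk₀ iso.hom).comp e (zero_add i))
  have h0 : e'' = 0 := e''.eq_zero_of_hasInjectiveDimensionLT n hi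
  rw [h1, ← he'', h0, map_zero, Ext.comp_zero]


lemma isGorensteinLocalRing_of_ringEquiv {A B : Type u} [CommRing A] [CommRing B] (e : B ≃+* A)
    [hA : LocCoh.IsGorensteinLocalRing A] : LocCoh.IsGorensteinLocalRing B := by
  haveI : IsNoetherianRing B := isNoetherianRing_of_ringEquiv A e.symm
  haveI : IsLocalRing B := e.symm.isLocalRing
  obtain ⟨n, hn⟩ := hA.exists_hasInjectiveDimensionLT
  refine { exists_hasInjectiveDimensionLT := ⟨n, ?_⟩ }
  have h1 : HasInjectiveDimensionLT
      ((ModuleCat.restrictScalars e.toRingHom).obj (ModuleCat.of A A)) n :=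
    hasInjectiveDimensionLT_of_equivalence (ModuleCat.restrictScalars e.toRingHom) _ n
  exact hasInjectiveDimensionLT_of_iso (ModuleCat.restrictScalarsIsoOfEquiv e) n

/-- the residue field of an Artinian local ring at the unique point of its spectrum -/
lemma exists_iso_fromSpecResidueField {A : Type u} [CommRing A] [IsArtinianRing A] [IsLocalRing A]
    (y : Spec (CommRingCat.of A)) :
    ∃ ψ : Spec ((Spec (CommRingCat.of A)).residueField y) ≅
        Spec (CommRingCat.of (IsLocalRing.ResidueField A)),
      ψ.hom ≫ Spec.map (CommRingCat.ofHom (IsLocalRing.residue A)) =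
        (Spec (CommRingCat.of A)).fromSpecResidueField y := by
  have hmax : y.asIdeal.IsMaximal := (IsArtinianRing.isPrime_iff_isMaximal _).1 y.isPrime
  have hy : y.asIdeal = IsLocalRing.maximalIdeal A := IsLocalRing.eq_maximalIdeal hmax
  let g : IsLocalRing.ResidueField A →+* y.asIdeal.ResidueField :=
    Ideal.Quotient.lift (IsLocalRing.maximalIdeal A) (algebraMap A y.asIdeal.ResidueField) (by
      intro a ha
      rw [Ideal.algebraMap_residueField_eq_zero, hy]
      exact ha)
  have hg : g.comp (IsLocalRing.residue A) = algebraMap A y.asIdeal.ResidueField := by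
    ext a
    rfl
  have hbij : Function.Bijective g := by
    refine ⟨g.injective, ?_⟩
    intro z
    obtain ⟨a, rfl⟩ := Ideal.algebraMap_residueField_surjective y.asIdeal z
    exact ⟨IsLocalRing.residue A a, rfl⟩
  let θ : CommRingCat.of (IsLocalRing.ResidueField A) ≅ CommRingCat.of y.asIdeal.ResidueField :=
    (RingEquiv.ofBijective g hbij).toCommRingCatIso
  refine ⟨Scheme.Spec.mapIso (θ ≪≫ (Scheme.Spec.residueFieldIso (CommRingCat.of A) y).symm).op, ?_⟩
  have h := Scheme.Spec.map_residueFieldIso_inv_eq_fromSpecResidueField (CommRingCat.of A) y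
  rw [← h]
  change Spec.map (θ.hom ≫ (Scheme.Spec.residueFieldIso (CommRingCat.of A) y).inv) ≫ _ = _
  rw [← Spec.map_comp, ← Spec.map_comp]
  congr 1

end Helpers

/-- Let A be an Artinian local ring with maximal ideal m and let f : P → Spec A be a flat morphism of
schemes whose closed fibre X = P ×_{Spec A} Spec (A/m) is a Gorenstein scheme (locally Noetherian,
all local rings Gorenstein). Then f is a Gorenstein morphism: flat at every point with Gorenstein
local rings on its fibres. (The source takes A to be a local Artinian algebra over a field k with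
residue field k and X a k-scheme deformed flatly over A; the k-algebra structure plays no role, so
the residue field of A is used directly.) -/
theorem result
    {A : Type u} [CommRing A] [IsArtinianRing A] [IsLocalRing A]
    {P X : Scheme.{u}} (f : P ⟶ Spec (CommRingCat.of A)) [Flat f]
    (i : X ⟶ P) (q : X ⟶ Spec (CommRingCat.of (IsLocalRing.ResidueField A)))
    (hsq : IsPullback i q f (Spec.map (CommRingCat.ofHom (IsLocalRing.residue A))))
    (hX : Dual3.IsGorenstein X) : Dual3.IsGorensteinMor f := by
  intro x
  refine ⟨Flat.stalkMap f x, ?_⟩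
  obtain ⟨ψ, hψ⟩ := Groth.Agent.S16185.exists_iso_fromSpecResidueField (f x)
  -- the fibre through `x` is isomorphic to `X`
  have hsq' : IsPullback i (q ≫ ψ.inv) f ((Spec (CommRingCat.of A)).fromSpecResidueField (f x)) := by
    refine IsPullback.of_iso hsq (Iso.refl _) (Iso.refl _) ψ.symm (Iso.refl _) ?_ ?_ ?_ ?_
    · simp
    · simp
    · simp
    · simp [← hψ]
  let φ : X ≅ f.fiber (f x) := hsq'.isoPullback
  obtain ⟨hnoeth, hgor⟩ := hX
  set z := f.asFiber x with hz
  haveI : IsIso (φ.inv.stalkMap z) := inferInstance
  let e := (asIso (φ.inv.stalkMap z)).commRingCatIsoToRingEquiv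
  haveI := hgor (φ.inv z)
  exact Groth.Agent.S16185.isGorensteinLocalRing_of_ringEquiv e.symm

end Groth.Agent.S16185
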