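import Groth.Statements.S2225
-- import your own Groth.Agent.* helpers here
import Mathlib
import Groth.Agent.S0342
import Groth.Agent.S0343
import Groth.Agent.S16185
import Groth.Agent.Lib.FibreStalk33

set_option autoImplicit false
set_option linter.style.haveILetI false
universe u
open CategoryTheory AlgebraicGeometry
open Models

namespace Groth.Agent.S2225

open IsLocalRing CategoryTheory.Limits

/-- Quotient of a regular local ring, flat over (a localization at the maximal ideal of) a discrete
valuation ring, by the extension of the maximal ideal: Gorenstein. -/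
theorem gorenstein_quotient_of_dvr {R L O : Type u} [CommRing R] [IsDomain R]
    [IsDiscreteValuationRing R] [CommRing L] [IsLocalRing L] [Algebra R L] (P : Ideal R) [P.IsPrime]
    (hP : P = maximalIdeal R) [IsLocalization.AtPrime L P] [CommRing O] [IsRegularLocalRing O]
    (θ : L →+* O) [IsLocalHom θ] (hθ : θ.Flat) :
    LocCoh.IsGorensteinLocalRing (O ⧸ Ideal.map θ (maximalIdeal L)) := by
  obtain ⟨π, hπ⟩ := IsDiscreteValuationRing.exists_irreducible R
  have hπ' : maximalIdeal R = Ideal.span {π} :=
    (IsDiscreteValuationRing.irreducible_iff_uniformizer π).mp hπ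
  have hmL : maximalIdeal L = Ideal.span {algebraMap R L π} := by
    rw [← IsLocalization.AtPrime.map_eq_maximalIdeal P L, hP, hπ', Ideal.map_span,
      Set.image_singleton]
  set t := θ (algebraMap R L π) with ht
  have hI : Ideal.map θ (maximalIdeal L) = Ideal.span {t} := by
    rw [hmL, Ideal.map_span, Set.image_singleton]
  have hπL : algebraMap R L π ∈ maximalIdeal L := by
    rw [hmL]
    exact Ideal.mem_span_singleton_self _
  have htm : t ∈ maximalIdeal O := map_nonunit θ _ hπL
  letI algLO : Algebra L O := θ.toAlgebra
  letI algRO : Algebra R O := (θ.comp (algebraMap R L)).toAlgebra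
  haveI : IsScalarTower R L O := IsScalarTower.of_algebraMap_eq (fun _ => rfl)
  haveI : Module.Flat L O := hθ
  haveI : Module.Flat R L := IsLocalization.flat L P.primeCompl
  haveI : Module.Flat R O := Module.Flat.trans R L O
  have hπ0 : π ≠ 0 := hπ.ne_zero
  have hregR : IsSMulRegular R π := by
    intro a b hab
    exact mul_left_cancel₀ hπ0 hab
  have hreg : IsSMulRegular O t := IsSMulRegular.of_flat (R := R) (S := O) hregR
  rw [hI]
  exact (Groth.Agent.S0343.result O t htm hreg).mp (Groth.Agent.S0342.result O)


/-- The residue field of a local ring versus the residue field of its spectrum at the closed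
point (adapted from helper27's `S16185.exists_iso_fromSpecResidueField`). -/
lemma exists_iso_fromSpecResidueField' {A : Type u} [CommRing A] [IsLocalRing A]
    (y : Spec (CommRingCat.of A)) (hy : y.asIdeal = IsLocalRing.maximalIdeal A) :
    ∃ ψ : Spec ((Spec (CommRingCat.of A)).residueField y) ≅
        Spec (CommRingCat.of (IsLocalRing.ResidueField A)),
      ψ.hom ≫ Spec.map (CommRingCat.ofHom (algebraMap A (IsLocalRing.ResidueField A))) =
        (Spec (CommRingCat.of A)).fromSpecResidueField y := by
  let g : IsLocalRing.ResidueField A →+* y.asIdeal.ResidueField :=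
    Ideal.Quotient.lift (IsLocalRing.maximalIdeal A) (algebraMap A y.asIdeal.ResidueField) (by
      intro a ha
      rw [Ideal.algebraMap_residueField_eq_zero, hy]
      exact ha)
  have hmax : y.asIdeal.IsMaximal := hy ▸ IsLocalRing.maximalIdeal.isMaximal A
  have hbij : Function.Bijective g := by
    refine ⟨g.injective, ?_⟩
    intro z
    obtain ⟨a, rfl⟩ := Ideal.algebraMap_residueField_surjective y.asIdeal z
    exact ⟨IsLocalRing.residue A a, rfl⟩
  let θ : CommRingCat.of (IsLocalRing.ResidueField A) ≅ CommRingCat.of y.asIdeal.ResidueField :=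
    (RingEquiv.ofBijective g hbij).toCommRingCatIso
  refine ⟨Scheme.Spec.mapIso (θ ≪≫ (Scheme.Spec.residueFieldIso (CommRingCat.of A) y).symm).op, ?_⟩
  have h := Scheme.Spec.map_residueFieldIso_inv_eq_fromSpecResidueField (CommRingCat.of A) y
  rw [← h]
  change Spec.map (θ.hom ≫ (Scheme.Spec.residueFieldIso (CommRingCat.of A) y).inv) ≫ _ = _
  rw [← Spec.map_comp, ← Spec.map_comp]
  congr 1

/-- The local ring of a fibre at an arbitrary point. -/
theorem nonempty_fibreStalkEquiv {X S : Scheme.{u}} (p : X ⟶ S) (x' : X) (s : S) (hs : p x' = s)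
    (z : p.fiber s) (hz : p.fiberι s z = x') :
    Nonempty ((X.presheaf.stalk x' ⧸ Ideal.map (p.stalkMap x').hom
      (maximalIdeal (S.presheaf.stalk (p x')))) ≃+* (p.fiber s).presheaf.stalk z) := by
  subst hs
  have h1 : z = p.asFiber x' :=
    (p.fiberι (p x')).isEmbedding.injective (by rw [hz, p.fiberι_asFiber])
  subst h1
  exact ⟨Groth.Agent.Lib.FibreStalk33.fibreStalkEquiv p x'⟩

/-- Part (1), for the closed fibre: let R be a discrete valuation ring with fraction field K, C a smooth
proper curve over K and X a regular model of C over R (flat, of finite type, all local rings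
regular). Then every local ring of the special fibre X_k is a Gorenstein local ring; together with
flatness and regularity of the generic fibre this says X -> Spec R is a Gorenstein morphism. -/
theorem result (R : Type u) [CommRing R] [IsDomain R]
    [IsDiscreteValuationRing R] (C X : Scheme.{u})
    (f : C ⟶ Spec (CommRingCat.of (FractionRing R))) (p : X ⟶ Spec (CommRingCat.of R))
    (hC : Curve.IsSmoothProperCurve (FractionRing R) C f) (hX : Models.IsModel R X p C f)
    (hreg : Models.IsRegularScheme X) (x : ↥(Models.specialFibre R X p)) :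
    LocCoh.IsGorensteinLocalRing ((Models.specialFibre R X p).presheaf.stalk x) := by
  haveI hflat : Flat p := hX.1
  set s₀ : Spec (CommRingCat.of R) := closedPoint R with hs₀
  obtain ⟨ψ, hψ⟩ := exists_iso_fromSpecResidueField' (A := R) s₀ rfl
  set g := Spec.map (CommRingCat.ofHom (algebraMap R (IsLocalRing.ResidueField R))) with hg
  have hsq : IsPullback (pullback.fst p g) (pullback.snd p g) p g := IsPullback.of_hasPullback _ _
  have hsq' : IsPullback (pullback.fst p g) (pullback.snd p g ≫ ψ.inv) p
      ((Spec (CommRingCat.of R)).fromSpecResidueField s₀) := by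
    refine IsPullback.of_iso hsq (Iso.refl _) (Iso.refl _) ψ.symm (Iso.refl _) ?_ ?_ ?_ ?_
    · simp
    · simp
    · simp
    · simp [← hψ]
  let φ : Models.specialFibre R X p ≅ p.fiber s₀ := hsq'.isoPullback
  have hφ : φ.hom ≫ p.fiberι s₀ = pullback.fst p g := hsq'.isoPullback_hom_fst
  set z := φ.hom x with hz
  set x' := p.fiberι s₀ z with hx'def
  have hx' : p x' = s₀ := by
    have h1 : x' ∈ Set.range (p.fiberι s₀) := ⟨z, rfl⟩
    rw [Scheme.Hom.range_fiberι] at h1
    exact h1
  obtain ⟨e1⟩ := nonempty_fibreStalkEquiv p x' s₀ hx' z rfl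
  haveI : IsIso (φ.hom.stalkMap x) := inferInstance
  let e2 := (asIso (φ.hom.stalkMap x)).commRingCatIsoToRingEquiv
  haveI hregx : IsRegularLocalRing (X.presheaf.stalk x') := hreg x'
  have hP : (p x').asIdeal = maximalIdeal R := by rw [hx']; rfl
  haveI hloc : IsLocalHom (p.stalkMap x').hom := inferInstance
  letI algL : Algebra R ((Spec (CommRingCat.of R)).presheaf.stalk (p x')) :=
    AlgebraicGeometry.StructureSheaf.stalkAlgebra (R := R) (p x')
  haveI hlocz : IsLocalization.AtPrime ((Spec (CommRingCat.of R)).presheaf.stalk (p x'))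
      (p x').asIdeal :=
    AlgebraicGeometry.StructureSheaf.IsLocalization.to_stalk (R := R) (p x')
  have hG : LocCoh.IsGorensteinLocalRing (X.presheaf.stalk x' ⧸ Ideal.map (p.stalkMap x').hom
      (maximalIdeal ((Spec (CommRingCat.of R)).presheaf.stalk (p x')))) :=
    gorenstein_quotient_of_dvr (R := R) (L := (Spec (CommRingCat.of R)).presheaf.stalk (p x'))
      (p x').asIdeal hP (p.stalkMap x').hom (Flat.stalkMap p x')
  exact Groth.Agent.S16185.isGorensteinLocalRing_of_ringEquiv (e2.symm.trans e1.symm)

end Groth.Agent.S2225
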