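import Groth.Statements.S3627
-- import your own Groth.Agent.* helpers here
import Mathlib
import Groth.Agent.S2225
import Groth.Agent.S0344
import Groth.Agent.S16185
import Groth.Agent.Lib.FlatCrit
import Groth.Agent.Lib.FibreStalk33

set_option autoImplicit false
set_option linter.style.haveILetI false
universe u
open CategoryTheory CategoryTheory.Limits AlgebraicGeometry
attribute [local instance] HasDerivedCategory.standard
open Dual3

namespace Groth.Agent.S3627

open IsLocalRing

/-- The statement of S0344, as a hypothesis. -/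
def H0344 : Prop := ∀ (A : Type u) [CommRing A] [IsLocalRing A] [IsNoetherianRing A] (B : Type u)
  [CommRing B] [IsLocalRing B] [IsNoetherianRing B] [Algebra A B] [IsLocalHom (algebraMap A B)]
  [Module.Flat A B], LocCoh.IsGorensteinLocalRing B ↔ (LocCoh.IsGorensteinLocalRing A ∧
    LocCoh.IsGorensteinLocalRing (B ⧸ (IsLocalRing.maximalIdeal A).map (algebraMap A B)))

section relative

variable {B C : Type u} [CommRing B] [CommRing C] [IsLocalRing B] [IsLocalRing C] [Algebra B C]
  [IsLocalHom (algebraMap B C)]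

lemma map_le_maximalIdeal (I : Ideal B) (hI : I ≤ maximalIdeal B) :
    I.map (algebraMap B C) ≤ maximalIdeal C := by
  rw [Ideal.map_le_iff_le_comap]
  intro x hx
  have hx' := hI hx
  rw [Ideal.mem_comap, mem_maximalIdeal, mem_nonunits_iff] at *
  intro h
  exact hx' (isUnit_of_map_unit (algebraMap B C) x h)

lemma isLocalRing_quot (I : Ideal B) (hI : I ≤ maximalIdeal B) : IsLocalRing (B ⧸ I) := by
  have hne : I ≠ ⊤ := fun h =>
    (IsLocalRing.maximalIdeal.isMaximal B).ne_top (top_le_iff.mp (h ▸ hI))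
  haveI : Nontrivial (B ⧸ I) := Ideal.Quotient.nontrivial_iff.mpr hne
  exact IsLocalRing.of_surjective' (Ideal.Quotient.mk I) Ideal.Quotient.mk_surjective

/-- flat base change to a quotient -/
lemma flat_quot [Module.Flat B C] (I : Ideal B) :
    Module.Flat (B ⧸ I) (C ⧸ I.map (algebraMap B C)) := by
  have e := (Algebra.TensorProduct.quotIdealMapEquivQuotTensor C I).toLinearEquiv
  exact Module.Flat.of_linearEquiv e

/-- the closed fibre of the quotient map -/
lemma closedFibre_equiv (I : Ideal B) (hI : I ≤ maximalIdeal B) :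
    haveI := isLocalRing_quot I hI
    Nonempty (((C ⧸ I.map (algebraMap B C)) ⧸ (maximalIdeal (B ⧸ I)).map
      (algebraMap (B ⧸ I) (C ⧸ I.map (algebraMap B C)))) ≃+*
        (C ⧸ (maximalIdeal B).map (algebraMap B C))) := by
  haveI := isLocalRing_quot I hI
  set J := I.map (algebraMap B C) with hJ
  set K := (maximalIdeal B).map (algebraMap B C) with hK
  have hJK : J ≤ K := Ideal.map_mono hI
  have h1 : maximalIdeal (B ⧸ I) = (maximalIdeal B).map (Ideal.Quotient.mk I) :=
    (IsLocalRing.map_maximalIdeal_of_surjective (Ideal.Quotient.mk I)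
      Ideal.Quotient.mk_surjective).symm
  have h2 : (maximalIdeal (B ⧸ I)).map (algebraMap (B ⧸ I) (C ⧸ J)) =
      K.map (Ideal.Quotient.mk J) := by
    rw [h1, hK, Ideal.map_map, Ideal.map_map]
    congr 1
  have h3 : J ⊔ K = K := sup_eq_right.mpr hJK
  exact ⟨(Ideal.quotEquivOfEq h2).trans ((DoubleQuot.quotQuotEquivQuotSup J K).trans
    (Ideal.quotEquivOfEq h3))⟩

lemma isLocalHom_quot (I : Ideal B) (hI : I ≤ maximalIdeal B) :
    haveI := isLocalRing_quot I hI
    haveI := isLocalRing_quot (I.map (algebraMap B C)) (map_le_maximalIdeal I hI)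
    IsLocalHom (algebraMap (B ⧸ I) (C ⧸ I.map (algebraMap B C))) := by
  haveI := isLocalRing_quot I hI
  haveI := isLocalRing_quot (I.map (algebraMap B C)) (map_le_maximalIdeal I hI)
  refine ((IsLocalRing.local_hom_TFAE (algebraMap (B ⧸ I) (C ⧸ I.map (algebraMap B C)))).out 0 2).mpr ?_
  have h1 : maximalIdeal (B ⧸ I) = (maximalIdeal B).map (Ideal.Quotient.mk I) :=
    (IsLocalRing.map_maximalIdeal_of_surjective (Ideal.Quotient.mk I)
      Ideal.Quotient.mk_surjective).symm
  have h2 : maximalIdeal (C ⧸ I.map (algebraMap B C)) =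
      (maximalIdeal C).map (Ideal.Quotient.mk (I.map (algebraMap B C))) :=
    (IsLocalRing.map_maximalIdeal_of_surjective (Ideal.Quotient.mk _)
      Ideal.Quotient.mk_surjective).symm
  rw [h1, h2, Ideal.map_map]
  have h3 : (algebraMap (B ⧸ I) (C ⧸ I.map (algebraMap B C))).comp (Ideal.Quotient.mk I) =
      (Ideal.Quotient.mk (I.map (algebraMap B C))).comp (algebraMap B C) := rfl
  rw [h3, ← Ideal.map_map]
  exact Ideal.map_mono (map_le_maximalIdeal _ le_rfl)

/-- relative form of S0344 -/
theorem relative (H : H0344.{u}) [Module.Flat B C] (I : Ideal B) (hI : I ≤ maximalIdeal B)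
    [IsNoetherianRing (B ⧸ I)] [IsNoetherianRing (C ⧸ I.map (algebraMap B C))] :
    LocCoh.IsGorensteinLocalRing (C ⧸ I.map (algebraMap B C)) ↔
      (LocCoh.IsGorensteinLocalRing (B ⧸ I) ∧
        LocCoh.IsGorensteinLocalRing (C ⧸ (maximalIdeal B).map (algebraMap B C))) := by
  haveI := isLocalRing_quot I hI
  haveI := isLocalRing_quot (I.map (algebraMap B C)) (map_le_maximalIdeal I hI)
  haveI := isLocalHom_quot (C := C) I hI
  haveI := flat_quot (C := C) I
  obtain ⟨e⟩ := closedFibre_equiv (C := C) I hI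
  rw [H (B ⧸ I) (C ⧸ I.map (algebraMap B C))]
  refine and_congr Iff.rfl ⟨fun h => ?_, fun h => ?_⟩
  · exact Groth.Agent.S16185.isGorensteinLocalRing_of_ringEquiv e.symm
  · exact Groth.Agent.S16185.isGorensteinLocalRing_of_ringEquiv e

end relative

section comp

variable {A B C : Type u} [CommRing A] [CommRing B] [CommRing C]
  [IsLocalRing A] [IsLocalRing B] [IsLocalRing C] [Algebra A B] [Algebra B C] [Algebra A C]
  [IsScalarTower A B C] [IsLocalHom (algebraMap A B)] [IsLocalHom (algebraMap B C)]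

theorem main_alg (H : H0344.{u})
    (hB : IsNoetherianRing (B ⧸ (maximalIdeal A).map (algebraMap A B)))
    (hC : IsNoetherianRing (C ⧸ (maximalIdeal A).map (algebraMap A C))) :
    ((Module.Flat B C ∧
        LocCoh.IsGorensteinLocalRing (C ⧸ (maximalIdeal B).map (algebraMap B C))) →
      (Module.Flat A B ∧
        LocCoh.IsGorensteinLocalRing (B ⧸ (maximalIdeal A).map (algebraMap A B))) →
      (Module.Flat A C ∧
        LocCoh.IsGorensteinLocalRing (C ⧸ (maximalIdeal A).map (algebraMap A C)))) ∧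
    ((Module.Flat A C ∧
        LocCoh.IsGorensteinLocalRing (C ⧸ (maximalIdeal A).map (algebraMap A C))) →
      Module.Flat B C →
      (Module.Flat B C ∧
        LocCoh.IsGorensteinLocalRing (C ⧸ (maximalIdeal B).map (algebraMap B C))) ∧
      (Module.Flat A B ∧
        LocCoh.IsGorensteinLocalRing (B ⧸ (maximalIdeal A).map (algebraMap A B)))) := by
  set I := (maximalIdeal A).map (algebraMap A B) with hI
  have hIle : I ≤ maximalIdeal B := map_le_maximalIdeal _ le_rfl
  have hmap : I.map (algebraMap B C) = (maximalIdeal A).map (algebraMap A C) := by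
    rw [hI, Ideal.map_map, ← IsScalarTower.algebraMap_eq]
  let e : (C ⧸ I.map (algebraMap B C)) ≃+* (C ⧸ (maximalIdeal A).map (algebraMap A C)) :=
    Ideal.quotEquivOfEq hmap
  haveI : IsNoetherianRing (C ⧸ I.map (algebraMap B C)) :=
    isNoetherianRing_of_ringEquiv _ e.symm
  constructor
  · rintro ⟨hBC, hG1⟩ ⟨hAB, hG2⟩
    refine ⟨Module.Flat.trans A B C, ?_⟩
    have h1 : LocCoh.IsGorensteinLocalRing (C ⧸ I.map (algebraMap B C)) :=
      (relative H I hIle).mpr ⟨hG2, hG1⟩
    exact Groth.Agent.S16185.isGorensteinLocalRing_of_ringEquiv e.symm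
  · rintro ⟨hAC, hG⟩ hBC
    haveI : Module.FaithfullyFlat B C := Module.FaithfullyFlat.of_flat_of_isLocalHom
    have hAB : Module.Flat A B :=
      Groth.Agent.Lib.FlatCrit.flat_of_faithfullyFlat_of_flat (R := A) B (N := C)
    have h1 : LocCoh.IsGorensteinLocalRing (C ⧸ I.map (algebraMap B C)) :=
      Groth.Agent.S16185.isGorensteinLocalRing_of_ringEquiv e
    obtain ⟨h2, h3⟩ := (relative H I hIle).mp h1
    exact ⟨⟨hBC, h3⟩, ⟨hAB, h2⟩⟩

end comp

section geom

variable {X Y Z : Scheme.{u}}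

lemma isGorensteinAt_iff (f : X ⟶ Y) (x : X) :
    Dual3.IsGorensteinAt f x ↔ ((f.stalkMap x).hom.Flat ∧
      LocCoh.IsGorensteinLocalRing (X.presheaf.stalk x ⧸ Ideal.map (f.stalkMap x).hom
        (maximalIdeal (Y.presheaf.stalk (f x))))) := by
  unfold Dual3.IsGorensteinAt
  refine and_congr Iff.rfl ⟨fun h => ?_, fun h => ?_⟩
  · exact Groth.Agent.S16185.isGorensteinLocalRing_of_ringEquiv
      (Groth.Agent.Lib.FibreStalk33.fibreStalkEquiv f x)
  · exact Groth.Agent.S16185.isGorensteinLocalRing_of_ringEquiv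
      (Groth.Agent.Lib.FibreStalk33.fibreStalkEquiv f x).symm

lemma isNoetherianRing_fibre (f : X ⟶ Y) (x : X) [IsLocallyNoetherian (f.fiber (f x))] :
    IsNoetherianRing (X.presheaf.stalk x ⧸ Ideal.map (f.stalkMap x).hom
        (maximalIdeal (Y.presheaf.stalk (f x)))) :=
  isNoetherianRing_of_ringEquiv _ (Groth.Agent.Lib.FibreStalk33.fibreStalkEquiv f x).symm

theorem main_of (H : H0344.{u}) (X Y Z : Scheme.{u}) (f : X ⟶ Y) (g : Y ⟶ Z)
    (hfibf : ∀ y, IsLocallyNoetherian (f.fiber y)) (hfibg : ∀ y, IsLocallyNoetherian (g.fiber y))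
    (hfibfg : ∀ z, IsLocallyNoetherian ((f ≫ g).fiber z)) (x : X) :
    (Dual3.IsGorensteinAt f x → Dual3.IsGorensteinAt g (f x) →
      Dual3.IsGorensteinAt (f ≫ g) x) ∧
    (Dual3.IsGorensteinAt (f ≫ g) x → (f.stalkMap x).hom.Flat →
      Dual3.IsGorensteinAt f x ∧ Dual3.IsGorensteinAt g (f x)) := by
  rw [isGorensteinAt_iff f x, isGorensteinAt_iff g (f x), isGorensteinAt_iff (f ≫ g) x]
  letI algAB : Algebra (Z.presheaf.stalk (g (f x))) (Y.presheaf.stalk (f x)) :=
    (g.stalkMap (f x)).hom.toAlgebra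
  letI algBC : Algebra (Y.presheaf.stalk (f x)) (X.presheaf.stalk x) :=
    (f.stalkMap x).hom.toAlgebra
  letI algAC : Algebra (Z.presheaf.stalk (g (f x))) (X.presheaf.stalk x) :=
    ((f ≫ g).stalkMap x).hom.toAlgebra
  haveI : IsScalarTower (Z.presheaf.stalk (g (f x))) (Y.presheaf.stalk (f x))
      (X.presheaf.stalk x) := by
    refine IsScalarTower.of_algebraMap_eq' ?_
    change ((f ≫ g).stalkMap x).hom = ((f.stalkMap x).hom).comp ((g.stalkMap (f x)).hom)
    rw [Scheme.Hom.stalkMap_comp]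
    rfl
  haveI : IsLocalHom (algebraMap (Z.presheaf.stalk (g (f x))) (Y.presheaf.stalk (f x))) :=
    (inferInstance : IsLocalHom (g.stalkMap (f x)).hom)
  haveI : IsLocalHom (algebraMap (Y.presheaf.stalk (f x)) (X.presheaf.stalk x)) :=
    (inferInstance : IsLocalHom (f.stalkMap x).hom)
  haveI := hfibg (g (f x))
  haveI := hfibfg ((f ≫ g) x)
  have hB := isNoetherianRing_fibre g (f x)
  have hC := isNoetherianRing_fibre (f ≫ g) x
  exact main_alg H hB hC

end geom

/-- Let f : X → Y and g : Y → Z be morphisms such that the fibres of f, g and g ∘ f are locally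
Noetherian, and let x be a point of X. (1) The composite g ∘ f is Gorenstein at x provided f is so
at x and g is so at f(x). (3) Conversely, if f is flat at x and the composite is Gorenstein there,
then both factors are Gorenstein: f at x, and g at f(x). -/
theorem result (X Y Z : Scheme.{u}) (f : X ⟶ Y) (g : Y ⟶ Z) (hfibf : ∀ y, IsLocallyNoetherian (f.fiber y)) (hfibg : ∀ y, IsLocallyNoetherian (g.fiber y)) (hfibfg : ∀ z, IsLocallyNoetherian ((f ≫ g).fiber z)) (x : X) : (Dual3.IsGorensteinAt f x → Dual3.IsGorensteinAt g (f x) → Dual3.IsGorensteinAt (f ≫ g) x) ∧ (Dual3.IsGorensteinAt (f ≫ g) x → (f.stalkMap x).hom.Flat → Dual3.IsGorensteinAt f x ∧ Dual3.IsGorensteinAt g (f x)) := by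
  exact main_of (fun A _ _ _ B _ _ _ _ _ _ => Groth.Agent.S0344.result A B) X Y Z f g hfibf hfibg hfibfg x

end Groth.Agent.S3627
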