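import Groth.Statements.S17770
import Groth.Agent.Lib.H74GrSerre4

set_option autoImplicit false
universe u
open BigOperators
open GrLC

namespace Groth.Agent.S17770

open DirectSum Groth.Agent.Lib.H74GrArt Groth.Agent.Lib.H74GrSerre Groth.Agent.Lib.H74GrLES

section Transfer

variable {R : Type u} [CommRing R] (𝒜 : ℤ → AddSubgroup R) [GradedRing 𝒜]

/-- An ideal containing the irrelevant ideal is homogeneous. -/
theorem isHomogeneous_of_irr_le (hpos : ∀ n : ℤ, n < 0 → 𝒜 n = ⊥) (J : Ideal R)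
    (hJ : (irr 𝒜).toIdeal ≤ J) : J.IsHomogeneous 𝒜 := by
  intro i x hx
  rcases lt_trichotomy i 0 with hi | hi | hi
  · have h2 : (decompose 𝒜 x i : R) ∈ (⊥ : AddSubgroup R) := by
      rw [← hpos i hi]; exact (decompose 𝒜 x i).2
    have h3 : (decompose 𝒜 x i : R) = 0 := h2
    rw [h3]; exact zero_mem _
  · subst hi
    have h1 := hJ (sub_decompose_zero_mem_irr 𝒜 hpos x)
    have : (decompose 𝒜 x 0 : R) = x - (x - (decompose 𝒜 x 0 : R)) := by ring
    rw [this]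
    exact J.sub_mem hx h1
  · apply hJ
    exact Ideal.subset_span (Set.mem_iUnion₂.mpr ⟨i, hi, (decompose 𝒜 x i).2⟩)

theorem eq_of_isMaximal_of_irr_le (hpos : ∀ n : ℤ, n < 0 → 𝒜 n = ⊥) (m : HomogeneousIdeal 𝒜)
    (hm : GrLC.IsStarLocal 𝒜 m) (J : Ideal R) (hJmax : J.IsMaximal)
    (hJ : (irr 𝒜).toIdeal ≤ J) : J = m.toIdeal := by
  let J' : HomogeneousIdeal 𝒜 := ⟨J, isHomogeneous_of_irr_le 𝒜 hpos J hJ⟩
  have hco : IsCoatom J' := by
    constructor
    · intro h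
      apply hJmax.ne_top
      have : J'.toIdeal = (⊤ : HomogeneousIdeal 𝒜).toIdeal := by rw [h]
      rw [HomogeneousIdeal.toIdeal_top] at this
      exact this
    · intro Q hQ
      apply HomogeneousIdeal.toIdeal_injective
      rw [HomogeneousIdeal.toIdeal_top]
      by_contra hne
      have hle : J ≤ Q.toIdeal := fun x hx => (le_of_lt hQ) hx
      have heq := hJmax.eq_of_le hne hle
      apply (ne_of_lt hQ)
      apply HomogeneousIdeal.toIdeal_injective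
      exact heq
  have := hm.2 J' hco
  rw [← this]

theorem irr_le_of_isStarLocal (hpos : ∀ n : ℤ, n < 0 → 𝒜 n = ⊥) (m : HomogeneousIdeal 𝒜)
    (hm : GrLC.IsStarLocal 𝒜 m) : (irr 𝒜).toIdeal ≤ m.toIdeal := by
  have hmax := isMaximal_of_isStarLocal 𝒜 hpos m hm
  by_contra hcon
  have hlt : m.toIdeal < m.toIdeal ⊔ (irr 𝒜).toIdeal :=
    lt_of_le_of_ne le_sup_left (fun h => hcon (by rw [h]; exact le_sup_right))
  have htop : m.toIdeal ⊔ (irr 𝒜).toIdeal = ⊤ := hmax.1.2 _ hlt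
  have h1' : (1 : R) ∈ m.toIdeal ⊔ (irr 𝒜).toIdeal := by rw [htop]; trivial
  obtain ⟨a, ha, b, hb, hab⟩ := Submodule.mem_sup.mp h1'
  apply hmax.ne_top
  rw [Ideal.eq_top_iff_one]
  have h0 : (decompose 𝒜 (1 : R) 0 : R) = 1 :=
    decompose_of_mem_same 𝒜 (SetLike.GradedOne.one_mem)
  rw [← h0, ← hab, decompose_add, DirectSum.add_apply, AddSubgroup.coe_add,
    decompose_zero_of_mem_irr 𝒜 hpos hb, add_zero]
  exact m.isHomogeneous 0 ha

/-- With `R_0` Artinian, a power of the `*`maximal ideal lies in the irrelevant ideal. -/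
theorem exists_pow_le_irr (hpos : ∀ n : ℤ, n < 0 → 𝒜 n = ⊥) [IsArtinianRing (deg0 𝒜)]
    (m : HomogeneousIdeal 𝒜) (hm : GrLC.IsStarLocal 𝒜 m) :
    ∃ N : ℕ, m.toIdeal ^ N ≤ (irr 𝒜).toIdeal := by
  let φ : (deg0 𝒜) →+* R ⧸ (irr 𝒜).toIdeal :=
    (Ideal.Quotient.mk (irr 𝒜).toIdeal).comp (deg0 𝒜).subtype
  have hφ : Function.Surjective φ := by
    intro y
    obtain ⟨r, rfl⟩ := Ideal.Quotient.mk_surjective y
    refine ⟨⟨(decompose 𝒜 r 0 : R), (decompose 𝒜 r 0).2⟩, ?_⟩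
    show Ideal.Quotient.mk _ (decompose 𝒜 r 0 : R) = Ideal.Quotient.mk _ r
    rw [eq_comm, Ideal.Quotient.eq]
    exact sub_decompose_zero_mem_irr 𝒜 hpos r
  haveI : IsArtinianRing (R ⧸ (irr 𝒜).toIdeal) := hφ.isArtinianRing
  obtain ⟨N, hN⟩ := IsArtinianRing.isNilpotent_jacobson_bot (R := R ⧸ (irr 𝒜).toIdeal)
  refine ⟨N, ?_⟩
  have hle : m.toIdeal.map (Ideal.Quotient.mk (irr 𝒜).toIdeal) ≤
      Ideal.jacobson (⊥ : Ideal (R ⧸ (irr 𝒜).toIdeal)) := by
    unfold Ideal.jacobson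
    apply le_sInf
    rintro J ⟨-, hJmax⟩
    rw [Ideal.map_le_iff_le_comap]
    have hcm : (J.comap (Ideal.Quotient.mk (irr 𝒜).toIdeal)).IsMaximal :=
      Ideal.comap_isMaximal_of_surjective _ Ideal.Quotient.mk_surjective
    have hirr : (irr 𝒜).toIdeal ≤ J.comap (Ideal.Quotient.mk (irr 𝒜).toIdeal) := by
      intro x hx
      rw [Ideal.mem_comap, Ideal.Quotient.eq_zero_iff_mem.mpr hx]
      exact zero_mem _
    rw [eq_of_isMaximal_of_irr_le 𝒜 hpos m hm _ hcm hirr]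
  have h1 : (m.toIdeal ^ N).map (Ideal.Quotient.mk (irr 𝒜).toIdeal) = ⊥ := by
    rw [Ideal.map_pow, eq_bot_iff]
    calc _ ≤ Ideal.jacobson (⊥ : Ideal (R ⧸ (irr 𝒜).toIdeal)) ^ N := Ideal.pow_right_mono hle N
      _ = ⊥ := hN
  rw [Ideal.map_eq_bot_iff_le_ker, Ideal.mk_ker] at h1
  exact h1

theorem gam_eq_of_pow_le {a b : Ideal R} (hab : a ≤ b) {N : ℕ} (hN : b ^ N ≤ a) (X : Type u)
    [AddCommGroup X] [Module R X] : gam b X = gam a X := by
  ext x
  constructor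
  · rintro ⟨j, hj⟩
    exact ⟨j, fun r hr => hj r (Ideal.pow_right_mono hab j hr)⟩
  · rintro ⟨j, hj⟩
    refine ⟨N * j, fun r hr => hj r ?_⟩
    rw [pow_mul] at hr
    exact Ideal.pow_right_mono hN j hr


variable {M : Type u} [AddCommGroup M] [Module R M] {ℳ : ℤ → AddSubgroup M}
  [Decomposition ℳ] [SetLike.GradedSMul 𝒜 ℳ]

/-- The pieces of graded local cohomology only depend on the torsion functor. -/
theorem length_Hcomp_congr (E : StarInjRes 𝒜 ℳ) (a b : HomogeneousIdeal 𝒜)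
    (hg : ∀ (X : Type u) [AddCommGroup X] [Module R X], gam a.toIdeal X = gam b.toIdeal X)
    (i : ℕ) (n : ℤ) :
    Module.length (deg0 𝒜) (E.Hcomp a i n) = Module.length (deg0 𝒜) (E.Hcomp b i n) := by
  have hc : E.cocyc a i = E.cocyc b i := by
    unfold StarInjRes.cocyc
    rw [hg]
  have hb : E.cobdy a i = E.cobdy b i := by
    cases i with
    | zero => rfl
    | succ j =>
      show (gam a.toIdeal (E.X j).carrier).map (E.d j) = (gam b.toIdeal (E.X j).carrier).map (E.d j)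
      rw [hg]
  let ι₀ : E.cocyc a i →ₗ[R] E.cocyc b i := Submodule.inclusion (le_of_eq hc)
  have hle : (E.cobdy a i).comap (E.cocyc a i).subtype ≤
      ((E.cobdy b i).comap (E.cocyc b i).subtype).comap ι₀ := by
    intro z hz
    show (z : (E.X i).carrier) ∈ E.cobdy b i
    rw [← hb]
    exact hz
  let f : E.H a i →ₗ[R] E.H b i := Submodule.mapQ _ _ ι₀ hle
  have hf : ∀ z : E.cocyc a i, f (E.toH a i z) = E.toH b i (ι₀ z) := fun z => rfl
  have hmap : (E.Hcomp a i n).map (f.restrictScalars (deg0 𝒜)) = E.Hcomp b i n := by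
    ext ξ
    constructor
    · rintro ⟨η, ⟨z, hz, rfl⟩, rfl⟩
      exact ⟨ι₀ z, hz, rfl⟩
    · rintro ⟨w, hw, rfl⟩
      have hwa : (w : (E.X i).carrier) ∈ E.cocyc a i := by rw [hc]; exact w.2
      exact ⟨E.toH a i ⟨w.1, hwa⟩, ⟨⟨w.1, hwa⟩, hw, rfl⟩, rfl⟩
  rw [← hmap, length_map_of_injOn]
  intro η _ hη
  obtain ⟨z, rfl⟩ := toH_surjective a E i η
  have h0 : E.toH b i (ι₀ z) = 0 := hη
  rw [toH_eq_zero_iff] at h0 ⊢
  rw [hb]
  exact h0

end Transfer



/-- Let R = ⊕_{n ≥ 0} R_n be a Noetherian positively ℤ-graded ring which is standard graded (irrelevant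
ideal generated by R_1), with R_0 Artinian, *local with unique homogeneous maximal ideal m, and of
Krull dimension d. Let M be a finitely generated graded R-module, H_M(n) = ℓ_{R_0}(M_n) its Hilbert
function and P_M ∈ ℚ[X] its Hilbert polynomial, i.e. a polynomial with P_M(n) = H_M(n) for all
sufficiently large n (taken as given). Then for every integer n, H_M(n) − P_M(n) = Σ_{i = 0}^{d}
(−1)^i ℓ_{R_0}(H^i_m(M)_n), where H^i_m(M)_n are the homogeneous pieces of graded local cohomology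
with support in m computed from any *injective resolution of M (their lengths are finite, and the
pieces vanish for i > d). -/
theorem result (R : Type u) [CommRing R] [IsNoetherianRing R] (𝒜 : ℤ → AddSubgroup R) [GradedRing 𝒜] (hpos : ∀ n : ℤ, n < 0 → 𝒜 n = ⊥) (hstd : Ideal.span (⋃ n ∈ Set.Ioi (0 : ℤ), (𝒜 n : Set R)) = Ideal.span ((𝒜 1 : AddSubgroup R) : Set R)) [IsArtinianRing (GrLC.deg0 𝒜)] (m : HomogeneousIdeal 𝒜) (hm : GrLC.IsStarLocal 𝒜 m) (d : ℕ) (hd : ringKrullDim R = d) (M : Type u) [AddCommGroup M] [Module R M] [Module.Finite R M] (ℳ : ℤ → AddSubgroup M) [DirectSum.Decomposition ℳ] [SetLike.GradedSMul 𝒜 ℳ] (E : GrLC.StarInjRes 𝒜 ℳ) (P : Polynomial ℚ) (hP : ∃ N : ℤ, ∀ n : ℤ, N ≤ n → P.eval (n : ℚ) = ((Module.length (GrLC.deg0 𝒜) (GrLC.comp 𝒜 ℳ n)).toNat : ℚ)) (n : ℤ) : ((Module.length (GrLC.deg0 𝒜) (GrLC.comp 𝒜 ℳ n)).toNat : ℚ) - P.eval (n : ℚ) = ∑ i ∈ Finset.range (d + 1), (-1 : ℚ) ^ i * ((Module.length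 (GrLC.deg0 𝒜) (E.Hcomp m i n)).toNat : ℚ) := by
  have hirr := irr_le_of_isStarLocal 𝒜 hpos m hm
  obtain ⟨N, hN⟩ := exists_pow_le_irr 𝒜 hpos m hm
  have hg : ∀ (X : Type u) [AddCommGroup X] [Module R X],
      gam m.toIdeal X = gam (irr 𝒜).toIdeal X := fun X _ _ => gam_eq_of_pow_le hirr hN X
  have key := serre 𝒜 hpos (irr 𝒜) rfl d (le_of_eq hd) ℳ E P hP n
  unfold hilb chi at key
  rw [key]
  refine Finset.sum_congr rfl fun i _ => ?_
  rw [length_Hcomp_congr 𝒜 E m (irr 𝒜) hg i n]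

end Groth.Agent.S17770
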