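import Groth.Statements.S5767
import Mathlib

set_option autoImplicit false
universe u
open EGA41

namespace Groth.Agent.S5767

section Helpers

open Module PrimeSpectrum

/-- semilocal noetherian rings have finite Krull dimension -/
theorem ringKrullDim_lt_top_of_semilocal (A : Type u) [CommRing A] [IsNoetherianRing A]
    [Finite (MaximalSpectrum A)] : ringKrullDim A < ⊤ := by
  classical
  have := Fintype.ofFinite (MaximalSpectrum A)
  obtain ⟨n, hn, hle⟩ : ∃ n : ℕ∞, n < ⊤ ∧ ∀ m : MaximalSpectrum A, m.asIdeal.height ≤ n := by
    refine ⟨Finset.univ.sup fun m : MaximalSpectrum A => m.asIdeal.height, ?_, fun m => ?_⟩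
    · rw [Finset.sup_lt_iff (by simp)]
      intro m _
      exact Ideal.height_lt_top m.isMaximal.ne_top
    · exact Finset.le_sup (f := fun m : MaximalSpectrum A => m.asIdeal.height) (Finset.mem_univ m)
  have h : ringKrullDim A ≤ (n : WithBot ℕ∞) := by
    rw [ringKrullDim_le_iff_isMaximal_height_le]
    intro m hm
    have : m.height ≤ n := hle ⟨m, hm⟩
    exact_mod_cast this
  refine lt_of_le_of_lt h ?_
  exact WithBot.coe_lt_coe.mpr hn

theorem ringKrullDim_quotient_le_supportDim {A : Type u} [CommRing A] {M : Type u} [AddCommGroup M]
    [Module A M] (p : PrimeSpectrum A) (hp : p ∈ Module.support A M) :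
    ringKrullDim (A ⧸ p.asIdeal) ≤ Module.supportDim A M := by
  rw [ringKrullDim_quotient, Module.supportDim]
  have hsub : ∀ q : zeroLocus (p.asIdeal : Set A), q.1 ∈ Module.support A M := fun q =>
    Module.mem_support_mono (show p ≤ q.1 from q.2) hp
  exact Order.krullDim_le_of_strictMono (fun q => (⟨q.1, hsub q⟩ : Module.support A M))
    (fun a b h => h)

theorem length_le_ringKrullDim_quotient_head {A : Type u} [CommRing A] (S : Set (PrimeSpectrum A))
    (c : LTSeries S) : (c.length : WithBot ℕ∞) ≤ ringKrullDim (A ⧸ c.head.1.asIdeal) := by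
  rw [ringKrullDim_quotient]
  have hle : ∀ i, c.head.1 ≤ (c i).1 := fun i => LTSeries.head_le c i
  let c' : LTSeries (zeroLocus (c.head.1.asIdeal : Set A)) :=
    { length := c.length
      toFun := fun i => ⟨(c i).1, hle i⟩
      step := fun i => c.step i }
  exact Order.LTSeries.length_le_krullDim c'

theorem add_one_le_of_le_of_lt {n : ℕ} {a d : WithBot ℕ∞} (h1 : (n : WithBot ℕ∞) ≤ a) (h2 : a < d) :
    (n : WithBot ℕ∞) + 1 ≤ d := by
  have h3 : (n : WithBot ℕ∞) < d := lt_of_le_of_lt h1 h2
  induction d with
  | bot => simp at h3
  | coe e =>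
    have : (n : ℕ∞) < e := by exact_mod_cast h3
    have h4 : (n : ℕ∞) + 1 ≤ e := Order.add_one_le_of_lt this
    exact_mod_cast h4

theorem main (A : Type u) [CommRing A] [IsNoetherianRing A]
    [Finite (MaximalSpectrum A)] (M : Type u) [AddCommGroup M] [Module A M] [Module.Finite A M] (x : A)
    (hx : x ∈ Ring.jacobson A) :
    Module.supportDim A (QuotSMulTop x M) + 1 = Module.supportDim A M ↔
      ∀ p : PrimeSpectrum A, p ∈ Module.support A M →
        ringKrullDim (A ⧸ p.asIdeal) = Module.supportDim A M → x ∉ p.asIdeal := by
  have hxj : x ∈ (Module.annihilator A M).jacobson :=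
    Ideal.jacobson_mono bot_le (Ideal.jacobson_bot (R := A) ▸ hx)
  have hge : supportDim A M ≤ supportDim A (QuotSMulTop x M) + 1 :=
    supportDim_le_supportDim_quotSMulTop_succ_of_mem_jacobson hxj
  constructor
  · intro heq p hp hdim hxp
    have hp' : p ∈ Module.support A (QuotSMulTop x M) := by
      rw [Module.support_quotSMulTop]
      exact ⟨hp, by simpa using hxp⟩
    have h1 : ringKrullDim (A ⧸ p.asIdeal) ≤ supportDim A (QuotSMulTop x M) :=
      ringKrullDim_quotient_le_supportDim p hp'
    rw [hdim, ← heq] at h1
    have hnt : Nontrivial (QuotSMulTop x M) :=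
      (Module.nonempty_support_iff (R := A)).mp ⟨p, hp'⟩
    have hbot : supportDim A (QuotSMulTop x M) ≠ ⊥ :=
      (supportDim_ne_bot_iff_nontrivial A _).mpr hnt
    have htop : supportDim A (QuotSMulTop x M) < ⊤ :=
      lt_of_le_of_lt (supportDim_le_ringKrullDim A _) (ringKrullDim_lt_top_of_semilocal A)
    generalize supportDim A (QuotSMulTop x M) = d at h1 hbot htop
    induction d with
    | bot => exact hbot rfl
    | coe e =>
      have he : e ≠ ⊤ := by
        rintro rfl
        exact absurd htop (by simp)
      have h2 : e + 1 ≤ e := by exact_mod_cast h1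
      rw [ENat.add_one_le_iff he] at h2
      exact lt_irrefl _ h2
  · intro H
    refine le_antisymm ?_ hge
    by_cases hnt : Nontrivial (QuotSMulTop x M)
    · have : Nonempty (Module.support A (QuotSMulTop x M)) :=
        nonempty_support_of_nontrivial.to_subtype
      rw [supportDim, Order.krullDim_eq_iSup_length]
      have : ∀ c : LTSeries (Module.support A (QuotSMulTop x M)),
          (c.length : WithBot ℕ∞) + 1 ≤ supportDim A M := by
        intro c
        have hc : c.head.1 ∈ Module.support A M ∩ zeroLocus {x} := by
          rw [← Module.support_quotSMulTop]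
          exact c.head.2
        have hxc : x ∈ c.head.1.asIdeal := by simpa using hc.2
        have h1 := length_le_ringKrullDim_quotient_head _ c
        have h2 := ringKrullDim_quotient_le_supportDim c.head.1 hc.1
        have h3 : ringKrullDim (A ⧸ c.head.1.asIdeal) ≠ supportDim A M :=
          fun h => H c.head.1 hc.1 h hxc
        exact add_one_le_of_le_of_lt h1 (lt_of_le_of_ne h2 h3)
      generalize supportDim A M = d at this ⊢
      induction d with
      | bot =>
        exfalso
        have := this (RelSeries.singleton _ (Classical.arbitrary _))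
        simp at this
      | coe e =>
        apply WithBot.coe_le_coe.mpr
        simp only [ENat.iSup_add, iSup_le_iff]
        intro c
        have := this c
        exact_mod_cast this
    · rw [not_nontrivial_iff_subsingleton] at hnt
      rw [supportDim_eq_bot_of_subsingleton]
      simp

end Helpers


/-- Let A be a semi-local Noetherian ring, M a finitely generated A-module and x an element of the
Jacobson radical of A. One always has dim(M/xM) ≥ dim(M) - 1; equality dim(M/xM) = dim(M) - 1 holds
if and only if x belongs to none of the prime ideals p of Supp(M) with dim(A/p) = dim(M). Stated as: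
dim(M/xM) + 1 = dim(M) iff x avoids those primes. -/
theorem result (A : Type u) [CommRing A] [IsNoetherianRing A]
    [Finite (MaximalSpectrum A)] (M : Type u) [AddCommGroup M] [Module A M] [Module.Finite A M] (x : A)
    (hx : x ∈ Ring.jacobson A) :
    Module.supportDim A (QuotSMulTop x M) + 1 = Module.supportDim A M ↔
      ∀ p : PrimeSpectrum A, p ∈ Module.support A M →
        ringKrullDim (A ⧸ p.asIdeal) = Module.supportDim A M → x ∉ p.asIdeal := by
  exact main A M x hx

end Groth.Agent.S5767
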