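import Groth.Statements.S5768
import Mathlib
import Groth.Agent.S5767

set_option autoImplicit false
universe u
open EGA41

namespace Groth.Agent.S5768

section Helpers

set_option linter.style.haveILetI false
set_option linter.deprecated false

open Module PrimeSpectrum

theorem isArtinianRing_quotient_annihilator_of_isArtinian (A : Type u) [CommRing A]
    (N : Type u) [AddCommGroup N] [Module A N] [Module.Finite A N] [IsArtinian A N] :
    IsArtinianRing (A ⧸ Module.annihilator A N) := by
  obtain ⟨k, s, hs⟩ := Module.Finite.exists_fin (R := A) (M := N)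
  let f : A →ₗ[A] (Fin k → N) := LinearMap.pi (fun i => LinearMap.toSpanSingleton A N (s i))
  have hker : LinearMap.ker f = Module.annihilator A N := by
    ext a
    rw [LinearMap.mem_ker, Module.mem_annihilator]
    constructor
    · intro h n
      have hn : n ∈ Submodule.span A (Set.range s) := hs ▸ Submodule.mem_top
      induction hn using Submodule.span_induction with
      | mem x hx =>
        obtain ⟨i, rfl⟩ := hx
        have := congrFun h i
        simpa [f] using this
      | zero => simp
      | add x y _ _ hx hy => rw [smul_add, hx, hy, add_zero]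
      | smul c x _ hx => rw [smul_comm, hx, smul_zero]
    · intro h
      ext i
      simp [f, h]
  let g : (A ⧸ Module.annihilator A N) →ₗ[A] (Fin k → N) :=
    Submodule.liftQ (Module.annihilator A N) f (le_of_eq hker.symm)
  have hg : Function.Injective g := by
    rw [← LinearMap.ker_eq_bot]
    exact Submodule.ker_liftQ_eq_bot _ _ _ (le_of_eq hker)
  haveI : IsArtinian A (A ⧸ Module.annihilator A N) := isArtinian_of_injective g hg
  exact isArtinian_of_tower A (inferInstanceAs (IsArtinian A (A ⧸ Module.annihilator A N)))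

theorem isFiniteLength_iff_supportDim_le_zero (A : Type u) [CommRing A] [IsNoetherianRing A]
    (N : Type u) [AddCommGroup N] [Module A N] [Module.Finite A N] :
    IsFiniteLength A N ↔ Module.supportDim A N ≤ 0 := by
  rw [supportDim_eq_ringKrullDim_quotient_annihilator, isFiniteLength_iff_isNoetherian_isArtinian]
  constructor
  · rintro ⟨_, hart⟩
    haveI := isArtinianRing_quotient_annihilator_of_isArtinian A N
    have : Ring.KrullDimLE 0 (A ⧸ Module.annihilator A N) := inferInstance
    exact_mod_cast Ring.krullDimLE_iff.mp this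
  · intro h
    refine ⟨isNoetherian_of_isNoetherianRing_of_finite A N, ?_⟩
    haveI : Ring.KrullDimLE 0 (A ⧸ Module.annihilator A N) := Ring.krullDimLE_iff.mpr (by exact_mod_cast h)
    haveI : IsArtinianRing (A ⧸ Module.annihilator A N) :=
      isArtinianRing_iff_krullDimLE_zero.mpr inferInstance
    letI : Module (A ⧸ Module.annihilator A N) N := Module.quotientAnnihilator
    haveI : IsScalarTower A (A ⧸ Module.annihilator A N) N := by
      refine ⟨fun a b n => ?_⟩
      obtain ⟨b, rfl⟩ := Ideal.Quotient.mk_surjective b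
      show (Ideal.Quotient.mk _ (a • b)) • n = a • ((Ideal.Quotient.mk _ b) • n)
      show (a • b) • n = a • (b • n)
      exact smul_assoc a b n
    haveI : Module.Finite (A ⧸ Module.annihilator A N) N :=
      Module.Finite.of_restrictScalars_finite A _ N
    haveI : IsArtinian (A ⧸ Module.annihilator A N) N := inferInstance
    exact isArtinian_of_surjective_algebraMap (R := A ⧸ Module.annihilator A N)
      Ideal.Quotient.mk_surjective

theorem mem_jacobson_annihilator {A : Type u} [CommRing A] (M : Type u) [AddCommGroup M]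
    [Module A M] {x : A} (hx : x ∈ Ring.jacobson A) : x ∈ (Module.annihilator A M).jacobson :=
  Ideal.jacobson_mono bot_le (Ideal.jacobson_bot (R := A) ▸ hx)

theorem supportDim_le_list (A : Type u) [CommRing A] [IsNoetherianRing A] (xs : List A)
    (hxs : ∀ x ∈ xs, x ∈ Ring.jacobson A) :
    ∀ (M : Type u) [AddCommGroup M] [Module A M] [Module.Finite A M],
    supportDim A M ≤ supportDim A (M ⧸ Ideal.ofList xs • (⊤ : Submodule A M)) + xs.length := by
  induction xs with
  | nil =>
    intro M _ _ _
    rw [Ideal.ofList_nil, Submodule.bot_smul]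
    simpa using (supportDim_eq_of_equiv (Submodule.quotEquivOfEqBot (⊥ : Submodule A M) rfl)).ge
  | cons x xs ih =>
    intro M _ _ _
    have hx : x ∈ (annihilator A M).jacobson :=
      mem_jacobson_annihilator M (hxs x List.mem_cons_self)
    have h1 := supportDim_le_supportDim_quotSMulTop_succ_of_mem_jacobson hx
    have h2 := ih (fun y hy => hxs y (List.mem_cons_of_mem _ hy)) (QuotSMulTop x M)
    rw [supportDim_eq_of_equiv (Submodule.quotOfListConsSMulTopEquivQuotSMulTopInner M x xs)]
    calc supportDim A M ≤ supportDim A (QuotSMulTop x M) + 1 := h1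
      _ ≤ (supportDim A (QuotSMulTop x M ⧸ Ideal.ofList xs • (⊤ : Submodule A (QuotSMulTop x M)))
            + xs.length) + 1 := by gcongr
      _ = _ := by rw [List.length_cons, Nat.cast_add, Nat.cast_one, add_assoc]

theorem nontrivial_quotSMulTop {A : Type u} [CommRing A] (M : Type u) [AddCommGroup M]
    [Module A M] [Module.Finite A M] [Nontrivial M] {x : A} (hx : x ∈ Ring.jacobson A) :
    Nontrivial (QuotSMulTop x M) :=
  Submodule.Quotient.nontrivial_iff.mpr
    (Submodule.top_ne_pointwise_smul_of_mem_jacobson_annihilator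
      (mem_jacobson_annihilator M hx)).symm

theorem ringKrullDim_quotient_eq_coheight {A : Type u} [CommRing A] (p : PrimeSpectrum A) :
    ringKrullDim (A ⧸ p.asIdeal) = Order.coheight p := by
  rw [ringKrullDim_quotient, Order.coheight_eq_krullDim_Ici]
  have : zeroLocus (p.asIdeal : Set A) = Set.Ici p := by
    ext q
    rw [mem_zeroLocus, SetLike.coe_subset_coe, Set.mem_Ici]
    rfl
  rw [this]

theorem jacobson_le_prime_isMaximal {A : Type u} [CommRing A] [Finite (MaximalSpectrum A)]
    (p : Ideal A) [hp : p.IsPrime] (h : Ring.jacobson A ≤ p) : p.IsMaximal := by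
  classical
  have := Fintype.ofFinite (MaximalSpectrum A)
  have h1 : Finset.univ.inf (fun m : MaximalSpectrum A => m.asIdeal) ≤ Ring.jacobson A := by
    rw [Ring.jacobson_eq_sInf_isMaximal]
    apply le_sInf
    intro I hI
    exact Finset.inf_le (f := fun m : MaximalSpectrum A => m.asIdeal)
      (Finset.mem_univ (⟨I, hI⟩ : MaximalSpectrum A))
  obtain ⟨m, _, hm⟩ := (Ideal.IsPrime.inf_le' hp).mp (h1.trans h)
  have : m.asIdeal = p := m.isMaximal.eq_of_le hp.ne_top hm
  exact this ▸ m.isMaximal

theorem exists_mem_jacobson_avoiding (A : Type u) [CommRing A] [IsNoetherianRing A]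
    [Finite (MaximalSpectrum A)] (N : Type u) [AddCommGroup N] [Module A N] [Module.Finite A N]
    (hpos : 0 < supportDim A N) :
    ∃ y ∈ Ring.jacobson A, ∀ p : PrimeSpectrum A, p ∈ Module.support A N →
      ringKrullDim (A ⧸ p.asIdeal) = supportDim A N → y ∉ p.asIdeal := by
  classical
  have hfin : (Module.annihilator A N).minimalPrimes.Finite :=
    Ideal.finite_minimalPrimes_of_isNoetherianRing A _
  let P : Finset (Ideal A) := hfin.toFinset.filter (fun p => ¬ p.IsMaximal)
  have hP : ∀ p ∈ P, p ∈ (Module.annihilator A N).minimalPrimes ∧ ¬ p.IsMaximal := by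
    intro p hp
    simpa [P] using hp
  obtain ⟨y, hyr, hy⟩ : ∃ y ∈ Ring.jacobson A, ∀ p ∈ P, y ∉ p := by
    by_contra hcon
    push Not at hcon
    have hsub : ((Ring.jacobson A : Ideal A) : Set A) ⊆ ⋃ p ∈ (P : Set (Ideal A)), (p : Set A) := by
      intro y hy
      obtain ⟨p, hp, hyp⟩ := hcon y hy
      exact Set.mem_biUnion (Finset.mem_coe.mpr hp) hyp
    by_cases hPe : P = ∅
    · rw [hPe] at hsub
      simp only [Finset.coe_empty, Set.mem_empty_iff_false, Set.iUnion_of_empty,
        Set.iUnion_empty, Set.subset_empty_iff] at hsub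
      have : (0 : A) ∈ ((Ring.jacobson A : Ideal A) : Set A) := (Ring.jacobson A).zero_mem
      rw [hsub] at this
      exact this
    · obtain ⟨p0, hp0⟩ := Finset.nonempty_of_ne_empty hPe
      have hprime : ∀ i ∈ P, i ≠ p0 → i ≠ p0 → Ideal.IsPrime (id i) := fun i hi _ _ =>
        (hP i hi).1.1.1
      obtain ⟨p, hp, hle⟩ := (Ideal.subset_union_prime (f := id) p0 p0 hprime).mp hsub
      haveI : p.IsPrime := (hP p hp).1.1.1
      exact (hP p hp).2 (jacobson_le_prime_isMaximal p hle)
  refine ⟨y, hyr, fun p hp hdim hyp => ?_⟩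
  have hann : Module.annihilator A N ≤ p.asIdeal := Module.mem_support_iff_of_finite.mp hp
  obtain ⟨q, hq, hqp⟩ := Ideal.exists_minimalPrimes_le hann
  haveI : q.IsPrime := hq.1.1
  have hqs : (⟨q, hq.1.1⟩ : PrimeSpectrum A) ∈ Module.support A N :=
    Module.mem_support_iff_of_finite.mpr hq.1.2
  have htop : supportDim A N < ⊤ :=
    lt_of_le_of_lt (supportDim_le_ringKrullDim A N) (Groth.Agent.S5767.ringKrullDim_lt_top_of_semilocal A)
  rcases eq_or_lt_of_le hqp with heq | hlt
  · -- q = p
    have hpmin : p.asIdeal ∈ (Module.annihilator A N).minimalPrimes := heq ▸ hq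
    have hnm : ¬ p.asIdeal.IsMaximal := by
      intro hm
      letI : Field (A ⧸ p.asIdeal) := Ideal.Quotient.field _
      rw [ringKrullDim_eq_zero_of_field] at hdim
      rw [← hdim] at hpos
      exact lt_irrefl _ hpos
    have : p.asIdeal ∈ P := by
      simp only [P, Finset.mem_filter, Set.Finite.mem_toFinset]
      exact ⟨hpmin, hnm⟩
    exact hy _ this hyp
  · -- q < p
    have h1 : Order.coheight p + 1 ≤ Order.coheight (⟨q, hq.1.1⟩ : PrimeSpectrum A) :=
      Order.coheight_add_one_le (show (⟨q, hq.1.1⟩ : PrimeSpectrum A) < p from hlt)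
    have h2 := Groth.Agent.S5767.ringKrullDim_quotient_le_supportDim _ hqs
    rw [ringKrullDim_quotient_eq_coheight] at h2 hdim
    have h3 : ((Order.coheight p + 1 : ℕ∞) : WithBot ℕ∞) ≤ supportDim A N :=
      le_trans (by exact_mod_cast h1) h2
    rw [← hdim] at h3 htop
    have hne : Order.coheight p ≠ ⊤ := by
      intro h
      rw [h] at htop
      exact lt_irrefl _ htop
    have h4 : Order.coheight p + 1 ≤ Order.coheight p := by exact_mod_cast h3
    rw [ENat.add_one_le_iff hne] at h4
    exact lt_irrefl _ h4

theorem withBot_add_one_cancel {a : WithBot ℕ∞} {n : ℕ} (h : a + 1 = ((n + 1 : ℕ) : WithBot ℕ∞)) :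
    a = n := by
  induction a with
  | bot =>
    exfalso
    rw [WithBot.bot_add] at h
    exact WithBot.bot_ne_coe h
  | coe e =>
    have h' : e + 1 = (n : ℕ∞) + 1 := by exact_mod_cast h
    have : e = n := by
      induction e with
      | top =>
        exfalso
        rw [top_add] at h'
        exact ENat.top_ne_coe (n + 1) (by exact_mod_cast h')
      | coe m =>
        have : m + 1 = n + 1 := by exact_mod_cast h'
        have : m = n := by omega
        rw [this]
    rw [this]; rfl

theorem exists_sop (A : Type u) [CommRing A] [IsNoetherianRing A] [Finite (MaximalSpectrum A)]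
    (n : ℕ) : ∀ (N : Type u) [AddCommGroup N] [Module A N] [Module.Finite A N] [Nontrivial N],
    supportDim A N = n → ∃ ys : List A, (∀ y ∈ ys, y ∈ Ring.jacobson A) ∧ ys.length = n ∧
      IsFiniteLength A (N ⧸ Ideal.ofList ys • (⊤ : Submodule A N)) := by
  induction n with
  | zero =>
    intro N _ _ _ _ hN
    refine ⟨[], by simp, rfl, ?_⟩
    rw [Ideal.ofList_nil, Submodule.bot_smul]
    have : IsFiniteLength A N := by
      rw [isFiniteLength_iff_supportDim_le_zero, hN]
      simp
    exact (Submodule.quotEquivOfEqBot (⊥ : Submodule A N) rfl).symm.isFiniteLength this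
  | succ n ih =>
    intro N _ _ _ _ hN
    have hpos : 0 < supportDim A N := by
      rw [hN]
      exact_mod_cast Nat.succ_pos n
    obtain ⟨y, hyr, hy⟩ := exists_mem_jacobson_avoiding A N hpos
    have h1 := (Groth.Agent.S5767.result A N y hyr).mpr hy
    rw [hN] at h1
    have h2 : supportDim A (QuotSMulTop y N) = n := withBot_add_one_cancel h1
    haveI : Nontrivial (QuotSMulTop y N) := nontrivial_quotSMulTop N hyr
    obtain ⟨ys, hys, hlen, hfl⟩ := ih (QuotSMulTop y N) h2
    refine ⟨y :: ys, ?_, by simp [hlen], ?_⟩
    · intro z hz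
      rcases List.mem_cons.mp hz with rfl | hz
      · exact hyr
      · exact hys z hz
    · exact (Submodule.quotOfListConsSMulTopEquivQuotSMulTopInner N y ys).symm.isFiniteLength hfl

theorem exists_nat_eq_supportDim (A : Type u) [CommRing A] [IsNoetherianRing A]
    [Finite (MaximalSpectrum A)] (M : Type u) [AddCommGroup M] [Module A M] [Nontrivial M] :
    ∃ n : ℕ, supportDim A M = n := by
  have h1 : supportDim A M ≠ ⊥ := (supportDim_ne_bot_iff_nontrivial A M).mpr inferInstance
  have h2 : supportDim A M < ⊤ :=
    lt_of_le_of_lt (supportDim_le_ringKrullDim A M)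
      (Groth.Agent.S5767.ringKrullDim_lt_top_of_semilocal A)
  generalize supportDim A M = d at h1 h2
  induction d with
  | bot => exact absurd rfl h1
  | coe e =>
    induction e with
    | top => exact absurd h2 (lt_irrefl _)
    | coe n => exact ⟨n, rfl⟩

theorem main (A : Type u) [CommRing A] [IsNoetherianRing A] [Finite (MaximalSpectrum A)]
    (xs : List A) (hxs : ∀ x ∈ xs, x ∈ Ring.jacobson A) :
    ∀ (M : Type u) [AddCommGroup M] [Module A M] [Module.Finite A M] [Nontrivial M],
    Module.supportDim A (M ⧸ (Ideal.ofList xs • (⊤ : Submodule A M))) + xs.length =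
        Module.supportDim A M ↔
      ∃ ys : List A, (∀ y ∈ ys, y ∈ Ring.jacobson A) ∧
        ((xs ++ ys).length : WithBot ℕ∞) = Module.supportDim A M ∧
        IsFiniteLength A (M ⧸ (Ideal.ofList (xs ++ ys) • (⊤ : Submodule A M))) := by
  induction xs with
  | nil =>
    intro M _ _ _ _
    obtain ⟨n, hn⟩ := exists_nat_eq_supportDim A M
    constructor
    · intro _
      obtain ⟨ys, hys, hlen, hfl⟩ := exists_sop A n M hn
      exact ⟨ys, hys, by simp [hlen, hn], by simpa using hfl⟩
    · intro _
      rw [Ideal.ofList_nil, Submodule.bot_smul]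
      simpa using (supportDim_eq_of_equiv (Submodule.quotEquivOfEqBot (⊥ : Submodule A M) rfl))
  | cons x xs ih =>
    intro M _ _ _ _
    have hx : x ∈ Ring.jacobson A := hxs x List.mem_cons_self
    have hxs' : ∀ y ∈ xs, y ∈ Ring.jacobson A := fun y hy => hxs y (List.mem_cons_of_mem _ hy)
    haveI : Nontrivial (QuotSMulTop x M) := nontrivial_quotSMulTop M hx
    obtain ⟨n, hn⟩ := exists_nat_eq_supportDim A M
    obtain ⟨n', hn'⟩ := exists_nat_eq_supportDim A (QuotSMulTop x M)
    have h1 : supportDim A M ≤ supportDim A (QuotSMulTop x M) + 1 :=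
      supportDim_le_supportDim_quotSMulTop_succ_of_mem_jacobson (mem_jacobson_annihilator M hx)
    have hnn' : n ≤ n' + 1 := by
      rw [hn, hn'] at h1
      exact_mod_cast h1
    have IH := ih hxs' (QuotSMulTop x M)
    rw [supportDim_eq_of_equiv (Submodule.quotOfListConsSMulTopEquivQuotSMulTopInner M x xs)]
    constructor
    · intro h
      have h2 := supportDim_le_list A xs hxs' (QuotSMulTop x M)
      set e := supportDim A (QuotSMulTop x M ⧸ Ideal.ofList xs • (⊤ : Submodule A (QuotSMulTop x M)))
        with he
      rw [List.length_cons, Nat.cast_add, Nat.cast_one, ← add_assoc, hn] at h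
      rw [hn'] at h2
      -- h : e + len + 1 = n, h2 : n' ≤ e + len
      have h3 : ((n' + 1 : ℕ) : WithBot ℕ∞) ≤ n := by
        rw [← h, Nat.cast_add, Nat.cast_one]
        gcongr
      have h4 : n' + 1 = n := le_antisymm (by exact_mod_cast h3) hnn'
      have h5 : e + xs.length = n' := by
        apply withBot_add_one_cancel
        rw [h, ← h4]
      obtain ⟨ys, hys, hlen, hfl⟩ := IH.mp (by rw [h5, hn'])
      refine ⟨ys, hys, ?_, ?_⟩
      · rw [hn, ← h4, List.cons_append, List.length_cons, Nat.cast_add, Nat.cast_one, hlen, hn']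
        rfl
      · exact (Submodule.quotOfListConsSMulTopEquivQuotSMulTopInner M x (xs ++ ys)).symm.isFiniteLength
          hfl
    · rintro ⟨ys, hys, hlen, hfl⟩
      rw [List.cons_append] at hlen hfl
      have hfl' : IsFiniteLength A (QuotSMulTop x M ⧸
          Ideal.ofList (xs ++ ys) • (⊤ : Submodule A (QuotSMulTop x M))) :=
        (Submodule.quotOfListConsSMulTopEquivQuotSMulTopInner M x (xs ++ ys)).isFiniteLength hfl
      have hall : ∀ y ∈ xs ++ ys, y ∈ Ring.jacobson A := by
        intro y hy
        rcases List.mem_append.mp hy with h | h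
        · exact hxs' y h
        · exact hys y h
      have h2 := supportDim_le_list A (xs ++ ys) hall (QuotSMulTop x M)
      have h3 := (isFiniteLength_iff_supportDim_le_zero A _).mp hfl'
      rw [hn'] at h2
      rw [hn, List.length_cons] at hlen
      have hl : (xs ++ ys).length + 1 = n := by exact_mod_cast hlen
      have h4 : (n' : WithBot ℕ∞) ≤ ((xs ++ ys).length : WithBot ℕ∞) := by
        calc (n' : WithBot ℕ∞) ≤ _ := h2
          _ ≤ 0 + ((xs ++ ys).length : WithBot ℕ∞) := by gcongr
          _ = _ := zero_add _
      have h5 : n' ≤ (xs ++ ys).length := by exact_mod_cast h4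
      have h6 : n' = (xs ++ ys).length := by omega
      have h7 := IH.mpr ⟨ys, hys, by rw [hn', h6], hfl'⟩
      rw [List.length_cons, Nat.cast_add, Nat.cast_one, ← add_assoc, h7, hn', hn, ← hl, h6]
      rfl

end Helpers


/-- Let A be a semi-local Noetherian ring with Jacobson radical r, M a nonzero finitely generated
A-module and x_1, ..., x_k elements of r. One always has dim(M/(x_1 M + ... + x_k M)) ≥ dim(M) - k,
and equality holds if and only if there exist further elements of r which together with the x_i form
a system of parameters for M (dim(M) elements of r modulo which M has finite length). -/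
theorem result (A : Type u) [CommRing A]
    [IsNoetherianRing A] [Finite (MaximalSpectrum A)] (M : Type u) [AddCommGroup M] [Module A M]
    [Module.Finite A M] [Nontrivial M] (xs : List A) (hxs : ∀ x ∈ xs, x ∈ Ring.jacobson A) :
    Module.supportDim A (M ⧸ (Ideal.ofList xs • (⊤ : Submodule A M))) + xs.length = Module.supportDim A M ↔
      ∃ ys : List A, (∀ y ∈ ys, y ∈ Ring.jacobson A) ∧
        ((xs ++ ys).length : WithBot ℕ∞) = Module.supportDim A M ∧
        IsFiniteLength A (M ⧸ (Ideal.ofList (xs ++ ys) • (⊤ : Submodule A M))) := by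
  exact main A xs hxs M

end Groth.Agent.S5768
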