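import Groth.Statements.S18656
import Groth.Agent.Lib.H74TopLC
import Groth.Agent.Lib.H74GrSerre4

set_option autoImplicit false
universe u
open GrLC

namespace Groth.Agent.S18656

open DirectSum Groth.Agent.Lib.H74GrArt Groth.Agent.Lib.H74GrLES Groth.Agent.S13229

section EndDeg

variable {M : Type u} [AddCommGroup M]

theorem ne_bot_of_endDeg_eq (ℳ : ℤ → AddSubgroup M) (a : ℤ)
    (ha : GrLC.endDeg ℳ = ((a : WithTop ℤ) : WithBot (WithTop ℤ))) : ℳ a ≠ ⊥ := by
  intro h0
  have hle : GrLC.endDeg ℳ ≤ (((a - 1 : ℤ) : WithTop ℤ) : WithBot (WithTop ℤ)) := by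
    unfold GrLC.endDeg
    refine iSup_le fun n => iSup_le fun hn => ?_
    have hna : ((n : WithTop ℤ) : WithBot (WithTop ℤ)) ≤ ((a : WithTop ℤ) : WithBot (WithTop ℤ)) := by
      rw [← ha]
      unfold GrLC.endDeg
      exact le_iSup₂_of_le n hn le_rfl
    have hna' : n ≤ a := by exact_mod_cast hna
    have hne : n ≠ a := fun h => hn (h ▸ h0)
    have : n ≤ a - 1 := by omega
    exact_mod_cast this
  rw [ha] at hle
  have : a ≤ a - 1 := by exact_mod_cast hle
  omega

end EndDeg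

section Graded

variable {R : Type u} [CommRing R] (𝒜 : ℤ → AddSubgroup R) [GradedRing 𝒜]
variable {H : Type u} [AddCommGroup H] [Module R H] (ℋ : ℤ → AddSubgroup H) [Decomposition ℋ]
  [SetLike.GradedSMul 𝒜 ℋ]

/-- If `H = (R_1) H` and `H_n = 0` then `H_{n+1} = 0`. -/
theorem succ_eq_bot (m : Ideal R) (hm : m = Ideal.span ((𝒜 1 : AddSubgroup R) : Set R))
    (hdiv : m • (⊤ : Submodule R H) = ⊤) (n : ℤ) (hn : ℋ n = ⊥) : ℋ (n + 1) = ⊥ := by
  have hQ : ∀ r ∈ m, ∀ η : H, (decompose ℋ (r • η) (n + 1) : H) = 0 := by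
    intro r hr
    rw [hm] at hr
    refine Submodule.span_induction ?_ ?_ ?_ ?_ hr
    · intro x hx η
      rw [decompose_smul_left' 𝒜 ℋ hx η (n + 1)]
      have e : n + 1 - 1 = n := by ring
      rw [e]
      have h1 : (decompose ℋ η n : H) ∈ ℋ n := (decompose ℋ η n).2
      have h2 : (decompose ℋ η n : H) ∈ (⊥ : AddSubgroup H) := hn ▸ h1
      rw [(AddSubgroup.mem_bot).mp h2, smul_zero]
    · intro η
      rw [zero_smul, decompose_zero]; rfl
    · intro x y _ _ hx hy η
      rw [add_smul, decompose_add, DirectSum.add_apply, AddSubgroup.coe_add, hx η, hy η, add_zero]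
    · intro c x _ hx η
      rw [smul_eq_mul, mul_comm, mul_smul]
      exact hx (c • η)
  rw [eq_bot_iff]
  intro ξ hξ
  rw [AddSubgroup.mem_bot]
  have hmem : ξ ∈ m • (⊤ : Submodule R H) := by rw [hdiv]; trivial
  have key : (decompose ℋ ξ (n + 1) : H) = 0 := by
    refine Submodule.smul_induction_on hmem ?_ ?_
    · intro r hr η _
      exact hQ r hr η
    · intro x y hx hy
      rw [decompose_add, DirectSum.add_apply, AddSubgroup.coe_add, hx, hy, add_zero]
  rw [← decompose_of_mem_same ℋ hξ]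
  exact key

theorem add_eq_bot (m : Ideal R) (hm : m = Ideal.span ((𝒜 1 : AddSubgroup R) : Set R))
    (hdiv : m • (⊤ : Submodule R H) = ⊤) (n : ℤ) (hn : ℋ n = ⊥) (j : ℕ) : ℋ (n + j) = ⊥ := by
  induction j with
  | zero => simpa using hn
  | succ j ih =>
    have := succ_eq_bot 𝒜 ℋ m hm hdiv (n + j) ih
    have e : n + ((j + 1 : ℕ) : ℤ) = n + j + 1 := by push_cast; ring
    rw [e]
    exact this

end Graded



/-- Let R be a graded ring defined over a field k = R_0, generated over k by R_1, of dimension r ≥ 1,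
and let a(R) be its a-invariant. Then the homogeneous piece H^r_m(R)_n is nonzero for every n ≤
a(R). Here 'graded ring defined over a field' means R = ⊕_{n ≥ 0} R_n is Noetherian with R_0 a
field, and m = R_+ is its unique graded maximal ideal. The a-invariant a(R) is the largest degree in
which the graded local cohomology H^n_m(R) (n = dim R, m = R_+), computed from a *injective
resolution of R in the graded category, is nonzero. -/
theorem result (R : Type u) [CommRing R] [IsNoetherianRing R] (𝒜 : ℤ → AddSubgroup R) [GradedRing 𝒜] (hpos : ∀ n : ℤ, n < 0 → 𝒜 n = ⊥) (h0 : IsField (GrLC.deg0 𝒜)) (m : HomogeneousIdeal 𝒜) (hm : GrLC.IsStarLocal 𝒜 m) (hmsp : m.toIdeal = Ideal.span (⋃ n ∈ Set.Ioi (0 : ℤ), (𝒜 n : Set R))) (hstd : Ideal.span (⋃ n ∈ Set.Ioi (0 : ℤ), (𝒜 n : Set R)) = Ideal.span ((𝒜 1 : AddSubgroup R) : Set R)) (r : ℕ) (hr : ringKrullDim R = r) (h1 : 1 ≤ r) (I : GrLC.StarInjRes 𝒜 𝒜) (a : ℤ) (ha : GrLC.endDeg (I.Hgr m r) = ((a : WithTop ℤ) : WithBot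 (WithTop ℤ))) (n : ℤ) (hn : n ≤ a) : I.Hcomp m r n ≠ ⊥ := by
  intro hbot
  have hmax : m.toIdeal.IsMaximal := isMaximal_of_isStarLocal 𝒜 hpos m hm
  have hdivU : m.toIdeal • (⊤ : Submodule R (LocCoh.H m.toIdeal r R)) = ⊤ := by
    apply Groth.Agent.Lib.H74TopLC.smul_top_eq_top_H m.toIdeal R r
    · intro K _ _
      apply Groth.Agent.Lib.LocCohVanishing.subsingleton_H_of_supportDim_lt
      refine lt_of_le_of_lt (Module.supportDim_le_ringKrullDim R K) ?_
      rw [hr]
      norm_cast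
      exact Nat.lt_succ_self r
    · apply Groth.Agent.Lib.LocCohVanishing.subsingleton_H_of_supportDim_lt
      have hsm : m.toIdeal • (⊤ : Submodule R R) = m.toIdeal := by
        rw [smul_eq_mul, Ideal.mul_top]
      rw [hsm, Module.supportDim_quotient_eq_ringKrullDim]
      letI : Field (R ⧸ m.toIdeal) := Ideal.Quotient.field m.toIdeal
      rw [ringKrullDim_eq_zero_of_field]
      exact_mod_cast h1
  obtain ⟨e⟩ := Groth.Agent.S13224.main m I r
  have hdiv : m.toIdeal • (⊤ : Submodule R (I.H m r)) = ⊤ := by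
    rw [eq_top_iff]
    intro ξ _
    have h2 : e ξ ∈ m.toIdeal • (⊤ : Submodule R (LocCoh.H m.toIdeal r R)) := by
      rw [hdivU]; trivial
    have h3 : e.symm (e ξ) ∈ (m.toIdeal • (⊤ : Submodule R (LocCoh.H m.toIdeal r R))).map
        e.symm.toLinearMap := ⟨e ξ, h2, rfl⟩
    rw [Submodule.map_smul'', e.symm_apply_apply] at h3
    exact Submodule.smul_mono (le_refl _) le_top h3
  letI := decompositionHgr 𝒜 𝒜 m I r
  have hn0 : I.Hgr m r n = ⊥ := by
    show (I.Hcomp m r n).toAddSubgroup = ⊥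
    rw [hbot]
    rfl
  have key := add_eq_bot 𝒜 (I.Hgr m r) m.toIdeal (hmsp.trans hstd) hdiv n hn0 (a - n).toNat
  have e1 : n + ((a - n).toNat : ℤ) = a := by
    rw [Int.toNat_of_nonneg (by omega)]; ring
  rw [e1] at key
  exact ne_bot_of_endDeg_eq _ a ha key

end Groth.Agent.S18656
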