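import Groth.Statements.S0314
import Groth.Agent.S0311
import Groth.Agent.S5170
import Groth.Agent.Lib.H29Melkersson

set_option autoImplicit false
universe u v
open Matlis

namespace Groth.Agent.S0314

/-- Over a Noetherian local ring an injective hull of the residue field satisfies the descending chain
condition on submodules. -/
theorem result (R : Type u) [CommRing R] [IsLocalRing R] [IsNoetherianRing R] (E : Type u) [AddCommGroup E] [Module R E] (f : IsLocalRing.ResidueField R →ₗ[R] E) (hf : InjHull.IsInjectiveHull f) : IsArtinian R E := by
  have htors := Groth.Agent.S0311.result R E f hf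
  have hsoc : Submodule.torsionBySet R E (IsLocalRing.maximalIdeal R : Set R) ≤ LinearMap.range f := by
    intro e he
    apply Groth.Agent.S5170.socle_le_range f hf.toIsEssentialInj e
    intro a ha
    exact (Submodule.mem_torsionBySet_iff _ _).mp he ⟨a, ha⟩
  have hk : IsArtinian R (IsLocalRing.ResidueField R) :=
    isArtinian_of_surjective_algebraMap (S := R) (R := IsLocalRing.ResidueField R)
      (M := IsLocalRing.ResidueField R) IsLocalRing.residue_surjective
  have hr : IsArtinian R (LinearMap.range f) := isArtinian_range f
  have hA : IsArtinian R (Submodule.torsionBySet R E (IsLocalRing.maximalIdeal R : Set R)) :=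
    isArtinian_of_le hsoc
  exact Groth.Agent.Lib.H29Melkersson.isArtinian_of_torsionBySet_ideal (IsLocalRing.maximalIdeal R)
    (IsNoetherian.noetherian _) htors

end Groth.Agent.S0314
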