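import Groth.Statements.S17772
import Groth.Agent.Lib.H74GrCM
import Groth.Agent.S17770

set_option autoImplicit false
universe u
open GrLC

namespace Groth.Agent.S17772

/-- Let R = ⊕_{n ≥ 0} R_n be a positively ℤ-graded ring which is standard graded (irrelevant ideal
generated by R_1), with R_0 Artinian, *local with unique homogeneous maximal ideal m, and
Cohen–Macaulay of Krull dimension d; let H_R(n) = ℓ_{R_0}(R_n) be its Hilbert function and P_R ∈
ℚ[X] its Hilbert polynomial (a polynomial agreeing with H_R for all large n, taken as given). Then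
the a-invariant of R, the largest degree in which H^d_m(R) is nonzero (computed from any *injective
resolution of R), equals the supremum of the integers n with P_R(n) ≠ H_R(n). (The published text
writes 'min' for this supremum; the set of such n is unbounded below whenever it is nonempty, e.g.
all n < 0 for a polynomial ring over a field, and the published one-line proof H_R(n) − P_R(n) =
(−1)^d ℓ(H^d_m(R)_n) identifies the set with the nonzero degrees of H^d_m(R), whose largest element
is a(R).) -/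
theorem result (R : Type u) [CommRing R] [LocCoh.IsCohenMacaulayRing R] (𝒜 : ℤ → AddSubgroup R) [GradedRing 𝒜] (hpos : ∀ n : ℤ, n < 0 → 𝒜 n = ⊥) (hstd : Ideal.span (⋃ n ∈ Set.Ioi (0 : ℤ), (𝒜 n : Set R)) = Ideal.span ((𝒜 1 : AddSubgroup R) : Set R)) [IsArtinianRing (GrLC.deg0 𝒜)] (m : HomogeneousIdeal 𝒜) (hm : GrLC.IsStarLocal 𝒜 m) (d : ℕ) (hd : ringKrullDim R = d) (I : GrLC.StarInjRes 𝒜 𝒜) (P : Polynomial ℚ) (hP : ∃ N : ℤ, ∀ n : ℤ, N ≤ n → P.eval (n : ℚ) = ((Module.length (GrLC.deg0 𝒜) (GrLC.comp 𝒜 𝒜 n)).toNat : ℚ)) : GrLC.endDeg (I.Hgr m d) = ⨆ (n : ℤ) (_ : P.eval (n : ℚ) ≠ ((Module.length (GrLC.deg0 𝒜) (GrLC.comp 𝒜 𝒜 n)).toNat : ℚ)), ((n : WithTop ℤ) : WithBot (WithTop ℤ)) := by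
  have : IsNoetherianRing R := inferInstance
  have hirr := Groth.Agent.S17770.irr_le_of_isStarLocal 𝒜 hpos m hm
  obtain ⟨N, hN⟩ := Groth.Agent.S17770.exists_pow_le_irr 𝒜 hpos m hm
  have hg : ∀ (X : Type u) [AddCommGroup X] [Module R X],
      gam m.toIdeal X = gam (Groth.Agent.Lib.H74GrArt.irr 𝒜).toIdeal X :=
    fun X _ _ => Groth.Agent.S17770.gam_eq_of_pow_le hirr hN X
  have hfin : ∀ n : ℤ, Module.length (GrLC.deg0 𝒜) (I.Hcomp m d n) ≠ ⊤ := fun n => by
    rw [Groth.Agent.S17770.length_Hcomp_congr 𝒜 I m (Groth.Agent.Lib.H74GrArt.irr 𝒜) hg d n]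
    exact Groth.Agent.Lib.H74GrSerre.length_Hcomp_ne_top 𝒜 hpos (Groth.Agent.Lib.H74GrArt.irr 𝒜)
      rfl 𝒜 I d n
  have hiff : ∀ n : ℤ, (Polynomial.eval (n : ℚ) P ≠
      ((Module.length (GrLC.deg0 𝒜) (GrLC.comp 𝒜 𝒜 n)).toNat : ℚ)) ↔ I.Hgr m d n ≠ ⊥ := by
    intro n
    have key := Groth.Agent.S17770.result R 𝒜 hpos hstd m hm d hd R 𝒜 I P hP n
    have hz : ∀ i ∈ Finset.range d, (-1 : ℚ) ^ i *
        ((Module.length (GrLC.deg0 𝒜) (I.Hcomp m i n)).toNat : ℚ) = 0 := by
      intro i hi
      have := Groth.Agent.Lib.H74GrCM.subsingleton_H_of_lt_dim 𝒜 hpos m hm d hd I i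
        (Finset.mem_range.mp hi)
      have : Module.length (GrLC.deg0 𝒜) (I.Hcomp m i n) = 0 := Module.length_eq_zero
      rw [this]
      simp
    rw [Finset.sum_range_succ, Finset.sum_eq_zero hz, zero_add] at key
    have hb : I.Hgr m d n = ⊥ ↔ Module.length (GrLC.deg0 𝒜) (I.Hcomp m d n) = 0 := by
      rw [Module.length_eq_zero_iff, Submodule.subsingleton_iff_eq_bot]
      constructor
      · intro h
        have h' : (I.Hcomp m d n).toAddSubgroup = ⊥ := h
        rw [eq_bot_iff]
        intro ξ hξ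
        have : ξ ∈ (I.Hcomp m d n).toAddSubgroup := hξ
        rw [h'] at this
        exact this
      · intro h
        show (I.Hcomp m d n).toAddSubgroup = ⊥
        rw [h]
        rfl
    rw [ne_eq, ne_eq, hb]
    constructor
    · intro h1 h2
      apply h1
      rw [h2] at key
      simp only [ENat.toNat_zero, Nat.cast_zero, mul_zero] at key
      linarith
    · intro h1 h2
      apply h1
      rw [h2, sub_self] at key
      have h3 : ((Module.length (GrLC.deg0 𝒜) (I.Hcomp m d n)).toNat : ℚ) = 0 := by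
        have h4 : (-1 : ℚ) ^ d ≠ 0 := pow_ne_zero _ (by norm_num)
        rcases mul_eq_zero.mp key.symm with h | h
        · exact absurd h h4
        · exact h
      have h5 : (Module.length (GrLC.deg0 𝒜) (I.Hcomp m d n)).toNat = 0 := by exact_mod_cast h3
      rcases ENat.toNat_eq_zero.mp h5 with h | h
      · exact h
      · exact absurd h (hfin n)
  unfold GrLC.endDeg
  simp only [hiff]

end Groth.Agent.S17772
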