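import Groth.Statements.S5963
import Groth.Agent.Lib.GrMod81D

set_option autoImplicit false
set_option linter.style.haveILetI false
set_option linter.unusedSectionVars false
universe u
open CategoryTheory CategoryTheory.Limits AlgebraicGeometry TopologicalSpace Opposite
open Nrm16

namespace Groth.Agent.S5963

open Groth.Agent.Lib.GrMod81 Groth.Agent.Lib.OmegaDer81 Groth.Agent.Lib.Conormal81

section aux

variable {X Y X' Y' : Scheme.{u}} (g : X ⟶ Y) (f : Y ⟶ X)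
    [IsClosedImmersion f] (hf : f ≫ g = 𝟙 Y) (u : Y' ⟶ Y) (v : X' ⟶ X) (g' : X' ⟶ Y')
    (hsq : IsPullback v g' g u) (f' : Y' ⟶ X') (hf' : f' ≫ g' = 𝟙 Y') (hf'v : f' ≫ v = u ≫ f)

include hf hsq hf' hf'v in
theorem isPullback_sections : IsPullback u f' f v := by
  have houter : IsPullback (f' ≫ g') u u (f ≫ g) := by
    rw [hf, hf']
    exact IsPullback.of_horiz_isIso ⟨by simp⟩
  exact (IsPullback.of_right houter hf'v hsq.flip).flip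

include hf in
theorem appLE_section_apply {V : Y.Opens} {U : X.Opens} (e : U ≤ g ⁻¹ᵁ V) (hfV : f ⁻¹ᵁ U = V)
    (a : Γ(Y, V)) : (f.appLE U V hfV.ge).hom ((g.appLE V U e).hom a) = a := by
  have h1 := Scheme.Hom.appLE_comp_appLE f g V U V e hfV.ge
  have h2 : ∀ (k : Y ⟶ Y) (hk : k = 𝟙 Y) (h : V ≤ k ⁻¹ᵁ V), (k.appLE V V h).hom a = a := by
    rintro _ rfl h
    exact Groth.Agent.Lib.H77OmegaSections.id_appLE_apply h a
  have h3 := h2 (f ≫ g) hf (by rw [hf]; exact le_rfl)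
  rw [← h1] at h3
  exact h3

include hf hsq hf' hf'v in
set_option backward.isDefEq.respectTransparency false in
set_option maxHeartbeats 1600000 in
theorem chart_section {U : X.Opens} {V : Y.Opens} {V' : Y'.Opens} (hU : IsAffineOpen U)
    (hV : IsAffineOpen V) (hV' : IsAffineOpen V') (e : U ≤ g ⁻¹ᵁ V) (hfV : f ⁻¹ᵁ U = V)
    (hVV' : V' ≤ u ⁻¹ᵁ V)
    (φ : (Scheme.Modules.pullback u).obj (PrinPart.grMod f 1) ⟶ PrinPart.grMod f' 1)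
    (hφ : PrinPart.IsGrMap f' f v u 1 φ) :
    Function.Bijective (φ.app (u ⁻¹ᵁ (f ⁻¹ᵁ U) ⊓ f' ⁻¹ᵁ (v ⁻¹ᵁ U ⊓ g' ⁻¹ᵁ V'))) := by
  have hsq2 := isPullback_sections g f hf u v g' hsq f' hf' hf'v
  haveI : IsClosedImmersion f' := MorphismProperty.of_isPullback hsq2 ‹IsClosedImmersion f›
  have hU' : IsAffineOpen (v ⁻¹ᵁ U ⊓ g' ⁻¹ᵁ V') :=
    isAffineOpen_pullbackChart g u v g' hsq hV hV' hU hVV' e
  have hle : v ⁻¹ᵁ U ⊓ g' ⁻¹ᵁ V' ≤ v ⁻¹ᵁ U := inf_le_left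
  refine chart_gr' f v u f' hsq2 1 φ hφ hU hU' hle (hfV ▸ hV) (f.app_surjective U hU) ?_
  letI algAB : Algebra Γ(Y, V) Γ(X, U) := (g.appLE V U e).hom.toAlgebra
  letI algAA' : Algebra Γ(Y, V) Γ(Y', V') := (u.appLE V V' hVV').hom.toAlgebra
  letI algA'B' : Algebra Γ(Y', V') Γ(X', v ⁻¹ᵁ U ⊓ g' ⁻¹ᵁ V') :=
    (g'.appLE V' (v ⁻¹ᵁ U ⊓ g' ⁻¹ᵁ V') inf_le_right).hom.toAlgebra
  letI algBB' : Algebra Γ(X, U) Γ(X', v ⁻¹ᵁ U ⊓ g' ⁻¹ᵁ V') :=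
    (v.appLE U (v ⁻¹ᵁ U ⊓ g' ⁻¹ᵁ V') hle).hom.toAlgebra
  letI algAB' : Algebra Γ(Y, V) Γ(X', v ⁻¹ᵁ U ⊓ g' ⁻¹ᵁ V') :=
    ((algebraMap Γ(X, U) Γ(X', v ⁻¹ᵁ U ⊓ g' ⁻¹ᵁ V')).comp (algebraMap Γ(Y, V) Γ(X, U))).toAlgebra
  haveI : IsScalarTower Γ(Y, V) Γ(X, U) Γ(X', v ⁻¹ᵁ U ⊓ g' ⁻¹ᵁ V') := .of_algebraMap_eq' rfl
  haveI : IsScalarTower Γ(Y, V) Γ(Y', V') Γ(X', v ⁻¹ᵁ U ⊓ g' ⁻¹ᵁ V') := by
    apply IsScalarTower.of_algebraMap_eq'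
    have h1 := Scheme.Hom.appLE_comp_appLE v g V U (v ⁻¹ᵁ U ⊓ g' ⁻¹ᵁ V') e hle
    have h2 := Scheme.Hom.appLE_comp_appLE g' u V V' (v ⁻¹ᵁ U ⊓ g' ⁻¹ᵁ V') hVV' inf_le_right
    have h3 : (v ≫ g).appLE V (v ⁻¹ᵁ U ⊓ g' ⁻¹ᵁ V')
          (by rw [Scheme.Hom.comp_preimage]; exact hle.trans (v.preimage_mono e)) =
        (g' ≫ u).appLE V (v ⁻¹ᵁ U ⊓ g' ⁻¹ᵁ V')
          (by rw [Scheme.Hom.comp_preimage]; exact inf_le_right.trans (g'.preimage_mono hVV')) := by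
      congr 1
      exact hsq.w
    change ((v.appLE U (v ⁻¹ᵁ U ⊓ g' ⁻¹ᵁ V') hle).hom.comp (g.appLE V U e).hom) =
      ((g'.appLE V' (v ⁻¹ᵁ U ⊓ g' ⁻¹ᵁ V') inf_le_right).hom.comp (u.appLE V V' hVV').hom)
    rw [← CommRingCat.hom_comp, ← CommRingCat.hom_comp, h1, h2, h3]
  haveI hPO : Algebra.IsPushout Γ(Y, V) Γ(Y', V') Γ(X, U) Γ(X', v ⁻¹ᵁ U ⊓ g' ⁻¹ᵁ V') := by
    have hpo := isPushout_pullbackChart g u v g' hsq hV hV' hU hVV' e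
    exact (CommRingCat.isPushout_iff_isPushout.mp hpo).symm
  intro hJ
  have hρ : ∀ a : Γ(Y, V), (f.appLE U V hfV.ge).hom (algebraMap Γ(Y, V) Γ(X, U) a) = a :=
    fun a => appLE_section_apply g f hf e hfV a
  have hI : (f.ker ^ 1).ideal ⟨U, hU⟩ = RingHom.ker (f.appLE U V hfV.ge).hom := by
    rw [pow_one, Scheme.Hom.ker_apply]
    exact (Groth.Agent.Lib.H77OmegaSections.ker_appLE_eq f hfV).symm
  have key : ∀ (J : Ideal Γ(X, U)) (_ : J = RingHom.ker (f.appLE U V hfV.ge).hom)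
      (hJ : (f'.ker ^ 1).ideal ⟨v ⁻¹ᵁ U ⊓ g' ⁻¹ᵁ V', hU'⟩ =
        J.map (algebraMap Γ(X, U) Γ(X', v ⁻¹ᵁ U ⊓ g' ⁻¹ᵁ V'))),
      IsBaseChange Γ(X', v ⁻¹ᵁ U ⊓ g' ⁻¹ᵁ V')
        (idealMapLin J ((f'.ker ^ 1).ideal ⟨v ⁻¹ᵁ U ⊓ g' ⁻¹ᵁ V', hU'⟩) hJ.ge) := by
    rintro _ rfl hJ
    exact isBaseChange_idealMapLin_of_section (A' := Γ(Y', V')) (f.appLE U V hfV.ge).hom _ hρ hJ
  exact key _ hI hJ

end aux



/-- Let g : X ⟶ Y be a morphism with a section f : Y ⟶ X which is a closed immersion, u : Y' ⟶ Y a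
morphism, X' a fibre product of X and Y' over Y with projections v : X' ⟶ X and g' : X' ⟶ Y', and f'
: Y' ⟶ X' the induced section of g' (so f' ≫ g' = 𝟙 and f' ≫ v = u ≫ f). Let φ : u^* Gr_1(f) ⟶
Gr_1(f') be the canonical O_{Y'}-linear map between the conormal sheaves I/I² and I'/I'² of f and
f'. Then φ is an isomorphism. (The published statement allows any section f, and also identifies,
for every n, the n-th infinitesimal neighbourhood of f', as a scheme over X' and as a scheme affine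
over Y', with the base change of the n-th infinitesimal neighbourhood of f along v and along u; this
row assumes f a closed immersion, the case in which the conormal sheaves are formed here, and states
only the assertion on conormal sheaves.) -/
theorem result {X Y X' Y' : Scheme.{u}} (g : X ⟶ Y) (f : Y ⟶ X)
    [IsClosedImmersion f] (hf : f ≫ g = 𝟙 Y) (u : Y' ⟶ Y) (v : X' ⟶ X) (g' : X' ⟶ Y')
    (hsq : IsPullback v g' g u) (f' : Y' ⟶ X') (hf' : f' ≫ g' = 𝟙 Y') (hf'v : f' ≫ v = u ≫ f)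
    (φ : (Scheme.Modules.pullback u).obj (PrinPart.grMod f 1) ⟶ PrinPart.grMod f' 1)
    (hφ : PrinPart.IsGrMap f' f v u 1 φ) :
    IsIso φ := by
  have hsq2 := isPullback_sections g f hf u v g' hsq f' hf' hf'v
  haveI : IsClosedImmersion f' := MorphismProperty.of_isPullback hsq2 ‹IsClosedImmersion f›
  haveI : ((Scheme.Modules.pullback u).obj (PrinPart.grMod f 1)).IsQuasicoherent := inferInstance
  let ι := {p : X.Opens × Y.Opens × Y'.Opens // IsAffineOpen p.1 ∧ IsAffineOpen p.2.1 ∧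
    IsAffineOpen p.2.2 ∧ p.1 ≤ g ⁻¹ᵁ p.2.1 ∧ f ⁻¹ᵁ p.1 = p.2.1 ∧ p.2.2 ≤ u ⁻¹ᵁ p.2.1}
  refine Groth.Agent.Lib.H90OXModAffineIso.isIso_of_bijective_app_affine_cover φ
    (fun p : ι => u ⁻¹ᵁ (f ⁻¹ᵁ p.1.1) ⊓ f' ⁻¹ᵁ (v ⁻¹ᵁ p.1.1 ⊓ g' ⁻¹ᵁ p.1.2.2)) ?_
    (fun p => isAffineOpen_pullbackChart f v u f' hsq2 p.2.1
      (isAffineOpen_pullbackChart g u v g' hsq p.2.2.1 p.2.2.2.1 p.2.1 p.2.2.2.2.2.2 p.2.2.2.2.1)
      (p.2.2.2.2.2.1 ▸ p.2.2.1) inf_le_left le_rfl)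
    (fun p => chart_section g f hf u v g' hsq f' hf' hf'v p.2.1 p.2.2.1 p.2.2.2.1 p.2.2.2.2.1
      p.2.2.2.2.2.1 p.2.2.2.2.2.2 φ hφ)
  rw [eq_top_iff]
  intro y' _
  -- charts
  obtain ⟨_, ⟨V₀, hV₀, rfl⟩, hyV₀, -⟩ :=
    Y.isBasis_affineOpens.exists_subset_of_mem_open (Set.mem_univ (u y')) isOpen_univ
  have hgf : g (f (u y')) = u y' := by
    rw [← Scheme.Hom.comp_apply, hf]; rfl
  obtain ⟨_, ⟨U₀, hU₀, rfl⟩, hyU₀, hU₀V₀⟩ :=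
    X.isBasis_affineOpens.exists_subset_of_mem_open
      (show f (u y') ∈ g ⁻¹ᵁ V₀ from by change g (f (u y')) ∈ V₀; rw [hgf]; exact hyV₀)
      (g ⁻¹ᵁ V₀).isOpen
  obtain ⟨a, haV, hya⟩ := hV₀.exists_basicOpen_le (V := V₀ ⊓ f ⁻¹ᵁ U₀) ⟨u y', hyV₀, hyU₀⟩ hyV₀
  obtain ⟨V, hVdef⟩ : ∃ V : Y.Opens, V = Y.basicOpen a := ⟨_, rfl⟩
  obtain ⟨U, hUdef⟩ : ∃ U : X.Opens, U = X.basicOpen ((g.appLE V₀ U₀ hU₀V₀).hom a) := ⟨_, rfl⟩
  have hV : IsAffineOpen V := hVdef ▸ hV₀.basicOpen a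
  have hU : IsAffineOpen U := hUdef ▸ hU₀.basicOpen _
  have hUeq : U = U₀ ⊓ g ⁻¹ᵁ V := by
    rw [hUdef, hVdef]
    exact Scheme.basicOpen_appLE _ _ _ _ _
  have hUV : U ≤ g ⁻¹ᵁ V := by
    rw [hUeq]; exact inf_le_right
  have hfV : f ⁻¹ᵁ U = V := by
    rw [hUeq, Scheme.Hom.preimage_inf, ← Scheme.Hom.comp_preimage, hf]
    refine inf_eq_right.mpr ?_
    rw [hVdef]
    exact haV.trans inf_le_right
  have hyV : u y' ∈ V := hVdef ▸ hya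
  obtain ⟨_, ⟨V', hV', rfl⟩, hyV', hV'V⟩ :=
    Y'.isBasis_affineOpens.exists_subset_of_mem_open
      (show y' ∈ u ⁻¹ᵁ V from hyV) (u ⁻¹ᵁ V).isOpen
  have hyU : u y' ∈ f ⁻¹ᵁ U := by rw [hfV]; exact hyV
  refine Opens.mem_iSup.mpr ⟨⟨(U, V, V'), hU, hV, hV', hUV, hfV, hV'V⟩, ⟨hyU, ?_, ?_⟩⟩
  · change v (f' y') ∈ U
    rw [← Scheme.Hom.comp_apply, hf'v, Scheme.Hom.comp_apply]
    exact hyU
  · change g' (f' y') ∈ V'
    rw [← Scheme.Hom.comp_apply, hf']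
    exact hyV'

end Groth.Agent.S5963
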