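import Groth.Statements.S19750
import Mathlib

set_option autoImplicit false
universe u
open scoped TensorProduct
open GrSegre

namespace Groth.Agent.S19750


open TensorProduct DirectSum

section Std
variable {k : Type u} [Field k] {R : Type u} [CommRing R] [Algebra k R] (𝒜 : ℤ → Submodule k R)
  [GradedAlgebra 𝒜]

/-- standard graded: `R_m = R_1 · R_{m-1}` for `m ≥ 1` -/
theorem mem_span_mul_of_std
    (hstdR : Ideal.span (⋃ n ∈ Set.Ioi (0 : ℤ), (𝒜 n : Set R)) = Ideal.span ((𝒜 1 : Submodule k R) : Set R))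
    {m : ℤ} (hm : 1 ≤ m) {x : R} (hx : x ∈ 𝒜 m) :
    x ∈ Submodule.span k {z : R | ∃ r ∈ 𝒜 1, ∃ x' ∈ 𝒜 (m - 1), z = r * x'} := by
  have hx1 : x ∈ Ideal.span ((𝒜 1 : Submodule k R) : Set R) := by
    rw [← hstdR]
    apply Ideal.subset_span
    simp only [Set.mem_iUnion, Set.mem_Ioi, SetLike.mem_coe, exists_prop]
    exact ⟨m, by omega, hx⟩
  have key : ∀ y ∈ Ideal.span ((𝒜 1 : Submodule k R) : Set R), ∀ c : R,
      ((decompose 𝒜 (c * y) m : R)) ∈
        Submodule.span k {z : R | ∃ r ∈ 𝒜 1, ∃ x' ∈ 𝒜 (m - 1), z = r * x'} := by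
    intro y hy
    induction hy using Submodule.span_induction with
    | mem y hy =>
      intro c
      have h1 : ((decompose 𝒜 (c * y) ((m - 1) + 1) : R)) = (decompose 𝒜 c (m - 1) : R) * y :=
        DirectSum.coe_decompose_mul_add_of_right_mem 𝒜 hy
      rw [sub_add_cancel] at h1
      rw [h1]
      apply Submodule.subset_span
      exact ⟨y, hy, _, SetLike.coe_mem _, mul_comm _ _⟩
    | zero => intro c; simp
    | add y y' _ _ hy hy' =>
      intro c
      rw [mul_add, decompose_add, DirectSum.add_apply, Submodule.coe_add]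
      exact add_mem (hy c) (hy' c)
    | smul c' y _ hy =>
      intro c
      have : c * (c' • y) = (c * c') * y := by rw [smul_eq_mul, mul_assoc]
      rw [this]
      exact hy (c * c')
  have := key x hx1 1
  rwa [one_mul, decompose_of_mem_same 𝒜 hx] at this

end Std

theorem result' (k : Type u) [Field k] (R : Type u) [CommRing R] [Algebra k R] (𝒜 : ℤ → Submodule k R) [GradedAlgebra 𝒜] (hposR : ∀ n : ℤ, n < 0 → 𝒜 n = ⊥) (h0R : 𝒜 0 = Submodule.span k {(1 : R)}) [Algebra.FiniteType k R] (S : Type u) [CommRing S] [Algebra k S] (ℬ : ℤ → Submodule k S) [GradedAlgebra ℬ] (hposS : ∀ n : ℤ, n < 0 → ℬ n = ⊥) (h0S : ℬ 0 = Submodule.span k {(1 : S)}) [Algebra.FiniteType k S] (T : Type u) [CommRing T] [Algebra k T] (𝒯 : ℤ → Submodule k T) [GradedAlgebra 𝒯] (ψ : T →ₐ[k] TensorProduct k R S) (hT : GrSeg.IsSegreRing 𝒜 ℬ 𝒯 ψ) (hstdR : Ideal.span (⋃ n ∈ Set.Ioi (0 : ℤ), (𝒜 n : Set R)) = Ideal.span ((𝒜 1 : Submodule k R) : Set R)) (hstdS : Ideal.span (⋃ n ∈ Set.Ioi (0 : ℤ), (ℬ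 n : Set S)) = Ideal.span ((ℬ 1 : Submodule k S) : Set S)) (hr1 : 1 ≤ ringKrullDim R) (hs1 : 1 ≤ ringKrullDim S) (mT : HomogeneousIdeal 𝒯) (hmT : mT.toIdeal = Ideal.span (⋃ n ∈ Set.Ioi (0 : ℤ), (𝒯 n : Set T))) (a b : ℤ) (hab : b ≤ a) (P : Type u) [AddCommGroup P] [Module T P] [Module k P] [IsScalarTower k T P] (𝒬 : ℤ → AddSubgroup P) [DirectSum.Decomposition 𝒬] (φ : P →ₗ[k] TensorProduct k R S) (hP : GrSeg.IsSegreMod ψ (fun n : ℤ => 𝒜 (n + a)) (fun n : ℤ => ℬ (n + b)) 𝒬 φ) : Module.finrank k (P ⧸ (mT.toIdeal • (⊤ : Submodule T P))) = Module.finrank k (𝒜 (a - b)) := by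
  classical
  obtain ⟨hψinj, hdegT⟩ := hT
  set W : Submodule T P := mT.toIdeal • (⊤ : Submodule T P) with hW
  have hSnt : Nontrivial S := by
    by_contra hcon
    rw [not_nontrivial_iff_subsingleton] at hcon
    rw [ringKrullDim_eq_bot_of_subsingleton] at hs1
    simp at hs1
  -- pieces
  have hmemQ : ∀ (n : ℤ) (p : P), p ∈ 𝒬 n →
      φ p ∈ GrSeg.segrePiece k (fun n : ℤ => 𝒜 (n + a)) (fun n : ℤ => ℬ (n + b)) n := by
    intro n p hp
    have : φ p ∈ φ '' (𝒬 n : Set P) := ⟨p, hp, rfl⟩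
    rw [hP.image_piece n] at this
    exact this
  have hexQ : ∀ (n : ℤ) (z : R ⊗[k] S),
      z ∈ GrSeg.segrePiece k (fun n : ℤ => 𝒜 (n + a)) (fun n : ℤ => ℬ (n + b)) n →
      ∃ p ∈ 𝒬 n, φ p = z := by
    intro n z hz
    have : z ∈ φ '' (𝒬 n : Set P) := by rw [hP.image_piece n]; exact hz
    exact this
  have hmemQ' : ∀ (n : ℤ) (p : P),
      φ p ∈ GrSeg.segrePiece k (fun n : ℤ => 𝒜 (n + a)) (fun n : ℤ => ℬ (n + b)) n → p ∈ 𝒬 n := by
    intro n p hp
    obtain ⟨q, hq, h⟩ := hexQ n _ hp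
    rw [← hP.injective h]
    exact hq
  -- (1) graded module structure
  have hact : ∀ (c m : ℤ) (u : R ⊗[k] S) (z : R ⊗[k] S), u ∈ GrSeg.segrePiece k 𝒜 ℬ c →
      z ∈ GrSeg.segrePiece k (fun n : ℤ => 𝒜 (n + a)) (fun n : ℤ => ℬ (n + b)) m →
      GrSeg.act k R S R S u z ∈
        GrSeg.segrePiece k (fun n : ℤ => 𝒜 (n + a)) (fun n : ℤ => ℬ (n + b)) (c + m) := by
    intro c m u z hu hz
    unfold GrSeg.segrePiece at hu
    induction hu using Submodule.span_induction with
    | mem u hu =>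
      obtain ⟨r, hr, s, hs, rfl⟩ := hu
      unfold GrSeg.segrePiece at hz
      induction hz using Submodule.span_induction with
      | mem z hz =>
        obtain ⟨x, hx, y, hy, rfl⟩ := hz
        rw [GrSeg.act_tmul]
        apply Submodule.subset_span
        refine ⟨r • x, ?_, s • y, ?_, rfl⟩
        · show r * x ∈ 𝒜 (c + m + a)
          rw [add_assoc]
          exact SetLike.GradedMul.mul_mem hr hx
        · show s * y ∈ ℬ (c + m + b)
          rw [add_assoc]
          exact SetLike.GradedMul.mul_mem hs hy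
      | zero => rw [map_zero]; exact zero_mem _
      | add x y _ _ hx hy => rw [map_add]; exact add_mem hx hy
      | smul c' x _ hx => rw [map_smul]; exact Submodule.smul_mem _ _ hx
    | zero => rw [map_zero, LinearMap.zero_apply]; exact zero_mem _
    | add x y _ _ hx hy => rw [map_add, LinearMap.add_apply]; exact add_mem hx hy
    | smul c' x _ hx => rw [map_smul, LinearMap.smul_apply]; exact Submodule.smul_mem _ _ hx
  have hψmem : ∀ (c : ℤ) (t : T), t ∈ 𝒯 c → ψ t ∈ GrSeg.segrePiece k 𝒜 ℬ c := by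
    intro c t ht
    rw [← hdegT c]
    exact ⟨t, ht, rfl⟩
  have hgr : ∀ (c m : ℤ) (t : T) (p : P), t ∈ 𝒯 c → p ∈ 𝒬 m → t • p ∈ 𝒬 (c + m) := by
    intro c m t p ht hp
    apply hmemQ'
    rw [hP.map_smul]
    exact hact c m _ _ (hψmem c t ht) (hmemQ m p hp)
  -- (2) vanishing in low degrees
  have hlow : ∀ m : ℤ, m < -b → ∀ p ∈ 𝒬 m, p = 0 := by
    intro m hm p hp
    apply hP.injective
    rw [map_zero]
    have h1 := hmemQ m p hp
    have h2 : GrSeg.segrePiece k (fun n : ℤ => 𝒜 (n + a)) (fun n : ℤ => ℬ (n + b)) m = ⊥ := by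
      unfold GrSeg.segrePiece
      rw [Submodule.span_eq_bot]
      rintro z ⟨x, hx, y, hy, rfl⟩
      have : y ∈ (⊥ : Submodule k S) := by
        rw [← hposS (m + b) (by omega)]
        exact hy
      rw [(Submodule.mem_bot k).1 this, tmul_zero]
    rw [h2] at h1
    exact (Submodule.mem_bot k).1 h1
  -- (3) W has no component in degree -b
  have hcompa : ∀ (c : ℤ), 0 < c → ∀ t ∈ 𝒯 c, ∀ p : P, (decompose 𝒬 (t • p) (-b) : P) = 0 := by
    intro c hc t ht p
    induction p using DirectSum.Decomposition.inductionOn 𝒬 with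
    | zero => simp
    | add p p' hp hp' =>
      rw [smul_add, decompose_add, DirectSum.add_apply, AddSubgroup.coe_add, hp, hp', add_zero]
    | homogeneous p =>
      rename_i m
      by_cases hm : m < -b
      · rw [hlow m hm p p.2, smul_zero]
        simp
      · exact decompose_of_mem_ne 𝒬 (hgr c m t p ht p.2) (by omega)
  have hcompb : ∀ t ∈ mT.toIdeal, ∀ p : P, (decompose 𝒬 (t • p) (-b) : P) = 0 := by
    intro t ht
    rw [hmT] at ht
    induction ht using Submodule.span_induction with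
    | mem t ht =>
      simp only [Set.mem_iUnion, Set.mem_Ioi, SetLike.mem_coe, exists_prop] at ht
      obtain ⟨c, hc, htc⟩ := ht
      exact hcompa c hc t htc
    | zero => intro p; simp
    | add t t' _ _ ht ht' =>
      intro p
      rw [add_smul, decompose_add, DirectSum.add_apply, AddSubgroup.coe_add, ht p, ht' p,
        add_zero]
    | smul c' t _ ht =>
      intro p
      have : (c' • t) • p = t • (c' • p) := by
        rw [smul_eq_mul, mul_comm, mul_smul]
      rw [this]
      exact ht (c' • p)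
  have hWcomp : ∀ w ∈ W, (decompose 𝒬 w (-b) : P) = 0 := by
    intro w hw
    refine Submodule.smul_induction_on hw (fun t ht p _ => hcompb t ht p) (fun x y hx hy => ?_)
    rw [decompose_add, DirectSum.add_apply, AddSubgroup.coe_add, hx, hy, add_zero]
  -- the k-submodule φ(W)
  have hkW : ∀ (c : k) (w : P), w ∈ W → c • w ∈ W := by
    intro c w hw
    rw [← algebraMap_smul T c w]
    exact W.smul_mem _ hw
  let Wφ : Submodule k (R ⊗[k] S) :=
    { carrier := φ '' (W : Set P)
      add_mem' := by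
        rintro _ _ ⟨w, hw, rfl⟩ ⟨w', hw', rfl⟩
        exact ⟨w + w', W.add_mem hw hw', map_add _ _ _⟩
      zero_mem' := ⟨0, W.zero_mem, map_zero _⟩
      smul_mem' := by
        rintro c _ ⟨w, hw, rfl⟩
        exact ⟨c • w, hkW c w hw, map_smul _ _ _⟩ }
  -- (4) high degree pieces lie in W
  have hhigh : ∀ m : ℤ, -b < m → ∀ p ∈ 𝒬 m, p ∈ W := by
    intro m hm p hp
    have hle : GrSeg.segrePiece k (fun n : ℤ => 𝒜 (n + a)) (fun n : ℤ => ℬ (n + b)) m ≤ Wφ := by
      unfold GrSeg.segrePiece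
      rw [Submodule.span_le]
      rintro z ⟨x, hx, y, hy, rfl⟩
      have hx' := mem_span_mul_of_std 𝒜 hstdR (show 1 ≤ m + a by omega) hx
      have hy' := mem_span_mul_of_std ℬ hstdS (show 1 ≤ m + b by omega) hy
      have h3 : x ⊗ₜ[k] y ∈ Submodule.map₂ (TensorProduct.mk k R S)
          (Submodule.span k {z : R | ∃ r ∈ 𝒜 1, ∃ x' ∈ 𝒜 (m + a - 1), z = r * x'})
          (Submodule.span k {z : S | ∃ r ∈ ℬ 1, ∃ x' ∈ ℬ (m + b - 1), z = r * x'}) :=
        Submodule.apply_mem_map₂ _ hx' hy'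
      rw [Submodule.map₂_span_span] at h3
      refine (Submodule.span_le.2 ?_) h3
      rintro _ ⟨_, ⟨r, hr, x', hx', rfl⟩, _, ⟨s, hs, y', hy', rfl⟩, rfl⟩
      -- (r x') ⊗ (s y') = act (r ⊗ s) (x' ⊗ y')
      have h4 : r ⊗ₜ[k] s ∈ GrSeg.segrePiece k 𝒜 ℬ 1 :=
        Submodule.subset_span ⟨r, hr, s, hs, rfl⟩
      rw [← hdegT 1] at h4
      obtain ⟨t, ht, hψt⟩ := h4
      have h5 : x' ⊗ₜ[k] y' ∈
          GrSeg.segrePiece k (fun n : ℤ => 𝒜 (n + a)) (fun n : ℤ => ℬ (n + b)) (m - 1) := by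
        apply Submodule.subset_span
        refine ⟨x', ?_, y', ?_, rfl⟩
        · show x' ∈ 𝒜 (m - 1 + a)
          rw [show m - 1 + a = m + a - 1 by ring]
          exact hx'
        · show y' ∈ ℬ (m - 1 + b)
          rw [show m - 1 + b = m + b - 1 by ring]
          exact hy'
      obtain ⟨p', -, hp'⟩ := hexQ (m - 1) _ h5
      refine ⟨t • p', ?_, ?_⟩
      · apply Submodule.smul_mem_smul _ Submodule.mem_top
        rw [hmT]
        apply Ideal.subset_span
        simp only [Set.mem_iUnion, Set.mem_Ioi, SetLike.mem_coe, exists_prop]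
        exact ⟨1, one_pos, ht⟩
      · rw [hP.map_smul, hp']
        have : ψ t = r ⊗ₜ[k] s := hψt
        rw [this, GrSeg.act_tmul]
        rfl
    obtain ⟨w, hw, hφw⟩ := hle (hmemQ m p hp)
    rw [← hP.injective hφw]
    exact hw
  -- (5) the comparison map
  have e1 : -b + a = a - b := by ring
  have hex : ∀ x : 𝒜 (a - b), ∃ p ∈ 𝒬 (-b), φ p = (x : R) ⊗ₜ[k] (1 : S) := by
    intro x
    apply hexQ
    apply Submodule.subset_span
    refine ⟨x, ?_, 1, ?_, rfl⟩
    · show (x : R) ∈ 𝒜 (-b + a)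
      rw [e1]
      exact x.2
    · show (1 : S) ∈ ℬ (-b + b)
      rw [neg_add_cancel]
      exact SetLike.GradedOne.one_mem
  choose σ hσ1 hσ2 using hex
  let Φ : 𝒜 (a - b) →ₗ[k] P ⧸ W :=
    { toFun := fun x => Submodule.Quotient.mk (σ x)
      map_add' := by
        intro x y
        rw [← Submodule.Quotient.mk_add]
        congr 1
        apply hP.injective
        rw [map_add, hσ2, hσ2, hσ2, Submodule.coe_add, add_tmul]
      map_smul' := by
        intro c x
        rw [RingHom.id_apply, ← Submodule.Quotient.mk_smul]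
        congr 1
        apply hP.injective
        rw [map_smul, hσ2, hσ2, Submodule.coe_smul, smul_tmul']  }
  have hΦinj : Function.Injective Φ := by
    rw [injective_iff_map_eq_zero]
    intro x hx
    have h1 : σ x ∈ W := (Submodule.Quotient.mk_eq_zero W).1 hx
    have h2 := hWcomp _ h1
    rw [decompose_of_mem_same 𝒬 (hσ1 x)] at h2
    have h3 : (x : R) ⊗ₜ[k] (1 : S) = 0 := by rw [← hσ2, h2, map_zero]
    have hinj : Function.Injective (Algebra.TensorProduct.includeLeft : R →ₐ[k] R ⊗[k] S) :=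
      Algebra.TensorProduct.includeLeft_injective (FaithfulSMul.algebraMap_injective k S)
    have h4 : (x : R) = 0 := by
      apply hinj
      rw [map_zero]
      exact h3
    exact Subtype.ext h4
  have hΦsurj : Function.Surjective Φ := by
    intro q
    obtain ⟨p, rfl⟩ := Submodule.Quotient.mk_surjective W q
    have hred : ∀ p : P, p - (decompose 𝒬 p (-b) : P) ∈ W := by
      intro p
      induction p using DirectSum.Decomposition.inductionOn 𝒬 with
      | zero => simp
      | add p p' hp hp' =>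
        rw [decompose_add, DirectSum.add_apply, AddSubgroup.coe_add]
        have : p + p' - ((decompose 𝒬 p (-b) : P) + (decompose 𝒬 p' (-b) : P)) =
            (p - (decompose 𝒬 p (-b) : P)) + (p' - (decompose 𝒬 p' (-b) : P)) := by abel
        rw [this]
        exact W.add_mem hp hp'
      | homogeneous p =>
        rename_i m
        rcases lt_trichotomy m (-b) with hm | hm | hm
        · rw [hlow m hm p p.2]
          simp
        · subst hm
          rw [decompose_of_mem_same 𝒬 p.2, sub_self]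
          exact W.zero_mem
        · rw [decompose_of_mem_ne 𝒬 p.2 (ne_of_gt hm), sub_zero]
          exact hhigh m hm p p.2
    -- the component in degree -b comes from 𝒜 (a - b)
    have hcomp : ∀ z ∈ GrSeg.segrePiece k (fun n : ℤ => 𝒜 (n + a)) (fun n : ℤ => ℬ (n + b)) (-b),
        ∃ x : 𝒜 (a - b), z = (x : R) ⊗ₜ[k] (1 : S) := by
      intro z hz
      unfold GrSeg.segrePiece at hz
      induction hz using Submodule.span_induction with
      | mem z hz =>
        obtain ⟨x, hx, y, hy, rfl⟩ := hz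
        have hx' : x ∈ 𝒜 (a - b) := by rw [← e1]; exact hx
        have hy' : y ∈ Submodule.span k {(1 : S)} := by
          rw [← h0S, ← neg_add_cancel b]
          exact hy
        obtain ⟨c, rfl⟩ := Submodule.mem_span_singleton.1 hy'
        exact ⟨⟨c • x, Submodule.smul_mem _ _ hx'⟩, by rw [tmul_smul, smul_tmul']⟩
      | zero => exact ⟨0, by simp⟩
      | add z z' _ _ hz hz' =>
        obtain ⟨x, rfl⟩ := hz
        obtain ⟨x', rfl⟩ := hz'
        exact ⟨x + x', by rw [Submodule.coe_add, add_tmul]⟩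
      | smul c z _ hz =>
        obtain ⟨x, rfl⟩ := hz
        exact ⟨c • x, by rw [Submodule.coe_smul, smul_tmul']⟩
    obtain ⟨x, hx⟩ := hcomp _ (hmemQ (-b) _ (SetLike.coe_mem (decompose 𝒬 p (-b))))
    refine ⟨x, ?_⟩
    show Submodule.Quotient.mk (σ x) = Submodule.Quotient.mk p
    rw [Submodule.Quotient.eq]
    have h1 : σ x = (decompose 𝒬 p (-b) : P) := by
      apply hP.injective
      rw [hσ2, hx]
    rw [h1]
    have := hred p
    rw [← neg_sub]
    exact W.neg_mem this
  exact (LinearEquiv.ofBijective Φ ⟨hΦinj, hΦsurj⟩).finrank_eq.symm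


/-- Let R and S be graded rings defined over a field k, both generated over k by their degree-one parts
and of positive Krull dimension, T = R # S with irrelevant ideal T_+, and let a ≥ b be integers.
Then the number of generators ν_T(R(a) # S(b)) = dim_k (R(a) # S(b)) / T_+ (R(a) # S(b)) equals
dim_k R_{a−b}. Here a graded ring defined over k is a commutative k-algebra of finite type, graded
in nonnegative degrees by k-subspaces with degree-zero part k·1; the Segre product T = R # S = ⊕_n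
R_n ⊗_k S_n is presented abstractly as a graded k-algebra T with an injective k-algebra homomorphism
ψ : T → R ⊗_k S carrying T_n onto the k-span of the elementary tensors a ⊗ b with a ∈ R_n, b ∈ S_n;
the Segre product R(a) # S(b) = ⊕_n R_{n+a} ⊗_k S_{n+b} of the shifted modules is presented
abstractly as a graded T-module P with an injective k-linear map φ : P → R ⊗_k S carrying P_n onto
the k-span of the tensors x ⊗ y with x ∈ R_{n+a}, y ∈ S_{n+b} and turning the action of t ∈ T into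
that of ψ(t); T_+ is the ideal spanned by the T_n with n > 0. -/
theorem result (k : Type u) [Field k] (R : Type u) [CommRing R] [Algebra k R] (𝒜 : ℤ → Submodule k R) [GradedAlgebra 𝒜] (hposR : ∀ n : ℤ, n < 0 → 𝒜 n = ⊥) (h0R : 𝒜 0 = Submodule.span k {(1 : R)}) [Algebra.FiniteType k R] (S : Type u) [CommRing S] [Algebra k S] (ℬ : ℤ → Submodule k S) [GradedAlgebra ℬ] (hposS : ∀ n : ℤ, n < 0 → ℬ n = ⊥) (h0S : ℬ 0 = Submodule.span k {(1 : S)}) [Algebra.FiniteType k S] (T : Type u) [CommRing T] [Algebra k T] (𝒯 : ℤ → Submodule k T) [GradedAlgebra 𝒯] (ψ : T →ₐ[k] TensorProduct k R S) (hT : GrSeg.IsSegreRing 𝒜 ℬ 𝒯 ψ) (hstdR : Ideal.span (⋃ n ∈ Set.Ioi (0 : ℤ), (𝒜 n : Set R)) = Ideal.span ((𝒜 1 : Submodule k R) : Set R)) (hstdS : Ideal.span (⋃ n ∈ Set.Ioi (0 : ℤ), (ℬ n : Set S)) = Ideal.span ((ℬ 1 : Submodule k S) : Set S)) (hr1 : 1 ≤ ringKrullDim R) (hs1 : 1 ≤ ringKrullDim S) (mT : HomogeneousIdeal 𝒯) (hmT : mT.toIdeal = Ideal.span (⋃ n ∈ Set.Ioi (0 : ℤ), (𝒯 n : Set T)))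 (a b : ℤ) (hab : b ≤ a) (P : Type u) [AddCommGroup P] [Module T P] [Module k P] [IsScalarTower k T P] (𝒬 : ℤ → AddSubgroup P) [DirectSum.Decomposition 𝒬] (φ : P →ₗ[k] TensorProduct k R S) (hP : GrSeg.IsSegreMod ψ (fun n : ℤ => 𝒜 (n + a)) (fun n : ℤ => ℬ (n + b)) 𝒬 φ) : Module.finrank k (P ⧸ (mT.toIdeal • (⊤ : Submodule T P))) = Module.finrank k (𝒜 (a - b)) := by
  exact result' k R 𝒜 hposR h0R S ℬ hposS h0S T 𝒯 ψ hT hstdR hstdS hr1 hs1 mT hmT a b hab P 𝒬 φ hP

end Groth.Agent.S19750
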