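import Groth.Statements.S18646
import Mathlib.RingTheory.FiniteStability
import Mathlib.RingTheory.GradedAlgebra.Basic
import Mathlib.RingTheory.FiniteType

set_option autoImplicit false
universe u
open scoped TensorProduct
open GrSegre

namespace Groth.Agent.S18646

section Helpers
open TensorProduct DirectSum
variable {k : Type*} [Field k] {R : Type*} [CommRing R] [Algebra k R] (𝒜 : ℤ → Submodule k R)
  [GradedAlgebra 𝒜]
  {S : Type*} [CommRing S] [Algebra k S] (ℬ : ℤ → Submodule k S) [GradedAlgebra ℬ]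

/-- The bilinear map `(a, b) ↦ Σ_n a_n ⊗ b_n`. -/
noncomputable def diagBilin : R →ₗ[k] S →ₗ[k] R ⊗[k] S :=
  (DirectSum.toModule k ℤ (S →ₗ[k] R ⊗[k] S)
    (fun i => ((LinearMap.lcomp k (R ⊗[k] S) (GradedAlgebra.proj ℬ i)) ∘ₗ (TensorProduct.mk k R S))
      ∘ₗ (𝒜 i).subtype)) ∘ₗ (DirectSum.decomposeLinearEquiv 𝒜).toLinearMap

/-- The projection of `R ⊗ S` onto its diagonal part `⊕ R_n ⊗ S_n`. -/
noncomputable def diagProj : R ⊗[k] S →ₗ[k] R ⊗[k] S := TensorProduct.lift (diagBilin 𝒜 ℬ)

theorem diagProj_tmul {i j : ℤ} {a : R} {b : S} (ha : a ∈ 𝒜 i) (hb : b ∈ ℬ j) :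
    diagProj 𝒜 ℬ (a ⊗ₜ b) = if i = j then a ⊗ₜ b else 0 := by
  simp only [diagProj, diagBilin, TensorProduct.lift.tmul, LinearMap.coe_comp, Function.comp_apply,
    LinearEquiv.coe_coe, DirectSum.decomposeLinearEquiv_apply, DirectSum.decompose_of_mem _ ha]
  erw [DirectSum.toModule_lof]
  simp only [LinearMap.coe_comp, Function.comp_apply, Submodule.subtype_apply,
    LinearMap.lcomp_apply, TensorProduct.mk_apply, GradedAlgebra.proj_apply]
  split_ifs with h
  · subst h
    rw [DirectSum.decompose_of_mem_same _ hb]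
  · rw [DirectSum.decompose_of_mem_ne _ hb (Ne.symm h), tmul_zero]

/-- Induction principle: `R ⊗ S` is generated by tensors of homogeneous elements. -/
theorem hom_induction {p : R ⊗[k] S → Prop} (h0 : p 0) (hadd : ∀ x y, p x → p y → p (x + y))
    (hmul : ∀ (i j : ℤ) (a : R) (b : S), a ∈ 𝒜 i → b ∈ ℬ j → p (a ⊗ₜ b)) : ∀ x, p x := by
  intro x
  induction x using TensorProduct.induction_on with
  | zero => exact h0
  | add x y hx hy => exact hadd x y hx hy
  | tmul a b =>
    induction a using DirectSum.Decomposition.inductionOn 𝒜 with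
    | zero => rw [zero_tmul]; exact h0
    | add a a' ha ha' => rw [add_tmul]; exact hadd _ _ ha ha'
    | homogeneous a =>
      rename_i i
      induction b using DirectSum.Decomposition.inductionOn ℬ with
      | zero => rw [tmul_zero]; exact h0
      | add b b' hb hb' => rw [tmul_add]; exact hadd _ _ hb hb'
      | homogeneous b =>
        rename_i j
        exact hmul i j a b a.2 b.2

/-- The diagonal part of `R ⊗ S`. -/
def diag : Submodule k (R ⊗[k] S) :=
  Submodule.span k {x | ∃ (n : ℤ) (a : R) (b : S), a ∈ 𝒜 n ∧ b ∈ ℬ n ∧ x = a ⊗ₜ b}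

theorem diagProj_mem (x : R ⊗[k] S) : diagProj 𝒜 ℬ x ∈ diag 𝒜 ℬ := by
  induction x using hom_induction 𝒜 ℬ with
  | h0 => rw [map_zero]; exact zero_mem _
  | hadd x y hx hy => rw [map_add]; exact add_mem hx hy
  | hmul i j a b ha hb =>
    rw [diagProj_tmul 𝒜 ℬ ha hb]
    split_ifs with h
    · subst h
      exact Submodule.subset_span ⟨i, a, b, ha, hb, rfl⟩
    · exact zero_mem _

theorem diagProj_of_mem {y : R ⊗[k] S} (hy : y ∈ diag 𝒜 ℬ) : diagProj 𝒜 ℬ y = y := by
  induction hy using Submodule.span_induction with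
  | mem y hy =>
    obtain ⟨n, a, b, ha, hb, rfl⟩ := hy
    rw [diagProj_tmul 𝒜 ℬ ha hb, if_pos rfl]
  | zero => rw [map_zero]
  | add x y _ _ hx hy => rw [map_add, hx, hy]
  | smul c x _ hx => rw [map_smul, hx]

theorem diagProj_mul {y : R ⊗[k] S} (hy : y ∈ diag 𝒜 ℬ) (x : R ⊗[k] S) :
    diagProj 𝒜 ℬ (y * x) = y * diagProj 𝒜 ℬ x := by
  induction hy using Submodule.span_induction with
  | mem y hy =>
    obtain ⟨n, a', b', ha', hb', rfl⟩ := hy
    induction x using hom_induction 𝒜 ℬ with
    | h0 => simp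
    | hadd x y hx hy => rw [mul_add, map_add, hx, hy, map_add, mul_add]
    | hmul i j a b ha hb =>
      rw [Algebra.TensorProduct.tmul_mul_tmul,
        diagProj_tmul 𝒜 ℬ (SetLike.GradedMul.mul_mem ha' ha) (SetLike.GradedMul.mul_mem hb' hb),
        diagProj_tmul 𝒜 ℬ ha hb]
      by_cases h : i = j
      · subst h
        rw [if_pos rfl, if_pos rfl, Algebra.TensorProduct.tmul_mul_tmul]
      · rw [if_neg h, if_neg (by simpa using h), mul_zero]
  | zero => simp
  | add y y' _ _ hy hy' => rw [add_mul, map_add, hy, hy', add_mul]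
  | smul c y _ hy => rw [smul_mul_assoc, map_smul, hy, smul_mul_assoc]

end Helpers

/-- Let R and S be graded rings defined over a field k. Then their Segre product T = R # S is a
Noetherian ring (hence again a graded ring defined over k). Here a graded ring defined over k is a
commutative k-algebra of finite type, graded in nonnegative degrees by k-subspaces with degree-zero
part k·1; the Segre product T = R # S = ⊕_n R_n ⊗_k S_n (graded by T_n = R_n ⊗_k S_n) is presented
abstractly as a graded k-algebra T with an injective k-algebra homomorphism ψ : T → R ⊗_k S carrying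
T_n onto the k-span of the elementary tensors a ⊗ b with a ∈ R_n, b ∈ S_n, for every n. -/
theorem result (k : Type u) [Field k] (R : Type u) [CommRing R] [Algebra k R] (𝒜 : ℤ → Submodule k R) [GradedAlgebra 𝒜] (hposR : ∀ n : ℤ, n < 0 → 𝒜 n = ⊥) (h0R : 𝒜 0 = Submodule.span k {(1 : R)}) [Algebra.FiniteType k R] (S : Type u) [CommRing S] [Algebra k S] (ℬ : ℤ → Submodule k S) [GradedAlgebra ℬ] (hposS : ∀ n : ℤ, n < 0 → ℬ n = ⊥) (h0S : ℬ 0 = Submodule.span k {(1 : S)}) [Algebra.FiniteType k S] (T : Type u) [CommRing T] [Algebra k T] (𝒯 : ℤ → Submodule k T) [GradedAlgebra 𝒯] (ψ : T →ₐ[k] TensorProduct k R S) (hψ : Function.Injective ψ) (hdegT : ∀ n : ℤ, (𝒯 n).map ψ.toLinearMap = Submodule.span k {x : TensorProduct k R S | ∃ a ∈ 𝒜 n, ∃ b ∈ ℬ n, x = a ⊗ₜ[k] b}) : IsNoetherianRing T := by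
  classical
  have hFT : Algebra.FiniteType k (TensorProduct k R S) :=
    Algebra.FiniteType.trans (R := k) (S := R) (A := TensorProduct k R S) inferInstance inferInstance
  have hN : IsNoetherianRing (TensorProduct k R S) := Algebra.FiniteType.isNoetherianRing k _
  -- the image of `ψ` is the diagonal part
  have hrange : ∀ y, y ∈ diag 𝒜 ℬ → ∃ t : T, ψ t = y := by
    intro y hy
    induction hy using Submodule.span_induction with
    | mem y hy =>
      obtain ⟨n, a, b, ha, hb, rfl⟩ := hy
      have : a ⊗ₜ[k] b ∈ (𝒯 n).map ψ.toLinearMap := by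
        rw [hdegT n]
        exact Submodule.subset_span ⟨a, ha, b, hb, rfl⟩
      obtain ⟨t, -, ht⟩ := this
      exact ⟨t, ht⟩
    | zero => exact ⟨0, map_zero _⟩
    | add x y _ _ hx hy =>
      obtain ⟨t, rfl⟩ := hx
      obtain ⟨t', rfl⟩ := hy
      exact ⟨t + t', map_add _ _ _⟩
    | smul c x _ hx =>
      obtain ⟨t, rfl⟩ := hx
      exact ⟨c • t, map_smul _ _ _⟩
  have hmem : ∀ t : T, ψ t ∈ diag 𝒜 ℬ := by
    intro t
    induction t using DirectSum.Decomposition.inductionOn 𝒯 with
    | zero => rw [map_zero]; exact zero_mem _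
    | add t t' ht ht' => rw [map_add]; exact add_mem ht ht'
    | homogeneous t =>
      rename_i n
      have : ψ t ∈ (𝒯 n).map ψ.toLinearMap := ⟨t, t.2, rfl⟩
      rw [hdegT n] at this
      refine Submodule.span_mono ?_ this
      rintro x ⟨a, ha, b, hb, rfl⟩
      exact ⟨n, a, b, ha, hb, rfl⟩
  -- contraction of extension is the identity
  have hkey : ∀ I : Ideal T, (I.map ψ.toRingHom).comap ψ.toRingHom = I := by
    intro I
    refine le_antisymm ?_ Ideal.le_comap_map
    intro t₀ ht₀
    have hx : ∀ x ∈ I.map ψ.toRingHom, ∀ c : TensorProduct k R S,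
        ∃ t ∈ I, ψ t = diagProj 𝒜 ℬ (c * x) := by
      intro x hx
      refine Submodule.span_induction (p := fun x _ => ∀ c : TensorProduct k R S,
        ∃ t ∈ I, ψ t = diagProj 𝒜 ℬ (c * x)) ?_ ?_ ?_ ?_ hx
      · rintro _ ⟨t, ht, rfl⟩ c
        obtain ⟨s, hs⟩ := hrange _ (diagProj_mem 𝒜 ℬ c)
        refine ⟨t * s, I.mul_mem_right s ht, ?_⟩
        have : ψ.toRingHom t = ψ t := rfl
        rw [this, mul_comm c, diagProj_mul 𝒜 ℬ (hmem t), map_mul, hs]
      · intro c
        exact ⟨0, I.zero_mem, by simp⟩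
      · intro x y _ _ hx hy c
        obtain ⟨t, ht, h1⟩ := hx c
        obtain ⟨t', ht', h2⟩ := hy c
        exact ⟨t + t', I.add_mem ht ht', by rw [map_add, h1, h2, mul_add, map_add]⟩
      · intro a x _ hx c
        obtain ⟨t, ht, h1⟩ := hx (c * a)
        exact ⟨t, ht, by rw [h1, smul_eq_mul, mul_assoc]⟩
    obtain ⟨t, ht, h1⟩ := hx _ ht₀ 1
    have h2 : ψ t = ψ t₀ := by
      rw [h1, one_mul]
      exact diagProj_of_mem 𝒜 ℬ (hmem t₀)
    rw [← hψ h2]
    exact ht
  have hmono : StrictMono (fun I : Ideal T => I.map ψ.toRingHom) := by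
    refine Monotone.strictMono_of_injective (fun I J h => Ideal.map_mono h) ?_
    intro I J h
    have := congrArg (Ideal.comap ψ.toRingHom) h
    rwa [hkey, hkey] at this
  rw [isNoetherianRing_iff, isNoetherian_iff']
  have : WellFoundedGT (Ideal (TensorProduct k R S)) := by
    rw [← isNoetherian_iff']
    exact hN
  exact hmono.wellFoundedGT

end Groth.Agent.S18646
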