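import Groth.Statements.S19747
import Groth.Agent.Lib.H2SegreMod

set_option autoImplicit false
universe u
open scoped TensorProduct
open GrSegre

namespace Groth.Agent.S19747


open TensorProduct DirectSum Groth.Agent.Lib.H2SegreMod

theorem result' (k : Type u) [Field k] (R : Type u) [CommRing R] [Algebra k R] (𝒜 : ℤ → Submodule k R) [GradedAlgebra 𝒜] (hposR : ∀ n : ℤ, n < 0 → 𝒜 n = ⊥) (h0R : 𝒜 0 = Submodule.span k {(1 : R)}) [Algebra.FiniteType k R] (S : Type u) [CommRing S] [Algebra k S] (ℬ : ℤ → Submodule k S) [GradedAlgebra ℬ] (hposS : ∀ n : ℤ, n < 0 → ℬ n = ⊥) (h0S : ℬ 0 = Submodule.span k {(1 : S)}) [Algebra.FiniteType k S] (T : Type u) [CommRing T] [Algebra k T] (𝒯 : ℤ → Submodule k T) [GradedAlgebra 𝒯] (ψ : T →ₐ[k] TensorProduct k R S) (hT : GrSeg.IsSegreRing 𝒜 ℬ 𝒯 ψ) (M : Type u) [AddCommGroup M] [Module R M] [Module k M] [IsScalarTower k R M] (ℳ : ℤ → AddSubgroup M) [DirectSum.Decomposition ℳ] [SetLike.GradedSMul 𝒜 ℳ] [Module.Finite R M] (N : Type u) [AddCommGroup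 N] [Module S N] [Module k N] [IsScalarTower k S N] (𝒩 : ℤ → AddSubgroup N) [DirectSum.Decomposition 𝒩] [SetLike.GradedSMul ℬ 𝒩] [Module.Finite S N] (P : Type u) [AddCommGroup P] [Module T P] [Module k P] [IsScalarTower k T P] (𝒬 : ℤ → AddSubgroup P) [DirectSum.Decomposition 𝒬] (φ : P →ₗ[k] TensorProduct k M N) (hP : GrSeg.IsSegreMod ψ ℳ 𝒩 𝒬 φ) : Module.Finite T P := by
  classical
  obtain ⟨hψinj, hdegT⟩ := hT
  letI modAE : Module (R ⊗[k] S) (M ⊗[k] N) := actModule k R S M N
  have hFT : Algebra.FiniteType k (R ⊗[k] S) :=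
    Algebra.FiniteType.trans (R := k) (S := R) (A := R ⊗[k] S) inferInstance inferInstance
  have hN : IsNoetherianRing (R ⊗[k] S) := Algebra.FiniteType.isNoetherianRing k _
  have hfin : Module.Finite (R ⊗[k] S) (M ⊗[k] N) := actModule_finite k R S M N
  have hNE : IsNoetherian (R ⊗[k] S) (M ⊗[k] N) := isNoetherian_of_isNoetherianRing_of_finite _ _
  -- range φ ≤ diag
  have hmem : ∀ p : P, φ p ∈ diag (k := k) ℳ 𝒩 := by
    intro p
    induction p using DirectSum.Decomposition.inductionOn 𝒬 with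
    | zero => rw [map_zero]; exact zero_mem _
    | add p p' hp hp' => rw [map_add]; exact add_mem hp hp'
    | homogeneous p =>
      rename_i n
      have : φ p ∈ φ '' (𝒬 n : Set P) := ⟨p, p.2, rfl⟩
      rw [hP.image_piece n] at this
      exact (le_iSup (fun n => GrSeg.segrePiece k ℳ 𝒩 n) n) this
  -- key
  have hkey : ∀ (Q : Submodule T P) (q : P), q ∈ Q → ∀ a : R ⊗[k] S,
      ∃ q' ∈ Q, φ q' = diagProj 𝒜 ℳ ℬ 𝒩 (GrSeg.act k R S M N a (φ q)) := by
    intro Q q hq a
    induction a using hom_induction 𝒜 ℬ with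
    | h0 => exact ⟨0, Q.zero_mem, by simp⟩
    | hadd x y hx hy =>
      obtain ⟨q1, hq1, h1⟩ := hx
      obtain ⟨q2, hq2, h2⟩ := hy
      exact ⟨q1 + q2, Q.add_mem hq1 hq2, by
        rw [map_add, h1, h2, map_add, LinearMap.add_apply, map_add]⟩
    | hmul i j r s hr hs =>
      rw [diagProj_act 𝒜 ℳ ℬ 𝒩 (hmem q) hr hs]
      by_cases h : i = j
      · subst h
        rw [if_pos rfl]
        have : r ⊗ₜ[k] s ∈ (𝒯 i).map ψ.toLinearMap := by
          rw [hdegT i]
          exact Submodule.subset_span ⟨r, hr, s, hs, rfl⟩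
        obtain ⟨t, -, ht⟩ := this
        refine ⟨t • q, Q.smul_mem t hq, ?_⟩
        rw [hP.map_smul]
        have : ψ t = r ⊗ₜ[k] s := ht
        rw [this]
      · rw [if_neg h]
        exact ⟨0, Q.zero_mem, map_zero _⟩
  -- extension of submodules
  let Λ : Submodule T P → Submodule (R ⊗[k] S) (M ⊗[k] N) :=
    fun Q => Submodule.span (R ⊗[k] S) (φ '' (Q : Set P))
  have hΛ : ∀ (Q : Submodule T P) (p : P), φ p ∈ Λ Q → p ∈ Q := by
    intro Q p hp
    have hx : ∀ z ∈ Λ Q, ∀ a : R ⊗[k] S,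
        ∃ q' ∈ Q, φ q' = diagProj 𝒜 ℳ ℬ 𝒩 (a • z) := by
      intro z hz
      induction hz using Submodule.span_induction with
      | mem z hz =>
        obtain ⟨q, hq, rfl⟩ := hz
        intro a
        exact hkey Q q hq a
      | zero =>
        intro a
        exact ⟨0, Q.zero_mem, by simp⟩
      | add x y _ _ hx hy =>
        intro a
        obtain ⟨q1, hq1, h1⟩ := hx a
        obtain ⟨q2, hq2, h2⟩ := hy a
        exact ⟨q1 + q2, Q.add_mem hq1 hq2, by rw [smul_add, map_add, map_add, h1, h2]⟩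
      | smul b x _ hx =>
        intro a
        obtain ⟨q', hq', h⟩ := hx (a * b)
        exact ⟨q', hq', by rw [h, mul_smul]⟩
    obtain ⟨q', hq', h⟩ := hx _ hp 1
    rw [one_smul, diagProj_of_mem 𝒜 ℳ ℬ 𝒩 (hmem p)] at h
    rw [← hP.injective h]
    exact hq'
  have hmono : StrictMono Λ := by
    refine Monotone.strictMono_of_injective
      (fun Q Q' h => Submodule.span_mono (Set.image_mono h)) ?_
    intro Q Q' h
    apply le_antisymm
    · intro p hp
      apply hΛ Q' p
      rw [← h]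
      exact Submodule.subset_span ⟨p, hp, rfl⟩
    · intro p hp
      apply hΛ Q p
      rw [h]
      exact Submodule.subset_span ⟨p, hp, rfl⟩
  have hwf : WellFoundedGT (Submodule (R ⊗[k] S) (M ⊗[k] N)) := isNoetherian_iff'.1 hNE
  have hNP : IsNoetherian T P := isNoetherian_iff'.2 hmono.wellFoundedGT
  infer_instance


/-- Let R and S be graded rings defined over a field k with Segre product T = R # S, and let M be a
finitely generated graded R-module and N a finitely generated graded S-module. Then M # N is a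
finitely generated T-module. Here a graded ring defined over k is a commutative k-algebra of finite
type, graded in nonnegative degrees by k-subspaces with degree-zero part k·1; the Segre product T =
R # S = ⊕_n R_n ⊗_k S_n is presented abstractly as a graded k-algebra T with an injective k-algebra
homomorphism ψ : T → R ⊗_k S carrying T_n onto the k-span of the elementary tensors a ⊗ b with a ∈
R_n, b ∈ S_n; the Segre product M # N = ⊕_n M_n ⊗_k N_n of a graded R-module M and a graded S-module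
N is presented abstractly as a graded T-module P with an injective k-linear map φ : P → M ⊗_k N
carrying P_n onto the k-span of the tensors x ⊗ y with x ∈ M_n, y ∈ N_n and turning the action of t
∈ T into that of ψ(t) (acting factorwise on M ⊗_k N). -/
theorem result (k : Type u) [Field k] (R : Type u) [CommRing R] [Algebra k R] (𝒜 : ℤ → Submodule k R) [GradedAlgebra 𝒜] (hposR : ∀ n : ℤ, n < 0 → 𝒜 n = ⊥) (h0R : 𝒜 0 = Submodule.span k {(1 : R)}) [Algebra.FiniteType k R] (S : Type u) [CommRing S] [Algebra k S] (ℬ : ℤ → Submodule k S) [GradedAlgebra ℬ] (hposS : ∀ n : ℤ, n < 0 → ℬ n = ⊥) (h0S : ℬ 0 = Submodule.span k {(1 : S)}) [Algebra.FiniteType k S] (T : Type u) [CommRing T] [Algebra k T] (𝒯 : ℤ → Submodule k T) [GradedAlgebra 𝒯] (ψ : T →ₐ[k] TensorProduct k R S) (hT : GrSeg.IsSegreRing 𝒜 ℬ 𝒯 ψ) (M : Type u) [AddCommGroup M] [Module R M] [Module k M] [IsScalarTower k R M] (ℳ : ℤ → AddSubgroup M) [DirectSum.Decomposition ℳ] [SetLike.GradedSMul 𝒜 ℳ] [Module.Finite R M] (N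 : Type u) [AddCommGroup N] [Module S N] [Module k N] [IsScalarTower k S N] (𝒩 : ℤ → AddSubgroup N) [DirectSum.Decomposition 𝒩] [SetLike.GradedSMul ℬ 𝒩] [Module.Finite S N] (P : Type u) [AddCommGroup P] [Module T P] [Module k P] [IsScalarTower k T P] (𝒬 : ℤ → AddSubgroup P) [DirectSum.Decomposition 𝒬] (φ : P →ₗ[k] TensorProduct k M N) (hP : GrSeg.IsSegreMod ψ ℳ 𝒩 𝒬 φ) : Module.Finite T P := by
  exact result' k R 𝒜 hposR h0R S ℬ hposS h0S T 𝒯 ψ hT M ℳ N 𝒩 P 𝒬 φ hP

end Groth.Agent.S19747
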