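import Groth.Statements.S18647
import Groth.Agent.Lib.GrNoether20
import Groth.Agent.Lib.SegreDim20

set_option autoImplicit false
universe u
open scoped TensorProduct
open GrSegre

namespace Groth.Agent.S18647

/-- Let R and S be graded rings defined over a field k with dim R = r ≥ 1 and dim S = s ≥ 1. Then the
Segre product T = R # S has Krull dimension r + s − 1. Here a graded ring defined over k is a
commutative k-algebra of finite type, graded in nonnegative degrees by k-subspaces with degree-zero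
part k·1; the Segre product T = R # S = ⊕_n R_n ⊗_k S_n (graded by T_n = R_n ⊗_k S_n) is presented
abstractly as a graded k-algebra T with an injective k-algebra homomorphism ψ : T → R ⊗_k S carrying
T_n onto the k-span of the elementary tensors a ⊗ b with a ∈ R_n, b ∈ S_n, for every n. -/
theorem result (k : Type u) [Field k] (R : Type u) [CommRing R] [Algebra k R] (𝒜 : ℤ → Submodule k R) [GradedAlgebra 𝒜] (hposR : ∀ n : ℤ, n < 0 → 𝒜 n = ⊥) (h0R : 𝒜 0 = Submodule.span k {(1 : R)}) [Algebra.FiniteType k R] (S : Type u) [CommRing S] [Algebra k S] (ℬ : ℤ → Submodule k S) [GradedAlgebra ℬ] (hposS : ∀ n : ℤ, n < 0 → ℬ n = ⊥) (h0S : ℬ 0 = Submodule.span k {(1 : S)}) [Algebra.FiniteType k S] (T : Type u) [CommRing T] [Algebra k T] (𝒯 : ℤ → Submodule k T) [GradedAlgebra 𝒯] (ψ : T →ₐ[k] TensorProduct k R S) (hψ : Function.Injective ψ) (hdegT : ∀ n : ℤ, (𝒯 n).map ψ.toLinearMap = Submodule.span k {x : TensorProduct k R S | ∃ a ∈ 𝒜 n, ∃ b ∈ ℬ n, x = a ⊗ₜ[k] b}) (r s : ℕ) (hr : ringKrullDim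 R = r) (hs : ringKrullDim S = s) (h1r : 1 ≤ r) (h1s : 1 ≤ s) : ringKrullDim T = ((r + s - 1 : ℕ) : WithBot ℕ∞) := by
  have hRnt : Nontrivial R := by
    by_contra h
    rw [not_nontrivial_iff_subsingleton] at h
    rw [ringKrullDim_eq_bot_of_subsingleton] at hr
    exact absurd hr (by simp)
  have hSnt : Nontrivial S := by
    by_contra h
    rw [not_nontrivial_iff_subsingleton] at h
    rw [ringKrullDim_eq_bot_of_subsingleton] at hs
    exact absurd hs (by simp)
  obtain ⟨D1, hD1, h1⟩ := Groth.Agent.Lib.GrNoether20.exists_hsop 𝒜 hposR h0R r hr.le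
  obtain ⟨D2, hD2, h2⟩ := Groth.Agent.Lib.GrNoether20.exists_hsop ℬ hposS h0S s hs.le
  obtain ⟨x, hx, hxfin⟩ := h1 D2 hD2
  obtain ⟨y, hy, hyfin⟩ := h2 D1 hD1
  have hxi := Groth.Agent.Lib.GrNoether20.algebraicIndependent_of_finite r x hxfin hr
  have hyi := Groth.Agent.Lib.GrNoether20.algebraicIndependent_of_finite s y hyfin hs
  have hxint : Algebra.IsIntegral (Algebra.adjoin k (Set.range x)) R := inferInstance
  have hyint : Algebra.IsIntegral (Algebra.adjoin k (Set.range y)) S := inferInstance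
  have hmain := Groth.Agent.Lib.SegreDim20.ringKrullDim_segre_of_hsop 𝒜 ℬ 𝒯 ψ hψ hdegT
    (p := r) (q := s) (by omega) (by omega) x y (D := ((D2 * D1 : ℕ) : ℤ))
    (by exact_mod_cast Nat.mul_pos hD2 hD1) hx (by rw [mul_comm]; exact hy) hxi hyi hxint hyint
  rw [hmain]
  congr 1
  omega

end Groth.Agent.S18647
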