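import Groth.Statements.S17771
import Mathlib
import Groth.Agent.Lib.GrHilbSamuel
import Groth.Agent.S17772

set_option autoImplicit false
universe u
open GrLC

namespace Groth.Agent.S17771

open Polynomial in
theorem eq_zero_of_neg_roots (P : ℚ[X]) (d : ℕ) (hdeg : P.degree < (d : WithBot ℕ))
    (h : ∀ i : ℕ, i < d → P.eval (((-(i + 1 : ℤ) : ℤ)) : ℚ) = 0) : P = 0 := by
  classical
  let s : Finset ℚ := (Finset.range d).image (fun i : ℕ => (((-(i + 1 : ℤ) : ℤ)) : ℚ))
  have hcard : s.card = d := by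
    rw [Finset.card_image_of_injective, Finset.card_range]
    intro i j hij
    have h2 : ((-(i + 1 : ℤ) : ℤ) : ℚ) = ((-(j + 1 : ℤ) : ℤ) : ℚ) := hij
    have : (-(i + 1 : ℤ) : ℤ) = (-(j + 1 : ℤ) : ℤ) := Int.cast_injective h2
    omega
  apply Polynomial.eq_zero_of_degree_lt_of_eval_finset_eq_zero s
  · rw [hcard]; exact hdeg
  · intro x hx
    obtain ⟨i, hi, rfl⟩ := Finset.mem_image.mp hx
    exact h i (Finset.mem_range.mp hi)


/-- Let R = ⊕_{n ≥ 0} R_n be a positively ℤ-graded ring which is standard graded (irrelevant ideal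
generated by R_1), with R_0 Artinian, *local with unique homogeneous maximal ideal m, and
Cohen–Macaulay of Krull dimension d. Then the a-invariant of R is at least −d: the end (largest
nonzero degree) of the graded local cohomology module H^d_m(R), computed from any *injective
resolution of R in the graded category, is ≥ −d. (Equality holds exactly for polynomial rings
R_0[T_1, …, T_d]; that characterisation is not part of this statement.) -/
theorem result (R : Type u) [CommRing R] [LocCoh.IsCohenMacaulayRing R] (𝒜 : ℤ → AddSubgroup R) [GradedRing 𝒜] (hpos : ∀ n : ℤ, n < 0 → 𝒜 n = ⊥) (hstd : Ideal.span (⋃ n ∈ Set.Ioi (0 : ℤ), (𝒜 n : Set R)) = Ideal.span ((𝒜 1 : AddSubgroup R) : Set R)) [IsArtinianRing (GrLC.deg0 𝒜)] (m : HomogeneousIdeal 𝒜) (hm : GrLC.IsStarLocal 𝒜 m) (d : ℕ) (hd : ringKrullDim R = d) (I : GrLC.StarInjRes 𝒜 𝒜) : (((-(d : ℤ) : ℤ) : WithTop ℤ) : WithBot (WithTop ℤ)) ≤ GrLC.endDeg (I.Hgr m d) := by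
  have : IsNoetherianRing R := inferInstance
  obtain ⟨P, hdeg, hP⟩ := Groth.Agent.Lib.GrHilbSamuel.exists_hilbPoly 𝒜 hpos hstd m hm d hd
  rw [Groth.Agent.S17772.result R 𝒜 hpos hstd m hm d hd I P hP]
  have hneg : ∀ n : ℤ, n < 0 →
      ((Module.length (GrLC.deg0 𝒜) (GrLC.comp 𝒜 𝒜 n)).toNat : ℚ) = 0 := by
    intro n hn
    have h1 : Subsingleton (GrLC.comp 𝒜 𝒜 n) := by
      refine ⟨fun x y => Subtype.ext ?_⟩
      have hx : (x : R) ∈ 𝒜 n := x.2
      have hy : (y : R) ∈ 𝒜 n := y.2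
      rw [hpos n hn] at hx hy
      rw [AddSubgroup.mem_bot] at hx hy
      rw [hx, hy]
    rw [Module.length_eq_zero]
    simp
  have hex : ∃ n : ℤ, -(d : ℤ) ≤ n ∧ P.eval (n : ℚ) ≠
      ((Module.length (GrLC.deg0 𝒜) (GrLC.comp 𝒜 𝒜 n)).toNat : ℚ) := by
    by_contra hcon
    push Not at hcon
    have hP0 : P = 0 := by
      apply eq_zero_of_neg_roots P d hdeg
      intro i hi
      rw [hcon _ (by omega), hneg _ (by omega)]
    have h0 := hcon 0 (by omega)
    rw [hP0, Polynomial.eval_zero] at h0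
    have hnt : Nontrivial R := by
      by_contra hne
      rw [not_nontrivial_iff_subsingleton] at hne
      rw [ringKrullDim_eq_bot_of_subsingleton] at hd
      exact absurd hd (by simp)
    have hnt0 : Nontrivial (GrLC.comp 𝒜 𝒜 0) := by
      refine ⟨⟨⟨1, (SetLike.GradedOne.one_mem : (1 : R) ∈ 𝒜 0)⟩, 0, fun h => ?_⟩⟩
      exact one_ne_zero (congrArg Subtype.val h)
    have hfin : Module.length (GrLC.deg0 𝒜) (GrLC.comp 𝒜 𝒜 0) ≠ ⊤ := by
      have hle : Module.length (GrLC.deg0 𝒜) (GrLC.comp 𝒜 𝒜 0) ≤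
          Module.length (GrLC.deg0 𝒜) (GrLC.deg0 𝒜) := by
        let f : GrLC.comp 𝒜 𝒜 0 →ₗ[GrLC.deg0 𝒜] GrLC.deg0 𝒜 :=
          { toFun := fun x => ⟨(x : R), x.2⟩
            map_add' := fun x y => rfl
            map_smul' := fun r x => rfl }
        apply Module.length_le_of_injective f
        intro x y hxy
        exact Subtype.ext (congrArg Subtype.val hxy)
      exact ne_top_of_le_ne_top Module.length_ne_top hle
    have hpos0 : 0 < Module.length (GrLC.deg0 𝒜) (GrLC.comp 𝒜 𝒜 0) := Module.length_pos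
    have h1 : (Module.length (GrLC.deg0 𝒜) (GrLC.comp 𝒜 𝒜 0)).toNat = 0 := by
      exact_mod_cast h0.symm
    rcases ENat.toNat_eq_zero.mp h1 with h | h
    · exact absurd h (ne_of_gt hpos0)
    · exact hfin h
  obtain ⟨n, hn, hne⟩ := hex
  refine le_trans ?_ (le_iSup₂ (f := fun (n : ℤ) (_ : P.eval (n : ℚ) ≠
      ((Module.length (GrLC.deg0 𝒜) (GrLC.comp 𝒜 𝒜 n)).toNat : ℚ)) =>
      ((n : WithTop ℤ) : WithBot (WithTop ℤ))) n hne)
  exact_mod_cast hn

end Groth.Agent.S17771
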