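import Groth.Statements.S10915
import Mathlib

set_option autoImplicit false
universe u
open ProjDeg

namespace Groth.Agent.S10915

section helpers

theorem dim_drop {R : Type*} [CommRing R] (𝔪 : Ideal R) [h𝔪 : 𝔪.IsMaximal] (J : Ideal R) (h : R)
    (m : ℕ) (hd : ringKrullDim (R ⧸ J) ≤ (m : WithBot ℕ∞) + 1)
    (hav : ∀ P ∈ J.minimalPrimes, h ∉ P ∨ 𝔪 ≤ P) :
    ringKrullDim (R ⧸ (J ⊔ Ideal.span {h})) ≤ (m : WithBot ℕ∞) := by
  rw [ringKrullDim_quotient] at hd ⊢
  rw [Order.krullDim]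
  refine iSup_le fun l => ?_
  have hJl : ∀ x : PrimeSpectrum.zeroLocus (R := R) ((J ⊔ Ideal.span {h} : Ideal R) : Set R),
      x.1 ∈ PrimeSpectrum.zeroLocus (R := R) J := by
    intro x
    have := x.2
    rw [PrimeSpectrum.mem_zeroLocus] at this ⊢
    exact le_trans (by exact_mod_cast (le_sup_left : J ≤ J ⊔ Ideal.span {h})) this
  have hhead : J ≤ l.head.1.asIdeal := by
    have := hJl l.head
    rw [PrimeSpectrum.mem_zeroLocus] at this
    exact_mod_cast this
  have hh : h ∈ l.head.1.asIdeal := by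
    have := l.head.2
    rw [PrimeSpectrum.mem_zeroLocus] at this
    exact this (Ideal.mem_sup_right (Ideal.mem_span_singleton_self h))
  obtain ⟨p, hp, hp'⟩ := Ideal.exists_minimalPrimes_le (J := l.head.1.asIdeal) hhead
  rcases hav p hp with hhp | hmp
  · let p' : PrimeSpectrum.zeroLocus (R := R) J := ⟨⟨p, hp.1.1⟩, by
      rw [PrimeSpectrum.mem_zeroLocus]; exact_mod_cast hp.1.2⟩
    let l' : LTSeries (PrimeSpectrum.zeroLocus (R := R) J) :=
      l.map (fun x => ⟨x.1, hJl x⟩) (fun a b hab => hab)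
    have hlt : p' < l'.head := by
      refine lt_of_le_of_ne hp' fun heq => hhp ?_
      have : p = l.head.1.asIdeal := congrArg (fun x => x.1.asIdeal) heq
      rw [this]; exact hh
    have h1 := Order.LTSeries.length_le_krullDim (l'.cons p' hlt)
    have h2 := le_trans h1 hd
    simp only [RelSeries.cons_length, LTSeries.map_length, l'] at h2
    have h3 : ((l.length + 1 : ℕ) : WithBot ℕ∞) ≤ ((m + 1 : ℕ) : WithBot ℕ∞) := by
      push_cast
      exact_mod_cast h2
    have h4 : l.length + 1 ≤ m + 1 := by exact_mod_cast h3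
    exact_mod_cast (by omega : l.length ≤ m)
  · have hlen : l.length = 0 := by
      by_contra hne
      have hpos : 0 < l.length := Nat.pos_of_ne_zero hne
      have hlt := l.step ⟨0, hpos⟩
      have hle : l.head ≤ l (Fin.castSucc ⟨0, hpos⟩) := LTSeries.head_le l _
      have h0 : 𝔪 ≤ (l (Fin.castSucc ⟨0, hpos⟩)).1.asIdeal := le_trans (le_trans hmp hp') hle
      have h0' : (l (Fin.castSucc ⟨0, hpos⟩)).1.asIdeal = 𝔪 :=
        (h𝔪.eq_of_le (l (Fin.castSucc ⟨0, hpos⟩)).1.2.ne_top h0).symm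
      have h1 : (l (Fin.castSucc ⟨0, hpos⟩)).1.asIdeal < (l (Fin.succ ⟨0, hpos⟩)).1.asIdeal := hlt
      rw [h0'] at h1
      exact (l (Fin.succ ⟨0, hpos⟩)).1.2.ne_top (h𝔪.1.2 _ h1)
    rw [hlen]; simp


theorem isHomogeneous_of_mem_minimalPrimes {ι σ A : Type*} [CommRing A] [AddCommMonoid ι]
    [LinearOrder ι] [IsOrderedCancelAddMonoid ι] [SetLike σ A] [AddSubmonoidClass σ A]
    {𝒜 : ι → σ} [GradedRing 𝒜] {J Q : Ideal A} (hJ : J.IsHomogeneous 𝒜)
    (hQ : Q ∈ J.minimalPrimes) : Q.IsHomogeneous 𝒜 := by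
  haveI : Q.IsPrime := hQ.1.1
  have h1 : (Q.homogeneousCore 𝒜).toIdeal.IsPrime := Ideal.IsPrime.homogeneousCore ‹_›
  have h2 : (Q.homogeneousCore 𝒜).toIdeal ≤ Q := Ideal.toIdeal_homogeneousCore_le 𝒜 Q
  have h3 : J ≤ (Q.homogeneousCore 𝒜).toIdeal := by
    rw [← hJ.toIdeal_homogeneousCore_eq_self]
    exact Ideal.homogeneousCore_mono 𝒜 hQ.1.2
  have h4 : Q ≤ (Q.homogeneousCore 𝒜).toIdeal := hQ.2 ⟨h1, h3⟩ h2
  have h5 : (Q.homogeneousCore 𝒜).toIdeal = Q := le_antisymm h2 h4
  rw [← h5]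
  exact (Q.homogeneousCore 𝒜).isHomogeneous

variable (k : Type u) [Field k] (n : ℕ)

open MvPolynomial

theorem irr_eq_ker : Ideal.span (Set.range (X : Fin (n + 1) → MvPolynomial (Fin (n + 1)) k)) =
    RingHom.ker (constantCoeff : MvPolynomial (Fin (n + 1)) k →+* k) := by
  ext p
  have h := MvPolynomial.mem_pow_idealOfVars_iff' (σ := Fin (n + 1)) (R := k) 1 p
  rw [pow_one] at h
  rw [h, RingHom.mem_ker, constantCoeff_eq]
  constructor
  · intro hx
    exact hx 0 (by simp)
  · intro h0 x hx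
    have : x = 0 := by
      have : Finsupp.degree x = 0 := by omega
      exact (Finsupp.degree_eq_zero_iff x).mp this
    rw [this]; exact h0

instance irr_max :
    (Ideal.span (Set.range (X : Fin (n + 1) → MvPolynomial (Fin (n + 1)) k))).IsMaximal := by
  rw [irr_eq_ker]
  exact RingHom.ker_isMaximal_of_surjective _ (fun a => ⟨C a, constantCoeff_C _ a⟩)

theorem le_irr_of_homog {Q : Ideal (MvPolynomial (Fin (n + 1)) k)}
    (hQ : Q.IsHomogeneous (CohB1.polyGrading n k)) (hne : Q ≠ ⊤) :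
    Q ≤ Ideal.span (Set.range (X : Fin (n + 1) → MvPolynomial (Fin (n + 1)) k)) := by
  intro x hx
  rw [irr_eq_ker, RingHom.mem_ker]
  by_contra hc
  have h0 : (DirectSum.decompose (CohB1.polyGrading n k) x 0 : MvPolynomial (Fin (n + 1)) k) ∈ Q :=
    hQ 0 hx
  have h1 : (DirectSum.decompose (CohB1.polyGrading n k) x 0 : MvPolynomial (Fin (n + 1)) k) =
      C (constantCoeff x) := by
    have := MvPolynomial.decomposition.decompose'_apply x 0
    rw [homogeneousComponent_zero] at this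
    exact this
  rw [h1] at h0
  apply hne
  rw [Ideal.eq_top_iff_one]
  have : (1 : MvPolynomial (Fin (n + 1)) k) =
      C ((constantCoeff x)⁻¹) * C (constantCoeff x) := by
    rw [← C_mul, inv_mul_cancel₀ hc, C_1]
  rw [this]
  exact Q.mul_mem_left _ h0

theorem base {J : Ideal (MvPolynomial (Fin (n + 1)) k)}
    (hJ : J.IsHomogeneous (CohB1.polyGrading n k))
    (hd : ringKrullDim (MvPolynomial (Fin (n + 1)) k ⧸ J) ≤ 0) :
    ∃ N : ℕ, (Ideal.span (Set.range (X : Fin (n + 1) → MvPolynomial (Fin (n + 1)) k))) ^ N ≤ J := by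
  apply Ideal.exists_pow_le_of_le_radical_of_fg
  · rw [← Ideal.sInf_minimalPrimes]
    refine le_sInf fun P hP => ?_
    have hPh := isHomogeneous_of_mem_minimalPrimes hJ hP
    haveI : P.IsPrime := hP.1.1
    have hPm := le_irr_of_homog k n hPh hP.1.1.ne_top
    rw [ringKrullDim_quotient, Order.krullDim_nonpos_iff_forall_isMax] at hd
    let P' : PrimeSpectrum.zeroLocus (R := MvPolynomial (Fin (n + 1)) k) J :=
      ⟨⟨P, hP.1.1⟩, by rw [PrimeSpectrum.mem_zeroLocus]; exact_mod_cast hP.1.2⟩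
    let M' : PrimeSpectrum.zeroLocus (R := MvPolynomial (Fin (n + 1)) k) J :=
      ⟨⟨_, (irr_max k n).isPrime⟩, by
        rw [PrimeSpectrum.mem_zeroLocus]; exact_mod_cast le_trans hP.1.2 hPm⟩
    have : M' ≤ P' := hd P' (show P' ≤ M' from hPm)
    exact this
  · exact MvPolynomial.idealOfVars_fg _ _

theorem exists_linear_avoid [Infinite k] (S : Set (Ideal (MvPolynomial (Fin (n + 1)) k)))
    (hfin : S.Finite)
    (hS : ∀ P ∈ S, ¬ Ideal.span (Set.range (X : Fin (n + 1) → MvPolynomial (Fin (n + 1)) k)) ≤ P) :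
    ∃ h : MvPolynomial (Fin (n + 1)) k, h.IsHomogeneous 1 ∧ ∀ P ∈ S, h ∉ P := by
  by_contra hcon
  push Not at hcon
  haveI : Finite S := hfin
  let V := homogeneousSubmodule (Fin (n + 1)) k 1
  let W : S → Subspace k V := fun P => (P.1.restrictScalars k).comap V.subtype
  have hcov : ⋃ P : S, (W P : Set V) = Set.univ := by
    rw [Set.eq_univ_iff_forall]
    intro v
    obtain ⟨P, hP, hvP⟩ := hcon v.1 ((mem_homogeneousSubmodule _ _).mp v.2)
    rw [Set.mem_iUnion]
    exact ⟨⟨P, hP⟩, hvP⟩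
  obtain ⟨P, hP⟩ := Subspace.exists_eq_top_of_iUnion_eq_univ hcov
  apply hS P.1 P.2
  rw [Ideal.span_le]
  rintro _ ⟨i, rfl⟩
  have hXi : (⟨X i, (mem_homogeneousSubmodule _ _).mpr (isHomogeneous_X k i)⟩ : V) ∈ W P := by
    rw [hP]; trivial
  exact hXi

theorem main [Infinite k] : ∀ (m : ℕ) (J : Ideal (MvPolynomial (Fin (n + 1)) k)),
    J.IsHomogeneous (CohB1.polyGrading n k) →
    ringKrullDim (MvPolynomial (Fin (n + 1)) k ⧸ J) ≤ (m : WithBot ℕ∞) →
    ∃ h : Fin m → MvPolynomial (Fin (n + 1)) k, (∀ i, (h i).IsHomogeneous 1) ∧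
      ∃ N : ℕ, (Ideal.span (Set.range (X : Fin (n + 1) → MvPolynomial (Fin (n + 1)) k))) ^ N ≤
        J ⊔ Ideal.span (Set.range h) := by
  intro m
  induction m with
  | zero =>
    intro J hJ hd
    refine ⟨fun i => i.elim0, fun i => i.elim0, ?_⟩
    obtain ⟨N, hN⟩ := base k n hJ (by exact_mod_cast hd)
    exact ⟨N, le_trans hN le_sup_left⟩
  | succ m ih =>
    intro J hJ hd
    have hfin : {P ∈ J.minimalPrimes |
        ¬ Ideal.span (Set.range (X : Fin (n + 1) → MvPolynomial (Fin (n + 1)) k)) ≤ P}.Finite :=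
      (Ideal.finite_minimalPrimes_of_isNoetherianRing _ J).subset (fun P hP => hP.1)
    obtain ⟨h₀, hh₀, hav⟩ := exists_linear_avoid k n _ hfin (fun P hP => hP.2)
    have hJ' : (J ⊔ Ideal.span {h₀}).IsHomogeneous (CohB1.polyGrading n k) := by
      refine hJ.sup (Ideal.homogeneous_span _ _ ?_)
      intro x hx
      rw [Set.mem_singleton_iff] at hx
      subst hx
      exact ⟨1, (mem_homogeneousSubmodule _ _).mpr hh₀⟩
    have hd' : ringKrullDim (MvPolynomial (Fin (n + 1)) k ⧸ (J ⊔ Ideal.span {h₀})) ≤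
        (m : WithBot ℕ∞) := by
      refine dim_drop (Ideal.span (Set.range (X : Fin (n + 1) → MvPolynomial (Fin (n + 1)) k)))
        J h₀ m (by exact_mod_cast hd) ?_
      intro P hP
      by_cases hmP : Ideal.span (Set.range (X : Fin (n + 1) → MvPolynomial (Fin (n + 1)) k)) ≤ P
      · exact Or.inr hmP
      · exact Or.inl (hav P ⟨hP, hmP⟩)
    obtain ⟨h', hh', N, hN⟩ := ih _ hJ' hd'
    refine ⟨Fin.cons h₀ h', ?_, N, ?_⟩
    · intro i
      refine Fin.cases ?_ (fun j => ?_) i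
      · simpa using hh₀
      · simpa using hh' j
    · rw [Fin.range_cons, Ideal.span_insert, ← sup_assoc]
      exact hN

end helpers

/-- Let k be an algebraically closed field, R = k[X_0, …, X_n] graded by degree, and I a homogeneous
prime ideal with dim R/I = r + 1, so that X = V_+(I) ⊆ P^n_k is a projective variety of dimension r.
Then there are r + 1 linear forms h_1, …, h_{r+1} (homogeneous of degree 1) whose common zero set in
P^n_k does not meet X, i.e. the ideal I + (h_1, …, h_{r+1}) contains some power of the irrelevant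
ideal (X_0, …, X_n). (The published statement says that a generic linear subspace of dimension n − r
− 1 misses X; this row asserts only that one such subspace, cut out by r + 1 linear forms, exists.) -/
theorem result (k : Type u) [Field k] [IsAlgClosed k]
    (n r : ℕ) (I : Ideal (MvPolynomial (Fin (n + 1)) k)) (hIh : I.IsHomogeneous (CohB1.polyGrading n k)) [I.IsPrime]
    (hdim : ringKrullDim (MvPolynomial (Fin (n + 1)) k ⧸ I) = (r : WithBot ℕ∞) + 1) :
    ∃ h : Fin (r + 1) → MvPolynomial (Fin (n + 1)) k, (∀ i, (h i).IsHomogeneous 1) ∧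
      ∃ N : ℕ, (Ideal.span (Set.range (MvPolynomial.X : Fin (n + 1) → MvPolynomial (Fin (n + 1)) k))) ^ N ≤
        I ⊔ Ideal.span (Set.range h) := by
  refine main k n (r + 1) I hIh ?_
  rw [hdim]
  push_cast
  exact le_rfl

end Groth.Agent.S10915
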