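import Groth.Statements.S18826
import Groth.Agent.Lib.ActStable18

set_option autoImplicit false
set_option maxHeartbeats 400000
universe u
open CategoryTheory MonoidalCategory CartesianMonoidalCategory MonObj AlgebraicGeometry
open AlgGrp

namespace Groth.Agent.S18826

/-- Let k be a field, G a locally algebraic group over k (a group k-scheme locally of finite type)
acting on k-schemes X and Y, and f : X → Y a G-equivariant k-morphism. Let P be a property of
morphisms of schemes which is local on the target for the Zariski topology, stable under base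
change, and descends along flat surjective universally open morphisms (the published hypothesis is
descent along fpqc morphisms; the printed argument descends only along the restriction G ×_k U → G·U
of the action, which is flat, surjective and universally open). Then there is a largest open subset
V of Y such that the restriction f⁻¹(V) → V of f has P, and this V is G-stable: the action G ×_k Y →
Y maps G ×_k V into V. -/
theorem result (k : Type u) [Field k]
    (G X Y : Over (Spec (CommRingCat.of k))) [GrpObj G] [LocallyOfFiniteType G.hom]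
    (aX : AlgGrp.Action G X) (aY : AlgGrp.Action G Y) (f : X ⟶ Y) (hf : (G ◁ f) ≫ aY.act = aX.act ≫ f)
    (P : MorphismProperty Scheme.{u}) [IsZariskiLocalAtTarget P] [P.IsStableUnderBaseChange]
    [P.DescendsAlong (@Flat ⊓ @Surjective ⊓ @UniversallyOpen)] :
    ∃ V : Y.left.Opens, P (f.left ∣_ V) ∧ (∀ V' : Y.left.Opens, P (f.left ∣_ V') → V' ≤ V) ∧
      (CartesianMonoidalCategory.snd G Y).left ⁻¹ᵁ V ≤ aY.act.left ⁻¹ᵁ V := by
  classical
  let 𝒮 : Set Y.left.Opens := {V' | P (f.left ∣_ V')}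
  let V : Y.left.Opens := sSup 𝒮
  have hPV : P (f.left ∣_ V) :=
    Groth.Agent.Lib.ActStable18.restrict_sSup P f.left 𝒮 (fun U hU => hU)
  have hmax : ∀ V' : Y.left.Opens, P (f.left ∣_ V') → V' ≤ V := fun V' h => le_sSup h
  refine ⟨V, hPV, hmax, ?_⟩
  -- notation
  let a := aY.act.left
  let π := (CartesianMonoidalCategory.snd G Y).left
  let F := f.left
  let GF := (G ◁ f).left
  let W : (G ⊗ Y).left.Opens := π ⁻¹ᵁ V
  let V' : Y.left.Opens := ⟨Groth.Agent.Lib.ActOpen18.orbitSet aY (V : Set ↥Y.left),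
    Groth.Agent.Lib.ActOpen18.isOpen_orbitSet aY V.2⟩
  have hWV' : W ≤ a ⁻¹ᵁ V' := fun p hp => ⟨p, hp, rfl⟩
  suffices hV' : V' ≤ V from fun p hp => hV' (hWV' hp)
  apply hmax
  -- the two pullback squares
  have S1 := Groth.Agent.Lib.ActOpen18.isPullback_whiskerLeft_snd G f
  have S2 := Groth.Agent.Lib.ActStable18.isPullback_whiskerLeft_act aX aY f hf
  -- P for the restriction of `G ◁ f` to `W`
  have e1 : GF ⁻¹ᵁ W = GF ⁻¹ᵁ W ⊓ (CartesianMonoidalCategory.snd G X).left ⁻¹ᵁ (F ⁻¹ᵁ V) := by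
    refine (inf_eq_left.mpr ?_).symm
    rw [← Scheme.Hom.comp_preimage, ← Scheme.Hom.comp_preimage]
    show _ ≤ ((CartesianMonoidalCategory.snd G X).left ≫ f.left) ⁻¹ᵁ V
    rw [← S1.w]
  have R1 := Scheme.Hom.isPullback_resLE S1 (US := V) (UT := F ⁻¹ᵁ V) (UX := W)
    le_rfl le_rfl (UY := GF ⁻¹ᵁ W) e1
  have hP1 : P (GF.resLE W (GF ⁻¹ᵁ W) (by simp)) := by
    refine P.of_isPullback R1.flip ?_
    rw [Scheme.Hom.resLE_eq_morphismRestrict]
    exact hPV
  -- descent
  have e2 : GF ⁻¹ᵁ W = GF ⁻¹ᵁ W ⊓ aX.act.left ⁻¹ᵁ (F ⁻¹ᵁ V') := by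
    refine (inf_eq_left.mpr ?_).symm
    rw [← Scheme.Hom.comp_preimage]
    show _ ≤ (aX.act.left ≫ f.left) ⁻¹ᵁ V'
    rw [← S2.w, Scheme.Hom.comp_preimage]
    exact GF.preimage_mono hWV'
  have R2 := Scheme.Hom.isPullback_resLE S2 (US := V') (UT := F ⁻¹ᵁ V') (UX := W)
    le_rfl hWV' (UY := GF ⁻¹ᵁ W) e2
  have hQ : (@Flat ⊓ @Surjective ⊓ @UniversallyOpen : MorphismProperty Scheme.{u})
      (a.resLE V' W hWV') := by
    haveI : Flat a := Groth.Agent.Lib.ActOpen18.act_flat aY
    haveI : UniversallyOpen a := Groth.Agent.Lib.ActOpen18.act_univOpen aY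
    refine ⟨⟨inferInstance, ⟨fun y => ?_⟩⟩, IsZariskiLocalAtSource.resLE (P := @UniversallyOpen) _
      ‹UniversallyOpen a›⟩
    obtain ⟨w, hw, hwy⟩ := y.2
    refine ⟨⟨w, hw⟩, Subtype.ext ?_⟩
    rw [Scheme.Hom.coe_resLE_apply]
    exact hwy
  have := MorphismProperty.of_isPullback_of_descendsAlong
    (P := P) (Q := @Flat ⊓ @Surjective ⊓ @UniversallyOpen) R2 hQ hP1
  rwa [Scheme.Hom.resLE_eq_morphismRestrict] at this

end Groth.Agent.S18826
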