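import Groth.Statements.S9501
import Mathlib.AlgebraicGeometry.Stalk
import Mathlib.AlgebraicGeometry.Properties

set_option autoImplicit false
universe u
open SchMor

namespace Groth.Agent.S9501

section Aux

open AlgebraicGeometry CategoryTheory IsLocalRing Limits

/-- Lemma A''. -/
lemma key_zero {R : CommRingCat.{u}} [IsLocalRing R] {Z X : Scheme.{u}}
    (t : Spec R ⟶ Z) (i : Z ⟶ X) (t₁ : Spec R ⟶ X) (ht : t ≫ i = t₁)
    (z : Z) (hz : t (closedPoint R) = z) (U : X.Opens) (α : Γ(X, U)) (hzU : i z ∈ U)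
    (h0 : Z.presheaf.germ (i ⁻¹ᵁ U) z hzU (i.app U α) = 0) (h : t₁ (closedPoint R) ∈ U) :
    (X.presheaf.germ U (t₁ (closedPoint R)) h ≫ Scheme.stalkClosedPointTo t₁) α = 0 := by
  subst ht
  rw [Scheme.germ_stalkClosedPointTo]
  suffices hsuff : (t ≫ i).app U α = 0 by
    rw [CommRingCat.comp_apply, hsuff, map_zero]
  change t.app (i ⁻¹ᵁ U) (i.app U α) = 0
  set β := i.app U α with hβ
  have hzU' : z ∈ i ⁻¹ᵁ U := hzU
  obtain ⟨W, hzW, iU, iV, hW⟩ := Z.presheaf.germ_eq z hzU' hzU' β 0 (by rw [h0, map_zero])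
  rw [map_zero] at hW
  have htW : t (closedPoint R) ∈ W := hz ▸ hzW
  have e1 : t ⁻¹ᵁ W = ⊤ := Scheme.preimage_eq_top_of_closedPoint_mem t htW
  have e2 : t ⁻¹ᵁ (i ⁻¹ᵁ U) = ⊤ := Scheme.preimage_eq_top_of_closedPoint_mem t (hz ▸ hzU)
  have hnat := t.naturality iU.op
  have h3 : (Spec R).presheaf.map ((TopologicalSpace.Opens.map t.base).map iU).op
      (t.app (i ⁻¹ᵁ U) β) = 0 := by
    have := congrArg (fun φ => φ β) (congrArg CommRingCat.Hom.hom hnat)
    simp only [CommRingCat.hom_comp, RingHom.comp_apply] at this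
    refine this.symm.trans ?_
    change t.app W (Z.presheaf.map iU.op β) = 0
    rw [hW, map_zero]
  have hinj : Function.Injective ((Spec R).presheaf.map
      ((TopologicalSpace.Opens.map t.base).map iU).op) := by
    have : IsIso ((TopologicalSpace.Opens.map t.base).map iU) := by
      refine ⟨⟨homOfLE ?_, Subsingleton.elim _ _, Subsingleton.elim _ _⟩⟩
      change t ⁻¹ᵁ (i ⁻¹ᵁ U) ≤ t ⁻¹ᵁ W
      rw [e1, e2]
    exact (ConcreteCategory.bijective_of_isIso _).1
  exact hinj (by rw [h3, map_zero])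

lemma fiber_apply {X S : Scheme.{u}} (f : X ⟶ S) (s : S) (y : ↥(f.fiber s)) :
    f ((f.fiberι s) y) = s := by
  have : (f.fiberι s) y ∈ Set.range (f.fiberι s) := ⟨y, rfl⟩
  rw [f.range_fiberι s] at this
  exact this

/-- the "⊇" direction: `m_s O_{X,x}` is killed -/
lemma map_le_ker {X S : Scheme.{u}} (f : X ⟶ S) (s : S) (y : ↥(f.fiber s)) :
    Ideal.map (f.stalkMap ((f.fiberι s).base y)).hom
      (IsLocalRing.maximalIdeal (S.presheaf.stalk (f.base ((f.fiberι s).base y)))) ≤
    RingHom.ker ((f.fiberι s).stalkMap y).hom := by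
  rw [Ideal.map_le_iff_le_comap]
  intro a ha
  rw [Ideal.mem_comap, RingHom.mem_ker]
  have hx : f ((f.fiberι s) y) = s := fiber_apply f s y
  obtain ⟨V, hV, α, hα⟩ := S.presheaf.exists_germ_eq a
  -- `α` vanishes at `f x = s`
  have hnot : f ((f.fiberι s) y) ∉ S.basicOpen α := by
    intro hmem
    rw [Scheme.mem_basicOpen _ _ _ hV, hα] at hmem
    exact ha hmem
  -- its pullback to `Spec κ(s)` is zero
  have h1 : (S.fromSpecResidueField s).app V α = 0 := by
    rw [← basicOpen_eq_bot_iff, ← Scheme.preimage_basicOpen]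
    ext z
    simp only [TopologicalSpace.Opens.coe_bot, Set.mem_empty_iff_false, iff_false]
    intro hz
    apply hnot
    rw [hx]
    have : (S.fromSpecResidueField s) z = s := Scheme.fromSpecResidueField_apply _ _
    rw [← this]
    exact hz
  have h2 : (f.fiberι s ≫ f).app V α = 0 := by
    rw [Scheme.Hom.congr_app (f.fiber_fac s) V]
    change ((f.fiber s).presheaf.map _)
      ((f.fiberToSpecResidueField s).app _ ((S.fromSpecResidueField s).app V α)) = 0
    rw [h1, map_zero, map_zero]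
  rw [← hα]
  change ((f.fiberι s).stalkMap y) ((f.stalkMap ((f.fiberι s) y)) (S.presheaf.germ V _ hV α)) = 0
  have hV' : (f.fiberι s) y ∈ f ⁻¹ᵁ V := hV
  have e1 := Scheme.Hom.germ_stalkMap_apply f V ((f.fiberι s) y) hV α
  have e2 := Scheme.Hom.germ_stalkMap_apply (f.fiberι s) (f ⁻¹ᵁ V) y hV' (f.app V α)
  refine (congrArg _ e1).trans (e2.trans ?_)
  change (f.fiber s).presheaf.germ _ y _ ((f.fiberι s ≫ f).app V α) = 0
  rw [h2, map_zero]

/-- the "⊆" direction -/
lemma ker_le_map {X S : Scheme.{u}} (f : X ⟶ S) (s : S) (y : ↥(f.fiber s)) :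
    RingHom.ker ((f.fiberι s).stalkMap y).hom ≤
    Ideal.map (f.stalkMap ((f.fiberι s).base y)).hom
      (IsLocalRing.maximalIdeal (S.presheaf.stalk (f.base ((f.fiberι s).base y)))) := by
  have hx : f ((f.fiberι s) y) = s := fiber_apply f s y
  set I := Ideal.map (f.stalkMap ((f.fiberι s).base y)).hom
      (IsLocalRing.maximalIdeal (S.presheaf.stalk (f.base ((f.fiberι s).base y)))) with hIdef
  have hI : I ≤ maximalIdeal (X.presheaf.stalk ((f.fiberι s) y)) :=
    IsLocalRing.map_maximalIdeal_le (f.stalkMap ((f.fiberι s).base y)).hom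
  have hItop : I ≠ ⊤ := fun h => (maximalIdeal.isMaximal _).ne_top (top_le_iff.mp (h ▸ hI))
  have : Nontrivial (↑(X.presheaf.stalk ((f.fiberι s) y)) ⧸ I) :=
    Ideal.Quotient.nontrivial_iff.mpr hItop
  have : IsLocalRing (↑(X.presheaf.stalk ((f.fiberι s) y)) ⧸ I) :=
    IsLocalRing.of_surjective' (Ideal.Quotient.mk I) Ideal.Quotient.mk_surjective
  have hπloc : IsLocalHom (Ideal.Quotient.mk I) :=
    IsLocalHom.of_surjective (Ideal.Quotient.mk I) Ideal.Quotient.mk_surjective
  let Q : CommRingCat.{u} := CommRingCat.of (↑(X.presheaf.stalk ((f.fiberι s) y)) ⧸ I)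
  have : IsLocalRing Q := ‹_›
  let π : X.presheaf.stalk ((f.fiberι s) y) ⟶ Q := CommRingCat.ofHom (Ideal.Quotient.mk I)
  have : IsLocalHom π.hom := hπloc
  -- the map from the residue field
  have hkill : ∀ a ∈ maximalIdeal (S.presheaf.stalk (f ((f.fiberι s) y))),
      ((Ideal.Quotient.mk I).comp (f.stalkMap ((f.fiberι s) y)).hom) a = 0 := by
    intro a ha
    rw [RingHom.comp_apply, Ideal.Quotient.eq_zero_iff_mem]
    exact Ideal.mem_map_of_mem _ ha
  let ρ : S.residueField (f ((f.fiberι s) y)) ⟶ Q :=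
    CommRingCat.ofHom (Ideal.Quotient.lift _ _ hkill)
  have hρ : S.residue (f ((f.fiberι s) y)) ≫ ρ = f.stalkMap ((f.fiberι s) y) ≫ π := by
    ext a
    rfl
  let t₁ : Spec Q ⟶ X := Spec.map π ≫ X.fromSpecStalk ((f.fiberι s) y)
  let t₂ : Spec Q ⟶ Spec (S.residueField s) :=
    Spec.map ρ ≫ Spec.map (S.residueFieldCongr hx.symm).hom
  have cond : t₁ ≫ f = t₂ ≫ S.fromSpecResidueField s := by
    simp only [t₁, t₂, Category.assoc, Scheme.residueFieldCongr_fromSpecResidueField]
    rw [← Scheme.SpecMap_stalkMap_fromSpecStalk, Scheme.fromSpecResidueField,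
      ← Spec.map_comp_assoc, ← Spec.map_comp_assoc, hρ]
  let t : Spec Q ⟶ f.fiber s := pullback.lift t₁ t₂ cond
  have ht : t ≫ f.fiberι s = t₁ := pullback.lift_fst _ _ _
  have ht₁c : t₁ (closedPoint Q) = (f.fiberι s) y := by
    change (X.fromSpecStalk ((f.fiberι s) y)) ((Spec.map π) (closedPoint Q)) = _
    rw [Spec_closedPoint, Scheme.fromSpecStalk_closedPoint]
  have hz : t (closedPoint Q) = y := by
    apply (f.fiberι s).isEmbedding.injective
    change (t ≫ f.fiberι s) (closedPoint Q) = _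
    rw [ht, ht₁c]
  intro a ha
  rw [RingHom.mem_ker] at ha
  obtain ⟨U, hU, α, hα⟩ := X.presheaf.exists_germ_eq a
  have hU' : y ∈ (f.fiberι s) ⁻¹ᵁ U := hU
  have h0 : (f.fiber s).presheaf.germ ((f.fiberι s) ⁻¹ᵁ U) y hU ((f.fiberι s).app U α) = 0 := by
    rw [← Scheme.Hom.germ_stalkMap_apply, hα]
    exact ha
  have hmem : t₁ (closedPoint Q) ∈ U := by rw [ht₁c]; exact hU
  have h1 := key_zero t (f.fiberι s) t₁ ht y hz U α hU h0 hmem
  have h2 := Scheme.germ_stalkClosedPointTo_Spec_fromSpecStalk π U hmem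
  rw [h2] at h1
  rw [← hα, ← Ideal.Quotient.eq_zero_iff_mem]
  exact h1

end Aux


open AlgebraicGeometry in
open CategoryTheory in
/-- Let f : X → S be a morphism of schemes, s a point of S and y a point of the fibre X_s = X ×_S Spec
κ(s), mapping to the point x of X (so that f(x) = s). Then the homomorphism of local rings O_{X,x} →
O_{X_s,y} induced by the projection X_s → X is surjective, with kernel the ideal generated by the
image of the maximal ideal of O_{S,f(x)}; in other words O_{X_s,y} is identified with O_{X,x}/m_s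
O_{X,x} = O_{X,x} ⊗_{O_{S,s}} κ(s). -/
theorem result
    {X S : Scheme.{u}} (f : X ⟶ S) (s : S) (y : ↥(f.fiber s)) :
    Function.Surjective ((f.fiberι s).stalkMap y).hom ∧
      RingHom.ker ((f.fiberι s).stalkMap y).hom =
        Ideal.map (f.stalkMap ((f.fiberι s).base y)).hom
          (IsLocalRing.maximalIdeal (S.presheaf.stalk (f.base ((f.fiberι s).base y)))) := by
  refine ⟨(f.fiberι s).stalkMap_surjective y, le_antisymm (ker_le_map f s y) (map_le_ker f s y)⟩

end Groth.Agent.S9501
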