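import Groth.Statements.S9767
import Groth.Agent.Lib.FibreStalkCM33
import Groth.Agent.Lib.CMComp33

set_option autoImplicit false
universe u
open FlatMor

namespace Groth.Agent.S9767

open AlgebraicGeometry CategoryTheory Limits in
/-- For f : X ⟶ Y, g : Y ⟶ Z and a point x of X such that the fibre of f through x and the fibre of g
through f x are locally Noetherian, suppose the stalk map of f at x is flat and f ≫ g is
Cohen–Macaulay at x; then Cohen–Macaulayness passes to f at x and to g at the image point f x. The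
published statement assumes all fibres of f, g and g ∘ f locally Noetherian; this row assumes only
the fibres of f and g through x and f x. -/
theorem result {X Y Z : Scheme.{u}} (f : X ⟶ Y) (g : Y ⟶ Z) (x : X)
    (hNf : IsLocallyNoetherian (f.fiber (f x))) (hNg : IsLocallyNoetherian (g.fiber (g (f x))))
    (h : MoreMor.IsCMAt (f ≫ g) x) (hfl : (f.stalkMap x).hom.Flat) : MoreMor.IsCMAt f x ∧ MoreMor.IsCMAt g (f x) := by
  rw [Groth.Agent.Lib.FibreStalkCM33.isCMAt_iff] at h
  rw [Groth.Agent.Lib.FibreStalkCM33.isCMAt_iff, Groth.Agent.Lib.FibreStalkCM33.isCMAt_iff]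
  have hJ : Ideal.map ((f ≫ g).stalkMap x).hom
      (IsLocalRing.maximalIdeal (Z.presheaf.stalk ((f ≫ g) x))) =
      Ideal.map (f.stalkMap x).hom (Ideal.map (g.stalkMap (f x)).hom
        (IsLocalRing.maximalIdeal (Z.presheaf.stalk (g (f x))))) := by
    rw [Ideal.map_map, ← CommRingCat.hom_comp, ← Scheme.Hom.stalkMap_comp]
    rfl
  have e : (f ≫ g).stalkMap x = g.stalkMap (f x) ≫ f.stalkMap x :=
    Scheme.Hom.stalkMap_comp f g x
  have hcomp : ((f.stalkMap x).hom.comp (g.stalkMap (f x)).hom).Flat := by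
    have h1 := h.1
    rw [e] at h1
    exact h1
  have hgflat : (g.stalkMap (f x)).hom.Flat :=
    Groth.Agent.Lib.CMComp33.flat_of_comp_flat _ _ hfl hcomp
  have hNB : IsNoetherianRing (Y.presheaf.stalk (f x) ⧸ Ideal.map (g.stalkMap (f x)).hom
      (IsLocalRing.maximalIdeal (Z.presheaf.stalk (g (f x))))) :=
    isNoetherianRing_of_ringEquiv _
      (Groth.Agent.Lib.FibreStalk33.fibreStalkEquiv g (f x)).symm
  have hCM := h.2
  rw [hJ] at hCM
  have hNC : IsNoetherianRing (X.presheaf.stalk x ⧸ Ideal.map (f.stalkMap x).hom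
      (Ideal.map (g.stalkMap (f x)).hom
        (IsLocalRing.maximalIdeal (Z.presheaf.stalk (g (f x)))))) := hCM.1
  have key := (Groth.Agent.Lib.CMComp33.isCohenMacaulayLocalRing_comp_iff
      (g.stalkMap (f x)).hom (f.stalkMap x).hom hfl).mp hCM
  exact ⟨⟨hfl, key.2⟩, ⟨hgflat, key.1⟩⟩

end Groth.Agent.S9767
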