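import Groth.Statements.S9773
import Groth.Agent.S15821

set_option autoImplicit false
universe u
open FlatMor

namespace Groth.Agent.S9773

open AlgebraicGeometry CategoryTheory Limits in
/-- A regular immersion of schemes, and likewise a Koszul-regular immersion, is a local complete
intersection morphism (Koszul at every point). -/
theorem result {Z X : Scheme.{u}} (i : Z ⟶ X) (k : RegImm.Kind)
    (hk : k = RegImm.Kind.regular ∨ k = RegImm.Kind.koszul) (hi : RegImm.IsRegularImmersion k i) (z : Z) :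
    Synt.IsKoszulAt i z := by
  -- Step A: reduce to the Koszul kind
  have hi' : RegImm.IsRegularImmersion RegImm.Kind.koszul i := by
    refine ⟨hi.1, fun z' => ?_⟩
    obtain ⟨U, hU, hcl, rs, hrs, hker⟩ := hi.2 z'
    refine ⟨U, hU, hcl, rs, ?_, hker⟩
    rcases hk with rfl | rfl
    · exact (Groth.Agent.S15821.result _ rs
        (RingTheory.Sequence.IsRegular.toIsWeaklyRegular hrs)).1
    · exact hrs
  have := hi.1
  have hiso : IsIso (⊤ : Z.Opens).ι := ⟨Z.topIso.inv, Z.topIso.hom_inv_id, Z.topIso.inv_hom_id⟩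
  refine ⟨⊤, X, (⊤ : Z.Opens).ι ≫ i, 𝟙 X, trivial, ?_, ?_, inferInstance, Category.comp_id _⟩
  · infer_instance
  · refine ⟨inferInstance, fun z' => ?_⟩
    obtain ⟨U, hU, hcl, rs, hrs, hker⟩ := hi'.2 ((⊤ : Z.Opens).ι z')
    refine ⟨U, ?_, ?_, rs, hrs, ?_⟩
    · simpa using hU
    · rw [morphismRestrict_comp]
      have h0 : IsIso ((⊤ : Z.Opens).ι ∣_ (i ⁻¹ᵁ U.1)) := inferInstance
      have h1 : IsClosedImmersion ((⊤ : Z.Opens).ι ∣_ (i ⁻¹ᵁ U.1)) := inferInstance
      exact @IsClosedImmersion.comp _ _ _ _ _ h1 hcl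
    · rw [← hker]
      ext x
      rw [RingHom.mem_ker, RingHom.mem_ker]
      have h1 : (((⊤ : Z.Opens).ι ≫ i).app U).hom x =
          ((⊤ : Z.Opens).ι.app (i ⁻¹ᵁ U)).hom ((i.app U).hom x) := by
        rw [Scheme.Hom.comp_app]; rfl
      rw [h1]
      have hinj : Function.Injective ((⊤ : Z.Opens).ι.app (i ⁻¹ᵁ U)).hom :=
        (ConcreteCategory.bijective_of_isIso ((⊤ : Z.Opens).ι.app (i ⁻¹ᵁ U))).1
      constructor
      · intro h
        exact hinj (h.trans (map_zero _).symm)
      · intro h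
        exact (congrArg _ h).trans (map_zero _)

end Groth.Agent.S9773

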