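import Groth.Statements.S2103
import Groth.Agent.Lib.QuasiReg97
import Groth.Agent.Lib.KoszulPoly67
-- import your own Groth.Agent.* helpers here

set_option autoImplicit false
universe u
open CAlg

namespace Groth.Agent.S2103

open MvPolynomial Groth.Agent.Lib.QuasiReg97 Groth.Agent.Lib.KoszulPoly67

variable {R : Type u} [CommRing R] {c : ℕ}

/-- alternating-matrix form of `H_1`-regularity. -/
theorem exists_alt (f : Fin c → R) (hf : CAlgX.IsH1Regular f) (y : Fin c → R)
    (hy : ∑ i, y i * f i = 0) :
    ∃ B : Fin c → Fin c → R, ∀ i, y i = ∑ j, (B i j - B j i) * f j := by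
  classical
  have h := hf y hy
  clear hy
  induction h using Submodule.span_induction with
  | mem v hv =>
    obtain ⟨i, j, rfl⟩ := hv
    refine ⟨fun a b => if a = i ∧ b = j then 1 else 0, fun k => ?_⟩
    simp only [sub_mul, Finset.sum_sub_distrib, ite_mul, one_mul, zero_mul, Pi.sub_apply,
      Pi.single_apply]
    congr 1
    · by_cases hk : k = i
      · subst hk; simp
      · simp [hk]
    · by_cases hk : k = j
      · subst hk; simp
      · simp [hk]
  | zero => exact ⟨0, by simp⟩
  | add x z _ _ hx hz =>
    obtain ⟨B1, h1⟩ := hx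
    obtain ⟨B2, h2⟩ := hz
    refine ⟨B1 + B2, fun i => ?_⟩
    simp only [Pi.add_apply, h1 i, h2 i, ← Finset.sum_add_distrib]
    refine Finset.sum_congr rfl fun j _ => ?_
    ring
  | smul a x _ hx =>
    obtain ⟨B1, h1⟩ := hx
    refine ⟨a • B1, fun i => ?_⟩
    simp only [Pi.smul_apply, smul_eq_mul, h1 i, Finset.mul_sum]
    refine Finset.sum_congr rfl fun j _ => ?_
    ring

theorem sum_X_mul_alt (B : Fin c → Fin c → MvPolynomial (Fin c) R) :
    ∑ i, X i * ∑ j, (B i j - B j i) * X j = 0 := by
  simp only [Finset.mul_sum, sub_mul, mul_sub, Finset.sum_sub_distrib]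
  rw [sub_eq_zero]
  nth_rewrite 2 [Finset.sum_comm]
  refine Finset.sum_congr rfl fun i _ => Finset.sum_congr rfl fun j _ => ?_
  ring

theorem isHomogeneous_alt {B : Fin c → Fin c → MvPolynomial (Fin c) R} {k : ℕ}
    (hB : ∀ i j, (B i j).IsHomogeneous k) (i : Fin c) :
    (∑ j, (B i j - B j i) * X j).IsHomogeneous (k + 1) :=
  IsHomogeneous.sum _ _ _ fun j _ => ((hB i j).sub (hB j i)).mul (isHomogeneous_X _ j)

theorem q0 (f : Fin c → R) (hf : CAlgX.IsH1Regular f) :
    ∀ n, ∀ P : MvPolynomial (Fin c) R, P.IsHomogeneous n → eval f P = 0 →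
      P ∈ Ideal.map (C : R →+* MvPolynomial (Fin c) R) (Ideal.span (Set.range f)) := by
  classical
  intro n
  induction n using Nat.strong_induction_on with
  | _ n ih =>
  have IH : ∀ m, m < n → QRn f m := fun m hm => qrn_of_zero f m (ih m hm)
  intro P hP hev
  set J := Ideal.span (Set.range f) with hJ
  rcases n with _ | n
  · have h0 : P = C (coeff 0 P) :=
      totalDegree_eq_zero_iff_eq_C.1 ((totalDegree_zero_iff_isHomogeneous _).2 hP)
    rw [h0, eval_C] at hev
    rw [h0, hev, map_zero]
    exact zero_mem _
  · have hPa : ∀ a, (D a P).IsHomogeneous n := fun a => D_isHomogeneous a hP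
    have hdec : P = ∑ a, X a * D a P := by
      have h := decomp P
      rwa [hP.coeff_eq_zero (d := 0) (by simp), map_zero, add_zero] at h
    set y : Fin c → R := fun a => eval f (D a P) with hy_def
    have hy : ∑ i, y i * f i = 0 := by
      rw [hdec, map_sum] at hev
      rw [← hev]
      refine Finset.sum_congr rfl fun i _ => ?_
      rw [map_mul, eval_X, mul_comm]
    obtain ⟨B0, hB0⟩ := exists_alt f hf y hy
    rcases n with _ | n
    · -- degree one
      rw [hdec]
      refine Ideal.sum_mem _ fun a _ => Ideal.mul_mem_left _ _ ?_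
      have h0 : D a P = C (coeff 0 (D a P)) :=
        totalDegree_eq_zero_iff_eq_C.1 ((totalDegree_zero_iff_isHomogeneous _).2 (hPa a))
      have h1 : coeff 0 (D a P) = y a := by
        rw [hy_def]; simp only; nth_rewrite 2 [h0]; rw [eval_C]
      rw [h0, h1]
      refine Ideal.mem_map_of_mem _ ?_
      rw [hB0 a]
      exact Ideal.sum_mem _ fun j _ => Ideal.mul_mem_left _ _ (Ideal.subset_span ⟨j, rfl⟩)
    · have hyJ : ∀ i, y i ∈ J ^ (n + 1) := fun i =>
        (Ideal.mem_span_pow_iff_exists_isHomogeneous f _).2 ⟨D i P, hPa i, rfl⟩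
      -- the improvement loop
      have loop : ∀ k, k ≤ n → ∃ B : Fin c → Fin c → MvPolynomial (Fin c) R,
          (∀ i j, (B i j).IsHomogeneous k) ∧
            ∀ i, eval f (∑ j, (B i j - B j i) * X j) = y i := by
        intro k
        induction k with
        | zero =>
          intro _
          refine ⟨fun i j => C (B0 i j), fun i j => isHomogeneous_C _ _, fun i => ?_⟩
          rw [hB0 i, map_sum]
          refine Finset.sum_congr rfl fun j _ => ?_
          simp
        | succ k ihk =>
          intro hk
          obtain ⟨B, hBh, hBe⟩ := ihk (by omega)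
          set W : Fin c → MvPolynomial (Fin c) R := fun i => ∑ j, (B i j - B j i) * X j with hW
          have hWh : ∀ i, (W i).IsHomogeneous (k + 1) := isHomogeneous_alt hBh
          have hWJ : ∀ i, W i ∈ Ideal.map (C : R →+* MvPolynomial (Fin c) R) J := by
            intro i
            refine IH (k + 1) (by omega) (W i) (hWh i) ?_
            rw [hBe i]
            exact Ideal.pow_le_pow_right (by omega) (hyJ i)
          have hW0 : ∑ i, X i * W i = 0 := sum_X_mul_alt B
          set B' : Fin c → Fin c → MvPolynomial (Fin c) R :=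
            fun i j => if j < i then D j (W i) else 0 with hB'
          have hB'h : ∀ i j, (B' i j).IsHomogeneous k := by
            intro i j
            simp only [hB']
            split_ifs
            · exact D_isHomogeneous j (hWh i)
            · exact isHomogeneous_zero _ _ _
          have hB'J : ∀ i j, B' i j ∈ Ideal.map (C : R →+* MvPolynomial (Fin c) R) J := by
            intro i j
            simp only [hB']
            split_ifs
            · exact D_mem_map_C j (hWJ i)
            · exact zero_mem _
          have hWB' : ∀ i, W i = ∑ j, (B' i j - B' j i) * X j := fun i => k1 W hW0 i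
          have hg : ∀ i j, ∃ Q : MvPolynomial (Fin c) R, Q.IsHomogeneous (k + 1) ∧
              eval f Q = eval f (B' i j) := by
            intro i j
            have h1 := eval_mem_mul_pow f J (hB'h i j) (hB'J i j)
            rw [← pow_succ'] at h1
            exact (Ideal.mem_span_pow_iff_exists_isHomogeneous f _).1 h1
          choose B'' hB''h hB''e using hg
          refine ⟨B'', hB''h, fun i => ?_⟩
          rw [← hBe i]
          change _ = eval f (W i)
          rw [hWB' i]
          simp only [map_sum, map_mul, map_sub, hB''e]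
      obtain ⟨B, hBh, hBe⟩ := loop n le_rfl
      set W : Fin c → MvPolynomial (Fin c) R := fun i => ∑ j, (B i j - B j i) * X j with hW
      have hWh : ∀ i, (W i).IsHomogeneous (n + 1) := isHomogeneous_alt hBh
      have hW0 : ∑ i, X i * W i = 0 := sum_X_mul_alt B
      have hdiff : ∀ a, D a P - W a ∈ Ideal.map (C : R →+* MvPolynomial (Fin c) R) J := by
        intro a
        refine ih (n + 1) (by omega) _ ((hPa a).sub (hWh a)) ?_
        rw [map_sub, hBe a]
        simp [hy_def]
      have : P = ∑ a, X a * (D a P - W a) := by
        simp only [mul_sub, Finset.sum_sub_distrib, hW0, sub_zero]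
        exact hdec
      rw [this]
      exact Ideal.sum_mem _ fun a _ => Ideal.mul_mem_left _ _ (hdiff a)


/-- Case `M = R`: an `H_1`-regular sequence in a ring (first Koszul homology zero) is quasi-regular (the
associated graded of the ideal it generates is a polynomial ring over the quotient). -/
theorem result {R : Type u} [CommRing R] {c : ℕ} (f : Fin c → R) (hf : CAlgX.IsH1Regular f) :
    CAlgX.IsQuasiRegular f := by
  intro n P hP hev d
  exact (MvPolynomial.mem_map_C_iff).1 (qrn_of_zero f n (q0 f hf n) P hP hev) d

end Groth.Agent.S2103
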