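import Groth.Statements.S2104
import Groth.Agent.Lib.QuasiRegAppend67
-- import your own Groth.Agent.* helpers here

set_option autoImplicit false
universe u
open CAlg

namespace Groth.Agent.S2104

open MvPolynomial Groth.Agent.Lib.QuasiReg97 Groth.Agent.Lib.QuasiRegAppend67

variable {A : Type u} [CommRing A] {n m : ℕ}

/-- the part of a polynomial supported on the monomials satisfying `φ`. -/
noncomputable def restr (φ : (Fin (n + m) →₀ ℕ) → Prop) [DecidablePred φ]
    (P : MvPolynomial (Fin (n + m)) A) : MvPolynomial (Fin (n + m)) A :=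
  ∑ μ ∈ P.support, if φ μ then monomial μ (coeff μ P) else 0

theorem coeff_restr (φ : (Fin (n + m) →₀ ℕ) → Prop) [DecidablePred φ]
    (P : MvPolynomial (Fin (n + m)) A) (ν : Fin (n + m) →₀ ℕ) :
    coeff ν (restr φ P) = if φ ν then coeff ν P else 0 := by
  classical
  rw [restr, coeff_sum]
  by_cases hν : ν ∈ P.support
  · rw [Finset.sum_eq_single ν]
    · split_ifs
      · rw [coeff_monomial, if_pos rfl]
      · rw [coeff_zero]
    · intro μ _ hμ
      split_ifs
      · rw [coeff_monomial, if_neg hμ]
      · rw [coeff_zero]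
    · intro h; exact absurd hν h
  · rw [Finset.sum_eq_zero]
    · rw [notMem_support_iff.1 hν, ite_self]
    · intro μ hμ
      have : μ ≠ ν := fun h => hν (h ▸ hμ)
      split_ifs
      · rw [coeff_monomial, if_neg this]
      · rw [coeff_zero]

theorem restr_isHomogeneous (φ : (Fin (n + m) →₀ ℕ) → Prop) [DecidablePred φ]
    {P : MvPolynomial (Fin (n + m)) A} {d : ℕ} (hP : P.IsHomogeneous d) :
    (restr φ P).IsHomogeneous d := by
  intro ν hν
  rw [coeff_restr] at hν
  split_ifs at hν
  · exact hP hν
  · exact absurd rfl hν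

theorem main (f : Fin n → A) (g : Fin m → A) (hf : ∀ k, QRn f k)
    (hg : CAlgX.IsH1Regular (fun j => Ideal.Quotient.mk (Ideal.span (Set.range f)) (g j)))
    (d : ℕ) (P : MvPolynomial (Fin (n + m)) A) (hP : P.IsHomogeneous d)
    (hev : eval (Fin.append f g) P ∈ Ideal.span (Set.range (Fin.append f g)) ^ (d + 1)) :
    ∀ k, ∀ μ : Fin (n + m) →₀ ℕ, (lft μ).degree = k →
      coeff μ P ∈ Ideal.span (Set.range (Fin.append f g)) := by
  classical
  set F := Fin.append f g with hF
  set J := Ideal.span (Set.range f) with hJ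
  set G := Ideal.span (Set.range g) with hG
  have hJ' : Ideal.span (Set.range F) = J ⊔ G := span_range_append f g
  intro k
  induction k using Nat.strong_induction_on with
  | _ k ih =>
  intro μ₀ hμ₀
  by_cases hc : coeff μ₀ P = 0
  · rw [hc]; exact zero_mem _
  have hd : μ₀.degree = d := by
    rw [Finsupp.degree_eq_weight_one]; exact hP hc
  have hkd : k ≤ d := by
    rw [← hd, degree_eq, hμ₀]; omega
  set Plt := restr (fun μ => (lft μ).degree < k) P with hPlt
  set Pk := restr (fun μ => (lft μ).degree = k) P with hPk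
  set Pgt := restr (fun μ => k < (lft μ).degree) P with hPgt
  have hsplit : P = Plt + Pk + Pgt := by
    ext ν
    simp only [coeff_add, hPlt, hPk, hPgt, coeff_restr]
    rcases lt_trichotomy (lft ν).degree k with h | h | h
    · rw [if_pos h, if_neg h.ne, if_neg (not_lt.2 h.le), add_zero, add_zero]
    · rw [if_neg (h ▸ lt_irrefl _), if_pos h, if_neg (h ▸ lt_irrefl _), zero_add, add_zero]
    · rw [if_neg (not_lt.2 h.le), if_neg h.ne', if_pos h, zero_add, zero_add]
  -- the low part has coefficients in J'
  have hlt : eval F Plt ∈ Ideal.span (Set.range F) ^ (d + 1) := by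
    have h1 : Plt ∈ Ideal.map (C : A →+* MvPolynomial (Fin (n + m)) A)
        (Ideal.span (Set.range F)) := by
      rw [mem_map_C_iff]
      intro ν
      rw [hPlt, coeff_restr]
      split_ifs with h
      · exact ih _ h ν rfl
      · exact zero_mem _
    have := eval_mem_mul_pow F _ (restr_isHomogeneous _ hP) h1
    rwa [← pow_succ'] at this
  -- the high part has value in J^(k+1)
  have hgt : eval F Pgt ∈ J ^ (k + 1) := by
    rw [hPgt, restr, map_sum]
    refine Ideal.sum_mem _ fun μ _ => ?_
    split_ifs with h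
    · rw [← eval_θ, θ_monomial, map_monomial, eval_monomial]
      refine Ideal.mul_mem_right _ _ (Ideal.pow_le_pow_right (Nat.succ_le_of_lt h) ?_)
      exact (Ideal.mem_span_pow_iff_exists_isHomogeneous f _).2
        ⟨monomial (lft μ) (coeff μ P), isHomogeneous_monomial _ rfl, rfl⟩
    · rw [map_zero]; exact zero_mem _
  have hpow : Ideal.span (Set.range F) ^ (d + 1) ≤ G ^ (d - k + 1) ⊔ J ^ (k + 1) := by
    rw [hJ', sup_comm, show d + 1 = (d - k) + k + 1 by omega]
    exact sup_pow_succ_le G J (d - k) k
  have hk : eval F Pk ∈ G ^ (d - k + 1) ⊔ J ^ (k + 1) := by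
    have h0 : eval F P = eval F Plt + eval F Pk + eval F Pgt := by
      conv_lhs => rw [hsplit]
      simp only [map_add]
    have h1 : eval F Pk = eval F P - eval F Plt - eval F Pgt := by
      rw [h0]; ring
    rw [h1]
    refine Ideal.sub_mem _ (Ideal.sub_mem _ (hpow hev) (hpow hlt)) (le_sup_right (a := G ^ (d - k + 1)) hgt)
  -- the core step
  set Θ := θ Pk with hΘ
  have hcoeffR : ∀ α β, coeff α (coeff β Θ) = if α.degree = k then coeff (jn α β) P else 0 := by
    intro α β
    rw [hΘ, coeff_θ, hPk, coeff_restr, lft_jn]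
  have hRh : ∀ β, (coeff β Θ).IsHomogeneous k := by
    intro β α hα
    rw [hcoeffR] at hα
    split_ifs at hα with h
    · rw [Finsupp.degree_eq_weight_one] at h; exact h
    · exact absurd rfl hα
  set Q := map (eval f) Θ with hQ
  have hQh : Q.IsHomogeneous (d - k) := by
    intro β hβ
    rw [hQ, coeff_map] at hβ
    have hne : coeff β Θ ≠ 0 := fun h0 => hβ (by rw [h0, map_zero])
    obtain ⟨α, hα⟩ := ne_zero_iff.1 hne
    rw [hcoeffR] at hα
    split_ifs at hα with h
    · have h2 : (jn α β).degree = d := by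
        rw [Finsupp.degree_eq_weight_one]; exact hP hα
      rw [degree_eq, lft_jn, rgt_jn, h] at h2
      have h3 : β.degree = d - k := by omega
      rw [Finsupp.degree_eq_weight_one] at h3
      exact h3
    · exact absurd rfl hα
  have hQe : eval g Q = eval F Pk := eval_θ f g Pk
  have hqs : ∀ β, coeff β Q ∈ G ⊔ J ^ (k + 1) := fun β =>
    quot_step g (J ^ (k + 1)) (fun e => qrn_quot f g hf hg (k + 1) e) hQh (hQe ▸ hk) β
  have hRJ : ∀ β, coeff β Θ ∈ Ideal.map (C : A →+* MvPolynomial (Fin n) A) (J ⊔ G) := by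
    intro β
    refine fg_step f g hf (hr f g hf hg k) (hRh β) ?_
    have := hqs β
    rwa [hQ, coeff_map] at this
  have hfin := (mem_map_C_iff.1 (hRJ (rgt μ₀))) (lft μ₀)
  rw [hcoeffR, if_pos hμ₀, jn_lft_rgt] at hfin
  rw [hJ']
  exact hfin


/-- Appending to a quasi-regular sequence `f` a sequence `g` whose image modulo the ideal `(f)` is
`H_1`-regular yields a quasi-regular sequence. -/
theorem result {A : Type u} [CommRing A] {n m : ℕ} (f : Fin n → A)
    (g : Fin m → A) (hf : CAlgX.IsQuasiRegular f)
    (hg : CAlgX.IsH1Regular (fun j => Ideal.Quotient.mk (Ideal.span (Set.range f)) (g j))) :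
    CAlgX.IsQuasiRegular (Fin.append f g) := by
  intro d P hP hev μ
  exact main f g (fun k P hP hev => mem_map_C_iff.2 (hf k P hP hev)) hg d P hP hev _ μ rfl

end Groth.Agent.S2104
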