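import Groth.Statements.S2105
import Mathlib.LinearAlgebra.Pi
import Mathlib.Algebra.BigOperators.Fin
import Mathlib.RingTheory.Ideal.Span
import Mathlib.LinearAlgebra.Span.Basic

set_option autoImplicit false
universe u
open CAlg

namespace Groth.Agent.S2105

variable {A : Type u} [CommRing A]

/-- The submodule of trivial (Koszul) relations. -/
def triv {c : ℕ} (f : Fin c → A) : Submodule A (Fin c → A) :=
  Submodule.span A {v : Fin c → A | ∃ i j : Fin c, v = Pi.single i (f j) - Pi.single j (f i)}

theorem triv_rel {c : ℕ} (f : Fin c → A) {v : Fin c → A} (hv : v ∈ triv f) :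
    ∑ i, v i * f i = 0 := by
  induction hv using Submodule.span_induction with
  | mem v hv =>
    obtain ⟨i, j, rfl⟩ := hv
    simp only [Pi.sub_apply, Pi.single_apply, sub_mul, Finset.sum_sub_distrib, ite_mul, zero_mul,
      Finset.sum_ite_eq', Finset.mem_univ, if_true]
    ring
  | zero => simp
  | add x y _ _ hx hy => simp [add_mul, Finset.sum_add_distrib, hx, hy]
  | smul r x _ hx => simp [mul_assoc, ← Finset.mul_sum, hx]

/-- Extension by zero on the right block. -/
def extL (n m : ℕ) : (Fin n → A) →ₗ[A] (Fin (n + m) → A) :=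
  LinearMap.pi fun k =>
    (Fin.addCases (motive := fun _ => (Fin n → A) →ₗ[A] A)
      (fun i => LinearMap.proj i) (fun _ => 0) k)

/-- Extension by zero on the left block. -/
def extR (n m : ℕ) : (Fin m → A) →ₗ[A] (Fin (n + m) → A) :=
  LinearMap.pi fun k =>
    (Fin.addCases (motive := fun _ => (Fin m → A) →ₗ[A] A)
      (fun _ => 0) (fun j => LinearMap.proj j) k)

theorem natAdd_ne_castAdd {n m : ℕ} (i : Fin n) (j : Fin m) :
    Fin.natAdd n j ≠ Fin.castAdd m i := by
  intro h
  have := congrArg Fin.val h
  simp at this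
  omega

theorem castAdd_ne_natAdd {n m : ℕ} (i : Fin n) (j : Fin m) :
    Fin.castAdd m i ≠ Fin.natAdd n j := fun h => natAdd_ne_castAdd i j h.symm

@[simp] theorem extL_castAdd {n m : ℕ} (v : Fin n → A) (i : Fin n) :
    extL n m v (Fin.castAdd m i) = v i := by simp [extL]

@[simp] theorem extL_natAdd {n m : ℕ} (v : Fin n → A) (j : Fin m) :
    extL n m v (Fin.natAdd n j) = 0 := by simp [extL]

@[simp] theorem extR_castAdd {n m : ℕ} (v : Fin m → A) (i : Fin n) :
    extR n m v (Fin.castAdd m i) = 0 := by simp [extR]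

@[simp] theorem extR_natAdd {n m : ℕ} (v : Fin m → A) (j : Fin m) :
    extR n m v (Fin.natAdd n j) = v j := by simp [extR]

theorem extL_single {n m : ℕ} (i : Fin n) (x : A) :
    extL n m (Pi.single i x) = Pi.single (Fin.castAdd m i) x := by
  ext k
  induction k using Fin.addCases with
  | left i' => simp [Pi.single_apply]
  | right j => simp [natAdd_ne_castAdd]

theorem extR_single {n m : ℕ} (j : Fin m) (x : A) :
    extR n m (Pi.single j x) = Pi.single (Fin.natAdd n j) x := by
  ext k
  induction k using Fin.addCases with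
  | left i => simp [castAdd_ne_natAdd]
  | right j' => simp [Pi.single_apply]

theorem extL_triv {n m : ℕ} (f : Fin n → A) (g : Fin m → A) {v : Fin n → A} (hv : v ∈ triv f) :
    extL n m v ∈ triv (Fin.append f g) := by
  induction hv using Submodule.span_induction with
  | mem v hv =>
    obtain ⟨i, j, rfl⟩ := hv
    apply Submodule.subset_span
    refine ⟨Fin.castAdd m i, Fin.castAdd m j, ?_⟩
    simp [map_sub, extL_single]
  | zero => simp
  | add x y _ _ hx hy => rw [map_add]; exact add_mem hx hy
  | smul r x _ hx => rw [map_smul]; exact Submodule.smul_mem _ _ hx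

theorem extR_triv {n m : ℕ} (f : Fin n → A) (g : Fin m → A) {v : Fin m → A} (hv : v ∈ triv g) :
    extR n m v ∈ triv (Fin.append f g) := by
  induction hv using Submodule.span_induction with
  | mem v hv =>
    obtain ⟨i, j, rfl⟩ := hv
    apply Submodule.subset_span
    refine ⟨Fin.natAdd n i, Fin.natAdd n j, ?_⟩
    simp [map_sub, extR_single]
  | zero => simp
  | add x y _ _ hx hy => rw [map_add]; exact add_mem hx hy
  | smul r x _ hx => rw [map_smul]; exact Submodule.smul_mem _ _ hx

/-- Lifting trivial relations along the quotient map. -/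
theorem lift_triv {m : ℕ} (I : Ideal A) (g : Fin m → A) (v : Fin m → A ⧸ I)
    (hv : v ∈ triv (fun j => Ideal.Quotient.mk I (g j))) :
    ∃ t ∈ triv g, ∀ j, Ideal.Quotient.mk I (t j) = v j := by
  induction hv using Submodule.span_induction with
  | mem v hv =>
    obtain ⟨i, j, rfl⟩ := hv
    refine ⟨Pi.single i (g j) - Pi.single j (g i), Submodule.subset_span ⟨i, j, rfl⟩, fun k => ?_⟩
    simp only [Pi.sub_apply, Pi.single_apply, map_sub]
    split_ifs <;> simp
  | zero => exact ⟨0, Submodule.zero_mem _, fun j => by simp⟩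
  | add x y _ _ hx hy =>
    obtain ⟨t1, ht1, h1⟩ := hx
    obtain ⟨t2, ht2, h2⟩ := hy
    exact ⟨t1 + t2, Submodule.add_mem _ ht1 ht2, fun j => by simp [h1, h2]⟩
  | smul r x _ hx =>
    obtain ⟨r, rfl⟩ := Ideal.Quotient.mk_surjective r
    obtain ⟨t, ht, h⟩ := hx
    exact ⟨r • t, Submodule.smul_mem _ _ ht, fun j => by simp [h]⟩

/-- Appending to an `H_1`-regular sequence `f` a sequence `g` whose image modulo the ideal `(f)` is
`H_1`-regular yields an `H_1`-regular sequence. -/
theorem result {A : Type u} [CommRing A] {n m : ℕ} (f : Fin n → A)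
    (g : Fin m → A) (hf : CAlgX.IsH1Regular f)
    (hg : CAlgX.IsH1Regular (fun j => Ideal.Quotient.mk (Ideal.span (Set.range f)) (g j))) :
    CAlgX.IsH1Regular (Fin.append f g) := by
  intro a ha
  change a ∈ triv (Fin.append f g)
  rw [Fin.sum_univ_add] at ha
  simp only [Fin.append_left, Fin.append_right] at ha
  have hfI : ∑ i, a (Fin.castAdd m i) * f i ∈ Ideal.span (Set.range f) :=
    Ideal.sum_mem _ fun i _ => Ideal.mul_mem_left _ _ (Ideal.subset_span ⟨i, rfl⟩)
  have h1 : ∑ j, Ideal.Quotient.mk (Ideal.span (Set.range f)) (a (Fin.natAdd n j)) *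
      Ideal.Quotient.mk (Ideal.span (Set.range f)) (g j) = 0 := by
    simp only [← map_mul, ← map_sum]
    rw [Ideal.Quotient.eq_zero_iff_mem]
    have : ∑ j, a (Fin.natAdd n j) * g j = - ∑ i, a (Fin.castAdd m i) * f i := by
      linear_combination ha
    rw [this]
    exact neg_mem hfI
  have h2 := hg (fun j => Ideal.Quotient.mk (Ideal.span (Set.range f)) (a (Fin.natAdd n j))) h1
  obtain ⟨t, ht, htq⟩ := lift_triv _ g _ h2
  have h3 : ∀ j, a (Fin.natAdd n j) - t j ∈ Ideal.span (Set.range f) := fun j => by
    rw [← Ideal.Quotient.eq_zero_iff_mem, map_sub, htq, sub_self]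
  have h4 : ∀ j, ∃ d : Fin n → A, ∑ i, d i * f i = a (Fin.natAdd n j) - t j := fun j =>
    Ideal.mem_span_range_iff_exists_fun.mp (h3 j)
  choose d hd using h4
  let s : Fin (n + m) → A := ∑ j, ∑ i,
    d j i • (Pi.single (Fin.natAdd n j) (f i) - Pi.single (Fin.castAdd m i) (g j))
  have hs : s ∈ triv (Fin.append f g) := by
    refine Submodule.sum_mem _ fun j _ => Submodule.sum_mem _ fun i _ =>
      Submodule.smul_mem _ _ (Submodule.subset_span ⟨Fin.natAdd n j, Fin.castAdd m i, ?_⟩)
    simp
  have hstriv : extR n m t + s ∈ triv (Fin.append f g) := add_mem (extR_triv f g ht) hs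
  have ha'R : ∀ j, (a - (extR n m t + s)) (Fin.natAdd n j) = 0 := by
    intro j
    simp only [Pi.sub_apply, Pi.add_apply, extR_natAdd, s, Finset.sum_apply, Pi.smul_apply,
      Pi.single_apply, smul_eq_mul, Fin.natAdd_inj, natAdd_ne_castAdd, if_false, sub_zero,
      mul_ite, mul_zero]
    rw [Finset.sum_comm]
    simp only [Finset.sum_ite_eq, Finset.mem_univ, if_true]
    rw [hd j]
    ring
  have ha'rel : ∑ k, (a - (extR n m t + s)) k * Fin.append f g k = 0 := by
    have e1 : ∑ k, a k * Fin.append f g k = 0 := by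
      rw [Fin.sum_univ_add]
      simpa only [Fin.append_left, Fin.append_right] using ha
    have e2 := triv_rel _ hstriv
    simp only [Pi.sub_apply, sub_mul, Finset.sum_sub_distrib, e1, e2, sub_zero]
  rw [Fin.sum_univ_add] at ha'rel
  simp only [ha'R, zero_mul, Finset.sum_const_zero, add_zero, Fin.append_left] at ha'rel
  have h5 : (fun i => (a - (extR n m t + s)) (Fin.castAdd m i)) ∈ triv f := hf _ ha'rel
  have h6 : a - (extR n m t + s) = extL n m (fun i => (a - (extR n m t + s)) (Fin.castAdd m i)) := by
    ext k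
    induction k using Fin.addCases with
    | left i => rw [extL_castAdd]
    | right j => rw [extL_natAdd, ha'R]
  have h7 : a - (extR n m t + s) ∈ triv (Fin.append f g) := by
    rw [h6]; exact extL_triv f g h5
  have : a = (a - (extR n m t + s)) + (extR n m t + s) := by abel
  rw [this]
  exact add_mem h7 hstriv

end Groth.Agent.S2105
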