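import Groth.Statements.S1312
-- import your own Groth.Agent.* helpers here

set_option autoImplicit false
universe u
open FlatMor

namespace Groth.Agent.S1312

open AlgebraicGeometry CategoryTheory Limits in
/-- Let Y ⟶ Y' be a thickening, let X be the base change to Y of a scheme X' over Y', and assume both X
⟶ Y and X' ⟶ Y' are locally of finite type. Then X ⟶ Y is locally quasi-finite if and only if X' ⟶
Y' is. -/
theorem result {X X' Y Y' : Scheme.{u}} (iX : X ⟶ X') (iY : Y ⟶ Y') (f : X ⟶ Y) (f' : X' ⟶ Y')
    (hY : MoreMor.IsThickening iY) (hc : IsPullback iX f f' iY) [LocallyOfFiniteType f] [LocallyOfFiniteType f'] :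
    LocallyQuasiFinite f ↔ LocallyQuasiFinite f' := by
  have hiY : IsClosedImmersion iY := hY.1
  have hsY : Surjective iY := hY.2
  have hiX : IsClosedImmersion iX := MorphismProperty.of_isPullback hc.flip hiY
  have hsX : Surjective iX := MorphismProperty.of_isPullback hc.flip hsY
  constructor
  · intro hf
    rw [locallyQuasiFinite_iff_isDiscrete_preimage_singleton]
    intro y'
    have h1 : LocallyQuasiFinite (iX ≫ f') := by
      rw [hc.w]; infer_instance
    have h2 := (iX ≫ f').isDiscrete_preimage_singleton y'
    have h3 : f' ⁻¹' {y'} = iX '' ((iX ≫ f') ⁻¹' {y'}) := by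
      ext x'
      constructor
      · intro hx'
        obtain ⟨x, rfl⟩ := hsX.surj x'
        exact ⟨x, by simpa using hx', rfl⟩
      · rintro ⟨x, hx, rfl⟩
        simpa using hx
    rw [h3]
    exact h2.image iX.isClosedEmbedding.toIsInducing
  · intro hf'
    exact MorphismProperty.of_isPullback hc hf'

end Groth.Agent.S1312
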