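import Groth.Statements.S1314
import Groth.Agent.Lib.ThickeningLft
import Groth.Agent.Lib.ThickeningAlg

set_option autoImplicit false
universe u
open FlatMor

namespace Groth.Agent.S1314

open AlgebraicGeometry CategoryTheory Limits in
/-- Let Y ⟶ Y' be a thickening, let X be the base change to Y of a scheme X' over Y', and assume both X
⟶ Y and X' ⟶ Y' are locally of finite type. Then X ⟶ Y is formally unramified if and only if X' ⟶ Y'
is. (The source states this as the vanishing of the sheaf of relative differentials; formal
unramifiedness is the equivalent phrasing available here.) -/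
theorem result {X X' Y Y' : Scheme.{u}} (iX : X ⟶ X') (iY : Y ⟶ Y') (f : X ⟶ Y) (f' : X' ⟶ Y')
    (hY : MoreMor.IsThickening iY) (hc : IsPullback iX f f' iY) [LocallyOfFiniteType f] [LocallyOfFiniteType f'] :
    FormallyUnramified f ↔ FormallyUnramified f' := by
  constructor
  · intro hf
    refine Groth.Agent.Lib.ThickeningLft.of_ringHom @FormallyUnramified RingHom.FormallyUnramified
      ?_ iX iY f f' hY hc hf
    intro A B _ _ _ I hI hfin hQ
    rw [RingHom.formallyUnramified_algebraMap]
    let _ : Algebra (A ⧸ I) (TensorProduct A B (A ⧸ I)) := Algebra.TensorProduct.rightAlgebra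
    have hQ' : Algebra.FormallyUnramified (A ⧸ I) (TensorProduct A B (A ⧸ I)) := hQ
    have hpo : Algebra.IsPushout A (A ⧸ I) B (TensorProduct A B (A ⧸ I)) :=
      Algebra.IsPushout.symm inferInstance
    exact Groth.Agent.Lib.ThickeningAlg.formallyUnramified_of_isPushout
      (A := A) (B := B) (A₀ := A ⧸ I) (B₀ := TensorProduct A B (A ⧸ I))
      Ideal.Quotient.mk_surjective (by rw [Ideal.Quotient.algebraMap_eq, Ideal.mk_ker]; exact hI)
  · intro hf'
    exact MorphismProperty.of_isPullback hc hf'

end Groth.Agent.S1314
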