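import Groth.Statements.S2155
import Groth.Agent.Lib.SmoothLocusBC
import Groth.Agent.Lib.H80SmoothFiber2

set_option autoImplicit false
universe u
open CategoryTheory AlgebraicGeometry
open Mor

namespace Groth.Agent.S2155

section helpers

open CategoryTheory CategoryTheory.Limits AlgebraicGeometry Groth.Agent.Lib.SmoothLocusBC

/-- If `f` is flat and its base change `f'` is smooth at `x'`, then `f` is smooth at `g' x'`. -/
theorem smooth_of_flat {X S X' S' : Scheme.{u}} (f : X ⟶ S) (g : S' ⟶ S) (f' : X' ⟶ S')
    (g' : X' ⟶ X) (h : IsPullback g' f' f g) [LocallyOfFinitePresentation f]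
    [LocallyOfFinitePresentation f'] [Flat f] (x' : X')
    (hx' : (f'.stalkMap x').hom.FormallySmooth) : (f.stalkMap (g' x')).hom.FormallySmooth := by
  obtain ⟨s', hs'⟩ : ∃ s', s' = f' x' := ⟨_, rfl⟩
  obtain ⟨x0, hx0⟩ : ∃ x0 : f'.fiber s', f'.fiberι s' x0 = x' := by
    subst hs'
    exact ⟨f'.asFiber x', f'.fiberι_asFiber x'⟩
  -- Step 1: the fibre of `f'` is smooth at `x0`
  have hp1 : IsPullback (f'.fiberι s') (f'.fiberToSpecResidueField s') f'
      (S'.fromSpecResidueField s') := IsPullback.of_hasPullback _ _
  have h1 : ((f'.fiberToSpecResidueField s').stalkMap x0).hom.FormallySmooth :=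
    formallySmooth_stalkMap_snd_of_isPullback hp1 x0 ((formallySmooth_stalkMap_congr hx0).2 hx')
  -- Step 2: descend to the fibre of `f`
  have hp2 := isPullback_fiberToSpecResidueField_of_isPullback h s'
  have : LocallyOfFinitePresentation (f.fiberToSpecResidueField (g s')) :=
    MorphismProperty.pullback_snd _ _ inferInstance
  have : Flat (Spec.map (g.residueFieldMap s')) := by
    rw [Flat.SpecMap_iff]
    let _ := (g.residueFieldMap s').hom.toAlgebra
    show Module.Flat (S.residueField (g s')) (S'.residueField s')
    infer_instance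
  have h2 := formallySmooth_stalkMap_of_isPullback_of_flat (P := f'.fiber s')
    (X := f.fiber (g s')) (f := f.fiberToSpecResidueField (g s')) hp2 x0 h1
  -- Step 3: flat + smooth fibre
  have h3 := Groth.Agent.Lib.H80SmoothFiber.mem_smoothLocus_of_flat_of_fiber f (g s') _
    (Flat.stalkMap f _) h2
  rw [Scheme.Hom.mem_smoothLocus] at h3
  refine (formallySmooth_stalkMap_congr ?_).1 h3
  rw [← hx0]
  have hm : pullback.map f' (S'.fromSpecResidueField s') f (S.fromSpecResidueField (g s')) g'
      (Spec.map (g.residueFieldMap s')) g h.w.symm (by simp) ≫ f.fiberι (g s') =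
      f'.fiberι s' ≫ g' := by
    simp only [Scheme.Hom.fiberι, pullback.map]
    exact pullback.lift_fst _ _ _
  exact congr($(hm) x0)

end helpers

/-- Consider a cartesian square with `f : X → S` locally of finite presentation, base change `g : S' →
S`, and `f' : X' → S'`, `g' : X' → X` the projections. If `f` is flat, or if `g` is flat, then the
open set of points where `f'` is smooth is the preimage under `g'` of the open set of points where
`f` is smooth. -/
theorem result {X S X' S' : Scheme.{u}} (f : X ⟶ S) (g : S' ⟶ S) (f' : X' ⟶ S') (g' : X' ⟶ X)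
    (h : IsPullback g' f' f g) [LocallyOfFinitePresentation f] [LocallyOfFinitePresentation f'] (hflat : Flat f ∨ Flat g) :
    f'.smoothLocus = g' ⁻¹ᵁ f.smoothLocus := by
  ext x'
  simp only [Scheme.Hom.mem_preimage, Scheme.Hom.mem_smoothLocus, SetLike.mem_coe]
  constructor
  · intro hx'
    rcases hflat with hf | hg
    · exact smooth_of_flat f g f' g' h x' hx'
    · exact Groth.Agent.Lib.SmoothLocusBC.formallySmooth_stalkMap_of_isPullback_of_flat h x' hx'
  · intro hx'
    exact Groth.Agent.Lib.SmoothLocusBC.formallySmooth_stalkMap_snd_of_isPullback h x' hx'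

end Groth.Agent.S2155
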