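import Groth.Statements.S3617
-- import your own Groth.Agent.* helpers here
import Mathlib
import Groth.Agent.Lib.GorOpen83
import Groth.Agent.Lib.CMQF33k
import Groth.Agent.Lib.H26CMDim
import Groth.Agent.Lib.SchLfpCancel

set_option autoImplicit false
set_option linter.style.haveILetI false
universe u
open CategoryTheory CategoryTheory.Limits AlgebraicGeometry
attribute [local instance] HasDerivedCategory.standard
open Dual3

namespace Groth.Agent.S3617

open Groth.Agent.Lib Groth.Agent.Lib.GorOpen83

set_option backward.isDefEq.respectTransparency.types false in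
lemma isLocallyNoetherian_fiber {X Y : Scheme.{u}} (f : X ⟶ Y) [LocallyOfFiniteType f] (y : Y) :
    IsLocallyNoetherian (f.fiber y) := by
  have hlft : LocallyOfFiniteType (f.fiberToSpecResidueField y) :=
    MorphismProperty.pullback_snd (P := @LocallyOfFiniteType) _ _ inferInstance
  exact LocallyOfFiniteType.isLocallyNoetherian (f.fiberToSpecResidueField y)

/-- Let f : X → S be a morphism of schemes which is flat and locally of finite presentation. Then the
set of points of X at which f is Gorenstein (flat, with Gorenstein local ring of the fibre) is open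
in X. -/
theorem result (X S : Scheme.{u}) (f : X ⟶ S) [Flat f] [LocallyOfFinitePresentation f] : IsOpen {x : X | Dual3.IsGorensteinAt f x} := by
  rw [isOpen_iff_forall_mem_open]
  intro x hx
  have hcm : MoreMor.IsCMAt f x := by
    haveI := hx.2
    exact ⟨hx.1, H26CMDim.isCohenMacaulayLocalRing_of_gorenstein _⟩
  obtain ⟨n, U, hxU, g, hg, hqf, hfl⟩ :=
    CMQF33.HasQFChart.exists_opens f x (CMQF33.hasQFChart f x hcm)
  haveI : LocallyOfFinitePresentation (g ≫ (𝔸(ULift.{u} (Fin n); S) ↘ S)) := by
    rw [hg]; infer_instance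
  haveI hlfp : LocallyOfFinitePresentation g :=
    SchLfpCancel.lfp_of_comp_of_lft (g := 𝔸(ULift.{u} (Fin n); S) ↘ S) inferInstance inferInstance
  have hopen := isOpen_gorenstein_of_locallyQuasiFinite g
  have key : ∀ y : ↥(U : Scheme.{u}), Dual3.IsGorensteinAt g y ↔ Dual3.IsGorensteinAt f (U.ι y) := by
    intro y
    rw [← isGorensteinAt_comp_openImmersion_left U.ι f y, ← isGorensteinAt_congr hg y]
    have h27 := Groth.Agent.S3627.result _ _ _ g (𝔸(ULift.{u} (Fin n); S) ↘ S)
      (fun y => isLocallyNoetherian_fiber g y)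
      (fun y => isLocallyNoetherian_fiber _ y) (fun z => isLocallyNoetherian_fiber _ z) y
    constructor
    · intro h
      exact h27.1 h (isGorensteinAt_affineSpace_over _ S (g y))
    · intro h
      exact (h27.2 h (Flat.stalkMap g y)).1
  refine ⟨U.ι '' {y | Dual3.IsGorensteinAt g y}, ?_, U.ι.isOpenEmbedding.isOpenMap _ hopen,
    ⟨⟨x, hxU⟩, (key _).mpr hx, rfl⟩⟩
  rintro _ ⟨y, hy, rfl⟩
  exact (key y).mp hy

end Groth.Agent.S3617
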