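import Groth.Statements.S10689
-- import your own Groth.Agent.* helpers here
import Mathlib
import Groth.Agent.Lib.AlgSpNear91
import Groth.Agent.Lib.H14LocPCurve
import Groth.Agent.S3617
import Groth.Agent.S3626

set_option autoImplicit false
set_option linter.style.haveILetI false
universe u
open CategoryTheory CategoryTheory.Limits AlgebraicGeometry
open AlgSp

namespace Groth.Agent.S10689

open AlgSp Groth.Agent.Lib.AlgSpNear91 Groth.Agent.Lib.AlgSpPoints Groth.Agent.Lib.AlgSpDecentSpec
  Groth.Agent.Lib.AlgSpBasic Groth.Agent.Lib.H14LocPCurve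

variable {S : Scheme.{u}}

/-- Gorenstein at a point is insensitive to étale precomposition (morphisms locally of finite type). -/
theorem gor_src {P U V : Scheme.{u}} (e : P ⟶ U) (h : U ⟶ V) [Etale e] [LocallyOfFiniteType h]
    (p : ↥P) : Dual3.IsGorensteinAt (e ≫ h) p ↔ Dual3.IsGorensteinAt h (e p) := by
  have h27 := Groth.Agent.S3627.result _ _ _ e h (fun y => isLocallyNoetherian_fiber e y)
    (fun y => isLocallyNoetherian_fiber h y) (fun z => isLocallyNoetherian_fiber (e ≫ h) z) p
  exact ⟨fun H => (h27.2 H (Flat.stalkMap e p)).2, fun H => h27.1 ((gorLft_of_etale e).2 p) H⟩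

/-- Gorenstein at a point is insensitive to étale postcomposition (flat morphisms locally of finite type). -/
theorem gor_tgt {U V V' : Scheme.{u}} (h : U ⟶ V) (e : V ⟶ V') [Etale e] [LocallyOfFiniteType h]
    [Flat h] (u : ↥U) : Dual3.IsGorensteinAt (h ≫ e) u ↔ Dual3.IsGorensteinAt h u := by
  have h27 := Groth.Agent.S3627.result _ _ _ h e (fun y => isLocallyNoetherian_fiber h y)
    (fun y => isLocallyNoetherian_fiber e y) (fun z => isLocallyNoetherian_fiber (h ≫ e) z) u
  exact ⟨fun H => (h27.2 H (Flat.stalkMap h u)).1, fun H => h27.1 H ((gorLft_of_etale e).2 _)⟩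

/-- **Chart independence** of "Gorenstein at a point" for a flat morphism locally of finite presentation. -/
theorem chart_indep {X Y : Sp S} (f : X ⟶ Y)
    (hf1 : LocP @Flat f) (hf2 : LocP @LocallyOfFinitePresentation f)
    {U V U' V' : Over S} (a : (yon S).obj U ⟶ X) (b : (yon S).obj V ⟶ Y) (h : U ⟶ V)
    (a' : (yon S).obj U' ⟶ X) (b' : (yon S).obj V' ⟶ Y) (h' : U' ⟶ V')
    (ha : RepWith @Etale a) (hb : RepWith @Etale b) (ha' : RepWith @Etale a')
    (hb' : RepWith @Etale b') (hc : a ≫ f = (yon S).map h ≫ b) (hc' : a' ≫ f = (yon S).map h' ≫ b')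
    (u : ↥U.left) (u' : ↥U'.left) (hu : Points.ofPt a u = Points.ofPt a' u') :
    Dual3.IsGorensteinAt h.left u ↔ Dual3.IsGorensteinAt h'.left u' := by
  -- P = U' ×_X U
  have hrP := ((repWith_iff _ _).1 ha').1
  have sqP := hrP.isPullback' a
  obtain ⟨p, hp1, hp2⟩ := exists_point_of_ofPt_eq sqP u' u hu.symm
  have e1 : Etale (hrP.snd a).left := ((repWith_iff _ _).1 ha').2 _ _ _ sqP
  have e2 : Etale (hrP.fst' a).left := ((repWith_iff _ _).1 ha).2 _ _ _ sqP.flip
  -- Q = V' ×_Y V
  have hrQ := ((repWith_iff _ _).1 hb').1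
  have sqQ := hrQ.isPullback' b
  have e3 : Etale (hrQ.snd b).left := ((repWith_iff _ _).1 hb').2 _ _ _ sqQ
  have e4 : Etale (hrQ.fst' b).left := ((repWith_iff _ _).1 hb).2 _ _ _ sqQ.flip
  -- k : P ⟶ Q
  have hk : (yon S).map (hrP.fst' a ≫ h') ≫ b' = (yon S).map (hrP.snd a ≫ h) ≫ b := by
    rw [Functor.map_comp, Functor.map_comp, Category.assoc, Category.assoc, ← hc, ← hc',
      ← Category.assoc, ← Category.assoc, sqP.w]
  let k := hrQ.lift' (hrP.fst' a ≫ h') (hrP.snd a ≫ h) hk
  have k1 : k ≫ hrQ.fst' b = hrP.fst' a ≫ h' := hrQ.lift'_fst _ _ hk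
  have k2 : k ≫ hrQ.snd b = hrP.snd a ≫ h := hrQ.lift'_snd _ _ hk
  have k1' : k.left ≫ (hrQ.fst' b).left = (hrP.fst' a).left ≫ h'.left := by
    rw [← Over.comp_left, k1, Over.comp_left]
  have k2' : k.left ≫ (hrQ.snd b).left = (hrP.snd a).left ≫ h.left := by
    rw [← Over.comp_left, k2, Over.comp_left]
  -- the chart diagram `(P, Q, k)`
  have haP : RepWith @Etale ((yon S).map (hrP.snd a) ≫ a) :=
    MorphismProperty.comp_mem _ _ _ ((repWith_yon_map_iff _ _).2 e1) ha
  have hbQ : RepWith @Etale ((yon S).map (hrQ.snd b) ≫ b) :=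
    MorphismProperty.comp_mem _ _ _ ((repWith_yon_map_iff _ _).2 e3) hb
  have hcK : ((yon S).map (hrP.snd a) ≫ a) ≫ f = (yon S).map k ≫ (yon S).map (hrQ.snd b) ≫ b := by
    rw [Category.assoc, hc, ← Category.assoc, ← Functor.map_comp, ← Category.assoc,
      ← Functor.map_comp, k2]
  haveI : Flat k.left := hf1 _ _ k haP hbQ hcK
  haveI : LocallyOfFinitePresentation k.left := hf2 _ _ k haP hbQ hcK
  haveI : Flat h.left := hf1 a b h ha hb hc
  haveI : LocallyOfFinitePresentation h.left := hf2 a b h ha hb hc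
  haveI : Flat h'.left := hf1 a' b' h' ha' hb' hc'
  haveI : LocallyOfFinitePresentation h'.left := hf2 a' b' h' ha' hb' hc'
  haveI := e1; haveI := e2; haveI := e3; haveI := e4
  have r1 : Dual3.IsGorensteinAt h.left u ↔ Dual3.IsGorensteinAt k.left p := by
    rw [← hp2, ← gor_src (hrP.snd a).left h.left p, ← k2', gor_tgt]
  have r2 : Dual3.IsGorensteinAt h'.left u' ↔ Dual3.IsGorensteinAt k.left p := by
    rw [← hp1, ← gor_src (hrP.fst' a).left h'.left p, ← k1', gor_tgt]
  rw [r1, r2]

/-- The all-charts form of "Gorenstein at a point" can be tested on one chart diagram. -/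
theorem locPAt_gor_iff {X Y : Sp S} (f : X ⟶ Y)
    (hf1 : LocP @Flat f) (hf2 : LocP @LocallyOfFinitePresentation f)
    {U V : Over S} (a : (yon S).obj U ⟶ X) (b : (yon S).obj V ⟶ Y) (h : U ⟶ V)
    (ha : RepWith @Etale a) (hb : RepWith @Etale b) (hc : a ≫ f = (yon S).map h ≫ b) (u : ↥U.left) :
    LocPAt (fun h u => Dual3.IsGorensteinAt h u) f (Points.ofPt a u) ↔
      Dual3.IsGorensteinAt h.left u := by
  constructor
  · intro H
    exact H a b h u ha hb hc rfl
  · intro H U' V' a' b' h' u' ha' hb' hc' hu'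
    exact (chart_indep f hf1 hf2 a b h a' b' h' ha hb ha' hb' hc hc' u u' hu'.symm).1 H

/-- For a flat morphism f : X ⟶ Y between algebraic spaces over S which is locally of finite
presentation, the set W of points of |X| at which f is Gorenstein (in every etale chart diagram
through the point the top arrow is flat there with Gorenstein local ring of its fibre) is open in
|X|, and for any morphism of algebraic spaces g : Y' ⟶ Y with base change f' : X' ⟶ Y' and
projection g' : X' ⟶ X the corresponding set for f' is the inverse image of W under |g'|. -/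
theorem result {S : Scheme.{u}} {X Y : AlgSp.Space S} (f : X ⟶ Y)
    (hf1 : AlgSp.LocP @Flat f.hom) (hf2 : AlgSp.LocP @LocallyOfFinitePresentation f.hom) :
    IsOpen {x : AlgSp.Points X.obj | AlgSp.LocPAt (fun h u => Dual3.IsGorensteinAt h u) f.hom x} ∧
      ∀ (X' Y' : AlgSp.Space S) (g : Y' ⟶ Y) (g' : X' ⟶ X) (f' : X' ⟶ Y'), IsPullback g'.hom f'.hom f.hom g.hom →
        {x' : AlgSp.Points X'.obj | AlgSp.LocPAt (fun h u => Dual3.IsGorensteinAt h u) f'.hom x'} =
          AlgSp.Points.map g'.hom ⁻¹' {x : AlgSp.Points X.obj | AlgSp.LocPAt (fun h u => Dual3.IsGorensteinAt h u) f.hom x} := by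
  refine ⟨?_, ?_⟩
  · rw [isOpen_iff_forall_mem_open]
    intro x hx
    obtain ⟨U, V, a, b, h, u, ha, hb, hc, rfl⟩ :=
      Groth.Agent.Lib.AlgSpQFAt91.exists_chart_diagram X.property Y.property f.hom x
    haveI : Flat h.left := hf1 a b h ha hb hc
    haveI : LocallyOfFinitePresentation h.left := hf2 a b h ha hb hc
    have hopen := Groth.Agent.S3617.result _ _ h.left
    refine ⟨Points.ofPt a '' {y | Dual3.IsGorensteinAt h.left y}, ?_,
      Groth.Agent.Lib.H86AlgSpPoints.isOpenMap_ofPt ha _ hopen,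
      ⟨u, (locPAt_gor_iff f.hom hf1 hf2 a b h ha hb hc u).1 hx, rfl⟩⟩
    rintro _ ⟨y, hy, rfl⟩
    exact (locPAt_gor_iff f.hom hf1 hf2 a b h ha hb hc y).2 hy
  · intro X' Y' g g' f' sq
    -- the base change is again flat and locally of finite presentation
    have hf1' : AlgSp.LocP @Flat f'.hom :=
      Groth.Agent.Lib.AlgSpLocP.locP_of_isPullback Groth.Agent.Lib.AlgSpLocP.etLocalClass_flat
        X.property Y.property Y'.property sq hf1
    have hf2' : AlgSp.LocP @LocallyOfFinitePresentation f'.hom :=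
      Groth.Agent.Lib.AlgSpLocP.locP_of_isPullback Groth.Agent.Lib.AlgSpLocP.etLocalClass_lfp
        X.property Y.property Y'.property sq hf2
    ext x''
    simp only [Set.mem_ofPred_eq, Set.mem_preimage]
    obtain ⟨U, V, U'', V'', a, c, a'', c'', h, h'', gU, gV, u'', ha, hc, ha'', hc'', hcf, hcf'', hab, -,
      sqA, rfl⟩ := Groth.Agent.Lib.AlgSpQFBC91.exists_baseChange_chart X.property Y.property
        X'.property Y'.property sq x''
    haveI : Flat h.left := hf1 a c h ha hc hcf
    haveI : LocallyOfFinitePresentation h.left := hf2 a c h ha hc hcf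
    have hpt : Points.map g'.hom (Points.ofPt a'' u'') = Points.ofPt a (gU.left u'') := by
      rw [Points.map_ofPt, hab, Groth.Agent.Lib.AlgSpPoints.ofPt_yon_map_comp]
    rw [hpt, locPAt_gor_iff f.hom hf1 hf2 a c h ha hc hcf,
      locPAt_gor_iff f'.hom hf1' hf2' a'' c'' h'' ha'' hc'' hcf'']
    exact Groth.Agent.S3626.result _ _ _ _ h.left gV.left h''.left gU.left sqA u''

end Groth.Agent.S10689
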