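import Groth.Statements.S0115
import Groth.Agent.S2805
import Groth.Agent.Lib.SrcLocalFppf64

set_option autoImplicit false
open CategoryTheory CategoryTheory.Limits AlgebraicGeometry Opposite
universe u
open EtBase

namespace Groth.Agent.S0115

/-- Smoothness descends along fppf coverings: if f : X ⟶ Y is surjective, flat and locally of finite
presentation and q : Y ⟶ S is a morphism such that f ≫ q is smooth, then q is smooth. -/
theorem result {X Y S : Scheme.{u}} (f : X ⟶ Y) (q : Y ⟶ S) [Surjective f] [Flat f]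
    [LocallyOfFinitePresentation f] [Smooth (f ≫ q)] : Smooth q := by
  have hq : LocallyOfFinitePresentation q :=
    Groth.Agent.Lib.SrcLocalFppf64.sourceFppfLocal_locallyOfFinitePresentation f q ‹_› ‹_› ‹_›
      inferInstance
  rw [← Scheme.Hom.smoothLocus_eq_top_iff, ← top_le_iff]
  intro y _
  obtain ⟨x, rfl⟩ := f.surjective y
  obtain ⟨V, hxV, hV⟩ := Groth.Agent.S2805.result q (f ≫ q) f rfl x (Flat.stalkMap f x)
    ⟨⊤, trivial, inferInstance⟩
  exact Scheme.Hom.mem_smoothLocus.mpr
    ((Groth.Agent.Lib.SmoothLocusBC.exists_nhds_smooth_iff q (f x)).mp ⟨V, hxV, hV⟩)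

end Groth.Agent.S0115
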