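import Groth.Statements.S0733
import Mathlib.CategoryTheory.Adjunction.Limits

set_option autoImplicit false
open CategoryTheory CategoryTheory.Limits AlgebraicGeometry Opposite Topology
universe u
open scoped TensorProduct
open ProEtW

namespace Groth.Agent.S0733

theorem etale_toAlgebra_algebraMap {R S : Type*} [CommRing R] [CommRing S] [inst : Algebra R S]
    [h : Algebra.Etale R S] : @Algebra.Etale R S _ _ (algebraMap R S).toAlgebra := by
  have : (algebraMap R S).toAlgebra = inst := Algebra.algebra_ext _ _ (fun _ => rfl)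
  rw [this]; exact h

theorem nonempty_iso_of_algebra_eq (A B A' : Type u) [CommRing A] [CommRing B] [CommRing A']
    [Algebra A A'] (i1 i2 : Algebra A B) (h : i1 = i2) :
    letI : Algebra (CommRingCat.of A) (CommRingCat.of A') := inferInstanceAs (Algebra A A')
    Nonempty (CommRingCat.mkUnder (CommRingCat.of A')
        (@TensorProduct A _ A' B _ _ _ i1.toModule) ≅
      CommRingCat.mkUnder (CommRingCat.of A') (@TensorProduct A _ A' B _ _ _ i2.toModule)) := by
  subst h
  exact ⟨Iso.refl _⟩

/-- If A -> B is ind-etale (a filtered colimit of etale A-algebras) and A -> A' is any ring map, then A'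
-> A' (x)_A B is ind-etale. -/
theorem result (A B A' : Type u) [CommRing A] [CommRing B] [CommRing A']
    [Algebra A B] [Algebra A A'] (h : EtPBC.IsIndEtale A B) :
    EtPBC.IsIndEtale A' (A' ⊗[A] B) := by
  obtain ⟨J, hJ, hJf, D, c, hc, hD, ⟨e⟩⟩ := h
  let : Algebra (CommRingCat.of A) (CommRingCat.of A') := inferInstanceAs (Algebra A A')
  let T := CommRingCat.tensorProd (CommRingCat.of A) (CommRingCat.of A')
  have : T.IsLeftAdjoint :=
    ⟨_, ⟨(Under.mapPushoutAdj _).ofNatIsoLeft (CommRingCat.tensorProdIsoPushout _ _).symm⟩⟩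
  refine ⟨J, hJ, hJf, D ⋙ T, T.mapCocone c, isColimitOfPreserves T hc, ?_, ?_⟩
  · intro j
    let := (D.obj j).hom.hom.toAlgebra
    have := hD j
    dsimp only [Functor.comp_obj]
    have h2 : Algebra.Etale A' (A' ⊗[A] (D.obj j).right) := inferInstance
    exact etale_toAlgebra_algebraMap (R := A') (S := A' ⊗[A] (D.obj j).right)
  · have hB : (algebraMap A B).toAlgebra = ‹Algebra A B› :=
      Algebra.algebra_ext _ _ (fun _ => rfl)
    obtain ⟨x⟩ := nonempty_iso_of_algebra_eq A B A' _ _ hB
    exact ⟨T.mapIso e ≪≫ x⟩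

end Groth.Agent.S0733
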