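import Groth.Statements.S7289
import Mathlib.CategoryTheory.ObjectProperty.Ind
import Mathlib.Algebra.Category.Ring.FinitePresentation
import Mathlib.RingTheory.RingHom.Etale

set_option autoImplicit false
open CategoryTheory CategoryTheory.Limits AlgebraicGeometry Opposite
universe u
open ProEtW

namespace Groth.Agent.S7289

/-- The property of objects under `A` of being etale over `A`. -/
def etaleProp (A : Type u) [CommRing A] : ObjectProperty (Under (CommRingCat.of A)) :=
  fun S ↦ letI := S.hom.hom.toAlgebra; Algebra.Etale A S.right

theorem isIndEtale_iff (A B : Type u) [CommRing A] [CommRing B] [Algebra A B] :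
    EtPBC.IsIndEtale A B ↔
      ObjectProperty.ind.{u} (etaleProp A) (Under.mk (CommRingCat.ofHom (algebraMap A B))) := by
  constructor
  · rintro ⟨J, _, _, D, c, hc, hD, ⟨e⟩⟩
    exact ⟨J, inferInstance, inferInstance,
      (ColimitPresentation.mk D c.ι hc).ofIso e, fun j ↦ hD j⟩
  · rintro ⟨J, _, _, pres, h⟩
    exact ⟨J, inferInstance, inferInstance, pres.diag, ⟨_, pres.ι⟩, pres.isColimit,
      fun j ↦ h j, ⟨Iso.refl _⟩⟩

theorem etaleProp_le (A : Type u) [CommRing A] :
    etaleProp A ≤ ObjectProperty.isFinitelyPresentable.{u} (Under (CommRingCat.of A)) := by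
  intro S hS
  letI := S.hom.hom.toAlgebra
  have : Algebra.Etale A S.right := hS
  refine CommRingCat.isFinitelyPresentable_under _ S ?_
  have : Algebra.FinitePresentation A S.right := inferInstance
  rw [← RingHom.finitePresentation_algebraMap] at this
  exact this

/-- Ind-etale A-algebras are stable under filtered colimits, i.e. any colimit over a filtered index
category of such algebras is again ind-etale over A. Concretely: if D is a filtered diagram of rings
under A all of whose values are ind-etale A-algebras, and the A-algebra B is a colimit of D in the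
category of rings under A, then B is ind-etale over A. -/
theorem result (A B : Type u) [CommRing A] [CommRing B] [Algebra A B]
    {J : Type u} [SmallCategory J] [IsFiltered J] (D : J ⥤ Under (CommRingCat.of A))
    (hD : ∀ j, letI := (D.obj j).hom.hom.toAlgebra; EtPBC.IsIndEtale A ↥(D.obj j).right)
    (c : Cocone D) (hc : IsColimit c)
    (e : c.pt ≅ Under.mk (CommRingCat.ofHom (algebraMap A B))) :
    EtPBC.IsIndEtale A B := by
  rw [isIndEtale_iff, ← ObjectProperty.ind_ind (etaleProp_le A)]
  refine ⟨J, inferInstance, inferInstance, (ColimitPresentation.mk D c.ι hc).ofIso e, fun j ↦ ?_⟩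
  letI := (D.obj j).hom.hom.toAlgebra
  exact (isIndEtale_iff A (D.obj j).right).mp (hD j)

end Groth.Agent.S7289
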