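import Groth.Statements.S7566
-- import your own Groth.Agent.* helpers here

set_option autoImplicit false
universe u
open PtTop

namespace Groth.Agent.S7566

/-- The intersection of the clopen neighbourhoods of `x`. -/
def clopenInter {X : Type*} [TopologicalSpace X] (x : X) : Set X :=
  ⋂ Z : {Z : Set X // IsClopen Z ∧ x ∈ Z}, Z.1

lemma isClosed_clopenInter {X : Type*} [TopologicalSpace X] (x : X) : IsClosed (clopenInter x) :=
  isClosed_iInter fun Z => Z.2.1.1

lemma mem_clopenInter {X : Type*} [TopologicalSpace X] (x : X) : x ∈ clopenInter x :=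
  Set.mem_iInter.mpr fun Z => Z.2.2

lemma directed_clopen {X : Type*} [TopologicalSpace X] (x : X) :
    Directed (· ⊇ ·) (fun Z : {Z : Set X // IsClopen Z ∧ x ∈ Z} => Z.1) := fun Z₁ Z₂ =>
  ⟨⟨Z₁.1 ∩ Z₂.1, Z₁.2.1.inter Z₂.2.1, Z₁.2.2, Z₂.2.2⟩, Set.inter_subset_left, Set.inter_subset_right⟩

/-- Key step: if the intersection `S` of the clopen neighbourhoods of `x` is covered by two
disjoint closed sets `A ∋ x` and `B`, then `S ⊆ A`. -/
lemma clopenInter_subset {X : Type*} [TopologicalSpace X]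
    [CompactSpace X] [PrespectralSpace X] [QuasiSeparatedSpace X] (x : X) (A B : Set X)
    (hA : IsClosed A) (hB : IsClosed B) (hcov : clopenInter x ⊆ A ∪ B) (hdisj : Disjoint A B)
    (hxA : x ∈ A) : clopenInter x ⊆ A := by
  have : Nonempty {Z : Set X // IsClopen Z ∧ x ∈ Z} := ⟨⟨Set.univ, isClopen_univ, trivial⟩⟩
  set S := clopenInter x with hS
  have hSc : IsClosed S := isClosed_clopenInter x
  -- compact opens around `S ∩ A` and `S ∩ B`
  obtain ⟨U, hUc, hUo, hAU, hUB⟩ := PrespectralSpace.exists_isCompact_and_isOpen_between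
    (hSc.inter hA).isCompact hB.isOpen_compl
    (fun y hy hyB => Set.disjoint_left.mp hdisj hy.2 hyB)
  obtain ⟨V, hVc, hVo, hBV, hVA⟩ := PrespectralSpace.exists_isCompact_and_isOpen_between
    (hSc.inter hB).isCompact hA.isOpen_compl
    (fun y hy hyA => Set.disjoint_left.mp hdisj hyA hy.2)
  -- a clopen neighbourhood of `x` disjoint from `U ∩ V`
  obtain ⟨Z₁, hZ₁⟩ := (QuasiSeparatedSpace.inter_isCompact U V hUo hUc hVo hVc).elim_directed_family_closed
    (fun Z : {Z : Set X // IsClopen Z ∧ x ∈ Z} => Z.1) (fun Z => Z.2.1.1)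
    (by
      rw [Set.eq_empty_iff_forall_notMem]
      rintro y ⟨⟨hyU, hyV⟩, hyS⟩
      rcases hcov hyS with hyA | hyB
      · exact hVA hyV hyA
      · exact hUB hyU hyB)
    (directed_clopen x)
  -- a clopen neighbourhood of `x` inside `U ∪ V`
  obtain ⟨Z₂, hZ₂⟩ := (hUo.union hVo).isClosed_compl.isCompact.elim_directed_family_closed
    (fun Z : {Z : Set X // IsClopen Z ∧ x ∈ Z} => Z.1) (fun Z => Z.2.1.1)
    (by
      rw [Set.eq_empty_iff_forall_notMem]
      rintro y ⟨hyUV, hyS⟩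
      apply hyUV
      rcases hcov hyS with hyA | hyB
      · exact Or.inl (hAU ⟨hyS, hyA⟩)
      · exact Or.inr (hBV ⟨hyS, hyB⟩))
    (directed_clopen x)
  -- the clopen set `Z₁ ∩ Z₂ ∩ U`
  have hopen : IsOpen (Z₁.1 ∩ Z₂.1 ∩ U) := (Z₁.2.1.2.inter Z₂.2.1.2).inter hUo
  have heq : Z₁.1 ∩ Z₂.1 ∩ U = Z₁.1 ∩ Z₂.1 ∩ Vᶜ := by
    ext y
    constructor
    · rintro ⟨⟨h1, h2⟩, hU⟩
      refine ⟨⟨h1, h2⟩, fun hV => ?_⟩
      have : y ∈ U ∩ V ∩ Z₁.1 := ⟨⟨hU, hV⟩, h1⟩
      rw [hZ₁] at this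
      exact this
    · rintro ⟨⟨h1, h2⟩, hV⟩
      refine ⟨⟨h1, h2⟩, ?_⟩
      by_contra hU
      have : y ∈ (U ∪ V)ᶜ ∩ Z₂.1 := ⟨fun h => h.elim hU hV, h2⟩
      rw [hZ₂] at this
      exact this
  have hclosed : IsClosed (Z₁.1 ∩ Z₂.1 ∩ U) := by
    rw [heq]
    exact (Z₁.2.1.1.inter Z₂.2.1.1).inter hVo.isClosed_compl
  have hxS : x ∈ S := mem_clopenInter x
  have hxmem : x ∈ Z₁.1 ∩ Z₂.1 ∩ U := ⟨⟨Z₁.2.2, Z₂.2.2⟩, hAU ⟨hxS, hxA⟩⟩
  have hSsub : S ⊆ Z₁.1 ∩ Z₂.1 ∩ U :=
    Set.iInter_subset _ (⟨Z₁.1 ∩ Z₂.1 ∩ U, ⟨hclosed, hopen⟩, hxmem⟩ :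
      {Z : Set X // IsClopen Z ∧ x ∈ Z})
  intro y hy
  rcases hcov hy with hyA | hyB
  · exact hyA
  · exact absurd hyB (hUB (hSsub hy).2)

/-- Let X be a quasi-compact topological space whose quasi-compact opens form a basis, any two of them
meeting in a quasi-compact set. Then for every x ∈ X the connected component of x equals the
intersection of every clopen subset of X that contains x. -/
theorem result {X : Type u} [TopologicalSpace X]
    [CompactSpace X] [PrespectralSpace X] [QuasiSeparatedSpace X] (x : X) :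
    connectedComponent x = ⋂₀ {Z : Set X | IsClopen Z ∧ x ∈ Z} := by
  have hS : ⋂₀ {Z : Set X | IsClopen Z ∧ x ∈ Z} = clopenInter x := by
    rw [clopenInter, Set.sInter_eq_iInter]
    rfl
  rw [hS]
  apply Set.Subset.antisymm
  · exact connectedComponent_subset_iInter_isClopen
  · apply IsPreconnected.subset_connectedComponent _ (mem_clopenInter x)
    rw [isPreconnected_iff_subset_of_fully_disjoint_closed (isClosed_clopenInter x)]
    intro u v hu hv huv hdisj
    rcases huv (mem_clopenInter x) with hxu | hxv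
    · exact Or.inl (clopenInter_subset x u v hu hv huv hdisj hxu)
    · exact Or.inr (clopenInter_subset x v u hv hu (by rwa [Set.union_comm]) hdisj.symm hxv)

end Groth.Agent.S7566
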