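import Groth.Statements.S7584

set_option autoImplicit false
universe u
open PtTop

namespace Groth.Agent.S7584

lemma preimage_image_of_isClopen {X : Type u} [TopologicalSpace X] {Z : Set X} (hZ : IsClopen Z) :
    (ConnectedComponents.mk : X → ConnectedComponents X) ⁻¹' (ConnectedComponents.mk '' Z) = Z := by
  ext y
  constructor
  · rintro ⟨z, hz, hzy⟩
    rw [ConnectedComponents.coe_eq_coe] at hzy
    have : y ∈ connectedComponent z := by rw [hzy]; exact mem_connectedComponent
    exact hZ.connectedComponent_subset hz this
  · intro hy
    exact ⟨y, hy, rfl⟩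

/-- Let X be a quasi-compact topological space in which each connected component equals the intersection
of all clopen sets that contain it. Then π₀(X), the set of connected components with the quotient
topology, is Hausdorff. The published statement concludes that π₀(X) is profinite; this row records
the Hausdorff property, quasi-compactness and total disconnectedness of the quotient being
automatic. -/
theorem result (X : Type u) [TopologicalSpace X] [CompactSpace X]
    (h : ∀ x : X, connectedComponent x = ⋂₀ {Z : Set X | IsClopen Z ∧ x ∈ Z}) :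
    T2Space (ConnectedComponents X) := by
  refine ⟨fun a b hab => ?_⟩
  obtain ⟨x, rfl⟩ := ConnectedComponents.surjective_coe a
  obtain ⟨y, rfl⟩ := ConnectedComponents.surjective_coe b
  have hy : y ∉ connectedComponent x := by
    intro hy
    apply hab
    exact (ConnectedComponents.coe_eq_coe'.mpr hy).symm
  rw [h x, Set.mem_sInter] at hy
  push Not at hy
  obtain ⟨Z, ⟨hZ, hxZ⟩, hyZ⟩ := hy
  have hq := ConnectedComponents.isQuotientMap_coe (α := X)
  refine ⟨ConnectedComponents.mk '' Z, ConnectedComponents.mk '' Zᶜ, ?_, ?_, ⟨x, hxZ, rfl⟩,
    ⟨y, hyZ, rfl⟩, ?_⟩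
  · rw [← hq.isOpen_preimage, preimage_image_of_isClopen hZ]
    exact hZ.isOpen
  · rw [← hq.isOpen_preimage, preimage_image_of_isClopen hZ.compl]
    exact hZ.compl.isOpen
  · rw [Set.disjoint_left]
    rintro _ ⟨z, hz, rfl⟩ ⟨w, hw, hwz⟩
    have : z ∈ (ConnectedComponents.mk : X → ConnectedComponents X) ⁻¹'
        (ConnectedComponents.mk '' Zᶜ) := ⟨w, hw, hwz⟩
    rw [preimage_image_of_isClopen hZ.compl] at this
    exact this hz

end Groth.Agent.S7584
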