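import Groth.Statements.S0675
import Groth.Agent.Lib.EtaleRetract6
import Mathlib.RingTheory.Etale.StandardEtale
import Mathlib.RingTheory.Henselian
import Mathlib.FieldTheory.IsSepClosed
import Mathlib.RingTheory.Polynomial.ScaleRoots
import Mathlib.RingTheory.AdjoinRoot
-- import your own Groth.Agent.* helpers here

set_option autoImplicit false
open CategoryTheory CategoryTheory.Limits AlgebraicGeometry Opposite Topology
universe u
open ProEtW

namespace Groth.Agent.S0675

open Polynomial IsLocalRing Groth.Agent.Lib.EtaleRetract6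

section Helpers

variable {A : Type u} [CommRing A]


/-- Henselian property over `A`: a monic polynomial with a simple root modulo `m` has a root in
`A_m` congruent to it. -/
lemma exists_root_of_simple_root (h : ProEtW.HasEtaleRetractions A) (m : Ideal A) [hm : m.IsMaximal]
    (G : A[X]) (hG : G.Monic) (b : A) (hb : G.eval b ∈ m) (hb' : G.derivative.eval b ∉ m) :
    ∃ y : Localization.AtPrime m, aeval y G = 0 ∧
      y - algebraMap A _ b ∈ maximalIdeal (Localization.AtPrime m) := by
  classical
  letI : Field (A ⧸ m) := Ideal.Quotient.field m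
  set π : A →+* A ⧸ m := Ideal.Quotient.mk m with hπ
  have hπs : Function.Surjective π := Ideal.Quotient.mk_surjective
  -- factor `Ḡ = (X - b̄) H̄`
  have hroot : (G.map π).IsRoot (π b) := by
    rw [IsRoot, eval_map, eval₂_at_apply]
    exact Ideal.Quotient.eq_zero_iff_mem.mpr hb
  have hfac : (X - C (π b)) * (G.map π /ₘ (X - C (π b))) = G.map π :=
    mul_divByMonic_eq_iff_isRoot.mpr hroot
  obtain ⟨H, hH⟩ := Polynomial.map_surjective π hπs (G.map π /ₘ (X - C (π b)))
  -- `H̄(b̄) = Ḡ'(b̄) ≠ 0`
  have hder : (G.derivative.map π).eval (π b) ≠ 0 := by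
    rw [eval_map, eval₂_at_apply]
    exact fun h0 => hb' (Ideal.Quotient.eq_zero_iff_mem.mp h0)
  have hHb : (H.map π).eval (π b) ≠ 0 := by
    have h1 : (G.map π).derivative = (H.map π) + (X - C (π b)) * (H.map π).derivative := by
      conv_lhs => rw [← hfac, ← hH]
      rw [derivative_mul, derivative_sub, derivative_X, derivative_C, sub_zero, one_mul]
    rw [← derivative_map] at hder
    rw [h1, eval_add, eval_mul, eval_sub, eval_X, eval_C, sub_self, zero_mul, add_zero] at hder
    exact hder
  -- the standard étale algebra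
  let P : StandardEtalePair A :=
    { f := G, monic_f := hG, g := G.derivative * H,
      cond := ⟨H, 0, 1, by ring⟩ }
  -- map to the residue field
  have hmapκ : P.HasMap (π b) := by
    refine ⟨?_, ?_⟩
    · change aeval (π b) G = 0
      rw [aeval_def, ← eval_map]
      exact hroot
    · change IsUnit (aeval (π b) (G.derivative * H))
      rw [map_mul, aeval_def, aeval_def, ← eval_map, ← eval_map]
      exact (IsUnit.mk0 _ hder).mul (IsUnit.mk0 _ hHb)
  have hker : RingHom.ker (algebraMap A (A ⧸ m)) = m := Ideal.mk_ker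
  obtain ⟨q, hq⟩ := exists_prime_over_of_algHom_field (P.lift (π b) hmapκ)
  rw [hker] at hq
  obtain ⟨τ⟩ := exists_algHom_atPrime P.Ring h m ⟨q, hq⟩
  refine ⟨τ P.X, ?_, ?_⟩
  · have := (P.hasMap_X).1
    rw [aeval_algHom_apply, this, map_zero]
  · -- `(y - b) * H(y) = - D(y)` with `D` having coefficients in `m`
    set y := τ P.X with hy
    set D : A[X] := G - (X - C b) * H with hD
    have hDm : ∀ i, D.coeff i ∈ m := by
      intro i
      rw [← Ideal.Quotient.eq_zero_iff_mem, ← hπ, ← coeff_map]
      have : D.map π = 0 := by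
        rw [hD, Polynomial.map_sub, Polynomial.map_mul, Polynomial.map_sub, map_X, map_C, hH, hfac,
          sub_self]
      rw [this, coeff_zero]
    have hDy : aeval y D ∈ maximalIdeal (Localization.AtPrime m) := by
      rw [aeval_eq_sum_range]
      refine Ideal.sum_mem _ (fun i _ => ?_)
      rw [Algebra.smul_def]
      refine Ideal.mul_mem_right _ _ ?_
      exact (IsLocalization.AtPrime.to_map_mem_maximal_iff _ m _).mpr (hDm i)
    have hGy : aeval y G = 0 := by
      have := (P.hasMap_X).1
      rw [hy, aeval_algHom_apply, this, map_zero]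
    have hHy : IsUnit (aeval y H) := by
      have h1 : IsUnit (aeval P.X (G.derivative * H)) := (P.hasMap_X).2
      have h2 : IsUnit (aeval y (G.derivative * H)) := by
        rw [hy, aeval_algHom_apply]
        exact h1.map τ
      rw [map_mul] at h2
      exact isUnit_of_mul_isUnit_right h2
    have hrel : (y - algebraMap A _ b) * aeval y H = - aeval y D := by
      have : aeval y G = aeval y ((X - C b) * H) + aeval y D := by
        rw [← map_add, hD]
        congr 1
        ring
      rw [hGy, map_mul, map_sub, aeval_X, aeval_C] at this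
      rw [eq_neg_iff_add_eq_zero]
      exact this.symm
    obtain ⟨u, hu⟩ := hHy
    have : y - algebraMap A _ b = - aeval y D * ↑u⁻¹ := by
      rw [← hrel, ← hu, mul_assoc, Units.mul_inv, mul_one]
    rw [this]
    exact Ideal.mul_mem_right _ _ (neg_mem hDy)



lemma exists_root_of_separable (h : ProEtW.HasEtaleRetractions A) (m : Ideal A) [hm : m.IsMaximal]
    (K : Type u) [Field K] (π : A →+* K) (hπ : RingHom.ker π = m)
    (G : A[X]) (hG : G.Monic) (hirr : Irreducible (G.map π)) (hsep : (G.map π).Separable) :
    ∃ y : Localization.AtPrime m, aeval y G = 0 := by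
  classical
  haveI : Fact (Irreducible (G.map π)) := ⟨hirr⟩
  let L := AdjoinRoot (G.map π)
  letI : Algebra A L := ((AdjoinRoot.of (G.map π)).comp π).toAlgebra
  have halg : algebraMap A L = (AdjoinRoot.of (G.map π)).comp π := rfl
  let P : StandardEtalePair A :=
    { f := G, monic_f := hG, g := G.derivative,
      cond := ⟨1, 0, 1, by ring⟩ }
  have hev : ∀ Q : A[X], aeval (AdjoinRoot.root (G.map π)) Q =
      AdjoinRoot.mk (G.map π) (Q.map π) := by
    intro Q
    rw [aeval_def, halg, ← eval₂_map, ← AdjoinRoot.algebraMap_eq, ← aeval_def, AdjoinRoot.aeval_eq]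
  have hmap : P.HasMap (AdjoinRoot.root (G.map π)) := by
    refine ⟨?_, ?_⟩
    · change aeval (AdjoinRoot.root (G.map π)) G = 0
      rw [hev, AdjoinRoot.mk_self]
    · change IsUnit (aeval (AdjoinRoot.root (G.map π)) G.derivative)
      rw [hev]
      obtain ⟨a, b, hab⟩ := hsep
      rw [← derivative_map]
      have : AdjoinRoot.mk (G.map π) b * AdjoinRoot.mk (G.map π) (derivative (G.map π)) = 1 := by
        rw [← map_mul, ← map_one (AdjoinRoot.mk (G.map π)), ← hab, map_add, map_mul (AdjoinRoot.mk _) a,
          AdjoinRoot.mk_self, mul_zero, zero_add]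
      exact IsUnit.of_mul_eq_one _ (by rw [mul_comm]; exact this)
  have hker : RingHom.ker (algebraMap A L) = m := by
    rw [halg, ← hπ]
    ext a
    simp only [RingHom.mem_ker, RingHom.comp_apply]
    exact map_eq_zero_iff _ (RingHom.injective _)
  obtain ⟨q, hq⟩ := exists_prime_over_of_algHom_field (P.lift _ hmap)
  rw [hker] at hq
  obtain ⟨τ⟩ := exists_algHom_atPrime P.Ring h m ⟨q, hq⟩
  refine ⟨τ P.X, ?_⟩
  have := (P.hasMap_X).1
  rw [aeval_algHom_apply, this, map_zero]

/-- Derivative of `scaleRoots`. -/
lemma derivative_scaleRoots_eval {R : Type*} [CommRing R] (p : R[X]) (s x : R) :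
    s * (scaleRoots p s).derivative.eval (s * x) = s ^ p.natDegree * p.derivative.eval x := by
  have key : (scaleRoots p s).comp (C s * X) = C (s ^ p.natDegree) * p := by
    ext i
    rw [comp_C_mul_X_coeff, coeff_scaleRoots, coeff_C_mul]
    by_cases hi : i ≤ p.natDegree
    · rw [mul_assoc, ← pow_add, Nat.sub_add_cancel hi, mul_comm]
    · rw [coeff_eq_zero_of_natDegree_lt (not_le.mp hi), zero_mul, zero_mul, mul_zero]
  have := congrArg (fun q => (derivative q).eval x) key
  simp only [derivative_comp, derivative_mul, derivative_C, derivative_X, zero_mul, mul_one,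
    zero_add, eval_mul, eval_C, eval_comp, eval_X] at this
  exact this



lemma henselian (h : ProEtW.HasEtaleRetractions A) (m : Ideal A) [hm : m.IsMaximal] :
    HenselianLocalRing (Localization.AtPrime m) := by
  classical
  refine { toIsLocalRing := inferInstance, is_henselian := ?_ }
  intro f hf a₀ h₁ h₂
  set n := f.natDegree with hn
  -- clear denominators
  obtain ⟨s, hs⟩ := IsLocalization.exist_integer_multiples_of_finset m.primeCompl
    (insert a₀ ((Finset.range (n + 1)).image f.coeff))
  have hcoeff : ∀ i, ∃ c : A, algebraMap A (Localization.AtPrime m) c = (s : A) • f.coeff i := by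
    intro i
    by_cases hi : i ≤ n
    · exact hs _ (Finset.mem_insert_of_mem (Finset.mem_image_of_mem _
        (Finset.mem_range.mpr (Nat.lt_succ_of_le hi))))
    · refine ⟨0, ?_⟩
      rw [coeff_eq_zero_of_natDegree_lt (not_le.mp hi), smul_zero, map_zero]
  choose c hc using hcoeff
  obtain ⟨b₀, hb₀⟩ := hs a₀ (Finset.mem_insert_self _ _)
  set σ : Localization.AtPrime m := algebraMap A (Localization.AtPrime m) s with hσ
  have hσu : IsUnit σ := IsLocalization.map_units (Localization.AtPrime m) s
  have hsm : ∀ (r : Localization.AtPrime m), (s : A) • r = σ * r := fun r => Algebra.smul_def _ _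
  -- the monic polynomial over `A`
  set G : A[X] := X ^ n + ∑ i ∈ Finset.range n, C (c i * (s : A) ^ (n - 1 - i)) * X ^ i with hGdef
  have hGmonic : G.Monic := by
    refine monic_X_pow_add ?_
    rw [degree_lt_iff_coeff_zero]
    intro k hk
    rw [finsetSum_coeff]
    refine Finset.sum_eq_zero (fun i hi => ?_)
    rw [coeff_C_mul, coeff_X_pow, if_neg, mul_zero]
    have := Finset.mem_range.mp hi
    omega
  have hGmap : G.map (algebraMap A (Localization.AtPrime m)) = scaleRoots f σ := by
    ext i
    rw [coeff_map, coeff_scaleRoots, hGdef, coeff_add, coeff_X_pow, finsetSum_coeff]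
    simp only [coeff_C_mul, coeff_X_pow]
    rcases lt_trichotomy i n with hi | hi | hi
    · rw [if_neg (ne_of_lt hi), zero_add, Finset.sum_eq_single i]
      · rw [if_pos rfl, mul_one, map_mul, map_pow, hc i, hsm, ← hσ]
        have hexp : f.natDegree - i = (n - 1 - i) + 1 := by omega
        rw [hexp, pow_succ]
        ring
      · intro j _ hji
        rw [if_neg (Ne.symm hji), mul_zero]
      · intro hi'
        exact absurd (Finset.mem_range.mpr hi) hi'
    · subst hi
      rw [if_pos rfl, Finset.sum_eq_zero, add_zero, map_one, Nat.sub_self, pow_zero, mul_one]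
      · exact hf.coeff_natDegree.symm
      · intro j hj
        rw [if_neg (ne_of_gt (Finset.mem_range.mp hj)), mul_zero]
    · rw [if_neg (ne_of_gt hi), zero_add, Finset.sum_eq_zero, map_zero,
        coeff_eq_zero_of_natDegree_lt hi, zero_mul]
      intro j hj
      rw [if_neg (ne_of_gt ((Finset.mem_range.mp hj).trans hi)), mul_zero]
  have hb₀' : algebraMap A (Localization.AtPrime m) b₀ = σ * a₀ := by rw [hb₀, hsm]
  -- `G(b₀) ∈ m`
  have hGb : G.eval b₀ ∈ m := by
    rw [← IsLocalization.AtPrime.to_map_mem_maximal_iff (Localization.AtPrime m) m, ← eval₂_at_apply, ← eval_map, hGmap,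
      hb₀', scaleRoots_eval_mul]
    exact Ideal.mul_mem_left _ _ h₁
  -- `G'(b₀) ∉ m`
  have hGb' : G.derivative.eval b₀ ∉ m := by
    rw [← IsLocalization.AtPrime.to_map_mem_maximal_iff (Localization.AtPrime m) m, ← eval₂_at_apply, ← eval_map,
      ← derivative_map, hGmap, hb₀']
    have h3 := derivative_scaleRoots_eval f σ a₀
    have h4 : IsUnit (σ * (scaleRoots f σ).derivative.eval (σ * a₀)) := by
      rw [h3]
      exact (hσu.pow _).mul h₂
    have h5 : IsUnit ((scaleRoots f σ).derivative.eval (σ * a₀)) := isUnit_of_mul_isUnit_right h4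
    exact fun hmem => (IsLocalRing.mem_maximalIdeal _).mp hmem h5
  obtain ⟨y, hy, hyb⟩ := exists_root_of_simple_root h m G hGmonic b₀ hGb hGb'
  obtain ⟨u, hu⟩ := hσu
  refine ⟨↑u⁻¹ * y, ?_, ?_⟩
  · have h6 : eval (σ * (↑u⁻¹ * y)) (scaleRoots f σ) = σ ^ f.natDegree * eval (↑u⁻¹ * y) f :=
      scaleRoots_eval_mul f _ _
    have h7 : σ * (↑u⁻¹ * y) = y := by rw [← hu, ← mul_assoc, Units.mul_inv, one_mul]
    rw [h7, ← hGmap, eval_map, ← aeval_def, hy] at h6
    have h8 : IsUnit (σ ^ f.natDegree) := (hu ▸ u.isUnit).pow _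
    exact (h8.mul_right_eq_zero.mp h6.symm)
  · have : ↑u⁻¹ * y - a₀ = ↑u⁻¹ * (y - algebraMap A (Localization.AtPrime m) b₀) := by
      rw [hb₀', mul_sub, ← hu, ← mul_assoc, Units.inv_mul, one_mul]
    rw [this]
    exact Ideal.mul_mem_left _ _ hyb

lemma sepClosed (h : ProEtW.HasEtaleRetractions A) (m : Ideal A) [hm : m.IsMaximal] :
    IsSepClosed (IsLocalRing.ResidueField (Localization.AtPrime m)) := by
  classical
  set R := Localization.AtPrime m with hR
  set π : A →+* ResidueField R := (residue R).comp (algebraMap A R) with hπ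
  have hker : RingHom.ker π = m := by
    ext a
    rw [RingHom.mem_ker, hπ, RingHom.comp_apply, residue_eq_zero_iff,
      IsLocalization.AtPrime.to_map_mem_maximal_iff R m]
  have hsurj : Function.Surjective π := by
    intro z
    obtain ⟨a, ha⟩ := Ideal.Quotient.mk_surjective
      ((IsLocalization.AtPrime.equivQuotMaximalIdeal m R).symm z)
    refine ⟨a, ?_⟩
    have := IsLocalization.AtPrime.equivQuotMaximalIdeal_apply_mk m R a
    rw [ha, RingEquiv.apply_symm_apply] at this
    rw [this]
    rfl
  refine IsSepClosed.of_exists_root _ ?_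
  intro p hp hirr hsep
  obtain ⟨G₀, hG₀⟩ := Polynomial.map_surjective π hsurj p
  obtain ⟨G, hG, -, hGm⟩ := lifts_and_degree_eq_and_monic ((mem_lifts p).mpr ⟨G₀, hG₀⟩) hp
  obtain ⟨y, hy⟩ := exists_root_of_separable h m (ResidueField R) π hker G hGm
    (hG ▸ hirr) (hG ▸ hsep)
  refine ⟨residue R y, ?_⟩
  rw [← hG, eval_map, hπ, ← hom_eval₂, ← aeval_def, hy, map_zero]


end Helpers


/-- If every faithfully flat etale A-algebra has an A-algebra retraction, then for every maximal ideal m
of A the localization A_m is a strictly henselian local ring (henselian with separably closed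
residue field). -/
theorem result (A : Type u) [CommRing A]
    (h : ProEtW.HasEtaleRetractions A) (m : Ideal A) [m.IsMaximal] :
    EtCoh.IsStrictlyHenselianLocalRing (Localization.AtPrime m) := by
  exact ⟨henselian h m, sepClosed h m⟩

end Groth.Agent.S0675
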