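import Groth.Statements.S0699
import Mathlib.RingTheory.Spectrum.Prime.Topology
import Mathlib.RingTheory.Jacobson.Ideal
import Mathlib.Topology.Connected.Clopen

set_option autoImplicit false
open CategoryTheory CategoryTheory.Limits AlgebraicGeometry Opposite Topology
universe u
open ProEtW

namespace Groth.Agent.S0699

open PrimeSpectrum

section wlocal
variable {A : Type u} [CommRing A]

/-- In a w-local spectrum, every prime containing the Jacobson radical is maximal. -/
lemma isMaximal_of_jacobson_le (hW : IsWLocal (PrimeSpectrum A)) (p : PrimeSpectrum A)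
    (hp : Ideal.jacobson (⊥ : Ideal A) ≤ p.asIdeal) : p.asIdeal.IsMaximal := by
  obtain ⟨-, hcl, -⟩ := hW
  obtain ⟨K, hK⟩ := (isClosed_iff_zeroLocus_ideal _).1 hcl
  have hKJ : K ≤ Ideal.jacobson ⊥ := by
    rw [Ideal.jacobson, le_sInf_iff]
    rintro m ⟨-, hm⟩
    have : (⟨m, hm.isPrime⟩ : PrimeSpectrum A) ∈ {x : PrimeSpectrum A | IsClosed ({x} : Set _)} :=
      (isClosed_singleton_iff_isMaximal _).2 hm
    rw [hK] at this
    exact this
  have : p ∈ {x : PrimeSpectrum A | IsClosed ({x} : Set _)} := by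
    rw [hK]
    exact fun a ha => hp (hKJ ha)
  exact (isClosed_singleton_iff_isMaximal _).1 this

/-- key algebraic separation: for maximal `m₁ ≠ m₂` there is `a` with `a(1-a) ∈ Jac`,
`1 - a ∈ m₁`, `a ∈ m₂`. -/
lemma exists_sep_elt (hW : IsWLocal (PrimeSpectrum A)) (m₁ m₂ : Ideal A) [hm₁ : m₁.IsMaximal]
    [hm₂ : m₂.IsMaximal] (hne : m₁ ≠ m₂) :
    ∃ a : A, a * (1 - a) ∈ Ideal.jacobson (⊥ : Ideal A) ∧ 1 - a ∈ m₁ ∧ a ∈ m₂ := by
  classical
  -- pick x ∈ m₂ \ m₁
  obtain ⟨x, hx₂, hx₁⟩ : ∃ x, x ∈ m₂ ∧ x ∉ m₁ := by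
    by_contra h
    push Not at h
    exact hne (hm₂.eq_of_le hm₁.ne_top h).symm
  let S : Submonoid A :=
    { carrier := {s | ∃ (n : ℕ) (y : A), s = x ^ n * (1 - x * y)}
      one_mem' := ⟨0, 0, by simp⟩
      mul_mem' := by
        rintro _ _ ⟨n, y, rfl⟩ ⟨n', y', rfl⟩
        exact ⟨n + n', y + y' - x * y * y', by ring⟩ }
  have hS : ¬ Disjoint ((Ideal.jacobson (⊥ : Ideal A) : Ideal A) : Set A) (S : Set A) := by
    intro hdisj
    obtain ⟨p, hp, hJp, hpS⟩ := Ideal.exists_le_prime_disjoint _ S hdisj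
    have hmax : p.IsMaximal := isMaximal_of_jacobson_le hW ⟨p, hp⟩ hJp
    have hxp : x ∉ p := fun h => Set.disjoint_left.1 hpS h ⟨1, 0, by simp⟩
    obtain ⟨y, z, hz, hyz⟩ := hmax.exists_inv hxp
    -- y * x + z = 1 with z ∈ p
    have : 1 - x * y ∈ p := by
      have : 1 - x * y = z := by rw [← hyz]; ring
      rw [this]; exact hz
    exact Set.disjoint_left.1 hpS this ⟨0, y, by simp⟩
  rw [Set.not_disjoint_iff] at hS
  obtain ⟨_, hsJ, ⟨n, y, rfl⟩⟩ := hS
  have hrad : x * (1 - x * y) ∈ Ideal.jacobson (⊥ : Ideal A) := by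
    rw [Ideal.jacobson, Ideal.mem_sInf]
    rintro m ⟨-, hm⟩
    have h1 : x ^ n * (1 - x * y) ∈ m := by
      have := hsJ
      rw [SetLike.mem_coe, Ideal.jacobson, Ideal.mem_sInf] at this
      exact this ⟨bot_le, hm⟩
    rcases hm.isPrime.mem_or_mem h1 with h | h
    · exact Ideal.mul_mem_right _ _ (hm.isPrime.mem_of_pow_mem n h)
    · exact Ideal.mul_mem_left _ _ h
  refine ⟨x * y, ?_, ?_, Ideal.mul_mem_right _ _ hx₂⟩
  · have : x * y * (1 - x * y) = y * (x * (1 - x * y)) := by ring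
    rw [this]
    exact Ideal.mul_mem_left _ _ hrad
  · have h1 : x * (1 - x * y) ∈ m₁ := by
      have := hrad
      rw [Ideal.jacobson, Ideal.mem_sInf] at this
      exact this ⟨bot_le, hm₁⟩
    exact (hm₁.isPrime.mem_or_mem h1).resolve_left hx₁

/-- the multiplicative set `{c^n + j : j ∈ J}`. -/
def Sc (J : Ideal A) (c : A) : Submonoid A where
  carrier := {s | ∃ n : ℕ, ∃ i ∈ J, s = c ^ n + i}
  one_mem' := ⟨0, 0, J.zero_mem, by simp⟩
  mul_mem' := by
    rintro a b ⟨n, i, hi, rfl⟩ ⟨m, j, hj, rfl⟩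
    refine ⟨n + m, c ^ n * j + i * c ^ m + i * j, ?_, by ring⟩
    exact J.add_mem (J.add_mem (J.mul_mem_left _ hj) (J.mul_mem_right _ hi))
      (J.mul_mem_left _ hj)

lemma exists_max_of_disjoint_Sc (hW : IsWLocal (PrimeSpectrum A)) (c : A) (p : Ideal A) [p.IsPrime]
    (hdisj : Disjoint (p : Set A) (Sc (Ideal.jacobson (⊥ : Ideal A)) c : Set A)) :
    ∃ z : Ideal A, z.IsMaximal ∧ p ≤ z ∧ c ∉ z := by
  set J := Ideal.jacobson (⊥ : Ideal A)
  have hJ : Disjoint ((p ⊔ J : Ideal A) : Set A) (Submonoid.powers c : Set A) := by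
    rw [Set.disjoint_left]
    rintro a ha ⟨n, rfl⟩
    obtain ⟨b, hb, d, hd, hbd⟩ := Submodule.mem_sup.mp ha
    have hbS : b ∈ (Sc J c : Set A) := ⟨n, -d, J.neg_mem hd, by
      have hbd' : b + d = c ^ n := hbd
      rw [← hbd']; ring⟩
    exact Set.disjoint_left.mp hdisj hb hbS
  obtain ⟨q, hq, hle, hqd⟩ := Ideal.exists_le_prime_disjoint _ _ hJ
  refine ⟨q, isMaximal_of_jacobson_le hW ⟨q, hq⟩ (le_sup_right.trans hle), le_sup_left.trans hle, ?_⟩
  intro hc
  exact Set.disjoint_left.mp hqd hc (Submonoid.mem_powers c)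

lemma max_unique (hW : IsWLocal (PrimeSpectrum A)) (p z₁ z₂ : Ideal A) [hp : p.IsPrime]
    (h₁ : z₁.IsMaximal) (h₂ : z₂.IsMaximal) (hp₁ : p ≤ z₁) (hp₂ : p ≤ z₂) : z₁ = z₂ := by
  obtain ⟨y, -, hy⟩ := hW.2.2 ⟨p, hp⟩
  have e₁ := hy ⟨z₁, h₁.isPrime⟩ ⟨(isClosed_singleton_iff_isMaximal _).2 h₁,
    (le_iff_specializes ⟨p, hp⟩ ⟨z₁, h₁.isPrime⟩).1 hp₁⟩
  have e₂ := hy ⟨z₂, h₂.isPrime⟩ ⟨(isClosed_singleton_iff_isMaximal _).2 h₂,
    (le_iff_specializes ⟨p, hp⟩ ⟨z₂, h₂.isPrime⟩).1 hp₂⟩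
  have := e₁.trans e₂.symm
  exact congrArg PrimeSpectrum.asIdeal this

/-- two distinct closed points of a w-local spectrum are separated by a clopen set. -/
lemma exists_clopen_sep (hW : IsWLocal (PrimeSpectrum A)) (m₁ m₂ : Ideal A) [hm₁ : m₁.IsMaximal]
    [hm₂ : m₂.IsMaximal] (hne : m₁ ≠ m₂) :
    ∃ U : Set (PrimeSpectrum A), IsClopen U ∧ (⟨m₁, hm₁.isPrime⟩ : PrimeSpectrum A) ∈ U ∧
      (⟨m₂, hm₂.isPrime⟩ : PrimeSpectrum A) ∉ U := by
  classical
  obtain ⟨a, haJ, ha₁, ha₂⟩ := exists_sep_elt hW m₁ m₂ hne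
  set J := Ideal.jacobson (⊥ : Ideal A) with hJdef
  have hJle : ∀ z : Ideal A, z.IsMaximal → J ≤ z := fun z hz => by
    rw [hJdef, Ideal.jacobson]; exact sInf_le ⟨bot_le, hz⟩
  have hnotboth : ∀ z : Ideal A, z.IsMaximal → a ∈ z ∨ 1 - a ∈ z := fun z hz =>
    hz.isPrime.mem_or_mem (hJle z hz haJ)
  -- zero in the product
  have h0 : ∃ s₁ ∈ Sc J a, ∃ s₂ ∈ Sc J (1 - a), s₁ * s₂ = 0 := by
    by_contra hcon
    push Not at hcon
    have hdisj : Disjoint (((⊥ : Ideal A) : Ideal A) : Set A) ((Sc J a ⊔ Sc J (1 - a) : Submonoid A) : Set A) := by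
      rw [Set.disjoint_left]
      rintro x hx hxS
      rw [SetLike.mem_coe, Ideal.mem_bot] at hx
      obtain ⟨s₁, hs₁, s₂, hs₂, rfl⟩ := Submonoid.mem_sup.1 hxS
      exact hcon s₁ hs₁ s₂ hs₂ hx
    obtain ⟨p, hp, -, hpS⟩ := Ideal.exists_le_prime_disjoint _ _ hdisj
    have d₁ : Disjoint (p : Set A) (Sc J a : Set A) :=
      Set.disjoint_of_subset_right (fun x hx => (le_sup_left : Sc J a ≤ _) hx) hpS
    have d₂ : Disjoint (p : Set A) (Sc J (1 - a) : Set A) :=
      Set.disjoint_of_subset_right (fun x hx => (le_sup_right : Sc J (1 - a) ≤ _) hx) hpS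
    obtain ⟨z₁, hz₁, hpz₁, haz₁⟩ := exists_max_of_disjoint_Sc hW a p d₁
    obtain ⟨z₂, hz₂, hpz₂, haz₂⟩ := exists_max_of_disjoint_Sc hW (1 - a) p d₂
    have := max_unique hW p z₁ z₂ hz₁ hz₂ hpz₁ hpz₂
    subst this
    rcases hnotboth z₁ hz₁ with h | h
    · exact haz₁ h
    · exact haz₂ h
  obtain ⟨s₁, ⟨n, i, hi, rfl⟩, s₂, ⟨k, i', hi', rfl⟩, hprod⟩ := h0
  have key₁ : ∀ z : Ideal A, z.IsMaximal → a ∉ z → a ^ n + i ∉ z := by
    intro z hz haz hmem
    have : a ^ n ∈ z := by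
      have := z.sub_mem hmem (hJle z hz hi)
      simpa using this
    exact haz (hz.isPrime.mem_of_pow_mem n this)
  have key₂ : ∀ z : Ideal A, z.IsMaximal → 1 - a ∉ z → (1 - a) ^ k + i' ∉ z := by
    intro z hz haz hmem
    have : (1 - a) ^ k ∈ z := by
      have := z.sub_mem hmem (hJle z hz hi')
      simpa using this
    exact haz (hz.isPrime.mem_of_pow_mem k this)
  have hcompl : ((basicOpen (a ^ n + i) : Set (PrimeSpectrum A)))ᶜ =
      (basicOpen ((1 - a) ^ k + i') : Set (PrimeSpectrum A)) := by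
    ext p
    simp only [Set.mem_compl_iff, SetLike.mem_coe, mem_basicOpen, not_not]
    constructor
    · intro h1 h2
      obtain ⟨z, hz, hpz⟩ := Ideal.exists_le_maximal p.asIdeal p.2.ne_top
      rcases hnotboth z hz with h | h
      · -- a ∈ z so 1 - a ∉ z
        have h' : 1 - a ∉ z := fun h' => hz.ne_top ((Ideal.eq_top_iff_one _).2 (by
          have := z.add_mem h h'; simpa using this))
        exact key₂ z hz h' (hpz h2)
      · have h' : a ∉ z := fun h' => hz.ne_top ((Ideal.eq_top_iff_one _).2 (by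
          have := z.add_mem h' h; simpa using this))
        exact key₁ z hz h' (hpz h1)
    · intro h2
      have : (a ^ n + i) * ((1 - a) ^ k + i') ∈ p.asIdeal := by rw [hprod]; exact zero_mem _
      exact (p.2.mem_or_mem this).resolve_right h2
  refine ⟨basicOpen (a ^ n + i), ⟨?_, (basicOpen _).isOpen⟩, ?_, ?_⟩
  · rw [← isOpen_compl_iff, hcompl]
    exact (basicOpen _).isOpen
  · have h' : a ∉ m₁ := fun h' => hm₁.ne_top ((Ideal.eq_top_iff_one _).2 (by
      have := m₁.add_mem h' ha₁; simpa using this))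
    exact key₁ m₁ hm₁ h'
  · intro hmem
    have h' : 1 - a ∉ m₂ := fun h' => hm₂.ne_top ((Ideal.eq_top_iff_one _).2 (by
      have := m₂.add_mem ha₂ h'; simpa using this))
    have h2 : (⟨m₂, hm₂.isPrime⟩ : PrimeSpectrum A) ∈ (basicOpen ((1 - a) ^ k + i') : Set _) :=
      key₂ m₂ hm₂ h'
    rw [← hcompl] at h2
    exact h2 hmem

lemma closedPt_mk_injective (hW : IsWLocal (PrimeSpectrum A)) (x₁ x₂ : PrimeSpectrum A)
    (h₁ : IsClosed ({x₁} : Set (PrimeSpectrum A))) (h₂ : IsClosed ({x₂} : Set (PrimeSpectrum A)))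
    (h : (ConnectedComponents.mk x₁ : ConnectedComponents (PrimeSpectrum A)) = ConnectedComponents.mk x₂) :
    x₁ = x₂ := by
  by_contra hne
  have hm₁ : x₁.asIdeal.IsMaximal := (isClosed_singleton_iff_isMaximal _).1 h₁
  have hm₂ : x₂.asIdeal.IsMaximal := (isClosed_singleton_iff_isMaximal _).1 h₂
  obtain ⟨U, hU, hx₁, hx₂⟩ := exists_clopen_sep hW x₁.asIdeal x₂.asIdeal
    (fun h => hne (PrimeSpectrum.ext h))
  rw [ConnectedComponents.coe_eq_coe'] at h
  exact hx₂ (hU.connectedComponent_subset hx₁ (by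
    have : x₂ ∈ connectedComponent x₁ := by
      rw [← connectedComponent_eq h]
      exact mem_connectedComponent
    exact this))

end wlocal

section main

lemma mk_eq_of_specializes {X : Type u} [TopologicalSpace X] {x y : X} (h : x ⤳ y) :
    (ConnectedComponents.mk x : ConnectedComponents X) = ConnectedComponents.mk y := by
  rw [eq_comm, ConnectedComponents.coe_eq_coe']
  have : closure ({x} : Set X) ⊆ connectedComponent x :=
    (isPreconnected_singleton.closure).subset_connectedComponent (subset_closure rfl)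
  exact this (specializes_iff_mem_closure.1 h)

variable {A B : Type u} [CommRing A] [CommRing B] [Algebra A B]

lemma exists_closed_over (h2 : IsWLocal (PrimeSpectrum A))
    (h4 : IsWLocalMap (PrimeSpectrum.comap (algebraMap A B)))
    (h5 : Function.Bijective
      (PrimeSpectrum.continuous_comap (algebraMap A B)).connectedComponentsMap)
    (x : PrimeSpectrum A) (hx : IsClosed ({x} : Set (PrimeSpectrum A))) :
    ∃ y : PrimeSpectrum B, IsClosed ({y} : Set (PrimeSpectrum B)) ∧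
      PrimeSpectrum.comap (algebraMap A B) y = x := by
  obtain ⟨c, hc⟩ := h5.2 (ConnectedComponents.mk x)
  obtain ⟨y, rfl⟩ := ConnectedComponents.surjective_coe c
  obtain ⟨z, hz, hyz⟩ := Ideal.exists_le_maximal y.asIdeal y.2.ne_top
  have hz' : IsClosed ({(⟨z, hz.isPrime⟩ : PrimeSpectrum B)} : Set (PrimeSpectrum B)) :=
    (isClosed_singleton_iff_isMaximal _).2 hz
  have hspec : y ⤳ (⟨z, hz.isPrime⟩ : PrimeSpectrum B) :=
    (le_iff_specializes y ⟨z, hz.isPrime⟩).1 hyz
  refine ⟨⟨z, hz.isPrime⟩, hz', ?_⟩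
  apply closedPt_mk_injective h2 _ _ (h4.2 _ hz') hx
  rw [← hc, mk_eq_of_specializes hspec, Continuous.connectedComponentsMap_mk]

lemma closed_over_unique (h3 : IsWLocal (PrimeSpectrum B))
    (h5 : Function.Bijective
      (PrimeSpectrum.continuous_comap (algebraMap A B)).connectedComponentsMap)
    (y₁ y₂ : PrimeSpectrum B) (hy₁ : IsClosed ({y₁} : Set (PrimeSpectrum B)))
    (hy₂ : IsClosed ({y₂} : Set (PrimeSpectrum B)))
    (h : PrimeSpectrum.comap (algebraMap A B) y₁ = PrimeSpectrum.comap (algebraMap A B) y₂) :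
    y₁ = y₂ := by
  apply closedPt_mk_injective h3 _ _ hy₁ hy₂
  apply h5.1
  rw [Continuous.connectedComponentsMap_mk, Continuous.connectedComponentsMap_mk, h]

lemma le_of_comap_le (h2 : IsWLocal (PrimeSpectrum A)) (h3 : IsWLocal (PrimeSpectrum B))
    (h4 : IsWLocalMap (PrimeSpectrum.comap (algebraMap A B)))
    (h5 : Function.Bijective
      (PrimeSpectrum.continuous_comap (algebraMap A B)).connectedComponentsMap)
    (y : PrimeSpectrum B) (hy : IsClosed ({y} : Set (PrimeSpectrum B)))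
    (q : Ideal B) [hq : q.IsPrime]
    (hle : q.comap (algebraMap A B) ≤ y.asIdeal.comap (algebraMap A B)) : q ≤ y.asIdeal := by
  obtain ⟨z, hz, hqz⟩ := Ideal.exists_le_maximal q hq.ne_top
  have hz' : IsClosed ({(⟨z, hz.isPrime⟩ : PrimeSpectrum B)} : Set (PrimeSpectrum B)) :=
    (isClosed_singleton_iff_isMaximal _).2 hz
  have m₁ : (z.comap (algebraMap A B)).IsMaximal :=
    (isClosed_singleton_iff_isMaximal _).1 (h4.2 _ hz')
  have m₂ : (y.asIdeal.comap (algebraMap A B)).IsMaximal :=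
    (isClosed_singleton_iff_isMaximal _).1 (h4.2 _ hy)
  have e := max_unique h2 (q.comap (algebraMap A B)) _ _ m₁ m₂ (Ideal.comap_mono hqz) hle
  have : (⟨z, hz.isPrime⟩ : PrimeSpectrum B) = y :=
    closed_over_unique h3 h5 _ _ hz' hy (PrimeSpectrum.ext e)
  rw [← this]
  exact hqz

end main

/-- Let A -> B identify local rings, with Spec A and Spec B w-local, Spec B -> Spec A w-local, and
pi_0(Spec B) -> pi_0(Spec A) bijective. Then A -> B is bijective. -/
theorem result (A B : Type u) [CommRing A] [CommRing B]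
    [Algebra A B] (h1 : EtPBC.IdentifiesLocalRings A B) (h2 : ProEtW.IsWLocal (PrimeSpectrum A))
    (h3 : ProEtW.IsWLocal (PrimeSpectrum B))
    (h4 : ProEtW.IsWLocalMap (PrimeSpectrum.comap (algebraMap A B)))
    (h5 : Function.Bijective
      (PrimeSpectrum.continuous_comap (algebraMap A B)).connectedComponentsMap) :
    Function.Bijective (algebraMap A B) := by
  classical
  -- for each maximal ideal `m` of `A` a closed point of `Spec B` over it
  have key : ∀ m : Ideal A, m.IsMaximal → ∃ y : PrimeSpectrum B,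
      IsClosed ({y} : Set (PrimeSpectrum B)) ∧ y.asIdeal.comap (algebraMap A B) = m := by
    intro m hm
    obtain ⟨y, hy, hyx⟩ := exists_closed_over h2 h4 h5 ⟨m, hm.isPrime⟩
      ((PrimeSpectrum.isClosed_singleton_iff_isMaximal _).2 hm)
    exact ⟨y, hy, congrArg PrimeSpectrum.asIdeal hyx⟩
  constructor
  · rw [injective_iff_map_eq_zero]
    intro a ha
    by_contra hne
    have hann : (Ideal.span {a}).annihilator ≠ ⊤ := by
      intro h
      have : (1 : A) ∈ (Ideal.span {a}).annihilator := by rw [h]; trivial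
      rw [Submodule.mem_annihilator_span_singleton] at this
      exact hne (by simpa using this)
    obtain ⟨m, hm, hle⟩ := Ideal.exists_le_maximal _ hann
    obtain ⟨y, hy, rfl⟩ := key m hm
    have hinj := (h1 y).1
    have h0 : algebraMap A (Localization.AtPrime (y.asIdeal.comap (algebraMap A B))) a = 0 := by
      apply hinj
      rw [Localization.localRingHom_to_map, ha, map_zero, map_zero]
    rw [IsLocalization.map_eq_zero_iff (y.asIdeal.comap (algebraMap A B)).primeCompl] at h0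
    obtain ⟨s, hs⟩ := h0
    have : (s : A) ∈ (Ideal.span {a}).annihilator := by
      rw [Submodule.mem_annihilator_span_singleton]
      exact hs
    exact s.2 (hle this)
  · intro b
    let 𝔞 : Ideal A :=
      { carrier := {a | ∃ a', algebraMap A B a * b = algebraMap A B a'}
        zero_mem' := ⟨0, by simp⟩
        add_mem' := by
          rintro a₁ a₂ ⟨a₁', h₁⟩ ⟨a₂', h₂⟩
          exact ⟨a₁' + a₂', by rw [map_add, map_add, add_mul, h₁, h₂]⟩
        smul_mem' := by
          rintro c a ⟨a', h⟩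
          exact ⟨c * a', by rw [smul_eq_mul, map_mul, map_mul, mul_assoc, h]⟩ }
    by_cases htop : 𝔞 = ⊤
    · have : (1 : A) ∈ 𝔞 := by rw [htop]; trivial
      obtain ⟨a', ha'⟩ := this
      exact ⟨a', by rw [← ha', map_one, one_mul]⟩
    exfalso
    obtain ⟨m, hm, hle⟩ := Ideal.exists_le_maximal _ htop
    obtain ⟨y, hy, rfl⟩ := key m hm
    obtain ⟨x, hx⟩ := (h1 y).2 (algebraMap B (Localization.AtPrime y.asIdeal) b)
    obtain ⟨a, s, rfl⟩ := IsLocalization.exists_mk'_eq
      (y.asIdeal.comap (algebraMap A B)).primeCompl x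
    rw [Localization.localRingHom_mk', IsLocalization.mk'_eq_iff_eq_mul, ← map_mul,
      IsLocalization.eq_iff_exists y.asIdeal.primeCompl] at hx
    obtain ⟨t, ht⟩ := hx
    -- `ht : t * φ a = t * (b * φ s)`
    have hnd : ¬ Disjoint ((Ideal.span {(t : B)} : Ideal B) : Set B)
        (((y.asIdeal.comap (algebraMap A B)).primeCompl.map (algebraMap A B) : Submonoid B) :
          Set B) := by
      intro hdisj
      obtain ⟨q, hq, hqt, hqd⟩ := Ideal.exists_le_prime_disjoint _ _ hdisj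
      have hle' : q.comap (algebraMap A B) ≤ y.asIdeal.comap (algebraMap A B) := by
        intro c hc
        by_contra hcn
        exact Set.disjoint_left.1 hqd hc ⟨c, hcn, rfl⟩
      have := le_of_comap_le h2 h3 h4 h5 y hy q hle'
      exact t.2 (this (hqt (Ideal.subset_span rfl)))
    rw [Set.not_disjoint_iff] at hnd
    obtain ⟨_, hx₁, ⟨s₂, hs₂, rfl⟩⟩ := hnd
    obtain ⟨b₁, hb₁⟩ := Ideal.mem_span_singleton'.1 hx₁
    have hmem : s₂ * (s : A) ∈ 𝔞 := by
      refine ⟨s₂ * a, ?_⟩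
      rw [map_mul, map_mul, ← hb₁]
      calc b₁ * (t : B) * algebraMap A B (s : A) * b
          = b₁ * ((t : B) * (b * algebraMap A B (s : A))) := by ring
        _ = b₁ * ((t : B) * algebraMap A B a) := by rw [← ht]
        _ = b₁ * (t : B) * algebraMap A B a := by ring
    rcases (Ideal.IsPrime.mem_or_mem (inferInstance : (y.asIdeal.comap (algebraMap A B)).IsPrime)
      (hle hmem)) with h | h
    · exact hs₂ h
    · exact s.2 h

end Groth.Agent.S0699
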