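import Groth.Statements.S0701
-- import your own Groth.Agent.* helpers here

set_option autoImplicit false
open CategoryTheory CategoryTheory.Limits AlgebraicGeometry Opposite Topology
universe u
open ProEtW

namespace Groth.Agent.S0701

/-- If no two distinct primes of `B` are comparable, then every `V(f)` is open. -/
theorem isOpen_zeroLocus_singleton {B : Type u} [CommRing B]
    (hB : ∀ q q' : PrimeSpectrum B, q ≤ q' → q = q') (f : B) :
    IsOpen (PrimeSpectrum.zeroLocus ({f} : Set B)) := by
  rw [isOpen_iff_forall_mem_open]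
  intro p hp
  have hfp : f ∈ p.asIdeal := by simpa using hp
  have hmin : p.asIdeal ∈ (⊥ : Ideal B).minimalPrimes := by
    refine ⟨⟨p.2, bot_le⟩, ?_⟩
    rintro q ⟨hq, -⟩ hqp
    have : (⟨q, hq⟩ : PrimeSpectrum B) = p := hB ⟨q, hq⟩ p hqp
    rw [← this]
  have hrad := IsLocalization.AtPrime.radical_map_of_mem_minimalPrimes
    (A := Localization.AtPrime p.asIdeal) p.asIdeal ⊥ hmin
  have hmem : algebraMap B (Localization.AtPrime p.asIdeal) f ∈
      ((⊥ : Ideal B).map (algebraMap B (Localization.AtPrime p.asIdeal))).radical := by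
    rw [hrad]
    exact Ideal.mem_map_of_mem _ hfp
  obtain ⟨n, hn⟩ := hmem
  rw [Ideal.map_bot, Ideal.mem_bot, ← map_pow,
    IsLocalization.map_eq_zero_iff p.asIdeal.primeCompl] at hn
  obtain ⟨s, hs⟩ := hn
  refine ⟨PrimeSpectrum.basicOpen (s : B), ?_, (PrimeSpectrum.basicOpen (s : B)).2, s.2⟩
  intro q hq
  have hq' : (s : B) ∉ q.asIdeal := hq
  have h0 : (s : B) * f ^ n ∈ q.asIdeal := by rw [hs]; exact q.asIdeal.zero_mem
  have h1 : f ^ n ∈ q.asIdeal := (q.2.mem_or_mem h0).resolve_left hq'
  have h2 : f ∈ q.asIdeal := q.2.mem_of_pow_mem n h1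
  simpa using h2

theorem t2Space_of_incomparable {B : Type u} [CommRing B]
    (hB : ∀ q q' : PrimeSpectrum B, q ≤ q' → q = q') : T2Space (PrimeSpectrum B) := by
  refine ⟨fun x y hxy => ?_⟩
  have hnle : ¬ x.asIdeal ≤ y.asIdeal := fun hle => hxy (hB x y hle)
  obtain ⟨f, hfx, hfy⟩ := SetLike.not_le_iff_exists.mp hnle
  refine ⟨PrimeSpectrum.zeroLocus ({f} : Set B), PrimeSpectrum.basicOpen f,
    isOpen_zeroLocus_singleton hB f, (PrimeSpectrum.basicOpen f).2, ?_, hfy, ?_⟩
  · simpa using hfx
  · rw [Set.disjoint_left]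
    intro q hq hq'
    have : f ∈ q.asIdeal := by simpa using hq
    exact hq' this


/-- Let Spec A be profinite (quasi-compact, Hausdorff, totally disconnected) and A -> B a ring map such
that two distinct primes of B over the same prime of A are never comparable. Then Spec B is
profinite. -/
theorem result (A B : Type u) [CommRing A] [CommRing B]
    [Algebra A B] [T2Space (PrimeSpectrum A)] [TotallyDisconnectedSpace (PrimeSpectrum A)]
    (h : ∀ q q' : PrimeSpectrum B, q.asIdeal.comap (algebraMap A B) = q'.asIdeal.comap (algebraMap A B) →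
      q.asIdeal ≤ q'.asIdeal → q = q') :
    ProEtW.IsProfinite (PrimeSpectrum B) := by
  have hB : ∀ q q' : PrimeSpectrum B, q ≤ q' → q = q' := by
    intro q q' hle
    refine h q q' ?_ hle
    have h1 : PrimeSpectrum.comap (algebraMap A B) q ≤ PrimeSpectrum.comap (algebraMap A B) q' :=
      Ideal.comap_mono hle
    rw [PrimeSpectrum.le_iff_specializes] at h1
    exact congrArg PrimeSpectrum.asIdeal h1.eq
  have : T2Space (PrimeSpectrum B) := t2Space_of_incomparable hB
  exact ⟨inferInstance, inferInstance, inferInstance⟩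

end Groth.Agent.S0701
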