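import Groth.Statements.S0737
import Groth.Agent.Lib.H15ProfiniteLoc

set_option autoImplicit false
open CategoryTheory CategoryTheory.Limits AlgebraicGeometry Opposite Topology
universe u
open ProEtW

namespace Groth.Agent.S0737

open Groth.Agent.Lib.H15ProfiniteLoc Groth.Agent.Lib.H15LocalRingHom

/-- primes over the same prime are incomparable for algebraic residue field extensions. -/
lemma eq_of_le_of_comap_eq {A B : Type u} [CommRing A] [CommRing B] [Algebra A B]
    (h : ProEtW.AlgebraicResidueExtensions A B) (q q' : PrimeSpectrum B)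
    (hcomap : q.asIdeal.comap (algebraMap A B) = q'.asIdeal.comap (algebraMap A B))
    (hle : q.asIdeal ≤ q'.asIdeal) : q = q' := by
  by_contra hne
  have hnle : ¬ q'.asIdeal ≤ q.asIdeal :=
    fun h' => hne (PrimeSpectrum.ext (le_antisymm hle h'))
  obtain ⟨x, hxq', hxq⟩ := SetLike.not_le_iff_exists.mp hnle
  have := h q.asIdeal
  have hx0 : Ideal.Quotient.mk q.asIdeal x ≠ 0 := by
    rwa [Ne, Ideal.Quotient.eq_zero_iff_mem]
  have hxP : Ideal.Quotient.mk q.asIdeal x ∈ q'.asIdeal.map (Ideal.Quotient.mk q.asIdeal) :=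
    Ideal.mem_map_of_mem _ hxq'
  have halg : IsAlgebraic (A ⧸ q.asIdeal.comap (algebraMap A B))
      (Ideal.Quotient.mk q.asIdeal x) := Algebra.IsAlgebraic.isAlgebraic _
  have hne' := Ideal.comap_ne_bot_of_algebraic_mem hx0 hxP halg
  apply hne'
  rw [eq_bot_iff]
  intro y hy
  obtain ⟨a, rfl⟩ := Ideal.Quotient.mk_surjective y
  have hy' : Ideal.Quotient.mk q.asIdeal (algebraMap A B a) ∈
      q'.asIdeal.map (Ideal.Quotient.mk q.asIdeal) := hy
  rw [Ideal.mem_quotient_iff_mem hle] at hy'
  have ha : a ∈ q.asIdeal.comap (algebraMap A B) := by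
    rw [hcomap]; exact hy'
  rw [Ideal.mem_bot, Ideal.Quotient.eq_zero_iff_mem]
  exact ha

/-- `V(J)` is homeomorphic to `Spec (B ⧸ J)`. -/
noncomputable def zeroLocusHomeo {B : Type u} [CommRing B] (J : Ideal B) :
    PrimeSpectrum (B ⧸ J) ≃ₜ ↥(PrimeSpectrum.zeroLocus (R := B) J) :=
  ((PrimeSpectrum.isClosedEmbedding_comap_of_surjective (B ⧸ J) (Ideal.Quotient.mk J)
    Ideal.Quotient.mk_surjective).isEmbedding.toHomeomorph).trans
    (Homeomorph.setCongr (by
      rw [_root_.range_comap_of_surjective (B ⧸ J) (Ideal.Quotient.mk J)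
        Ideal.Quotient.mk_surjective, Ideal.mk_ker]))

lemma zeroLocusHomeo_apply {B : Type u} [CommRing B] (J : Ideal B) (x : PrimeSpectrum (B ⧸ J)) :
    (zeroLocusHomeo J x : PrimeSpectrum B) = PrimeSpectrum.comap (Ideal.Quotient.mk J) x := rfl

/-- auxiliary: the `A`-algebra structure on `C` and the two statements about `Spec C → Spec A`. -/
lemma aux (A B C : Type u) [CommRing A] [CommRing B] [CommRing C] [Algebra A B] [Algebra B C]
    (I : Ideal A)
    (hI0 : PrimeSpectrum.zeroLocus (R := A) I = ProEtW.closedPoints (PrimeSpectrum A))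
    (hcl : ProEtW.closedPoints (PrimeSpectrum C) =
      PrimeSpectrum.zeroLocus (R := C) ((I.map (algebraMap A B)).map (algebraMap B C))) :
    ∃ (_ : Algebra A C) (_ : IsScalarTower A B C),
      ProEtW.IsWLocalMap (PrimeSpectrum.comap (algebraMap A C)) ∧
      ProEtW.closedPoints (PrimeSpectrum C) =
        PrimeSpectrum.comap (algebraMap A C) ⁻¹' ProEtW.closedPoints (PrimeSpectrum A) := by
  let _ : Algebra A C := ((algebraMap B C).comp (algebraMap A B)).toAlgebra
  have hst : IsScalarTower A B C := IsScalarTower.of_algebraMap_eq (fun _ => rfl)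
  have hpre : ProEtW.closedPoints (PrimeSpectrum C) =
      PrimeSpectrum.comap (algebraMap A C) ⁻¹' ProEtW.closedPoints (PrimeSpectrum A) := by
    rw [hcl, ← hI0]
    ext y
    rw [Set.mem_preimage, PrimeSpectrum.mem_zeroLocus, PrimeSpectrum.mem_zeroLocus,
      SetLike.coe_subset_coe, SetLike.coe_subset_coe, Ideal.map_le_iff_le_comap,
      Ideal.map_le_iff_le_comap]
    rfl
  refine ⟨inferInstance, hst, ⟨isSpectralMap_comap _, fun y hy => ?_⟩, hpre⟩
  have : y ∈ ProEtW.closedPoints (PrimeSpectrum C) := hy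
  rw [hpre] at this
  exact this

/-- Let Spec A be w-local with radical ideal I cutting out its closed points, and A -> B inducing
algebraic residue field extensions. Then (1) every point of V(IB) is closed in Spec B, and (2) there
is an ind-Zariski B-algebra C with B/IB -> C/IC bijective, Spec C w-local, Spec C -> Spec A w-local,
and closed points of Spec C exactly the points over closed points of Spec A. -/
theorem result (A B : Type u) [CommRing A]
    [CommRing B] [Algebra A B] (hA : ProEtW.IsWLocal (PrimeSpectrum A)) (I : Ideal A) (hI : I.IsRadical)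
    (hI0 : PrimeSpectrum.zeroLocus (R := A) I = ProEtW.closedPoints (PrimeSpectrum A))
    (h : ProEtW.AlgebraicResidueExtensions A B) :
    PrimeSpectrum.zeroLocus (R := B) (I.map (algebraMap A B)) ⊆ ProEtW.closedPoints (PrimeSpectrum B) ∧
    ∃ (C : Type u) (_ : CommRing C) (_ : Algebra B C) (_ : Algebra A C) (_ : IsScalarTower A B C),
      EtPBC.IsIndZariski B C ∧
      Function.Bijective (Ideal.quotientMap ((I.map (algebraMap A B)).map (algebraMap B C))
        (algebraMap B C) Ideal.le_comap_map) ∧
      ProEtW.IsWLocal (PrimeSpectrum C) ∧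
      ProEtW.IsWLocalMap (PrimeSpectrum.comap (algebraMap A C)) ∧
      ProEtW.closedPoints (PrimeSpectrum C) =
        PrimeSpectrum.comap (algebraMap A C) ⁻¹' ProEtW.closedPoints (PrimeSpectrum A) := by
  set J := I.map (algebraMap A B) with hJ
  -- points of `V(J)` lie over closed points
  have hover : ∀ q : PrimeSpectrum B, q ∈ PrimeSpectrum.zeroLocus (R := B) J →
      (q.asIdeal.comap (algebraMap A B)).IsMaximal := by
    intro q hq
    have h1 : PrimeSpectrum.comap (algebraMap A B) q ∈ PrimeSpectrum.zeroLocus (R := A) I := by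
      rw [PrimeSpectrum.mem_zeroLocus, SetLike.coe_subset_coe] at hq ⊢
      exact Ideal.map_le_iff_le_comap.1 hq
    rw [hI0] at h1
    exact (PrimeSpectrum.isClosed_singleton_iff_isMaximal _).1 h1
  -- incomparability in `V(J)`
  have hinc : ∀ q q' : PrimeSpectrum B, q ∈ PrimeSpectrum.zeroLocus (R := B) J → q ≤ q' →
      q = q' := by
    intro q q' hq hle
    have hq' : q' ∈ PrimeSpectrum.zeroLocus (R := B) J := by
      rw [PrimeSpectrum.mem_zeroLocus] at hq ⊢
      exact hq.trans hle
    refine eq_of_le_of_comap_eq h q q' ?_ hle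
    exact (hover q hq).eq_of_le (hover q' hq').ne_top (Ideal.comap_mono hle)
  have hincB : ∀ q q' : PrimeSpectrum (B ⧸ J), q ≤ q' → q = q' := by
    intro q q' hle
    apply PrimeSpectrum.comap_injective_of_surjective (Ideal.Quotient.mk J)
      Ideal.Quotient.mk_surjective
    refine hinc _ _ (zeroLocusHomeo J q).2 ?_
    exact Ideal.comap_mono hle
  have hT2 : T2Space (PrimeSpectrum (B ⧸ J)) :=
    Groth.Agent.S0701.t2Space_of_incomparable (B := B ⧸ J) hincB
  have hprof : ProEtW.IsProfinite (PrimeSpectrum.zeroLocus (R := B) J) :=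
    ⟨(zeroLocusHomeo J).compactSpace, (zeroLocusHomeo J).t2Space,
      (zeroLocusHomeo J).totallyDisconnectedSpace⟩
  have : CompactSpace (Z B J) := hprof.1
  have : T2Space (Z B J) := hprof.2.1
  have : TotallyDisconnectedSpace (Z B J) := hprof.2.2
  refine ⟨?_, ?_⟩
  · intro q hq
    have h1 : IsClosed ({(⟨q, hq⟩ : Z B J)} : Set (Z B J)) := isClosed_singleton
    have := (PrimeSpectrum.isClosed_zeroLocus (R := B) (J : Set B)).isClosedMap_subtype_val _ h1
    rwa [Set.image_singleton] at this
  · obtain ⟨alg, hst, h1, h2⟩ := aux A B (Bz B J) I hI0 (closedPoints_eq (A := B) (I := J))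
    exact ⟨Bz B J, inferInstance, inferInstance, alg, hst, isIndZariski B J,
      bijective_quotientMap B J, isWLocal, h1, h2⟩

end Groth.Agent.S0737
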