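import Groth.Statements.S0704
import Groth.Agent.Lib.SpectralPi0Fib33

set_option autoImplicit false
open Topology
universe u
open ProEtW

namespace Groth.Agent.S0704

open Groth.Agent.Lib

/-- With X, T, g and the fibre product Y of X and T over pi_0(X) as in the first part, if X is moreover
w-local then Y is w-local, the projection Y -> X is w-local, and the closed points of Y are exactly
the points mapping to closed points of X. -/
theorem result (X T : Type u) [TopologicalSpace X]
    [TopologicalSpace T] [CompactSpace T] [T2Space T] [TotallyDisconnectedSpace T]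
    (hX : ProEtW.IsWLocal X) (g : C(T, _root_.ConnectedComponents X)) :
    ProEtW.IsWLocal {p : X × T // _root_.ConnectedComponents.mk p.1 = g p.2} ∧
      ProEtW.IsWLocalMap (fun y : {p : X × T // _root_.ConnectedComponents.mk p.1 = g p.2} => y.1.1) ∧
      ProEtW.closedPoints {p : X × T // _root_.ConnectedComponents.mk p.1 = g p.2} =
        (fun y : {p : X × T // _root_.ConnectedComponents.mk p.1 = g p.2} => y.1.1) ⁻¹' ProEtW.closedPoints X := by
  obtain ⟨hsp, hcl, hspec⟩ := hX
  have hpts : ProEtW.closedPoints {p : X × T // _root_.ConnectedComponents.mk p.1 = g p.2} =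
      (fun y : {p : X × T // _root_.ConnectedComponents.mk p.1 = g p.2} => y.1.1) ⁻¹'
        ProEtW.closedPoints X := by
    ext y
    exact SpectralPi0Fib33.isClosed_singleton_fib_iff g y
  have hcont : Continuous
      (fun y : {p : X × T // _root_.ConnectedComponents.mk p.1 = g p.2} => y.1.1) :=
    continuous_fst.comp continuous_subtype_val
  refine ⟨⟨SpectralPi0Fib33.spectralSpace_fib g, ?_, ?_⟩, ⟨SpectralPi0Fib33.isSpectralMap_fst_fib g, ?_⟩,
    hpts⟩
  · have : {y : {p : X × T // _root_.ConnectedComponents.mk p.1 = g p.2} | IsClosed ({y} : Set _)} =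
        (fun y : {p : X × T // _root_.ConnectedComponents.mk p.1 = g p.2} => y.1.1) ⁻¹'
          {x : X | IsClosed ({x} : Set X)} := hpts
    rw [this]
    exact hcl.preimage hcont
  · intro y
    obtain ⟨x₀, ⟨hx₀c, hx₀s⟩, huniq⟩ := hspec y.1.1
    have hmem : _root_.ConnectedComponents.mk x₀ = g y.1.2 := by
      rw [SpectralPi0Fib33.mk_eq_mk_of_specializes hx₀s]; exact y.2
    refine ⟨⟨(x₀, y.1.2), hmem⟩, ⟨?_, ?_⟩, ?_⟩
    · exact (SpectralPi0Fib33.isClosed_singleton_fib_iff g _).mpr hx₀c
    · exact (SpectralPi0Fib33.specializes_fib_iff g _ _).mpr ⟨hx₀s, rfl⟩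
    · rintro y₁ ⟨hy₁c, hy₁s⟩
      obtain ⟨h1, h2⟩ := (SpectralPi0Fib33.specializes_fib_iff g _ _).mp hy₁s
      have := huniq y₁.1.1 ⟨(SpectralPi0Fib33.isClosed_singleton_fib_iff g _).mp hy₁c, h1⟩
      exact Subtype.ext (Prod.ext this h2.symm)
  · intro y hy
    exact (SpectralPi0Fib33.isClosed_singleton_fib_iff g y).mp hy

end Groth.Agent.S0704
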