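import Groth.Statements.S9436
import Mathlib.RingTheory.Smooth.StandardSmoothOfFree
import Mathlib.RingTheory.Extension.Presentation.Submersive

set_option autoImplicit false
universe u
open CAlg

namespace Groth.Agent.S9436

open TensorProduct MvPolynomial Algebra

/-- universal property of a presentation. -/
theorem exists_algHom_of_presentation {R₀ Sb : Type u} [CommRing R₀] [CommRing Sb] [Algebra R₀ Sb]
    {ι σ : Type} (P : Algebra.Presentation R₀ Sb ι σ) {C : Type u} [CommRing C] [Algebra R₀ C]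
    (c : ι → C) (hc : ∀ j, aeval c (P.relation j) = 0) :
    ∃ χ : Sb →ₐ[R₀] C, ∀ p : MvPolynomial ι R₀, χ (aeval P.val p) = aeval c p := by
  have hsurj : Function.Surjective (aeval (R := R₀) P.val) := fun s =>
    ⟨P.σ s, P.aeval_val_σ s⟩
  let e := Ideal.quotientKerAlgEquivOfSurjective hsurj
  have hker : ∀ a ∈ RingHom.ker (aeval (R := R₀) P.val), aeval c a = 0 := by
    intro a ha
    have h1 : RingHom.ker (aeval (R := R₀) P.val) ≤ RingHom.ker (aeval (R := R₀) c) := by
      rw [← P.ker_eq_ker_aeval_val, ← P.span_range_relation_eq_ker, Ideal.span_le]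
      rintro _ ⟨j, rfl⟩
      exact hc j
    exact h1 ha
  refine ⟨(Ideal.Quotient.liftₐ _ (aeval c) hker).comp e.symm.toAlgHom, fun p => ?_⟩
  have : e.symm (aeval P.val p) = Ideal.Quotient.mk _ p := by
    rw [AlgEquiv.symm_apply_eq]
    rfl
  change Ideal.Quotient.liftₐ _ (aeval c) hker (e.symm (aeval P.val p)) = _
  rw [this]
  rfl


noncomputable section

set_option linter.unusedSectionVars false

variable {R R₀ Sb : Type u} [CommRing R] [CommRing R₀] [Algebra R R₀] [CommRing Sb]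
  [Algebra R₀ Sb] [Algebra R Sb] [IsScalarTower R R₀ Sb]
  {ι σ : Type} [Finite ι] [Finite σ] (Pb : SubmersivePresentation R₀ Sb ι σ)
  (rel : σ → MvPolynomial ι R)

/-- the non-localized lift. -/
abbrev S₁ : Type u := MvPolynomial ι R ⧸ Ideal.span (Set.range rel)

/-- the naive presentation of `S₁`. -/
def P₁ : PreSubmersivePresentation R (S₁ rel) ι σ :=
  PreSubmersivePresentation.naive (v := rel) Pb.map Pb.map_inj

/-- the jacobian. -/
def Δ₁ : S₁ rel := (P₁ Pb rel).jacobian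

/-- the lift. -/
abbrev SS : Type u := Localization.Away (Δ₁ Pb rel)

/-- the composed presentation. -/
def QP : PreSubmersivePresentation R (SS Pb rel) (Unit ⊕ ι) (Unit ⊕ σ) :=
  (PreSubmersivePresentation.localizationAway (SS Pb rel) (Δ₁ Pb rel)).comp (P₁ Pb rel)

theorem isUnit_jacobian_QP : IsUnit (QP Pb rel).jacobian := by
  rw [QP, PreSubmersivePresentation.comp_jacobian_eq_jacobian_smul_jacobian,
    PreSubmersivePresentation.localizationAway_jacobian, Algebra.smul_def]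
  have : IsUnit (algebraMap (S₁ rel) (SS Pb rel) (Δ₁ Pb rel)) :=
    IsLocalization.Away.algebraMap_isUnit _
  exact this.mul this

theorem dimension_QP (h0 : Pb.dimension = 0) : (QP Pb rel).dimension = 0 := by
  rw [QP, PreSubmersivePresentation.dimension_comp_eq_dimension_add_dimension,
    PreSubmersivePresentation.localizationAway, Presentation.localizationAway_dimension_zero,
    zero_add]
  exact h0

theorem etale_SS (h0 : Pb.dimension = 0) : Algebra.Etale R (SS Pb rel) := by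
  rw [Etale.iff_isStandardSmoothOfRelativeDimension_zero]
  exact SubmersivePresentation.isStandardSmoothOfRelativeDimension
    (⟨QP Pb rel, isUnit_jacobian_QP Pb rel⟩ : SubmersivePresentation R (SS Pb rel) _ _)
    (dimension_QP Pb rel h0)


variable (hrel : ∀ j, MvPolynomial.map (algebraMap R R₀) (rel j) = Pb.relation j)

include hrel in
theorem aeval_val_rel (j : σ) : aeval Pb.val (rel j) = 0 := by
  rw [← MvPolynomial.aeval_map_algebraMap R₀, hrel, Pb.aeval_val_relation]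

/-- `S₁ → Sb`. -/
def ψ₁ : S₁ rel →ₐ[R] Sb :=
  Ideal.Quotient.liftₐ _ (aeval Pb.val) (by
    intro a ha
    have h1 : Ideal.span (Set.range rel) ≤ RingHom.ker (aeval (R := R) Pb.val) := by
      rw [Ideal.span_le]
      rintro _ ⟨j, rfl⟩
      exact aeval_val_rel Pb rel hrel j
    exact h1 ha)

theorem ψ₁_mk (p : MvPolynomial ι R) :
    ψ₁ Pb rel hrel (Ideal.Quotient.mk _ p) = aeval Pb.val p := rfl

theorem ψ₁_Δ₁ : ψ₁ Pb rel hrel (Δ₁ Pb rel) = Pb.jacobian := by
  classical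
  cases nonempty_fintype σ
  rw [Δ₁, PreSubmersivePresentation.jacobian_eq_jacobiMatrix_det,
    PreSubmersivePresentation.jacobian_eq_jacobiMatrix_det]
  change ψ₁ Pb rel hrel (Ideal.Quotient.mk _ (P₁ Pb rel).jacobiMatrix.det) = _
  rw [ψ₁_mk, ← MvPolynomial.aeval_map_algebraMap R₀, Generators.algebraMap_apply]
  congr 1
  rw [RingHom.map_det]
  congr 1
  ext i j : 1
  rw [RingHom.mapMatrix_apply, Matrix.map_apply, P₁, PreSubmersivePresentation.jacobiMatrix_naive,
    PreSubmersivePresentation.jacobiMatrix_apply, ← hrel, MvPolynomial.pderiv_map]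


/-- `SS → Sb`. -/
def ψ₀ : SS Pb rel →ₐ[R] Sb :=
  IsLocalization.liftAlgHom (M := Submonoid.powers (Δ₁ Pb rel)) (f := ψ₁ Pb rel hrel) (by
    rintro ⟨_, n, rfl⟩
    rw [map_pow, ψ₁_Δ₁]
    exact Pb.jacobian_isUnit.pow n)

theorem ψ₀_algebraMap (x : S₁ rel) :
    ψ₀ Pb rel hrel (algebraMap (S₁ rel) (SS Pb rel) x) = ψ₁ Pb rel hrel x := by
  rw [ψ₀, IsLocalization.liftAlgHom_apply, IsLocalization.lift_eq]
  rfl

/-- the image of the variable `X i` in `SS`. -/
def xx (i : ι) : SS Pb rel := algebraMap (S₁ rel) (SS Pb rel) (Ideal.Quotient.mk _ (X i))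

theorem ψ₀_xx (i : ι) : ψ₀ Pb rel hrel (xx Pb rel i) = Pb.val i := by
  rw [xx, ψ₀_algebraMap, ψ₁_mk, aeval_X]

/-- `MvPolynomial ι R → SS`. -/
def θ : MvPolynomial ι R →ₐ[R] SS Pb rel :=
  (IsScalarTower.toAlgHom R (S₁ rel) (SS Pb rel)).comp (Ideal.Quotient.mkₐ R _)

theorem θ_eq_aeval : θ Pb rel = aeval (R := R) (xx Pb rel) := by
  apply MvPolynomial.algHom_ext
  intro i
  rw [aeval_X]
  rfl

theorem aeval_xx_rel (j : σ) : aeval (R := R) (xx Pb rel) (rel j) = 0 := by
  rw [← θ_eq_aeval]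
  change algebraMap (S₁ rel) (SS Pb rel) (Ideal.Quotient.mk _ (rel j)) = 0
  have : Ideal.Quotient.mk (Ideal.span (Set.range rel)) (rel j) = 0 :=
    Ideal.Quotient.eq_zero_iff_mem.mpr (Ideal.subset_span ⟨j, rfl⟩)
  rw [this, map_zero]

/-- the map `R₀ ⊗ SS → Sb`. -/
def ψ : R₀ ⊗[R] SS Pb rel →ₐ[R₀] Sb :=
  Algebra.TensorProduct.productLeftAlgHom (Algebra.ofId R₀ Sb) (ψ₀ Pb rel hrel)

theorem ψ_tmul (a : R₀) (s : SS Pb rel) :
    ψ Pb rel hrel (a ⊗ₜ[R] s) = algebraMap R₀ Sb a * ψ₀ Pb rel hrel s := by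
  rw [ψ, Algebra.TensorProduct.productLeftAlgHom, Algebra.TensorProduct.lift_tmul]
  rfl

include hrel in
theorem exists_χ : ∃ χ : Sb →ₐ[R₀] R₀ ⊗[R] SS Pb rel, ∀ p : MvPolynomial ι R₀,
    χ (aeval Pb.val p) = aeval (fun i => (1 : R₀) ⊗ₜ[R] xx Pb rel i) p := by
  apply exists_algHom_of_presentation Pb.toPresentation
  intro j
  rw [← hrel, MvPolynomial.aeval_map_algebraMap]
  have := MvPolynomial.comp_aeval_apply (xx Pb rel)
    (Algebra.TensorProduct.includeRight (R := R) (A := R₀) (B := SS Pb rel)) (rel j)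
  rw [aeval_xx_rel, map_zero] at this
  exact this.symm


theorem ψ_one_tmul_xx (i : ι) : ψ Pb rel hrel ((1 : R₀) ⊗ₜ[R] xx Pb rel i) = Pb.val i := by
  rw [ψ_tmul, map_one, one_mul, ψ₀_xx]

include hrel in
theorem nonempty_equiv : Nonempty ((R₀ ⊗[R] SS Pb rel) ≃ₐ[R₀] Sb) := by
  obtain ⟨χ, hχ⟩ := exists_χ Pb rel hrel
  have hχval : ∀ i, χ (Pb.val i) = (1 : R₀) ⊗ₜ[R] xx Pb rel i := by
    intro i
    have := hχ (X i)
    rwa [aeval_X, aeval_X] at this
  refine ⟨AlgEquiv.ofAlgHom (ψ Pb rel hrel) χ ?_ ?_⟩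
  · apply AlgHom.ext
    intro s
    obtain ⟨p, rfl⟩ : ∃ p, aeval Pb.val p = s := ⟨Pb.σ s, Pb.aeval_val_σ s⟩
    rw [AlgHom.comp_apply, hχ, AlgHom.id_apply, MvPolynomial.comp_aeval_apply]
    congr 2
    funext i
    exact ψ_one_tmul_xx Pb rel hrel i
  · apply Algebra.TensorProduct.ext
    · apply AlgHom.ext
      intro a
      change χ (ψ Pb rel hrel (a ⊗ₜ[R] (1 : SS Pb rel))) = a ⊗ₜ[R] (1 : SS Pb rel)
      rw [ψ_tmul, map_one, mul_one, AlgHom.commutes, Algebra.TensorProduct.algebraMap_apply]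
      rfl
    · apply IsLocalization.algHom_ext (Submonoid.powers (Δ₁ Pb rel))
      apply Ideal.Quotient.algHom_ext
      apply MvPolynomial.algHom_ext
      intro i
      change χ (ψ Pb rel hrel ((1 : R₀) ⊗ₜ[R] xx Pb rel i)) = (1 : R₀) ⊗ₜ[R] xx Pb rel i
      rw [ψ_one_tmul_xx, hχval]

end


open TensorProduct in
/-- Étale algebras lift along surjections: for an ideal I of R and an étale (R/I)-algebra S̄ there is an
étale R-algebra S with (R/I) ⊗_R S ≅ S̄ over R/I. -/
theorem result (R : Type u) [CommRing R] (I : Ideal R) (Sb : Type u)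
    [CommRing Sb] [Algebra (R ⧸ I) Sb] [Algebra.Etale (R ⧸ I) Sb] :
    ∃ (S : Type u) (_ : CommRing S) (_ : Algebra R S), Algebra.Etale R S ∧
      Nonempty (((R ⧸ I) ⊗[R] S) ≃ₐ[R ⧸ I] Sb) := by
  letI : Algebra R Sb := ((algebraMap (R ⧸ I) Sb).comp (algebraMap R (R ⧸ I))).toAlgebra
  haveI : IsScalarTower R (R ⧸ I) Sb := IsScalarTower.of_algebraMap_eq (fun _ => rfl)
  obtain ⟨ι, σ, _, _, Pb, h0⟩ :=
    (Etale.iff_isStandardSmoothOfRelativeDimension_zero.mp
      (inferInstance : Algebra.Etale (R ⧸ I) Sb)).out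
  have hsurj : Function.Surjective (MvPolynomial.map (σ := ι) (algebraMap R (R ⧸ I))) :=
    MvPolynomial.map_surjective _ Ideal.Quotient.mk_surjective
  choose rel hrel using fun j => hsurj (Pb.relation j)
  exact ⟨SS Pb rel, inferInstance, inferInstance, etale_SS Pb rel h0, nonempty_equiv Pb rel hrel⟩

end Groth.Agent.S9436
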