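import Groth.Statements.S1177
import Groth.Agent.Lib.FpqcModDescent
import Groth.Agent.Lib.H90OXModFP
import Groth.Agent.Lib.QCohFlat
import Groth.Agent.Lib.LocFreeFP
import Groth.Agent.Lib.H90InvertibleFP

set_option autoImplicit false
open CategoryTheory CategoryTheory.Limits AlgebraicGeometry Opposite
universe u
open Desc

namespace Groth.Agent.S1177

/-- Let g : X' ⟶ X be quasi-compact, flat and surjective and F a quasi-coherent O_X-module. If the
pullback g^*F is a finite locally free O_{X'}-module, then F is finite locally free. -/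
theorem result {X X' : Scheme.{u}} (g : X' ⟶ X) [QuasiCompact g] [Flat g] [Surjective g]
    (F : X.Modules) [F.IsQuasicoherent] (h : FlatMod.IsFinLocFree ((Scheme.Modules.pullback g).obj F)) :
    FlatMod.IsFinLocFree F := by
  -- finite presentation descends
  have hfp' : CohB1.IsFP ((Scheme.Modules.pullback g).obj F) :=
    Groth.Agent.Lib.H90Invertible.isFinitePresentation_of_isFinLocFree h
  obtain ⟨hq, hfp⟩ := (Groth.Agent.Lib.H90OXModFP.isFP_iff_forall_affine _).mp hfp'
  have hFP : CohB1.IsFP F := by
    refine (Groth.Agent.Lib.H90OXModFP.isFP_iff_forall_affine F).mpr ⟨inferInstance, fun V => ?_⟩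
    exact Groth.Agent.Lib.FpqcModDescent.finitePresentation_sections g F
      (fun U hU => hfp ⟨U, hU⟩) V.2
  -- flatness descends
  have hflat' : FlatMod.IsFlat ((Scheme.Modules.pullback g).obj F) := fun x =>
    have := Groth.Agent.Lib.LocFreeFP.free_stalk_of_isFinLocFree h x
    (inferInstance : Module.Flat (X'.presheaf.stalk x)
      (((Scheme.Modules.pullback g).obj F).presheaf.stalk x))
  have hflat : FlatMod.IsFlat F := by
    rw [Groth.Agent.Lib.QCohFlat.isFlat_iff_forall_affine]
    intro V
    exact Groth.Agent.Lib.FpqcModDescent.flat_sections g F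
      (fun U hU => (Groth.Agent.Lib.QCohFlat.isFlat_iff_forall_affine _).mp hflat' ⟨U, hU⟩) V.2
  exact Groth.Agent.Lib.LocFreeFP.isFinLocFree_of_isFP_of_flat F hFP hflat

end Groth.Agent.S1177
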