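import Groth.Statements.S0524
import Groth.Agent.Lib.HenselPair
import Mathlib.Algebra.Polynomial.Taylor
import Mathlib.Tactic.LinearCombination
import Mathlib.Tactic.Ring

set_option autoImplicit false
universe u
open Hensel

namespace Groth.Agent.S0524

open Polynomial

variable {A : Type u} [CommRing A]

theorem eval_mem_of_coeff_mem {I : Ideal A} (p : A[X]) (hp : ∀ i, p.coeff i ∈ I) (x : A) :
    p.eval x ∈ I := by
  rw [eval_eq_sum_range]
  exact Submodule.sum_mem _ fun i _ => Ideal.mul_mem_right _ _ (hp i)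

theorem gabberPoly_monic (n : ℕ) (p : A[X]) (hp : p.natDegree ≤ n) :
    (X ^ n * (X - 1) + p).Monic := by
  apply monic_of_natDegree_le_of_coeff_eq_one (n + 1)
  · refine (natDegree_add_le _ _).trans (max_le ?_ (hp.trans (Nat.le_succ n)))
    refine natDegree_mul_le.trans ?_
    have h1 : (X ^ n : A[X]).natDegree ≤ n := natDegree_X_pow_le n
    have h2 : (X - 1 : A[X]).natDegree ≤ 1 := by
      have : (X - 1 : A[X]) = X - C 1 := by simp
      rw [this]; exact natDegree_X_sub_C_le 1
    omega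
  · rw [coeff_add, add_comm n 1, coeff_X_pow_mul, coeff_eq_zero_of_natDegree_lt (lt_of_le_of_lt hp (by omega))]
    simp [coeff_X, coeff_one]

theorem gabberPoly_eval (n : ℕ) (p : A[X]) (x : A) :
    (X ^ n * (X - 1) + p).eval x = x ^ n * (x - 1) + p.eval x := by
  simp

theorem gabberPoly_derivative_eval_one (n : ℕ) (p : A[X]) :
    (X ^ n * (X - 1) + p).derivative.eval 1 = 1 + p.derivative.eval 1 := by
  simp [derivative_mul, derivative_X_pow]

theorem gabber_of_henselian (I : Ideal A) [h : HenselianRing A I] (n : ℕ) (p : A[X])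
    (hp : p.natDegree ≤ n) (hpI : ∀ i, p.coeff i ∈ I) :
    ∃! α : A, α - 1 ∈ I ∧ IsRoot (X ^ n * (X - 1) + p) α := by
  have hjac := h.jac
  set F : A[X] := X ^ n * (X - 1) + p with hF
  have hFm : F.Monic := gabberPoly_monic n p hp
  have hF1 : F.eval 1 ∈ I := by
    rw [hF, gabberPoly_eval]
    simpa using eval_mem_of_coeff_mem p hpI 1
  have hp' : p.derivative.eval 1 ∈ I := by
    apply eval_mem_of_coeff_mem
    intro i
    rw [coeff_derivative]
    exact Ideal.mul_mem_right _ _ (hpI _)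
  have hFd1 : F.derivative.eval 1 - 1 ∈ I := by
    rw [hF, gabberPoly_derivative_eval_one]
    simpa using hp'
  have hu1 : IsUnit (F.derivative.eval 1) :=
    Groth.Agent.Lib.HenselPair.isUnit_of_sub_mem hjac hFd1 isUnit_one
  obtain ⟨α, hα, hα'⟩ := h.is_henselian F hFm 1 hF1 (hu1.map _)
  refine ⟨α, ⟨hα', hα⟩, ?_⟩
  rintro β ⟨hβ', hβ⟩
  have huα : IsUnit (F.derivative.eval α) := by
    refine Groth.Agent.Lib.HenselPair.isUnit_of_sub_mem hjac ?_ hu1
    obtain ⟨c, hc⟩ := sub_dvd_eval_sub α 1 F.derivative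
    rw [hc]
    exact Ideal.mul_mem_right _ _ hα'
  have hβα : β - α ∈ I := by
    have : β - α = (β - 1) - (α - 1) := by ring
    rw [this]
    exact Ideal.sub_mem _ hβ' hα'
  have := Groth.Agent.Lib.HenselPair.sub_mem_of_isRoot (I := ⊥) hjac F
    (by rw [hα]; exact Ideal.zero_mem _) huα hβ hβα
  rw [Ideal.mem_bot, sub_eq_zero] at this
  exact this

/-- Simple roots of arbitrary polynomials lift, given Gabber's criterion. -/
theorem exists_root_of_gabber (I : Ideal A) (hjac : I ≤ Ideal.jacobson ⊥)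
    (G : ∀ (n : ℕ), 0 < n → ∀ p : A[X], p.natDegree ≤ n → (∀ i, p.coeff i ∈ I) →
        ∃ α : A, α - 1 ∈ I ∧ IsRoot (X ^ n * (X - 1) + p) α)
    (g : A[X]) (h0 : g.coeff 0 ∈ I) (h1 : IsUnit (g.coeff 1)) :
    ∃ t ∈ I, g.eval t = 0 := by
  obtain ⟨w, hw⟩ := isUnit_iff_exists_inv.1 h1
  set c₀ := g.coeff 0 with hc₀
  set c₁ := g.coeff 1 with hc₁
  set lam : A := -(c₀ * w) with hlam
  have hlamI : lam ∈ I := by
    rw [hlam, Ideal.neg_mem_iff]
    exact Ideal.mul_mem_right _ _ h0
  set m := g.natDegree with hm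
  set p : A[X] := - ∑ j ∈ Finset.range m, C (w * g.coeff (j + 2) * lam ^ (j + 1)) * X ^ (m - j)
    with hp
  have hpdeg : p.natDegree ≤ m + 1 := by
    rw [hp, natDegree_neg]
    refine (natDegree_sum_le_of_forall_le _ _ (n := m) ?_).trans (Nat.le_succ m)
    intro j _
    refine (natDegree_C_mul_X_pow_le _ _).trans ?_
    omega
  have hpI : ∀ i, p.coeff i ∈ I := by
    intro i
    rw [hp, coeff_neg, Ideal.neg_mem_iff, finsetSum_coeff]
    refine Submodule.sum_mem _ fun j _ => ?_
    rw [coeff_C_mul]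
    refine Ideal.mul_mem_right _ _ (Ideal.mul_mem_left _ _ ?_)
    exact Ideal.pow_mem_of_mem _ hlamI _ (Nat.succ_pos j)
  obtain ⟨r, hr1, hr⟩ := G (m + 1) (Nat.succ_pos m) p hpdeg hpI
  rw [IsRoot, gabberPoly_eval] at hr
  have hru : IsUnit r := by
    have : r = 1 + (r - 1) := by ring
    rw [this]
    exact Groth.Agent.Lib.HenselPair.isUnit_add_of_mem_jacobson isUnit_one (hjac hr1)
  obtain ⟨s, hrs⟩ := isUnit_iff_exists_inv.1 hru
  refine ⟨lam * s, Ideal.mul_mem_right _ _ hlamI, ?_⟩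
  have hpe : p.eval r = - ∑ j ∈ Finset.range m, (w * g.coeff (j + 2) * lam ^ (j + 1)) * r ^ (m - j) := by
    rw [hp]
    simp [eval_finsetSum]
  have key : r ^ (m + 2) * g.eval (lam * s) = c₀ * (r ^ (m + 1) * (r - 1) + p.eval r) := by
    rw [eval_eq_sum_range' (n := m + 2) (by omega), Finset.sum_range_succ', Finset.sum_range_succ',
      hpe, mul_add, mul_add, Finset.mul_sum, mul_add, mul_neg, Finset.mul_sum]
    have hterm : ∀ j ∈ Finset.range m,
        r ^ (m + 2) * (g.coeff (j + 1 + 1) * (lam * s) ^ (j + 1 + 1)) =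
        - (c₀ * (w * g.coeff (j + 2) * lam ^ (j + 1) * r ^ (m - j))) := by
      intro j hj
      rw [Finset.mem_range] at hj
      obtain ⟨k, hk⟩ : ∃ k, m = j + 1 + k := ⟨m - (j + 1), by omega⟩
      have e : m - j = k + 1 := by omega
      rw [e, hk]
      have h3 : (r * s) ^ (j + 2) = 1 := by rw [hrs, one_pow]
      linear_combination (g.coeff (j + 2) * lam ^ (j + 2) * r ^ (k + 1)) * h3
    rw [Finset.sum_congr rfl hterm, Finset.sum_neg_distrib]
    have h4 : r ^ (m + 2) * (g.coeff (0 + 1) * (lam * s) ^ (0 + 1)) = - (c₀ * r ^ (m + 1)) := by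
      simp only [zero_add, pow_one]
      linear_combination (-(c₀ * r ^ (m + 1) * r * s)) * hw + (-(c₀ * r ^ (m + 1))) * hrs
    rw [h4]
    simp only [pow_zero, mul_one]
    ring
  rw [hr, mul_zero] at key
  exact (hru.pow (m + 2)).mul_right_eq_zero.1 key

/-- (1) iff (5) with the uniqueness complement: `A` is Henselian at `I` exactly when `I` lies in the
Jacobson radical and, for every `n ≥ 1` and every polynomial `p` of degree at most `n` with all
coefficients in `I`, the polynomial `Tⁿ(T-1) + p` has exactly one root congruent to `1` modulo `I`. -/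
theorem result (A : Type u) [CommRing A] (I : Ideal A) :
    HenselianRing A I ↔ (I ≤ Ideal.jacobson ⊥ ∧
      ∀ (n : ℕ), 0 < n → ∀ p : Polynomial A, p.natDegree ≤ n → (∀ i, p.coeff i ∈ I) →
        ∃! α : A, α - 1 ∈ I ∧
          Polynomial.IsRoot (Polynomial.X ^ n * (Polynomial.X - 1) + p) α) := by
  constructor
  · intro h
    exact ⟨h.jac, fun n _ p hp hpI => gabber_of_henselian I n p hp hpI⟩
  · rintro ⟨hjac, G⟩
    refine ⟨hjac, ?_⟩
    intro f hf a₀ h₁ h₂
    have hu : IsUnit (f.derivative.eval a₀) :=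
      Groth.Agent.Lib.HenselPair.isUnit_of_isUnit_mk hjac h₂
    obtain ⟨t, htI, ht⟩ := exists_root_of_gabber I hjac
      (fun n hn p hp hpI => (G n hn p hp hpI).exists) (taylor a₀ f)
      (by rw [taylor_coeff_zero]; exact h₁) (by rw [taylor_coeff_one]; exact hu)
    rw [taylor_eval] at ht
    exact ⟨t + a₀, ht, by simpa using htI⟩

end Groth.Agent.S0524
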