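import Groth.Statements.S17968
-- import your own Groth.Agent.* helpers here
import Groth.Agent.Lib.GabberIdem
import Groth.Agent.S0524

set_option autoImplicit false
universe u
open Hensel

namespace Groth.Agent.S17968

/-- Let A be a commutative ring and I an ideal contained in the Jacobson radical of A. Suppose that for
every natural number m and every monic polynomial p over A whose reduction modulo I is the reduction
of (T^2 - T)^m, every idempotent of B/IB is the image of an idempotent of B, where B = A[T]/(p).
Then (A, I) is a henselian pair. -/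
theorem result (A : Type u) [CommRing A]
    (I : Ideal A) (hI : I ≤ Ideal.jacobson ⊥)
    (h : ∀ (m : ℕ) (p : Polynomial A), p.Monic →
      Polynomial.map (Ideal.Quotient.mk I) p =
        Polynomial.map (Ideal.Quotient.mk I) ((Polynomial.X ^ 2 - Polynomial.X) ^ m) →
      Set.SurjOn (Ideal.Quotient.mk (Ideal.map (algebraMap A (AdjoinRoot p)) I))
        {e : AdjoinRoot p | IsIdempotentElem e} {e | IsIdempotentElem e}) :
    HenselianRing A I := by
  have G : ∀ (n : ℕ), 0 < n → ∀ p : Polynomial A, p.natDegree ≤ n → (∀ i, p.coeff i ∈ I) →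
      ∃ α : A, α - 1 ∈ I ∧
        Polynomial.IsRoot (Polynomial.X ^ n * (Polynomial.X - 1) + p) α := by
    intro n hn p hp hpI
    exact Groth.Agent.Lib.GabberIdem.exists_root_of_idempotent_lift I hI n hn p hp hpI
      (h n _ (Groth.Agent.Lib.GabberIdem.gabber_big_monic n p hp)
        (Groth.Agent.Lib.GabberIdem.gabber_big_map I n hn p hpI))
  refine ⟨hI, ?_⟩
  intro f hf a₀ h₁ h₂
  have hu : IsUnit (f.derivative.eval a₀) :=
    Groth.Agent.Lib.HenselPair.isUnit_of_isUnit_mk hI h₂
  obtain ⟨t, htI, ht⟩ := Groth.Agent.S0524.exists_root_of_gabber I hI G (Polynomial.taylor a₀ f)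
    (by rw [Polynomial.taylor_coeff_zero]; exact h₁)
    (by rw [Polynomial.taylor_coeff_one]; exact hu)
  rw [Polynomial.taylor_eval] at ht
  exact ⟨t + a₀, ht, by simpa using htI⟩

end Groth.Agent.S17968
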