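import Groth.Statements.S17971
import Groth.Agent.S17959
import Groth.Agent.Lib.HenselCouple61
import Groth.Agent.Lib.HenselIdem
import Groth.Agent.Lib.PairHenselizationLocal

set_option autoImplicit false
open CategoryTheory CategoryTheory.Limits AlgebraicGeometry
universe u
open Hensel

namespace Groth.Agent.S17971

open TopologicalSpace TensorProduct Groth.Agent.Lib.HenselCouple61


/-- The standard pushout square `B' ⊗_A A/I = B'/IB'`. -/
lemma exists_isPushout_quotient (A B' : Type u) [CommRing A] [CommRing B'] [Algebra A B']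
    (I : Ideal A) :
    ∃ r : CommRingCat.of (A ⧸ I) ⟶ CommRingCat.of (B' ⧸ I.map (algebraMap A B')),
    IsPushout (CommRingCat.ofHom (algebraMap A B')) (CommRingCat.ofHom (Ideal.Quotient.mk I))
      (CommRingCat.ofHom (Ideal.Quotient.mk (I.map (algebraMap A B')))) r := by
  let e₄ : CommRingCat.of (B' ⊗[A] (A ⧸ I)) ≅ CommRingCat.of (B' ⧸ I.map (algebraMap A B')) :=
    (Algebra.TensorProduct.quotIdealMapEquivTensorQuot B' I).symm.toRingEquiv.toCommRingCatIso
  refine ⟨CommRingCat.ofHom (Algebra.TensorProduct.includeRight (R := A) (A := B')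
      (B := A ⧸ I)).toRingHom ≫ e₄.hom,
    (CommRingCat.isPushout_tensorProduct A B' (A ⧸ I)).of_iso (Iso.refl _) (Iso.refl _)
      (Iso.refl _) e₄ ?_ ?_ ?_ ?_⟩
  · simp
  · simp
  · ext b
    simp [e₄]
    rw [AlgEquiv.symm_apply_eq]
    rfl
  · simp


/-- Global sections of a fibre product of affine schemes (ring pushout form). -/
theorem isPushout_appTop_of_isPullback_of_isAffine {X Y S T : Scheme.{u}} {f : T ⟶ S} {g : Y ⟶ X}
    {iX : X ⟶ S} {iY : Y ⟶ T} (H : IsPullback g iY iX f) [IsAffine S] [IsAffine T] [IsAffine X] :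
    IsPushout iX.appTop f.appTop g.appTop iY.appTop := by
  have h1 : (⊤ : T.Opens) ≤ f ⁻¹ᵁ ⊤ := by simp
  have h2 : (⊤ : X.Opens) ≤ iX ⁻¹ᵁ ⊤ := by simp
  have h3 : (⊤ : Y.Opens) = g ⁻¹ᵁ ⊤ ⊓ iY ⁻¹ᵁ ⊤ := by simp
  have hiso := isIso_pushoutSection_of_isAffineOpen H
    (US := ⊤) (UT := ⊤) (UX := ⊤) (UY := ⊤) h1 h2 h3
    (isAffineOpen_top S) (isAffineOpen_top T) (isAffineOpen_top X)
  have := (isIso_pushoutSection_iff H (US := ⊤) (UT := ⊤) (UX := ⊤) (UY := ⊤)
    h1 h2 h3).mp hiso
  rwa [appLE_top_top, appLE_top_top, appLE_top_top, appLE_top_top] at this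

/-- If `(A, I)` is a henselian pair then `(Spec A, Spec A/I)` is a henselian couple. -/
theorem couple_of_henselianRing (A : Type u) [CommRing A] (I : Ideal A) [HenselianRing A I]
    (i : Spec (CommRingCat.of (A ⧸ I)) ⟶ Spec (CommRingCat.of A))
    (hi : i = Spec.map (CommRingCat.ofHom (Ideal.Quotient.mk I)))
    (Y : Scheme.{u}) (g : Y ⟶ Spec (CommRingCat.of A)) (hg : IsFinite g)
    (V : Set ↥(pullback g i)) (hV : IsClopen V) :
    ∃! U : Set ↥Y, IsClopen U ∧ (pullback.fst g i).base ⁻¹' U = V := by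
  have hYaff : IsAffine Y := isAffine_of_isAffineHom g
  let p : pullback g i ⟶ Y := pullback.fst g i
  let q : pullback g i ⟶ Spec (CommRingCat.of (A ⧸ I)) := pullback.snd g i
  have H : IsPullback p q g i := IsPullback.of_hasPullback g i
  have PO : IsPushout g.appTop i.appTop p.appTop q.appTop :=
    isPushout_appTop_of_isPullback_of_isAffine H
  let φ : CommRingCat.of A ⟶ Γ(Y, ⊤) := (Scheme.ΓSpecIso (CommRingCat.of A)).inv ≫ g.appTop
  have PO' : IsPushout φ (CommRingCat.ofHom (Ideal.Quotient.mk I)) p.appTop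
      ((Scheme.ΓSpecIso (CommRingCat.of (A ⧸ I))).inv ≫ q.appTop) := by
    refine PO.of_iso (Scheme.ΓSpecIso (CommRingCat.of A)) (Iso.refl _)
      (Scheme.ΓSpecIso (CommRingCat.of (A ⧸ I))) (Iso.refl _) ?_ ?_ ?_ ?_
    · simp [φ]
    · simp [hi]
    · simp
    · simp
  -- finiteness
  have hfin : g.appTop.hom.Finite := IsFinite.finite_app g ⊤ (isAffineOpen_top _)
  have hφfin : φ.hom.Finite := by
    have h1 : (Scheme.ΓSpecIso (CommRingCat.of A)).inv.hom.Finite :=
      RingHom.Finite.of_surjective _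
        ((ConcreteCategory.bijective_of_isIso (Scheme.ΓSpecIso (CommRingCat.of A)).inv).2)
    exact hfin.comp h1
  algebraize [φ.hom]
  have hint : Algebra.IsIntegral A Γ(Y, ⊤) := Algebra.IsIntegral.of_finite A Γ(Y, ⊤)
  obtain ⟨r, SQ⟩ := exists_isPushout_quotient A Γ(Y, ⊤) I
  have hφ : CommRingCat.ofHom (algebraMap A Γ(Y, ⊤)) = φ := rfl
  rw [hφ] at SQ
  let ε := SQ.isoIsPushout _ _ PO'
  have hε : CommRingCat.ofHom (Ideal.Quotient.mk (I.map (algebraMap A Γ(Y, ⊤)))) ≫ ε.hom =
      p.appTop := SQ.inl_isoIsPushout_hom _ _ PO'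
  have hεapp : ∀ x : Γ(Y, ⊤), p.appTop.hom x =
      ε.hom.hom (Ideal.Quotient.mk (I.map (algebraMap A Γ(Y, ⊤))) x) := by
    intro x
    rw [← hε]
    rfl
  have hεinj : Function.Injective ε.hom.hom := (ConcreteCategory.bijective_of_isIso ε.hom).1
  have hεsurj : Function.Surjective ε.hom.hom := (ConcreteCategory.bijective_of_isIso ε.hom).2
  have hbij := Groth.Agent.Lib.HenselIdem.bijOn_idempotents_of_isIntegral (A := A)
    (B := Γ(Y, ⊤)) I
  -- surjectivity on idempotents of `p.appTop`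
  have hsurj : ∀ η : Γ(pullback g i, ⊤), IsIdempotentElem η →
      ∃ e : Γ(Y, ⊤), IsIdempotentElem e ∧ p.appTop.hom e = η := by
    intro η hη
    obtain ⟨ηb, rfl⟩ := hεsurj η
    have hηb : IsIdempotentElem ηb := by
      apply hεinj
      rw [map_mul]
      exact hη
    obtain ⟨e, he, hee⟩ := hbij.surjOn hηb
    exact ⟨e, he, by rw [hεapp, hee]⟩
  have hinj : ∀ e e' : Γ(Y, ⊤), IsIdempotentElem e → IsIdempotentElem e' →
      p.appTop.hom e = p.appTop.hom e' → e = e' := by
    intro e e' he he' h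
    rw [hεapp, hεapp] at h
    exact hbij.injOn he he' (hεinj h)
  -- clopen translation
  obtain ⟨η, hη, hηV⟩ := exists_isIdempotentElem_basicOpen_eq V hV
  obtain ⟨e, he, heη⟩ := hsurj η hη
  have hpre : ∀ e' : Γ(Y, ⊤), p.base ⁻¹' ((Y.basicOpen e' : Y.Opens) : Set Y) =
      (((pullback g i).basicOpen (p.appTop.hom e') : (pullback g i).Opens) : Set _) := by
    intro e'
    have h1 := Scheme.preimage_basicOpen_top p e'
    rw [← h1]
    rfl
  refine ⟨((Y.basicOpen e : Y.Opens) : Set Y),
    ⟨isClopen_basicOpen_of_isIdempotentElem he, ?_⟩, ?_⟩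
  · rw [hpre, heη, hηV]
  · rintro U' ⟨hU', hU'V⟩
    obtain ⟨e', he', he'U⟩ := exists_isIdempotentElem_basicOpen_eq U' hU'
    have h2 : p.appTop.hom e' = η := by
      apply eq_of_basicOpen_eq (he'.map _) hη
      apply Opens.ext
      rw [← hpre, he'U, hU'V, hηV]
    have h3 : e' = e := hinj e' e he' he (h2.trans heη.symm)
    rw [← he'U, h3]



/-- For a commutative ring A and an ideal I, the pair (A, I) is henselian if and only if the couple
(Spec A, Spec (A/I)) is henselian, i.e. if and only if for every finite morphism g : Y ⟶ Spec A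
every open-closed subset of Y ×_{Spec A} Spec (A/I) is the inverse image under the first projection
of exactly one open-closed subset of Y. -/
theorem result (A : Type u) [CommRing A] (I : Ideal A) :
    HenselianRing A I ↔
    ∀ (Y : Scheme.{u}) (g : Y ⟶ Spec (CommRingCat.of A)), IsFinite g →
      ∀ V : Set ↥(pullback g (Spec.map (CommRingCat.ofHom (Ideal.Quotient.mk I)))), IsClopen V →
        ∃! U : Set ↥Y, IsClopen U ∧ (pullback.fst g (Spec.map (CommRingCat.ofHom (Ideal.Quotient.mk I)))).base ⁻¹' U = V := by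
  constructor
  · intro h Y g hg V hV
    exact couple_of_henselianRing A I _ rfl Y g hg V hV
  · intro hX
    have hci : IsClosedImmersion (Spec.map (CommRingCat.ofHom (Ideal.Quotient.mk I))) :=
      IsClosedImmersion.spec_of_surjective _ Ideal.Quotient.mk_surjective
    have h1 := Groth.Agent.S17959.result
      (Spec.map (CommRingCat.ofHom (Ideal.Quotient.mk I))) hX
    let e : A ≃+* Γ(Spec (CommRingCat.of A), ⊤) :=
      (Scheme.ΓSpecIso (CommRingCat.of A)).symm.commRingCatIsoToRingEquiv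
    have h2 := Groth.Agent.Lib.PairHenselization.henselianRing_of_ringEquiv e
      (RingHom.ker (Spec.map (CommRingCat.ofHom (Ideal.Quotient.mk I))).appTop.hom)
    have h3 : (RingHom.ker (Spec.map (CommRingCat.ofHom (Ideal.Quotient.mk I))).appTop.hom).comap
        (e : A →+* Γ(Spec (CommRingCat.of A), ⊤)) = I := by
      ext a
      rw [Ideal.mem_comap, RingHom.mem_ker]
      have hnat := Scheme.ΓSpecIso_inv_naturality (CommRingCat.ofHom (Ideal.Quotient.mk I))
      have h4 : (Spec.map (CommRingCat.ofHom (Ideal.Quotient.mk I))).appTop.hom (e a) =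
          (Scheme.ΓSpecIso (CommRingCat.of (A ⧸ I))).inv.hom (Ideal.Quotient.mk I a) := by
        change ((Scheme.ΓSpecIso (CommRingCat.of A)).inv ≫
          (Spec.map (CommRingCat.ofHom (Ideal.Quotient.mk I))).appTop).hom a = _
        rw [← hnat]
        rfl
      have hinj : Function.Injective (Scheme.ΓSpecIso (CommRingCat.of (A ⧸ I))).inv.hom :=
        (ConcreteCategory.bijective_of_isIso (Scheme.ΓSpecIso (CommRingCat.of (A ⧸ I))).inv).1
      change (Spec.map (CommRingCat.ofHom (Ideal.Quotient.mk I))).appTop.hom (e a) = 0 ↔ _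
      rw [h4, map_eq_zero_iff _ hinj, Ideal.Quotient.eq_zero_iff_mem]
    rw [h3] at h2
    exact h2

end Groth.Agent.S17971
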