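import Groth.Statements.S0738

set_option autoImplicit false
open Topology
universe u
open ProEtW

namespace Groth.Agent.S0738

theorem quasiSeparatedSpace_of_isClosedEmbedding {X Y : Type*} [TopologicalSpace X]
    [TopologicalSpace Y] [QuasiSeparatedSpace Y] [PrespectralSpace Y] (f : X → Y)
    (hf : IsClosedEmbedding f) : QuasiSeparatedSpace X := by
  have hb := (PrespectralSpace.isTopologicalBasis (X := Y)).isInducing hf.isInducing
  let b : {U : Set Y // IsOpen U ∧ IsCompact U} → Set X := fun U => f ⁻¹' U.1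
  have hrange : Set.range b = Set.image (Set.preimage f) {U : Set Y | IsOpen U ∧ IsCompact U} := by
    ext s
    constructor
    · rintro ⟨U, rfl⟩
      exact ⟨U.1, U.2, rfl⟩
    · rintro ⟨U, hU, rfl⟩
      exact ⟨⟨U, hU⟩, rfl⟩
  refine QuasiSeparatedSpace.of_isTopologicalBasis (b := b) (hrange ▸ hb) ?_
  intro i j
  have : b i ∩ b j = f ⁻¹' (i.1 ∩ j.1) := by
    simp [b, Set.preimage_inter]
  rw [this]
  exact hf.isCompact_preimage (i.2.2.inter_of_isOpen j.2.2 i.2.1 j.2.1)

theorem spectralSpace_of_isClosedEmbedding {X Y : Type*} [TopologicalSpace X]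
    [TopologicalSpace Y] [SpectralSpace Y] (f : X → Y)
    (hf : IsClosedEmbedding f) : SpectralSpace X where
  __ := hf.isEmbedding.t0Space
  __ := hf.compactSpace
  __ := hf.quasiSober
  __ := quasiSeparatedSpace_of_isClosedEmbedding f hf
  __ := PrespectralSpace.of_isClosedEmbedding f hf

theorem isClosed_singleton_subtype_iff {X : Type*} [TopologicalSpace X] {Y : Set X}
    (hY : IsClosed Y) (y : Y) : IsClosed ({y} : Set Y) ↔ IsClosed ({(y : X)} : Set X) := by
  rw [hY.isClosedEmbedding_subtypeVal.isClosed_iff_image_isClosed]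
  simp

/-- A closed subset of a w-local spectral space is w-local (with the subspace topology). -/
theorem result (X : Type u) [TopologicalSpace X] (hX : ProEtW.IsWLocal X)
    (Y : Set X) (hY : IsClosed Y) : ProEtW.IsWLocal ↥Y := by
  obtain ⟨hS, hC, hU⟩ := hX
  have hemb : IsClosedEmbedding (Subtype.val : Y → X) := hY.isClosedEmbedding_subtypeVal
  refine ⟨spectralSpace_of_isClosedEmbedding _ hemb, ?_, ?_⟩
  · have : {y : Y | IsClosed ({y} : Set Y)} =
        (Subtype.val : Y → X) ⁻¹' {x : X | IsClosed ({x} : Set X)} := by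
      ext y
      exact isClosed_singleton_subtype_iff hY y
    rw [this]
    exact hC.preimage continuous_subtype_val
  · intro y
    obtain ⟨c, ⟨hc1, hc2⟩, hcu⟩ := hU y
    have hcY : c ∈ Y := hc2.mem_closed hY y.2
    refine ⟨⟨c, hcY⟩, ⟨(isClosed_singleton_subtype_iff hY ⟨c, hcY⟩).2 hc1, ?_⟩, ?_⟩
    · exact (subtype_specializes_iff _ _).2 hc2
    · rintro z ⟨hz1, hz2⟩
      apply Subtype.ext
      exact hcu z.1 ⟨(isClosed_singleton_subtype_iff hY z).1 hz1, (subtype_specializes_iff _ _).1 hz2⟩

end Groth.Agent.S0738
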