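import Groth.Statements.S0736
import Groth.Agent.Lib.IndEtale

set_option autoImplicit false
open CategoryTheory CategoryTheory.Limits AlgebraicGeometry Opposite Topology
universe u
open ProEtW

namespace Groth.Agent.S0736

open scoped TensorProduct

/-- An ind-etale ring map A -> B is weakly etale (A -> B and B (x)_A B -> B flat), in Mathlib's sense
Algebra.WeaklyEtale. -/
theorem result (A B : Type u) [CommRing A] [CommRing B] [Algebra A B]
    (h : EtPBC.IsIndEtale A B) : Algebra.WeaklyEtale A B := by
  obtain ⟨J, hJ, hJf, E, iCR, iAlg, iEt, t, φ, hφt, hsurj, hzero⟩ :=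
    Groth.Agent.Lib.IndEtale.exists_concrete A B h
  have hflat : Module.Flat A B := by
    rw [← RingHom.flat_algebraMap_iff]
    refine Groth.Agent.Lib.IndEtale.flat_of_filtered_system (J := J) (algebraMap A B)
      (fun _ => A) E (fun j => algebraMap A (E j)) ?_ (fun _ => RingHom.id A)
      (fun j => (φ j).toRingHom) ?_ (fun _ => RingHom.id A) (fun f => (t f).toRingHom)
      ?_ ?_ ?_ ?_ ?_ ?_
    · intro j
      rw [RingHom.flat_algebraMap_iff]
      infer_instance
    · intro j
      ext a
      simp
    · intro i j f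
      rfl
    · intro i j f
      ext x
      exact AlgHom.congr_fun (hφt f) x
    · intro i j f
      ext a
      simp
    · intro r
      obtain ⟨j⟩ := IsFiltered.nonempty (C := J)
      exact ⟨j, r, rfl⟩
    · intro s
      exact hsurj s
    · intro j x hx
      exact hzero j x hx
  refine ⟨hflat, ?_⟩
  refine Groth.Agent.Lib.IndEtale.flat_of_filtered_system (J := J)
    (Algebra.TensorProduct.lmul' A (S := B)).toRingHom
    (fun j => E j ⊗[A] E j) E (fun j => (Algebra.TensorProduct.lmul' A (S := E j)).toRingHom)
    (fun j => Algebra.WeaklyEtale.flat_lmul' A (E j))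
    (fun j => (Algebra.TensorProduct.map (φ j) (φ j)).toRingHom)
    (fun j => (φ j).toRingHom) ?_
    (fun f => (Algebra.TensorProduct.map (t f) (t f)).toRingHom) (fun f => (t f).toRingHom)
    ?_ ?_ ?_ ?_ ?_ ?_
  · intro j
    have : (Algebra.TensorProduct.lmul' A (S := B)).comp (Algebra.TensorProduct.map (φ j) (φ j)) =
        (φ j).comp (Algebra.TensorProduct.lmul' A (S := E j)) := by
      ext x <;> simp
    exact congrArg AlgHom.toRingHom this
  · intro i j f
    have : (Algebra.TensorProduct.map (φ j) (φ j)).comp (Algebra.TensorProduct.map (t f) (t f)) =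
        Algebra.TensorProduct.map (φ i) (φ i) := by
      rw [← Algebra.TensorProduct.map_comp, hφt f]
    exact congrArg AlgHom.toRingHom this
  · intro i j f
    ext x
    exact AlgHom.congr_fun (hφt f) x
  · intro i j f
    have : (Algebra.TensorProduct.lmul' A (S := E j)).comp
        (Algebra.TensorProduct.map (t f) (t f)) =
        (t f).comp (Algebra.TensorProduct.lmul' A (S := E i)) := by
      ext x <;> simp
    exact congrArg AlgHom.toRingHom this
  · intro r
    have hφt' : ∀ {i j : J} (f : i ⟶ j) (y : E i), φ j (t f y) = φ i y := fun f y =>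
      AlgHom.congr_fun (hφt f) y
    have hmap : ∀ {i j : J} (f : i ⟶ j) (y : E i ⊗[A] E i),
        Algebra.TensorProduct.map (φ j) (φ j) (Algebra.TensorProduct.map (t f) (t f) y) =
          Algebra.TensorProduct.map (φ i) (φ i) y := fun f y => by
      rw [← AlgHom.comp_apply, ← Algebra.TensorProduct.map_comp, hφt f]
    induction r using TensorProduct.induction_on with
    | zero =>
      obtain ⟨j⟩ := IsFiltered.nonempty (C := J)
      exact ⟨j, 0, map_zero _⟩
    | tmul b b' =>
      obtain ⟨j1, y1, rfl⟩ := hsurj b
      obtain ⟨j2, y2, rfl⟩ := hsurj b'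
      refine ⟨IsFiltered.max j1 j2, t (IsFiltered.leftToMax j1 j2) y1 ⊗ₜ
        t (IsFiltered.rightToMax j1 j2) y2, ?_⟩
      change Algebra.TensorProduct.map _ _ _ = _
      rw [Algebra.TensorProduct.map_tmul, hφt', hφt']
    | add r1 r2 h1 h2 =>
      obtain ⟨j1, x1, hx1⟩ := h1
      obtain ⟨j2, x2, hx2⟩ := h2
      refine ⟨IsFiltered.max j1 j2,
        Algebra.TensorProduct.map (t (IsFiltered.leftToMax j1 j2))
          (t (IsFiltered.leftToMax j1 j2)) x1 +
        Algebra.TensorProduct.map (t (IsFiltered.rightToMax j1 j2))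
          (t (IsFiltered.rightToMax j1 j2)) x2, ?_⟩
      change Algebra.TensorProduct.map _ _ _ = _
      rw [map_add, hmap, hmap]
      change Algebra.TensorProduct.map _ _ _ = _ at hx1 hx2
      rw [hx1, hx2]
  · intro s
    exact hsurj s
  · intro j x hx
    exact hzero j x hx

end Groth.Agent.S0736
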