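import Groth.Statements.S8893
import Mathlib
import Groth.Agent.Lib.RelCartier
import Groth.Agent.Lib.FlatCrit

set_option autoImplicit false
universe u
open CategoryTheory CategoryTheory.Limits AlgebraicGeometry TopologicalSpace
open SDiv

namespace Groth.Agent.S8893

section helpers
open TensorProduct


/-- Flatness from flatness of all `J`-adic quotients (Krull intersection). -/
theorem flat_of_flat_quotient_pow {A B : Type u} [CommRing A] [CommRing B] [Algebra A B]
    [IsNoetherianRing B] (J : Ideal B) (hJ : J ≤ Ideal.jacobson ⊥)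
    (h : ∀ n, Module.Flat A (B ⧸ J ^ n)) : Module.Flat A B := by
  rw [Module.Flat.iff_lTensor_injective]
  intro 𝔞 h𝔞
  have : Module.Finite A 𝔞 := Module.Finite.iff_fg.mpr h𝔞
  have hfin : Module.Finite B (B ⊗[A] 𝔞) := Groth.Agent.Lib.FlatCrit.finite_tensorProduct_left
  rw [injective_iff_map_eq_zero]
  intro x hx
  have hkrull := Ideal.iInf_pow_smul_eq_bot_of_le_jacobson (M := B ⊗[A] 𝔞) J hJ
  rw [← Submodule.mem_bot B, ← hkrull, Submodule.mem_iInf]
  intro n
  let π : B →ₗ[A] B ⧸ J ^ n := (Ideal.Quotient.mkₐ A (J ^ n)).toLinearMap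
  have hπ : Function.Surjective π := Ideal.Quotient.mk_surjective
  have h1 : (π.rTensor 𝔞) x = 0 := by
    have hinj : Function.Injective ((𝔞.subtype).lTensor (B ⧸ J ^ n)) :=
      Module.Flat.lTensor_preserves_injective_linearMap _ Subtype.val_injective
    apply hinj
    rw [map_zero, ← LinearMap.comp_apply, LinearMap.lTensor_comp_rTensor,
      ← LinearMap.rTensor_comp_lTensor, LinearMap.comp_apply, hx, map_zero]
  let ι : ↥(J ^ n) →ₗ[A] B := ((J ^ n).subtype).restrictScalars A
  have hex : Function.Exact ι π := by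
    intro b
    simp only [π, ι, AlgHom.toLinearMap_apply, Ideal.Quotient.mkₐ_eq_mk, LinearMap.coe_restrictScalars,
      Submodule.coe_subtype, Set.mem_range, Subtype.exists, exists_prop, exists_eq_right]
    exact Ideal.Quotient.eq_zero_iff_mem
  have hex2 := rTensor_exact 𝔞 hex hπ
  obtain ⟨y, rfl⟩ := (hex2 x).mp h1
  clear h1 hx
  induction y with
  | zero => simp
  | add y z hy hz =>
    rw [map_add]
    exact Submodule.add_mem _ hy hz
  | tmul j a =>
    have : (ι.rTensor 𝔞) (j ⊗ₜ[A] a) = (j : B) • ((1 : B) ⊗ₜ[A] a) := by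
      simp [ι, TensorProduct.smul_tmul']
    rw [this]
    exact Submodule.smul_mem_smul j.2 trivial



section Graded
variable {A B : Type u} [CommRing A] [CommRing B] [Algebra A B] {c : ℕ} (f : Fin c → B)

/-- value of the monomial `X^d` at `f` -/
def mon (d : Fin c →₀ ℕ) : B := d.prod fun i k => f i ^ k

theorem mon_mem (d : Fin c →₀ ℕ) : mon f d ∈ Ideal.span (Set.range f) ^ d.degree := by
  rw [Ideal.mem_span_pow_iff_exists_isHomogeneous]
  exact ⟨MvPolynomial.monomial d 1, MvPolynomial.isHomogeneous_monomial _ rfl,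
    by simp [mon, MvPolynomial.eval_monomial]⟩

/-- multiplication by a degree `n` monomial `B/J → B/J^{n+1}` -/
noncomputable def μ (n : ℕ) (d : Fin c →₀ ℕ) (hd : d.degree = n) :
    (B ⧸ Ideal.span (Set.range f)) →ₗ[B] (B ⧸ Ideal.span (Set.range f) ^ (n + 1)) :=
  Submodule.liftQ (Ideal.span (Set.range f))
    ((Submodule.mkQ (Ideal.span (Set.range f) ^ (n + 1))) ∘ₗ (LinearMap.mulLeft B (mon f d))) (by
    intro x hx
    simp only [LinearMap.mem_ker, LinearMap.comp_apply, LinearMap.mulLeft_apply,
      Submodule.mkQ_apply]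
    rw [Submodule.Quotient.mk_eq_zero, pow_succ]
    exact Ideal.mul_mem_mul (hd ▸ mon_mem f d) hx)

theorem μ_mk (n : ℕ) (d : Fin c →₀ ℕ) (hd : d.degree = n) (b : B) :
    μ f n d hd (Ideal.Quotient.mk _ b) = Ideal.Quotient.mk _ (mon f d * b) := rfl

/-- the map `⊕_{|d| = n} B/J → B/J^{n+1}` -/
noncomputable def ψ (n : ℕ) :
    ({d : Fin c →₀ ℕ // d.degree = n} →₀ (B ⧸ Ideal.span (Set.range f))) →ₗ[B]
      (B ⧸ Ideal.span (Set.range f) ^ (n + 1)) :=
  Finsupp.lsum ℕ (fun d => μ f n d.1 d.2)

theorem ψ_single (n : ℕ) (d : {d : Fin c →₀ ℕ // d.degree = n}) (b : B) :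
    ψ f n (Finsupp.single d (Ideal.Quotient.mk _ b)) = Ideal.Quotient.mk _ (mon f d.1 * b) := by
  simp [ψ, μ_mk]

theorem ψ_injective (hq : CAlgX.IsQuasiRegular f) (n : ℕ) : Function.Injective (ψ f n) := by
  classical
  rw [injective_iff_map_eq_zero]
  intro x hx
  -- lift
  let x' : {d : Fin c →₀ ℕ // d.degree = n} → B := fun d => Quotient.out (x d)
  have hx' : ∀ d, Ideal.Quotient.mk _ (x' d) = x d := fun d => Quotient.out_eq _
  let P : MvPolynomial (Fin c) B := ∑ d ∈ x.support, MvPolynomial.monomial d.1 (x' d)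
  have hP : P.IsHomogeneous n :=
    MvPolynomial.IsHomogeneous.sum _ _ _ fun d _ => MvPolynomial.isHomogeneous_monomial _ d.2
  have hev : MvPolynomial.eval f P ∈ Ideal.span (Set.range f) ^ (n + 1) := by
    rw [← Ideal.Quotient.eq_zero_iff_mem, ← hx]
    conv_rhs => rw [← Finsupp.sum_single x]
    rw [Finsupp.sum, map_sum, map_sum, map_sum]
    refine Finset.sum_congr rfl fun d _ => ?_
    rw [← hx' d, ψ_single, MvPolynomial.eval_monomial, mul_comm]
    rfl
  have hcoef := hq n P hP hev
  ext d
  rw [Finsupp.zero_apply, ← hx' d, Ideal.Quotient.eq_zero_iff_mem]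
  by_cases hd : d ∈ x.support
  · have := hcoef d.1
    rw [MvPolynomial.coeff_sum] at this
    rw [Finset.sum_eq_single d] at this
    · simpa using this
    · intro e _ hne
      rw [MvPolynomial.coeff_monomial, if_neg]
      exact fun h => hne (Subtype.ext h)
    · intro h; exact absurd hd h
  · have : x d = 0 := Finsupp.notMem_support_iff.mp hd
    rw [← Ideal.Quotient.eq_zero_iff_mem, hx' d, this]

theorem range_ψ (n : ℕ) (y : B ⧸ Ideal.span (Set.range f) ^ (n + 1)) :
    Ideal.Quotient.factor (Ideal.pow_le_pow_right (Nat.le_succ n)) y = 0 ↔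
      y ∈ Set.range (ψ f n) := by
  classical
  constructor
  · intro hy
    obtain ⟨b, rfl⟩ := Ideal.Quotient.mk_surjective y
    rw [Ideal.Quotient.factor_mk, Ideal.Quotient.eq_zero_iff_mem,
      Ideal.mem_span_pow_iff_exists_isHomogeneous] at hy
    obtain ⟨P, hP, rfl⟩ := hy
    rw [MvPolynomial.eval_eq', map_sum]
    rw [← LinearMap.coe_range, SetLike.mem_coe]
    refine Submodule.sum_mem _ fun d hd => ?_
    have hdeg : d.degree = n := by
      have := hP (MvPolynomial.mem_support_iff.mp hd)
      rw [Finsupp.degree_eq_weight_one]; exact this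
    refine ⟨Finsupp.single ⟨d, hdeg⟩ (Ideal.Quotient.mk _ (P.coeff d)), ?_⟩
    rw [ψ_single, mul_comm]
    congr 2
    simp [mon, Finsupp.prod_fintype]
  · rintro ⟨x, rfl⟩
    induction x using Finsupp.induction_linear with
    | zero => simp
    | add x y hx hy => rw [map_add, map_add, hx, hy, add_zero]
    | single d b =>
      obtain ⟨b, rfl⟩ := Ideal.Quotient.mk_surjective b
      rw [ψ_single, Ideal.Quotient.factor_mk, Ideal.Quotient.eq_zero_iff_mem]
      have h := mon_mem f d.1
      rw [d.2] at h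
      exact Ideal.mul_mem_right _ _ h

theorem flat_quotient_pow (hq : CAlgX.IsQuasiRegular f)
    [Module.Flat A (B ⧸ Ideal.span (Set.range f))] (n : ℕ) :
    Module.Flat A (B ⧸ Ideal.span (Set.range f) ^ n) := by
  induction n with
  | zero =>
    have : Subsingleton (B ⧸ Ideal.span (Set.range f) ^ 0) := by
      rw [pow_zero, Ideal.one_eq_top]; exact Ideal.Quotient.subsingleton_iff.mpr rfl
    infer_instance
  | succ n ih =>
    have hfl : Module.Flat A ({d : Fin c →₀ ℕ // d.degree = n} →₀
        (B ⧸ Ideal.span (Set.range f))) :=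
      Module.Flat.trans A (B ⧸ Ideal.span (Set.range f)) _
    refine Groth.Agent.Lib.RelCartier.flat_of_exact_left_right
      ((ψ f n).restrictScalars A)
      ((Ideal.Quotient.factorₐ A (Ideal.pow_le_pow_right (Nat.le_succ n))).toLinearMap)
      (ψ_injective f hq n)
      (Ideal.Quotient.factor_surjective (Ideal.pow_le_pow_right (Nat.le_succ n))) ?_
    intro y
    exact range_ψ f n y

end Graded



/-- Quasi-regularity passes to localizations. -/
theorem isQuasiRegular_of_isLocalization {R B : Type u} [CommRing R] [CommRing B] [Algebra R B]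
    (M : Submonoid R) [IsLocalization M B] {c : ℕ} (f : Fin c → R)
    (hq : CAlgX.IsQuasiRegular f) : CAlgX.IsQuasiRegular (fun i => algebraMap R B (f i)) := by
  classical
  intro n P hP hev d
  have hspan : Ideal.span (Set.range fun i => algebraMap R B (f i)) =
      (Ideal.span (Set.range f)).map (algebraMap R B) := by
    rw [Ideal.map_span, ← Set.range_comp]; rfl
  rw [hspan] at hev ⊢
  obtain ⟨b, hb⟩ := IsLocalization.exist_integer_multiples M P.support P.coeff
  choose! a ha using hb
  let P' : MvPolynomial (Fin c) R := ∑ e ∈ P.support, MvPolynomial.monomial e (a e)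
  have hP' : P'.IsHomogeneous n :=
    MvPolynomial.IsHomogeneous.sum _ _ _ fun e he =>
      MvPolynomial.isHomogeneous_monomial _ (by
        have := hP (MvPolynomial.mem_support_iff.mp he)
        rw [Finsupp.degree_eq_weight_one]; exact this)
  have hmap : MvPolynomial.map (algebraMap R B) P' = MvPolynomial.C (algebraMap R B b) * P := by
    rw [map_sum]
    conv_rhs => rw [P.as_sum, Finset.mul_sum]
    refine Finset.sum_congr rfl fun e he => ?_
    rw [MvPolynomial.map_monomial, ha e he, MvPolynomial.C_mul_monomial, Algebra.smul_def]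
  have hcoef : ∀ e, algebraMap R B (P'.coeff e) = algebraMap R B b * P.coeff e := by
    intro e
    rw [← MvPolynomial.coeff_map, hmap, MvPolynomial.coeff_C_mul]
  have hev' : algebraMap R B (MvPolynomial.eval f P') ∈
      (Ideal.span (Set.range f) ^ (n + 1)).map (algebraMap R B) := by
    have : algebraMap R B (MvPolynomial.eval f P') =
        algebraMap R B b * MvPolynomial.eval (fun i => algebraMap R B (f i)) P := by
      rw [← MvPolynomial.eval_C (f := fun i => algebraMap R B (f i)) (algebraMap R B b), ← map_mul, ← hmap,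
        MvPolynomial.eval_map]
      exact MvPolynomial.eval₂_comp_left (algebraMap R B) (RingHom.id R) f P'
    rw [this, Ideal.map_pow]
    exact Ideal.mul_mem_left _ _ hev
  rw [IsLocalization.mem_map_algebraMap_iff M] at hev'
  obtain ⟨⟨⟨x, hx⟩, t⟩, hxt⟩ := hev'
  rw [← map_mul] at hxt
  obtain ⟨t', ht'⟩ := (IsLocalization.eq_iff_exists M B).mp hxt
  have hmem : MvPolynomial.eval f (MvPolynomial.C ((t' : R) * t) * P') ∈
      Ideal.span (Set.range f) ^ (n + 1) := by
    rw [map_mul, MvPolynomial.eval_C]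
    have : (t' : R) * t * MvPolynomial.eval f P' = t' * x := by
      rw [← ht']; ring
    rw [this]
    exact Ideal.mul_mem_left _ _ hx
  have hhom : (MvPolynomial.C ((t' : R) * t) * P').IsHomogeneous n := by
    have := (MvPolynomial.isHomogeneous_C (Fin c) ((t' : R) * t)).mul hP'
    rwa [zero_add] at this
  have h1 := hq n _ hhom hmem d
  rw [MvPolynomial.coeff_C_mul] at h1
  have h2 : algebraMap R B ((t' : R) * t * P'.coeff d) ∈
      (Ideal.span (Set.range f)).map (algebraMap R B) := Ideal.mem_map_of_mem _ h1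
  rw [map_mul, hcoef, ← mul_assoc, ← map_mul] at h2
  have hu : IsUnit (algebraMap R B ((t' : R) * t * b)) :=
    IsLocalization.map_units B (t' * t * b)
  exact (Ideal.unit_mul_mem_iff_mem _ hu).mp h2


/-- Flatness over `A` of a Noetherian `A`-algebra `B` from a quasi-regular sequence in the Jacobson
radical with flat quotient. -/
theorem flat_of_isQuasiRegular {A B : Type u} [CommRing A] [CommRing B] [Algebra A B]
    [IsNoetherianRing B] {c : ℕ} (f : Fin c → B) (hq : CAlgX.IsQuasiRegular f)
    (hJ : Ideal.span (Set.range f) ≤ Ideal.jacobson ⊥)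
    [Module.Flat A (B ⧸ Ideal.span (Set.range f))] : Module.Flat A B :=
  flat_of_flat_quotient_pow _ hJ (flat_quotient_pow f hq)

/-- Kernel of a map between localizations induced by a surjection (from `Lib/H87RegImm`). -/
theorem ker_eq_map_of_local {A B S T : Type*} [CommRing A] [CommRing B] [CommRing S] [CommRing T]
    (φ : A →+* B) (hφ : Function.Surjective φ) (gA : A →+* S) (gB : B →+* T) (ψ : S →+* T)
    (hcomm : ψ.comp gA = gB.comp φ)
    (h1 : ∀ s : S, ∃ a t : A, IsUnit (gA t) ∧ s * gA t = gA a)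
    (h2 : ∀ b : B, gB b = 0 → ∃ u : B, IsUnit (gB u) ∧ u * b = 0)
    (h3 : ∀ s : S, IsUnit (ψ s) → IsUnit s) :
    RingHom.ker ψ = (RingHom.ker φ).map gA := by
  have hc : ∀ a, ψ (gA a) = gB (φ a) := fun a => congr($hcomm a)
  apply le_antisymm
  · intro s hs
    rw [RingHom.mem_ker] at hs
    obtain ⟨a, t, ht, hst⟩ := h1 s
    have h4 : gB (φ a) = 0 := by
      rw [← hc, ← hst, map_mul, hs, zero_mul]
    obtain ⟨u, hu, hub⟩ := h2 _ h4
    obtain ⟨u', rfl⟩ := hφ u
    have hu' : IsUnit (gA u') := h3 _ (by rw [hc]; exact hu)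
    have h5 : u' * a ∈ RingHom.ker φ := by
      rw [RingHom.mem_ker, map_mul]; exact hub
    have h6 : gA u' * gA a ∈ (RingHom.ker φ).map gA := by
      rw [← map_mul]; exact Ideal.mem_map_of_mem _ h5
    obtain ⟨v, hv⟩ := hu'.exists_left_inv
    obtain ⟨w, hw⟩ := ht.exists_right_inv
    have h7 : s = (w * v) * (gA u' * gA a) := by
      calc s = s * (gA t * w) := by rw [hw, mul_one]
        _ = (s * gA t) * w := by ring
        _ = gA a * w := by rw [hst]
        _ = (v * gA u') * gA a * w := by rw [hv, one_mul]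
        _ = (w * v) * (gA u' * gA a) := by ring
    rw [h7]
    exact Ideal.mul_mem_left _ _ h6
  · rw [Ideal.map_le_iff_le_comap]
    intro a ha
    rw [Ideal.mem_comap, RingHom.mem_ker, hc, RingHom.mem_ker.mp ha, map_zero]

lemma isAffineOpen_preimage_of_isClosedImmersion_restrict {Z X : Scheme.{u}} (i : Z ⟶ X)
    (U : X.Opens) (hU : IsAffineOpen U) [IsClosedImmersion (i ∣_ U)] : IsAffineOpen (i ⁻¹ᵁ U) := by
  have : IsAffine (U : Scheme.{u}) := hU
  exact (IsClosedImmersion.isAffine_surjective_of_isAffine (i ∣_ U)).1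

lemma app_surjective_of_isClosedImmersion_restrict {Z X : Scheme.{u}} (i : Z ⟶ X) (U : X.Opens)
    (hU : IsAffineOpen U) [IsClosedImmersion (i ∣_ U)] : Function.Surjective (i.app U).hom := by
  have : IsAffine (U : Scheme.{u}) := hU
  have h1 := (IsClosedImmersion.isAffine_surjective_of_isAffine (i ∣_ U)).2
  rw [morphismRestrict_appTop] at h1
  have h2 : Function.Surjective (i.app (U.ι ''ᵁ ⊤)).hom := by
    intro y
    obtain ⟨x, hx⟩ := h1 (Z.presheaf.map (eqToHom (image_morphismRestrict_preimage i U ⊤)).op y)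
    refine ⟨x, ?_⟩
    have hinj : Function.Injective
        (Z.presheaf.map (eqToHom (image_morphismRestrict_preimage i U ⊤)).op).hom :=
      (ConcreteCategory.bijective_of_isIso _).1
    exact hinj hx
  have key : ∀ W : X.Opens, W = U → Function.Surjective (i.app W).hom →
      Function.Surjective (i.app U).hom := by
    rintro W rfl h
    exact h
  exact key _ U.ι_image_top h2

/-- The abstract ring-level form of the statement. -/
theorem flat_of_local_data {A R Q B C : Type u} [CommRing A] [CommRing R] [CommRing Q]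
    [CommRing B] [CommRing C] [IsLocalRing B] [IsLocalRing C] [IsNoetherianRing B]
    (φ : R →+* Q) (hφ : Function.Surjective φ) (rs : List R)
    (hrs : CAlgX.IsQuasiRegular rs.get) (hker : RingHom.ker φ = Ideal.ofList rs)
    (p : Ideal R) [p.IsPrime] [Algebra R B] [IsLocalization.AtPrime B p]
    (gQ : Q →+* C) (ψ : B →+* C) (hψ : Function.Surjective ψ) [IsLocalHom ψ]
    (hcomm : ψ.comp (algebraMap R B) = gQ.comp φ)
    (h2 : ∀ b : Q, gQ b = 0 → ∃ u : Q, IsUnit (gQ u) ∧ u * b = 0)
    (α : A →+* B) (hfl : (ψ.comp α).Flat) : α.Flat := by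
  have hkerψ : RingHom.ker ψ = (RingHom.ker φ).map (algebraMap R B) := by
    apply ker_eq_map_of_local φ hφ (algebraMap R B) gQ ψ hcomm
    · intro s
      obtain ⟨a, t, rfl⟩ := IsLocalization.exists_mk'_eq p.primeCompl s
      exact ⟨a, t, IsLocalization.map_units _ t, IsLocalization.mk'_spec _ a t⟩
    · exact h2
    · intro s hs
      exact isUnit_of_map_unit ψ s hs
  have hspan : Ideal.span (Set.range fun j => algebraMap R B (rs.get j)) = RingHom.ker ψ := by
    rw [hkerψ, hker, Ideal.ofList, Ideal.map_span]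
    congr 1
    ext x
    simp only [Set.mem_range, Set.mem_image, Set.mem_ofPred_eq]
    constructor
    · rintro ⟨j, rfl⟩
      exact ⟨rs.get j, List.get_mem _ _, rfl⟩
    · rintro ⟨r, hr, rfl⟩
      obtain ⟨j, rfl⟩ := List.get_of_mem hr
      exact ⟨j, rfl⟩
  have hq := isQuasiRegular_of_isLocalization (B := B) p.primeCompl rs.get hrs
  let _ : Algebra A B := α.toAlgebra
  let _ : Algebra A C := (ψ.comp α).toAlgebra
  have hflC : Module.Flat A C := hfl
  have hJ : Ideal.span (Set.range fun j => algebraMap R B (rs.get j)) ≤ Ideal.jacobson ⊥ := by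
    rw [IsLocalRing.jacobson_eq_maximalIdeal ⊥ bot_ne_top, hspan]
    intro x hx
    rw [IsLocalRing.mem_maximalIdeal, mem_nonunits_iff]
    intro hu
    have := hu.map ψ
    rw [RingHom.mem_ker.mp hx] at this
    exact not_isUnit_zero this
  have hflQ : Module.Flat A (B ⧸ Ideal.span (Set.range fun j => algebraMap R B (rs.get j))) := by
    rw [hspan]
    let e : (B ⧸ RingHom.ker ψ) ≃ₗ[A] C :=
      { (RingHom.quotientKerEquivOfSurjective hψ).toAddEquiv with
        map_smul' := by
          intro a x
          obtain ⟨b, rfl⟩ := Ideal.Quotient.mk_surjective x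
          have h1 : a • (Ideal.Quotient.mk (RingHom.ker ψ)) b =
              Ideal.Quotient.mk (RingHom.ker ψ) (α a * b) := by
            rw [Algebra.smul_def]; rfl
          change (RingHom.quotientKerEquivOfSurjective hψ) _ =
            a • (RingHom.quotientKerEquivOfSurjective hψ) _
          rw [h1, RingHom.quotientKerEquivOfSurjective_apply_mk,
            RingHom.quotientKerEquivOfSurjective_apply_mk, map_mul, Algebra.smul_def]
          rfl }
    exact Module.Flat.of_linearEquiv e
  exact flat_of_isQuasiRegular (A := A) (fun j => algebraMap R B (rs.get j)) hq hJ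

end helpers

/-- Let f : X ⟶ S be a morphism of schemes and i : Z ⟶ X a relative quasi-regular immersion (a
quasi-regular immersion with Z flat over S). If z is a point of Z such that O_{X, i z} is
Noetherian, then f is flat at i z. -/
theorem result {Z X S : Scheme.{u}} (f : X ⟶ S) (i : Z ⟶ X)
    (hi : RegImm.IsRelRegularImmersion RegImm.Kind.quasi f i) (z : ↥Z) [IsNoetherianRing ↑(X.presheaf.stalk (i z))] :
    (f.stalkMap (i z)).hom.Flat := by
  obtain ⟨⟨himm, hAt⟩, hflat⟩ := hi
  obtain ⟨U, hzU, hcl, rs, hrs, hker⟩ := hAt z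
  have hrs' : CAlgX.IsQuasiRegular rs.get := hrs
  have hU' : IsAffineOpen (i ⁻¹ᵁ U.1) :=
    isAffineOpen_preimage_of_isClosedImmersion_restrict i U.1 U.2
  have hz' : z ∈ i ⁻¹ᵁ U.1 := hzU
  letI : Algebra Γ(X, U.1) (X.presheaf.stalk (i z)) :=
    TopCat.Presheaf.algebra_section_stalk X.presheaf ⟨i z, hzU⟩
  haveI := U.2.isLocalization_stalk ⟨i z, hzU⟩
  haveI : IsLocalHom (i.stalkMap z).hom := inferInstance
  refine flat_of_local_data (i.app U.1).hom
    (app_surjective_of_isClosedImmersion_restrict i U.1 U.2) rs hrs' hker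
    (U.2.primeIdealOf ⟨i z, hzU⟩).asIdeal
    (Z.presheaf.germ (i ⁻¹ᵁ U.1) z hz').hom (i.stalkMap z).hom
    (i.stalkMap_surjective z) ?_ ?_ (f.stalkMap (i z)).hom ?_
  · change (X.presheaf.germ U.1 (i z) hzU ≫ i.stalkMap z).hom = _
    rw [← CommRingCat.hom_comp, Scheme.Hom.germ_stalkMap]
  · intro b hb
    letI : Algebra Γ(Z, i ⁻¹ᵁ U.1) (Z.presheaf.stalk z) :=
      TopCat.Presheaf.algebra_section_stalk Z.presheaf ⟨z, hz'⟩
    haveI := hU'.isLocalization_stalk ⟨z, hz'⟩
    obtain ⟨m, hm⟩ := (IsLocalization.map_eq_zero_iff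
      (hU'.primeIdealOf ⟨z, hz'⟩).asIdeal.primeCompl (Z.presheaf.stalk z) b).mp hb
    exact ⟨m, IsLocalization.map_units _ m, hm⟩
  · have h := Flat.stalkMap (i ≫ f) z
    rw [Scheme.Hom.stalkMap_comp] at h
    exact h

end Groth.Agent.S8893
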