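import Groth.Statements.S0321
import Groth.Agent.Lib.H29Depth
import Mathlib.Algebra.Homology.ShortComplex.ModuleCat

set_option autoImplicit false
universe u v
open LocCoh

namespace Groth.Agent.S0321

/-- Depth inequalities along a short exact sequence 0 → N' → N → N'' → 0 of finite modules over a
Noetherian ring: depth N ≥ min(depth N', depth N''), depth N'' ≥ min(depth N, depth N' − 1), depth
N' ≥ min(depth N, depth N'' + 1). -/
theorem result (R : Type u) [CommRing R] [IsNoetherianRing R] (I : Ideal R) (N' : Type u) [AddCommGroup N'] [Module R N'] [Module.Finite R N'] (N : Type u) [AddCommGroup N] [Module R N] [Module.Finite R N] (N'' : Type u) [AddCommGroup N''] [Module R N''] [Module.Finite R N''] (f : N' →ₗ[R] N) (g : N →ₗ[R] N'') (hf : Function.Injective f) (hg : Function.Surjective g) (hfg : Function.Exact f g) : min (LocCoh.idealDepth I N') (LocCoh.idealDepth I N'') ≤ LocCoh.idealDepth I N ∧ min (LocCoh.idealDepth I N) (LocCoh.idealDepth I N' - 1) ≤ LocCoh.idealDepth I N'' ∧ min (LocCoh.idealDepth I N) (LocCoh.idealDepth I N''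 + 1) ≤ LocCoh.idealDepth I N' := by
  let S := ModuleCat.shortComplexOfCompEqZero f g hfg.linearMap_comp_eq_zero
  have hS : S.ShortExact := ModuleCat.shortComplex_shortExact S hfg hf hg
  let X := ModuleCat.of R (R ⧸ I)
  have c1 := Lib.H29Depth.le_idealDepth_iff_ext' I N'
  have c2 := Lib.H29Depth.le_idealDepth_iff_ext' I N
  have c3 := Lib.H29Depth.le_idealDepth_iff_ext' I N''
  refine ⟨?_, ?_, ?_⟩
  · rw [← ENat.forall_natCast_le_iff_le]
    intro n hn
    rw [le_min_iff] at hn
    rw [c2]
    intro i hi
    exact Lib.H29Depth.subsingleton_ext_X₂ hS X i ((c1 n).mp hn.1 i hi) ((c3 n).mp hn.2 i hi)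
  · rw [← ENat.forall_natCast_le_iff_le]
    intro n hn
    rw [le_min_iff] at hn
    rcases Nat.eq_zero_or_pos n with rfl | hpos
    · exact zero_le
    rw [c3]
    intro i hi
    have hsucc : ((n + 1 : ℕ) : ℕ∞) ≤ LocCoh.idealDepth I N' := by
      have h2 := hn.2
      generalize LocCoh.idealDepth I N' = d at h2 ⊢
      induction d using ENat.recTopCoe with
      | top => exact le_top
      | coe k =>
        have h3 : (n : ℕ∞) ≤ ((k - 1 : ℕ) : ℕ∞) := by
          rw [ENat.natCast_sub, Nat.cast_one]
          exact h2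
        have h4 : n ≤ k - 1 := by exact_mod_cast h3
        have h5 : n + 1 ≤ k := by omega
        exact_mod_cast h5
    exact Lib.H29Depth.subsingleton_ext_X₃ hS X i ((c2 n).mp hn.1 i hi)
      ((c1 (n + 1)).mp hsucc (i + 1) (by omega))
  · rw [← ENat.forall_natCast_le_iff_le]
    intro n hn
    rw [le_min_iff] at hn
    rw [c1]
    intro i hi
    cases i with
    | zero => exact Lib.H29Depth.subsingleton_ext_X₁_zero hS X ((c2 n).mp hn.1 0 hi)
    | succ j =>
      have hj : ((j + 1 : ℕ) : ℕ∞) ≤ LocCoh.idealDepth I N'' := by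
        have h2 := hn.2
        generalize LocCoh.idealDepth I N'' = d at h2 ⊢
        induction d using ENat.recTopCoe with
        | top => exact le_top
        | coe k =>
          have h3 : n ≤ k + 1 := by exact_mod_cast h2
          have h5 : j + 1 ≤ k := by omega
          exact_mod_cast h5
      exact Lib.H29Depth.subsingleton_ext_X₁_succ hS X j ((c2 n).mp hn.1 (j + 1) hi)
        ((c3 (j + 1)).mp hj j (by omega))

end Groth.Agent.S0321
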