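import Groth.Statements.S14420
import Mathlib.RingTheory.Depth.Rees
import Mathlib.Algebra.Category.ModuleCat.Ext.Finite
import Mathlib.RingTheory.KrullDimension.Regular
import Mathlib.RingTheory.KrullDimension.Module
import Mathlib.RingTheory.Nakayama

set_option autoImplicit false
universe u
open CategoryTheory
open LocCoh
set_option linter.unusedSectionVars false

namespace Groth.Agent.S14420

open CategoryTheory Abelian IsLocalRing

section

variable {A : Type u} [CommRing A] [IsNoetherianRing A] [IsLocalRing A]
variable (M : ModuleCat.{u} A) [Module.Finite A M]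

/-- a finite module on which multiplication by an element of the maximal ideal is surjective vanishes -/
lemma subsingleton_of_smul_surjective (E : Type u) [AddCommGroup E] [Module A E] [Module.Finite A E]
    (x : A) (hx : x ∈ maximalIdeal A) (hsurj : ∀ e : E, ∃ e', x • e' = e) : Subsingleton E := by
  have h1 : (⊤ : Submodule A E) ≤ maximalIdeal A • (⊤ : Submodule A E) := by
    intro e _
    obtain ⟨e', rfl⟩ := hsurj e
    exact Submodule.smul_mem_smul hx trivial
  have h2 := Submodule.eq_bot_of_le_smul_of_le_jacobson_bot (maximalIdeal A) (⊤ : Submodule A E)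
    Module.Finite.fg_top h1 (IsLocalRing.maximalIdeal_le_jacobson _)
  exact (Submodule.subsingleton_iff A).1 (subsingleton_of_bot_eq_top h2.symm)

lemma ext_subsingleton_of_subsingleton (N : Type u) [AddCommGroup N] [Module A N] [Subsingleton N] (i : ℕ) :
    Subsingleton (Ext (ModuleCat.of A N) M i) := by
  have hz : Limits.IsZero (ModuleCat.of A N) := ModuleCat.isZero_of_subsingleton _
  have h0 : ∀ e : Ext (ModuleCat.of A N) M i, e = 0 := fun e => by
    rw [← Ext.mk₀_id_comp e, hz.eq_of_src (𝟙 _) 0, Ext.mk₀_zero, Ext.zero_comp]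
  exact ⟨fun a b => (h0 a).trans (h0 b).symm⟩

lemma shortExact_of {B : Type u} [CommRing B] {N₁ N₂ N₃ : Type u} [AddCommGroup N₁] [Module B N₁] [AddCommGroup N₂]
    [Module B N₂] [AddCommGroup N₃] [Module B N₃] (f : N₁ →ₗ[B] N₂) (g : N₂ →ₗ[B] N₃)
    (hf : Function.Injective f) (hg : Function.Surjective g) (hfg : Function.Exact f g) :
    (ShortComplex.mk (ModuleCat.ofHom f) (ModuleCat.ofHom g)
      (by ext x; exact hfg.apply_apply_eq_zero x)).ShortExact := by
  refine ShortComplex.ShortExact.mk' ?_ ?_ ?_
  · rw [ShortComplex.ShortExact.moduleCat_exact_iff_function_exact]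
    exact hfg
  · exact (ModuleCat.mono_iff_injective _).2 hf
  · exact (ModuleCat.epi_iff_surjective _).2 hg

/-- the inductive step: vanishing for modules of dimension `≤ r` from vanishing (one degree higher) for modules of
dimension `≤ r - 1` -/
lemma step (d : ℕ)
    (h0 : ∀ N : ModuleCat.{u} A, Module.Finite A N →
      Module.support A N ⊆ PrimeSpectrum.zeroLocus (maximalIdeal A) → ∀ i < d, Subsingleton (Ext N M i))
    (r : ℕ)
    (ih : ∀ (Q : Type u) [AddCommGroup Q] [Module A Q], Module.Finite A Q → Module.supportDim A Q + 1 ≤ r →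
      ∀ j, j + r < d + 1 → Subsingleton (Ext (ModuleCat.of A Q) M j))
    (N : Type u) [AddCommGroup N] [Module A N] (hN : Module.Finite A N) :
    Module.supportDim A N ≤ r → ∀ i, i + r < d → Subsingleton (Ext (ModuleCat.of A N) M i) := by
  induction hN using IsNoetherianRing.induction_on_isQuotientEquivQuotientPrime A with
  | subsingleton N =>
    intro _ i _
    exact ext_subsingleton_of_subsingleton M N i
  | quotient N p f =>
    intro hdim i hi
    by_cases hp : p.asIdeal = maximalIdeal A
    · refine h0 (ModuleCat.of A N) inferInstance ?_ i (by omega)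
      rw [f.support_eq, Module.support_eq_zeroLocus, Ideal.annihilator_quotient, hp]
    · obtain ⟨x, hxm, hxp⟩ := SetLike.exists_of_lt
        (lt_of_le_of_ne (IsLocalRing.le_maximalIdeal p.isPrime.ne_top) hp)
      have hreg : IsSMulRegular N x := by
        intro n n' hnn'
        apply f.injective
        have h1 : x • f n = x • f n' := by
          rw [← map_smul, ← map_smul]
          exact congrArg f hnn'
        have hx0 : (Ideal.Quotient.mk p.asIdeal x) ≠ 0 := fun h => hxp (Ideal.Quotient.eq_zero_iff_mem.1 h)
        rw [Algebra.smul_def, Algebra.smul_def] at h1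
        exact mul_left_cancel₀ hx0 h1
      have hQ := Module.supportDim_quotSMulTop_succ_eq_supportDim hreg hxm
      have hsub : Subsingleton (Ext (ModuleCat.of A (QuotSMulTop x N)) M (i + 1)) :=
        ih (QuotSMulTop x N) inferInstance (hQ.le.trans hdim) (i + 1) (by omega)
      have hS := hreg.smulShortComplex_shortExact (M := ModuleCat.of A N)
      have hex := Ext.contravariant_sequence_exact₁' hS M i (i + 1) (add_comm 1 i)
      have hepi : Epi (AddCommGrpCat.ofHom ((Ext.mk₀ ((ModuleCat.of A N).smulShortComplex x).f).precomp M (zero_add i))) :=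
        hex.epi_f ((AddCommGrpCat.isZero_of_iff_subsingleton.mpr hsub).eq_zero_of_tgt _)
      rw [AddCommGrpCat.epi_iff_surjective] at hepi
      refine subsingleton_of_smul_surjective _ x hxm (fun e => ?_)
      obtain ⟨e', he'⟩ := hepi e
      refine ⟨e', ?_⟩
      rw [← he']
      have key : ∀ e'' : Ext (ModuleCat.of A N) M i,
          x • e'' = (Ext.mk₀ (x • 𝟙 (ModuleCat.of A N))).comp e'' (zero_add i) := by
        intro e''
        simp [Ext.mk₀_smul]
      exact key e'
  | exact N₁ N₂ N₃ f g hf hg hfg h₁ h₃ =>
    intro hdim i hi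
    have hS := shortExact_of f g hf hg hfg
    have s₁ := h₁ ((Module.supportDim_le_of_injective f hf).trans hdim) i hi
    have s₃ := h₃ ((Module.supportDim_le_of_surjective g hg).trans hdim) i hi
    refine ⟨fun a b => ?_⟩
    have h0 : ∀ e : Ext (ModuleCat.of A N₂) M i, e = 0 := fun e => by
      obtain ⟨e₃, he₃⟩ := Ext.contravariant_sequence_exact₂ hS M e (Subsingleton.elim _ _)
      rw [← he₃, Subsingleton.elim e₃ 0, Ext.comp_zero]
    exact (h0 a).trans (h0 b).symm

lemma main (d : ℕ)
    (h0 : ∀ N : ModuleCat.{u} A, Module.Finite A N →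
      Module.support A N ⊆ PrimeSpectrum.zeroLocus (maximalIdeal A) → ∀ i < d, Subsingleton (Ext N M i)) :
    ∀ (r : ℕ) (N : Type u) [AddCommGroup N] [Module A N], Module.Finite A N →
      Module.supportDim A N ≤ r → ∀ i, i + r < d → Subsingleton (Ext (ModuleCat.of A N) M i) := by
  intro r
  induction r with
  | zero =>
    intro N _ _ hN
    refine step M d h0 0 ?_ N hN
    intro Q _ _ hQ hdim j _
    have hbot : Module.supportDim A Q = ⊥ := by
      by_contra hne
      obtain ⟨k, hk⟩ := WithBot.ne_bot_iff_exists.1 hne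
      rw [← hk] at hdim
      have h1 : ((k + 1 : ℕ∞) : WithBot ℕ∞) ≤ ((0 : ℕ∞) : WithBot ℕ∞) := by
        simpa using hdim
      rw [WithBot.coe_le_coe] at h1
      simp at h1
    have : Subsingleton Q := (Module.supportDim_eq_bot_iff_subsingleton A Q).1 hbot
    exact ext_subsingleton_of_subsingleton M Q j
  | succ r ihr =>
    intro N _ _ hN
    refine step M d h0 (r + 1) ?_ N hN
    intro Q _ _ hQ hdim j hj
    refine ihr Q hQ ?_ j (by omega)
    by_cases hbot : Module.supportDim A Q = ⊥
    · rw [hbot]; exact bot_le
    · obtain ⟨k, hk⟩ := WithBot.ne_bot_iff_exists.1 hbot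
      rw [← hk] at hdim ⊢
      have h1 : ((k + 1 : ℕ∞) : WithBot ℕ∞) ≤ (((r : ℕ∞) + 1 : ℕ∞) : WithBot ℕ∞) := by
        simpa using hdim
      rw [WithBot.coe_le_coe] at h1
      have h2 : k ≤ (r : ℕ∞) := by
        exact (ENat.add_le_add_iff_right (by simp)).1 h1
      exact_mod_cast h2

end

open RingTheory.Sequence in
/-- Let A be a Noetherian local ring and M, N nonzero finitely generated A-modules. Then Ext^i_A(N, M) =
0 for all i < depth M − dim Supp N. Here depth M = d and the Krull dimension of the support of N = r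
are given as natural numbers and the conclusion is stated for every i with i + r < d. -/
theorem result (A : Type u) [CommRing A] [IsNoetherianRing A]
    [IsLocalRing A] (M N : Type u) [AddCommGroup M] [Module A M] [AddCommGroup N] [Module A N]
    [Module.Finite A M] [Module.Finite A N] [Nontrivial M] [Nontrivial N]
    (d r i : ℕ) (hd : LocCoh.depth A M = d) (hr : Module.supportDim A N = r) (hi : i + r < d) :
    Subsingleton (Abelian.Ext (ModuleCat.of A N) (ModuleCat.of A M) i) := by
  have hne : maximalIdeal A • (⊤ : Submodule A M) ≠ ⊤ := by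
    intro h
    have h2 := Submodule.eq_bot_of_le_smul_of_le_jacobson_bot (maximalIdeal A) (⊤ : Submodule A M)
      Module.Finite.fg_top h.ge (IsLocalRing.maximalIdeal_le_jacobson _)
    exact top_ne_bot h2
  have hd' : (⨆ (rs : List A) (_ : IsWeaklyRegular M rs ∧ ∀ r ∈ rs, r ∈ maximalIdeal A),
      (rs.length : ℕ∞)) = d := by
    have h := hd
    unfold LocCoh.depth LocCoh.idealDepth at h
    rw [if_neg hne] at h
    exact h
  obtain ⟨rs, hrs, hmem, hlen⟩ : ∃ rs : List A, IsWeaklyRegular M rs ∧
      (∀ r ∈ rs, r ∈ maximalIdeal A) ∧ d ≤ rs.length := by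
    by_contra hcon
    push Not at hcon
    rcases Nat.eq_zero_or_pos d with h | h
    · have := hcon [] (IsWeaklyRegular.nil A M) (by simp)
      omega
    · have h1 : (⨆ (rs : List A) (_ : IsWeaklyRegular M rs ∧ ∀ r ∈ rs, r ∈ maximalIdeal A),
          (rs.length : ℕ∞)) ≤ ((d - 1 : ℕ) : ℕ∞) := by
        refine iSup₂_le fun rs h => ?_
        have := hcon rs h.1 h.2
        exact_mod_cast Nat.le_pred_of_lt this
      rw [hd'] at h1
      have h2 : d ≤ d - 1 := by exact_mod_cast h1
      omega
  -- the prefix of length d
  have hsplit : rs = rs.take d ++ rs.drop d := (List.take_append_drop d rs).symm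
  have hw : IsWeaklyRegular M (rs.take d) := by
    rw [hsplit, isWeaklyRegular_append_iff] at hrs
    exact hrs.1
  have hmem' : ∀ r ∈ rs.take d, r ∈ maximalIdeal A := fun r hr' => hmem r (List.mem_of_mem_take hr')
  have hlen' : (rs.take d).length = d := by
    rw [List.length_take]; omega
  have hreg : IsRegular M (rs.take d) := by
    refine ⟨hw, fun htop => hne ?_⟩
    refine top_le_iff.1 (htop.le.trans (Submodule.smul_mono_left ?_))
    exact Ideal.span_le.2 (fun r hr' => hmem' r hr')
  have h0 : ∀ N' : ModuleCat.{u} A, Module.Finite A N' →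
      Module.support A N' ⊆ PrimeSpectrum.zeroLocus (maximalIdeal A) →
      ∀ i < d, Subsingleton (Abelian.Ext N' (ModuleCat.of A M) i) := by
    intro N' hN' hsupp j hj
    exact ModuleCat.subsingleton_ext_of_exists_isRegular (maximalIdeal A) N' hsupp (ModuleCat.of A M)
      (lt_top_iff_ne_top.2 hne) (rs.take d) hmem' hreg j (by omega)
  exact main (ModuleCat.of A M) d h0 r N inferInstance hr.le i hi

end Groth.Agent.S14420
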