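import Groth.Statements.S11457
import Groth.Agent.Lib.ArtinSocle88

set_option autoImplicit false
universe u
open DefT

namespace Groth.Agent.S11457

section helpers

open Groth.Agent.Lib.ArtinSocle88

theorem flat_pi_fin (R : Type*) (M : Type*) [CommRing R] [AddCommGroup M] [Module R M] [Module.Flat R M]
    (n : ℕ) : Module.Flat R (Fin n → M) :=
  Module.Flat.of_linearEquiv (DFinsupp.linearEquivFunOnFintype (R := R) (M := fun _ : Fin n => M)).symm

/-- membership in `J • ⊤` of a function module is componentwise membership in `J A'`. -/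
theorem mem_smul_top_pi_iff {C A : Type*} [CommRing C] [CommRing A] [Algebra C A] (J : Ideal C)
    (n : ℕ) (x : Fin n → A) :
    x ∈ (J • ⊤ : Submodule C (Fin n → A)) ↔ ∀ i, x i ∈ J.map (algebraMap C A) := by
  have hA : ∀ a : A, a ∈ J.map (algebraMap C A) ↔ a ∈ (J • ⊤ : Submodule C A) := by
    intro a
    rw [← mem_map_smul_top_iff (S := A) (M := A) J a, smul_eq_mul, Ideal.mul_top]
  constructor
  · intro hx i
    rw [hA]
    have h1 : (J • ⊤ : Submodule C (Fin n → A)).map (LinearMap.proj (R := C) (φ := fun _ => A) i) ≤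
        (J • ⊤ : Submodule C A) := by
      rw [Submodule.map_smul'']
      exact Submodule.smul_mono le_rfl le_top
    exact h1 ⟨x, hx, rfl⟩
  · intro hx
    have h2 : x = ∑ i, Pi.single i (x i) := by
      ext j
      simp [Finset.sum_apply, Pi.single_apply]
    rw [h2]
    refine Submodule.sum_mem _ fun i _ => ?_
    have h1 : (J • ⊤ : Submodule C A).map (LinearMap.single C (fun _ : Fin n => A) i) ≤
        (J • ⊤ : Submodule C (Fin n → A)) := by
      rw [Submodule.map_smul'']
      exact Submodule.smul_mono le_rfl le_top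
    exact h1 ⟨x i, (hA _).mp (hx i), rfl⟩

/-- The Laplace identity: the signed maximal minors of an `(r+1) × r` matrix annihilate its
columns. -/
theorem sum_minor_mul {A : Type*} [CommRing A] (r : ℕ) (φ : Matrix (Fin (r + 1)) (Fin r) A)
    (j : Fin r) :
    ∑ i : Fin (r + 1), ((-1 : A) ^ (i : ℕ) * (φ.submatrix i.succAbove id).det) * φ i j = 0 := by
  let M : Matrix (Fin (r + 1)) (Fin (r + 1)) A := fun i c => Fin.cases (φ i j) (fun l => φ i l) c
  have h0 : M.det = 0 := by
    apply Matrix.det_zero_of_column_eq (i := 0) (j := j.succ) (Fin.succ_ne_zero j).symm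
    intro k
    simp [M]
  rw [Matrix.det_succ_column_zero] at h0
  rw [← h0]
  apply Finset.sum_congr rfl
  intro i _
  have h1 : M.submatrix i.succAbove Fin.succ = φ.submatrix i.succAbove id := by
    ext a b
    simp [M]
  rw [h1]
  simp [M]
  ring

end helpers

/-- Let C' be a local Artin ring, J ⊊ C' a proper ideal annihilated by the maximal ideal, C = C'/J, A' a
flat C'-algebra of finite type with smooth special fibre, and A = A'/JA'. Let φ be an (r+1) × r
matrix over A such that 0 → A^r → A^{r+1} → A is exact, the second map sending v to Σ_i v_i f_i with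
f_i = (−1)^i det(φ with row i removed), and such that A/(f_0, …, f_r) is flat over C. Then every
matrix φ' over A' lifting φ has the same property over A': multiplication by φ' is injective, its
image is the kernel of the map given by the signed maximal minors f'_i of φ', and A'/(f'_0, …, f'_r)
is flat over C' (its reduction to A is A/(f_0, …, f_r) since minors commute with reduction). -/
theorem result (C' : Type u) [CommRing C'] [IsLocalRing C'] [IsArtinianRing C'] (J : Ideal C')
    (hJ : IsLocalRing.maximalIdeal C' * J = ⊥) (hJne : J ≠ ⊤) (A' : Type u) [CommRing A'] [Algebra C' A'] [Module.Flat C' A']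
    [Algebra.FiniteType C' A']
    [Algebra.Smooth (C' ⧸ IsLocalRing.maximalIdeal C') (A' ⧸ (IsLocalRing.maximalIdeal C').map (algebraMap C' A'))]
    (r : ℕ) (φ' : Matrix (Fin (r + 1)) (Fin r) A')
    (hφ : (Function.Injective (φ'.map (Ideal.Quotient.mk (J.map (algebraMap C' A')))).mulVecLin ∧
        LinearMap.range (φ'.map (Ideal.Quotient.mk (J.map (algebraMap C' A')))).mulVecLin = LinearMap.ker (Fintype.linearCombination (A' ⧸ J.map (algebraMap C' A')) (fun i : Fin (r + 1) => (-1 : (A' ⧸ J.map (algebraMap C' A'))) ^ (i : ℕ) * ((φ'.map (Ideal.Quotient.mk (J.map (algebraMap C' A')))).submatrix i.succAbove id).det))))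
    [Module.Flat (C' ⧸ J) ((A' ⧸ J.map (algebraMap C' A')) ⧸ Ideal.span (Set.range (fun i : Fin (r + 1) => (-1 : (A' ⧸ J.map (algebraMap C' A'))) ^ (i : ℕ) * ((φ'.map (Ideal.Quotient.mk (J.map (algebraMap C' A')))).submatrix i.succAbove id).det)))] :
    Function.Injective φ'.mulVecLin ∧
      LinearMap.range φ'.mulVecLin = LinearMap.ker (Fintype.linearCombination A' (fun i : Fin (r + 1) => (-1 : A') ^ (i : ℕ) * ((φ').submatrix i.succAbove id).det)) ∧
      Module.Flat C' (A' ⧸ Ideal.span (Set.range (fun i : Fin (r + 1) => (-1 : A') ^ (i : ℕ) * ((φ').submatrix i.succAbove id).det))) := by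
  classical
  have hnil : IsNilpotent (IsLocalRing.maximalIdeal C') :=
    Groth.Agent.Lib.ArtinianFlat.isNilpotent_maximalIdeal
  obtain ⟨hinj, hex⟩ := hφ
  -- abbreviations
  let mk := Ideal.Quotient.mk (J.map (algebraMap C' A'))
  let minor : Fin (r + 1) → A' := fun i => (-1 : A') ^ (i : ℕ) * ((φ').submatrix i.succAbove id).det
  have hminor : ∀ i, mk (minor i) = (-1 : (A' ⧸ J.map (algebraMap C' A'))) ^ (i : ℕ) *
      ((φ'.map mk).submatrix i.succAbove id).det := by
    intro i
    simp only [minor, map_mul, map_pow, map_neg, map_one]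
    congr 1
    rw [RingHom.map_det]
    rfl
  have : Module.Flat C' (Fin r → A') := flat_pi_fin C' A' r
  have : Module.Flat C' (Fin (r + 1) → A') := flat_pi_fin C' A' (r + 1)
  -- step 1
  let u₁ : (Fin r → A') →ₗ[C'] (Fin (r + 1) → A') := (φ'.mulVecLin).restrictScalars C'
  have hu₁ : ∀ x, u₁ x = φ'.mulVec x := fun x => rfl
  have hmulVec : ∀ x : Fin r → A', (mk ∘ (φ'.mulVec x)) = (φ'.map mk).mulVec (mk ∘ x) := by
    intro x
    funext i
    exact RingHom.map_mulVec mk φ' x i
  have hzero : ∀ (n : ℕ) (x : Fin n → A'), x ∈ (J • ⊤ : Submodule C' (Fin n → A')) ↔ mk ∘ x = 0 := by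
    intro n x
    rw [mem_smul_top_pi_iff]
    constructor
    · intro h
      funext i
      exact Ideal.Quotient.eq_zero_iff_mem.mpr (h i)
    · intro h i
      exact Ideal.Quotient.eq_zero_iff_mem.mp (congrFun h i)
  have h1 := Groth.Agent.Lib.ArtinSocle88.injective_and_flat_of_injMod hnil J hJne u₁ (by
    intro x hx
    rw [hzero] at hx ⊢
    rw [hu₁, hmulVec] at hx
    have : (φ'.map mk).mulVecLin (mk ∘ x) = 0 := hx
    exact (map_eq_zero_iff _ hinj).mp this)
  obtain ⟨hu₁inj, hflat₁, -⟩ := h1
  -- step 2
  let g : (Fin (r + 1) → A') →ₗ[C'] A' := (Fintype.linearCombination A' minor).restrictScalars C'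
  have hg : ∀ y, g y = ∑ i, y i * minor i := by
    intro y
    show Fintype.linearCombination A' minor y = _
    rw [Fintype.linearCombination_apply]
    rfl
  have hgu : ∀ x, g (u₁ x) = 0 := by
    intro x
    rw [hg, hu₁]
    simp only [Matrix.mulVec, dotProduct, Finset.sum_mul]
    rw [Finset.sum_comm]
    have : ∀ j, ∑ i, φ' i j * x j * minor i = x j * ∑ i, minor i * φ' i j := by
      intro j
      rw [Finset.mul_sum]
      apply Finset.sum_congr rfl
      intro i _
      ring
    have hm : ∀ j, ∑ i, minor i * φ' i j = 0 := fun j => sum_minor_mul r φ' j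
    simp only [this, hm, mul_zero, Finset.sum_const_zero]
  have hle : LinearMap.range u₁ ≤ LinearMap.ker g := by
    rintro _ ⟨x, rfl⟩
    exact hgu x
  let g' : ((Fin (r + 1) → A') ⧸ LinearMap.range u₁) →ₗ[C'] A' := (LinearMap.range u₁).liftQ g hle
  have hmkg : ∀ y, mk (g y) = Fintype.linearCombination (A' ⧸ J.map (algebraMap C' A'))
      (fun i : Fin (r + 1) => (-1 : (A' ⧸ J.map (algebraMap C' A'))) ^ (i : ℕ) *
        ((φ'.map mk).submatrix i.succAbove id).det) (mk ∘ y) := by
    intro y
    rw [hg, Fintype.linearCombination_apply, map_sum]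
    apply Finset.sum_congr rfl
    intro i _
    rw [map_mul, hminor, smul_eq_mul]
    rfl
  have h2 := Groth.Agent.Lib.ArtinSocle88.injective_and_flat_of_injMod hnil J hJne g' (by
    intro q hq
    obtain ⟨y, rfl⟩ := Submodule.mkQ_surjective _ q
    have hq' : g y ∈ (J • ⊤ : Submodule C' A') := hq
    have hq2 : g y ∈ J.map (algebraMap C' A') := by
      rw [← Groth.Agent.Lib.ArtinSocle88.mem_map_smul_top_iff (S := A') (M := A') J (g y)] at hq'
      rwa [smul_eq_mul, Ideal.mul_top] at hq'
    have hq3 : mk (g y) = 0 := Ideal.Quotient.eq_zero_iff_mem.mpr hq2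
    rw [hmkg] at hq3
    have hq4 : (mk ∘ y) ∈ LinearMap.range (φ'.map mk).mulVecLin := by
      rw [hex]
      exact hq3
    obtain ⟨pbar, hp⟩ := hq4
    have hsurj : ∀ i, ∃ a, mk a = pbar i := fun i => Ideal.Quotient.mk_surjective _
    choose p hpp using hsurj
    have hp' : mk ∘ p = pbar := funext hpp
    have h3 : y - u₁ p ∈ (J • ⊤ : Submodule C' (Fin (r + 1) → A')) := by
      rw [hzero]
      funext i
      have := congrFun hp i
      simp only [Function.comp, Pi.sub_apply, map_sub, Pi.zero_apply]
      rw [sub_eq_zero]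
      have h4 := congrFun (hmulVec p) i
      simp only [Function.comp] at h4
      rw [hu₁, h4, hp']
      exact this.symm
    have h5 : (LinearMap.range u₁).mkQ y = (LinearMap.range u₁).mkQ (y - u₁ p) := by
      rw [map_sub]
      have : (LinearMap.range u₁).mkQ (u₁ p) = 0 := by
        rw [Submodule.mkQ_apply, Submodule.Quotient.mk_eq_zero]
        exact ⟨p, rfl⟩
      rw [this, sub_zero]
    rw [h5]
    have h6 : (J • ⊤ : Submodule C' (Fin (r + 1) → A')).map (LinearMap.range u₁).mkQ ≤
        (J • ⊤ : Submodule C' ((Fin (r + 1) → A') ⧸ LinearMap.range u₁)) := by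
      rw [Submodule.map_smul'']
      exact Submodule.smul_mono le_rfl le_top
    exact h6 ⟨_, h3, rfl⟩)
  obtain ⟨hg'inj, hflat₂, -⟩ := h2
  refine ⟨hu₁inj, ?_, ?_⟩
  · ext y
    constructor
    · rintro ⟨x, rfl⟩
      exact hgu x
    · intro hy
      have h3 : g' ((LinearMap.range u₁).mkQ y) = 0 := hy
      have h4 : (LinearMap.range u₁).mkQ y = 0 := (map_eq_zero_iff _ hg'inj).mp h3
      rw [Submodule.mkQ_apply, Submodule.Quotient.mk_eq_zero] at h4
      obtain ⟨x, hx⟩ := h4
      exact ⟨x, hx⟩
  · have hrange : LinearMap.range g' = (Ideal.span (Set.range minor)).restrictScalars C' := by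
      rw [Submodule.range_liftQ]
      ext z
      rw [Submodule.restrictScalars_mem]
      have h7 : Ideal.span (Set.range minor) = LinearMap.range (Fintype.linearCombination A' minor) :=
        (Fintype.range_linearCombination A' minor).symm
      rw [h7]
      rfl
    exact Module.Flat.of_linearEquiv ((Submodule.quotEquivOfEq _ _ hrange) ≪≫ₗ
      Submodule.Quotient.restrictScalarsEquiv C' (Ideal.span (Set.range minor))).symm

end Groth.Agent.S11457
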