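import Groth.Statements.S5157
import Mathlib.Algebra.Module.Injective
import Mathlib.Algebra.Module.Torsion.Basic

set_option autoImplicit false
universe u
open Matlis

namespace Groth.Agent.S5157

open InjHull

section
variable {A : Type u} [CommRing A] (a : Ideal A) {E : Type u} [AddCommGroup E] [Module A E]

/-- The `a`-torsion of an injective `A`-module is injective over `A ⧸ a`. -/
theorem injective_torsionBy (hE : Module.Injective A E) :
    Module.Injective (A ⧸ a) (LocCoh.torsionBy a E) := by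
  apply Module.Baer.injective
  intro Jb gb
  let J : Ideal A := Jb.comap (Ideal.Quotient.mk a)
  let g : J →ₗ[A] E :=
    { toFun := fun x => (gb ⟨Ideal.Quotient.mk a x.1, x.2⟩ : LocCoh.torsionBy a E).1
      map_add' := fun x y => by
        have : (⟨Ideal.Quotient.mk a (x + y : J).1, (x + y).2⟩ : Jb) =
            ⟨Ideal.Quotient.mk a x.1, x.2⟩ + ⟨Ideal.Quotient.mk a y.1, y.2⟩ := by
          ext; simp
        rw [this, map_add]; rfl
      map_smul' := fun r x => by
        have : (⟨Ideal.Quotient.mk a (r • x : J).1, (r • x).2⟩ : Jb) =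
            Ideal.Quotient.mk a r • ⟨Ideal.Quotient.mk a x.1, x.2⟩ := by
          ext; simp
        rw [this, map_smul]; rfl }
  obtain ⟨G, hG⟩ := Module.Baer.of_injective hE J g
  have he : G 1 ∈ LocCoh.torsionBy a E := by
    rw [Submodule.mem_torsionBySet_iff]
    rintro ⟨x, hx⟩
    have hxJ : x ∈ J := by
      change Ideal.Quotient.mk a x ∈ Jb
      rw [Ideal.Quotient.eq_zero_iff_mem.mpr hx]; exact zero_mem _
    change x • G 1 = 0
    rw [← map_smul, smul_eq_mul, mul_one, hG x hxJ]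
    change (gb ⟨Ideal.Quotient.mk a x, _⟩ : LocCoh.torsionBy a E).1 = 0
    have : (⟨Ideal.Quotient.mk a x, hxJ⟩ : Jb) = 0 := by
      ext; exact Ideal.Quotient.eq_zero_iff_mem.mpr hx
    rw [this, map_zero]; rfl
  refine ⟨LinearMap.toSpanSingleton (A ⧸ a) (LocCoh.torsionBy a E) ⟨G 1, he⟩, ?_⟩
  intro xb hxb
  obtain ⟨x, rfl⟩ := Ideal.Quotient.mk_surjective xb
  have hxJ : x ∈ J := hxb
  apply Subtype.ext
  rw [LinearMap.toSpanSingleton_apply, Submodule.torsionBySet.mk_smul]
  change x • G 1 = _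
  rw [← map_smul, smul_eq_mul, mul_one, hG x hxJ]
  rfl

end


/-- Let A be a Noetherian local ring, a an ideal with A/a local (i.e. a ≠ A) and E an injective hull of
the residue field of A. Then the annihilator of a in E, E[a] = {e | a e = 0}, is an injective hull
of the residue field of A/a over A/a. -/
theorem result (A : Type u) [CommRing A] [IsLocalRing A] [IsNoetherianRing A] (a : Ideal A) [IsLocalRing (A ⧸ a)] (E : Type u) [AddCommGroup E] [Module A E] (f : IsLocalRing.ResidueField A →ₗ[A] E) (hf : InjHull.IsInjectiveHull f) : ∃ g : IsLocalRing.ResidueField (A ⧸ a) →ₗ[A ⧸ a] (LocCoh.torsionBy a E), InjHull.IsInjectiveHull g := by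
  have hane : a ≠ ⊤ := by
    intro h
    have : Subsingleton (A ⧸ a) := by rw [h]; exact Ideal.Quotient.subsingleton_iff.mpr rfl
    exact not_subsingleton (A ⧸ a) this
  have hale : a ≤ IsLocalRing.maximalIdeal A := IsLocalRing.le_maximalIdeal hane
  have hkill : ∀ x ∈ IsLocalRing.maximalIdeal A, x • f 1 = 0 := by
    intro x hx
    rw [← map_smul, Algebra.smul_def, mul_one, IsLocalRing.ResidueField.algebraMap_eq,
      (IsLocalRing.residue_eq_zero_iff x).mpr hx, map_zero]
  have he₀ : f 1 ∈ LocCoh.torsionBy a E := by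
    rw [Submodule.mem_torsionBySet_iff]
    rintro ⟨x, hx⟩
    exact hkill x (hale hx)
  let e₀ : LocCoh.torsionBy a E := ⟨f 1, he₀⟩
  have he₀ne : e₀ ≠ 0 := by
    intro h
    have h1 : f 1 = 0 := congr($(h).1)
    have := hf.injective (h1.trans (map_zero f).symm)
    exact one_ne_zero this
  have hmB : ∀ b : A, Ideal.Quotient.mk a b ∈ IsLocalRing.maximalIdeal (A ⧸ a) →
      b ∈ IsLocalRing.maximalIdeal A := by
    intro b hb
    rw [IsLocalRing.mem_maximalIdeal, mem_nonunits_iff] at hb ⊢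
    exact fun h => hb (h.map _)
  have hker : IsLocalRing.maximalIdeal (A ⧸ a) ≤
      LinearMap.ker (LinearMap.toSpanSingleton (A ⧸ a) (LocCoh.torsionBy a E) e₀) := by
    intro bb hbb
    obtain ⟨b, rfl⟩ := Ideal.Quotient.mk_surjective bb
    rw [LinearMap.mem_ker, LinearMap.toSpanSingleton_apply, Submodule.torsionBySet.mk_smul]
    apply Subtype.ext
    exact hkill b (hmB b hbb)
  let g : IsLocalRing.ResidueField (A ⧸ a) →ₗ[A ⧸ a] (LocCoh.torsionBy a E) :=
    (IsLocalRing.maximalIdeal (A ⧸ a)).liftQ _ hker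
  have hg : ∀ bb : A ⧸ a, g (IsLocalRing.residue (A ⧸ a) bb) = bb • e₀ := fun bb => rfl
  refine ⟨g, ⟨⟨?_, ?_⟩, injective_torsionBy a hf.isInjective⟩⟩
  · rw [← LinearMap.ker_eq_bot, Submodule.eq_bot_iff]
    intro x hx
    obtain ⟨bb, rfl⟩ := IsLocalRing.residue_surjective x
    rw [LinearMap.mem_ker, hg] at hx
    rw [IsLocalRing.residue_eq_zero_iff, IsLocalRing.mem_maximalIdeal, mem_nonunits_iff]
    intro hu
    apply he₀ne
    obtain ⟨u, rfl⟩ := hu
    calc e₀ = (↑u⁻¹ : A ⧸ a) • ((u : A ⧸ a) • e₀) := by rw [smul_smul, Units.inv_mul, one_smul]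
      _ = 0 := by rw [hx, smul_zero]
  · intro N hN
    obtain ⟨n, hnN, hn0⟩ := (Submodule.ne_bot_iff N).mp hN
    let N' : Submodule A E := (N.restrictScalars A).map (LocCoh.torsionBy a E).subtype
    have hN' : N' ≠ ⊥ := by
      rw [Submodule.ne_bot_iff]
      exact ⟨n.1, ⟨n, hnN, rfl⟩, fun h => hn0 (Subtype.ext h)⟩
    have := hf.essential N' hN'
    rw [Submodule.ne_bot_iff] at this ⊢
    obtain ⟨y, ⟨⟨n', hn'N, rfl⟩, ⟨c, hc⟩⟩, hy0⟩ := this
    obtain ⟨b, rfl⟩ := IsLocalRing.residue_surjective c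
    refine ⟨n', ⟨hn'N, ⟨IsLocalRing.residue (A ⧸ a) (Ideal.Quotient.mk a b), ?_⟩⟩, fun h => hy0 (by rw [h]; rfl)⟩
    rw [hg, Submodule.torsionBySet.mk_smul]
    apply Subtype.ext
    change b • f 1 = _
    rw [← map_smul, Algebra.smul_def, mul_one]
    exact hc

end Groth.Agent.S5157
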