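import Groth.Statements.S0365
import Groth.Agent.Lib.H29HomFree

set_option autoImplicit false
universe u v
open CategoryTheory
attribute [local instance] HasDerivedCategory.standard
open Dual

namespace Groth.Agent.S0365

/-- For a Noetherian local ring with normalized dualizing complex ω, the depth of the ring is the least
δ ≥ 0 with H^{-δ}(ω) nonzero. -/
theorem result (A : Type u) [CommRing A] [IsLocalRing A] [IsNoetherianRing A] (ω : Dual.D A) (hω : Dual.IsDualizing A ω) (hn : Dual.IsNormalized A ω) (n : ℕ) : LocCoh.depth A A = n ↔ ((∀ δ : ℕ, δ < n → Subsingleton (Dual.HD A ω (-(δ : ℤ)))) ∧ Nontrivial (Dual.HD A ω (-(n : ℤ)))) := by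
  have key := Groth.Agent.Lib.H29DualLocal.depth_iff A ω hω hn A n
  rw [key]
  have e : ∀ j : ℤ, Nonempty ((Dual.inD A A ⟶ ω⟦j⟧) ≃ Dual.HD A ω j) :=
    fun j => Groth.Agent.Lib.H29HomFree.nonempty_equiv A ω j
  constructor
  · rintro ⟨h1, h2⟩
    refine ⟨fun δ hδ => ?_, ?_⟩
    · obtain ⟨e'⟩ := e (-(δ : ℤ))
      haveI := h1 δ hδ
      exact e'.symm.subsingleton
    · obtain ⟨e'⟩ := e (-(n : ℤ))
      haveI := h2
      exact e'.symm.nontrivial
  · rintro ⟨h1, h2⟩
    refine ⟨fun δ hδ => ?_, ?_⟩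
    · obtain ⟨e'⟩ := e (-(δ : ℤ))
      haveI := h1 δ hδ
      exact e'.subsingleton
    · obtain ⟨e'⟩ := e (-(n : ℤ))
      haveI := h2
      exact e'.nontrivial

end Groth.Agent.S0365
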