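import Groth.Statements.S0366
import Groth.Agent.Lib.H29DualSupp

set_option autoImplicit false
universe u v
open CategoryTheory
attribute [local instance] HasDerivedCategory.standard
open Dual

namespace Groth.Agent.S0366

open Groth.Agent.Lib.H29DualPrime

/-- Let A be a Noetherian local ring with a normalized dualizing complex ω and M a finite A-module whose
support has dimension d. Then for every integer i the A-module Ext^i(M, ω) = Hom_{D(A)}(M, ω[i]) is
nonzero only if −d ≤ i ≤ 0, and its support has dimension at most −i (read as 0 when i > 0). -/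
theorem result (A : Type u) [CommRing A] [IsLocalRing A] [IsNoetherianRing A] (ω : Dual.D A) (hω : Dual.IsDualizing A ω) (hn : Dual.IsNormalized A ω) (M : Type u) [AddCommGroup M] [Module A M] [Module.Finite A M] (d : ℕ) (hd : Module.supportDim A M = d) (i : ℤ) : (Nontrivial (Dual.inD A M ⟶ ω⟦i⟧) → (-(d : ℤ) ≤ i ∧ i ≤ 0)) ∧ Module.supportDim A (Dual.inD A M ⟶ ω⟦i⟧) ≤ ((-i).toNat : WithBot ℕ∞) := by
  classical
  refine ⟨fun hnt => ?_, ?_⟩
  · by_contra hcon
    have h1 : i < -(d : ℤ) ∨ 0 < i := by omega
    rcases h1 with h | h
    · haveI := Groth.Agent.Lib.H29DualDim.subsingleton_T_of_lt_neg_supportDim A ω hω hn d M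
        (le_of_eq hd) i h
      exact absurd hnt (not_nontrivial _)
    · haveI := Groth.Agent.Lib.H29DualLocal.subsingleton_T_pos A ω hω hn M i h
      exact absurd hnt (not_nontrivial _)
  · have key : ∀ x : LTSeries (Module.support A (Dual.inD A M ⟶ ω⟦i⟧)),
        x.length ≤ (-i).toNat := by
      intro x
      let q : PrimeSpectrum A := x.head.1
      have hq : q ∈ Module.support A (Dual.inD A M ⟶ ω⟦i⟧) := x.head.2
      let S := q.asIdeal.primeCompl
      haveI : IsNoetherianRing (Localization S) :=
        IsLocalization.isNoetherianRing S (Localization S) inferInstance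
      haveI : Module.Finite (Localization S) (LocalizedModule S M) := inferInstance
      have hW := isDualizing_WAt A ω hω q
      have hnW := isNormalized_WAt A ω hω q
      have hnt := (mem_support_inD_iff A ω hω q M i (i - degAt A ω hω q) (by ring)).mp hq
      have h1 : i ≤ degAt A ω hω q := by
        by_contra hcon
        haveI := Groth.Agent.Lib.H29DualLocal.subsingleton_T_pos (Localization S) _ hW hnW
          (LocalizedModule S M) (i - degAt A ω hω q) (by omega)
        exact absurd hnt (not_nontrivial _)
      have hsm : StrictMono (fun y : Module.support A (Dual.inD A M ⟶ ω⟦i⟧) =>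
          degAt A ω hω y.1) := fun a b hab => degAt_strictMono A ω hω hab
      have h2 := LTSeries.head_add_length_le_int (x.map _ hsm)
      simp only [LTSeries.head_map, LTSeries.last_map, LTSeries.map_length] at h2
      have h3 : degAt A ω hω x.last.1 ≤ degAt A ω hω (IsLocalRing.closedPoint A) :=
        degAt_le_of_le A ω hω _ _ (IsLocalRing.le_maximalIdeal x.last.1.2.ne_top)
      rw [degAt_closedPoint A ω hω hn] at h3
      have h4 : degAt A ω hω x.head.1 = degAt A ω hω q := rfl
      omega
    unfold Module.supportDim Order.krullDim
    exact iSup_le fun x => by exact_mod_cast key x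

end Groth.Agent.S0366
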