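import Groth.Statements.S19859
import Groth.Agent.Lib.H29DualSupp

set_option autoImplicit false
universe u
open CategoryTheory
attribute [local instance] HasDerivedCategory.standard
open Dual

namespace Groth.Agent.S19859

open Groth.Agent.Lib.H29DualPrime

/-- Let A be a Noetherian local ring with a normalized dualizing complex ω (so the codimension function
of ω vanishes at the closed point) and M a nonzero finite A-module with support of dimension d. Then
Ext^{-d}(M, ω), the A-module of morphisms M → ω[-d] in D(A), is nonzero. (The source states this at
every point x of a locally Noetherian scheme with a dualizing complex, in the degree given by the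
codimension function at x minus the dimension of the stalk; localizing and shifting reduces to the
closed point of a local ring with a normalized complex, which is the form stated here.) -/
theorem result (A : Type u) [CommRing A] [IsLocalRing A]
    [IsNoetherianRing A] (ω : Dual.D A) (hω : Dual.IsDualizing A ω) (hn : Dual.IsNormalized A ω)
    (M : Type u) [AddCommGroup M] [Module A M] [Module.Finite A M] [Nontrivial M]
    (d : ℕ) (hd : Module.supportDim A M = d) :
    Nontrivial (Dual.inD A M ⟶ ω⟦(-(d : ℤ))⟧) := by
  classical
  have hle : ((d : ℕ) : WithBot ℕ∞) ≤ Order.krullDim (Module.support A M) := le_of_eq hd.symm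
  obtain ⟨x, hx⟩ := Order.le_krullDim_iff.mp hle
  let q : PrimeSpectrum A := x.head.1
  have hq : q ∈ Module.support A M := x.head.2
  have hdeg : degAt A ω hω q = -(d : ℤ) := by
    apply degAt_eq_neg_dim A ω hω hn q d
    rw [ringKrullDim_quotient]
    apply le_antisymm
    · rw [← hd]
      exact Order.krullDim_le_of_strictMono
        (fun y : PrimeSpectrum.zeroLocus (R := A) q.asIdeal =>
          (⟨y.1, Module.mem_support_mono y.2 hq⟩ : Module.support A M)) (fun a b hab => hab)
    · have hmem : ∀ i, (x i).1 ∈ PrimeSpectrum.zeroLocus (R := A) q.asIdeal := by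
        intro i
        have : x.head ≤ x i := x.strictMono.monotone (Fin.zero_le _)
        exact this
      let y : LTSeries (PrimeSpectrum.zeroLocus (R := A) q.asIdeal) :=
        LTSeries.mk x.length (fun i => ⟨(x i).1, hmem i⟩) (fun a b hab => x.strictMono hab)
      have := Order.LTSeries.length_le_krullDim y
      rw [← hx]
      exact this
  let S := q.asIdeal.primeCompl
  haveI : IsNoetherianRing (Localization S) :=
    IsLocalization.isNoetherianRing S (Localization S) inferInstance
  haveI : Nontrivial (LocalizedModule S M) := Module.mem_support_iff.mp hq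
  haveI : Module.Finite (Localization S) (LocalizedModule S M) := inferInstance
  have hW := isDualizing_WAt A ω hω q
  have hnW := isNormalized_WAt A ω hω q
  obtain ⟨δ, hδ⟩ := ENat.ne_top_iff_exists.mp
    (Groth.Agent.Lib.DepthRees.depth_ne_top (R := Localization S) (LocalizedModule S M))
  obtain ⟨_, g2⟩ := Groth.Agent.Lib.H29DualLocal.depth_imp (Localization S) _ hW hnW δ
    (LocalizedModule S M) hδ.symm
  have hmem := (mem_support_inD_iff A ω hω q M (-(d : ℤ) + -(δ : ℤ)) (-(δ : ℤ))
    (by rw [hdeg])).mpr g2
  have hnt : Nontrivial (Dual.inD A M ⟶ ω⟦(-(d : ℤ) + -(δ : ℤ))⟧) := by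
    by_contra hcon
    rw [not_nontrivial_iff_subsingleton] at hcon
    rw [Module.support_eq_empty] at hmem
    exact hmem
  rcases Nat.eq_zero_or_pos δ with h0 | hpos
  · subst h0
    simpa using hnt
  · haveI := Groth.Agent.Lib.H29DualDim.subsingleton_T_of_lt_neg_supportDim A ω hω hn d M
      (le_of_eq hd) (-(d : ℤ) + -(δ : ℤ)) (by omega)
    exact absurd hnt (not_nontrivial _)

end Groth.Agent.S19859
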