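import Groth.Statements.S1774
import Groth.Agent.Lib.DFinHom25
import Groth.Agent.Lib.DProjHom

set_option autoImplicit false
universe u
open CategoryTheory
attribute [local instance] HasDerivedCategory.standard
open Dual

namespace Groth.Agent.S1774

/-- Let A → B be a finite homomorphism of Noetherian rings and R : D(A) → D(B) a right adjoint to
restriction of scalars D(B) → D(A). If K in D(A) is bounded below (its cohomology modules vanish
below some degree) and all its cohomology modules are finite A-modules, then all cohomology modules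
of R(K) are finite B-modules. -/
theorem result (A B : Type u) [CommRing A] [CommRing B] [Algebra A B] [IsNoetherianRing A] [IsNoetherianRing B] [Module.Finite A B] (R : Dual.D A ⥤ Dual.D B) (adj : DRing.restrictD (algebraMap A B) ⊣ R) (K : Dual.D A) (a : ℤ) (hKa : ∀ i : ℤ, i < a → Subsingleton (Dual.HD A K i)) (hK : ∀ i : ℤ, Module.Finite A (Dual.HD A K i)) (i : ℤ) : Module.Finite B (Dual.HD B (R.obj K) i) := by
  classical
  let φ : A →+* B := algebraMap A B
  let res := DRing.restrictD φ
  let PB : ModuleCat.{u} B := ModuleCat.of B B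
  let SB : Dual.D B := (DerivedCategory.singleFunctor (ModuleCat.{u} B) 0).obj PB
  let M : ModuleCat.{u} A := (ModuleCat.restrictScalars φ).obj PB
  let SM : Dual.D A := (DerivedCategory.singleFunctor (ModuleCat.{u} A) 0).obj M
  have hMfin : Module.Finite A M :=
    Module.Finite.of_surjective
      ({ toFun := fun x => x, map_add' := fun _ _ => rfl, map_smul' := fun a x =>
          (Algebra.smul_def a x).trans rfl } : B →ₗ[A] M) (fun x => ⟨x, rfl⟩)
  have hT : Module.Finite A (SM ⟶ K⟦i⟧) :=
    Groth.Agent.Lib.DFinHom25.finite_hom_single M K a hKa hK i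
  -- the comparison isomorphisms
  let eS := (ModuleCat.restrictScalars φ).mapDerivedCategorySingleFunctor 0
  let e : res.obj SB ≅ SM := eS.app PB
  let c : R.obj (K⟦i⟧) ≅ (R.obj K)⟦i⟧ := (Adjunction.RightAdjointCommShift.iso adj i).app K
  let N' : ModuleCat.{u} B :=
    (DerivedCategory.homologyFunctor (ModuleCat.{u} B) 0).obj ((R.obj K)⟦i⟧)
  haveI : res.Additive := inferInstance
  haveI : R.Additive := adj.right_adjoint_additive
  -- the map
  let Θ₀ : (SM ⟶ K⟦i⟧) → (SB ⟶ (R.obj K)⟦i⟧) := fun f => adj.homEquiv SB (K⟦i⟧) (e.hom ≫ f) ≫ c.hom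
  let Θ : (SM ⟶ K⟦i⟧) → N' := fun f =>
    (Groth.Agent.Lib.DProjHom.homToH0 PB ((R.obj K)⟦i⟧) (Θ₀ f)).hom (1 : B)
  have hΘ₀sub : ∀ f f', Θ₀ (f - f') = Θ₀ f - Θ₀ f' := by
    intro f f'
    simp only [Θ₀, Adjunction.homEquiv_unit, Preadditive.comp_sub, Functor.map_sub,
      Preadditive.sub_comp]
  have hΘsub : ∀ f f', Θ (f - f') = Θ f - Θ f' := by
    intro f f'
    change (Groth.Agent.Lib.DProjHom.homToH0 PB ((R.obj K)⟦i⟧) (Θ₀ (f - f'))).hom (1 : B) = _
    rw [hΘ₀sub, Groth.Agent.Lib.DProjHom.homToH0_sub]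
    rfl
  -- naturality with respect to endomorphisms of `B`
  have hΘ₀nat : ∀ (u : PB ⟶ PB) (f : SM ⟶ K⟦i⟧),
      Θ₀ ((DerivedCategory.singleFunctor (ModuleCat.{u} A) 0).map
        ((ModuleCat.restrictScalars φ).map u) ≫ f) =
      (DerivedCategory.singleFunctor (ModuleCat.{u} B) 0).map u ≫ Θ₀ f := by
    intro u f
    have hnat : res.map ((DerivedCategory.singleFunctor (ModuleCat.{u} B) 0).map u) ≫ e.hom =
        e.hom ≫ (DerivedCategory.singleFunctor (ModuleCat.{u} A) 0).map
          ((ModuleCat.restrictScalars φ).map u) := eS.hom.naturality u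
    simp only [Θ₀]
    rw [← Category.assoc e.hom, ← hnat, Category.assoc, Adjunction.homEquiv_naturality_left,
      Category.assoc]
  have hΘsmul : ∀ (r : A) (f : SM ⟶ K⟦i⟧), Θ (r • f) = φ r • Θ f := by
    intro r f
    let u : PB ⟶ PB := φ r • 𝟙 PB
    have h1 : r • f = (DerivedCategory.singleFunctor (ModuleCat.{u} A) 0).map
        ((ModuleCat.restrictScalars φ).map u) ≫ f := by
      have h2 : (ModuleCat.restrictScalars φ).map u = r • 𝟙 M := by
        ext x
        rfl
      rw [h2, Functor.map_smul, CategoryTheory.Functor.map_id, Linear.smul_comp,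
        Category.id_comp]
    simp only [Θ]
    rw [h1, hΘ₀nat, Groth.Agent.Lib.DProjHom.homToH0_naturality]
    change (Groth.Agent.Lib.DProjHom.homToH0 PB ((R.obj K)⟦i⟧) (Θ₀ f)).hom (u.hom (1 : B)) = _
    have h3 : u.hom (1 : B) = φ r • (1 : B) := rfl
    rw [h3, map_smul]
  -- surjectivity
  have hΘ₀surj : Function.Surjective Θ₀ := by
    intro g
    refine ⟨e.inv ≫ (adj.homEquiv SB (K⟦i⟧)).symm (g ≫ c.inv), ?_⟩
    simp only [Θ₀, Iso.hom_inv_id_assoc, Equiv.apply_symm_apply, Category.assoc, Iso.inv_hom_id,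
      Category.comp_id]
  have hΘsurj : Function.Surjective Θ := by
    intro y
    let g : PB ⟶ N' := ModuleCat.ofHom (LinearMap.toSpanSingleton B N' y)
    obtain ⟨ψ, hψ⟩ := (Groth.Agent.Lib.DProjHom.homToH0_bijective PB ((R.obj K)⟦i⟧)).2 g
    obtain ⟨f, hf⟩ := hΘ₀surj ψ
    refine ⟨f, ?_⟩
    simp only [Θ]
    rw [hf, hψ]
    change (1 : B) • y = y
    rw [one_smul]
  -- assemble
  letI : Module A N' := Module.compHom N' φ
  haveI : IsScalarTower A B N' := ⟨fun r b x => by
    rw [Algebra.smul_def, mul_smul]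
    rfl⟩
  let Θlin : (SM ⟶ K⟦i⟧) →ₗ[A] N' :=
    { toFun := Θ
      map_add' := (AddMonoidHom.ofMapSub Θ hΘsub).map_add
      map_smul' := fun r f => hΘsmul r f }
  have hfinA : Module.Finite A N' := Module.Finite.of_surjective Θlin hΘsurj
  have hfinB : Module.Finite B N' := Module.Finite.of_restrictScalars_finite A B N'
  have hfinB' : Module.Finite B ((shiftFunctor (Dual.D B) i ⋙
      (DerivedCategory.homologyFunctor (ModuleCat.{u} B) 0).shift (0 : ℤ)).obj (R.obj K)) := hfinB
  exact Module.Finite.equiv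
    (((DerivedCategory.homologyFunctor (ModuleCat.{u} B) 0).shiftIso i 0 i (add_zero i)).app
      (R.obj K)).toLinearEquiv

end Groth.Agent.S1774
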