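import Groth.Statements.S12908
import Mathlib.Tactic
import Groth.Agent.Lib.H26HilbertBurch
import Groth.Agent.Lib.DepthRees

set_option autoImplicit false
universe u
open CAlgX

namespace Groth.Agent.S12908

section Aux

open Groth.Agent.Lib.H26HilbertBurch

variable {R : Type u} [CommRing R]

/-- from depth ≥ 2 extract a "regular pair" in elementary form. -/
lemma exists_pair (I : Ideal R) (hdepth : 2 ≤ LocCoh.idealDepth I R) :
    ∃ x y : R, x ∈ I ∧ y ∈ I ∧ (∀ r : R, x * r = 0 → r = 0) ∧
      (∀ r s : R, y * r = x * s → ∃ r' : R, r = x * r') := by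
  by_cases hI : I • (⊤ : Submodule R R) = ⊤
  · have h1 : (1 : R) ∈ I := by
      have : I = ⊤ := by simpa using hI
      rw [this]; trivial
    exact ⟨1, 1, h1, h1, fun r hr => by simpa using hr, fun r s _ => ⟨r, by simp⟩⟩
  · have h2 : ((2 : ℕ) : ℕ∞) ≤ LocCoh.idealDepth I R := by exact_mod_cast hdepth
    obtain ⟨rs, hlen, hmem, hreg⟩ :=
      (Groth.Agent.Lib.DepthRees.natCast_le_idealDepth_iff I R hI 2).mp h2
    match rs, hlen with
    | [x, y], _ =>
      rw [RingTheory.Sequence.isWeaklyRegular_cons_iff] at hreg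
      obtain ⟨hx, hy⟩ := hreg
      rw [RingTheory.Sequence.isWeaklyRegular_cons_iff] at hy
      obtain ⟨hy, -⟩ := hy
      refine ⟨x, y, hmem x (by simp), hmem y (by simp), ?_, ?_⟩
      · intro r hr
        apply hx
        simpa using hr
      · intro r s hrs
        have h3 : y • (Submodule.Quotient.mk r : QuotSMulTop x R) = y • 0 := by
          rw [smul_zero, ← Submodule.Quotient.mk_smul, Submodule.Quotient.mk_eq_zero]
          rw [smul_eq_mul, hrs]
          exact Submodule.smul_mem_pointwise_smul s x ⊤ trivial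
        have h4 := hy h3
        rw [Submodule.Quotient.mk_eq_zero] at h4
        obtain ⟨r', -, hr'⟩ := h4
        exact ⟨r', by rw [← hr']; rfl⟩

end Aux

/-- Let R be a Noetherian ring, t a natural number, Ψ a (t+1) × t matrix over R such that the
I_t(Ψ)-depth of R is at least 2, where I_t(Ψ) is the ideal generated by the t × t minors of Ψ, and a
a non-zero-divisor of R. Put Δ_i = a · (-1)^i det Ψ_i, where Ψ_i is Ψ with row i deleted. Then 0 →
R^t → R^{t+1} → R, with first map Ψ and second map v ↦ Σ_i Δ_i v_i, is exact: Ψ is injective and the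
kernel of the second map equals the image of Ψ; moreover the image of the second map is the ideal a
· I_t(Ψ). (The published statement adds that this ideal has depth 2 exactly when a is a unit; that
clause is not stated here.) -/
theorem result {R : Type u} [CommRing R] [IsNoetherianRing R] (t : ℕ)
    (Ψ : Matrix (Fin (t + 1)) (Fin t) R) (hdepth : 2 ≤ LocCoh.idealDepth (CAlgX.minorIdeal Ψ t) R)
    (a : R) (ha : a ∈ nonZeroDivisors R) :
    LinearMap.ker Ψ.mulVecLin = ⊥ ∧
      LinearMap.ker (Fintype.linearCombination R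
          (fun i : Fin (t + 1) => a * ((-1 : R) ^ (i : ℕ) * (Ψ.submatrix i.succAbove id).det))) =
        LinearMap.range Ψ.mulVecLin ∧
      LinearMap.range (Fintype.linearCombination R
          (fun i : Fin (t + 1) => a * ((-1 : R) ^ (i : ℕ) * (Ψ.submatrix i.succAbove id).det))) =
        Ideal.span {a} * CAlgX.minorIdeal Ψ t := by
  classical
  obtain ⟨x, y, hxI, hyI, P1, P2⟩ := exists_pair _ hdepth
  rw [Groth.Agent.Lib.H26HilbertBurch.minorIdeal_eq] at hxI hyI ⊢
  set δ := Groth.Agent.Lib.H26HilbertBurch.δ Ψ with hδ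
  -- every element of the ideal of minors kills the kernel of `Ψ`
  have hkill : ∀ z ∈ Ideal.span (Set.range δ), ∀ w : Fin t → R, Ψ.mulVec w = 0 → z • w = 0 := by
    intro z hz w hw
    refine Submodule.span_induction (p := fun z _ => z • w = 0) ?_ ?_ ?_ ?_ hz
    · rintro _ ⟨c, rfl⟩
      exact Groth.Agent.Lib.H26HilbertBurch.delta_smul_eq_zero Ψ w hw c
    · exact zero_smul _ _
    · intro a b _ _ ha hb
      rw [add_smul, ha, hb, add_zero]
    · intro a b _ hb
      rw [smul_eq_mul, mul_smul, hb, smul_zero]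
  have hinj : ∀ w : Fin t → R, Ψ.mulVec w = 0 → w = 0 := by
    intro w hw
    have h1 := hkill x hxI w hw
    ext j
    exact P1 (w j) (by simpa using congrFun h1 j)
  have hΔ : ∀ v : Fin (t + 1) → R, Fintype.linearCombination R
      (fun i : Fin (t + 1) => a * ((-1 : R) ^ (i : ℕ) * (Ψ.submatrix i.succAbove id).det)) v =
      a * ∑ i : Fin (t + 1), (-1) ^ (i : ℕ) * v i * δ i := by
    intro v
    rw [Fintype.linearCombination_apply, Finset.mul_sum]
    refine Finset.sum_congr rfl fun i _ => ?_
    simp only [smul_eq_mul, hδ, Groth.Agent.Lib.H26HilbertBurch.δ]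
    ring
  refine ⟨?_, ?_, ?_⟩
  · rw [LinearMap.ker_eq_bot']
    intro w hw
    exact hinj w hw
  · apply le_antisymm
    · intro v hv
      rw [LinearMap.mem_ker, hΔ] at hv
      have hv0 : ∑ i : Fin (t + 1), (-1) ^ (i : ℕ) * v i * δ i = 0 := by
        exact (mul_left_mem_nonZeroDivisors_eq_zero_iff ha).mp hv
      have hc := Groth.Agent.Lib.H26HilbertBurch.exists_mulVec_eq Ψ v hv0
      have hall : ∀ z ∈ Ideal.span (Set.range δ), ∃ w : Fin t → R, Ψ.mulVec w = z • v := by
        intro z hz
        refine Submodule.span_induction (p := fun z _ => ∃ w : Fin t → R, Ψ.mulVec w = z • v)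
          ?_ ?_ ?_ ?_ hz
        · rintro _ ⟨c, rfl⟩
          exact hc c
        · exact ⟨0, by rw [Matrix.mulVec_zero, zero_smul]⟩
        · rintro a b _ _ ⟨wa, hwa⟩ ⟨wb, hwb⟩
          exact ⟨wa + wb, by rw [Matrix.mulVec_add, hwa, hwb, add_smul]⟩
        · rintro a b _ ⟨wb, hwb⟩
          exact ⟨a • wb, by rw [Matrix.mulVec_smul, hwb, smul_eq_mul, mul_smul]⟩
      obtain ⟨wx, hwx⟩ := hall x hxI
      obtain ⟨wy, hwy⟩ := hall y hyI
      have h1 : Ψ.mulVec (y • wx - x • wy) = 0 := by
        rw [Matrix.mulVec_sub, Matrix.mulVec_smul, Matrix.mulVec_smul, hwx, hwy, smul_smul,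
          smul_smul, mul_comm, sub_self]
      have h2 : y • wx = x • wy := sub_eq_zero.mp (hinj _ h1)
      have h3 : ∀ j, ∃ r' : R, wx j = x * r' := fun j =>
        P2 (wx j) (wy j) (by simpa using congrFun h2 j)
      choose w' hw' using h3
      refine ⟨w', ?_⟩
      have h4 : wx = x • w' := by
        ext j; simpa using hw' j
      have h5 : x • Ψ.mulVec w' = x • v := by
        rw [← Matrix.mulVec_smul, ← h4, hwx]
      ext i
      have h6 := congrFun h5 i
      simp only [Pi.smul_apply, smul_eq_mul] at h6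
      have h7 : x * ((Ψ.mulVec w') i - v i) = 0 := by rw [mul_sub, h6, sub_self]
      exact sub_eq_zero.mp (P1 _ h7)
    · rintro _ ⟨w, rfl⟩
      rw [LinearMap.mem_ker, hΔ]
      have := Groth.Agent.Lib.H26HilbertBurch.sum_mulVec Ψ w
      change a * ∑ i : Fin (t + 1), (-1) ^ (i : ℕ) * (Ψ.mulVec w) i * δ i = 0
      rw [this, mul_zero]
  · rw [Fintype.range_linearCombination, Ideal.span_mul_span']
    apply le_antisymm
    · rw [Submodule.span_le]
      rintro _ ⟨i, rfl⟩
      have h1 : a * ((-1 : R) ^ (i : ℕ) * (Ψ.submatrix i.succAbove id).det) =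
          (-1 : R) ^ (i : ℕ) * (a * δ i) := by
        simp only [hδ, Groth.Agent.Lib.H26HilbertBurch.δ]; ring
      change a * ((-1 : R) ^ (i : ℕ) * (Ψ.submatrix i.succAbove id).det) ∈ _
      rw [h1]
      apply Ideal.mul_mem_left
      exact Ideal.subset_span (Set.mul_mem_mul rfl ⟨i, rfl⟩)
    · change Ideal.span _ ≤ Submodule.span R _
      rw [Ideal.span_le]
      rintro _ ⟨a', ha', _, ⟨i, rfl⟩, rfl⟩
      rw [Set.mem_singleton_iff] at ha'
      rw [ha']
      have h3 : ((-1 : R) ^ (i : ℕ)) * ((-1) ^ (i : ℕ)) = 1 := by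
        rw [← pow_add, ← two_mul, pow_mul]; simp
      have h1 : a * δ i =
          (-1 : R) ^ (i : ℕ) • (a * ((-1 : R) ^ (i : ℕ) * (Ψ.submatrix i.succAbove id).det)) := by
        simp only [hδ, Groth.Agent.Lib.H26HilbertBurch.δ, smul_eq_mul]
        linear_combination (- a * (Ψ.submatrix i.succAbove id).det) * h3
      change a * δ i ∈ _
      rw [h1]
      exact Submodule.smul_mem _ _ (Submodule.subset_span ⟨i, rfl⟩)


end Groth.Agent.S12908
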