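import Groth.Statements.S9412
import Mathlib.RingTheory.Localization.BaseChange
import Mathlib.RingTheory.Localization.LocalizationLocalization

set_option autoImplicit false
universe u
open EGA4

namespace Groth.Agent.S9412

/-- A localization of a normal ring is normal. -/
theorem isNormalRing_of_isLocalization {C : Type u} [CommRing C] (N : Submonoid C)
    (T : Type u) [CommRing T] [Algebra C T] [IsLocalization N T] (hC : EGA4.IsNormalRing C) :
    EGA4.IsNormalRing T := by
  intro q hq
  have hp : (q.comap (algebraMap C T)).IsPrime := Ideal.comap_isPrime _ _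
  have hloc : IsLocalization.AtPrime (Localization.AtPrime q) (q.comap (algebraMap C T)) :=
    IsLocalization.isLocalization_isLocalization_atPrime_isLocalization N _ q
  let e : Localization.AtPrime (q.comap (algebraMap C T)) ≃ₐ[C] Localization.AtPrime q :=
    IsLocalization.algEquiv (q.comap (algebraMap C T)).primeCompl _ _
  obtain ⟨h1, h2⟩ := hC (q.comap (algebraMap C T))
  exact ⟨e.symm.toMulEquiv.isDomain _, IsIntegrallyClosed.of_equiv e.toRingEquiv⟩

/-- A localization of a geometrically normal algebra over a field k is geometrically normal over k. -/
theorem result (k : Type u) [Field k] (A : Type u) [CommRing A]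
    [Algebra k A] (M : Submonoid A) (B : Type u) [CommRing B] [Algebra A B] [IsLocalization M B]
    [Algebra k B] [IsScalarTower k A B] (h : EGA4.IsGeomNormal k A) :
    EGA4.IsGeomNormal k B := by
  intro k' _ _ hfin
  have hA := h k' hfin
  let φ : (TensorProduct k k' A) →ₐ[k'] (TensorProduct k k' B) :=
    Algebra.TensorProduct.map (AlgHom.id k' k') (IsScalarTower.toAlgHom k A B)
  let _ : Algebra (TensorProduct k k' A) (TensorProduct k k' B) := φ.toRingHom.toAlgebra
  have : IsScalarTower k' (TensorProduct k k' A) (TensorProduct k k' B) :=
    IsScalarTower.of_algebraMap_eq' φ.comp_algebraMap.symm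
  have hloc : IsLocalization (M.map (Algebra.TensorProduct.includeRight (R := k) (A := k')))
      (TensorProduct k k' B) := by
    apply IsLocalization.tensorProduct_tensorProduct_right k k' M B
    ext a
    change φ (1 ⊗ₜ a) = 1 ⊗ₜ (algebraMap A B a)
    simp [φ]
  exact isNormalRing_of_isLocalization
    (M.map (Algebra.TensorProduct.includeRight (R := k) (A := k'))) _ hA

end Groth.Agent.S9412
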