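-- Statement S4978.
import Groth.Statements.S4978
import Groth.Agent.Lib.LocProper85d
import Groth.Agent.Lib.H71CompGeomConn
import Groth.Agent.Lib.IntegralSection
import Mathlib

set_option autoImplicit false
open CategoryTheory AlgebraicGeometry
universe u v w
open EGA43

namespace Groth.Agent.S4978

open CategoryTheory.Limits TopologicalSpace IsLocalRing

/-- For a fraction map `A → K`, the residue field at the image point is `K`. -/
theorem exists_theta {A K : Type u} [CommRing A] [IsDomain A] [Field K] [Algebra A K]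
    [IsFractionRing A K] (p : ↥(Spec (CommRingCat.of A)))
    (hp : (Spec.map (CommRingCat.ofHom (algebraMap A K))) (closedPoint K) = p) :
    ∃ θ : (Spec (CommRingCat.of A)).residueField p ⟶ CommRingCat.of K,
      Function.Bijective θ.hom ∧
      Spec.map θ ≫ (Spec (CommRingCat.of A)).fromSpecResidueField p =
        Spec.map (CommRingCat.ofHom (algebraMap A K)) := by
  subst hp
  set j := Spec.map (CommRingCat.ofHom (algebraMap A K)) with hj
  refine ⟨Scheme.descResidueField (Scheme.stalkClosedPointTo j), ?_,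
    Scheme.descResidueField_stalkClosedPointTo_fromSpecResidueField K _ j⟩
  set θ := Scheme.descResidueField (Scheme.stalkClosedPointTo j) with hθ
  have hfac : Spec.map θ ≫ (Spec (CommRingCat.of A)).fromSpecResidueField (j (closedPoint K)) = j :=
    Scheme.descResidueField_stalkClosedPointTo_fromSpecResidueField K _ j
  have hfac2 : CommRingCat.ofHom (algebraMap A K) =
      ((Scheme.ΓSpecIso (CommRingCat.of A)).inv ≫
        (Spec (CommRingCat.of A)).presheaf.germ ⊤ (j (closedPoint K)) trivial ≫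
        (Spec (CommRingCat.of A)).residue (j (closedPoint K))) ≫ θ := by
    apply Spec.map_injective
    refine hfac.symm.trans ?_
    simp only [Scheme.fromSpecResidueField, Spec.fromSpecStalk_eq, ← Spec.map_comp, Category.assoc]
  refine ⟨(θ.hom).injective, ?_⟩
  intro c
  obtain ⟨a, b, hb, rfl⟩ := IsFractionRing.div_surjective (A := A) c
  set e := ((Scheme.ΓSpecIso (CommRingCat.of A)).inv ≫
        (Spec (CommRingCat.of A)).presheaf.germ ⊤ (j (closedPoint K)) trivial ≫
        (Spec (CommRingCat.of A)).residue (j (closedPoint K))) with he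
  have h1 : ∀ a : A, θ.hom (e.hom a) = algebraMap A K a := by
    intro a
    have := congrArg (fun φ => φ.hom a) hfac2
    exact this.symm
  refine ⟨e.hom a / e.hom b, ?_⟩
  rw [map_div₀, h1, h1]


theorem map_closedPoint_eq_generic {A K : Type u} [CommRing A] [IsDomain A] [Field K] [Algebra A K]
    [IsFractionRing A K] :
    (Spec.map (CommRingCat.ofHom (algebraMap A K))) (closedPoint K) =
      genericPoint (Spec (CommRingCat.of A)) := by
  rw [genericPoint_eq_bot_of_affine]
  apply PrimeSpectrum.ext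
  change Ideal.comap (algebraMap A K) (closedPoint K).asIdeal = ⊥
  have h0 : (closedPoint K).asIdeal = ⊥ := by
    change maximalIdeal K = ⊥
    exact IsLocalRing.isField_iff_maximalIdeal_eq.mp (Field.toIsField K)
  rw [h0, ← RingHom.ker_eq_comap_bot]
  exact (RingHom.injective_iff_ker_eq_bot _).mp (IsFractionRing.injective A K)

theorem rfm_comp_eq {A K : Type u} [CommRing A] [Field K] [Algebra A K]
    {P : Scheme.{u}} (h : P ⟶ Spec (CommRingCat.of A)) (x' : P)
    (ρ : P.residueField x' ⟶ CommRingCat.of K)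
    (hρ : (Spec.map ρ ≫ P.fromSpecResidueField x') ≫ h =
      Spec.map (CommRingCat.ofHom (algebraMap A K)))
    (θ : (Spec (CommRingCat.of A)).residueField (h x') ⟶ CommRingCat.of K)
    (hθ : Spec.map θ ≫ (Spec (CommRingCat.of A)).fromSpecResidueField (h x') =
      Spec.map (CommRingCat.ofHom (algebraMap A K))) :
    h.residueFieldMap x' ≫ ρ = θ := by
  apply Spec.map_injective
  rw [← cancel_mono ((Spec (CommRingCat.of A)).fromSpecResidueField (h x')), hθ, ← hρ,
    Spec.map_comp, Category.assoc, Category.assoc,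
    Scheme.Hom.SpecMap_residueFieldMap_fromSpecResidueField]

theorem exists_rho {K : Type u} [Field K] {P : Scheme.{u}} (σ : Spec (CommRingCat.of K) ⟶ P)
    (x' : P) (hx' : σ (closedPoint K) = x') :
    ∃ ρ : P.residueField x' ⟶ CommRingCat.of K, Spec.map ρ ≫ P.fromSpecResidueField x' = σ := by
  subst hx'
  exact ⟨_, Scheme.descResidueField_stalkClosedPointTo_fromSpecResidueField K P σ⟩

/-- B2 -/
theorem bijective_of_section {A K : Type u} [CommRing A] [IsDomain A] [Field K] [Algebra A K]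
    [IsFractionRing A K] {P : Scheme.{u}} (h : P ⟶ Spec (CommRingCat.of A))
    (σ : Spec (CommRingCat.of K) ⟶ P)
    (hσ : σ ≫ h = Spec.map (CommRingCat.ofHom (algebraMap A K))) :
    Function.Bijective (h.residueFieldMap (σ (closedPoint K))).hom := by
  set x' := σ (closedPoint K) with hx'
  have hp : (Spec.map (CommRingCat.ofHom (algebraMap A K))) (closedPoint K) = h x' := by
    rw [← hσ]; rfl
  obtain ⟨θ, hθbij, hθ⟩ := exists_theta (h x') hp
  obtain ⟨ρ, hρ⟩ := exists_rho σ x' rfl
  have h3 : h.residueFieldMap x' ≫ ρ = θ := rfm_comp_eq h x' ρ (by rw [hρ, hσ]) θ hθ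
  refine ⟨(h.residueFieldMap x').hom.injective, ?_⟩
  intro b
  obtain ⟨a, ha⟩ := hθbij.2 (ρ.hom b)
  refine ⟨a, ?_⟩
  apply ρ.hom.injective
  rw [← ha, ← h3]
  rfl

/-- B1 -/
theorem exists_section_of_bijective {A K : Type u} [CommRing A] [IsDomain A] [Field K]
    [Algebra A K] [IsFractionRing A K] {P : Scheme.{u}} (h : P ⟶ Spec (CommRingCat.of A))
    (x' : P) (hx' : h x' = genericPoint (Spec (CommRingCat.of A)))
    (hbij : Function.Bijective (h.residueFieldMap x').hom) :
    ∃ σ : Spec (CommRingCat.of K) ⟶ P,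
      σ ≫ h = Spec.map (CommRingCat.ofHom (algebraMap A K)) ∧ σ (closedPoint K) = x' := by
  have hp : (Spec.map (CommRingCat.ofHom (algebraMap A K))) (closedPoint K) = h x' := by
    rw [hx', map_closedPoint_eq_generic]
  obtain ⟨θ, hθbij, hθ⟩ := exists_theta (h x') hp
  haveI : IsIso (h.residueFieldMap x') := (ConcreteCategory.isIso_iff_bijective _).mpr hbij
  refine ⟨Spec.map (inv (h.residueFieldMap x') ≫ θ) ≫ P.fromSpecResidueField x', ?_, ?_⟩
  · rw [Category.assoc, ← Scheme.Hom.SpecMap_residueFieldMap_fromSpecResidueField,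
      ← Category.assoc, ← Spec.map_comp, IsIso.hom_inv_id_assoc, hθ]
  · exact (Scheme.Hom.comp_apply _ _ _).trans (Scheme.fromSpecResidueField_apply _ _)

/-- B3 -/
theorem section_unique {A K : Type u} [CommRing A] [IsDomain A] [Field K] [Algebra A K]
    [IsFractionRing A K] {P : Scheme.{u}} (h : P ⟶ Spec (CommRingCat.of A))
    (σ₁ σ₂ : Spec (CommRingCat.of K) ⟶ P)
    (h₁ : σ₁ ≫ h = Spec.map (CommRingCat.ofHom (algebraMap A K)))
    (h₂ : σ₂ ≫ h = Spec.map (CommRingCat.ofHom (algebraMap A K)))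
    (hpt : σ₁ (closedPoint K) = σ₂ (closedPoint K)) : σ₁ = σ₂ := by
  set x' := σ₂ (closedPoint K) with hx'
  have hp : (Spec.map (CommRingCat.ofHom (algebraMap A K))) (closedPoint K) = h x' := by
    rw [← h₂]; rfl
  obtain ⟨θ, hθbij, hθ⟩ := exists_theta (h x') hp
  obtain ⟨ρ₁, hρ₁⟩ := exists_rho σ₁ x' hpt
  obtain ⟨ρ₂, hρ₂⟩ := exists_rho σ₂ x' rfl
  have e₁ : h.residueFieldMap x' ≫ ρ₁ = θ := rfm_comp_eq h x' ρ₁ (by rw [hρ₁, h₁]) θ hθ
  have e₂ : h.residueFieldMap x' ≫ ρ₂ = θ := rfm_comp_eq h x' ρ₂ (by rw [hρ₂, h₂]) θ hθ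
  have hsurj := (bijective_of_section h σ₂ h₂).2
  have : ρ₁ = ρ₂ := by
    ext b
    obtain ⟨a, rfl⟩ := hsurj b
    have := congrArg (fun φ => φ.hom a) (e₁.trans e₂.symm)
    exact this
  rw [← hρ₁, ← hρ₂, this]


open Groth.Agent.Lib.LocProper85 in
/-- Local valuative criterion with lifting only required at maximal points. -/
theorem exists_isProper_restrict_of_maximal {X Y : Scheme.{u}} [IsNoetherian Y]
    (f : X ⟶ Y) [IsSeparated f] [LocallyOfFiniteType f] [QuasiCompact f] (y : Y)
    (H : ∀ (κ : Type u) [Field κ] (t : Spec (.of κ) ⟶ X),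
      (∀ x' : X, t (closedPoint κ) ∈ closure {x'} → x' = t (closedPoint κ)) →
      DvrLiftsAt f y t) :
    ∃ U : Y.Opens, y ∈ U ∧ IsProper (f ∣_ U) := by
  classical
  have : CompactSpace X := QuasiCompact.compactSpace_of_compactSpace f
  have : IsLocallyNoetherian X := LocallyOfFiniteType.isLocallyNoetherian f
  have : IsNoetherian X := { }
  have hfin : (irreducibleComponents X).Finite :=
    TopologicalSpace.NoetherianSpace.finite_irreducibleComponents
  have : Finite ↥(irreducibleComponents X) := hfin.to_subtype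
  let Zc : ↥(irreducibleComponents X) → Closeds X := fun Z =>
    ⟨Z.1, isClosed_of_mem_irreducibleComponents Z.1 Z.2⟩
  let I : ↥(irreducibleComponents X) → X.IdealSheafData := fun Z =>
    Scheme.IdealSheafData.vanishingIdeal (Zc Z)
  have hint : ∀ Z, IsIntegral (I Z).subscheme := fun Z =>
    Groth.Agent.Lib.H90DevAtom.isIntegral_subscheme (Zc Z) Z.2.1
  have hrange : ∀ Z, Set.range (I Z).subschemeι = Z.1 := fun Z => by
    rw [Scheme.IdealSheafData.range_subschemeι, Scheme.IdealSheafData.coe_support_vanishingIdeal]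
    rfl
  have key : ∀ Z : ↥(irreducibleComponents X), ∃ U : Y.Opens, y ∈ U ∧
      IsProper (((I Z).subschemeι ≫ f) ∣_ U) := fun Z => by
    have := hint Z
    refine exists_isProper_restrict_of_isIntegral ((I Z).subschemeι ≫ f) y
      (fun κ _ t ht => DvrLiftsAt.comp_of_universallyClosed (I Z).subschemeι f y t (H κ _ ?_))
    obtain ⟨e, he, rfl⟩ := ht
    set W := (I Z).subscheme with hW
    set w := genericPoint W with hw
    have hwgen : IsGenericPoint w ⊤ := genericPoint_spec W
    have hpt : (Spec.map e ≫ W.fromSpecStalk w) (closedPoint κ) = w := by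
      have h1 : (Spec.map e ≫ W.fromSpecStalk w) (closedPoint κ) ∈
          Set.range (W.fromSpecStalk w) := ⟨(Spec.map e) (closedPoint κ), rfl⟩
      rw [Scheme.range_fromSpecStalk] at h1
      have h2 : w ⤳ (Spec.map e ≫ W.fromSpecStalk w) (closedPoint κ) := by
        rw [specializes_iff_mem_closure, hwgen.def]
        trivial
      exact (h1.antisymm h2).eq
    have hpt' : ((Spec.map e ≫ W.fromSpecStalk w) ≫ (I Z).subschemeι) (closedPoint κ) =
        (I Z).subschemeι w := by
      exact (Scheme.Hom.comp_apply _ _ _).trans (congrArg _ hpt)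
    rw [hpt']
    intro x' hx'
    have hcl : closure {(I Z).subschemeι w} = Z.1 := by
      rw [← Set.image_singleton,
        (I Z).subschemeι.isClosedEmbedding.closure_image_eq, hwgen.def, ← hrange Z]
      simp
    have h3 : closure {x'} ⊆ Z.1 := by
      apply Z.2.2 isIrreducible_singleton.closure
      rw [← hcl]
      exact closure_minimal (Set.singleton_subset_iff.mpr hx') isClosed_closure
    have h4 : x' ⤳ (I Z).subschemeι w := specializes_iff_mem_closure.mpr hx'
    have h5 : (I Z).subschemeι w ⤳ x' := by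
      rw [specializes_iff_mem_closure, hcl]
      exact h3 (subset_closure rfl)
    exact (h4.antisymm h5).eq
  choose U hyU hU using key
  refine ⟨⨅ Z, U Z, ?_, ?_⟩
  · rw [← SetLike.mem_coe, Opens.coe_iInf]
    exact Set.mem_iInter.mpr hyU
  · have huc : UniversallyClosed (f ∣_ ⨅ Z, U Z) := by
      refine Groth.Agent.Lib.H86Coprod.universallyClosed_of_finite_cover (f ∣_ ⨅ Z, U Z)
        (fun Z => (((I Z).subschemeι) ⁻¹ᵁ (f ⁻¹ᵁ ⨅ Z, U Z)).toScheme)
        (fun Z => (I Z).subschemeι ∣_ (f ⁻¹ᵁ ⨅ Z, U Z)) ?_ ?_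
      · rintro ⟨x, hx⟩
        let Z : ↥(irreducibleComponents X) :=
          ⟨irreducibleComponent x, irreducibleComponent_mem_irreducibleComponents x⟩
        have hxZ : x ∈ Set.range (I Z).subschemeι := by
          rw [hrange Z]; exact mem_irreducibleComponent
        obtain ⟨w, hw⟩ := hxZ
        have hw' : w ∈ (I Z).subschemeι ⁻¹ᵁ (f ⁻¹ᵁ ⨅ Z, U Z) := by
          change (I Z).subschemeι w ∈ f ⁻¹ᵁ ⨅ Z, U Z
          rw [hw]; exact hx
        exact ⟨Z, ⟨w, hw'⟩, Subtype.ext ((morphismRestrict_base_coe _ _ ⟨w, hw'⟩).trans hw)⟩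
      · intro Z
        rw [← morphismRestrict_comp]
        exact (isProper_restrict_of_le ((I Z).subschemeι ≫ f) (iInf_le U Z)
          (hU Z)).toUniversallyClosed
    exact { }


/-- Restriction of a reduced closed subscheme to an open is the reduced closed subscheme of the
open. -/
theorem exists_iso_restrict {X : Scheme.{u}} (C : Closeds X) (V : X.Opens)
    (C' : Closeds V.toScheme) (hC' : (C' : Set V.toScheme) = V.ι.base ⁻¹' (C : Set X)) :
    ∃ e : ((Scheme.IdealSheafData.vanishingIdeal C).subschemeι ⁻¹ᵁ V).toScheme ≅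
        (Scheme.IdealSheafData.vanishingIdeal C').subscheme,
      e.hom ≫ (Scheme.IdealSheafData.vanishingIdeal C').subschemeι =
        (Scheme.IdealSheafData.vanishingIdeal C).subschemeι ∣_ V := by
  set ι := (Scheme.IdealSheafData.vanishingIdeal C).subschemeι with hι
  set ι' := (Scheme.IdealSheafData.vanishingIdeal C').subschemeι with hι'
  have hrange : Set.range ι = (C : Set X) := by
    rw [hι, Scheme.IdealSheafData.range_subschemeι,
      Scheme.IdealSheafData.coe_support_vanishingIdeal]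
  have hrange' : Set.range ι' = (C' : Set V.toScheme) := by
    rw [hι', Scheme.IdealSheafData.range_subschemeι,
      Scheme.IdealSheafData.coe_support_vanishingIdeal]
  haveI : IsReduced (Scheme.IdealSheafData.vanishingIdeal C).subscheme :=
    Groth.Agent.Lib.IntegralSection.isReduced_subscheme_vanishingIdeal C
  haveI : IsReduced (Scheme.IdealSheafData.vanishingIdeal C').subscheme :=
    Groth.Agent.Lib.IntegralSection.isReduced_subscheme_vanishingIdeal C'
  haveI : IsReduced (ι ⁻¹ᵁ V).toScheme := inferInstance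
  have hsub : Set.range (ι ∣_ V) ⊆ (C' : Set V.toScheme) := by
    rintro _ ⟨w, rfl⟩
    rw [hC']
    change V.ι ((ι ∣_ V) w) ∈ (C : Set X)
    rw [← hrange]
    exact ⟨w.1, (morphismRestrict_base_coe ι V w).symm⟩
  obtain ⟨l, hl⟩ := Groth.Agent.Lib.H71CompGeomConn.exists_lift_subscheme (ι ∣_ V) C' hsub
  haveI : IsClosedImmersion (l ≫ ι') := by rw [hl]; infer_instance
  haveI : IsClosedImmersion l := IsClosedImmersion.of_comp_isClosedImmersion l ι'
  haveI : Surjective l := by
    constructor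
    intro w'
    have h1 : ι' w' ∈ (C' : Set V.toScheme) := by rw [← hrange']; exact ⟨w', rfl⟩
    have h2 : V.ι (ι' w') ∈ Set.range ι := by
      rw [hrange]
      rw [hC'] at h1
      exact h1
    obtain ⟨w, hw⟩ := h2
    have hwV : w ∈ ι ⁻¹ᵁ V := by
      change ι w ∈ V
      rw [hw]
      exact (ι' w').2
    refine ⟨⟨w, hwV⟩, ?_⟩
    apply ι'.isEmbedding.injective
    have h3 : ι' (l ⟨w, hwV⟩) = (ι ∣_ V) ⟨w, hwV⟩ := by
      rw [← hl]; rfl
    rw [h3]
    apply Subtype.ext
    exact (morphismRestrict_base_coe ι V ⟨w, hwV⟩).trans hw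
  haveI : IsIso l := isIso_of_isClosedImmersion_of_surjective l
  exact ⟨asIso l, hl⟩


/-- Forward direction. -/
theorem forward {X Y : Scheme.{u}} (f : X ⟶ Y) (Z : Set X) (y : Y) (U : Y.Opens) (hyU : y ∈ U)
    (C' : Closeds (f ⁻¹ᵁ U).toScheme)
    (hC' : (C' : Set (f ⁻¹ᵁ U).toScheme) = (f ⁻¹ᵁ U).ι.base ⁻¹' closure Z)
    (hprop : IsProper ((Scheme.IdealSheafData.vanishingIdeal C').subschemeι ≫ (f ∣_ U)))
    (A' : Type u) [CommRing A'] [IsDomain A'] [IsDiscreteValuationRing A']
    (g : Spec (CommRingCat.of A') ⟶ Y)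
    (hg : g (closedPoint A') = y) (x' : ↥(pullback f g)) (hx'Z : (pullback.fst f g) x' ∈ Z)
    (hη : (pullback.snd f g) x' = genericPoint (Spec (CommRingCat.of A')))
    (hbij : Function.Bijective ((pullback.snd f g).residueFieldMap x').hom) :
    ∃ s : Spec (CommRingCat.of A') ⟶ pullback f g,
      s ≫ pullback.snd f g = 𝟙 _ ∧ x' ∈ Set.range s.base := by
  set K := FractionRing A' with hK
  set j := Spec.map (CommRingCat.ofHom (algebraMap A' K)) with hj
  set ι' := (Scheme.IdealSheafData.vanishingIdeal C').subschemeι with hι'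
  obtain ⟨σ, hσ, hσpt⟩ := exists_section_of_bijective (K := K) (pullback.snd f g) x' hη hbij
  have hgU : Set.range g ⊆ (U : Set Y) := by
    rintro _ ⟨p, rfl⟩
    have h1 : p ⤳ closedPoint A' := IsLocalRing.specializes_closedPoint p
    have h2 : g p ⤳ g (closedPoint A') := h1.map g.continuous
    rw [hg] at h2
    exact h2.mem_open U.isOpen hyU
  let g₀ : Spec (CommRingCat.of A') ⟶ U.toScheme :=
    IsOpenImmersion.lift U.ι g (by rw [Scheme.Opens.range_ι]; exact hgU)
  have hg₀ : g₀ ≫ U.ι = g := IsOpenImmersion.lift_fac _ _ _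
  have hσU : Set.range (σ ≫ pullback.fst f g) ⊆ ((f ⁻¹ᵁ U : X.Opens) : Set X) := by
    rintro _ ⟨p, rfl⟩
    change f ((σ ≫ pullback.fst f g) p) ∈ U
    have h1 : f ((σ ≫ pullback.fst f g) p) = g ((σ ≫ pullback.snd f g) p) := by
      rw [← Scheme.Hom.comp_apply, ← Scheme.Hom.comp_apply, Category.assoc, Category.assoc,
        pullback.condition]
    rw [h1]
    exact hgU ⟨_, rfl⟩
  let τ₀ : Spec (CommRingCat.of K) ⟶ (f ⁻¹ᵁ U).toScheme :=
    IsOpenImmersion.lift (f ⁻¹ᵁ U).ι (σ ≫ pullback.fst f g)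
      (by rw [Scheme.Opens.range_ι]; exact hσU)
  have hτ₀ : τ₀ ≫ (f ⁻¹ᵁ U).ι = σ ≫ pullback.fst f g := IsOpenImmersion.lift_fac _ _ _
  have hτ₀C : Set.range τ₀ ⊆ (C' : Set (f ⁻¹ᵁ U).toScheme) := by
    rintro _ ⟨p, rfl⟩
    rw [hC']
    change (f ⁻¹ᵁ U).ι (τ₀ p) ∈ closure Z
    rw [← Scheme.Hom.comp_apply, hτ₀]
    have hp : p = closedPoint K := Subsingleton.elim _ _
    have e1 : (σ ≫ pullback.fst f g) p = (pullback.fst f g) x' := by
      rw [hp]
      exact (Scheme.Hom.comp_apply _ _ _).trans (congrArg _ hσpt)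
    rw [e1]
    exact subset_closure hx'Z
  obtain ⟨τ, hτ⟩ := Groth.Agent.Lib.H71CompGeomConn.exists_lift_subscheme τ₀ C' hτ₀C
  have hsq : τ ≫ (ι' ≫ f ∣_ U) = j ≫ g₀ := by
    rw [← cancel_mono U.ι]
    simp only [Category.assoc]
    rw [morphismRestrict_ι, hg₀, ← Category.assoc ι', ← Category.assoc τ, ← Category.assoc τ, hτ,
      hτ₀, Category.assoc, pullback.condition, ← Category.assoc, hσ]
  have hU : ValuativeCriterion.Existence (ι' ≫ f ∣_ U) := by
    have h := UniversallyClosed.eq_valuativeCriterion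
    have : (ValuativeCriterion.Existence ⊓ @QuasiCompact) (ι' ≫ f ∣_ U) :=
      h ▸ hprop.toUniversallyClosed
    exact this.1
  let Sq : ValuativeCommSq (ι' ≫ f ∣_ U) :=
    { R := A', K := K, i₁ := τ, i₂ := g₀, commSq := ⟨hsq⟩ }
  obtain ⟨⟨l⟩⟩ := hU Sq
  have hl1 : j ≫ l.l = τ := l.fac_left
  have hl2 : l.l ≫ (ι' ≫ f ∣_ U) = g₀ := l.fac_right
  have hcond : (l.l ≫ ι' ≫ (f ⁻¹ᵁ U).ι) ≫ f = 𝟙 _ ≫ g := by
    rw [Category.id_comp, ← hg₀, ← hl2]
    simp only [Category.assoc]
    rw [morphismRestrict_ι]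
  refine ⟨pullback.lift (l.l ≫ ι' ≫ (f ⁻¹ᵁ U).ι) (𝟙 _) hcond, pullback.lift_snd _ _ _, ?_⟩
  have hjs : j ≫ pullback.lift (l.l ≫ ι' ≫ (f ⁻¹ᵁ U).ι) (𝟙 _) hcond = σ := by
    apply pullback.hom_ext
    · rw [Category.assoc, pullback.lift_fst, ← Category.assoc, hl1, ← Category.assoc, hτ, hτ₀]
    · rw [Category.assoc, pullback.lift_snd, Category.comp_id, hσ]
  refine ⟨j (closedPoint K), ?_⟩
  have e := congrArg (fun φ : Spec (CommRingCat.of K) ⟶ pullback f g => φ (closedPoint K)) hjs
  exact e.trans hσpt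

/-- Backward direction. -/
theorem backward {X Y : Scheme.{u}} [IsNoetherian Y] (f : X ⟶ Y) [IsSeparated f]
    [LocallyOfFiniteType f] [QuasiCompact f] (Z : Set X)
    (hZ : ∀ z ∈ closure Z, (∀ z' ∈ closure Z, z ∈ closure {z'} → z' = z) → z ∈ Z) (y : Y)
    (H : ∀ (A' : Type u) [CommRing A'] [IsDomain A'] [IsDiscreteValuationRing A']
        (g : Spec (CommRingCat.of A') ⟶ Y),
        g.base (IsLocalRing.closedPoint A') = y →
        ∀ x' : ↥(pullback f g), (pullback.fst f g).base x' ∈ Z →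
          (pullback.snd f g).base x' = genericPoint (Spec (CommRingCat.of A')) →
          Function.Bijective ((pullback.snd f g).residueFieldMap x').hom →
          ∃ s : Spec (CommRingCat.of A') ⟶ pullback f g,
            s ≫ pullback.snd f g = 𝟙 _ ∧ x' ∈ Set.range s.base) :
    ∃ U : Y.Opens, y ∈ U ∧ IsProper (((Scheme.IdealSheafData.vanishingIdeal
      (⟨closure Z, isClosed_closure⟩ : Closeds X)).subschemeι ≫ f) ∣_ U) := by
  set C : Closeds X := ⟨closure Z, isClosed_closure⟩ with hCdef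
  set ι := (Scheme.IdealSheafData.vanishingIdeal C).subschemeι with hι
  have hrange : Set.range ι = closure Z := by
    rw [hι, Scheme.IdealSheafData.range_subschemeι,
      Scheme.IdealSheafData.coe_support_vanishingIdeal]
    rfl
  apply exists_isProper_restrict_of_maximal (ι ≫ f) y
  intro κ _ t hmax A hA g hg hcomm
  have hz : ι (t (closedPoint κ)) ∈ Z := by
    apply hZ _ (hrange ▸ ⟨_, rfl⟩)
    intro z' hz' hcl
    obtain ⟨w, rfl⟩ : z' ∈ Set.range ι := hrange ▸ hz'
    have h1 : t (closedPoint κ) ∈ closure {w} := by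
      rw [ι.isEmbedding.closure_eq_preimage_closure_image, Set.image_singleton]
      exact hcl
    rw [hmax w h1]
  haveI := hA
  set j := Spec.map (CommRingCat.ofHom (algebraMap A κ)) with hj
  have hjdef : Spec.map (CommRingCat.ofHom A.subtype) = j := rfl
  rw [hjdef] at hcomm
  have hcomm' : (t ≫ ι) ≫ f = j ≫ g := by rw [Category.assoc]; exact hcomm.symm
  set σ := pullback.lift (t ≫ ι) j hcomm' with hσdef
  have hσ1 : σ ≫ pullback.fst f g = t ≫ ι := pullback.lift_fst _ _ _
  have hσ2 : σ ≫ pullback.snd f g = j := pullback.lift_snd _ _ _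
  set x' := σ (closedPoint κ) with hx'
  have h1 : (pullback.fst f g) x' ∈ Z := by
    have e1 : (σ ≫ pullback.fst f g) (closedPoint κ) = (t ≫ ι) (closedPoint κ) := by rw [hσ1]
    have : (pullback.fst f g) x' = ι (t (closedPoint κ)) := e1
    rw [this]
    exact hz
  have h2 : (pullback.snd f g) x' = genericPoint (Spec (CommRingCat.of A)) := by
    have e1 : (σ ≫ pullback.snd f g) (closedPoint κ) = j (closedPoint κ) := by rw [hσ2]
    exact e1.trans map_closedPoint_eq_generic
  have h3 := bijective_of_section (pullback.snd f g) σ hσ2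
  obtain ⟨s, hs, q, hq⟩ := H A g hg x' h1 h2 h3
  have hq' : q = j (closedPoint κ) := by
    have e1 : (s ≫ pullback.snd f g) q = q := by rw [hs]; rfl
    rw [Scheme.Hom.comp_apply] at e1
    have e3 : (σ ≫ pullback.snd f g) (closedPoint κ) = j (closedPoint κ) := by rw [hσ2]
    have e2 : (pullback.snd f g) (s q) = j (closedPoint κ) := by
      rw [show s q = x' from hq]
      exact e3
    rw [← e1, e2]
  have hjs : j ≫ s = σ := by
    refine section_unique (pullback.snd f g) (j ≫ s) σ
      (by rw [Category.assoc, hs, Category.comp_id]) hσ2 ?_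
    change s (j (closedPoint κ)) = x'
    rw [← hq']
    exact hq
  have hl1 : j ≫ (s ≫ pullback.fst f g) = t ≫ ι := by rw [← Category.assoc, hjs, hσ1]
  have hl2 : (s ≫ pullback.fst f g) ≫ f = g := by
    rw [Category.assoc, pullback.condition, ← Category.assoc, hs, Category.id_comp]
  have hrangeL : Set.range (s ≫ pullback.fst f g) ⊆ (C : Set X) := by
    rintro _ ⟨p, rfl⟩
    have hη : j (closedPoint κ) = genericPoint (Spec (CommRingCat.of A)) :=
      map_closedPoint_eq_generic
    have hgen : IsGenericPoint (j (closedPoint κ)) (⊤ : Set (Spec (CommRingCat.of A))) := by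
      rw [hη]; exact genericPoint_spec _
    have hp : p ∈ closure {j (closedPoint κ)} := by rw [hgen.def]; trivial
    have h4 : (s ≫ pullback.fst f g) p ∈
        closure ((s ≫ pullback.fst f g) '' {j (closedPoint κ)}) :=
      image_closure_subset_closure_image (s ≫ pullback.fst f g).continuous ⟨p, hp, rfl⟩
    rw [Set.image_singleton] at h4
    have h5 : (s ≫ pullback.fst f g) (j (closedPoint κ)) ∈ closure Z := by
      have e4 : (j ≫ s ≫ pullback.fst f g) (closedPoint κ) = (t ≫ ι) (closedPoint κ) := by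
        rw [hl1]
      have e5 : (s ≫ pullback.fst f g) (j (closedPoint κ)) = ι (t (closedPoint κ)) := e4
      rw [e5, ← hrange]
      exact ⟨_, rfl⟩
    exact closure_minimal (Set.singleton_subset_iff.mpr h5) isClosed_closure h4
  obtain ⟨l', hl'⟩ :=
    Groth.Agent.Lib.H71CompGeomConn.exists_lift_subscheme (s ≫ pullback.fst f g) C hrangeL
  refine ⟨l', ?_, ?_⟩
  · rw [hjdef, ← cancel_mono ι, Category.assoc, hl', hl1]
  · rw [← Category.assoc, hl', hl2]

theorem main {X Y : Scheme.{u}} [IsNoetherian Y] (f : X ⟶ Y) [IsSeparated f]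
    [LocallyOfFiniteType f] [QuasiCompact f] (Z : Set X)
    (hZ : ∀ z ∈ closure Z, (∀ z' ∈ closure Z, z ∈ closure {z'} → z' = z) → z ∈ Z) (y : Y) :
    (∃ U : Y.Opens, y ∈ U ∧ ∃ hC : IsClosed ((f ⁻¹ᵁ U).ι.base ⁻¹' closure Z),
      IsProper ((Scheme.IdealSheafData.vanishingIdeal
        (⟨(f ⁻¹ᵁ U).ι.base ⁻¹' closure Z, hC⟩ : TopologicalSpace.Closeds ↥(f ⁻¹ᵁ U))).subschemeι ≫ (f ∣_ U))) ↔
      ∀ (A' : Type u) [CommRing A'] [IsDomain A'] [IsDiscreteValuationRing A'] (g : Spec (CommRingCat.of A') ⟶ Y),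
        g.base (IsLocalRing.closedPoint A') = y →
        ∀ x' : ↥(pullback f g), (pullback.fst f g).base x' ∈ Z →
          (pullback.snd f g).base x' = genericPoint (Spec (CommRingCat.of A')) →
          Function.Bijective ((pullback.snd f g).residueFieldMap x').hom →
          ∃ s : Spec (CommRingCat.of A') ⟶ pullback f g, s ≫ pullback.snd f g = 𝟙 _ ∧ x' ∈ Set.range s.base := by
  constructor
  · rintro ⟨U, hyU, hC, hprop⟩ A' _ _ _ g hg x' hx'Z hη hbij
    exact forward f Z y U hyU ⟨(f ⁻¹ᵁ U).ι.base ⁻¹' closure Z, hC⟩ rfl hprop A' g hg x' hx'Z hη hbij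
  · intro H
    obtain ⟨U, hyU, hU⟩ := backward f Z hZ y H
    have hC : IsClosed ((f ⁻¹ᵁ U).ι.base ⁻¹' closure Z) :=
      isClosed_closure.preimage (f ⁻¹ᵁ U).ι.continuous
    refine ⟨U, hyU, hC, ?_⟩
    obtain ⟨e, he⟩ := exists_iso_restrict (⟨closure Z, isClosed_closure⟩ : Closeds X) (f ⁻¹ᵁ U)
      ⟨(f ⁻¹ᵁ U).ι.base ⁻¹' closure Z, hC⟩ rfl
    rw [morphismRestrict_comp] at hU
    have h1 : (Scheme.IdealSheafData.vanishingIdeal
        (⟨(f ⁻¹ᵁ U).ι.base ⁻¹' closure Z, hC⟩ : TopologicalSpace.Closeds ↥(f ⁻¹ᵁ U))).subschemeι ≫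
          (f ∣_ U) = e.inv ≫ ((Scheme.IdealSheafData.vanishingIdeal
            (⟨closure Z, isClosed_closure⟩ : Closeds X)).subschemeι ∣_ (f ⁻¹ᵁ U) ≫ f ∣_ U) := by
      rw [← he, Category.assoc, Iso.inv_hom_id_assoc]
      rfl
    rw [h1]
    exact (MorphismProperty.cancel_left_of_respectsIso @IsProper e.inv _).mpr hU

open CategoryTheory.Limits in
/-- Let Y be a Noetherian scheme, f : X ⟶ Y a separated morphism of finite type, Z a subset of X such
that every maximal point of the closure of Z belongs to Z, and y a point of Y. Then the closure of Z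
is proper over Y at y (for some open U ∋ y, its trace on f⁻¹(U) is proper over U with the reduced
structure) if and only if: for every discrete valuation ring A' and every morphism g : Spec A' ⟶ Y
mapping the closed point to y, every point x' of X' = X ×_Y Spec A' which projects into Z, lies over
the generic point η' of Spec A' and is rational over κ(η') is in the image of some section of X' ⟶
Spec A'. -/
theorem result {X Y : Scheme.{u}} [IsNoetherian Y] (f : X ⟶ Y) [IsSeparated f]
    [LocallyOfFiniteType f] [QuasiCompact f] (Z : Set X)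
    (hZ : ∀ z ∈ closure Z, (∀ z' ∈ closure Z, z ∈ closure {z'} → z' = z) → z ∈ Z) (y : Y) :
    (∃ U : Y.Opens, y ∈ U ∧ ∃ hC : IsClosed ((f ⁻¹ᵁ U).ι.base ⁻¹' closure Z),
      IsProper ((Scheme.IdealSheafData.vanishingIdeal
        (⟨(f ⁻¹ᵁ U).ι.base ⁻¹' closure Z, hC⟩ : TopologicalSpace.Closeds ↥(f ⁻¹ᵁ U))).subschemeι ≫ (f ∣_ U))) ↔
      ∀ (A' : Type u) [CommRing A'] [IsDomain A'] [IsDiscreteValuationRing A'] (g : Spec (CommRingCat.of A') ⟶ Y),
        g.base (IsLocalRing.closedPoint A') = y →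
        ∀ x' : ↥(pullback f g), (pullback.fst f g).base x' ∈ Z →
          (pullback.snd f g).base x' = genericPoint (Spec (CommRingCat.of A')) →
          Function.Bijective ((pullback.snd f g).residueFieldMap x').hom →
          ∃ s : Spec (CommRingCat.of A') ⟶ pullback f g, s ≫ pullback.snd f g = 𝟙 _ ∧ x' ∈ Set.range s.base := by
  exact main f Z hZ y

end Groth.Agent.S4978
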