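-- Statement S4977.
import Groth.Statements.S4977
import Groth.Agent.Lib.H30PropZ
import Groth.Agent.Lib.H30PropNbhd
import Groth.Agent.Lib.H71CompGeomConn
import Groth.Agent.Lib.LocProper85d
import Groth.Agent.Lib.H80DvrGeom
import Groth.Agent.Lib.H56OpenFibDim3
import Groth.Agent.S4978
import Mathlib

set_option autoImplicit false
open CategoryTheory AlgebraicGeometry
universe u v w
open EGA43

namespace Groth.Agent.S4977

open CategoryTheory.Limits TopologicalSpace IsLocalRing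
open Groth.Agent.Lib.LocProper85 Groth.Agent.Lib.H30PropZ

section

variable {X Y : Scheme.{u}}

/-- Hypothesis (i). -/
def Hyp1 (y : Y) (f : X ⟶ Y) (Z : Set X) : Prop :=
  ∀ y' : Y, y' ⤳ y → (∃ x ∈ Z, f.base x = y' ∧ Z ∩ f.base ⁻¹' {y'} = connectedComponentIn (f.base ⁻¹' {y'}) x) ∧
      ∀ (K : Type u) [Field K] [Algebra (IsLocalRing.ResidueField (Y.presheaf.stalk y')) K],
        _root_.IsPreconnected ((FBase.bcπ (f.fiberToSpecResidueField y') K ≫ f.fiberι y').base ⁻¹' Z)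

/-- Hypothesis (iii). -/
def Hyp3 (f : X ⟶ Y) (Z : Set X) : Prop :=
  ∀ (Y' : Scheme.{u}) (h : Y' ⟶ Y) (E : Set Y'), E ⊆ h.base ⁻¹' (f.base '' Z) →
      (∃ W : Set ↥(pullback f h), IsOpen W ∧
        W ∩ (pullback.fst f h).base ⁻¹' Z = (pullback.snd f h).base ⁻¹' E ∩ (pullback.fst f h).base ⁻¹' Z) →
      ∃ V : Set Y', IsOpen V ∧ V ∩ h.base ⁻¹' (f.base '' Z) = E

theorem key (y : Y) (f : X ⟶ Y) [IsSeparated f] [LocallyOfFiniteType f] [QuasiCompact f]
    (Z : Set X) (h1 : Hyp1 y f Z) (h3 : Hyp3 f Z) (y₁ : Y) (hy₁ : y₁ ⤳ y) (O : X.Opens)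
    (hOs : (O : Set X) ∩ f ⁻¹' {y₁} = Z ∩ f ⁻¹' {y₁})
    (hOη : ∀ y' : Y, y' ⤳ y₁ → Z ∩ f ⁻¹' {y'} ⊆ O)
    (hOprop : IsProper ((O.ι ≫ f).fiberToSpecResidueField y₁))
    (A : Type u) [CommRing A] [IsDomain A] [IsDiscreteValuationRing A]
    (g : Spec (CommRingCat.of A) ⟶ Y)
    (sA : ↥(Spec (CommRingCat.of A))) (hsA : sA = closedPoint A) (hg : g sA = y₁)
    (ηA : ↥(Spec (CommRingCat.of A))) (hηbot : (ηA : PrimeSpectrum A).asIdeal = ⊥) :
    ∃ (W : Scheme.{u}) (j : W ⟶ pullback f g), IsProper (j ≫ pullback.snd f g) ∧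
      (∀ w : W, (pullback.fst f g) (j w) ∈ Z) ∧
      (∀ x : ↥(pullback f g), (pullback.fst f g) x ∈ Z → (pullback.snd f g) x = ηA →
        x ∈ Set.range j) ∧
      (∀ (κ : Type u) [Field κ] (σ : Spec (CommRingCat.of κ) ⟶ pullback f g),
        (∀ pt, (pullback.fst f g) (σ pt) ∈ Z ∧ (pullback.snd f g) (σ pt) = ηA) →
        ∃ σW : Spec (CommRingCat.of κ) ⟶ W, σW ≫ j = σ) := by
  subst hg
  have hηA : ∀ z : ↥(Spec (CommRingCat.of A)), ηA ⤳ z := fun z =>
    (PrimeSpectrum.le_iff_specializes (R := A) ηA z).mp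
      (show (ηA : PrimeSpectrum A).asIdeal ≤ (z : PrimeSpectrum A).asIdeal by
        rw [hηbot]; exact bot_le)
  have hne_sη : sA ≠ ηA := by
    intro h
    have h1 : (closedPoint A).asIdeal = ⊥ := by
      rw [← hsA, h]; exact hηbot
    exact IsDiscreteValuationRing.not_a_field A h1
  have hsp : g ηA ⤳ g sA := (hηA sA).map g.continuous
  obtain ⟨⟨x, hxZ, hfx, hcc⟩, hK⟩ := h1 (g ηA) (hsp.trans hy₁)
  obtain ⟨⟨xs, hxsZ, hfxs, -⟩, -⟩ := h1 (g sA) hy₁
  obtain ⟨K₀, O₁, hK₀, hO₁, hK₀', hO₁'⟩ := exists_closed_open_trace f (g ηA) x hfx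
  have hcc' : Z ∩ f ⁻¹' {g ηA} = connectedComponentIn (f ⁻¹' {g ηA}) x := hcc
  refine exists_proper_closure f Z A g sA hsA ηA hηbot K₀ O₁ hK₀ hO₁ (hK₀'.trans hcc'.symm)
    (hO₁'.trans hcc'.symm) ⟨x, hxZ, hfx⟩
    (fun K _ u hu => isPreconnected_preimage_of_fbase f Z (g ηA) hK K u hu)
    O hOs (hOη (g ηA) hsp) hOprop ?_
  rintro ⟨W₀, hW₀, hW₀eq⟩
  obtain ⟨V, hV, hVeq⟩ := h3 (Spec (CommRingCat.of A)) g {sA}
    (by
      intro z hz
      rw [Set.mem_singleton_iff] at hz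
      subst hz
      exact ⟨xs, hxsZ, hfxs⟩)
    ⟨W₀, hW₀, hW₀eq⟩
  have hsV : sA ∈ V := by
    have : sA ∈ V ∩ g.base ⁻¹' (f.base '' Z) := by rw [hVeq]; rfl
    exact this.1
  have hηV : ηA ∈ V := (hηA sA).mem_open hV hsV
  have : ηA ∈ V ∩ g.base ⁻¹' (f.base '' Z) := ⟨hηV, ⟨x, hxZ, hfx⟩⟩
  rw [hVeq] at this
  exact hne_sη (Set.mem_singleton_iff.mp this).symm


theorem exists_opens (f : X ⟶ Y) (Z : Set X) (y₁ : Y) (O₀ : Set X) (hO₀ : IsOpen O₀)
    (h : O₀ ∩ f ⁻¹' {y₁} = Z ∩ f ⁻¹' {y₁}) :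
    ∃ O : X.Opens, (O : Set X) ∩ f ⁻¹' {y₁} = Z ∩ f ⁻¹' {y₁} ∧
      (∀ y' : Y, y' ⤳ y₁ → Z ∩ f ⁻¹' {y'} ⊆ O) ∧
      (O : Set X) = O₀ ∪ f ⁻¹' (closure {y₁})ᶜ := by
  refine ⟨⟨O₀ ∪ f ⁻¹' (closure {y₁})ᶜ,
    hO₀.union (isClosed_closure.isOpen_compl.preimage f.continuous)⟩, ?_, ?_, rfl⟩
  · rw [← h]
    ext x
    constructor
    · rintro ⟨hx | hx, hfx⟩
      · exact ⟨hx, hfx⟩
      · exfalso
        apply hx
        rw [show f x = y₁ from hfx]
        exact subset_closure rfl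
    · rintro ⟨hx, hfx⟩
      exact ⟨Or.inl hx, hfx⟩
  · rintro y' hy' x ⟨hxZ, hfx⟩
    by_cases hc : y' ∈ closure ({y₁} : Set Y)
    · have hsp : y₁ ⤳ y' := specializes_iff_mem_closure.mpr hc
      have heq : y' = y₁ := (hy'.antisymm hsp).eq
      left
      have : x ∈ Z ∩ f ⁻¹' {y₁} := ⟨hxZ, by rw [← heq]; exact hfx⟩
      rw [← h] at this
      exact this.1
    · right
      change f x ∉ closure {y₁}
      rw [show f x = y' from hfx]
      exact hc

theorem mem_of_mem_closure [IsLocallyNoetherian Y] (y : Y) (f : X ⟶ Y) [IsSeparated f]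
    [LocallyOfFiniteType f] [QuasiCompact f]
    (Z : Set X) (hZ : Topology.IsLocallyConstructible Z) (h1 : Hyp1 y f Z) (h3 : Hyp3 f Z)
    (y₁ : Y) (hy₁ : y₁ ⤳ y) (O : X.Opens)
    (hOs : (O : Set X) ∩ f ⁻¹' {y₁} = Z ∩ f ⁻¹' {y₁})
    (hOη : ∀ y' : Y, y' ⤳ y₁ → Z ∩ f ⁻¹' {y'} ⊆ O)
    (hOprop : IsProper ((O.ι ≫ f).fiberToSpecResidueField y₁))
    (z : X) (hz : z ∈ closure Z) (hfz : f z = y₁) : z ∈ Z := by
  haveI : IsLocallyNoetherian X := LocallyOfFiniteType.isLocallyNoetherian f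
  obtain ⟨ξ, hξZ, hξz⟩ := exists_specializes_of_mem_closure X hZ z hz
  by_cases hne : ξ = z
  · rw [← hne]; exact hξZ
  obtain ⟨A, _, _, _, q, hq, -, τ, hτ⟩ :=
    Groth.Agent.Lib.H80DvrGeom.exists_dvr_map z ξ hne hξz (X.residueField ξ)
  obtain ⟨sA, hsA⟩ : ∃ sA : ↥(Spec (CommRingCat.of A)), sA = closedPoint A := ⟨_, rfl⟩
  let ηA : ↥(Spec (CommRingCat.of A)) := (⟨⊥, Ideal.isPrime_bot⟩ : PrimeSpectrum A)
  have hηA : ∀ z : ↥(Spec (CommRingCat.of A)), ηA ⤳ z := fun z =>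
    (PrimeSpectrum.le_iff_specializes (R := A) ηA z).mp
      (show (⊥ : Ideal A) ≤ (z : PrimeSpectrum A).asIdeal from bot_le)
  have hgen : ηA = genericPoint (Spec (CommRingCat.of A)) :=
    ((hηA _).antisymm ((genericPoint_spec (Spec (CommRingCat.of A))).specializes trivial)).eq
  have hqη : q ηA = ξ := by
    rw [hgen]
    have e := congrArg (fun φ => φ (closedPoint _)) hτ
    simp only [Scheme.Hom.comp_apply] at e
    rw [Scheme.fromSpecResidueField_apply, Scheme.fromSpecResidueField_apply] at e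
    exact e
  have hqs : q sA = z := by rw [hsA]; exact hq
  have hg : (q ≫ f) sA = y₁ := by rw [Scheme.Hom.comp_apply, hqs, hfz]
  obtain ⟨W, j, hprop, hjZ, hjη, -⟩ := key y f Z h1 h3 y₁ hy₁ O hOs hOη hOprop A (q ≫ f) sA hsA hg
    ηA rfl
  let q' : Spec (CommRingCat.of A) ⟶ pullback f (q ≫ f) :=
    pullback.lift q (𝟙 _) (by rw [Category.id_comp])
  have hq'1 : q' ≫ pullback.fst f (q ≫ f) = q := pullback.lift_fst _ _ _
  have hq'2 : q' ≫ pullback.snd f (q ≫ f) = 𝟙 _ := pullback.lift_snd _ _ _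
  have hmem : q' ηA ∈ Set.range j := by
    apply hjη
    · rw [← Scheme.Hom.comp_apply, hq'1, hqη]; exact hξZ
    · rw [← Scheme.Hom.comp_apply, hq'2]; rfl
  haveI : IsProper j := IsProper.of_comp j (pullback.snd f (q ≫ f))
  have hcl : IsClosed (Set.range j) := j.isClosedMap.isClosed_range
  have hmem' : q' sA ∈ Set.range j :=
    hcl.stableUnderSpecialization ((hηA sA).map q'.continuous) hmem
  obtain ⟨w, hw⟩ := hmem'
  have := hjZ w
  rw [hw, ← Scheme.Hom.comp_apply, hq'1, hqs] at this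
  exact this


open Groth.Agent.Lib.FibreBranches96 in
theorem range_fiberMap {U X S : Scheme.{u}} (g : U ⟶ X) (f : X ⟶ S) (s : S) :
    Set.range (fiberMap g f s) = (f.fiberι s) ⁻¹' (Set.range g) := by
  have hP := isPullback_fiberMap g f s
  ext z
  constructor
  · rintro ⟨w, rfl⟩
    refine ⟨(g ≫ f).fiberι s w, ?_⟩
    rw [← Scheme.Hom.comp_apply, ← fiberMap_fiberι, Scheme.Hom.comp_apply]
  · rintro ⟨u, hu⟩
    obtain ⟨w, hw1, -⟩ := Scheme.exists_preimage_of_isPullback hP z u hu.symm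
    exact ⟨w, hw1⟩

open Groth.Agent.Lib.FibreBranches96 in
theorem isProper_fiber_of_closure [IsLocallyNoetherian Y] (f : X ⟶ Y) [IsSeparated f]
    [LocallyOfFiniteType f] [QuasiCompact f] (Cc : Closeds X) (U : Y.Opens)
    (hU : IsProper (((Scheme.IdealSheafData.vanishingIdeal Cc).subschemeι ≫ f) ∣_ U))
    (y' : Y) (hy'U : y' ∈ U) (O : X.Opens) (K₀ : Set X) (hK₀ : IsClosed K₀)
    (hOK : (O : Set X) ∩ f ⁻¹' {y'} = K₀ ∩ f ⁻¹' {y'})
    (hOC : (O : Set X) ∩ f ⁻¹' {y'} ⊆ Cc) :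
    IsProper ((O.ι ≫ f).fiberToSpecResidueField y') := by
  set ιC := (Scheme.IdealSheafData.vanishingIdeal Cc).subschemeι with hιC
  have hrange : Set.range ιC = (Cc : Set X) := by
    rw [hιC, Scheme.IdealSheafData.range_subschemeι,
      Scheme.IdealSheafData.coe_support_vanishingIdeal]
  -- Step A: the fibre of the closure is proper
  have hA : IsProper ((ιC ≫ f).fiberToSpecResidueField y') := by
    have hPB := (isPullback_morphismRestrict (ιC ≫ f) U).flip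
    have hsq := isPullback_fiberToSpecResidueField_of_isPullback hPB (⟨y', hy'U⟩ : ↥U)
    haveI : IsProper (((ιC ≫ f) ∣_ U).fiberToSpecResidueField ⟨y', hy'U⟩) :=
      MorphismProperty.pullback_snd _ _ hU
    obtain ⟨top, hsq'⟩ : ∃ top : ((ιC ≫ f) ∣_ U).fiber ⟨y', hy'U⟩ ⟶
        (ιC ≫ f).fiber (U.ι (⟨y', hy'U⟩ : ↥U)),
        IsPullback top (((ιC ≫ f) ∣_ U).fiberToSpecResidueField ⟨y', hy'U⟩)
          ((ιC ≫ f).fiberToSpecResidueField (U.ι (⟨y', hy'U⟩ : ↥U)))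
          (Spec.map (U.ι.residueFieldMap ⟨y', hy'U⟩)) := ⟨_, hsq⟩
    haveI := hsq'.isIso_fst_of_isIso
    have : (ιC ≫ f).fiberToSpecResidueField (U.ι (⟨y', hy'U⟩ : ↥U)) =
        inv top ≫ ((ιC ≫ f) ∣_ U).fiberToSpecResidueField ⟨y', hy'U⟩ ≫
          Spec.map (U.ι.residueFieldMap ⟨y', hy'U⟩) := by
      rw [IsIso.eq_inv_comp]
      exact hsq'.w
    change IsProper ((ιC ≫ f).fiberToSpecResidueField (U.ι (⟨y', hy'U⟩ : ↥U)))
    rw [this]
    infer_instance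
  -- Step B
  haveI : IsOpenImmersion (fiberMap O.ι f y') :=
    MorphismProperty.of_isPullback (P := @IsOpenImmersion) (isPullback_fiberMap O.ι f y').flip
      inferInstance
  haveI : IsClosedImmersion (fiberMap ιC f y') :=
    MorphismProperty.of_isPullback (P := @IsClosedImmersion) (isPullback_fiberMap ιC f y').flip
      inferInstance
  have hfib : ∀ w : ↥(f.fiber y'), f.fiberι y' w ∈ f ⁻¹' {y'} := fun w => by
    rw [← f.range_fiberι]; exact ⟨w, rfl⟩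
  have hrQ : Set.range (fiberMap O.ι f y') = (f.fiberι y') ⁻¹' K₀ := by
    rw [range_fiberMap, Scheme.Opens.range_ι]
    ext w
    constructor
    · intro hw
      have : f.fiberι y' w ∈ (O : Set X) ∩ f ⁻¹' {y'} := ⟨hw, hfib w⟩
      rw [hOK] at this
      exact this.1
    · intro hw
      have : f.fiberι y' w ∈ K₀ ∩ f ⁻¹' {y'} := ⟨hw, hfib w⟩
      rw [← hOK] at this
      exact this.1
  haveI : IsClosedImmersion (fiberMap O.ι f y') :=
    IsClosedImmersion.of_isPreimmersion _ (by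
      rw [hrQ]; exact hK₀.preimage (f.fiberι y').continuous)
  have hsub : Set.range (fiberMap O.ι f y') ⊆ Set.range (fiberMap ιC f y') := by
    rw [range_fiberMap, range_fiberMap, Scheme.Opens.range_ι, hrange]
    intro w hw
    exact hOC ⟨hw, hfib w⟩
  haveI : Surjective (pullback.fst (fiberMap O.ι f y') (fiberMap ιC f y')) := by
    constructor
    intro q
    obtain ⟨c, hc⟩ := hsub ⟨q, rfl⟩
    obtain ⟨t, ht, -⟩ := Scheme.Pullback.exists_preimage_pullback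
      (f := fiberMap O.ι f y') (g := fiberMap ιC f y') q c hc.symm
    exact ⟨t, ht⟩
  haveI := hA
  have hcomp : pullback.fst (fiberMap O.ι f y') (fiberMap ιC f y') ≫
      (O.ι ≫ f).fiberToSpecResidueField y' =
      pullback.snd (fiberMap O.ι f y') (fiberMap ιC f y') ≫
        (ιC ≫ f).fiberToSpecResidueField y' := by
    rw [← fiberMap_snd O.ι f y', ← fiberMap_snd ιC f y', ← Category.assoc, ← Category.assoc,
      pullback.condition]
  haveI : UniversallyClosed (pullback.fst (fiberMap O.ι f y') (fiberMap ιC f y') ≫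
      (O.ι ≫ f).fiberToSpecResidueField y') := by
    rw [hcomp]; infer_instance
  haveI : UniversallyClosed ((O.ι ≫ f).fiberToSpecResidueField y') :=
    UniversallyClosed.of_comp_surjective
      (pullback.fst (fiberMap O.ι f y') (fiberMap ιC f y')) _
  haveI : IsSeparated ((O.ι ≫ f).fiberToSpecResidueField y') :=
    MorphismProperty.pullback_snd _ _ inferInstance
  haveI : LocallyOfFiniteType ((O.ι ≫ f).fiberToSpecResidueField y') :=
    MorphismProperty.pullback_snd _ _ inferInstance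
  exact { }

theorem dvrLiftsAt_closure [IsLocallyNoetherian Y] (y : Y) (f : X ⟶ Y) [IsSeparated f]
    [LocallyOfFiniteType f] [QuasiCompact f]
    (Z : Set X) (hZ : Topology.IsLocallyConstructible Z) (h1 : Hyp1 y f Z) (h3 : Hyp3 f Z)
    (O : X.Opens) (hOs : (O : Set X) ∩ f ⁻¹' {y} = Z ∩ f ⁻¹' {y})
    (hOη : ∀ y' : Y, y' ⤳ y → Z ∩ f ⁻¹' {y'} ⊆ O)
    (hOprop : IsProper ((O.ι ≫ f).fiberToSpecResidueField y))
    (Cc : Closeds X) (hCc : (Cc : Set X) = closure Z)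
    (κ : Type u) [Field κ]
    (t : Spec (CommRingCat.of κ) ⟶ (Scheme.IdealSheafData.vanishingIdeal Cc).subscheme)
    (htmax : ∀ x' : ↥(Scheme.IdealSheafData.vanishingIdeal Cc).subscheme,
      t (closedPoint κ) ∈ closure {x'} → x' = t (closedPoint κ)) :
    DvrLiftsAt ((Scheme.IdealSheafData.vanishingIdeal Cc).subschemeι ≫ f) y t := by
  set ιC := (Scheme.IdealSheafData.vanishingIdeal Cc).subschemeι with hιC
  have hrange : Set.range ιC = closure Z := by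
    rw [hιC, Scheme.IdealSheafData.range_subschemeι,
      Scheme.IdealSheafData.coe_support_vanishingIdeal, hCc]
  haveI : IsLocallyNoetherian X := LocallyOfFiniteType.isLocallyNoetherian f
  have hz₀ : ιC (t (closedPoint κ)) ∈ Z := by
    obtain ⟨ξ, hξZ, hξz⟩ := exists_specializes_of_mem_closure X hZ (ιC (t (closedPoint κ)))
      (hrange ▸ ⟨_, rfl⟩)
    have hξC : ξ ∈ Set.range ιC := by rw [hrange]; exact subset_closure hξZ
    obtain ⟨w, rfl⟩ := hξC
    have h1 : w ⤳ t (closedPoint κ) := (ιC.isEmbedding.isInducing.specializes_iff).mp hξz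
    rw [← htmax w (specializes_iff_mem_closure.mp h1)]
    exact hξZ
  intro A hA g hg hcomm
  haveI : IsDiscreteValuationRing A := hA
  obtain ⟨sA, hsA⟩ : ∃ sA : ↥(Spec (CommRingCat.of A)), sA = closedPoint A := ⟨_, rfl⟩
  let ηA : ↥(Spec (CommRingCat.of A)) := (⟨⊥, Ideal.isPrime_bot⟩ : PrimeSpectrum A)
  have hgs : g sA = y := by rw [hsA]; exact hg
  have hpt : ∀ pt' : ↥(Spec (CommRingCat.of κ)), pt' = closedPoint κ := fun pt' =>
    @Subsingleton.elim (PrimeSpectrum κ) _ pt' (closedPoint κ)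
  have hη_map : (Spec.map (CommRingCat.ofHom A.subtype)) (closedPoint κ) = ηA := by
    apply PrimeSpectrum.ext
    change Ideal.comap A.subtype (closedPoint κ).asIdeal = ⊥
    have h0 : (closedPoint κ).asIdeal = ⊥ := by
      change maximalIdeal κ = ⊥
      exact IsLocalRing.isField_iff_maximalIdeal_eq.mp (Field.toIsField _)
    rw [h0, ← RingHom.ker_eq_comap_bot]
    exact (RingHom.injective_iff_ker_eq_bot _).mp A.subtype_injective
  let σ : Spec (CommRingCat.of κ) ⟶ pullback f g :=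
    pullback.lift (t ≫ ιC) (Spec.map (CommRingCat.ofHom A.subtype))
      (by rw [Category.assoc]; exact hcomm.symm)
  have hσ1 : σ ≫ pullback.fst f g = t ≫ ιC := pullback.lift_fst _ _ _
  have hσ2 : σ ≫ pullback.snd f g = Spec.map (CommRingCat.ofHom A.subtype) :=
    pullback.lift_snd _ _ _
  obtain ⟨W, j, hprop, hjZ, -, hlift⟩ := key y f Z h1 h3 y specializes_rfl O hOs hOη hOprop A g
    sA hsA hgs ηA rfl
  obtain ⟨σW, hσW⟩ := hlift κ σ (fun pt' => by
    rw [hpt pt']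
    constructor
    · rw [← Scheme.Hom.comp_apply, hσ1]; exact hz₀
    · rw [← Scheme.Hom.comp_apply, hσ2]; exact hη_map)
  haveI := hprop
  obtain ⟨l', hl'1, hl'2⟩ := exists_lift_of_universallyClosed (j ≫ pullback.snd f g) A σW (𝟙 _)
    (by rw [Category.comp_id, ← Category.assoc, hσW, hσ2])
  have hrangeL : Set.range (l' ≫ j ≫ pullback.fst f g) ⊆ (Cc : Set X) := by
    rintro _ ⟨p, rfl⟩
    rw [hCc]
    apply subset_closure
    exact hjZ (l' p)
  obtain ⟨l, hl⟩ := Groth.Agent.Lib.H71CompGeomConn.exists_lift_subscheme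
    (l' ≫ j ≫ pullback.fst f g) Cc hrangeL
  refine ⟨l, ?_, ?_⟩
  · rw [← cancel_mono ιC, Category.assoc, hl, ← Category.assoc, hl'1, ← Category.assoc, hσW, hσ1]
  · rw [← Category.assoc, hl, Category.assoc, Category.assoc, pullback.condition,
      ← Category.assoc j, ← Category.assoc l', hl'2, Category.id_comp]


theorem main [IsLocallyNoetherian Y] (y : Y)
    (f : X ⟶ Y) [IsSeparated f] [LocallyOfFiniteType f] [QuasiCompact f] (Z : Set X)
    (hZ : Topology.IsLocallyConstructible Z)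
    (h1 : Hyp1 y f Z)
    (hop : IsOpen ((f.fiberι y).base ⁻¹' Z))
    (h2 : IsProper (Scheme.Opens.ι (⟨(f.fiberι y).base ⁻¹' Z, hop⟩ : (f.fiber y).Opens) ≫ f.fiberToSpecResidueField y))
    (h3 : Hyp3 f Z) :
    ∃ U : Y.Opens, y ∈ U ∧ ∃ hC : IsClosed ((f ⁻¹ᵁ U).ι.base ⁻¹' Z),
      IsProper ((Scheme.IdealSheafData.vanishingIdeal
        (⟨(f ⁻¹ᵁ U).ι.base ⁻¹' Z, hC⟩ : TopologicalSpace.Closeds ↥(f ⁻¹ᵁ U))).subschemeι ≫ (f ∣_ U)) := by
  haveI : IsLocallyNoetherian X := LocallyOfFiniteType.isLocallyNoetherian f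
  -- (ii)-data at `y`
  obtain ⟨O₀, hO₀, hO₀eq⟩ := (f.fiberι y).isEmbedding.isInducing.isOpen_iff.mp hop
  have hfib : ∀ w : ↥(f.fiber y), f.fiberι y w ∈ f ⁻¹' {y} := fun w => by
    rw [← f.range_fiberι]; exact ⟨w, rfl⟩
  have hO₀Z : O₀ ∩ f ⁻¹' {y} = Z ∩ f ⁻¹' {y} := by
    ext x
    constructor
    · rintro ⟨hx, hfx⟩
      have hxr : x ∈ Set.range (f.fiberι y) := by rw [f.range_fiberι]; exact hfx
      obtain ⟨w, rfl⟩ := hxr
      have hw : w ∈ (f.fiberι y) ⁻¹' O₀ := hx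
      rw [hO₀eq] at hw
      exact ⟨hw, hfx⟩
    · rintro ⟨hx, hfx⟩
      have hxr : x ∈ Set.range (f.fiberι y) := by rw [f.range_fiberι]; exact hfx
      obtain ⟨w, rfl⟩ := hxr
      have hw : w ∈ (f.fiberι y).base ⁻¹' Z := hx
      rw [← hO₀eq] at hw
      exact ⟨hw, hfx⟩
  obtain ⟨O, hOs, hOη, -⟩ := exists_opens f Z y O₀ hO₀ hO₀Z
  have hOF : ((⟨(f.fiberι y).base ⁻¹' Z, hop⟩ : (f.fiber y).Opens) : Set ↥(f.fiber y)) =
      (f.fiberι y) ⁻¹' (O : Set X) := by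
    ext w
    constructor
    · intro h
      have : f.fiberι y w ∈ Z ∩ f ⁻¹' {y} := ⟨h, hfib w⟩
      rw [← hOs] at this
      exact this.1
    · intro h
      have : f.fiberι y w ∈ (O : Set X) ∩ f ⁻¹' {y} := ⟨h, hfib w⟩
      rw [hOs] at this
      exact this.1
  have hOprop := isProper_fiber_of_opens f y O _ hOF h2
  -- the closure
  let Cc : Closeds X := ⟨closure Z, isClosed_closure⟩
  obtain ⟨U, hyU, hU⟩ := Groth.Agent.Lib.H30PropNbhd.exists_isProper_restrict_of_maximal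
    ((Scheme.IdealSheafData.vanishingIdeal Cc).subschemeι ≫ f) y
    (fun κ _ t ht => dvrLiftsAt_closure y f Z hZ h1 h3 O hOs hOη hOprop Cc rfl κ t ht)
  -- the fibres of the closure over generizations of `y` lie in `Z`
  have hstep4 : ∀ y' : Y, y' ⤳ y → ∀ z ∈ closure Z, f z = y' → z ∈ Z := by
    intro y' hy' z hz hfz
    have hy'U : y' ∈ U := hy'.mem_open U.isOpen hyU
    obtain ⟨⟨x, hxZ, hfx, hcc⟩, -⟩ := h1 y' hy'
    obtain ⟨K₀, O₁, hK₀, hO₁, hK₀', hO₁'⟩ := exists_closed_open_trace f y' x hfx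
    have hcc' : Z ∩ f ⁻¹' {y'} = connectedComponentIn (f ⁻¹' {y'}) x := hcc
    obtain ⟨O', hO's, hO'η, -⟩ := exists_opens f Z y' O₁ hO₁ (hO₁'.trans hcc'.symm)
    have hO'prop : IsProper ((O'.ι ≫ f).fiberToSpecResidueField y') :=
      isProper_fiber_of_closure f Cc U hU y' hy'U O' K₀ hK₀
        (hO's.trans (hK₀'.trans hcc'.symm).symm) (by
          rw [hO's]
          intro x hx
          exact subset_closure hx.1)
    exact mem_of_mem_closure y f Z hZ h1 h3 y' hy' O' hO's hO'η hO'prop z hz hfz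
  -- constructibility
  have hD : Topology.IsLocallyConstructible (closure Z ∩ Zᶜ) :=
    (Groth.Agent.Lib.H56OpenDim.isLocallyConstructible_of_isClosed X isClosed_closure).inter
      (Groth.Agent.Lib.ConsTop.isLocallyConstructible_compl hZ)
  have hE : Topology.IsLocallyConstructible (f '' (closure Z ∩ Zᶜ))ᶜ :=
    Groth.Agent.Lib.ConsTop.isLocallyConstructible_compl (f.isLocallyConstructible_image hD)
  have hnhds : (f '' (closure Z ∩ Zᶜ))ᶜ ∈ nhds y :=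
    Groth.Agent.Lib.H56ConsNhds.mem_nhds_of_isLocallyConstructible Y hE y (by
      rintro ξ hξ ⟨z, ⟨hzC, hzZ⟩, hfz⟩
      exact hzZ (hstep4 ξ hξ z hzC hfz))
  obtain ⟨U₁s, hU₁sub, hU₁open, hyU₁⟩ := mem_nhds_iff.mp hnhds
  let U₁ : Y.Opens := ⟨U₁s, hU₁open⟩
  have hU' : IsProper (((Scheme.IdealSheafData.vanishingIdeal Cc).subschemeι ≫ f) ∣_ (U ⊓ U₁)) :=
    isProper_restrict_of_le _ inf_le_left hU
  have hZC : (f ⁻¹ᵁ (U ⊓ U₁)).ι.base ⁻¹' Z = (f ⁻¹ᵁ (U ⊓ U₁)).ι.base ⁻¹' closure Z := by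
    ext v
    constructor
    · exact fun h => subset_closure h
    · intro h
      by_contra hv
      have hmem : f ((f ⁻¹ᵁ (U ⊓ U₁)).ι v) ∈ f '' (closure Z ∩ Zᶜ) := ⟨_, ⟨h, hv⟩, rfl⟩
      have hv2 : f ((f ⁻¹ᵁ (U ⊓ U₁)).ι v) ∈ U₁s := v.2.2
      exact hU₁sub hv2 hmem
  have hC : IsClosed ((f ⁻¹ᵁ (U ⊓ U₁)).ι.base ⁻¹' Z) := by
    rw [hZC]
    exact isClosed_closure.preimage (f ⁻¹ᵁ (U ⊓ U₁)).ι.continuous
  refine ⟨U ⊓ U₁, ⟨hyU, hyU₁⟩, hC, ?_⟩
  obtain ⟨e, he⟩ := Groth.Agent.S4978.exists_iso_restrict Cc (f ⁻¹ᵁ (U ⊓ U₁))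
    ⟨(f ⁻¹ᵁ (U ⊓ U₁)).ι.base ⁻¹' Z, hC⟩ hZC
  rw [morphismRestrict_comp] at hU'
  have h1' : (Scheme.IdealSheafData.vanishingIdeal
      (⟨(f ⁻¹ᵁ (U ⊓ U₁)).ι.base ⁻¹' Z, hC⟩ : TopologicalSpace.Closeds ↥(f ⁻¹ᵁ (U ⊓ U₁)))).subschemeι ≫
        (f ∣_ (U ⊓ U₁)) = e.inv ≫ ((Scheme.IdealSheafData.vanishingIdeal Cc).subschemeι ∣_
          (f ⁻¹ᵁ (U ⊓ U₁)) ≫ f ∣_ (U ⊓ U₁)) := by
    rw [← he, Category.assoc, Iso.inv_hom_id_assoc]
    rfl
  rw [h1']
  exact (MorphismProperty.cancel_left_of_respectsIso @IsProper e.inv _).mpr hU'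

end

open CategoryTheory.Limits in
/-- Let Y be a locally Noetherian scheme, y a point of Y, f : X ⟶ Y a separated morphism of finite type,
and Z a locally constructible subset of X such that: (i) for every generization y' of y, Z ∩ f⁻¹(y')
is a connected component of the fibre f⁻¹(y') and is geometrically connected over κ(y'); (ii) Z ∩
f⁻¹(y), an open and closed subscheme of the fibre X_y, is proper over κ(y); (iii) Z is universally
submersive onto f(Z): for every morphism h : Y' ⟶ Y, writing p and f' for the two projections of X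
×_Y Y', a subset E of h⁻¹(f(Z)) is open in h⁻¹(f(Z)) as soon as f'⁻¹(E) ∩ p⁻¹(Z) is open in p⁻¹(Z)
(induced topologies). Then Z is proper over Y at y: there is an open neighbourhood U of y such that
Z ∩ f⁻¹(U) is closed in f⁻¹(U) and, with its reduced subscheme structure, proper over U. -/
theorem result {X Y : Scheme.{u}} [IsLocallyNoetherian Y] (y : Y)
    (f : X ⟶ Y) [IsSeparated f] [LocallyOfFiniteType f] [QuasiCompact f] (Z : Set X)
    (hZ : Topology.IsLocallyConstructible Z)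
    (h1 : ∀ y' : Y, y' ⤳ y → (∃ x ∈ Z, f.base x = y' ∧ Z ∩ f.base ⁻¹' {y'} = connectedComponentIn (f.base ⁻¹' {y'}) x) ∧
      ∀ (K : Type u) [Field K] [Algebra (IsLocalRing.ResidueField (Y.presheaf.stalk y')) K],
        _root_.IsPreconnected ((FBase.bcπ (f.fiberToSpecResidueField y') K ≫ f.fiberι y').base ⁻¹' Z))
    (hop : IsOpen ((f.fiberι y).base ⁻¹' Z))
    (h2 : IsProper (Scheme.Opens.ι (⟨(f.fiberι y).base ⁻¹' Z, hop⟩ : (f.fiber y).Opens) ≫ f.fiberToSpecResidueField y))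
    (h3 : ∀ (Y' : Scheme.{u}) (h : Y' ⟶ Y) (E : Set Y'), E ⊆ h.base ⁻¹' (f.base '' Z) →
      (∃ W : Set ↥(pullback f h), IsOpen W ∧
        W ∩ (pullback.fst f h).base ⁻¹' Z = (pullback.snd f h).base ⁻¹' E ∩ (pullback.fst f h).base ⁻¹' Z) →
      ∃ V : Set Y', IsOpen V ∧ V ∩ h.base ⁻¹' (f.base '' Z) = E) :
    ∃ U : Y.Opens, y ∈ U ∧ ∃ hC : IsClosed ((f ⁻¹ᵁ U).ι.base ⁻¹' Z),
      IsProper ((Scheme.IdealSheafData.vanishingIdeal
        (⟨(f ⁻¹ᵁ U).ι.base ⁻¹' Z, hC⟩ : TopologicalSpace.Closeds ↥(f ⁻¹ᵁ U))).subschemeι ≫ (f ∣_ U)) := by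
  exact main y f Z hZ h1 hop h2 h3

end Groth.Agent.S4977
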