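import Groth.Statements.S3391
import Groth.Agent.Lib.DimFormulaLocal
import Groth.Agent.Lib.DimFormulaScheme2
import Groth.Agent.Lib.FibreDimAtFormula

set_option autoImplicit false
open CategoryTheory AlgebraicGeometry
universe u
open EGA43

namespace Groth.Agent.S3391

/-- cancellation of a natural number in `WithBot ℕ∞`. -/
theorem withBot_add_nat_cancel {a b : WithBot ℕ∞} (n : ℕ)
    (hab : a + (n : WithBot ℕ∞) = b + (n : WithBot ℕ∞)) : a = b := by
  have hn : ((n : ℕ∞) : WithBot ℕ∞) = (n : WithBot ℕ∞) := rfl
  rw [← hn] at hab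
  cases a with
  | bot =>
    cases b with
    | bot => rfl
    | coe b => exact absurd hab.symm (by rw [← WithBot.coe_add]; exact WithBot.coe_ne_bot)
  | coe a =>
    cases b with
    | bot => exact absurd hab (by rw [← WithBot.coe_add]; exact WithBot.coe_ne_bot)
    | coe b =>
      rw [← WithBot.coe_add, ← WithBot.coe_add, WithBot.coe_inj] at hab
      rw [WithBot.coe_inj]
      exact (ENat.add_left_injective_of_ne_top (ENat.natCast_ne_top n)) hab

/-- With X, Y, f, x, y as in the first assertion, suppose O_{Y,y} is universally catenary and the local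
dimension at x of the fibre through x equals the dimension of the generic fibre. Then dim O_{X,x} =
dim O_{Y,y} + dim O_{X_y,x}. -/
theorem result {X Y : Scheme.{u}} [IrreducibleSpace X] [IrreducibleSpace Y]
    [IsLocallyNoetherian Y] (f : X ⟶ Y) [LocallyOfFiniteType f] [IsDominant f] (x : X)
    (hcat : CAlg.IsUniversallyCatenary (Y.presheaf.stalk (f.base x)))
    (h : FlatMor.fibreDimAt f x = topologicalKrullDim ↥(f.fiber (genericPoint Y))) :
    ringKrullDim (X.presheaf.stalk x) =
        ringKrullDim (Y.presheaf.stalk (f.base x)) + ringKrullDim ((f.fiber (f.base x)).presheaf.stalk (f.asFiber x)) := by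
  have hξ : ∀ x : X, genericPoint X ⤳ x := genericPoint_specializes
  have hgen : f (genericPoint X) = genericPoint Y := by
    have h1 := (genericPoint_spec X).image f.continuous
    rw [Set.image_univ, f.denseRange.closure_range] at h1
    exact IsGenericPoint.eq h1 (genericPoint_spec Y)
  have hfξ : ∀ y : Y, f (genericPoint X) ⤳ y := fun y => by
    rw [hgen]
    exact genericPoint_specializes y
  obtain ⟨e₀, he⟩ := Groth.Agent.Lib.GenericFibrePoint.exists_nat_trdeg_residueField f
    (genericPoint X)
  have hfib := Groth.Agent.Lib.DimFormulaScheme.topologicalKrullDim_fiber_eq f (genericPoint X)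
    hξ hfξ e₀ he
  rw [hgen] at hfib
  obtain ⟨n, hn⟩ := Groth.Agent.Lib.GenericFibrePoint.exists_nat_trdeg_residueField f x
  have hFD := Groth.Agent.Lib.FibreDimAtFormula.fibreDimAt_eq_add f x n hn
  rw [hFD, hfib] at h
  obtain ⟨a, b, ha, hb, hform⟩ := Groth.Agent.Lib.DimFormulaLocal.stalk_formula_local f x hcat
    (genericPoint X) hξ hfξ
  rw [hn, he] at hform
  have h2 : a + n = b + e₀ := by exact_mod_cast hform
  apply withBot_add_nat_cancel n
  rw [ha, hb, add_assoc, h]
  have h3 : ((a + n : ℕ) : WithBot ℕ∞) = ((b + e₀ : ℕ) : WithBot ℕ∞) := by rw [h2]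
  push_cast at h3
  exact h3

end Groth.Agent.S3391
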