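import Groth.Statements.S3390
import Groth.Agent.S3388
import Groth.Agent.Lib.DimFormulaScheme3
import Groth.Agent.Lib.FibreDimAtFormula

set_option autoImplicit false
open CategoryTheory AlgebraicGeometry
universe u
open EGA43

namespace Groth.Agent.S3390

/-- Let Y be an irreducible locally Noetherian scheme with generic point η and X an irreducible scheme,
and let f : X ⟶ Y be dominant and locally of finite type. Take a point x of X and write y = f x.
Suppose dim O_{X,x} = dim O_{Y,y} + dim O_{X_y,x}. Then the local dimension of the fibre X_y at x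
(FlatMor.fibreDimAt f x) equals the dimension of the generic fibre X_η (i.e. f is equidimensional at
x). -/
theorem result {X Y : Scheme.{u}} [IrreducibleSpace X] [IrreducibleSpace Y]
    [IsLocallyNoetherian Y] (f : X ⟶ Y) [LocallyOfFiniteType f] [IsDominant f] (x : X)
    (h : ringKrullDim (X.presheaf.stalk x) =
        ringKrullDim (Y.presheaf.stalk (f.base x)) + ringKrullDim ((f.fiber (f.base x)).presheaf.stalk (f.asFiber x))) :
    FlatMor.fibreDimAt f x = topologicalKrullDim ↥(f.fiber (genericPoint Y)) := by
  refine le_antisymm ?_ (Groth.Agent.S3388.result f x)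
  have hξ : ∀ x : X, genericPoint X ⤳ x := genericPoint_specializes
  have hgen : f (genericPoint X) = genericPoint Y := by
    have h1 := (genericPoint_spec X).image f.continuous
    rw [Set.image_univ, f.denseRange.closure_range] at h1
    exact IsGenericPoint.eq h1 (genericPoint_spec Y)
  have hfξ : ∀ y : Y, f (genericPoint X) ⤳ y := fun y => by
    rw [hgen]
    exact genericPoint_specializes y
  obtain ⟨e₀, he⟩ := Groth.Agent.Lib.GenericFibrePoint.exists_nat_trdeg_residueField f
    (genericPoint X)
  have hfib := Groth.Agent.Lib.DimFormulaScheme.topologicalKrullDim_fiber_eq f (genericPoint X)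
    hξ hfξ e₀ he
  rw [hgen] at hfib
  obtain ⟨n, hn⟩ := Groth.Agent.Lib.GenericFibrePoint.exists_nat_trdeg_residueField f x
  rw [Groth.Agent.Lib.FibreDimAtFormula.fibreDimAt_eq_add f x n hn, hfib]
  obtain ⟨a, b, ha, hb, hineq⟩ := Groth.Agent.Lib.DimFormulaScheme.stalk_ineq_generic f
    (genericPoint X) hξ e₀ he x
  rw [hn] at hineq
  have h2 : a + n ≤ b + e₀ := by exact_mod_cast hineq
  rw [ha, hb] at h
  -- the fibre local ring has finite dimension `m` with `a = b + m`
  generalize ringKrullDim ((f.fiber (f.base x)).presheaf.stalk (f.asFiber x)) = c at h ⊢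
  cases c with
  | bot => exact absurd h (by simp)
  | coe c =>
    cases c with
    | top =>
      exfalso
      have h3 : ((a : ℕ∞) : WithBot ℕ∞) = ((b : ℕ∞) + (⊤ : ℕ∞) : ℕ∞) := by exact_mod_cast h
      rw [WithBot.coe_inj] at h3
      simp at h3
    | coe m =>
      have h3 : a = b + m := by exact_mod_cast h
      have h4 : m + n ≤ e₀ := by omega
      exact_mod_cast h4

end Groth.Agent.S3390
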