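-- Statement S3448.
import Groth.Statements.S3448
import Groth.Agent.Lib.H30EquidimAt
import Groth.Agent.Lib.H30LowerBound
import Groth.Agent.Lib.H30FlatDim
import Groth.Agent.Lib.DimFibre33
import Groth.Agent.Lib.FibreStalk33
import Mathlib

set_option autoImplicit false
open CategoryTheory AlgebraicGeometry
universe u
open EGA43

namespace Groth.Agent.S3448

open Groth.Agent.Lib.H30EquidimAt Groth.Agent.Lib.H30DimRel Groth.Agent.Lib.H30LowerBound
  Groth.Agent.Lib.H30DimFormulaGen Groth.Agent.Lib.H30GenFib Groth.Agent.Lib.H30IrrFib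
  Groth.Agent.Lib.H30FlatDim

theorem nat_dim (R : Type u) [CommRing R] [IsNoetherianRing R] [IsLocalRing R] :
    ∃ n : ℕ, ringKrullDim R = n := by
  obtain ⟨n, hn⟩ := ENat.ne_top_iff_exists.mp
    (Ideal.height_ne_top_of_isPrime (I := IsLocalRing.maximalIdeal R))
  refine ⟨n, ?_⟩
  rw [← IsLocalRing.maximalIdeal_height_eq_ringKrullDim, ← hn]
  rfl

theorem locQuot_dim_congr {Y : Scheme.{u}} (y₁ y₂ : Y) (e : y₁ = y₂) (η : Y) (h₁ : η ⤳ y₁)
    (h₂ : η ⤳ y₂) : ringKrullDim (Cyc.LocQuot y₁ η h₁) = ringKrullDim (Cyc.LocQuot y₂ η h₂) := by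
  subst e; rfl

theorem uc_congr {Y : Scheme.{u}} (y₁ y₂ : Y) (e : y₁ = y₂)
    (h : CAlg.IsUniversallyCatenary (Y.presheaf.stalk y₁)) :
    CAlg.IsUniversallyCatenary (Y.presheaf.stalk y₂) := by
  subst e; exact h

theorem stalk_le_add {X Y : Scheme.{u}} [IsLocallyNoetherian Y] (f : X ⟶ Y)
    [LocallyOfFiniteType f] (x : X) :
    ringKrullDim (X.presheaf.stalk x) ≤
      ringKrullDim (Y.presheaf.stalk (f x)) +
        ringKrullDim ((f.fiber (f x)).presheaf.stalk (f.asFiber x)) := by
  have hX : IsLocallyNoetherian X := LocallyOfFiniteType.isLocallyNoetherian f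
  have h := Groth.Agent.Lib.DimFibre33.ringKrullDim_le_add' (f.stalkMap x).hom
  rw [ringKrullDim_eq_of_ringEquiv (Groth.Agent.Lib.FibreStalk33.fibreStalkEquiv f x)] at h
  exact h

theorem main {X Y : Scheme.{u}} [IsLocallyNoetherian Y]
    (f : X ⟶ Y) [LocallyOfFiniteType f] (x : X)
    (hcat : CAlg.IsUniversallyCatenary (Y.presheaf.stalk (f x))) :
    ringKrullDim (X.presheaf.stalk x) =
        ringKrullDim (Y.presheaf.stalk (f x)) +
          ringKrullDim ((f.fiber (f x)).presheaf.stalk (f.asFiber x)) ↔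
      ∃ z : X, f z = f x ∧ z ⤳ x ∧ (∀ z' : X, f z' = f x → z' ⤳ z → z' = z) ∧
        FlatMor.fibreDimAt f z = FlatMor.fibreDimAt f x ∧
        ringKrullDim (X.presheaf.stalk z) = ringKrullDim (Y.presheaf.stalk (f z)) := by
  haveI : IsLocallyNoetherian X := LocallyOfFiniteType.isLocallyNoetherian f
  obtain ⟨A, hA⟩ := nat_dim (X.presheaf.stalk x)
  obtain ⟨B, hB⟩ := nat_dim (Y.presheaf.stalk (f x))
  obtain ⟨δ, hδ⟩ := exists_nat_fibreDimAt_eq f x
  have hadd := Groth.Agent.Lib.FibreDimAtFormula.fibreDimAt_eq_add f x (rt f x) (trdeg_eq_rt f x)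
  obtain ⟨c, hc⟩ : ∃ c : ℕ,
      ringKrullDim ((f.fiber (f x)).presheaf.stalk (f.asFiber x)) = c := by
    letI := Groth.Agent.Lib.H30FibRes.fiberOver f (f x)
    haveI := Groth.Agent.Lib.H30FibRes.lft_fiber f (f x)
    haveI := Groth.Agent.Lib.H30DimField.isLocallyNoetherian (Y.residueField (f x))
      (f.fiber (f x))
    exact nat_dim _
  rw [hδ, hc] at hadd
  have hδc : δ = c + rt f x := by exact_mod_cast hadd
  rw [hA, hB, hc]
  constructor
  · intro hABc
    have hABc' : A = B + c := by exact_mod_cast hABc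
    obtain ⟨p, hp, hpdim⟩ := exists_minimalPrimes_dim_eq (X.presheaf.stalk x) ringKrullDim_lt_top
    haveI : p.IsPrime := hp.1.1
    obtain ⟨ζ, hζ, rfl⟩ := exists_specializes_ker_eq x p
    obtain ⟨a, b, ha, hb, hab⟩ := gen_formula f x hcat ζ hζ
    have haA : a = A := by
      have h1 : ringKrullDim (X.presheaf.stalk x ⧸ RingHom.ker (Cyc.specMap x ζ hζ)) = a := ha
      rw [hpdim, hA] at h1
      exact_mod_cast h1.symm
    have hbB : b ≤ B := by
      have h1 : ringKrullDim (Cyc.LocQuot (f x) (f ζ) (hζ.map f.continuous)) ≤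
          ringKrullDim (Y.presheaf.stalk (f x)) := ringKrullDim_quotient_le _
      rw [hb, hB] at h1
      exact_mod_cast h1
    obtain ⟨z, hζz, hzx, hfz, hrt⟩ := exists_specialization_rt_ge f x ζ hζ
    have hrtz : rt f z ≤ δ := by
      have h1 := rt_le_fibreDimAt_of_specializes f x z hfz hzx
      rw [hδ] at h1
      exact_mod_cast h1
    have h1 : rt f z = δ := by omega
    have h2 : rt f ζ = δ := by omega
    have h3 : b = B := by omega
    have hzmax : ∀ z' : X, f z' = f x → z' ⤳ z → z' = z := by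
      intro z' hz' hsp
      by_contra hne
      have h4 := rt_lt_of_specializes_ne f z z' (hz'.trans hfz.symm) hsp hne
      have h5 := rt_le_fibreDimAt_of_specializes f x z' hz' (hsp.trans hzx)
      rw [hδ] at h5
      have h5' : rt f z' ≤ δ := by exact_mod_cast h5
      omega
    refine ⟨z, hfz, hzx, hzmax, ?_, ?_⟩
    · apply le_antisymm (fibreDimAt_le_of_specializes f x z hzx)
      rw [hδ, ← h1]
      exact rt_le_fibreDimAt_of_specializes f z z rfl specializes_rfl
    · have hBz : ringKrullDim (Y.presheaf.stalk (f z)) = B := by rw [hfz]; exact hB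
      rw [hBz]
      apply le_antisymm
      · have h4 := stalk_le_add f z
        rw [stalk_fiber_dim_zero f z (fun x' hx' hsp => hzmax x' (hx'.trans hfz) hsp), hBz,
          add_zero] at h4
        exact h4
      · obtain ⟨a', b', ha', hb', hab'⟩ := gen_formula f z (uc_congr _ _ hfz.symm hcat) ζ hζz
        have hbb : b' = b := by
          have h5 := locQuot_dim_congr (f z) (f x) hfz (f ζ) (hζz.map f.continuous)
            (hζ.map f.continuous)
          rw [hb, hb'] at h5
          exact_mod_cast h5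
        have ha'B : a' = B := by omega
        have h6 : ringKrullDim (Cyc.LocQuot z ζ hζz) ≤ ringKrullDim (X.presheaf.stalk z) :=
          ringKrullDim_quotient_le _
        rw [ha', ha'B] at h6
        exact h6
  · rintro ⟨z, hfz, hzx, hzmax, hfd, hdim⟩
    apply le_antisymm
    · have h4 := stalk_le_add f x
      rw [hA, hB, hc] at h4
      exact h4
    · have hBz : ringKrullDim (Y.presheaf.stalk (f z)) = B := by rw [hfz]; exact hB
      obtain ⟨p, hp, hpdim⟩ := exists_minimalPrimes_dim_eq (X.presheaf.stalk z)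
        ringKrullDim_lt_top
      haveI : p.IsPrime := hp.1.1
      obtain ⟨ζ, hζz, rfl⟩ := exists_specializes_ker_eq z p
      have hζ : ζ ⤳ x := hζz.trans hzx
      obtain ⟨a', b', ha', hb', hab'⟩ := gen_formula f z (uc_congr _ _ hfz.symm hcat) ζ hζz
      obtain ⟨a, b, ha, hb, hab⟩ := gen_formula f x hcat ζ hζ
      have hbb : b' = b := by
        have h5 := locQuot_dim_congr (f z) (f x) hfz (f ζ) (hζz.map f.continuous)
          (hζ.map f.continuous)
        rw [hb, hb'] at h5
        exact_mod_cast h5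
      have ha'B : a' = B := by
        have h1 : ringKrullDim (X.presheaf.stalk z ⧸ RingHom.ker (Cyc.specMap z ζ hζz)) = a' := ha'
        rw [hpdim, hdim, hBz] at h1
        exact_mod_cast h1.symm
      have hrtz : rt f z = δ := by
        obtain ⟨w, hw1, hw2, -, hw4⟩ := exists_rt_eq_fibreDimAt f z
        have hwz : w = z := hzmax w (hw1.trans hfz) hw2
        rw [hwz, hfd, hδ] at hw4
        exact_mod_cast hw4
      have haBc : a = B + c := by omega
      have h6 : ringKrullDim (Cyc.LocQuot x ζ hζ) ≤ ringKrullDim (X.presheaf.stalk x) :=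
        ringKrullDim_quotient_le _
      rw [ha, hA, haBc] at h6
      exact_mod_cast h6

/-- Let Y be locally Noetherian, f : X ⟶ Y of finite type, x a point of X with y = f x, and suppose
O_{Y,y} is universally catenary. Then dim O_{X,x} = dim O_{Y,y} + dim O_{X_y,x} if and only if there
is a point z of the fibre over y which is a generization of x, is maximal in the fibre (the generic
point of an irreducible component Z of X_y containing x), has local fibre dimension at z equal to
that at x (dim Z = dim_x X_y), and satisfies dim O_{X,z} = dim O_{Y,y}. -/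
theorem result {X Y : Scheme.{u}} [IsLocallyNoetherian Y]
    (f : X ⟶ Y) [LocallyOfFiniteType f] [QuasiCompact f] (x : X)
    (hcat : CAlg.IsUniversallyCatenary (Y.presheaf.stalk (f.base x))) :
    ringKrullDim (X.presheaf.stalk x) =
        ringKrullDim (Y.presheaf.stalk (f.base x)) + ringKrullDim ((f.fiber (f.base x)).presheaf.stalk (f.asFiber x)) ↔
      ∃ z : X, f.base z = f.base x ∧ z ⤳ x ∧ (∀ z' : X, f.base z' = f.base x → z' ⤳ z → z' = z) ∧
        FlatMor.fibreDimAt f z = FlatMor.fibreDimAt f x ∧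
        ringKrullDim (X.presheaf.stalk z) = ringKrullDim (Y.presheaf.stalk (f.base z)) := by
  exact main f x hcat

end Groth.Agent.S3448
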