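import Groth.Statements.S18175
import Groth.Agent.Lib.H40FunFldSeries
open Groth.Agent.Lib.H40FunFld

set_option autoImplicit false
open FunFld

namespace Groth.Agent.S18175

/-- Let `k` be an algebraically closed field of characteristic zero and `K/k` a function field of one
variable (the function field of a smooth projective curve over `k`). A `g^r_d` is a divisor `D` of
degree `d` with a subspace `V ⊆ L(D)` of dimension `r + 1`; for a place `P` and `n ≥ 0`, `V(-nP) = V
∩ L(D - nP)` is the space of members vanishing to order at least `n` at `P`, so `dim V(-nP)` counts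
the vanishing orders `m_0 < ⋯ < m_r` of `V` at `P` that are at least `n`, and the weight of `V` at
`P` is `∑_{n=1}^{d} dim V(-nP) - r(r+1)/2`. Assume `K` has genus `0` and the `g^r_d` `(D, V)` has at
least a cusp at the place `Q` (`dim V(-2Q) ≥ r`), and let `P, P'` be places other than `Q`. Then up
to a constant factor there is at most one member of `V` vanishing only at `P` and `P'`: if `f, g ∈
V` are nonzero and the divisors `div f + D`, `div g + D` are both supported on `{P, P'}`, then `g =
c f` for some `c ∈ k`. (In the source `Q` is the point where the rational component `Y` meets a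
chain of curves ending in a curve of positive genus, a situation that forces the cusp condition
assumed here.) (The source states this for curves over the complex numbers.) -/
theorem result
    (k : Type*) [Field k] [IsAlgClosed k] [CharZero k]
    (K : Type*) [Field K] [Algebra k K] (hK : FunFld.IsFunctionField k K) (hg0 : FunFld.genus k K = 0)
    (d r : ℕ) (D : FunFld.Divisor k K) (hD : D.deg = d)
    (V : Submodule k K) (hV : V ≤ FunFld.L D) (hVr : Module.finrank k ↥V = r + 1)
    (Q : FunFld.Place k K) (hcusp : r ≤ Module.finrank k ↥(V ⊓ FunFld.L (D - Finsupp.single Q ((2 : ℤ)))))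
    (P P' : FunFld.Place k K) (hP : P ≠ Q) (hP' : P' ≠ Q)
    (f g : K) (hf : f ∈ V) (hg : g ∈ V) (hf0 : f ≠ 0) (hg0' : g ≠ 0)
    (hfs : ∀ R : FunFld.Place k K, R ≠ P → R ≠ P' → (FunFld.div k f + D) R = 0)
    (hgs : ∀ R : FunFld.Place k K, R ≠ P → R ≠ P' → (FunFld.div k g + D) R = 0) :
    ∃ c : k, g = c • f := by
  classical
  have hPd := deg_eq_one_of_isAlgClosed hK P
  have hP'd := deg_eq_one_of_isAlgClosed hK P'
  have hQd := deg_eq_one_of_isAlgClosed hK Q
  by_contra hne
  push Not at hne
  set h := g * f⁻¹ with hh
  have hh0 : h ≠ 0 := mul_ne_zero hg0' (inv_ne_zero hf0)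
  have hgfh : g = f * h := by rw [hh]; field_simp
  have hdivh : FunFld.div k h = (FunFld.div k g + D) - (FunFld.div k f + D) := by
    rw [hh, div_mul hK hg0' (inv_ne_zero hf0), div_inv hK]; abel
  have hhs : ∀ R : FunFld.Place k K, R ≠ P → R ≠ P' → FunFld.div k h R = 0 := by
    intro R h1 h2
    rw [hdivh, Finsupp.sub_apply, hfs R h1 h2, hgs R h1 h2, sub_zero]
  -- `h` is nonconstant
  have hnc : FunFld.div k h ≠ 0 := by
    intro h0
    obtain ⟨c, hc0, hc⟩ := exists_const_of_div_eq_zero hK hh0 h0
    apply hne c
    rw [hgfh, hc, Algebra.smul_def, mul_comm]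
  -- reduction to a power of a coordinate function
  have key : ∀ A B : FunFld.Place k K, A ≠ Q → B ≠ Q → ∀ n : ℕ, 0 < n →
      FunFld.div k h = n • (Finsupp.single A (1 : ℤ) - Finsupp.single B (1 : ℤ) :
        FunFld.Divisor k K) → False := by
    intro A B hAQ hBQ n hn hdiv
    have hAd := deg_eq_one_of_isAlgClosed hK A
    have hBd := deg_eq_one_of_isAlgClosed hK B
    have hAB : A ≠ B := by
      rintro rfl
      rw [sub_self, smul_zero] at hdiv
      exact hnc hdiv
    obtain ⟨t, ht0, hdt⟩ := exists_div_eq_single_sub_single hK hg0 hAd hBd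
    have htn0 : t ^ n ≠ 0 := pow_ne_zero _ ht0
    have h1 : FunFld.div k (h * (t ^ n)⁻¹) = 0 := by
      rw [div_mul hK hh0 (inv_ne_zero htn0), div_inv hK, div_pow hK ht0, hdt, hdiv, add_neg_cancel]
    obtain ⟨c, hc0, hc⟩ := exists_const_of_div_eq_zero hK (mul_ne_zero hh0 (inv_ne_zero htn0)) h1
    have hht : h = algebraMap k K c * t ^ n := by
      rw [← hc]; field_simp
    have htB : B.ord t = -1 := by
      rw [← div_apply hK, hdt, Finsupp.sub_apply, Finsupp.single_apply, Finsupp.single_apply,
        if_neg hAB, if_pos rfl]; norm_num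
    have htR : ∀ R : FunFld.Place k K, R ≠ B → 0 ≤ R.ord t := by
      intro R hR
      rw [← div_apply hK, hdt, Finsupp.sub_apply, Finsupp.single_apply, Finsupp.single_apply,
        if_neg (Ne.symm hR), sub_zero]
      split_ifs <;> norm_num
    have htQ : Q.ord t = 0 := by
      rw [← div_apply hK, hdt, Finsupp.sub_apply, Finsupp.single_apply, Finsupp.single_apply,
        if_neg hAQ, if_neg hBQ, sub_zero]
    -- the pencil spanned by `f, g` meets `V(-2Q)`
    obtain ⟨α, β, hαβ, hx⟩ : ∃ α β : k, (α ≠ 0 ∨ β ≠ 0) ∧
        α • f + β • g ∈ V ⊓ FunFld.L (D - Finsupp.single Q ((2 : ℤ))) := by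
      set V2 := V ⊓ FunFld.L (D - Finsupp.single Q ((2 : ℤ))) with hV2
      by_cases hfV2 : f ∈ V2
      · exact ⟨1, 0, Or.inl one_ne_zero, by simpa using hfV2⟩
      · have hfin : Module.Finite k V := Module.finite_of_finrank_pos (by omega)
        have hle : V2 ⊔ Submodule.span k {f} ≤ V :=
          sup_le inf_le_left ((Submodule.span_singleton_le_iff_mem _ _).2 hf)
        have hlt : V2 < V2 ⊔ Submodule.span k {f} := by
          refine lt_of_le_of_ne le_sup_left fun heq => hfV2 ?_
          rw [heq]; exact Submodule.mem_sup_right (Submodule.mem_span_singleton_self f)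
        have hfin2 : Module.Finite k ↥(V2 ⊔ Submodule.span k {f}) :=
          Submodule.finiteDimensional_of_le hle
        have h1 := Submodule.finrank_lt_finrank_of_lt hlt
        have heq : V2 ⊔ Submodule.span k {f} = V :=
          Submodule.eq_of_le_of_finrank_le hle (by omega)
        have hgm : g ∈ V2 ⊔ Submodule.span k {f} := heq ▸ hg
        obtain ⟨v, hv, w, hw, hvw⟩ := Submodule.mem_sup.1 hgm
        obtain ⟨c, rfl⟩ := Submodule.mem_span_singleton.1 hw
        refine ⟨-c, 1, Or.inr one_ne_zero, ?_⟩
        have : (-c) • f + (1 : k) • g = v := by rw [← hvw]; simp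
        rw [this]; exact hv
    have hxQ := hx.2 Q
    have hfQ : Q.ord f = -D Q := by
      have := hfs Q (Ne.symm hP) (Ne.symm hP')
      rw [Finsupp.add_apply, div_apply hK] at this
      omega
    have hαβ' : α ≠ 0 ∨ β * c ≠ 0 := by
      rcases hαβ with h | h
      · exact Or.inl h
      · exact Or.inr (mul_ne_zero h hc0)
    have hD := exp_neg_one_le_val_const_add_const_mul_pow hK hBd hQd htB htR htQ hn α (β * c) hαβ'
    have e : α • f + β • g = f * (algebraMap k K α + algebraMap k K (β * c) * t ^ n) := by
      rw [hgfh, hht, Algebra.smul_def, Algebra.smul_def, map_mul]; ring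
    rw [e, map_mul, val_eq_exp_neg_ord Q hf0, hfQ, neg_neg, Finsupp.sub_apply,
      Finsupp.single_apply, if_pos rfl] at hxQ
    have h2 : WithZero.exp (D Q) * WithZero.exp (-1 : ℤ) ≤ WithZero.exp (D Q - 2) :=
      le_trans (mul_le_mul' le_rfl hD) hxQ
    rw [← WithZero.exp_add, WithZero.exp_le_exp] at h2
    omega
  -- the divisor of `h`
  by_cases hPP : P = P'
  · subst hPP
    have h1 : FunFld.div k h = Finsupp.single P (FunFld.div k h P) := by
      ext R
      rw [Finsupp.single_apply]
      split_ifs with hR
      · rw [hR]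
      · exact hhs R (Ne.symm hR) (Ne.symm hR)
    have h2 := deg_div_eq_zero hK h
    rw [h1, deg_single, hPd, Nat.cast_one, mul_one] at h2
    rw [h2, Finsupp.single_zero] at h1
    exact hnc h1
  · have h1 : FunFld.div k h = Finsupp.single P (FunFld.div k h P) +
        Finsupp.single P' (FunFld.div k h P') := by
      ext R
      rw [Finsupp.add_apply, Finsupp.single_apply, Finsupp.single_apply]
      by_cases hR : P = R
      · rw [if_pos hR, if_neg (fun h' => hPP (hR.trans h'.symm)), hR, add_zero]
      · by_cases hR' : P' = R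
        · rw [if_neg hR, if_pos hR', hR', zero_add]
        · rw [if_neg hR, if_neg hR', add_zero]
          exact hhs R (Ne.symm hR) (Ne.symm hR')
    have h2 := deg_div_eq_zero hK h
    rw [h1, deg_add, deg_single, deg_single, hPd, hP'd, Nat.cast_one, mul_one, mul_one] at h2
    set a := FunFld.div k h P with ha
    have hb : FunFld.div k h P' = -a := by omega
    rw [hb] at h1
    rcases lt_trichotomy a 0 with h3 | h3 | h3
    · refine key P' P hP' hP (-a).toNat (by omega) ?_
      rw [h1]
      ext R
      have hcast : (((-a).toNat : ℕ) : ℤ) = -a := Int.toNat_of_nonneg (by omega)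
      simp only [Finsupp.add_apply, Finsupp.smul_apply, Finsupp.sub_apply, Finsupp.single_apply,
        nsmul_eq_mul, hcast]
      by_cases hR : P = R
      · simp only [if_pos hR, if_neg (fun h' : P' = R => hPP (hR.trans h'.symm))]; ring
      · by_cases hR' : P' = R
        · simp only [if_neg hR, if_pos hR']; ring
        · simp only [if_neg hR, if_neg hR']; ring
    · rw [h3] at h1
      simp at h1
      exact hnc h1
    · refine key P P' hP hP' a.toNat (by omega) ?_
      rw [h1]
      ext R
      have hcast : ((a.toNat : ℕ) : ℤ) = a := Int.toNat_of_nonneg (by omega)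
      simp only [Finsupp.add_apply, Finsupp.smul_apply, Finsupp.sub_apply, Finsupp.single_apply,
        nsmul_eq_mul, hcast]
      by_cases hR : P = R
      · simp only [if_pos hR, if_neg (fun h' : P' = R => hPP (hR.trans h'.symm))]; ring
      · by_cases hR' : P' = R
        · simp only [if_neg hR, if_pos hR']; ring
        · simp only [if_neg hR, if_neg hR']; ring

end Groth.Agent.S18175
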