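import Groth.Statements.S11005
import Mathlib

set_option autoImplicit false
universe u v
open FunFld

namespace Groth.Agent.S11005

open IntermediateField

section
variable {k : Type*} {K : Type*} [Field k] [Field K] [Algebra k K]

open scoped IntermediateField.algebraAdjoinAdjoin in
theorem isAlgebraic_adjoin_of_finite (x₀ : K) [FiniteDimensional k⟮x₀⟯ K] :
    Algebra.IsAlgebraic (Algebra.adjoin k {x₀}) K :=
  ⟨fun y => (IsFractionRing.isAlgebraic_iff (Algebra.adjoin k {x₀}) k⟮x₀⟯ K).mpr
    (Algebra.IsAlgebraic.isAlgebraic y)⟩

theorem trdeg_le_one (hK : IsFunctionField k K) : Algebra.trdeg k K ≤ 1 := by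
  obtain ⟨⟨x₀, hx₀, hfin⟩, _⟩ := hK
  have := isAlgebraic_adjoin_of_finite (k := k) x₀
  have h := Algebra.IsAlgebraic.trdeg_le_cardinalMk k ({x₀} : Set K)
  simpa using h

theorem essFiniteType (hK : IsFunctionField k K) : Algebra.EssFiniteType k K := by
  obtain ⟨⟨x₀, hx₀, hfin⟩, _⟩ := hK
  have h1 : Algebra.EssFiniteType k k⟮x₀⟯ :=
    IntermediateField.essFiniteType_iff.mpr ⟨{x₀}, by simp⟩
  exact Algebra.EssFiniteType.comp k k⟮x₀⟯ K

/-- `K` is finite over any intermediate field containing a transcendental element. -/
theorem finite_of_tower (hK : IsFunctionField k K) (F : Type*) [Field F] [Algebra k F] [Algebra F K]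
    [IsScalarTower k F K] (x : F) (hx : Transcendental k x) : Module.Finite F K := by
  have hx' : Transcendental k (algebraMap F K x) :=
    (transcendental_algebraMap_iff (algebraMap F K).injective).mpr hx
  have hind : AlgebraicIndependent k (fun _ : PUnit.{_+1} => algebraMap F K x) :=
    algebraicIndependent_unique_type_iff.mpr hx'
  have hb : IsTranscendenceBasis k (fun _ : PUnit.{_+1} => algebraMap F K x) :=
    hind.isTranscendenceBasis_of_trdeg_le_of_finite (by simpa using trdeg_le_one hK)
  have halg := hb.isAlgebraic
  have hle : Algebra.adjoin k (Set.range fun _ : PUnit.{_+1} => algebraMap F K x) ≤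
      (IsScalarTower.toAlgHom k F K).range := by
    apply Algebra.adjoin_le
    rintro _ ⟨_, rfl⟩
    exact ⟨x, rfl⟩
  have : Algebra.IsAlgebraic F K := by
    refine ⟨fun y => ?_⟩
    have h1 : IsAlgebraic (IsScalarTower.toAlgHom k F K).range y :=
      IsAlgebraic.tower_top_of_subalgebra_le hle (halg.isAlgebraic y)
    exact IsAlgebraic.of_ringHom_of_comp_eq (f := ((IsScalarTower.toAlgHom k F K).rangeRestrict : F →+* _))
      (g := RingHom.id K) (a := y) h1 (AlgHom.rangeRestrict_surjective _) Function.injective_id (by ext; rfl)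
  have := essFiniteType hK
  have := Algebra.EssFiniteType.of_comp k F K
  exact Algebra.finite_of_essFiniteType_of_isAlgebraic

end


/-- An intermediate field `K₀` of a geometric function field of one variable `K/k` that is
transcendental over `k` is again a geometric function field of one variable over `k`. -/
theorem result (k : Type u) (K : Type v) [Field k] [Field K] [Algebra k K]
    (hK : FunFld.IsFunctionField k K) (hg : FunFld.IsGeometric k K) (K₀ : IntermediateField k K)
    (h₀ : ∃ x ∈ K₀, Transcendental k x) : FunFld.IsFunctionField k K₀ ∧ FunFld.IsGeometric k K₀ := by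
  obtain ⟨x₁, hx₁mem, hx₁⟩ := h₀
  refine ⟨⟨⟨⟨x₁, hx₁mem⟩, ?_, ?_⟩, ?_⟩, ?_⟩
  · exact (transcendental_algebraMap_iff (algebraMap K₀ K).injective).mp hx₁
  · set x : K₀ := ⟨x₁, hx₁mem⟩
    have hxt : Transcendental k x := (transcendental_algebraMap_iff (algebraMap K₀ K).injective).mp hx₁
    have hfin : Module.Finite k⟮x⟯ K := finite_of_tower hK k⟮x⟯ (AdjoinSimple.gen k x)
      ((transcendental_algebraMap_iff (algebraMap k⟮x⟯ K₀).injective).mp (by simpa using hxt))
    exact Module.Finite.of_injective ((IsScalarTower.toAlgHom k⟮x⟯ K₀ K).toLinearMap)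
      (algebraMap K₀ K).injective
  · intro y hy
    have hy' : IsAlgebraic k (y : K) := (isAlgebraic_algebraMap_iff (algebraMap K₀ K).injective).mpr hy
    obtain ⟨c, hc⟩ := hK.2 _ hy'
    exact ⟨c, Subtype.ext hc⟩
  · intro k' _ _ hfin
    have hF := hg k' hfin
    have hdom : IsDomain (TensorProduct k k' K) := hF.isDomain
    let φ : TensorProduct k k' K₀ →ₐ[k] TensorProduct k k' K :=
      Algebra.TensorProduct.map (AlgHom.id k k') K₀.val
    have hφ : Function.Injective φ := by
      have : (φ : TensorProduct k k' K₀ → TensorProduct k k' K) = (K₀.val.toLinearMap).lTensor k' := by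
        ext z
        induction z using TensorProduct.induction_on with
        | zero => simp
        | tmul a b => rfl
        | add a b ha hb => simp [ha, hb]
      rw [this]
      exact Module.Flat.lTensor_preserves_injective_linearMap _ (algebraMap K₀ K).injective
    have : IsDomain (TensorProduct k k' K₀) := hφ.isDomain φ.toRingHom
    -- integral over K₀ via the swapped tensor product
    let e : TensorProduct k K₀ k' ≃ₐ[k] TensorProduct k k' K₀ := Algebra.TensorProduct.comm k K₀ k'
    have hdom2 : IsDomain (TensorProduct k K₀ k') := e.injective.isDomain e.toRingEquiv.toRingHom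
    have hfld : IsField (TensorProduct k K₀ k') :=
      isField_of_isIntegral_of_isField' (R := K₀) (S := TensorProduct k K₀ k') (Field.toIsField K₀)
    exact e.toMulEquiv.symm.isField hfld

end Groth.Agent.S11005
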