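import Groth.Statements.S8565
import Mathlib.AlgebraicTopology.SimplicialObject.Coskeletal
import Mathlib.CategoryTheory.Functor.KanExtension.Pointwise
import Groth.Agent.Lib.H79TruncFin

set_option autoImplicit false
open CategoryTheory CategoryTheory.Limits Opposite
universe v u
open Hyper

namespace Groth.Agent.S8565

section Aux
open Simplicial

open SimplexCategory.Truncated (Hom.tr)

variable {E : Type u} [Category.{v} E] {n : ℕ}

section One
variable {T : (SimplexCategory.Truncated n)ᵒᵖ ⥤ E} {Z : SimplicialObject E}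
  (ε : (SimplexCategory.Truncated.inclusion n).op ⋙ Z ⟶ T)

/-- projection -/
def pr {m a : SimplexCategory} (ha : a.len ≤ n) (φ : a ⟶ m) :
    Z.obj (op m) ⟶ T.obj (op ⟨a, ha⟩) :=
  Z.map φ.op ≫ ε.app (op ⟨a, ha⟩)

lemma map_pr {m m' a : SimplexCategory} (ha : a.len ≤ n) (φ : a ⟶ m) (θ : m ⟶ m') :
    Z.map θ.op ≫ pr ε ha φ = pr ε ha (φ ≫ θ) := by
  simp [pr]

lemma pr_map {m a b : SimplexCategory} (ha : a.len ≤ n) (hb : b.len ≤ n) (φ : a ⟶ m)
    (ψ : b ⟶ a) :
    pr ε ha φ ≫ T.map (Hom.tr ψ hb ha).op = pr ε hb (ψ ≫ φ) := by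
  have := ε.naturality (Hom.tr ψ hb ha).op
  dsimp at this
  simp only [pr, Category.assoc, ← this, op_comp, Functor.map_comp]

variable (hZ : (Functor.RightExtension.mk Z ε).IsPointwiseRightKanExtension)

include hZ in
lemma hom_ext {W : E} {k : SimplexCategory} (u v : W ⟶ Z.obj (op k))
    (h : ∀ (a : SimplexCategory) (ha : a.len ≤ n) (φ : a ⟶ k),
      u ≫ pr ε ha φ = v ≫ pr ε ha φ) : u = v := by
  apply (hZ (op k)).hom_ext
  intro j
  exact h j.right.unop.obj j.right.unop.property j.hom.unop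

/-- cone -/
def coneOf {W : E} {k : SimplexCategory}
    (c : ∀ (a : SimplexCategory) (ha : a.len ≤ n) (_ : a ⟶ k), W ⟶ T.obj (op ⟨a, ha⟩))
    (hc : ∀ (a : SimplexCategory) (ha : a.len ≤ n) (b : SimplexCategory) (hb : b.len ≤ n)
      (φ : a ⟶ k) (ψ : b ⟶ a), c a ha φ ≫ T.map (Hom.tr ψ hb ha).op = c b hb (ψ ≫ φ)) :
    Cone (StructuredArrow.proj (op k) (SimplexCategory.Truncated.inclusion n).op ⋙ T) :=
  ⟨W,
    { app := fun j => c j.right.unop.obj j.right.unop.property j.hom.unop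
      naturality := by
        intro j j' t
        refine (Category.id_comp _).trans ?_
        have := hc j.right.unop.obj j.right.unop.property j'.right.unop.obj
          j'.right.unop.property j.hom.unop t.right.unop.hom
        have e : t.right.unop.hom ≫ j.hom.unop = j'.hom.unop := by
          have := StructuredArrow.w t
          exact congrArg Quiver.Hom.unop this
        rw [e] at this
        exact this.symm }⟩

/-- lift -/
noncomputable def lift {W : E} {k : SimplexCategory}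
    (c : ∀ (a : SimplexCategory) (ha : a.len ≤ n) (_ : a ⟶ k), W ⟶ T.obj (op ⟨a, ha⟩))
    (hc : ∀ (a : SimplexCategory) (ha : a.len ≤ n) (b : SimplexCategory) (hb : b.len ≤ n)
      (φ : a ⟶ k) (ψ : b ⟶ a), c a ha φ ≫ T.map (Hom.tr ψ hb ha).op = c b hb (ψ ≫ φ)) :
    W ⟶ Z.obj (op k) :=
  (hZ (op k)).lift (coneOf c hc)

lemma lift_pr {W : E} {k : SimplexCategory}
    (c : ∀ (a : SimplexCategory) (ha : a.len ≤ n) (_ : a ⟶ k), W ⟶ T.obj (op ⟨a, ha⟩))
    (hc : ∀ (a : SimplexCategory) (ha : a.len ≤ n) (b : SimplexCategory) (hb : b.len ≤ n)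
      (φ : a ⟶ k) (ψ : b ⟶ a), c a ha φ ≫ T.map (Hom.tr ψ hb ha).op = c b hb (ψ ≫ φ))
    (a : SimplexCategory) (ha : a.len ≤ n) (φ : a ⟶ k) :
    lift ε hZ c hc ≫ pr ε ha φ = c a ha φ := by
  have := (hZ (op k)).fac (coneOf c hc)
    (StructuredArrow.mk (Y := op (⟨a, ha⟩ : SimplexCategory.Truncated n))
      (show op k ⟶ (SimplexCategory.Truncated.inclusion n).op.obj (op ⟨a, ha⟩) from φ.op))
  exact this

end One

section Two
variable {T T' : (SimplexCategory.Truncated n)ᵒᵖ ⥤ E} {Z Z' : SimplicialObject E}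
  (ε : (SimplexCategory.Truncated.inclusion n).op ⋙ Z ⟶ T)
  (ε' : (SimplexCategory.Truncated.inclusion n).op ⋙ Z' ⟶ T')
  (hZ' : (Functor.RightExtension.mk Z' ε').IsPointwiseRightKanExtension)
  (f g : T ⟶ T')
  (hfg : ∀ (a : SimplexCategory) (ha : a.len ≤ n), a.len < n →
    f.app (op ⟨a, ha⟩) = g.app (op ⟨a, ha⟩))

include hfg in
lemma key {a b : SimplexCategory} (ha : a.len ≤ n) (hb : b.len ≤ n) (ψ : b ⟶ a)
    (hψ : ¬ Epi ψ) :
    T.map (Hom.tr ψ hb ha).op ≫ f.app (op ⟨b, hb⟩) =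
      T.map (Hom.tr ψ hb ha).op ≫ g.app (op ⟨b, hb⟩) := by
  obtain ⟨c, e, i, he, hi, fac⟩ : ∃ (c : SimplexCategory) (e : b ⟶ c) (i : c ⟶ a),
      Epi e ∧ Mono i ∧ e ≫ i = ψ :=
    ⟨image ψ, factorThruImage ψ, image.ι ψ, inferInstance, inferInstance, image.fac ψ⟩
  have hca : c.len < a.len := by
    apply SimplexCategory.len_lt_of_mono i
    rintro rfl
    have := SimplexCategory.eq_id_of_mono i
    rw [this, Category.comp_id] at fac
    exact hψ (fac ▸ he)
  have hc : c.len ≤ n := by omega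
  have e1 : Hom.tr ψ hb ha = Hom.tr e hb hc ≫ Hom.tr i hc ha := by
    subst fac; rfl
  rw [e1, op_comp, Functor.map_comp, Category.assoc, Category.assoc, f.naturality, g.naturality,
    hfg c hc (by omega)]

open Classical in
/-- the selector -/
noncomputable def sel {a : SimplexCategory} (β : a ⟶ ⦋1⦌) : T ⟶ T' :=
  if ∀ t, β.toOrderHom t = 1 then g else f

include hfg in
lemma sel_comp {a b : SimplexCategory} (ha : a.len ≤ n) (hb : b.len ≤ n) (ψ : b ⟶ a)
    (β : a ⟶ ⦋1⦌) :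
    T.map (Hom.tr ψ hb ha).op ≫ (sel f g β).app (op ⟨b, hb⟩) =
      T.map (Hom.tr ψ hb ha).op ≫ (sel f g (ψ ≫ β)).app (op ⟨b, hb⟩) := by
  by_cases hψ : Epi ψ
  · have hs : Function.Surjective ψ.toOrderHom := SimplexCategory.epi_iff_surjective.1 hψ
    have : (∀ t, β.toOrderHom t = 1) ↔ (∀ t, (ψ ≫ β).toOrderHom t = 1) := by
      constructor
      · intro h t
        exact h _
      · intro h t
        obtain ⟨s, rfl⟩ := hs t
        exact h s
    simp only [sel, this]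
  · have := key f g hfg ha hb ψ hψ
    unfold sel
    split_ifs
    · rfl
    · exact this.symm
    · exact this
    · rfl

/-- the family -/
noncomputable def fam {m k : SimplexCategory} (ρ : k ⟶ m) (β : k ⟶ ⦋1⦌)
    (a : SimplexCategory) (ha : a.len ≤ n) (φ : a ⟶ k) :
    Z.obj (op m) ⟶ T'.obj (op ⟨a, ha⟩) :=
  pr ε ha (φ ≫ ρ) ≫ (sel f g (φ ≫ β)).app (op ⟨a, ha⟩)

include hfg in
lemma fam_compat {m k : SimplexCategory} (ρ : k ⟶ m) (β : k ⟶ ⦋1⦌)
    (a : SimplexCategory) (ha : a.len ≤ n) (b : SimplexCategory) (hb : b.len ≤ n)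
    (φ : a ⟶ k) (ψ : b ⟶ a) :
    fam ε f g ρ β a ha φ ≫ T'.map (Hom.tr ψ hb ha).op = fam ε f g ρ β b hb (ψ ≫ φ) := by
  unfold fam
  rw [Category.assoc, ← NatTrans.naturality, sel_comp f g hfg ha hb ψ (φ ≫ β),
    ← Category.assoc, pr_map, Category.assoc, Category.assoc]

/-- the prism map -/
noncomputable def L {m k : SimplexCategory} (ρ : k ⟶ m) (β : k ⟶ ⦋1⦌) :
    Z.obj (op m) ⟶ Z'.obj (op k) :=
  lift ε' hZ' (fam ε f g ρ β) (fam_compat ε f g hfg ρ β)

lemma L_pr {m k : SimplexCategory} (ρ : k ⟶ m) (β : k ⟶ ⦋1⦌)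
    (a : SimplexCategory) (ha : a.len ≤ n) (φ : a ⟶ k) :
    L ε ε' hZ' f g hfg ρ β ≫ pr ε' ha φ =
      pr ε ha (φ ≫ ρ) ≫ (sel f g (φ ≫ β)).app (op ⟨a, ha⟩) :=
  lift_pr ε' hZ' _ _ a ha φ

lemma L_map {m k k' : SimplexCategory} (ρ : k ⟶ m) (β : k ⟶ ⦋1⦌) (θ : k' ⟶ k) :
    L ε ε' hZ' f g hfg ρ β ≫ Z'.map θ.op = L ε ε' hZ' f g hfg (θ ≫ ρ) (θ ≫ β) := by
  apply hom_ext ε' hZ'
  intro a ha φ
  rw [Category.assoc, map_pr, L_pr, L_pr, Category.assoc, Category.assoc]

lemma map_L {m m' k : SimplexCategory} (ρ : k ⟶ m) (β : k ⟶ ⦋1⦌) (θ : m ⟶ m') :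
    Z.map θ.op ≫ L ε ε' hZ' f g hfg ρ β = L ε ε' hZ' f g hfg (ρ ≫ θ) β := by
  apply hom_ext ε' hZ'
  intro a ha φ
  rw [Category.assoc, L_pr, L_pr, ← Category.assoc, map_pr, Category.assoc]

lemma L_one {m k : SimplexCategory} (ρ : k ⟶ m) (β : k ⟶ ⦋1⦌) (hβ : ∀ t, β.toOrderHom t = 1)
    (G : Z ⟶ Z')
    (hG : Functor.whiskerLeft (SimplexCategory.Truncated.inclusion n).op G ≫ ε' = ε ≫ g) :
    L ε ε' hZ' f g hfg ρ β = Z.map ρ.op ≫ G.app (op k) := by
  apply hom_ext ε' hZ'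
  intro a ha φ
  rw [L_pr]
  have h1 : sel f g (φ ≫ β) = g := by
    unfold sel
    rw [if_pos]
    intro t
    exact hβ _
  have h2 := congrArg (fun t => t.app (op ⟨a, ha⟩)) hG
  dsimp at h2
  rw [h1]
  simp only [pr, Category.assoc, op_comp, Functor.map_comp]
  rw [← h2, ← G.naturality_assoc]

lemma L_zero {m k : SimplexCategory} (ρ : k ⟶ m) (β : k ⟶ ⦋1⦌) (hβ : ∀ t, β.toOrderHom t = 0)
    (F : Z ⟶ Z')
    (hF : Functor.whiskerLeft (SimplexCategory.Truncated.inclusion n).op F ≫ ε' = ε ≫ f) :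
    L ε ε' hZ' f g hfg ρ β = Z.map ρ.op ≫ F.app (op k) := by
  apply hom_ext ε' hZ'
  intro a ha φ
  rw [L_pr]
  have h1 : sel f g (φ ≫ β) = f := by
    unfold sel
    rw [if_neg]
    intro h
    have := h 0
    have h0 := hβ (φ.toOrderHom 0)
    change β.toOrderHom (φ.toOrderHom 0) = 1 at this
    rw [h0] at this
    exact absurd this (by decide)
  have h2 := congrArg (fun t => t.app (op ⟨a, ha⟩)) hF
  dsimp at h2
  rw [h1]
  simp only [pr, Category.assoc, op_comp, Functor.map_comp]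
  rw [← h2, ← F.naturality_assoc]

end Two

section Alpha

lemma sA_val {n : ℕ} (i : Fin (n + 2)) (k : Fin (n + 1)) :
    (i.succAbove k : ℕ) = if (k : ℕ) < i then (k : ℕ) else k + 1 := by
  simp only [Fin.succAbove, Fin.lt_def, Fin.val_castSucc]
  split_ifs <;> simp

lemma pA_val {n : ℕ} (j : Fin (n + 1)) (k : Fin (n + 2)) :
    (j.predAbove k : ℕ) = if (j : ℕ) < k then (k : ℕ) - 1 else k := by
  simp only [Fin.predAbove, Fin.lt_def, Fin.val_castSucc]
  split_ifs <;> simp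

/-- the map `⦋m+1⦌ ⟶ ⦋1⦌` sending `t ≤ i` to `0` and `t > i` to `1`. -/
def α {m : ℕ} (i : Fin (m + 1)) : ⦋m + 1⦌ ⟶ ⦋1⦌ :=
  SimplexCategory.mkHom ⟨fun t => if (t : ℕ) ≤ (i : ℕ) then 0 else 1, by
    intro s t hst
    have : (s : ℕ) ≤ t := hst
    dsimp only
    split_ifs
    · exact le_refl _
    · exact Fin.zero_le _
    · omega
    · exact le_refl _⟩

lemma α_apply {m : ℕ} (i : Fin (m + 1)) (t : Fin (m + 2)) :
    (α i).toOrderHom t = if (t : ℕ) ≤ (i : ℕ) then 0 else 1 := rfl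

lemma α_ext {k : SimplexCategory} (β β' : k ⟶ ⦋1⦌)
    (h : ∀ t, β.toOrderHom t = β'.toOrderHom t) : β = β' := by
  ext t : 3
  exact h t

/-- Decide `Fin` (in)equalities involving `succAbove` and `predAbove`. -/
macro "fin_tac" : tactic => `(tactic|
  (simp only [Fin.ext_iff, Fin.le_def, Fin.lt_def, sA_val, pA_val, Fin.val_succ,
      Fin.val_castSucc, Fin.val_last, Fin.val_zero] at *
   split_ifs <;> omega))

lemma comp_α_apply {m : ℕ} {k : SimplexCategory} (θ : k ⟶ ⦋m + 1⦌) (j : Fin (m + 1))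
    (t : Fin (k.len + 1)) :
    (θ ≫ α j).toOrderHom t = if ((θ.toOrderHom t : Fin (m + 2)) : ℕ) ≤ (j : ℕ) then 0 else 1 := rfl

lemma δ_apply {m : ℕ} (i : Fin (m + 2)) (t : Fin (m + 1)) :
    (SimplexCategory.δ i).toOrderHom t = i.succAbove t := rfl

lemma σ_apply {m : ℕ} (i : Fin (m + 1)) (t : Fin (m + 2)) :
    (SimplexCategory.σ i).toOrderHom t = i.predAbove t := rfl

lemma ite_congr_01 {p q : Prop} [Decidable p] [Decidable q] (h : p ↔ q) :
    (if p then (0 : Fin 2) else 1) = if q then 0 else 1 := by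
  simp only [h]

open SimplexCategory

lemma α1 (m : ℕ) (t : Fin (m + 1)) : (δ (0 : Fin (m + 2)) ≫ α (0 : Fin (m + 1))).toOrderHom t = 1 := by
  rw [comp_α_apply, δ_apply, if_neg]
  rw [Fin.succAbove_zero, Fin.val_succ]
  simp

lemma α2 (m : ℕ) (t : Fin (m + 1)) :
    (δ (Fin.last (m + 1)) ≫ α (Fin.last m)).toOrderHom t = 0 := by
  rw [comp_α_apply, δ_apply, if_pos]
  rw [sA_val, if_pos]
  · exact Nat.lt_succ_iff.mp t.isLt
  · exact t.isLt

lemma α3 {m : ℕ} (i : Fin (m + 2)) (j : Fin (m + 1)) (hij : i ≤ j.castSucc) :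
    δ i.castSucc ≫ α j.succ = α j := by
  apply α_ext
  intro t
  rw [comp_α_apply, δ_apply, α_apply]
  apply ite_congr_01
  fin_tac

lemma α4 {m : ℕ} (j : Fin (m + 1)) :
    δ j.castSucc.succ ≫ α j.succ = δ j.castSucc.succ ≫ α j.castSucc := by
  apply α_ext
  intro t
  rw [comp_α_apply, comp_α_apply, δ_apply]
  apply ite_congr_01
  fin_tac

lemma α5 {m : ℕ} (i : Fin (m + 2)) (j : Fin (m + 1)) (hji : j.castSucc < i) :
    δ i.succ ≫ α j.castSucc = α j := by
  apply α_ext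
  intro t
  rw [comp_α_apply, δ_apply, α_apply]
  apply ite_congr_01
  fin_tac

lemma α6 {m : ℕ} (i j : Fin (m + 1)) (hij : i ≤ j) :
    σ i.castSucc ≫ α j = α j.succ := by
  apply α_ext
  intro t
  rw [comp_α_apply, σ_apply, α_apply]
  apply ite_congr_01
  fin_tac

lemma α7 {m : ℕ} (i j : Fin (m + 1)) (hji : j ≤ i) :
    σ i.succ ≫ α j = α j.castSucc := by
  apply α_ext
  intro t
  rw [comp_α_apply, σ_apply, α_apply]
  apply ite_congr_01
  fin_tac

end Alpha


section Three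
variable {T T' : (SimplexCategory.Truncated n)ᵒᵖ ⥤ E} {Z Z' : SimplicialObject E}
  (ε : (SimplexCategory.Truncated.inclusion n).op ⋙ Z ⟶ T)
  (ε' : (SimplexCategory.Truncated.inclusion n).op ⋙ Z' ⟶ T')
  (hZ' : (Functor.RightExtension.mk Z' ε').IsPointwiseRightKanExtension)
  (f g : T ⟶ T')
  (hfg : ∀ (a : SimplexCategory) (ha : a.len ≤ n), a.len < n →
    f.app (op ⟨a, ha⟩) = g.app (op ⟨a, ha⟩))
  (F G : Z ⟶ Z')
  (hF : Functor.whiskerLeft (SimplexCategory.Truncated.inclusion n).op F ≫ ε' = ε ≫ f)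
  (hG : Functor.whiskerLeft (SimplexCategory.Truncated.inclusion n).op G ≫ ε' = ε ≫ g)

open SimplexCategory in
/-- the homotopy -/
noncomputable def homotopy : SimplicialObject.Homotopy F G where
  h {m} i := L ε ε' hZ' f g hfg (σ i) (α i)
  h_zero_comp_δ_zero m := by
    change L ε ε' hZ' f g hfg (σ 0) (α 0) ≫ Z'.map (δ 0).op = _
    rw [L_map, L_one ε ε' hZ' f g hfg _ _ (α1 m) G hG]
    have e : δ (0 : Fin (m + 2)) ≫ σ (0 : Fin (m + 1)) = 𝟙 _ := δ_comp_σ_self (i := 0)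
    rw [e, op_id, Z.map_id, Category.id_comp]
  h_last_comp_δ_last m := by
    change L ε ε' hZ' f g hfg (σ (Fin.last m)) (α (Fin.last m)) ≫
      Z'.map (δ (Fin.last (m + 1))).op = _
    rw [L_map, L_zero ε ε' hZ' f g hfg _ _ (α2 m) F hF]
    have e : δ (Fin.last (m + 1)) ≫ σ (Fin.last m) = 𝟙 _ := δ_comp_σ_succ (i := Fin.last m)
    rw [e, op_id, Z.map_id, Category.id_comp]
  h_succ_comp_δ_castSucc_of_lt {m} i j hij := by
    change L ε ε' hZ' f g hfg (σ j.succ) (α j.succ) ≫ Z'.map (δ i.castSucc).op =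
      Z.map (δ i).op ≫ L ε ε' hZ' f g hfg (σ j) (α j)
    rw [L_map, map_L, δ_comp_σ_of_le hij, α3 i j hij]
  h_succ_comp_δ_castSucc_succ {m} j := by
    change L ε ε' hZ' f g hfg (σ j.succ) (α j.succ) ≫ Z'.map (δ j.castSucc.succ).op =
      L ε ε' hZ' f g hfg (σ j.castSucc) (α j.castSucc) ≫ Z'.map (δ j.castSucc.succ).op
    rw [L_map, L_map, α4 j]
    have e1 : δ j.castSucc.succ ≫ σ j.succ = 𝟙 _ := δ_comp_σ_self (i := j.succ)
    have e2 : δ j.castSucc.succ ≫ σ j.castSucc = 𝟙 _ := δ_comp_σ_succ (i := j.castSucc)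
    rw [e1, e2]
  h_castSucc_comp_δ_succ_of_lt {m} i j hji := by
    change L ε ε' hZ' f g hfg (σ j.castSucc) (α j.castSucc) ≫ Z'.map (δ i.succ).op =
      Z.map (δ i).op ≫ L ε ε' hZ' f g hfg (σ j) (α j)
    rw [L_map, map_L, δ_comp_σ_of_gt hji, α5 i j hji]
  h_comp_σ_castSucc_of_le {m} i j hij := by
    change L ε ε' hZ' f g hfg (σ j) (α j) ≫ Z'.map (σ i.castSucc).op =
      Z.map (σ i).op ≫ L ε ε' hZ' f g hfg (σ j.succ) (α j.succ)
    rw [L_map, map_L, σ_comp_σ hij, α6 i j hij]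
  h_comp_σ_succ_of_lt {m} i j hji := by
    change L ε ε' hZ' f g hfg (σ j) (α j) ≫ Z'.map (σ i.succ).op =
      Z.map (σ i).op ≫ L ε ε' hZ' f g hfg (σ j.castSucc) (α j.castSucc)
    rw [L_map, map_L, ← σ_comp_σ hji, α7 i j hji]

end Three

end Aux

/-- Let E be a category with finite limits, n a natural number and f, g : X ⟶ X' two morphisms of
simplicial objects of E whose components agree in every degree p < n. Then there is a simplicial
homotopy between the morphisms cosk_n(f) and cosk_n(g) of n-coskeleta (cosk_n = right Kan extension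
of the n-truncation; Mathlib's combinatorial simplicial homotopies). For n = 0 the hypothesis is
empty. -/
theorem result {E : Type u} [Category.{v} E] [HasFiniteLimits E] (n : ℕ)
    [∀ (F : (SimplexCategory.Truncated n)ᵒᵖ ⥤ E), (SimplexCategory.Truncated.inclusion n).op.HasRightKanExtension F]
    {X X' : SimplicialObject E} (f g : X ⟶ X')
    (hfg : ∀ p : ℕ, p < n → f.app (op (SimplexCategory.mk p)) = g.app (op (SimplexCategory.mk p))) :
    Nonempty (SimplicialObject.Homotopy ((SimplicialObject.cosk n).map f) ((SimplicialObject.cosk n).map g)) := by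
  have hp' : (SimplexCategory.Truncated.inclusion n).op.HasPointwiseRightKanExtension
      ((SimplicialObject.truncation n).obj X') :=
    Groth.Agent.Lib.H79TruncFin.hasPointwiseRightKanExtension_inclusion n _
  have hZ' := Functor.isPointwiseRightKanExtensionRanCounit
    (SimplexCategory.Truncated.inclusion n).op ((SimplicialObject.truncation n).obj X')
  refine ⟨homotopy ((SimplexCategory.Truncated.inclusion n).op.ranCounit.app
      ((SimplicialObject.truncation n).obj X))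
    ((SimplexCategory.Truncated.inclusion n).op.ranCounit.app
      ((SimplicialObject.truncation n).obj X')) hZ'
    ((SimplicialObject.truncation n).map f) ((SimplicialObject.truncation n).map g) ?_ _ _ ?_ ?_⟩
  · intro a ha hlt
    obtain ⟨p, rfl⟩ : ∃ p, a = SimplexCategory.mk p := ⟨a.len, (SimplexCategory.mk_len a).symm⟩
    exact hfg p hlt
  · exact (SimplexCategory.Truncated.inclusion n).op.ranCounit.naturality
      ((SimplicialObject.truncation n).map f)
  · exact (SimplexCategory.Truncated.inclusion n).op.ranCounit.naturality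
      ((SimplicialObject.truncation n).map g)

end Groth.Agent.S8565
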