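import Groth.Statements.S6504
import Groth.Agent.Lib.H43FCYoneda
import Groth.Agent.Lib.H79TruncFin
import Groth.Agent.S8565
import Mathlib.AlgebraicTopology.SimplicialObject.Coskeletal
import Mathlib.CategoryTheory.Functor.KanExtension.Pointwise
import Mathlib.CategoryTheory.Limits.Constructions.LimitsOfProductsAndEqualizers
import Mathlib.CategoryTheory.Limits.Constructions.Over.Basic

set_option autoImplicit false
universe u
open CategoryTheory
open Hyper

namespace Groth.Agent.S6504

section Aux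
open Opposite CategoryTheory.Limits
open FormalCoproduct Groth.Agent.Lib.H43FCYoneda Groth.Agent.S8565
open SimplexCategory.Truncated (Hom.tr)
open Simplicial

section SRLS
variable {D : Type u} [SmallCategory D] (J' : GrothendieckTopology D)

lemma isLocallySurjective_of_isSRCovering {A B : FormalCoproduct.{u} D} (f : A ⟶ B)
    (h : Hyper.IsSRCovering J' f) :
    Presheaf.IsLocallySurjective J' (FormalCoproduct.yoneda.map f) := by
  constructor
  intro V s
  obtain ⟨m, rfl⟩ := el_surjective s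
  obtain ⟨j, b, rfl⟩ : ∃ (j : B.I) (b : V ⟶ B.obj j), Hom.fromIncl j b = m :=
    ⟨_, _, Hom.fromIncl_asSigma m⟩
  refine J'.superset_covering ?_ (J'.pullback_stable b (h j))
  intro W p hp
  obtain ⟨Z, w, g, ⟨⟨i, hi⟩⟩, hw⟩ := hp
  subst hi
  refine ⟨el (Hom.fromIncl i w), ?_⟩
  rw [el_map, el_restrict]
  congr 1
  refine FormalCoproduct.hom_ext rfl ?_
  intro x
  change (w ≫ f.φ i) ≫ 𝟙 _ = p ≫ b
  rw [Category.comp_id]
  simpa using hw
end SRLS

section Unit
universe v' u'
variable {E : Type u'} [Category.{v'} E] (n : ℕ)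
  [∀ (F : (SimplexCategory.Truncated n)ᵒᵖ ⥤ E),
    (SimplexCategory.Truncated.inclusion n).op.HasRightKanExtension F]
  (K : SimplicialObject E)

/-- the counit of the coskeleton. -/
noncomputable abbrev eps : (SimplexCategory.Truncated.inclusion n).op ⋙ (SimplicialObject.cosk n).obj K ⟶
    (SimplicialObject.truncation n).obj K :=
  (SimplexCategory.Truncated.inclusion n).op.ranCounit.app ((SimplicialObject.truncation n).obj K)

lemma unit_pr {m a : SimplexCategory} (ha : a.len ≤ n) (φ : a ⟶ m) :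
    ((SimplicialObject.coskAdj n).unit.app K).app (op m) ≫ pr (eps n K) ha φ = K.map φ.op := by
  have h1 := (SimplicialObject.coskAdj n).left_triangle_components K
  have h2 := congrArg (fun t => t.app (op (⟨a, ha⟩ : SimplexCategory.Truncated n))) h1
  dsimp at h2
  unfold pr
  rw [← Category.assoc]
  erw [← ((SimplicialObject.coskAdj n).unit.app K).naturality φ.op]
  rw [Category.assoc]
  have h3 : ((SimplicialObject.coskAdj n).unit.app K).app (op a) ≫
      (eps n K).app (op ⟨a, ha⟩) = 𝟙 _ := by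
    simp only [SimplicialObject.coskAdj, Functor.ranAdjunction_counit] at h2
    exact h2
  erw [h3]
  exact Category.comp_id _

end Unit
section TwoLift
universe v' u'
variable {E : Type u'} [Category.{v'} E]
  {T : (SimplexCategory.Truncated 0)ᵒᵖ ⥤ E} {Z : SimplicialObject E}
  (ε : (SimplexCategory.Truncated.inclusion 0).op ⋙ Z ⟶ T)
  (hZ : (Functor.RightExtension.mk Z ε).IsPointwiseRightKanExtension)

lemma const_zero_eq {a b : SimplexCategory} (f g : a ⟶ ⦋0⦌) : f = g := by
  ext x : 3
  exact Subsingleton.elim (α := Fin 1) _ _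

open Classical in
/-- the family for two vertices -/
noncomputable def twoFam {W : E} (A B : W ⟶ T.obj (op ⟨⦋0⦌, le_refl _⟩))
    (a : SimplexCategory) (ha : a.len ≤ 0) (φ : a ⟶ ⦋1⦌) : W ⟶ T.obj (op ⟨a, ha⟩) :=
  (if φ.toOrderHom 0 = 0 then A else B) ≫ T.map (Hom.tr (a.const ⦋0⦌ 0) ha (le_refl _)).op

lemma twoFam_compat {W : E} (A B : W ⟶ T.obj (op ⟨⦋0⦌, le_refl _⟩))
    (a : SimplexCategory) (ha : a.len ≤ 0) (b : SimplexCategory) (hb : b.len ≤ 0)
    (φ : a ⟶ ⦋1⦌) (ψ : b ⟶ a) :
    twoFam A B a ha φ ≫ T.map (Hom.tr ψ hb ha).op = twoFam A B b hb (ψ ≫ φ) := by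
  unfold twoFam
  have h1 : (ψ ≫ φ).toOrderHom 0 = φ.toOrderHom 0 := by
    change φ.toOrderHom (ψ.toOrderHom 0) = φ.toOrderHom 0
    congr 1
    apply Fin.ext
    have := (ψ.toOrderHom 0).isLt
    simp only [Fin.val_zero]
    omega
  rw [h1, Category.assoc, ← Functor.map_comp, ← op_comp]
  congr 3

/-- the lift from two vertices -/
noncomputable def twoLift {W : E} (A B : W ⟶ T.obj (op ⟨⦋0⦌, le_refl _⟩)) :
    W ⟶ Z.obj (op ⦋1⦌) :=
  lift ε hZ (twoFam A B) (twoFam_compat A B)

lemma twoLift_fst {W : E} (A B : W ⟶ T.obj (op ⟨⦋0⦌, le_refl _⟩)) :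
    twoLift ε hZ A B ≫ pr ε (le_refl _) (SimplexCategory.δ (1 : Fin 2)) = A := by
  unfold twoLift
  rw [lift_pr]
  unfold twoFam
  rw [if_pos (by rfl)]
  have : Hom.tr ((⦋0⦌ : SimplexCategory).const ⦋0⦌ 0) (le_refl _) (le_refl _) =
      𝟙 (⟨⦋0⦌, le_refl _⟩ : SimplexCategory.Truncated 0) := by
    apply ObjectProperty.hom_ext
    exact const_zero_eq (a := ⦋0⦌) (b := ⦋0⦌) _ _
  rw [this, op_id, T.map_id, Category.comp_id]

lemma twoLift_snd {W : E} (A B : W ⟶ T.obj (op ⟨⦋0⦌, le_refl _⟩)) :
    twoLift ε hZ A B ≫ pr ε (le_refl _) (SimplexCategory.δ (0 : Fin 2)) = B := by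
  unfold twoLift
  rw [lift_pr]
  unfold twoFam
  rw [if_neg (by decide)]
  have : Hom.tr ((⦋0⦌ : SimplexCategory).const ⦋0⦌ 0) (le_refl _) (le_refl _) =
      𝟙 (⟨⦋0⦌, le_refl _⟩ : SimplexCategory.Truncated 0) := by
    apply ObjectProperty.hom_ext
    exact const_zero_eq (a := ⦋0⦌) (b := ⦋0⦌) _ _
  rw [this, op_id, T.map_id, Category.comp_id]

end TwoLift

lemma chain {E : Type*} [Category E] {W' W K1 Z1 T0 : E} (x : W' ⟶ K1) (η : K1 ⟶ Z1)
    (π : Z1 ⟶ T0) (d : K1 ⟶ T0) (q : W' ⟶ W) (m : W ⟶ Z1) (A : W ⟶ T0) (u1 : η ≫ π = d)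
    (key : x ≫ η = q ≫ m) (u2 : m ≫ π = A) : x ≫ d = q ≫ A := by
  rw [← u1, ← Category.assoc, key, Category.assoc, u2]

theorem result_aux {C : Type u} [SmallCategory C] [HasPullbacks C]
    (J : GrothendieckTopology C) (X : C) (K : SimplicialObject (FormalCoproduct.{u} (Over X)))
    [∀ (n : ℕ) (F : (SimplexCategory.Truncated n)ᵒᵖ ⥤ FormalCoproduct.{u} (Over X)),
      (SimplexCategory.Truncated.inclusion n).op.HasRightKanExtension F]
    (hK : Hyper.IsHypercovering J X K) : Hyper.IsHypercoveringSite (J.over X) K := by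
  obtain ⟨h0, hn⟩ := hK
  refine ⟨?_, ?_, fun n _ => isLocallySurjective_of_isSRCovering _ _ (hn n)⟩
  · constructor
    intro V s
    rw [GrothendieckTopology.mem_over_iff]
    refine J.superset_covering ?_ (J.pullback_stable V.hom h0)
    intro Z q hq
    obtain ⟨Y, a, g, ⟨i⟩, hw⟩ := hq
    rw [Sieve.overEquiv_iff]
    refine ⟨el (Hom.fromIncl i (Over.homMk a (by simpa using hw))), ?_⟩
    exact (terminal_subsingleton _).elim _ _
  · have : HasFiniteLimits (FormalCoproduct.{u} (Over X)) :=
      hasFiniteLimits_of_hasTerminal_and_pullbacks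
    have hp : (SimplexCategory.Truncated.inclusion 0).op.HasPointwiseRightKanExtension
        ((SimplicialObject.truncation 0).obj K) :=
      Groth.Agent.Lib.H79TruncFin.hasPointwiseRightKanExtension_inclusion 0 _
    have hZ := Functor.isPointwiseRightKanExtensionRanCounit
      (SimplexCategory.Truncated.inclusion 0).op ((SimplicialObject.truncation 0).obj K)
    constructor
    intro V s
    set P0 : (Over X)ᵒᵖ ⥤ Type u := FormalCoproduct.yoneda.obj (K.obj (op ⦋0⦌)) with hP0
    obtain ⟨A, hA⟩ := el_surjective ((prod.fst : P0 ⨯ P0 ⟶ P0).app (op V) s)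
    obtain ⟨B, hB⟩ := el_surjective ((prod.snd : P0 ⨯ P0 ⟶ P0).app (op V) s)
    obtain ⟨l, ml, hm⟩ : ∃ (l : _) (ml : V ⟶ _), Hom.fromIncl l ml = twoLift (eps 0 K) hZ A B :=
      ⟨_, _, Hom.fromIncl_asSigma _⟩
    have hcov := hn 0 l
    refine (J.over X).superset_covering ?_ ((J.over X).pullback_stable ml hcov)
    intro W p hp
    obtain ⟨Y, w, g, ⟨⟨k, hk⟩⟩, hw⟩ := hp
    subst hk
    have key : Hom.fromIncl k w ≫ ((SimplicialObject.coskAdj 0).unit.app K).app (op ⦋1⦌) =
        (incl (Over X)).map p ≫ twoLift (eps 0 K) hZ A B := by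
      rw [← hm]
      refine FormalCoproduct.hom_ext rfl ?_
      intro x
      change (w ≫ _) ≫ 𝟙 _ = p ≫ ml
      rw [Category.comp_id]
      have hw' : w ≫ (((SimplicialObject.coskAdj 0).unit.app K).app (op ⦋0 + 1⦌)).φ k = p ≫ ml := by
        simpa using hw
      exact hw'
    refine ⟨el (Hom.fromIncl k w), ?_⟩
    apply prod_ext
    · have e1 := congrArg (fun t => t.app (op W) (el (Hom.fromIncl k w)))
        (prod.lift_fst (FormalCoproduct.yoneda.map (K.δ (1 : Fin 2)))
          (FormalCoproduct.yoneda.map (K.δ (0 : Fin 2))))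
      have e2 := ConcreteCategory.congr_hom ((prod.fst : P0 ⨯ P0 ⟶ P0).naturality p.op) s
      refine e1.trans (Eq.trans ?_ e2.symm)
      change _ = P0.map p.op ((prod.fst : P0 ⨯ P0 ⟶ P0).app (op V) s)
      rw [← hA, el_restrict]
      refine (el_map _ _).trans ?_
      congr 1
      have u1 := unit_pr 0 K (m := ⦋1⦌) (le_refl _) (SimplexCategory.δ (1 : Fin 2))
      have u2 := twoLift_fst (eps 0 K) hZ A B
      exact chain _ _ _ _ _ _ _ u1 key u2
    · have e1 := congrArg (fun t => t.app (op W) (el (Hom.fromIncl k w)))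
        (prod.lift_snd (FormalCoproduct.yoneda.map (K.δ (1 : Fin 2)))
          (FormalCoproduct.yoneda.map (K.δ (0 : Fin 2))))
      have e2 := ConcreteCategory.congr_hom ((prod.snd : P0 ⨯ P0 ⟶ P0).naturality p.op) s
      refine e1.trans (Eq.trans ?_ e2.symm)
      change _ = P0.map p.op ((prod.snd : P0 ⨯ P0 ⟶ P0).app (op V) s)
      rw [← hB, el_restrict]
      refine (el_map _ _).trans ?_
      congr 1
      have u1 := unit_pr 0 K (m := ⦋1⦌) (le_refl _) (SimplexCategory.δ (0 : Fin 2))
      have u2 := twoLift_snd (eps 0 K) hZ A B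
      exact chain _ _ _ _ _ _ _ u1 key u2

end Aux

open Opposite CategoryTheory.Limits in
/-- Read on the localized site C/X (so that the represented presheaf h_X is the final object and fibre
products over h_X are products): let C be a small site with fibre products and K a hypercovering of
an object X. Then the associated simplicial presheaf F(K) on C/X satisfies: F(K_0) → * is locally
surjective, F(K_1) → F(K_0) × F(K_0) (the two face maps) is locally surjective, and for every n ≥ 1
the map F(K_{n+1}) → F((cosk_n sk_n K)_{n+1}) is locally surjective; that is, K is a hypercovering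
of the final object of the topos of C/X in Verdier's sense. -/
theorem result {C : Type u} [SmallCategory C] [HasPullbacks C]
    (J : GrothendieckTopology C) (X : C) (K : SimplicialObject (FormalCoproduct.{u} (Over X)))
    [∀ (n : ℕ) (F : (SimplexCategory.Truncated n)ᵒᵖ ⥤ FormalCoproduct.{u} (Over X)),
      (SimplexCategory.Truncated.inclusion n).op.HasRightKanExtension F]
    (hK : Hyper.IsHypercovering J X K) : Hyper.IsHypercoveringSite (J.over X) K := by
  exact result_aux J X K hK

end Groth.Agent.S6504
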