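import Groth.Statements.S6525
import Groth.Agent.Lib.H43FCYoneda
import Mathlib.Algebra.Homology.ShortComplex.Ab
import Mathlib.Algebra.Homology.ShortComplex.Exact
import Mathlib.CategoryTheory.Limits.Shapes.ConcreteCategory
import Mathlib.CategoryTheory.Sites.SheafOfTypes

set_option autoImplicit false
universe u
open CategoryTheory
open Hyper

namespace Groth.Agent.S6525

section Aux
open Opposite CategoryTheory.Limits FormalCoproduct Groth.Agent.Lib.H43FCYoneda Simplicial

lemma iso_of_kernel {Cx : CochainComplex AddCommGrpCat.{u} ℕ} {G : AddCommGrpCat.{u}}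
    (m : G ⟶ Cx.X 0) (w : m ≫ Cx.d 0 1 = 0) (hinj : Function.Injective m)
    (hex : ∀ t : Cx.X 0, Cx.d 0 1 t = 0 → ∃ s, m s = t) : Nonempty (Cx.homology 0 ≅ G) := by
  let S := ShortComplex.mk m (Cx.d 0 1) w
  have hS : S.Exact := (ShortComplex.ab_exact_iff S).2 hex
  have : Mono S.f := (AddCommGrpCat.mono_iff_injective _).2 hinj
  have h1 := hS.fIsKernel
  have h2 := Cx.cyclesIsKernel 0 1 (by simp)
  exact ⟨Cx.isoHomologyπ₀.symm ≪≫ IsLimit.conePointUniqueUpToIso h2 h1⟩

section Cx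
variable {C : Type u} [SmallCategory C] (K : SimplicialObject (FormalCoproduct.{u} C))
  (P : Cᵒᵖ ⥤ AddCommGrpCat.{u})

/-- the cosimplicial group -/
noncomputable abbrev XX : CosimplicialObject AddCommGrpCat.{u} :=
  (FormalCoproduct.cosimplicialObjectFunctor K).obj P

lemma d01 : (Hyper.cechCxSite K P).d 0 1 = (XX K P).δ (0 : Fin 2) - (XX K P).δ (1 : Fin 2) := by
  have h : (Hyper.cechCxSite K P).d 0 1 = AlgebraicTopology.AlternatingCofaceMapComplex.objD (XX K P) 0 :=
    CochainComplex.of_d (V := AddCommGrpCat.{u}) (α := ℕ) _ _ 0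
  rw [h]
  simp [AlgebraicTopology.AlternatingCofaceMapComplex.objD, Fin.sum_univ_two, sub_eq_add_neg] <;> rfl

lemma coface_π (j : Fin 2) (l : (K.obj (op ⦋1⦌)).I) :
    (XX K P).δ j ≫ Pi.π (fun l : (K.obj (op ⦋1⦌)).I => P.obj (op ((K.obj (op ⦋1⦌)).obj l))) l =
      Pi.π (fun i : (K.obj (op ⦋0⦌)).I => P.obj (op ((K.obj (op ⦋0⦌)).obj i))) ((K.δ j).f l) ≫
        P.map ((K.δ j).φ l).op :=
  Pi.lift_π _ _

/-- the components of a 0-cochain -/
noncomputable def comp0 (t : ToType ((Hyper.cechCxSite K P).X 0)) (i : (K.obj (op ⦋0⦌)).I) :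
    ToType (P.obj (op ((K.obj (op ⦋0⦌)).obj i))) :=
  Pi.π (fun i : (K.obj (op ⦋0⦌)).I => P.obj (op ((K.obj (op ⦋0⦌)).obj i))) i t

lemma cocycle_iff (t : ToType ((Hyper.cechCxSite K P).X 0))
    (ht : (Hyper.cechCxSite K P).d 0 1 t = 0) (l : (K.obj (op ⦋1⦌)).I) :
    P.map ((K.δ (0 : Fin 2)).φ l).op (comp0 K P t ((K.δ (0 : Fin 2)).f l)) =
      P.map ((K.δ (1 : Fin 2)).φ l).op (comp0 K P t ((K.δ (1 : Fin 2)).f l)) := by
  rw [d01] at ht
  have h1 : (XX K P).δ (0 : Fin 2) t = (XX K P).δ (1 : Fin 2) t := by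
    have : ((XX K P).δ (0 : Fin 2) - (XX K P).δ (1 : Fin 2)) t =
        (XX K P).δ (0 : Fin 2) t - (XX K P).δ (1 : Fin 2) t := rfl
    exact sub_eq_zero.1 (this.symm.trans ht)
  have h2 := congrArg (fun y => Pi.π (fun l : (K.obj (op ⦋1⦌)).I =>
    P.obj (op ((K.obj (op ⦋1⦌)).obj l))) l y) h1
  have e0 := ConcreteCategory.congr_hom (coface_π K P 0 l) t
  have e1 := ConcreteCategory.congr_hom (coface_π K P 1 l) t
  exact e0.symm.trans (h2.trans e1)

end Cx

section Main
variable {C : Type u} [SmallCategory C] (J : GrothendieckTopology C)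
  (K : SimplicialObject (FormalCoproduct.{u} C)) (F : Sheaf J AddCommGrpCat.{u})

/-- underlying presheaf of types -/
abbrev PT : Cᵒᵖ ⥤ Type u := F.obj ⋙ forget AddCommGrpCat.{u}

lemma hPT : Presieve.IsSheaf J (PT J F) :=
  (isSheaf_iff_isSheaf_of_type J _).1
    ((Presheaf.isSheaf_iff_isSheaf_forget J F.obj (forget _)).1 F.property)

/-- yoneda of K_0 -/
noncomputable abbrev P0 : Cᵒᵖ ⥤ Type u := FormalCoproduct.yoneda.obj (K.obj (op ⦋0⦌))

/-- evaluation of a 0-cochain on sections of `yoneda(K_0)` -/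
noncomputable def ev (t : ToType ((Hyper.cechCxSite K F.obj).X 0)) : P0 K ⟶ PT J F :=
  evNat (P := PT J F) (fun i => comp0 K F.obj t i)

lemma ev_el (t : ToType ((Hyper.cechCxSite K F.obj).X 0)) {V : C}
    (m : (incl C).obj V ⟶ K.obj (op ⦋0⦌)) :
    (ev J K F t).app (op V) (el m) =
      F.obj.map (m.φ PUnit.unit).op (comp0 K F.obj t (m.f PUnit.unit)) :=
  evNat_el _ m

variable (h2 : Presheaf.IsLocallySurjective J
    (prod.lift (FormalCoproduct.yoneda.map (K.δ (1 : Fin 2)))
      (FormalCoproduct.yoneda.map (K.δ (0 : Fin 2)))))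

include h2 in
lemma indep (t : ToType ((Hyper.cechCxSite K F.obj).X 0))
    (ht : (Hyper.cechCxSite K F.obj).d 0 1 t = 0) {V : C} (c c' : (P0 K).obj (op V)) :
    (ev J K F t).app (op V) c = (ev J K F t).app (op V) c' := by
  obtain ⟨s, hs1, hs2⟩ := prod_exists (P := P0 K) (Q := P0 K) c c'
  have hcov := h2.imageSieve_mem s
  refine ((hPT J F).isSeparated _ hcov).ext ?_
  intro W p hp
  obtain ⟨x, hx⟩ := hp
  obtain ⟨cm, rfl⟩ := el_surjective x
  -- first component
  have e1 := congrArg (fun t => t.app (op W) (el cm))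
    (prod.lift_fst (FormalCoproduct.yoneda.map (K.δ (1 : Fin 2)))
      (FormalCoproduct.yoneda.map (K.δ (0 : Fin 2))))
  have e1' := ConcreteCategory.congr_hom ((prod.fst : P0 K ⨯ P0 K ⟶ P0 K).naturality p.op) s
  have e2 := congrArg (fun t => t.app (op W) (el cm))
    (prod.lift_snd (FormalCoproduct.yoneda.map (K.δ (1 : Fin 2)))
      (FormalCoproduct.yoneda.map (K.δ (0 : Fin 2))))
  have e2' := ConcreteCategory.congr_hom ((prod.snd : P0 K ⨯ P0 K ⟶ P0 K).naturality p.op) s
  have f1 : (P0 K).map p.op c = el (cm ≫ K.δ (1 : Fin 2)) := by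
    rw [← el_map, ← hs1]
    refine e1'.symm.trans (Eq.trans ?_ e1)
    exact congrArg (fun y => (prod.fst : P0 K ⨯ P0 K ⟶ P0 K).app (op W) y) hx.symm
  have f2 : (P0 K).map p.op c' = el (cm ≫ K.δ (0 : Fin 2)) := by
    rw [← el_map, ← hs2]
    refine e2'.symm.trans (Eq.trans ?_ e2)
    exact congrArg (fun y => (prod.snd : P0 K ⨯ P0 K ⟶ P0 K).app (op W) y) hx.symm
  have n1 := ConcreteCategory.congr_hom ((ev J K F t).naturality p.op) c
  have n2 := ConcreteCategory.congr_hom ((ev J K F t).naturality p.op) c'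
  refine n1.symm.trans (Eq.trans ?_ n2)
  change (ev J K F t).app (op W) ((P0 K).map p.op c) = (ev J K F t).app (op W) ((P0 K).map p.op c')
  rw [f1, f2, ev_el, ev_el]
  have hc := cocycle_iff K F.obj t ht (cm.f PUnit.unit)
  change F.obj.map (cm.φ PUnit.unit ≫ (K.δ (1 : Fin 2)).φ (cm.f PUnit.unit)).op _ =
    F.obj.map (cm.φ PUnit.unit ≫ (K.δ (0 : Fin 2)).φ (cm.f PUnit.unit)).op _
  rw [op_comp, op_comp, Functor.map_comp, Functor.map_comp]
  exact congrArg (fun y => F.obj.map (cm.φ PUnit.unit).op y) hc.symm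

/-- sieve of maps `V ⟶ U` such that `yoneda(K_0)` has a section over `V`. -/
def SU (U : C) : Sieve U where
  arrows V _ := Nonempty ((P0 K).obj (op V))
  downward_closed := by
    rintro V W p ⟨c⟩ q
    exact ⟨(P0 K).map q.op c⟩

variable (h1 : Presheaf.IsLocallySurjective J (terminal.from (P0 K)))

include h1 in
lemma SU_mem (U : C) : SU K U ∈ J U := by
  obtain ⟨s⟩ := terminal_nonempty (D := C) U
  refine J.superset_covering ?_ (h1.imageSieve_mem s)
  rintro V p ⟨c, _⟩
  exact ⟨c⟩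

/-- the family of local sections attached to a 0-cocycle -/
noncomputable def fam (t : ToType ((Hyper.cechCxSite K F.obj).X 0)) (U : C) :
    Presieve.FamilyOfElements (PT J F) (SU K U).arrows :=
  fun V _ hp => (ev J K F t).app (op V) hp.some

include h2 in
lemma fam_compatible (t : ToType ((Hyper.cechCxSite K F.obj).X 0))
    (ht : (Hyper.cechCxSite K F.obj).d 0 1 t = 0) (U : C) : (fam J K F t U).Compatible := by
  intro Y₁ Y₂ Z g₁ g₂ f₁ f₂ hf₁ hf₂ _
  unfold fam
  have n1 := ConcreteCategory.congr_hom ((ev J K F t).naturality g₁.op) hf₁.some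
  have n2 := ConcreteCategory.congr_hom ((ev J K F t).naturality g₂.op) hf₂.some
  refine n1.symm.trans (Eq.trans ?_ n2)
  exact indep J K F h2 t ht _ _

/-- the global section over `U` -/
noncomputable def sec (t : ToType ((Hyper.cechCxSite K F.obj).X 0))
    (ht : (Hyper.cechCxSite K F.obj).d 0 1 t = 0) (U : C) : (PT J F).obj (op U) :=
  ((hPT J F) (SU K U) (SU_mem J K h1 U)).amalgamate (fam J K F t U)
    (fam_compatible J K F h2 t ht U)

lemma sec_star (t : ToType ((Hyper.cechCxSite K F.obj).X 0))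
    (ht : (Hyper.cechCxSite K F.obj).d 0 1 t = 0) {U V : C} (p : V ⟶ U)
    (c : (P0 K).obj (op V)) :
    (PT J F).map p.op (sec J K F h2 h1 t ht U) = (ev J K F t).app (op V) c := by
  have := ((hPT J F) (SU K U) (SU_mem J K h1 U)).valid_glue
    (fam_compatible J K F h2 t ht U) p ⟨c⟩
  refine this.trans ?_
  exact indep J K F h2 t ht _ _

lemma sec_map (t : ToType ((Hyper.cechCxSite K F.obj).X 0))
    (ht : (Hyper.cechCxSite K F.obj).d 0 1 t = 0) {U U' : C} (g : U' ⟶ U) :
    (PT J F).map g.op (sec J K F h2 h1 t ht U) = sec J K F h2 h1 t ht U' := by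
  refine ((hPT J F).isSeparated _ (SU_mem J K h1 U')).ext ?_
  intro V p hp
  obtain ⟨c⟩ := hp
  rw [sec_star J K F h2 h1 t ht p c]
  have := sec_star J K F h2 h1 t ht (p ≫ g) c
  rw [op_comp, Functor.map_comp] at this
  exact this

/-- the comparison map `lim F ⟶ C^0` -/
noncomputable def mm : limit F.obj ⟶ (Hyper.cechCxSite K F.obj).X 0 :=
  Pi.lift (fun i : (K.obj (op ⦋0⦌)).I => limit.π F.obj (op ((K.obj (op ⦋0⦌)).obj i)))

lemma comp0_mm (s : ToType (limit F.obj)) (i : (K.obj (op ⦋0⦌)).I) :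
    comp0 K F.obj (mm J K F s) i = limit.π F.obj (op ((K.obj (op ⦋0⦌)).obj i)) s := by
  have := Pi.lift_π (fun i : (K.obj (op ⦋0⦌)).I =>
    limit.π F.obj (op ((K.obj (op ⦋0⦌)).obj i))) i
  exact ConcreteCategory.congr_hom this s

lemma comp0_ext (t t' : ToType ((Hyper.cechCxSite K F.obj).X 0))
    (h : ∀ i, comp0 K F.obj t i = comp0 K F.obj t' i) : t = t' := by
  let G := fun i : (K.obj (op ⦋0⦌)).I => F.obj.obj (op ((K.obj (op ⦋0⦌)).obj i))
  have key : Concrete.productEquiv G (t : ToType (∏ᶜ G)) =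
      Concrete.productEquiv G (t' : ToType (∏ᶜ G)) := by
    funext i
    exact ((Concrete.productEquiv_apply_apply G t i).trans (h i)).trans
      (Concrete.productEquiv_apply_apply G t' i).symm
  exact (Concrete.productEquiv G).injective key

lemma mm_coface (j : Fin 2) (l : (K.obj (op ⦋1⦌)).I) :
    (mm J K F ≫ (XX K F.obj).δ j) ≫
      Pi.π (fun l : (K.obj (op ⦋1⦌)).I => F.obj.obj (op ((K.obj (op ⦋1⦌)).obj l))) l =
      limit.π F.obj (op ((K.obj (op ⦋1⦌)).obj l)) := by
  refine (Category.assoc _ _ _).trans ?_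
  refine (congrArg (fun y => mm J K F ≫ y) (coface_π K F.obj j l)).trans ?_
  refine (Category.assoc _ _ _).symm.trans ?_
  have : mm J K F ≫ Pi.π (fun i : (K.obj (op ⦋0⦌)).I =>
      F.obj.obj (op ((K.obj (op ⦋0⦌)).obj i))) ((K.δ j).f l) =
      limit.π F.obj (op ((K.obj (op ⦋0⦌)).obj ((K.δ j).f l))) := Pi.lift_π _ _
  refine (congrArg (fun y => y ≫ F.obj.map ((K.δ j).φ l).op) this).trans ?_
  exact limit.w F.obj ((K.δ j).φ l).op

lemma mm_d : mm J K F ≫ (Hyper.cechCxSite K F.obj).d 0 1 = 0 := by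
  have hδ : mm J K F ≫ (XX K F.obj).δ (0 : Fin 2) = mm J K F ≫ (XX K F.obj).δ (1 : Fin 2) := by
    refine Pi.hom_ext (f := fun l : (K.obj (op ⦋1⦌)).I =>
      F.obj.obj (op ((K.obj (op ⦋1⦌)).obj l))) _ _ ?_
    intro l
    exact (mm_coface J K F 0 l).trans (mm_coface J K F 1 l).symm
  rw [d01]
  exact (Preadditive.comp_sub _ _ _).trans (sub_eq_zero.2 hδ)

include h1 in
lemma mm_injective : Function.Injective (mm J K F) := by
  refine (injective_iff_map_eq_zero (mm J K F).hom).2 ?_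
  intro s hs
  apply Concrete.limit_ext
  intro U
  obtain ⟨U⟩ := U
  rw [map_zero]
  refine ((hPT J F).isSeparated _ (SU_mem J K h1 U)).ext ?_
  intro V p hp
  obtain ⟨c⟩ := hp
  obtain ⟨a, rfl⟩ := el_surjective c
  have w1 := ConcreteCategory.congr_hom (limit.w F.obj p.op) s
  have w2 := ConcreteCategory.congr_hom (limit.w F.obj (a.φ PUnit.unit).op) s
  have w3 := comp0_mm J K F s (a.f PUnit.unit)
  have hs' : comp0 K F.obj (mm J K F s) (a.f PUnit.unit) = 0 := by
    have : mm J K F s = 0 := hs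
    rw [this]
    exact map_zero _
  rw [hs'] at w3
  change F.obj.map p.op (limit.π F.obj (op U) s) = F.obj.map p.op 0
  rw [map_zero]
  refine w1.trans (w2.symm.trans ?_)
  rw [ConcreteCategory.comp_apply, ← w3, map_zero]
  rfl

include h1 h2 in
lemma mm_exact (t : ToType ((Hyper.cechCxSite K F.obj).X 0))
    (ht : (Hyper.cechCxSite K F.obj).d 0 1 t = 0) : ∃ s, mm J K F s = t := by
  have hlim := isLimitOfPreserves (forget AddCommGrpCat.{u}) (limit.isLimit F.obj)
  let x : (PT J F).sections := ⟨fun U => sec J K F h2 h1 t ht U.unop, by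
    intro U U' g
    exact sec_map J K F h2 h1 t ht g.unop⟩
  refine ⟨(Types.isLimitEquivSections hlim).symm x, ?_⟩
  apply comp0_ext
  intro i
  rw [comp0_mm]
  have e1 := Types.isLimitEquivSections_symm_apply hlim x (op ((K.obj (op ⦋0⦌)).obj i))
  refine e1.trans ?_
  have e2 := sec_star J K F h2 h1 t ht (𝟙 ((K.obj (op ⦋0⦌)).obj i))
    (el (Hom.fromIncl i (𝟙 _)))
  rw [ev_el] at e2
  have e3 : (PT J F).map (𝟙 ((K.obj (op ⦋0⦌)).obj i)).op (sec J K F h2 h1 t ht _) =
      sec J K F h2 h1 t ht _ := by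
    rw [op_id, CategoryTheory.Functor.map_id]
    rfl
  have e4 : F.obj.map (𝟙 ((K.obj (op ⦋0⦌)).obj i)).op (comp0 K F.obj t i) = comp0 K F.obj t i := by
    rw [op_id, CategoryTheory.Functor.map_id]
    rfl
  exact e3.symm.trans (e2.trans e4)

end Main

theorem result_aux {C : Type u} [SmallCategory C]
    [HasEqualizers C] [HasPullbacks C] [HasBinaryProducts C]
    (J : GrothendieckTopology C) (K : SimplicialObject (FormalCoproduct.{u} C))
    [∀ (n : ℕ) (F : (SimplexCategory.Truncated n)ᵒᵖ ⥤ Limits.FormalCoproduct.{u} C),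
      (SimplexCategory.Truncated.inclusion n).op.HasRightKanExtension F]
    (hK : Hyper.IsHypercoveringSite J K) (F : Sheaf J AddCommGrpCat.{u}) :
    Nonempty ((Hyper.cechCxSite K F.obj).homology 0 ≅ limit F.obj) := by
  obtain ⟨h1, h2, -⟩ := hK
  exact iso_of_kernel (mm J K F) (mm_d J K F) (mm_injective J K F h1)
    (mm_exact J K F h2 h1)

end Aux

open Opposite CategoryTheory.Limits in
/-- For a hypercovering K of the final object of the topos (Verdier's sense) on a small site with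
equalizers, fibre products and binary products and every abelian sheaf F the Čech cohomology group
Ȟ^0(K, F) is isomorphic to H^0(F), the group of global sections (the limit of F over the site).
Existence of an isomorphism only. -/
theorem result {C : Type u} [SmallCategory C]
    [HasEqualizers C] [HasPullbacks C] [HasBinaryProducts C]
    (J : GrothendieckTopology C) (K : SimplicialObject (FormalCoproduct.{u} C))
    [∀ (n : ℕ) (F : (SimplexCategory.Truncated n)ᵒᵖ ⥤ Limits.FormalCoproduct.{u} C),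
      (SimplexCategory.Truncated.inclusion n).op.HasRightKanExtension F]
    (hK : Hyper.IsHypercoveringSite J K) (F : Sheaf J AddCommGrpCat.{u}) :
    Nonempty ((Hyper.cechCxSite K F.obj).homology 0 ≅ limit F.obj) := by
  exact result_aux J K hK F

end Groth.Agent.S6525
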