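import Groth.Statements.S6862
import Mathlib.LinearAlgebra.FreeModule.Basic
import Mathlib.RingTheory.Finiteness.Prod

set_option autoImplicit false
universe u
open CAlg

namespace Groth.Agent.S6862

section aux
variable {R : Type u} [CommRing R]

/-- A reshuffling of a triple product. -/
def shuffle₁ (A B N N' : Type u) [AddCommGroup A] [Module R A] [AddCommGroup B] [Module R B]
    [AddCommGroup N] [Module R N] [AddCommGroup N'] [Module R N'] :
    (((A × B) × N') × N) ≃ₗ[R] B × ((A × N) × N') where
  toFun := fun x => (x.1.1.2, ((x.1.1.1, x.2), x.1.2))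
  invFun := fun y => (((y.2.1.1, y.1), y.2.2), y.2.1.2)
  map_add' := by intro x y; rfl
  map_smul' := by intro c x; rfl
  left_inv := by intro x; rfl
  right_inv := by intro y; rfl

/-- A reshuffling of a product of products. -/
def shuffle₂ (A B N N' : Type u) [AddCommGroup A] [Module R A] [AddCommGroup B] [Module R B]
    [AddCommGroup N] [Module R N] [AddCommGroup N'] [Module R N'] :
    ((A × N) × (B × N')) ≃ₗ[R] (A × B) × (N × N') where
  toFun := fun x => ((x.1.1, x.2.1), (x.1.2, x.2.2))
  invFun := fun y => ((y.1.1, y.2.1), (y.1.2, y.2.2))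
  map_add' := by intro x y; rfl
  map_smul' := by intro c x; rfl
  left_inv := by intro x; rfl
  right_inv := by intro y; rfl

/-- If `A × B ≃ P` with `A`, `P` stably free and `A` finite, then `B` is stably free. -/
lemma isStablyFree_of_prod_left {A B P : Type u} [AddCommGroup A] [Module R A] [Module.Finite R A]
    [AddCommGroup B] [Module R B] [AddCommGroup P] [Module R P]
    (e : P ≃ₗ[R] A × B) (hA : Module.IsStablyFree R A) (hP : Module.IsStablyFree R P) :
    Module.IsStablyFree R B := by
  obtain ⟨N, _, _, _, _, hN⟩ := Module.IsStablyFree.exist_free_prod R A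
  obtain ⟨N', _, _, _, _, hN'⟩ := Module.IsStablyFree.exist_free_prod R P
  have : Module.Free R ((A × N) × N') := Module.Free.prod R (A × N) N'
  have : Module.Finite R ((A × N) × N') := inferInstance
  have e0 : ((P × N') × N) ≃ₗ[R] ((A × B) × N') × N :=
    LinearEquiv.prodCongr (LinearEquiv.prodCongr e (LinearEquiv.refl R N')) (LinearEquiv.refl R N)
  have e1 : ((P × N') × N) ≃ₗ[R] B × ((A × N) × N') := e0 ≪≫ₗ shuffle₁ A B N N'
  have : Module.Free R ((P × N') × N) := Module.Free.prod R (P × N') N
  have : Module.Free R (B × ((A × N) × N')) := Module.Free.of_equiv e1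
  exact Module.IsStablyFree.of_free_prod R B ((A × N) × N')

end aux

/-- Let `R` be a commutative ring and `P'`, `P`, `P''` finitely generated projective `R`-modules in an
exact sequence `0 → P' → P → P'' → 0`. Whenever two of the three are stably free, the remaining one
is stably free too (all three cases are stated). -/
theorem result {R : Type u} [CommRing R] {P' P P'' : Type u}
    [AddCommGroup P'] [Module R P'] [Module.Finite R P'] [Module.Projective R P']
    [AddCommGroup P] [Module R P] [Module.Finite R P] [Module.Projective R P]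
    [AddCommGroup P''] [Module R P''] [Module.Finite R P''] [Module.Projective R P'']
    (f : P' →ₗ[R] P) (g : P →ₗ[R] P'') (hf : Function.Injective f) (hg : Function.Surjective g)
    (hfg : Function.Exact f g) :
    (Module.IsStablyFree R P' → Module.IsStablyFree R P → Module.IsStablyFree R P'') ∧
    (Module.IsStablyFree R P' → Module.IsStablyFree R P'' → Module.IsStablyFree R P) ∧
    (Module.IsStablyFree R P → Module.IsStablyFree R P'' → Module.IsStablyFree R P') := by
  obtain ⟨l, hl⟩ := Module.projective_lifting_property g LinearMap.id hg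
  obtain ⟨e, -, -⟩ := hfg.splitSurjectiveEquiv hf ⟨l, hl⟩
  refine ⟨fun h1 h2 => isStablyFree_of_prod_left e h1 h2, fun h1 h2 => ?_, fun h1 h2 => ?_⟩
  · obtain ⟨N, _, _, _, _, hN⟩ := Module.IsStablyFree.exist_free_prod R P'
    obtain ⟨N', _, _, _, _, hN'⟩ := Module.IsStablyFree.exist_free_prod R P''
    have : Module.Free R (N × N') := Module.Free.prod R N N'
    have e0 : ((P' × P'') × (N × N')) ≃ₗ[R] P × (N × N') :=
      LinearEquiv.prodCongr e.symm (LinearEquiv.refl R (N × N'))
    have e1 : ((P' × N) × (P'' × N')) ≃ₗ[R] P × (N × N') := shuffle₂ P' P'' N N' ≪≫ₗ e0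
    have : Module.Free R ((P' × N) × (P'' × N')) := Module.Free.prod R (P' × N) (P'' × N')
    have : Module.Free R (P × (N × N')) := Module.Free.of_equiv e1
    exact Module.IsStablyFree.of_free_prod R P (N × N')
  · exact isStablyFree_of_prod_left (e.trans (LinearEquiv.prodComm R P' P'')) h2 h1

end Groth.Agent.S6862
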