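import Groth.Statements.S6863
import Mathlib
-- import your own Groth.Agent.* helpers here

set_option autoImplicit false
universe u
open TensorProduct
open CAlg

namespace Groth.Agent.S6863

section aux

variable {R : Type u} [CommRing R] (I : Ideal R)

lemma mem_smul_top_pi {ι : Type*} [Fintype ι] [DecidableEq ι] (x : ι → R) (hx : ∀ i, x i ∈ I) :
    x ∈ I • (⊤ : Submodule R (ι → R)) := by
  have : x = ∑ i, x i • (Pi.single i (1 : R) : ι → R) := by
    funext j
    simp [Finset.sum_apply, Pi.single_apply]
  rw [this]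
  exact Submodule.sum_mem _ (fun i _ => Submodule.smul_mem_smul (hx i) trivial)

variable {V : Type*} [AddCommGroup V] [Module (R ⧸ I) V] [Module R V] [IsScalarTower R (R ⧸ I) V]

lemma smul_eq_mk_smul (r : R) (v : V) : r • v = (Ideal.Quotient.mk I r) • v := by
  rw [← Ideal.Quotient.algebraMap_eq, algebraMap_smul]

lemma lc_eq_zero_iff {ι : Type*} [Fintype ι] (b : Module.Basis ι (R ⧸ I) V) (x : ι → R) :
    Fintype.linearCombination R b x = 0 ↔ ∀ i, x i ∈ I := by
  rw [Fintype.linearCombination_apply]
  have h1 : ∑ i, x i • b i = ∑ i, (Ideal.Quotient.mk I (x i)) • b i :=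
    Finset.sum_congr rfl (fun i _ => smul_eq_mk_smul I _ _)
  rw [h1]
  constructor
  · intro h i
    have := (Fintype.linearIndependent_iff.mp b.linearIndependent) (fun i => Ideal.Quotient.mk I (x i)) h i
    exact Ideal.Quotient.eq_zero_iff_mem.mp this
  · intro h
    apply Finset.sum_eq_zero
    intro i _
    rw [Ideal.Quotient.eq_zero_iff_mem.mpr (h i), zero_smul]

lemma lc_surjective {ι : Type*} [Fintype ι] (b : Module.Basis ι (R ⧸ I) V) :
    Function.Surjective (Fintype.linearCombination R (b : ι → V)) := by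
  intro y
  have hsurj : ∀ i, ∃ r : R, Ideal.Quotient.mk I r = b.repr y i :=
    fun i => Ideal.Quotient.mk_surjective _
  choose x hx using hsurj
  refine ⟨x, ?_⟩
  rw [Fintype.linearCombination_apply]
  have h1 : ∑ i, x i • b i = ∑ i, (Ideal.Quotient.mk I (x i)) • b i :=
    Finset.sum_congr rfl (fun i _ => smul_eq_mk_smul I _ _)
  rw [h1]
  conv_rhs => rw [← b.sum_repr y]
  exact Finset.sum_congr rfl (fun i _ => by rw [hx i])

end aux


/-- Let `I` be an ideal of a commutative ring `R` contained in the Jacobson radical (equivalently, `1 +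
i` is a unit for each `i ∈ I`). Then each finitely generated stably free module `E` over `R/I`
lifts: there is a finite stably free `R`-module `M` with `M/IM ≅ E` (existence of an isomorphism
only; the published statement names no map). -/
theorem result {R : Type u} [CommRing R] (I : Ideal R)
    (hI : I ≤ Ideal.jacobson (⊥ : Ideal R)) (E : Type u) [AddCommGroup E] [Module (R ⧸ I) E]
    [Module.Finite (R ⧸ I) E] [Module.IsStablyFree (R ⧸ I) E] :
    ∃ (M : Type u) (_ : AddCommGroup M) (_ : Module R M), Module.Finite R M ∧ Module.IsStablyFree R M ∧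
      Nonempty ((R ⧸ I) ⊗[R] M ≃ₗ[R ⧸ I] E) := by
  classical
  obtain ⟨N, _, _, _, _, hfree⟩ := Module.IsStablyFree.exist_free_prod (R ⧸ I) E
  let _ : Module R E := Module.compHom E (Ideal.Quotient.mk I)
  have _ : IsScalarTower R (R ⧸ I) E := IsScalarTower.of_algebraMap_smul (fun r x => rfl)
  let _ : Module R N := Module.compHom N (Ideal.Quotient.mk I)
  have _ : IsScalarTower R (R ⧸ I) N := IsScalarTower.of_algebraMap_smul (fun r x => rfl)
  let bP := Module.Free.chooseBasis (R ⧸ I) (E × N)
  let bN := Module.Free.chooseBasis (R ⧸ I) N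
  let cP : (Module.Free.ChooseBasisIndex (R ⧸ I) (E × N) → R) →ₗ[R] E × N :=
    Fintype.linearCombination R (bP : _ → E × N)
  let cN : (Module.Free.ChooseBasisIndex (R ⧸ I) N → R) →ₗ[R] N :=
    Fintype.linearCombination R (bN : _ → N)
  have hcP_surj : Function.Surjective cP := lc_surjective I bP
  have hcN_surj : Function.Surjective cN := lc_surjective I bN
  have hcP_ker : ∀ x, cP x = 0 ↔ ∀ i, x i ∈ I := lc_eq_zero_iff I bP
  have hcN_ker : ∀ x, cN x = 0 ↔ ∀ i, x i ∈ I := lc_eq_zero_iff I bN
  -- lift the projection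
  obtain ⟨π, hπ⟩ := Module.projective_lifting_property cN ((LinearMap.snd R E N) ∘ₗ cP) hcN_surj
  have hπ' : ∀ x, cN (π x) = (cP x).2 := fun x => LinearMap.congr_fun hπ x
  -- π is surjective by Nakayama
  have hπ_surj : Function.Surjective π := by
    rw [← LinearMap.range_eq_top, eq_top_iff]
    apply Submodule.le_of_le_smul_of_le_jacobson_bot Module.Finite.fg_top hI
    intro y _
    obtain ⟨z, hz⟩ := hcP_surj ((0 : E), cN y)
    have h0 : cN (y - π z) = 0 := by
      rw [map_sub, hπ' z, hz, sub_self]
    have hmem : y - π z ∈ I • (⊤ : Submodule R _) :=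
      mem_smul_top_pi I _ ((hcN_ker _).mp h0)
    have : y = π z + (y - π z) := by abel
    rw [this]
    exact Submodule.add_mem_sup (LinearMap.mem_range_self π z) hmem
  -- a section
  obtain ⟨σ, hσ⟩ := Module.projective_lifting_property π LinearMap.id hπ_surj
  have hσ' : ∀ n, π (σ n) = n := fun n => LinearMap.congr_fun hσ n
  -- the kernel and the retraction
  let M := LinearMap.ker π
  let ρ : (Module.Free.ChooseBasisIndex (R ⧸ I) (E × N) → R) →ₗ[R] M :=
    (LinearMap.id - σ ∘ₗ π).codRestrict (LinearMap.ker π) (fun x => by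
      rw [LinearMap.mem_ker]
      simp only [LinearMap.sub_apply, LinearMap.id_apply, LinearMap.comp_apply, map_sub, hσ',
        sub_self])
  have hρ_val : ∀ x, (ρ x : _ → R) = x - σ (π x) := fun x => rfl
  have hρ_id : ∀ m : M, ρ m = m := by
    intro m
    apply Subtype.ext
    rw [hρ_val, (LinearMap.mem_ker.mp m.2), map_zero, sub_zero]
  have hρ_surj : Function.Surjective ρ := fun m => ⟨m, hρ_id m⟩
  have hMfin : Module.Finite R M := Module.Finite.of_surjective ρ hρ_surj
  -- M × NR ≃ PR
  let e : (M × (Module.Free.ChooseBasisIndex (R ⧸ I) N → R)) ≃ₗ[R]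
      (Module.Free.ChooseBasisIndex (R ⧸ I) (E × N) → R) :=
    LinearEquiv.ofBijective ((LinearMap.ker π).subtype.coprod σ) (by
      constructor
      · rw [← LinearMap.ker_eq_bot, LinearMap.ker_eq_bot']
        rintro ⟨m, n⟩ h
        rw [LinearMap.coprod_apply] at h
        have h2 := congrArg π h
        rw [map_add, map_zero, hσ'] at h2
        have hm : π (m : _ → R) = 0 := LinearMap.mem_ker.mp m.2
        rw [Submodule.subtype_apply, hm, zero_add] at h2
        subst h2
        rw [map_zero, add_zero] at h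
        have : m = 0 := Subtype.ext h
        rw [this]; rfl
      · intro x
        refine ⟨(ρ x, π x), ?_⟩
        rw [LinearMap.coprod_apply, Submodule.subtype_apply, hρ_val]
        abel)
  have _ : Module.Free R (M × (Module.Free.ChooseBasisIndex (R ⧸ I) N → R)) :=
    Module.Free.of_equiv e.symm
  have hMsf : Module.IsStablyFree R M :=
    Module.IsStablyFree.of_free_prod R M (Module.Free.ChooseBasisIndex (R ⧸ I) N → R)
  -- the comparison map
  let g : M →ₗ[R] E := (LinearMap.fst R E N) ∘ₗ cP ∘ₗ (LinearMap.ker π).subtype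
  have hg_snd : ∀ m : M, (cP (m : _ → R)).2 = 0 := by
    intro m
    rw [← hπ', LinearMap.mem_ker.mp m.2, map_zero]
  have hσ_mem : ∀ n, (∀ i, n i ∈ I) → ∀ i, σ n i ∈ I := by
    intro n hn
    have h1 : n ∈ I • (⊤ : Submodule R _) := mem_smul_top_pi I n hn
    have h2 : σ n ∈ Submodule.map σ (I • (⊤ : Submodule R _)) := Submodule.mem_map_of_mem h1
    rw [Submodule.map_smul''] at h2
    have h3 : cP (σ n) = 0 := by
      refine Submodule.smul_induction_on h2 ?_ ?_
      · intro r hr x _
        rw [map_smul, smul_eq_mk_smul I, Ideal.Quotient.eq_zero_iff_mem.mpr hr, zero_smul]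
      · intro x y hx hy
        rw [map_add, hx, hy, add_zero]
    exact (hcP_ker _).mp h3
  have hg_surj : Function.Surjective g := by
    intro e0
    obtain ⟨x, hx⟩ := hcP_surj (e0, (0 : N))
    have h1 : cN (π x) = 0 := by rw [hπ', hx]
    have h2 := hσ_mem (π x) ((hcN_ker _).mp h1)
    have h3 : cP (σ (π x)) = 0 := (hcP_ker _).mpr h2
    refine ⟨ρ x, ?_⟩
    show (cP (ρ x : _ → R)).1 = e0
    rw [hρ_val, map_sub, h3, sub_zero, hx]
  have hg_ker : LinearMap.ker g = I • (⊤ : Submodule R M) := by
    apply le_antisymm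
    · intro m hm
      have h1 : (cP (m : _ → R)).1 = 0 := LinearMap.mem_ker.mp hm
      have h2 : cP (m : _ → R) = 0 := Prod.ext h1 (hg_snd m)
      have h3 : (m : _ → R) ∈ I • (⊤ : Submodule R _) := mem_smul_top_pi I _ ((hcP_ker _).mp h2)
      have h4 : ρ (m : _ → R) ∈ Submodule.map ρ (I • (⊤ : Submodule R _)) :=
        Submodule.mem_map_of_mem h3
      rw [Submodule.map_smul'', hρ_id] at h4
      exact Submodule.smul_mono le_rfl le_top h4
    · rw [Submodule.smul_le]
      intro r hr m _
      rw [LinearMap.mem_ker, map_smul, smul_eq_mk_smul I, Ideal.Quotient.eq_zero_iff_mem.mpr hr,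
        zero_smul]
  refine ⟨M, inferInstance, inferInstance, hMfin, hMsf, ⟨?_⟩⟩
  exact ((TensorProduct.quotTensorEquivQuotSMul M I).trans
    ((Submodule.quotEquivOfEq _ _ hg_ker.symm).trans
      (g.quotKerEquivOfSurjective hg_surj))).extendScalarsOfSurjective Ideal.Quotient.mk_surjective

end Groth.Agent.S6863
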