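import Groth.Statements.S0982
import Groth.Agent.Lib.DTruncHom

set_option autoImplicit false
universe w v u
open CategoryTheory CategoryTheory.Limits
open CohDer

namespace Groth.Agent.S0982

/-- Let K : ℕ ⥤ CochainComplex A ℤ be a sequence of cochain maps K₀ → K₁ → K₂ → … in an abelian category
with Hⁱ(K₀) = 0 for i > 0 and such that for every j < n the map H⁻ʲ(Kⱼ) → H⁻ʲ(Kⱼ₊₁) is zero. Then in
the derived category the composite K₀ → Kₙ factors through the canonical truncation τ_{≤ -n}Kₙ → Kₙ. -/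
theorem result {A : Type u} [Category.{v} A] [Abelian A] [HasDerivedCategory.{w} A]
    (K : ℕ ⥤ CochainComplex A ℤ) (n : ℕ)
    (h0 : ∀ i : ℤ, 0 < i → IsZero ((K.obj 0).homology i))
    (hz : ∀ j : ℕ, j < n → HomologicalComplex.homologyMap (K.map (homOfLE (Nat.le_succ j))) (-(j : ℤ)) = 0) :
    ∃ φ : DerivedCategory.Q.obj (K.obj 0) ⟶ DerivedCategory.Q.obj ((K.obj n).truncLE (-(n : ℤ))),
      φ ≫ DerivedCategory.Q.map ((K.obj n).ιTruncLE (-(n : ℤ))) = DerivedCategory.Q.map (K.map (homOfLE (Nat.zero_le n))) := by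
  induction n with
  | zero =>
    have hle : (K.obj 0).IsLE (-((0 : ℕ) : ℤ)) := by
      rw [CochainComplex.isLE_iff]
      intro i hi
      rw [HomologicalComplex.exactAt_iff_isZero_homology]
      exact h0 i (by simpa using hi)
    have hiso : IsIso (DerivedCategory.Q.map ((K.obj 0).ιTruncLE (-((0 : ℕ) : ℤ)))) := by
      rw [DerivedCategory.isIso_Q_map_iff_quasiIso]
      infer_instance
    refine ⟨inv (DerivedCategory.Q.map ((K.obj 0).ιTruncLE (-((0 : ℕ) : ℤ)))), ?_⟩
    have : homOfLE (Nat.zero_le 0) = 𝟙 (0 : ℕ) := Subsingleton.elim _ _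
    rw [IsIso.inv_hom_id, this, K.map_id, CategoryTheory.Functor.map_id]
  | succ n ih =>
    obtain ⟨φ, hφ⟩ := ih (fun j hj => hz j (by omega))
    let f := K.map (homOfLE (Nat.le_succ n))
    let u := DerivedCategory.Q.map ((K.obj n).ιTruncLE (-(n : ℤ))) ≫ DerivedCategory.Q.map f
    have hu : (DerivedCategory.homologyFunctor A (-(n : ℤ))).map u = 0 := by
      dsimp only [u]
      rw [Functor.map_comp,
        Groth.Agent.Lib.DTruncHom.homologyFunctor_map_Q_map_eq_zero f _ (hz n (by omega)),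
        comp_zero]
    obtain ⟨u', hu'⟩ := Groth.Agent.Lib.DTruncHom.exists_factor_truncLE (K.obj (n + 1))
      (DerivedCategory.Q.obj ((K.obj n).truncLE (-(n : ℤ)))) (-((n + 1 : ℕ) : ℤ)) (-(n : ℤ))
      (by push_cast; ring) u hu
    refine ⟨φ ≫ u', ?_⟩
    rw [Category.assoc, hu']
    dsimp only [u, f]
    rw [← Category.assoc, hφ, ← Functor.map_comp, ← Functor.map_comp]
    rfl

end Groth.Agent.S0982
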