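import Groth.Statements.S3587

set_option autoImplicit false
set_option linter.unusedSectionVars false
universe u
open CategoryTheory CategoryTheory.Limits AlgebraicGeometry
open EGA2

namespace Groth.Agent.S3587

section Aux

variable {R A : Type u} [CommRing R] [CommRing A] [Algebra R A] (𝒜 : ℕ → Submodule R A)
  [GradedAlgebra 𝒜]
  {M : Type u} [AddCommGroup M] [Module R M] [Module A M] [IsScalarTower R A M]
  (ℳ : ℕ → Submodule R M) [DirectSum.Decomposition ℳ] [SetLike.GradedSMul 𝒜 ℳ]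

lemma decompose_smul_homog (i : ℕ) (m : M) (hm : m ∈ ℳ i) (j₀ : ℕ) (a : A) :
    ((DirectSum.decompose ℳ (a • m) (j₀ + i) : ℳ (j₀ + i)) : M) =
      ((DirectSum.decompose 𝒜 a j₀ : 𝒜 j₀) : A) • m := by
  classical
  induction a using DirectSum.Decomposition.inductionOn 𝒜 with
  | zero => simp
  | @homogeneous j x =>
    have hx : x.1 • m ∈ ℳ (j + i) := SetLike.GradedSMul.smul_mem x.2 hm
    by_cases hj : j = j₀
    · subst hj
      rw [DirectSum.decompose_of_mem_same ℳ hx, DirectSum.decompose_of_mem_same 𝒜 x.2]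
    · rw [DirectSum.decompose_of_mem_ne ℳ hx (by omega), DirectSum.decompose_of_mem_ne 𝒜 x.2 hj,
        zero_smul]
  | add x y hx hy =>
    rw [add_smul, DirectSum.decompose_add, DirectSum.decompose_add, DirectSum.add_apply,
      DirectSum.add_apply, Submodule.coe_add, Submodule.coe_add, add_smul, hx, hy]

/-- The annihilator of a homogeneous element. -/
def ann (m : M) : Ideal A := LinearMap.ker (LinearMap.toSpanSingleton A M m)

omit [Module R M] [IsScalarTower R A M] in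
lemma mem_ann (m : M) (a : A) : a ∈ ann (A := A) m ↔ a • m = 0 := by
  unfold ann
  rw [LinearMap.mem_ker, LinearMap.toSpanSingleton_apply]

lemma ann_isHomogeneous (i : ℕ) (m : M) (hm : m ∈ ℳ i) : (ann (A := A) m).IsHomogeneous 𝒜 := by
  intro j a ha
  rw [mem_ann] at ha ⊢
  rw [← decompose_smul_homog 𝒜 ℳ i m hm j a, ha, DirectSum.decompose_zero]
  rfl

end Aux

theorem result {R A : Type u} [CommRing R] [CommRing A] [Algebra R A] (𝒜 : ℕ → Submodule R A) [GradedAlgebra 𝒜]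
    {M : Type u} [AddCommGroup M] [Module R M] [Module A M] [IsScalarTower R A M] (ℳ : ℕ → Submodule R M) [DirectSum.Decomposition ℳ] [SetLike.GradedSMul 𝒜 ℳ] {d : ℕ} (hd : 0 < d) {f : A} (hf : f ∈ 𝒜 d) (k i : ℕ) (m : ℳ i)
    (h : ∀ x : ProjectiveSpectrum.basicOpen 𝒜 f,
      (LocalizedModule.mk m.1 ⟨f ^ k, fun h => (ProjectiveSpectrum.mem_basicOpen 𝒜 f x.1).mp x.2
        (x.1.isPrime.mem_of_pow_mem k h)⟩ : GrTilde.LocMod 𝒜 (M := M) x.1) = 0) :
    ∃ N : ℕ, f ^ N • m.1 = 0 := by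
  by_contra hcon
  push Not at hcon
  set I : Ideal A := ann (A := A) m.1 with hI
  have hIhom : I.IsHomogeneous 𝒜 := ann_isHomogeneous 𝒜 ℳ i m.1 m.2
  have hdisj : Disjoint (I : Set A) (Submonoid.powers f : Set A) := by
    rw [Set.disjoint_left]
    rintro a ha ⟨N, rfl⟩
    exact hcon N ((mem_ann m.1 _).mp ha)
  obtain ⟨P, hP, hIP, hPf⟩ := Ideal.exists_le_prime_disjoint I (Submonoid.powers f) hdisj
  have hfP : f ∉ P := fun hfP ↦ Set.disjoint_left.mp hPf hfP (Submonoid.mem_powers f)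
  have hcore : I ≤ (P.homogeneousCore 𝒜).toIdeal := by
    rw [← hIhom.toIdeal_homogeneousCore_eq_self]
    exact Ideal.homogeneousCore_mono 𝒜 hIP
  have hfcore : f ∉ (P.homogeneousCore 𝒜).toIdeal :=
    fun hmem ↦ hfP (Ideal.toIdeal_homogeneousCore_le 𝒜 P hmem)
  have hfirr : f ∈ (HomogeneousIdeal.irrelevant 𝒜).toIdeal := by
    rw [HomogeneousIdeal.mem_iff, HomogeneousIdeal.mem_irrelevant_iff,
      GradedRing.proj_apply, DirectSum.decompose_of_mem_ne 𝒜 hf hd.ne']
  obtain ⟨x, hxdef⟩ : ∃ x : ProjectiveSpectrum 𝒜, x.asHomogeneousIdeal = P.homogeneousCore 𝒜 :=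
    ⟨⟨P.homogeneousCore 𝒜, hP.homogeneousCore, fun hle ↦ hfcore (hle hfirr)⟩, rfl⟩
  have hx : x ∈ ProjectiveSpectrum.basicOpen 𝒜 f := by
    rw [ProjectiveSpectrum.mem_basicOpen, hxdef]
    exact hfcore
  have h0 := h ⟨x, hx⟩
  rw [← LocalizedModule.zero_mk (1 : x.asHomogeneousIdeal.toIdeal.primeCompl),
    LocalizedModule.mk_eq] at h0
  obtain ⟨u, hu⟩ := h0
  rw [smul_zero, smul_zero] at hu
  have hu' : (u : A) • m.1 = 0 := by
    have : u • (1 : x.asHomogeneousIdeal.toIdeal.primeCompl) • m.1 = (u : A) • m.1 := by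
      rw [one_smul]; rfl
    rw [← this]; exact hu
  have hle : (P.homogeneousCore 𝒜).toIdeal ≤ x.asHomogeneousIdeal.toIdeal := by
    rw [hxdef]
  exact u.2 (hle (hcore ((mem_ann m.1 _).mpr hu')))

end Groth.Agent.S3587
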