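import Groth.Statements.S4350
import Groth.Agent.Lib.RatFun82
import Groth.Agent.Lib.H4ModHom
import Groth.Agent.Lib.Conormal81C

set_option autoImplicit false
universe u
open TorSh

namespace Groth.Agent.S4350

open AlgebraicGeometry CategoryTheory TopologicalSpace Opposite
open Groth.Agent.Lib.RatFun82 Groth.Agent.Lib.QCohStalk

section constr

variable {X : Scheme.{u}} [IsIntegral X] (F : X.Modules)
  (φ : F.presheaf.stalk (genericPoint X) →ₗ[X.presheaf.stalk (genericPoint X)]
    X.presheaf.stalk (genericPoint X))

open Classical in
/-- The map on sections. -/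
noncomputable def ιfun (U : X.Opens) (s : Γ(F, U)) : Γ(RatSh X, U) :=
  if h : genericPoint X ∈ U then
    (show Γ(RatSh X, U) from toSecK U (φ (F.presheaf.germ U (genericPoint X) h s)))
  else 0

theorem ιfun_pos {U : X.Opens} (h : genericPoint X ∈ U) (s : Γ(F, U)) :
    ιfun F φ U s = (show Γ(RatSh X, U) from toSecK U (φ (F.presheaf.germ U (genericPoint X) h s))) := by
  unfold ιfun
  rw [dif_pos h]

theorem subsingleton_ratSh {U : X.Opens} (h : genericPoint X ∉ U) :
    Subsingleton Γ(RatSh X, U) :=
  subsingleton_sections h

/-- The morphism to the sheaf of rational functions attached to a linear form on the generic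
stalk. -/
noncomputable def ι : F ⟶ RatSh X :=
  Groth.Agent.Lib.H4ModHom.homOfSections (ιfun F φ)
    (by
      intro U a b
      by_cases h : genericPoint X ∈ U
      · rw [ιfun_pos F φ h, ιfun_pos F φ h, ιfun_pos F φ h, map_add, map_add]
        exact map_add (toSecK U).hom _ _
      · haveI := subsingleton_ratSh h
        exact Subsingleton.elim _ _)
    (by
      intro U r a
      by_cases h : genericPoint X ∈ U
      · rw [ιfun_pos F φ h, ιfun_pos F φ h, germ_smul, map_smul, smul_eq_mul]
        change (toSecK U).hom _ = ((xi X).app U).hom r * (toSecK U).hom _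
        rw [map_mul, app_eq h]
        rfl
      · haveI := subsingleton_ratSh h
        exact Subsingleton.elim _ _)
    (by
      intro U V hVU a
      by_cases h : genericPoint X ∈ V
      · have hU : genericPoint X ∈ U := hVU h
        rw [ιfun_pos F φ h, ιfun_pos F φ hU]
        have := germ_res F hVU (genericPoint X) h a
        unfold res at this
        rw [this]
        exact toSecK_res hVU _
      · haveI := subsingleton_ratSh h
        exact Subsingleton.elim _ _)

theorem ι_app {U : X.Opens} (h : genericPoint X ∈ U) (s : Γ(F, U)) :
    (ι F φ).app U s =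
      (show Γ(RatSh X, U) from toSecK U (φ (F.presheaf.germ U (genericPoint X) h s))) :=
  ιfun_pos F φ h s

omit [IsIntegral X] in
theorem section_ext (W : X.Opens) (t t' : Γ(F, W))
    (h : ∀ (z : X) (hz : z ∈ W), F.presheaf.germ W z hz t = F.presheaf.germ W z hz t') : t = t' :=
  TopCat.Presheaf.section_ext ⟨F.presheaf, F.isSheaf⟩ W t t' h

/-- For a torsion-free quasi-coherent module, sections over an affine open inject into the
generic stalk. -/
theorem eq_zero_of_germ_genericPoint_eq_zero [F.IsQuasicoherent] (hF : TorSh.IsTorsionFree F)
    {U : X.Opens} (hU : IsAffineOpen U) (h : genericPoint X ∈ U) (s : Γ(F, U))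
    (hs : F.presheaf.germ U (genericPoint X) h s = 0) : s = 0 := by
  obtain ⟨g, hg, hgs⟩ := exists_smul_eq_zero_of_germ_eq_zero F hU (genericPoint X) h s hs
  apply section_ext F U
  intro z hz
  rw [map_zero]
  have h1 : X.presheaf.germ U z hz g • F.presheaf.germ U z hz s = 0 := by
    rw [← germ_smul, hgs, map_zero]
  have hg0 : X.presheaf.germ U z hz g ≠ 0 := by
    intro h0
    have : g = 0 := by
      apply germ_injective_of_isIntegral X z hz
      rw [h0, map_zero]
    rw [this, map_zero] at hg
    exact not_isUnit_zero hg
  have htf := hF z
  have hreg : IsRegular (X.presheaf.germ U z hz g) := IsRegular.of_ne_zero hg0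
  have h2 : X.presheaf.germ U z hz g • F.presheaf.germ U z hz s =
      X.presheaf.germ U z hz g • (0 : F.presheaf.stalk z) := by rw [h1, smul_zero]
  exact (htf.isSMulRegular hreg) h2

theorem mono_ι [F.IsQuasicoherent] (hF : TorSh.IsTorsionFree F) (hφ : Function.Injective φ) :
    Mono (ι F φ) := by
  apply Groth.Agent.Lib.Conormal81.mono_of_injective_on_basis (ι F φ)
    (fun c : X.affineOpens => c.1)
  · intro O z hz
    obtain ⟨_, ⟨W, hW, rfl⟩, hzW, hWO⟩ :=
      X.isBasis_affineOpens.exists_subset_of_mem_open hz O.2
    exact ⟨⟨W, hW⟩, hzW, hWO⟩
  · rintro ⟨U, hU⟩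
    rw [injective_iff_map_eq_zero]
    intro s hs
    by_cases h : genericPoint X ∈ U
    · rw [ι_app F φ h] at hs
      have h1 : φ (F.presheaf.germ U (genericPoint X) h s) = 0 := by
        apply (toSecK_bijective h).1
        rw [map_zero]
        exact hs
      have h2 : F.presheaf.germ U (genericPoint X) h s = 0 := by
        apply hφ
        rw [h1, map_zero]
      exact eq_zero_of_germ_genericPoint_eq_zero F hF hU h s h2
    · apply section_ext F U
      intro z hz
      exact absurd (genericPoint_mem_of_mem hz) h

end constr

open AlgebraicGeometry in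


open AlgebraicGeometry in
open CategoryTheory in
/-- Direct assertion (the sheaf of rational functions of the integral scheme X being the direct image of
the structure sheaf of Spec of the function field under its canonical morphism to X). On an integral
scheme, a quasi-coherent torsion-free O_X-module of rank 1, i.e. whose stalk at the generic point is
one-dimensional over the function field (for instance an invertible module), is isomorphic to a
sub-O_X-module of the sheaf of rational functions. (The published statement adds a converse, which
for the zero submodule does not hold as stated; it is not included here.) -/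
theorem result
    (X : Scheme.{u}) [IsIntegral X] (F : X.Modules) [Coh.IsQCoh F] (hF : TorSh.IsTorsionFree F)
    (h1 : Module.finrank (X.presheaf.stalk (genericPoint X)) (F.presheaf.stalk (genericPoint X)) = 1) :
    ∃ i : F ⟶ (Scheme.Modules.pushforward (X.fromSpecStalk (genericPoint X))).obj
        (Coh.structureModule (Spec (X.presheaf.stalk (genericPoint X)))), Mono i := by
  haveI : F.IsQuasicoherent := ‹Coh.IsQCoh F›
  letI : Field (X.presheaf.stalk (genericPoint X)) := inferInstanceAs (Field X.functionField)
  haveI : FiniteDimensional (X.presheaf.stalk (genericPoint X))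
      (F.presheaf.stalk (genericPoint X)) :=
    Module.finite_of_finrank_pos (by rw [h1]; exact Nat.one_pos)
  have h2 : Module.finrank (X.presheaf.stalk (genericPoint X))
      (F.presheaf.stalk (genericPoint X)) =
      Module.finrank (X.presheaf.stalk (genericPoint X)) (X.presheaf.stalk (genericPoint X)) := by
    rw [h1, Module.finrank_self]
  let e := LinearEquiv.ofFinrankEq _ _ h2
  exact ⟨ι F e.toLinearMap, mono_ι F e.toLinearMap hF e.injective⟩

end Groth.Agent.S4350
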