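import Groth.Statements.S1576
import Mathlib
import Groth.Agent.Lib.CohFinite

set_option autoImplicit false
universe u
open CategoryTheory CategoryTheory.Limits AlgebraicGeometry
open Divisors

namespace Groth.Agent.S1576

open Groth.Agent.Lib.QCohStalk Groth.Agent.Lib.AssPoints in
/-- On an affine open of a locally Noetherian scheme, a coherent module has finitely many
associated points. -/
theorem finite_assPoints_affine (X : Scheme.{u}) [IsLocallyNoetherian X]
    (F : X.Modules) (hF : Coh.IsCoh F) (W : X.Opens) (hW : IsAffineOpen W) :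
    {x : X | x ∈ W ∧ Curv2.IsAssPoint F x}.Finite := by
  classical
  haveI : F.IsQuasicoherent := hF.1
  haveI : IsNoetherianRing Γ(X, W) := IsLocallyNoetherian.component_noetherian ⟨W, hW⟩
  haveI : Module.Finite Γ(X, W) Γ(F, W) := Groth.Agent.Lib.CohFinite.finite_sections_of_isCoh F hF hW
  have hfin : (associatedPrimes Γ(X, W) Γ(F, W)).Finite := associatedPrimes.finite _ _
  let g : X → Ideal Γ(X, W) := fun x =>
    if h : x ∈ W then (hW.primeIdealOf ⟨x, h⟩).asIdeal else ⊥
  refine Set.Finite.of_injOn (f := g) ?_ ?_ hfin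
  · rintro x ⟨hxW, hx⟩
    show g x ∈ associatedPrimes Γ(X, W) Γ(F, W)
    simp only [g, dif_pos hxW]
    obtain ⟨y, rfl⟩ : ∃ y : W, y.1 = x := ⟨⟨x, hxW⟩, rfl⟩
    show (hW.primeIdealOf y).asIdeal ∈ associatedPrimes Γ(X, W) Γ(F, W)
    letI := moduleSectionStalk F y
    haveI := isScalarTower_sectionStalk F y
    haveI : IsLocalizedModule (hW.primeIdealOf y).asIdeal.primeCompl (germLinear F y) :=
      isLocalizedModule_germ F hW y
    haveI := hW.isLocalization_stalk y
    have hass : IsLocalRing.maximalIdeal (X.presheaf.stalk y.1) ∈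
        associatedPrimes (X.presheaf.stalk y.1) (F.presheaf.stalk y.1) := hx
    have h1 := Module.associatedPrimes.comap_mem_associatedPrimes_of_mem_associatedPrimes_of_isLocalizedModule_of_fg
      (hW.primeIdealOf y).asIdeal.primeCompl (germLinear F y)
      (IsLocalRing.maximalIdeal (X.presheaf.stalk y.1)) hass
      ((isNoetherianRing_iff_ideal_fg _).mp inferInstance _)
    have h2 := IsLocalization.AtPrime.under_maximalIdeal (X.presheaf.stalk y.1)
      (hW.primeIdealOf y).asIdeal
    rw [Ideal.under_def] at h2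
    rwa [h2] at h1
  · rintro x ⟨hxW, -⟩ x' ⟨hxW', -⟩ hgg
    simp only [g, dif_pos hxW, dif_pos hxW'] at hgg
    have h2 : hW.primeIdealOf ⟨x, hxW⟩ = hW.primeIdealOf ⟨x', hxW'⟩ := PrimeSpectrum.ext hgg
    have h3 := hW.fromSpec_primeIdealOf ⟨x, hxW⟩
    have h4 := hW.fromSpec_primeIdealOf ⟨x', hxW'⟩
    rw [h2] at h3
    exact h3.symm.trans h4

/-- Let X be locally Noetherian and F coherent. Then the associated points of F lying in any
quasi-compact open subset form a finite set. -/
theorem result (X : Scheme.{u}) [IsLocallyNoetherian X]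
    (F : X.Modules) (hF : Coh.IsCoh F) (U : X.Opens) (hU : IsCompact (U : Set X)) :
    {x : X | x ∈ U ∧ Curv2.IsAssPoint F x}.Finite := by
  classical
  have hex : ∀ x : X, ∃ W : X.Opens, IsAffineOpen W ∧ x ∈ W := by
    intro x
    obtain ⟨_, ⟨W, hW, rfl⟩, hx, -⟩ :=
      (X.isBasis_affineOpens).exists_subset_of_mem_open (Set.mem_univ x) isOpen_univ
    exact ⟨W, hW, hx⟩
  choose W hW hxW using hex
  obtain ⟨t, -, ht⟩ := hU.elim_nhds_subcover (fun x => (W x : Set X))
    (fun x _ => (W x).2.mem_nhds (hxW x))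
  have hfin : (⋃ x ∈ t, {y : X | y ∈ W x ∧ Curv2.IsAssPoint F y}).Finite :=
    Set.Finite.biUnion t.finite_toSet (fun x _ => finite_assPoints_affine X F hF (W x) (hW x))
  refine hfin.subset ?_
  rintro y ⟨hyU, hy⟩
  obtain ⟨x, hxt, hyx⟩ := Set.mem_iUnion₂.mp (ht hyU)
  exact Set.mem_iUnion₂.mpr ⟨x, hxt, hyx, hy⟩

end Groth.Agent.S1576
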