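import Groth.Statements.S1647
import Groth.Agent.Lib.H4GlobGen
import Groth.Agent.S0022
import Groth.Agent.Lib.CohFinAmple
import Groth.Agent.Lib.H4ProjSpaceCoh
import Groth.Agent.Lib.H90Invertible
import Groth.Agent.Lib.ProjSpaceFin
import Groth.Agent.Lib.H4TwistUnit
-- import your own Groth.Agent.* helpers here

set_option autoImplicit false
universe u
open CategoryTheory CategoryTheory.Limits AlgebraicGeometry
open Variety

namespace Groth.Agent.S1647


/-- `O(d) ⊗ O(-d) ≅ O` on `P^n_R`. -/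
theorem nonempty_twist_inv (n : ℕ) (R : Type u) [CommRing R] (d : ℤ) :
    Nonempty (CohB1.tensorMod (Twist.twistProjSpace n R d) (Twist.twistProjSpace n R (-d)) ≅
      Coh.structureModule (CohB1.ProjSpace n R)) := by
  obtain ⟨e0⟩ := Groth.Agent.Lib.H4Twist.nonempty_twistZeroIso (CohB1.polyGrading n R)
  exact ⟨Groth.Agent.Lib.H4Twist.twistMulIso_of_cover (CohB1.polyGrading n R)
    (Groth.Agent.Lib.ProjSpaceFin.hcov n R) d (-d) ≪≫
      CategoryTheory.eqToIso (congrArg (Twist.twist (CohB1.polyGrading n R)) (by ring)) ≪≫ e0⟩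

/-- Let F be a coherent module on P^n_k which is m-regular. Then F(m) = F ⊗ O(m) is globally generated. -/
theorem result (k : Type u) [Field k] (n : ℕ) (F : (CohB1.ProjSpace n k).Modules) (hF : Coh.IsCoh F) (m : ℤ)
    (h : Curv2.IsMRegular k n F m) : Curv2.IsGloballyGenerated (CohB1.tensorMod F (Twist.twistProjSpace n k m)) := by

  classical
  have := hF.1
  -- coherence of the twists
  have hcoh : ∀ d : ℤ, Coh.IsCoh (CohB1.tensorMod F (Twist.twistProjSpace n k d)) := fun d =>
    Groth.Agent.Lib.CohFinAmple.isCoh_tensorMod hF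
      (Groth.Agent.Lib.H90Invertible.isCoh_of_isInvertible
        (Groth.Agent.Lib.H4Twist.isInvertible_twistProjSpace n k d))
  -- vanishing for all `i ≥ 1`
  have hall : ∀ i : ℕ, 1 ≤ i → Subsingleton (Coh.HH (CohB1.ProjSpace n k)
      (CohB1.tensorMod F (Twist.twistProjSpace n k (m - i))) i) := by
    intro i hi
    by_cases hin : i ≤ n
    · exact h i hi hin
    · have := (hcoh (m - i)).1
      exact Groth.Agent.S0022.result n k _ i (by omega)
  -- vanishing for `M = F(m)`
  have hv : ∀ (t i : ℕ), 1 ≤ i → i ≤ n → Subsingleton (Coh.HH (CohB1.ProjSpace n k)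
      (CohB1.tensorMod (CohB1.tensorMod F (Twist.twistProjSpace n k m))
        (Twist.twistProjSpace n k ((t : ℤ) - i))) i) := by
    intro t i hi _
    obtain ⟨e⟩ := Groth.Agent.Lib.H4MulSurj.nonempty_twist_twist n k F m ((t : ℤ) - i) (m + t - i) (by ring)
    have := Groth.Agent.Lib.H4Regularity.regular_of_le n k F m hall i (m + t - i) hi (by omega)
    exact Groth.Agent.Lib.H4Twist.subsingleton_HH_of_iso e i
  -- Serre's theorem
  have hcpt : CompactSpace (AlgebraicGeometry.Proj (CohB1.polyGrading n k)) :=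
    (Groth.Agent.Lib.ProjSpaceFin.isAmple_twist_one n k).2.1
  obtain ⟨r, hr⟩ := Groth.Agent.Lib.H78GlobGen2.isGloballyGenerated_twist
    (Groth.Agent.Lib.ProjSpaceFin.isAmple_twist_one n k)
    (CohB1.tensorMod F (Twist.twistProjSpace n k m)) (hcoh m)
  obtain ⟨K, p, hp⟩ := hr r le_rfl
  obtain ⟨e1⟩ := Groth.Agent.Lib.H4Twist.nonempty_twistPowIso_of_cover (CohB1.polyGrading n k)
    (Groth.Agent.Lib.ProjSpaceFin.hcov n k) r
  have hgen : Curv2.IsGloballyGenerated (CohB1.tensorMod (CohB1.tensorMod F (Twist.twistProjSpace n k m))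
      (Twist.twistProjSpace n k (r : ℤ))) :=
    ⟨K, p ≫ (Groth.Agent.Lib.OXModTensor.tensorModIso (Iso.refl _) e1.symm).hom,
      @epi_comp _ _ _ _ _ p hp _ inferInstance⟩
  obtain ⟨e2⟩ := nonempty_twist_inv n k (r : ℤ)
  exact Groth.Agent.Lib.H4GlobGen.isGloballyGenerated_of_tensor e2 hgen
    (Groth.Agent.Lib.H4GlobGen.mem_closure_tmul n k _ hv r)

end Groth.Agent.S1647
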