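import Groth.Statements.S11296
import Groth.Agent.Lib.H4Mumford3
import Groth.Agent.S0022
import Groth.Agent.Lib.CohFinAmple
import Groth.Agent.Lib.H90Invertible
import Groth.Agent.Lib.H90OXModExact
import Groth.Agent.Lib.GradedNoetherian
import Groth.Agent.Lib.ProjSpaceFin
import Groth.Agent.Lib.SerreVanPN
-- import your own Groth.Agent.* helpers here

set_option autoImplicit false
universe u
open CategoryTheory CategoryTheory.Limits AlgebraicGeometry
open Variety

namespace Groth.Agent.S11296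

/-- Let k be an algebraically closed field, F a coherent module on P^n_k, and 0 → F(-1) → F → G → 0 an
exact sequence, G being the cokernel of a monomorphism ι : F ⊗ O(-1) → F; write F(j) = F ⊗ O(j) and
h^1 for dim_k H^1. If G is m-regular then: (i) H^i(P^n, F(j)) = 0 for all i ≥ 2 and j ≥ m - i; (ii)
h^1(F(j)) ≤ h^1(F(j-1)) for all j ≥ m - 1; (iii) H^1(P^n, F(j)) = 0 for all j ≥ m - 1 + h^1(F(m-1));
in particular F is (m + h^1(F(m-1)))-regular. -/
theorem result (k : Type u) [Field k] [IsAlgClosed k] (n : ℕ)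
    (F : (CohB1.ProjSpace n k).Modules) (hF : Coh.IsCoh F)
    (ι : CohB1.tensorMod F (Twist.twistProjSpace n k (-1)) ⟶ F) [Mono ι] (m : ℤ)
    (hG : Curv2.IsMRegular k n (cokernel ι) m) :
    (∀ (i : ℕ) (j : ℤ), 2 ≤ i → m - i ≤ j →
        Subsingleton (Coh.HH (CohB1.ProjSpace n k) (CohB1.tensorMod F (Twist.twistProjSpace n k j)) i)) ∧
    (∀ j : ℤ, m - 1 ≤ j →
        Module.finrank k (Coh.HH (CohB1.ProjSpace n k) (CohB1.tensorMod F (Twist.twistProjSpace n k j)) 1) ≤
          Module.finrank k (Coh.HH (CohB1.ProjSpace n k) (CohB1.tensorMod F (Twist.twistProjSpace n k (j - 1))) 1)) ∧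
    (∀ j : ℤ, m - 1 + (Module.finrank k (Coh.HH (CohB1.ProjSpace n k)
          (CohB1.tensorMod F (Twist.twistProjSpace n k (m - 1))) 1) : ℤ) ≤ j →
        Subsingleton (Coh.HH (CohB1.ProjSpace n k) (CohB1.tensorMod F (Twist.twistProjSpace n k j)) 1)) ∧
    Curv2.IsMRegular k n F (m + Module.finrank k (Coh.HH (CohB1.ProjSpace n k)
        (CohB1.tensorMod F (Twist.twistProjSpace n k (m - 1))) 1)) := by

  have := hF.1
  haveI : IsLocallyNoetherian (CohB1.ProjSpace n k) := by
    haveI : IsNoetherian (AlgebraicGeometry.Proj (CohB1.polyGrading n k)) :=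
      Groth.Agent.Lib.GradedNoetherian.proj_isNoetherian (CohB1.polyGrading n k)
    exact inferInstanceAs (IsLocallyNoetherian (AlgebraicGeometry.Proj (CohB1.polyGrading n k)))
  have hcohO : ∀ d : ℤ, Coh.IsCoh (Twist.twistProjSpace n k d) := fun d =>
    Groth.Agent.Lib.H90Invertible.isCoh_of_isInvertible
      (Groth.Agent.Lib.H4Twist.isInvertible_twistProjSpace n k d)
  have hFtw : ∀ d : ℤ, Coh.IsCoh (CohB1.tensorMod F (Twist.twistProjSpace n k d)) := fun d =>
    Groth.Agent.Lib.CohFinAmple.isCoh_tensorMod hF (hcohO d)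
  -- the cokernel is coherent
  have := (hFtw (-1)).1
  have hGcoh : Coh.IsCoh (cokernel ι) := Groth.Agent.Lib.H90OXModExact.isCoh_cokernel ι hF
  have hallG : ∀ i : ℕ, 1 ≤ i → Subsingleton (Coh.HH (CohB1.ProjSpace n k)
      (CohB1.tensorMod (cokernel ι) (Twist.twistProjSpace n k (m - i))) i) := by
    intro i hi
    by_cases hin : i ≤ n
    · exact hG i hi hin
    · have := (Groth.Agent.Lib.CohFinAmple.isCoh_tensorMod hGcoh (hcohO (m - i))).1
      exact Groth.Agent.S0022.result n k _ i (by omega)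
  have hG' : ∀ (q : ℕ), 1 ≤ q → ∀ r : ℤ, m - q ≤ r → Subsingleton (Coh.HH (CohB1.ProjSpace n k)
      (CohB1.tensorMod (cokernel ι) (Twist.twistProjSpace n k r)) q) := fun q hq r hr =>
    Groth.Agent.Lib.H4Regularity.regular_of_le n k (cokernel ι) m hallG q r hq hr
  have hSerre := Groth.Agent.Lib.SerreVanPN.serre_vanishing n k F hF
  have hfin : ∀ j : ℤ, Module.Finite k (Coh.HH (CohB1.ProjSpace n k)
      (CohB1.tensorMod F (Twist.twistProjSpace n k j)) 1) := fun j =>
    Groth.Agent.Lib.ProjSpaceFin.finite_HH_projSpace n k _ (hFtw j) 1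
  -- (i)
  have h1 := Groth.Agent.Lib.H4Mumford.subsingleton_HH_high n k ι m hSerre hG'
  -- (ii)
  have h2 : ∀ j : ℤ, m - 1 ≤ j →
      Module.finrank k (Coh.HH (CohB1.ProjSpace n k) (CohB1.tensorMod F (Twist.twistProjSpace n k j)) 1) ≤
        Module.finrank k (Coh.HH (CohB1.ProjSpace n k)
          (CohB1.tensorMod F (Twist.twistProjSpace n k (j - 1))) 1) := by
    intro j hj
    have := hfin (j - 1)
    exact LinearMap.finrank_le_finrank_of_surjective
      (Groth.Agent.Lib.H4Mumford.cmp_surjective n k ι j (hG' 1 le_rfl j (by omega)))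
  -- (iii)
  have h3 : ∀ j : ℤ, m - 1 + (Module.finrank k (Coh.HH (CohB1.ProjSpace n k)
        (CohB1.tensorMod F (Twist.twistProjSpace n k (m - 1))) 1) : ℤ) ≤ j →
      Subsingleton (Coh.HH (CohB1.ProjSpace n k) (CohB1.tensorMod F (Twist.twistProjSpace n k j)) 1) := by
    intro j hj
    have h0 := Groth.Agent.Lib.H4Mumford.eq_zero_of_strict_decrease
      (fun j => Module.finrank k (Coh.HH (CohB1.ProjSpace n k)
        (CohB1.tensorMod F (Twist.twistProjSpace n k j)) 1)) m h2
      (fun j hj heq => by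
        have := Groth.Agent.Lib.H4Mumford.subsingleton_of_finrank_eq n k ι m hfin hSerre hG' j hj heq
        exact Module.finrank_zero_of_subsingleton) j hj
    have := hfin j
    exact Module.finrank_zero_iff.1 h0
  refine ⟨h1, h2, h3, ?_⟩
  intro i hi _
  rcases Nat.lt_or_ge i 2 with hlt | hge
  · obtain rfl : i = 1 := by omega
    exact h3 _ (by push_cast; omega)
  · exact h1 i _ hge (by push_cast; omega)

end Groth.Agent.S11296
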