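import Groth.Statements.S16627
import Groth.Agent.Lib.TwistEquiv
import Groth.Agent.Lib.ProjSpaceFin
import Groth.Agent.Lib.CohLESExact
import Groth.Agent.Lib.H4ProjSpaceCoh
import Groth.Agent.S0022
-- import your own Groth.Agent.* helpers here

set_option autoImplicit false
universe u
open Variety

namespace Groth.Agent.S16627


/-- `O(d) ⊗ O(-d) ≅ O` on `P^n_R`. -/
theorem nonempty_twist_inv (n : ℕ) (R : Type u) [CommRing R] (d : ℤ) :
    Nonempty (CohB1.tensorMod (Twist.twistProjSpace n R d) (Twist.twistProjSpace n R (-d)) ≅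
      Coh.structureModule (CohB1.ProjSpace n R)) := by
  obtain ⟨e0⟩ := Groth.Agent.Lib.H4Twist.nonempty_twistZeroIso (CohB1.polyGrading n R)
  exact ⟨Groth.Agent.Lib.H4Twist.twistMulIso_of_cover (CohB1.polyGrading n R)
    (Groth.Agent.Lib.ProjSpaceFin.hcov n R) d (-d) ≪≫
      CategoryTheory.eqToIso (congrArg (Twist.twist (CohB1.polyGrading n R)) (by ring)) ≪≫ e0⟩

/-- `(F ⊗ O(a)) ⊗ O(b) ≅ F ⊗ O(c)` for `a + b = c`. -/
theorem nonempty_twist_twist (n : ℕ) (R : Type u) [CommRing R] (F : (CohB1.ProjSpace n R).Modules)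
    (a b c : ℤ) (h : a + b = c) :
    Nonempty (CohB1.tensorMod (CohB1.tensorMod F (Twist.twistProjSpace n R a)) (Twist.twistProjSpace n R b) ≅
      CohB1.tensorMod F (Twist.twistProjSpace n R c)) :=
  ⟨Groth.Agent.Lib.OXModTensor.associator _ _ _ ≪≫
    Groth.Agent.Lib.OXModTensor.tensorModIso (CategoryTheory.Iso.refl F)
      (Groth.Agent.Lib.H4Twist.twistMulIso_of_cover (CohB1.polyGrading n R)
        (Groth.Agent.Lib.ProjSpaceFin.hcov n R) a b ≪≫
        CategoryTheory.eqToIso (congrArg (Twist.twist (CohB1.polyGrading n R)) h))⟩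

open AlgebraicGeometry CategoryTheory CategoryTheory.Limits in
/-- Let k be a field, F a coherent module on projective n-space P^n_k which is m-regular, and ι : F ⊗
O(-1) → F a monomorphism of O-modules (such as multiplication by a linear form that is a
nonzerodivisor on F, i.e. a hyperplane avoiding the associated points of F). Then the cokernel of ι
— the restriction of F to the hyperplane, as a module on P^n_k — is again m-regular. (Stated for an
arbitrary monomorphism F(-1) → F and an arbitrary ground field.) -/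
theorem result (k : Type u) [Field k] (n : ℕ)
    (F : (CohB1.ProjSpace n k).Modules) (hF : Coh.IsCoh F) (m : ℤ) (hreg : Curv2.IsMRegular k n F m)
    (ι : CohB1.tensorMod F (Twist.twistProjSpace n k (-1)) ⟶ F) [Mono ι] :
    Curv2.IsMRegular k n (cokernel ι) m := by

  intro i hi1 hin
  have hex : (ShortComplex.mk ι (cokernel.π ι) (cokernel.condition ι)).ShortExact :=
    { exact := ShortComplex.exact_cokernel ι }
  obtain ⟨e⟩ := nonempty_twist_inv n k (m - i)
  have hT := Groth.Agent.Lib.TwistEquiv.shortExact_map_tensorRight e hex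
  obtain ⟨e1⟩ := nonempty_twist_twist n k F (-1) (m - i) (m - (i + 1 : ℕ)) (by push_cast; ring)
  -- `H^i` of the middle term vanishes
  have h2 : Subsingleton (Coh.HH (CohB1.ProjSpace n k)
      ((ShortComplex.mk ι (cokernel.π ι) (cokernel.condition ι)).map
        (Groth.Agent.Lib.TwistEquiv.tensorRightFunctor (Twist.twistProjSpace n k (m - i)))).X₂ i) :=
    hreg i hi1 hin
  -- `H^{i+1}` of the left term vanishes
  have h1 : Subsingleton (Coh.HH (CohB1.ProjSpace n k)
      ((ShortComplex.mk ι (cokernel.π ι) (cokernel.condition ι)).map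
        (Groth.Agent.Lib.TwistEquiv.tensorRightFunctor (Twist.twistProjSpace n k (m - i)))).X₁ (i + 1)) := by
    have h1' : Subsingleton (Coh.HH (CohB1.ProjSpace n k)
        (CohB1.tensorMod F (Twist.twistProjSpace n k (m - (i + 1 : ℕ)))) (i + 1)) := by
      by_cases hlt : i + 1 ≤ n
      · exact hreg (i + 1) (by omega) hlt
      · have hq : Coh.IsQCoh (CohB1.tensorMod F (Twist.twistProjSpace n k (m - (i + 1 : ℕ)))) :=
          (Groth.Agent.Lib.CohFinAmple.isCoh_tensorMod hF
            (Groth.Agent.Lib.H90Invertible.isCoh_of_isInvertible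
              (Groth.Agent.Lib.H4Twist.isInvertible_twistProjSpace n k _))).1
        exact Groth.Agent.S0022.result n k _ (i + 1) (by omega)
    exact Groth.Agent.Lib.H4Twist.subsingleton_HH_of_iso e1 (i + 1)
  exact Groth.Agent.Lib.CohLES.subsingleton_right hT i

end Groth.Agent.S16627
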