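-- Statement S5924.
import Groth.Statements.S5924
import Groth.Agent.S2594
import Mathlib

set_option autoImplicit false
open CategoryTheory AlgebraicGeometry
universe u
open EGA43

namespace Groth.Agent.S5924

open Groth.Agent.Lib.H30GenFib Groth.Agent.S2594

/-- membership in a basic open of an affine open in terms of the prime ideal of the point -/
theorem mem_basicOpen_iff {X : Scheme.{u}} {U : X.Opens} (hU : IsAffineOpen U) (g : Γ(X, U))
    (z : X) (hz : z ∈ U) :
    z ∈ X.basicOpen g ↔ g ∉ (hU.primeIdealOf ⟨z, hz⟩).asIdeal := by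
  have h1 : hU.fromSpec (hU.primeIdealOf ⟨z, hz⟩) = z := hU.fromSpec_primeIdealOf ⟨z, hz⟩
  have h2 : hU.fromSpec ⁻¹ᵁ X.basicOpen g = PrimeSpectrum.basicOpen g :=
    hU.fromSpec_preimage_basicOpen g
  constructor
  · intro h
    have h3 : hU.primeIdealOf ⟨z, hz⟩ ∈ hU.fromSpec ⁻¹ᵁ X.basicOpen g := by
      show hU.fromSpec (hU.primeIdealOf ⟨z, hz⟩) ∈ X.basicOpen g
      rw [h1]; exact h
    rw [h2] at h3
    exact h3
  · intro h
    have h3 : hU.primeIdealOf ⟨z, hz⟩ ∈ hU.fromSpec ⁻¹ᵁ X.basicOpen g := by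
      rw [h2]; exact h
    have h4 : hU.fromSpec (hU.primeIdealOf ⟨z, hz⟩) ∈ X.basicOpen g := h3
    rw [h1] at h4
    exact h4

/-- containment of prime ideals of points of an affine open gives specialization -/
theorem specializes_of_primeIdealOf_le {X : Scheme.{u}} {U : X.Opens} (hU : IsAffineOpen U)
    (x z : X) (hx : x ∈ U) (hz : z ∈ U)
    (h : (hU.primeIdealOf ⟨x, hx⟩).asIdeal ≤ (hU.primeIdealOf ⟨z, hz⟩).asIdeal) : x ⤳ z := by
  have h1 : hU.primeIdealOf ⟨x, hx⟩ ⤳ hU.primeIdealOf ⟨z, hz⟩ :=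
    (PrimeSpectrum.le_iff_specializes _ _).mp h
  have h2 := h1.map hU.fromSpec.continuous
  rw [hU.fromSpec_primeIdealOf, hU.fromSpec_primeIdealOf] at h2
  exact h2

/-- **prime avoidance on an affine open**: a section vanishing at `x` and invertible at finitely
many points none of which is a specialization of `x` -/
theorem exists_section_vanishing_avoiding {X : Scheme.{u}} {U : X.Opens} (hU : IsAffineOpen U)
    (x : X) (hx : x ∈ U) (M : Set X) (hM : M.Finite) (hMU : M ⊆ U) (hsp : ∀ z ∈ M, ¬ x ⤳ z) :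
    ∃ g : Γ(X, U), x ∉ X.basicOpen g ∧ ∀ z ∈ M, z ∈ X.basicOpen g := by
  classical
  let q : X → Ideal Γ(X, U) := fun z =>
    if hz : z ∈ U then (hU.primeIdealOf ⟨z, hz⟩).asIdeal else ⊤
  have hq : ∀ z (hz : z ∈ U), q z = (hU.primeIdealOf ⟨z, hz⟩).asIdeal := by
    intro z hz
    simp only [q, dif_pos hz]
  have hprime : ∀ i ∈ hM.toFinset, i ≠ x → i ≠ x → (q i).IsPrime := by
    intro i hi _ _
    have hiU : i ∈ U := hMU (hM.mem_toFinset.mp hi)
    rw [hq i hiU]
    exact (hU.primeIdealOf ⟨i, hiU⟩).isPrime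
  have key := Ideal.subset_union_prime (s := hM.toFinset) (f := q) x x hprime (I := q x)
  have hnot : ¬ ∃ i ∈ hM.toFinset, q x ≤ q i := by
    rintro ⟨i, hi, hle⟩
    have hiM : i ∈ M := hM.mem_toFinset.mp hi
    have hiU : i ∈ U := hMU hiM
    rw [hq x hx, hq i hiU] at hle
    exact hsp i hiM (specializes_of_primeIdealOf_le hU x i hx hiU hle)
  rw [← key, Set.not_subset] at hnot
  obtain ⟨g, hgx, hg⟩ := hnot
  refine ⟨g, ?_, ?_⟩
  · rw [mem_basicOpen_iff hU g x hx, not_not, ← hq x hx]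
    exact hgx
  · intro z hzM
    have hzU := hMU hzM
    rw [mem_basicOpen_iff hU g z hzU, ← hq z hzU]
    intro hcon
    apply hg
    simp only [Set.mem_iUnion]
    exact ⟨z, hM.mem_toFinset.mpr hzM, hcon⟩

/-- the maximal points of a fibre lying in an affine open mapping into an affine open are finite in
number -/
theorem finite_max_fibre {X Y : Scheme.{u}} (f : X ⟶ Y) [LocallyOfFiniteType f] (y : Y)
    (U : X.Opens) (V : Y.Opens) (hU : IsAffineOpen U) (hV : IsAffineOpen V) (hle : U ≤ f ⁻¹ᵁ V) :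
    {z : X | z ∈ U ∧ f z = y ∧ ∀ z' : X, f z' = y → z' ⤳ z → z' = z}.Finite := by
  by_cases hy : y ∈ V
  swap
  · refine Set.Finite.subset Set.finite_empty ?_
    rintro z ⟨hzU, hzy, -⟩
    exact absurd (hzy ▸ hle hzU) hy
  haveI : IsAffine U.toScheme := hU
  haveI : IsAffine V.toScheme := hV
  let h : U.toScheme ⟶ V.toScheme := f.resLE V U hle
  have hh : h ≫ V.ι = U.ι ≫ f := f.resLE_comp_ι hle
  let y' : V.toScheme := ⟨y, hy⟩
  haveI : LocallyOfFiniteType h := by
    show LocallyOfFiniteType (f.resLE V U hle)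
    infer_instance
  haveI : LocallyOfFiniteType (h.fiberToSpecResidueField y') :=
    inferInstanceAs (LocallyOfFiniteType
      (Limits.pullback.snd h (V.toScheme.fromSpecResidueField y')))
  haveI : IsLocallyNoetherian (h.fiber y') :=
    LocallyOfFiniteType.isLocallyNoetherian (h.fiberToSpecResidueField y')
  haveI : IsNoetherian (h.fiber y') := {}
  have hfin := finite_isMax (h.fiber y')
  refine (hfin.image (fun w => U.ι (h.fiberι y' w))).subset ?_
  rintro z ⟨hzU, hzy, hzmax⟩
  obtain ⟨zU, rfl⟩ : z ∈ Set.range U.ι := by rw [Scheme.Opens.range_ι]; exact hzU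
  have hhz : h zU = y' := by
    apply V.ι.isOpenEmbedding.injective
    rw [← Scheme.Hom.comp_apply, hh, Scheme.Hom.comp_apply]
    exact hzy
  obtain ⟨w, rfl⟩ : zU ∈ Set.range (h.fiberι y') := by rw [h.range_fiberι]; exact hhz
  refine ⟨w, ?_, rfl⟩
  intro w' hw'
  have h1 : U.ι (h.fiberι y' w') ⤳ U.ι (h.fiberι y' w) :=
    (hw'.map (h.fiberι y').continuous).map U.ι.continuous
  have h2 : f (U.ι (h.fiberι y' w')) = y := by
    rw [← Scheme.Hom.comp_apply, ← hh, Scheme.Hom.comp_apply]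
    have h3 : h (h.fiberι y' w') = y' := by
      have : h.fiberι y' w' ∈ Set.range (h.fiberι y') := ⟨w', rfl⟩
      rw [h.range_fiberι] at this
      exact this
    rw [h3]
    rfl
  have h4 := hzmax _ h2 h1
  exact (h.fiberι y').isEmbedding.injective (U.ι.isOpenEmbedding.injective h4)

theorem main {X Y : Scheme.{u}} [IrreducibleSpace Y]
    [IsLocallyNoetherian Y] (f : X ⟶ Y) [LocallyOfFiniteType f] (x : X) (_hf : EGA43.IsEquidimAt f x)
    (hx : ∃ x' : X, f.base x' = f.base x ∧ x' ≠ x ∧ x ∈ closure ({x'} : Set X)) :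
    ∃ U : X.Opens, IsAffineOpen U ∧ x ∈ U ∧ ∃ g : Γ(X, U), x ∉ X.basicOpen g ∧
      ∀ z : X, f.base z = f.base x → (∀ z' : X, f.base z' = f.base x → z ∈ closure ({z'} : Set X) → z' = z) →
        z ∈ U → z ∈ X.basicOpen g := by
  obtain ⟨x', hx'y, hx'ne, hx'sp⟩ := hx
  obtain ⟨_, ⟨V, hV, rfl⟩, hxV, -⟩ :=
    Y.isBasis_affineOpens.exists_subset_of_mem_open (Set.mem_univ (f x)) isOpen_univ
  obtain ⟨_, ⟨U, hU, rfl⟩, hxU, hUV⟩ :=
    X.isBasis_affineOpens.exists_subset_of_mem_open hxV (V.2.preimage f.continuous)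
  replace hUV : U ≤ f ⁻¹ᵁ V := hUV
  have hfin := finite_max_fibre f (f x) U V hU hV hUV
  obtain ⟨g, hgx, hg⟩ := exists_section_vanishing_avoiding hU x hxU _ hfin (fun z hz => hz.1) (by
    rintro z ⟨-, hzy, hzmax⟩ hsp
    have h1 : x' ⤳ x := specializes_iff_mem_closure.mpr hx'sp
    have h2 := hzmax x' hx'y (h1.trans hsp)
    have h3 := hzmax x rfl hsp
    exact hx'ne (h2.trans h3.symm))
  refine ⟨U, hU, hxU, g, hgx, ?_⟩
  intro z hzy hzmax hzU
  exact hg z ⟨hzU, hzy, fun z' hz' hsp => hzmax z' hz' (specializes_iff_mem_closure.mp hsp)⟩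

/-- Let Y be an irreducible locally Noetherian scheme, f : X ⟶ Y a morphism locally of finite type which
is equidimensional at the point x, and suppose that x is not a maximal point of its fibre f⁻¹(f x),
i.e. some point of the fibre other than x specializes to x. Then there exist an affine open
neighbourhood U of x and a section g of O_X over U such that g vanishes at x (x is not in the basic
open set of g) while every maximal point of f⁻¹(f x) lying in U is in the basic open set of g. -/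
theorem result {X Y : Scheme.{u}} [IrreducibleSpace Y]
    [IsLocallyNoetherian Y] (f : X ⟶ Y) [LocallyOfFiniteType f] (x : X) (hf : EGA43.IsEquidimAt f x)
    (hx : ∃ x' : X, f.base x' = f.base x ∧ x' ≠ x ∧ x ∈ closure ({x'} : Set X)) :
    ∃ U : X.Opens, IsAffineOpen U ∧ x ∈ U ∧ ∃ g : Γ(X, U), x ∉ X.basicOpen g ∧
      ∀ z : X, f.base z = f.base x → (∀ z' : X, f.base z' = f.base x → z ∈ closure ({z'} : Set X) → z' = z) →
        z ∈ U → z ∈ X.basicOpen g := by
  exact main f x hf hx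

end Groth.Agent.S5924
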