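import Groth.Statements.S4945
import Groth.Agent.S4934
import Groth.Agent.Lib.H80QuasiSecGU
import Groth.Agent.Lib.H80UnivOpenSpecialize
import Groth.Agent.Lib.H80Max5
import Groth.Agent.Lib.H80PolyGU6

set_option autoImplicit false
open CategoryTheory AlgebraicGeometry
universe u v w
open EGA43

namespace Groth.Agent.S4945

/-- Let Y be an irreducible locally Noetherian scheme with generic point η, f : X ⟶ Y a morphism locally
of finite type and y a geometrically unibranch point of Y. The following are equivalent: a) f is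
universally open at every point of X_y; b) f is open at every point of X_y; c) for every maximal
point z of X_y there is an irreducible component Z of X containing z and dominating Y with dim_z(Z ∩
X_y) = dim(Z ∩ X_η); d) for every point x closed in X_y there are an irreducible reduced scheme T
and an immersion T ⟶ X with image containing x such that T ⟶ Y is quasi-finite and dominant. -/
theorem result {X Y : Scheme.{u}} [IrreducibleSpace Y]
    [IsLocallyNoetherian Y] (f : X ⟶ Y) [LocallyOfFiniteType f] (y : Y) (hy : CAlg2.IsGeomUnibranch (Y.presheaf.stalk y)) :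
    List.TFAE [∀ x : X, f.base x = y → EGA43.IsUnivOpenAt f x,
      ∀ x : X, f.base x = y → EGA43.IsOpenAt f.base x,
      ∀ z : X, ∀ hzy : f.base z = y, (∀ z' : X, f.base z' = y → z ∈ closure {z'} → z' = z) →
        ∃ Z ∈ irreducibleComponents (X : Type u), ∃ hz : z ∈ Z, Dense (f.base '' Z) ∧
          FlatMor.localDim ↥(Z ∩ f.base ⁻¹' {y}) ⟨z, ⟨hz, hzy⟩⟩ = topologicalKrullDim ↥(Z ∩ f.base ⁻¹' {genericPoint Y}),
      ∀ x : X, f.base x = y → (∀ x' : X, f.base x' = y → x ⤳ x' → x' = x) →
        ∃ (T : Scheme.{u}) (i : T ⟶ X), IsImmersion i ∧ IrreducibleSpace ↥T ∧ IsReduced T ∧ x ∈ Set.range i.base ∧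
        LocallyOfFiniteType (i ≫ f) ∧ LocallyQuasiFinite (i ≫ f) ∧ QuasiCompact (i ≫ f) ∧ IsDominant (i ≫ f)] := by
  have hlfp : LocallyOfFinitePresentation f :=
    LocallyOfFinitePresentation.iff_locallyOfFiniteType.mpr inferInstance
  have huniv : irreducibleComponents (Y : Type u) = {Set.univ} := irreducibleComponents_eq_singleton
  tfae_have 1 → 2 := fun h x hx =>
    Groth.Agent.Lib.H80Max.isOpenAt_of_isUnivOpenAt f x (h x hx)
  tfae_have 2 → 3 := by
    intro hb z hzy hzmax
    subst hzy
    have tfae := Groth.Agent.S4934.result f z hzmax hy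
    have hb' := (tfae.out 3 1).mp (hb z rfl)
    obtain ⟨Z, hZ, hz, hclos, hall⟩ := hb' Set.univ (by rw [huniv]; rfl) (Set.mem_univ _)
    refine ⟨Z, hZ, hz, dense_iff_closure_eq.mpr hclos, ?_⟩
    exact hall (genericPoint Y) (genericPoint_spec Y).def
  tfae_have 3 → 1 := by
    intro hc x hx
    subst hx
    obtain ⟨w, hfw, hwx, hwmax, -⟩ := Groth.Agent.Lib.H30IrrFib.exists_rt_eq_fibreDimAt f x
    have hwmax' : ∀ x' : X, f.base x' = f.base w → w ∈ closure {x'} → x' = w :=
      fun x' hx' hcl => hwmax x' (hx'.trans hfw) (specializes_iff_mem_closure.mpr hcl)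
    have hyw : CAlg2.IsGeomUnibranch (Y.presheaf.stalk (f.base w)) :=
      (Groth.Agent.Lib.H80PolyGU.isGeomUnibranch_stalk_congr hfw).mpr hy
    have tfae := Groth.Agent.S4934.result f w hwmax' hyw
    obtain ⟨Z, hZ, hz, hdense, hdim⟩ := hc w hfw
      (fun z' hz' hcl => hwmax z' hz' (specializes_iff_mem_closure.mpr hcl))
    have hU : EGA43.IsUnivOpenAt f w := by
      refine (tfae.out 1 0).mp ?_
      intro Y₀ hY₀ _
      rw [huniv] at hY₀
      have hY₀' : Y₀ = Set.univ := hY₀
      subst hY₀'
      refine ⟨Z, hZ, hz, hdense.closure_eq, ?_⟩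
      intro η hη
      have hη' : η = genericPoint Y :=
        (show IsGenericPoint η (Set.univ : Set Y) from hη).eq (genericPoint_spec Y)
      subst hη'
      rw [Groth.Agent.Lib.H80QuasiSecGU.localDim_inter_congr f Z w hz (f.base x) hfw]
      exact hdim
    exact Groth.Agent.Lib.H80UnivOpenSpecialize.isUnivOpenAt_of_specializes f w x hwx hfw hU
  tfae_have 3 → 4 := by
    intro hc x hx hcl
    subst hx
    exact Groth.Agent.Lib.H80QuasiSecGU.exists_quasiSection_of_component f x hcl
      (fun z hzy hzmax => hc z hzy hzmax)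
  tfae_have 4 → 2 := fun hd x hx =>
    Groth.Agent.Lib.H80QuasiSecGU.isOpenAt_of_quasiSections f y hy.1 hd x hx
  tfae_finish

end Groth.Agent.S4945
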