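import Groth.Statements.S12716
import Groth.Agent.Lib.ArtFunSurj
import Mathlib.LinearAlgebra.Dual.Lemmas
import Mathlib.Algebra.Module.Torsion.Basic

set_option autoImplicit false
universe u v
open CategoryTheory
open ArtFun

namespace Groth.Agent.S12716

open IsLocalRing in
theorem exists_functional {S k : Type u} [CommRing S] [IsLocalRing S] [Field k] [Algebra S k]
    (hker : ∀ s : S, s ∈ maximalIdeal S → algebraMap S k s = 0)
    (N : Ideal S) (hN : maximalIdeal S ^ 2 ≤ N) (x₀ : S) (hx₀ : x₀ ∈ maximalIdeal S)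
    (hx₀N : x₀ ∉ N) :
    ∃ φ : maximalIdeal S →ₗ[S] k,
      (∀ x (hx : x ∈ maximalIdeal S), x ∈ N → φ ⟨x, hx⟩ = 0) ∧ φ ⟨x₀, hx₀⟩ ≠ 0 := by
  let N' : Submodule S (maximalIdeal S) := Submodule.comap (maximalIdeal S).subtype N
  have hM : Module.IsTorsionBySet S ((maximalIdeal S) ⧸ N') (maximalIdeal S : Set S) := by
    intro m a
    obtain ⟨y, rfl⟩ := N'.mkQ_surjective m
    rw [← map_smul, Submodule.mkQ_apply, Submodule.Quotient.mk_eq_zero]
    change ((a : S) • y : maximalIdeal S).1 ∈ N
    apply hN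
    rw [sq]
    exact Ideal.mul_mem_mul a.2 y.2
  let _ : Module (S ⧸ maximalIdeal S) ((maximalIdeal S) ⧸ N') := hM.module
  let _ : Field (S ⧸ maximalIdeal S) := Ideal.Quotient.field (maximalIdeal S)
  have hv₀ : N'.mkQ ⟨x₀, hx₀⟩ ≠ 0 := by
    rw [Submodule.mkQ_apply, Ne, Submodule.Quotient.mk_eq_zero]
    exact hx₀N
  obtain ⟨ψ, hψ⟩ := Module.Projective.exists_dual_ne_zero (S ⧸ maximalIdeal S) hv₀
  let ι : S ⧸ maximalIdeal S →+* k := Ideal.Quotient.lift (maximalIdeal S) (algebraMap S k) hker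
  have hι : Function.Injective ι := ι.injective
  refine ⟨{ toFun := fun x => ι (ψ (N'.mkQ x))
            map_add' := fun x y => by rw [map_add, map_add, map_add]
            map_smul' := fun s x => ?_ }, ?_, ?_⟩
  · have h1 : N'.mkQ (s • x) = (Ideal.Quotient.mk (maximalIdeal S) s) • N'.mkQ x := by
      rw [map_smul]; rfl
    rw [h1, map_smul, smul_eq_mul, map_mul, RingHom.id_apply, Algebra.smul_def]
    rfl
  · intro x hx hxN
    change ι (ψ (N'.mkQ ⟨x, hx⟩)) = 0
    have : N'.mkQ ⟨x, hx⟩ = 0 := by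
      rw [Submodule.mkQ_apply, Submodule.Quotient.mk_eq_zero]
      exact hxN
    rw [this, map_zero, map_zero]
  · change ι (ψ (N'.mkQ ⟨x₀, hx₀⟩)) ≠ 0
    intro h
    exact hψ (hι (by rw [h, map_zero]))

open IsLocalRing Groth.Agent.Lib.ArtFunSurj in
/-- Let f : R → S be a morphism of complete local Noetherian Λ-algebras with residue field k (Λ
Noetherian, Λ → k finite). If the restriction map Der_Λ(S, k) → Der_Λ(R, k) is injective — two
Λ-derivations S → k that agree after composing with f are equal — then f is surjective. -/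
theorem result {Λ : Type u} {k : Type u} [CommRing Λ] [Field k] [Algebra Λ k]
    [IsNoetherianRing Λ] [Module.Finite Λ k]
    (R : ArtFun.CRing Λ k)
    (S : Type u) [CommRing S] [Algebra Λ S] [IsLocalRing S] [IsNoetherianRing S]
    [IsAdicComplete (IsLocalRing.maximalIdeal S) S] [Algebra S k] [IsScalarTower Λ S k]
    (hres : Function.Surjective (algebraMap S k))
    (f : R.carrier →ₐ[Λ] S) (hf : (IsScalarTower.toAlgHom Λ S k).comp f = R.res)
    (hinj : ∀ D₁ D₂ : Derivation Λ S k, (∀ r : R.carrier, D₁ (f r) = D₂ (f r)) → D₁ = D₂) :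
    Function.Surjective f := by
  by_contra hns
  let resS : S →ₐ[Λ] k := IsScalarTower.toAlgHom Λ S k
  have hresS : Function.Surjective resS := hres
  have hprec : IsPrecomplete (maximalIdeal R.carrier) R.carrier :=
    R.isAdicComplete.toIsPrecomplete
  have tfae := tfae_surjective R.res resS R.res_surjective hresS f hf
  have h31 := tfae.out 2 0
  set N : Ideal S := Ideal.map (algebraMap Λ S) (RingHom.ker (algebraMap Λ k)) ⊔
      Ideal.map f (maximalIdeal R.carrier) ⊔ maximalIdeal S ^ 2 with hNdef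
  have hNne : N ≠ maximalIdeal S := fun h => hns (h31.1 h)
  have hmemS : ∀ s : S, s ∈ maximalIdeal S ↔ algebraMap S k s = 0 := fun s =>
    mem_maximalIdeal_iff_res resS hresS s
  have hfres : ∀ r : R.carrier, algebraMap S k (f r) = R.res r := fun r =>
    AlgHom.congr_fun hf r
  have hNle : N ≤ maximalIdeal S := by
    rw [hNdef]
    refine sup_le (sup_le ?_ ?_) ?_
    · rw [Ideal.map_le_iff_le_comap]
      intro c hc
      rw [Ideal.mem_comap, hmemS, ← IsScalarTower.algebraMap_apply]
      exact hc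
    · rw [Ideal.map_le_iff_le_comap]
      intro r hr
      rw [Ideal.mem_comap, hmemS, hfres, ← mem_maximalIdeal_iff_res R.res R.res_surjective]
      exact hr
    · exact Ideal.pow_le_self two_ne_zero
  obtain ⟨x₀, hx₀, hx₀N⟩ : ∃ x₀ ∈ maximalIdeal S, x₀ ∉ N := by
    by_contra hcon
    apply hNne
    apply le_antisymm hNle
    intro x hx
    by_contra hxN
    exact hcon ⟨x, hx, hxN⟩
  obtain ⟨φ, hφN, hφ0⟩ := exists_functional (fun s hs => (hmemS s).1 hs) N
    (by rw [hNdef]; exact le_sup_right) x₀ hx₀ hx₀N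
  choose σ hσ using fun s : S => R.res_surjective (algebraMap S k s)
  have hmem : ∀ (s : S) (r : R.carrier), R.res r = algebraMap S k s →
      s - f r ∈ maximalIdeal S := by
    intro s r h; rw [hmemS, map_sub, hfres, h, sub_self]
  have hfN : ∀ r : R.carrier, R.res r = 0 → f r ∈ N := by
    intro r hr
    apply Ideal.mem_sup_left; apply Ideal.mem_sup_right
    apply Ideal.mem_map_of_mem
    rw [mem_maximalIdeal_iff_res R.res R.res_surjective]; exact hr
  let D₀ : S → k := fun s => φ ⟨s - f (σ s), hmem s (σ s) (hσ s)⟩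
  have key : ∀ (s : S) (r : R.carrier) (h : R.res r = algebraMap S k s),
      D₀ s = φ ⟨s - f r, hmem s r h⟩ := by
    intro s r h
    have h1 : R.res (r - σ s) = 0 := by rw [map_sub, h, hσ, sub_self]
    have h2 := hφN (f (r - σ s)) (hNle (hfN _ h1)) (hfN _ h1)
    have h3 : (⟨s - f (σ s), hmem s (σ s) (hσ s)⟩ : maximalIdeal S) =
        ⟨s - f r, hmem s r h⟩ + ⟨f (r - σ s), hNle (hfN _ h1)⟩ := by
      apply Subtype.ext
      change s - f (σ s) = (s - f r) + f (r - σ s)
      rw [map_sub]; ring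
    change φ _ = _
    rw [h3, map_add, h2, add_zero]
  have hadd : ∀ a b : S, D₀ (a + b) = D₀ a + D₀ b := by
    intro a b
    have h : R.res (σ a + σ b) = algebraMap S k (a + b) := by rw [map_add, map_add, hσ, hσ]
    rw [key (a + b) (σ a + σ b) h, ← map_add]
    congr 1
    apply Subtype.ext
    change a + b - f (σ a + σ b) = (a - f (σ a)) + (b - f (σ b))
    rw [map_add]; ring
  have hleib : ∀ a b : S, D₀ (a * b) = a • D₀ b + b • D₀ a := by
    intro a b
    have h : R.res (σ a * σ b) = algebraMap S k (a * b) := by rw [map_mul, map_mul, hσ, hσ]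
    rw [key (a * b) (σ a * σ b) h]
    have h3 : (⟨a * b - f (σ a * σ b), hmem _ _ h⟩ : maximalIdeal S) =
        a • ⟨b - f (σ b), hmem b (σ b) (hσ b)⟩ +
          (f (σ b)) • ⟨a - f (σ a), hmem a (σ a) (hσ a)⟩ := by
      apply Subtype.ext
      change a * b - f (σ a * σ b) = a * (b - f (σ b)) + f (σ b) * (a - f (σ a))
      rw [map_mul]; ring
    rw [h3, map_add, map_smul, map_smul]
    congr 1
    rw [Algebra.smul_def, Algebra.smul_def, hfres, hσ]
  have hfzero : ∀ r : R.carrier, D₀ (f r) = 0 := by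
    intro r
    rw [key (f r) r (hfres r).symm]
    have : (⟨f r - f r, hmem _ _ (hfres r).symm⟩ : maximalIdeal S) = 0 := by
      apply Subtype.ext
      change f r - f r = 0
      rw [sub_self]
    rw [this, map_zero]
  let L : S →ₗ[Λ] k :=
    { toFun := D₀
      map_add' := hadd
      map_smul' := fun c s => by
        rw [Algebra.smul_def, hleib, ← f.commutes, hfzero, smul_zero, add_zero,
          f.commutes, algebraMap_smul, RingHom.id_apply] }
  let D : Derivation Λ S k := Derivation.mk' L hleib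
  have hD : D = 0 := hinj D 0 (fun r => by
    change D₀ (f r) = 0
    exact hfzero r)
  apply hφ0
  have h0 : R.res 0 = algebraMap S k x₀ := by rw [map_zero, ((hmemS x₀).1 hx₀)]
  have h4 : D₀ x₀ = φ ⟨x₀ - f 0, hmem x₀ 0 h0⟩ := key x₀ 0 h0
  have h5 : (⟨x₀ - f 0, hmem x₀ 0 h0⟩ : maximalIdeal S) = ⟨x₀, hx₀⟩ := by
    apply Subtype.ext
    change x₀ - f 0 = x₀
    rw [map_zero, sub_zero]
  rw [← h5, ← h4]
  change D x₀ = 0
  rw [hD]; rfl

end Groth.Agent.S12716
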