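import Groth.Statements.S12715
import Groth.Agent.Lib.ArtFunSurj

set_option autoImplicit false
universe u v
open CategoryTheory
open ArtFun

namespace Groth.Agent.S12715

open IsLocalRing Groth.Agent.Lib.ArtFunSurj in
/-- For Λ Noetherian with a finite map to the field k and S a complete local Noetherian Λ-algebra with
residue field k (through a surjective map S → k over Λ), the space of Λ-derivations S → k is
finite-dimensional over k. -/
theorem result {Λ : Type u} {k : Type u} [CommRing Λ] [Field k] [Algebra Λ k]
    [IsNoetherianRing Λ] [Module.Finite Λ k]
    (S : Type u) [CommRing S] [Algebra Λ S] [IsLocalRing S] [IsNoetherianRing S]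
    [IsAdicComplete (IsLocalRing.maximalIdeal S) S] [Algebra S k] [IsScalarTower Λ S k]
    (hres : Function.Surjective (algebraMap S k)) :
    Module.Finite k (Derivation Λ S k) := by
  classical
  let resS : S →ₐ[Λ] k := IsScalarTower.toAlgHom Λ S k
  have hresS : Function.Surjective resS := hres
  have hmemS : ∀ s : S, s ∈ maximalIdeal S ↔ algebraMap S k s = 0 := fun s =>
    mem_maximalIdeal_iff_res resS hresS s
  obtain ⟨G, hG⟩ := (IsNoetherian.noetherian (maximalIdeal S) : (maximalIdeal S).FG)
  obtain ⟨H, hH⟩ := (Module.Finite.fg_top : (⊤ : Submodule Λ k).FG)
  choose τ hτ using hres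
  let T : Finset S := G ∪ H.image τ
  let ev : Derivation Λ S k →ₗ[k] (T → k) :=
    { toFun := fun D t => D t.1
      map_add' := fun D₁ D₂ => by funext t; rfl
      map_smul' := fun c D => by funext t; rfl }
  have hinj : Function.Injective ev := by
    rw [injective_iff_map_eq_zero]
    intro D hD
    have hT : ∀ t ∈ T, D t = 0 := fun t ht => congrFun hD ⟨t, ht⟩
    -- D vanishes on the maximal ideal
    have h1 : ∀ x ∈ maximalIdeal S, D x = 0 := by
      intro x hx
      have hx' : x ∈ Submodule.span S (G : Set S) := by rw [hG]; exact hx
      induction hx' using Submodule.span_induction with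
      | mem g hg => exact hT g (Finset.mem_union_left _ hg)
      | zero => exact map_zero D
      | add a b _ _ ha hb =>
        rw [map_add, ha (by rw [← hG]; assumption), hb (by rw [← hG]; assumption), add_zero]
      | smul a b hb' hb =>
        have hbm : b ∈ maximalIdeal S := by rw [← hG]; exact hb'
        rw [smul_eq_mul, Derivation.leibniz, hb hbm, smul_zero, zero_add, Algebra.smul_def,
          (hmemS b).1 hbm, zero_mul]
    have h2 : ∀ s s' : S, algebraMap S k s = algebraMap S k s' → D s = D s' := by
      intro s s' h
      have : s - s' ∈ maximalIdeal S := by rw [hmemS, map_sub, h, sub_self]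
      have := h1 _ this
      rw [map_sub, sub_eq_zero] at this
      exact this
    have h3 : ∀ y ∈ Submodule.span Λ (H : Set k), ∀ s : S, algebraMap S k s = y → D s = 0 := by
      intro y hy
      induction hy using Submodule.span_induction with
      | mem h hh =>
        intro s hs
        rw [h2 s (τ h) (by rw [hs, hτ])]
        exact hT _ (Finset.mem_union_right _ (Finset.mem_image_of_mem τ hh))
      | zero =>
        intro s hs
        exact h1 s ((hmemS s).2 hs)
      | add a b _ _ ha hb =>
        intro s hs
        rw [h2 s (τ a + τ b) (by rw [hs, map_add, hτ, hτ]), map_add, ha (τ a) (hτ a),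
          hb (τ b) (hτ b), add_zero]
      | smul c b _ hb =>
        intro s hs
        have : algebraMap S k (c • τ b) = c • b := by
          have := map_smul resS c (τ b)
          rw [show resS (τ b) = b from hτ b] at this
          exact this
        rw [h2 s (c • τ b) (by rw [hs, this]), Derivation.map_smul, hb (τ b) (hτ b), smul_zero]
    ext s
    exact h3 (algebraMap S k s) (by rw [hH]; trivial) s rfl
  exact Module.Finite.of_injective ev hinj

end Groth.Agent.S12715
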