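import Groth.Statements.S12731
import Groth.Agent.Lib.H59ArtFunDer
import Groth.Agent.Lib.H71ArtFunHull
import Groth.Agent.S12715

set_option autoImplicit false
universe u v
open CategoryTheory
open ArtFun

namespace Groth.Agent.S12731

open ArtFun.Art Groth.Agent.Lib.H59ArtFunDer in
theorem hfin_of_miniversal {Λ : Type u} {k : Type u} [CommRing Λ] [Field k] [Algebra Λ k]
    [IsNoetherianRing Λ] [Module.Finite Λ k]
    (F : ArtFun.Art Λ k ⥤ Type v) [T : ArtFun.TangentStr F] (R : ArtFun.CRing Λ k)
    (ξ : ArtFun.Family R.carrier R.res F)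
    (hsurj : Function.Surjective (ξ.app (ArtFun.Art.dual Λ k))) : ArtFun.Hfin F := by
  let _ : Algebra R.carrier k := R.res.toRingHom.toAlgebra
  have hst : IsScalarTower Λ R.carrier k :=
    IsScalarTower.of_algebraMap_eq (fun c => (R.res.commutes c).symm)
  have hac : IsAdicComplete (IsLocalRing.maximalIdeal R.carrier) R.carrier := R.isAdicComplete
  have hres : Function.Surjective (algebraMap R.carrier k) := R.res_surjective
  have hfin : Module.Finite k (Derivation Λ R.carrier k) := Groth.Agent.S12715.result R.carrier hres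
  have hsmul : ∀ (a : R.carrier) (y : k), a • y = R.res a * y := fun a y => rfl
  -- the algebra map attached to a derivation
  let φ : Derivation Λ R.carrier k → ArtFun.HomSet R.carrier R.res (dual Λ k) := fun D =>
    ⟨toTsze (M := k) R.res D (fun x y => map_add D x y)
      (fun x y => by rw [Derivation.leibniz, hsmul, hsmul, smul_eq_mul, smul_eq_mul])
      (fun c => D.map_algebraMap c), AlgHom.ext fun _ => rfl⟩
  let ω : Derivation Λ R.carrier k → Derivation Λ R.carrier k →
      ArtFun.HomSet R.carrier R.res (dual2 Λ k) := fun D₁ D₂ =>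
    ⟨toTsze (M := k × k) R.res (fun x => (D₁ x, D₂ x))
      (fun x y => by rw [map_add, map_add]; rfl)
      (fun x y => by
        rw [Derivation.leibniz, Derivation.leibniz, hsmul, hsmul, hsmul, hsmul]
        rfl)
      (fun c => by rw [D₁.map_algebraMap c, D₂.map_algebraMap c]; rfl), AlgHom.ext fun _ => rfl⟩
  let Φ : Derivation Λ R.carrier k →ₗ[k] ArtFun.TangentSpace F :=
    { toFun := fun D => ξ.app (dual Λ k) (φ D)
      map_add' := fun D₁ D₂ => by
        have h1 : ArtFun.HomSet.map pr₁ (ω D₁ D₂) = φ D₁ := Subtype.ext (AlgHom.ext fun _ => rfl)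
        have h2 : ArtFun.HomSet.map pr₂ (ω D₁ D₂) = φ D₂ := Subtype.ext (AlgHom.ext fun _ => rfl)
        have h3 : ArtFun.HomSet.map plus (ω D₁ D₂) = φ (D₁ + D₂) :=
          Subtype.ext (AlgHom.ext fun _ => rfl)
        have := T.add_eq (ξ.app (dual2 Λ k) (ω D₁ D₂))
        rw [← ξ.natural, ← ξ.natural, ← ξ.natural, h1, h2, h3] at this
        exact this.symm
      map_smul' := fun c D => by
        have h1 : ArtFun.HomSet.map (scale c) (φ D) = φ (c • D) :=
          Subtype.ext (AlgHom.ext fun _ => rfl)
        have := T.smul_eq c (ξ.app (dual Λ k) (φ D))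
        rw [← ξ.natural, h1] at this
        exact this.symm }
  have hΦ : Function.Surjective Φ := by
    intro y
    obtain ⟨ψ, hψ⟩ := hsurj y
    let g : R.carrier →ₐ[Λ] TrivSqZeroExt k k := ψ.1
    have hfst : ∀ x : R.carrier, (g x).fst = R.res x := fun x =>
      Groth.Agent.Lib.ArtFunBasic.homSet_res_apply ψ x
    let D : Derivation Λ R.carrier k :=
      { toFun := fun x => (g x).snd
        map_add' := fun x y => by rw [map_add, TrivSqZeroExt.snd_add]
        map_smul' := fun c x => by rw [map_smul, TrivSqZeroExt.snd_smul]; rfl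
        map_one_eq_zero' := by
          change (g 1).snd = 0
          rw [map_one, TrivSqZeroExt.snd_one]
        leibniz' := fun x y => by
          change (g (x * y)).snd = x • (g y).snd + y • (g x).snd
          rw [map_mul, TrivSqZeroExt.snd_mul, hfst, hfst, op_smul_eq_smul, hsmul, hsmul,
            smul_eq_mul, smul_eq_mul] }
    refine ⟨D, ?_⟩
    change ξ.app (dual Λ k) (φ D) = y
    rw [← hψ]
    congr 1
    apply Subtype.ext
    apply AlgHom.ext
    intro x
    exact TrivSqZeroExt.ext (hfst x).symm rfl
  exact Module.Finite.of_surjective Φ hΦ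

/-- For functors, if a functor F on Artinian local Λ-algebras with residue field k with F(k) a point has
a versal family over a complete local Noetherian ring with residue field k which is bijective on
tangent spaces (a hull), then F satisfies (S1) and (S2) and has finite-dimensional tangent space. -/
theorem result {Λ : Type u} {k : Type u} [CommRing Λ] [Field k] [Algebra Λ k]
    [IsNoetherianRing Λ] [Module.Finite Λ k]
    (F : ArtFun.Art Λ k ⥤ Type v) [ArtFun.TangentStr F] (h0 : ArtFun.H0 F) (h : ArtFun.HasHull F) :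
    ArtFun.S1 F ∧ ArtFun.Heps F ∧ ArtFun.Hfin F := by
  obtain ⟨⟨R, ξ, hmini⟩⟩ := h
  have hsurj := Groth.Agent.Lib.H71ArtFunHull.surjective_app_of_isVersal ξ hmini.1 h0
  exact ⟨Groth.Agent.Lib.ArtFunBasic.s1_of_isVersal ξ hmini.1 hsurj,
    Groth.Agent.Lib.ArtFunBasic.heps_of_isMiniversal ξ hmini hsurj,
    hfin_of_miniversal F R ξ hmini.2.2⟩

end Groth.Agent.S12731
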