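import Groth.Statements.S12734
import Groth.Agent.S12730
import Groth.Agent.S12731
import Groth.Agent.Lib.H59SchlessHull3
import Groth.Agent.Lib.H71Schlessinger

set_option autoImplicit false
universe u v
open CategoryTheory
open ArtFun

namespace Groth.Agent.S12734

/-- A functor F on Artinian local Λ-algebras with residue field k is prorepresentable if and only if (a)
F(k) is a point and F satisfies (RS): F(A₁ ×_A A₂) → F(A₁) ×_{F(A)} F(A₂) is bijective whenever A₂ →
A is surjective; (b) its tangent space is finite-dimensional; and (c) the map from morphisms k →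
k[ε] of the category (the Λ-derivations of k) to the tangent space, σ ↦ F(σ)(x₀), is injective.
Condition (c) is empty when k is separable over the image of Λ in k. -/
theorem result {Λ : Type u} {k : Type u} [CommRing Λ] [Field k] [Algebra Λ k]
    [IsNoetherianRing Λ] [Module.Finite Λ k]
    (F : ArtFun.Art Λ k ⥤ Type v) [ArtFun.TangentStr F] :
    ArtFun.IsProrepresentable F ↔
      ((ArtFun.H0 F ∧ (∀ ⦃B A A' A'' : ArtFun.Art Λ k⦄ (p' : B ⟶ A') (p'' : B ⟶ A'') (f' : A' ⟶ A) (f'' : A'' ⟶ A)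
        (h : ArtFun.Art.IsFibreProd p' p'' f' f''), Function.Surjective f'' → Function.Bijective (ArtFun.cmp F h))) ∧
        ArtFun.Hfin F ∧
        ∀ x₀ : F.obj (ArtFun.Art.base Λ k),
          Function.Injective (fun σ : ArtFun.Art.base Λ k ⟶ ArtFun.Art.dual Λ k => F.map σ x₀)) := by
  constructor
  · rintro ⟨⟨R, ξ, hξ⟩⟩
    have hleft := Groth.Agent.Lib.H71Schlessinger.isLeftExact_of_isUniversal ξ hξ
    refine ⟨⟨Groth.Agent.Lib.ArtFunBasic.h0_of_surjective ξ (hξ _).2,
      fun B A A' A'' p' p'' f' f'' h _ => hleft p' p'' f' f'' h⟩,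
      Groth.Agent.S12731.hfin_of_miniversal F R ξ (hξ _).2, ?_⟩
    intro x₀ σ₁ σ₂ hσ
    obtain ⟨φ₀, rfl⟩ := (hξ _).2 x₀
    have h1 : F.map σ₁ (ξ.app _ φ₀) = F.map σ₂ (ξ.app _ φ₀) := hσ
    rw [← ξ.natural, ← ξ.natural] at h1
    have h2 := (hξ _).1 h1
    apply ArtFun.Art.hom_ext
    apply AlgHom.ext
    intro c
    obtain ⟨r, rfl⟩ := R.res_surjective c
    have h3 : φ₀.1 r = R.res r := Groth.Agent.Lib.ArtFunBasic.homSet_res_apply φ₀ r
    have h4 := congrArg (fun t : ArtFun.HomSet R.carrier R.res (ArtFun.Art.dual Λ k) => t.1 r) h2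
    change σ₁.toAlgHom (φ₀.1 r) = σ₂.toAlgHom (φ₀.1 r) at h4
    rw [h3] at h4
    exact h4
  · rintro ⟨⟨h0, hRS⟩, h3, hinj⟩
    have h1 : ArtFun.S1 F := fun B A A' A'' p' p'' f' f'' h hf => (hRS p' p'' f' f'' h hf).2
    have h2 : ArtFun.Heps F := fun B A' p' p'' h =>
      hRS p' p'' _ _ h (Groth.Agent.Lib.ArtFunBasic.toBase_surjective _)
    have hsq : ArtFun.HSq F := fun B A A' p₁ p₂ f h hf => hRS p₁ p₂ f f h hf.1
    obtain ⟨⟨R, ξ, hξ⟩⟩ := Groth.Agent.S12730.result F h0 h1 h2 h3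
    have hhull := Groth.Agent.Lib.H59SchlessHull.hasHull_of_isVersal_of_hc h0 h2 ξ hξ
      (fun D hD r₀ hr₀ => Groth.Agent.Lib.H59SchlessHull.hc_of_injective ξ hinj D hD r₀ hr₀)
    exact Groth.Agent.Lib.H71Schlessinger.isProrepresentable_of_hasHull hhull h0 hsq

end Groth.Agent.S12734
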