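import Groth.Statements.S12736
-- import your own Groth.Agent.* helpers here

set_option autoImplicit false
universe u v
open CategoryTheory
open ArtFun

namespace Groth.Agent.S12736

/-- For functors, let φ : F → G be a morphism of functors on Artinian local Λ-algebras with residue
field k whose values at k are points and which satisfy (S2), with the natural vector space
structures on their tangent spaces. Then the differential dφ : F(k[ε]) → G(k[ε]) is k-linear. -/
theorem result {Λ : Type u} {k : Type u} [CommRing Λ] [Field k] [Algebra Λ k]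
    [IsNoetherianRing Λ] [Module.Finite Λ k]
    {F G : ArtFun.Art Λ k ⥤ Type v} [ArtFun.TangentStr F] [ArtFun.TangentStr G]
    (hF0 : ArtFun.H0 F) (hF2 : ArtFun.Heps F) (hG0 : ArtFun.H0 G) (hG2 : ArtFun.Heps G) (φ : F ⟶ G) :
    ∃ f : ArtFun.TangentSpace F →ₗ[k] ArtFun.TangentSpace G, ⇑f = ArtFun.TangentSpace.map φ := by
  have hsmulF : ∀ (c : k) (x : ArtFun.TangentSpace F),
      c • x = ArtFun.TangentSpace.mk (F.map (ArtFun.Art.scale c) x.val) :=
    fun c x => ArtFun.TangentStr.smul_eq c x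
  have hsmulG : ∀ (c : k) (x : ArtFun.TangentSpace G),
      c • x = ArtFun.TangentSpace.mk (G.map (ArtFun.Art.scale c) x.val) :=
    fun c x => ArtFun.TangentStr.smul_eq c x
  have haddF : ∀ z : F.obj (ArtFun.Art.dual2 Λ k),
      ArtFun.TangentSpace.mk (F.map ArtFun.Art.pr₁ z) + ArtFun.TangentSpace.mk (F.map ArtFun.Art.pr₂ z)
        = ArtFun.TangentSpace.mk (F.map ArtFun.Art.plus z) := fun z => ArtFun.TangentStr.add_eq z
  have haddG : ∀ z : G.obj (ArtFun.Art.dual2 Λ k),
      ArtFun.TangentSpace.mk (G.map ArtFun.Art.pr₁ z) + ArtFun.TangentSpace.mk (G.map ArtFun.Art.pr₂ z)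
        = ArtFun.TangentSpace.mk (G.map ArtFun.Art.plus z) := fun z => ArtFun.TangentStr.add_eq z
  have hnat : ∀ {A : ArtFun.Art Λ k} (f : A ⟶ ArtFun.Art.dual Λ k) (z : F.obj A),
      ArtFun.TangentSpace.map φ (ArtFun.TangentSpace.mk (F.map f z)) =
        ArtFun.TangentSpace.mk (G.map f (φ.app A z)) :=
    fun f z => NatTrans.naturality_apply φ f z
  refine ⟨{ toFun := ArtFun.TangentSpace.map φ, map_add' := ?_, map_smul' := ?_ }, rfl⟩
  · intro x y
    have := hF0.2
    obtain ⟨z, hz⟩ := (hF2 ArtFun.Art.pr₁ ArtFun.Art.pr₂ ArtFun.Art.isFibreProd_dual2).2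
      ⟨(x.val, y.val), Subsingleton.elim _ _⟩
    have hz1 : ArtFun.TangentSpace.mk (F.map ArtFun.Art.pr₁ z) = x := congrArg (fun t => t.1.1) hz
    have hz2 : ArtFun.TangentSpace.mk (F.map ArtFun.Art.pr₂ z) = y := congrArg (fun t => t.1.2) hz
    have hxy : x + y = ArtFun.TangentSpace.mk (F.map ArtFun.Art.plus z) := by
      rw [← haddF z, hz1, hz2]
    rw [hxy, hnat, ← haddG, ← hnat, ← hnat, hz1, hz2]
  · intro c x
    rw [hsmulF, hnat, RingHom.id_apply, hsmulG]
    rfl

end Groth.Agent.S12736
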