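import Groth.Statements.S12721
import Groth.Agent.Lib.H59ArtFunCover
import Groth.Agent.Lib.H59ArtFunVersal
import Groth.Agent.Lib.H71ArtFunFormal

set_option autoImplicit false
universe u v
open CategoryTheory
open ArtFun

namespace Groth.Agent.S12721

open ArtFun.Art in
theorem smooth_of_formallySmooth {Λ : Type u} {k : Type u} [CommRing Λ] [Field k] [Algebra Λ k]
    [IsNoetherianRing Λ] [Module.Finite Λ k] (R : ArtFun.CRing Λ k)
    (hfs : CAlgX.IsAdicFormallySmooth Λ R.carrier (IsLocalRing.maximalIdeal R.carrier)) :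
    ArtFun.IsSmoothFunctor (ArtFun.hR R.carrier R.res) := by
  intro B A μ hμ
  refine Groth.Agent.Lib.ArtFunFactor.surjection_induction
    (P := fun {B A} μ => Function.Surjective ((ArtFun.hR R.carrier R.res).map μ)) ?_ ?_ ?_ μ hμ
  · intro B A μ hbij φ
    obtain ⟨ν, h1, h2⟩ := Groth.Agent.Lib.ArtFunFactor.exists_inv_of_bijective μ hbij
    refine ⟨ArtFun.HomSet.map ν φ, ?_⟩
    change ArtFun.HomSet.map μ (ArtFun.HomSet.map ν φ) = φ
    rw [← Groth.Agent.Lib.H59ArtFunVersal.homSet_map_comp, h2,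
      Groth.Agent.Lib.H59ArtFunVersal.homSet_map_id]
  · intro B A μ hs φ
    have hsurj : Function.Surjective μ.toAlgHom := hs.1
    have hJ : RingHom.ker μ.toAlgHom ^ 2 = ⊥ := by
      rw [eq_bot_iff, sq, ← hs.2.2.2]
      exact Ideal.mul_mono_left (Groth.Agent.Lib.ArtFunFactor.ker_le_maximalIdeal μ)
    let e := Ideal.quotientKerAlgEquivOfSurjective hsurj
    obtain ⟨n, hn⟩ := Groth.Agent.Lib.H71ArtFunFormal.exists_mpow_le_ker R φ
    obtain ⟨χ, hχ⟩ := hfs B (RingHom.ker μ.toAlgHom) hJ (e.symm.toAlgHom.comp φ.1) ⟨n + 1, by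
      intro x hx
      have : φ.1 x = 0 := hn hx
      change e.symm (φ.1 x) = 0
      rw [this, map_zero]⟩
    have hμχ : ∀ r, μ (χ r) = φ.1 r := by
      intro r
      have h1 : Ideal.Quotient.mk _ (χ r) = e.symm (φ.1 r) := DFunLike.congr_fun hχ r
      have h2 : e (Ideal.Quotient.mk _ (χ r)) = μ.toAlgHom (χ r) :=
        Ideal.quotientKerAlgEquivOfSurjective_mk hsurj (χ r)
      rw [h1, AlgEquiv.apply_symm_apply] at h2
      exact h2.symm
    refine ⟨⟨χ, ?_⟩, ?_⟩
    · apply AlgHom.ext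
      intro r
      change B.res (χ r) = R.res r
      rw [← res_app μ, hμχ]
      exact Groth.Agent.Lib.ArtFunBasic.homSet_res_apply φ r
    · apply Subtype.ext
      apply AlgHom.ext
      intro r
      exact hμχ r
  · intro C B A ν μ hν hμ φ
    obtain ⟨ψ', h1⟩ := hμ φ
    obtain ⟨ψ, h3⟩ := hν ψ'
    refine ⟨ψ, ?_⟩
    change ArtFun.HomSet.map (ν ≫ μ) ψ = φ
    rw [Groth.Agent.Lib.H59ArtFunVersal.homSet_map_comp]
    change ArtFun.HomSet.map μ ((ArtFun.hR R.carrier R.res).map ν ψ) = φ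
    rw [h3]
    exact h1

open ArtFun.Art in
theorem formallySmooth_of_smooth {Λ : Type u} {k : Type u} [CommRing Λ] [Field k] [Algebra Λ k]
    [IsNoetherianRing Λ] [Module.Finite Λ k] (R : ArtFun.CRing Λ k)
    (hsm : ArtFun.IsSmoothFunctor (ArtFun.hR R.carrier R.res)) :
    CAlgX.IsAdicFormallySmooth Λ R.carrier (IsLocalRing.maximalIdeal R.carrier) := by
  intro A' _ _ J hJ ψ hψ
  obtain ⟨n, hn⟩ := hψ
  let ψbar : (R.trunc n) →ₐ[Λ] A' ⧸ J := Ideal.Quotient.liftₐ (R.mpow n) ψ (fun a ha =>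
    hn a (Ideal.pow_le_pow_right (Nat.le_succ n) ha))
  obtain ⟨C, μ, s, hμ, hs⟩ := Groth.Agent.Lib.H59ArtFunCover.exists_art_cover (R.trunc n) J hJ ψbar
  obtain ⟨χ₀, hχ₀⟩ := hsm μ hμ (R.truncHom n)
  have hχ₀' : ∀ r, μ (χ₀.1 r) = (R.truncHom n).1 r := fun r =>
    DFunLike.congr_fun (congrArg Subtype.val hχ₀) r
  refine ⟨s.comp χ₀.1, ?_⟩
  apply AlgHom.ext
  intro r
  change Ideal.Quotient.mk J (s (χ₀.1 r)) = ψ r
  rw [← hs, hχ₀']
  rfl

/-- (1) ⇔ (2): for R a complete local Noetherian Λ-algebra with residue field k, the functor h_R on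
Artinian local Λ-algebras with residue field k is smooth (surjective along every surjection) if and
only if Λ → R is formally smooth for the m_R-adic topology. -/
theorem result {Λ : Type u} {k : Type u} [CommRing Λ] [Field k] [Algebra Λ k]
    [IsNoetherianRing Λ] [Module.Finite Λ k]
    (R : ArtFun.CRing Λ k) :
    ArtFun.IsSmoothFunctor (ArtFun.hR R.carrier R.res) ↔
      CAlgX.IsAdicFormallySmooth Λ R.carrier (IsLocalRing.maximalIdeal R.carrier) :=
  ⟨formallySmooth_of_smooth R, smooth_of_formallySmooth R⟩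

end Groth.Agent.S12721
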