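import Groth.Statements.S12737
import Groth.Agent.S12721
import Groth.Agent.Lib.AdicNoeth
import Mathlib.RingTheory.AdicCompletion.LocalRing
import Mathlib.RingTheory.AdicCompletion.Completeness
import Mathlib.RingTheory.Polynomial.Basic

set_option autoImplicit false
universe u v
open CategoryTheory
open ArtFun

namespace Groth.Agent.S12737

/-- The kernel of the evaluation map of the adic completion at level `n`. -/
theorem ker_evalₐ_eq_map {R : Type*} [CommRing R] (I : Ideal R) (fg : I.FG) (n : ℕ) :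
    RingHom.ker (AdicCompletion.evalₐ I n).toRingHom =
      (I ^ n).map (algebraMap R (AdicCompletion I R)) := by
  ext x
  trans x ∈ (AdicCompletion.eval I R n).ker
  · have eq : I ^ n * ⊤ = I ^ n := by simp
    have : Function.Injective (Ideal.Quotient.factor ((le_of_eq eq))) := by
      simpa [RingHom.injective_iff_ker_eq_bot, Ideal.Quotient.factor_ker]
        using Ideal.map_mk_eq_bot_of_le (le_of_eq eq.symm)
    simpa [← AdicCompletion.factor_eval_eq_evalₐ] using map_eq_zero_iff _ this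
  · simp [← AdicCompletion.pow_smul_top_eq_ker_eval fg]

/-- For Λ Noetherian with a finite map to the field k there is a complete local Noetherian Λ-algebra R
with residue field k whose functor h_R on Artinian local Λ-algebras with residue field k is smooth.
(The published lemma moreover pins the cotangent data of R — the first homology of the naive
cotangent complex of k over Λ equals m_R/m_R² and Ω_{R/Λ} ⊗ k = Ω_{k/Λ}; only the existence of a
smooth R is stated here.) -/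
theorem result {Λ : Type u} {k : Type u} [CommRing Λ] [Field k] [Algebra Λ k]
    [IsNoetherianRing Λ] [Module.Finite Λ k] :
    ∃ R : ArtFun.CRing Λ k, ArtFun.IsSmoothFunctor (ArtFun.hR R.carrier R.res) := by
  classical
  obtain ⟨G, hG⟩ := (Module.Finite.fg_top : (⊤ : Submodule Λ k).FG)
  let π : MvPolynomial (↥G) Λ →ₐ[Λ] k := MvPolynomial.aeval (fun g : ↥G => (g : k))
  have hπ : Function.Surjective π := by
    intro c
    have hc : c ∈ Submodule.span Λ (G : Set k) := by rw [hG]; trivial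
    induction hc using Submodule.span_induction with
    | mem g hg => exact ⟨MvPolynomial.X ⟨g, hg⟩, MvPolynomial.aeval_X _ _⟩
    | zero => exact ⟨0, map_zero _⟩
    | add a b _ _ ha hb =>
      obtain ⟨pa, rfl⟩ := ha
      obtain ⟨pb, rfl⟩ := hb
      exact ⟨pa + pb, map_add _ _ _⟩
    | smul r a _ ha =>
      obtain ⟨pa, rfl⟩ := ha
      exact ⟨r • pa, map_smul _ _ _⟩
  let 𝔪 : Ideal (MvPolynomial (↥G) Λ) := RingHom.ker π
  have h𝔪 : 𝔪.IsMaximal := RingHom.ker_isMaximal_of_surjective π hπ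
  have hfg : 𝔪.FG := (inferInstance : IsNoetherianRing (MvPolynomial (↥G) Λ)).noetherian 𝔪
  have hmax : (𝔪.map (algebraMap (MvPolynomial (↥G) Λ)
      (AdicCompletion 𝔪 (MvPolynomial (↥G) Λ)))).IsMaximal :=
    AdicCompletion.isMaximal_map_of_le 𝔪 𝔪 le_rfl hfg
  have hcompl : IsAdicComplete (𝔪.map (algebraMap (MvPolynomial (↥G) Λ)
      (AdicCompletion 𝔪 (MvPolynomial (↥G) Λ)))) (AdicCompletion 𝔪 (MvPolynomial (↥G) Λ)) :=
    AdicCompletion.isAdicComplete_self 𝔪 hfg
  have hloc : IsLocalRing (AdicCompletion 𝔪 (MvPolynomial (↥G) Λ)) :=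
    isLocalRing_of_isAdicComplete_maximal (𝔪.map (algebraMap (MvPolynomial (↥G) Λ)
      (AdicCompletion 𝔪 (MvPolynomial (↥G) Λ))))
  have hmeq : IsLocalRing.maximalIdeal (AdicCompletion 𝔪 (MvPolynomial (↥G) Λ)) =
      𝔪.map (algebraMap (MvPolynomial (↥G) Λ) (AdicCompletion 𝔪 (MvPolynomial (↥G) Λ))) :=
    (IsLocalRing.eq_maximalIdeal hmax).symm
  have hnoeth : IsNoetherianRing (AdicCompletion 𝔪 (MvPolynomial (↥G) Λ)) :=
    Groth.Agent.Lib.AdicNoeth.isNoetherianRing_adicCompletion 𝔪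
  -- evaluation maps as Λ-algebra maps
  let ev : ∀ N : ℕ, AdicCompletion 𝔪 (MvPolynomial (↥G) Λ) →ₐ[Λ] (MvPolynomial (↥G) Λ ⧸ 𝔪 ^ N) :=
    fun N => { (AdicCompletion.evalₐ 𝔪 N).toRingHom with
      commutes' := fun c => by
        change AdicCompletion.evalₐ 𝔪 N (AdicCompletion.of 𝔪 _ (algebraMap Λ _ c)) = _
        rw [AdicCompletion.evalₐ_of]
        rfl }
  let e : (MvPolynomial (↥G) Λ ⧸ 𝔪) ≃ₐ[Λ] k := Ideal.quotientKerAlgEquivOfSurjective hπ
  let ev1 : AdicCompletion 𝔪 (MvPolynomial (↥G) Λ) →ₐ[Λ] (MvPolynomial (↥G) Λ ⧸ 𝔪) :=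
    { (AdicCompletion.evalOneₐ 𝔪).toRingHom with
      commutes' := fun c => rfl }
  let res : AdicCompletion 𝔪 (MvPolynomial (↥G) Λ) →ₐ[Λ] k := e.toAlgHom.comp ev1
  have hres : Function.Surjective res :=
    e.surjective.comp (AdicCompletion.evalOneₐ_surjective 𝔪)
  let R : ArtFun.CRing Λ k :=
    { carrier := AdicCompletion 𝔪 (MvPolynomial (↥G) Λ)
      isLocalRing := hloc
      isNoetherianRing := hnoeth
      res := res
      res_surjective := hres
      isAdicComplete := by rw [hmeq]; exact hcompl }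
  refine ⟨R, Groth.Agent.S12721.smooth_of_formallySmooth R ?_⟩
  intro A' _ _ J hJ ψ hψ
  obtain ⟨n, hn⟩ := hψ
  -- lift on the polynomial ring
  choose a ha using fun g : ↥G => Ideal.Quotient.mk_surjective
    (ψ (algebraMap (MvPolynomial (↥G) Λ) (AdicCompletion 𝔪 (MvPolynomial (↥G) Λ))
      (MvPolynomial.X g)))
  let χP : MvPolynomial (↥G) Λ →ₐ[Λ] A' := MvPolynomial.aeval a
  let ι : MvPolynomial (↥G) Λ →ₐ[Λ] AdicCompletion 𝔪 (MvPolynomial (↥G) Λ) :=
    { (algebraMap (MvPolynomial (↥G) Λ) (AdicCompletion 𝔪 (MvPolynomial (↥G) Λ))) with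
      commutes' := fun c => rfl }
  have hχP : (Ideal.Quotient.mkₐ Λ J).comp χP = ψ.comp ι := by
    apply MvPolynomial.algHom_ext
    intro g
    change Ideal.Quotient.mk J (MvPolynomial.aeval a (MvPolynomial.X g)) = _
    rw [MvPolynomial.aeval_X, ha]
    rfl
  have hχP' : ∀ p, Ideal.Quotient.mk J (χP p) = ψ (ι p) := fun p => DFunLike.congr_fun hχP p
  have hmapn : ∀ p ∈ 𝔪 ^ n, χP p ∈ J := by
    intro p hp
    rw [← Ideal.Quotient.eq_zero_iff_mem, hχP']
    apply hn
    change ι p ∈ IsLocalRing.maximalIdeal (AdicCompletion 𝔪 (MvPolynomial (↥G) Λ)) ^ n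
    rw [hmeq, ← Ideal.map_pow]
    exact Ideal.mem_map_of_mem _ hp
  have hmap2n : ∀ p ∈ 𝔪 ^ (n + n), χP p = 0 := by
    intro p hp
    have h1 : (𝔪 ^ n).map (χP : MvPolynomial (↥G) Λ →+* A') ≤ J := by
      rw [Ideal.map_le_iff_le_comap]
      exact fun p hp => hmapn p hp
    have h2 : (𝔪 ^ (n + n)).map (χP : MvPolynomial (↥G) Λ →+* A') ≤ ⊥ := by
      rw [pow_add, Ideal.map_mul, ← hJ, sq]
      exact Ideal.mul_mono h1 h1
    have := h2 (Ideal.mem_map_of_mem _ hp)
    rw [Ideal.mem_bot] at this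
    exact this
  let χbar : (MvPolynomial (↥G) Λ ⧸ 𝔪 ^ (n + n)) →ₐ[Λ] A' :=
    Ideal.Quotient.liftₐ (𝔪 ^ (n + n)) χP hmap2n
  refine ⟨χbar.comp (ev (n + n)), ?_⟩
  apply AlgHom.ext
  intro x
  obtain ⟨p, hp⟩ := Ideal.Quotient.mk_surjective (AdicCompletion.evalₐ 𝔪 (n + n) x)
  have hxp : x - ι p ∈ IsLocalRing.maximalIdeal (AdicCompletion 𝔪 (MvPolynomial (↥G) Λ)) ^ n := by
    have h1 : x - ι p ∈ RingHom.ker (AdicCompletion.evalₐ 𝔪 (n + n)).toRingHom := by
      rw [RingHom.mem_ker]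
      change AdicCompletion.evalₐ 𝔪 (n + n) (x - AdicCompletion.of 𝔪 _ p) = 0
      rw [map_sub, AdicCompletion.evalₐ_of, hp, sub_self]
    rw [ker_evalₐ_eq_map 𝔪 hfg, Ideal.map_pow, ← hmeq] at h1
    exact Ideal.pow_le_pow_right (Nat.le_add_right n n) h1
  have hψx : ψ x = ψ (ι p) := by
    have := hn _ hxp
    rw [map_sub, sub_eq_zero] at this
    exact this
  change Ideal.Quotient.mk J (χbar (AdicCompletion.evalₐ 𝔪 (n + n) x)) = ψ x
  rw [← hp, hψx, ← hχP']
  rfl

end Groth.Agent.S12737
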