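import Groth.Statements.S8281
import Groth.Agent.Lib.ImmersionGlue

set_option autoImplicit false
universe u
open CategoryTheory CategoryTheory.Limits AlgebraicGeometry Opposite TopologicalSpace
open EGA2

namespace Groth.Agent.S8281

section aux

variable {S S' : Scheme.{u}} (q : S' ⟶ S) (B : RelSpec.QCAlg S) (B' : RelSpec.QCAlg S')
  (u : B.presheaf ⟶ q.base _* B'.presheaf)

/-- The chartwise morphism `Spec B'(U') ⟶ Spec(B)` for `U' ⊆ q⁻¹(U)`. -/
noncomputable def gmap (U : S.Opens) (hU : IsAffineOpen U) (U' : S'.Opens)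
    (hle : U' ≤ q ⁻¹ᵁ U) : Spec (B'.presheaf.obj (op U')) ⟶ B.spec :=
  Spec.map ((u.app (op U) : B.presheaf.obj (op U) ⟶ B'.presheaf.obj (op (q ⁻¹ᵁ U))) ≫
    B'.presheaf.map (homOfLE hle).op) ≫ B.ι U hU

lemma gmap_res_source (U : S.Opens) (hU : IsAffineOpen U) (U' V' : S'.Opens)
    (hle : U' ≤ q ⁻¹ᵁ U) (hV : V' ≤ U') :
    Spec.map (B'.presheaf.map (homOfLE hV).op) ≫ gmap q B B' u U hU U' hle =
      gmap q B B' u U hU V' (hV.trans hle) := by
  unfold gmap
  rw [← Spec.map_comp_assoc, Category.assoc, ← Functor.map_comp]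
  rfl

lemma gmap_res_target (U W : S.AffineZariskiSite) (i : W ≤ U) (U' : S'.Opens)
    (hle' : U' ≤ q ⁻¹ᵁ W.1) :
    gmap q B B' u U.1 U.2 U'
        (hle'.trans (q.preimage_mono (Scheme.AffineZariskiSite.toOpens_mono i))) =
      gmap q B B' u W.1 W.2 U' hle' := by
  unfold gmap
  have hnat := u.naturality (homOfLE (Scheme.AffineZariskiSite.toOpens_mono i)).op
  have e1 : (u.app (op U.1) : B.presheaf.obj (op U.1) ⟶ B'.presheaf.obj (op (q ⁻¹ᵁ U.1))) ≫
      B'.presheaf.map (homOfLE (hle'.trans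
        (q.preimage_mono (Scheme.AffineZariskiSite.toOpens_mono i)))).op =
      B.presheaf.map (homOfLE (Scheme.AffineZariskiSite.toOpens_mono i)).op ≫
        ((u.app (op W.1) : B.presheaf.obj (op W.1) ⟶ B'.presheaf.obj (op (q ⁻¹ᵁ W.1))) ≫
          B'.presheaf.map (homOfLE hle').op) := by
    rw [← Category.assoc, hnat, Category.assoc]
    congr 1
    change _ = B'.presheaf.map _ ≫ B'.presheaf.map _
    rw [← Functor.map_comp]
    rfl
  rw [e1, Spec.map_comp, Category.assoc, B.ι_res (homOfLE i)]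

lemma exists_common_basic {X : Scheme.{u}} (U₁ U₂ : X.AffineZariskiSite) (V : X.Opens) (x : X)
    (h₁ : x ∈ U₁.1) (h₂ : x ∈ U₂.1) (hV : x ∈ V) :
    ∃ W : X.AffineZariskiSite, W ≤ U₁ ∧ W ≤ U₂ ∧ x ∈ W.1 ∧ W.1 ≤ V := by
  obtain ⟨a, b, hab, hxa⟩ := exists_basicOpen_le_affine_inter U₁.2 U₂.2 x ⟨h₁, h₂⟩
  have hV'' : IsAffineOpen (X.basicOpen a) := U₁.2.basicOpen a
  obtain ⟨c, hcV, hxc⟩ := hV''.exists_basicOpen_le (V := V) ⟨x, hV⟩ hxa
  obtain ⟨a', ha'⟩ := U₁.2.basicOpen_basicOpen_is_basicOpen a c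
  have key : ∀ (V'' : X.Opens) (_ : V'' = X.basicOpen b) (c : Γ(X, V'')),
      ∃ b' : Γ(X, U₂.1), X.basicOpen b' = X.basicOpen c := by
    rintro _ rfl c
    exact U₂.2.basicOpen_basicOpen_is_basicOpen b c
  obtain ⟨b', hb'⟩ := key _ hab c
  exact ⟨⟨X.basicOpen c, hV''.basicOpen c⟩, ⟨a', ha'⟩, ⟨b', hb'⟩, hxc, hcV⟩

/-- The index type of the cover of `Spec(B')` by the charts over affine opens `U'` lying in the
preimage of some affine open `U`. -/
structure Idx : Type u where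
  /-- an affine open of the base -/
  U : S.Opens
  hU : IsAffineOpen U
  /-- an affine open of `S'` inside the preimage of `U` -/
  U' : S'.Opens
  hU' : IsAffineOpen U'
  hle : U' ≤ q ⁻¹ᵁ U

/-- The cover of `Spec(B')` by the charts `Spec B'(U')`. -/
noncomputable def cov : Scheme.OpenCover.{u} B'.spec where
  I₀ := Idx q
  X i := Spec (B'.presheaf.obj (op i.U'))
  f i := B'.ι i.U' i.hU'
  mem₀ := by
    rw [Scheme.presieve₀_mem_precoverage_iff]
    refine ⟨fun x => ?_, fun i => inferInstance⟩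
    obtain ⟨U, hxU⟩ := Opens.mem_iSup.mp
      ((iSup_affineOpens_eq_top S).ge (Set.mem_univ (q (B'.π x))))
    obtain ⟨_, ⟨U', hU', rfl⟩, hxU', hU'U⟩ := S'.isBasis_affineOpens.exists_subset_of_mem_open
      (show B'.π x ∈ ((q ⁻¹ᵁ U.1 : S'.Opens) : Set S') from hxU) (q ⁻¹ᵁ U.1).2
    refine ⟨⟨U.1, U.2, U', hU', hU'U⟩, ?_⟩
    change x ∈ (B'.ι U' hU').opensRange
    rw [← B'.π_preimage U' hU']
    exact hxU'

end aux

/-- Let q : S' → S be a morphism, B and B' quasi-coherent algebras over O_S and O_{S'}, and u : B →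
q_*B' a q-morphism (compatible with the structure maps). Then u induces a unique morphism v =
Spec(u) : Spec(B') → Spec(B) which on the charts over affine opens U ⊆ S, U' ⊆ q⁻¹(U) is Spec of the
ring map B(U) → B'(U') given by u and restriction; it lies over q. -/
theorem result {S S' : Scheme.{u}} (q : S' ⟶ S) (B : RelSpec.QCAlg S)
    (B' : RelSpec.QCAlg S') (u : B.presheaf ⟶ q.base _* B'.presheaf)
    (hu : B.str ≫ u = q.c ≫ (TopCat.Presheaf.pushforward CommRingCat.{u} q.base).map B'.str) :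
    (∃! v : B'.spec ⟶ B.spec,
        ∀ (U : S.Opens) (hU : IsAffineOpen U) (U' : S'.Opens) (hU' : IsAffineOpen U') (hle : U' ≤ q ⁻¹ᵁ U),
          B'.ι U' hU' ≫ v =
            Spec.map ((u.app (op U) : B.presheaf.obj (op U) ⟶ B'.presheaf.obj (op (q ⁻¹ᵁ U))) ≫
              B'.presheaf.map (homOfLE hle).op) ≫ B.ι U hU) ∧
      ∀ v : B'.spec ⟶ B.spec,
        (∀ (U : S.Opens) (hU : IsAffineOpen U) (U' : S'.Opens) (hU' : IsAffineOpen U') (hle : U' ≤ q ⁻¹ᵁ U),
          B'.ι U' hU' ≫ v =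
            Spec.map ((u.app (op U) : B.presheaf.obj (op U) ⟶ B'.presheaf.obj (op (q ⁻¹ᵁ U))) ≫
              B'.presheaf.map (homOfLE hle).op) ≫ B.ι U hU) →
        v ≫ B.π = B'.π ≫ q := by
  have hglue := Groth.Agent.Lib.ImmersionGlue.existsUnique_glue (cov q B')
    (fun i => gmap q B B' u i.U i.hU i.U' i.hle) (by
      intro i i' x x' hxx'
      change B'.ι i.U' i.hU' x = B'.ι i'.U' i'.hU' x' at hxx'
      have hy₁ : B'.ι i.U' i.hU' x ∈ (B'.ι i.U' i.hU').opensRange := ⟨x, rfl⟩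
      have hy₂ : B'.ι i.U' i.hU' x ∈ (B'.ι i'.U' i'.hU').opensRange := ⟨x', hxx'.symm⟩
      rw [← B'.π_preimage] at hy₁ hy₂
      have hq₁ := i.hle hy₁
      have hq₂ := i'.hle hy₂
      obtain ⟨W, hW₁, hW₂, hqW, -⟩ := exists_common_basic (⟨i.U, i.hU⟩ : S.AffineZariskiSite)
        ⟨i'.U, i'.hU⟩ ⊤ _ hq₁ hq₂ trivial
      obtain ⟨W', hW'₁, hW'₂, hsW', hW'W⟩ :=
        exists_common_basic (⟨i.U', i.hU'⟩ : S'.AffineZariskiSite) ⟨i'.U', i'.hU'⟩
          (q ⁻¹ᵁ W.1) _ hy₁ hy₂ hqW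
      have ea := B'.ι_res (homOfLE hW'₁)
      have eb := B'.ι_res (homOfLE hW'₂)
      refine ⟨Spec (B'.presheaf.obj (op W'.1)),
        Spec.map (B'.presheaf.map (homOfLE (Scheme.AffineZariskiSite.toOpens_mono hW'₁)).op),
        Spec.map (B'.presheaf.map (homOfLE (Scheme.AffineZariskiSite.toOpens_mono hW'₂)).op),
        ?_, ?_, ?_, ?_⟩
      · have : IsOpenImmersion
            (Spec.map (B'.presheaf.map (homOfLE (Scheme.AffineZariskiSite.toOpens_mono hW'₁)).op) ≫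
              B'.ι i.U' i.hU') := by
          rw [ea]; infer_instance
        have hι : IsOpenImmersion (B'.ι i.U' i.hU') := inferInstance
        exact @IsOpenImmersion.of_comp _ _ _ _ (B'.ι i.U' i.hU') hι this
      · have hyW : B'.ι i.U' i.hU' x ∈ (B'.ι W'.1 W'.2).opensRange := by
          rw [← B'.π_preimage]; exact hsW'
        obtain ⟨w, hw⟩ := hyW
        refine ⟨w, ?_⟩
        apply (B'.ι i.U' i.hU').isOpenEmbedding.injective
        rw [← hw, ← ea]
        rfl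
      · exact ea.trans eb.symm
      · change _ ≫ gmap q B B' u _ _ _ _ = _ ≫ gmap q B B' u _ _ _ _
        rw [gmap_res_source, gmap_res_source]
        exact (gmap_res_target q B B' u ⟨i.U, i.hU⟩ W hW₁ W'.1 hW'W).trans
          (gmap_res_target q B B' u ⟨i'.U, i'.hU⟩ W hW₂ W'.1 hW'W).symm)
  obtain ⟨v, hv, hvuniq⟩ := hglue
  refine ⟨⟨v, fun U hU U' hU' hle => hv ⟨U, hU, U', hU', hle⟩,
    fun v' hv' => hvuniq v' fun i => hv' _ _ _ _ _⟩, ?_⟩
  intro v' hv'
  refine (cov q B').hom_ext _ _ fun i => ?_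
  obtain ⟨U, hU, U', hU', hle⟩ := i
  change B'.ι U' hU' ≫ v' ≫ B.π = B'.ι U' hU' ≫ B'.π ≫ q
  rw [← Category.assoc, hv' U hU U' hU' hle, Category.assoc, B.ι_π, ← Category.assoc (B'.ι U' hU'),
    B'.ι_π, Category.assoc, ← IsAffineOpen.SpecMap_appLE_fromSpec q hU hU' hle,
    ← Spec.map_comp_assoc, ← Spec.map_comp_assoc]
  congr 2
  have h1 := NatTrans.congr_app hu (op U)
  have h2 := B'.str.naturality (homOfLE hle).op
  rw [NatTrans.comp_app, NatTrans.comp_app] at h1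
  rw [← Category.assoc, h1, Category.assoc]
  erw [← h2]
  rfl

end Groth.Agent.S8281
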