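import Groth.Statements.S3574

set_option autoImplicit false
universe u
open AlgebraicGeometry CategoryTheory Limits

namespace Groth.Agent.S3574

section Aux

variable {R A : Type u} [CommRing R] [CommRing A] [Algebra R A] (𝒜 : ℕ → Submodule R A)
  [GradedAlgebra 𝒜]

/-- Index type of the standard charts of the pointed cone. -/
abbrev Idx : Type u := Σ' (d : ℕ) (f : A), 0 < d ∧ f ∈ 𝒜 d

variable {𝒜}

/-- The prescribed morphism on the chart `Spec A_f`. -/
noncomputable def chartMap {d : ℕ} {f : A} (hf : f ∈ 𝒜 d) (hd : 0 < d) :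
    Spec (CommRingCat.of (Localization.Away f)) ⟶ Proj 𝒜 :=
  Spec.map (CommRingCat.ofHom (algebraMap (HomogeneousLocalization.Away 𝒜 f) (Localization.Away f))) ≫
    Proj.awayι 𝒜 f hf hd

@[reassoc]
lemma chart_ι {d : ℕ} {f : A} (hf : f ∈ 𝒜 d) (hd : 0 < d) :
    Cone.chart hf hd ≫ (Cone.pointed 𝒜).ι =
      Spec.map (CommRingCat.ofHom (algebraMap A (Localization.Away f))) :=
  IsOpenImmersion.lift_fac _ _ _

instance {d : ℕ} {f : A} (hf : f ∈ 𝒜 d) (hd : 0 < d) : IsOpenImmersion (Cone.chart hf hd) := by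
  have : IsOpenImmersion (Cone.chart hf hd ≫ (Cone.pointed 𝒜).ι) := by
    rw [chart_ι]; infer_instance
  exact IsOpenImmersion.of_comp _ (Cone.pointed 𝒜).ι

/-- transition map `A_f → A_x` for `x = f * g`. -/
noncomputable def trans {f g x : A} (hx : x = f * g) : Localization.Away f →+* Localization.Away x :=
  Localization.awayLift (algebraMap A _) _
    (isUnit_of_dvd_unit (map_dvd _ ⟨_, hx⟩) (IsLocalization.Away.algebraMap_isUnit x))

lemma trans_comp {f g x : A} (hx : x = f * g) :
    (trans hx).comp (algebraMap A (Localization.Away f)) = algebraMap A (Localization.Away x) :=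
  IsLocalization.lift_comp _

lemma SpecMap_trans_chartMap {d e : ℕ} {f g x : A} (hf : f ∈ 𝒜 d) (hd : 0 < d) (hg : g ∈ 𝒜 e)
    (hx : x = f * g) :
    Spec.map (CommRingCat.ofHom (trans hx)) ≫ chartMap hf hd =
      chartMap (hx ▸ SetLike.mul_mem_graded hf hg : x ∈ 𝒜 (d + e))
        (hd.trans_le (d.le_add_right e)) := by
  unfold chartMap
  rw [← Proj.SpecMap_awayMap_awayι (𝒜 := 𝒜) hf hd hg hx]
  simp only [← Category.assoc, ← Spec.map_comp, ← CommRingCat.ofHom_comp]
  congr 3
  ext a
  simp only [RingHom.coe_comp, Function.comp_apply,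
    HomogeneousLocalization.algebraMap_apply, HomogeneousLocalization.val_awayMap]
  rfl

variable (𝒜) in
/-- The cover of the pointed cone by the standard charts. -/
noncomputable def cover : (Cone.pointed 𝒜).toScheme.OpenCover where
  I₀ := Idx 𝒜
  X i := Spec (CommRingCat.of (Localization.Away i.2.1))
  f i := Cone.chart i.2.2.2 i.2.2.1
  mem₀ := by
    rw [Scheme.presieve₀_mem_precoverage_iff]
    refine ⟨fun p ↦ ?_, fun i ↦ inferInstance⟩
    classical
    have hp : ¬ ((HomogeneousIdeal.irrelevant 𝒜).toIdeal : Set A) ⊆ p.1.asIdeal := by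
      intro h
      exact p.2 ((PrimeSpectrum.mem_zeroLocus _ _).mpr h)
    obtain ⟨a, ha, hap⟩ := Set.not_subset.mp hp
    have hex : ∃ i, (GradedRing.proj 𝒜 i a) ∉ p.1.asIdeal := by
      by_contra hall
      push Not at hall
      apply hap
      rw [← DirectSum.sum_support_decompose 𝒜 a]
      exact Ideal.sum_mem _ fun i _ ↦ hall i
    obtain ⟨i, hi⟩ := hex
    have hi0 : 0 < i := by
      rcases Nat.eq_zero_or_pos i with h0 | h0
      · exfalso
        apply hi
        subst h0
        have : GradedRing.proj 𝒜 0 a = 0 := by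
          simpa [HomogeneousIdeal.mem_irrelevant_iff] using ha
        rw [this]; exact Ideal.zero_mem _
      · exact h0
    let f : A := GradedRing.proj 𝒜 i a
    have hf : f ∈ 𝒜 i := by
      simp only [f, GradedRing.proj_apply]
      exact SetLike.coe_mem _
    have hmem : p.1 ∈ (PrimeSpectrum.basicOpen f : Set (PrimeSpectrum A)) := hi
    rw [← PrimeSpectrum.localization_away_comap_range (Localization.Away f) f] at hmem
    obtain ⟨y, hy⟩ := hmem
    refine ⟨⟨i, f, hi0, hf⟩, y, ?_⟩
    apply Subtype.ext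
    have := congrArg (fun φ => φ.base y) (chart_ι hf hi0)
    exact this.trans hy

lemma compat (i j : Idx 𝒜) :
    pullback.fst ((cover 𝒜).f i) ((cover 𝒜).f j) ≫ chartMap i.2.2.2 i.2.2.1 =
      pullback.snd ((cover 𝒜).f i) ((cover 𝒜).f j) ≫ chartMap j.2.2.2 j.2.2.1 := by
  obtain ⟨d, f, hd, hf⟩ := i
  obtain ⟨e, g, he, hg⟩ := j
  change pullback.fst (Cone.chart hf hd) (Cone.chart hg he) ≫ chartMap hf hd =
    pullback.snd (Cone.chart hf hd) (Cone.chart hg he) ≫ chartMap hg he
  set fst := pullback.fst (Cone.chart hf hd) (Cone.chart hg he)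
  set snd := pullback.snd (Cone.chart hf hd) (Cone.chart hg he)
  have hcond : fst ≫ Cone.chart hf hd = snd ≫ Cone.chart hg he := pullback.condition
  -- the map to `Spec A_{fg}`
  have hrange : Set.range (fst ≫ Cone.chart hf hd ≫ (Cone.pointed 𝒜).ι).base ⊆
      Set.range (Spec.map (CommRingCat.ofHom (algebraMap A (Localization.Away (f * g))))).base := by
    rintro _ ⟨y, rfl⟩
    change _ ∈ Set.range (PrimeSpectrum.comap (algebraMap A (Localization.Away (f * g))))
    rw [PrimeSpectrum.localization_away_comap_range (Localization.Away (f * g)) (f * g),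
      PrimeSpectrum.basicOpen_mul]
    constructor
    · have h1 : (fst ≫ Cone.chart hf hd ≫ (Cone.pointed 𝒜).ι).base y ∈
          Set.range (PrimeSpectrum.comap (algebraMap A (Localization.Away f))) := by
        rw [chart_ι]; exact ⟨fst.base y, rfl⟩
      rwa [PrimeSpectrum.localization_away_comap_range (Localization.Away f) f] at h1
    · have h1 : (fst ≫ Cone.chart hf hd ≫ (Cone.pointed 𝒜).ι).base y ∈
          Set.range (PrimeSpectrum.comap (algebraMap A (Localization.Away g))) := by
        rw [reassoc_of% hcond, chart_ι]; exact ⟨snd.base y, rfl⟩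
      rwa [PrimeSpectrum.localization_away_comap_range (Localization.Away g) g] at h1
  let l := IsOpenImmersion.lift
    (Spec.map (CommRingCat.ofHom (algebraMap A (Localization.Away (f * g)))))
    (fst ≫ Cone.chart hf hd ≫ (Cone.pointed 𝒜).ι) hrange
  have hl : l ≫ Spec.map (CommRingCat.ofHom (algebraMap A (Localization.Away (f * g)))) =
      fst ≫ Cone.chart hf hd ≫ (Cone.pointed 𝒜).ι := IsOpenImmersion.lift_fac _ _ _
  have h1 : l ≫ Spec.map (CommRingCat.ofHom (trans (rfl : f * g = f * g))) = fst := by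
    rw [← cancel_mono (Cone.chart hf hd ≫ (Cone.pointed 𝒜).ι), ← hl, chart_ι, Category.assoc,
      ← Spec.map_comp, ← CommRingCat.ofHom_comp, trans_comp]
  have h2 : l ≫ Spec.map (CommRingCat.ofHom (trans (mul_comm f g : f * g = g * f))) = snd := by
    rw [← cancel_mono (Cone.chart hg he ≫ (Cone.pointed 𝒜).ι), ← reassoc_of% hcond, ← hl,
      chart_ι, Category.assoc, ← Spec.map_comp, ← CommRingCat.ofHom_comp, trans_comp]
  rw [← h1, ← h2, Category.assoc, Category.assoc, SpecMap_trans_chartMap hf hd hg rfl,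
    SpecMap_trans_chartMap hg he hf (mul_comm f g)]
  rfl

end Aux

theorem result {R A : Type u} [CommRing R] [CommRing A] [Algebra R A] (𝒜 : ℕ → Submodule R A) [GradedAlgebra 𝒜] :
    ∃! π : (Cone.pointed 𝒜 : Scheme.{u}) ⟶ Proj 𝒜,
      ∀ (d : ℕ) (f : A) (hd : 0 < d) (hf : f ∈ 𝒜 d),
        Cone.chart hf hd ≫ π =
          Spec.map (CommRingCat.ofHom (algebraMap (HomogeneousLocalization.Away 𝒜 f) (Localization.Away f))) ≫
            Proj.awayι 𝒜 f hf hd := by
  refine ⟨(cover 𝒜).glueMorphisms (fun i ↦ chartMap i.2.2.2 i.2.2.1) compat, ?_, ?_⟩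
  · intro d f hd hf
    exact (cover 𝒜).ι_glueMorphisms (fun i ↦ chartMap i.2.2.2 i.2.2.1) compat ⟨d, f, hd, hf⟩
  · intro π' hπ'
    apply (cover 𝒜).hom_ext
    rintro ⟨d, f, hd, hf⟩
    rw [(cover 𝒜).ι_glueMorphisms (fun i ↦ chartMap i.2.2.2 i.2.2.1) compat ⟨d, f, hd, hf⟩]
    exact hπ' d f hd hf

end Groth.Agent.S3574
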