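import Groth.Statements.S3575
import Groth.Agent.S3574

set_option autoImplicit false
universe u
open AlgebraicGeometry CategoryTheory Limits

namespace Groth.Agent.S3575

open Groth.Agent.S3574

section Aux

variable {R A : Type u} [CommRing R] [CommRing A] [Algebra R A] (𝒜 : ℕ → Submodule R A)
  [GradedAlgebra 𝒜]

lemma forget_basicOpenToSpec (f : A) :
    Scheme.forgetToLocallyRingedSpace.map (Proj.basicOpenToSpec 𝒜 f) =
      ProjectiveSpectrum.Proj.toSpec 𝒜 f := by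
  refine Eq.trans ?_ (ΓSpec.locallyRingedSpaceAdjunction.homEquiv_apply _ _ _).symm
  dsimp [Proj.basicOpenToSpec, Scheme.Opens.toSpecΓ]
  simp only [Category.assoc, ← Spec.map_comp]
  rfl

lemma mk_mem_basicOpenToSpec (f : A) (x : (Proj.basicOpen 𝒜 f).toScheme)
    (z : HomogeneousLocalization.NumDenSameDeg 𝒜 (.powers f)) :
    HomogeneousLocalization.mk z ∈ ((Proj.basicOpenToSpec 𝒜 f).base x).asIdeal ↔
      z.num.1 ∈ x.1.asHomogeneousIdeal := by
  have h := ProjectiveSpectrum.Proj.mk_mem_toSpec_base_apply 𝒜 (f := f) x z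
  rw [← forget_basicOpenToSpec] at h
  exact h

variable {𝒜}

/-- homogeneous elements of the point `awayι q`. -/
lemma mem_awayι_iff {d : ℕ} {f : A} (hf : f ∈ 𝒜 d) (hd : 0 < d)
    (q : Spec (.of (HomogeneousLocalization.Away 𝒜 f))) {n : ℕ} {a : A}
    (ha' : a ^ d ∈ 𝒜 (n • d)) :
    a ∈ ((Proj.awayι 𝒜 f hf hd).base q).asHomogeneousIdeal ↔
      HomogeneousLocalization.Away.mk 𝒜 hf n (a ^ d) ha' ∈ q.asIdeal := by
  set z' := (Proj.basicOpenIsoSpec 𝒜 f hf hd).inv.base q with hz'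
  have h1 : (Proj.basicOpenToSpec 𝒜 f).base z' = q := by
    rw [← Proj.basicOpenIsoSpec_hom 𝒜 f hf hd, hz', ← Scheme.Hom.comp_apply,
      Iso.inv_hom_id]
    rfl
  have h2 : (Proj.awayι 𝒜 f hf hd).base q = z'.1 := rfl
  rw [h2, ← h1]
  have := mk_mem_basicOpenToSpec 𝒜 f z'
    ⟨n • d, ⟨a ^ d, ha'⟩, ⟨f ^ n, SetLike.pow_mem_graded n hf⟩, ⟨n, rfl⟩⟩
  rw [HomogeneousLocalization.Away.mk, this]
  change a ∈ z'.1.asHomogeneousIdeal.toIdeal ↔ a ^ d ∈ z'.1.asHomogeneousIdeal.toIdeal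
  exact (z'.1.isPrime.pow_mem_iff_mem d hd).symm

lemma homogeneousIdeal_ext {I J : HomogeneousIdeal 𝒜}
    (h : ∀ (n : ℕ) (a : A), a ∈ 𝒜 n → (a ∈ I.toIdeal ↔ a ∈ J.toIdeal)) : I = J := by
  apply HomogeneousIdeal.toIdeal_injective
  ext x
  rw [I.isHomogeneous.mem_iff, J.isHomogeneous.mem_iff]
  exact forall_congr' fun i ↦ h i _ (SetLike.coe_mem _)

lemma mem_homogeneousCore_iff (P : Ideal A) {n : ℕ} {a : A} (ha : a ∈ 𝒜 n) :
    a ∈ (P.homogeneousCore 𝒜).toIdeal ↔ a ∈ P :=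
  ⟨fun h ↦ Ideal.toIdeal_homogeneousCore_le 𝒜 P h,
    fun h ↦ Ideal.mem_homogeneousCore_of_homogeneous_of_mem ⟨n, ha⟩ h⟩

/-- Points: the image under the chart map of `y ∈ Spec A_f` is the homogeneous core of the prime
of `A` under `y`. -/
lemma chartMap_apply {d : ℕ} {f : A} (hf : f ∈ 𝒜 d) (hd : 0 < d)
    (y : Spec (CommRingCat.of (Localization.Away f))) :
    ((chartMap hf hd).base y).asHomogeneousIdeal =
      (((Spec.map (CommRingCat.ofHom (algebraMap A (Localization.Away f)))).base y).asIdeal).homogeneousCore 𝒜 := by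
  apply homogeneousIdeal_ext
  intro n a ha
  rw [mem_homogeneousCore_iff _ ha]
  have ha' : a ^ d ∈ 𝒜 (n • d) := by
    have := SetLike.pow_mem_graded d ha
    rwa [smul_eq_mul, mul_comm] at this
  change a ∈ ((Proj.awayι 𝒜 f hf hd).base ((Spec.map (CommRingCat.ofHom (algebraMap
    (HomogeneousLocalization.Away 𝒜 f) (Localization.Away f)))).base y)).asHomogeneousIdeal ↔ _
  rw [mem_awayι_iff hf hd _ ha']
  change algebraMap (HomogeneousLocalization.Away 𝒜 f) (Localization.Away f)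
    (HomogeneousLocalization.Away.mk 𝒜 hf n (a ^ d) ha') ∈ y.asIdeal ↔
    algebraMap A (Localization.Away f) a ∈ y.asIdeal
  rw [HomogeneousLocalization.algebraMap_apply, HomogeneousLocalization.Away.val_mk,
    Localization.mk_eq_mk', IsLocalization.mk'_mem_iff, map_pow]
  exact y.isPrime.pow_mem_iff_mem d hd

end Aux

theorem result {R A : Type u} [CommRing R] [CommRing A] [Algebra R A] (𝒜 : ℕ → Submodule R A) [GradedAlgebra 𝒜]
    (π : (Cone.pointed 𝒜 : Scheme.{u}) ⟶ Proj 𝒜)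
    (hπ : ∀ (d : ℕ) (f : A) (hd : 0 < d) (hf : f ∈ 𝒜 d),
        Cone.chart hf hd ≫ π =
          Spec.map (CommRingCat.ofHom (algebraMap (HomogeneousLocalization.Away 𝒜 f) (Localization.Away f))) ≫
            Proj.awayι 𝒜 f hf hd) :
    IsAffineHom π ∧ Surjective π ∧
      (∀ (d : ℕ) (f : A), 0 < d → f ∈ 𝒜 d →
        π ⁻¹ᵁ Proj.basicOpen 𝒜 f = (Cone.pointed 𝒜).ι ⁻¹ᵁ Cone.coneOpen f) ∧
      ∀ p : (Cone.pointed 𝒜 : Scheme.{u}),
        (π.base p).asHomogeneousIdeal = (((Cone.pointed 𝒜).ι.base p).asIdeal).homogeneousCore 𝒜 := by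
  have hD : ∀ p : (Cone.pointed 𝒜 : Scheme.{u}),
      (π.base p).asHomogeneousIdeal =
        (((Cone.pointed 𝒜).ι.base p).asIdeal).homogeneousCore 𝒜 := by
    intro p
    obtain ⟨i, y, rfl⟩ := (cover 𝒜).exists_eq p
    obtain ⟨d, f, hd, hf⟩ := i
    change ((Cone.chart hf hd ≫ π).base y).asHomogeneousIdeal =
      (((Cone.chart hf hd ≫ (Cone.pointed 𝒜).ι).base y).asIdeal).homogeneousCore 𝒜
    rw [hπ d f hd hf, chart_ι]
    exact chartMap_apply hf hd y
  have hC : ∀ (d : ℕ) (f : A), 0 < d → f ∈ 𝒜 d →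
      π ⁻¹ᵁ Proj.basicOpen 𝒜 f = (Cone.pointed 𝒜).ι ⁻¹ᵁ Cone.coneOpen f := by
    intro d f hd hf
    ext p
    change π.base p ∈ Proj.basicOpen 𝒜 f ↔
      (Cone.pointed 𝒜).ι.base p ∈ (PrimeSpectrum.basicOpen f)
    rw [Proj.mem_basicOpen, hD p]
    exact not_congr (mem_homogeneousCore_iff _ hf)
  refine ⟨?_, ?_, hC, hD⟩
  · apply isAffineHom_of_forall_exists_isAffineOpen
    intro z
    have hcov := (Proj.affineOpenCover 𝒜).covers z
    set i := (Proj.affineOpenCover 𝒜).idx z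
    have hz : z ∈ Proj.basicOpen 𝒜 (i.2 : A) := by
      rw [← Proj.opensRange_awayι 𝒜 _ i.2.2 i.1.2]
      exact hcov
    refine ⟨Proj.basicOpen 𝒜 (i.2 : A), hz, Proj.isAffineOpen_basicOpen 𝒜 _ i.2.2 i.1.2, ?_⟩
    rw [hC _ _ i.1.2 i.2.2]
    have hrange : Cone.coneOpen (i.2 : A) = (Spec.map (CommRingCat.ofHom
        (algebraMap A (Localization.Away (i.2 : A))))).opensRange := by
      apply TopologicalSpace.Opens.ext
      exact (PrimeSpectrum.localization_away_comap_range (Localization.Away (i.2 : A)) _).symm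
    apply IsAffineOpen.preimage_of_isOpenImmersion
    · rw [hrange]; exact isAffineOpen_opensRange _
    · rw [hrange]
      intro x hx
      exact Cone.range_subset i.2.2 i.1.2 hx
  · refine ⟨fun z ↦ ?_⟩
    have hmem : (⟨z.asHomogeneousIdeal.toIdeal, z.isPrime⟩ : PrimeSpectrum A) ∈
        Cone.pointed 𝒜 := by
      intro h
      exact z.not_irrelevant_le ((PrimeSpectrum.mem_zeroLocus _ _).mp h)
    refine ⟨⟨⟨z.asHomogeneousIdeal.toIdeal, z.isPrime⟩, hmem⟩, ?_⟩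
    apply ProjectiveSpectrum.ext
    rw [hD]
    exact HomogeneousIdeal.toIdeal_homogeneousCore_eq_self _

end Groth.Agent.S3575
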