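import Groth.Statements.S9972
import Groth.Agent.Lib.H86Coprod

set_option autoImplicit false
universe u
open CategoryTheory CategoryTheory.Limits AlgebraicGeometry
open AlgSp

namespace Groth.Agent.S9972

/-- Two morphisms to an algebraic space separated over B that agree on an open subspace whose scheme
theoretic closure is everything are equal. -/
theorem result {S : Scheme.{u}} {U X Y B : AlgSp.Space S} (q : Y ⟶ B)
    (hq : AlgSp.IsSeparatedMor q.hom) (f g : X ⟶ Y) (hfg : f ≫ q = g ≫ q) (j : U ⟶ X)
    (hj : AlgSp.RepWith @IsOpenImmersion j.hom) (hcl : AlgSp.IsSchImage j.hom (𝟙 X.obj)) (heq : j ≫ f = j ≫ g) :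
    f = g := by
  have hfg' : f.hom ≫ q.hom = g.hom ≫ q.hom := by
    have := congrArg (fun t => t.hom) hfg
    simpa using this
  have heq' : j.hom ≫ f.hom = j.hom ≫ g.hom := by
    have := congrArg (fun t => t.hom) heq
    simpa using this
  let l : X.obj ⟶ pullback q.hom q.hom := pullback.lift f.hom g.hom hfg'
  let e : pullback l (pullback.diagonal q.hom) ⟶ X.obj := pullback.fst _ _
  have he : AlgSp.RepWith @IsClosedImmersion e :=
    MorphismProperty.of_isPullback (P := AlgSp.RepWith @IsClosedImmersion)
      (IsPullback.of_hasPullback l (pullback.diagonal q.hom)).flip hq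
  have hE : AlgSp.IsAlgSpace (pullback l (pullback.diagonal q.hom)) :=
    Groth.Agent.Lib.H86Coprod.isAlgSpace_of_representable e he.1 X.property
  have hw : e ≫ l = pullback.snd _ _ ≫ pullback.diagonal q.hom := pullback.condition
  have hef : e ≫ f.hom = e ≫ g.hom := by
    have h1 := congrArg (fun t => t ≫ pullback.fst _ _) hw
    have h2 := congrArg (fun t => t ≫ pullback.snd _ _) hw
    simp only [Category.assoc, l, pullback.lift_fst, pullback.lift_snd, pullback.diagonal_fst,
      pullback.diagonal_snd, Category.comp_id] at h1 h2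
    rw [h1, h2]
  have hjl : j.hom ≫ l = (j.hom ≫ f.hom) ≫ pullback.diagonal q.hom := by
    apply pullback.hom_ext
    · simp only [Category.assoc, l, pullback.lift_fst, pullback.diagonal_fst, Category.comp_id]
    · simp only [Category.assoc, l, pullback.lift_snd, pullback.diagonal_snd, Category.comp_id, heq']
  obtain ⟨k, hk⟩ := hcl.2.2 e hE he ⟨pullback.lift j.hom (j.hom ≫ f.hom) hjl, pullback.lift_fst _ _ _⟩
  have hfin : f.hom = g.hom := by
    rw [← Category.id_comp f.hom, ← Category.id_comp g.hom, ← hk, Category.assoc, Category.assoc, hef]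
  exact ObjectProperty.hom_ext _ hfin

end Groth.Agent.S9972
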