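import Groth.Statements.S1124
import Mathlib.AlgebraicGeometry.Morphisms.FlatDescent
import Mathlib.AlgebraicGeometry.Morphisms.SchemeTheoreticallyDominant

set_option autoImplicit false
open CategoryTheory CategoryTheory.Limits AlgebraicGeometry Opposite
universe u
open Desc

namespace Groth.Agent.S1124

theorem toImage_ker_eq_bot {X Y : Scheme.{u}} (f : X ⟶ Y) : f.toImage.ker = ⊥ := by
  set K := f.toImage.ker with hK
  have h1 : (K.subschemeι ≫ f.imageι).ker = f.imageι.ker := by
    change K.map f.imageι = _
    rw [hK, ← Scheme.Hom.ker_comp, Scheme.Hom.toImage_imageι, Scheme.IdealSheafData.ker_subschemeι]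
  have : IsIso K.subschemeι :=
    IsClosedImmersion.isIso_of_ker_eq (K.subschemeι ≫ f.imageι) f.imageι K.subschemeι rfl h1
  exact (Scheme.isIso_subschemeι_iff_eq_bot K).mp this

theorem quasiCompact_of_pullback_fst {X Y Z : Scheme.{u}} (f : X ⟶ Z) (g : Y ⟶ Z)
    [Surjective f] [QuasiCompact f] [QuasiCompact (pullback.fst f g)] : QuasiCompact g := by
  rw [quasiCompact_iff]
  intro U hU hUc
  have h1 : IsCompact ((pullback.fst f g).base ⁻¹' (f.base ⁻¹' U)) :=
    QuasiCompact.isCompact_preimage _ (hU.preimage f.continuous)
      (QuasiCompact.isCompact_preimage _ hU hUc)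
  have h2 : g.base ⁻¹' U = (pullback.snd f g).base '' ((pullback.fst f g).base ⁻¹' (f.base ⁻¹' U)) := by
    have hs : Function.Surjective (pullback.snd f g).base := (pullback.snd f g).surjective
    have : (pullback.fst f g).base ⁻¹' (f.base ⁻¹' U) = (pullback.snd f g).base ⁻¹' (g.base ⁻¹' U) := by
      rw [← Set.preimage_comp, ← Set.preimage_comp, ← TopCat.coe_comp, ← TopCat.coe_comp,
        ← Scheme.Hom.comp_base, ← Scheme.Hom.comp_base, pullback.condition]
    rw [this, Set.image_preimage_eq _ hs]
  rw [h2]
  exact h1.image (pullback.snd f g).continuous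

theorem isOpenImmersion_of_pullback {X W Y Z : Scheme.{u}} (f : X ⟶ Z) (j : Y ⟶ W) (i : W ⟶ Z)
    [Surjective f] [Flat f] [QuasiCompact f]
    [IsClosedImmersion i] [IsSchemeTheoreticallyDominant j] [QuasiCompact j]
    [IsImmersion (pullback.fst f (j ≫ i))] : IsOpenImmersion j := by
  let j' := pullback.fst (pullback.snd f i) j
  have h1 : IsSchemeTheoreticallyDominant j' := inferInstance
  have h2 : QuasiCompact j' := inferInstance
  have h3 : IsImmersion (j' ≫ pullback.fst f i) := by
    rw [← pullbackLeftPullbackSndIso_hom_fst]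
    infer_instance
  have h4 : IsImmersion j' := IsImmersion.of_comp j' (pullback.fst f i)
  have h5 : IsIso j'.imageι := (Scheme.isIso_subschemeι_iff_eq_bot _).mpr j'.ker_eq_bot
  have h6 : IsOpenImmersion j' := by
    rw [← j'.toImage_imageι]
    infer_instance
  exact MorphismProperty.of_pullback_fst_of_descendsAlong (P := @IsOpenImmersion)
    (Q := @Surjective ⊓ @Flat ⊓ @QuasiCompact) (f := pullback.snd f i) (g := j)
    ⟨⟨inferInstance, inferInstance⟩, inferInstance⟩ h6

/-- If the base change of a morphism of schemes along a quasi-compact, flat, surjective morphism is a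
quasi-compact immersion, then the morphism itself is a quasi-compact immersion. (Stated for a single
quasi-compact flat surjective base change; together with Zariski-locality on the target this is fpqc
descent for quasi-compact immersions.) -/
theorem result :
    MorphismProperty.DescendsAlong (@IsImmersion ⊓ @QuasiCompact : MorphismProperty Scheme.{u})
      (@Surjective ⊓ @Flat ⊓ @QuasiCompact : MorphismProperty Scheme.{u}) := by
  apply MorphismProperty.DescendsAlong.mk'
  rintro X Y Z f g _ ⟨⟨hf1, hf2⟩, hf3⟩ ⟨hg1, hg2⟩
  have hqc : QuasiCompact g := quasiCompact_of_pullback_fst f g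
  refine ⟨?_, hqc⟩
  have : IsSchemeTheoreticallyDominant g.toImage := ⟨toImage_ker_eq_bot g⟩
  have : IsImmersion (pullback.fst f (g.toImage ≫ g.imageι)) := by
    rw [g.toImage_imageι]; exact hg1
  have : IsOpenImmersion g.toImage := isOpenImmersion_of_pullback f g.toImage g.imageι
  rw [← g.toImage_imageι]
  infer_instance

end Groth.Agent.S1124
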