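import Groth.Statements.S9752
import Groth.Agent.S9237
import Groth.Agent.Lib.BranchesNbhdC96
import Groth.Agent.Lib.LocalEtaleNbhd
import Groth.Agent.Lib.HenselizationFlat
import Groth.Agent.Lib.HenselizationUP

set_option autoImplicit false
universe u
open Brnch

namespace Groth.Agent.S9752

open AlgebraicGeometry CategoryTheory Limits in
/-- For a point x of a scheme X, the branch count of X at x (in ℕ∞) is the least upper bound, taken over
all elementary étale neighbourhoods (U, u) → (X, x) (g : U ⟶ X étale with g u = x and trivial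
residue field extension), of how many irreducible components of U contain u. -/
theorem result (X : Scheme.{u}) (x : X) :
    Brnch.numBranchesAt X x = ⨆ (U : Scheme.{u}) (g : U ⟶ X) (u : U) (_ : Hens2.IsEtaleNbhd g u x),
      {Z : Set ↑U | Z ∈ irreducibleComponents ↑U ∧ u ∈ Z}.encard := by
  have hcard : ENat.card (minimalPrimes (Groth.Agent.Lib.HenselizationConstr.Hzn
      (X.presheaf.stalk x))) = Brnch.numBranches (X.presheaf.stalk x) :=
    Groth.Agent.S9237.result (X.presheaf.stalk x) _
  show Brnch.numBranches (X.presheaf.stalk x) = _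
  rw [← hcard]
  show (minimalPrimes (Groth.Agent.Lib.HenselizationConstr.Hzn (X.presheaf.stalk x))).encard = _
  have : Module.Flat (X.presheaf.stalk x)
      (Groth.Agent.Lib.HenselizationConstr.Hzn (X.presheaf.stalk x)) :=
    Groth.Agent.Lib.HenselizationFlat.flat_Hzn _
  apply le_antisymm
  · rw [← ENat.forall_natCast_le_iff_le]
    intro k hk
    obtain ⟨T, hTsub, hTcard⟩ := Set.exists_subset_encard_eq hk
    have hTfin : T.Finite := Set.finite_of_encard_eq_coe hTcard
    obtain ⟨U, g, u, hg, hgu, hbij, hle⟩ :=
      Groth.Agent.Lib.BranchesNbhd96.exists_nbhd_encard_ge x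
        (Groth.Agent.Lib.HenselizationConstr.Hzn (X.presheaf.stalk x))
        (fun F => by
          obtain ⟨E, i1, i2, i3, -, φ, hφ⟩ :=
            Groth.Agent.Lib.LocalEtaleNbhd.exists_etale_of_finset (X.presheaf.stalk x)
              (Groth.Agent.Lib.HenselizationConstr.Hzn (X.presheaf.stalk x)) F
          exact ⟨E, i1, i2, i3, φ, hφ⟩) T hTfin hTsub
    have hb := hbij (Groth.Agent.Lib.HenselizationUP.residueFieldMap_bijective
      (X.presheaf.stalk x) (Groth.Agent.Lib.HenselizationConstr.Hzn (X.presheaf.stalk x))).2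
    rw [← hTcard]
    exact hle.trans (le_iSup_of_le U (le_iSup_of_le g (le_iSup_of_le u
      (le_iSup_of_le ⟨hg, hgu, hb⟩ le_rfl))))
  · refine iSup_le fun U => iSup_le fun g => iSup_le fun u => iSup_le fun h => ?_
    obtain ⟨hg, hgu, hb⟩ := h
    have hgu' : g u = x := hgu
    subst hgu'
    exact Groth.Agent.Lib.BranchesNbhd96.encard_le_minimalPrimes g u _ (Or.inl hb)

end Groth.Agent.S9752
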