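import Groth.Statements.S9873
-- import your own Groth.Agent.* helpers here
import Groth.Agent.Lib.EtEqvRelQuot46
import Groth.Agent.Lib.FinEtQuot46

set_option autoImplicit false
universe u
open CategoryTheory CategoryTheory.Limits AlgebraicGeometry
open AlgSp

namespace Groth.Agent.S9873

/-- Let `X` be an algebraic space over `S`, `F` an fppf sheaf of sets over `S`, and `f : X ⟶ F` a map of
sheaves which is representable by schemes, etale and surjective (in the representable sense). Then
`F` is an algebraic space over `S`; in particular an fppf sheaf receiving a representable etale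
surjective map from a scheme is an algebraic space. -/
theorem result (S : Scheme.{u}) (X : AlgSp.Space S) (F : AlgSp.Sp S)
    (f : X.obj ⟶ F) (he : AlgSp.RepWith @Etale f) (hs : AlgSp.RepWith @Surjective f) :
    AlgSp.IsAlgSpace F := by
  obtain ⟨U, a, hae, has⟩ := X.property.atlas
  have hpe : AlgSp.RepWith @Etale (a ≫ f) := MorphismProperty.comp_mem _ _ _ hae he
  have hps : AlgSp.RepWith @Surjective (a ≫ f) := MorphismProperty.comp_mem _ _ _ has hs
  have hr : AlgSp.Representable (a ≫ f) := hpe.1
  have sq := hr.isPullback' (a ≫ f)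
  haveI : Epi (a ≫ f) := (Sheaf.isLocallySurjective_iff_epi _).1
    (Groth.Agent.Lib.H69AlgSp.isLocallySurjective_of_etale_surjective (a ≫ f) hpe hps)
  have hE : AlgSp.IsEtaleEqvRel (hr.snd (a ≫ f)) (hr.fst' (a ≫ f)) :=
    { toIsEqvRel := Groth.Agent.Lib.FinEtQuot46.isEqvRel_of_isPullback sq
      etale_left := hpe.2 _ _ _ sq
      etale_right := hpe.2 _ _ _ sq.flip }
  exact (Groth.Agent.Lib.EtEqvRelQuot46.isAlgSpace_of_kernelPair (a ≫ f) sq hE).1

end Groth.Agent.S9873
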