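import Groth.Statements.S9630
import Groth.Agent.Lib.H71SepClosedGeom
import Mathlib.AlgebraicGeometry.Geometrically.Irreducible
import Mathlib.FieldTheory.SeparableClosure
import Mathlib.RingTheory.Flat.Basic

set_option autoImplicit false
universe u
open CAlg

namespace Groth.Agent.S9630

section helpers

open TensorProduct AlgebraicGeometry CategoryTheory CategoryTheory.Limits

variable {k R : Type u} [Field k] [CommRing R] [Algebra k R]

/-- If `Spec (K ⊗ R)` is irreducible for a separably closed extension `K`, then it is so for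
every extension. -/
theorem irreducible_of_sepClosed (K : Type u) [Field K] [Algebra k K] [IsSepClosed K]
    (hK : IrreducibleSpace (PrimeSpectrum (K ⊗[k] R))) (k' : Type u) [Field k'] [Algebra k k'] :
    IrreducibleSpace (PrimeSpectrum (k' ⊗[k] R)) := by
  let f : Spec (CommRingCat.of R) ⟶ Spec (CommRingCat.of k) :=
    Spec.map (CommRingCat.ofHom (algebraMap k R))
  have sqK := (isPullback_SpecMap_of_isPushout _ _ _ _
    (CommRingCat.isPushout_tensorProduct k K R)).flip
  have hirr : IrreducibleSpace ↥(pullback f (Spec.map (CommRingCat.ofHom (algebraMap k K)))) := by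
    have hK' : IrreducibleSpace ↥(Spec (CommRingCat.of (K ⊗[k] R))) := hK
    exact (sqK.isoPullback.hom.homeomorph).irreducibleSpace_iff.1 hK'
  have hgeo : GeometricallyIrreducible f :=
    Groth.Agent.Lib.H71SepClosedGeom.geometricallyIrreducible_of_irreducibleSpace_pullback K f
  have sq := (isPullback_SpecMap_of_isPushout _ _ _ _
    (CommRingCat.isPushout_tensorProduct k k' R)).flip
  exact hgeo.geometrically_irreducibleSpace _ _ _ sq

variable (K : Type u) [Field K] [Algebra k K]

/-- The map `L ⊗ R → K ⊗ R` for an intermediate field `L`. -/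
noncomputable def incl (L : IntermediateField k K) : (L ⊗[k] R) →ₐ[k] (K ⊗[k] R) :=
  Algebra.TensorProduct.map L.val (AlgHom.id k R)

lemma incl_injective (L : IntermediateField k K) : Function.Injective (incl (R := R) K L) := by
  have h : Function.Injective (LinearMap.rTensor R L.val.toLinearMap) :=
    Module.Flat.rTensor_preserves_injective_linearMap _ L.val.injective
  intro x y hxy
  apply h
  exact hxy

lemma incl_range_mono {L₁ L₂ : IntermediateField k K} (h : L₁ ≤ L₂) :
    (incl (R := R) K L₁).range ≤ (incl (R := R) K L₂).range := by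
  rintro _ ⟨x, rfl⟩
  refine ⟨Algebra.TensorProduct.map (IntermediateField.inclusion h) (AlgHom.id k R) x, ?_⟩
  simp only [incl, AlgHom.toRingHom_eq_coe, RingHom.coe_coe]
  rw [← AlgHom.comp_apply, ← Algebra.TensorProduct.map_comp]
  rfl

lemma exists_finite_mem_range [Algebra.IsAlgebraic k K] (z : K ⊗[k] R) :
    ∃ L : IntermediateField k K, FiniteDimensional k L ∧ z ∈ (incl (R := R) K L).range := by
  induction z using TensorProduct.induction_on with
  | zero => exact ⟨⊥, inferInstance, Subalgebra.zero_mem _⟩
  | tmul x r =>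
    refine ⟨IntermediateField.adjoin k {x},
      IntermediateField.adjoin.finiteDimensional (Algebra.IsIntegral.isIntegral x), ?_⟩
    exact ⟨(⟨x, IntermediateField.mem_adjoin_simple_self k x⟩ : IntermediateField.adjoin k {x}) ⊗ₜ r,
      by simp [incl]⟩
  | add a b ha hb =>
    obtain ⟨L₁, h₁, ha⟩ := ha
    obtain ⟨L₂, h₂, hb⟩ := hb
    exact ⟨L₁ ⊔ L₂, inferInstance,
      Subalgebra.add_mem _ (incl_range_mono K le_sup_left ha) (incl_range_mono K le_sup_right hb)⟩

/-- Irreducibility passes to the union of the finite subextensions of an algebraic extension. -/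
theorem irreducible_of_finite [Algebra.IsAlgebraic k K]
    (h : ∀ L : IntermediateField k K, FiniteDimensional k L →
      IrreducibleSpace (PrimeSpectrum (L ⊗[k] R))) :
    IrreducibleSpace (PrimeSpectrum (K ⊗[k] R)) := by
  rw [PrimeSpectrum.irreducibleSpace_iff_isPrime_nilradical]
  have key : ∀ a b : K ⊗[k] R, IsNilpotent (a * b) → IsNilpotent a ∨ IsNilpotent b := by
    intro a b hab
    obtain ⟨L₁, h₁, ha⟩ := exists_finite_mem_range (R := R) K a
    obtain ⟨L₂, h₂, hb⟩ := exists_finite_mem_range (R := R) K b
    obtain ⟨a', rfl⟩ := incl_range_mono K (le_sup_left : L₁ ≤ L₁ ⊔ L₂) ha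
    obtain ⟨b', rfl⟩ := incl_range_mono K (le_sup_right : L₂ ≤ L₁ ⊔ L₂) hb
    have hL : FiniteDimensional k ↥(L₁ ⊔ L₂) := inferInstance
    have hp := (PrimeSpectrum.irreducibleSpace_iff_isPrime_nilradical).1 (h _ hL)
    have hnil : IsNilpotent (a' * b') := by
      obtain ⟨n, hn⟩ := hab
      refine ⟨n, incl_injective (R := R) K _ ?_⟩
      have e : (incl (R := R) K (L₁ ⊔ L₂)) ((a' * b') ^ n) =
          (incl (R := R) K (L₁ ⊔ L₂)).toRingHom ((a' * b') ^ n) := rfl
      rw [e, map_zero, map_pow, map_mul]
      exact hn
    rcases hp.mem_or_mem (mem_nilradical.mpr hnil) with h' | h'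
    · exact Or.inl ((mem_nilradical.mp h').map _)
    · exact Or.inr ((mem_nilradical.mp h').map _)
  refine ⟨?_, fun {a b} hab => ?_⟩
  · intro htop
    have h1 : IsNilpotent (1 : K ⊗[k] R) := mem_nilradical.mp (htop ▸ Submodule.mem_top)
    have hL : FiniteDimensional k ↥(⊥ : IntermediateField k K) := inferInstance
    have hp := (PrimeSpectrum.irreducibleSpace_iff_isPrime_nilradical).1 (h _ hL)
    apply hp.ne_top
    rw [Ideal.eq_top_iff_one, mem_nilradical]
    obtain ⟨n, hn⟩ := h1
    refine ⟨n, incl_injective (R := R) K _ ?_⟩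
    have e : (incl (R := R) K ⊥) ((1 : (↥(⊥ : IntermediateField k K)) ⊗[k] R) ^ n) =
        (incl (R := R) K ⊥).toRingHom ((1 : (↥(⊥ : IntermediateField k K)) ⊗[k] R) ^ n) := rfl
    rw [e, map_zero, map_pow, map_one]
    exact hn
  · rcases key a b (mem_nilradical.mp hab) with h' | h'
    · exact Or.inl (mem_nilradical.mpr h')
    · exact Or.inr (mem_nilradical.mpr h')

end helpers

open TensorProduct in
/-- For a field k and a k-algebra R the following are equivalent: (1) Spec(k' ⊗_k R) is irreducible for
every field extension k'/k; (2) the same for every finite separable extension k'/k; (3) Spec(k^sep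
⊗_k R) is irreducible for the separable closure k^sep; (4) Spec(k̄ ⊗_k R) is irreducible for the
algebraic closure k̄. Here the test fields range over field extensions in the universe of k; this is
equivalent to the unrestricted notion, since an algebraic closure of k suffices as a test. -/
theorem result {k R : Type u} [Field k] [CommRing R] [Algebra k R] :
    [∀ (k' : Type u) [Field k'] [Algebra k k'], IrreducibleSpace (PrimeSpectrum (k' ⊗[k] R)),
      ∀ (k' : Type u) [Field k'] [Algebra k k'] [Module.Finite k k'] [Algebra.IsSeparable k k'], IrreducibleSpace (PrimeSpectrum (k' ⊗[k] R)),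
      IrreducibleSpace (PrimeSpectrum (SeparableClosure k ⊗[k] R)),
      IrreducibleSpace (PrimeSpectrum (AlgebraicClosure k ⊗[k] R))].TFAE := by
  tfae_have 1 → 2 := fun h k' _ _ _ _ => h k'
  tfae_have 1 → 4 := fun h => h (AlgebraicClosure k)
  tfae_have 2 → 3 := by
    intro h
    refine irreducible_of_finite (SeparableClosure k) (fun L hL => ?_)
    have : Algebra.IsSeparable k L := Algebra.isSeparable_tower_bot_of_isSeparable k L (SeparableClosure k)
    exact h L
  tfae_have 3 → 1 := fun h k' _ _ => irreducible_of_sepClosed (SeparableClosure k) h k'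
  tfae_have 4 → 1 := fun h k' _ _ => irreducible_of_sepClosed (AlgebraicClosure k) h k'
  tfae_finish

end Groth.Agent.S9630
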