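import Groth.Statements.S2150
import Groth.Agent.S9630
import Mathlib.FieldTheory.PrimitiveElement
import Mathlib.FieldTheory.SeparableClosure
import Mathlib.FieldTheory.IsAlgClosed.AlgebraicClosure
import Mathlib.Algebra.Polynomial.Lifts
import Mathlib.RingTheory.Polynomial.UniqueFactorization
import Mathlib.RingTheory.Artinian.Module
import Mathlib.RingTheory.AdjoinRoot

set_option autoImplicit false
universe u
open CAlg

namespace Groth.Agent.S2150

section helpers

open Polynomial TensorProduct IntermediateField

variable {k K : Type u} [Field k] [Field K] [Algebra k K]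

/-- If `k` is separably closed in `K`, irreducible separable polynomials over `k` stay
irreducible over `K`. -/
theorem irreducible_map_of_sepClosedIn
    (hK : ∀ α : K, IsSeparable k α → α ∈ Set.range (algebraMap k K)) {P : k[X]}
    (hP : Irreducible P) (hsep : P.Separable) : Irreducible (P.map (algebraMap k K)) := by
  classical
  let Ω := AlgebraicClosure K
  have hnu : ¬ IsUnit (P.map (algebraMap k K)) := by
    intro h
    have h1 := natDegree_eq_zero_of_isUnit h
    rw [natDegree_map] at h1
    exact (Polynomial.natDegree_pos_iff_degree_pos.mpr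
      (Polynomial.degree_pos_of_irreducible hP)).ne' h1
  obtain ⟨Q, hQm, hQirr, hQdvd⟩ := exists_monic_irreducible_factor _ hnu
  have hQlift : Q ∈ Polynomial.lifts (algebraMap k K) := by
    rw [lifts_iff_coeff_lifts]
    intro n
    apply hK
    have hsplit : (Q.map (algebraMap K Ω)).Splits := IsAlgClosed.splits _
    have hQΩ := hsplit.eq_prod_roots_of_monic (hQm.map _)
    have hroots : ∀ β ∈ (Q.map (algebraMap K Ω)).roots, β ∈ separableClosure k Ω := by
      intro β hβ
      rw [mem_separableClosure_iff]
      have hβroot : aeval β P = 0 := by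
        have h1 : (Q.map (algebraMap K Ω)).eval β = 0 := (mem_roots'.mp hβ).2
        obtain ⟨S, hS⟩ := hQdvd
        have h2 : ((P.map (algebraMap k K)).map (algebraMap K Ω)).eval β = 0 := by
          rw [hS, Polynomial.map_mul, eval_mul, h1, zero_mul]
        rw [Polynomial.map_map, ← IsScalarTower.algebraMap_eq, eval_map_algebraMap] at h2
        exact h2
      exact hsep.of_dvd (minpoly.dvd k β hβroot)
    have hlift2 : Q.map (algebraMap K Ω) ∈
        Polynomial.lifts (algebraMap (separableClosure k Ω) Ω) := by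
      rw [hQΩ]
      refine Subsemiring.multiset_prod_mem _ _ ?_
      intro p hp
      obtain ⟨β, hβ, rfl⟩ := Multiset.mem_map.mp hp
      rw [mem_lifts]
      exact ⟨X - C ⟨β, hroots β hβ⟩, by simp⟩
    obtain ⟨σ, hσ⟩ := (lifts_iff_coeff_lifts _).mp hlift2 n
    rw [coeff_map] at hσ
    have h3 : IsSeparable k (algebraMap K Ω (Q.coeff n)) := by
      rw [← hσ]
      exact mem_separableClosure_iff.mp σ.2
    exact (isSeparable_map_iff (IsScalarTower.toAlgHom k K Ω)
      (FaithfulSMul.algebraMap_injective K Ω)).mp h3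
  obtain ⟨Q₀, hQ₀, -, hQ₀m⟩ := lifts_and_natDegree_eq_and_monic hQlift hQm
  have hdvd : Q₀ ∣ P := (map_dvd_map' (algebraMap k K)).mp (by rw [hQ₀]; exact hQdvd)
  have hQ₀nu : ¬ IsUnit Q₀ := fun h =>
    hQirr.not_isUnit (hQ₀ ▸ h.map (mapRingHom (algebraMap k K)))
  obtain ⟨S, hS⟩ := hdvd
  have hSu : IsUnit S := (hP.isUnit_or_isUnit hS).resolve_left hQ₀nu
  have hassoc : Associated Q (P.map (algebraMap k K)) := by
    rw [hS, Polynomial.map_mul, hQ₀]
    exact associated_mul_unit_right _ _ (hSu.map (mapRingHom (algebraMap k K)))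
  exact hassoc.irreducible hQirr

/-- If `k` is separably closed in `K` and `L/k` is finite separable, `L ⊗[k] K` is a domain. -/
theorem isDomain_tensor_of_sepClosedIn
    (hK : ∀ α : K, IsSeparable k α → α ∈ Set.range (algebraMap k K))
    (L : Type u) [Field L] [Algebra k L] [Module.Finite k L] [Algebra.IsSeparable k L] :
    IsDomain (L ⊗[k] K) := by
  classical
  let Ω := AlgebraicClosure K
  obtain ⟨θ, hθ⟩ := Field.exists_primitive_element k L
  have hθint : IsIntegral k θ := IsIntegral.of_finite k θ
  set P := minpoly k θ with hPdef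
  have hPirr : Irreducible P := minpoly.irreducible hθint
  have hPsep : P.Separable := Algebra.IsSeparable.isSeparable k θ
  have hd : P.natDegree = Module.finrank k L :=
    (Field.primitive_element_iff_minpoly_natDegree_eq k θ).mp hθ
  have hirrK := irreducible_map_of_sepClosedIn hK hPirr hPsep
  let σ : L →ₐ[k] Ω := IsAlgClosed.lift
  let φ : K ⊗[k] L →ₐ[K] Ω :=
    Algebra.TensorProduct.lift (Algebra.ofId K Ω) σ (fun _ _ => Commute.all _ _)
  set β : Ω := σ θ with hβ
  have hφβ : φ (1 ⊗ₜ θ) = β := by simp [φ, hβ]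
  have hroot : aeval β (P.map (algebraMap k K)) = 0 := by
    rw [aeval_map_algebraMap, hβ, aeval_algHom_apply, hPdef, minpoly.aeval, map_zero]
  have hmin : P.map (algebraMap k K) = minpoly K β :=
    minpoly.eq_of_irreducible_of_monic hirrK hroot ((minpoly.monic hθint).map _)
  have hβint : IsIntegral K β := ⟨_, (minpoly.monic hθint).map _, by
    rw [← aeval_def]; exact hroot⟩
  have hfr : Module.finrank K K⟮β⟯ = Module.finrank k L := by
    rw [adjoin.finrank hβint, ← hmin, natDegree_map, hd]
  have hle : K⟮β⟯.toSubalgebra.toSubmodule ≤ LinearMap.range φ.toLinearMap := by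
    rw [adjoin_simple_toSubalgebra_of_isAlgebraic hβint.isAlgebraic]
    have : Algebra.adjoin K {β} ≤ φ.range :=
      Algebra.adjoin_le (by rintro _ rfl; exact ⟨_, hφβ⟩)
    exact this
  have hfin : Module.finrank K (K ⊗[k] L) = Module.finrank k L := Module.finrank_baseChange
  have h1 : Module.finrank k L ≤ Module.finrank K (LinearMap.range φ.toLinearMap) := by
    rw [← hfr]
    exact Submodule.finrank_mono hle
  have h2 := LinearMap.finrank_range_add_finrank_ker φ.toLinearMap
  have hker : Module.finrank K (LinearMap.ker φ.toLinearMap) = 0 := by omega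
  have hinj : Function.Injective φ := by
    have : LinearMap.ker φ.toLinearMap = ⊥ := Submodule.finrank_eq_zero.mp hker
    exact LinearMap.ker_eq_bot.mp this
  have hdom : IsDomain (K ⊗[k] L) := hinj.isDomain φ.toRingHom
  exact (Algebra.TensorProduct.comm k L K).toMulEquiv.isDomain _

/-- If `Spec (L ⊗[k] K)` is irreducible for `L = k[X]/(minpoly α)`, `α ∈ K` separable over `k`,
then `α ∈ k`. -/
theorem mem_range_of_irreducibleSpace (α : K) (hα : IsSeparable k α)
    (hirr : ∀ (k' : Type u) [Field k'] [Algebra k k'],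
      IrreducibleSpace (PrimeSpectrum (k' ⊗[k] K))) : α ∈ Set.range (algebraMap k K) := by
  classical
  let Ω := AlgebraicClosure K
  have hαint : IsIntegral k α := hα.isIntegral
  set P := minpoly k α with hPdef
  have hPirr : Irreducible P := minpoly.irreducible hαint
  by_contra hnot
  have hdeg : 2 ≤ P.natDegree := (minpoly.two_le_natDegree_iff hαint).mpr hnot
  -- a second root
  have hsplit : (P.map (algebraMap k Ω)).Splits := IsAlgClosed.splits _
  have hcard : (P.map (algebraMap k Ω)).roots.card = P.natDegree := by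
    have := splits_iff_card_roots.mp hsplit
    rwa [natDegree_map] at this
  have hnodup : (P.map (algebraMap k Ω)).roots.Nodup :=
    nodup_roots (Polynomial.Separable.map (show P.Separable from hα))
  obtain ⟨α', hα'mem, hα'ne⟩ : ∃ α' ∈ (P.map (algebraMap k Ω)).roots, α' ≠ algebraMap K Ω α := by
    by_contra hcon
    push Not at hcon
    have hsub : (P.map (algebraMap k Ω)).roots ≤ {algebraMap K Ω α} := by
      rw [Multiset.le_iff_subset hnodup]
      intro x hx
      rw [Multiset.mem_singleton]
      exact hcon x hx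
    have := Multiset.card_le_card hsub
    rw [hcard, Multiset.card_singleton] at this
    omega
  have hα'root : aeval α' P = 0 := by
    have := (mem_roots'.mp hα'mem).2
    rwa [IsRoot.def, eval_map_algebraMap] at this
  have hαroot : aeval (algebraMap K Ω α) P = 0 := by
    rw [aeval_algebraMap_apply, hPdef, minpoly.aeval, map_zero]
  have : Fact (Irreducible P) := ⟨hPirr⟩
  let L := AdjoinRoot P
  let σ₁ : L →ₐ[k] Ω := AdjoinRoot.liftAlgHom P (Algebra.ofId k Ω) (algebraMap K Ω α) (by
    have := hαroot; rw [aeval_def] at this; exact this)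
  let σ₂ : L →ₐ[k] Ω := AdjoinRoot.liftAlgHom P (Algebra.ofId k Ω) α' (by
    have := hα'root; rw [aeval_def] at this; exact this)
  let φ₁ : L ⊗[k] K →ₐ[k] Ω :=
    Algebra.TensorProduct.lift σ₁ (IsScalarTower.toAlgHom k K Ω) (fun _ _ => Commute.all _ _)
  let φ₂ : L ⊗[k] K →ₐ[k] Ω :=
    Algebra.TensorProduct.lift σ₂ (IsScalarTower.toAlgHom k K Ω) (fun _ _ => Commute.all _ _)
  let t : L ⊗[k] K := (1 : L) ⊗ₜ α - AdjoinRoot.root P ⊗ₜ (1 : K)
  have hσ₁ : σ₁ (AdjoinRoot.root P) = algebraMap K Ω α := AdjoinRoot.liftAlgHom_root _ _ _ _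
  have hσ₂ : σ₂ (AdjoinRoot.root P) = α' := AdjoinRoot.liftAlgHom_root _ _ _ _
  have ht₁ : φ₁ t = 0 := by
    simp only [φ₁, t, map_sub, Algebra.TensorProduct.lift_tmul, map_one, one_mul, mul_one,
      IsScalarTower.coe_toAlgHom', hσ₁, sub_self]
  have ht₂ : φ₂ t ≠ 0 := by
    simp only [φ₂, t, map_sub, Algebra.TensorProduct.lift_tmul, map_one, one_mul, mul_one,
      IsScalarTower.coe_toAlgHom', hσ₂]
    exact sub_ne_zero.mpr hα'ne.symm
  -- all primes of `L ⊗ K` are maximal
  have hirrL := hirr L
  have hN : (nilradical (L ⊗[k] K)).IsPrime :=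
    PrimeSpectrum.irreducibleSpace_iff_isPrime_nilradical.mp hirrL
  let e : L ⊗[k] K ≃ₐ[k] K ⊗[k] L := Algebra.TensorProduct.comm k L K
  have hfinL : Module.Finite k L := (AdjoinRoot.powerBasis hPirr.ne_zero).finite
  have hart' : IsArtinianRing (K ⊗[k] L) := IsArtinianRing.of_finite K (K ⊗[k] L)
  have hart : IsArtinianRing (L ⊗[k] K) := e.toRingEquiv.symm.isArtinianRing
  have hNmax : (nilradical (L ⊗[k] K)).IsMaximal := inferInstance
  have hp₁ : (RingHom.ker φ₁.toRingHom).IsPrime := RingHom.ker_isPrime _
  have hp₂ : (RingHom.ker φ₂.toRingHom).IsPrime := RingHom.ker_isPrime _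
  have hker₁ : RingHom.ker φ₁.toRingHom = nilradical (L ⊗[k] K) := by
    refine (hNmax.eq_of_le (RingHom.ker_ne_top _) ?_).symm
    exact nilradical_le_prime _
  have hker₂ : RingHom.ker φ₂.toRingHom = nilradical (L ⊗[k] K) := by
    refine (hNmax.eq_of_le (RingHom.ker_ne_top _) ?_).symm
    exact nilradical_le_prime _
  have : t ∈ RingHom.ker φ₂.toRingHom := by
    rw [hker₂, ← hker₁]
    exact ht₁
  exact ht₂ this

end helpers

open TensorProduct in
/-- For a field extension `K/k`, the spectrum of `k' ⊗_k K` is irreducible for every field extension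
`k'/k` (geometric irreducibility, extensions in the same universe) if and only if every element of
`K` which is separable algebraic over `k` lies in `k`. -/
theorem result {k K : Type u} [Field k] [Field K] [Algebra k K] :
    (∀ (k' : Type u) [Field k'] [Algebra k k'], IrreducibleSpace (PrimeSpectrum (k' ⊗[k] K))) ↔
      ∀ α : K, IsSeparable k α → α ∈ Set.range (algebraMap k K) := by
  constructor
  · intro h α hα
    exact mem_range_of_irreducibleSpace α hα h
  · intro hK
    refine ((Groth.Agent.S9630.result (k := k) (R := K)).out 1 0).mp ?_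
    intro k' _ _ _ _
    have := isDomain_tensor_of_sepClosedIn hK k'
    infer_instance

end Groth.Agent.S2150
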