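import Groth.Statements.S7609
import Groth.Agent.Lib.CMBaseChange33b
import Groth.Agent.Lib.CMFlat33

set_option autoImplicit false
universe u
open CategoryTheory CategoryTheory.Limits AlgebraicGeometry
open Variety

namespace Groth.Agent.S7609

/-- Let X be a scheme locally of finite type over a field k, k' any extension field of k and x' a point
of X_{k'} with image x in X. Then the local ring O_{X, x} is Cohen-Macaulay if and only if
O_{X_{k'}, x'} is Cohen-Macaulay. -/
theorem result (k : Type u) [Field k] (X : Scheme.{u}) [X.Over (Spec (CommRingCat.of k))] [LocallyOfFiniteType (X ↘ (Spec (CommRingCat.of k)))]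
    (k' : Type u) [Field k'] [Algebra k k'] (x' : ↥(Curv2.bc k X k')) :
    LocCoh.IsCohenMacaulayLocalRing ↥(X.presheaf.stalk (Curv2.bcFst k X k' x')) ↔
      LocCoh.IsCohenMacaulayLocalRing ↥((Curv2.bc k X k').presheaf.stalk x') := by
  have hXN : IsLocallyNoetherian X :=
    LocallyOfFiniteType.isLocallyNoetherian (X ↘ (Spec (CommRingCat.of k)))
  constructor
  · intro h
    let _ := Curv2.stalkAlgebra k X (Curv2.bcFst k X k' x')
    have hR : LocCoh.IsCohenMacaulayRing ↥(X.presheaf.stalk (Curv2.bcFst k X k' x')) :=
      Groth.Agent.Lib.H8CM.isCMRing_of_isCMLocalRing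
    have hE : Algebra.EssFiniteType k ↥(X.presheaf.stalk (Curv2.bcFst k X k' x')) :=
      Groth.Agent.Lib.CMBaseChange33.essFiniteType_stalkMap k X _
    have h2 : LocCoh.IsCohenMacaulayRing
        (TensorProduct k ↥(X.presheaf.stalk (Curv2.bcFst k X k' x')) k') :=
      Groth.Agent.Lib.CMBaseChange33.isCohenMacaulayRing_tensor_of_essFiniteType_left k _ k'
    exact Groth.Agent.Lib.CMBaseChange33.cm_of_tensor k X _ k' h2 x' rfl
  · intro h
    have hfl : Flat (Curv2.bcFst k X k') :=
      MorphismProperty.pullback_fst (P := @Flat) _ _ inferInstance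
    have hφ := Flat.stalkMap (Curv2.bcFst k X k') x'
    have hNB : IsNoetherianRing ((Curv2.bc k X k').presheaf.stalk x') := inferInstance
    exact ((Groth.Agent.Lib.CMFlat33.isCohenMacaulayLocalRing_iff
      ((Curv2.bcFst k X k').stalkMap x').hom hφ).mp h).1

end Groth.Agent.S7609
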