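import Groth.Statements.S4647
import Groth.Agent.Lib.NoethTop
import Mathlib.AlgebraicGeometry.Stalk
import Mathlib.AlgebraicGeometry.Properties
import Mathlib.Topology.Sober

set_option autoImplicit false
open CategoryTheory AlgebraicGeometry
universe u
open FDesc

namespace Groth.Agent.S4647

/-- The stalk maps of a flat morphism are injective. -/
lemma stalkMap_injective_of_flat {X Y : Scheme.{u}} (f : X ⟶ Y) [Flat f] (x : X) :
    Function.Injective (f.stalkMap x).hom := by
  algebraize [(f.stalkMap x).hom]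
  have : Module.FaithfullyFlat (Y.presheaf.stalk (f x)) (X.presheaf.stalk x) :=
    @Module.FaithfullyFlat.of_flat_of_isLocalHom _ _ _ _ _ _ _
      (Flat.stalkMap f x) (f.toLRSHom.prop x)
  exact ‹RingHom.FaithfullyFlat _›.injective

/-- Two maximal points generalizing a point whose local ring is a domain coincide. -/
lemma eq_of_specializes_of_isDomain_stalk {Y : Scheme.{u}} (y : Y)
    [IsDomain (Y.presheaf.stalk y)] {η₁ η₂ : Y} (h₁ : η₁ ⤳ y) (h₂ : η₂ ⤳ y)
    (hm₁ : ∀ z : Y, z ⤳ η₁ → z = η₁) (hm₂ : ∀ z : Y, z ⤳ η₂ → z = η₂) : η₁ = η₂ := by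
  have key : ∀ η : Y, η ⤳ y → (∀ z : Y, z ⤳ η → z = η) →
      Y.fromSpecStalk y (⊥ : PrimeSpectrum (Y.presheaf.stalk y)) = η := by
    intro η h hm
    have hr : η ∈ Set.range (Y.fromSpecStalk y) := by
      rw [Scheme.range_fromSpecStalk]; exact h
    obtain ⟨p, rfl⟩ := hr
    apply hm
    have hle : (⊥ : PrimeSpectrum (Y.presheaf.stalk y)) ⤳ p :=
      (PrimeSpectrum.le_iff_specializes _ _).mp bot_le
    exact hle.map (Y.fromSpecStalk y).continuous
  rw [← key η₁ h₁ hm₁, ← key η₂ h₂ hm₂]

/-- Let f : X → Y be a faithfully flat (flat and surjective) morphism. If all local rings of X are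
domains (in particular if X is locally integral) and the underlying space of Y is locally
Noetherian, then Y is locally integral: every point of Y has an open neighbourhood which is an
integral scheme. -/
theorem result {X Y : Scheme.{u}} (f : X ⟶ Y) [Flat f] [Surjective f]
    (hX : ∀ x : X, IsDomain ↑(X.presheaf.stalk x))
    (hY : ∀ y : Y, ∃ U : Y.Opens, y ∈ U ∧ TopologicalSpace.NoetherianSpace ↥U) (y : Y) :
    ∃ U : Y.Opens, y ∈ U ∧ IsIntegral (U : Scheme.{u}) := by
  have hdom : ∀ y : Y, IsDomain ↑(Y.presheaf.stalk y) := by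
    intro y
    obtain ⟨x, rfl⟩ := f.surjective y
    have := hX x
    exact (stalkMap_injective_of_flat f x).isDomain
  have hgen : ∀ Z ∈ irreducibleComponents ↥Y, ∃ η : Y, closure ({η} : Set ↥Y) = Z ∧
      ∀ z : Y, z ⤳ η → z = η := by
    intro Z hZ
    have hcl : IsClosed Z := isClosed_of_mem_irreducibleComponents Z hZ
    have hη : IsGenericPoint hZ.1.genericPoint Z := hZ.1.isGenericPoint_genericPoint hcl
    refine ⟨hZ.1.genericPoint, hη.def, fun z hz => ?_⟩
    have hle : Z ≤ closure ({z} : Set ↥Y) := by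
      rw [← hη.def]
      exact closure_minimal (Set.singleton_subset_iff.mpr (specializes_iff_mem_closure.mp hz))
        isClosed_closure
    have hle' : closure ({z} : Set ↥Y) ≤ Z := hZ.2 isIrreducible_singleton.closure hle
    have hz' : IsGenericPoint z Z := le_antisymm hle' hle
    exact hz'.eq hη
  have hd : (irreducibleComponents ↥Y).PairwiseDisjoint id := by
    intro Z₁ hZ₁ Z₂ hZ₂ hne
    rw [Function.onFun, Set.disjoint_left]
    intro y hy₁ hy₂
    apply hne
    obtain ⟨η₁, hη₁, hm₁⟩ := hgen Z₁ hZ₁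
    obtain ⟨η₂, hη₂, hm₂⟩ := hgen Z₂ hZ₂
    have h₁ : η₁ ⤳ y := by rw [specializes_iff_mem_closure, hη₁]; exact hy₁
    have h₂ : η₂ ⤳ y := by rw [specializes_iff_mem_closure, hη₂]; exact hy₂
    have := hdom y
    have heq := eq_of_specializes_of_isDomain_stalk y h₁ h₂ hm₁ hm₂
    rw [← hη₁, ← hη₂, heq]
  have hN : ∀ y : Y, ∃ U ∈ nhds y, TopologicalSpace.NoetherianSpace U := by
    intro y
    obtain ⟨U, hyU, hU⟩ := hY y
    exact ⟨U, U.isOpen.mem_nhds hyU, hU⟩
  have hopen : IsOpen (irreducibleComponent y) :=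
    Groth.Agent.Lib.NoethTop.isOpen_of_mem_irreducibleComponents_of_pairwiseDisjoint hN hd
      (irreducibleComponent_mem_irreducibleComponents y)
  let U : Y.Opens := ⟨irreducibleComponent y, hopen⟩
  refine ⟨U, mem_irreducibleComponent, ?_⟩
  rw [isIntegral_iff_irreducibleSpace_and_isReduced]
  constructor
  · have hirr : IsIrreducible (U : Set ↥Y) := isIrreducible_irreducibleComponent
    exact Subtype.irreducibleSpace hirr
  · have : ∀ z : Y, _root_.IsReduced (Y.presheaf.stalk z) := fun z => by
      have := hdom z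
      infer_instance
    have : IsReduced Y := isReduced_of_isReduced_stalk Y
    infer_instance

end Groth.Agent.S4647
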