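import Groth.Statements.S6333
import Mathlib.RingTheory.AlgebraicIndependent.AlgebraicClosure
import Mathlib.RingTheory.AlgebraicIndependent.TranscendenceBasis
import Mathlib.RingTheory.Localization.Module
import Mathlib.FieldTheory.IntermediateField.Adjoin.Algebra

set_option autoImplicit false
universe u
open Fields

namespace Groth.Agent.S6333


open MvPolynomial
open scoped IntermediateField.algebraAdjoinAdjoin

/-- Linear disjointness of an algebraic and a purely transcendental extension, in elementary form. -/
theorem core {k K : Type u} [Field k] [Field K] [Algebra k K] {ι : Type u} (x : ι → K)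
    (hx : AlgebraicIndependent k x) {κ : Type u} [Fintype κ] (a : κ → algebraicClosure k K)
    (ha : LinearIndependent k a) :
    LinearIndependent (IntermediateField.adjoin k (Set.range x)) (fun i => (a i : K)) := by
  classical
  rw [← LinearIndependent.iff_fractionRing (Algebra.adjoin k (Set.range x))
    (IntermediateField.adjoin k (Set.range x))]
  rw [Fintype.linearIndependent_iff]
  intro g hg
  have hex : ∀ i, ∃ p : MvPolynomial ι k, aeval x p = (g i : K) := by
    intro i
    have h1 : (g i : K) ∈ Algebra.adjoin k (Set.range x) := (g i).2
    have h2 : (g i : K) ∈ (aeval x : MvPolynomial ι k →ₐ[k] K).range :=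
      (Algebra.adjoin_range_eq_range_aeval k x) ▸ h1
    exact h2
  choose p hp using hex
  have hx' : AlgebraicIndependent (algebraicClosure k K) x := hx.extendScalars _
  set P : MvPolynomial ι (algebraicClosure k K) :=
    ∑ i, C (a i) * map (algebraMap k (algebraicClosure k K)) (p i) with hPdef
  have hP : aeval x P = 0 := by
    rw [hPdef, map_sum, ← hg]
    refine Finset.sum_congr rfl fun i _ => ?_
    rw [map_mul, aeval_C, aeval_map_algebraMap, hp, mul_comm]
    rfl
  have hP0 : P = 0 := hx'.eq_zero_of_aeval_eq_zero P hP
  have hcoeff : ∀ μ i, coeff μ (p i) = 0 := by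
    intro μ
    have hc : ∑ i, (coeff μ (p i)) • a i = 0 := by
      have := congrArg (coeff μ) hP0
      rw [hPdef, coeff_sum, coeff_zero] at this
      rw [← this]
      refine Finset.sum_congr rfl fun i _ => ?_
      rw [coeff_C_mul, coeff_map, Algebra.smul_def, mul_comm]
    exact fun i => Fintype.linearIndependent_iff.1 ha _ hc i
  intro i
  have hpi : p i = 0 := by
    ext μ
    rw [hcoeff μ i, coeff_zero]
  apply Subtype.ext
  rw [← hp i, hpi, map_zero]
  rfl

theorem result' {k K : Type u} [Field k] [Field K] [Algebra k K]
    (hfg : (⊤ : IntermediateField k K).FG) :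
    FiniteDimensional k (algebraicClosure k K) := by
  classical
  obtain ⟨S, hSfin, hS⟩ := IntermediateField.fg_def.1 hfg
  have halg : Algebra.IsAlgebraic (Algebra.adjoin k S) K := by
    refine ⟨fun z => ?_⟩
    have hz : z ∈ IntermediateField.adjoin k S := hS ▸ IntermediateField.mem_top
    have h1 : IsAlgebraic (Algebra.adjoin k S) (⟨z, hz⟩ : IntermediateField.adjoin k S) :=
      Algebra.IsAlgebraic.isAlgebraic _
    have := h1.algHom (IsScalarTower.toAlgHom (Algebra.adjoin k S) (IntermediateField.adjoin k S) K)
    exact this
  obtain ⟨t, htS, htb⟩ := exists_isTranscendenceBasis_subset (R := k) S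
  have htfin : t.Finite := hSfin.subset htS
  set F := IntermediateField.adjoin k (Set.range ((↑) : t → K)) with hF
  have hFalg : Algebra.IsAlgebraic F K := htb.isAlgebraic_field
  have hfd : FiniteDimensional F K := by
    have h1 : IntermediateField.adjoin F S = ⊤ := by
      rw [← IntermediateField.restrictScalars_eq_top_iff (K := k), eq_top_iff, ← hS,
        IntermediateField.adjoin_le_iff]
      exact IntermediateField.subset_adjoin F S
    have : Finite S := hSfin.to_subtype
    have h2 : FiniteDimensional F (IntermediateField.adjoin F S) :=
      IntermediateField.finiteDimensional_adjoin fun x _ => Algebra.IsIntegral.isIntegral x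
    rw [h1] at h2
    exact IntermediateField.topEquiv.toLinearEquiv.finiteDimensional
  have hbound : ∀ s : Finset (algebraicClosure k K),
      (LinearIndependent k fun i : s => (i : algebraicClosure k K)) →
        s.card ≤ Module.finrank F K := by
    intro s hs
    have h1 := core _ htb.1 (fun i : s => (i : algebraicClosure k K)) hs
    have h2 := h1.fintype_card_le_finrank
    simpa using h2
  have hrank : Module.rank k (algebraicClosure k K) ≤ (Module.finrank F K : ℕ) := rank_le hbound
  exact Module.rank_lt_aleph0_iff.1 (lt_of_le_of_lt hrank Cardinal.natCast_lt_aleph0)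


/-- For a finitely generated field extension K/k, the algebraic closure of k inside K is a finite
extension of k. -/
theorem result {k K : Type u} [Field k] [Field K] [Algebra k K]
    (hfg : (⊤ : IntermediateField k K).FG) :
    FiniteDimensional k (algebraicClosure k K) := by
  exact result' hfg

end Groth.Agent.S6333
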