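import Groth.Statements.S4863
import Groth.Agent.Lib.FlatLimFP88
import Groth.Agent.Lib.UnramifiedLocusBC
import Groth.Agent.Lib.FlatOverSections
import Groth.Agent.Lib.H90OXModFP

set_option autoImplicit false
universe u
open EGA43

namespace Groth.Agent.S4863

open AlgebraicGeometry CategoryTheory Limits in
/-- First assertion, for a module: let f : X ⟶ Y be locally of finite presentation and F a
quasi-coherent O_X-module of finite presentation. Then the set of points of X at which F is f-flat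
is open. -/
theorem result {X Y : Scheme.{u}} (f : X ⟶ Y)
    [LocallyOfFinitePresentation f] (F : X.Modules) [Coh.IsQCoh F] (hF : CohB1.IsFP F) :
    IsOpen {x : X | FlatMod.IsFlatOverAt f F x} := by
  haveI : F.IsQuasicoherent := ‹Coh.IsQCoh F›
  haveI : SheafOfModules.IsFinitePresentation (R := X.ringCatSheaf) F := hF
  refine isOpen_iff_forall_mem_open.mpr fun x hx => ?_
  obtain ⟨_, ⟨V, hV, rfl⟩, hxV, -⟩ :=
    Y.isBasis_affineOpens.exists_subset_of_mem_open (Set.mem_univ (f x)) isOpen_univ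
  obtain ⟨_, ⟨U, hU, rfl⟩, hxU, hUV⟩ :=
    X.isBasis_affineOpens.exists_subset_of_mem_open hxV (V.2.preimage f.continuous)
  have hfp := f.finitePresentation_appLE hV hU hUV
  letI algRS : Algebra Γ(Y, V) Γ(X, U) := (f.appLE V U hUV).hom.toAlgebra
  haveI : Algebra.FinitePresentation Γ(Y, V) Γ(X, U) := hfp
  letI modRM : Module Γ(Y, V) Γ(F, U) := Module.compHom _ (f.appLE V U hUV).hom
  haveI : IsScalarTower Γ(Y, V) Γ(X, U) Γ(F, U) := .of_algebraMap_smul fun _ _ => rfl
  haveI := Groth.Agent.Lib.H90OXModFP.finitePresentation_sections F hU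
  have key : ∀ (y : X) (hy : y ∈ U), FlatMod.IsFlatOverAt f F y ↔
      Module.Flat Γ(Y, V)
        (LocalizedModule (hU.primeIdealOf ⟨y, hy⟩).asIdeal.primeCompl Γ(F, U)) := by
    intro y hy
    rw [Groth.Agent.Lib.H72FlatBaseChange.isFlatOverAt_iff_flat_sections f F hUV hV y hy]
    letI modS := Groth.Agent.Lib.QCohStalk.moduleSectionStalk F (⟨y, hy⟩ : U)
    letI modR : Module Γ(Y, V) (F.presheaf.stalk y) :=
      Module.compHom _ ((X.presheaf.germ U y hy).hom.comp (f.appLE V U hUV).hom)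
    haveI tow : IsScalarTower Γ(Y, V) Γ(X, U) (F.presheaf.stalk y) :=
      .of_algebraMap_smul fun _ _ => rfl
    have hlm := Groth.Agent.Lib.QCohStalk.isLocalizedModule_germ F hU (⟨y, hy⟩ : U)
    let E := IsLocalizedModule.iso (hU.primeIdealOf ⟨y, hy⟩).asIdeal.primeCompl
      (Groth.Agent.Lib.QCohStalk.germLinear F (⟨y, hy⟩ : U))
    exact (Module.Flat.equiv_iff (E.restrictScalars Γ(Y, V))).symm
  have hopen := Groth.Agent.Lib.FlatLimFP88.isOpen_module_flat_locus
    (R := Γ(Y, V)) (S := Γ(X, U)) (M := Γ(F, U))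
  have hq : hU.primeIdealOf ⟨x, hxU⟩ ∈ {q : PrimeSpectrum Γ(X, U) |
      Module.Flat Γ(Y, V) (LocalizedModule q.asIdeal.primeCompl Γ(F, U))} :=
    (key x hxU).mp hx
  obtain ⟨_, ⟨r, rfl⟩, hrx, hr⟩ :=
    PrimeSpectrum.isTopologicalBasis_basic_opens.exists_subset_of_mem_open hq hopen
  refine ⟨X.basicOpen r, fun y hy => ?_, (X.basicOpen r).2,
    (Groth.Agent.Lib.UnramifiedLocusBC.mem_basicOpen_iff_primeIdealOf hU r hxU).mpr hrx⟩
  have hyU : y ∈ U := X.basicOpen_le r hy
  exact (key y hyU).mpr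
    (hr ((Groth.Agent.Lib.UnramifiedLocusBC.mem_basicOpen_iff_primeIdealOf hU r hyU).mp hy))

end Groth.Agent.S4863
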