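import Groth.Statements.S9350
import Groth.Agent.Lib.H72PullbackStalk

set_option autoImplicit false
universe u
open FlatMod

namespace Groth.Agent.S9350

section helpers

open AlgebraicGeometry CategoryTheory Groth.Agent.Lib.H72PullbackStalk

variable {X Y S : Scheme.{u}}

theorem core (h : X ⟶ Y) (q : Y ⟶ S) (G : Y.Modules) [G.IsQuasicoherent] (x : X)
    (hflat : (h.stalkMap x).hom.Flat) :
    FlatMod.IsFlatOverAt q G (h.base x) ↔
      FlatMod.IsFlatOverAt (h ≫ q) ((Scheme.Modules.pullback h).obj G) x := by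
  let F := (Scheme.Modules.pullback h).obj G
  letI algA'B' : Algebra (Y.presheaf.stalk (h x)) (X.presheaf.stalk x) :=
    (h.stalkMap x).hom.toAlgebra
  letI algRA' : Algebra (S.presheaf.stalk (q (h x))) (Y.presheaf.stalk (h x)) :=
    (q.stalkMap (h x)).hom.toAlgebra
  letI algRB' : Algebra (S.presheaf.stalk (q (h x))) (X.presheaf.stalk x) :=
    ((h ≫ q).stalkMap x).hom.toAlgebra
  have hcomp : ((h ≫ q).stalkMap x).hom = (h.stalkMap x).hom.comp (q.stalkMap (h x)).hom := by
    rw [Scheme.Hom.stalkMap_comp]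
    rfl
  haveI : IsScalarTower (S.presheaf.stalk (q (h x))) (Y.presheaf.stalk (h x)) (X.presheaf.stalk x) :=
    IsScalarTower.of_algebraMap_eq fun r => congrArg (fun φ : _ →+* _ => φ r) hcomp
  letI modA'NP : Module (Y.presheaf.stalk (h x)) (F.presheaf.stalk x) :=
    Module.compHom _ (h.stalkMap x).hom
  haveI : IsScalarTower (Y.presheaf.stalk (h x)) (X.presheaf.stalk x) (F.presheaf.stalk x) :=
    .of_algebraMap_smul fun _ _ => rfl
  letI modRMp : Module (S.presheaf.stalk (q (h x))) (G.presheaf.stalk (h x)) :=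
    FlatMod.moduleStalkOver q G (h x)
  haveI : IsScalarTower (S.presheaf.stalk (q (h x))) (Y.presheaf.stalk (h x)) (G.presheaf.stalk (h x)) :=
    .of_algebraMap_smul fun _ _ => rfl
  letI modRNP : Module (S.presheaf.stalk (q (h x))) (F.presheaf.stalk x) :=
    FlatMod.moduleStalkOver (h ≫ q) F x
  haveI : IsScalarTower (S.presheaf.stalk (q (h x))) (Y.presheaf.stalk (h x)) (F.presheaf.stalk x) := by
    refine .of_algebraMap_smul fun r n => ?_
    exact congrArg (fun t : X.presheaf.stalk x => t • n) (congrArg (fun φ : _ →+* _ => φ r) hcomp).symm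
  haveI : Module.Flat (Y.presheaf.stalk (h x)) (X.presheaf.stalk x) := hflat
  haveI : IsLocalHom (algebraMap (Y.presheaf.stalk (h x)) (X.presheaf.stalk x)) :=
    inferInstanceAs (IsLocalHom (h.stalkMap x).hom)
  haveI : Module.FaithfullyFlat (Y.presheaf.stalk (h x)) (X.presheaf.stalk x) :=
    Module.FaithfullyFlat.of_flat_of_isLocalHom
  obtain ⟨τ, hτ⟩ := exists_isBaseChange_stalk_pullback h G x
  exact flat_iff_of_isBaseChange (R := S.presheaf.stalk (q (h x))) τ hτ

end helpers


open AlgebraicGeometry CategoryTheory in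
/-- Let h : X → Y be a morphism of S-schemes, q : Y → S, G a quasi-coherent O_Y-module and x ∈ X with h
flat at x. Flatness of G over S at h x is equivalent to flatness of h^*G over S at x. -/
theorem result {X Y S : Scheme.{u}} (h : X ⟶ Y) (q : Y ⟶ S)
    (G : Y.Modules) (hG : Coh.IsQCoh G) (x : X) (hflat : (h.stalkMap x).hom.Flat) :
    FlatMod.IsFlatOverAt q G (h.base x) ↔ FlatMod.IsFlatOverAt (h ≫ q) ((Scheme.Modules.pullback h).obj G) x := by
  haveI : G.IsQuasicoherent := hG
  exact core h q G x hflat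

end Groth.Agent.S9350
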