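import Groth.Statements.S6992
import Groth.Agent.Lib.RelFP
import Mathlib.RingTheory.Finiteness.ModuleFinitePresentation
import Mathlib.Algebra.MvPolynomial.Equiv

set_option autoImplicit false
universe u
open CAlg

namespace Groth.Agent.S6992

open Groth.Agent.Lib.RelFP

/-- Finite presentation through a finite free intermediate algebra. -/
theorem fpVia_finite_free_iff {P R' B : Type u} [CommRing P] [CommRing R'] [CommRing B]
    [Algebra P R'] [Module.Finite P R'] [Module.Free P R'] (φ' : R' →+* B)
    (M : Type u) [AddCommGroup M] [Module B M] :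
    FPVia (φ'.comp (algebraMap P R')) M ↔ FPVia φ' M := by
  unfold FPVia
  let _ : Module R' M := Module.compHom M φ'
  let _ : Module P M := Module.compHom M (φ'.comp (algebraMap P R'))
  have : IsScalarTower P R' M := IsScalarTower.of_algebraMap_smul fun r m => rfl
  have hfpR' : Module.FinitePresentation P R' := Module.finitePresentation_of_projective P R'
  constructor
  · intro h
    have : Module.FinitePresentation P M := h
    have : Module.Finite R' M := Module.Finite.of_restrictScalars_finite P R' M
    obtain ⟨a, l, hl⟩ := Module.Finite.exists_fin' R' M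
    have hker : (LinearMap.ker (l.restrictScalars P)).FG :=
      Module.FinitePresentation.fg_ker (l.restrictScalars P) hl
    have hker' : (LinearMap.ker l).FG := by
      apply Submodule.FG.of_restrictScalars P
      rwa [LinearMap.ker_restrictScalars] at hker
    exact Module.finitePresentation_of_surjective l hl hker'
  · intro h
    have : Module.FinitePresentation R' M := h
    exact Module.FinitePresentation.trans P M R'

/-- Let R be a commutative ring, A → B a finite homomorphism of finite type R-algebras, M a B-module,
and α : R[x_1, ..., x_n] → A, β : R[y_1, ..., y_k] → B surjective R-algebra homomorphisms. Then M is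
finitely presented as an R[x_1, ..., x_n]-module through α and A → B (M is finitely presented
relative to R as an A-module) if and only if M is finitely presented as an R[y_1, ..., y_k]-module
through β (M is finitely presented relative to R as a B-module). -/
theorem result {R A B : Type u} [CommRing R] [CommRing A] [CommRing B]
    [Algebra R A] [Algebra A B] [Algebra R B] [IsScalarTower R A B] [Algebra.FiniteType R A]
    [Algebra.FiniteType R B] [Module.Finite A B] (M : Type u) [AddCommGroup M] [Module B M] [Module A M]
    [IsScalarTower A B M] {n k : ℕ} (α : MvPolynomial (Fin n) R →ₐ[R] A) (hα : Function.Surjective α)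
    (β : MvPolynomial (Fin k) R →ₐ[R] B) (hβ : Function.Surjective β) :
    @Module.FinitePresentation (MvPolynomial (Fin n) R) M _ _ (Module.compHom M α.toRingHom) ↔
      @Module.FinitePresentation (MvPolynomial (Fin k) R) M _ _ (Module.compHom M β.toRingHom) := by
  classical
  let φP : MvPolynomial (Fin n) R →+* B := (algebraMap A B).comp α.toRingHom
  -- Step 1: the left side is `FPVia φP M`
  have hinst : (Module.compHom M α.toRingHom : Module (MvPolynomial (Fin n) R) M) =
      Module.compHom M φP := by
    refine Module.ext' _ _ fun p m => ?_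
    exact (algebraMap_smul B (α p) m).symm
  have h1 : @Module.FinitePresentation (MvPolynomial (Fin n) R) M _ _
      (Module.compHom M α.toRingHom) ↔ FPVia φP M := by
    unfold FPVia
    rw [hinst]
  rw [h1]
  change _ ↔ FPVia β.toRingHom M
  -- Step 2: a finite free algebra over `P` surjecting onto `B`
  let _ : Algebra (MvPolynomial (Fin n) R) B := φP.toAlgebra
  let _ : Algebra (MvPolynomial (Fin n) R) A := α.toRingHom.toAlgebra
  have : IsScalarTower (MvPolynomial (Fin n) R) A B :=
    IsScalarTower.of_algebraMap_eq fun p => rfl
  have : Module.Finite (MvPolynomial (Fin n) R) A :=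
    Module.Finite.of_surjective (Algebra.linearMap (MvPolynomial (Fin n) R) A) hα
  have : Module.Finite (MvPolynomial (Fin n) R) B := Module.Finite.trans A B
  obtain ⟨R', _, _, _, _, _, f, hf⟩ :=
    Module.Finite.exists_free_surjective (MvPolynomial (Fin n) R) B
  have hfP : f.toRingHom.comp (algebraMap (MvPolynomial (Fin n) R) R') = φP := by
    exact RingHom.ext fun p => f.commutes p
  have h2 : FPVia φP M ↔ FPVia f.toRingHom M := by
    rw [← hfP]
    exact fpVia_finite_free_iff f.toRingHom M
  rw [h2]
  -- Step 3: present `R'` over `P`
  obtain ⟨m, ρ₀, hρ₀, hker₀⟩ :=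
    (inferInstance : Algebra.FinitePresentation (MvPolynomial (Fin n) R) R').out
  have h3 : FPVia f.toRingHom M ↔ FPVia (f.toRingHom.comp ρ₀.toRingHom) M :=
    ⟨fun h => fpVia_of_surjective f.toRingHom ρ₀.toRingHom M hρ₀ hker₀ h,
      fun h => fpVia_of_comp_surjective f.toRingHom ρ₀.toRingHom M hρ₀ h⟩
  rw [h3]
  -- Step 4: flatten the polynomial ring
  let e : MvPolynomial (Fin m ⊕ Fin n) R ≃ₐ[R] MvPolynomial (Fin m) (MvPolynomial (Fin n) R) :=
    MvPolynomial.sumAlgEquiv R (Fin m) (Fin n)
  rw [← fpVia_comp_equiv_iff (f.toRingHom.comp ρ₀.toRingHom) e.toRingEquiv M]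
  -- Step 5: swap
  have hτ : Function.Surjective ((f.toRingHom.comp ρ₀.toRingHom).comp e.toRingEquiv.toRingHom) :=
    (hf.comp hρ₀).comp e.surjective
  have hC : ((f.toRingHom.comp ρ₀.toRingHom).comp e.toRingEquiv.toRingHom).comp MvPolynomial.C =
      β.toRingHom.comp MvPolynomial.C := by
    ext r
    simp only [RingHom.comp_apply]
    have e1 : e.toRingEquiv.toRingHom (MvPolynomial.C r) =
        MvPolynomial.C (MvPolynomial.C r) := by
      change e (algebraMap R _ r) = _
      rw [e.commutes]
      rfl
    rw [e1]
    have e2 : ρ₀.toRingHom (MvPolynomial.C (MvPolynomial.C r)) =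
        algebraMap (MvPolynomial (Fin n) R) R' (MvPolynomial.C r) := ρ₀.commutes _
    rw [e2]
    have e3 : f.toRingHom (algebraMap (MvPolynomial (Fin n) R) R' (MvPolynomial.C r)) =
        φP (MvPolynomial.C r) := f.commutes _
    rw [e3]
    change algebraMap A B (α (algebraMap R _ r)) = β (algebraMap R _ r)
    rw [α.commutes, β.commutes, ← IsScalarTower.algebraMap_apply]
  exact ⟨fun h => fpVia_swap _ hτ β.toRingHom hβ hC M h,
    fun h => fpVia_swap β.toRingHom hβ _ hτ hC.symm M h⟩

end Groth.Agent.S6992
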