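import Groth.Statements.S4644
import Groth.Agent.Lib.H30DimField

set_option autoImplicit false
open CategoryTheory AlgebraicGeometry
universe u
open FBase

namespace Groth.Agent.S4644

open Groth.Agent.Lib.H30DimField

variable {k : Type u} [Field k] {Y : Scheme.{u}} [Y.Over (Spec (CommRingCat.of k))]
  [LocallyOfFiniteType (Y ↘ Spec (CommRingCat.of k))]

theorem convex_of_isLocallyClosed {Z : Set Y} (hZ : IsLocallyClosed Z) :
    ∀ v ∈ Z, ∀ w ∈ Z, ∀ z : Y, v ⤳ z → z ⤳ w → z ∈ Z := by
  obtain ⟨U, C, hU, hC, rfl⟩ := hZ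
  intro v hv w hw z hvz hzw
  exact ⟨hzw.mem_open hU hw.1, hvz.mem_closed hC hv.2⟩

theorem quasiSober_of_isLocallyClosed {Z : Set Y} (hZ : IsLocallyClosed Z) : QuasiSober Z := by
  obtain ⟨U, C, hU, hC, rfl⟩ := hZ
  haveI : QuasiSober U := hU.isOpenEmbedding_subtypeVal.quasiSober
  exact QuasiSober.inter_of_isClosed_of_quasiSober_left U hC

/-- lower bound -/
theorem le_dim (Z : Set Y) (hZ : IsLocallyClosed Z) (z : Y) (hz : z ∈ Z) :
    (((td k Y z).toNat : ℕ) : WithBot ℕ∞) ≤ topologicalKrullDim ↥Z := by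
  have hδ := isDimFun k Y
  haveI := quasiSober_of_isLocallyClosed hZ
  have hconv := convex_of_isLocallyClosed hZ
  have hδZ := isDimFun_convex hδ Z hconv
  obtain ⟨U, C, hU, hC, rfl⟩ := hZ
  obtain ⟨c, hcU, hzc, hc⟩ := exists_closed_point k Y z U hU hz.1
  have hcC : c ∈ C := hzc.mem_closed hC hz.2
  have h0 := le_krullDim _ hδZ ⟨z, hz⟩ ⟨c, ⟨hcU, hcC⟩⟩ ((subtype_specializes_iff _ _).mpr hzc)
  have hδc := td_eq_zero_of_isClosed k Y c hc
  simp only [hδc, sub_zero] at h0
  exact h0

/-- upper bound -/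
theorem dim_le (Z : Set Y) (hZ : IsLocallyClosed Z) (N : ℕ) (hN : ∀ z ∈ Z, td k Y z ≤ N) :
    topologicalKrullDim ↥Z ≤ (N : WithBot ℕ∞) := by
  have hδ := isDimFun k Y
  haveI := quasiSober_of_isLocallyClosed hZ
  have hconv := convex_of_isLocallyClosed hZ
  have hδZ := isDimFun_convex hδ Z hconv
  exact krullDim_le _ hδZ (fun y => td_nonneg k Y y.1) N (fun y => hN y.1 y.2)

theorem exists_maximal {Y : Scheme.{u}} [IsLocallyNoetherian Y] (y : Y) :
    ∃ ξ : Y, (∀ ξ' : Y, ξ' ⤳ ξ → ξ' = ξ) ∧ ξ ⤳ y := by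
  obtain ⟨U, hU, hyU, h⟩ := Groth.Agent.S6460.exists_nhd Y y
  obtain ⟨ξ, hξ, hξy, -⟩ := h y hyU
  exact ⟨ξ, hξ, hξy⟩

theorem dim_closure_eq (ξ : Y) :
    topologicalKrullDim ↥(closure ({ξ} : Set Y)) = (((td k Y ξ).toNat : ℕ) : WithBot ℕ∞) := by
  have hδ := isDimFun k Y
  apply le_antisymm
  · apply dim_le (k := k) _ isClosed_closure.isLocallyClosed
    intro z hz
    have h1 := Groth.Agent.S6462.delta_le_of_specializes hδ (specializes_iff_mem_closure.mpr hz)
    have h2 := td_nonneg k Y ξ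
    omega
  · exact le_dim (k := k) _ isClosed_closure.isLocallyClosed ξ (subset_closure rfl)


/-- Let Y be a nonempty scheme locally of finite type over a field k whose irreducible components all
have the same dimension, and let Z be a locally closed subset of Y (the underlying set of a
subscheme). Then Z is nowhere dense in Y if and only if dim Z < dim Y. (For Y empty the left side
holds and the right side fails, so Y is taken nonempty; dimensions are Krull dimensions of the
underlying spaces.) -/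
theorem result {k : Type u} [Field k] {Y : Scheme.{u}} [Nonempty ↥Y]
    (g : Y ⟶ Spec (CommRingCat.of k)) [LocallyOfFiniteType g]
    (heq : ∀ T ∈ irreducibleComponents ↥Y, topologicalKrullDim ↥T = topologicalKrullDim ↥Y)
    (Z : Set ↥Y) (hZ : IsLocallyClosed Z) :
    IsNowhereDense Z ↔ topologicalKrullDim ↥Z < topologicalKrullDim ↥Y := by
  letI : Y.Over (Spec (CommRingCat.of k)) := ⟨g⟩
  haveI : LocallyOfFiniteType (Y ↘ Spec (CommRingCat.of k)) := ‹LocallyOfFiniteType g›
  haveI := isLocallyNoetherian k Y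
  have hδ := isDimFun k Y
  -- dimension of Y
  have hmax : ∀ ξ : Y, (∀ ξ' : Y, ξ' ⤳ ξ → ξ' = ξ) →
      topologicalKrullDim ↥Y = (((td k Y ξ).toNat : ℕ) : WithBot ℕ∞) := by
    intro ξ hξ
    rw [← heq _ ((closure_mem_irreducibleComponents_iff ξ).mpr hξ)]
    exact dim_closure_eq ξ
  obtain ⟨y₀⟩ := ‹Nonempty ↥Y›
  obtain ⟨ξ₀, hξ₀, -⟩ := exists_maximal y₀
  set N : ℕ := (td k Y ξ₀).toNat with hN
  have hY : topologicalKrullDim ↥Y = (N : WithBot ℕ∞) := hmax ξ₀ hξ₀
  have hmaxN : ∀ ξ : Y, (∀ ξ' : Y, ξ' ⤳ ξ → ξ' = ξ) → td k Y ξ = N := by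
    intro ξ hξ
    have h1 := hmax ξ hξ
    rw [hY] at h1
    have h2 : N = (td k Y ξ).toNat := by exact_mod_cast h1
    have h3 := td_nonneg k Y ξ
    omega
  constructor
  · intro hnd
    by_cases hne : Z.Nonempty
    · have key : ∀ z ∈ Z, td k Y z < N := by
        intro z hz
        obtain ⟨ξ, hξ, hξz⟩ := exists_maximal z
        by_cases he : ξ = z
        · exfalso
          subst he
          obtain ⟨U, hU, hxU, h⟩ := Groth.Agent.S6460.exists_nhd Y ξ
          have hsub : U ⊆ closure Z := by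
            intro y hy
            obtain ⟨ξ', hξ', hξ'y, hξ'ξ⟩ := h y hy
            have : ξ' = ξ := hξ ξ' hξ'ξ
            subst this
            exact closure_mono (Set.singleton_subset_iff.mpr hz)
              (specializes_iff_mem_closure.mp hξ'y)
          have h1 : U ⊆ interior (closure Z) := interior_maximal hsub hU
          have h2 : interior (closure Z) = ∅ := hnd
          rw [h2] at h1
          exact h1 hxU
        · have h1 := (hδ ξ z hξz he).1
          rw [hmaxN ξ hξ] at h1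
          exact h1
      obtain ⟨z₀, hz₀⟩ := hne
      have h0 := key z₀ hz₀
      have h00 := td_nonneg k Y z₀
      have hN1 : 1 ≤ N := by omega
      have h1 : topologicalKrullDim ↥Z ≤ ((N - 1 : ℕ) : WithBot ℕ∞) := by
        apply dim_le (k := k) Z hZ
        intro z hz
        have := key z hz
        omega
      rw [hY]
      refine lt_of_le_of_lt h1 ?_
      have : N - 1 < N := by omega
      exact_mod_cast this
    · rw [Set.not_nonempty_iff_eq_empty] at hne
      subst hne
      rw [hY]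
      have : IsEmpty (TopologicalSpace.IrreducibleCloseds (∅ : Set Y)) := ⟨fun T => by
        obtain ⟨x, -⟩ := T.isIrreducible.nonempty
        exact x.2⟩
      unfold topologicalKrullDim
      rw [Order.krullDim_eq_bot]
      exact WithBot.bot_lt_coe _
  · intro hlt
    by_contra hnd
    have hne : (interior (closure Z)).Nonempty := by
      rw [Set.nonempty_iff_ne_empty]
      exact hnd
    obtain ⟨w, hw⟩ := hne
    obtain ⟨U, C, hU, hC, rfl⟩ := hZ
    have hwcl : w ∈ closure (U ∩ C) := interior_subset hw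
    obtain ⟨z, hzW, hzZ⟩ := mem_closure_iff.mp hwcl _ isOpen_interior hw
    obtain ⟨ξ, hξ, hξz⟩ := exists_maximal z
    have hξU : ξ ∈ U := hξz.mem_open hU hzZ.1
    have hξW : ξ ∈ interior (closure (U ∩ C)) := hξz.mem_open isOpen_interior hzW
    have hξC : ξ ∈ C := by
      have : closure (U ∩ C) ⊆ C := closure_minimal Set.inter_subset_right hC
      exact this (interior_subset hξW)
    have h1 := le_dim (k := k) (U ∩ C) ⟨U, C, hU, hC, rfl⟩ ξ ⟨hξU, hξC⟩
    rw [hmaxN ξ hξ] at h1
    rw [hY] at hlt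
    simp only [Int.toNat_natCast] at h1
    exact absurd (lt_of_le_of_lt h1 hlt) (lt_irrefl _)

end Groth.Agent.S4644
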