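import Groth.Statements.S15443
import Groth.Agent.Lib.H73WeilPt

set_option autoImplicit false
universe u v
open CategoryTheory AlgebraicGeometry
open WeilCoh

namespace Groth.Agent.S15443

open Groth.Agent.Lib.H73WeilDim Groth.Agent.Lib.WeilCohPush Groth.Agent.Lib.H30DimField
  Groth.Agent.Lib.H73WeilPt

/-- the multiplicity of the inverse image along a point of `pt` is `1` -/
theorem preimMult_pt {k : Type u} [Field k] {X : Scheme.{u}}
    (j : Spec (CommRingCat.of k) ⟶ X) (ξ : X) (w : Spec (CommRingCat.of k))
    (h : j w ∈ closure ({ξ} : Set X)) : WeilCoh.preimMult j ξ w h = 1 := by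
  unfold WeilCoh.preimMult
  obtain rfl : w = genericPoint ↥(Spec (CommRingCat.of k)) := Subsingleton.elim _ _
  letI : Field ((Spec (CommRingCat.of k)).presheaf.stalk (genericPoint ↥(Spec (CommRingCat.of k)))) :=
    inferInstanceAs (Field (Spec (CommRingCat.of k)).functionField)
  set J := RingHom.ker (Cyc.specMap (j (genericPoint ↥(Spec (CommRingCat.of k)))) ξ
    (specializes_iff_mem_closure.mpr h)) with hJ
  have hJne : J ≠ ⊤ := RingHom.ker_ne_top _
  have hJle : J ≤ IsLocalRing.maximalIdeal _ := IsLocalRing.le_maximalIdeal hJne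
  have hI : Ideal.map (j.stalkMap (genericPoint ↥(Spec (CommRingCat.of k)))).hom J = ⊥ := by
    rw [eq_bot_iff]
    refine (Ideal.map_mono hJle).trans ?_
    rw [Ideal.map_le_iff_le_comap]
    intro a ha
    have h1 : (j.stalkMap (genericPoint ↥(Spec (CommRingCat.of k)))).hom a ∈
        IsLocalRing.maximalIdeal _ := by
      rw [IsLocalRing.mem_maximalIdeal] at ha ⊢
      intro hu
      exact ha ((isUnit_map_iff (j.stalkMap _).hom a).mp hu)
    rw [IsLocalRing.maximalIdeal_eq_bot] at h1
    exact h1
  rw [hI]
  have e : ((Spec (CommRingCat.of k)).presheaf.stalk (genericPoint ↥(Spec (CommRingCat.of k))) ⧸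
      (⊥ : Ideal _)) ≃ₗ[(Spec (CommRingCat.of k)).presheaf.stalk (genericPoint ↥(Spec (CommRingCat.of k)))]
      (Spec (CommRingCat.of k)).presheaf.stalk (genericPoint ↥(Spec (CommRingCat.of k))) :=
    Submodule.quotEquivOfEqBot ⊥ rfl
  rw [e.length_eq, Module.length_eq_one]
  rfl


/-- For a Weil cohomology theory H^* (coefficients in K of characteristic zero, on nonsingular connected
projective varieties over an algebraically closed field k) and such a variety X, the class cl(X) ∈
H^0(X) of X as a closed subvariety of itself equals 1; here cl(X) is the class attached to the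
generic point of X. -/
theorem result (k : Type u) [Field k] [IsAlgClosed k] (K : Type v) [Field K] [CharZero K]
    (T : WeilCoh.Theory k K) (X : WeilCoh.Var k) [IrreducibleSpace ↥X.obj.left] :
    T.cl X (genericPoint ↥X.obj.left) = 1 := by
  letI : X.obj.left.Over (Spec (CommRingCat.of k)) := ⟨X.obj.hom⟩
  haveI : LocallyOfFiniteType (X.obj.left ↘ Spec (CommRingCat.of k)) := lft_of_isVar k X
  letI : (pt k).obj.left.Over (Spec (CommRingCat.of k)) := ⟨(pt k).obj.hom⟩
  haveI : LocallyOfFiniteType ((pt k).obj.left ↘ Spec (CommRingCat.of k)) := lft_of_isVar k (pt k)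
  haveI : IrreducibleSpace ↥(pt k).obj.left := (pt k).property.2.2
  set η := genericPoint ↥X.obj.left with hη
  -- a closed point and the rational point there
  obtain ⟨x, -, -, hx⟩ := exists_closed_point k X.obj.left η Set.univ isOpen_univ trivial
  obtain ⟨i, hi⟩ := exists_ratPt k X x hx
  -- the preimage of the closure of η is everything
  have hcl : closure ({η} : Set X.obj.left) = Set.univ := genericPoint_closure _
  have hpre : (sm i) ⁻¹' closure ({η} : Set X.obj.left) = Set.univ := by
    rw [hcl, Set.preimage_univ]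
  have hcomp : ∀ w : (pt k).obj.left, IsCompPt ((sm i) ⁻¹' closure ({η} : Set X.obj.left)) w := by
    intro w
    rw [hpre]
    exact ⟨trivial, fun w' _ _ => Subsingleton.elim (α := ↥(Spec (CommRingCat.of k))) w' w⟩
  have hpd : ∀ w : (pt k).obj.left, pdim (pt k).obj.left w = 0 := by
    intro w
    have := pdim_le_dim k (pt k).obj.left w
    rw [dim_pt] at this
    omega
  have hpull := T.cl_pull i η
    (by
      intro w _
      rw [hpd w, pdim_genericPoint k X.obj.left, dim_pt]
      simp)
    (Or.inr (fun w hw => preimMult_pt (sm i) η w hw.1))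
  -- the index type is a singleton
  let w₀ : (pt k).obj.left := genericPoint ↥(Spec (CommRingCat.of k))
  letI : Unique {w : (pt k).obj.left // IsCompPt ((sm i) ⁻¹' closure ({η} : Set X.obj.left)) w} :=
    { default := ⟨w₀, hcomp w₀⟩
      uniq := fun w => Subtype.ext (Subsingleton.elim (α := ↥(Spec (CommRingCat.of k))) _ _) }
  rw [finsum_unique] at hpull
  have hmult : preimMult (sm i) η (default : {w : (pt k).obj.left //
      IsCompPt ((sm i) ⁻¹' closure ({η} : Set X.obj.left)) w}).1 (default : {w : (pt k).obj.left //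
      IsCompPt ((sm i) ⁻¹' closure ({η} : Set X.obj.left)) w}).2.1 = 1 := preimMult_pt _ _ _ _
  rw [hmult, (T.point (pt k) (dim_pt k)).1] at hpull
  simp only [Nat.cast_one, one_smul] at hpull
  -- H^0(X) = K · 1
  have hmem : T.cl X η ∈ T.gr X 0 := by
    have h1 := T.cl_mem X η
    have h2 : codim X.obj.left η = 0 := by
      have := codim_add_pdim k X.obj.left η
      rw [pdim_genericPoint k X.obj.left] at this
      omega
    rw [h2] at h1
    exact h1
  obtain ⟨c, hc⟩ := (smul_one_gr_zero_bijective T X).2 ⟨T.cl X η, hmem⟩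
  have hc' : c • (1 : T.H X) = T.cl X η := congrArg Subtype.val hc
  rw [← hc', map_smul, map_one] at hpull
  have hc1 : c = 1 := by
    have h0 : (c - 1) • (1 : T.H (pt k)) = 0 := by rw [sub_smul, hpull, one_smul, sub_self]
    rcases smul_eq_zero.mp h0 with h | h
    · exact sub_eq_zero.mp h
    · exact absurd h (one_ne_zero T (pt k))
  rw [← hc', hc1, one_smul]

end Groth.Agent.S15443
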