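import Groth.Statements.S0301
import Mathlib.RingTheory.Filtration

set_option autoImplicit false
universe u v

namespace Groth.Agent.S0301

theorem baer_aux (R : Type u) [CommRing R] [IsNoetherianRing R] (I : Type u) [AddCommGroup I]
    [Module R I] (hI : Module.Injective R I) (J : Ideal R) (T : Submodule R I)
    (tors : ℕ →o Submodule R I) (hmemT : ∀ y : I, y ∈ T ↔ ∃ n, y ∈ tors n)
    (htors : ∀ n, tors n = Submodule.torsionBySet R I ((J ^ n : Ideal R) : Set R)) :
    Module.Baer R T := by
  classical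
  intro A g
  let g' : A →ₗ[R] I := T.subtype.comp g
  -- Step 1: a uniform exponent
  let K : ℕ →o Submodule R A :=
    ⟨fun n => Submodule.comap g' (tors n), fun i j hij => Submodule.comap_mono (tors.monotone hij)⟩
  obtain ⟨n, hn⟩ := monotone_stabilizes_iff_noetherian.mpr
    (inferInstance : IsNoetherian R A) K
  have hKn : ∀ x : A, g' x ∈ tors n := by
    intro x
    obtain ⟨m, hm⟩ := (hmemT (g' x)).mp (g x).2
    have h1 : x ∈ K (max m n) := K.monotone (le_max_left m n) hm
    rw [← hn (max m n) (le_max_right m n)] at h1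
    exact h1
  have hkill : ∀ (a : R), a ∈ J ^ n → ∀ x : A, a • g' x = 0 := by
    intro a ha x
    have := hKn x
    rw [htors] at this
    exact (Submodule.mem_torsionBySet_iff _ _).mp this ⟨a, ha⟩
  -- Step 2: Artin-Rees
  obtain ⟨k, hk⟩ := Ideal.exists_pow_inf_eq_pow_smul (M := R) J (A : Submodule R R)
  have hAR : J ^ (n + k) • (⊤ : Submodule R R) ⊓ A ≤ J ^ n • (A : Submodule R R) := by
    rw [hk (n + k) (Nat.le_add_left k n)]
    have : n + k - k = n := by omega
    rw [this]
    exact Submodule.smul_mono le_rfl inf_le_right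
  -- Step 3: `g'` kills `J ^ (n + k) ⊓ A`
  have hker : J ^ n • (A : Submodule R R) ≤ Submodule.map A.subtype (LinearMap.ker g') := by
    rw [Submodule.smul_le]
    intro a ha y hy
    refine ⟨a • ⟨y, hy⟩, ?_, rfl⟩
    rw [SetLike.mem_coe, LinearMap.mem_ker, map_smul]
    exact hkill a ha _
  have hzero : ∀ x : A, (x : R) ∈ J ^ (n + k) → g' x = 0 := by
    intro x hx
    have h1 : (x : R) ∈ J ^ (n + k) • (⊤ : Submodule R R) ⊓ A := by
      refine ⟨?_, x.2⟩
      rw [Ideal.smul_top_eq_map]
      simpa using hx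
    obtain ⟨y, hy, hyx⟩ := hker (hAR h1)
    have : y = x := Subtype.ext hyx
    rw [← this]
    exact hy
  -- Step 4: extend
  let P : Submodule R A := Submodule.comap A.subtype (J ^ (n + k))
  let f : (A ⧸ P) →ₗ[R] I := P.liftQ g' (fun x hx => hzero x hx)
  let i : (A ⧸ P) →ₗ[R] (R ⧸ (J ^ (n + k))) := P.mapQ (J ^ (n + k)) A.subtype (le_refl _)
  have hi : Function.Injective i := by
    rw [← LinearMap.ker_eq_bot, Submodule.ker_mapQ]
    exact Submodule.mkQ_map_self P
  obtain ⟨h, hh⟩ := hI.out i hi f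
  let G : R →ₗ[R] I := h.comp (J ^ (n + k)).mkQ
  have hG : ∀ r, G r ∈ T := by
    intro r
    rw [hmemT]
    refine ⟨n + k, ?_⟩
    rw [htors, Submodule.mem_torsionBySet_iff]
    rintro ⟨a, ha⟩
    change a • h ((J ^ (n + k)).mkQ r) = 0
    rw [← map_smul, ← map_smul]
    have : (J ^ (n + k)).mkQ (a • r) = 0 := by
      rw [Submodule.mkQ_apply, Submodule.Quotient.mk_eq_zero]
      exact Ideal.mul_mem_right r _ ha
    rw [this, map_zero]
  refine ⟨LinearMap.codRestrict T G hG, ?_⟩
  intro x hx
  apply Subtype.ext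
  change h ((J ^ (n + k)).mkQ x) = g' ⟨x, hx⟩
  have h2 := hh (P.mkQ ⟨x, hx⟩)
  have h3 : i (P.mkQ ⟨x, hx⟩) = (J ^ (n + k)).mkQ x := rfl
  rw [h3] at h2
  rw [h2]
  rfl

/-- Over a Noetherian ring, the submodule of an injective module consisting of the elements killed by
some power of a given ideal is again injective. -/
theorem result (R : Type u) [CommRing R] [IsNoetherianRing R] (I : Type u) [AddCommGroup I] [Module R I] (hI : Module.Injective R I) (J : Ideal R) : Module.Injective R ↥(⨆ n : ℕ, Submodule.torsionBySet R I ((J ^ n : Ideal R) : Set R)) := by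
  apply Module.Baer.injective
  let tors : ℕ →o Submodule R I :=
    ⟨fun n => Submodule.torsionBySet R I ((J ^ n : Ideal R) : Set R),
      fun i j hij => Submodule.torsionBySet_le_torsionBySet_pow i j hij J⟩
  exact baer_aux R I hI J _ tors (fun y => Submodule.mem_iSup_of_chain tors y) (fun _ => rfl)

end Groth.Agent.S0301
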