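import Groth.Statements.S0306
import Groth.Agent.Lib.InjHull
import Groth.Agent.S0305
import Mathlib.RingTheory.Ideal.AssociatedPrime.Basic

set_option autoImplicit false
universe u v
open InjHull

namespace Groth.Agent.S0306

/-- Over a Noetherian ring every indecomposable injective module is an injective hull of the residue
field of some prime. -/
theorem result (R : Type u) [CommRing R] [IsNoetherianRing R] (E : Type u) [AddCommGroup E] [Module R E] (hE : InjHull.IsIndecomposable R E) (hinj : Module.Injective R E) : ∃ (p : Ideal R) (_ : p.IsPrime) (g : p.ResidueField →ₗ[R] E), InjHull.IsInjectiveHull g := by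
  have hnt : Nontrivial E := hE.1
  obtain ⟨p, hp⟩ := associatedPrimes.nonempty R E
  obtain ⟨hpp, f, hf⟩ := (isAssociatedPrime_iff_exists_injective_linearMap p E).mp hp
  have hrange : LinearMap.range f ≠ ⊥ := by
    intro h
    have h1 : f 1 = 0 := by
      have : f 1 ∈ LinearMap.range f := ⟨1, rfl⟩
      rwa [h, Submodule.mem_bot] at this
    have h2 : (1 : R ⧸ p) = 0 := hf (h1.trans (map_zero f).symm)
    exact one_ne_zero h2
  have hfhull : InjHull.IsInjectiveHull f :=
    ⟨⟨hf, (Lib.InjHull.ess_iff _).mpr
      (Lib.InjHull.ess_of_indecomposable hE hinj (LinearMap.range f) hrange)⟩, hinj⟩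
  obtain ⟨-, g, hg⟩ := Groth.Agent.S0305.result R p E f hfhull
  exact ⟨p, hpp, g, hg⟩

end Groth.Agent.S0306
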