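import Groth.Statements.S9438
import Groth.Agent.Lib.H56SerreFlat
import Groth.Agent.Lib.HenselizationNoeth
import Groth.Agent.Lib.H87Serre2

set_option autoImplicit false
universe u
open CAlg

namespace Groth.Agent.S9438

/-- The condition (R_k) descends along faithfully flat ring maps: if S is faithfully flat over R,
Noetherian and (R_k), then R is Noetherian and (R_k). -/
theorem result (k : ℕ) (R : Type u) [CommRing R] (S : Type u) [CommRing S]
    [Algebra R S] [Module.FaithfullyFlat R S] [IsNoetherianRing S] (hS : LocCoh.HasRk k S) :
    IsNoetherianRing R ∧ LocCoh.HasRk k R := by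
  have hR : IsNoetherianRing R :=
    Groth.Agent.Lib.HenselizationNoeth.isNoetherianRing_of_faithfullyFlat R S
  refine ⟨hR, ?_⟩
  intro p hp hpk
  obtain ⟨q, hq, hqprime, hqover⟩ :=
    Groth.Agent.Lib.H56SerreFlat.exists_mem_minimalPrimes_liesOver (S := S) p
  have hht : q.height = p.height :=
    Groth.Agent.Lib.H56FlatLocal.height_eq_of_mem_minimalPrimes p q hq
  have hreg : IsRegularLocalRing (Localization.AtPrime q) := hS q (hht ▸ hpk)
  let : Algebra (Localization.AtPrime p) (Localization.AtPrime q) :=
    Localization.AtPrime.algebraOfLiesOver p q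
  have hloc : IsLocalHom (algebraMap (Localization.AtPrime p) (Localization.AtPrime q)) :=
    Localization.isLocalHom_localRingHom _ _ _ Ideal.LiesOver.over
  exact Groth.Agent.Lib.H87Serre2.isRegularLocalRing_of_flat (Localization.AtPrime p)
    (Localization.AtPrime q)

end Groth.Agent.S9438
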