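import Groth.Statements.S9815
import Groth.Agent.Lib.H78PullSec
import Groth.Agent.Lib.H90InvertiblePullback

set_option autoImplicit false
universe u
open CategoryTheory CategoryTheory.Limits AlgebraicGeometry TopologicalSpace
open Props

namespace Groth.Agent.S9815

/-- Case (4) (which implies the other cases): let L be an ample invertible module on a scheme X and let
i : X' → X be a morphism from a quasi-compact scheme which is a homeomorphism onto its image. Then
i^*L is ample. -/
theorem result {X X' : Scheme.{u}} (i : X' ⟶ X) [CompactSpace X']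
    (hi : Topology.IsEmbedding i) (L : X.Modules) (hL : CohB1.IsAmple L) :
    CohB1.IsAmple ((Scheme.Modules.pullback i).obj L) := by
  have hinv := Groth.Agent.Lib.H90Invertible.isInvertible_pullback i hL.1
  haveI : CompactSpace X := hL.2.1
  rw [Groth.Agent.Lib.H78AmpleBasis.isAmple_iff_nbhd hinv]
  intro x' U' hx'
  obtain ⟨U₀, hU₀, hU₀'⟩ := hi.isOpen_iff.1 U'.2
  let U : X.Opens := ⟨U₀, hU₀⟩
  have hxU : i x' ∈ U := by
    change x' ∈ i ⁻¹' U₀
    rw [hU₀']
    exact hx'
  obtain ⟨n, s, hxs, hsU⟩ := (Groth.Agent.Lib.H78AmpleBasis.isAmple_iff_nbhd hL.1).1 hL (i x') U hxU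
  obtain ⟨s', hs'⟩ := Groth.Agent.Lib.H78PullSec.exists_pull_sec i hL.1 (n + 1) s
  refine ⟨n, s', ?_, ?_⟩
  · rw [hs']
    exact hxs
  · rw [hs']
    intro y hy
    have : i y ∈ U := hsU hy
    change y ∈ U'.carrier
    rw [← hU₀']
    exact this

end Groth.Agent.S9815
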