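import Groth.Statements.S0032
import Groth.Agent.Lib.RpushAffineBase
import Groth.Agent.Lib.CohLocPush
import Groth.Agent.Lib.HBridge

set_option autoImplicit false
universe u
open Coherent

namespace Groth.Agent.S0032

section Helpers

open AlgebraicGeometry CategoryTheory Opposite TopologicalSpace
open Groth.Agent.Lib Groth.Agent.Lib.RpushAffineBase Groth.Agent.Lib.CohLocPush Groth.Agent.Lib.LocMap
  Groth.Agent.Lib.CohLoc Groth.Agent.Lib.HUInst

variable {X S : Scheme.{u}} (f : X ⟶ S) (M : X.Modules)

/-- the action of the global functions of `S` on the underlying abelian sheaf of `M` -/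
noncomputable def actS : Γ(S, ⊤) →+* End (Coh.toAb M) where
  toFun r := Coh.smulAb M (pullFn f r)
  map_one' := by
    have : pullFn f (1 : Γ(S, ⊤)) = 1 := map_one f.appTop.hom
    rw [this]
    exact Coh.smulAb_one M
  map_mul' r s := by
    have : pullFn f (r * s) = pullFn f r * pullFn f s := map_mul f.appTop.hom r s
    rw [this]
    exact Coh.smulAb_mul M _ _
  map_zero' := by
    have : pullFn f (0 : Γ(S, ⊤)) = 0 := map_zero f.appTop.hom
    rw [this]
    exact Coh.smulAb_zero M
  map_add' r s := by
    have : pullFn f (r + s) = pullFn f r + pullFn f s := map_add f.appTop.hom r s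
    rw [this]
    exact Coh.smulAb_add M _ _

lemma locCond [QuasiCompact f] [QuasiSeparated f] [IsAffine S] (hM : Coh.IsQCoh M) (q : ℕ)
    (g h : Γ(S, ⊤)) : LocCond f q (Coh.toAb M) (actS f M) g h := by
  have hc : IsCompact (S.basicOpen g : Set S) := ((isAffineOpen_top S).basicOpen g).isCompact
  have H := isLocMap_preimage f M hM (S.basicOpen g) hc h q
  exact ⟨H.bij, H.surj, H.ker⟩

end Helpers

open AlgebraicGeometry CategoryTheory Opposite in
/-- Let f : X → S be quasi-compact and quasi-separated with S affine, and F quasi-coherent on X. Then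
H^q(X, F) is isomorphic to the global sections of R^q f_* F (higher direct image of the underlying
abelian sheaf), for every q. -/
theorem result {X S : Scheme.{u}} (f : X ⟶ S)
    [QuasiCompact f] [QuasiSeparated f] [IsAffine S] (M : X.Modules) [Coh.IsQCoh M] (q : ℕ) :
    Nonempty (Coh.HH X M q ≃+ ↑(((Coh.RpushAb f q).obj (Coh.toAb M)).obj.obj (op ⊤))) := by
  obtain ⟨e⟩ := Groth.Agent.Lib.RpushAffineBase.nonempty_sections_RpushAb_addEquiv f q (Coh.toAb M)
    (actS f M) (fun g h => locCond f M inferInstance q g h)
  exact ⟨(Groth.Agent.Lib.HBridge.HEquivHUTop (Coh.toAb M) q).trans e.symm⟩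

end Groth.Agent.S0032
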