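import Groth.Statements.S0055
import Groth.Agent.Lib.H78SerreVan
import Groth.Agent.Lib.H78RpushZero
import Groth.Agent.Lib.H78Restrict
import Groth.Agent.Lib.H90CohRestrict

set_option autoImplicit false
universe u
open Coherent

namespace Groth.Agent.S0055

open AlgebraicGeometry CategoryTheory in
/-- Serre vanishing over one affine open of the base -/
theorem van_affine {X S : Scheme.{u}} (f : X ⟶ S) [IsProper f]
    [IsNoetherian S] (L : X.Modules)
    (ha : ∀ W : S.Opens, IsAffineOpen W → CohB1.IsAmple (L.restrict (f ⁻¹ᵁ W).ι))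
    (M : X.Modules) (hM : Coh.IsCoh M) (W : S.Opens) (hW : IsAffineOpen W) :
    ∃ n₀ : ℕ, ∀ n : ℕ, n₀ ≤ n → ∀ p : ℕ, 0 < p →
      Subsingleton (Coh.HH (f ⁻¹ᵁ W).toScheme
        ((CohB1.tensorMod M (CohB1.tensorPow L n)).restrict (f ⁻¹ᵁ W).ι) p) := by
  haveI : IsNoetherianRing Γ(S, W) := IsLocallyNoetherian.component_noetherian ⟨W, hW⟩
  obtain ⟨g, hg⟩ : ∃ g : (f ⁻¹ᵁ W).toScheme ⟶ Spec (CommRingCat.of Γ(S, W)),
      g = (f ∣_ W) ≫ hW.isoSpec.hom := ⟨_, rfl⟩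
  haveI : IsProper g := by rw [hg]; infer_instance
  obtain ⟨n₀, hn₀⟩ := Groth.Agent.Lib.H78SerreVan.serre_vanishing_of_isAmple g (ha W hW)
    (M.restrict (f ⁻¹ᵁ W).ι) (Groth.Agent.Lib.H90CohRestrict.isCoh_restrict _ M hM)
  refine ⟨n₀, fun n hn p hp => ?_⟩
  haveI := hn₀ n hn p hp
  exact Groth.Agent.Lib.CohLES.subsingleton_of_iso
    (Groth.Agent.Lib.OXModRestrict.restrictTensorIso (f ⁻¹ᵁ W).ι M (CohB1.tensorPow L n) ≪≫
      Groth.Agent.Lib.OXModTensor.tensorModIso (Iso.refl _)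
        (Groth.Agent.Lib.H78Restrict.restrictTensorPowIso (f ⁻¹ᵁ W).ι L n)) p

open AlgebraicGeometry CategoryTheory in
/-- Let S be Noetherian, f : X → S proper, F coherent on X and L invertible on X, ample on f⁻¹(W) for
every affine open W of S (relatively ample). Then there is n₀ with R^p f_*(F ⊗ L^{⊗n}) = 0 for all n
≥ n₀ and p > 0. -/
theorem result {X S : Scheme.{u}} (f : X ⟶ S) [IsProper f]
    [IsNoetherian S] (L : X.Modules) (hL : PicF.IsInvertible L)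
    (ha : ∀ W : S.Opens, IsAffineOpen W → CohB1.IsAmple (L.restrict (f ⁻¹ᵁ W).ι))
    (M : X.Modules) (hM : Coh.IsCoh M) :
    ∃ n₀ : ℕ, ∀ n : ℕ, n₀ ≤ n → ∀ p : ℕ, 0 < p →
      Limits.IsZero ((Coh.RpushAb f p).obj (Coh.toAb (CohB1.tensorMod M (CohB1.tensorPow L n)))) := by
  classical
  haveI : CompactSpace S := inferInstance
  obtain ⟨t, ht⟩ := isCompact_univ.elim_finite_subcover (fun W : S.affineOpens => (W.1 : Set S))
    (fun W => W.1.2) (fun y _ => by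
      obtain ⟨W, hW, hyW, -⟩ := TopologicalSpace.Opens.isBasis_iff_nbhd.1 S.isBasis_affineOpens
        (show y ∈ (⊤ : S.Opens) from trivial)
      exact Set.mem_iUnion.2 ⟨⟨W, hW⟩, hyW⟩)
  have h1 := fun W : S.affineOpens => van_affine f L ha M hM W.1 W.2
  choose n₀ hn₀ using h1
  refine ⟨t.sup n₀, fun n hn p hp => ?_⟩
  have hq : Coh.IsQCoh (CohB1.tensorMod M (CohB1.tensorPow L n)) :=
    (Groth.Agent.Lib.CohFinAmple.isCoh_tensorMod hM (Groth.Agent.Lib.CohFinAmple.isCoh_tensorPow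
      (Groth.Agent.Lib.H90Invertible.isCoh_of_isInvertible hL) n)).1
  refine Groth.Agent.Lib.H78RpushZero.isZero_RpushAb_of_cover f _ hq p (fun W : t => W.1.1) ?_
    (fun W => W.1.2) (fun W => hn₀ W.1 n ((Finset.le_sup W.2).trans hn) p hp)
  refine top_le_iff.1 (fun y _ => ?_)
  obtain ⟨W, hW, hyW⟩ := Set.mem_iUnion₂.1 (ht (Set.mem_univ y))
  exact TopologicalSpace.Opens.mem_iSup.2 ⟨⟨W, hW⟩, hyW⟩

end Groth.Agent.S0055
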