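import Groth.Statements.S15909
import Mathlib
import Groth.Agent.Lib.H67DPWeyl
-- import your own Groth.Agent.* helpers here

set_option autoImplicit false
open Surf

namespace Groth.Agent.S15909

open W4c3severiratdp Groth.Agent.Lib.H67DPWeyl

theorem form8 (v w : DP 8) : form v w = v 0 * w 0 - (v 1 * w 1 + v 2 * w 2 + v 3 * w 3 +
    v 4 * w 4 + v 5 * w 5 + v 6 * w 6 + v 7 * w 7 + v 8 * w 8) := by
  simp only [form, Fin.sum_univ_eight]
  rfl

theorem canon8 : canon 8 = ![-3, -1, -1, -1, -1, -1, -1, -1, -1] := by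
  funext j
  fin_cases j <;> rfl

theorem isExc_iff (v : DP 8) : IsExc v ↔
    v 0 ^ 2 - (v 1 ^ 2 + v 2 ^ 2 + v 3 ^ 2 + v 4 ^ 2 + v 5 ^ 2 + v 6 ^ 2 + v 7 ^ 2 + v 8 ^ 2) = -1 ∧
    v 1 + v 2 + v 3 + v 4 + v 5 + v 6 + v 7 + v 8 = 3 * v 0 - 1 := by
  unfold IsExc
  rw [form8, form8, canon8]
  simp only [Matrix.cons_val_zero, Matrix.cons_val_one, Matrix.cons_val]
  constructor
  · rintro ⟨h1, h2⟩
    constructor
    · linarith
    · linarith
  · rintro ⟨h1, h2⟩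
    constructor
    · linarith
    · linarith


theorem sumsq8 (b1 b2 b3 b4 b5 b6 b7 b8 : ℤ) :
    (b1 + b2 + b3 + b4 + b5 + b6 + b7 + b8) ^ 2 ≤
      8 * (b1 ^ 2 + b2 ^ 2 + b3 ^ 2 + b4 ^ 2 + b5 ^ 2 + b6 ^ 2 + b7 ^ 2 + b8 ^ 2) := by
  linarith [sq_nonneg (b1 - b2), sq_nonneg (b1 - b3), sq_nonneg (b1 - b4), sq_nonneg (b1 - b5), sq_nonneg (b1 - b6), sq_nonneg (b1 - b7), sq_nonneg (b1 - b8), sq_nonneg (b2 - b3), sq_nonneg (b2 - b4), sq_nonneg (b2 - b5), sq_nonneg (b2 - b6), sq_nonneg (b2 - b7), sq_nonneg (b2 - b8), sq_nonneg (b3 - b4), sq_nonneg (b3 - b5), sq_nonneg (b3 - b6), sq_nonneg (b3 - b7), sq_nonneg (b3 - b8), sq_nonneg (b4 - b5), sq_nonneg (b4 - b6), sq_nonneg (b4 - b7), sq_nonneg (b4 - b8), sq_nonneg (b5 - b6), sq_nonneg (b5 - b7), sq_nonneg (b5 - b8), sq_nonneg (b6 - b7), sq_nonneg (b6 - b8), sq_nonneg (b7 - b8)]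

theorem negdef {x : DP 8} (hK : form (canon 8) x = 0) :
    form x x ≤ 0 ∧ (form x x = 0 → x = 0) := by
  rw [form8, canon8] at hK
  simp only [Matrix.cons_val_zero, Matrix.cons_val_one, Matrix.cons_val] at hK
  rw [form8]
  have h8 := sumsq8 (x 1) (x 2) (x 3) (x 4) (x 5) (x 6) (x 7) (x 8)
  have hs : x 1 + x 2 + x 3 + x 4 + x 5 + x 6 + x 7 + x 8 = 3 * x 0 := by linarith
  rw [hs] at h8
  constructor
  · nlinarith [sq_nonneg (x 0)]
  · intro h0
    have hx0 : x 0 = 0 := by nlinarith [sq_nonneg (x 0)]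
    rw [hx0] at h0
    have hz : ∀ i : Fin 9, x i = 0 := by
      intro i
      fin_cases i
      · exact hx0
      all_goals
        simp only [Fin.reduceFinMk]
        refine (pow_eq_zero_iff (two_ne_zero)).mp ?_
        linarith [sq_nonneg (x 1), sq_nonneg (x 2), sq_nonneg (x 3), sq_nonneg (x 4),
          sq_nonneg (x 5), sq_nonneg (x 6), sq_nonneg (x 7), sq_nonneg (x 8)]
    funext i
    exact hz i


/-- the class `-e_i` (an exceptional class for `i ≠ 0`) -/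
def eI (i : Fin 9) : DP 8 := Pi.single i (-1)

theorem form_eI (v : DP 8) (i : Fin 9) (hi : i ≠ 0) : form v (eI i) = v i := by
  rw [form8]
  fin_cases i
  · exact absurd rfl hi
  all_goals simp [eI]

theorem isExc_eI (i : Fin 9) (hi : i ≠ 0) : IsExc (eI i) := by
  constructor
  · rw [form_eI _ _ hi]; simp [eI]
  · rw [form_eI _ _ hi, canon8]
    fin_cases i
    · exact absurd rfl hi
    all_goals rfl

theorem form_canon8 : form (canon 8) (canon 8) = 1 := by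
  rw [form_canon_canon]; norm_num

theorem exc_pair {E E' : DP 8} (hE : IsExc E) (hE' : IsExc E') :
    (-1 ≤ form E E' ∧ (form E E' = -1 → E = E')) ∧
      (form E E' ≤ 3 ∧ (form E E' = 3 → E = -((2 : ℤ) • canon 8) - E')) := by
  constructor
  · have hK : form (canon 8) (E - E') = 0 := by
      rw [form_sub_right, hE.2, hE'.2]; ring
    have hxx : form (E - E') (E - E') = -2 - 2 * form E E' := by
      rw [form_sub_left, form_sub_right, form_sub_right, hE.1, hE'.1, form_comm E' E]; ring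
    obtain ⟨h1, h2⟩ := negdef hK
    rw [hxx] at h1 h2
    refine ⟨by linarith, fun h => ?_⟩
    have := h2 (by rw [h]; ring)
    exact sub_eq_zero.mp this
  · have hK : form (canon 8) (E + E' + (2 : ℤ) • canon 8) = 0 := by
      rw [form_add_right, form_add_right, form_smul_right, hE.2, hE'.2, form_canon8]; ring
    have hxx : form (E + E' + (2 : ℤ) • canon 8) (E + E' + (2 : ℤ) • canon 8) =
        2 * form E E' - 6 := by
      simp only [form_add_left, form_add_right, form_smul_left, form_smul_right, hE.1, hE'.1,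
        form_comm E' E, form_canon8, hE.2, hE'.2, form_comm E (canon 8), form_comm E' (canon 8)]
      ring
    obtain ⟨h1, h2⟩ := negdef hK
    rw [hxx] at h1 h2
    refine ⟨by linarith, fun h => ?_⟩
    have := h2 (by rw [h]; ring)
    rw [eq_sub_iff_add_eq, eq_neg_iff_add_eq_zero]
    exact this

theorem exc_coord {E : DP 8} (hE : IsExc E) (i : Fin 9) (hi : i ≠ 0) :
    -1 ≤ E i ∧ (E i = -1 → E = eI i) := by
  have := (exc_pair hE (isExc_eI i hi)).1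
  rwa [form_eI _ _ hi] at this

theorem exc_zero_ge {E : DP 8} (hE : IsExc E) : -1 ≤ E 0 := by
  obtain ⟨h1, h2⟩ := (isExc_iff E).mp hE
  have h8 := sumsq8 (E 1) (E 2) (E 3) (E 4) (E 5) (E 6) (E 7) (E 8)
  rw [h2] at h8
  nlinarith

theorem ineq_core (a b1 b2 b3 b4 b5 b6 b7 b8 : ℤ)
    (hq : a ^ 2 - (b1 ^ 2 + b2 ^ 2 + b3 ^ 2 + b4 ^ 2 + b5 ^ 2 + b6 ^ 2 + b7 ^ 2 + b8 ^ 2) = -1)
    (hs : b1 + b2 + b3 + b4 + b5 + b6 + b7 + b8 = 3 * a - 1)
    (h0 : 0 ≤ b1) (h12 : b1 ≤ b2) (h23 : b2 ≤ b3) (h34 : b3 ≤ b4) (h45 : b4 ≤ b5)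
    (h56 : b5 ≤ b6) (h67 : b6 ≤ b7) (h78 : b7 ≤ b8) (ht : b6 + b7 + b8 ≤ a) : False := by
  have e1 : b6 * (b1 + b2 + b3 + b4 + b5) = b6 * (3 * a - 1 - b6 - b7 - b8) := by
    rw [show b1 + b2 + b3 + b4 + b5 = 3 * a - 1 - b6 - b7 - b8 by linarith]
  have p1 := mul_nonneg h0 (by linarith : 0 ≤ b6 - b1)
  have p2 := mul_nonneg (by linarith : 0 ≤ b2) (by linarith : 0 ≤ b6 - b2)
  have p3 := mul_nonneg (by linarith : 0 ≤ b3) (by linarith : 0 ≤ b6 - b3)
  have p4 := mul_nonneg (by linarith : 0 ≤ b4) (by linarith : 0 ≤ b6 - b4)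
  have p5 := mul_nonneg (by linarith : 0 ≤ b5) (by linarith : 0 ≤ b6 - b5)
  have q1 := mul_nonneg (by linarith : 0 ≤ b7 - b6) (by linarith : 0 ≤ b8 - b6)
  have q2 := mul_nonneg (by linarith : 0 ≤ b6) (by linarith : 0 ≤ b7 - b6)
  have q3 := mul_nonneg (by linarith : 0 ≤ b6) (by linarith : 0 ≤ b8 - b6)
  have q4 := mul_nonneg (by linarith : 0 ≤ a - (b6 + b7 + b8))
    (by linarith : 0 ≤ 2 * (b7 + b8) - b6)
  have q5 := sq_nonneg (a - (b6 + b7 + b8))
  have q6 : 0 ≤ b6 := by linarith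
  linarith

theorem ineq_core1 (a b2 b3 b4 b5 b6 b7 b8 : ℤ)
    (hq : a ^ 2 - (1 + b2 ^ 2 + b3 ^ 2 + b4 ^ 2 + b5 ^ 2 + b6 ^ 2 + b7 ^ 2 + b8 ^ 2) = -1)
    (hs : 1 + b2 + b3 + b4 + b5 + b6 + b7 + b8 = 3 * a - 1)
    (h0 : 0 ≤ b2) (h23 : b2 ≤ b3) (h34 : b3 ≤ b4) (h45 : b4 ≤ b5)
    (h56 : b5 ≤ b6) (h67 : b6 ≤ b7) (h78 : b7 ≤ b8) (ht : b6 + b7 + b8 ≤ a) :
    a = 1 ∧ b2 = 0 ∧ b3 = 0 ∧ b4 = 0 ∧ b5 = 0 ∧ b6 = 0 ∧ b7 = 0 ∧ b8 = 1 := by
  have e1 : b6 * (b2 + b3 + b4 + b5) = b6 * (3 * a - 2 - b6 - b7 - b8) := by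
    rw [show b2 + b3 + b4 + b5 = 3 * a - 2 - b6 - b7 - b8 by linarith]
  have p2 := mul_nonneg (by linarith : 0 ≤ b2) (by linarith : 0 ≤ b6 - b2)
  have p3 := mul_nonneg (by linarith : 0 ≤ b3) (by linarith : 0 ≤ b6 - b3)
  have p4 := mul_nonneg (by linarith : 0 ≤ b4) (by linarith : 0 ≤ b6 - b4)
  have p5 := mul_nonneg (by linarith : 0 ≤ b5) (by linarith : 0 ≤ b6 - b5)
  have q1 := mul_nonneg (by linarith : 0 ≤ b7 - b6) (by linarith : 0 ≤ b8 - b6)
  have q2 := mul_nonneg (by linarith : 0 ≤ b6) (by linarith : 0 ≤ b7 - b6)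
  have q3 := mul_nonneg (by linarith : 0 ≤ b6) (by linarith : 0 ≤ b8 - b6)
  have q4 := mul_nonneg (by linarith : 0 ≤ a - (b6 + b7 + b8))
    (by linarith : 0 ≤ 2 * (b7 + b8) - b6)
  have q5 := sq_nonneg (a - (b6 + b7 + b8))
  have q6 : 0 ≤ b6 := by linarith
  have hb6 : b6 = 0 := by linarith
  have hb5 : b5 = 0 := by linarith
  have hb4 : b4 = 0 := by linarith
  have hb3 : b3 = 0 := by linarith
  have hb2 : b2 = 0 := by linarith
  subst hb6 hb5 hb4 hb3 hb2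
  have ha1 : a ≤ 1 := by linarith
  have ha0 : 0 ≤ a := by linarith
  have hb7 : 0 ≤ b7 := h67
  interval_cases a
  · exfalso; linarith
  · have h7 : b7 = 0 := by omega
    have h8 : b8 = 1 := by omega
    exact ⟨rfl, rfl, rfl, rfl, rfl, rfl, h7, h8⟩


theorem IsWeyl.isExc {g : DP 8 ≃ₗ[ℤ] DP 8} (hg : IsWeyl g) {v : DP 8} (hv : IsExc v) :
    IsExc (g v) := by
  constructor
  · rw [hg.1]; exact hv.1
  · have := hg.1 (canon 8) v
    rw [hg.2] at this
    rw [this]; exact hv.2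

/-- the root `ℓ - e_6 - e_7 - e_8` -/
def α₀ : DP 8 := ![1, 0, 0, 0, 0, 0, 1, 1, 1]

theorem α₀_sq : form α₀ α₀ = -2 := by
  rw [form8]; simp [α₀]

theorem α₀_K : form (canon 8) α₀ = 0 := by
  rw [form8, canon8]; simp [α₀]

/-- the quadratic (Cremona) reflection -/
def s0 : DP 8 ≃ₗ[ℤ] DP 8 := refl α₀ α₀_sq

theorem isWeyl_s0 : IsWeyl s0 := isWeyl_reflection α₀ α₀_sq α₀_K

theorem s0_zero (v : DP 8) : s0 v 0 = 2 * v 0 - (v 6 + v 7 + v 8) := by
  simp only [s0, refl_apply, form8, Pi.add_apply, Pi.smul_apply, smul_eq_mul]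
  simp [α₀]; ring

theorem s0_one (v : DP 8) : s0 v 1 = v 1 := by
  simp only [s0, refl_apply, form8, Pi.add_apply, Pi.smul_apply, smul_eq_mul]
  simp [α₀]

theorem s0_eI1 : s0 (eI 1) = eI 1 := by
  apply refl_fix
  rw [form_comm, form_eI _ _ (by decide)]
  rfl

/-- sort all eight `b`-coordinates increasingly -/
noncomputable def sort0 (v : DP 8) : DP 8 ≃ₗ[ℤ] DP 8 :=
  permW (Tuple.sort (fun i : Fin 8 => v i.succ))

theorem sort0_mono (v : DP 8) {i j : Fin 8} (hij : i ≤ j) :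
    sort0 v v i.succ ≤ sort0 v v j.succ := by
  simp only [sort0, permW_apply_succ]
  exact Tuple.monotone_sort (fun i : Fin 8 => v i.succ) hij

theorem sort0_zero (v : DP 8) : sort0 v v 0 = v 0 := by
  simp [sort0]

/-- sort the last seven `b`-coordinates increasingly -/
noncomputable def sort1 (v : DP 8) : DP 8 ≃ₗ[ℤ] DP 8 :=
  permW (liftPerm (Tuple.sort (fun i : Fin 7 => v i.succ.succ)))

theorem sort1_mono (v : DP 8) {i j : Fin 7} (hij : i ≤ j) :
    sort1 v v i.succ.succ ≤ sort1 v v j.succ.succ := by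
  simp only [sort1, permW_apply_succ, liftPerm_succ]
  exact Tuple.monotone_sort (fun i : Fin 7 => v i.succ.succ) hij

theorem sort1_zero (v : DP 8) : sort1 v v 0 = v 0 := by
  simp [sort1]

theorem sort1_one (v : DP 8) : sort1 v v 1 = v 1 := by
  have : sort1 v v (0 : Fin 8).succ = v (0 : Fin 8).succ := by
    simp only [sort1, permW_apply_succ, liftPerm_zero]
  exact this

theorem sort1_eI1 (v : DP 8) : sort1 v (eI 1) = eI 1 := by
  funext j
  refine Fin.cases ?_ (fun i => ?_) j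
  · simp [sort1]
  · refine Fin.cases ?_ (fun k => ?_) i
    · simp only [sort1, permW_apply_succ, liftPerm_zero]
    · simp only [sort1, permW_apply_succ, liftPerm_succ]
      have h1 : ∀ x : Fin 7, (x.succ.succ : Fin 9) ≠ 1 := by
        intro x h
        have : x.succ = (0 : Fin 8) := Fin.succ_injective _ h
        exact Fin.succ_ne_zero _ this
      simp only [eI, Pi.single_apply, if_neg (h1 _)]

theorem descent0 : ∀ (n : ℕ) (v : DP 8), IsExc v → (v 0 + 1).toNat = n →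
    ∃ g : DP 8 ≃ₗ[ℤ] DP 8, IsWeyl g ∧ g v = eI 1 := by
  intro n
  induction n using Nat.strong_induction_on with
  | _ n ih =>
    intro v hv hn
    have hsW : IsWeyl (sort0 v) := isWeyl_permW _
    set w := sort0 v v with hw
    have hwE : IsExc w := IsWeyl.isExc hsW hv
    have hw0 : w 0 = v 0 := sort0_zero v
    have m12 : w 1 ≤ w 2 := sort0_mono v (i := 0) (j := 1) (by decide)
    have m23 : w 2 ≤ w 3 := sort0_mono v (i := 1) (j := 2) (by decide)
    have m34 : w 3 ≤ w 4 := sort0_mono v (i := 2) (j := 3) (by decide)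
    have m45 : w 4 ≤ w 5 := sort0_mono v (i := 3) (j := 4) (by decide)
    have m56 : w 5 ≤ w 6 := sort0_mono v (i := 4) (j := 5) (by decide)
    have m67 : w 6 ≤ w 7 := sort0_mono v (i := 5) (j := 6) (by decide)
    have m78 : w 7 ≤ w 8 := sort0_mono v (i := 6) (j := 7) (by decide)
    by_cases ht : w 6 + w 7 + w 8 ≤ w 0
    · refine ⟨sort0 v, hsW, ?_⟩
      obtain ⟨hge, heq⟩ := exc_coord hwE 1 (by decide)
      by_cases h1 : w 1 = -1
      · exact heq h1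
      · exfalso
        obtain ⟨hq, hs⟩ := (isExc_iff w).mp hwE
        exact ineq_core (w 0) (w 1) (w 2) (w 3) (w 4) (w 5) (w 6) (w 7) (w 8) hq hs
          (by omega) m12 m23 m34 m45 m56 m67 m78 ht
    · have huE : IsExc (s0 w) := IsWeyl.isExc isWeyl_s0 hwE
      have hu0 : s0 w 0 = 2 * w 0 - (w 6 + w 7 + w 8) := s0_zero w
      have hge := exc_zero_ge huE
      have hlt : (s0 w 0 + 1).toNat < n := by omega
      obtain ⟨g', hg', hg'e⟩ := ih _ hlt (s0 w) huE rfl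
      refine ⟨(sort0 v).trans (s0.trans g'), IsWeyl.trans hsW (IsWeyl.trans isWeyl_s0 hg'), ?_⟩
      simpa [LinearEquiv.trans_apply] using hg'e

/-- terminal form for the constrained descent -/
def T1 (w : DP 8) : Prop :=
  w 2 ≤ w 3 ∧ w 3 ≤ w 4 ∧ w 4 ≤ w 5 ∧ w 5 ≤ w 6 ∧ w 6 ≤ w 7 ∧ w 7 ≤ w 8 ∧ w 6 + w 7 + w 8 ≤ w 0

theorem descent1 : ∀ (n : ℕ) (v : DP 8), IsExc v → (v 0 + 1).toNat = n →
    ∃ g : DP 8 ≃ₗ[ℤ] DP 8, IsWeyl g ∧ g (eI 1) = eI 1 ∧ T1 (g v) ∧ g v 1 = v 1 := by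
  intro n
  induction n using Nat.strong_induction_on with
  | _ n ih =>
    intro v hv hn
    have hsW : IsWeyl (sort1 v) := isWeyl_permW _
    set w := sort1 v v with hw
    have hwE : IsExc w := IsWeyl.isExc hsW hv
    have hw0 : w 0 = v 0 := sort1_zero v
    have hw1 : w 1 = v 1 := sort1_one v
    have m23 : w 2 ≤ w 3 := sort1_mono v (i := 0) (j := 1) (by decide)
    have m34 : w 3 ≤ w 4 := sort1_mono v (i := 1) (j := 2) (by decide)
    have m45 : w 4 ≤ w 5 := sort1_mono v (i := 2) (j := 3) (by decide)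
    have m56 : w 5 ≤ w 6 := sort1_mono v (i := 3) (j := 4) (by decide)
    have m67 : w 6 ≤ w 7 := sort1_mono v (i := 4) (j := 5) (by decide)
    have m78 : w 7 ≤ w 8 := sort1_mono v (i := 5) (j := 6) (by decide)
    by_cases ht : w 6 + w 7 + w 8 ≤ w 0
    · exact ⟨sort1 v, hsW, sort1_eI1 v, ⟨m23, m34, m45, m56, m67, m78, ht⟩, hw1⟩
    · have huE : IsExc (s0 w) := IsWeyl.isExc isWeyl_s0 hwE
      have hu0 : s0 w 0 = 2 * w 0 - (w 6 + w 7 + w 8) := s0_zero w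
      have hge := exc_zero_ge huE
      have hlt : (s0 w 0 + 1).toNat < n := by omega
      obtain ⟨g', hg', hg'e, hg'T, hg'1⟩ := ih _ hlt (s0 w) huE rfl
      refine ⟨(sort1 v).trans (s0.trans g'), IsWeyl.trans hsW (IsWeyl.trans isWeyl_s0 hg'), ?_, ?_, ?_⟩
      · simp only [LinearEquiv.trans_apply, sort1_eI1, s0_eI1, hg'e]
      · simpa [LinearEquiv.trans_apply] using hg'T
      · simp only [LinearEquiv.trans_apply]
        rw [hg'1, s0_one, hw1]


/-- the normal form for `m = 1` -/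
def R1 : DP 8 := ![1, 1, 0, 0, 0, 0, 0, 0, 1]

theorem terminal_zero {w : DP 8} (hw : IsExc w) (hT : T1 w) (h1 : w 1 = 0) : w = eI 2 := by
  obtain ⟨m23, m34, m45, m56, m67, m78, ht⟩ := hT
  obtain ⟨hge, heq⟩ := exc_coord hw 2 (by decide)
  by_cases h2 : w 2 = -1
  · exact heq h2
  · exfalso
    obtain ⟨hq, hs⟩ := (isExc_iff w).mp hw
    exact ineq_core (w 0) (w 1) (w 2) (w 3) (w 4) (w 5) (w 6) (w 7) (w 8) hq hs
      (by omega) (by omega) m23 m34 m45 m56 m67 m78 ht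

theorem terminal_one {w : DP 8} (hw : IsExc w) (hT : T1 w) (h1 : w 1 = 1) : w = R1 := by
  obtain ⟨m23, m34, m45, m56, m67, m78, ht⟩ := hT
  obtain ⟨hge, heq⟩ := exc_coord hw 2 (by decide)
  by_cases h2 : w 2 = -1
  · exfalso
    have := heq h2
    rw [this] at h1
    simp [eI] at h1
  · obtain ⟨hq, hs⟩ := (isExc_iff w).mp hw
    rw [h1] at hq hs
    obtain ⟨e0, e2, e3, e4, e5, e6, e7, e8⟩ :=
      ineq_core1 (w 0) (w 2) (w 3) (w 4) (w 5) (w 6) (w 7) (w 8) (by linarith) hs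
        (by omega) m23 m34 m45 m56 m67 m78 ht
    funext j
    fin_cases j
    · exact e0
    · exact h1
    · exact e2
    · exact e3
    · exact e4
    · exact e5
    · exact e6
    · exact e7
    · exact e8

theorem main01 {L L₁ L₂ : DP 8} (hL : IsExc L) (hL₁ : IsExc L₁) (hL₂ : IsExc L₂)
    (h : form L₁ L = form L₂ L) (hm : form L₁ L = 0 ∨ form L₁ L = 1) :
    ∃ g : DP 8 ≃ₗ[ℤ] DP 8, IsWeyl g ∧ g L = L ∧ g L₁ = L₂ := by
  obtain ⟨g₀, hg₀, hg₀L⟩ := descent0 _ L hL rfl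
  have hc1 : g₀ L₁ 1 = form L₁ L := by
    rw [← form_eI (g₀ L₁) 1 (by decide), ← hg₀L, hg₀.1]
  have hc2 : g₀ L₂ 1 = form L₁ L := by
    rw [← form_eI (g₀ L₂) 1 (by decide), ← hg₀L, hg₀.1, h]
  obtain ⟨h₁, hh₁, hh₁e, hT₁, h11⟩ := descent1 _ (g₀ L₁) (IsWeyl.isExc hg₀ hL₁) rfl
  obtain ⟨h₂, hh₂, hh₂e, hT₂, h21⟩ := descent1 _ (g₀ L₂) (IsWeyl.isExc hg₀ hL₂) rfl
  have hE₁ : IsExc (h₁ (g₀ L₁)) := IsWeyl.isExc hh₁ (IsWeyl.isExc hg₀ hL₁)
  have hE₂ : IsExc (h₂ (g₀ L₂)) := IsWeyl.isExc hh₂ (IsWeyl.isExc hg₀ hL₂)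
  have hsame : h₁ (g₀ L₁) = h₂ (g₀ L₂) := by
    rcases hm with hm | hm
    · rw [terminal_zero hE₁ hT₁ (by rw [h11, hc1, hm]),
        terminal_zero hE₂ hT₂ (by rw [h21, hc2, hm])]
    · rw [terminal_one hE₁ hT₁ (by rw [h11, hc1, hm]),
        terminal_one hE₂ hT₂ (by rw [h21, hc2, hm])]
  refine ⟨g₀.trans (h₁.trans (h₂.symm.trans g₀.symm)),
    IsWeyl.trans hg₀ (IsWeyl.trans hh₁ (IsWeyl.trans (IsWeyl.symm hh₂) (IsWeyl.symm hg₀))), ?_, ?_⟩
  · simp only [LinearEquiv.trans_apply]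
    rw [hg₀L, hh₁e, (LinearEquiv.symm_apply_eq h₂).mpr hh₂e.symm,
      (LinearEquiv.symm_apply_eq g₀).mpr hg₀L.symm]
  · simp only [LinearEquiv.trans_apply]
    rw [hsame, LinearEquiv.symm_apply_apply, LinearEquiv.symm_apply_apply]

theorem isExc_shift {E L : DP 8} (hE : IsExc E) (hL : IsExc L) (h2 : form E L = 2) :
    IsExc (E + canon 8 + L) ∧ form (E + canon 8 + L) L = 0 := by
  refine ⟨⟨?_, ?_⟩, ?_⟩
  · simp only [form_add_left, form_add_right, hE.1, hL.1, form_canon8, hE.2, hL.2, h2,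
      form_comm E (canon 8), form_comm L (canon 8), form_comm L E]
    ring
  · simp only [form_add_right, hE.2, hL.2, form_canon8]
    ring
  · simp only [form_add_left, hL.1, hL.2, h2]
    ring


open W4c3severiratdp in
/-- Work in the lattice of vectors (a; b_1, …, b_δ), standing for divisor classes a ℓ − Σ b_i e_i on the
blow-up of the projective plane at δ points written in a standard basis, with intersection form a a'
− Σ b_i b_i' and canonical class K = (−3; −1, …, −1); a conic class is a class Q with Q·Q = 0 and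
K·Q = −2, an exceptional class (the class of a (−1)-curve) is a class E with E·E = −1 and K·E = −1,
and the Weyl group W_δ is the group of additive automorphisms of the lattice preserving the form and
fixing K. Let δ = 8 (a del Pezzo surface of degree one) and let L be an exceptional class. If L_1
and L_2 are exceptional classes with L_1·L = L_2·L, then L_1 and L_2 lie in the same orbit of the
stabilizer of L in W_8. -/
theorem result (L L₁ L₂ : DP 8) (hL : IsExc L) (hL₁ : IsExc L₁)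
    (hL₂ : IsExc L₂) (h : form L₁ L = form L₂ L) :
    ∃ g : DP 8 ≃ₗ[ℤ] DP 8, IsWeyl g ∧ g L = L ∧ g L₁ = L₂ := by
  obtain ⟨⟨hlo, hlo'⟩, ⟨hhi, hhi'⟩⟩ := exc_pair hL₁ hL
  obtain ⟨⟨_, hlo2⟩, ⟨_, hhi2⟩⟩ := exc_pair hL₂ hL
  have hcases : form L₁ L = -1 ∨ form L₁ L = 0 ∨ form L₁ L = 1 ∨ form L₁ L = 2 ∨
      form L₁ L = 3 := by omega
  rcases hcases with hm | hm | hm | hm | hm
  · refine ⟨LinearEquiv.refl ℤ _, isWeyl_refl, rfl, ?_⟩
    rw [LinearEquiv.refl_apply, hlo' hm, hlo2 (h ▸ hm)]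
  · exact main01 hL hL₁ hL₂ h (Or.inl hm)
  · exact main01 hL hL₁ hL₂ h (Or.inr hm)
  · obtain ⟨hM₁, hM₁L⟩ := isExc_shift hL₁ hL hm
    obtain ⟨hM₂, hM₂L⟩ := isExc_shift hL₂ hL (h ▸ hm)
    obtain ⟨g, hg, hgL, hgM⟩ := main01 hL hM₁ hM₂ (hM₁L.trans hM₂L.symm) (Or.inl hM₁L)
    refine ⟨g, hg, hgL, ?_⟩
    rw [map_add, map_add, hg.2, hgL] at hgM
    exact add_right_cancel (add_right_cancel hgM)
  · refine ⟨LinearEquiv.refl ℤ _, isWeyl_refl, rfl, ?_⟩
    rw [LinearEquiv.refl_apply, hhi' hm, hhi2 (h ▸ hm)]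

end Groth.Agent.S15909
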