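import Groth.Statements.S1481
import Mathlib
import Groth.Agent.Lib.ValSpecialize

set_option autoImplicit false
universe u
open FlatMor

namespace Groth.Agent.S1481

/-- generic points in subspaces: if the generic point of the closure (in the ambient space) of an
irreducible closed subset `C` of a subspace `G` lies in `G`, it is a generic point of `C`. -/
theorem isGenericPoint_subtype {X : Type*} [TopologicalSpace X] (G : Set X) (C : Set ↥G)
    (hCc : IsClosed C) (ζ : X) (hζ : IsGenericPoint ζ (closure (Subtype.val '' C))) (hζG : ζ ∈ G) :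
    IsGenericPoint (⟨ζ, hζG⟩ : ↥G) C := by
  rw [IsGenericPoint, Topology.IsInducing.subtypeVal.closure_eq_preimage_closure_image,
    Set.image_singleton, hζ.def, ← Topology.IsInducing.subtypeVal.closure_eq_preimage_closure_image,
    hCc.closure_eq]

/-- a generization of the generic point of an irreducible component is that generic point. -/
theorem eq_of_specializes_of_isGenericPoint {Z : Type*} [TopologicalSpace Z] [T0Space Z]
    {C : Set Z} (hC : C ∈ irreducibleComponents Z) {x w : Z} (hx : IsGenericPoint x C)
    (hw : w ⤳ x) : w = x := by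
  have hirr : IsIrreducible (closure ({w} : Set Z)) := isIrreducible_singleton.closure
  have hsub : C ⊆ closure ({w} : Set Z) := by
    rw [← hx.def]
    exact closure_minimal (Set.singleton_subset_iff.2 (specializes_iff_mem_closure.1 hw))
      isClosed_closure
  have hle : closure ({w} : Set Z) ⊆ C := hC.2 hirr hsub
  have hwC : IsGenericPoint w C := le_antisymm hle hsub
  exact hwC.eq hx

/-- irreducible components of a subspace `G` of a quasi-sober space through a point have generic
points as soon as the candidate lies in `G`. -/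
theorem exists_generic_component {X : Type*} [TopologicalSpace X] [QuasiSober X] (G : Set X)
    (a : ↥G) (hG : ∀ ζ : X, ζ ⤳ (a : X) → (∀ K : Set X, IsClosed K → (a : X) ∈ K → G ⊆ K → ζ ∈ K) →
      ζ ∈ G) :
    ∃ (ζ : X) (hζ : ζ ∈ G), irreducibleComponent a ∈ irreducibleComponents ↥G ∧
      IsGenericPoint (⟨ζ, hζ⟩ : ↥G) (irreducibleComponent a) ∧ ζ ⤳ (a : X) := by
  set C := irreducibleComponent a with hC
  have hCirr : IsIrreducible C := isIrreducible_irreducibleComponent
  have hCc : IsClosed C := isClosed_irreducibleComponent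
  have himg : IsIrreducible (closure (Subtype.val '' C : Set X)) :=
    (hCirr.image _ continuous_subtype_val.continuousOn).closure
  obtain ⟨ζ, hζ⟩ := QuasiSober.sober himg isClosed_closure
  have hζmem : ζ ∈ closure (Subtype.val '' C : Set X) := by
    rw [← hζ.def]; exact subset_closure rfl
  have haC : (a : X) ∈ closure (Subtype.val '' C : Set X) :=
    subset_closure ⟨a, mem_irreducibleComponent, rfl⟩
  have hζa : ζ ⤳ (a : X) := hζ.specializes haC
  have hζG : ζ ∈ G := by
    refine hG ζ hζa (fun K hK haK hGK => ?_)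
    have : closure (Subtype.val '' C : Set X) ⊆ K := by
      apply closure_minimal _ hK
      rintro _ ⟨c, -, rfl⟩
      exact hGK c.2
    exact this hζmem
  exact ⟨ζ, hζG, irreducibleComponent_mem_irreducibleComponents a,
    isGenericPoint_subtype G C hCc ζ hζ hζG, hζa⟩


open AlgebraicGeometry CategoryTheory Limits in
/-- Let f : X → S, y a point of X with image t, Y the closure of y, s a point of S and x a point of Y
over s which is generic in an irreducible component of the fibre of Y over s (fibres as subspaces).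
Then there are a valuation ring R and a morphism g : Spec R → S sending the generic point to t and
the closed point to s, such that, writing X' for the base change with projections g' : X' → X and f'
: X' → Spec R, there is a point y' of X' over the generic point with g' y' = y which is generic in
an irreducible component of the generic fibre of g'⁻¹(Y), and a point x' in the closure of y' over
the closed point with g' x' = x which is generic in an irreducible component of the special fibre of
the closure of y'. -/
theorem result {X S : Scheme.{u}} (f : X ⟶ S) (y : X) (s : S) (x : X)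
    (hx : x ∈ closure ({y} : Set ↑X)) (hxs : f x = s)
    (hgen : ∃ C ∈ irreducibleComponents ↑(closure ({y} : Set ↑X) ∩ f ⁻¹' {s}), IsGenericPoint (⟨x, hx, hxs⟩ : ↑(closure ({y} : Set ↑X) ∩ f ⁻¹' {s})) C) :
    ∃ (R : Type u) (_ : CommRing R) (_ : IsDomain R) (_ : ValuationRing R) (g : Spec (CommRingCat.of R) ⟶ S),
      g (⊥ : PrimeSpectrum R) = f y ∧ g (IsLocalRing.closedPoint R) = s ∧
      ∃ (y' : ↑(pullback f g)) (hy't : pullback.snd f g y' = (⊥ : PrimeSpectrum R)) (hy'Y : pullback.fst f g y' ∈ closure ({y} : Set ↑X)),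
        pullback.fst f g y' = y ∧
        (∃ C ∈ irreducibleComponents ↑((pullback.fst f g) ⁻¹' closure ({y} : Set ↑X) ∩ (pullback.snd f g) ⁻¹' {(⊥ : PrimeSpectrum R)}),
          IsGenericPoint (⟨y', hy'Y, hy't⟩ : ↑((pullback.fst f g) ⁻¹' closure ({y} : Set ↑X) ∩ (pullback.snd f g) ⁻¹' {(⊥ : PrimeSpectrum R)})) C) ∧
        ∃ (x' : ↑(pullback f g)) (hx' : x' ∈ closure ({y'} : Set ↑(pullback f g))) (hx's : pullback.snd f g x' = IsLocalRing.closedPoint R),
          pullback.fst f g x' = x ∧
          ∃ C ∈ irreducibleComponents ↑(closure ({y'} : Set ↑(pullback f g)) ∩ (pullback.snd f g) ⁻¹' {IsLocalRing.closedPoint R}),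
            IsGenericPoint (⟨x', hx', hx's⟩ : ↑(closure ({y'} : Set ↑(pullback f g)) ∩ (pullback.snd f g) ⁻¹' {IsLocalRing.closedPoint R})) C := by
  classical
  have hyx : y ⤳ x := specializes_iff_mem_closure.2 hx
  obtain ⟨A, l, hl1, hl2⟩ := Groth.Agent.Lib.ValSpecialize.exists_valuationSubring_of_specializes' hyx
  set g : Spec (CommRingCat.of A) ⟶ S := l ≫ f with hg
  let c : Spec (CommRingCat.of A) := IsLocalRing.closedPoint A
  let η : Spec (CommRingCat.of A) := (⟨⊥, Ideal.isPrime_bot⟩ : PrimeSpectrum A)
  have hgη : g η = f y := by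
    rw [hg, Scheme.Hom.comp_apply]
    exact congrArg f hl2
  have hgc : g c = s := by
    rw [hg, Scheme.Hom.comp_apply]
    exact (congrArg f hl1).trans hxs
  let σ : Spec (CommRingCat.of A) ⟶ pullback f g :=
    pullback.lift l (𝟙 _) (by rw [Category.id_comp])
  have hσ1 : ∀ p, (pullback.fst f g) (σ p) = l p := by
    intro p
    rw [← Scheme.Hom.comp_apply, pullback.lift_fst]
  have hσ2 : ∀ p, (pullback.snd f g) (σ p) = p := by
    intro p
    rw [← Scheme.Hom.comp_apply, pullback.lift_snd]
    rfl
  set δ := σ η with hδ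
  set x2 := σ c with hx2
  have hηc : η ⤳ c := Groth.Agent.Lib.ValSpecialize.bot_specializes c
  have hδx2 : δ ⤳ x2 := hηc.map σ.continuous
  -- generizations of the generic point
  have hbot : ∀ q : Spec (CommRingCat.of A), q ⤳ η → q = η := by
    intro q hq
    have h1 := (PrimeSpectrum.le_iff_specializes q η).2 hq
    apply PrimeSpectrum.ext
    exact le_bot_iff.1 h1
  refine ⟨A, inferInstance, inferInstance, inferInstance, g, hgη, hgc, ?_⟩
  -- the point y1
  set G : Set ↑(pullback f g) :=
    (pullback.fst f g) ⁻¹' closure ({y} : Set ↑X) ∩ (pullback.snd f g) ⁻¹' {η} with hG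
  have hδG : δ ∈ G := by
    refine ⟨?_, hσ2 η⟩
    change (pullback.fst f g) (σ η) ∈ closure ({y} : Set ↑X)
    rw [hσ1, hl2]
    exact subset_closure rfl
  obtain ⟨y1, hy1G, hCA, hgenA, hy1δ⟩ := exists_generic_component G ⟨δ, hδG⟩ (by
    intro ζ hζδ hK
    refine ⟨?_, ?_⟩
    · exact hK ((pullback.fst f g) ⁻¹' closure ({y} : Set ↑X))
        (isClosed_closure.preimage (pullback.fst f g).continuous) hδG.1 Set.inter_subset_left
    · have h1 : (pullback.snd f g) ζ ⤳ (pullback.snd f g) δ := hζδ.map (pullback.snd f g).continuous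
      rw [show (pullback.snd f g) δ = η from hσ2 η] at h1
      exact hbot _ h1)
  have hy1δ' : y1 ⤳ δ := hy1δ
  have hy1fst : (pullback.fst f g) y1 = y := by
    have h1 : (pullback.fst f g) y1 ⤳ (pullback.fst f g) δ := hy1δ'.map (pullback.fst f g).continuous
    rw [show (pullback.fst f g) δ = y from (hσ1 η).trans hl2] at h1
    have h2 : y ⤳ (pullback.fst f g) y1 := specializes_iff_mem_closure.2 hy1G.1
    exact (h1.antisymm h2).eq
  refine ⟨y1, hy1G.2, hy1G.1, hy1fst, ⟨_, hCA, hgenA⟩, ?_⟩
  -- the point x1
  set F : Set ↑(pullback f g) :=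
    closure ({y1} : Set ↑(pullback f g)) ∩ (pullback.snd f g) ⁻¹' {c} with hF
  have hcl : IsClosed ({c} : Set ↑(Spec (CommRingCat.of A))) :=
    IsLocalRing.isClosed_singleton_closedPoint A
  have hFc : IsClosed F :=
    isClosed_closure.inter (hcl.preimage (pullback.snd f g).continuous)
  have hx2F : x2 ∈ F := by
    refine ⟨?_, hσ2 c⟩
    exact specializes_iff_mem_closure.1 (hy1δ'.trans hδx2)
  obtain ⟨x1, hx1F, hCB, hgenB, hx1x2⟩ := exists_generic_component F ⟨x2, hx2F⟩ (by
    intro ζ _ hK
    exact hK F hFc hx2F subset_rfl)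
  have hx1x2' : x1 ⤳ x2 := hx1x2
  have hy1x1 : y1 ⤳ x1 := specializes_iff_mem_closure.2 hx1F.1
  have hx1fst : (pullback.fst f g) x1 = x := by
    set w := (pullback.fst f g) x1 with hw
    have h1 : w ⤳ x := by
      have := hx1x2'.map (pullback.fst f g).continuous
      rwa [show (pullback.fst f g) x2 = x from (hσ1 c).trans hl1] at this
    have h2 : w ∈ closure ({y} : Set ↑X) := by
      have := hy1x1.map (pullback.fst f g).continuous
      rw [hy1fst] at this
      exact specializes_iff_mem_closure.1 this
    have h3 : f w = s := by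
      have hcomm : (pullback.fst f g ≫ f) x1 = (pullback.snd f g ≫ g) x1 := by
        rw [pullback.condition]
      rw [Scheme.Hom.comp_apply, Scheme.Hom.comp_apply] at hcomm
      rw [hw, hcomm, show (pullback.snd f g) x1 = c from hx1F.2, hgc]
    obtain ⟨C₀, hC₀, hgen₀⟩ := hgen
    have h3' : w ∈ f ⁻¹' {s} := h3
    have h4 : (⟨w, h2, h3'⟩ : ↑(closure ({y} : Set ↑X) ∩ f ⁻¹' {s})) ⤳ ⟨x, hx, hxs⟩ :=
      Topology.IsInducing.subtypeVal.specializes_iff.1 h1
    have h5 := eq_of_specializes_of_isGenericPoint hC₀ hgen₀ h4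
    exact congrArg Subtype.val h5
  exact ⟨x1, hx1F.1, hx1F.2, hx1fst, ⟨_, hCB, hgenB⟩⟩

end Groth.Agent.S1481
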