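import Groth.Statements.S7476
import Groth.Agent.Lib.ValSpecialize
import Groth.Agent.Lib.HTopBasic

set_option autoImplicit false
universe w u
open HTop

namespace Groth.Agent.S7476

universe w'

open CategoryTheory CategoryTheory.Limits AlgebraicGeometry Groth.Agent.Lib.ValSpecialize Groth.Agent.Lib.HTopBasic HTop in
theorem hasValLift_of_isVCover {X Y : Scheme.{u}} (f : X ⟶ Y)
    (hV : HTop.IsVCover (PreZeroHypercover.singleton.{w} f)) :
    HTop.HasValLift (PreZeroHypercover.singleton.{w'} f) := by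
  intro V _ _ g
  obtain ⟨U, hU, hcU, -⟩ := exists_isAffineOpen_mem_and_subset (X := Y)
    (x := g (IsLocalRing.closedPoint V)) (U := ⊤) trivial
  have hsub : Set.range g ⊆ (U : Set Y) :=
    range_subset_of_closedPoint_mem V g _ U.2 hcU
  let gU : Spec V ⟶ (U : Scheme.{u}) :=
    IsOpenImmersion.lift U.ι g (by rw [Scheme.Opens.range_ι]; exact hsub)
  have hgU : gU ≫ U.ι = g := IsOpenImmersion.lift_fac _ _ _
  obtain ⟨F, hF, href⟩ := hV ⟨U, hU⟩
  obtain ⟨W, hWd, hWv, φ, hφ, j, g', hg'⟩ := hF.lift V gU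
  obtain ⟨i, h, hh⟩ := href j
  refine ⟨W, hWd, hWv, φ, hφ, PUnit.unit, g' ≫ h, ?_⟩
  have hh' : h ≫ f = F.f j ≫ U.ι := hh
  show (g' ≫ h) ≫ f = Spec.map φ ≫ g
  rw [Category.assoc, hh']
  rw [← Category.assoc, hg', Category.assoc, hgU]

open CategoryTheory CategoryTheory.Limits AlgebraicGeometry Groth.Agent.Lib.ValSpecialize Groth.Agent.Lib.HTopBasic HTop in
theorem isVCover_of_hasValLift {X Y : Scheme.{u}} (f : X ⟶ Y) [QuasiCompact f]
    (hL : HTop.HasValLift (PreZeroHypercover.singleton.{w} f)) :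
    HTop.IsVCover (PreZeroHypercover.singleton.{w'} f) := by
  classical
  intro U
  have hUaff : IsAffineOpen (U : Y.Opens) := U.2
  have hK : IsCompact ((f ⁻¹ᵁ (U : Y.Opens) : X.Opens) : Set X) :=
    f.isCompact_preimage hUaff.isCompact
  have h2 : ∀ x : ↥(f ⁻¹ᵁ (U : Y.Opens) : X.Opens), ∃ V : X.Opens, IsAffineOpen V ∧ x.1 ∈ V ∧
      V ≤ f ⁻¹ᵁ (U : Y.Opens) := fun x => by
    obtain ⟨V, hV, hx, hle⟩ :=
      exists_isAffineOpen_mem_and_subset (X := X) (x := x.1) (U := f ⁻¹ᵁ (U : Y.Opens)) x.2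
    exact ⟨V, hV, hx, hle⟩
  choose V hVaff hxV hVU using h2
  obtain ⟨s, hs⟩ := hK.elim_finite_subcover (fun x => (V x : Set X))
    (fun x => (V x).2) (fun x hx => Set.mem_iUnion.mpr ⟨⟨x, hx⟩, hxV ⟨x, hx⟩⟩)
  let e : Fin s.card ≃ ↥s := s.equivFin.symm
  let pt : Fin s.card → ↥(f ⁻¹ᵁ (U : Y.Opens) : X.Opens) := fun k => (e k).1
  let F : PreZeroHypercover.{0} ((U : Y.Opens) : Scheme.{u}) :=
    { I₀ := Fin s.card
      X := fun k => ((V (pt k) : X.Opens) : Scheme.{u})
      f := fun k => f.resLE (U : Y.Opens) (V (pt k)) (hVU (pt k)) }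
  have hFι : ∀ k, F.f k ≫ (U : Y.Opens).ι = (V (pt k)).ι ≫ f := fun k =>
    Scheme.Hom.resLE_comp_ι _ _
  refine ⟨F, ⟨hUaff, inferInstanceAs (Finite (Fin s.card)), fun k => hVaff (pt k), ?_⟩, ?_⟩
  · intro W₀ _ _ g
    obtain ⟨W, hWd, hWv, φ, hφ, j, g', hg'⟩ := hL W₀ (g ≫ (U : Y.Opens).ι)
    let g'' : Spec W ⟶ X := g'
    have hg'' : g'' ≫ f = Spec.map φ ≫ g ≫ (U : Y.Opens).ι := hg'
    have hloc : IsLocalRing W := inferInstance
    have hmem : g'' (IsLocalRing.closedPoint W) ∈ ((f ⁻¹ᵁ (U : Y.Opens) : X.Opens) : Set X) := by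
      show f (g'' (IsLocalRing.closedPoint W)) ∈ (U : Y.Opens)
      rw [← Scheme.Hom.comp_apply, hg'']
      simp only [Scheme.Hom.comp_apply]
      exact (g _).2
    have ht := hs hmem
    simp only [Set.mem_iUnion] at ht
    obtain ⟨x, hxs, htx⟩ := ht
    let k : Fin s.card := e.symm ⟨x, hxs⟩
    have hk : pt k = x := by simp [pt, k]
    have hsub : Set.range g'' ⊆ Set.range (V (pt k)).ι := by
      rw [Scheme.Opens.range_ι]
      refine range_subset_of_closedPoint_mem W g'' _ (V (pt k)).2 ?_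
      rw [hk]; exact htx
    refine ⟨W, hWd, hWv, φ, hφ, k, IsOpenImmersion.lift (V (pt k)).ι g'' hsub, ?_⟩
    rw [← cancel_mono (U : Y.Opens).ι, Category.assoc, hFι, ← Category.assoc,
      IsOpenImmersion.lift_fac, hg'', Category.assoc]
  · intro k
    exact ⟨PUnit.unit, (V (pt k)).ι, (hFι k).symm⟩

open CategoryTheory CategoryTheory.Limits AlgebraicGeometry Groth.Agent.Lib.ValSpecialize Groth.Agent.Lib.HTopBasic HTop IsLocalRing in
theorem specialization_of_hasValLift {X Y : Scheme.{u}} (f : X ⟶ Y)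
    (hL : HTop.HasValLift (PreZeroHypercover.singleton.{w} f))
    (Z : Scheme.{u}) (g : Z ⟶ Y) (z' z : Z) (hz : z' ⤳ z) :
    ∃ w' w : ↑(pullback g f), w' ⤳ w ∧ pullback.fst g f w' = z' ∧ pullback.fst g f w = z := by
  obtain ⟨A, l, hl1, hl2⟩ := exists_valuationSubring_of_specializes' hz
  obtain ⟨W, hWd, hWv, φ, hφ, j, g', hg'⟩ := hL (CommRingCat.of A) (l ≫ g)
  let g'' : Spec W ⟶ X := g'
  have hg'' : g'' ≫ f = Spec.map φ ≫ l ≫ g := hg'
  let m : Spec W ⟶ pullback g f := pullback.lift (Spec.map φ ≫ l) g''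
    (by rw [hg'', Category.assoc])
  have hm : m ≫ pullback.fst g f = Spec.map φ ≫ l := pullback.lift_fst _ _ _
  refine ⟨m (⟨⊥, Ideal.isPrime_bot⟩ : PrimeSpectrum W), m (closedPoint W), ?_, ?_, ?_⟩
  · exact (specializes_closedPoint (R := W) _).map m.continuous
  · rw [← Scheme.Hom.comp_apply, hm, Scheme.Hom.comp_apply]
    exact (congrArg _ (IsExtVal.specMap_bot hφ)).trans hl2
  · rw [← Scheme.Hom.comp_apply, hm, Scheme.Hom.comp_apply]
    exact (congrArg _ (IsExtVal.specMap_closedPoint hφ)).trans hl1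

open CategoryTheory CategoryTheory.Limits AlgebraicGeometry Groth.Agent.Lib.ValSpecialize Groth.Agent.Lib.HTopBasic HTop IsLocalRing in
theorem hasValLift_of_specialization {X Y : Scheme.{u}} (f : X ⟶ Y)
    (H : ∀ (Z : Scheme.{u}) (g : Z ⟶ Y) (z' z : Z), z' ⤳ z → ∃ w' w : ↑(pullback g f),
      w' ⤳ w ∧ pullback.fst g f w' = z' ∧ pullback.fst g f w = z) :
    HTop.HasValLift (PreZeroHypercover.singleton.{w} f) := by
  intro V _ _ g
  obtain ⟨w', w, hw, hw', hwc⟩ := H (Spec V) g (⟨⊥, Ideal.isPrime_bot⟩ : PrimeSpectrum V)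
    (closedPoint V) (specializes_closedPoint (R := V) _)
  obtain ⟨W, hWd, hWv, φ, hφ, g', hg'⟩ :=
    exists_lift_of_specializes_pullback f V g w' w hw hwc hw'
  exact ⟨W, hWd, hWv, φ, hφ, PUnit.unit, g', hg'⟩


open CategoryTheory CategoryTheory.Limits AlgebraicGeometry in
/-- Let f : X -> Y be a quasi-compact morphism of schemes. Then the one-member family of f is a V
covering if and only if every morphism from the spectrum of a valuation ring to Y lifts to X after
an extension of valuation rings; and the latter holds if and only if for every morphism Z -> Y and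
every specialization z' ⤳ z of points of Z there is a specialization w' ⤳ w of points of Z x_Y X
mapping to z' ⤳ z. -/
theorem result {X Y : Scheme.{u}} (f : X ⟶ Y) [QuasiCompact f] : (HTop.IsVCover (PreZeroHypercover.singleton f) ↔ HTop.HasValLift (PreZeroHypercover.singleton f)) ∧ (HTop.HasValLift (PreZeroHypercover.singleton f) ↔ ∀ (Z : Scheme.{u}) (g : Z ⟶ Y) (z' z : Z), z' ⤳ z → ∃ w' w : ↑(pullback g f), w' ⤳ w ∧ pullback.fst g f w' = z' ∧ pullback.fst g f w = z) := by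
  exact ⟨⟨hasValLift_of_isVCover f, isVCover_of_hasValLift f⟩,
    ⟨specialization_of_hasValLift f, hasValLift_of_specialization f⟩⟩

end Groth.Agent.S7476
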