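import Groth.Statements.S18404
import Mathlib.LinearAlgebra.CrossProduct
import Mathlib.Tactic.LinearCombination
import Mathlib.Tactic.FieldSimp
import Mathlib.LinearAlgebra.LinearIndependent.Lemmas

set_option autoImplicit false
universe u
open Cubic

namespace Groth.Agent.S18404

section aux
open MvPolynomial

theorem eval_form (k : ℂ) (v : Fin 3 → ℂ) :
    eval v (HesseCubic.form k) = v 0 ^ 3 + v 1 ^ 3 + v 2 ^ 3 - 3 * k * (v 0 * v 1 * v 2) := by
  simp [HesseCubic.form]

/-- the Gram determinant identity behind "flex ⇒ Hessian vanishes" -/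
theorem key (x y z a b c k : ℂ)
    (hF : x^3+y^3+z^3 - 3*k*(x*y*z) = 0)
    (hL : (3*x^2 - 3*k*y*z)*a + (3*y^2 - 3*k*x*z)*b + (3*z^2 - 3*k*x*y)*c = 0)
    (hQ : 3*x*a^2 + 3*y*b^2 + 3*z*c^2 - 3*k*z*a*b - 3*k*y*a*c - 3*k*x*b*c = 0) :
    (y*c - z*b)^2 * ((1-k^3)*(x*y*z)) = 0 := by
  have : (y*c - z*b)^2 * (216*(1-k^3)*x*y*z) = 0 := by
    linear_combination
      (54*k^2*(y*c - z*b)^2 + 6 * (2*(3*x*a^2 + 3*y*b^2 + 3*z*c^2 - 3*k*z*a*b - 3*k*y*a*c - 3*k*x*b*c)*(6*x)
          - (6*x*a - 3*k*z*b - 3*k*y*c)^2)) * hF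
      + (- 2 * (2*((3*x^2 - 3*k*y*z)*a + (3*y^2 - 3*k*x*z)*b + (3*z^2 - 3*k*x*y)*c)*(6*x)
            - (6*x^2 - 6*k*y*z)*(6*x*a - 3*k*z*b - 3*k*y*c))
          + 2 * (6*x^2 - 6*k*y*z) * (6*x*a - 3*k*z*b - 3*k*y*c)) * hL
      + (- 2 * (6*x^2 - 6*k*y*z)^2) * hQ
  linear_combination (1/216) * this

theorem expand (x y z a b c k t : ℂ) :
    (x + t*a)^3 + (y + t*b)^3 + (z + t*c)^3 - 3*k*((x + t*a)*(y + t*b)*(z + t*c)) =
      (x^3+y^3+z^3 - 3*k*(x*y*z))
      + t * ((3*x^2 - 3*k*y*z)*a + (3*y^2 - 3*k*x*z)*b + (3*z^2 - 3*k*x*y)*c)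
      + t^2 * (3*x*a^2 + 3*y*b^2 + 3*z*c^2 - 3*k*z*a*b - 3*k*y*a*c - 3*k*x*b*c)
      + t^3 * (a^3+b^3+c^3 - 3*k*(a*b*c)) := by
  ring

theorem vec_ext {u u' : Fin 3 → ℂ} (h0 : u 0 = u' 0) (h1 : u 1 = u' 1) (h2 : u 2 = u' 2) : u = u' := by
  funext i
  fin_cases i <;> assumption

theorem forward (k : ℂ) (hk : k ^ 3 ≠ 1) (v : Fin 3 → ℂ) (hv : v ≠ 0)
    (hCv : eval v (HesseCubic.form k) = 0) (w : Fin 3 → ℂ) (hind : LinearIndependent ℂ ![v, w])
    (ht : ∀ t : ℂ, eval (v + t • w) (HesseCubic.form k) = t ^ 3 * eval w (HesseCubic.form k)) :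
    ∃ γ c : ℂ, γ ^ 3 = 1 ∧ (v = c • ![0, 1, -γ] ∨ v = c • ![-γ, 0, 1] ∨ v = c • ![1, -γ, 0]) := by
  have e1 := ht 1
  have e2 := ht (-1)
  simp only [eval_form, Pi.add_apply, Pi.smul_apply, smul_eq_mul] at e1 e2 hCv
  rw [expand] at e1 e2
  have hL : (3*v 0^2 - 3*k*v 1*v 2)*w 0 + (3*v 1^2 - 3*k*v 0*v 2)*w 1
      + (3*v 2^2 - 3*k*v 0*v 1)*w 2 = 0 := by
    linear_combination (1/2) * e1 - (1/2) * e2
  have hQ : 3*v 0*w 0^2 + 3*v 1*w 1^2 + 3*v 2*w 2^2 - 3*k*v 2*w 0*w 1 - 3*k*v 1*w 0*w 2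
      - 3*k*v 0*w 1*w 2 = 0 := by
    linear_combination (1/2) * e1 + (1/2) * e2 - hCv
  have hcross : crossProduct v w ≠ 0 := crossProduct_ne_zero_iff_linearIndependent.mpr hind
  have hk' : (1 : ℂ) - k ^ 3 ≠ 0 := sub_ne_zero.mpr (Ne.symm hk)
  have hxyz : v 0 * v 1 * v 2 = 0 := by
    by_contra hne
    apply hcross
    rw [cross_apply]
    have m0 : v 1 * w 2 - v 2 * w 1 = 0 := by
      have := key (v 0) (v 1) (v 2) (w 0) (w 1) (w 2) k hCv hL hQ
      rcases mul_eq_zero.mp this with h | h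
      · exact pow_eq_zero_iff (two_ne_zero) |>.mp h
      · exact absurd (mul_eq_zero.mp h) (by push Not; exact ⟨hk', hne⟩)
    have m1 : v 2 * w 0 - v 0 * w 2 = 0 := by
      have := key (v 1) (v 2) (v 0) (w 1) (w 2) (w 0) k (by linear_combination hCv)
        (by linear_combination hL) (by linear_combination hQ)
      rcases mul_eq_zero.mp this with h | h
      · exact pow_eq_zero_iff (two_ne_zero) |>.mp h
      · refine absurd (mul_eq_zero.mp h) ?_
        push Not
        exact ⟨hk', by intro h'; apply hne; linear_combination h'⟩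
    have m2 : v 0 * w 1 - v 1 * w 0 = 0 := by
      have := key (v 2) (v 0) (v 1) (w 2) (w 0) (w 1) k (by linear_combination hCv)
        (by linear_combination hL) (by linear_combination hQ)
      rcases mul_eq_zero.mp this with h | h
      · exact pow_eq_zero_iff (two_ne_zero) |>.mp h
      · refine absurd (mul_eq_zero.mp h) ?_
        push Not
        exact ⟨hk', by intro h'; apply hne; linear_combination h'⟩
    rw [m0, m1, m2]
    exact vec_ext rfl rfl rfl
  -- now one coordinate vanishes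
  have hcases : v 0 = 0 ∨ v 1 = 0 ∨ v 2 = 0 := by
    rcases mul_eq_zero.mp hxyz with h | h
    · rcases mul_eq_zero.mp h with h | h
      · exact Or.inl h
      · exact Or.inr (Or.inl h)
    · exact Or.inr (Or.inr h)
  rcases hcases with h0 | h1 | h2
  · -- v = (0, y, z)
    have hy : v 1 ≠ 0 := by
      intro hy
      have hz : v 2 = 0 := by
        have : v 2 ^ 3 = 0 := by rw [h0, hy] at hCv; linear_combination hCv
        exact pow_eq_zero_iff (three_ne_zero) |>.mp this
      exact hv (vec_ext h0 hy hz)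
    refine ⟨-v 2 / v 1, v 1, ?_, Or.inl ?_⟩
    · rw [h0] at hCv
      field_simp
      linear_combination (-1 : ℂ) * hCv
    · apply vec_ext
      · simp [h0]
      · simp
      · simp; field_simp
  · -- v = (x, 0, z), form c • ![-γ, 0, 1]
    have hz : v 2 ≠ 0 := by
      intro hz
      have hx : v 0 = 0 := by
        have : v 0 ^ 3 = 0 := by rw [h1, hz] at hCv; linear_combination hCv
        exact pow_eq_zero_iff (three_ne_zero) |>.mp this
      exact hv (vec_ext hx h1 hz)
    refine ⟨-v 0 / v 2, v 2, ?_, Or.inr (Or.inl ?_)⟩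
    · rw [h1] at hCv
      field_simp
      linear_combination (-1 : ℂ) * hCv
    · apply vec_ext
      · simp; field_simp
      · simp [h1]
      · simp
  · -- v = (x, y, 0), form c • ![1, -γ, 0]
    have hx : v 0 ≠ 0 := by
      intro hx
      have hy : v 1 = 0 := by
        have : v 1 ^ 3 = 0 := by rw [h2, hx] at hCv; linear_combination hCv
        exact pow_eq_zero_iff (three_ne_zero) |>.mp this
      exact hv (vec_ext hx hy h2)
    refine ⟨-v 1 / v 0, v 0, ?_, Or.inr (Or.inr ?_)⟩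
    · rw [h2] at hCv
      field_simp
      linear_combination (-1 : ℂ) * hCv
    · apply vec_ext
      · simp
      · simp; field_simp
      · simp [h2]

theorem backward (k : ℂ) (v : Fin 3 → ℂ) (hv : v ≠ 0) (γ c : ℂ) (hγ : γ ^ 3 = 1)
    (h : v = c • ![0, 1, -γ] ∨ v = c • ![-γ, 0, 1] ∨ v = c • ![1, -γ, 0]) :
    ∃ w : Fin 3 → ℂ, LinearIndependent ℂ ![v, w] ∧
        ∀ t : ℂ, eval (v + t • w) (HesseCubic.form k) = t ^ 3 * eval w (HesseCubic.form k) := by
  have hc : c ≠ 0 := by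
    rintro rfl
    apply hv
    rcases h with h | h | h <;> simp [h]
  rcases h with h | h | h
  · refine ⟨![1, -k * γ, 0], ?_, fun t => ?_⟩
    · rw [LinearIndependent.pair_iff]
      intro s t hst
      have h0 := congrFun hst 0
      have h1 := congrFun hst 1
      simp [h] at h0 h1
      subst h0
      simpa [hc] using h1
    · simp only [eval_form, Pi.add_apply, Pi.smul_apply, smul_eq_mul, h]
      simp
      linear_combination (-c^3) * hγ
  · refine ⟨![0, 1, -k * γ], ?_, fun t => ?_⟩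
    · rw [LinearIndependent.pair_iff]
      intro s t hst
      have h1 := congrFun hst 1
      have h2 := congrFun hst 2
      simp [h] at h1 h2
      subst h1
      simpa [hc] using h2
    · simp only [eval_form, Pi.add_apply, Pi.smul_apply, smul_eq_mul, h]
      simp
      linear_combination (-c^3) * hγ
  · refine ⟨![-k * γ, 0, 1], ?_, fun t => ?_⟩
    · rw [LinearIndependent.pair_iff]
      intro s t hst
      have h2 := congrFun hst 2
      have h0 := congrFun hst 0
      simp [h] at h0 h2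
      subst h2
      simpa [hc] using h0
    · simp only [eval_form, Pi.add_apply, Pi.smul_apply, smul_eq_mul, h]
      simp
      linear_combination (-c^3) * hγ

end aux

open MvPolynomial in
/-- Let k ∈ ℂ with k³ ≠ 1 and let h = X₀³ + X₁³ + X₂³ − 3k·X₀X₁X₂ be the Hesse cubic. For a nonzero
vector v with h(v) = 0, the corresponding point is a flex of the plane curve of h — some line
through it meets the curve there with multiplicity three, i.e. there is a vector w linearly
independent from v with h(v + t·w) = t³·h(w) for every t — exactly when v is a scalar multiple of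
one of the nine vectors (0, 1, −γ), (−γ, 0, 1), (1, −γ, 0) with γ³ = 1. -/
theorem result (k : ℂ) (hk : k ^ 3 ≠ 1) (v : Fin 3 → ℂ) (hv : v ≠ 0)
    (hCv : eval v (HesseCubic.form k) = 0) :
    (∃ w : Fin 3 → ℂ, LinearIndependent ℂ ![v, w] ∧
        ∀ t : ℂ, eval (v + t • w) (HesseCubic.form k) = t ^ 3 * eval w (HesseCubic.form k)) ↔
      ∃ γ c : ℂ, γ ^ 3 = 1 ∧ (v = c • ![0, 1, -γ] ∨ v = c • ![-γ, 0, 1] ∨ v = c • ![1, -γ, 0]) := by
  constructor
  · rintro ⟨w, hind, ht⟩
    exact forward k hk v hv hCv w hind ht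
  · rintro ⟨γ, c, hγ, h⟩
    exact backward k v hv γ c hγ h


end Groth.Agent.S18404
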