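import Groth.Statements.S14929
import Groth.Agent.Lib.UnivHomeo

set_option autoImplicit false
universe u
open CategoryTheory CategoryTheory.Limits AlgebraicGeometry
open Variety

namespace Groth.Agent.S14929

open FrobSch in
theorem isIntegralHom_frob (p : ℕ) [Fact p.Prime] (X : Scheme.{u}) [FrobSch.IsCharP X p] :
    IsIntegralHom (FrobSch.frob X p) := by
  have haff : IsAffineHom (FrobSch.frob X p) := ⟨fun U hU => hU⟩
  refine { haff with isIntegral_app := fun U hU s => ?_ }
  have hp : p ≠ 0 := (Fact.out : p.Prime).ne_zero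
  let s' : Γ(X, U) := s
  refine ⟨(Polynomial.X ^ p - Polynomial.C s' : Polynomial Γ(X, U)),
    Polynomial.monic_X_pow_sub_C s' hp, ?_⟩
  rw [Polynomial.eval₂_sub, Polynomial.eval₂_pow, Polynomial.eval₂_X, Polynomial.eval₂_C]
  exact sub_eq_zero.2 rfl

open FrobSch in
theorem residueFieldMap_frob_apply (p : ℕ) [Fact p.Prime] (X : Scheme.{u}) [FrobSch.IsCharP X p]
    (x : X) (a : X.residueField x) :
    ((FrobSch.frob X p).residueFieldMap x).hom a = a ^ p := by
  obtain ⟨t, rfl⟩ := X.residue_surjective x a
  obtain ⟨U, hxU, s, rfl⟩ := X.presheaf.exists_germ_eq (x := x) t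
  have h := Scheme.evaluation_naturality_apply (FrobSch.frob X p) (V := U) x hxU s
  change ((FrobSch.frob X p).residueFieldMap x).hom (X.evaluation U x hxU s) = _
  refine h.trans ?_
  change X.evaluation U x hxU (s ^ p) = (X.evaluation U x hxU s) ^ p
  rw [map_pow]

theorem charP_residueField (p : ℕ) [Fact p.Prime] (X : Scheme.{u}) [FrobSch.IsCharP X p] (x : X) :
    CharP (X.residueField x) p := by
  have h0 : ((p : Γ(X, ⊤)) : Γ(X, ⊤)) = 0 := FrobSch.IsCharP.natCast_eq_zero
  have h1 : (p : X.residueField x) = 0 := by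
    have := congrArg (X.Γevaluation x).hom h0
    simpa using this
  exact (CharP.charP_iff_prime_eq_zero Fact.out).2 h1

theorem isPurelyInseparable_of_pow_mem {K L : Type*} [Field K] [Field L] (φ : K →+* L) (p : ℕ)
    [ExpChar K p] (h : ∀ a : L, ∃ b : K, φ b = a ^ p) : φ.IsPurelyInseparable := by
  unfold RingHom.IsPurelyInseparable
  let _ := φ.toAlgebra
  refine (isPurelyInseparable_iff_pow_mem K p).2 ?_
  intro a
  obtain ⟨b, hb⟩ := h a
  exact ⟨1, b, by rw [pow_one]; exact hb⟩

/-- Let p be a prime and X a scheme of characteristic p (p is zero in the structure sheaf). Then the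
absolute Frobenius F_X : X → X, the identity on the underlying space with g ↦ g^p on sections, is a
universal homeomorphism (every base change of it is a homeomorphism), is integral, and induces a
purely inseparable extension of residue fields κ(x) → κ(x) at every point x of X. -/
theorem result (p : ℕ) [Fact p.Prime]
    (X : Scheme.{u}) [FrobSch.IsCharP X p] :
    FlatMor.IsUnivHomeo (FrobSch.frob X p) ∧ IsIntegralHom (FrobSch.frob X p) ∧
      ∀ x : X, ((FrobSch.frob X p).residueFieldMap x).hom.IsPurelyInseparable := by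
  have hint := isIntegralHom_frob p X
  have hpi : ∀ x : X, ((FrobSch.frob X p).residueFieldMap x).hom.IsPurelyInseparable := by
    intro x
    have hc : CharP (X.residueField ((FrobSch.frob X p) x)) p := charP_residueField p X x
    have : ExpChar (X.residueField ((FrobSch.frob X p) x)) p := ExpChar.prime Fact.out
    exact isPurelyInseparable_of_pow_mem _ p
      (fun a => ⟨a, residueFieldMap_frob_apply p X x a⟩)
  refine ⟨?_, hint, hpi⟩
  rw [Groth.Agent.Lib.UnivHomeo.iff_isIntegralHom_universallyInjective_surjective]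
  refine ⟨hint, ?_, ⟨fun x => ⟨x, rfl⟩⟩⟩
  have h := (tfae_universallyInjective (FrobSch.frob X p)).out 0 2
  exact h.2 ⟨fun _ _ h => h, hpi⟩

end Groth.Agent.S14929
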