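import Groth.Statements.S4952
import Groth.Agent.Lib.H30IrrFib
import Groth.Agent.Lib.DimIneqComponent
import Groth.Agent.Lib.EquidimOpen
import Groth.Agent.Lib.EquidimRestrict
import Groth.Agent.Lib.QuasiSection

set_option autoImplicit false
open CategoryTheory AlgebraicGeometry
universe u v w
open EGA43

namespace Groth.Agent.S4952


open Groth.Agent.Lib.H30DimRel

/-- generic point of an irreducible subset of a fibre -/
theorem exists_generic_of_subset_fibre {X Y : Scheme.{u}} (f : X ⟶ Y) (y : Y) (S : Set X)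
    (hS : S ⊆ f.base ⁻¹' {y}) (hirr : IsIrreducible S) :
    ∃ ξ : X, closure {ξ} = closure S ∧ f.base ξ = y := by
  obtain ⟨ξ, hξ⟩ := QuasiSober.sober hirr.closure isClosed_closure
  have hξcl : closure {ξ} = closure S := hξ.def
  refine ⟨ξ, hξcl, ?_⟩
  obtain ⟨s, hs⟩ := hirr.nonempty
  have h1 : ξ ⤳ s := by
    rw [specializes_iff_mem_closure, hξcl]; exact subset_closure hs
  have h2 : f.base ξ ⤳ y := by
    have := h1.map f.base.hom.continuous
    rwa [show f.base s = y from hS hs] at this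
  have h3 : y ⤳ f.base ξ := by
    rw [specializes_iff_mem_closure]
    have h4 : ξ ∈ closure S := by rw [← hξcl]; exact subset_closure rfl
    have h5 : f.base '' closure S ⊆ closure (f.base '' S) :=
      image_closure_subset_closure_image f.base.hom.continuous
    have h6 : f.base '' S ⊆ {y} := by
      rintro _ ⟨c, hc, rfl⟩
      exact hS hc
    exact closure_mono h6 (h5 ⟨ξ, h4, rfl⟩)
  exact (h2.antisymm h3).eq

/-- the closure of a point inside its fibre is irreducible -/
theorem isIrreducible_closure_inter_fibre {X Y : Scheme.{u}} (f : X ⟶ Y) (ξ : X) :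
    IsIrreducible (closure {ξ} ∩ f.base ⁻¹' {f.base ξ} : Set X) := by
  have himg : (f.fiberι (f.base ξ)).base '' (closure ({f.asFiber ξ} : Set (f.fiber (f.base ξ)))) =
      closure {ξ} ∩ f.base ⁻¹' {f.base ξ} := by
    rw [(f.fiberι (f.base ξ)).isEmbedding.isInducing.closure_eq_preimage_closure_image,
      Set.image_preimage_eq_inter_range, Set.image_singleton, f.fiberι_asFiber,
      Scheme.Hom.range_fiberι]
  rw [← himg]
  exact isIrreducible_singleton.closure.image _
    (f.fiberι (f.base ξ)).base.hom.continuous.continuousOn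

/-- generizations inside the fibre of a point of a connected component of the fibre stay in the
component, together with their closure in the fibre -/
theorem closure_inter_subset_connectedComponentIn {X : Type*} [TopologicalSpace X] (F : Set X)
    (x₀ w : X) (hx₀ : x₀ ∈ F) (hw : w ∈ F) (h : w ⤳ x₀) :
    closure {w} ∩ F ⊆ connectedComponentIn F x₀ := by
  have hpre : _root_.IsPreconnected (closure {w} ∩ F) := by
    have h1 : _root_.IsPreconnected ({w} : Set X) := isPreconnected_singleton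
    refine h1.subset_closure ?_ Set.inter_subset_left
    rintro _ rfl
    exact ⟨subset_closure rfl, hw⟩
  exact hpre.subset_connectedComponentIn (x := x₀) ⟨specializes_iff_mem_closure.mp h, hx₀⟩
    Set.inter_subset_right

theorem connectedComponentIn_eq_inter_closure {X : Type*} [TopologicalSpace X] (F : Set X)
    (x₀ : X) (hx₀ : x₀ ∈ F) :
    connectedComponentIn F x₀ = F ∩ closure (connectedComponentIn F x₀) := by
  have hCF : connectedComponentIn F x₀ ⊆ F := connectedComponentIn_subset F x₀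
  apply Set.Subset.antisymm
  · exact fun c hc => ⟨hCF hc, subset_closure hc⟩
  · rintro c ⟨hcF, hcC⟩
    have hpre : _root_.IsPreconnected (closure (connectedComponentIn F x₀) ∩ F) := by
      have h1 : _root_.IsPreconnected (connectedComponentIn F x₀) :=
        isPreconnected_connectedComponentIn
      exact h1.subset_closure (fun c hc => ⟨subset_closure hc, hCF hc⟩) Set.inter_subset_left
    have := hpre.subset_connectedComponentIn (x := x₀)
      ⟨subset_closure (mem_connectedComponentIn hx₀), hx₀⟩ Set.inter_subset_right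
    exact this ⟨hcC, hcF⟩

theorem dim_le_of_subset {X : Type*} [TopologicalSpace X] {A B : Set X} (h : A ⊆ B) :
    topologicalKrullDim ↥A ≤ topologicalKrullDim ↥B :=
  (Topology.IsInducing.of_comp (f := Set.inclusion h) (g := Subtype.val)
    (continuous_inclusion h) continuous_subtype_val Topology.IsInducing.subtypeVal).topologicalKrullDim_le

/-- Let Y be a locally Noetherian scheme, f : X ⟶ Y a morphism locally of finite type and g : Y ⟶ X a
section of f; for z in Y let X_z^0 be the connected component of the fibre f⁻¹(z) containing g z (a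
subset of X with the induced topology). Let y be a point of Y and y' a generization of y. (i) If
there is an irreducible component Z of f⁻¹(y') containing g y' with dim Z = dim X_{y'}^0, then dim
X_y^0 ≥ dim X_{y'}^0. (ii) If moreover X_y^0 is irreducible and dim X_y^0 = dim X_{y'}^0, then X_y^0
is contained in the closure of X_{y'}^0 in X. -/
theorem result {X Y : Scheme.{u}} [IsLocallyNoetherian Y] (f : X ⟶ Y)
    [LocallyOfFiniteType f] (g : Y ⟶ X) (hg : g ≫ f = 𝟙 Y) (y y' : Y) (hy : y' ⤳ y)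
    (hZ : ∃ Z : Set X, Z ⊆ f.base ⁻¹' {y'} ∧ IsIrreducible Z ∧
      (∀ Z' : Set X, IsIrreducible Z' → Z' ⊆ f.base ⁻¹' {y'} → Z ⊆ Z' → Z' = Z) ∧ g.base y' ∈ Z ∧
      topologicalKrullDim ↥Z = topologicalKrullDim ↥(connectedComponentIn (f.base ⁻¹' {y'}) (g.base y'))) :
    topologicalKrullDim ↥(connectedComponentIn (f.base ⁻¹' {y'}) (g.base y')) ≤ topologicalKrullDim ↥(connectedComponentIn (f.base ⁻¹' {y}) (g.base y)) ∧
      (IsIrreducible (connectedComponentIn (f.base ⁻¹' {y}) (g.base y)) → topologicalKrullDim ↥(connectedComponentIn (f.base ⁻¹' {y}) (g.base y)) = topologicalKrullDim ↥(connectedComponentIn (f.base ⁻¹' {y'}) (g.base y')) →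
        connectedComponentIn (f.base ⁻¹' {y}) (g.base y) ⊆ closure (connectedComponentIn (f.base ⁻¹' {y'}) (g.base y'))) := by
  obtain ⟨Z, hZF, hZirr, hZmax, hx₀'Z, hZdim⟩ := hZ
  have hfg : ∀ z : Y, f.base (g.base z) = z := by
    intro z
    have := congrArg (fun φ : Y ⟶ Y => φ.base z) hg
    simpa using this
  -- generic point of `Z`
  obtain ⟨ξ', hξ'cl, hfξ'⟩ := exists_generic_of_subset_fibre f y' Z hZF hZirr
  have hZeq : closure {ξ'} ∩ f.base ⁻¹' {y'} = Z := by
    apply hZmax
    · have := isIrreducible_closure_inter_fibre f ξ'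
      rwa [hfξ'] at this
    · exact Set.inter_subset_right
    · intro z hz
      exact ⟨by rw [hξ'cl]; exact subset_closure hz, hZF hz⟩
  have hZdim' : topologicalKrullDim ↥Z = ((rt f ξ' : ℕ) : WithBot ℕ∞) := by
    have := Groth.Agent.Lib.DimIneqComponent.topologicalKrullDim_closure_inter_fibre f ξ'
      (rt f ξ') (trdeg_eq_rt f ξ')
    rw [hfξ', hZeq] at this
    exact this
  obtain ⟨x₀, hx₀def⟩ : ∃ x₀, x₀ = g.base y := ⟨_, rfl⟩
  rw [← hx₀def]
  have hx₀F : x₀ ∈ f.base ⁻¹' {y} := by rw [hx₀def]; exact hfg y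
  have hsp : ξ' ⤳ x₀ := by
    have h1 : ξ' ⤳ g.base y' := by
      rw [specializes_iff_mem_closure, hξ'cl]; exact subset_closure hx₀'Z
    rw [hx₀def]
    exact h1.trans (hy.map g.base.hom.continuous)
  -- (i)
  have h1 := Groth.Agent.Lib.EquidimOpen.rt_le_fibreDimAt_of_specializes f ξ' x₀ hsp
  obtain ⟨w, hw1, hw2, hw3, hw4⟩ := Groth.Agent.Lib.H30IrrFib.exists_rt_eq_fibreDimAt f x₀
  have hwF : w ∈ f.base ⁻¹' {y} := hw1.trans hx₀F
  have hsub := closure_inter_subset_connectedComponentIn (f.base ⁻¹' {y}) x₀ w hx₀F hwF hw2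
  have hdimw : topologicalKrullDim ↥(closure {w} ∩ f.base ⁻¹' {y} : Set X) =
      ((rt f w : ℕ) : WithBot ℕ∞) := by
    have := Groth.Agent.Lib.DimIneqComponent.topologicalKrullDim_closure_inter_fibre f w
      (rt f w) (trdeg_eq_rt f w)
    rwa [show f.base w = y from hwF] at this
  have hi : topologicalKrullDim ↥(connectedComponentIn (f.base ⁻¹' {y'}) (g.base y')) ≤
      topologicalKrullDim ↥(connectedComponentIn (f.base ⁻¹' {y}) x₀) := by
    rw [← hZdim, hZdim']
    calc ((rt f ξ' : ℕ) : WithBot ℕ∞) ≤ FlatMor.fibreDimAt f x₀ := h1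
      _ = ((rt f w : ℕ) : WithBot ℕ∞) := hw4.symm
      _ = topologicalKrullDim ↥(closure {w} ∩ f.base ⁻¹' {y} : Set X) := hdimw.symm
      _ ≤ _ := dim_le_of_subset hsub
  refine ⟨hi, ?_⟩
  intro hCirr hdimeq
  -- generic point of `C`
  obtain ⟨ξ, hξcl, hfξ⟩ := exists_generic_of_subset_fibre f y _
    (connectedComponentIn_subset (f.base ⁻¹' {y}) x₀) hCirr
  have hCeq : closure {ξ} ∩ f.base ⁻¹' {y} = connectedComponentIn (f.base ⁻¹' {y}) x₀ := by
    rw [hξcl, Set.inter_comm]
    exact (connectedComponentIn_eq_inter_closure (f.base ⁻¹' {y}) x₀ hx₀F).symm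
  have hCdim : topologicalKrullDim ↥(connectedComponentIn (f.base ⁻¹' {y}) x₀) =
      ((rt f ξ : ℕ) : WithBot ℕ∞) := by
    have := Groth.Agent.Lib.DimIneqComponent.topologicalKrullDim_closure_inter_fibre f ξ
      (rt f ξ) (trdeg_eq_rt f ξ)
    rw [hfξ, hCeq] at this
    exact this
  have hn : rt f ξ = rt f ξ' := by
    have : ((rt f ξ : ℕ) : WithBot ℕ∞) = ((rt f ξ' : ℕ) : WithBot ℕ∞) := by
      rw [← hCdim, hdimeq, ← hZdim, hZdim']
    exact_mod_cast this
  -- the reduced subscheme on the closure of `ξ'`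
  obtain ⟨t₀, ht₀⟩ := Groth.Agent.Lib.EquidimRestrict.exists_redSub_pt ξ' x₀ hsp
  obtain ⟨ξT, hξT, hξTgen⟩ := Groth.Agent.Lib.EquidimRestrict.exists_redSub_generic ξ'
  obtain ⟨fT, hfT⟩ : ∃ fT, fT = Groth.Agent.Lib.H69RedInduced.redSubι
    (Groth.Agent.Lib.EquidimRestrict.clos ξ') ≫ f := ⟨_, rfl⟩
  haveI : LocallyOfFiniteType fT := by rw [hfT]; infer_instance
  have h2 := Groth.Agent.Lib.EquidimOpen.rt_le_fibreDimAt_of_specializes fT ξT t₀ (hξTgen t₀)
  obtain ⟨wT, hwT1, hwT2, hwT3, hwT4⟩ := Groth.Agent.Lib.H30IrrFib.exists_rt_eq_fibreDimAt fT t₀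
  have hrtξT : rt fT ξT = rt f ξ' := by
    subst hfT
    rw [Groth.Agent.Lib.H30IrrFib.rt_comp_of_isPreimmersion, hξT]
  have hrtwT : rt fT wT = rt f (Groth.Agent.Lib.H69RedInduced.redSubι
      (Groth.Agent.Lib.EquidimRestrict.clos ξ') wT) := by
    subst hfT
    exact Groth.Agent.Lib.H30IrrFib.rt_comp_of_isPreimmersion f _ wT
  obtain ⟨w2, hw2def⟩ : ∃ w2, w2 = Groth.Agent.Lib.H69RedInduced.redSubι
      (Groth.Agent.Lib.EquidimRestrict.clos ξ') wT := ⟨_, rfl⟩
  rw [← hw2def] at hrtwT
  have hw2F : f.base w2 = y := by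
    have h3 : fT.base wT = fT.base t₀ := hwT1
    subst hfT
    have h4 : f.base (Groth.Agent.Lib.H69RedInduced.redSubι
        (Groth.Agent.Lib.EquidimRestrict.clos ξ') wT) =
      f.base (Groth.Agent.Lib.H69RedInduced.redSubι
        (Groth.Agent.Lib.EquidimRestrict.clos ξ') t₀) := h3
    rw [← hw2def, ht₀] at h4
    exact h4.trans hx₀F
  have hw2sp : w2 ⤳ x₀ := by
    have := hwT2.map (Groth.Agent.Lib.H69RedInduced.redSubι
      (Groth.Agent.Lib.EquidimRestrict.clos ξ')).base.hom.continuous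
    rw [hw2def, ← ht₀]
    exact this
  have hle : rt f ξ' ≤ rt f w2 := by
    have : ((rt fT ξT : ℕ) : WithBot ℕ∞) ≤ ((rt fT wT : ℕ) : WithBot ℕ∞) := by
      rw [hwT4]; exact h2
    rw [hrtξT, hrtwT] at this
    exact_mod_cast this
  have hw2C : w2 ∈ connectedComponentIn (f.base ⁻¹' {y}) x₀ :=
    closure_inter_subset_connectedComponentIn (f.base ⁻¹' {y}) x₀ w2 hx₀F hw2F hw2sp
      ⟨subset_closure rfl, hw2F⟩
  have hξw2 : ξ ⤳ w2 := by
    rw [specializes_iff_mem_closure, hξcl]; exact subset_closure hw2C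
  have hξeq : ξ = w2 := by
    by_contra hne
    have := Groth.Agent.Lib.QuasiSection.rt_lt_of_specializes_ne f ξ w2 hξw2
      (hfξ.trans hw2F.symm) hne
    omega
  have hξ'ξ : ξ' ⤳ ξ := by
    rw [hξeq, hw2def]
    exact Groth.Agent.Lib.EquidimRestrict.specializes_redSubι ξ' wT
  have hZC' : Z ⊆ connectedComponentIn (f.base ⁻¹' {y'}) (g.base y') :=
    hZirr.isConnected.isPreconnected.subset_connectedComponentIn hx₀'Z hZF
  intro c hc
  have hc1 : c ∈ closure {ξ} := by rw [hξcl]; exact subset_closure hc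
  have hc2 : c ∈ closure {ξ'} := (specializes_iff_closure_subset.mp hξ'ξ) hc1
  rw [hξ'cl] at hc2
  exact closure_mono hZC' hc2

end Groth.Agent.S4952
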