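import Groth.Statements.S1489

set_option autoImplicit false
universe u
open FlatMor

namespace Groth.Agent.S1489

open AlgebraicGeometry CategoryTheory Limits

/-- Uniqueness of lifts along a surjective morphism when the diagonal is an open immersion. -/
lemma hom_ext_of_surjective {X Y Z Z' : Scheme.{u}} (f : X ⟶ Y)
    [IsOpenImmersion (pullback.diagonal f)]
    (i : Z' ⟶ Z) [Surjective i] {g₁ g₂ : Z ⟶ X} (hig : i ≫ g₁ = i ≫ g₂)
    (hgf : g₁ ≫ f = g₂ ≫ f) : g₁ = g₂ := by
  let h : Z ⟶ pullback f f := pullback.lift g₁ g₂ hgf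
  have e₁ : h ≫ pullback.fst f f = g₁ := pullback.lift_fst _ _ _
  have e₂ : h ≫ pullback.snd f f = g₂ := pullback.lift_snd _ _ _
  have hih : i ≫ h = (i ≫ g₁) ≫ pullback.diagonal f := by
    apply pullback.hom_ext
    · rw [Category.assoc, e₁, Category.assoc, pullback.diagonal_fst, Category.comp_id]
    · rw [Category.assoc, e₂, Category.assoc, pullback.diagonal_snd, Category.comp_id, hig]
  have hr : Set.range h ⊆ Set.range (pullback.diagonal f) := by
    rintro _ ⟨z, rfl⟩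
    obtain ⟨z', rfl⟩ := i.surjective z
    refine ⟨(i ≫ g₁) z', ?_⟩
    rw [← Scheme.Hom.comp_apply, ← Scheme.Hom.comp_apply, hih]
  have hh : IsOpenImmersion.lift (pullback.diagonal f) h hr ≫ pullback.diagonal f = h :=
    IsOpenImmersion.lift_fac _ _ _
  rw [← e₁, ← e₂, ← hh, Category.assoc, Category.assoc, pullback.diagonal_fst,
    pullback.diagonal_snd]

section thick

variable {A : Type u} [CommRing A] (I : Ideal A)

/-- The thickening `Spec (A ⧸ I) ⟶ Spec A`. -/
noncomputable abbrev thick : Spec (CommRingCat.of (A ⧸ I)) ⟶ Spec (CommRingCat.of A) :=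
  Spec.map (CommRingCat.ofHom (Ideal.Quotient.mk I))

lemma surjective_thick (hI : I ^ 2 = ⊥) : Surjective (thick I) := by
  refine ⟨?_⟩
  have hle : I ≤ nilradical A := by
    intro x hx
    refine ⟨2, ?_⟩
    have : x ^ 2 ∈ I ^ 2 := Ideal.pow_mem_pow hx 2
    rwa [hI] at this
  exact (PrimeSpectrum.comap_quotientMk_bijective_of_le_nilradical hle).2

instance isClosedImmersion_thick : IsClosedImmersion (thick I) :=
  IsClosedImmersion.spec_of_surjective _ Ideal.Quotient.mk_surjective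

lemma ker_appTop_sq (hI : I ^ 2 = ⊥) : RingHom.ker (thick I).appTop.hom ^ 2 = ⊥ := by
  rw [eq_bot_iff, pow_two, Ideal.mul_le]
  intro x hx y hy
  have key : ∀ z ∈ RingHom.ker (thick I).appTop.hom,
      (Scheme.ΓSpecIso (CommRingCat.of A)).hom z ∈ I := by
    intro z hz
    have h1 := congr($(Scheme.ΓSpecIso_naturality (CommRingCat.ofHom (Ideal.Quotient.mk I))) z)
    rw [RingHom.mem_ker] at hz
    rw [CategoryTheory.comp_apply, CategoryTheory.comp_apply] at h1
    rw [show (Spec.map (CommRingCat.ofHom (Ideal.Quotient.mk I))).appTop z = 0 from hz] at h1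
    rw [map_zero] at h1
    exact Ideal.Quotient.eq_zero_iff_mem.mp h1.symm
  have hxy : (Scheme.ΓSpecIso (CommRingCat.of A)).hom (x * y) = 0 := by
    rw [map_mul]
    have : (Scheme.ΓSpecIso (CommRingCat.of A)).hom x * (Scheme.ΓSpecIso (CommRingCat.of A)).hom y
        ∈ I ^ 2 := by
      rw [pow_two]; exact Ideal.mul_mem_mul (key x hx) (key y hy)
    rwa [hI] at this
  have hinj : Function.Injective (Scheme.ΓSpecIso (CommRingCat.of A)).hom :=
    (ConcreteCategory.bijective_of_isIso (Scheme.ΓSpecIso (CommRingCat.of A)).hom).1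
  exact hinj (by rw [hxy, map_zero])

lemma ker_app_sq (hI : I ^ 2 = ⊥) (W : (Spec (CommRingCat.of A)).Opens) (hW : IsAffineOpen W) :
    RingHom.ker ((thick I).app W).hom ^ 2 = ⊥ := by
  have h1 := Scheme.Hom.ker_apply (thick I) ⟨W, hW⟩
  have h2 := Scheme.Hom.ker_apply (thick I) ⟨⊤, isAffineOpen_top _⟩
  have h3 := Scheme.IdealSheafData.map_ideal (thick I).ker (U := ⟨W, hW⟩)
    (V := ⟨⊤, isAffineOpen_top _⟩) (le_top (a := W))
  rw [← h1, ← h3, h2, ← Ideal.map_pow]
  have := ker_appTop_sq I hI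
  simp only [Scheme.Hom.appTop] at this
  erw [this]
  rw [Ideal.map_bot]

end thick

section converse

variable {X Y : Scheme.{u}} (f : X ⟶ Y)
  {U : Y.Opens} (hU : IsAffineOpen U) {V : X.Opens} (hV : IsAffineOpen V) (e : V ≤ f ⁻¹ᵁ U)

/-- The lift attached to an algebra map, with the two compatibilities. -/
lemma lift_of_algHom
    {B : Type u} [CommRing B] (J : Ideal B)
    (alg : letI := (f.appLE U V e).hom.toAlgebra; Algebra Γ(Y, U) B)
    (ψ : letI := (f.appLE U V e).hom.toAlgebra; Γ(X, V) →ₐ[Γ(Y, U)] B) :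
    letI := (f.appLE U V e).hom.toAlgebra
    thick J ≫ (Spec.map (CommRingCat.ofHom ψ.toRingHom) ≫ hV.fromSpec) =
      Spec.map (CommRingCat.ofHom ((Ideal.Quotient.mkₐ Γ(Y, U) J).comp ψ).toRingHom) ≫
        hV.fromSpec ∧
    (Spec.map (CommRingCat.ofHom ψ.toRingHom) ≫ hV.fromSpec) ≫ f =
      Spec.map (CommRingCat.ofHom (algebraMap Γ(Y, U) B)) ≫ hU.fromSpec := by
  let := (f.appLE U V e).hom.toAlgebra
  constructor
  · rw [← Spec.map_comp_assoc]
    rfl
  · rw [Category.assoc, ← hU.SpecMap_appLE_fromSpec f hV e, ← Spec.map_comp_assoc]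
    congr 2
    exact CommRingCat.hom_ext ψ.comp_algebraMap

include hU hV in
lemma formallyEtale_appLE (H : MoreMor.IsFormallyEtaleHom f) :
    letI := (f.appLE U V e).hom.toAlgebra
    Algebra.FormallyEtale Γ(Y, U) Γ(X, V) := by
  let := (f.appLE U V e).hom.toAlgebra
  rw [Algebra.FormallyEtale.iff_comp_bijective]
  intro B _ _ J hJ
  constructor
  · intro ψ₁ ψ₂ h
    obtain ⟨h1a, h1b⟩ := lift_of_algHom f hU hV e J inferInstance ψ₁
    obtain ⟨h2a, h2b⟩ := lift_of_algHom f hU hV e J inferInstance ψ₂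
    have hcomm : thick J ≫ (Spec.map (CommRingCat.ofHom (algebraMap Γ(Y, U) B)) ≫ hU.fromSpec) =
        (Spec.map (CommRingCat.ofHom ((Ideal.Quotient.mkₐ Γ(Y, U) J).comp ψ₁).toRingHom) ≫
          hV.fromSpec) ≫ f := by
      rw [← h1a, Category.assoc, h1b]
    obtain ⟨l, _, hl⟩ := H B J hJ _ _ hcomm
    have e1 := hl _ ⟨h1a, h1b⟩
    have e2 := hl _ ⟨by rw [h2a]; exact congr(Spec.map (CommRingCat.ofHom (AlgHom.toRingHom $h.symm)) ≫
      hV.fromSpec), h2b⟩
    have := e1.trans e2.symm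
    rw [cancel_mono, Spec.map_inj] at this
    exact AlgHom.ext fun x => congr($this x)
  · intro g
    let a := Spec.map (CommRingCat.ofHom g.toRingHom) ≫ hV.fromSpec
    let b := Spec.map (CommRingCat.ofHom (algebraMap Γ(Y, U) B)) ≫ hU.fromSpec
    have hcomm : thick J ≫ b = a ≫ f := by
      simp only [a, b]
      rw [Category.assoc, ← hU.SpecMap_appLE_fromSpec f hV e, ← Spec.map_comp_assoc,
        ← Spec.map_comp_assoc]
      congr 2
      exact CommRingCat.hom_ext (g.comp_algebraMap).symm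
    obtain ⟨l, ⟨hl1, hl2⟩, -⟩ := H B J hJ a b hcomm
    have hJs : Surjective (thick J) := surjective_thick J hJ
    have hr : Set.range l ⊆ Set.range hV.fromSpec := by
      rintro _ ⟨z, rfl⟩
      obtain ⟨z', rfl⟩ := (thick J).surjective z
      rw [← Scheme.Hom.comp_apply, hl1]
      exact ⟨_, rfl⟩
    obtain ⟨ψ', hψ'⟩ := Spec.map_surjective (IsOpenImmersion.lift hV.fromSpec l hr)
    have hl' : Spec.map ψ' ≫ hV.fromSpec = l := by
      rw [hψ']; exact IsOpenImmersion.lift_fac _ _ _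
    have h1 : f.appLE U V e ≫ ψ' = CommRingCat.ofHom (algebraMap Γ(Y, U) B) := by
      have := hl2
      rw [← hl', Category.assoc, ← hU.SpecMap_appLE_fromSpec f hV e, ← Spec.map_comp_assoc,
        cancel_mono, Spec.map_inj] at this
      exact this
    have h2 : ψ' ≫ CommRingCat.ofHom (Ideal.Quotient.mk J) = CommRingCat.ofHom g.toRingHom := by
      have := hl1
      rw [← hl', ← Spec.map_comp_assoc, cancel_mono, Spec.map_inj] at this
      exact this
    exact ⟨⟨ψ'.hom, fun r => congr($h1 r)⟩, AlgHom.ext fun x => congr($h2 x)⟩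

end converse

section forward

variable {X Y : Scheme.{u}} (f : X ⟶ Y) {A : Type u} [CommRing A] (I : Ideal A)
  (a : Spec (CommRingCat.of (A ⧸ I)) ⟶ X) (b : Spec (CommRingCat.of A) ⟶ Y)

/-- `l` is a lift over the open `W`. -/
def IsLocalLift (W : (Spec (CommRingCat.of A)).Opens) (l : W.toScheme ⟶ X) : Prop :=
  (∀ {Z' : Scheme.{u}} (v : Z' ⟶ W.toScheme) (r : Z' ⟶ Spec (CommRingCat.of (A ⧸ I))),
    v ≫ W.ι = r ≫ thick I → v ≫ l = r ≫ a) ∧ l ≫ f = W.ι ≫ b

lemma exists_lift_of_local [IsOpenImmersion (pullback.diagonal f)] (hI : I ^ 2 = ⊥)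
    (hloc : ∀ t : Spec (CommRingCat.of A), ∃ (W : (Spec (CommRingCat.of A)).Opens)
      (l : W.toScheme ⟶ X), t ∈ W ∧ IsLocalLift f I a b W l) :
    ∃ l : Spec (CommRingCat.of A) ⟶ X, thick I ≫ l = a ∧ l ≫ f = b := by
  choose W l htW hl using hloc
  have hcov : TopologicalSpace.IsOpenCover W := by
    refine TopologicalSpace.IsOpenCover.mk (top_le_iff.mp fun t _ => ?_)
    exact TopologicalSpace.Opens.mem_iSup.mpr ⟨t, htW t⟩
  let 𝒰 := (Spec (CommRingCat.of A)).openCoverOfIsOpenCover W hcov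
  have hsurj := surjective_thick I hI
  have compat : ∀ x y : Spec (CommRingCat.of A), pullback.fst (W x).ι (W y).ι ≫ l x =
      pullback.snd (W x).ι (W y).ι ≫ l y := by
    intro x y
    refine hom_ext_of_surjective f
      (pullback.fst (pullback.fst (W x).ι (W y).ι ≫ (W x).ι) (thick I)) ?_ ?_
    · have e1 := (hl x).1
        (pullback.fst (pullback.fst (W x).ι (W y).ι ≫ (W x).ι) (thick I) ≫ pullback.fst _ _)
        (pullback.snd _ _) (by rw [Category.assoc]; exact pullback.condition)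
      have e2 := (hl y).1
        (pullback.fst (pullback.fst (W x).ι (W y).ι ≫ (W x).ι) (thick I) ≫ pullback.snd _ _)
        (pullback.snd _ _) (by
          rw [Category.assoc, ← pullback.condition (f := (W x).ι) (g := (W y).ι)]
          exact pullback.condition)
      rw [Category.assoc] at e1 e2
      exact e1.trans e2.symm
    · rw [Category.assoc, Category.assoc, (hl x).2, (hl y).2, ← Category.assoc, ← Category.assoc,
        pullback.condition]
  refine ⟨𝒰.glueMorphisms l compat, ?_, ?_⟩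
  · refine Scheme.Cover.hom_ext (𝒰.pullback₁ (thick I)) _ _ fun x => ?_
    have h1 : pullback.fst (thick I) (W x).ι ≫ thick I ≫ 𝒰.glueMorphisms l compat =
        pullback.fst (thick I) (W x).ι ≫ a := by
      have h2 : (W x).ι ≫ 𝒰.glueMorphisms l compat = l x := 𝒰.ι_glueMorphisms l compat x
      rw [← Category.assoc, pullback.condition, Category.assoc, h2]
      exact (hl x).1 _ _ pullback.condition.symm
    exact h1
  · refine Scheme.Cover.hom_ext 𝒰 _ _ fun x => ?_
    have h2 : (W x).ι ≫ 𝒰.glueMorphisms l compat = l x := 𝒰.ι_glueMorphisms l compat x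
    have h3 : (W x).ι ≫ 𝒰.glueMorphisms l compat ≫ f = (W x).ι ≫ b := by
      rw [← Category.assoc, h2, (hl x).2]
    exact h3

lemma exists_localLift [Etale f] (hI : I ^ 2 = ⊥) (hcomm : thick I ≫ b = a ≫ f)
    (t : Spec (CommRingCat.of A)) :
    ∃ (W : (Spec (CommRingCat.of A)).Opens) (l : W.toScheme ⟶ X),
      t ∈ W ∧ IsLocalLift f I a b W l := by
  have hsurj := surjective_thick I hI
  obtain ⟨t₀, rfl⟩ := (thick I).surjective t
  obtain ⟨_, ⟨V, hV, rfl⟩, htV, -⟩ := Y.isBasis_affineOpens.exists_subset_of_mem_open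
    (Set.mem_univ (f (a t₀))) isOpen_univ
  obtain ⟨_, ⟨U, hU, rfl⟩, htU, hUV : U ≤ f ⁻¹ᵁ V⟩ :=
    X.isBasis_affineOpens.exists_subset_of_mem_open htV (f ⁻¹ᵁ V).isOpen
  have hemb : Topology.IsClosedEmbedding (thick I) := (thick I).isClosedEmbedding
  have hhomeo : IsHomeomorph (thick I) :=
    isHomeomorph_iff_isEmbedding_surjective.mpr ⟨hemb.isEmbedding, (thick I).surjective⟩
  let O : (Spec (CommRingCat.of A)).Opens :=
    ⟨thick I '' (a ⁻¹ᵁ U), hhomeo.isOpenMap _ (a ⁻¹ᵁ U).isOpen⟩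
  have htO : thick I t₀ ∈ O := ⟨t₀, htU, rfl⟩
  have htbV : thick I t₀ ∈ b ⁻¹ᵁ V := by
    change b (thick I t₀) ∈ V
    rw [← Scheme.Hom.comp_apply, hcomm]
    exact htV
  obtain ⟨_, ⟨W, hW, rfl⟩, htW, hWle : W ≤ b ⁻¹ᵁ V ⊓ O⟩ :=
    (Spec (CommRingCat.of A)).isBasis_affineOpens.exists_subset_of_mem_open
      (show thick I t₀ ∈ ((b ⁻¹ᵁ V ⊓ O : (Spec (CommRingCat.of A)).Opens) : Set _) from
        ⟨htbV, htO⟩) (b ⁻¹ᵁ V ⊓ O).isOpen
  have hWV : W ≤ b ⁻¹ᵁ V := hWle.trans inf_le_left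
  have hW'U : thick I ⁻¹ᵁ W ≤ a ⁻¹ᵁ U := by
    intro z hz
    obtain ⟨z', hz', hzz'⟩ := (hWle hz).2
    rwa [← hemb.injective hzz']
  have hW' : IsAffineOpen (thick I ⁻¹ᵁ W) := hW.preimage (thick I)
  have hW'V : thick I ⁻¹ᵁ W ≤ (a ≫ f) ⁻¹ᵁ V := fun z hz => hUV (hW'U hz)
  let algB : Algebra Γ(Y, V) Γ(X, U) := (f.appLE V U hUV).hom.toAlgebra
  let algA : Algebra Γ(Y, V) Γ(Spec (CommRingCat.of A), W) := (b.appLE V W hWV).hom.toAlgebra
  let algC : Algebra Γ(Y, V) Γ(Spec (CommRingCat.of (A ⧸ I)), thick I ⁻¹ᵁ W) :=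
    ((a ≫ f).appLE V (thick I ⁻¹ᵁ W) hW'V).hom.toAlgebra
  have : Algebra.Etale Γ(Y, V) Γ(X, U) := f.etale_appLE hV hU hUV
  let α : Γ(X, U) →ₐ[Γ(Y, V)] Γ(Spec (CommRingCat.of (A ⧸ I)), thick I ⁻¹ᵁ W) :=
    ⟨(a.appLE U (thick I ⁻¹ᵁ W) hW'U).hom, fun r => by
      simp [RingHom.algebraMap_toAlgebra, ← CategoryTheory.comp_apply, -CommRingCat.hom_comp,
        Scheme.Hom.appLE_comp_appLE, -Scheme.Hom.comp_appLE]⟩
  let ι : Γ(Spec (CommRingCat.of A), W) →ₐ[Γ(Y, V)]
      Γ(Spec (CommRingCat.of (A ⧸ I)), thick I ⁻¹ᵁ W) :=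
    ⟨((thick I).app W).hom, fun r => by
      simp [RingHom.algebraMap_toAlgebra, ← CategoryTheory.comp_apply, -CommRingCat.hom_comp,
        Scheme.Hom.app_eq_appLE, Scheme.Hom.appLE_comp_appLE, hcomm, -Scheme.Hom.comp_appLE]⟩
  have hιs : Function.Surjective ι := (thick I).app_surjective W hW
  have hιn : IsNilpotent (RingHom.ker (ι : Γ(Spec (CommRingCat.of A), W) →+*
      Γ(Spec (CommRingCat.of (A ⧸ I)), thick I ⁻¹ᵁ W))) := ⟨2, ker_app_sq I hI W hW⟩
  let ψ := Algebra.FormallySmooth.liftOfSurjective α ι hιs hιn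
  have hψ : ι.comp ψ = α := Algebra.FormallySmooth.comp_liftOfSurjective α ι hιs hιn
  have hψ1 : f.appLE V U hUV ≫ CommRingCat.ofHom ψ.toRingHom = b.appLE V W hWV :=
    CommRingCat.hom_ext ψ.comp_algebraMap
  have hψ2 : CommRingCat.ofHom ψ.toRingHom ≫ (thick I).appLE W (thick I ⁻¹ᵁ W) le_rfl =
      a.appLE U (thick I ⁻¹ᵁ W) hW'U := by
    rw [← Scheme.Hom.app_eq_appLE]
    exact CommRingCat.hom_ext congr(AlgHom.toRingHom $hψ)
  let l' : Spec Γ(Spec (CommRingCat.of A), W) ⟶ X :=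
    Spec.map (CommRingCat.ofHom ψ.toRingHom) ≫ hU.fromSpec
  have e3 : Spec.map ((thick I).appLE W (thick I ⁻¹ᵁ W) le_rfl) ≫ l' =
      hW'.fromSpec ≫ a := by
    have e3' : Spec.map ((thick I).appLE W (thick I ⁻¹ᵁ W) le_rfl) ≫
        Spec.map (CommRingCat.ofHom ψ.toRingHom) = Spec.map (a.appLE U (thick I ⁻¹ᵁ W) hW'U) :=
      (Spec.map_comp _ _).symm.trans (congrArg Spec.map hψ2)
    rw [← hU.SpecMap_appLE_fromSpec a hW' hW'U, ← e3', Category.assoc]
  have e4 : l' ≫ f = hW.fromSpec ≫ b := by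
    have e4' : Spec.map (CommRingCat.ofHom ψ.toRingHom) ≫ Spec.map (f.appLE V U hUV) =
        Spec.map (b.appLE V W hWV) :=
      (Spec.map_comp _ _).symm.trans (congrArg Spec.map hψ1)
    rw [← hV.SpecMap_appLE_fromSpec b hW hWV, ← e4', Category.assoc, Category.assoc,
      hV.SpecMap_appLE_fromSpec f hU hUV]
    rfl
  refine ⟨W, hW.isoSpec.hom ≫ l', htW, ?_, ?_⟩
  · intro Z' v r hvr
    have hr : Set.range r ⊆ Set.range (thick I ⁻¹ᵁ W).ι := by
      rintro _ ⟨z, rfl⟩
      rw [Scheme.Opens.range_ι]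
      change thick I (r z) ∈ W
      rw [← Scheme.Hom.comp_apply, ← hvr, Scheme.Hom.comp_apply]
      exact (v z).2
    let v' := IsOpenImmersion.lift (thick I ⁻¹ᵁ W).ι r hr
    have hv' : v' ≫ (thick I ⁻¹ᵁ W).ι = r := IsOpenImmersion.lift_fac _ _ _
    have key : v ≫ hW.isoSpec.hom =
        (v' ≫ hW'.isoSpec.hom) ≫ Spec.map ((thick I).appLE W (thick I ⁻¹ᵁ W) le_rfl) := by
      rw [← cancel_mono hW.fromSpec]
      simp only [Category.assoc, IsAffineOpen.isoSpec_hom_fromSpec]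
      rw [hW.SpecMap_appLE_fromSpec (thick I) hW' le_rfl,
        IsAffineOpen.isoSpec_hom_fromSpec_assoc, ← Category.assoc, hv', hvr]
    rw [← Category.assoc, key, Category.assoc, e3, Category.assoc,
      IsAffineOpen.isoSpec_hom_fromSpec_assoc, ← Category.assoc, hv']
  · rw [Category.assoc, e4, IsAffineOpen.isoSpec_hom_fromSpec_assoc]

end forward

open AlgebraicGeometry CategoryTheory Limits in
/-- A morphism f : X → S is étale if and only if it is locally of finite presentation and formally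
étale, i.e. has the unique lifting property against first order thickenings of affine schemes (rings
in the same universe). -/
theorem result {X S : Scheme.{u}} (f : X ⟶ S) :
    Etale f ↔ LocallyOfFinitePresentation f ∧ MoreMor.IsFormallyEtaleHom f := by
  constructor
  · intro hf
    refine ⟨inferInstance, ?_⟩
    intro A _ I hI a b hcomm
    obtain ⟨l, hl1, hl2⟩ := exists_lift_of_local f I a b hI
      (fun t => exists_localLift f I a b hI hcomm t)
    refine ⟨l, ⟨hl1, hl2⟩, ?_⟩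
    rintro l' ⟨hl1', hl2'⟩
    have := surjective_thick I hI
    exact hom_ext_of_surjective f (thick I) (hl1'.trans hl1.symm) (hl2'.trans hl2.symm)
  · rintro ⟨hfp, H⟩
    refine ⟨fun {U} hU {V} hV e => ?_⟩
    let := (f.appLE U V e).hom.toAlgebra
    exact { formallyEtale := formallyEtale_appLE f hU hV e H
            finitePresentation := f.finitePresentation_appLE hU hV e }

end Groth.Agent.S1489
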