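import Groth.Statements.S1516
import Mathlib.AlgebraicGeometry.IdealSheaf.Functorial
import Mathlib.AlgebraicGeometry.Morphisms.ClosedImmersion
import Mathlib.AlgebraicGeometry.Gluing

set_option autoImplicit false
universe u
open FlatMor

namespace Groth.Agent.S1516

open AlgebraicGeometry CategoryTheory Limits

section

variable {X S T T' : Scheme.{u}} (f : X ⟶ S) (t : T ⟶ T') (a : T ⟶ X) (b : T' ⟶ S)

/-- `l` solves the lifting problem restricted along `j : W ⟶ T'`. -/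
def IsLiftOn {W : Scheme.{u}} (j : W ⟶ T') (l : W ⟶ X) : Prop :=
  pullback.snd t j ≫ l = pullback.fst t j ≫ a ∧ l ≫ f = j ≫ b

variable {f t a b}

theorem IsLiftOn.precomp {W W₂ : Scheme.{u}} {j : W ⟶ T'} {l : W ⟶ X} (h : IsLiftOn f t a b j l)
    (g : W₂ ⟶ W) : IsLiftOn f t a b (g ≫ j) (g ≫ l) := by
  refine ⟨?_, by rw [Category.assoc, h.2, Category.assoc]⟩
  have e1 : pullback.snd t (g ≫ j) ≫ g =
      pullback.lift (pullback.fst t (g ≫ j)) (pullback.snd t (g ≫ j) ≫ g)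
        (by rw [pullback.condition, Category.assoc]) ≫ pullback.snd t j := by
    rw [pullback.lift_snd]
  have e2 : pullback.fst t (g ≫ j) =
      pullback.lift (pullback.fst t (g ≫ j)) (pullback.snd t (g ≫ j) ≫ g)
        (by rw [pullback.condition, Category.assoc]) ≫ pullback.fst t j := by
    rw [pullback.lift_fst]
  rw [← Category.assoc, e1, Category.assoc, h.1, ← Category.assoc, ← e2]

theorem sq_zero_of_thickening (ht : MoreMor.IsFirstOrderThickening t) (A : Type u) [CommRing A]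
    (j : Spec (CommRingCat.of A) ⟶ T') [IsOpenImmersion j] (I : Ideal A)
    (e : pullback t j ≅ Spec (CommRingCat.of (A ⧸ I)))
    (he : pullback.snd t j = e.hom ≫ Spec.map (CommRingCat.ofHom (Ideal.Quotient.mk I))) :
    I ^ 2 = ⊥ := by
  have hcl : IsClosedImmersion t := ht.1.1
  have hK : t.ker * t.ker = ⊥ := ht.2
  let W : (Spec (CommRingCat.of A)).affineOpens := ⟨⊤, isAffineOpen_top _⟩
  have hker := Scheme.ker_ideal_of_isPullback_of_isOpenImmersion t (pullback.snd t j)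
    (pullback.fst t j) j (IsPullback.of_hasPullback t j).flip W
  have key : ∀ x ∈ I, (j.appIso W.1).inv.hom ((Scheme.ΓSpecIso (CommRingCat.of A)).inv.hom x) ∈
      t.ker.ideal ⟨j ''ᵁ W.1, W.2.image_of_isOpenImmersion _⟩ := by
    intro x hx
    have h1 : (Scheme.ΓSpecIso (CommRingCat.of A)).inv.hom x ∈ (pullback.snd t j).ker.ideal W := by
      rw [Scheme.Hom.ker_apply, RingHom.mem_ker, he]
      have h2 : ((Spec.map (CommRingCat.ofHom (Ideal.Quotient.mk I))).appTop).hom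
          ((Scheme.ΓSpecIso (CommRingCat.of A)).inv.hom x) = 0 := by
        have := Scheme.ΓSpecIso_inv_naturality (CommRingCat.ofHom (Ideal.Quotient.mk I))
        have h3 := congrArg (fun φ => φ.hom x) this
        simp only [CommRingCat.hom_comp, RingHom.coe_comp, Function.comp_apply] at h3
        change _ = ((Spec.map (CommRingCat.ofHom (Ideal.Quotient.mk I))).appTop).hom _ at h3
        rw [← h3]
        have : (CommRingCat.ofHom (Ideal.Quotient.mk I)).hom x = 0 :=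
          Ideal.Quotient.eq_zero_iff_mem.2 hx
        rw [this, map_zero]
      change ((e.hom ≫ Spec.map (CommRingCat.ofHom (Ideal.Quotient.mk I))).appTop).hom _ = 0
      rw [Scheme.Hom.comp_appTop, CommRingCat.hom_comp, RingHom.comp_apply]
      rw [h2, map_zero]
    rw [hker] at h1
    exact h1
  rw [sq, ← le_bot_iff, Ideal.mul_le]
  intro x hx y hy
  have hx' := key x hx
  have hy' := key y hy
  have hxy : _ ∈ (t.ker * t.ker).ideal ⟨j ''ᵁ W.1, W.2.image_of_isOpenImmersion _⟩ :=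
    Ideal.mul_mem_mul hx' hy'
  rw [hK] at hxy
  simp only [Scheme.IdealSheafData.ideal_bot, Pi.bot_apply, Ideal.mem_bot] at hxy
  rw [← map_mul, ← map_mul] at hxy
  have inj1 : Function.Injective (j.appIso W.1).inv.hom :=
    (ConcreteCategory.bijective_of_isIso (j.appIso W.1).inv).1
  have inj2 : Function.Injective (Scheme.ΓSpecIso (CommRingCat.of A)).inv.hom :=
    (ConcreteCategory.bijective_of_isIso (Scheme.ΓSpecIso (CommRingCat.of A)).inv).1
  have h0 : x * y = 0 := by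
    apply inj2
    apply inj1
    rw [hxy, map_zero, map_zero]
  rw [Ideal.mem_bot]
  exact h0

theorem existsUnique_affine (hf : MoreMor.IsFormallyEtaleHom f)
    (ht : MoreMor.IsFirstOrderThickening t) (w : t ≫ b = a ≫ f) (A : Type u) [CommRing A]
    (j : Spec (CommRingCat.of A) ⟶ T') [IsOpenImmersion j] :
    ∃! l : Spec (CommRingCat.of A) ⟶ X, IsLiftOn f t a b j l := by
  have hcl : IsClosedImmersion t := ht.1.1
  have hcl2 : IsClosedImmersion (pullback.snd t j) := inferInstance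
  obtain ⟨I, e, he⟩ := IsClosedImmersion.Spec_iff.mp hcl2
  have hI : I ^ 2 = ⊥ := sq_zero_of_thickening ht A j I e he
  have comm : Spec.map (CommRingCat.ofHom (Ideal.Quotient.mk I)) ≫ (j ≫ b) =
      (e.inv ≫ pullback.fst t j ≫ a) ≫ f := by
    have : Spec.map (CommRingCat.ofHom (Ideal.Quotient.mk I)) = e.inv ≫ pullback.snd t j := by
      rw [he, Iso.inv_hom_id_assoc]
    rw [this, Category.assoc, Category.assoc, Category.assoc, ← w, ← pullback.condition_assoc]
  obtain ⟨l, ⟨hl1, hl2⟩, hl3⟩ := hf A I hI (e.inv ≫ pullback.fst t j ≫ a) (j ≫ b) comm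
  refine ⟨l, ⟨?_, hl2⟩, fun l' hl' => hl3 l' ⟨?_, hl'.2⟩⟩
  · rw [he, Category.assoc, hl1, Iso.hom_inv_id_assoc]
  · have := hl'.1
    rw [he, Category.assoc] at this
    rw [← this, Iso.inv_hom_id_assoc]

theorem existsUnique_affine' (hf : MoreMor.IsFormallyEtaleHom f)
    (ht : MoreMor.IsFirstOrderThickening t) (w : t ≫ b = a ≫ f) (R : CommRingCat.{u})
    (j : Spec R ⟶ T') [IsOpenImmersion j] :
    ∃! l : Spec R ⟶ X, IsLiftOn f t a b j l :=
  existsUnique_affine hf ht w R j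

end

/-- Let f : X → S be formally étale (unique infinitesimal lifting against first order thickenings of
affine schemes). Then for every first order thickening t : T → T' of schemes and every commutative
square with T → X on top and T' → S at the bottom there is exactly one lift T' → X. -/
theorem result {X S : Scheme.{u}} (f : X ⟶ S) (hf : MoreMor.IsFormallyEtaleHom f)
    {T T' : Scheme.{u}} (t : T ⟶ T') (ht : MoreMor.IsFirstOrderThickening t) (a : T ⟶ X) (b : T' ⟶ S) (w : t ≫ b = a ≫ f) :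
    ∃! l : T' ⟶ X, t ≫ l = a ∧ l ≫ f = b := by
  have hcl : IsClosedImmersion t := ht.1.1
  let 𝒜 : T'.AffineOpenCover := T'.affineOpenCover
  let 𝒰 : T'.OpenCover := 𝒜.openCover
  have hex : ∀ i : 𝒜.I₀, ∃! l : Spec (𝒜.X i) ⟶ X, IsLiftOn f t a b (𝒜.f i) l :=
    fun i => existsUnique_affine' hf ht w (𝒜.X i) (𝒜.f i)
  choose l hl hluniq using hex
  have hcompat : ∀ i k : 𝒜.I₀,
      pullback.fst (𝒜.f i) (𝒜.f k) ≫ l i = pullback.snd (𝒜.f i) (𝒜.f k) ≫ l k := by
    intro i k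
    let ℬ : (pullback (𝒜.f i) (𝒜.f k)).AffineOpenCover :=
      (pullback (𝒜.f i) (𝒜.f k)).affineOpenCover
    refine ℬ.openCover.hom_ext _ _ fun (m : ℬ.I₀) => ?_
    change ℬ.f m ≫ pullback.fst (𝒜.f i) (𝒜.f k) ≫ l i =
      ℬ.f m ≫ pullback.snd (𝒜.f i) (𝒜.f k) ≫ l k
    have h1 := ((hl i).precomp (ℬ.f m ≫ pullback.fst (𝒜.f i) (𝒜.f k)))
    have h2 := ((hl k).precomp (ℬ.f m ≫ pullback.snd (𝒜.f i) (𝒜.f k)))
    have hjk : (ℬ.f m ≫ pullback.fst (𝒜.f i) (𝒜.f k)) ≫ 𝒜.f i =
        (ℬ.f m ≫ pullback.snd (𝒜.f i) (𝒜.f k)) ≫ 𝒜.f k := by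
      simp only [Category.assoc, pullback.condition]
    rw [hjk] at h1
    have hopen : IsOpenImmersion ((ℬ.f m ≫ pullback.snd (𝒜.f i) (𝒜.f k)) ≫ 𝒜.f k) :=
      inferInstance
    obtain ⟨l₀, _, hl₀⟩ := existsUnique_affine' hf ht w (ℬ.X m)
      ((ℬ.f m ≫ pullback.snd (𝒜.f i) (𝒜.f k)) ≫ 𝒜.f k)
    rw [← Category.assoc, ← Category.assoc, hl₀ _ h1, hl₀ _ h2]
  let L : T' ⟶ X := 𝒰.glueMorphisms l hcompat
  have hL : ∀ i, 𝒜.f i ≫ L = l i := fun i => 𝒰.ι_glueMorphisms l hcompat i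
  refine ⟨L, ⟨?_, ?_⟩, fun L' hL' => ?_⟩
  · refine Scheme.Cover.hom_ext (𝒰.pullback₁ t) _ _ fun i => ?_
    change pullback.fst t (𝒜.f i) ≫ t ≫ L = pullback.fst t (𝒜.f i) ≫ a
    rw [pullback.condition_assoc, hL, (hl i).1]
  · refine 𝒰.hom_ext _ _ fun i => ?_
    change 𝒜.f i ≫ L ≫ f = 𝒜.f i ≫ b
    rw [← Category.assoc, hL, (hl i).2]
  · refine 𝒰.hom_ext _ _ fun i => ?_
    change 𝒜.f i ≫ L' = 𝒜.f i ≫ L
    rw [hL]
    refine hluniq i _ ⟨?_, ?_⟩
    · rw [← pullback.condition_assoc, hL'.1]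
    · rw [Category.assoc, hL'.2]

end Groth.Agent.S1516
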