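import Groth.Statements.S9740
import Groth.Agent.Lib.H4FirstOrderBC
-- import your own Groth.Agent.* helpers here

set_option autoImplicit false
universe u
open OmegaSh

namespace Groth.Agent.S9740

set_option backward.isDefEq.respectTransparency false in
open AlgebraicGeometry CategoryTheory Limits in
/-- Let h : Z ⟶ X be formally unramified with universal first order thickening (i : Z ⟶ Z', h' : Z' ⟶
X), let V ⊆ Z and U ⊆ X be opens with h(V) ⊆ U, and let V' ⊆ Z' be the open with i⁻¹(V') = V (so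
h'(V') ⊆ U). Then the restricted pair (V ⟶ V', V' ⟶ U) is a universal first-order thickening for the
restriction V ⟶ U of h. The published statement also asserts that this restriction is formally
unramified and that the conormal sheaf of Z over X restricts on V to that of V over U; this row
states only the thickening part. -/
theorem result {Z Z' X : Scheme.{u}} (h : Z ⟶ X) [FormallyUnramified h] (i : Z ⟶ Z') (h' : Z' ⟶ X)
    (hu : OmegaSh.IsUnivThickening h i h') (V : Z.Opens) (U : X.Opens) (hVU : V ≤ h ⁻¹ᵁ U)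
    (V' : Z'.Opens) (hV' : i ⁻¹ᵁ V' = V) (hV'U : V' ≤ h' ⁻¹ᵁ U) :
    OmegaSh.IsUnivThickening (h.resLE U V hVU) (i.resLE V' V hV'.ge) (h'.resLE U V' hV'U) := by
  obtain ⟨hi, hih', huniv⟩ := hu
  subst hV'
  refine ⟨?_, ?_, ?_⟩
  · have hpb : IsPullback (i.resLE V' (i ⁻¹ᵁ V') le_rfl) (i ⁻¹ᵁ V').ι V'.ι i := by
      rw [Scheme.Hom.resLE_eq_morphismRestrict]
      exact isPullback_morphismRestrict i V'
    exact Groth.Agent.Lib.H4FirstOrderBC.isFirstOrderThickening_of_isPullback hpb hi
  · rw [Scheme.Hom.resLE_comp_resLE]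
    subst hih'
    rfl
  · intro T T' j b a hj hw
    have hw' : j ≫ (b ≫ U.ι) = (a ≫ (i ⁻¹ᵁ V').ι) ≫ h := by
      rw [← Category.assoc, hw, Category.assoc, Category.assoc, Scheme.Hom.resLE_comp_ι]
    obtain ⟨c, ⟨hc1, hc2⟩, hcu⟩ := huniv T T' j (b ≫ U.ι) (a ≫ (i ⁻¹ᵁ V').ι) hj hw'
    have hjs : Function.Surjective j := hj.1.2.surj
    have hrange : Set.range c ⊆ Set.range V'.ι := by
      rintro _ ⟨t', rfl⟩
      obtain ⟨t, rfl⟩ := hjs t'
      have h3 : c (j t) = i ((i ⁻¹ᵁ V').ι (a t)) := by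
        have := congrArg (fun φ : T ⟶ Z' => φ t) hc1
        simpa using this
      rw [h3, Scheme.Opens.range_ι]
      exact (a t).2
    refine ⟨IsOpenImmersion.lift V'.ι c hrange, ⟨?_, ?_⟩, ?_⟩
    · rw [← cancel_mono V'.ι]
      simp [hc1]
    · rw [← cancel_mono U.ι]
      simp [hc2]
    · rintro a'' ⟨h1, h2⟩
      rw [← cancel_mono V'.ι, IsOpenImmersion.lift_fac]
      apply hcu
      constructor
      · rw [← Category.assoc, h1]; simp
      · rw [Category.assoc, ← Scheme.Hom.resLE_comp_ι h' hV'U, ← Category.assoc, h2]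

end Groth.Agent.S9740
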