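import Groth.Statements.S9732
import Groth.Agent.Lib.H4FirstOrderBC
import Groth.Agent.S9740
-- import your own Groth.Agent.* helpers here

set_option autoImplicit false
universe u
open OmegaSh

namespace Groth.Agent.S9732

open AlgebraicGeometry CategoryTheory Limits in
/-- Affine case: if `Z'` and `X` are affine and `(i, h')` is a universal first order thickening of
`h`, then the ring map of `h'` on global sections is formally unramified. -/
theorem appTop_formallyUnramified {Z Z' X : Scheme.{u}} [IsAffine Z'] [IsAffine X]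
    (h : Z ⟶ X) (i : Z ⟶ Z') (h' : Z' ⟶ X) (hu : OmegaSh.IsUnivThickening h i h') :
    h'.appTop.hom.FormallyUnramified := by
  obtain ⟨hi, hih', huniv⟩ := hu
  have hcl : IsClosedImmersion i := hi.1.1
  have hZ : IsAffine Z := isAffine_of_isAffineHom i
  have hπs : Function.Surjective i.appTop.hom :=
    (IsClosedImmersion.isAffine_surjective_of_isAffine i).2
  have hJJ : RingHom.ker i.appTop.hom * RingHom.ker i.appTop.hom = ⊥ :=
    (Groth.Agent.Lib.H4FirstOrderBC.ker_mul_ker_eq_bot_iff_of_isAffine i).mp hi.2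
  algebraize [h'.appTop.hom]
  rw [RingHom.FormallyUnramified, Algebra.FormallyUnramified.iff_comp_injective]
  intro C _ _ I hI g₁ g₂ hg
  let N : Ideal C := Ideal.span (Set.range fun b => g₁ b - g₂ b)
  let K : Ideal C := Ideal.map g₁.toRingHom (RingHom.ker i.appTop.hom)
  have hNI : N ≤ I := by
    refine Ideal.span_le.mpr ?_
    rintro _ ⟨b, rfl⟩
    have := AlgHom.congr_fun hg b
    simp only [AlgHom.comp_apply, Ideal.Quotient.mkₐ_eq_mk] at this
    exact (Ideal.Quotient.eq).mp this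
  have hNN : N * N = ⊥ := by
    refine le_bot_iff.mp ?_
    calc N * N ≤ I * I := Ideal.mul_mono hNI hNI
      _ = ⊥ := by rw [← pow_two, hI]
  have hKK : K * K = ⊥ := by
    change Ideal.map _ _ * Ideal.map _ _ = ⊥
    rw [← Ideal.map_mul, hJJ, Ideal.map_bot]
  let q : C →+* C ⧸ (K * N) := Ideal.Quotient.mk (K * N)
  let 𝔞 : Ideal (C ⧸ (K * N)) := Ideal.map q (K ⊔ N)
  have h𝔞 : ∀ x y, (Ideal.Quotient.mk 𝔞) x = 0 → (Ideal.Quotient.mk 𝔞) y = 0 → x * y = 0 := by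
    intro x y hx hy
    rw [Ideal.Quotient.eq_zero_iff_mem] at hx hy
    have h1 : x * y ∈ 𝔞 * 𝔞 := Ideal.mul_mem_mul hx hy
    have h2 : 𝔞 * 𝔞 = ⊥ := by
      change Ideal.map q _ * Ideal.map q _ = ⊥
      rw [← Ideal.map_mul]
      have h3 : (K ⊔ N) * (K ⊔ N) ≤ K * N := by
        rw [Ideal.sup_mul, Ideal.mul_sup, Ideal.mul_sup, hKK, hNN, mul_comm N K]
        simp
      refine le_bot_iff.mp ?_
      calc Ideal.map q ((K ⊔ N) * (K ⊔ N)) ≤ Ideal.map q (K * N) := Ideal.map_mono h3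
        _ = ⊥ := by rw [Ideal.map_quotient_self]
    rw [h2] at h1
    exact h1
  let jφ : CommRingCat.of (C ⧸ (K * N)) ⟶ CommRingCat.of ((C ⧸ (K * N)) ⧸ 𝔞) :=
    CommRingCat.ofHom (Ideal.Quotient.mk 𝔞)
  have hj : MoreMor.IsFirstOrderThickening (Spec.map jφ) :=
    Groth.Agent.Lib.H4FirstOrderBC.isFirstOrderThickening_SpecMap jφ
      Ideal.Quotient.mk_surjective h𝔞
  let γ₁ : Γ(Z', ⊤) ⟶ CommRingCat.of (C ⧸ (K * N)) := CommRingCat.ofHom (q.comp g₁.toRingHom)
  let γ₂ : Γ(Z', ⊤) ⟶ CommRingCat.of (C ⧸ (K * N)) := CommRingCat.ofHom (q.comp g₂.toRingHom)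
  have hker : RingHom.ker i.appTop.hom ≤
      RingHom.ker ((Ideal.Quotient.mk 𝔞).comp (q.comp g₁.toRingHom)) := by
    intro x hx
    rw [RingHom.mem_ker, RingHom.comp_apply, Ideal.Quotient.eq_zero_iff_mem]
    exact Ideal.mem_map_of_mem q (Ideal.mem_sup_left (Ideal.mem_map_of_mem _ hx))
  let ā : Γ(Z, ⊤) →+* (C ⧸ (K * N)) ⧸ 𝔞 :=
    (i.appTop.hom.liftOfSurjective hπs) ⟨(Ideal.Quotient.mk 𝔞).comp (q.comp g₁.toRingHom), hker⟩
  have hā : ∀ x, ā (i.appTop.hom x) = (Ideal.Quotient.mk 𝔞) (q (g₁ x)) := fun x =>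
    RingHom.liftOfSurjective_comp_apply _ hπs _ x
  have h12 : ∀ x, (Ideal.Quotient.mk 𝔞) (q (g₂ x)) = (Ideal.Quotient.mk 𝔞) (q (g₁ x)) := by
    intro x
    rw [eq_comm, Ideal.Quotient.eq, ← map_sub]
    exact Ideal.mem_map_of_mem q (Ideal.mem_sup_right (Ideal.subset_span ⟨x, rfl⟩))
  let α : Spec (CommRingCat.of ((C ⧸ (K * N)) ⧸ 𝔞)) ⟶ Z :=
    Spec.map (CommRingCat.ofHom ā) ≫ Z.isoSpec.inv
  let a₁ : Spec (CommRingCat.of (C ⧸ (K * N))) ⟶ Z' := Spec.map γ₁ ≫ Z'.isoSpec.inv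
  let a₂ : Spec (CommRingCat.of (C ⧸ (K * N))) ⟶ Z' := Spec.map γ₂ ≫ Z'.isoSpec.inv
  have e1 : Spec.map jφ ≫ a₁ = α ≫ i := by
    simp only [a₁, α, Category.assoc]
    rw [← Scheme.isoSpec_inv_naturality i, ← Spec.map_comp_assoc, ← Spec.map_comp_assoc]
    congr 2
    ext x
    exact (hā x).symm
  have e2 : Spec.map jφ ≫ a₂ = α ≫ i := by
    simp only [a₂, α, Category.assoc]
    rw [← Scheme.isoSpec_inv_naturality i, ← Spec.map_comp_assoc, ← Spec.map_comp_assoc]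
    congr 2
    ext x
    exact (h12 x).trans (hā x).symm
  have e3 : a₂ ≫ h' = a₁ ≫ h' := by
    simp only [a₁, a₂, Category.assoc]
    rw [← Scheme.isoSpec_inv_naturality h', ← Spec.map_comp_assoc, ← Spec.map_comp_assoc]
    congr 2
    ext x
    change q (g₂ (algebraMap _ _ x)) = q (g₁ (algebraMap _ _ x))
    rw [AlgHom.commutes, AlgHom.commutes]
  have hw : Spec.map jφ ≫ (a₁ ≫ h') = α ≫ h := by
    rw [← hih', ← Category.assoc, e1, Category.assoc]
  obtain ⟨a', _, huq⟩ := huniv _ _ (Spec.map jφ) (a₁ ≫ h') α hj hw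
  have h12' : a₁ = a₂ := (huq a₁ ⟨e1, rfl⟩).trans (huq a₂ ⟨e2, e3⟩).symm
  have hγ : γ₁ = γ₂ := by
    have := (cancel_mono Z'.isoSpec.inv).mp h12'
    exact Spec.map_injective this
  have hN𝔠 : N ≤ K * N := by
    refine Ideal.span_le.mpr ?_
    rintro _ ⟨b, rfl⟩
    have := congrArg (fun ψ => ψ.hom b) hγ
    exact (Ideal.Quotient.eq).mp this
  have hN0 : N = ⊥ := by
    have h4 : N ≤ K * (K * N) := hN𝔠.trans (Ideal.mul_mono_right hN𝔠)
    rw [← mul_assoc, hKK, Ideal.bot_mul] at h4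
    exact le_bot_iff.mp h4
  ext b
  have hb : g₁ b - g₂ b ∈ N := Ideal.subset_span ⟨b, rfl⟩
  rw [hN0, Ideal.mem_bot, sub_eq_zero] at hb
  exact hb

open AlgebraicGeometry CategoryTheory Limits in
/-- Let h : Z ⟶ X be formally unramified and let (i : Z ⟶ Z', h' : Z' ⟶ X) be a universal first order
thickening of Z over X. Then h' is formally unramified. -/
theorem result {Z Z' X : Scheme.{u}} (h : Z ⟶ X) [FormallyUnramified h]
    (i : Z ⟶ Z') (h' : Z' ⟶ X) (hu : OmegaSh.IsUnivThickening h i h') : FormallyUnramified h' := by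
  refine ⟨fun {U} hU {V'} hV' e => ?_⟩
  have hVU : i ⁻¹ᵁ V' ≤ h ⁻¹ᵁ U := by
    rw [← hu.2.1, Scheme.Hom.comp_preimage]
    exact i.preimage_mono e
  have hres := Groth.Agent.S9740.result h i h' hu (i ⁻¹ᵁ V') U hVU V' rfl e
  have : IsAffine ↑V' := hV'
  have : IsAffine ↑U := hU
  have h1 := appTop_formallyUnramified _ _ _ hres
  rw [Scheme.Hom.appTop, Scheme.Hom.resLE_app_top] at h1
  simp only [CommRingCat.hom_comp] at h1
  have hP := RingHom.FormallyUnramified.respectsIso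
  have h2 := (hP.cancel_left_isIso U.topIso.hom (h'.appLE U V' e ≫ V'.topIso.inv)).mp h1
  exact (hP.cancel_right_isIso (h'.appLE U V' e) V'.topIso.inv).mp h2

end Groth.Agent.S9732
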