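import Groth.Statements.S9426
import Groth.Agent.Lib.UnivThick
import Groth.Agent.Lib.ExalSqZero

set_option autoImplicit false
universe u
open OmegaSh

namespace Groth.Agent.S9426

/-- A formally unramified R-algebra S admits a universal first order thickening: an R-algebra surjection
S' → S with square-zero kernel through which every R-algebra map from S into a square-zero quotient
A/I lifts uniquely to A. -/
theorem result (R : Type u) [CommRing R]
    (S : Type u) [CommRing S] [Algebra R S] [Algebra.FormallyUnramified R S] :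
    ∃ (S' : Type u) (_ : CommRing S') (_ : Algebra R S') (π : S' →ₐ[R] S),
      OmegaSh.IsUnivThickeningRing R S S' π := by
  classical
  refine ⟨Groth.Agent.Lib.UnivThick.S' R S, inferInstance, inferInstance,
    Groth.Agent.Lib.UnivThick.proj R S, Groth.Agent.Lib.UnivThick.proj_surjective R S,
    Groth.Agent.Lib.UnivThick.ker_proj_sq R S, ?_⟩
  intro A _ _ I hI a
  -- the fibre product `A ×_{A/I} S`
  let F : Subalgebra R (A × S) :=
    AlgHom.equalizer ((Ideal.Quotient.mkₐ R I).comp (AlgHom.fst R A S)) (a.comp (AlgHom.snd R A S))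
  have hF : ∀ x : F, Ideal.Quotient.mk I (x : A × S).1 = a (x : A × S).2 := fun x => x.2
  let p : F →ₐ[R] S := (AlgHom.snd R A S).comp F.val
  have hp : Function.Surjective p := by
    intro s
    obtain ⟨x, hx⟩ := Ideal.Quotient.mk_surjective (a s)
    exact ⟨⟨(x, s), hx⟩, rfl⟩
  have hK : ∀ x y : F, p x = 0 → p y = 0 → x * y = 0 := by
    intro x y hx hy
    have hx1 : (x : A × S).1 ∈ I := by
      rw [← Ideal.Quotient.eq_zero_iff_mem, hF x]
      change a (p x) = 0
      rw [hx, map_zero]
    have hy1 : (y : A × S).1 ∈ I := by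
      rw [← Ideal.Quotient.eq_zero_iff_mem, hF y]
      change a (p y) = 0
      rw [hy, map_zero]
    apply Subtype.ext
    refine Prod.ext ?_ ?_
    · change (x : A × S).1 * (y : A × S).1 = 0
      have : (x : A × S).1 * (y : A × S).1 ∈ I ^ 2 := by
        rw [pow_two]; exact Ideal.mul_mem_mul hx1 hy1
      rwa [hI] at this
    · change p x * p y = 0
      rw [hx, zero_mul]
  let modS : Module S (RingHom.ker p) := Groth.Agent.Lib.ExalSqZero.kerModule p hp hK
  let X : Exal.Ext R S (RingHom.ker p) := Groth.Agent.Lib.ExalSqZero.ofSqZero p hp hK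
  let modP : Module (Groth.Agent.Lib.UnivThick.E R S).Ring (RingHom.ker p) :=
    Module.compHom _ (algebraMap (Groth.Agent.Lib.UnivThick.E R S).Ring S)
  have towP : IsScalarTower (Groth.Agent.Lib.UnivThick.E R S).Ring S (RingHom.ker p) :=
    IsScalarTower.of_algebraMap_smul fun _ _ => rfl
  have towR : IsScalarTower R S (RingHom.ker p) :=
    IsScalarTower.of_algebraMap_smul fun r z => by
      apply Subtype.ext
      have h1 := Groth.Agent.Lib.ExalSqZero.kerModule_smul_coe p hp hK (algebraMap R F r) z
      rw [p.commutes] at h1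
      rw [h1]
      change _ = r • (z : F)
      rw [Algebra.smul_def]
  have towRP : IsScalarTower R (Groth.Agent.Lib.UnivThick.E R S).Ring (RingHom.ker p) :=
    IsScalarTower.of_algebraMap_smul fun r m => by
      change algebraMap (Groth.Agent.Lib.UnivThick.E R S).Ring S
        (algebraMap R (Groth.Agent.Lib.UnivThick.E R S).Ring r) • m = r • m
      rw [← IsScalarTower.algebraMap_apply, algebraMap_smul]
  obtain ⟨b, hb, hbuniq⟩ := Groth.Agent.Lib.UnivThick.existsUnique_lift R S X
  let bF : Groth.Agent.Lib.UnivThick.S' R S →ₐ[R] F := b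
  have hb' : ∀ t, p (bF t) = Groth.Agent.Lib.UnivThick.proj R S t := hb
  refine ⟨(AlgHom.fst R A S).comp (F.val.comp bF), ?_, ?_⟩
  · apply AlgHom.ext
    intro t
    change Ideal.Quotient.mk I ((bF t : F) : A × S).1 = a (Groth.Agent.Lib.UnivThick.proj R S t)
    rw [hF, ← hb' t]
    rfl
  · intro a'' ha''
    have hmem : ∀ t, (AlgHom.prod a'' (Groth.Agent.Lib.UnivThick.proj R S)) t ∈ F := by
      intro t
      change Ideal.Quotient.mk I (a'' t) = a (Groth.Agent.Lib.UnivThick.proj R S t)
      exact congrArg (fun f => f t) ha''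
    let b'' : Groth.Agent.Lib.UnivThick.S' R S →ₐ[R] F :=
      (AlgHom.prod a'' (Groth.Agent.Lib.UnivThick.proj R S)).codRestrict F hmem
    have hb'' : b'' = bF := hbuniq b'' (fun t => rfl)
    apply AlgHom.ext
    intro t
    have := congrArg (fun f : Groth.Agent.Lib.UnivThick.S' R S →ₐ[R] F => ((f t : F) : A × S).1) hb''
    exact this

end Groth.Agent.S9426
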