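import Groth.Statements.S9731
import Groth.Agent.S9426
import Groth.Agent.Lib.UnivThickAffine24
import Groth.Agent.Lib.UnivThickGlue24

set_option autoImplicit false
universe u
open OmegaSh

namespace Groth.Agent.S9731

open AlgebraicGeometry CategoryTheory Limits in
/-- A formally unramified morphism h : Z ⟶ X admits a universal first order thickening: a first order
thickening i : Z ⟶ Z' with h' : Z' ⟶ X, i ≫ h' = h, such that for every first order thickening j : T
⟶ T' with b : T' ⟶ X and every a : T ⟶ Z with j ≫ b = a ≫ h there is exactly one a' : T' ⟶ Z' with j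
≫ a' = a ≫ i and a' ≫ h' = b. -/
theorem result {Z X : Scheme.{u}} (h : Z ⟶ X) [FormallyUnramified h] :
    ∃ (Z' : Scheme.{u}) (i : Z ⟶ Z') (h' : Z' ⟶ X), OmegaSh.IsUnivThickening h i h' := by
  classical
  let B : Set Z.Opens := {V | IsAffineOpen V ∧ ∃ U : X.Opens, IsAffineOpen U ∧ V ≤ h ⁻¹ᵁ U}
  have hB : TopologicalSpace.Opens.IsBasis B := by
    rw [TopologicalSpace.Opens.isBasis_iff_nbhd]
    intro O z hz
    obtain ⟨_, ⟨U, hU, rfl⟩, hzU, -⟩ :=
      X.isBasis_affineOpens.exists_subset_of_mem_open (Set.mem_univ (h z)) isOpen_univ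
    obtain ⟨_, ⟨V, hV, rfl⟩, hzV, hVO⟩ :=
      Z.isBasis_affineOpens.exists_subset_of_mem_open
        (show z ∈ ((O ⊓ h ⁻¹ᵁ U : Z.Opens) : Set Z) from ⟨hz, hzU⟩) (O ⊓ h ⁻¹ᵁ U).isOpen
    exact ⟨V, ⟨hV, U, hU, fun x hx => (hVO hx).2⟩, hzV, fun x hx => (hVO hx).1⟩
  apply Groth.Agent.Lib.UnivThickGlue24.exists_isUnivThickening_of_basis h B hB
  rintro V ⟨hV, U, hU, hVU⟩
  letI : Algebra Γ(X, U) Γ(Z, V) := (h.appLE U V hVU).hom.toAlgebra
  haveI : Algebra.FormallyUnramified Γ(X, U) Γ(Z, V) := h.formallyUnramified_appLE hU hV hVU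
  obtain ⟨B', _, _, π, hπ⟩ := Groth.Agent.S9426.result Γ(X, U) Γ(Z, V)
  have key := Groth.Agent.Lib.UnivThickAffine24.isUnivThickening_Spec Γ(X, U) Γ(Z, V) B' π hπ
  have key2 := Groth.Agent.Lib.UnivThickLocal24.isUnivThickening_comp_openImmersion _ _ _ key
    hU.fromSpec
  have key3 := Groth.Agent.Lib.UnivThickLocal24.isUnivThickening_iso_comp _ _ _ key2 hV.isoSpec
  have e : V.ι ≫ h = hV.isoSpec.hom ≫ Spec.map (h.appLE U V hVU) ≫ hU.fromSpec := by
    rw [IsAffineOpen.SpecMap_appLE_fromSpec h hU hV hVU, ← Category.assoc,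
      IsAffineOpen.isoSpec_hom_fromSpec]
  rw [e]
  exact ⟨_, _, _, key3⟩

end Groth.Agent.S9731
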