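import Groth.Statements.S9869
import Groth.Agent.Lib.H69QuotPres

set_option autoImplicit false
universe u
open CategoryTheory CategoryTheory.Limits AlgebraicGeometry
open AlgSp

namespace Groth.Agent.S9869

/-- Let `s, t : R ⟶ U` be an etale equivalence relation on a scheme `U` over `S` and suppose that the
fppf quotient sheaf `U/R` is an algebraic space over `S`. Then the quotient map `h_U ⟶ U/R` is
representable etale and representable surjective, and `(U, R, h_U ⟶ U/R)` is a presentation of `U/R`
(in particular `h_R`, with `h_t` and `h_s`, is the fibre product `h_U ×_{U/R} h_U`). The quotient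
map is written on `h_U` through the canonical identification of `h_U` with the sheafified
representable presheaf. -/
theorem result (S : Scheme.{u}) {R U : Over S} (s t : R ⟶ U)
    (h : AlgSp.IsEtaleEqvRel s t) (hq : AlgSp.IsAlgSpace (QuotSh.quot Scheme.fppfPrecoverage s t)) :
    AlgSp.IsPresentation s t
      ((QuotSh.repIsoUliftYoneda Scheme.fppfPrecoverage U).inv ≫ QuotSh.quotπ Scheme.fppfPrecoverage s t) := by
  have sq := Groth.Agent.Lib.H69QuotPres.isPullback_quotMap h.toIsEqvRel
  have hrep : AlgSp.Representable (Groth.Agent.Lib.H69QuotPres.quotMap s t) := hq.representable_from_yon _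
  have hsurj : Sheaf.IsLocallySurjective (Groth.Agent.Lib.H69QuotPres.quotMap s t) :=
    (Sheaf.isLocallySurjective_iff_epi _).2 inferInstance
  have hs_et : Etale s.left := h.etale_left
  have hs_surj : Surjective s.left := by
    obtain ⟨e, -, he2⟩ := (h.equivalence U).refl (𝟙 U)
    constructor
    intro x
    refine ⟨e.left x, ?_⟩
    rw [← Scheme.Hom.comp_apply, ← Over.comp_left, he2]
    rfl
  refine ⟨h, ?_, ?_, sq⟩
  · exact Groth.Agent.Lib.H69AlgSp.repWith_of_isLocallySurjective_base _ hrep _ _ _ sq @Etale
      ((AlgSp.repWith_yon_map_iff @Etale s).2 hs_et)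
  · exact Groth.Agent.Lib.H69AlgSp.repWith_of_isLocallySurjective_base _ hrep _ _ _ sq @Surjective
      ((AlgSp.repWith_yon_map_iff @Surjective s).2 hs_surj)

end Groth.Agent.S9869
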