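import Groth.Statements.S1488
import Groth.Agent.S1489
import Groth.Agent.Lib.H86SmoothLocalLift
import Groth.Agent.Lib.H86GlueLift
import Groth.Agent.Lib.FormallySmoothHomAffine
import Groth.Agent.Lib.H4FirstOrderBC

set_option linter.style.haveILetI false

set_option autoImplicit false
universe u
open FlatMor

namespace Groth.Agent.S1488

open AlgebraicGeometry CategoryTheory Limits
open Groth.Agent.S1489

open AlgebraicGeometry CategoryTheory Limits in
/-- A morphism f : X → S is smooth if and only if it is locally of finite presentation and formally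
smooth, i.e. has the lifting property against first order thickenings of affine schemes (rings in
the same universe). -/
theorem result {X S : Scheme.{u}} (f : X ⟶ S) :
    Smooth f ↔ LocallyOfFinitePresentation f ∧ MoreMor.IsFormallySmoothHom f := by
  constructor
  · intro hf
    refine ⟨inferInstance, ?_⟩
    intro A _ I hI a b hcomm
    have hi : MoreMor.IsFirstOrderThickening (thick I) :=
      Groth.Agent.Lib.H4FirstOrderBC.isFirstOrderThickening_SpecMap
        (CommRingCat.ofHom (Ideal.Quotient.mk I)) Ideal.Quotient.mk_surjective (by
          intro x y hx hy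
          have hx' : x ∈ I := Ideal.Quotient.eq_zero_iff_mem.mp hx
          have hy' : y ∈ I := Ideal.Quotient.eq_zero_iff_mem.mp hy
          have : x * y ∈ I ^ 2 := by rw [pow_two]; exact Ideal.mul_mem_mul hx' hy'
          rwa [hI] at this)
    have hloc := fun t => Groth.Agent.Lib.H86SmoothLocalLift.exists_localLift_smooth f I a b hI hcomm t
    choose W l htW hl using hloc
    obtain ⟨b', hb'1, hb'2⟩ := Groth.Agent.Lib.H86GlueLift.exists_lift_of_local_lifts f (thick I) hi
      b a hcomm.symm (Spec (CommRingCat.of A)) W
      (top_le_iff.mp fun t _ => TopologicalSpace.Opens.mem_iSup.mpr ⟨t, htW t⟩) l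
      (fun j => (hl j).2)
      (fun j => (hl j).1 (thick I ∣_ W j) (thick I ⁻¹ᵁ W j).ι (morphismRestrict_ι _ _))
    exact ⟨b', hb'2, hb'1⟩
  · rintro ⟨hfp, H⟩
    refine ⟨fun {U} hU {V} hV e => ?_⟩
    let := (f.appLE U V e).hom.toAlgebra
    exact { formallySmooth :=
              Groth.Agent.Lib.FormallySmoothHomAffine.formallySmooth_appLE f H V U hV hU e
            finitePresentation := f.finitePresentation_appLE hU hV e }

end Groth.Agent.S1488
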