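import Groth.Statements.S10629
import Groth.Agent.Lib.H86Formal15
import Groth.Agent.Lib.AlgSpLocP2

set_option linter.style.haveILetI false

set_option autoImplicit false
universe u
open CategoryTheory CategoryTheory.Limits AlgebraicGeometry
open AlgSp

namespace Groth.Agent.S10629

/-- A morphism f : X ⟶ Y of algebraic spaces over S is smooth if and only if it is locally of finite
presentation and formally smooth (lifting sense). -/
theorem result {S : Scheme.{u}} {X Y : AlgSp.Space S} (f : X ⟶ Y) :
    AlgSp.LocP @Smooth f.hom ↔ AlgSp.LocP @LocallyOfFinitePresentation f.hom ∧ AlgSp.IsFormallySmoothMor f.hom := by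
  open Groth.Agent.Lib.H86Formal5 Groth.Agent.Lib.H86Formal9 Groth.Agent.Lib.H86Formal13
    Groth.Agent.Lib.AlgSpBasic Groth.Agent.Lib.AlgSpLocP in
  constructor
  · intro hf
    refine ⟨fun U V a b h ha hb e => ?_, ?_⟩
    · have : Smooth h.left := hf a b h ha hb e
      infer_instance
    · intro sq
      have sqP := IsPullback.of_hasPullback f.hom sq.bot
      have hP : IsAlgSpace (pullback f.hom sq.bot) :=
        isAlgSpace_of_isPullback X.property (IsAlgSpace.yon_obj sq.ptT')
          (fun _ a => Y.property.representable_from_yon a) sqP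
      haveI : MorphismProperty.DescendsAlong (@Smooth : MorphismProperty Scheme.{u}) etCov :=
        SevenClass.descendsAlong (Or.inr (Or.inr (Or.inr (Or.inl rfl))))
      have hgP : LocP @Smooth (pullback.snd f.hom sq.bot) :=
        locP_of_isPullback etLocalClass_smooth X.property Y.property (IsAlgSpace.yon_obj sq.ptT') sqP hf
      have hj : MoreMor.IsFirstOrderThickening sq.j.left :=
        Groth.Agent.Lib.H86Formal.isFirstOrderThickening_thick sq.I sq.sq_zero
      have hT' : IsAffine sq.ptT'.left := by
        change IsAffine (Spec _)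
        infer_instance
      obtain ⟨s, hs1, hs2⟩ := Groth.Agent.Lib.H86Formal15.exists_section_of_smooth hP sq.j hT' hj
        (pullback.snd f.hom sq.bot) hgP (pullback.lift sq.top ((yon S).map sq.j) sq.comm)
        (pullback.lift_snd _ _ _)
      refine ⟨s ≫ pullback.fst f.hom sq.bot, ?_, ?_⟩
      · rw [← Category.assoc, hs1, pullback.lift_fst]
      · rw [Category.assoc, pullback.condition, ← Category.assoc, hs2, Category.id_comp]
  · rintro ⟨hlfp, hfs⟩
    intro U V a b h ha hb e
    have h1 : IsFormallySmoothMor ((yon S).map h) :=
      isFormallySmoothMor_of_etale_charts (IsAlgSpace.yon_obj U) X.property (IsAlgSpace.yon_obj V)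
        Y.property f.hom hfs a b (isEtaleMor_of_repWith_etale ha) (isEtaleMor_of_repWith_etale hb)
        ((yon S).map h) e.symm
    have h2 : MoreMor.IsFormallySmoothHom h.left := isFormallySmoothHom_of_yon_map h h1
    have h3 : LocallyOfFinitePresentation h.left := hlfp a b h ha hb e
    exact (Groth.Agent.S1488.result h.left).2 ⟨h3, h2⟩

end Groth.Agent.S10629
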