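import Groth.Statements.S1487
import Groth.Agent.S1489
import Groth.Agent.Lib.IdealSheafComap
import Mathlib.AlgebraicGeometry.Morphisms.FormallyUnramified

set_option autoImplicit false
universe u
open FlatMor

namespace Groth.Agent.S1487

section helpers
open AlgebraicGeometry CategoryTheory Limits
open Groth.Agent.S1489

section ker
variable {A : Type u} [CommRing A] (I : Ideal A)

/-- The kernel of a base change of `Spec (A ⧸ I) ⟶ Spec A` (`I² = 0`) along an open immersion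
has square zero. -/
lemma ker_sq_of_isPullback (hI : I ^ 2 = ⊥) {P P' : Scheme.{u}}
    (g : P ⟶ Spec (CommRingCat.of A)) [IsOpenImmersion g] (i' : P' ⟶ P)
    (r : P' ⟶ Spec (CommRingCat.of (A ⧸ I))) (H : IsPullback i' r g (thick I)) :
    i'.ker ^ 2 = ⊥ := by
  refine Scheme.IdealSheafData.ext ?_
  funext W
  rw [Scheme.IdealSheafData.ideal_pow, Scheme.IdealSheafData.ideal_bot, Pi.pow_apply,
    Pi.bot_apply, Scheme.ker_ideal_of_isPullback_of_isOpenImmersion (thick I) i' r g H W,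
    Scheme.Hom.ker_apply, pow_two,
    ← Groth.Agent.Lib.IdealSheafComap.ideal_comap_mul_of_bijective, ← pow_two,
    ker_app_sq I hI _ (W.2.image_of_isOpenImmersion g)]
  · rw [eq_bot_iff]
    intro x hx
    rw [Ideal.mem_comap, Ideal.mem_bot] at hx
    exact (Ideal.mem_bot).mpr
      ((ConcreteCategory.bijective_of_isIso (g.appIso W).inv).1 (by rw [hx, map_zero]))
  · exact ConcreteCategory.bijective_of_isIso (g.appIso W).inv

lemma isNilpotent_ker_thick (hI : I ^ 2 = ⊥) : IsNilpotent (thick I).ker := by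
  refine ⟨2, ker_sq_of_isPullback I hI (𝟙 _) (thick I) (𝟙 _) ?_⟩
  exact IsPullback.of_vert_isIso ⟨by simp⟩

end ker

variable {X Y : Scheme.{u}} (f : X ⟶ Y) {A : Type u} [CommRing A] (I : Ideal A)
  (a : Spec (CommRingCat.of (A ⧸ I)) ⟶ X) (b : Spec (CommRingCat.of A) ⟶ Y)

/-- Gluing local lifts, when `f` is formally unramified (no finiteness assumption). -/
lemma exists_lift_of_local' [FormallyUnramified f] (hI : I ^ 2 = ⊥)
    (hloc : ∀ t : Spec (CommRingCat.of A), ∃ (W : (Spec (CommRingCat.of A)).Opens)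
      (l : W.toScheme ⟶ X), t ∈ W ∧ IsLocalLift f I a b W l) :
    ∃ l : Spec (CommRingCat.of A) ⟶ X, thick I ≫ l = a ∧ l ≫ f = b := by
  choose W l htW hl using hloc
  have hcov : TopologicalSpace.IsOpenCover W := by
    refine TopologicalSpace.IsOpenCover.mk (top_le_iff.mp fun t _ => ?_)
    exact TopologicalSpace.Opens.mem_iSup.mpr ⟨t, htW t⟩
  let 𝒰 := (Spec (CommRingCat.of A)).openCoverOfIsOpenCover W hcov
  have compat : ∀ x y : Spec (CommRingCat.of A), pullback.fst (W x).ι (W y).ι ≫ l x =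
      pullback.snd (W x).ι (W y).ι ≫ l y := by
    intro x y
    refine FormallyUnramified.hom_ext
      (pullback.fst (pullback.fst (W x).ι (W y).ι ≫ (W x).ι) (thick I))
      ⟨2, ker_sq_of_isPullback I hI (pullback.fst (W x).ι (W y).ι ≫ (W x).ι) _
        (pullback.snd _ _) (IsPullback.of_hasPullback _ _)⟩ f ?_ ?_
    · have e1 := (hl x).1
        (pullback.fst (pullback.fst (W x).ι (W y).ι ≫ (W x).ι) (thick I) ≫ pullback.fst _ _)
        (pullback.snd _ _) (by rw [Category.assoc]; exact pullback.condition)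
      have e2 := (hl y).1
        (pullback.fst (pullback.fst (W x).ι (W y).ι ≫ (W x).ι) (thick I) ≫ pullback.snd _ _)
        (pullback.snd _ _) (by
          rw [Category.assoc, ← pullback.condition (f := (W x).ι) (g := (W y).ι)]
          exact pullback.condition)
      rw [Category.assoc] at e1 e2
      exact e1.trans e2.symm
    · rw [Category.assoc, Category.assoc, (hl x).2, (hl y).2, ← Category.assoc, ← Category.assoc,
        pullback.condition]
  refine ⟨𝒰.glueMorphisms l compat, ?_, ?_⟩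
  · refine Scheme.Cover.hom_ext (𝒰.pullback₁ (thick I)) _ _ fun x => ?_
    have h1 : pullback.fst (thick I) (W x).ι ≫ thick I ≫ 𝒰.glueMorphisms l compat =
        pullback.fst (thick I) (W x).ι ≫ a := by
      have h2 : (W x).ι ≫ 𝒰.glueMorphisms l compat = l x := 𝒰.ι_glueMorphisms l compat x
      rw [← Category.assoc, pullback.condition, Category.assoc, h2]
      exact (hl x).1 _ _ pullback.condition.symm
    exact h1
  · refine Scheme.Cover.hom_ext 𝒰 _ _ fun x => ?_
    have h2 : (W x).ι ≫ 𝒰.glueMorphisms l compat = l x := 𝒰.ι_glueMorphisms l compat x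
    have h3 : (W x).ι ≫ 𝒰.glueMorphisms l compat ≫ f = (W x).ι ≫ b := by
      rw [← Category.assoc, h2, (hl x).2]
    exact h3

/-- Local lifts exist when the ring maps on affine opens are formally smooth. -/
lemma exists_localLift'
    (H : ∀ (U : X.Opens) (V : Y.Opens) (_ : IsAffineOpen U) (_ : IsAffineOpen V)
      (hUV : U ≤ f ⁻¹ᵁ V), letI := (f.appLE V U hUV).hom.toAlgebra
      Algebra.FormallySmooth Γ(Y, V) Γ(X, U))
    (hI : I ^ 2 = ⊥) (hcomm : thick I ≫ b = a ≫ f)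
    (t : Spec (CommRingCat.of A)) :
    ∃ (W : (Spec (CommRingCat.of A)).Opens) (l : W.toScheme ⟶ X),
      t ∈ W ∧ IsLocalLift f I a b W l := by
  have hsurj := surjective_thick I hI
  obtain ⟨t₀, rfl⟩ := (thick I).surjective t
  obtain ⟨_, ⟨V, hV, rfl⟩, htV, -⟩ := Y.isBasis_affineOpens.exists_subset_of_mem_open
    (Set.mem_univ (f (a t₀))) isOpen_univ
  obtain ⟨_, ⟨U, hU, rfl⟩, htU, hUV : U ≤ f ⁻¹ᵁ V⟩ :=
    X.isBasis_affineOpens.exists_subset_of_mem_open htV (f ⁻¹ᵁ V).isOpen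
  have hemb : Topology.IsClosedEmbedding (thick I) := (thick I).isClosedEmbedding
  have hhomeo : IsHomeomorph (thick I) :=
    isHomeomorph_iff_isEmbedding_surjective.mpr ⟨hemb.isEmbedding, (thick I).surjective⟩
  let O : (Spec (CommRingCat.of A)).Opens :=
    ⟨thick I '' (a ⁻¹ᵁ U), hhomeo.isOpenMap _ (a ⁻¹ᵁ U).isOpen⟩
  have htO : thick I t₀ ∈ O := ⟨t₀, htU, rfl⟩
  have htbV : thick I t₀ ∈ b ⁻¹ᵁ V := by
    change b (thick I t₀) ∈ V
    rw [← Scheme.Hom.comp_apply, hcomm]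
    exact htV
  obtain ⟨_, ⟨W, hW, rfl⟩, htW, hWle : W ≤ b ⁻¹ᵁ V ⊓ O⟩ :=
    (Spec (CommRingCat.of A)).isBasis_affineOpens.exists_subset_of_mem_open
      (show thick I t₀ ∈ ((b ⁻¹ᵁ V ⊓ O : (Spec (CommRingCat.of A)).Opens) : Set _) from
        ⟨htbV, htO⟩) (b ⁻¹ᵁ V ⊓ O).isOpen
  have hWV : W ≤ b ⁻¹ᵁ V := hWle.trans inf_le_left
  have hW'U : thick I ⁻¹ᵁ W ≤ a ⁻¹ᵁ U := by
    intro z hz
    obtain ⟨z', hz', hzz'⟩ := (hWle hz).2
    rwa [← hemb.injective hzz']
  have hW' : IsAffineOpen (thick I ⁻¹ᵁ W) := hW.preimage (thick I)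
  have hW'V : thick I ⁻¹ᵁ W ≤ (a ≫ f) ⁻¹ᵁ V := fun z hz => hUV (hW'U hz)
  let algB : Algebra Γ(Y, V) Γ(X, U) := (f.appLE V U hUV).hom.toAlgebra
  let algA : Algebra Γ(Y, V) Γ(Spec (CommRingCat.of A), W) := (b.appLE V W hWV).hom.toAlgebra
  let algC : Algebra Γ(Y, V) Γ(Spec (CommRingCat.of (A ⧸ I)), thick I ⁻¹ᵁ W) :=
    ((a ≫ f).appLE V (thick I ⁻¹ᵁ W) hW'V).hom.toAlgebra
  have : Algebra.FormallySmooth Γ(Y, V) Γ(X, U) := H U V hU hV hUV
  let α : Γ(X, U) →ₐ[Γ(Y, V)] Γ(Spec (CommRingCat.of (A ⧸ I)), thick I ⁻¹ᵁ W) :=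
    ⟨(a.appLE U (thick I ⁻¹ᵁ W) hW'U).hom, fun r => by
      simp [RingHom.algebraMap_toAlgebra, ← CategoryTheory.comp_apply, -CommRingCat.hom_comp,
        Scheme.Hom.appLE_comp_appLE, -Scheme.Hom.comp_appLE]⟩
  let ι : Γ(Spec (CommRingCat.of A), W) →ₐ[Γ(Y, V)]
      Γ(Spec (CommRingCat.of (A ⧸ I)), thick I ⁻¹ᵁ W) :=
    ⟨((thick I).app W).hom, fun r => by
      simp [RingHom.algebraMap_toAlgebra, ← CategoryTheory.comp_apply, -CommRingCat.hom_comp,
        Scheme.Hom.app_eq_appLE, Scheme.Hom.appLE_comp_appLE, hcomm, -Scheme.Hom.comp_appLE]⟩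
  have hιs : Function.Surjective ι := (thick I).app_surjective W hW
  have hιn : IsNilpotent (RingHom.ker (ι : Γ(Spec (CommRingCat.of A), W) →+*
      Γ(Spec (CommRingCat.of (A ⧸ I)), thick I ⁻¹ᵁ W))) := ⟨2, ker_app_sq I hI W hW⟩
  let ψ := Algebra.FormallySmooth.liftOfSurjective α ι hιs hιn
  have hψ : ι.comp ψ = α := Algebra.FormallySmooth.comp_liftOfSurjective α ι hιs hιn
  have hψ1 : f.appLE V U hUV ≫ CommRingCat.ofHom ψ.toRingHom = b.appLE V W hWV :=
    CommRingCat.hom_ext ψ.comp_algebraMap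
  have hψ2 : CommRingCat.ofHom ψ.toRingHom ≫ (thick I).appLE W (thick I ⁻¹ᵁ W) le_rfl =
      a.appLE U (thick I ⁻¹ᵁ W) hW'U := by
    rw [← Scheme.Hom.app_eq_appLE]
    exact CommRingCat.hom_ext congr(AlgHom.toRingHom $hψ)
  let l' : Spec Γ(Spec (CommRingCat.of A), W) ⟶ X :=
    Spec.map (CommRingCat.ofHom ψ.toRingHom) ≫ hU.fromSpec
  have e3 : Spec.map ((thick I).appLE W (thick I ⁻¹ᵁ W) le_rfl) ≫ l' =
      hW'.fromSpec ≫ a := by
    have e3' : Spec.map ((thick I).appLE W (thick I ⁻¹ᵁ W) le_rfl) ≫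
        Spec.map (CommRingCat.ofHom ψ.toRingHom) = Spec.map (a.appLE U (thick I ⁻¹ᵁ W) hW'U) :=
      (Spec.map_comp _ _).symm.trans (congrArg Spec.map hψ2)
    rw [← hU.SpecMap_appLE_fromSpec a hW' hW'U, ← e3', Category.assoc]
  have e4 : l' ≫ f = hW.fromSpec ≫ b := by
    have e4' : Spec.map (CommRingCat.ofHom ψ.toRingHom) ≫ Spec.map (f.appLE V U hUV) =
        Spec.map (b.appLE V W hWV) :=
      (Spec.map_comp _ _).symm.trans (congrArg Spec.map hψ1)
    rw [← hV.SpecMap_appLE_fromSpec b hW hWV, ← e4', Category.assoc, Category.assoc,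
      hV.SpecMap_appLE_fromSpec f hU hUV]
    rfl
  refine ⟨W, hW.isoSpec.hom ≫ l', htW, ?_, ?_⟩
  · intro Z' v r hvr
    have hr : Set.range r ⊆ Set.range (thick I ⁻¹ᵁ W).ι := by
      rintro _ ⟨z, rfl⟩
      rw [Scheme.Opens.range_ι]
      change thick I (r z) ∈ W
      rw [← Scheme.Hom.comp_apply, ← hvr, Scheme.Hom.comp_apply]
      exact (v z).2
    let v' := IsOpenImmersion.lift (thick I ⁻¹ᵁ W).ι r hr
    have hv' : v' ≫ (thick I ⁻¹ᵁ W).ι = r := IsOpenImmersion.lift_fac _ _ _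
    have key : v ≫ hW.isoSpec.hom =
        (v' ≫ hW'.isoSpec.hom) ≫ Spec.map ((thick I).appLE W (thick I ⁻¹ᵁ W) le_rfl) := by
      rw [← cancel_mono hW.fromSpec]
      simp only [Category.assoc, IsAffineOpen.isoSpec_hom_fromSpec]
      rw [hW.SpecMap_appLE_fromSpec (thick I) hW' le_rfl,
        IsAffineOpen.isoSpec_hom_fromSpec_assoc, ← Category.assoc, hv', hvr]
    rw [← Category.assoc, key, Category.assoc, e3, Category.assoc,
      IsAffineOpen.isoSpec_hom_fromSpec_assoc, ← Category.assoc, hv']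
  · rw [Category.assoc, e4, IsAffineOpen.isoSpec_hom_fromSpec_assoc]

theorem main {X Y : Scheme.{u}} (f : X ⟶ Y) :
    MoreMor.IsFormallyEtaleHom f ↔ ∀ (U : X.Opens) (V : Y.Opens) (hU : IsAffineOpen U)
      (hV : IsAffineOpen V) (hUV : U ≤ f ⁻¹ᵁ V),
      letI := (f.appLE V U hUV).hom.toAlgebra
      Algebra.FormallyEtale Γ(Y, V) Γ(X, U) := by
  constructor
  · intro H U V hU hV hUV
    exact formallyEtale_appLE f hV hU hUV H
  · intro H
    have hunr : FormallyUnramified f := by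
      refine ⟨fun {V} hV {U} hU e => ?_⟩
      have := H U V hU hV e
      let _ := (f.appLE V U e).hom.toAlgebra
      exact (inferInstance : Algebra.FormallyUnramified Γ(Y, V) Γ(X, U))
    intro A _ I hI a b hcomm
    obtain ⟨l, hl1, hl2⟩ := exists_lift_of_local' f I a b hI
      (fun t => exists_localLift' f I a b (fun U V hU hV hUV => by
        have := H U V hU hV hUV
        let _ := (f.appLE V U hUV).hom.toAlgebra
        exact (inferInstance : Algebra.FormallySmooth Γ(Y, V) Γ(X, U))) hI hcomm t)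
    refine ⟨l, ⟨hl1, hl2⟩, ?_⟩
    rintro l' ⟨hl1', hl2'⟩
    exact FormallyUnramified.hom_ext (thick I) (isNilpotent_ker_thick I hI) f
      (hl1'.trans hl1.symm) (hl2'.trans hl2.symm)

end helpers

open AlgebraicGeometry CategoryTheory Limits in
/-- (1) ⇔ (3): a morphism f : X → Y is formally étale (unique lifting against first order thickenings of
affine schemes, rings in the same universe) if and only if for all affine opens U ⊆ f⁻¹(V) the ring
map O_Y(V) → O_X(U) is formally étale. -/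
theorem result {X Y : Scheme.{u}} (f : X ⟶ Y) :
    MoreMor.IsFormallyEtaleHom f ↔ ∀ (U : X.Opens) (V : Y.Opens) (hU : IsAffineOpen U) (hV : IsAffineOpen V) (hUV : U ≤ f ⁻¹ᵁ V),
      letI := (f.appLE V U hUV).hom.toAlgebra
      Algebra.FormallyEtale Γ(Y, V) Γ(X, U) :=
  main f

end Groth.Agent.S1487
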