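import Mathlib
import Groth.Statements.S14437

set_option autoImplicit false
universe u
open CAlg

namespace Groth.Agent.S14437

section Helpers

open TensorProduct

theorem main_aux (k : Type u) [Field k]
    (A B : Type u) [CommRing A] [CommRing B] [IsLocalRing A] [IsLocalRing B] [IsNoetherianRing A] [IsNoetherianRing B]
    [Algebra k A] [Algebra k B] [Algebra A B] [IsScalarTower k A B]
    (hle : IsLocalRing.maximalIdeal A ≤ Ideal.comap (IsScalarTower.toAlgHom k A B) (IsLocalRing.maximalIdeal B))
    (hA : Function.Bijective (algebraMap k (IsLocalRing.ResidueField A)))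
    (hB : Function.Bijective (algebraMap k (IsLocalRing.ResidueField B))) :
    Module.finrank (IsLocalRing.ResidueField B) (TensorProduct B (IsLocalRing.ResidueField B) (Ω[B⁄A])) +
      Module.finrank k ↥(LinearMap.range (Ideal.mapCotangent (IsLocalRing.maximalIdeal A) (IsLocalRing.maximalIdeal B)
        (IsScalarTower.toAlgHom k A B) hle)) =
      Module.finrank k (IsLocalRing.CotangentSpace B) := by
  classical
  -- residue constants of `B`
  let e : k ≃+* IsLocalRing.ResidueField B := RingEquiv.ofBijective (algebraMap k _) hB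
  let c : B →+* k := (e.symm : IsLocalRing.ResidueField B →+* k).comp (IsLocalRing.residue B)
  have hc_res : ∀ b : B, algebraMap k (IsLocalRing.ResidueField B) (c b) = IsLocalRing.residue B b :=
    fun b => e.apply_symm_apply _
  have hres_alg : ∀ t : k, IsLocalRing.residue B (algebraMap k B t) =
      algebraMap k (IsLocalRing.ResidueField B) t := fun t =>
    (IsScalarTower.algebraMap_apply k B (IsLocalRing.ResidueField B) t).symm
  have hc_alg : ∀ t : k, c (algebraMap k B t) = t := by
    intro t; apply hB.injective; rw [hc_res, hres_alg]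
  have hmem : ∀ b : B, b - algebraMap k B (c b) ∈ IsLocalRing.maximalIdeal B := by
    intro b
    rw [← IsLocalRing.residue_eq_zero_iff, map_sub, sub_eq_zero, hres_alg, hc_res]
  have hc_zero : ∀ x ∈ IsLocalRing.maximalIdeal B, c x = 0 := by
    intro x hx; apply hB.injective
    rw [hc_res, map_zero]; exact (IsLocalRing.residue_eq_zero_iff x).2 hx
  -- `B` acts on the cotangent space through `c`
  have hsmul : ∀ (b : B) (v : IsLocalRing.CotangentSpace B), b • v = c b • v := by
    intro b v
    have : (b - algebraMap k B (c b)) • v = 0 := Ideal.Cotangent.smul_eq_zero_of_mem (hmem b) v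
    rw [sub_smul, sub_eq_zero] at this
    rw [this, algebraMap_smul]
  -- the same for `A`
  let eA : k ≃+* IsLocalRing.ResidueField A := RingEquiv.ofBijective (algebraMap k _) hA
  let cA : A →+* k := (eA.symm : IsLocalRing.ResidueField A →+* k).comp (IsLocalRing.residue A)
  have hcA_res : ∀ a : A, algebraMap k (IsLocalRing.ResidueField A) (cA a) = IsLocalRing.residue A a :=
    fun a => eA.apply_symm_apply _
  have hresA_alg : ∀ t : k, IsLocalRing.residue A (algebraMap k A t) =
      algebraMap k (IsLocalRing.ResidueField A) t := fun t =>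
    (IsScalarTower.algebraMap_apply k A (IsLocalRing.ResidueField A) t).symm
  have hmemA : ∀ a : A, a - algebraMap k A (cA a) ∈ IsLocalRing.maximalIdeal A := by
    intro a
    rw [← IsLocalRing.residue_eq_zero_iff, map_sub, sub_eq_zero, hresA_alg, hcA_res]
  have hfm : ∀ a ∈ IsLocalRing.maximalIdeal A, algebraMap A B a ∈ IsLocalRing.maximalIdeal B :=
    fun a ha => hle ha
  have hc_f : ∀ a : A, c (algebraMap A B a) = cA a := by
    intro a
    have h1 : algebraMap A B a = algebraMap A B (a - algebraMap k A (cA a)) +
        algebraMap k B (cA a) := by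
      rw [map_sub, ← IsScalarTower.algebraMap_apply]; ring
    rw [h1, map_add, hc_zero _ (hfm _ (hmemA a)), hc_alg, zero_add]
  -- the map `α : m_B/m_B² → κ ⊗ Ω[B/A]`
  have hres0 : ∀ x : IsLocalRing.maximalIdeal B,
      algebraMap B (IsLocalRing.ResidueField B) x.1 = 0 := fun x =>
    (IsLocalRing.residue_eq_zero_iff x.1).2 x.2
  let αraw : IsLocalRing.maximalIdeal B →ₗ[B] (IsLocalRing.ResidueField B) ⊗[B] Ω[B⁄A] :=
    { toFun := fun x => 1 ⊗ₜ KaehlerDifferential.D A B x.1
      map_add' := fun x y => by
        simp only [Submodule.coe_add, map_add, TensorProduct.tmul_add]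
      map_smul' := fun r x => by
        simp only [SetLike.val_smul, smul_eq_mul, Derivation.leibniz,
          TensorProduct.tmul_add, TensorProduct.tmul_smul, TensorProduct.smul_tmul', ←
          Algebra.algebraMap_eq_smul_one, hres0 x, TensorProduct.zero_tmul, add_zero,
          RingHom.id_apply] }
  have hαraw : ∀ x : IsLocalRing.maximalIdeal B,
      αraw x = 1 ⊗ₜ KaehlerDifferential.D A B x.1 := fun x => rfl
  have hαmul : ∀ x y : IsLocalRing.maximalIdeal B, αraw (x * y) = 0 := by
    intro x y
    rw [hαraw]
    show (1 : IsLocalRing.ResidueField B) ⊗ₜ[B] KaehlerDifferential.D A B (x.1 * y.1) = 0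
    rw [Derivation.leibniz, TensorProduct.tmul_add, TensorProduct.tmul_smul,
      TensorProduct.tmul_smul, TensorProduct.smul_tmul', TensorProduct.smul_tmul',
      ← Algebra.algebraMap_eq_smul_one, ← Algebra.algebraMap_eq_smul_one, hres0 x, hres0 y,
      TensorProduct.zero_tmul, TensorProduct.zero_tmul, add_zero]
  let α : IsLocalRing.CotangentSpace B →ₗ[B] (IsLocalRing.ResidueField B) ⊗[B] Ω[B⁄A] :=
    Ideal.Cotangent.lift αraw hαmul
  have hα : ∀ x : IsLocalRing.maximalIdeal B,
      α ((IsLocalRing.maximalIdeal B).toCotangent x) = 1 ⊗ₜ KaehlerDifferential.D A B x.1 :=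
    fun x => Ideal.Cotangent.lift_toCotangent αraw hαmul x
  -- `α` is surjective
  have hαone : ∀ ω : Ω[B⁄A], (1 : IsLocalRing.ResidueField B) ⊗ₜ[B] ω ∈ LinearMap.range α := by
    intro ω
    have hω : ω ∈ Submodule.span B (Set.range (KaehlerDifferential.D A B)) := by
      rw [KaehlerDifferential.span_range_derivation]; trivial
    induction hω using Submodule.span_induction with
    | mem ω hω =>
      obtain ⟨b', rfl⟩ := hω
      refine ⟨(IsLocalRing.maximalIdeal B).toCotangent ⟨_, hmem b'⟩, ?_⟩
      rw [hα]
      congr 1
      rw [map_sub, IsScalarTower.algebraMap_apply k A B, Derivation.map_algebraMap, sub_zero]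
    | zero => rw [TensorProduct.tmul_zero]; exact Submodule.zero_mem _
    | add x y _ _ hx hy => rw [TensorProduct.tmul_add]; exact Submodule.add_mem _ hx hy
    | smul a x _ hx =>
      rw [TensorProduct.tmul_smul]; exact Submodule.smul_mem _ _ hx
  have hαsurj : Function.Surjective α := by
    rw [← LinearMap.range_eq_top, eq_top_iff]
    rintro z -
    induction z using TensorProduct.induction_on with
    | zero => exact Submodule.zero_mem _
    | add x y hx hy => exact Submodule.add_mem _ hx hy
    | tmul r ω =>
      obtain ⟨b, rfl⟩ := IsLocalRing.residue_surjective r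
      have h1 : (IsLocalRing.residue B b) ⊗ₜ[B] ω = b • ((1 : IsLocalRing.ResidueField B) ⊗ₜ[B] ω) := by
        rw [TensorProduct.smul_tmul', Algebra.smul_def, mul_one]; rfl
      rw [h1]
      exact Submodule.smul_mem _ _ (hαone ω)
  -- the `B`-submodule spanned by the image of `m_A/m_A²`
  set φ := Ideal.mapCotangent (IsLocalRing.maximalIdeal A) (IsLocalRing.maximalIdeal B)
    (IsScalarTower.toAlgHom k A B) hle with hφ
  let WB : Submodule B (IsLocalRing.CotangentSpace B) := Submodule.span B (Set.range φ)
  have hWB : ∀ v ∈ WB, v ∈ LinearMap.range φ := by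
    intro v hv
    induction hv using Submodule.span_induction with
    | mem v hv => exact hv
    | zero => exact Submodule.zero_mem _
    | add x y _ _ hx hy => exact Submodule.add_mem _ hx hy
    | smul b x _ hx => rw [hsmul]; exact Submodule.smul_mem _ _ hx
  -- the derivation `b ↦ [b - c b]`
  let D'fun : B → IsLocalRing.CotangentSpace B ⧸ WB := fun b =>
    WB.mkQ ((IsLocalRing.maximalIdeal B).toCotangent ⟨b - algebraMap k B (c b), hmem b⟩)
  have hD'add : ∀ b b', D'fun (b + b') = D'fun b + D'fun b' := by
    intro b b'
    show WB.mkQ _ = WB.mkQ _ + WB.mkQ _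
    rw [← map_add, ← map_add]
    congr 2
    apply Subtype.ext
    simp only [map_add, Submodule.coe_add]
    ring
  have hD'mul : ∀ b b', D'fun (b * b') = b • D'fun b' + b' • D'fun b := by
    intro b b'
    show WB.mkQ _ = b • WB.mkQ _ + b' • WB.mkQ _
    simp only [← map_smul, ← map_add]
    congr 1
    rw [Ideal.toCotangent_eq]
    have : (b * b' - algebraMap k B (c (b * b'))) -
        ((b • (⟨b' - algebraMap k B (c b'), hmem b'⟩ : IsLocalRing.maximalIdeal B) +
          b' • (⟨b - algebraMap k B (c b), hmem b⟩ : IsLocalRing.maximalIdeal B) :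
            IsLocalRing.maximalIdeal B) : B) =
        -((b - algebraMap k B (c b)) * (b' - algebraMap k B (c b'))) := by
      simp only [map_mul, Submodule.coe_add, SetLike.val_smul, smul_eq_mul]
      ring
    rw [this, neg_mem_iff, pow_two]
    exact Ideal.mul_mem_mul (hmem b) (hmem b')
  have hD'alg : ∀ a : A, D'fun (algebraMap A B a) = 0 := by
    intro a
    show WB.mkQ _ = 0
    rw [Submodule.mkQ_apply, Submodule.Quotient.mk_eq_zero]
    apply Submodule.subset_span
    refine ⟨(IsLocalRing.maximalIdeal A).toCotangent ⟨a - algebraMap k A (cA a), hmemA a⟩, ?_⟩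
    rw [hφ, Ideal.mapCotangent_toCotangent]
    congr 1
    apply Subtype.ext
    simp only [IsScalarTower.coe_toAlgHom', map_sub, hc_f]
    rw [← IsScalarTower.algebraMap_apply]
  let D'lin : B →ₗ[A] (IsLocalRing.CotangentSpace B ⧸ WB) :=
    { toFun := D'fun
      map_add' := hD'add
      map_smul' := fun a b => by
        show D'fun (a • b) = a • D'fun b
        rw [Algebra.smul_def, hD'mul, hD'alg, smul_zero, add_zero, algebraMap_smul] }
  let D' : Derivation A B (IsLocalRing.CotangentSpace B ⧸ WB) :=
    Derivation.mk' D'lin (fun a b => hD'mul a b)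
  have hD'apply : ∀ b, D' b = D'fun b := fun b => rfl
  let L : Ω[B⁄A] →ₗ[B] (IsLocalRing.CotangentSpace B ⧸ WB) := D'.liftKaehlerDifferential
  have hL : ∀ b, L (KaehlerDifferential.D A B b) = D'fun b := fun b =>
    Derivation.liftKaehlerDifferential_comp_D D' b
  have hLm : ∀ ω ∈ (IsLocalRing.maximalIdeal B) • (⊤ : Submodule B Ω[B⁄A]), L ω = 0 := by
    intro ω hω
    refine Submodule.smul_induction_on hω ?_ ?_
    · intro r hr n _
      rw [map_smul]
      obtain ⟨v, hv⟩ := WB.mkQ_surjective (L n)
      rw [← hv, ← map_smul, Ideal.Cotangent.smul_eq_zero_of_mem hr, map_zero]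
    · intro x y hx hy
      rw [map_add, hx, hy, add_zero]
  -- kernel of `α`
  have hker : ∀ v : IsLocalRing.CotangentSpace B, α v = 0 ↔ v ∈ LinearMap.range φ := by
    intro v
    constructor
    · intro hv
      obtain ⟨x, rfl⟩ := Ideal.toCotangent_surjective _ v
      rw [hα] at hv
      have h1 := (congrArg (TensorProduct.quotTensorEquivQuotSMul Ω[B⁄A]
        (IsLocalRing.maximalIdeal B)) hv).trans (LinearEquiv.map_zero _)
      have h2 : (TensorProduct.quotTensorEquivQuotSMul Ω[B⁄A] (IsLocalRing.maximalIdeal B))
          ((1 : IsLocalRing.ResidueField B) ⊗ₜ[B] KaehlerDifferential.D A B x.1) =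
          Submodule.Quotient.mk ((1 : B) • KaehlerDifferential.D A B x.1) :=
        TensorProduct.quotTensorEquivQuotSMul_mk_tmul _ 1 _
      have h1' := h2.symm.trans h1
      rw [one_smul, Submodule.Quotient.mk_eq_zero] at h1'
      have h3 := hLm _ h1'
      rw [hL] at h3
      have h4 : (⟨x.1 - algebraMap k B (c x.1), hmem x.1⟩ : IsLocalRing.maximalIdeal B) = x := by
        apply Subtype.ext
        simp only [hc_zero x.1 x.2, map_zero, sub_zero]
      have h5 : WB.mkQ ((IsLocalRing.maximalIdeal B).toCotangent x) = 0 := by
        rw [← h4]; exact h3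
      rw [Submodule.mkQ_apply, Submodule.Quotient.mk_eq_zero] at h5
      exact hWB _ h5
    · rintro ⟨u, rfl⟩
      obtain ⟨a, rfl⟩ := Ideal.toCotangent_surjective _ u
      rw [hφ, Ideal.mapCotangent_toCotangent, hα]
      simp only [IsScalarTower.coe_toAlgHom']
      rw [Derivation.map_algebraMap, TensorProduct.tmul_zero]
  -- finite-dimensionality over `k`
  have hfinB : Module.Finite B (IsLocalRing.CotangentSpace B) :=
    Module.Finite.of_surjective (IsLocalRing.maximalIdeal B).toCotangent
      (Ideal.toCotangent_surjective _)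
  have : Module.Finite k (IsLocalRing.CotangentSpace B) := by
    obtain ⟨S, hS⟩ := hfinB.fg_top
    refine ⟨⟨S, eq_top_iff.2 fun v hvtop => ?_⟩⟩
    clear hvtop
    have hv : v ∈ Submodule.span B (S : Set (IsLocalRing.CotangentSpace B)) := hS ▸ Submodule.mem_top
    induction hv using Submodule.span_induction with
    | mem x hx => exact Submodule.subset_span hx
    | zero => exact Submodule.zero_mem _
    | add x y _ _ hx hy => exact Submodule.add_mem _ hx hy
    | smul b x _ hx => rw [hsmul]; exact Submodule.smul_mem _ _ hx
  let αk : IsLocalRing.CotangentSpace B →ₗ[k] (IsLocalRing.ResidueField B) ⊗[B] Ω[B⁄A] :=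
    α.restrictScalars k
  have hkerk : LinearMap.ker αk = LinearMap.range φ := by
    ext v
    rw [LinearMap.mem_ker]
    exact hker v
  have hrangek : LinearMap.range αk = ⊤ := LinearMap.range_eq_top.2 hαsurj
  have h1 := LinearMap.finrank_range_add_finrank_ker αk
  rw [hkerk, hrangek, finrank_top] at h1
  have h2 : Module.finrank k ((IsLocalRing.ResidueField B) ⊗[B] Ω[B⁄A]) =
      Module.finrank (IsLocalRing.ResidueField B) ((IsLocalRing.ResidueField B) ⊗[B] Ω[B⁄A]) := by
    have ht := Module.finrank_mul_finrank k (IsLocalRing.ResidueField B)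
      ((IsLocalRing.ResidueField B) ⊗[B] Ω[B⁄A])
    have h1' : Module.finrank k (IsLocalRing.ResidueField B) = 1 := by
      rw [← (LinearEquiv.ofBijective (Algebra.linearMap k (IsLocalRing.ResidueField B))
        hB).finrank_eq, Module.finrank_self]
    rw [h1', one_mul] at ht
    exact ht.symm
  rw [← h2]
  exact h1

end Helpers

/-- Let k be a field and A → B a local homomorphism of Noetherian local k-algebras with residue fields k
(k → A/m_A and k → B/m_B bijective) — for instance the local rings at a closed point x and at its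
image y under a morphism of schemes of finite type over an algebraically closed k. Then dim_k
(Ω_{B/A} ⊗_B B/m_B) + rank(m_A/m_A² → m_B/m_B²) = dim_k (m_B/m_B²): the fibre at x of the sheaf of
relative differentials is dual to the kernel of the tangent map T_x X → T_y Y. (The published
statement is the canonical isomorphism (Ω_{X/Y})_(x)^∨ ≅ ker(df_x); stated here as the resulting
equality of dimensions. Its second assertion, dim (Ω_{X/Y})_(x) ≥ r when the fibre has an
r-dimensional component through x, is not included.) -/
theorem result (k : Type u) [Field k]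
    (A B : Type u) [CommRing A] [CommRing B] [IsLocalRing A] [IsLocalRing B] [IsNoetherianRing A] [IsNoetherianRing B]
    [Algebra k A] [Algebra k B] [Algebra A B] [IsScalarTower k A B]
    (hle : IsLocalRing.maximalIdeal A ≤ Ideal.comap (IsScalarTower.toAlgHom k A B) (IsLocalRing.maximalIdeal B))
    (hA : Function.Bijective (algebraMap k (IsLocalRing.ResidueField A)))
    (hB : Function.Bijective (algebraMap k (IsLocalRing.ResidueField B))) :
    Module.finrank (IsLocalRing.ResidueField B) (TensorProduct B (IsLocalRing.ResidueField B) (Ω[B⁄A])) +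
      Module.finrank k ↥(LinearMap.range (Ideal.mapCotangent (IsLocalRing.maximalIdeal A) (IsLocalRing.maximalIdeal B)
        (IsScalarTower.toAlgHom k A B) hle)) =
      Module.finrank k (IsLocalRing.CotangentSpace B) := by
  exact main_aux k A B hle hA hB

end Groth.Agent.S14437
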