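import Groth.Statements.S2195
import Mathlib.RingTheory.Unramified.Finite
import Mathlib.RingTheory.Smooth.Fiber
import Mathlib.RingTheory.Finiteness.ModuleFinitePresentation
import Mathlib.RingTheory.Trace.Basic

set_option autoImplicit false
universe u v
open Disc

namespace Groth.Agent.S2195

open TensorProduct

section forward

variable {A : Type u} {B : Type v} [CommRing A] [CommRing B] [Algebra A B]

/-- `x ⊗ y ↦ φ x • y`. -/
noncomputable def Phi (φ : B →ₗ[A] A) : B ⊗[A] B →ₗ[A] B :=
  (TensorProduct.lid A B).toLinearMap ∘ₗ (LinearMap.rTensor B φ)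

@[simp] theorem Phi_tmul (φ : B →ₗ[A] A) (x y : B) : Phi φ (x ⊗ₜ[A] y) = φ x • y := by
  simp [Phi]

/-- `x ⊗ y ↦ φ y • x`. -/
noncomputable def Psi (φ : B →ₗ[A] A) : B ⊗[A] B →ₗ[A] B :=
  (TensorProduct.rid A B).toLinearMap ∘ₗ (LinearMap.lTensor B φ)

@[simp] theorem Psi_tmul (φ : B →ₗ[A] A) (x y : B) : Psi φ (x ⊗ₜ[A] y) = φ y • x := by
  simp [Psi]

theorem Phi_one_tmul_mul (φ : B →ₗ[A] A) (s : B) (τ : B ⊗[A] B) :
    Phi φ ((1 ⊗ₜ[A] s) * τ) = s * Phi φ τ := by
  induction τ using TensorProduct.induction_on with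
  | zero => simp
  | tmul x y => simp [Algebra.TensorProduct.tmul_mul_tmul]
  | add x y hx hy => simp [mul_add, hx, hy]

theorem Phi_tmul_one_mul (φ : B →ₗ[A] A) (s : B) (τ : B ⊗[A] B) :
    Phi φ ((s ⊗ₜ[A] 1) * τ) = Phi (φ ∘ₗ LinearMap.mulLeft A s) τ := by
  induction τ using TensorProduct.induction_on with
  | zero => simp
  | tmul x y => simp [Algebra.TensorProduct.tmul_mul_tmul]
  | add x y hx hy => simp [mul_add, hx, hy]

theorem sum_basis_mul_Phi {ι : Type} [Fintype ι] (b : Module.Basis ι A B) (τ : B ⊗[A] B) :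
    ∑ j, b j * Phi (b.coord j) τ = Algebra.TensorProduct.lmul' A τ := by
  induction τ using TensorProduct.induction_on with
  | zero => simp
  | tmul x y =>
    simp only [Phi_tmul, Module.Basis.coord_apply, Algebra.TensorProduct.lmul'_apply_tmul]
    conv_rhs => rw [← b.sum_repr x]
    rw [Finset.sum_mul]
    apply Finset.sum_congr rfl
    intro j _
    rw [Algebra.smul_def, Algebra.smul_def]; ring
  | add x y hx hy => simp [mul_add, Finset.sum_add_distrib, hx, hy]

theorem Phi_add (φ ψ : B →ₗ[A] A) (τ : B ⊗[A] B) : Phi (φ + ψ) τ = Phi φ τ + Phi ψ τ := by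
  induction τ using TensorProduct.induction_on with
  | zero => simp
  | tmul x y => simp [add_smul]
  | add x y hx hy => simp only [map_add, hx, hy]; abel

theorem Phi_sum {ι : Type} (s : Finset ι) (φ : ι → (B →ₗ[A] A)) (τ : B ⊗[A] B) :
    Phi (∑ j ∈ s, φ j) τ = ∑ j ∈ s, Phi (φ j) τ := by
  classical
  induction s using Finset.induction_on with
  | empty =>
    simp only [Finset.sum_empty]
    induction τ using TensorProduct.induction_on with
    | zero => simp
    | tmul x y => simp
    | add x y hx hy => simp only [map_add, hx, hy]; abel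
  | insert a s ha ih => rw [Finset.sum_insert ha, Finset.sum_insert ha, Phi_add, ih]

/-- The functional `w ↦ trace (z * w)`. -/
noncomputable def trL (z : B) : B →ₗ[A] A := (Algebra.trace A B) ∘ₗ LinearMap.mulLeft A z

theorem trL_apply (z w : B) : trL (A := A) z w = Algebra.trace A B (z * w) := rfl

theorem trL_eq_sum {ι : Type} [Fintype ι] [DecidableEq ι] (b : Module.Basis ι A B) (z : B) :
    trL (A := A) z = ∑ j, (b.coord j) ∘ₗ LinearMap.mulLeft A (z * b j) := by
  ext w
  simp only [trL_apply, LinearMap.coe_sum, Finset.sum_apply, LinearMap.comp_apply,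
    LinearMap.mulLeft_apply, Module.Basis.coord_apply]
  rw [Algebra.trace_eq_matrix_trace b, Matrix.trace]
  apply Finset.sum_congr rfl
  intro j _
  rw [Matrix.diag_apply, Algebra.leftMulMatrix_eq_repr_mul]
  congr 2
  ring

theorem Phi_trL {ι : Type} [Fintype ι] [DecidableEq ι] (b : Module.Basis ι A B)
    (t : B ⊗[A] B) (ht1 : ∀ s : B, ((1 : B) ⊗ₜ[A] s - s ⊗ₜ[A] (1 : B)) * t = 0)
    (ht2 : Algebra.TensorProduct.lmul' A t = 1) (z : B) :
    Phi (trL (A := A) z) t = z := by
  rw [trL_eq_sum b z, Phi_sum]
  have h : ∀ j, Phi ((b.coord j) ∘ₗ LinearMap.mulLeft A (z * b j)) t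
      = z * (b j * Phi (b.coord j) t) := by
    intro j
    rw [← Phi_tmul_one_mul]
    have := ht1 (z * b j)
    rw [sub_mul, sub_eq_zero] at this
    rw [← this, Phi_one_tmul_mul]
    ring
  simp_rw [h]
  rw [← Finset.mul_sum, sum_basis_mul_Phi, ht2, mul_one]

theorem apply_Phi_trL (φ : B →ₗ[A] A) (z : B) (τ : B ⊗[A] B) :
    φ (Phi (trL (A := A) z) τ) = Algebra.trace A B (z * Psi φ τ) := by
  induction τ using TensorProduct.induction_on with
  | zero => simp
  | tmul x y =>
    simp only [Phi_tmul, Psi_tmul, trL_apply, map_smul, smul_eq_mul, mul_smul_comm]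
    ring
  | add x y hx hy => simp only [map_add, hx, hy, mul_add]

theorem isUnit_discr_of_etale {ι : Type} [Fintype ι] [DecidableEq ι] (b : Module.Basis ι A B)
    [Algebra.Etale A B] : IsUnit (Algebra.discr A b) := by
  have : Algebra.FormallyUnramified A B := inferInstance
  obtain ⟨t, ht1, ht2⟩ := Algebra.FormallyUnramified.iff_exists_tensorProduct.mp this
  have key : ∀ (φ : B →ₗ[A] A) (z : B), φ z = Algebra.trace A B (z * Psi φ t) := by
    intro φ z
    rw [← apply_Phi_trL, Phi_trL b t ht1 ht2]
  rw [Algebra.discr_def]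
  apply Matrix.isUnit_det_of_left_inverse
    (B := Matrix.of fun j l => b.repr (Psi (b.coord j) t) l)
  ext j k
  rw [Matrix.mul_apply]
  simp only [Matrix.of_apply, Algebra.traceMatrix_apply, Algebra.traceForm_apply]
  have h1 : ∑ l, b.repr (Psi (b.coord j) t) l * Algebra.trace A B (b l * b k)
      = Algebra.trace A B (b k * Psi (b.coord j) t) := by
    conv_rhs => rw [← b.sum_repr (Psi (b.coord j) t)]
    rw [Finset.mul_sum, map_sum]
    apply Finset.sum_congr rfl
    intro l _
    rw [mul_smul_comm, map_smul, smul_eq_mul, mul_comm (b k)]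
  rw [h1, ← key]
  simp [Matrix.one_apply, Finsupp.single_apply, eq_comm]

end forward

section backward

variable {A : Type u} {B : Type v} [CommRing A] [CommRing B] [Algebra A B]
variable {ι : Type} [Fintype ι] [DecidableEq ι] (b : Module.Basis ι A B)

/-- dual family with respect to the trace form, defined through a matrix `N`. -/
noncomputable def dual (N : Matrix ι ι A) (i : ι) : B := ∑ j, N i j • b j

theorem trace_dual_mul (N : Matrix ι ι A) (hN : N * Algebra.traceMatrix A b = 1) (i k : ι) :
    Algebra.trace A B (dual b N i * b k) = if i = k then 1 else 0 := by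
  have := congrFun (congrFun hN i) k
  rw [Matrix.mul_apply, Matrix.one_apply] at this
  rw [← this, dual, Finset.sum_mul, map_sum]
  apply Finset.sum_congr rfl
  intro j _
  rw [smul_mul_assoc, map_smul, smul_eq_mul, Algebra.traceMatrix_apply, Algebra.traceForm_apply]

theorem repr_eq_trace (N : Matrix ι ι A) (hN : N * Algebra.traceMatrix A b = 1) (x : B) (i : ι) :
    b.repr x i = Algebra.trace A B (x * dual b N i) := by
  have : b.coord i = trL (A := A) (dual b N i) := by
    apply b.ext
    intro k
    rw [trL_apply, trace_dual_mul b N hN]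
    simp [Finsupp.single_apply, eq_comm]
  have h := LinearMap.congr_fun this x
  rw [Module.Basis.coord_apply, trL_apply, mul_comm] at h
  exact h

theorem sum_trace_smul_dual (N : Matrix ι ι A) (hN : Algebra.traceMatrix A b * N = 1) (y : B) :
    ∑ i, Algebra.trace A B (y * b i) • dual b N i = y := by
  have : (∑ i, (trL (A := A) (b i)).smulRight (dual b N i)) = LinearMap.id := by
    apply b.ext
    intro k
    simp only [LinearMap.coe_sum, Finset.sum_apply, LinearMap.smulRight_apply, trL_apply,
      LinearMap.id_apply, dual]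
    simp_rw [Finset.smul_sum, smul_smul]
    rw [Finset.sum_comm]
    have h2 : ∀ j, ∑ i, (Algebra.trace A B (b i * b k) * N i j) • b j
        = (if k = j then (1 : A) else 0) • b j := by
      intro j
      rw [← Finset.sum_smul]
      congr 1
      have := congrFun (congrFun hN k) j
      rw [Matrix.mul_apply, Matrix.one_apply] at this
      rw [← this]
      apply Finset.sum_congr rfl
      intro i _
      rw [Algebra.traceMatrix_apply, Algebra.traceForm_apply, mul_comm (b i)]
    simp_rw [h2]
    simp
  have h := LinearMap.congr_fun this y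
  simp only [LinearMap.coe_sum, Finset.sum_apply, LinearMap.smulRight_apply, trL_apply,
    LinearMap.id_apply] at h
  refine Eq.trans ?_ h
  apply Finset.sum_congr rfl
  intro i _
  rw [mul_comm]

theorem trace_mul_sum (N : Matrix ι ι A) (hN : N * Algebra.traceMatrix A b = 1) (y : B) :
    Algebra.trace A B (y * ∑ i, b i * dual b N i) = Algebra.trace A B y := by
  rw [Finset.mul_sum, map_sum, Algebra.trace_eq_matrix_trace b y, Matrix.trace]
  apply Finset.sum_congr rfl
  intro i _
  rw [Matrix.diag_apply, Algebra.leftMulMatrix_eq_repr_mul, repr_eq_trace b N hN, mul_assoc]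

theorem sum_mul_dual_eq_one (N : Matrix ι ι A) (hN : N * Algebra.traceMatrix A b = 1)
    (hN' : Algebra.traceMatrix A b * N = 1) : ∑ i, b i * dual b N i = 1 := by
  have h1 := sum_trace_smul_dual b N hN' (∑ i, b i * dual b N i)
  have h2 := sum_trace_smul_dual b N hN' 1
  rw [← h1]
  conv_rhs => rw [← h2]
  apply Finset.sum_congr rfl
  intro i _
  rw [mul_comm, trace_mul_sum b N hN, one_mul]

theorem cond_one (N : Matrix ι ι A) (hN : N * Algebra.traceMatrix A b = 1)
    (hN' : Algebra.traceMatrix A b * N = 1) (s : B) :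
    ((1 : B) ⊗ₜ[A] s - s ⊗ₜ[A] (1 : B)) * (∑ i, b i ⊗ₜ[A] dual b N i) = 0 := by
  rw [sub_mul, sub_eq_zero, Finset.mul_sum, Finset.mul_sum]
  simp only [Algebra.TensorProduct.tmul_mul_tmul, one_mul]
  have hL : ∀ k, b k ⊗ₜ[A] (s * dual b N k)
      = ∑ i, Algebra.trace A B (s * dual b N k * b i) • (b k ⊗ₜ[A] dual b N i) := by
    intro k
    conv_lhs => rw [← sum_trace_smul_dual b N hN' (s * dual b N k)]
    rw [TensorProduct.tmul_sum]
    apply Finset.sum_congr rfl
    intro i _
    rw [TensorProduct.tmul_smul]
  have hR : ∀ i, (s * b i) ⊗ₜ[A] dual b N i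
      = ∑ k, Algebra.trace A B (s * dual b N k * b i) • (b k ⊗ₜ[A] dual b N i) := by
    intro i
    conv_lhs => rw [← b.sum_repr (s * b i)]
    rw [TensorProduct.sum_tmul]
    apply Finset.sum_congr rfl
    intro k _
    rw [TensorProduct.smul_tmul', repr_eq_trace b N hN]
    rw [mul_right_comm]
  simp_rw [hL, hR]
  exact Finset.sum_comm

theorem etale_of_isUnit_discr (h : IsUnit (Algebra.discr A b)) : Algebra.Etale A B := by
  rw [Algebra.discr_def, ← Matrix.isUnit_iff_isUnit_det] at h
  obtain ⟨⟨M, N, hMN, hNM⟩, hM⟩ := h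
  simp only at hM
  subst hM
  have : Module.Finite A B := Module.Finite.of_basis b
  have : Module.Free A B := Module.Free.of_basis b
  have : Module.FinitePresentation A B := Module.finitePresentation_of_projective A B
  have : Algebra.FormallyUnramified A B := by
    rw [Algebra.FormallyUnramified.iff_exists_tensorProduct]
    refine ⟨∑ i, b i ⊗ₜ[A] dual b N i, cond_one b N hNM hMN, ?_⟩
    rw [map_sum]
    simp only [Algebra.TensorProduct.lmul'_apply_tmul]
    exact sum_mul_dual_eq_one b N hNM hMN
  exact Algebra.Etale.of_formallyUnramified_of_flat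

end backward

/-- Ring form of the statement: let B be an A-algebra which is finite free as an A-module with basis b.
Then A -> B is etale if and only if the discriminant of b (the determinant of the matrix of traces
Tr(b_i b_j)) is a unit of A, i.e. the discriminant locus is empty. -/
theorem result {A : Type u} {B : Type v} [CommRing A] [CommRing B]
    [Algebra A B] {ι : Type} [Fintype ι] [DecidableEq ι] (b : Module.Basis ι A B) :
    Algebra.Etale A B ↔ IsUnit (Algebra.discr A b) := by
  constructor
  · intro h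
    exact isUnit_discr_of_etale b
  · exact etale_of_isUnit_discr b

end Groth.Agent.S2195
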