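import Groth.Statements.S9386
import Groth.Agent.Lib.OmegaDer81F
import Groth.Agent.Lib.H90OXModAffineIso
import Groth.Agent.Lib.H72PullbackQCoh
import Mathlib.AlgebraicGeometry.Morphisms.Flat

set_option autoImplicit false
universe u
open OmegaSh

namespace Groth.Agent.S9386

open AlgebraicGeometry CategoryTheory Groth.Agent.Lib.OmegaDer81 TensorProduct

section
variable {X S X' S' : Scheme.{u}} (f : X ⟶ S) (g : S' ⟶ S) (g' : X' ⟶ X) (f' : X' ⟶ S')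
    (hsq : IsPullback g' f' f g)
    {V : S.Opens} {V' : S'.Opens} {U : X.Opens}
    (hV : IsAffineOpen V) (hV' : IsAffineOpen V') (hU : IsAffineOpen U)
    (hVV' : V' ≤ g ⁻¹ᵁ V) (e : U ≤ f ⁻¹ᵁ V)

include hsq hV hV' hU hVV' e in
theorem isAffineOpen_chart : IsAffineOpen (g' ⁻¹ᵁ U ⊓ f' ⁻¹ᵁ V') := by
  haveI : IsAffine (V : Scheme) := hV
  haveI : IsAffine (V' : Scheme) := hV'
  haveI : IsAffine (U : Scheme) := hU
  exact .of_isIso (Scheme.Hom.isPullback_resLE hsq hVV' e rfl).isoPullback.hom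

include hsq hV hV' hU in
theorem isPushout_chart :
    IsPushout (f.appLE V U e) (g.appLE V V' hVV')
      (g'.appLE U (g' ⁻¹ᵁ U ⊓ f' ⁻¹ᵁ V') inf_le_left)
      (f'.appLE V' (g' ⁻¹ᵁ U ⊓ f' ⁻¹ᵁ V') inf_le_right) := by
  haveI := isIso_pushoutSection_of_isAffineOpen hsq hVV' e rfl hV hV' hU
  exact (isIso_pushoutSection_iff hsq hVV' e rfl).mp inferInstance

variable {Ω : X.Modules} (d : OmegaSh.Der f Ω) (hd : OmegaSh.IsUniversal d)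
    {Ω' : X'.Modules} (d' : OmegaSh.Der f' Ω') (hd' : OmegaSh.IsUniversal d')
    (c : (Scheme.Modules.pullback g').obj Ω ⟶ Ω') (hc : OmegaSh.IsDiffCompat g' d d' c)

include hsq hV hV' hU hVV' e hd hd' hc in
set_option backward.isDefEq.respectTransparency false in
theorem bijective_app_chart : Function.Bijective (c.app (g' ⁻¹ᵁ U ⊓ f' ⁻¹ᵁ V')) := by
  have hU' := isAffineOpen_chart f g g' f' hsq hV hV' hU hVV' e
  have hpo := isPushout_chart f g g' f' hsq hV hV' hU hVV' e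
  letI : Algebra Γ(S, V) Γ(X, U) := (f.appLE V U e).hom.toAlgebra
  letI : Algebra Γ(S', V') Γ(X', g' ⁻¹ᵁ U ⊓ f' ⁻¹ᵁ V') :=
    (f'.appLE V' (g' ⁻¹ᵁ U ⊓ f' ⁻¹ᵁ V') inf_le_right).hom.toAlgebra
  letI : Algebra Γ(X, U) Γ(X', g' ⁻¹ᵁ U ⊓ f' ⁻¹ᵁ V') :=
    (g'.appLE U (g' ⁻¹ᵁ U ⊓ f' ⁻¹ᵁ V') inf_le_left).hom.toAlgebra
  letI : Algebra Γ(S, V) Γ(S', V') := (g.appLE V V' hVV').hom.toAlgebra
  letI : Algebra Γ(S, V) Γ(X', g' ⁻¹ᵁ U ⊓ f' ⁻¹ᵁ V') :=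
    ((g'.appLE U (g' ⁻¹ᵁ U ⊓ f' ⁻¹ᵁ V') inf_le_left).hom.comp (f.appLE V U e).hom).toAlgebra
  haveI : IsScalarTower Γ(S, V) Γ(X, U) Γ(X', g' ⁻¹ᵁ U ⊓ f' ⁻¹ᵁ V') :=
    .of_algebraMap_eq' rfl
  haveI : IsScalarTower Γ(S, V) Γ(S', V') Γ(X', g' ⁻¹ᵁ U ⊓ f' ⁻¹ᵁ V') := .of_algebraMap_eq' (by
    change (g'.appLE U (g' ⁻¹ᵁ U ⊓ f' ⁻¹ᵁ V') inf_le_left).hom.comp (f.appLE V U e).hom =
      (f'.appLE V' (g' ⁻¹ᵁ U ⊓ f' ⁻¹ᵁ V') inf_le_right).hom.comp (g.appLE V V' hVV').hom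
    rw [← CommRingCat.hom_comp, ← CommRingCat.hom_comp, hpo.w])
  haveI : Algebra.IsPushout Γ(S, V) Γ(S', V') Γ(X, U) Γ(X', g' ⁻¹ᵁ U ⊓ f' ⁻¹ᵁ V') :=
    CommRingCat.isPushout_iff_isPushout.mp hpo.flip
  obtain ⟨κ, h1, -, -, h2⟩ := exists_chart_kappa g' d hd d' hd' c hc hU hV hU' hV' e
    (inf_le_right : g' ⁻¹ᵁ U ⊓ f' ⁻¹ᵁ V' ≤ f' ⁻¹ᵁ V') inf_le_left
  rw [h2]
  exact bijective_lift_of_isPushout κ h1

end

open AlgebraicGeometry CategoryTheory in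

open AlgebraicGeometry CategoryTheory in
/-- For a cartesian square X' = X ×_S S' with projection g' : X' → X, the canonical map g'^*Ω_{X/S} →
Ω_{X'/S'} is an isomorphism (receptacle form: Ω_{X/S}, Ω_{X'/S'} are any modules carrying universal
derivations and the map is pinned by its values on pulled-back differentials). -/
theorem result {X S X' S' : Scheme.{u}} (f : X ⟶ S) (g : S' ⟶ S) (g' : X' ⟶ X) (f' : X' ⟶ S')
    (hsq : IsPullback g' f' f g) (Ω : X.Modules) (d : OmegaSh.Der f Ω) (hd : OmegaSh.IsUniversal d)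
    (Ω' : X'.Modules) (d' : OmegaSh.Der f' Ω') (hd' : OmegaSh.IsUniversal d')
    (c : (Scheme.Modules.pullback g').obj Ω ⟶ Ω') (hc : OmegaSh.IsDiffCompat g' d d' c) : IsIso c := by
  haveI : Ω.IsQuasicoherent := isQuasicoherent_of_isUniversal f d hd
  haveI : Ω'.IsQuasicoherent := isQuasicoherent_of_isUniversal f' d' hd'
  let ι : Type u := {t : S.affineOpens × S'.affineOpens × X.affineOpens //
    t.2.1.1 ≤ g ⁻¹ᵁ t.1.1 ∧ t.2.2.1 ≤ f ⁻¹ᵁ t.1.1}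
  refine Groth.Agent.Lib.H90OXModAffineIso.isIso_of_bijective_app_affine_cover c
    (fun i : ι => g' ⁻¹ᵁ i.1.2.2.1 ⊓ f' ⁻¹ᵁ i.1.2.1.1) ?_
    (fun i => isAffineOpen_chart f g g' f' hsq i.1.1.2 i.1.2.1.2 i.1.2.2.2 i.2.1 i.2.2)
    (fun i => bijective_app_chart f g g' f' hsq i.1.1.2 i.1.2.1.2 i.1.2.2.2 i.2.1 i.2.2
      d hd d' hd' c hc)
  rw [eq_top_iff]
  intro x _
  obtain ⟨_, ⟨V, hV, rfl⟩, hxV, -⟩ :=
    S.isBasis_affineOpens.exists_subset_of_mem_open (Set.mem_univ (f (g' x))) isOpen_univ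
  have hw : g (f' x) = f (g' x) := by
    rw [← Scheme.Hom.comp_apply, ← Scheme.Hom.comp_apply, hsq.w]
  obtain ⟨_, ⟨V', hV', rfl⟩, hxV', hVV'⟩ :=
    S'.isBasis_affineOpens.exists_subset_of_mem_open (show f' x ∈ g ⁻¹ᵁ V from by
      change g (f' x) ∈ V
      rw [hw]
      exact hxV) (g ⁻¹ᵁ V).isOpen
  obtain ⟨_, ⟨U, hU, rfl⟩, hxU, hUV⟩ :=
    X.isBasis_affineOpens.exists_subset_of_mem_open (show g' x ∈ f ⁻¹ᵁ V from hxV)
      (f ⁻¹ᵁ V).isOpen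
  exact TopologicalSpace.Opens.mem_iSup.mpr
    ⟨⟨⟨⟨V, hV⟩, ⟨V', hV'⟩, ⟨U, hU⟩⟩, hVV', hUV⟩, hxU, hxV'⟩

end Groth.Agent.S9386
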