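import Groth.Statements.S5754
import Groth.Agent.Lib.DepthBasic
import Mathlib.RingTheory.Ideal.AssociatedPrime.Localization

set_option autoImplicit false
universe u
open EGA41

namespace Groth.Agent.S5754

/-- Let A be a Noetherian ring, M a finitely generated A-module and t an element of A which is
M-regular. For every associated prime p of M, every prime ideal minimal among those containing p +
tA is an associated prime of M/tM. -/
theorem result (A : Type u) [CommRing A]
    [IsNoetherianRing A] (M : Type u) [AddCommGroup M] [Module A M] [Module.Finite A M] (t : A)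
    (ht : IsSMulRegular M t) (p : Ideal A) (hp : p ∈ associatedPrimes A M) (q : Ideal A)
    (hq : q ∈ (p ⊔ Ideal.span {t}).minimalPrimes) : q ∈ associatedPrimes A (QuotSMulTop t M) := by
  classical
  obtain ⟨hprime, m0, hm0⟩ := isAssociatedPrime_iff.mp hp
  have hm0ne : m0 ≠ 0 := by
    rintro rfl
    apply hprime.ne_top
    rw [hm0, Ideal.eq_top_iff_one, Submodule.mem_colon_singleton]
    simp
  have hqprime : q.IsPrime := hq.1.1
  have hpq : p ≤ q := le_trans le_sup_left hq.1.2
  have htq : t ∈ q := hq.1.2 (Ideal.mem_sup_right (Ideal.subset_span rfl))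
  set K := Groth.Agent.Lib.DepthBasic.killedBy p M with hK
  have hm0K : m0 ∈ K := by
    intro a ha
    rw [hm0, Submodule.mem_colon_singleton, Submodule.mem_bot] at ha
    exact ha
  -- injectivity of K/tK → M/tM
  have hinj : Function.Injective (QuotSMulTop.map t K.subtype) := by
    rw [← LinearMap.ker_eq_bot, LinearMap.ker_eq_bot']
    intro x hx
    obtain ⟨k, rfl⟩ := Submodule.mkQ_surjective _ x
    rw [Submodule.mkQ_apply] at hx ⊢
    change QuotSMulTop.map t K.subtype (Submodule.Quotient.mk k) = 0 at hx
    rw [QuotSMulTop.map_apply_mk, Submodule.Quotient.mk_eq_zero,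
      Submodule.mem_smul_pointwise_iff_exists] at hx
    obtain ⟨m, -, hm⟩ := hx
    have hmK : m ∈ K := by
      intro a ha
      apply ht
      simp only [smul_zero]
      rw [smul_comm, hm]
      exact k.2 a ha
    rw [Submodule.Quotient.mk_eq_zero, Submodule.mem_smul_pointwise_iff_exists]
    refine ⟨⟨m, hmK⟩, Submodule.mem_top, ?_⟩
    apply Subtype.ext
    simpa using hm
  -- q in the support of K/tK
  have hannK : (Module.annihilator A K) ≤ p := by
    intro a ha
    rw [hm0, Submodule.mem_colon_singleton, Submodule.mem_bot]
    have := Module.mem_annihilator.mp ha ⟨m0, hm0K⟩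
    simpa using congrArg Subtype.val this
  have hqsuppK : (⟨q, hqprime⟩ : PrimeSpectrum A) ∈ Module.support A K := by
    rw [Module.mem_support_iff_of_finite]
    exact le_trans hannK hpq
  have hqsupp : (⟨q, hqprime⟩ : PrimeSpectrum A) ∈ Module.support A (QuotSMulTop t K) := by
    rw [Module.support_quotSMulTop]
    refine ⟨hqsuppK, ?_⟩
    simpa using htq
  have hannN : p ⊔ Ideal.span {t} ≤ Module.annihilator A (QuotSMulTop t K) := by
    rw [sup_le_iff, Ideal.span_le, Set.singleton_subset_iff]
    constructor
    · intro a ha
      rw [Module.mem_annihilator]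
      intro x
      obtain ⟨k, rfl⟩ := Submodule.mkQ_surjective _ x
      rw [← map_smul]
      have : a • k = 0 := Subtype.ext (by simpa using k.2 a ha)
      rw [this, map_zero]
    · rw [SetLike.mem_coe, Module.mem_annihilator]
      intro x
      obtain ⟨k, rfl⟩ := Submodule.mkQ_surjective _ x
      rw [← map_smul, Submodule.mkQ_apply, Submodule.Quotient.mk_eq_zero]
      exact Submodule.smul_mem_pointwise_smul k t ⊤ Submodule.mem_top
  have hqmin : q ∈ (Module.annihilator A (QuotSMulTop t K)).minimalPrimes := by
    refine ⟨⟨hqprime, ?_⟩, ?_⟩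
    · rw [Module.mem_support_iff_of_finite] at hqsupp
      exact hqsupp
    · intro r ⟨hr1, hr2⟩ hrq
      exact hq.2 ⟨hr1, le_trans hannN hr2⟩ hrq
  have hqass : q ∈ associatedPrimes A (QuotSMulTop t K) :=
    Module.associatedPrimes.minimalPrimes_annihilator_subset_associatedPrimes A _ hqmin
  exact associatedPrimes.subset_of_injective hinj hqass

end Groth.Agent.S5754
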