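import Groth.Statements.S2925
import Groth.Agent.Lib.IsQuot45
import Groth.Agent.Lib.DescendMor45

set_option autoImplicit false
open CategoryTheory CategoryTheory.Limits AlgebraicGeometry
universe u
open SGA1

namespace Groth.Agent.S2925

/-- Let a finite group G act on a scheme X and let p : X ⟶ Y be a quotient of X by G. Then every
G-invariant morphism X ⟶ Z factors uniquely through p. -/
theorem result {X Y : Scheme.{u}} {G : Type u} [Group G] [Finite G] (ρ : G →* Aut X)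
    (p : X ⟶ Y) (hp : SGA1.IsQuot ρ p) (Z : Scheme.{u}) (h : X ⟶ Z) (hh : ∀ g : G, (ρ g).hom ≫ h = h) :
    ∃! h' : Y ⟶ Z, p ≫ h' = h := by
  have hsurj := Groth.Agent.Lib.IsQuot45.surjective hp
  have : Surjective p := ⟨hsurj⟩
  have hepi : Epi p := Groth.Agent.S2913.result p hp.injective
  have hfib : ∀ x x' : X, p x = p x' → h x = h x' := by
    intro x x' hxx'
    obtain ⟨g, rfl⟩ := (Groth.Agent.Lib.IsQuot45.eq_iff_exists_smul hp x x').mp hxx'
    rw [← Scheme.Hom.comp_apply, hh g]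
  have hsec : ∀ (U : Y.Opens) (W : Z.Opens) (e : p ⁻¹ᵁ U ≤ h ⁻¹ᵁ W) (s : Γ(Z, W)),
      (h.appLE W (p ⁻¹ᵁ U) e).hom s ∈ Set.range (p.app U).hom := by
    intro U W e s
    rw [hp.range_iff U]
    intro g
    have h1 : h.appLE W (p ⁻¹ᵁ U) e ≫
        (ρ g).hom.appLE (p ⁻¹ᵁ U) (p ⁻¹ᵁ U) (SGA1.preimage_le_of_inv ρ p hp.inv g U) =
        h.appLE W (p ⁻¹ᵁ U) e := by
      rw [Scheme.Hom.appLE_comp_appLE, Groth.Agent.Lib.IsQuot45.appLE_congr_hom (hh g)]
    exact congrArg (fun ψ => ψ.hom s) h1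
  obtain ⟨h', hh'⟩ := Groth.Agent.Lib.DescendMor45.exists_descend p h
    (Groth.Agent.Lib.IsQuot45.isQuotientMap hp) hp.injective hfib hsec
  exact ⟨h', hh', fun h'' hh'' => (cancel_epi p).mp (hh''.trans hh'.symm)⟩

end Groth.Agent.S2925
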