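import Groth.Statements.S2909
import Mathlib
import Groth.Agent.Lib.QuotAffine37

set_option autoImplicit false
open CategoryTheory CategoryTheory.Limits AlgebraicGeometry
universe u
open SGA1

namespace Groth.Agent.S2909

open Groth.Agent.Lib

/-- Let a finite group G act on a scheme X by automorphisms over a scheme Z (structure morphism f), and
let p : X ⟶ Y be a quotient of X by G with Y ⟶ Z the induced morphism q (so p ≫ q = f). Then X is
affine over Z iff Y is, X is separated over Z iff Y is; if f is locally of finite type then p is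
finite; and if moreover Z is locally Noetherian and f quasi-compact then q is of finite type
(locally of finite type and quasi-compact). -/
theorem result {X Y Z : Scheme.{u}} {G : Type u} [Group G] [Finite G] (ρ : G →* Aut X)
    (p : X ⟶ Y) (hp : SGA1.IsQuot ρ p) (f : X ⟶ Z) (q : Y ⟶ Z) (hq : p ≫ q = f) (hρ : ∀ g : G, (ρ g).hom ≫ f = f) :
    (IsAffineHom f ↔ IsAffineHom q) ∧ (IsSeparated f ↔ IsSeparated q) ∧
    (LocallyOfFiniteType f → IsFinite p) ∧
    (IsLocallyNoetherian Z → LocallyOfFiniteType f → QuasiCompact f → LocallyOfFiniteType q ∧ QuasiCompact q) := by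
  subst hq
  have hpa := hp.affine
  have hpint : IsIntegralHom p := IsQuot45.isIntegralHom hp
  have hpsurj : Surjective p := ⟨IsQuot45.surjective hp⟩
  have hfin : LocallyOfFiniteType (p ≫ q) → IsFinite p := by
    intro h
    have : LocallyOfFiniteType p := locallyOfFiniteType_of_comp p q
    exact (IsFinite.iff_isIntegralHom_and_locallyOfFiniteType p).mpr ⟨hpint, this⟩
  refine ⟨⟨fun h => QuotAffine37.isAffineHom_of_comp hp q, fun h => inferInstance⟩,
    ⟨fun h => ?_, fun h => inferInstance⟩, hfin, ?_⟩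
  · -- separatedness descends
    refine ⟨?_⟩
    apply IsClosedImmersion.of_isPreimmersion
    have hPP : UniversallyClosed (pullback.map (p ≫ q) (p ≫ q) q q p p (𝟙 Z)
        ((Category.comp_id _).trans rfl) ((Category.comp_id _).trans rfl)) :=
      MorphismProperty.pullbackMap (P := @UniversallyClosed) inferInstance inferInstance rfl rfl
    have hcomm : pullback.diagonal (p ≫ q) ≫ (pullback.map (p ≫ q) (p ≫ q) q q p p (𝟙 Z)
        ((Category.comp_id _).trans rfl) ((Category.comp_id _).trans rfl)) =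
        p ≫ pullback.diagonal q := by
      have e1 : ∀ h1 h2, pullback.map (p ≫ q) (p ≫ q) q q p p (𝟙 Z) h1 h2 ≫ pullback.fst q q =
          pullback.fst (p ≫ q) (p ≫ q) ≫ p := fun _ _ => pullback.lift_fst _ _ _
      have e2 : ∀ h1 h2, pullback.map (p ≫ q) (p ≫ q) q q p p (𝟙 Z) h1 h2 ≫ pullback.snd q q =
          pullback.snd (p ≫ q) (p ≫ q) ≫ p := fun _ _ => pullback.lift_snd _ _ _
      apply pullback.hom_ext
      · rw [Category.assoc, e1]; simp
      · rw [Category.assoc, e2]; simp
    have hrange : Set.range (pullback.diagonal q) =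
        (pullback.map (p ≫ q) (p ≫ q) q q p p (𝟙 Z)
          ((Category.comp_id _).trans rfl) ((Category.comp_id _).trans rfl)) ''
          Set.range (pullback.diagonal (p ≫ q)) := by
      rw [← Set.range_comp]
      have h1 : Set.range (pullback.diagonal q) = Set.range (p ≫ pullback.diagonal q) := by
        change _ = Set.range ((pullback.diagonal q) ∘ p)
        rw [Set.range_comp, Set.range_eq_univ.mpr p.surjective, Set.image_univ]
      rw [h1, ← hcomm]
      rfl
    rw [hrange]
    exact Scheme.Hom.isClosedMap _ _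
      (pullback.diagonal (p ≫ q)).isClosedEmbedding.isClosed_range
  · intro hZ hlft hqc
    have hfinp : IsFinite p := hfin hlft
    refine ⟨?_, ?_⟩
    · rw [HasRingHomProperty.iff_appLE (P := @LocallyOfFiniteType)]
      intro U V e
      have hT : IsAffineOpen (p ⁻¹ᵁ V.1) := V.2.preimage p
      have hcomp : q.appLE U.1 V.1 e ≫ p.app V.1 =
          (p ≫ q).appLE U.1 (p ⁻¹ᵁ V.1) (fun x hx => e hx) := by
        rw [← Scheme.Hom.appLE_eq_app, Scheme.Hom.appLE_comp_appLE]
      have hAC : ((p ≫ q).appLE U.1 (p ⁻¹ᵁ V.1) (fun x hx => e hx)).hom.FiniteType :=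
        HasRingHomProperty.appLE (P := @LocallyOfFiniteType) (p ≫ q) hlft U ⟨_, hT⟩ _
      have hBC : (p.app V.1).hom.Finite := IsFinite.finite_app p V.1 V.2
      have hnoeth : IsNoetherianRing Γ(Z, U.1) := IsLocallyNoetherian.component_noetherian U
      letI algAB : Algebra Γ(Z, U.1) Γ(Y, V.1) := (q.appLE U.1 V.1 e).hom.toAlgebra
      letI algBC : Algebra Γ(Y, V.1) Γ(X, p ⁻¹ᵁ V.1) := (p.app V.1).hom.toAlgebra
      letI algAC : Algebra Γ(Z, U.1) Γ(X, p ⁻¹ᵁ V.1) :=
        ((p ≫ q).appLE U.1 (p ⁻¹ᵁ V.1) (fun x hx => e hx)).hom.toAlgebra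
      haveI : IsScalarTower Γ(Z, U.1) Γ(Y, V.1) Γ(X, p ⁻¹ᵁ V.1) :=
        IsScalarTower.of_algebraMap_eq (fun a => by
          have := congrArg (fun φ => φ.hom a) hcomp
          exact this.symm)
      have h1 : (⊤ : Subalgebra Γ(Z, U.1) Γ(X, p ⁻¹ᵁ V.1)).FG := hAC.out
      have h2 : (⊤ : Submodule Γ(Y, V.1) Γ(X, p ⁻¹ᵁ V.1)).FG := Module.Finite.fg_top (self := hBC)
      have h3 := fg_of_fg_of_fg Γ(Z, U.1) Γ(Y, V.1) Γ(X, p ⁻¹ᵁ V.1) h1 h2 (hp.injective V.1)
      exact ⟨h3⟩
    · refine ⟨fun U hU hUc => ?_⟩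
      have hc := hqc.isCompact_preimage U hU hUc
      have heq : q ⁻¹' U = p '' ((p ≫ q) ⁻¹' U) := by
        ext y
        constructor
        · intro hy
          obtain ⟨x, rfl⟩ := p.surjective y
          exact ⟨x, hy, rfl⟩
        · rintro ⟨x, hx, rfl⟩
          exact hx
      rw [heq]
      exact hc.image p.continuous

end Groth.Agent.S2909
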