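import Groth.Statements.S7490
import Mathlib.CategoryTheory.Sites.RegularEpi

set_option autoImplicit false
open CategoryTheory CategoryTheory.Limits AlgebraicGeometry
universe u
open QuotSh

namespace Groth.Agent.S7490

section aux

variable (K : Precoverage Scheme.{u}) {S : Scheme.{u}}

/-- `V ↦ h_V` as a functor. -/
noncomputable def repF : Over S ⥤ QuotSh.Sh K S :=
  yoneda ⋙ (Functor.whiskeringRight _ _ _).obj uliftFunctor.{u + 1, u} ⋙
    presheafToSheaf (QuotSh.J K S) (Type (u + 1))

theorem repF_map {V W : Over S} (g : V ⟶ W) : (repF K).map g = QuotSh.repMap K g := rfl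

theorem repMap_comp {V W X : Over S} (g : V ⟶ W) (g' : W ⟶ X) :
    QuotSh.repMap K (g ≫ g') = QuotSh.repMap K g ≫ QuotSh.repMap K g' :=
  (repF K).map_comp g g'

noncomputable instance : PreservesLimitsOfShape WalkingCospan (repF K (S := S)) := by
  unfold repF
  infer_instance

theorem main {R U M P : Over S} (s t : R ⟶ U) (q : U ⟶ M) (w : s ≫ q = t ≫ q)
    (f₁ f₂ : P ⟶ U) (hP : IsPullback f₁ f₂ q q) (j : R ⟶ P) (hj₁ : j ≫ f₁ = t) (hj₂ : j ≫ f₂ = s)
    (h₂ : Epi (QuotSh.repMap K q)) (h₃ : Epi (QuotSh.repMap K j)) :
    IsIso (QuotSh.quotDesc K q w) := by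
  have hk : IsKernelPair (QuotSh.repMap K q) (QuotSh.repMap K f₁) (QuotSh.repMap K f₂) :=
    hP.map (repF K)
  have hreg : IsRegularEpi (QuotSh.repMap K q) := IsRegularEpiCategory.regularEpiOfEpi _
  have hc := hk.toCoequalizer'
  have w'' : QuotSh.repMap K s ≫ QuotSh.repMap K q = QuotSh.repMap K t ≫ QuotSh.repMap K q := by
    rw [← repMap_comp, ← repMap_comp, w]
  -- the cofork `h_q` is a coequalizer of `h_s, h_t`
  have hc' : IsColimit (Cofork.ofπ (QuotSh.repMap K q) w'') := by
    apply Cofork.IsColimit.mk'
    intro c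
    have hcond : QuotSh.repMap K f₁ ≫ c.π = QuotSh.repMap K f₂ ≫ c.π := by
      rw [← cancel_epi (QuotSh.repMap K j), ← Category.assoc, ← Category.assoc, ← repMap_comp,
        ← repMap_comp, hj₁, hj₂]
      exact c.condition.symm
    refine ⟨Cofork.IsColimit.desc hc c.π hcond, ?_, ?_⟩
    · exact Cofork.IsColimit.π_desc' hc c.π hcond
    · intro m hm
      apply Cofork.IsColimit.hom_ext hc
      rw [Cofork.IsColimit.π_desc' hc c.π hcond]
      exact hm
  have e : QuotSh.quotDesc K q w =
      ((colimit.isColimit (parallelPair (QuotSh.repMap K s) (QuotSh.repMap K t))).coconePointUniqueUpToIso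
        hc').hom := by
    apply coequalizer.hom_ext
    unfold QuotSh.quotDesc
    rw [coequalizer.π_desc]
    exact ((colimit.isColimit _).comp_coconePointUniqueUpToIso_hom hc' WalkingParallelPair.one).symm
  rw [e]
  infer_instance

end aux

/-- Let K be a precoverage on schemes (the topology τ), S a scheme, s, t : R -> U morphisms of schemes
over S (a pre-relation) and q : U -> M a morphism over S such that (1) q coequalizes s and t, (2)
the induced map of τ-sheaves h_U -> h_M is an epimorphism, and (3) the map h_R -> h_(U x_M U)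
induced by (t, s) is an epimorphism of τ-sheaves. Then M, through q, represents the quotient sheaf
U/R: the canonical map from the coequalizer of h_s, h_t to h_M is an isomorphism. (The published
statement takes τ to be the Zariski, étale, fppf, smooth or syntomic topology; this row allows the
topology generated by any precoverage K.) -/
theorem result (K : Precoverage Scheme.{u}) {S : Scheme.{u}} {R U M : Over S} (s t : R ⟶ U) (q : U ⟶ M) (w : s ≫ q = t ≫ q) (w' : t.left ≫ q.left = s.left ≫ q.left) (h₂ : Epi (QuotSh.repMap K q)) (h₃ : Epi (QuotSh.repMap K (Over.homMk (pullback.lift t.left s.left w') (((Category.assoc _ _ _).symm.trans (congrArg (fun k => k ≫ U.hom) (pullback.lift_fst t.left s.left w'))).trans (Over.w t)) : R ⟶ Over.mk (pullback.fst q.left q.left ≫ U.hom)))) : QuotSh.IsQuotient K s t q := by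
  refine ⟨w, ?_⟩
  have hsnd : pullback.snd q.left q.left ≫ U.hom = pullback.fst q.left q.left ≫ U.hom := by
    rw [← Over.w q, ← Category.assoc, ← Category.assoc, pullback.condition]
  let f₁ : Over.mk (pullback.fst q.left q.left ≫ U.hom) ⟶ U :=
    Over.homMk (pullback.fst q.left q.left) rfl
  let f₂ : Over.mk (pullback.fst q.left q.left ≫ U.hom) ⟶ U :=
    Over.homMk (pullback.snd q.left q.left) hsnd
  have hP : IsPullback f₁ f₂ q q := by
    apply IsPullback.of_map (Over.forget S) (Over.OverMorphism.ext pullback.condition)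
    exact IsPullback.of_hasPullback q.left q.left
  refine main K s t q w f₁ f₂ hP _ ?_ ?_ h₂ h₃
  · exact Over.OverMorphism.ext (pullback.lift_fst _ _ _)
  · exact Over.OverMorphism.ext (pullback.lift_snd _ _ _)

end Groth.Agent.S7490
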