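import Groth.Statements.S1878
import Groth.Agent.Lib.H8AffGrpdPoly
import Groth.Agent.Lib.AffGrpd13f

set_option autoImplicit false
universe u
open CategoryTheory CategoryTheory.Limits AlgebraicGeometry
open Grpd

namespace Groth.Agent.S1878


open Groth.Agent.Lib.AffGrpd13 Groth.Agent.Lib.H8AffGrpdPoly

theorem toQuot_apply {S : Scheme.{u}} (G : Grpd.GroupoidScheme S) (u : G.U) :
    G.toQuot u = PrimeSpectrum.comap G.invariants.subtype (G.U.toSpecΓ u) := rfl

theorem toSpecΓ_t {S : Scheme.{u}} (G : Grpd.GroupoidScheme S) (r : G.R) :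
    G.U.toSpecΓ (G.t r) = PrimeSpectrum.comap G.t.appTop.hom (G.R.toSpecΓ r) := by
  have := congrArg (fun φ : G.R ⟶ Spec Γ(G.U, ⊤) => φ r) (Scheme.toSpecΓ_naturality G.t)
  exact this

theorem toSpecΓ_s {S : Scheme.{u}} (G : Grpd.GroupoidScheme S) (r : G.R) :
    G.U.toSpecΓ (G.s r) = PrimeSpectrum.comap G.s.appTop.hom (G.R.toSpecΓ r) := by
  have := congrArg (fun φ : G.R ⟶ Spec Γ(G.U, ⊤) => φ r) (Scheme.toSpecΓ_naturality G.s)
  exact this

/-- Let (U, R, s, t, c) be a groupoid scheme over S with U, R affine and s, t finite locally free, and M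
= Spec C. (1) U → M is surjective and two points of U have the same image iff some point of R has
them as target and source. (2) For every algebraically closed field k, M(k) = U(k)/R(k): every
k-point of M lifts to U, and two k-points of U agree in M iff they are the target and source of a
k-point of R. (A groupoid scheme carries U, R, s, t, c, e, i over S with the groupoid axioms on
T-points; 'finite locally free' is finite, flat and locally of finite presentation; C ⊂ Γ(U) is the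
ring of functions a with s♯(a) = t♯(a) and M = Spec C.) -/
theorem result (S : Scheme.{u}) (G : Grpd.GroupoidScheme S) [IsAffine G.U] [IsAffine G.R] [IsFinite G.s] [Flat G.s] [LocallyOfFinitePresentation G.s] [IsFinite G.t] [Flat G.t] [LocallyOfFinitePresentation G.t] : (Function.Surjective G.toQuot ∧ ∀ u₀ u₁ : G.U, G.toQuot u₀ = G.toQuot u₁ ↔ ∃ r : G.R, G.t r = u₀ ∧ G.s r = u₁) ∧ ∀ (k : Type u) [Field k] [IsAlgClosed k], (∀ m : Spec (CommRingCat.of k) ⟶ Spec (CommRingCat.of G.invariants), ∃ x : Spec (CommRingCat.of k) ⟶ G.U, x ≫ G.toQuot = m) ∧ ∀ x₀ x₁ : Spec (CommRingCat.of k) ⟶ G.U, x₀ ≫ G.toQuot = x₁ ≫ G.toQuot ↔ ∃ r : Spec (CommRingCat.of k) ⟶ G.R, r ≫ G.t = x₀ ∧ r ≫ G.s = x₁ := by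
  classical
  let 𝒢 := ofGroupoid G
  let alg : Algebra Γ(G.U, ⊤) Γ(G.R, ⊤) := 𝒢.s.hom.toAlgebra
  have hfin : Module.Finite Γ(G.U, ⊤) Γ(G.R, ⊤) := ofGroupoid_finite G
  have hproj : Module.Projective Γ(G.U, ⊤) Γ(G.R, ⊤) := ofGroupoid_projective G
  obtain ⟨n, τ, i, -, -, hτi⟩ :=
    Module.Finite.exists_comp_eq_id_of_projective Γ(G.U, ⊤) Γ(G.R, ⊤)
  have hint : Algebra.IsIntegral G.invariants Γ(G.U, ⊤) := 𝒢.isIntegral hfin hproj
  have hint' : G.invariants.subtype.IsIntegral := algebraMap_isIntegral_iff.mpr hint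
  have hUinj : Function.Injective G.U.toSpecΓ := by
    have : IsIso G.U.toSpecΓ := inferInstance
    exact (G.U.toSpecΓ.homeomorph).injective
  have hUsurj : Function.Surjective G.U.toSpecΓ := (G.U.toSpecΓ.homeomorph).surjective
  have hRsurj : Function.Surjective G.R.toSpecΓ := (G.R.toSpecΓ.homeomorph).surjective
  refine ⟨⟨?_, ?_⟩, fun k _ _ => ⟨?_, ?_⟩⟩
  · intro m
    obtain ⟨p, hp⟩ := hint'.comap_surjective Subtype.val_injective m
    obtain ⟨u, rfl⟩ := hUsurj p
    exact ⟨u, hp⟩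
  · intro u₀ u₁
    constructor
    · intro h
      rw [toQuot_apply, toQuot_apply] at h
      have h' : ∀ c ∈ 𝒢.inv, c ∈ (G.U.toSpecΓ u₀).asIdeal ↔ c ∈ (G.U.toSpecΓ u₁).asIdeal := by
        intro c hc
        have := congrArg (fun p : PrimeSpectrum G.invariants => (⟨c, hc⟩ : G.invariants) ∈ p.asIdeal) h
        simpa using this
      obtain ⟨q, hqt, hqs⟩ := exists_prime_of_comap_inv_eq 𝒢 i τ hτi _ _ h'
      obtain ⟨r, rfl⟩ := hRsurj q
      refine ⟨r, hUinj ?_, hUinj ?_⟩
      · rw [toSpecΓ_t]; exact hqt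
      · rw [toSpecΓ_s]; exact hqs
    · rintro ⟨r, rfl, rfl⟩
      have := congrArg (fun φ : G.R ⟶ Spec (CommRingCat.of G.invariants) => φ r) (toQuot_comm G)
      exact this
  · intro m
    let φ : CommRingCat.of G.invariants ⟶ CommRingCat.of k := Spec.preimage m
    have hφ : Spec.map φ = m := Spec.map_preimage m
    have hker : (RingHom.ker φ.hom).IsPrime := RingHom.ker_isPrime _
    obtain ⟨Q, -, hQ, hQc⟩ := Ideal.exists_ideal_over_prime_of_isIntegral (RingHom.ker φ.hom)
      (⊥ : Ideal Γ(G.U, ⊤)) (by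
        rw [Ideal.comap_bot_of_injective _ (by exact Subtype.val_injective)]
        exact bot_le)
    obtain ⟨ρ, hρ, -⟩ := exists_ringHom_ext_of_isIntegral G.invariants.subtype hint' φ.hom Q hQc
    refine ⟨Spec.map (CommRingCat.ofHom ρ) ≫ G.U.isoSpec.inv, ?_⟩
    have e1 : G.U.isoSpec.inv ≫ G.toQuot =
        Spec.map (CommRingCat.ofHom G.invariants.subtype) := by
      unfold GroupoidScheme.toQuot
      rw [← Scheme.isoSpec_hom, Iso.inv_hom_id_assoc]
    rw [Category.assoc, e1, ← Spec.map_comp, ← hφ]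
    congr 1
    apply CommRingCat.hom_ext
    exact hρ
  · intro x₀ x₁
    constructor
    · intro h
      let φ₀ : Γ(G.U, ⊤) ⟶ CommRingCat.of k := Spec.preimage (x₀ ≫ G.U.toSpecΓ)
      let φ₁ : Γ(G.U, ⊤) ⟶ CommRingCat.of k := Spec.preimage (x₁ ≫ G.U.toSpecΓ)
      have hφ₀ : Spec.map φ₀ = x₀ ≫ G.U.toSpecΓ := Spec.map_preimage _
      have hφ₁ : Spec.map φ₁ = x₁ ≫ G.U.toSpecΓ := Spec.map_preimage _
      have heq : CommRingCat.ofHom G.invariants.subtype ≫ φ₀ =
          CommRingCat.ofHom G.invariants.subtype ≫ φ₁ := by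
        apply Spec.map_injective
        rw [Spec.map_comp, Spec.map_comp, hφ₀, hφ₁, Category.assoc, Category.assoc]
        exact h
      have h' : ∀ c ∈ 𝒢.inv, φ₀.hom c = φ₁.hom c := fun c hc => by
        have := congrArg (fun ψ : CommRingCat.of G.invariants ⟶ CommRingCat.of k =>
          ψ.hom ⟨c, hc⟩) heq
        exact this
      obtain ⟨ρ, hρt, hρs⟩ := exists_ringHom_of_eqOn_inv 𝒢 i τ hτi φ₀.hom φ₁.hom h'
      refine ⟨Spec.map (CommRingCat.ofHom ρ) ≫ G.R.isoSpec.inv, ?_, ?_⟩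
      · rw [← cancel_mono G.U.toSpecΓ, Category.assoc, Category.assoc,
          Scheme.toSpecΓ_naturality, ← Scheme.isoSpec_hom, Iso.inv_hom_id_assoc, ← Spec.map_comp,
          ← hφ₀]
        congr 1
        apply CommRingCat.hom_ext
        exact hρt
      · rw [← cancel_mono G.U.toSpecΓ, Category.assoc, Category.assoc,
          Scheme.toSpecΓ_naturality, ← Scheme.isoSpec_hom, Iso.inv_hom_id_assoc, ← Spec.map_comp,
          ← hφ₁]
        congr 1
        apply CommRingCat.hom_ext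
        exact hρs
    · rintro ⟨r, rfl, rfl⟩
      rw [Category.assoc, Category.assoc, toQuot_comm]

end Groth.Agent.S1878
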