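import Groth.Statements.S7500
import Groth.Agent.Lib.GrpdPts

set_option autoImplicit false
universe u
open CategoryTheory CategoryTheory.Limits AlgebraicGeometry
open Grpd

namespace Groth.Agent.S7500

open Groth.Agent.Lib.GrpdPts

section aux

variable {S : Scheme.{u}} (G : Grpd.GroupoidScheme S)

theorem j_fst : G.j ≫ pullback.fst G.pU G.pU = G.t := pullback.lift_fst _ _ _
theorem j_snd : G.j ≫ pullback.snd G.pU G.pU = G.s := pullback.lift_snd _ _ _
theorem diag_fst : G.diag ≫ pullback.fst G.pU G.pU = 𝟙 _ := pullback.lift_fst _ _ _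
theorem diag_snd : G.diag ≫ pullback.snd G.pU G.pU = 𝟙 _ := pullback.lift_snd _ _ _

theorem stab_fst_s : pullback.fst G.j G.diag ≫ G.s = pullback.snd G.j G.diag := by
  rw [← j_snd, ← Category.assoc, pullback.condition, Category.assoc, diag_snd, Category.comp_id]

theorem stab_fst_t : pullback.fst G.j G.diag ≫ G.t = pullback.snd G.j G.diag := by
  rw [← j_fst, ← Category.assoc, pullback.condition, Category.assoc, diag_fst, Category.comp_id]

theorem jj_t : pullback.fst G.j G.j ≫ G.t = pullback.snd G.j G.j ≫ G.t := by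
  rw [← j_fst, ← Category.assoc, pullback.condition, Category.assoc]

theorem jj_s : pullback.fst G.j G.j ≫ G.s = pullback.snd G.j G.j ≫ G.s := by
  rw [← j_snd, ← Category.assoc, pullback.condition, Category.assoc]

/-- The candidate inverse, first component: `r₁ ∘ r₂⁻¹` as a point of the stabilizer. -/
noncomputable def δ₁ : pullback G.j G.j ⟶ pullback G.j G.diag :=
  pullback.lift (cmp G (pullback.fst G.j G.j) (pullback.snd G.j G.j ≫ G.i))
    (pullback.snd G.j G.j ≫ G.t) (by
      have h1 : pullback.fst G.j G.j ≫ G.s = (pullback.snd G.j G.j ≫ G.i) ≫ G.t := by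
        rw [Category.assoc, G.i_t, jj_s]
      apply pullback.hom_ext
      · rw [Category.assoc, j_fst, cmp_t h1, Category.assoc, diag_fst, Category.comp_id, jj_t]
      · rw [Category.assoc, j_snd, cmp_s h1]
        simp only [Category.assoc]
        rw [diag_snd, Category.comp_id, G.i_s])

theorem δ₁_fst : δ₁ G ≫ pullback.fst G.j G.diag =
    cmp G (pullback.fst G.j G.j) (pullback.snd G.j G.j ≫ G.i) := pullback.lift_fst _ _ _

theorem δ₁_snd : δ₁ G ≫ pullback.snd G.j G.diag = pullback.snd G.j G.j ≫ G.t :=
  pullback.lift_snd _ _ _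

/-- The candidate inverse of `β`. -/
noncomputable def δ : pullback G.j G.j ⟶ pullback (pullback.snd G.j G.diag) G.t :=
  pullback.lift (δ₁ G) (pullback.snd G.j G.j) (δ₁_snd G)

theorem main (α : pullback (pullback.snd G.j G.diag) G.t ⟶ pullback G.s G.t)
    (hα₁ : α ≫ pullback.fst G.s G.t =
      pullback.fst (pullback.snd G.j G.diag) G.t ≫ pullback.fst G.j G.diag)
    (hα₂ : α ≫ pullback.snd G.s G.t = pullback.snd (pullback.snd G.j G.diag) G.t)
    (β : pullback (pullback.snd G.j G.diag) G.t ⟶ pullback G.j G.j)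
    (hβ₁ : β ≫ pullback.fst G.j G.j = α ≫ G.c)
    (hβ₂ : β ≫ pullback.snd G.j G.j = pullback.snd (pullback.snd G.j G.diag) G.t) : IsIso β := by
  have h1 : pullback.fst G.j G.j ≫ G.s = (pullback.snd G.j G.j ≫ G.i) ≫ G.t := by
    rw [Category.assoc, G.i_t, jj_s]
  have hγr : (pullback.fst (pullback.snd G.j G.diag) G.t ≫ pullback.fst G.j G.diag) ≫ G.s =
      pullback.snd (pullback.snd G.j G.diag) G.t ≫ G.t := by
    rw [Category.assoc, stab_fst_s, pullback.condition]
  have hαc : α ≫ G.c = cmp G (pullback.fst (pullback.snd G.j G.diag) G.t ≫ pullback.fst G.j G.diag)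
      (pullback.snd (pullback.snd G.j G.diag) G.t) := by
    rw [comp_c, hα₁, hα₂]
  refine ⟨δ G, ?_, ?_⟩
  · -- β ≫ δ = 𝟙
    apply pullback.hom_ext
    · rw [Category.assoc, δ, pullback.lift_fst, Category.id_comp]
      apply pullback.hom_ext
      · rw [Category.assoc, δ₁_fst, precomp_cmp β h1, hβ₁, ← Category.assoc, hβ₂, hαc]
        exact cmp_cmp_i hγr
      · rw [Category.assoc, δ₁_snd, ← Category.assoc, hβ₂, ← pullback.condition]
    · rw [Category.assoc, δ, pullback.lift_snd, Category.id_comp, hβ₂]
  · -- δ ≫ β = 𝟙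
    apply pullback.hom_ext
    · rw [Category.assoc, hβ₁, Category.id_comp, ← Category.assoc, comp_c]
      have e1 : (δ G ≫ α) ≫ pullback.fst G.s G.t =
          cmp G (pullback.fst G.j G.j) (pullback.snd G.j G.j ≫ G.i) := by
        rw [Category.assoc, hα₁, ← Category.assoc, δ, pullback.lift_fst, δ₁_fst]
      have e2 : (δ G ≫ α) ≫ pullback.snd G.s G.t = pullback.snd G.j G.j := by
        rw [Category.assoc, hα₂, δ, pullback.lift_snd]
      rw [e1, e2]
      exact cmp_i_cmp (jj_s G)
    · rw [Category.assoc, hβ₂, Category.id_comp, δ, pullback.lift_snd]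

end aux

/-- Let (U, R, s, t, c) be a groupoid scheme over S and G -> U its stabilizer group scheme (the base
change of j = (t, s) along the diagonal). The action of G on R by composition, base changed to G_0 =
G x_(U, pr_0) (U x_S U), makes R a pseudo G_0-torsor over U x_S U. Concretely: let α : G x_(U, t) R
-> R x_(s, U, t) R be the morphism with components (γ viewed in R, r) and β : G x_(U, t) R -> R
x_(j, U x_S U, j) R the morphism with components (c ∘ α, r); then β is an isomorphism. (A groupoid
scheme carries U, R, s, t, c, e, i over S with the groupoid axioms on T-points; c is defined on the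
fibre product of s and t and sends a pair (a, b) with s(a) = t(b) to a composed with b.) -/
theorem result (S : Scheme.{u}) (G : Grpd.GroupoidScheme S) (α : pullback G.stabilizerToU G.t ⟶ pullback G.s G.t) (hα₁ : α ≫ pullback.fst G.s G.t = pullback.fst G.stabilizerToU G.t ≫ pullback.fst G.j G.diag) (hα₂ : α ≫ pullback.snd G.s G.t = pullback.snd G.stabilizerToU G.t) (β : pullback G.stabilizerToU G.t ⟶ pullback G.j G.j) (hβ₁ : β ≫ pullback.fst G.j G.j = α ≫ G.c) (hβ₂ : β ≫ pullback.snd G.j G.j = pullback.snd G.stabilizerToU G.t) : IsIso β := by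
  exact main G α hα₁ hα₂ β hβ₁ hβ₂

end Groth.Agent.S7500
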