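import Groth.Statements.S9523
import Groth.Agent.Lib.AffineBaseChange

set_option autoImplicit false
universe u
open CategoryTheory CategoryTheory.Limits AlgebraicGeometry
attribute [local instance] HasDerivedCategory.standard
open Coherent

namespace Groth.Agent.S9523

open CategoryTheory CategoryTheory.Limits AlgebraicGeometry Groth.Agent.Lib.AffineBaseChange in
/-- kernels of two maps that agree after composing with monos are isomorphic over the source -/
lemma exists_kernel_iso {C : Type*} [Category C] [Abelian C] {M A B Q : C} (α : M ⟶ A) (β : M ⟶ B)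
    (m : A ⟶ Q) (n : B ⟶ Q) [Mono m] [Mono n] (w : α ≫ m = β ≫ n) :
    ∃ e : kernel α ≅ kernel β, e.hom ≫ kernel.ι β = kernel.ι α := by
  have h1 : kernel.ι α ≫ β = 0 := by
    rw [← cancel_mono n, Category.assoc, ← w, kernel.condition_assoc, zero_comp, zero_comp]
  have h2 : kernel.ι β ≫ α = 0 := by
    rw [← cancel_mono m, Category.assoc, w, kernel.condition_assoc, zero_comp, zero_comp]
  refine ⟨⟨kernel.lift β (kernel.ι α) h1, kernel.lift α (kernel.ι β) h2, ?_, ?_⟩, ?_⟩
  · rw [← cancel_mono (kernel.ι α)]; simp
  · rw [← cancel_mono (kernel.ι β)]; simp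
  · simp

/-- Let f : Y → X be an affine morphism of schemes, F a quasi-coherent O_Y-module and I a quasi-coherent
sheaf of ideals on X. Then I·f_*F = f_*((f⁻¹I O_Y)·F) as submodules of f_*F: there is an isomorphism
I·f_*F ≅ f_*((f⁻¹I O_Y)·F) whose composite with f_* of the inclusion (f⁻¹I O_Y)·F → F is the
inclusion I·f_*F → f_*F. (J·M denotes the submodule sheaf Dual3.idealMul J M; f⁻¹I O_Y is the
pulled-back ideal sheaf I.comap f.) -/
theorem result {Y X : Scheme.{u}} (f : Y ⟶ X) [IsAffineHom f]
    (F : Y.Modules) (hF : Coh.IsQCoh F) (I : X.IdealSheafData) :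
    ∃ e : (Dual3.idealMul I).obj ((Scheme.Modules.pushforward f).obj F) ≅
        (Scheme.Modules.pushforward f).obj ((Dual3.idealMul (I.comap f)).obj F),
      e.hom ≫ (Scheme.Modules.pushforward f).map (Dual3.idealMulι (I.comap f) F) =
        Dual3.idealMulι I ((Scheme.Modules.pushforward f).obj F) := by
  have : F.IsQuasicoherent := hF
  have hpb : IsPullback (I.comap f).subschemeι ((I.comapIso f).hom ≫ pullback.snd f I.subschemeι)
      f I.subschemeι :=
    IsPullback.of_iso_pullback ⟨by
      rw [Category.assoc, ← pullback.condition, ← Category.assoc,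
        Scheme.IdealSheafData.comapIso_hom_fst]⟩ (I.comapIso f)
      (Scheme.IdealSheafData.comapIso_hom_fst I f) rfl
  have := Groth.Agent.Lib.AffineBaseChange.isIso_uMap f I.subschemeι (I.comap f).subschemeι _ hpb F
  have : PreservesLimitsOfSize.{0, 0} (Scheme.Modules.pushforward f) :=
    (Scheme.Modules.pullbackPushforwardAdjunction f).rightAdjoint_preservesLimits
  obtain ⟨e₁, he₁⟩ := exists_kernel_iso
    ((Scheme.Modules.pullbackPushforwardAdjunction I.subschemeι).unit.app
      ((Scheme.Modules.pushforward f).obj F))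
    ((Scheme.Modules.pushforward f).map
      ((Scheme.Modules.pullbackPushforwardAdjunction (I.comap f).subschemeι).unit.app F))
    ((Scheme.Modules.pushforward I.subschemeι).map
      (Groth.Agent.Lib.AffineBaseChange.uMap f I.subschemeι (I.comap f).subschemeι _ hpb F))
    ((Scheme.Modules.pushforwardComp (I.comap f).subschemeι f).hom.app _ ≫
      (Scheme.Modules.pushforwardCongr hpb.w).hom.app _ ≫
      (Scheme.Modules.pushforwardComp _ I.subschemeι).inv.app _)
    (Groth.Agent.Lib.AffineBaseChange.unit_comp_uMap f I.subschemeι (I.comap f).subschemeι _ hpb F)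
  let e₂ := PreservesKernel.iso (Scheme.Modules.pushforward f)
    ((Scheme.Modules.pullbackPushforwardAdjunction (I.comap f).subschemeι).unit.app F)
  have he₂ : e₂.hom ≫ kernel.ι ((Scheme.Modules.pushforward f).map
      ((Scheme.Modules.pullbackPushforwardAdjunction (I.comap f).subschemeι).unit.app F)) =
      (Scheme.Modules.pushforward f).map (kernel.ι _) := by
    rw [PreservesKernel.iso_hom, kernelComparison_comp_ι]
  refine ⟨e₁ ≪≫ e₂.symm, ?_⟩
  change (e₁.hom ≫ e₂.inv) ≫ (Scheme.Modules.pushforward f).map (kernel.ι _) = kernel.ι _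
  rw [← he₂, Category.assoc, Iso.inv_hom_id_assoc]
  exact he₁


end Groth.Agent.S9523
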