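import Groth.Statements.S4580
import Mathlib

set_option autoImplicit false
universe u
open EGA41

namespace Groth.Agent.S4580

section Helpers

namespace Z1

open Algebra

variable {R B : Type u} [CommRing R] [CommRing B] [Algebra R B]

lemma mk_mem_map_iff {J q : Ideal B} (hJq : J ≤ q) (x : B) :
    Ideal.Quotient.mk J x ∈ q.map (Ideal.Quotient.mk J) ↔ x ∈ q := by
  constructor
  · intro h
    rw [Ideal.mem_map_iff_of_surjective _ Ideal.Quotient.mk_surjective] at h
    obtain ⟨y, hy, hxy⟩ := h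
    have h1 : y - x ∈ J := by rw [← Ideal.Quotient.eq]; exact hxy
    have h2 := q.sub_mem hy (hJq h1)
    simpa using h2
  · exact Ideal.mem_map_of_mem _

/-- The canonical map `B → (B/J)_p`. -/
noncomputable def toLoc (J q : Ideal B) [(q.map (Ideal.Quotient.mk J)).IsPrime] :
    B →ₐ[R] Localization.AtPrime (q.map (Ideal.Quotient.mk J)) :=
  (IsScalarTower.toAlgHom R (B ⧸ J) (Localization.AtPrime (q.map (Ideal.Quotient.mk J)))).comp
    (Ideal.Quotient.mkₐ R J)

lemma toLoc_apply (J q : Ideal B) [(q.map (Ideal.Quotient.mk J)).IsPrime] (x : B) :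
    toLoc (R := R) J q x = algebraMap (B ⧸ J) (Localization.AtPrime (q.map (Ideal.Quotient.mk J)))
      (Ideal.Quotient.mk J x) := rfl

lemma toLoc_eq_zero (J q : Ideal B) [(q.map (Ideal.Quotient.mk J)).IsPrime] {x : B} (hx : x ∈ J) :
    toLoc (R := R) J q x = 0 := by
  rw [toLoc_apply, Ideal.Quotient.eq_zero_iff_mem.mpr hx, map_zero]

lemma toLoc_isUnit {J q : Ideal B} [(q.map (Ideal.Quotient.mk J)).IsPrime] (hJq : J ≤ q) {x : B}
    (hx : x ∉ q) : IsUnit (toLoc (R := R) J q x) := by
  rw [toLoc_apply]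
  exact IsLocalization.map_units (M := (q.map (Ideal.Quotient.mk J)).primeCompl) _
    ⟨Ideal.Quotient.mk J x, fun h => hx ((mk_mem_map_iff hJq x).mp h)⟩

end Z1

namespace Z2

open Algebra

variable {R B A' : Type*} [CommRing R] [CommRing B] [Algebra R B] [CommRing A'] [Algebra R A']

/-- Correct a lift by a derivation so that it kills the `f i`. -/
lemma exists_correction (I' : Ideal A') (hI' : I' ^ 2 = ⊥) (χ : B →ₐ[R] A') {m : ℕ}
    (f : Fin m → B) (D : Fin m → Derivation R B B) (hf : ∀ i, χ (f i) ∈ I')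
    (hdet : IsUnit (χ (Matrix.det (Matrix.of fun i j => D j (f i))))) :
    ∃ χ' : B →ₐ[R] A', (∀ b, χ' b - χ b ∈ I') ∧ ∀ i, χ' (f i) = 0 := by
  classical
  letI : Algebra B A' := χ.toRingHom.toAlgebra
  haveI : IsScalarTower R B A' := IsScalarTower.of_algebraMap_eq (fun r => (χ.commutes r).symm)
  have halg : ∀ b : B, algebraMap B A' b = χ b := fun b => rfl
  let Mx : Matrix (Fin m) (Fin m) A' := Matrix.of fun i j => χ (D j (f i))
  have hMx : IsUnit Mx.det := by
    have : Mx = χ.toRingHom.mapMatrix (Matrix.of fun i j => D j (f i)) := by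
      ext i j; simp [Mx]
    rw [this, ← RingHom.map_det]
    exact hdet
  let c : Fin m → A' := fun i => χ (f i)
  let y : Fin m → A' := Mx⁻¹.mulVec c
  have hy : ∀ j, y j ∈ I' := by
    intro j
    simp only [y, Matrix.mulVec, dotProduct]
    exact I'.sum_mem (fun i _ => I'.mul_mem_left _ (hf i))
  have hMy : Mx.mulVec y = c := by
    simp only [y, Matrix.mulVec_mulVec, Matrix.mul_nonsing_inv _ hMx, Matrix.one_mulVec]
  let Δ : Derivation R B I' :=
    ∑ j, (LinearMap.toSpanSingleton B I' ⟨y j, hy j⟩).compDer (D j)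
  have hΔ : ∀ b, ((Δ b : I') : A') = ∑ j, χ (D j b) * y j := by
    intro b
    have h1 : Δ b = ∑ j, ((LinearMap.toSpanSingleton B I' ⟨y j, hy j⟩).compDer (D j)) b := by
      simp only [Δ]
      rw [← Derivation.coeFnAddMonoidHom_apply, map_sum, Finset.sum_apply]
      rfl
    rw [h1, AddSubmonoidClass.coe_finset_sum]
    refine Finset.sum_congr rfl (fun j _ => ?_)
    rfl
  refine ⟨liftOfDerivationToSquareZero I' hI' (-Δ), ?_, ?_⟩
  · intro b
    rw [liftOfDerivationToSquareZero_apply, halg, add_sub_cancel_right]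
    exact ((-Δ) b).2
  · intro i
    rw [liftOfDerivationToSquareZero_apply, halg, Derivation.neg_apply, Submodule.coe_neg, hΔ]
    have := congrFun hMy i
    simp only [Matrix.mulVec, dotProduct, Mx, Matrix.of_apply, c] at this
    rw [this]; ring

end Z2

namespace Z3

open Algebra Z1 Z2

variable {R B : Type u} [CommRing R] [CommRing B] [Algebra R B]

/-- An algebra map killing `f i` kills `J` if `J B_q` is generated by the `f i`
and elements outside `q` map to units. -/
lemma kills_J {A' : Type*} [CommRing A'] [Algebra R A'] (J q : Ideal B) [q.IsPrime] {m : ℕ}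
    (f : Fin m → B)
    (hspan : J.map (algebraMap B (Localization.AtPrime q)) =
          Ideal.span (Set.range fun i => algebraMap B (Localization.AtPrime q) (f i)))
    (χ : B →ₐ[R] A') (hχ : ∀ i, χ (f i) = 0) (hunit : ∀ b, b ∉ q → IsUnit (χ b))
    {x : B} (hx : x ∈ J) : χ x = 0 := by
  have h1 : algebraMap B (Localization.AtPrime q) x ∈
      (Ideal.span (Set.range f)).map (algebraMap B (Localization.AtPrime q)) := by
    rw [Ideal.map_span, ← Set.range_comp]
    have := Ideal.mem_map_of_mem (algebraMap B (Localization.AtPrime q)) hx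
    rw [hspan] at this
    exact this
  rw [IsLocalization.mem_map_algebraMap_iff q.primeCompl] at h1
  obtain ⟨⟨a, u⟩, hau⟩ := h1
  rw [← map_mul, IsLocalization.eq_iff_exists q.primeCompl] at hau
  obtain ⟨u', hu'⟩ := hau
  have hker : Ideal.span (Set.range f) ≤ RingHom.ker χ.toRingHom := by
    rw [Ideal.span_le]
    rintro _ ⟨i, rfl⟩
    exact hχ i
  have h2 : χ ((u' : B) * (x * u)) = 0 := by
    rw [hu', map_mul]
    have : χ (a : B) = 0 := hker a.2
    rw [this, mul_zero]
  rw [map_mul, map_mul] at h2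
  have hu1 := hunit u' u'.2
  have hu2 := hunit u u.2
  have h3 := (hu1.mul_right_eq_zero).mp h2
  exact (hu2.mul_left_eq_zero).mp h3

theorem backward [Algebra.FormallySmooth R B] (J q : Ideal B) [q.IsPrime] (hJq : J ≤ q)
    [(q.map (Ideal.Quotient.mk J)).IsPrime] {m : ℕ} (f : Fin m → B)
    (D : Fin m → Derivation R B B) (hf : ∀ i, f i ∈ J)
    (hspan : J.map (algebraMap B (Localization.AtPrime q)) =
          Ideal.span (Set.range fun i => algebraMap B (Localization.AtPrime q) (f i)))
    (hdet : Matrix.det (Matrix.of fun i j => D j (f i)) ∉ q) :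
    Algebra.FormallySmooth R (Localization.AtPrime (q.map (Ideal.Quotient.mk J))) := by
  refine Algebra.FormallySmooth.of_comp_surjective ?_
  intro A' _ _ I' hI' ψ
  obtain ⟨χB, hχB⟩ := Algebra.FormallySmooth.comp_surjective R B I' hI' (ψ.comp (toLoc (R := R) J q))
  have hχB' : ∀ b, Ideal.Quotient.mk I' (χB b) = ψ (toLoc (R := R) J q b) := fun b => congr($hχB b)
  have hmk : ∀ (χ : B →ₐ[R] A'), (∀ b, χ b - χB b ∈ I') → ∀ b,
      Ideal.Quotient.mk I' (χ b) = ψ (toLoc (R := R) J q b) := by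
    intro χ hχ b
    rw [← hχB', Ideal.Quotient.eq]
    exact hχ b
  have hunit : ∀ (χ : B →ₐ[R] A'), (∀ b, χ b - χB b ∈ I') → ∀ b, b ∉ q → IsUnit (χ b) := by
    intro χ hχ b hb
    rw [← IsNilpotent.isUnit_quotient_mk_iff (I := I') ⟨2, hI'⟩, hmk χ hχ]
    exact (toLoc_isUnit (R := R) hJq hb).map ψ
  obtain ⟨χ', hχ'1, hχ'2⟩ := exists_correction I' hI' χB f D
    (fun i => by
      rw [← Ideal.Quotient.eq_zero_iff_mem, hχB', toLoc_eq_zero (R := R) J q (hf i), map_zero])
    (hunit χB (fun b => by simp) _ hdet)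
  have hJ : ∀ x ∈ J, χ' x = 0 := fun x hx =>
    kills_J J q f hspan χ' hχ'2 (hunit χ' hχ'1) hx
  let χC : B ⧸ J →ₐ[R] A' := Ideal.Quotient.liftₐ J χ' hJ
  have hχC : ∀ y : (q.map (Ideal.Quotient.mk J)).primeCompl, IsUnit (χC y) := by
    rintro ⟨y, hy⟩
    obtain ⟨b, rfl⟩ := Ideal.Quotient.mk_surjective y
    have hb : b ∉ q := fun h => hy ((mk_mem_map_iff hJq b).mpr h)
    exact hunit χ' hχ'1 b hb
  refine ⟨IsLocalization.liftAlgHom (M := (q.map (Ideal.Quotient.mk J)).primeCompl) hχC, ?_⟩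
  refine IsLocalization.algHom_ext (q.map (Ideal.Quotient.mk J)).primeCompl ?_
  refine Ideal.Quotient.algHom_ext _ ?_
  ext b
  simp only [AlgHom.comp_apply, Ideal.Quotient.mkₐ_eq_mk, IsLocalization.liftAlgHom_apply]
  have e1 : (algHom R (B ⧸ J) (Localization.AtPrime (Ideal.map (Ideal.Quotient.mk J) q)))
      ((Ideal.Quotient.mk J) b) = toLoc (R := R) J q b := rfl
  have e2 : (algHom R (B ⧸ J) (Localization.AtPrime (Ideal.map (Ideal.Quotient.mk J) q)))
      ((Ideal.Quotient.mk J) b) = algebraMap _ _ (Ideal.Quotient.mk J b) := rfl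
  rw [e1, ← hmk χ' hχ'1 b, ← e1, e2, IsLocalization.lift_eq]
  rfl

end Z3

namespace Z4

/-- A separating set of vectors in `F^m` contains `m` vectors with nonzero determinant. -/
lemma exists_det_ne_zero {F : Type*} [Field F] {m : ℕ} (S : Set (Fin m → F))
    (h : ∀ b : Fin m → F, b ≠ 0 → ∃ v ∈ S, b ⬝ᵥ v ≠ 0) :
    ∃ c : Fin m → (Fin m → F), (∀ j, c j ∈ S) ∧ (Matrix.of fun i j => c j i).det ≠ 0 := by
  classical
  have hspan : Submodule.span F S = ⊤ := by
    by_contra hne
    obtain ⟨φ, hφ0, hφ⟩ := Submodule.exists_le_ker_of_lt_top _ (lt_top_iff_ne_top.mpr hne)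
    let b : Fin m → F := fun i => φ (fun j => if i = j then 1 else 0)
    have hφb : ∀ x, φ x = b ⬝ᵥ x := by
      intro x
      rw [LinearMap.pi_apply_eq_sum_univ φ x]
      simp only [dotProduct, b, smul_eq_mul]
      exact Finset.sum_congr rfl (fun i _ => mul_comm _ _)
    have hb : b ≠ 0 := by
      intro hb
      apply hφ0
      refine LinearMap.ext fun x => ?_
      rw [hφb, hb, zero_dotProduct, LinearMap.zero_apply]
    obtain ⟨v, hv, hbv⟩ := h b hb
    apply hbv
    rw [← hφb]
    exact hφ (Submodule.subset_span hv)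
  obtain ⟨T, hTS, hT, hli⟩ := exists_linearIndependent F S
  rw [hspan] at hT
  let bas : Module.Basis T F (Fin m → F) := Module.Basis.mk hli (by rw [Subtype.range_coe, hT])
  haveI : Fintype T := FiniteDimensional.fintypeBasisIndex bas
  have hcard : Fintype.card T = m := by
    rw [← Module.finrank_eq_card_basis bas, Module.finrank_fin_fun]
  let e : Fin m ≃ T := (Fintype.equivFinOfCardEq hcard).symm
  refine ⟨fun j => (e j : Fin m → F), fun j => hTS (e j).2, ?_⟩
  have hli' : LinearIndependent F (fun j => ((e j : T) : Fin m → F)) :=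
    hli.comp e e.injective
  have hrow : LinearIndependent F (Matrix.of (fun j => ((e j : T) : Fin m → F))).row := hli'
  rw [Matrix.linearIndependent_rows_iff_isUnit, Matrix.isUnit_iff_isUnit_det] at hrow
  have : (Matrix.of fun i j => ((e j : T) : Fin m → F) i) =
      Matrix.transpose (Matrix.of (fun j => ((e j : T) : Fin m → F))) := by
    ext i j; rfl
  rw [this, Matrix.det_transpose]
  exact hrow.ne_zero

end Z4

namespace Z5

open Z4 KaehlerDifferential

lemma exists_derivations {R B : Type*} [CommRing R] [CommRing B] [Algebra R B]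
    [Module.Projective B Ω[B⁄R]] (q : Ideal B) [q.IsPrime]
    {N : Type*} [AddCommGroup N] [Module B N] (L : Ω[B⁄R] →ₗ[B] N)
    (hq : ∀ x ∈ q, ∀ ω, x • L ω = 0) {m : ℕ} (f : Fin m → B)
    (hind : ∀ b : Fin m → B, ∑ i, b i • L (KaehlerDifferential.D R B (f i)) = 0 → ∀ i, b i ∈ q) :
    ∃ D : Fin m → Derivation R B B, Matrix.det (Matrix.of fun i j => D j (f i)) ∉ q := by
  classical
  obtain ⟨s, hs⟩ := (Module.projective_def' (R := B) (P := Ω[B⁄R])).mp inferInstance
  let F := FractionRing (B ⧸ q)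
  let π : B →+* F := (algebraMap (B ⧸ q) F).comp (Ideal.Quotient.mk q)
  have hπ : ∀ x, π x = 0 ↔ x ∈ q := by
    intro x
    simp only [π, RingHom.comp_apply]
    rw [map_eq_zero_iff _ (IsFractionRing.injective (B ⧸ q) F), Ideal.Quotient.eq_zero_iff_mem]
  let S : Set (Fin m → F) :=
    {v | ∃ φ : Ω[B⁄R] →ₗ[B] B, v = fun i => π (φ (KaehlerDifferential.D R B (f i)))}
  have hS : ∀ b : Fin m → F, b ≠ 0 → ∃ v ∈ S, b ⬝ᵥ v ≠ 0 := by
    intro b hb
    by_contra hcon
    push_neg at hcon
    obtain ⟨d, hd⟩ := IsLocalization.exist_integer_multiples (nonZeroDivisors (B ⧸ q))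
      Finset.univ b
    choose y hy using fun i => hd i (Finset.mem_univ i)
    choose b' hb' using fun i => Ideal.Quotient.mk_surjective (y i)
    have hb'π : ∀ i, π (b' i) = algebraMap (B ⧸ q) F d * b i := by
      intro i
      simp only [π, RingHom.comp_apply]
      rw [hb', hy, Algebra.smul_def]
    have key : ∀ φ : Ω[B⁄R] →ₗ[B] B,
        φ (∑ i, b' i • KaehlerDifferential.D R B (f i)) ∈ q := by
      intro φ
      rw [← hπ, map_sum, map_sum]
      have h1 := hcon _ ⟨φ, rfl⟩
      simp only [dotProduct] at h1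
      have h2 : ∀ i, π (φ (b' i • KaehlerDifferential.D R B (f i))) =
          algebraMap (B ⧸ q) F d * (b i * π (φ (KaehlerDifferential.D R B (f i)))) := by
        intro i
        rw [map_smul, smul_eq_mul, map_mul, hb'π, mul_assoc]
      rw [Finset.sum_congr rfl (fun i _ => h2 i), ← Finset.mul_sum, h1, mul_zero]
    have hω : L (∑ i, b' i • KaehlerDifferential.D R B (f i)) = 0 := by
      have h1 : ∀ ω : Ω[B⁄R], ω = Finsupp.linearCombination B id (s ω) := by
        intro ω
        rw [← LinearMap.comp_apply, hs]; rfl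
      rw [h1 (∑ i, b' i • KaehlerDifferential.D R B (f i)), Finsupp.linearCombination_apply,
        Finsupp.sum, map_sum]
      refine Finset.sum_eq_zero (fun l _ => ?_)
      rw [map_smul]
      exact hq _ (key (Finsupp.lapply l ∘ₗ s)) _
    have hb'q : ∀ i, b' i ∈ q := hind b' (by rw [← hω, map_sum]; simp only [map_smul])
    apply hb
    ext i
    have h3 : algebraMap (B ⧸ q) F d * b i = 0 := by rw [← hb'π, hπ]; exact hb'q i
    have hd0 : algebraMap (B ⧸ q) F d ≠ 0 := by
      rw [Ne, map_eq_zero_iff _ (IsFractionRing.injective (B ⧸ q) F)]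
      exact nonZeroDivisors.ne_zero d.2
    exact (mul_eq_zero.mp h3).resolve_left hd0
  obtain ⟨c, hcS, hc⟩ := exists_det_ne_zero S hS
  choose φ hφ using hcS
  refine ⟨fun j => (φ j).compDer (KaehlerDifferential.D R B), ?_⟩
  intro hmem
  apply hc
  rw [← hπ, RingHom.map_det] at hmem
  have hM : (Matrix.of fun i j => c j i) =
      π.mapMatrix (Matrix.of fun i j => ((fun j => (φ j).compDer (KaehlerDifferential.D R B)) j)
        (f i)) := by
    ext i j
    simp [hφ j]
  rw [hM]
  exact hmem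

end Z5

namespace Z6

/-- Minimal generators of an ideal of a Noetherian local ring chosen from a generating set are
independent modulo the maximal ideal. -/
lemma exists_min_gens {P : Type*} [CommRing P] [IsLocalRing P] [IsNoetherianRing P] (S : Set P) :
    ∃ (m : ℕ) (g : Fin m → P), (∀ i, g i ∈ S) ∧ Ideal.span (Set.range g) = Ideal.span S ∧
      ∀ b : Fin m → P, ∑ i, b i * g i ∈ IsLocalRing.maximalIdeal P * Ideal.span S →
        ∀ i, b i ∈ IsLocalRing.maximalIdeal P := by
  classical
  have hex : ∃ m : ℕ, ∃ g : Fin m → P, (∀ i, g i ∈ S) ∧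
      Ideal.span (Set.range g) = Ideal.span S := by
    have hfg : (Ideal.span S).FG := IsNoetherian.noetherian _
    obtain ⟨T, hTS, hT⟩ := (Submodule.fg_span_iff_fg_span_finset_subset S).mp hfg
    refine ⟨T.card, fun i => (T.equivFin.symm i : P), fun i => hTS (T.equivFin.symm i).2, ?_⟩
    have : Set.range (fun i => (T.equivFin.symm i : P)) = (T : Set P) := by
      ext x; constructor
      · rintro ⟨i, rfl⟩; exact (T.equivFin.symm i).2
      · intro hx; exact ⟨T.equivFin ⟨x, hx⟩, by simp⟩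
    rw [this]; exact hT.symm
  obtain ⟨m, ⟨g, hgS, hg⟩, hmin⟩ : ∃ m, (∃ g : Fin m → P, (∀ i, g i ∈ S) ∧
      Ideal.span (Set.range g) = Ideal.span S) ∧ ∀ m' < m, ¬ (∃ g : Fin m' → P, (∀ i, g i ∈ S) ∧
      Ideal.span (Set.range g) = Ideal.span S) :=
    ⟨Nat.find hex, Nat.find_spec hex, fun m' h => Nat.find_min hex h⟩
  clear hex
  refine ⟨m, g, hgS, hg, ?_⟩
  intro b hb i0
  by_contra hi0
  rw [← hg] at hb
  have hb' : ∑ i, b i * g i ∈ IsLocalRing.maximalIdeal P • Submodule.span P (Set.range g) := hb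
  rw [Submodule.mem_ideal_smul_span_iff_exists_sum] at hb'
  obtain ⟨a, ha, hab⟩ := hb'
  rw [Finsupp.sum_fintype a (fun i c => c • g i) (fun i => zero_smul _ _)] at hab
  have hsum : ∑ i, (b i - a i) * g i = 0 := by
    simp only [sub_mul, Finset.sum_sub_distrib, smul_eq_mul] at hab ⊢
    rw [hab, sub_self]
  have hu : IsUnit (b i0 - a i0) := by
    by_contra hnu
    have h1 : b i0 - a i0 ∈ IsLocalRing.maximalIdeal P := (IsLocalRing.mem_maximalIdeal _).mpr hnu
    apply hi0
    have := Ideal.add_mem _ h1 (ha i0)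
    simpa using this
  -- the remaining generators
  let ι' := {i : Fin m // i ≠ i0}
  let g' : Fin (Fintype.card ι') → P := fun k => g ((Fintype.equivFin ι').symm k)
  have hcard : Fintype.card ι' < m := by
    have := Fintype.card_subtype_lt (p := fun i : Fin m => i ≠ i0) (x := i0)
      (by simp)
    rw [Fintype.card_fin] at this
    exact this
  apply hmin _ hcard
  refine ⟨g', fun k => hgS _, ?_⟩
  have hrange : ∀ i, i ≠ i0 → g i ∈ Ideal.span (Set.range g') := by
    intro i hi
    apply Ideal.subset_span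
    exact ⟨Fintype.equivFin ι' ⟨i, hi⟩, by simp [g']⟩
  have hi0mem : g i0 ∈ Ideal.span (Set.range g') := by
    rw [← Finset.add_sum_erase _ _ (Finset.mem_univ i0)] at hsum
    have h2 : (b i0 - a i0) * g i0 = - ∑ i ∈ Finset.univ.erase i0, (b i - a i) * g i :=
      eq_neg_of_add_eq_zero_left hsum
    have h3 : (b i0 - a i0) * g i0 ∈ Ideal.span (Set.range g') := by
      rw [h2]
      refine Ideal.neg_mem_iff _ |>.mpr (Ideal.sum_mem _ (fun i hi => ?_))
      exact Ideal.mul_mem_left _ _ (hrange i (Finset.ne_of_mem_erase hi))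
    exact (Ideal.unit_mul_mem_iff_mem _ hu).mp h3
  apply le_antisymm
  · rw [Ideal.span_le]
    rintro _ ⟨k, rfl⟩
    exact Ideal.subset_span (hgS _)
  · rw [← hg, Ideal.span_le]
    rintro _ ⟨i, rfl⟩
    by_cases hi : i = i0
    · rw [hi]; exact hi0mem
    · exact hrange i hi

end Z6

namespace Z7

open Algebra Z1

variable {R B : Type u} [CommRing R] [CommRing B] [Algebra R B]

variable (J q : Ideal B) [q.IsPrime]

/-- `J B_q`. -/
abbrev Kq : Ideal (Localization.AtPrime q) := J.map (algebraMap B (Localization.AtPrime q))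

/-- `B_q / 𝔪 J B_q`. -/
abbrev A' : Type u :=
  Localization.AtPrime q ⧸ (IsLocalRing.maximalIdeal (Localization.AtPrime q) * Kq J q)

/-- `J B_q / 𝔪 J B_q`. -/
abbrev I' : Ideal (A' J q) := (Kq J q).map (Ideal.Quotient.mk _)

variable {J q}

lemma Kq_le (hJq : J ≤ q) : Kq J q ≤ IsLocalRing.maximalIdeal (Localization.AtPrime q) := by
  rw [← Localization.AtPrime.map_eq_maximalIdeal]
  exact Ideal.map_mono hJq

lemma I'_sq (hJq : J ≤ q) : I' J q ^ 2 = ⊥ := by
  rw [I', ← Ideal.map_pow, pow_two, eq_bot_iff]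
  refine (Ideal.map_mono (Ideal.mul_mono_left (Kq_le hJq))).trans ?_
  rw [Ideal.map_quotient_self]

lemma mem_I' {n : A' J q} (hn : n ∈ I' J q) : ∃ k ∈ Kq J q, Ideal.Quotient.mk _ k = n :=
  (Ideal.mem_map_iff_of_surjective _ Ideal.Quotient.mk_surjective).mp hn

lemma smul_I'_eq_zero {x : B} (hx : x ∈ q) {n : A' J q} (hn : n ∈ I' J q) : x • n = 0 := by
  obtain ⟨k, hk, rfl⟩ := mem_I' hn
  rw [Algebra.smul_def]
  have : algebraMap B (A' J q) x = Ideal.Quotient.mk _ (algebraMap B (Localization.AtPrime q) x) :=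
    rfl
  rw [this, ← map_mul, Ideal.Quotient.eq_zero_iff_mem]
  refine Ideal.mul_mem_mul ?_ hk
  rw [IsLocalization.AtPrime.to_map_mem_maximal_iff (Localization.AtPrime q) q]
  exact hx

end Z7

namespace Z8

open Algebra Z1 Z7

variable {R B : Type u} [CommRing R] [CommRing B] [Algebra R B]

variable (J q : Ideal B) [q.IsPrime]

/-- `B → A'/I'`. -/
noncomputable def ψ₀ : B →ₐ[R] A' J q ⧸ I' J q :=
  (Ideal.Quotient.mkₐ R (I' J q)).comp
    ((Ideal.Quotient.mkₐ R _).comp (IsScalarTower.toAlgHom R B (Localization.AtPrime q)))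

lemma ψ₀_apply (b : B) : ψ₀ (R := R) J q b = algebraMap B (A' J q ⧸ I' J q) b := rfl

lemma ψ₀_apply' (b : B) : ψ₀ (R := R) J q b =
    Ideal.Quotient.mk (I' J q) (algebraMap B (A' J q) b) := rfl

lemma ψ₀_apply'' (b : B) : ψ₀ (R := R) J q b =
    Ideal.Quotient.mk (I' J q) (Ideal.Quotient.mk _ (algebraMap B (Localization.AtPrime q) b)) :=
  rfl

lemma ψ₀_eq_zero {x : B} (hx : x ∈ J) : ψ₀ (R := R) J q x = 0 := by
  rw [ψ₀_apply'', Ideal.Quotient.eq_zero_iff_mem]
  exact Ideal.mem_map_of_mem _ (Ideal.mem_map_of_mem _ hx)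

lemma ψ₀_isUnit {x : B} (hx : x ∉ q) : IsUnit (ψ₀ (R := R) J q x) := by
  rw [ψ₀_apply'']
  have : IsUnit (algebraMap B (Localization.AtPrime q) x) :=
    IsLocalization.map_units (M := q.primeCompl) _ ⟨x, hx⟩
  exact (this.map _).map _

variable {J q}

/-- `B/J → A'/I'`. -/
noncomputable def ψC (J q : Ideal B) [q.IsPrime] : B ⧸ J →ₐ[R] A' J q ⧸ I' J q :=
  Ideal.Quotient.liftₐ J (ψ₀ (R := R) J q) (fun x hx => ψ₀_eq_zero J q hx)

lemma ψC_mk (b : B) : ψC (R := R) J q (Ideal.Quotient.mk J b) = ψ₀ (R := R) J q b := rfl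

lemma ψC_isUnit (hJq : J ≤ q) [(q.map (Ideal.Quotient.mk J)).IsPrime]
    (y : (q.map (Ideal.Quotient.mk J)).primeCompl) :
    IsUnit (ψC (R := R) J q y) := by
  obtain ⟨y, hy⟩ := y
  obtain ⟨b, rfl⟩ := Ideal.Quotient.mk_surjective y
  have hb : b ∉ q := fun h => hy ((mk_mem_map_iff hJq b).mpr h)
  exact ψ₀_isUnit (R := R) J q hb

/-- `(B/J)_p → A'/I'`. -/
noncomputable def ψ (hJq : J ≤ q) [(q.map (Ideal.Quotient.mk J)).IsPrime] :
    Localization.AtPrime (q.map (Ideal.Quotient.mk J)) →ₐ[R] A' J q ⧸ I' J q :=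
  IsLocalization.liftAlgHom (A := R) (R := B ⧸ J)
    (S := Localization.AtPrime (q.map (Ideal.Quotient.mk J))) (P := A' J q ⧸ I' J q)
    (M := (q.map (Ideal.Quotient.mk J)).primeCompl)
    (f := ψC (R := R) J q) (ψC_isUnit hJq)

lemma ψ_toLoc (hJq : J ≤ q) [(q.map (Ideal.Quotient.mk J)).IsPrime] (b : B) :
    ψ (R := R) hJq (toLoc (R := R) J q b) = ψ₀ (R := R) J q b := by
  rw [ψ, toLoc_apply, IsLocalization.liftAlgHom_apply, IsLocalization.lift_eq]
  rfl

end Z8

namespace Z9

open Algebra Z1 Z7 Z8 Z5 Z6 KaehlerDifferential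

variable {R B : Type u} [CommRing R] [CommRing B] [Algebra R B]

variable {J q : Ideal B} [q.IsPrime]

/-- From formal smoothness of `(B/J)_p`: an `R`-linear map `Ω[B/R] → A'` with image in `I'`
sending `d x` to `-[x]` for `x ∈ J`. -/
lemma exists_L (hJq : J ≤ q) [(q.map (Ideal.Quotient.mk J)).IsPrime]
    [Algebra.FormallySmooth R (Localization.AtPrime (q.map (Ideal.Quotient.mk J)))] :
    ∃ L : Ω[B⁄R] →ₗ[B] A' J q, (∀ ω, L ω ∈ I' J q) ∧
      ∀ x ∈ J, L (KaehlerDifferential.D R B x) = - algebraMap B (A' J q) x := by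
  obtain ⟨χ, hχ⟩ := Algebra.FormallySmooth.comp_surjective R
    (Localization.AtPrime (q.map (Ideal.Quotient.mk J))) (I' J q) (I'_sq hJq) (ψ (R := R) hJq)
  let χB : B →ₐ[R] A' J q := χ.comp (toLoc (R := R) J q)
  have e : (Ideal.Quotient.mkₐ R (I' J q)).comp χB = IsScalarTower.toAlgHom R B (A' J q ⧸ I' J q) := by
    ext b
    have h1 : Ideal.Quotient.mk (I' J q) (χ (toLoc (R := R) J q b)) =
        ψ (R := R) hJq (toLoc (R := R) J q b) := congr($hχ (toLoc (R := R) J q b))
    rw [ψ_toLoc, ψ₀_apply] at h1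
    exact h1
  let D₀ : Derivation R B (I' J q) := derivationToSquareZeroOfLift (I' J q) (I'_sq hJq) χB e
  refine ⟨((I' J q).subtype.restrictScalars B) ∘ₗ D₀.liftKaehlerDifferential, ?_, ?_⟩
  · intro ω
    exact (D₀.liftKaehlerDifferential ω).2
  · intro x hx
    have h2 : (D₀.liftKaehlerDifferential (KaehlerDifferential.D R B x) : I' J q) = D₀ x :=
      Derivation.liftKaehlerDifferential_comp_D D₀ x
    have h3 : ((D₀ x : I' J q) : A' J q) = χB x - algebraMap B (A' J q) x :=
      derivationToSquareZeroOfLift_apply (I' J q) (I'_sq hJq) χB e x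
    have h4 : χB x = 0 := by
      change χ (toLoc (R := R) J q x) = 0
      rw [toLoc_eq_zero (R := R) J q hx, map_zero]
    change ((D₀.liftKaehlerDifferential (KaehlerDifferential.D R B x) : I' J q) : A' J q) = _
    rw [h2, h3, h4, zero_sub]

end Z9

namespace Z9

open Algebra Z1 Z7 Z8 Z5 Z6 KaehlerDifferential

variable {R B : Type u} [CommRing R] [CommRing B] [Algebra R B]

variable {J q : Ideal B} [q.IsPrime]

theorem forward [Algebra.FormallySmooth R B] (hJq : J ≤ q)
    [(q.map (Ideal.Quotient.mk J)).IsPrime] [IsNoetherianRing (Localization.AtPrime q)]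
    [Algebra.FormallySmooth R (Localization.AtPrime (q.map (Ideal.Quotient.mk J)))] :
    ∃ (m : ℕ) (f : Fin m → B) (D : Fin m → Derivation R B B),
        (∀ i, f i ∈ J) ∧
        J.map (algebraMap B (Localization.AtPrime q)) =
          Ideal.span (Set.range fun i => algebraMap B (Localization.AtPrime q) (f i)) ∧
        Matrix.det (Matrix.of fun i j => D j (f i)) ∉ q := by
  obtain ⟨L, hL1, hL2⟩ := exists_L (R := R) hJq
  obtain ⟨m, g, hgS, hg, hind⟩ := exists_min_gens (P := Localization.AtPrime q)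
    ((algebraMap B (Localization.AtPrime q)) '' J)
  choose f hfJ hfg using hgS
  have hKq : Ideal.span ((algebraMap B (Localization.AtPrime q)) '' J) = Kq J q := rfl
  rw [hKq] at hg hind
  have hq : ∀ x ∈ q, ∀ ω, x • L ω = 0 := fun x hx ω => smul_I'_eq_zero hx (hL1 ω)
  have hind' : ∀ b : Fin m → B, ∑ i, b i • L (KaehlerDifferential.D R B (f i)) = 0 →
      ∀ i, b i ∈ q := by
    intro b hb i
    rw [← IsLocalization.AtPrime.to_map_mem_maximal_iff (Localization.AtPrime q) q]
    refine hind (fun i => algebraMap B (Localization.AtPrime q) (b i)) ?_ i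
    rw [← Ideal.Quotient.eq_zero_iff_mem]
    have h1 : ∀ i, b i • L (KaehlerDifferential.D R B (f i)) =
        - Ideal.Quotient.mk (IsLocalRing.maximalIdeal (Localization.AtPrime q) * Kq J q)
          (algebraMap B (Localization.AtPrime q) (b i) * g i) := by
      intro i
      rw [hL2 _ (hfJ i), Algebra.smul_def, ← hfg i, map_mul]
      have e1 : ∀ y : B, algebraMap B (A' J q) y =
          Ideal.Quotient.mk _ (algebraMap B (Localization.AtPrime q) y) := fun y => rfl
      rw [e1, e1, mul_neg]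
    rw [Finset.sum_congr rfl (fun i _ => h1 i), Finset.sum_neg_distrib, neg_eq_zero,
      ← map_sum] at hb
    exact hb
  obtain ⟨D, hD⟩ := exists_derivations q L hq f hind'
  refine ⟨m, f, D, hfJ, ?_, hD⟩
  have hfg' : (fun i => algebraMap B (Localization.AtPrime q) (f i)) = g := funext hfg
  rw [hfg']
  exact hg.symm

end Z9

end Helpers

/-- Let k₀ be a field, k a separable (formally smooth) extension field of k₀, B = k[T_1, ..., T_r], J an
ideal of B and q a prime of B containing J, with image p in C = B/J. Then C_p is formally smooth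
over k₀ for the discrete topologies if and only if there exist f_1, ..., f_m ∈ J whose images
generate J B_q and k₀-derivations D_1, ..., D_m of B with det(D_j f_i) ∉ q. -/
theorem result {k₀ k : Type u} [Field k₀] [Field k] [Algebra k₀ k]
    [Algebra.FormallySmooth k₀ k] (r : ℕ) (J q : Ideal (MvPolynomial (Fin r) k)) [q.IsPrime] (hJq : J ≤ q)
    [(q.map (Ideal.Quotient.mk J)).IsPrime] :
    Algebra.FormallySmooth k₀ (Localization.AtPrime (q.map (Ideal.Quotient.mk J))) ↔
      ∃ (m : ℕ) (f : Fin m → MvPolynomial (Fin r) k) (D : Fin m → Derivation k₀ (MvPolynomial (Fin r) k) (MvPolynomial (Fin r) k)),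
        (∀ i, f i ∈ J) ∧
        J.map (algebraMap (MvPolynomial (Fin r) k) (Localization.AtPrime q)) =
          Ideal.span (Set.range fun i => algebraMap (MvPolynomial (Fin r) k) (Localization.AtPrime q) (f i)) ∧
        Matrix.det (Matrix.of fun i j => D j (f i)) ∉ q := by
  haveI : Algebra.FormallySmooth k₀ (MvPolynomial (Fin r) k) :=
    Algebra.FormallySmooth.comp k₀ k (MvPolynomial (Fin r) k)
  haveI : IsNoetherianRing (Localization.AtPrime q) :=
    IsLocalization.isNoetherianRing q.primeCompl _ inferInstance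
  constructor
  · intro h
    exact Z9.forward (R := k₀) hJq
  · rintro ⟨m, f, D, hf, hspan, hdet⟩
    exact Z3.backward (R := k₀) J q hJq f D hf hspan hdet

end Groth.Agent.S4580
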