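import Groth.Statements.S5998
import Mathlib
import Groth.Agent.S4580

set_option autoImplicit false
universe u
open SGA1

namespace Groth.Agent.S5998

section Helpers

namespace Y1

open Groth.Agent.S4580 TensorProduct

variable {R B : Type u} [CommRing R] [CommRing B] [Algebra R B]

lemma fs_transport {C : Type u} [CommRing C] [Algebra R C] {p p' : Ideal C} [p.IsPrime]
    [p'.IsPrime] (h : p = p') :
    Algebra.FormallySmooth R (Localization.AtPrime p) ↔
      Algebra.FormallySmooth R (Localization.AtPrime p') := by
  subst h; rfl

/-- Linear independence of `1 ⊗ d f_i` from a nonvanishing Jacobian minor. -/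
lemma linearIndependent_of_det (q : Ideal B) [q.IsPrime] {m : ℕ} (f : Fin m → B)
    (D : Fin m → Derivation R B B) (hdet : Matrix.det (Matrix.of fun i j => D j (f i)) ∉ q) :
    LinearIndependent q.ResidueField
      (fun i : Fin m => (1 : q.ResidueField) ⊗ₜ[B] KaehlerDifferential.D R B (f i)) := by
  classical
  rw [Fintype.linearIndependent_iff]
  intro c hc
  let π : B →+* q.ResidueField := algebraMap B q.ResidueField
  let ℓ : Fin m → (q.ResidueField ⊗[B] Ω[B⁄R] →ₗ[q.ResidueField] q.ResidueField) := fun j =>
    (TensorProduct.AlgebraTensorModule.rid B q.ResidueField q.ResidueField).toLinearMap ∘ₗ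
      ((D j).liftKaehlerDifferential.baseChange q.ResidueField)
  have hℓ : ∀ i j, ℓ j ((1 : q.ResidueField) ⊗ₜ[B] KaehlerDifferential.D R B (f i)) =
      π (D j (f i)) := by
    intro i j
    simp [ℓ, π, Algebra.smul_def]
  have h1 : ∀ j, ∑ i, c i * π (D j (f i)) = 0 := by
    intro j
    have := congrArg (ℓ j) hc
    rw [map_sum, map_zero] at this
    simpa [hℓ] using this
  have h2 : Matrix.vecMul c (π.mapMatrix (Matrix.of fun i j => D j (f i))) = 0 := by
    ext j
    simp only [Matrix.vecMul, dotProduct, RingHom.mapMatrix_apply, Matrix.map_apply,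
      Matrix.of_apply, Pi.zero_apply]
    exact h1 j
  have h3 : (π.mapMatrix (Matrix.of fun i j => D j (f i))).det ≠ 0 := by
    rw [← RingHom.map_det]
    intro h
    exact hdet ((Ideal.algebraMap_residueField_eq_zero).mp h)
  have := Matrix.eq_zero_of_vecMul_eq_zero h3 h2
  intro i
  exact congrFun this i

end Y1

namespace Y1

open Groth.Agent.S4580 TensorProduct

variable {R B : Type u} [CommRing R] [CommRing B] [Algebra R B]

theorem jacobian_iff [Algebra.FormallySmooth R B] (J : Ideal B) (P : Ideal (B ⧸ J)) [P.IsPrime]
    [IsNoetherianRing (Localization.AtPrime (P.comap (Ideal.Quotient.mk J)))] :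
    Algebra.FormallySmooth R (Localization.AtPrime P) ↔ ∃ s : Finset B, (↑s : Set B) ⊆ (J : Set B) ∧
      Ideal.map (algebraMap B (Localization.AtPrime (P.comap (Ideal.Quotient.mk J)))) J =
        Ideal.span ((algebraMap B (Localization.AtPrime (P.comap (Ideal.Quotient.mk J)))) ''
          (↑s : Set B)) ∧
      LinearIndependent (P.comap (Ideal.Quotient.mk J)).ResidueField
        (fun g : ↥s => (1 : (P.comap (Ideal.Quotient.mk J)).ResidueField) ⊗ₜ[B]
          KaehlerDifferential.D R B (g : B)) := by
  classical
  have hP : P = (P.comap (Ideal.Quotient.mk J)).map (Ideal.Quotient.mk J) :=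
    (Ideal.map_comap_of_surjective _ Ideal.Quotient.mk_surjective P).symm
  haveI : ((P.comap (Ideal.Quotient.mk J)).map (Ideal.Quotient.mk J)).IsPrime := hP ▸ inferInstance
  have hJq : J ≤ P.comap (Ideal.Quotient.mk J) := by
    intro x hx
    rw [Ideal.mem_comap, Ideal.Quotient.eq_zero_iff_mem.mpr hx]
    exact zero_mem _
  rw [fs_transport (R := R) hP]
  constructor
  · intro h
    obtain ⟨m, f, D, hf, hspan, hdet⟩ := Z9.forward (R := R) hJq
    have hinj : Function.Injective f := by
      intro i j hij
      by_contra hne
      apply hdet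
      rw [Matrix.det_zero_of_row_eq hne (by ext k; simp [hij])]
      exact zero_mem _
    refine ⟨Finset.univ.image f, ?_, ?_, ?_⟩
    · intro x hx
      simp only [Finset.coe_image, Finset.coe_univ, Set.image_univ, Set.mem_range] at hx
      obtain ⟨i, rfl⟩ := hx
      exact hf i
    · rw [hspan]
      congr 1
      ext x
      simp
    · let e : Fin m ≃ ↥(Finset.univ.image f) :=
        Equiv.ofBijective (fun i => ⟨f i, Finset.mem_image_of_mem f (Finset.mem_univ i)⟩)
          ⟨fun i j hij => hinj (congrArg Subtype.val hij), fun ⟨x, hx⟩ => by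
            obtain ⟨i, -, rfl⟩ := Finset.mem_image.mp hx
            exact ⟨i, rfl⟩⟩
      rw [← linearIndependent_equiv e]
      exact linearIndependent_of_det _ f D hdet
  · rintro ⟨s, hsJ, hspan, hli⟩
    let e := s.equivFin
    let f : Fin s.card → B := fun i => (e.symm i : B)
    have hf : ∀ i, f i ∈ J := fun i => hsJ (e.symm i).2
    have hli' : LinearIndependent (P.comap (Ideal.Quotient.mk J)).ResidueField
        (fun i : Fin s.card => (1 : (P.comap (Ideal.Quotient.mk J)).ResidueField) ⊗ₜ[B]
          KaehlerDifferential.D R B (f i)) := by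
      have := (linearIndependent_equiv e.symm).mpr hli
      exact this
    obtain ⟨D, hD⟩ := Z5.exists_derivations (R := R) (P.comap (Ideal.Quotient.mk J))
      (TensorProduct.mk B (P.comap (Ideal.Quotient.mk J)).ResidueField Ω[B⁄R] 1)
      (by
        intro x hx ω
        rw [TensorProduct.mk_apply, TensorProduct.smul_tmul', Algebra.smul_def, mul_one,
          (Ideal.algebraMap_residueField_eq_zero).mpr hx, TensorProduct.zero_tmul])
      f
      (by
        intro b hb i
        rw [← Ideal.algebraMap_residueField_eq_zero]
        have h1 : ∑ i, algebraMap B (P.comap (Ideal.Quotient.mk J)).ResidueField (b i) •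
            ((1 : (P.comap (Ideal.Quotient.mk J)).ResidueField) ⊗ₜ[B]
              KaehlerDifferential.D R B (f i)) = 0 := by
          rw [← hb]
          refine Finset.sum_congr rfl (fun i _ => ?_)
          rw [TensorProduct.mk_apply, TensorProduct.smul_tmul', TensorProduct.smul_tmul']
          congr 1
          simp [Algebra.smul_def]
        exact Fintype.linearIndependent_iff.mp hli' _ h1 i)
    refine Z3.backward (R := R) J _ hJq f D hf ?_ hD
    rw [hspan]
    congr 1
    ext x
    constructor
    · rintro ⟨y, hy, rfl⟩
      exact ⟨e ⟨y, hy⟩, by simp [f]⟩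
    · rintro ⟨i, rfl⟩
      exact ⟨f i, (e.symm i).2, rfl⟩

end Y1

end Helpers

open TensorProduct in
/-- Let R be a Noetherian ring, A a smooth R-algebra, I an ideal of A, P a prime ideal of A/I and q its
preimage in A. Then A/I is smooth over R at P (that is, the local ring of A/I at P is formally
smooth over R) exactly when there are finitely many elements g_1, ..., g_p of I generating the ideal
I·A_q whose differentials dg_i have linearly independent images in κ(q) ⊗_A Ω_{A/R}. -/
theorem result
    (R A : Type u) [CommRing R] [CommRing A] [IsNoetherianRing R] [Algebra R A] [Algebra.Smooth R A]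
    (I : Ideal A) (P : Ideal (A ⧸ I)) [P.IsPrime] :
    letI q : Ideal A := P.comap (Ideal.Quotient.mk I)
    Algebra.IsSmoothAt R P ↔ ∃ s : Finset A, (↑s : Set A) ⊆ (I : Set A) ∧
      Ideal.map (algebraMap A (Localization.AtPrime q)) I =
        Ideal.span ((algebraMap A (Localization.AtPrime q)) '' (↑s : Set A)) ∧
      LinearIndependent q.ResidueField
        (fun g : ↥s => (1 : q.ResidueField) ⊗ₜ[A] KaehlerDifferential.D R A (g : A)) := by
  haveI : IsNoetherianRing A := Algebra.FiniteType.isNoetherianRing R A
  haveI : IsNoetherianRing (Localization.AtPrime (P.comap (Ideal.Quotient.mk I))) :=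
    IsLocalization.isNoetherianRing (P.comap (Ideal.Quotient.mk I)).primeCompl _ inferInstance
  exact Y1.jacobian_iff (R := R) I P

end Groth.Agent.S5998
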