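import Groth.Statements.S19149
import Mathlib
import Groth.Agent.S5998

set_option autoImplicit false
universe u
open GrpSch

namespace Groth.Agent.S19149

section Helpers

namespace Y2

variable {R A : Type u} [CommRing R] [CommRing A] [Algebra R A]

/-- For an augmented algebra, `a - ε a` lies in the augmentation ideal. -/
lemma sub_mem_ker (ε : A →ₐ[R] R) (a : A) : a - algebraMap R A (ε a) ∈ RingHom.ker ε := by
  rw [RingHom.mem_ker, map_sub, AlgHom.commutes, Algebra.algebraMap_self_apply, sub_self]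

/-- The derivation `a ↦ [a - ε a]` into the cotangent module of the augmentation ideal. -/
noncomputable def augDer (ε : A →ₐ[R] R) : Derivation R A (RingHom.ker ε).Cotangent where
  toFun a := (RingHom.ker ε).toCotangent ⟨a - algebraMap R A (ε a), sub_mem_ker ε a⟩
  map_add' a b := by
    rw [← map_add, Ideal.toCotangent_eq]
    simp only [map_add, Submodule.coe_add]
    ring_nf
    exact zero_mem _
  map_smul' r a := by
    rw [RingHom.id_apply, ← LinearMap.map_smul_of_tower, Ideal.toCotangent_eq]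
    have h0 : ((⟨r • a - algebraMap R A (ε (r • a)), sub_mem_ker ε _⟩ : RingHom.ker ε) : A) -
        ((r • (⟨a - algebraMap R A (ε a), sub_mem_ker ε a⟩ : RingHom.ker ε) : RingHom.ker ε) : A)
        = 0 := by
      simp [Algebra.smul_def, mul_sub]
    rw [h0]
    exact zero_mem _
  map_one_eq_zero' := by
    change (RingHom.ker ε).toCotangent _ = 0
    rw [Ideal.toCotangent_eq_zero]
    simp
  leibniz' a b := by
    change (RingHom.ker ε).toCotangent _ =
      a • (RingHom.ker ε).toCotangent _ + b • (RingHom.ker ε).toCotangent _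
    rw [← map_smul, ← map_smul, ← map_add, Ideal.toCotangent_eq]
    simp only [map_mul, Submodule.coe_add, SetLike.val_smul, smul_eq_mul]
    have : a * b - (algebraMap R A) (ε a) * (algebraMap R A) (ε b) -
        (a * (b - (algebraMap R A) (ε b)) + b * (a - (algebraMap R A) (ε a))) =
        - ((a - algebraMap R A (ε a)) * (b - algebraMap R A (ε b))) := by ring
    rw [this, neg_mem_iff, pow_two]
    exact Ideal.mul_mem_mul (sub_mem_ker ε a) (sub_mem_ker ε b)

lemma augDer_apply_of_mem (ε : A →ₐ[R] R) {x : A} (hx : x ∈ RingHom.ker ε) :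
    augDer ε x = (RingHom.ker ε).toCotangent ⟨x, hx⟩ := by
  change (RingHom.ker ε).toCotangent _ = _
  congr 1
  ext
  simp only
  rw [(RingHom.mem_ker).mp hx, map_zero, sub_zero]

end Y2

namespace Y3

open Y2 TensorProduct

variable {R A : Type u} [CommRing R] [CommRing A] [Algebra R A]

/-- If `1 ⊗ dx = 0` in `κ(q) ⊗ Ω` for `x` in the augmentation ideal `I ⊆ q`, then
`x ∈ q I + I²`. -/
lemma mem_sup_of_tmul_eq_zero [Module.Projective A Ω[A⁄R]] (ε : A →ₐ[R] R) (q : Ideal A)
    [q.IsPrime] {x : A} (hx : x ∈ RingHom.ker ε)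
    (h : (1 : q.ResidueField) ⊗ₜ[A] KaehlerDifferential.D R A x = 0) :
    x ∈ q * RingHom.ker ε ⊔ RingHom.ker ε ^ 2 := by
  classical
  obtain ⟨s, hs⟩ := (Module.projective_def' (R := A) (P := Ω[A⁄R])).mp inferInstance
  -- coordinates of `dx` lie in `q`
  have hcoord : ∀ φ : Ω[A⁄R] →ₗ[A] A, φ (KaehlerDifferential.D R A x) ∈ q := by
    intro φ
    let ℓ : q.ResidueField ⊗[A] Ω[A⁄R] →ₗ[q.ResidueField] q.ResidueField :=
      (TensorProduct.AlgebraTensorModule.rid A q.ResidueField q.ResidueField).toLinearMap ∘ₗ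
        (φ.baseChange q.ResidueField)
    have h1 : ℓ ((1 : q.ResidueField) ⊗ₜ[A] KaehlerDifferential.D R A x) =
        algebraMap A q.ResidueField (φ (KaehlerDifferential.D R A x)) := by
      simp [ℓ, Algebra.smul_def]
    rw [h, map_zero] at h1
    exact (Ideal.algebraMap_residueField_eq_zero).mp h1.symm
  -- `dx` lies in `q Ω`
  have hdx : KaehlerDifferential.D R A x ∈ (q • ⊤ : Submodule A Ω[A⁄R]) := by
    have h1 : KaehlerDifferential.D R A x =
        Finsupp.linearCombination A id (s (KaehlerDifferential.D R A x)) := by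
      rw [← LinearMap.comp_apply, hs]; rfl
    rw [h1, Finsupp.linearCombination_apply, Finsupp.sum]
    refine Submodule.sum_mem _ (fun l _ => ?_)
    exact Submodule.smul_mem_smul (hcoord (Finsupp.lapply l ∘ₗ s)) Submodule.mem_top
  -- apply the derivation `a ↦ [a - ε a]`
  let Λ : Ω[A⁄R] →ₗ[A] (RingHom.ker ε).Cotangent := (augDer ε).liftKaehlerDifferential
  have hΛ : Λ (KaehlerDifferential.D R A x) = (RingHom.ker ε).toCotangent ⟨x, hx⟩ := by
    rw [Derivation.liftKaehlerDifferential_comp_D, augDer_apply_of_mem ε hx]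
  have h2 : (RingHom.ker ε).toCotangent ⟨x, hx⟩ ∈
      (q • ⊤ : Submodule A (RingHom.ker ε).Cotangent) := by
    rw [← hΛ]
    have := Submodule.mem_map_of_mem (f := Λ) hdx
    rw [Submodule.map_smul''] at this
    exact Submodule.smul_mono le_rfl le_top this
  have h3 : (q • ⊤ : Submodule A (RingHom.ker ε).Cotangent) =
      Submodule.map (RingHom.ker ε).toCotangent (q • ⊤ : Submodule A (RingHom.ker ε)) := by
    rw [Submodule.map_smul'', Submodule.map_top,
      LinearMap.range_eq_top.mpr (RingHom.ker ε).toCotangent_surjective]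
  rw [h3] at h2
  obtain ⟨y, hy, hyx⟩ := h2
  rw [Ideal.toCotangent_eq] at hyx
  have hy' : (y : A) ∈ q * RingHom.ker ε := by
    have := Submodule.mem_map_of_mem (f := (RingHom.ker ε).subtype) hy
    rw [Submodule.map_smul'', Submodule.map_top, Submodule.range_subtype] at this
    exact this
  have : x = (y : A) + (-((y : A) - x)) := by ring
  rw [this]
  exact Submodule.add_mem_sup hy' (neg_mem hyx)

end Y3

namespace Y3

open Y2 TensorProduct

variable {R A : Type u} [CommRing R] [CommRing A] [Algebra R A]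

/-- The splitting argument: `J ∩ (q I + I²) ⊆ q J` when `J ∩ I² = I J` and `I/(J + I²)` is
projective over `R`. -/
lemma mem_mul_of_mem_sup (ε : A →ₐ[R] R) (J q : Ideal A) (hJI : J ≤ RingHom.ker ε)
    (hIq : RingHom.ker ε ≤ q)
    (h2 : J ⊓ RingHom.ker ε ^ 2 = RingHom.ker ε * J)
    (h3 : Module.Projective R (↥(RingHom.ker ε) ⧸
      Submodule.comap (RingHom.ker ε).subtype (J ⊔ RingHom.ker ε ^ 2)))
    {x : A} (hxJ : x ∈ J) (hx : x ∈ q * RingHom.ker ε ⊔ RingHom.ker ε ^ 2) : x ∈ q * J := by
  classical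
  set I := RingHom.ker ε with hI
  let N : Submodule A ↥I := Submodule.comap I.subtype (J ⊔ I ^ 2)
  let p : ↥I →ₗ[R] (↥I ⧸ N) := (Submodule.mkQ N).restrictScalars R
  have hp0 : ∀ (i : A) (hi : i ∈ I), i ∈ J ⊔ I ^ 2 → p ⟨i, hi⟩ = 0 := by
    intro i hi h
    change Submodule.Quotient.mk _ = 0
    rw [Submodule.Quotient.mk_eq_zero]
    exact h
  have hp0' : ∀ i : ↥I, p i = 0 → (i : A) ∈ J ⊔ I ^ 2 := by
    intro i h
    change Submodule.Quotient.mk _ = 0 at h
    rw [Submodule.Quotient.mk_eq_zero] at h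
    exact h
  obtain ⟨σ, hσ⟩ := Module.projective_lifting_property p LinearMap.id
    (Submodule.mkQ_surjective N)
  have hσ' : ∀ w, p (σ w) = w := fun w => congr($hσ w)
  have hI2I : I ^ 2 ≤ I := Ideal.pow_le_self two_ne_zero
  -- the predicate
  have key : ∀ y ∈ q * I, ∃ (w : ↥I ⧸ N) (j : A), j ∈ q * J ∧ y - (σ w : A) - j ∈ I ^ 2 := by
    intro y hy
    refine Submodule.mul_induction_on hy ?_ ?_
    · intro a ha i hi
      -- a = r + (a - r), r = algebraMap (ε a) ∈ q
      have hr : algebraMap R A (ε a) ∈ q := by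
        have h1 := hIq (sub_mem_ker ε a)
        have h2 := q.sub_mem ha h1
        simpa using h2
      -- i = σ (p i) + rest, rest ∈ J ⊔ I^2
      have hrest : ((⟨i, hi⟩ : ↥I) - σ (p ⟨i, hi⟩) : ↥I).1 ∈ J ⊔ I ^ 2 := by
        apply hp0'
        rw [map_sub, hσ', sub_self]
      obtain ⟨j0, hj0, z0, hz0, hjz⟩ := Submodule.mem_sup.mp hrest
      refine ⟨ε a • p ⟨i, hi⟩, algebraMap R A (ε a) * j0, Ideal.mul_mem_mul hr hj0, ?_⟩
      have hσsmul : ((σ (ε a • p ⟨i, hi⟩) : ↥I) : A) =
          algebraMap R A (ε a) * ((σ (p ⟨i, hi⟩) : ↥I) : A) := by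
        rw [map_smul]
        simp [Algebra.smul_def]
      have hi_eq : i = ((σ (p ⟨i, hi⟩) : ↥I) : A) + j0 + z0 := by
        have : (((⟨i, hi⟩ : ↥I) - σ (p ⟨i, hi⟩) : ↥I) : A) = i - ((σ (p ⟨i, hi⟩) : ↥I) : A) := rfl
        rw [this] at hjz
        rw [add_assoc, hjz]; ring
      rw [hσsmul]
      have : a * i - algebraMap R A (ε a) * ((σ (p ⟨i, hi⟩) : ↥I) : A) - algebraMap R A (ε a) * j0
          = (a - algebraMap R A (ε a)) * i + algebraMap R A (ε a) * z0 := by
        linear_combination (algebraMap R A (ε a)) * hi_eq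
      rw [this]
      refine Ideal.add_mem _ ?_ (Ideal.mul_mem_left _ _ hz0)
      rw [pow_two]
      exact Ideal.mul_mem_mul (sub_mem_ker ε a) hi
    · rintro y1 y2 ⟨w1, j1, hj1, h1⟩ ⟨w2, j2, hj2, h2⟩
      refine ⟨w1 + w2, j1 + j2, Ideal.add_mem _ hj1 hj2, ?_⟩
      have : y1 + y2 - ((σ (w1 + w2) : ↥I) : A) - (j1 + j2) =
          (y1 - (σ w1 : ↥I) - j1) + (y2 - (σ w2 : ↥I) - j2) := by
        rw [map_add]
        simp only [Submodule.coe_add]
        ring
      rw [this]
      exact Ideal.add_mem _ h1 h2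
  obtain ⟨y, hy, z, hz, rfl⟩ := Submodule.mem_sup.mp hx
  obtain ⟨w, j, hj, ht⟩ := key y hy
  have hjJ : j ∈ J := Ideal.mul_le_right hj
  -- t := y + z - σ w - j ∈ I^2
  have ht' : y + z - (σ w : ↥I) - j ∈ I ^ 2 := by
    have : y + z - (σ w : ↥I) - j = (y - (σ w : ↥I) - j) + z := by ring
    rw [this]
    exact Ideal.add_mem _ ht hz
  -- apply p
  have hw : w = 0 := by
    have hxI : y + z ∈ I := hJI hxJ
    have e1 : (σ w : ↥I) = ⟨y + z, hxI⟩ - ⟨j, hJI hjJ⟩ - ⟨y + z - (σ w : ↥I) - j, hI2I ht'⟩ := by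
      ext
      simp only [Submodule.coe_sub]
      ring
    have := hσ' w
    rw [e1, map_sub, map_sub, hp0 _ _ (Ideal.mem_sup_left hxJ), hp0 _ _ (Ideal.mem_sup_left hjJ),
      hp0 _ _ (Ideal.mem_sup_right ht')] at this
    simpa using this.symm
  rw [hw, map_zero] at ht'
  simp only [Submodule.coe_zero, sub_zero] at ht'
  have h4 : y + z - j ∈ J ⊓ I ^ 2 := ⟨J.sub_mem hxJ hjJ, ht'⟩
  rw [h2] at h4
  have h5 : y + z - j ∈ q * J := Ideal.mul_mono_left hIq h4
  have : y + z = (y + z - j) + j := by ring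
  rw [this]
  exact Ideal.add_mem _ h5 hj

end Y3

namespace Y4

/-- Minimal generators of an ideal of a Noetherian local ring chosen from a generating set are
independent modulo the maximal ideal. -/
lemma exists_min_gens_fg {P : Type*} [CommRing P] [IsLocalRing P] (S : Set P)
    (hfg : (Ideal.span S).FG) :
    ∃ (m : ℕ) (g : Fin m → P), (∀ i, g i ∈ S) ∧ Ideal.span (Set.range g) = Ideal.span S ∧
      ∀ b : Fin m → P, ∑ i, b i * g i ∈ IsLocalRing.maximalIdeal P * Ideal.span S →
        ∀ i, b i ∈ IsLocalRing.maximalIdeal P := by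
  classical
  have hex : ∃ m : ℕ, ∃ g : Fin m → P, (∀ i, g i ∈ S) ∧
      Ideal.span (Set.range g) = Ideal.span S := by
    obtain ⟨T, hTS, hT⟩ := (Submodule.fg_span_iff_fg_span_finset_subset S).mp hfg
    refine ⟨T.card, fun i => (T.equivFin.symm i : P), fun i => hTS (T.equivFin.symm i).2, ?_⟩
    have : Set.range (fun i => (T.equivFin.symm i : P)) = (T : Set P) := by
      ext x; constructor
      · rintro ⟨i, rfl⟩; exact (T.equivFin.symm i).2
      · intro hx; exact ⟨T.equivFin ⟨x, hx⟩, by simp⟩
    rw [this]; exact hT.symm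
  obtain ⟨m, ⟨g, hgS, hg⟩, hmin⟩ : ∃ m, (∃ g : Fin m → P, (∀ i, g i ∈ S) ∧
      Ideal.span (Set.range g) = Ideal.span S) ∧ ∀ m' < m, ¬ (∃ g : Fin m' → P, (∀ i, g i ∈ S) ∧
      Ideal.span (Set.range g) = Ideal.span S) :=
    ⟨Nat.find hex, Nat.find_spec hex, fun m' h => Nat.find_min hex h⟩
  clear hex
  refine ⟨m, g, hgS, hg, ?_⟩
  intro b hb i0
  by_contra hi0
  rw [← hg] at hb
  have hb' : ∑ i, b i * g i ∈ IsLocalRing.maximalIdeal P • Submodule.span P (Set.range g) := hb
  rw [Submodule.mem_ideal_smul_span_iff_exists_sum] at hb'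
  obtain ⟨a, ha, hab⟩ := hb'
  rw [Finsupp.sum_fintype a (fun i c => c • g i) (fun i => zero_smul _ _)] at hab
  have hsum : ∑ i, (b i - a i) * g i = 0 := by
    simp only [sub_mul, Finset.sum_sub_distrib, smul_eq_mul] at hab ⊢
    rw [hab, sub_self]
  have hu : IsUnit (b i0 - a i0) := by
    by_contra hnu
    have h1 : b i0 - a i0 ∈ IsLocalRing.maximalIdeal P := (IsLocalRing.mem_maximalIdeal _).mpr hnu
    apply hi0
    have := Ideal.add_mem _ h1 (ha i0)
    simpa using this
  -- the remaining generators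
  let ι' := {i : Fin m // i ≠ i0}
  let g' : Fin (Fintype.card ι') → P := fun k => g ((Fintype.equivFin ι').symm k)
  have hcard : Fintype.card ι' < m := by
    have := Fintype.card_subtype_lt (p := fun i : Fin m => i ≠ i0) (x := i0)
      (by simp)
    rw [Fintype.card_fin] at this
    exact this
  apply hmin _ hcard
  refine ⟨g', fun k => hgS _, ?_⟩
  have hrange : ∀ i, i ≠ i0 → g i ∈ Ideal.span (Set.range g') := by
    intro i hi
    apply Ideal.subset_span
    exact ⟨Fintype.equivFin ι' ⟨i, hi⟩, by simp [g']⟩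
  have hi0mem : g i0 ∈ Ideal.span (Set.range g') := by
    rw [← Finset.add_sum_erase _ _ (Finset.mem_univ i0)] at hsum
    have h2 : (b i0 - a i0) * g i0 = - ∑ i ∈ Finset.univ.erase i0, (b i - a i) * g i :=
      eq_neg_of_add_eq_zero_left hsum
    have h3 : (b i0 - a i0) * g i0 ∈ Ideal.span (Set.range g') := by
      rw [h2]
      refine Ideal.neg_mem_iff _ |>.mpr (Ideal.sum_mem _ (fun i hi => ?_))
      exact Ideal.mul_mem_left _ _ (hrange i (Finset.ne_of_mem_erase hi))
    exact (Ideal.unit_mul_mem_iff_mem _ hu).mp h3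
  apply le_antisymm
  · rw [Ideal.span_le]
    rintro _ ⟨k, rfl⟩
    exact Ideal.subset_span (hgS _)
  · rw [← hg, Ideal.span_le]
    rintro _ ⟨i, rfl⟩
    by_cases hi : i = i0
    · rw [hi]; exact hi0mem
    · exact hrange i hi

end Y4

namespace Y5

open Y2 Y3 Y4 TensorProduct Groth.Agent.S4580 Groth.Agent.S5998

variable {R A : Type u} [CommRing R] [CommRing A] [Algebra R A]

theorem smoothAt_of_augmentation [Algebra.FormallySmooth R A] (ε : A →ₐ[R] R) (J : Ideal A)
    (hJI : J ≤ RingHom.ker ε) (h1 : J.FG)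
    (h2 : J ⊓ RingHom.ker ε ^ 2 = RingHom.ker ε * J)
    (h3 : Module.Projective R (↥(RingHom.ker ε) ⧸
      Submodule.comap (RingHom.ker ε).subtype (J ⊔ RingHom.ker ε ^ 2)))
    (P : Ideal (A ⧸ J)) [P.IsPrime] (hP : (RingHom.ker ε).map (Ideal.Quotient.mk J) ≤ P) :
    Algebra.FormallySmooth R (Localization.AtPrime P) := by
  classical
  have hPq : P = (P.comap (Ideal.Quotient.mk J)).map (Ideal.Quotient.mk J) :=
    (Ideal.map_comap_of_surjective _ Ideal.Quotient.mk_surjective P).symm
  haveI : ((P.comap (Ideal.Quotient.mk J)).map (Ideal.Quotient.mk J)).IsPrime := hPq ▸ inferInstance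
  have hIq : RingHom.ker ε ≤ P.comap (Ideal.Quotient.mk J) := by
    rw [← Ideal.map_le_iff_le_comap]
    exact hP
  have hJq : J ≤ P.comap (Ideal.Quotient.mk J) := hJI.trans hIq
  rw [Y1.fs_transport (R := R) hPq]
  generalize hq : P.comap (Ideal.Quotient.mk J) = q at *
  haveI : q.IsPrime := hq ▸ inferInstance
  -- minimal generators of `J A_q`
  obtain ⟨m, g, hgS, hg, hind⟩ := exists_min_gens_fg (P := Localization.AtPrime q)
    ((algebraMap A (Localization.AtPrime q)) '' J) (h1.map _)
  choose f hfJ hfg using hgS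
  have hKq : Ideal.span ((algebraMap A (Localization.AtPrime q)) '' J) =
      J.map (algebraMap A (Localization.AtPrime q)) := rfl
  rw [hKq] at hg hind
  -- derivations
  obtain ⟨D, hD⟩ := Z5.exists_derivations (R := R) q
    (TensorProduct.mk A q.ResidueField Ω[A⁄R] 1)
    (by
      intro x hx ω
      rw [TensorProduct.mk_apply, TensorProduct.smul_tmul', Algebra.smul_def, mul_one,
        (Ideal.algebraMap_residueField_eq_zero).mpr hx, TensorProduct.zero_tmul])
    f
    (by
      intro b hb i
      rw [← IsLocalization.AtPrime.to_map_mem_maximal_iff (Localization.AtPrime q) q]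
      refine hind (fun i => algebraMap A (Localization.AtPrime q) (b i)) ?_ i
      -- x := Σ b_i f_i ∈ J with 1 ⊗ dx = 0
      have hxJ : ∑ i, b i * f i ∈ J := J.sum_mem (fun i _ => J.mul_mem_left _ (hfJ i))
      have hdx : (1 : q.ResidueField) ⊗ₜ[A] KaehlerDifferential.D R A (∑ i, b i * f i) = 0 := by
        rw [map_sum, TensorProduct.tmul_sum, ← hb]
        refine Finset.sum_congr rfl (fun i _ => ?_)
        rw [Derivation.leibniz, TensorProduct.tmul_add, TensorProduct.mk_apply]
        have : (1 : q.ResidueField) ⊗ₜ[A] (f i • KaehlerDifferential.D R A (b i)) = 0 := by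
          rw [← TensorProduct.smul_tmul, Algebra.smul_def, mul_one,
            (Ideal.algebraMap_residueField_eq_zero).mpr (hJq (hfJ i)), TensorProduct.zero_tmul]
        rw [this, add_zero, TensorProduct.tmul_smul]
      have h4 := mem_sup_of_tmul_eq_zero ε q (hJI hxJ) hdx
      have h5 := mem_mul_of_mem_sup ε J q hJI hIq h2 h3 hxJ h4
      have h6 := Ideal.mem_map_of_mem (algebraMap A (Localization.AtPrime q)) h5
      rw [Ideal.map_mul, Localization.AtPrime.map_eq_maximalIdeal] at h6
      have : ∑ i, algebraMap A (Localization.AtPrime q) (b i) * g i =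
          algebraMap A (Localization.AtPrime q) (∑ i, b i * f i) := by
        rw [map_sum]
        exact Finset.sum_congr rfl (fun i _ => by rw [map_mul, hfg])
      rw [this]
      exact h6)
  refine Z3.backward (R := R) J q hJq f D hfJ ?_ hD
  have hfg' : (fun i => algebraMap A (Localization.AtPrime q) (f i)) = g := funext hfg
  rw [hfg']
  exact hg.symm

end Y5

end Helpers

/-- In affine form, let R be a commutative ring, A a smooth R-algebra with an augmentation ε : A → R
(the unit section of G = Spec A over S = Spec R), I = ker ε its augmentation ideal, and J ⊆ I an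
ideal (defining a closed subscheme H of G through the unit section) such that (1) J is finitely
generated, (2) J ∩ I² = I·J in A, and (3) I/(J + I²) is a finitely generated projective R-module
(finite locally free on S). Then H = Spec (A/J) is smooth over S at every point of the unit section:
for every prime P of A/J containing the image of I, the localization (A/J)_P is formally smooth over
R. (The source states this for G an affine smooth group scheme over a scheme S and H a closed
subgroup, concluding that the neutral component H° is a smooth open subgroup scheme; that conclusion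
is smoothness of H along the unit section, which is the statement here in affine form; the group
structure is not used.) -/
theorem result (R A : Type u) [CommRing R] [CommRing A] [Algebra R A]
    [Algebra.Smooth R A] (ε : A →ₐ[R] R) (J : Ideal A) (hJI : J ≤ RingHom.ker ε)
    (h1 : J.FG)
    (h2 : J ⊓ RingHom.ker ε ^ 2 = RingHom.ker ε * J)
    (h3 : Module.Finite R (↥(RingHom.ker ε) ⧸ Submodule.comap (RingHom.ker ε).subtype (J ⊔ RingHom.ker ε ^ 2)) ∧
      Module.Projective R (↥(RingHom.ker ε) ⧸ Submodule.comap (RingHom.ker ε).subtype (J ⊔ RingHom.ker ε ^ 2)))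
    (P : Ideal (A ⧸ J)) [P.IsPrime] (hP : (RingHom.ker ε).map (Ideal.Quotient.mk J) ≤ P) :
    Algebra.IsSmoothAt R P := by
  exact Y5.smoothAt_of_augmentation ε J hJI h1 h2 h3.2 P hP

end Groth.Agent.S19149
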