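import Groth.Statements.S2108
import Mathlib
import Groth.Agent.S19149

set_option autoImplicit false
universe u
open Smoothing

namespace Groth.Agent.S2108

section Helpers

namespace W1

open Groth.Agent.S4580 Groth.Agent.S4580.Z7 Groth.Agent.S4580.Z9 Groth.Agent.S4580.Z5

variable {R B : Type u} [CommRing R] [CommRing B] [Algebra R B]

theorem forward_of_gens [Algebra.FormallySmooth R B] {J q : Ideal B} [q.IsPrime] (hJq : J ≤ q)
    [(q.map (Ideal.Quotient.mk J)).IsPrime]
    [Algebra.FormallySmooth R (Localization.AtPrime (q.map (Ideal.Quotient.mk J)))]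
    {m : ℕ} (f : Fin m → B) (hfJ : ∀ i, f i ∈ J)
    (hind : ∀ b : Fin m → Localization.AtPrime q,
      ∑ i, b i * algebraMap B (Localization.AtPrime q) (f i) ∈
        IsLocalRing.maximalIdeal (Localization.AtPrime q) *
          J.map (algebraMap B (Localization.AtPrime q)) →
        ∀ i, b i ∈ IsLocalRing.maximalIdeal (Localization.AtPrime q)) :
    ∃ D : Fin m → Derivation R B B, Matrix.det (Matrix.of fun i j => D j (f i)) ∉ q := by
  obtain ⟨L, hL1, hL2⟩ := exists_L (R := R) hJq
  have hq : ∀ x ∈ q, ∀ ω, x • L ω = 0 := fun x hx ω => smul_I'_eq_zero hx (hL1 ω)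
  have hind' : ∀ b : Fin m → B, ∑ i, b i • L (KaehlerDifferential.D R B (f i)) = 0 →
      ∀ i, b i ∈ q := by
    intro b hb i
    rw [← IsLocalization.AtPrime.to_map_mem_maximal_iff (Localization.AtPrime q) q]
    refine hind (fun i => algebraMap B (Localization.AtPrime q) (b i)) ?_ i
    rw [← Ideal.Quotient.eq_zero_iff_mem]
    have h1 : ∀ i, b i • L (KaehlerDifferential.D R B (f i)) =
        - Ideal.Quotient.mk (IsLocalRing.maximalIdeal (Localization.AtPrime q) * Kq J q)
          (algebraMap B (Localization.AtPrime q) (b i) *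
            algebraMap B (Localization.AtPrime q) (f i)) := by
      intro i
      rw [hL2 _ (hfJ i), Algebra.smul_def, map_mul]
      have e1 : ∀ y : B, algebraMap B (A' J q) y =
          Ideal.Quotient.mk _ (algebraMap B (Localization.AtPrime q) y) := fun y => rfl
      rw [e1, e1, mul_neg]
    rw [Finset.sum_congr rfl (fun i _ => h1 i), Finset.sum_neg_distrib, neg_eq_zero,
      ← map_sum] at hb
    exact hb
  exact exists_derivations q L hq f hind'

end W1

namespace W2

open MvPolynomial

/-- A derivation of a polynomial ring is a combination of partial derivatives. -/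
lemma derivation_eq_sum {R : Type*} [CommRing R] {σ : Type*} [Fintype σ]
    (D : Derivation R (MvPolynomial σ R) (MvPolynomial σ R)) (p : MvPolynomial σ R) :
    D p = ∑ k, pderiv k p * D (X k) := by
  classical
  let D' : Derivation R (MvPolynomial σ R) (MvPolynomial σ R) := ∑ k, D (X k) • pderiv k
  have h : D = D' := by
    apply MvPolynomial.derivation_ext
    intro i
    have : D' (X i) = ∑ k, D (X k) * pderiv k (X i) := by
      simp only [D']
      rw [← Derivation.coeFnAddMonoidHom_apply, map_sum, Finset.sum_apply]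
      rfl
    rw [this]
    simp [pderiv_X, Pi.single_apply]
  have hp : D p = D' p := congrArg (fun E : Derivation R (MvPolynomial σ R) (MvPolynomial σ R) => E p) h
  rw [hp]
  have : D' p = ∑ k, D (X k) * pderiv k p := by
    simp only [D']
    rw [← Derivation.coeFnAddMonoidHom_apply, map_sum, Finset.sum_apply]
    rfl
  rw [this]
  exact Finset.sum_congr rfl (fun k _ => mul_comm _ _)

end W2

namespace W3

open MvPolynomial W2 Groth.Agent.S4580

lemma exists_cols {R : Type u} [CommRing R] {n c : ℕ} (q : Ideal (MvPolynomial (Fin n) R))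
    [q.IsPrime] (h : Fin c → MvPolynomial (Fin n) R)
    (D : Fin c → Derivation R (MvPolynomial (Fin n) R) (MvPolynomial (Fin n) R))
    (hdet : Matrix.det (Matrix.of fun i j => D j (h i)) ∉ q) :
    ∃ cols : Fin c ↪ Fin n,
      Matrix.det (Matrix.of fun i k : Fin c => pderiv (cols k) (h i)) ∉ q := by
  classical
  let π : MvPolynomial (Fin n) R →+* q.ResidueField := algebraMap _ q.ResidueField
  have hπ : ∀ x, π x = 0 ↔ x ∈ q := fun x => Ideal.algebraMap_residueField_eq_zero
  let Mκ : Matrix (Fin c) (Fin n) q.ResidueField := Matrix.of fun i k => π (pderiv k (h i))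
  let E : Matrix (Fin n) (Fin c) q.ResidueField := Matrix.of fun k j => π (D j (X k))
  have hME : Mκ * E = π.mapMatrix (Matrix.of fun i j => D j (h i)) := by
    ext i j
    simp only [Matrix.mul_apply, Mκ, E, Matrix.of_apply, RingHom.mapMatrix_apply, Matrix.map_apply]
    rw [derivation_eq_sum (D j) (h i), map_sum]
    exact Finset.sum_congr rfl (fun k _ => (map_mul π _ _).symm)
  have hdet' : (Mκ * E).det ≠ 0 := by
    rw [hME, ← RingHom.map_det]
    intro h0
    exact hdet ((hπ _).mp h0)
  let S : Set (Fin c → q.ResidueField) := Set.range (fun k : Fin n => fun i => Mκ i k)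
  have hS : ∀ b : Fin c → q.ResidueField, b ≠ 0 → ∃ v ∈ S, b ⬝ᵥ v ≠ 0 := by
    intro b hb
    by_contra hcon
    push_neg at hcon
    apply hb
    have h1 : Matrix.vecMul b Mκ = 0 := by
      ext k
      exact hcon _ ⟨k, rfl⟩
    have h2 : Matrix.vecMul b (Mκ * E) = 0 := by
      rw [← Matrix.vecMul_vecMul, h1, Matrix.zero_vecMul]
    exact Matrix.eq_zero_of_vecMul_eq_zero hdet' h2
  obtain ⟨cf, hcS, hc⟩ := Z4.exists_det_ne_zero S hS
  choose cols0 hcols0 using hcS
  have hmat : (Matrix.of fun i j => cf j i) =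
      π.mapMatrix (Matrix.of fun i k : Fin c => pderiv (cols0 k) (h i)) := by
    ext i j
    simp only [Matrix.of_apply, RingHom.mapMatrix_apply, Matrix.map_apply]
    rw [← hcols0 j]
    rfl
  rw [hmat] at hc
  have hinj : Function.Injective cols0 := by
    intro j1 j2 hj
    by_contra hne
    apply hc
    exact Matrix.det_zero_of_column_eq hne (by intro i; simp [hj])
  refine ⟨⟨cols0, hinj⟩, ?_⟩
  intro hmem
  apply hc
  rw [← RingHom.map_det]
  exact (hπ _).mpr hmem

end W3

namespace W4

open MvPolynomial W1 W3 Groth.Agent.S19149.Y4 Groth.Agent.S4580 Groth.Agent.S5998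

/-- If `x/1` lies in the extension of `span (range h)` to `B_q`, some `s ∉ q` has
`s x ∈ span (range h)`. -/
lemma exists_mul_mem {B : Type*} [CommRing B] (q : Ideal B) [q.IsPrime] (T : Ideal B) {x : B}
    (hx : algebraMap B (Localization.AtPrime q) x ∈ T.map (algebraMap B (Localization.AtPrime q))) :
    ∃ s : B, s ∉ q ∧ s * x ∈ T := by
  rw [IsLocalization.mem_map_algebraMap_iff q.primeCompl] at hx
  obtain ⟨⟨a, u⟩, hau⟩ := hx
  rw [← map_mul, IsLocalization.eq_iff_exists q.primeCompl] at hau
  obtain ⟨u', hu'⟩ := hau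
  refine ⟨u' * u, q.primeCompl.mul_mem u'.2 u.2, ?_⟩
  have : (u' : B) * u * x = u' * (x * u) := by ring
  rw [this, hu']
  exact T.mul_mem_left _ a.2

theorem main {R : Type u} [CommRing R] {n m : ℕ} (f : Fin m → MvPolynomial (Fin n) R)
    (J : Ideal (MvPolynomial (Fin n) R)) (hJ : J = Ideal.span (Set.range f))
    (P : Ideal (MvPolynomial (Fin n) R ⧸ J)) [P.IsPrime]
    [hfs : Algebra.FormallySmooth R (Localization.AtPrime P)] :
    ∃ (c : ℕ) (rows : Fin c ↪ Fin m) (cols : Fin c ↪ Fin n) (s : MvPolynomial (Fin n) R),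
      s ∉ P.comap (Ideal.Quotient.mk J) ∧
      Matrix.det (Matrix.of fun j k : Fin c => pderiv (cols k) (f (rows j))) ∉
        P.comap (Ideal.Quotient.mk J) ∧
      ∀ ℓ, s * f ℓ ∈ Ideal.span (Set.range (f ∘ rows)) := by
  classical
  have hPq : P = (P.comap (Ideal.Quotient.mk J)).map (Ideal.Quotient.mk J) :=
    (Ideal.map_comap_of_surjective _ Ideal.Quotient.mk_surjective P).symm
  haveI : ((P.comap (Ideal.Quotient.mk J)).map (Ideal.Quotient.mk J)).IsPrime := hPq ▸ inferInstance
  have hJq : J ≤ P.comap (Ideal.Quotient.mk J) := by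
    intro x hx
    rw [Ideal.mem_comap, Ideal.Quotient.eq_zero_iff_mem.mpr hx]
    exact zero_mem _
  rw [Y1.fs_transport (R := R) hPq] at hfs
  generalize hq : P.comap (Ideal.Quotient.mk J) = q at *
  haveI : q.IsPrime := hq ▸ inferInstance
  -- minimal generators among the `f ℓ`
  have hspanS : Ideal.span (Set.range fun ℓ => algebraMap _ (Localization.AtPrime q) (f ℓ)) =
      J.map (algebraMap _ (Localization.AtPrime q)) := by
    rw [hJ, Ideal.map_span, ← Set.range_comp]
    rfl
  obtain ⟨c, g, hgS, hg, hind⟩ := exists_min_gens_fg (P := Localization.AtPrime q)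
    (Set.range fun ℓ => algebraMap _ (Localization.AtPrime q) (f ℓ))
    (Submodule.fg_span (Set.finite_range _))
  choose rows0 hrows0 using hgS
  rw [hspanS] at hg hind
  have hrows_inj : Function.Injective rows0 := by
    intro i j hij
    by_contra hne
    have hgij : g i = g j := by rw [← hrows0 i, ← hrows0 j, hij]
    have h1 := hind (fun k => if k = i then 1 else if k = j then -1 else 0) (by
      have : ∑ k, (if k = i then (1 : Localization.AtPrime q) else if k = j then -1 else 0) * g k
          = g i - g j := by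
        rw [Finset.sum_eq_add_of_mem i j (Finset.mem_univ _) (Finset.mem_univ _) hne]
        · simp [Ne.symm hne]; ring
        · intro k _ hk
          simp [hk.1, hk.2]
      rw [this, hgij, sub_self]
      exact zero_mem _) i
    simp only [if_true] at h1
    exact (IsLocalRing.maximalIdeal (Localization.AtPrime q)).ne_top_iff_one.mp
      (IsLocalRing.maximalIdeal.isMaximal _).ne_top h1
  have hg' : (fun i => algebraMap _ (Localization.AtPrime q) (f (rows0 i))) = g := funext hrows0
  obtain ⟨D, hD⟩ := forward_of_gens (R := R) hJq (fun i => f (rows0 i))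
    (fun i => hJ ▸ Ideal.subset_span (Set.mem_range_self (rows0 i)))
    (by
      intro b hb
      have hb' : ∑ i, b i * g i ∈ IsLocalRing.maximalIdeal (Localization.AtPrime q) *
          J.map (algebraMap _ (Localization.AtPrime q)) := by
        have e : ∀ i, g i = algebraMap _ (Localization.AtPrime q) (f (rows0 i)) :=
          fun i => (hrows0 i).symm
        simp only [e]
        exact hb
      exact hind b hb')
  obtain ⟨cols, hcols⟩ := exists_cols q (fun i => f (rows0 i)) D hD
  -- the multiplier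
  have hsℓ : ∀ ℓ, ∃ s : MvPolynomial (Fin n) R, s ∉ q ∧
      s * f ℓ ∈ Ideal.span (Set.range (f ∘ rows0)) := by
    intro ℓ
    apply exists_mul_mem q
    rw [Ideal.map_span, ← Set.range_comp]
    have h1 : (algebraMap _ (Localization.AtPrime q)) ∘ (f ∘ rows0) = g := hg'
    rw [h1, hg]
    exact Ideal.mem_map_of_mem _ (hJ ▸ Ideal.subset_span (Set.mem_range_self ℓ))
  choose s hsq hs using hsℓ
  refine ⟨c, ⟨rows0, hrows_inj⟩, cols, ∏ ℓ, s ℓ, ?_, hcols, ?_⟩
  · intro hmem
    obtain ⟨ℓ, -, hℓ⟩ := (Ideal.IsPrime.prod_mem_iff).mp hmem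
    exact hsq ℓ hℓ
  · intro ℓ
    obtain ⟨t, ht⟩ := Finset.dvd_prod_of_mem s (Finset.mem_univ ℓ)
    rw [ht]
    have : s ℓ * t * f ℓ = t * (s ℓ * f ℓ) := by ring
    rw [this]
    exact Ideal.mul_mem_left _ _ (hs ℓ)

end W4

namespace W5

open MvPolynomial W4 Smoothing

theorem wrapper {R A : Type u} [CommRing R] [CommRing A] [Algebra R A] {n m : ℕ}
    (f : Fin m → MvPolynomial (Fin n) R) (φ : MvPolynomial (Fin n) R →ₐ[R] A) (hφ : Function.Surjective φ)
    (hker : RingHom.ker φ.toRingHom = Ideal.span (Set.range f)) (q : Ideal A) [q.IsPrime] [Algebra.IsSmoothAt R q] :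
    ∃ a : A, a ∉ q ∧ ∃ (c : ℕ) (rows : Fin c ↪ Fin m) (cols : Fin c ↪ Fin n) (a' : A),
      a = a' * φ (Smoothing.jacobianMinor f rows cols) ∧
      ∀ a₁ : MvPolynomial (Fin n) R, φ a₁ = a → ∀ ℓ : Fin m,
        a₁ * f ℓ ∈ Ideal.span (Set.range (f ∘ rows)) ⊔ Ideal.span (Set.range f) ^ 2 := by
  classical
  have hJ : RingHom.ker φ = Ideal.span (Set.range f) := by
    rw [← hker]; rfl
  let e : (MvPolynomial (Fin n) R ⧸ RingHom.ker φ) ≃ₐ[R] A :=
    Ideal.quotientKerAlgEquivOfSurjective hφ
  have he : ∀ x, e (Ideal.Quotient.mk _ x) = φ x := fun x => rfl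
  haveI hP : (q.comap e).IsPrime := Ideal.comap_isPrime _ _
  haveI : Algebra.FormallySmooth R (Localization.AtPrime (q.comap e)) :=
    Algebra.FormallySmooth.of_equiv (Localization.localAlgEquiv (q.comap e) q e rfl).symm
  obtain ⟨c, rows, cols, s, hs, hminor, hmul⟩ := main f (RingHom.ker φ) hJ (q.comap e)
  have hmem : ∀ x, x ∈ (q.comap e).comap (Ideal.Quotient.mk (RingHom.ker φ)) ↔ φ x ∈ q := by
    intro x
    rw [Ideal.mem_comap, Ideal.mem_comap, he]
  rw [hmem] at hs hminor
  refine ⟨φ (s * jacobianMinor f rows cols), ?_, c, rows, cols, φ s, map_mul φ _ _, ?_⟩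
  · rw [map_mul]
    intro h
    rcases Ideal.IsPrime.mem_or_mem inferInstance h with h | h
    · exact hs h
    · exact hminor h
  · intro a₁ ha₁ ℓ
    have hdiff : a₁ - s * jacobianMinor f rows cols ∈ Ideal.span (Set.range f) := by
      rw [← hJ, RingHom.mem_ker, map_sub, ha₁, sub_self]
    have hfℓ : f ℓ ∈ Ideal.span (Set.range f) := Ideal.subset_span (Set.mem_range_self ℓ)
    have e1 : a₁ * f ℓ = jacobianMinor f rows cols * (s * f ℓ) +
        (a₁ - s * jacobianMinor f rows cols) * f ℓ := by ring
    rw [e1]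
    refine Submodule.add_mem_sup (Ideal.mul_mem_left _ _ (hmul ℓ)) ?_
    rw [pow_two]
    exact Ideal.mul_mem_mul hdiff hfℓ

end W5

end Helpers

/-- Let `A = R[x_1, …, x_n]/(f_1, …, f_m)` and `𝔮` a prime of `A` at which `R → A` is smooth. Then there
are `a ∈ A ∖ 𝔮`, an integer `c` and injections picking `c` relations and `c` variables such that `a`
is a multiple of the image of the corresponding Jacobian minor and `a f_ℓ` lies in the ideal
generated by the chosen relations plus the square of the relation ideal, for every `ℓ`. -/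
theorem result {R A : Type u} [CommRing R] [CommRing A] [Algebra R A] {n m : ℕ}
    (f : Fin m → MvPolynomial (Fin n) R) (φ : MvPolynomial (Fin n) R →ₐ[R] A) (hφ : Function.Surjective φ)
    (hker : RingHom.ker φ.toRingHom = Ideal.span (Set.range f)) (q : Ideal A) [q.IsPrime] [Algebra.IsSmoothAt R q] :
    ∃ a : A, a ∉ q ∧ ∃ (c : ℕ) (rows : Fin c ↪ Fin m) (cols : Fin c ↪ Fin n) (a' : A),
      a = a' * φ (Smoothing.jacobianMinor f rows cols) ∧
      ∀ a₁ : MvPolynomial (Fin n) R, φ a₁ = a → ∀ ℓ : Fin m,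
        a₁ * f ℓ ∈ Ideal.span (Set.range (f ∘ rows)) ⊔ Ideal.span (Set.range f) ^ 2 := by
  exact W5.wrapper f φ hφ hker q

end Groth.Agent.S2108
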