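import Groth.Statements.S9441
import Mathlib
import Groth.Agent.S2108
import Groth.Agent.Lib.H56FibDimSmooth2
import Groth.Agent.Lib.H56LocDimRing

set_option autoImplicit false
universe u
open Synt

namespace Groth.Agent.S9441

section Helpers

namespace E1

open MvPolynomial

variable {R : Type u} [CommRing R] {n c : ℕ} (v : Fin c → MvPolynomial (Fin n) R)
  (cols : Fin c ↪ Fin n)

/-- The quotient `R[x]/(v)`. -/
abbrev Quot : Type u := MvPolynomial (Fin n) R ⧸ Ideal.span (Set.range v)

/-- The naive presubmersive presentation of `R[x]/(v)` with chosen columns. -/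
noncomputable def pre : Algebra.PreSubmersivePresentation R (Quot v) (Fin n) (Fin c) :=
  Algebra.PreSubmersivePresentation.naive cols cols.injective

lemma jac_eq : (pre v cols).jacobian = Ideal.Quotient.mk _
    (Matrix.det (Matrix.of fun j k : Fin c => pderiv (cols k) (v j))) := by
  classical
  rw [Algebra.PreSubmersivePresentation.jacobian_eq_jacobiMatrix_det]
  have : (pre v cols).jacobiMatrix =
      (Matrix.of fun j k : Fin c => pderiv (cols k) (v j)).transpose := by
    ext i j
    rw [Algebra.PreSubmersivePresentation.jacobiMatrix_apply]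
    rfl
  rw [this, Matrix.det_transpose]
  rfl

theorem isStandardSmooth (g' : Quot v) (T : Type u) [CommRing T] [Algebra (Quot v) T]
    [Algebra R T] [IsScalarTower R (Quot v) T] [IsLocalization.Away g' T]
    (h : IsUnit (algebraMap (Quot v) T (Ideal.Quotient.mk _
      (Matrix.det (Matrix.of fun j k : Fin c => pderiv (cols k) (v j)))))) :
    Algebra.IsStandardSmoothOfRelativeDimension (n - c) R T := by
  let preLoc : Algebra.PreSubmersivePresentation R T (Unit ⊕ Fin n) (Unit ⊕ Fin c) :=
    (Algebra.PreSubmersivePresentation.localizationAway T g').comp (pre v cols)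
  have hunit : IsUnit preLoc.jacobian := by
    rw [Algebra.PreSubmersivePresentation.comp_jacobian_eq_jacobian_smul_jacobian,
      Algebra.PreSubmersivePresentation.localizationAway_jacobian, Algebra.smul_def, jac_eq]
    exact h.mul (IsLocalization.Away.algebraMap_isUnit g')
  let subLoc : Algebra.SubmersivePresentation R T (Unit ⊕ Fin n) (Unit ⊕ Fin c) :=
    { __ := preLoc, jacobian_isUnit := hunit }
  exact subLoc.isStandardSmoothOfRelativeDimension (by
    simp [Algebra.Presentation.dimension]; omega)

end E1

namespace E2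

open Groth.Agent.Lib.H56LocDim PrimeSpectrum

/-- An open-embedding criterion: `i ∘ j` open embedding and `i` injective continuous
  imply `j` open embedding. -/
lemma isOpenEmbedding_of_comp {X Y Z : Type*} [TopologicalSpace X] [TopologicalSpace Y]
    [TopologicalSpace Z] (j : X → Y) (i : Y → Z) (hj : Continuous j) (hi : Continuous i)
    (hinj : Function.Injective i) (h : Topology.IsOpenEmbedding (i ∘ j)) :
    Topology.IsOpenEmbedding j := by
  rw [Topology.isOpenEmbedding_iff_continuous_injective_isOpenMap]
  refine ⟨hj, Function.Injective.of_comp h.injective, ?_⟩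
  intro U hU
  have : j '' U = i ⁻¹' ((i ∘ j) '' U) := by
    rw [Set.image_comp, Set.preimage_image_eq _ hinj]
  rw [this]
  exact (h.isOpenMap U hU).preimage hi

theorem fibLocDim_quotient_eq {R B : Type u} [CommRing R] [CommRing B] [Algebra R B]
    (J' J : Ideal B) (hJ : J' ≤ J) (g0 : B) (hg0 : ∀ x ∈ J, g0 * x ∈ J') (d : ℕ)
    (T : Type u) [CommRing T] [Algebra (B ⧸ J') T] [Algebra R T] [IsScalarTower R (B ⧸ J') T]
    [IsLocalization.Away (Ideal.Quotient.mk J' g0) T]
    [hT : Algebra.IsStandardSmoothOfRelativeDimension d R T]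
    (q : PrimeSpectrum (B ⧸ J)) (hq : Ideal.Quotient.mk J g0 ∉ q.asIdeal) :
    fibLocDim (comap (algebraMap R (B ⧸ J))) q = d := by
  have hunit : IsUnit (algebraMap (B ⧸ J') T (Ideal.Quotient.mk J' g0)) :=
    IsLocalization.Away.algebraMap_isUnit _
  let ψ : B ⧸ J →+* T := Ideal.Quotient.lift J ((algebraMap (B ⧸ J') T).comp (Ideal.Quotient.mk J'))
    (by
      intro x hx
      have h1 : algebraMap (B ⧸ J') T (Ideal.Quotient.mk J' g0) *
          algebraMap (B ⧸ J') T (Ideal.Quotient.mk J' x) = 0 := by
        rw [← map_mul, ← map_mul, Ideal.Quotient.eq_zero_iff_mem.mpr (hg0 x hx), map_zero]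
      exact (hunit.mul_right_eq_zero).mp h1)
  let fac : B ⧸ J' →+* B ⧸ J := Ideal.Quotient.factor hJ
  have hfac : Function.Surjective fac := Ideal.Quotient.factor_surjective hJ
  have hψfac : ψ.comp fac = algebraMap (B ⧸ J') T := by
    apply Ideal.Quotient.ringHom_ext
    ext x
    simp [ψ, fac]
  have hψR : ψ.comp (algebraMap R (B ⧸ J)) = algebraMap R T := by
    ext r
    have h1 : algebraMap R (B ⧸ J) r = Ideal.Quotient.mk J (algebraMap R B r) := rfl
    have h2 : algebraMap R (B ⧸ J') r = Ideal.Quotient.mk J' (algebraMap R B r) := rfl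
    rw [RingHom.comp_apply, h1, IsScalarTower.algebraMap_apply R (B ⧸ J') T, h2]
    rfl
  have hcomp : comap fac ∘ comap ψ = comap (algebraMap (B ⧸ J') T) := by
    rw [← hψfac]
    funext x
    rfl
  have hiinj : Function.Injective (comap fac) := comap_injective_of_surjective fac hfac
  have hj : Topology.IsOpenEmbedding (comap ψ) := by
    refine isOpenEmbedding_of_comp (comap ψ) (comap fac) (continuous_comap ψ) (continuous_comap fac)
      hiinj ?_
    rw [hcomp]
    exact localization_away_isOpenEmbedding T (Ideal.Quotient.mk J' g0)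
  -- `q` is in the image
  obtain ⟨qT, hqT⟩ : ∃ qT : PrimeSpectrum T, comap ψ qT = q := by
    have hmem : comap fac q ∈ Set.range (comap (algebraMap (B ⧸ J') T)) := by
      rw [localization_away_comap_range T (Ideal.Quotient.mk J' g0)]
      change Ideal.Quotient.mk J' g0 ∉ (comap fac q).asIdeal
      intro hcon
      apply hq
      have : fac (Ideal.Quotient.mk J' g0) ∈ q.asIdeal := hcon
      simpa [fac] using this
    obtain ⟨qT, hqT⟩ := hmem
    refine ⟨qT, hiinj ?_⟩
    rw [← hqT, ← hcomp]
    rfl
  have hsq := fibLocDim_eq_of_square hj (i := id) Function.injective_id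
    (comap (algebraMap R T)) (comap (algebraMap R (B ⧸ J)))
    (by
      intro x'
      rw [← hψR]
      rfl) qT
  rw [← hqT, ← hsq]
  exact fibLocDim_of_isStandardSmoothOfRelativeDimension R T d
    ((RingHom.isStandardSmoothOfRelativeDimension_algebraMap (n := d)).mpr hT) qT

end E2

namespace E3

open MvPolynomial Groth.Agent.Lib.H56LocDim PrimeSpectrum Groth.Agent.S4580 Groth.Agent.S5998

theorem backward (R : Type u) [CommRing R] (n c : ℕ) (F : Fin c → MvPolynomial (Fin n) R)
    (q : Ideal (MvPolynomial (Fin n) R ⧸ Ideal.span (Set.range F))) [q.IsPrime] (I : Fin c → Fin n)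
    (h : Ideal.Quotient.mk (Ideal.span (Set.range F))
        (Matrix.det (Matrix.of fun j i => pderiv (I i) (F j))) ∉ q) :
    Algebra.IsSmoothAt R q := by
  have hq : q = (q.comap (Ideal.Quotient.mk (Ideal.span (Set.range F)))).map
      (Ideal.Quotient.mk (Ideal.span (Set.range F))) :=
    (Ideal.map_comap_of_surjective _ Ideal.Quotient.mk_surjective q).symm
  haveI : ((q.comap (Ideal.Quotient.mk (Ideal.span (Set.range F)))).map
      (Ideal.Quotient.mk (Ideal.span (Set.range F)))).IsPrime := hq ▸ inferInstance
  have hJq : Ideal.span (Set.range F) ≤ q.comap (Ideal.Quotient.mk (Ideal.span (Set.range F))) := by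
    intro x hx
    rw [Ideal.mem_comap, Ideal.Quotient.eq_zero_iff_mem.mpr hx]
    exact zero_mem _
  change Algebra.FormallySmooth R (Localization.AtPrime q)
  rw [Y1.fs_transport (R := R) hq]
  refine Z3.backward (R := R) (Ideal.span (Set.range F))
    (q.comap (Ideal.Quotient.mk (Ideal.span (Set.range F)))) hJq F (fun i => pderiv (I i))
    (fun i => Ideal.subset_span ⟨i, rfl⟩) ?_ ?_
  · rw [Ideal.map_span, ← Set.range_comp]
    rfl
  · intro hmem
    exact h hmem

end E3

namespace E4

open MvPolynomial Groth.Agent.Lib.H56LocDim PrimeSpectrum Groth.Agent.S4580 Groth.Agent.S5998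

lemma isUnit_right {S' : Type*} [CommRing S'] (a b g : S') (hg : g = a * b) (T : Type*)
    [CommRing T] [Algebra S' T] [IsLocalization.Away g T] : IsUnit (algebraMap S' T b) := by
  have h1 : IsUnit (algebraMap S' T g) := IsLocalization.Away.algebraMap_isUnit g
  rw [hg, map_mul] at h1
  exact isUnit_of_mul_isUnit_right h1

theorem forward (R : Type u) [CommRing R] (n c : ℕ) (F : Fin c → MvPolynomial (Fin n) R)
    (hF : Synt.IsRelGCI R n c F)
    (q : Ideal (Synt.RelGCIRing R n c F)) [q.IsPrime] [hsm : Algebra.IsSmoothAt R q] :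
    ∃ I : Fin c ↪ Fin n, Ideal.Quotient.mk (Ideal.span (Set.range F))
        (Matrix.det (Matrix.of fun j i => pderiv (I i) (F j))) ∉ q := by
  classical
  obtain ⟨c', rows, cols, s, hs, hminor, hmul⟩ :=
    Groth.Agent.S2108.W4.main F (Ideal.span (Set.range F)) rfl q
  rw [Ideal.mem_comap] at hs hminor
  have hc'c : c' ≤ c := by simpa using Fintype.card_le_of_embedding rows
  have hc'n : c' ≤ n := by simpa using Fintype.card_le_of_embedding cols
  have hJ'J : Ideal.span (Set.range (F ∘ rows)) ≤ Ideal.span (Set.range F) := by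
    rw [Ideal.span_le]; rintro _ ⟨i, rfl⟩; exact Ideal.subset_span ⟨rows i, rfl⟩
  set minor := Matrix.det (Matrix.of fun j k : Fin c' => pderiv (cols k) (F (rows j))) with hminor_def
  have hg0 : ∀ x ∈ Ideal.span (Set.range F), s * minor * x ∈ Ideal.span (Set.range (F ∘ rows)) := by
    intro x hx
    refine Submodule.span_induction ?_ ?_ ?_ ?_ hx
    · rintro _ ⟨ℓ, rfl⟩
      have : s * minor * F ℓ = minor * (s * F ℓ) := by ring
      rw [this]
      exact Ideal.mul_mem_left _ _ (hmul ℓ)
    · simp
    · intro x y _ _ hx hy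
      rw [mul_add]
      exact add_mem hx hy
    · intro a x _ hx
      rw [smul_eq_mul, mul_left_comm]
      exact Ideal.mul_mem_left _ _ hx
  have hq : Ideal.Quotient.mk (Ideal.span (Set.range F)) (s * minor) ∉ q := by
    rw [map_mul]
    intro h
    rcases Ideal.IsPrime.mem_or_mem inferInstance h with h | h
    · exact hs h
    · exact hminor h
  -- the standard smooth localization
  let T := Localization.Away (Ideal.Quotient.mk (Ideal.span (Set.range (F ∘ rows))) (s * minor))
  have hunit : IsUnit (algebraMap (E1.Quot (F ∘ rows)) T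
      (Ideal.Quotient.mk _ (Matrix.det (Matrix.of fun j k : Fin c' =>
        pderiv (cols k) ((F ∘ rows) j))))) :=
    isUnit_right (Ideal.Quotient.mk (Ideal.span (Set.range (F ∘ rows))) s) _
      (Ideal.Quotient.mk (Ideal.span (Set.range (F ∘ rows))) (s * minor)) (map_mul _ _ _) T
  haveI := E1.isStandardSmooth (F ∘ rows) cols
    (Ideal.Quotient.mk (Ideal.span (Set.range (F ∘ rows))) (s * minor)) T hunit
  have hdim := E2.fibLocDim_quotient_eq (R := R) (Ideal.span (Set.range (F ∘ rows)))
    (Ideal.span (Set.range F)) hJ'J (s * minor) hg0 (n - c') T ⟨q, inferInstance⟩ hq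
  -- upper bound by the fibre dimension
  let p : PrimeSpectrum R := comap (algebraMap R (Synt.RelGCIRing R n c F)) ⟨q, inferInstance⟩
  have hnt : Nontrivial (p.asIdeal.Fiber (Synt.RelGCIRing R n c F)) :=
    (PrimeSpectrum.preimageHomeomorphFiber R (Synt.RelGCIRing R n c F) p
      ⟨⟨q, inferInstance⟩, rfl⟩).nontrivial
  obtain ⟨hcn, hfd⟩ := hF p hnt
  have hle := fibLocDim_le_dim (comap (algebraMap R (Synt.RelGCIRing R n c F))) ⟨q, inferInstance⟩
  rw [topologicalKrullDim_fibre_eq, hfd] at hle
  rw [hdim] at hle
  have hle' : n - c' ≤ n - c := by exact_mod_cast hle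
  have hcc' : c' = c := by omega
  subst hcc'
  refine ⟨cols, ?_⟩
  intro hmem
  apply hminor
  have hbij : Function.Bijective rows := Finite.injective_iff_bijective.mp rows.injective
  let σ : Equiv.Perm (Fin c') := Equiv.ofBijective rows hbij
  have hsub : (Matrix.of fun j k : Fin c' => pderiv (cols k) (F (rows j))) =
      (Matrix.of fun j k : Fin c' => pderiv (cols k) (F j)).submatrix σ id := by
    ext j k
    rfl
  rw [hminor_def, hsub, Matrix.det_permute, map_mul]
  exact Ideal.mul_mem_left _ _ hmem

end E4

end Helpers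

/-- For a relative global complete intersection S = R[x_1, …, x_n]/(f_1, …, f_c) and a prime q of S, the
map R → S is smooth at q if and only if some c × c minor of the Jacobian matrix (∂f_j/∂x_i), taken
on c distinct variables, has image outside q. -/
theorem result (R : Type u) [CommRing R] (n c : ℕ)
    (F : Fin c → MvPolynomial (Fin n) R) (hF : Synt.IsRelGCI R n c F)
    (q : Ideal (Synt.RelGCIRing R n c F)) [q.IsPrime] :
    Algebra.IsSmoothAt R q ↔ ∃ I : Fin c ↪ Fin n,
      Ideal.Quotient.mk (Ideal.span (Set.range F))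
        (Matrix.det (Matrix.of fun j i => MvPolynomial.pderiv (I i) (F j))) ∉ q := by
  exact ⟨fun _ => E4.forward R n c F hF q, fun ⟨I, hI⟩ => E3.backward R n c F q I hI⟩

end Groth.Agent.S9441
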