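import Groth.Statements.S5779
import Groth.Agent.Lib.H94RegCount
import Groth.Agent.Lib.RegularLocal
import Mathlib.LinearAlgebra.Dimension.OrzechProperty
import Mathlib.LinearAlgebra.FiniteDimensional.Lemmas

set_option autoImplicit false
universe u
open EGA41

namespace Groth.Agent.S5779

open IsLocalRing Groth.Agent.Lib.H94RegCount Groth.Agent.Lib.RegularLocal Module

/-- A set `S` of elements of the maximal ideal generates it iff its image spans the cotangent
space. -/
theorem span_eq_maximalIdeal_of_span_cotangent {A : Type u} [CommRing A] [IsLocalRing A]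
    [IsNoetherianRing A] (S : Set (maximalIdeal A))
    (h : Submodule.span (ResidueField A) ((maximalIdeal A).toCotangent '' S) = ⊤) :
    Ideal.span (Subtype.val '' S) = maximalIdeal A := by
  have h1 : Submodule.span A S = ⊤ := CotangentSpace.span_image_eq_top_iff.mp h
  have h2 := congrArg (Submodule.map (maximalIdeal A).subtype) h1
  rw [Submodule.map_span, Submodule.map_top, Submodule.range_subtype] at h2
  exact h2

theorem span_cotangent_of_span_eq_maximalIdeal {A : Type u} [CommRing A] [IsLocalRing A]
    [IsNoetherianRing A] (S : Set (maximalIdeal A))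
    (h : Ideal.span (Subtype.val '' S) = maximalIdeal A) :
    Submodule.span (ResidueField A) ((maximalIdeal A).toCotangent '' S) = ⊤ := by
  apply CotangentSpace.span_image_eq_top_iff.mpr
  apply Submodule.map_injective_of_injective (maximalIdeal A).subtype_injective
  rw [Submodule.map_span, Submodule.map_top, Submodule.range_subtype]
  exact h

/-- A family in `m` with independent classes in `m/m²` extends to a generating family of `m` of
size `e(A)`. -/
theorem exists_generators_extending {A : Type u} [CommRing A] [IsLocalRing A]
    [IsNoetherianRing A] (r : ℕ) (x : Fin r → maximalIdeal A)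
    (hli : LinearIndependent (ResidueField A) (fun i => (maximalIdeal A).toCotangent (x i))) :
    ∃ (n : ℕ) (hr : r ≤ n) (X : Fin n → A), n = (maximalIdeal A).spanFinrank ∧
      Ideal.span (Set.range X) = maximalIdeal A ∧ ∀ i : Fin r, X (Fin.castLE hr i) = x i := by
  set v : Fin r → CotangentSpace A := fun i => (maximalIdeal A).toCotangent (x i) with hv
  set W : Submodule (ResidueField A) (CotangentSpace A) :=
    Submodule.span (ResidueField A) (Set.range v) with hW
  set q := finrank (ResidueField A) (CotangentSpace A ⧸ W) with hq
  let b : Basis (Fin q) (ResidueField A) (CotangentSpace A ⧸ W) :=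
    Module.finBasis (ResidueField A) (CotangentSpace A ⧸ W)
  have hlift : ∀ j : Fin q, ∃ a : maximalIdeal A, W.mkQ ((maximalIdeal A).toCotangent a) = b j := by
    intro j
    obtain ⟨u, hu⟩ := W.mkQ_surjective (b j)
    obtain ⟨a, ha⟩ := (maximalIdeal A).toCotangent_surjective u
    exact ⟨a, by rw [ha, hu]⟩
  choose a ha using hlift
  let X' : Fin (r + q) → maximalIdeal A := Fin.append x a
  refine ⟨r + q, Nat.le_add_right r q, fun i => (X' i : A), ?_, ?_, ?_⟩
  · rw [spanFinrank_maximalIdeal_eq_finrank_cotangentSpace A]
    have h1 := Submodule.finrank_quotient_add_finrank W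
    have h2 : finrank (ResidueField A) W = r := by
      have := finrank_span_eq_card hli
      simpa using this
    omega
  · have hrange : Set.range (fun i => (X' i : A)) = Subtype.val '' (Set.range X') := by
      rw [← Set.range_comp]; rfl
    rw [hrange]
    apply span_eq_maximalIdeal_of_span_cotangent
    set T := Submodule.span (ResidueField A) ((maximalIdeal A).toCotangent '' Set.range X') with hT
    have hWT : W ≤ T := by
      rw [hW, Submodule.span_le]
      rintro _ ⟨i, rfl⟩
      refine Submodule.subset_span ⟨X' (Fin.castAdd q i), ⟨_, rfl⟩, ?_⟩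
      show (maximalIdeal A).toCotangent (Fin.append x a (Fin.castAdd q i)) = v i
      rw [Fin.append_left]
    have hmap : Submodule.map W.mkQ T = ⊤ := by
      rw [eq_top_iff, ← b.span_eq, Submodule.span_le]
      rintro _ ⟨j, rfl⟩
      refine ⟨(maximalIdeal A).toCotangent (a j), ?_, ha j⟩
      refine Submodule.subset_span ⟨X' (Fin.natAdd r j), ⟨_, rfl⟩, ?_⟩
      show (maximalIdeal A).toCotangent (Fin.append x a (Fin.natAdd r j)) = _
      rw [Fin.append_right]
    have h3 := Submodule.comap_map_eq W.mkQ T
    rw [hmap, Submodule.comap_top, Submodule.ker_mkQ, sup_eq_left.mpr hWT] at h3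
    exact h3.symm
  · intro i
    show ((Fin.append x a (Fin.castAdd q i) : maximalIdeal A) : A) = x i
    rw [Fin.append_left]


/-- Let A be a Noetherian local ring with maximal ideal m and residue field k, (x_i)_{1 ≤ i ≤ r}
elements of m and J = x_1 A + ... + x_r A. Then A is regular with the classes of the x_i in m/m²
linearly independent over k (equivalently: the x_i are part of a regular system of parameters) if
and only if the x_i are part of a system of parameters of A (dim(A/J) = dim(A) - r) and A/J is
regular. When these conditions hold, J is a prime ideal. -/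
theorem result (A : Type u) [CommRing A] [IsLocalRing A]
    [IsNoetherianRing A] (r : ℕ) (x : Fin r → IsLocalRing.maximalIdeal A) :
    ((IsRegularLocalRing A ∧
        LinearIndependent (IsLocalRing.ResidueField A)
          (fun i => (IsLocalRing.maximalIdeal A).toCotangent (x i))) ↔
      (ringKrullDim (A ⧸ Ideal.span (Set.range fun i => (x i : A))) + r = ringKrullDim A ∧
        IsRegularLocalRing (A ⧸ Ideal.span (Set.range fun i => (x i : A))))) ∧
    (IsRegularLocalRing (A ⧸ Ideal.span (Set.range fun i => (x i : A))) →
      ringKrullDim (A ⧸ Ideal.span (Set.range fun i => (x i : A))) + r = ringKrullDim A →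
        (Ideal.span (Set.range fun i => (x i : A))).IsPrime) := by
  set J := Ideal.span (Set.range fun i => (x i : A)) with hJ
  have hJm : J ≤ maximalIdeal A := by
    rw [hJ, Ideal.span_le]
    rintro _ ⟨i, rfl⟩
    exact (x i).2
  have hJne : J ≠ ⊤ := fun h => (maximalIdeal.isMaximal A).ne_top (top_le_iff.mp (h ▸ hJm))
  have hnt : Nontrivial (A ⧸ J) := Ideal.Quotient.nontrivial_iff.mpr hJne
  have hloc : IsLocalRing (A ⧸ J) :=
    IsLocalRing.of_surjective' (Ideal.Quotient.mk J) Ideal.Quotient.mk_surjective
  have hμ : J.spanFinrank ≤ r := spanFinrank_span_range_le _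
  have hD1 : ringKrullDim A ≤ ringKrullDim (A ⧸ J) + J.spanFinrank :=
    ringKrullDim_le_ringKrullDim_quotient_add_spanFinrank J (by
      rw [IsLocalRing.ringJacobson_eq_maximalIdeal]; exact hJm)
  have hle' := ringKrullDim_le_spanFinrank_maximalIdeal (A ⧸ J)
  obtain ⟨D, hD, hDe⟩ := exists_nat_eq_of_nonneg_of_le ringKrullDim_nonneg_of_nontrivial hle'
  have hleA := ringKrullDim_le_spanFinrank_maximalIdeal A
  obtain ⟨DA, hDA, hDAe⟩ := exists_nat_eq_of_nonneg_of_le ringKrullDim_nonneg_of_nontrivial hleA
  have hD1' : DA ≤ D + J.spanFinrank := by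
    rw [hDA, hD] at hD1; exact_mod_cast hD1
  have hE2 := spanFinrank_maximalIdeal_le_quotient_add J
  refine ⟨⟨?_, ?_⟩, ?_⟩
  · rintro ⟨hreg, hli⟩
    obtain ⟨n, hr, X, hn, hX, hXx⟩ := exists_generators_extending r x hli
    have hJX : J = Ideal.span (Set.range fun i : Fin r => X (Fin.castLE hr i)) := by
      simp only [hXx]; rfl
    have h1 := spanFinrank_maximalIdeal_quotient_le_sub hr X hX J hJX
    have h2 : (maximalIdeal A).spanFinrank = DA := by
      have := (isRegularLocalRing_iff A).mp hreg
      rw [hDA] at this; exact_mod_cast this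
    have h3 : D = (maximalIdeal (A ⧸ J)).spanFinrank ∧ D + r = DA := by omega
    constructor
    · rw [hD, hDA]; exact_mod_cast h3.2
    · exact (isRegularLocalRing_iff _).mpr (by rw [hD, ← h3.1])
  · rintro ⟨hdim, hreg⟩
    have h2 : (maximalIdeal (A ⧸ J)).spanFinrank = D := by
      have := (isRegularLocalRing_iff (A ⧸ J)).mp hreg
      rw [hD] at this; exact_mod_cast this
    have h3 : D + r = DA := by
      rw [hD, hDA] at hdim; exact_mod_cast hdim
    have h4 : (maximalIdeal A).spanFinrank = DA := by omega
    have hregA : IsRegularLocalRing A := (isRegularLocalRing_iff A).mpr (by rw [hDA, h4])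
    refine ⟨hregA, ?_⟩
    classical
    obtain ⟨t, ht_card, ht⟩ := exists_finset_lift J (maximalIdeal A)
      (Ideal.fg_of_isNoetherianRing _)
    have hmJ : maximalIdeal A ⊔ J = maximalIdeal A := sup_eq_left.mpr hJm
    rw [hmJ] at ht
    have hmap : (maximalIdeal A).map (Ideal.Quotient.mk J) = maximalIdeal (A ⧸ J) :=
      map_maximalIdeal_of_surjective _ Ideal.Quotient.mk_surjective
    rw [hmap, h2] at ht_card
    have htm : ∀ y ∈ t, y ∈ maximalIdeal A := fun y hy =>
      ht ▸ Ideal.mem_sup_left (Ideal.subset_span hy)
    let tm : Finset (maximalIdeal A) := t.attach.image (fun y => ⟨y.1, htm y.1 y.2⟩)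
    let tV : Finset (CotangentSpace A) := tm.image (maximalIdeal A).toCotangent
    have htV : tV.card ≤ D :=
      (Finset.card_image_le.trans (Finset.card_image_le.trans (by simp))).trans ht_card
    let S : Set (maximalIdeal A) := Set.range x ∪ ↑tm
    have htmval : Subtype.val '' (tm : Set (maximalIdeal A)) = (t : Set A) := by
      ext y
      simp only [tm, Finset.coe_image, Set.mem_image, Finset.mem_coe, Finset.mem_attach, true_and]
      constructor
      · rintro ⟨_, ⟨z, rfl⟩, rfl⟩
        exact z.2
      · intro hy
        exact ⟨⟨y, htm y hy⟩, ⟨⟨y, hy⟩, rfl⟩, rfl⟩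
    have hS : Ideal.span (Subtype.val '' S) = maximalIdeal A := by
      rw [Set.image_union, Ideal.span_union, ← Set.range_comp, htmval, sup_comm]
      exact ht
    have hspan := span_cotangent_of_span_eq_maximalIdeal S hS
    rw [Set.image_union, Submodule.span_union, ← Set.range_comp] at hspan
    have htVc : (maximalIdeal A).toCotangent '' (tm : Set (maximalIdeal A)) = (tV : Set _) := by
      simp [tV]
    rw [htVc] at hspan
    have hfin : finrank (ResidueField A) (CotangentSpace A) = DA := by
      rw [← spanFinrank_maximalIdeal_eq_finrank_cotangentSpace, h4]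
    have h5 : finrank (ResidueField A) (⊤ : Submodule (ResidueField A) (CotangentSpace A)) = DA := by
      rw [finrank_top]; exact hfin
    rw [← hspan] at h5
    have h6 := Submodule.finrank_add_le_finrank_add_finrank
      (Submodule.span (ResidueField A) (Set.range ((maximalIdeal A).toCotangent ∘ x)))
      (Submodule.span (ResidueField A) (tV : Set (CotangentSpace A)))
    have h7 : finrank (ResidueField A) (Submodule.span (ResidueField A) (tV : Set (CotangentSpace A)))
        ≤ tV.card := finrank_span_finset_le_card tV
    have h8 : (Set.range ((maximalIdeal A).toCotangent ∘ x)).finrank (ResidueField A) ≤ r := by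
      simpa using finrank_range_le_card (R := ResidueField A) ((maximalIdeal A).toCotangent ∘ x)
    have key : DA ≤ (Set.range ((maximalIdeal A).toCotangent ∘ x)).finrank (ResidueField A) +
        tV.card :=
      calc DA = _ := h5.symm
        _ ≤ _ := h6
        _ ≤ _ := Nat.add_le_add_left h7 _
    rw [linearIndependent_iff_card_eq_finrank_span, Fintype.card_fin]
    show r = (Set.range ((maximalIdeal A).toCotangent ∘ x)).finrank (ResidueField A)
    omega
  · intro hreg _
    have := Groth.Agent.Lib.RegularLocal.isDomain (A ⧸ J)
    exact (Ideal.Quotient.isDomain_iff_prime J).mp this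

end Groth.Agent.S5779
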