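import Groth.Statements.S1994
import Groth.Agent.Lib.WEtaleNoethPair68
import Groth.Agent.Lib.PairHznWeaklyEtale68
import Groth.Agent.Lib.PairHenselizationEtale
-- import your own Groth.Agent.* helpers here

set_option autoImplicit false
universe u
open EtAlg

namespace Groth.Agent.S1994

/-- Levelwise bijectivity of `A → B` modulo powers of `I` (module form). -/
theorem reduceModIdeal_bijective (A : Type u) [CommRing A] (I : Ideal A)
    (B : Type u) [CommRing B] [Algebra A B] (hB : Hens2.IsPairHenselization A I B) (n : ℕ) :
    Function.Bijective ((Algebra.linearMap A B).reduceModIdeal (I ^ n)) := by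
  constructor
  · rw [injective_iff_map_eq_zero]
    intro x hx
    obtain ⟨a, rfl⟩ := Submodule.Quotient.mk_surjective _ x
    rw [LinearMap.reduceModIdeal_apply, Submodule.Quotient.mk_eq_zero, Ideal.smul_top_eq_map,
      Submodule.restrictScalars_mem, Algebra.linearMap_apply] at hx
    have ha := Groth.Agent.Lib.PairHenselizationEtale.mem_of_algebraMap_mem I hB n a hx
    rw [Submodule.Quotient.mk_eq_zero, smul_eq_mul, Ideal.mul_top]
    exact ha
  · intro y
    obtain ⟨b, rfl⟩ := Submodule.Quotient.mk_surjective _ y
    obtain ⟨a, ha⟩ := Groth.Agent.Lib.PairHenselizationEtale.exists_sub_mem I hB n b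
    refine ⟨Submodule.Quotient.mk a, ?_⟩
    rw [LinearMap.reduceModIdeal_apply, eq_comm, Submodule.Quotient.eq, Ideal.smul_top_eq_map,
      Submodule.restrictScalars_mem, Algebra.linearMap_apply]
    exact ha

/-- Let (A, I) be a pair with A Noetherian and B a henselization of the pair. Then B is Noetherian and
flat over A, and the induced map of adic completions, from the I-adic completion of A to the IB-adic
completion of B, is bijective. -/
theorem result (A : Type u) [CommRing A] [IsNoetherianRing A] (I : Ideal A)
    (B : Type u) [CommRing B] [Algebra A B] (hB : Hens2.IsPairHenselization A I B) :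
    IsNoetherianRing B ∧ Module.Flat A B ∧
      Function.Bijective (AdicCompletion.map I (Algebra.linearMap A B) :
        AdicCompletion I A → AdicCompletion I B) := by
  have hwe : Algebra.WeaklyEtale A B :=
    Groth.Agent.Lib.PairHznWeaklyEtale68.weaklyEtale_of_isPairHenselization A I B hB
  have hjac : I.map (algebraMap A B) ≤ Ideal.jacobson ⊥ := hB.1.jac
  have hq : IsNoetherianRing (B ⧸ I.map (algebraMap A B)) := by
    refine isNoetherianRing_of_surjective A (B ⧸ I.map (algebraMap A B))
      ((Ideal.Quotient.mk _).comp (algebraMap A B)) ?_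
    intro y
    obtain ⟨b, rfl⟩ := Ideal.Quotient.mk_surjective y
    obtain ⟨a, ha⟩ := Groth.Agent.Lib.PairHenselizationEtale.exists_sub_mem I hB 1 b
    rw [pow_one] at ha
    refine ⟨a, ?_⟩
    rw [RingHom.comp_apply, eq_comm]
    exact Ideal.Quotient.eq.mpr ha
  refine ⟨Groth.Agent.Lib.WEtaleNoethPair68.isNoetherianRing_of_weaklyEtale_of_le_jacobson I hjac,
    Algebra.WeaklyEtale.flat, ?_⟩
  exact Groth.Agent.Lib.WEtaleNoethPair68.map_bijective_of_levelwise I _
    (reduceModIdeal_bijective A I B hB)

end Groth.Agent.S1994
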