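import Groth.Statements.S5059
import Groth.Agent.S5777
import Groth.Agent.Lib.FlatCrit
import Mathlib

set_option autoImplicit false
universe u
open CInt

namespace Groth.Agent.S5059


open TensorProduct Function RingTheory.Sequence Groth.Agent.Lib.FlatCrit

/-- Jacobson radical version of the flatness criterion along a regular sequence. -/
theorem flat_iff_of_isWeaklyRegular {A B : Type u} [CommRing A] [CommRing B]
    [IsNoetherianRing A] [IsNoetherianRing B] [Algebra A B]
    (M : Type u) [AddCommGroup M] [Module B M] [Module A M]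
    [IsScalarTower A B M] [Module.Finite B M] (fs : List A)
    (hJB : (Ideal.ofList fs).map (algebraMap A B) ≤ Ideal.jacobson ⊥)
    (hA : IsWeaklyRegular A fs) :
    Module.Flat A M ↔
      Module.Flat (A ⧸ Ideal.ofList fs) (M ⧸ (Ideal.ofList fs • (⊤ : Submodule A M))) ∧
        IsWeaklyRegular M fs := by
  constructor
  · intro hM
    refine ⟨Module.Flat.of_linearEquiv (Groth.Agent.S5777.quotEquiv M (Ideal.ofList fs)).symm, ?_⟩
    have h1 : IsWeaklyRegular (M ⊗[A] A) fs := hA.isWeaklyRegular_lTensor (M₂ := M)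
    exact ((TensorProduct.rid A M).isWeaklyRegular_congr fs).mp h1
  · rintro ⟨h1, h2⟩
    have : Module.Flat (A ⧸ Ideal.ofList fs) ((A ⧸ Ideal.ofList fs) ⊗[A] M) :=
      Module.Flat.of_linearEquiv (Groth.Agent.S5777.quotEquiv M (Ideal.ofList fs))
    refine flat_of_idealSeparated (Ideal.ofList fs) ?_ ?_
    · intro 𝔞 x hx
      exact eq_zero_of_forall_mem_pow_smul_top (S := B) (Ideal.ofList fs) hJB x hx
    · exact (tor1Zero_quotient_iff _).mp (Groth.Agent.S5777.tor1Zero_ofList' fs h2)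

/-- flatness is insensitive to the presentation of the quotient ring. -/
theorem flat_transfer_aux {A : Type u} [CommRing A] {C₁ C₂ : Type u} [CommRing C₁] [CommRing C₂]
    [Algebra A C₁] [Algebra A C₂]
    (h₂ : Surjective (algebraMap A C₂))
    (σ : C₁ ≃ₐ[A] C₂)
    {P₁ P₂ : Type u} [AddCommGroup P₁] [AddCommGroup P₂] [Module A P₁] [Module A P₂]
    [Module C₁ P₁] [Module C₂ P₂] [IsScalarTower A C₁ P₁] [IsScalarTower A C₂ P₂]
    (e : P₁ ≃ₗ[A] P₂) (h : Module.Flat C₁ P₁) : Module.Flat C₂ P₂ := by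
  letI alg : Algebra C₂ C₁ := σ.symm.toRingEquiv.toRingHom.toAlgebra
  letI mod : Module C₂ P₁ := Module.compHom P₁ σ.symm.toRingEquiv.toRingHom
  haveI tower : IsScalarTower C₂ C₁ P₁ := .of_algebraMap_smul fun r n => rfl
  haveI towerA : IsScalarTower A C₂ P₁ := by
    refine .of_algebraMap_smul fun a p => ?_
    show σ.symm (algebraMap A C₂ a) • p = a • p
    rw [σ.symm.commutes, algebraMap_smul]
  have hC : Module.Flat C₂ C₁ := by
    let l : C₁ ≃ₗ[C₂] C₂ :=
      { σ.toRingEquiv.toAddEquiv with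
        map_smul' := fun c x => by
          show σ (σ.symm c * x) = c * σ x
          rw [map_mul, σ.apply_symm_apply] }
    exact Module.Flat.of_linearEquiv l
  have h1 : Module.Flat C₂ P₁ := Module.Flat.trans C₂ C₁ P₁
  let e' : P₁ ≃ₗ[C₂] P₂ := e.extendScalarsOfSurjective h₂
  exact Module.Flat.of_linearEquiv e'.symm


theorem transfer (A : Type u) [CommRing A] (R I : Ideal A)
    (P : Type u) [AddCommGroup P] [Module A P]
    (J' : Ideal (A ⧸ R)) (hJ' : J' = I.map (Ideal.Quotient.mk R)) :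
    Module.Flat ((A ⧸ R) ⧸ J') ((P ⧸ (R • (⊤ : Submodule A P))) ⧸
        (J' • (⊤ : Submodule (A ⧸ R) (P ⧸ (R • (⊤ : Submodule A P)))))) ↔
    Module.Flat (A ⧸ (R ⊔ I)) ((P ⧸ (R • (⊤ : Submodule A P))) ⧸
        ((R ⊔ I) • (⊤ : Submodule A (P ⧸ (R • (⊤ : Submodule A P)))))) := by
  set A' := A ⧸ R with hA'
  set N := P ⧸ (R • (⊤ : Submodule A P)) with hN
  set Q := R ⊔ I with hQ
  have h₁ : Surjective (algebraMap A (A' ⧸ J')) := by
    have : (algebraMap A (A' ⧸ J') : A → A' ⧸ J') =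
        (Ideal.Quotient.mk J') ∘ (Ideal.Quotient.mk R) := rfl
    rw [this]
    exact Ideal.Quotient.mk_surjective.comp Ideal.Quotient.mk_surjective
  have h₂ : Surjective (algebraMap A (A ⧸ Q)) := Ideal.Quotient.mk_surjective
  have hker : RingHom.ker (Algebra.ofId A (A' ⧸ J')) = Q := by
    ext x
    rw [RingHom.mem_ker]
    show Ideal.Quotient.mk J' (Ideal.Quotient.mk R x) = 0 ↔ _
    rw [Ideal.Quotient.eq_zero_iff_mem, hJ', ← Ideal.mem_comap,
      Ideal.comap_map_of_surjective _ Ideal.Quotient.mk_surjective, ← RingHom.ker_eq_comap_bot,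
      Ideal.mk_ker, hQ, sup_comm]
  let σ : (A' ⧸ J') ≃ₐ[A] (A ⧸ Q) :=
    (Ideal.quotientKerAlgEquivOfSurjective (f := Algebra.ofId A (A' ⧸ J')) h₁).symm.trans
      (Ideal.quotientEquivAlgOfEq A hker)
  have hRN : R • (⊤ : Submodule A N) = ⊥ := by
    rw [eq_bot_iff, Submodule.smul_le]
    intro r hr x _
    obtain ⟨p, rfl⟩ := Submodule.Quotient.mk_surjective _ x
    rw [Submodule.mem_bot, ← Submodule.Quotient.mk_smul, Submodule.Quotient.mk_eq_zero]
    exact Submodule.smul_mem_smul hr trivial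
  have hEq : (J' • (⊤ : Submodule A' N)).restrictScalars A = Q • (⊤ : Submodule A N) := by
    rw [hJ']
    show (Ideal.map (algebraMap A A') I • (⊤ : Submodule A' N)).restrictScalars A = _
    rw [Ideal.smul_restrictScalars, Submodule.restrictScalars_top, hQ,
      Submodule.sup_smul, hRN, bot_sup_eq]
  let e : (N ⧸ (J' • (⊤ : Submodule A' N))) ≃ₗ[A] (N ⧸ (Q • (⊤ : Submodule A N))) :=
    (Submodule.Quotient.restrictScalarsEquiv A (J' • (⊤ : Submodule A' N))).symm.trans
      (Submodule.quotEquivOfEq _ _ hEq)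
  exact ⟨fun h => flat_transfer_aux h₂ σ e h, fun h => flat_transfer_aux h₁ σ.symm e.symm h⟩

theorem key (A : Type u) [CommRing A] [IsNoetherianRing A] (R : Ideal A) {n : ℕ} (f : Fin n → A)
    (hrad : ∀ i, f i ∈ (⊥ : Ideal A).jacobson)
    (hreg : IsWeaklyRegular (A ⧸ R) (List.ofFn f))
    (P : Type u) [AddCommGroup P] [Module A P] [Module.Finite A P] :
    Module.Flat (A ⧸ R) (P ⧸ (R • (⊤ : Submodule A P))) ↔
      Module.Flat (A ⧸ (R ⊔ Ideal.span (Set.range f)))
        ((P ⧸ (R • (⊤ : Submodule A P))) ⧸ ((R ⊔ Ideal.span (Set.range f)) •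
          (⊤ : Submodule A (P ⧸ (R • (⊤ : Submodule A P)))))) ∧
      IsWeaklyRegular (P ⧸ (R • (⊤ : Submodule A P))) (List.ofFn f) := by
  have hofList : Ideal.ofList (List.ofFn f) = Ideal.span (Set.range f) := by
    rw [Ideal.ofList]
    congr 1
    ext x
    simp [List.mem_ofFn]
  have hJ'map : Ideal.ofList ((List.ofFn f).map (algebraMap A (A ⧸ R))) =
      (Ideal.span (Set.range f)).map (Ideal.Quotient.mk R) := by
    rw [← Ideal.map_ofList, hofList]; rfl
  have hregA' : IsWeaklyRegular (A ⧸ R) ((List.ofFn f).map (algebraMap A (A ⧸ R))) :=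
    (isWeaklyRegular_map_algebraMap_iff (A ⧸ R) (A ⧸ R) (List.ofFn f)).mpr hreg
  have hJ' : (Ideal.ofList ((List.ofFn f).map (algebraMap A (A ⧸ R)))).map
      (algebraMap (A ⧸ R) (A ⧸ R)) ≤ Ideal.jacobson ⊥ := by
    rw [Algebra.algebraMap_self, Ideal.map_id, Ideal.ofList, Ideal.span_le]
    intro x hx
    obtain ⟨a, ha, rfl⟩ := List.mem_map.mp hx
    obtain ⟨i, rfl⟩ := (List.mem_ofFn' f a).mp ha
    show algebraMap A (A ⧸ R) (f i) ∈ Ideal.jacobson ⊥
    rw [Ideal.mem_jacobson_bot]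
    intro y
    obtain ⟨y, rfl⟩ := Ideal.Quotient.mk_surjective y
    have := (Ideal.mem_jacobson_bot.mp (hrad i)) y
    exact this.map (Ideal.Quotient.mk R)
  have hfinN' : Module.Finite (A ⧸ R) (P ⧸ (R • (⊤ : Submodule A P))) :=
    Module.Finite.of_restrictScalars_finite A (A ⧸ R) _
  have crit := flat_iff_of_isWeaklyRegular (A := A ⧸ R) (B := A ⧸ R)
    (P ⧸ (R • (⊤ : Submodule A P))) ((List.ofFn f).map (algebraMap A (A ⧸ R))) hJ' hregA'
  rw [crit, isWeaklyRegular_map_algebraMap_iff (A ⧸ R) (P ⧸ (R • (⊤ : Submodule A P))) (List.ofFn f)]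
  refine and_congr_left (fun _ => ?_)
  exact transfer A R (Ideal.span (Set.range f)) P _ hJ'map


/-- a) iff c) in the Noetherian case: let A be a Noetherian ring, R an ideal of A, f_1, …, f_n elements
of the Jacobson radical of A whose images form a regular sequence on A/R, Q = R + (f_1, …, f_n), and
M a finitely generated A-module. Then every graded piece R^k M / R^(k+1) M is flat over A/R if and
only if, for every k, (R^k M / R^(k+1) M) ⊗ A/Q is flat over A/Q and f_1, …, f_n is a regular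
sequence on R^k M / R^(k+1) M. -/
theorem result (A : Type u) [CommRing A] [IsNoetherianRing A]
    (R : Ideal A) {n : ℕ} (f : Fin n → A) (hrad : ∀ i, f i ∈ (⊥ : Ideal A).jacobson)
    (hreg : RingTheory.Sequence.IsWeaklyRegular (A ⧸ R) (List.ofFn f))
    (M : Type u) [AddCommGroup M] [Module A M] [Module.Finite A M] :
    EGA4.IsNormallyFlat R M ↔
      ∀ k : ℕ, Module.Flat (A ⧸ (R ⊔ Ideal.span (Set.range f))) ((↥(R ^ k • (⊤ : Submodule A M)) ⧸ (R • (⊤ : Submodule A ↥(R ^ k • (⊤ : Submodule A M))))) ⧸ ((R ⊔ Ideal.span (Set.range f)) • (⊤ : Submodule A (↥(R ^ k • (⊤ : Submodule A M)) ⧸ (R • (⊤ : Submodule A ↥(R ^ k • (⊤ : Submodule A M)))))))) ∧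
        RingTheory.Sequence.IsWeaklyRegular (↥(R ^ k • (⊤ : Submodule A M)) ⧸ (R • (⊤ : Submodule A ↥(R ^ k • (⊤ : Submodule A M))))) (List.ofFn f) := by
  haveI : IsNoetherian A M := inferInstance
  unfold EGA4.IsNormallyFlat
  refine forall_congr' (fun k => ?_)
  haveI : Module.Finite A ↥(R ^ k • (⊤ : Submodule A M)) := Module.Finite.of_fg (IsNoetherian.noetherian _)
  exact key A R f hrad hreg ↥(R ^ k • (⊤ : Submodule A M))

end Groth.Agent.S5059
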