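import Groth.Statements.S8837
import Groth.Agent.Lib.AdicNoeth
import Mathlib.RingTheory.AdicCompletion.Functoriality
import Mathlib.RingTheory.AdicCompletion.Noetherian
import Mathlib.RingTheory.AdicCompletion.LocalRing
import Mathlib.RingTheory.Localization.Ideal

set_option autoImplicit false
universe u
open AdicRing

namespace Groth.Agent.S8837

section Loc

variable {A : Type u} [CommRing A] (p : Ideal A) (f : A)

/-- If `f` is a unit modulo `p` then `A_f = A + p A_f`. -/
theorem exists_sub_mem_map (hf : IsUnit (Ideal.Quotient.mk p f)) (r : Localization.Away f) :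
    ∃ a : A, r - algebraMap A (Localization.Away f) a ∈
      p.map (algebraMap A (Localization.Away f)) := by
  obtain ⟨g', hg'⟩ := hf.exists_right_inv
  obtain ⟨g, rfl⟩ := Ideal.Quotient.mk_surjective g'
  obtain ⟨n, a, ha⟩ := IsLocalization.Away.surj f r
  have hmem : 1 - (f * g) ^ n ∈ p := by
    rw [← Ideal.Quotient.eq_zero_iff_mem, map_sub, map_pow, map_mul, hg', map_one, one_pow,
      sub_self]
  refine ⟨a * g ^ n, ?_⟩
  have : r - algebraMap A (Localization.Away f) (a * g ^ n) =
      r * algebraMap A (Localization.Away f) (1 - (f * g) ^ n) := by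
    rw [map_mul, ← ha, map_sub, map_one, map_pow, map_pow, map_mul]
    ring
  rw [this]
  exact Ideal.mul_mem_left _ r (Ideal.mem_map_of_mem _ hmem)

/-- If `a/1 ∈ K A_f` then `f^k a ∈ K` for some `k`. -/
theorem exists_pow_mul_mem (K : Ideal A) (a : A)
    (h : algebraMap A (Localization.Away f) a ∈ K.map (algebraMap A (Localization.Away f))) :
    ∃ k : ℕ, f ^ k * a ∈ K := by
  rw [IsLocalization.mem_map_algebraMap_iff (Submonoid.powers f)] at h
  obtain ⟨⟨⟨i, hi⟩, ⟨s, m, rfl⟩⟩, h⟩ := h
  simp only at h
  rw [← map_mul] at h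
  obtain ⟨k, hk⟩ := IsLocalization.Away.exists_of_eq f h
  refine ⟨k + m, ?_⟩
  have : f ^ (k + m) * a = f ^ k * (a * f ^ m) := by ring
  rw [this, hk]
  exact Ideal.mul_mem_left _ _ hi

end Loc

section Main

variable (A : Type u) [CommRing A] [IsNoetherianRing A] (I : Ideal A) [IsAdicComplete I A]
  (p : Ideal A) [p.IsPrime] (f : A)

local notation "R" => Localization.Away f
local notation "J" => I.map (algebraMap A (Localization.Away f))
local notation "C" => AdicCompletion (I.map (algebraMap A (Localization.Away f)))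
  (Localization.Away f)

theorem injective_aux (hf : IsUnit (Ideal.Quotient.mk p f)) (a : A)
    (ha : algebraMap A C a ∈ p.map (algebraMap A C)) : a ∈ p := by
  -- for every `n`, `a/1 ∈ (p ⊔ I ^ n) R`
  have h1 : ∀ n : ℕ, algebraMap A R a ∈ (p ⊔ I ^ n).map (algebraMap A R) := by
    intro n
    have h2 : (AdicCompletion.evalₐ J n : C →+* R ⧸ J ^ n) (algebraMap A C a) ∈
        (p.map (algebraMap A C)).map (AdicCompletion.evalₐ J n : C →+* R ⧸ J ^ n) :=
      Ideal.mem_map_of_mem _ ha
    rw [Ideal.map_map] at h2
    have h3 : ((AdicCompletion.evalₐ J n : C →+* R ⧸ J ^ n).comp (algebraMap A C)) =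
        (Ideal.Quotient.mk (J ^ n)).comp (algebraMap A R) := by
      ext x
      simp
    rw [h3, ← Ideal.map_map] at h2
    have h4 : (AdicCompletion.evalₐ J n : C →+* R ⧸ J ^ n) (algebraMap A C a) =
        Ideal.Quotient.mk (J ^ n) (algebraMap A R a) := by
      simp
    rw [h4, Ideal.mem_quotient_iff_mem_sup] at h2
    rw [Ideal.map_sup, Ideal.map_pow]
    exact h2
  -- hence `ā ∈ Ī ^ n` in `A ⧸ p`
  have h5 : ∀ n : ℕ, Ideal.Quotient.mk p a ∈ (I.map (Ideal.Quotient.mk p)) ^ n := by
    intro n
    obtain ⟨k, hk⟩ := exists_pow_mul_mem f (p ⊔ I ^ n) a (h1 n)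
    have h6 : Ideal.Quotient.mk p (f ^ k * a) ∈ (p ⊔ I ^ n).map (Ideal.Quotient.mk p) :=
      Ideal.mem_map_of_mem _ hk
    rw [Ideal.map_sup, Ideal.map_quotient_self, bot_sup_eq, Ideal.map_pow, map_mul, map_pow] at h6
    exact (Ideal.mul_unit_mem_iff_mem _ (hf.pow k)).1 (by rwa [mul_comm] at h6)
  -- Krull
  have hne : I.map (Ideal.Quotient.mk p) ≠ ⊤ := by
    intro htop
    have hle : I ≤ Ideal.jacobson ⊥ := IsAdicComplete.le_jacobson_bot I
    have h7 : (1 : A ⧸ p) ∈ I.map (Ideal.Quotient.mk p) := by rw [htop]; trivial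
    rw [Ideal.mem_map_iff_of_surjective _ Ideal.Quotient.mk_surjective] at h7
    obtain ⟨i, hi, hi1⟩ := h7
    have h8 : i - 1 ∈ p := by
      rw [← Ideal.Quotient.eq_zero_iff_mem, map_sub, hi1, map_one, sub_self]
    have h9 : IsUnit (i - 1) := by
      have := (Ideal.mem_jacobson_bot.1 (hle hi)) (-1)
      have e : i * -1 + 1 = -(i - 1) := by ring
      rw [e] at this
      exact (IsUnit.neg_iff _).1 this
    exact (Ideal.IsPrime.ne_top inferInstance) (Ideal.eq_top_of_isUnit_mem _ h8 h9)
  have hH : IsHausdorff (I.map (Ideal.Quotient.mk p)) (A ⧸ p) := IsHausdorff.of_isDomain _ hne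
  have h10 := hH.haus' (Ideal.Quotient.mk p a) (fun n => by
    rw [SModEq.zero, smul_eq_mul, Ideal.mul_top]
    exact h5 n)
  exact Ideal.Quotient.eq_zero_iff_mem.1 h10

omit [p.IsPrime] in
theorem surjective_aux (hf : IsUnit (Ideal.Quotient.mk p f)) :
    Function.Surjective
      ((Ideal.Quotient.mk (p.map (algebraMap A C))).comp (algebraMap A C)) := by
  have hJfg : (J).FG := Ideal.FG.map (IsNoetherian.noetherian I) _
  have hCn : IsNoetherianRing C := Groth.Agent.Lib.AdicNoeth.isNoetherianRing_adicCompletion J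
  have hCc : IsAdicComplete ((J).map (algebraMap R C)) C :=
    AdicCompletion.isAdicComplete_self J hJfg
  have hmap : I.map ((Ideal.Quotient.mk (p.map (algebraMap A C))).comp (algebraMap A C)) =
      ((J).map (algebraMap R C)).map (Ideal.Quotient.mk (p.map (algebraMap A C))) := by
    rw [Ideal.map_map, Ideal.map_map]
    rfl
  have hH : IsHausdorff
      (I.map ((Ideal.Quotient.mk (p.map (algebraMap A C))).comp (algebraMap A C)))
      (C ⧸ p.map (algebraMap A C)) := by
    rw [hmap]
    have hH' : IsHausdorff ((J).map (algebraMap R C)) (C ⧸ p.map (algebraMap A C)) :=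
      IsHausdorff.of_le_jacobson _ _ (IsAdicComplete.le_jacobson_bot _)
    exact (IsHausdorff.map_algebraMap_iff (S := C ⧸ p.map (algebraMap A C))).2 hH'
  apply surjective_of_mk_map_comp_surjective (I := I)
    ((Ideal.Quotient.mk (p.map (algebraMap A C))).comp (algebraMap A C))
  intro q
  obtain ⟨q', rfl⟩ := Ideal.Quotient.mk_surjective q
  obtain ⟨c, rfl⟩ := Ideal.Quotient.mk_surjective q'
  obtain ⟨r, hr⟩ := Ideal.Quotient.mk_surjective (AdicCompletion.evalOneₐ J c)
  have hker := AdicCompletion.ker_evalOneₐ_eq_map J hJfg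
  have hc : c - AdicCompletion.of J R r ∈ (J).map (algebraMap R C) := by
    have h0 : c - AdicCompletion.of J R r ∈ RingHom.ker (AdicCompletion.evalOneₐ J).toRingHom := by
      rw [RingHom.mem_ker]
      change (AdicCompletion.evalOneₐ J) (c - AdicCompletion.of J R r) = 0
      rw [map_sub, AdicCompletion.evalOneₐ_of, ← hr, sub_self]
    rw [hker] at h0
    exact h0
  refine (exists_sub_mem_map p f hf r).elim fun a ha => ?_
  refine ⟨a, ?_⟩
  have hsplit : c - algebraMap A C a =
      (c - AdicCompletion.of J R r) + AdicCompletion.of J R (r - algebraMap A R a) := by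
    rw [LinearMap.map_sub]
    exact (sub_add_sub_cancel c _ _).symm
  have hzero : Ideal.Quotient.mk (p.map (algebraMap A C))
      (AdicCompletion.of J R (r - algebraMap A R a)) = 0 := by
    rw [Ideal.Quotient.eq_zero_iff_mem]
    have hpp : (p.map (algebraMap A R)).map (algebraMap R C) = p.map (algebraMap A C) := by
      rw [Ideal.map_map]
      rfl
    rw [← hpp]
    exact Ideal.mem_map_of_mem (algebraMap R C) ha
  have hmem : Ideal.Quotient.mk (p.map (algebraMap A C)) c -
      Ideal.Quotient.mk (p.map (algebraMap A C)) (algebraMap A C a) ∈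
      I.map ((Ideal.Quotient.mk (p.map (algebraMap A C))).comp (algebraMap A C)) := by
    rw [hmap, ← map_sub, hsplit, map_add, hzero, add_zero]
    exact Ideal.mem_map_of_mem _ hc
  exact ((Ideal.Quotient.eq).2 hmem).symm

theorem main (hf : IsUnit (Ideal.Quotient.mk p f)) :
    (p.map (algebraMap A C)).IsPrime ∧
      Function.Bijective (Ideal.quotientMap (p.map (algebraMap A C)) (algebraMap A C)
        Ideal.le_comap_map) := by
  have hbij : Function.Bijective (Ideal.quotientMap (p.map (algebraMap A C)) (algebraMap A C)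
      Ideal.le_comap_map) := by
    constructor
    · rw [injective_iff_map_eq_zero]
      intro x hx
      obtain ⟨a, rfl⟩ := Ideal.Quotient.mk_surjective x
      rw [Ideal.quotientMap_mk, Ideal.Quotient.eq_zero_iff_mem] at hx
      exact Ideal.Quotient.eq_zero_iff_mem.2 (injective_aux A I p f hf a hx)
    · intro q
      refine (surjective_aux A I p f hf q).elim fun a ha => ?_
      exact ⟨Ideal.Quotient.mk p a, by rw [Ideal.quotientMap_mk]; exact ha⟩
  refine ⟨?_, hbij⟩
  rw [← Ideal.Quotient.isDomain_iff_prime]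
  exact (RingEquiv.ofBijective _ hbij).symm.toMulEquiv.isDomain (A ⧸ p)

end Main


/-- Let A be a Noetherian ring complete for the adic topology of an ideal I (an adic Noetherian
topological ring), p a prime ideal of A, and f ∈ A an element mapping to a unit in A/p. Let A_{f}
denote the completed principal localization, i.e. the I-adic completion of A_f = A[1/f]. Then the
ideal p A_{f} generated by p is prime, and the canonical map A/p → A_{f}/p A_{f} is bijective (so p
A_{f} = p ⊗_A A_{f} is the completion of p_f, with quotient A/p). -/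
theorem result (A : Type u) [CommRing A] [IsNoetherianRing A] (I : Ideal A) [IsAdicComplete I A] (p : Ideal A) [p.IsPrime] (f : A) (hf : IsUnit (Ideal.Quotient.mk p f)) : (p.map (algebraMap A (AdicCompletion (I.map (algebraMap A (Localization.Away f))) (Localization.Away f)))).IsPrime ∧ Function.Bijective (Ideal.quotientMap (p.map (algebraMap A (AdicCompletion (I.map (algebraMap A (Localization.Away f))) (Localization.Away f)))) (algebraMap A (AdicCompletion (I.map (algebraMap A (Localization.Away f))) (Localization.Away f))) Ideal.le_comap_map) :=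
  main A I p f hf

end Groth.Agent.S8837
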