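import Groth.Statements.S17597
import Groth.Agent.Lib.HenselQuot
import Groth.Agent.Lib.H15MvHensel
import Groth.Agent.Lib.PairHenselizationProps

set_option autoImplicit false
universe u
open Hensel

namespace Groth.Agent.S17597

/-- If the image of `R` in its henselization `B` (along `IR`) lies in the image of `A`, where `(A, I)`
is a henselian pair, then `A → B` is surjective. -/
theorem surj_of_range (A : Type u) [CommRing A] (I : Ideal A)
    [HenselianRing A I] (R : Type u) [CommRing R] [Algebra A R]
    (B : Type u) [CommRing B] [Algebra R B] [Algebra A B] [IsScalarTower A R B]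
    (hB : Hens2.IsPairHenselization R (I.map (algebraMap A R)) B)
    (h : ∀ r : R, ∃ a : A, algebraMap R B r = algebraMap A B a) :
    Function.Surjective (algebraMap A B) := by
  let K : Ideal A := RingHom.ker (algebraMap A B)
  let j : A ⧸ K →+* B := RingHom.kerLift (algebraMap A B)
  have hj : Function.Injective j := RingHom.kerLift_injective _
  have hjmk : ∀ a : A, j (Ideal.Quotient.mk K a) = algebraMap A B a := fun a => rfl
  have hH : HenselianRing (A ⧸ K) (I.map (Ideal.Quotient.mk K)) :=
    Groth.Agent.Lib.HenselQuot.henselian_quotient_general I K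
  -- the map `ρ : R → A/K`
  choose a ha using h
  have hρ_wd : ∀ r : R, ∀ a' : A, algebraMap R B r = algebraMap A B a' →
      Ideal.Quotient.mk K (a r) = Ideal.Quotient.mk K a' := by
    intro r a' h'
    apply hj
    rw [hjmk, hjmk, ← ha r, h']
  let ρ : R →+* A ⧸ K :=
    { toFun := fun r => Ideal.Quotient.mk K (a r)
      map_one' := hρ_wd 1 1 (by simp)
      map_mul' := fun r s => by
        rw [← map_mul]
        exact hρ_wd _ _ (by rw [map_mul, map_mul, ha r, ha s])
      map_zero' := hρ_wd 0 0 (by simp)
      map_add' := fun r s => by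
        rw [← map_add]
        exact hρ_wd _ _ (by rw [map_add, map_add, ha r, ha s]) }
  have hjρ : j.comp ρ = algebraMap R B := by
    ext r
    show j (Ideal.Quotient.mk K (a r)) = _
    rw [hjmk, ← ha r]
  have hρA : ∀ x : A, ρ (algebraMap A R x) = Ideal.Quotient.mk K x := by
    intro x
    exact hρ_wd _ x (by rw [← IsScalarTower.algebraMap_apply])
  have hle : (I.map (algebraMap A R)).map ρ ≤ I.map (Ideal.Quotient.mk K) := by
    rw [Ideal.map_map, Ideal.map_le_iff_le_comap]
    intro x hx
    rw [Ideal.mem_comap, RingHom.comp_apply, hρA]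
    exact Ideal.mem_map_of_mem _ hx
  obtain ⟨g, hg, -⟩ := hB.2 (A ⧸ K) _ ρ hH hle
  obtain ⟨e, -, he⟩ := hB.2 B _ (algebraMap R B) hB.1 le_rfl
  have h1 : j.comp g = e :=
    he _ (by show (j.comp g).comp _ = _; rw [RingHom.comp_assoc, hg, hjρ])
  have h2 : RingHom.id B = e := he _ (by show (RingHom.id B).comp _ = _; rw [RingHom.id_comp])
  intro b
  obtain ⟨x, hx⟩ := Ideal.Quotient.mk_surjective (g b)
  refine ⟨x, ?_⟩
  rw [← hjmk, hx]
  have := congrArg (fun k : B →+* B => k b) (h1.trans h2.symm)
  exact this

open MvPolynomial in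
/-- Evaluating a polynomial with coefficients in `I` lands in `I C`. -/
theorem aeval_mem_of_mem_map_C {A : Type u} [CommRing A] (I : Ideal A) {n : ℕ}
    {C' : Type u} [CommRing C'] [Algebra A C'] (y : Fin n → C')
    (p : MvPolynomial (Fin n) A) (hp : p ∈ I.map (C : A →+* MvPolynomial (Fin n) A)) :
    MvPolynomial.aeval y p ∈ I.map (algebraMap A C') := by
  have hle : I.map (C : A →+* MvPolynomial (Fin n) A) ≤
      (I.map (algebraMap A C')).comap
        ((MvPolynomial.aeval y : MvPolynomial (Fin n) A →ₐ[A] C') :
          MvPolynomial (Fin n) A →+* C') := by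
    rw [Ideal.map_le_iff_le_comap]
    intro a ha
    rw [Ideal.mem_comap, Ideal.mem_comap]
    show MvPolynomial.aeval y (C a) ∈ _
    rw [MvPolynomial.aeval_C]
    exact Ideal.mem_map_of_mem _ ha
  exact hle hp

open MvPolynomial Groth.Agent.Lib.H15MvHensel in
/-- For `P j = X j - C (a j) - q j` with `q j ∈ I A[X]`, the Jacobian determinant is `≡ 1`. -/
theorem jacDet_sub_one_mem {A : Type u} [CommRing A] (I : Ideal A) {n : ℕ} (a : Fin n → A)
    (q : Fin n → MvPolynomial (Fin n) A)
    (hq : ∀ j, q j ∈ I.map (C : A →+* MvPolynomial (Fin n) A)) :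
    jacDet (fun j => X j - C (a j) - q j) - 1 ∈ I.map (C : A →+* MvPolynomial (Fin n) A) := by
  classical
  have hker := MvPolynomial.ker_map (σ := Fin n) (Ideal.Quotient.mk I)
  rw [Ideal.mk_ker] at hker
  rw [← hker, RingHom.mem_ker, map_sub, map_one, sub_eq_zero, jacDet, RingHom.map_det]
  have : (MvPolynomial.map (Ideal.Quotient.mk I)).mapMatrix
      (Matrix.of fun i j => (pderiv i) (X j - C (a j) - q j)) = 1 := by
    refine Matrix.ext fun i j => ?_
    simp only [RingHom.mapMatrix_apply, Matrix.map_apply, Matrix.of_apply]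
    rw [← pderiv_map]
    have hqj : MvPolynomial.map (Ideal.Quotient.mk I) (q j) = 0 := by
      rw [← RingHom.mem_ker, hker]; exact hq j
    have e : MvPolynomial.map (Ideal.Quotient.mk I) (X j - C (a j) - q j) =
        X j - C (Ideal.Quotient.mk I (a j)) := by
      rw [map_sub, map_sub, hqj, sub_zero, MvPolynomial.map_X, MvPolynomial.map_C]
    rw [e, map_sub, pderiv_C, sub_zero, pderiv_X, Matrix.one_apply]
    by_cases hij : i = j
    · subst hij; simp
    · simp [hij]
  rw [this, Matrix.det_one]

theorem isUnit_of_sub_one_mem {C' : Type u} [CommRing C'] (J : Ideal C')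
    (hJ : J ≤ Ideal.jacobson ⊥) (x : C') (hx : x - 1 ∈ J) : IsUnit x := by
  have := (Ideal.mem_jacobson_bot.mp (hJ hx)) 1
  simpa using this

open MvPolynomial Groth.Agent.Lib.H15MvHensel in

/-- Let (A, I) be a Henselian pair and let B be a Henselization of the pair (R, IR) for a finitely
presented A-algebra R (so A → B is Henselian finitely presented). If the induced map A/I → B/IB is
surjective, then A → B is surjective. -/
theorem result (A : Type u) [CommRing A] (I : Ideal A)
    [HenselianRing A I] (R : Type u) [CommRing R] [Algebra A R] [Algebra.FinitePresentation A R]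
    (B : Type u) [CommRing B] [Algebra R B] [Algebra A B] [IsScalarTower A R B]
    (hB : Hens2.IsPairHenselization R (I.map (algebraMap A R)) B)
    (hsurj : Function.Surjective
      (Ideal.quotientMap (I.map (algebraMap A B)) (algebraMap A B) Ideal.le_comap_map)) :
    Function.Surjective (algebraMap A B) := by
  classical
  apply surj_of_range A I R B hB
  obtain ⟨n, f, hf, -⟩ := Algebra.FinitePresentation.out (R := A) (A := R)
  -- ideals
  have hIB : (I.map (algebraMap A R)).map (algebraMap R B) = I.map (algebraMap A B) := by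
    rw [Ideal.map_map, ← IsScalarTower.algebraMap_eq]
  have hHB : HenselianRing B (I.map (algebraMap A B)) := hIB ▸ hB.1
  have hjacB : I.map (algebraMap A B) ≤ Ideal.jacobson ⊥ := hHB.jac
  -- injectivity of `R/IR → B/IB`
  have hinj : ∀ r : R, algebraMap R B r ∈ I.map (algebraMap A B) → r ∈ I.map (algebraMap A R) := by
    have key : ∀ (J : Ideal R) (hJ : J = (I.map (algebraMap A R)) ^ 1),
        Function.Injective (Ideal.quotientMap (J.map (algebraMap R B)) (algebraMap R B)
          Ideal.le_comap_map) := by
      intro J hJ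
      subst hJ
      exact (Groth.Agent.Lib.PairHenselization.quotientMap_pow_bijective hB 1).1
    have k1 := key (I.map (algebraMap A R)) (pow_one _).symm
    intro r hr
    rw [← hIB] at hr
    have : Ideal.quotientMap ((I.map (algebraMap A R)).map (algebraMap R B)) (algebraMap R B)
        Ideal.le_comap_map (Ideal.Quotient.mk _ r) = 0 := by
      rw [Ideal.quotientMap_mk, Ideal.Quotient.eq_zero_iff_mem]; exact hr
    have h0 := k1 (this.trans (map_zero _).symm)
    exact Ideal.Quotient.eq_zero_iff_mem.mp h0
  -- B1
  have hB1 : ∀ j : Fin n, ∃ a : A, f (X j) - algebraMap A R a ∈ I.map (algebraMap A R) := by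
    intro j
    obtain ⟨abar, habar⟩ := hsurj (Ideal.Quotient.mk _ (algebraMap R B (f (X j))))
    obtain ⟨a, rfl⟩ := Ideal.Quotient.mk_surjective abar
    refine ⟨a, hinj _ ?_⟩
    rw [Ideal.quotientMap_mk] at habar
    rw [map_sub, ← IsScalarTower.algebraMap_apply]
    exact Ideal.Quotient.eq.mp habar.symm
  choose a ha using hB1
  -- B2
  have hIR : I.map (algebraMap A R) =
      (I.map (C : A →+* MvPolynomial (Fin n) A)).map (f : MvPolynomial (Fin n) A →+* R) := by
    rw [Ideal.map_map]
    congr 1
    ext x
    simp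
  have hB2 : ∀ j : Fin n, ∃ q ∈ I.map (C : A →+* MvPolynomial (Fin n) A),
      f q = f (X j) - algebraMap A R (a j) := by
    intro j
    have := ha j
    rw [hIR] at this
    exact (Ideal.mem_map_iff_of_surjective (f : MvPolynomial (Fin n) A →+* R) hf).mp this
  choose q hqI hq using hB2
  -- B3
  let P : Fin n → MvPolynomial (Fin n) A := fun j => X j - C (a j) - q j
  have hfP : ∀ j, f (P j) = 0 := by
    intro j
    show f (X j - C (a j) - q j) = 0
    rw [map_sub, map_sub, hq j]
    have : f (C (a j)) = algebraMap A R (a j) := by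
      rw [← MvPolynomial.algebraMap_eq, AlgHom.commutes]
    rw [this]; ring
  have hdet := jacDet_sub_one_mem I a q hqI
  -- B6 : a root in `A`
  have h₀ : ∀ i, MvPolynomial.eval a (P i) ∈ I := by
    intro i
    show MvPolynomial.eval a (X i - C (a i) - q i) ∈ I
    rw [map_sub, map_sub, MvPolynomial.eval_X, MvPolynomial.eval_C, sub_self, zero_sub]
    have := aeval_mem_of_mem_map_C I a (q i) (hqI i)
    rw [Algebra.algebraMap_self, Ideal.map_id] at this
    exact I.neg_mem this
  have hJ₀ : IsUnit (Ideal.Quotient.mk I (MvPolynomial.eval a (jacDet P))) := by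
    have := aeval_mem_of_mem_map_C I a _ hdet
    rw [Algebra.algebraMap_self, Ideal.map_id, map_sub, map_one] at this
    have h1 : Ideal.Quotient.mk I (MvPolynomial.eval a (jacDet P)) = 1 := by
      rw [← map_one (Ideal.Quotient.mk I)]
      exact Ideal.Quotient.eq.mpr this
    rw [h1]; exact isUnit_one
  obtain ⟨α, hα, hαa⟩ := exists_root P I a h₀ hJ₀
  -- B7 : two roots in `B`
  let ι : R →ₐ[A] B := IsScalarTower.toAlgHom A R B
  let y : Fin n → B := fun j => algebraMap R B (f (X j))
  let y' : Fin n → B := algebraMap A B ∘ α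
  have haevy : ∀ p : MvPolynomial (Fin n) A, MvPolynomial.aeval y p = algebraMap R B (f p) := by
    intro p
    have : MvPolynomial.aeval y = ι.comp f := by
      apply MvPolynomial.algHom_ext
      intro j
      simp [y, ι]
    rw [this]; rfl
  have haevy' : ∀ p : MvPolynomial (Fin n) A,
      MvPolynomial.aeval y' p = algebraMap A B (MvPolynomial.eval α p) := by
    intro p
    exact MvPolynomial.aeval_algebraMap_apply B α p
  have hy : ∀ i, MvPolynomial.aeval y (P i) = 0 := fun i => by rw [haevy, hfP, map_zero]
  have hy' : ∀ i, MvPolynomial.aeval y' (P i) = 0 := fun i => by rw [haevy', hα, map_zero]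
  have hunit : ∀ z : Fin n → B, IsUnit (MvPolynomial.aeval z (jacDet P)) := by
    intro z
    apply isUnit_of_sub_one_mem _ hjacB
    have := aeval_mem_of_mem_map_C I z _ hdet
    rwa [map_sub, map_one] at this
  have hcong : ∀ j, y j - y' j ∈ I.map (algebraMap A B) := by
    intro j
    have e : y j - y' j = algebraMap R B (f (X j) - algebraMap A R (a j)) -
        algebraMap A B (α j - a j) := by
      simp only [y, y', Function.comp_apply, map_sub, ← IsScalarTower.algebraMap_apply]
      ring
    rw [e]
    refine Ideal.sub_mem _ ?_ (Ideal.mem_map_of_mem _ (hαa j))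
    rw [← hIB]
    exact Ideal.mem_map_of_mem _ (ha j)
  have hyy' : y = y' := root_unique P _ hjacB y y' hy hy' (hunit y) (hunit y') hcong
  -- B8
  intro r
  obtain ⟨p, rfl⟩ := hf r
  refine ⟨MvPolynomial.eval α p, ?_⟩
  rw [← haevy, hyy', haevy']

end Groth.Agent.S17597
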