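import Groth.Statements.S0310
import Groth.Agent.Lib.InjHull
import Mathlib.LinearAlgebra.Dimension.Free

set_option autoImplicit false
universe u v
open Matlis

namespace Groth.Agent.S0310

/-- Over a local ring, a module killed elementwise by powers of the maximal ideal and whose socle has
finite dimension n over the residue field embeds into the n-fold sum of an injective hull of the
residue field. -/
theorem result (R : Type u) [CommRing R] [IsLocalRing R] (E : Type u) [AddCommGroup E] [Module R E] (f : IsLocalRing.ResidueField R →ₗ[R] E) (hf : InjHull.IsInjectiveHull f) (M : Type u) [AddCommGroup M] [Module R M] (hM : LocCoh.IsPowerTorsion (IsLocalRing.maximalIdeal R) M) (n : ℕ) [Module.Finite (R ⧸ IsLocalRing.maximalIdeal R) ↥(LocCoh.torsionBy (IsLocalRing.maximalIdeal R) M)] (hn : Module.finrank (R ⧸ IsLocalRing.maximalIdeal R) ↥(LocCoh.torsionBy (IsLocalRing.maximalIdeal R) M) = n) : ∃ g : M →ₗ[R] (Fin n → E), Function.Injective g := by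
  classical
  set m := IsLocalRing.maximalIdeal R with hm
  let S : Submodule R M := LocCoh.torsionBy m M
  -- the socle is essential in M
  have hess : InjHull.IsEssentialInj S.subtype := by
    refine ⟨S.injective_subtype, ?_⟩
    rw [Lib.InjHull.ess_iff]
    intro x hx
    have hex : ∃ N : ℕ, ∀ a ∈ m ^ N, a • x = 0 := hM x
    have hN := Nat.find_spec hex
    have hN0 : Nat.find hex ≠ 0 := by
      intro h0
      rw [h0] at hN
      exact hx (by simpa using hN 1 (by simp))
    obtain ⟨N', hN'⟩ := Nat.exists_eq_succ_of_ne_zero hN0
    have hmin : ¬ ∀ a ∈ m ^ N', a • x = 0 := Nat.find_min hex (by omega)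
    push Not at hmin
    obtain ⟨r, hr, hrx⟩ := hmin
    refine ⟨r, hrx, ?_⟩
    rw [Submodule.range_subtype]
    change r • x ∈ Submodule.torsionBySet R M (m : Set R)
    rw [Submodule.mem_torsionBySet_iff]
    rintro ⟨a, ha⟩
    rw [smul_smul]
    apply hN
    rw [hN', pow_succ']
    exact Ideal.mul_mem_mul ha hr
  -- the socle is a direct sum of n copies of the residue field
  letI : Field (R ⧸ m) := Ideal.Quotient.field m
  let b := Module.finBasisOfFinrankEq (R ⧸ m) S hn
  let e : S ≃ₗ[R] (Fin n → R ⧸ m) := b.equivFun.restrictScalars R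
  let f' : (R ⧸ m) →ₗ[R] E := f
  have hf' : Function.Injective f' := hf.injective
  let φ : S →ₗ[R] (Fin n → E) := (f'.compLeft (Fin n)) ∘ₗ e.toLinearMap
  have hφ : Function.Injective φ := by
    intro x y hxy
    apply e.injective
    exact (Function.Injective.comp_left hf') hxy
  have : Module.Injective R E := hf.isInjective
  have hpi : Module.Injective R (Fin n → E) := inferInstance
  obtain ⟨g, hg⟩ := Lib.InjHull.extend hpi S.subtype S.injective_subtype φ
  exact ⟨g, Lib.InjHull.injective_of_comp_essential hess g (hg ▸ hφ)⟩

end Groth.Agent.S0310
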