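import Groth.Statements.S0944
import Groth.Agent.Lib.LocalLiftCone
import Mathlib.Algebra.Homology.DerivedCategory.Fractions

set_option autoImplicit false
universe u
open CategoryTheory
attribute [local instance] HasDerivedCategory.standard
open DCoh

namespace Groth.Agent.S0944

open AlgebraicGeometry CategoryTheory.Limits in
/-- Let X be a scheme, E a strictly perfect complex of O_X-modules, F any complex of O_X-modules and α :
E → F a morphism in the derived category D(O_X). Then every point of X has an open neighbourhood V
such that the restriction of α to D(O_V) is induced by an actual morphism of complexes E|_V → F|_V,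
the two being compared through the canonical identification of restricting-then-localising with
localising-then-restricting. (Stated for schemes. The published statement has a second part, which
is not asserted here. Restriction D(O_X) → D(O_V) is the prelude's functor DCoh.restrictD, which is
available under the binder that restriction of O_X-modules to V preserves finite limits; the
conclusion is stated under that binder.) -/
theorem result {X : Scheme.{u}} {E F : CochainComplex X.Modules ℤ}
    (hE : DCoh.IsStrictlyPerfect E) (α : DCoh.toD X E ⟶ DCoh.toD X F) (x : X) :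
    ∃ V : X.Opens, x ∈ V ∧ ∀ [PreservesFiniteLimits (Scheme.Modules.restrictFunctor V.ι)],
      ∃ β : (DCoh.restrictCx V).obj E ⟶ (DCoh.restrictCx V).obj F,
        (DCoh.restrictD V.ι).map α =
          (Scheme.Modules.restrictFunctor V.ι).mapDerivedCategoryFactors.hom.app E ≫ DerivedCategory.Q.map β ≫
            (Scheme.Modules.restrictFunctor V.ι).mapDerivedCategoryFactors.inv.app F := by
  obtain ⟨a', b, hab⟩ := hE.1
  obtain ⟨F', g, s, hs, rfl⟩ := DerivedCategory.left_fac α
  have hqis : QuasiIso s := (DerivedCategory.isIso_Q_map_iff_quasiIso _ s).1 hs
  have hiso : ∀ j, IsIso (HomologicalComplex.homologyMap s j) := fun j =>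
    (quasiIsoAt_iff_isIso_homologyMap s j).1 inferInstance
  obtain ⟨V, β, hxV, ⟨H⟩⟩ := Groth.Agent.Lib.LocalLiftCone.exists_lift_up_to_homotopy g s hE a'
    (fun j hj => hab j (Or.inl hj)) (fun j _ => hiso j) (by have := hiso a'; infer_instance) x
  refine ⟨V, hxV, ?_⟩
  intro _
  refine ⟨β, ?_⟩
  have hβ : DerivedCategory.Q.map β ≫ DerivedCategory.Q.map ((DCoh.restrictCx V).map s) =
      DerivedCategory.Q.map ((DCoh.restrictCx V).map g) := by
    rw [← Functor.map_comp]
    exact DerivedCategory.Q_map_eq_of_homotopy _ H
  have n1 := (Scheme.Modules.restrictFunctor V.ι).mapDerivedCategoryFactors_hom_naturality g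
  have n2 := (Scheme.Modules.restrictFunctor V.ι).mapDerivedCategoryFactors_hom_naturality s
  rw [Functor.map_comp, Functor.map_inv, IsIso.comp_inv_eq,
    ← cancel_mono ((Scheme.Modules.restrictFunctor V.ι).mapDerivedCategoryFactors.hom.app F'), n1,
    Category.assoc, Category.assoc, Category.assoc, n2, Iso.inv_hom_id_app_assoc, hβ]

end Groth.Agent.S0944
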