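import Groth.Statements.S17014
import Mathlib

set_option autoImplicit false
universe u v
open QuadGrp

namespace Groth.Agent.S17014

open MvPolynomial Matrix

section EvenCoeff

variable (n : ℕ)

/-- A skew-symmetric integral lift of the universal polar matrix modulo 2. -/
noncomputable def skewMat : Matrix (Fin n) (Fin n) (MvPolynomial (Sym2 (Fin n)) ℤ) :=
  Matrix.of fun i j => if i = j then 0 else if i < j then X s(i, j) else - X s(i, j)

lemma skewMat_transpose : (skewMat n)ᵀ = - skewMat n := by
  ext i j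
  simp only [skewMat, transpose_apply, of_apply]
  rcases lt_trichotomy i j with h | h | h
  · have h' : ¬ j < i := not_lt.mpr h.le
    simp [h.ne, h.ne', h, h', Sym2.eq_swap]
  · subst h; simp
  · have h' : ¬ i < j := not_lt.mpr h.le
    simp [h.ne, h.ne', h, h', Sym2.eq_swap]

lemma det_skewMat (hodd : Odd n) : (skewMat n).det = 0 := by
  have h1 : (skewMat n).det = (skewMat n)ᵀ.det := (det_transpose _).symm
  rw [skewMat_transpose, det_neg, Fintype.card_fin, hodd.neg_one_pow] at h1
  have h2 : (2 : MvPolynomial (Sym2 (Fin n)) ℤ) * (skewMat n).det = 0 := by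
    linear_combination h1
  exact (mul_eq_zero.mp h2).resolve_left two_ne_zero

lemma map_univPolarMat :
    (QuadGrp.univPolarMat n).map (MvPolynomial.map (Int.castRingHom (ZMod 2))) =
      (skewMat n).map (MvPolynomial.map (Int.castRingHom (ZMod 2))) := by
  ext1 i j
  simp only [QuadGrp.univPolarMat, skewMat, map_apply, of_apply]
  by_cases hij : i = j
  · subst hij
    simp only [if_true, map_mul, map_zero]
    have : (MvPolynomial.map (Int.castRingHom (ZMod 2))) (2 : MvPolynomial (Sym2 (Fin n)) ℤ) = 0 := by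
      rw [map_ofNat]
      exact CharTwo.two_eq_zero
    rw [this, zero_mul]
  · simp only [if_neg hij]
    by_cases hlt : i < j
    · simp [hlt]
    · simp only [if_neg hlt, map_neg]
      exact (CharTwo.neg_eq _).symm

lemma even_coeff_discUniv (hodd : Odd n) (s : Sym2 (Fin n) →₀ ℕ) :
    (2 : ℤ) ∣ MvPolynomial.coeff s (QuadGrp.discUniv n) := by
  have h1 : MvPolynomial.map (Int.castRingHom (ZMod 2)) (QuadGrp.discUniv n) = 0 := by
    rw [QuadGrp.discUniv, RingHom.map_det, RingHom.mapMatrix_apply, map_univPolarMat,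
      ← RingHom.mapMatrix_apply, ← RingHom.map_det, det_skewMat n hodd, map_zero]
  have h2 := congrArg (MvPolynomial.coeff s) h1
  rw [MvPolynomial.coeff_map, MvPolynomial.coeff_zero] at h2
  exact (ZMod.intCast_zmod_eq_zero_iff_dvd _ 2).mp h2

lemma discUniv_eq_two_mul (hodd : Odd n) :
    QuadGrp.discUniv n = 2 * QuadGrp.halfDiscUniv n := by
  ext s
  have h2 : (2 : MvPolynomial (Sym2 (Fin n)) ℤ) = MvPolynomial.C 2 := by simp
  rw [h2, MvPolynomial.coeff_C_mul, QuadGrp.coeff_halfDiscUniv,
    Int.mul_ediv_cancel' (even_coeff_discUniv n hodd s)]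

end EvenCoeff

section Univ

variable (n : ℕ)

/-- The universal ring: coefficients of a quadratic form and entries of a matrix. -/
abbrev U : Type := MvPolynomial (Sym2 (Fin n) ⊕ (Fin n × Fin n)) ℤ

/-- The generic matrix. -/
noncomputable def ΓU : Matrix (Fin n) (Fin n) (U n) :=
  Matrix.of fun k l => X (Sum.inr (k, l))

/-- The upper triangular matrix of the universal quadratic form. -/
noncomputable def TU : Matrix (Fin n) (Fin n) (U n) :=
  Matrix.of fun k l => if k = l then X (Sum.inl s(k, k)) else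
    if k < l then X (Sum.inl s(k, l)) else 0

/-- The polar matrix of the universal quadratic form. -/
noncomputable def PU : Matrix (Fin n) (Fin n) (U n) :=
  (QuadGrp.univPolarMat n).map (rename Sum.inl)

lemma PU_eq : PU n = TU n + (TU n)ᵀ := by
  refine Matrix.ext fun k l => ?_
  simp only [PU, TU, QuadGrp.univPolarMat, map_apply, of_apply, Matrix.add_apply, transpose_apply]
  rcases lt_trichotomy k l with h | h | h
  · have h' : ¬ l < k := not_lt.mpr h.le
    simp [h.ne, h.ne', h, h']
  · subst h
    simp [two_mul]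
  · have h' : ¬ k < l := not_lt.mpr h.le
    simp [h.ne, h.ne', h, h', Sym2.eq_swap]

/-- `Γᵀ T Γ`. -/
noncomputable def N1 : Matrix (Fin n) (Fin n) (U n) := (ΓU n)ᵀ * TU n * ΓU n

/-- `Γᵀ P Γ`. -/
noncomputable def N2 : Matrix (Fin n) (Fin n) (U n) := (ΓU n)ᵀ * PU n * ΓU n

lemma N2_eq : N2 n = N1 n + (N1 n)ᵀ := by
  simp only [N2, N1, PU_eq, Matrix.mul_add, Matrix.add_mul, transpose_mul, transpose_transpose,
    Matrix.mul_assoc]

lemma N2_symm (i j : Fin n) : N2 n i j = N2 n j i := by
  have : (N2 n)ᵀ = N2 n := by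
    rw [N2_eq, transpose_add, transpose_transpose, add_comm]
  exact (congrFun (congrFun this j) i).symm ▸ rfl

/-- The universal coefficients of `Q ∘ g`. -/
noncomputable def cU : Sym2 (Fin n) → U n :=
  Sym2.lift ⟨fun i j => if i = j then N1 n i i else N2 n i j, fun i j => by
    by_cases h : i = j
    · subst h; rfl
    · dsimp only
      rw [if_neg h, if_neg (Ne.symm h), N2_symm]⟩

lemma cU_mk (i j : Fin n) : cU n s(i, j) = if i = j then N1 n i i else N2 n i j := rfl

lemma map_cU : (QuadGrp.univPolarMat n).map (aeval (cU n)) = N2 n := by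
  refine Matrix.ext fun i j => ?_
  simp only [QuadGrp.univPolarMat, map_apply, of_apply]
  by_cases h : i = j
  · subst h
    simp only [if_true, map_mul, map_ofNat, aeval_X, cU_mk, N2_eq, Matrix.add_apply,
      transpose_apply]
    ring
  · simp only [if_neg h, aeval_X, cU_mk]

lemma aeval_discUniv :
    aeval (cU n) (QuadGrp.discUniv n) = (ΓU n).det ^ 2 * rename Sum.inl (QuadGrp.discUniv n) := by
  have h1 : aeval (cU n) (QuadGrp.discUniv n) = (N2 n).det := by
    rw [QuadGrp.discUniv, AlgHom.map_det, AlgHom.mapMatrix_apply, map_cU]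
  have h2 : rename Sum.inl (QuadGrp.discUniv n) = (PU n).det := by
    rw [QuadGrp.discUniv, AlgHom.map_det, AlgHom.mapMatrix_apply]
    rfl
  rw [h1, h2, N2, det_mul, det_mul, det_transpose]
  ring

lemma aeval_halfDiscUniv (hodd : Odd n) :
    aeval (cU n) (QuadGrp.halfDiscUniv n) =
      (ΓU n).det ^ 2 * rename Sum.inl (QuadGrp.halfDiscUniv n) := by
  have h := aeval_discUniv n
  rw [discUniv_eq_two_mul n hodd, map_mul, map_mul, map_ofNat, map_ofNat] at h
  have h2 : (2 : U n) ≠ 0 := two_ne_zero
  apply mul_left_cancel₀ h2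
  rw [h]
  ring

end Univ

section Spec

variable {R : Type u} [CommRing R] {M : Type v} [AddCommGroup M] [Module R M]
variable {n : ℕ} (b : Module.Basis (Fin n) R M) (Q : QuadraticForm R M) (g : M →ₗ[R] M)

/-- The matrix of `g`. -/
noncomputable def Gm : Matrix (Fin n) (Fin n) R := LinearMap.toMatrix b b g

/-- The specialisation map. -/
noncomputable def φ : U n →ₐ[ℤ] R :=
  aeval (Sum.elim (QuadGrp.coeffs b (LinearEquiv.refl R R) Q) (fun p => Gm b g p.1 p.2))

lemma g_basis (i : Fin n) : g (b i) = ∑ k, Gm b g k i • b k := by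
  simp only [Gm, LinearMap.toMatrix_apply]
  exact (b.sum_repr (g (b i))).symm

lemma map_ΓU : (ΓU n).map (φ b Q g) = Gm b g := by
  refine Matrix.ext fun k l => ?_
  simp [ΓU, φ]

lemma map_TU (k l : Fin n) : ((TU n).map (φ b Q g)) k l = Q.toBilin b (b k) (b l) := by
  rw [QuadraticMap.toBilin_apply]
  simp only [TU, map_apply, of_apply]
  by_cases h : k = l
  · subst h
    simp [φ, QuadGrp.coeffs_mk]
  · simp only [if_neg h]
    by_cases hlt : k < l
    · simp [φ, QuadGrp.coeffs_mk, hlt, h]
    · simp [hlt]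

lemma map_PU (k l : Fin n) : ((PU n).map (φ b Q g)) k l = QuadraticMap.polar Q (b k) (b l) := by
  simp only [PU, QuadGrp.univPolarMat, map_apply, of_apply]
  by_cases h : k = l
  · subst h
    simp [φ, QuadGrp.coeffs_mk, QuadraticMap.polar_self, map_ofNat]
  · simp [φ, QuadGrp.coeffs_mk, h]

lemma φ_N1 (i : Fin n) : φ b Q g (N1 n i i) = Q (g (b i)) := by
  have h1 : φ b Q g (N1 n i i) = ((N1 n).map (φ b Q g)) i i := rfl
  rw [h1, N1, Matrix.map_mul, Matrix.map_mul, transpose_map, map_ΓU]
  conv_rhs => rw [← QuadraticMap.toQuadraticMap_toBilin Q b]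
  rw [LinearMap.BilinMap.toQuadraticMap_apply, g_basis]
  simp only [map_sum, LinearMap.sum_apply, map_smul, LinearMap.smul_apply, smul_eq_mul,
    ← map_TU b Q g, Matrix.mul_apply, transpose_apply, Finset.sum_mul, Finset.mul_sum]
  refine Finset.sum_congr rfl fun k _ => Finset.sum_congr rfl fun l _ => ?_
  ring

lemma φ_N2 (i j : Fin n) : φ b Q g (N2 n i j) = QuadraticMap.polar Q (g (b i)) (g (b j)) := by
  have h1 : φ b Q g (N2 n i j) = ((N2 n).map (φ b Q g)) i j := rfl
  rw [h1, N2, Matrix.map_mul, Matrix.map_mul, transpose_map, map_ΓU]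
  rw [← QuadraticMap.polarBilin_apply_apply, g_basis, g_basis]
  simp only [map_sum, LinearMap.sum_apply, map_smul, LinearMap.smul_apply, smul_eq_mul,
    QuadraticMap.polarBilin_apply_apply, ← map_PU b Q g, Matrix.mul_apply, transpose_apply,
    Finset.sum_mul, Finset.mul_sum]
  refine Finset.sum_congr rfl fun k _ => Finset.sum_congr rfl fun l _ => ?_
  ring

lemma coeffs_comp (z : Sym2 (Fin n)) :
    QuadGrp.coeffs b (LinearEquiv.refl R R) (Q.comp g) z = φ b Q g (cU n z) := by
  induction z using Sym2.ind with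
  | _ i j =>
    rw [QuadGrp.coeffs_mk, cU_mk]
    by_cases h : i = j
    · subst h
      simp only [if_true, φ_N1]
      rfl
    · simp only [if_neg h, φ_N2]
      simp [QuadraticMap.polar, map_add]

end Spec

/-- For a quadratic form Q on a free module with a basis b indexed by Fin (2m+1) over a commutative ring
and any linear endomorphism g of the module, the half-discriminant of Q ∘ g relative to b is (det
g)² times that of Q. -/
theorem result {R : Type u} [CommRing R] {M : Type v} [AddCommGroup M] [Module R M]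
    (m : ℕ) (b : Module.Basis (Fin (2 * m + 1)) R M) (Q : QuadraticForm R M) (g : M →ₗ[R] M) :
    QuadGrp.halfDisc b (LinearEquiv.refl R R) (Q.comp g) =
      LinearMap.det g ^ 2 * QuadGrp.halfDisc b (LinearEquiv.refl R R) Q := by
  have hodd : Odd (2 * m + 1) := ⟨m, rfl⟩
  have h := congrArg (φ b Q g) (aeval_halfDiscUniv (2 * m + 1) hodd)
  rw [map_mul, map_pow, AlgHom.map_det, AlgHom.mapMatrix_apply, map_ΓU, Gm,
    LinearMap.det_toMatrix] at h
  have h1 : φ b Q g (aeval (cU (2 * m + 1)) (QuadGrp.halfDiscUniv (2 * m + 1))) =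
      QuadGrp.halfDisc b (LinearEquiv.refl R R) (Q.comp g) := by
    rw [← AlgHom.comp_apply, comp_aeval, QuadGrp.halfDisc, aeval_def, algebraMap_int_eq]
    congr 1
    funext z
    exact (coeffs_comp b Q g z).symm
  have h2 : φ b Q g (rename Sum.inl (QuadGrp.halfDiscUniv (2 * m + 1))) =
      QuadGrp.halfDisc b (LinearEquiv.refl R R) Q := by
    rw [φ, aeval_rename, QuadGrp.halfDisc, aeval_def, algebraMap_int_eq]
    rfl
  rw [h1, h2] at h
  exact h

end Groth.Agent.S17014
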