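import Groth.Statements.S12212
import Groth.Agent.Lib.H2SamuelAdd
import Groth.Agent.Lib.FiniteLengthSupport
import Mathlib

set_option autoImplicit false
universe u
open IntMult

namespace Groth.Agent.S12212

open Groth.Agent.Lib.H2SamuelAdd Filter Topology

section Dim

variable {A : Type u} [CommRing A]

theorem dim_succ_le (q p : Ideal A) [q.IsPrime] [p.IsPrime] (h : q < p) :
    ringKrullDim (A ⧸ p) + 1 ≤ ringKrullDim (A ⧸ q) := by
  obtain ⟨x, hxp, hxq⟩ := Set.exists_of_ssubset h
  refine ringKrullDim_succ_le_of_surjective (Ideal.Quotient.factor h.le)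
    (Ideal.Quotient.factor_surjective h.le) (r := Ideal.Quotient.mk q x) ?_ ?_
  · apply mem_nonZeroDivisors_of_ne_zero
    rwa [Ne, Ideal.Quotient.eq_zero_iff_mem]
  · rw [Ideal.Quotient.factor_mk, Ideal.Quotient.eq_zero_iff_mem]
    exact hxp

theorem dim_le_supportDim (N : Type u) [AddCommGroup N] [Module A N] [Module.Finite A N]
    (q : PrimeSpectrum A) (hq : q ∈ Module.support A N) :
    ringKrullDim (A ⧸ q.asIdeal) ≤ Module.supportDim A N := by
  rw [Module.supportDim_eq_ringKrullDim_quotient_annihilator]
  have h : Module.annihilator A N ≤ q.asIdeal := Module.mem_support_iff_of_finite.mp hq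
  exact ringKrullDim_le_of_surjective (Ideal.Quotient.factor h) (Ideal.Quotient.factor_surjective h)

theorem eq_of_le (N : Type u) [AddCommGroup N] [Module A N] [Module.Finite A N] (d : ℕ)
    (hd : Module.supportDim A N ≤ d) (p q : PrimeSpectrum A)
    (hp : ringKrullDim (A ⧸ p.asIdeal) = d) (hq : q ∈ Module.support A N)
    (hqp : q.asIdeal ≤ p.asIdeal) : q = p := by
  by_contra hne
  have hlt : q.asIdeal < p.asIdeal := lt_of_le_of_ne hqp fun h => hne (PrimeSpectrum.ext h)
  have h1 := dim_succ_le q.asIdeal p.asIdeal hlt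
  have h2 := (dim_le_supportDim N q hq).trans hd
  rw [hp] at h1
  have h3 : ((d : ℕ) : WithBot ℕ∞) + 1 ≤ d := h1.trans h2
  have h4 : (((d + 1 : ℕ) : ℕ∞) : WithBot ℕ∞) ≤ ((d : ℕ∞) : WithBot ℕ∞) := by
    simpa using h3
  have h5 : ((d + 1 : ℕ) : ℕ∞) ≤ (d : ℕ∞) := WithBot.coe_le_coe.mp h4
  have h6 : d + 1 ≤ d := by exact_mod_cast h5
  omega

end Dim

section Loc

variable {A : Type u} [CommRing A] [IsNoetherianRing A]

/-- the local length at `p` -/
noncomputable def ll (N : Type u) [AddCommGroup N] [Module A N] (p : PrimeSpectrum A) : ℕ :=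
  (Module.length (Localization.AtPrime p.asIdeal) (LocalizedModule p.asIdeal.primeCompl N)).toNat

/-- the localized module has finite length at a minimal point of the support -/
theorem fl_loc (N : Type u) [AddCommGroup N] [Module A N] [Module.Finite A N] (p : PrimeSpectrum A)
    (hmin : ∀ q ∈ Module.support A N, q.asIdeal ≤ p.asIdeal → q = p) :
    IsFiniteLength (Localization.AtPrime p.asIdeal) (LocalizedModule p.asIdeal.primeCompl N) := by
  rw [Groth.Agent.Lib.FiniteLengthSupport.isFiniteLength_iff_support_subset_closedPoint]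
  have hcm : Ideal.comap (algebraMap A (Localization.AtPrime p.asIdeal))
      (IsLocalRing.maximalIdeal (Localization.AtPrime p.asIdeal)) = p.asIdeal :=
    IsLocalization.AtPrime.under_maximalIdeal (Localization.AtPrime p.asIdeal) p.asIdeal
  intro Q hQ
  rw [Module.mem_support_iff_exists_annihilator] at hQ
  obtain ⟨x, hx⟩ := hQ
  induction x using LocalizedModule.induction_on with
  | h m s =>
    set q : PrimeSpectrum A := PrimeSpectrum.comap (algebraMap A (Localization.AtPrime p.asIdeal)) Q
      with hq
    have hqs : q ∈ Module.support A N := by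
      rw [Module.mem_support_iff_exists_annihilator]
      refine ⟨m, fun a ha => ?_⟩
      rw [Submodule.mem_annihilator_span_singleton] at ha
      show algebraMap A (Localization.AtPrime p.asIdeal) a ∈ Q.asIdeal
      apply hx
      rw [Submodule.mem_annihilator_span_singleton, algebraMap_smul, LocalizedModule.smul'_mk, ha,
        LocalizedModule.zero_mk]
    have hqp : q.asIdeal ≤ p.asIdeal := by
      have h1 : Q.asIdeal ≤ IsLocalRing.maximalIdeal (Localization.AtPrime p.asIdeal) :=
        IsLocalRing.le_maximalIdeal Q.2.ne_top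
      have h2 := Ideal.comap_mono (f := algebraMap A (Localization.AtPrime p.asIdeal)) h1
      rw [hcm] at h2
      exact h2
    have hqeq := hmin q hqs hqp
    apply PrimeSpectrum.localization_comap_injective (Localization.AtPrime p.asIdeal)
      p.asIdeal.primeCompl
    rw [← hq, hqeq]
    apply PrimeSpectrum.ext
    show p.asIdeal = Ideal.comap _ (IsLocalRing.maximalIdeal _)
    rw [hcm]


/-- additivity of local lengths on a short exact sequence -/
theorem length_loc_add {N₁ N₂ N₃ : Type u} [AddCommGroup N₁] [Module A N₁] [AddCommGroup N₂]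
    [Module A N₂] [AddCommGroup N₃] [Module A N₃] (f : N₁ →ₗ[A] N₂) (g : N₂ →ₗ[A] N₃)
    (hf : Function.Injective f) (hg : Function.Surjective g) (hfg : Function.Exact f g)
    (p : PrimeSpectrum A) :
    Module.length (Localization.AtPrime p.asIdeal) (LocalizedModule p.asIdeal.primeCompl N₂) =
      Module.length (Localization.AtPrime p.asIdeal) (LocalizedModule p.asIdeal.primeCompl N₁) +
      Module.length (Localization.AtPrime p.asIdeal) (LocalizedModule p.asIdeal.primeCompl N₃) := by
  refine Module.length_eq_add_of_exact (LocalizedModule.map p.asIdeal.primeCompl f)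
    (LocalizedModule.map p.asIdeal.primeCompl g)
    (LocalizedModule.map_injective _ f hf) (LocalizedModule.map_surjective _ g hg) ?_
  have := LocalizedModule.map_exact p.asIdeal.primeCompl f g hfg
  intro y
  exact this y

theorem ll_add {N₁ N₂ N₃ : Type u} [AddCommGroup N₁] [Module A N₁] [AddCommGroup N₂]
    [Module A N₂] [AddCommGroup N₃] [Module A N₃] (f : N₁ →ₗ[A] N₂) (g : N₂ →ₗ[A] N₃)
    (hf : Function.Injective f) (hg : Function.Surjective g) (hfg : Function.Exact f g)
    (p : PrimeSpectrum A)
    (h1 : IsFiniteLength (Localization.AtPrime p.asIdeal) (LocalizedModule p.asIdeal.primeCompl N₁))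
    (h3 : IsFiniteLength (Localization.AtPrime p.asIdeal) (LocalizedModule p.asIdeal.primeCompl N₃)) :
    ll N₂ p = ll N₁ p + ll N₃ p := by
  unfold ll
  rw [length_loc_add f g hf hg hfg p, ENat.toNat_add (Module.length_ne_top_iff.mpr h1)
    (Module.length_ne_top_iff.mpr h3)]

theorem ll_eq_zero (N : Type u) [AddCommGroup N] [Module A N] (p : PrimeSpectrum A)
    (hp : p ∉ Module.support A N) : ll N p = 0 := by
  unfold ll
  rw [Module.notMem_support_iff] at hp
  rw [Module.length_eq_zero, ENat.toNat_zero]

theorem ll_congr {N N' : Type u} [AddCommGroup N] [Module A N] [AddCommGroup N'] [Module A N']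
    (e : N ≃ₗ[A] N') (p : PrimeSpectrum A) : ll N p = ll N' p := by
  unfold ll
  rw [(IsLocalizedModule.mapEquiv p.asIdeal.primeCompl
    (LocalizedModule.mkLinearMap p.asIdeal.primeCompl N)
    (LocalizedModule.mkLinearMap p.asIdeal.primeCompl N')
    (Localization.AtPrime p.asIdeal) e).length_eq]

theorem isSimple_loc_quot (q : PrimeSpectrum A) :
    IsSimpleModule (Localization.AtPrime q.asIdeal)
      (LocalizedModule q.asIdeal.primeCompl (A ⧸ q.asIdeal)) := by
  rw [isSimpleModule_iff_toSpanSingleton_surjective]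
  constructor
  · rw [← Module.mem_support_iff, Groth.Agent.Lib.FiniteLengthSupport.mem_support_quotient_iff]
  · intro x hx y
    induction x using LocalizedModule.induction_on with
    | h m s =>
    induction y using LocalizedModule.induction_on with
    | h m' s' =>
    obtain ⟨a, rfl⟩ := Ideal.Quotient.mk_surjective m
    obtain ⟨a', rfl⟩ := Ideal.Quotient.mk_surjective m'
    have ha : a ∈ q.asIdeal.primeCompl := by
      intro ha
      apply hx
      rw [Ideal.Quotient.eq_zero_iff_mem.mpr ha, LocalizedModule.zero_mk]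
    refine ⟨Localization.mk (a' * s) (⟨a, ha⟩ * s'), ?_⟩
    rw [LinearMap.toSpanSingleton_apply, LocalizedModule.mk_smul_mk, LocalizedModule.mk_eq]
    refine ⟨1, ?_⟩
    rw [one_smul, one_smul]
    simp only [Submonoid.smul_def, Submonoid.coe_mul, Algebra.smul_def,
      Ideal.Quotient.algebraMap_eq, ← map_mul]
    congr 1
    ring

theorem ll_quot_self (q : PrimeSpectrum A) : ll (A ⧸ q.asIdeal) q = 1 := by
  unfold ll
  have := isSimple_loc_quot q
  rw [Module.length_eq_one, ENat.toNat_one]

end Loc

section Sam

variable {A : Type u} [CommRing A] [IsNoetherianRing A] [IsLocalRing A] (I : Ideal A)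

omit [IsNoetherianRing A] [IsLocalRing A] in
theorem length_quot_congr {N N' : Type u} [AddCommGroup N] [Module A N] [AddCommGroup N']
    [Module A N'] (e : N ≃ₗ[A] N') (t : ℕ) :
    Module.length A (N ⧸ (I ^ t • (⊤ : Submodule A N))) =
      Module.length A (N' ⧸ (I ^ t • (⊤ : Submodule A N'))) := by
  refine (Submodule.Quotient.equiv _ _ e ?_).length_eq
  rw [Submodule.map_smul'', Submodule.map_top, LinearEquiv.range]

omit [IsNoetherianRing A] [IsLocalRing A] in
theorem sam_congr {N N' : Type u} [AddCommGroup N] [Module A N] [AddCommGroup N']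
    [Module A N'] (e : N ≃ₗ[A] N') (d t : ℕ) : sam I N d t = sam I N' d t := by
  unfold sam
  rw [length_quot_congr I e t]

omit [IsNoetherianRing A] [IsLocalRing A] in
theorem sam_subsingleton (N : Type u) [AddCommGroup N] [Module A N] [Subsingleton N] (d t : ℕ) :
    sam I N d t = 0 := by
  unfold sam
  rw [Module.length_eq_zero]
  simp

theorem tendsto_sam_zero (hI : I ≤ IsLocalRing.maximalIdeal A) (n₀ : ℕ)
    (hn₀ : IsLocalRing.maximalIdeal A ^ n₀ ≤ I)
    (N : Type u) [AddCommGroup N] [Module A N] [Module.Finite A N] (d : ℕ)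
    (hd : Module.supportDim A N < d) : Tendsto (sam I N d) atTop (𝓝 0) := by
  rcases subsingleton_or_nontrivial N with hN | hN
  · have : sam I N d = fun _ => 0 := funext fun t => sam_subsingleton I N d t
    rw [this]
    exact tendsto_const_nhds
  · haveI : Finite (MaximalSpectrum A) := inferInstance
    obtain ⟨P, ⟨n₁, hP⟩, hdeg⟩ := Groth.Agent.Lib.SamuelPoly.exists_samuelPoly N I
      (by rwa [IsLocalRing.ringJacobson_eq_maximalIdeal]) n₀
      (by rwa [IsLocalRing.ringJacobson_eq_maximalIdeal])
    rw [← hdeg] at hd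
    have hlt : P.natDegree < d := by
      have h5 : ((P.natDegree : ℕ) : ℕ∞) < (d : ℕ∞) := by
        have : (((P.natDegree : ℕ) : ℕ∞) : WithBot ℕ∞) < ((d : ℕ∞) : WithBot ℕ∞) := by
          simpa using hd
        exact WithBot.coe_lt_coe.mp this
      exact_mod_cast h5
    have h1 := Groth.Agent.Lib.SamuelPoly.tendsto_eval_div_pow P d hlt.le
    rw [Polynomial.coeff_eq_zero_of_natDegree_lt hlt, Rat.cast_zero] at h1
    have h2 := h1.const_mul (d.factorial : ℝ)
    rw [mul_zero] at h2
    refine h2.congr' ?_
    filter_upwards [eventually_ge_atTop n₁] with t ht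
    unfold sam
    have := hP t ht
    unfold Groth.Agent.Lib.EulerLES.len at this
    rw [← this, mul_div_assoc]
    simp

end Sam

section Main

variable {A : Type u} [CommRing A] [IsNoetherianRing A] [IsLocalRing A] (I : Ideal A)
  (hI : I ≤ IsLocalRing.maximalIdeal A) (n₀ : ℕ) (hn₀ : IsLocalRing.maximalIdeal A ^ n₀ ≤ I)
  (d : ℕ) (e : PrimeSpectrum A → ℝ)
  (he : ∀ p : PrimeSpectrum A, ringKrullDim (A ⧸ p.asIdeal) = d →
      Tendsto (sam I (A ⧸ p.asIdeal) d) atTop (𝓝 (e p)))

/-- the set of primes of coheight `d` -/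
def S (A : Type u) [CommRing A] (d : ℕ) : Set (PrimeSpectrum A) :=
  {p | ringKrullDim (A ⧸ p.asIdeal) = d}

include hI hn₀ he in
theorem main (N : Type u) [AddCommGroup N] [Module A N] [hfin : Module.Finite A N] :
    Module.supportDim A N ≤ d →
      (S A d ∩ {p | ll N p ≠ 0}).Finite ∧
      Tendsto (sam I N d) atTop (𝓝 (∑ᶠ p ∈ S A d, (ll N p : ℝ) * e p)) := by
  induction hfin using IsNoetherianRing.induction_on_isQuotientEquivQuotientPrime A with
  | subsingleton N =>
    intro _
    have hll : ∀ p : PrimeSpectrum A, ll N p = 0 := fun p => by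
      apply ll_eq_zero
      rw [Module.support_eq_empty]
      exact Set.notMem_empty p
    constructor
    · have : S A d ∩ {p | ll N p ≠ 0} = ∅ := by
        ext p
        simp [hll p]
      rw [this]
      exact Set.finite_empty
    · have h0 : ∑ᶠ p ∈ S A d, (ll N p : ℝ) * e p = 0 :=
        finsum_mem_eq_zero_of_forall_eq_zero fun p _ => by rw [hll p]; simp
      rw [h0]
      have : sam I N d = fun _ => 0 := funext fun t => sam_subsingleton I N d t
      rw [this]
      exact tendsto_const_nhds
  | quotient N q f =>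
    intro hd
    have hsupp : ∀ p : PrimeSpectrum A, p ∈ Module.support A N ↔ q.asIdeal ≤ p.asIdeal := by
      intro p
      rw [f.support_eq, Groth.Agent.Lib.FiniteLengthSupport.mem_support_quotient_iff]
    have hq : q ∈ Module.support A N := (hsupp q).mpr (le_refl _)
    have hdimq : Module.supportDim A N = ringKrullDim (A ⧸ q.asIdeal) := by
      rw [Module.supportDim_eq_of_equiv f, Module.supportDim_quotient_eq_ringKrullDim]
    by_cases hqd : ringKrullDim (A ⧸ q.asIdeal) = d
    · have hzero : ∀ p ∈ S A d, p ≠ q → ll N p = 0 := by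
        intro p hp hpq
        apply ll_eq_zero
        intro hps
        exact hpq (eq_of_le N d hd p q hp hq ((hsupp p).mp hps)).symm
      have hone : ll N q = 1 := by rw [ll_congr f q, ll_quot_self]
      constructor
      · refine (Set.finite_singleton q).subset ?_
        rintro p ⟨hp, hne⟩
        by_contra hpq
        exact hne (hzero p hp hpq)
      · have hsum : ∑ᶠ p ∈ S A d, (ll N p : ℝ) * e p = e q := by
          classical
          rw [finsum_eq_single _ q]
          · rw [finsum_eq_if, if_pos (show q ∈ S A d from hqd), hone]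
            simp
          · intro p hpq
            rw [finsum_eq_if]
            split_ifs with hp
            · rw [hzero p hp hpq]
              simp
            · rfl
        rw [hsum]
        have : sam I N d = sam I (A ⧸ q.asIdeal) d := funext fun t => sam_congr I f d t
        rw [this]
        exact he q hqd
    · have hlt : Module.supportDim A N < d := lt_of_le_of_ne hd (by rwa [hdimq])
      have hzero : ∀ p ∈ S A d, ll N p = 0 := by
        intro p hp
        apply ll_eq_zero
        intro hps
        have hqp := (hsupp p).mp hps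
        have h1 : ringKrullDim (A ⧸ p.asIdeal) ≤ ringKrullDim (A ⧸ q.asIdeal) :=
          ringKrullDim_le_of_surjective (Ideal.Quotient.factor hqp)
            (Ideal.Quotient.factor_surjective hqp)
        rw [hp, ← hdimq] at h1
        exact absurd hlt (not_lt.mpr h1)
      constructor
      · have : S A d ∩ {p | ll N p ≠ 0} = ∅ := by
          ext p
          simp only [Set.mem_inter_iff, Set.mem_ofPred_eq, Set.mem_empty_iff_false, iff_false,
            not_and, not_not]
          exact hzero p
        rw [this]
        exact Set.finite_empty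
      · have h0 : ∑ᶠ p ∈ S A d, (ll N p : ℝ) * e p = 0 :=
          finsum_mem_eq_zero_of_forall_eq_zero fun p hp => by rw [hzero p hp]; simp
        rw [h0]
        exact tendsto_sam_zero I hI n₀ hn₀ N d hlt
  | exact N₁ N₂ N₃ f g hf hg hfg h₁ h₃ =>
    intro hd
    have hd₁ : Module.supportDim A N₁ ≤ d := (Module.supportDim_le_of_injective f hf).trans hd
    have hd₃ : Module.supportDim A N₃ ≤ d := (Module.supportDim_le_of_surjective g hg).trans hd
    obtain ⟨hfin₁, hlim₁⟩ := h₁ hd₁
    obtain ⟨hfin₃, hlim₃⟩ := h₃ hd₃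
    have hll : ∀ p ∈ S A d, ll N₂ p = ll N₁ p + ll N₃ p := by
      intro p hp
      refine ll_add f g hf hg hfg p (fl_loc N₁ p ?_) (fl_loc N₃ p ?_)
      · intro q hq hqp
        exact eq_of_le N₁ d hd₁ p q hp hq hqp
      · intro q hq hqp
        exact eq_of_le N₃ d hd₃ p q hp hq hqp
    constructor
    · refine (hfin₁.union hfin₃).subset ?_
      rintro p ⟨hp, hne⟩
      have h2 := hll p hp
      by_cases h1 : ll N₁ p = 0
      · right
        refine ⟨hp, ?_⟩
        intro h3
        apply hne
        rw [h2, h1, h3]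
      · left
        exact ⟨hp, h1⟩
    · have hsum : ∑ᶠ p ∈ S A d, (ll N₂ p : ℝ) * e p =
          ∑ᶠ p ∈ S A d, (ll N₁ p : ℝ) * e p + ∑ᶠ p ∈ S A d, (ll N₃ p : ℝ) * e p := by
        rw [← finsum_mem_add_distrib']
        · refine finsum_mem_congr rfl fun p hp => ?_
          rw [hll p hp]
          push_cast
          ring
        · refine hfin₁.subset ?_
          rintro p ⟨hp, hne⟩
          refine ⟨hp, ?_⟩
          intro h0
          apply hne
          show (ll N₁ p : ℝ) * e p = 0
          rw [h0]
          simp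
        · refine hfin₃.subset ?_
          rintro p ⟨hp, hne⟩
          refine ⟨hp, ?_⟩
          intro h0
          apply hne
          show (ll N₃ p : ℝ) * e p = 0
          rw [h0]
          simp
      rw [hsum]
      exact tendsto_add I n₀ hn₀ f g hf hg ((LinearMap.exact_iff.mp hfg).symm) d _ _ hlim₁ hlim₃

end Main

theorem result' (A : Type u) [CommRing A] [IsNoetherianRing A] [IsLocalRing A]
    (I : Ideal A) (hI : I ≤ IsLocalRing.maximalIdeal A ∧ ∃ n : ℕ, IsLocalRing.maximalIdeal A ^ n ≤ I)
    (M : Type u) [AddCommGroup M] [Module A M] [Module.Finite A M]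
    (d : ℕ) (hd : Module.supportDim A M ≤ d) (e : PrimeSpectrum A → ℝ)
    (he : ∀ p : PrimeSpectrum A, ringKrullDim (A ⧸ p.asIdeal) = d →
      Filter.Tendsto (fun t : ℕ => (d.factorial : ℝ) *
        ((Module.length A ((A ⧸ p.asIdeal) ⧸ (I ^ t • (⊤ : Submodule A (A ⧸ p.asIdeal))))).toNat : ℝ) / (t : ℝ) ^ d)
        Filter.atTop (nhds (e p))) :
    Filter.Tendsto (fun t : ℕ => (d.factorial : ℝ) * ((Module.length A (M ⧸ (I ^ t • (⊤ : Submodule A M)))).toNat : ℝ) / (t : ℝ) ^ d) Filter.atTop
      (nhds (∑ᶠ (p : PrimeSpectrum A) (_ : ringKrullDim (A ⧸ p.asIdeal) = d),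
        ((Module.length (Localization.AtPrime p.asIdeal) (LocalizedModule p.asIdeal.primeCompl M)).toNat : ℝ) * e p)) := by
  obtain ⟨hI1, n₀, hn₀⟩ := hI
  exact (main I hI1 n₀ hn₀ d e he M hd).2


/-- Suppose A is a local Noetherian ring with an ideal of definition I, take M to be a finite A-module,
and fix d with dim Supp(M) ≤ d. Then e_I(M, d) equals Σ_p length_{A_p}(M_p) · e_I(A/p, d), where p
ranges over the primes satisfying dim(A/p) = d (all but finitely many summands vanish); here e_I(N,
d) denotes the limit of d! · length_A(N/I^t N)/t^d, and the formal version says: assuming these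
limits e_p exist for the A-modules A/p, the limit attached to M is the sum shown. -/
theorem result (A : Type u) [CommRing A] [IsNoetherianRing A] [IsLocalRing A]
    (I : Ideal A) (hI : I ≤ IsLocalRing.maximalIdeal A ∧ ∃ n : ℕ, IsLocalRing.maximalIdeal A ^ n ≤ I)
    (M : Type u) [AddCommGroup M] [Module A M] [Module.Finite A M]
    (d : ℕ) (hd : Module.supportDim A M ≤ d) (e : PrimeSpectrum A → ℝ)
    (he : ∀ p : PrimeSpectrum A, ringKrullDim (A ⧸ p.asIdeal) = d →
      Filter.Tendsto (fun t : ℕ => (d.factorial : ℝ) *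
        ((Module.length A ((A ⧸ p.asIdeal) ⧸ (I ^ t • (⊤ : Submodule A (A ⧸ p.asIdeal))))).toNat : ℝ) / (t : ℝ) ^ d)
        Filter.atTop (nhds (e p))) :
    Filter.Tendsto (fun t : ℕ => (d.factorial : ℝ) * ((Module.length A (M ⧸ (I ^ t • (⊤ : Submodule A M)))).toNat : ℝ) / (t : ℝ) ^ d) Filter.atTop
      (nhds (∑ᶠ (p : PrimeSpectrum A) (_ : ringKrullDim (A ⧸ p.asIdeal) = d),
        ((Module.length (Localization.AtPrime p.asIdeal) (LocalizedModule p.asIdeal.primeCompl M)).toNat : ℝ) * e p)) := by
  exact result' A I hI M d hd e he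

end Groth.Agent.S12212
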