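import Groth.Statements.S15063
import Mathlib.RingTheory.HopfAlgebra.Convolution
import Mathlib.RingTheory.Ideal.GoingUp
import Mathlib.RingTheory.LocalRing.MaximalIdeal.Basic
import Mathlib.RingTheory.TensorProduct.Finite

set_option autoImplicit false
universe u
open Hopf

namespace Groth.Agent.S15063

open WithConv TensorProduct

section Conv

variable {R A : Type u} [CommRing R] [CommRing A] [HopfAlgebra R A]

theorem conv3_eq {C : Type u} [CommRing C] [Algebra R C] (f g h : A →ₐ[R] C) :
    Dyn.conv3 R A f g h = (toConv f * toConv g * toConv h).ofConv := by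
  simp only [AlgHom.convMul_def, Dyn.conv3, ofConv_toConv]
  rw [show Algebra.TensorProduct.map ((Algebra.TensorProduct.lmul' (S := C) R).comp
      ((Algebra.TensorProduct.map f g).comp (Bialgebra.comulAlgHom R A))) h =
      (Algebra.TensorProduct.map ((Algebra.TensorProduct.lmul' (S := C) R).comp
        (Algebra.TensorProduct.map f g)) h).comp
      (Algebra.TensorProduct.map (Bialgebra.comulAlgHom R A) (AlgHom.id R A)) by
    rw [← Algebra.TensorProduct.map_comp, AlgHom.comp_assoc, AlgHom.comp_id]]
  simp only [AlgHom.comp_assoc]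

/-- `g · g⁻¹ = 1` for points with values in any commutative algebra. -/
theorem conv_antipode {C : Type u} [CommRing C] [Algebra R C] (f : A →ₐ[R] C) :
    toConv f * toConv (f.comp (HopfAlgebra.antipodeAlgHom R A)) = 1 := by
  have h := AlgHom.comp_convMul_distrib f (toConv (AlgHom.id R A))
    (toConv (HopfAlgebra.antipodeAlgHom R A))
  have h1 : toConv (AlgHom.id R A) * toConv (HopfAlgebra.antipodeAlgHom R A) = 1 :=
    mul_inv_cancel (toConv (AlgHom.id R A))
  rw [h1] at h
  simp only [ofConv_toConv, AlgHom.comp_id] at h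
  apply WithConv.ofConv_injective
  rw [← h]
  ext x
  simp [AlgHom.convOne_def]

end Conv

section Core

variable {R : Type u} [CommRing R] [Nontrivial R] {A Q : Type u} [CommRing A] [CommRing Q]
  [Algebra R A] [Algebra R Q] [IsLocalRing Q] [Module.Finite R A]

/-- For `Q` local with an augmentation `Q → R` and `A` finite over `R`: an idempotent of `Q ⊗ A`
which dies under `ε ⊗ id : Q ⊗ A → A` is zero. -/
theorem eq_zero_of_idempotent (εb : Q →ₐ[R] R) (f : Q ⊗[R] A) (hf : IsIdempotentElem f)
    (hE : Algebra.TensorProduct.lift ((Algebra.ofId R A).comp εb) (AlgHom.id R A)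
      (fun _ _ => Commute.all _ _) f = 0) : f = 0 := by
  set E : Q ⊗[R] A →ₐ[R] A := Algebra.TensorProduct.lift ((Algebra.ofId R A).comp εb)
    (AlgHom.id R A) (fun _ _ => Commute.all _ _) with hEdef
  have key : ∀ (M : Ideal (Q ⊗[R] A)), M.IsMaximal → ∀ t : Q ⊗[R] A,
      t - (1 : Q) ⊗ₜ[R] E t ∈ M := by
    intro M hM t
    have hP : (M.comap (algebraMap Q (Q ⊗[R] A))).IsMaximal :=
      Ideal.isMaximal_comap_of_isIntegral_of_isMaximal M
    have hP' := IsLocalRing.eq_maximalIdeal hP
    have hI : RingHom.ker (εb : Q →+* R) ≤ M.comap (algebraMap Q (Q ⊗[R] A)) := by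
      rw [hP']
      exact IsLocalRing.le_maximalIdeal (RingHom.ker_ne_top _)
    induction t using TensorProduct.induction_on with
    | zero => simp
    | add x y hx hy =>
      have : x + y - (1 : Q) ⊗ₜ[R] E (x + y) =
          (x - (1 : Q) ⊗ₜ[R] E x) + (y - (1 : Q) ⊗ₜ[R] E y) := by
        rw [map_add, TensorProduct.tmul_add]
        abel
      rw [this]
      exact add_mem hx hy
    | tmul y a =>
      have h1 : E (y ⊗ₜ[R] a) = εb y • a := by
        rw [hEdef, Algebra.TensorProduct.lift_tmul]
        simp [Algebra.ofId_apply, Algebra.smul_def]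
      have h2 : y ⊗ₜ[R] a - (1 : Q) ⊗ₜ[R] E (y ⊗ₜ[R] a) =
          algebraMap Q (Q ⊗[R] A) (y - algebraMap R Q (εb y)) * ((1 : Q) ⊗ₜ[R] a) := by
        rw [h1, Algebra.TensorProduct.algebraMap_apply, Algebra.TensorProduct.tmul_mul_tmul,
          one_mul, Algebra.algebraMap_self_apply, mul_one, TensorProduct.sub_tmul,
          TensorProduct.tmul_smul, Algebra.algebraMap_eq_smul_one, TensorProduct.smul_tmul']
      rw [h2]
      refine M.mul_mem_right _ (hI ?_)
      rw [RingHom.mem_ker, map_sub]
      simp
  have hunit : IsUnit (1 - f) := by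
    by_contra hnu
    obtain ⟨M, hM, hmem⟩ := exists_max_ideal_of_mem_nonunits hnu
    have h1 := key M hM f
    rw [hE, TensorProduct.tmul_zero, sub_zero] at h1
    have h2 := add_mem hmem h1
    rw [sub_add_cancel] at h2
    exact hM.ne_top ((Ideal.eq_top_iff_one _).2 h2)
  have h0 : f * (1 - f) = 0 := by rw [mul_sub, mul_one, hf.eq, sub_self]
  exact (hunit.mul_left_eq_zero).1 h0

end Core

section Univ

variable {R A : Type u} [CommRing R] [Nontrivial R] [CommRing A] [HopfAlgebra R A]
  [Module.Finite R A] {Q : Type u} [CommRing Q] [Algebra R Q] [IsLocalRing Q]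

theorem conj_apply_eq_one (π : A →ₐ[R] Q) (εb : Q →ₐ[R] R)
    (hε : εb.comp π = Bialgebra.counitAlgHom R A)
    {T : Type u} [CommRing T] [Algebra R T] (g : A →ₐ[R] T) (hbar : Q →ₐ[R] T) (e : A)
    (he : IsIdempotentElem e) (hεe : Bialgebra.counitAlgHom R A e = 1) :
    (toConv g * toConv (hbar.comp π) * toConv (g.comp (HopfAlgebra.antipodeAlgHom R A))).ofConv e
      = 1 := by
  set g₀ : A →ₐ[R] Q ⊗[R] A := Algebra.TensorProduct.includeRight with hg₀
  set h₀ : A →ₐ[R] Q ⊗[R] A :=
    (Algebra.TensorProduct.includeLeft : Q →ₐ[R] Q ⊗[R] A).comp π with hh₀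
  set L : Q ⊗[R] A →ₐ[R] T := Algebra.TensorProduct.lift hbar g (fun _ _ => Commute.all _ _)
    with hL
  set E : Q ⊗[R] A →ₐ[R] A := Algebra.TensorProduct.lift ((Algebra.ofId R A).comp εb)
    (AlgHom.id R A) (fun _ _ => Commute.all _ _) with hEdef
  set c₀ : A →ₐ[R] Q ⊗[R] A :=
    (toConv g₀ * toConv h₀ * toConv (g₀.comp (HopfAlgebra.antipodeAlgHom R A))).ofConv with hc₀
  have hLg : L.comp g₀ = g := by
    ext a
    simp [hL, hg₀]
  have hLh : L.comp h₀ = hbar.comp π := by
    ext a
    simp [hL, hh₀]
  have hc : (toConv g * toConv (hbar.comp π) *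
      toConv (g.comp (HopfAlgebra.antipodeAlgHom R A))).ofConv = L.comp c₀ := by
    rw [hc₀, AlgHom.comp_convMul_distrib, AlgHom.comp_convMul_distrib]
    simp only [← AlgHom.comp_assoc, hLg, hLh]
  have hEg : E.comp g₀ = AlgHom.id R A := by
    ext a
    simp [hEdef, hg₀]
  have hEh : toConv (E.comp h₀) = 1 := by
    rw [AlgHom.convOne_def, ← hε]
    congr 1
    ext a
    simp [hEdef, hh₀]
  have hEc : E.comp c₀ = (1 : WithConv (A →ₐ[R] A)).ofConv := by
    rw [hc₀, AlgHom.comp_convMul_distrib, AlgHom.comp_convMul_distrib]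
    simp only [ofConv_toConv, ← AlgHom.comp_assoc, hEg, hEh, mul_one]
    exact congrArg WithConv.ofConv (conv_antipode (AlgHom.id R A))
  have hf : IsIdempotentElem (c₀ (1 - e)) := he.one_sub.map c₀
  have hEf : E (c₀ (1 - e)) = 0 := by
    rw [← AlgHom.comp_apply, hEc, AlgHom.convOne_apply, map_sub, Bialgebra.counit_one]
    have : CoalgebraStruct.counit (R := R) e = 1 := hεe
    rw [this, sub_self, map_zero]
  have h0 := eq_zero_of_idempotent εb _ hf hEf
  rw [hc, AlgHom.comp_apply]
  rw [map_sub, map_one, sub_eq_zero] at h0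
  rw [← h0, map_one]

end Univ

/-- Let R be a henselian Noetherian local ring and A a commutative Hopf algebra over R which is finite
and flat as an R-module (a finite flat R-group G = Spec A, not assumed commutative); let e ∈ A be an
idempotent with ε(e) = 1 such that A/(1 − e) is a local ring, so that Spec A/(1 − e) is the
connected component G⁰ of G containing the unit section. Then G⁰ is normal in G: for every
commutative R-algebra T, every T-valued point g of G and every T-valued point h of G killing the
ideal (1 − e), the conjugate g·h·g⁻¹ again kills (1 − e). (The published statement is for a flat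
affine algebraic R-group and also asserts that G⁰ is an open and closed flat subgroup; this row
states the normality clause for finite flat G.) -/
theorem result (R : Type u) [CommRing R] [HenselianLocalRing R] [IsNoetherianRing R]
    (A : Type u) [CommRing A] [HopfAlgebra R A] [Module.Finite R A] [Module.Flat R A]
    (e : A) (he : IsIdempotentElem e) (hε : Bialgebra.counitAlgHom R A e = 1)
    [IsLocalRing (A ⧸ Ideal.span ({1 - e} : Set A))] :
    SGA3.IsNormalHopfIdeal R A (Ideal.span ({1 - e} : Set A)) := by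
  intro T _ _ g h hh a ha
  obtain ⟨b, rfl⟩ := Ideal.mem_span_singleton'.1 ha
  have hcounit : ∀ x ∈ Ideal.span ({1 - e} : Set A), Bialgebra.counitAlgHom R A x = 0 := by
    intro x hx
    obtain ⟨y, rfl⟩ := Ideal.mem_span_singleton'.1 hx
    rw [map_mul, map_sub, map_one, hε, sub_self, mul_zero]
  have key := conj_apply_eq_one (Ideal.Quotient.mkₐ R (Ideal.span ({1 - e} : Set A)))
    (Ideal.Quotient.liftₐ (Ideal.span ({1 - e} : Set A)) (Bialgebra.counitAlgHom R A) hcounit)
    (by ext x; simp) g
    (Ideal.Quotient.liftₐ (Ideal.span ({1 - e} : Set A)) h hh) e he hε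
  have hh' : (Ideal.Quotient.liftₐ (Ideal.span ({1 - e} : Set A)) h hh).comp
      (Ideal.Quotient.mkₐ R (Ideal.span ({1 - e} : Set A))) = h := by
    ext x
    simp
  rw [hh'] at key
  rw [conv3_eq, map_mul, map_sub, map_one, key, sub_self, mul_zero]

end Groth.Agent.S15063
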