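import Groth.Statements.S9811
import Groth.Agent.Lib.BrnchSum98

set_option autoImplicit false
universe u
open Brnch

namespace Groth.Agent.S9811

open Groth.Agent.Lib.TotalFrac Groth.Agent.Lib.Brnch98 Groth.Agent.Lib.BrnchSum98

theorem numGeomBranches_eq_card (B : Type u) [CommRing B] [IsLocalRing B] [IsDomain B] :
    Brnch.numGeomBranches B
      = ENat.card (Σ m' : MaximalSpectrum (CAlg2.normRed B), Brnch.Emb B m') := by
  unfold Brnch.numGeomBranches
  rw [if_pos]
  rw [IsDomain.minimalPrimes_eq_singleton_bot B]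
  exact Set.finite_singleton _


/-- Geometric branches, in terms of the local ring: for a local ring A with finitely many minimal prime
ideals, the number of geometric branches of A is the sum over the minimal primes p of the numbers of
geometric branches of the local domains A/p. -/
theorem result (A : Type u) [CommRing A] [IsLocalRing A]
    (h : (minimalPrimes A).Finite) :
    Brnch.numGeomBranches A =
      ∑ᶠ p : minimalPrimes A,
        haveI : p.1.IsPrime := p.2.1.1
        Brnch.numGeomBranches (A ⧸ p.1) := by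
  classical
  have hred : IsReduced (CAlg2.red A) := isReduced_red A
  have hfin' : Finite (MinPrime (CAlg2.red A)) :=
    Set.finite_coe_iff.mpr (finite_minimalPrimes_red A h)
  have : Fintype (MinPrime (CAlg2.red A)) := Fintype.ofFinite _
  have hL : Brnch.numGeomBranches A
      = ENat.card (Σ m' : MaximalSpectrum (CAlg2.normRed A), Brnch.Emb A m') := by
    unfold Brnch.numGeomBranches
    rw [if_pos h]
  rw [hL, card_sigma_emb A,
    ENat.card_congr (homOverCongr
      (Groth.Agent.Lib.TotalFracFin98.integralClosureEquivPi (CAlg2.red A)).toRingEquiv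
      (fA A) (Brnch.toClosure A)),
    card_homOver_pi, ← finsum_comp (pOf A) (pOf_bijective A), finsum_eq_sum_of_fintype]
  refine Finset.sum_congr rfl (fun q _ => ?_)
  have hp : (q.1.comap (Ideal.Quotient.mk (nilradical A))).IsPrime := (pOf A q).2.1.1
  haveI : (pOf A q).1.IsPrime := hp
  obtain ⟨ε, hε⟩ := exists_compEquiv A q
  obtain ⟨Ψ, hΨ⟩ := exists_closureEquiv A (q.1.comap (Ideal.Quotient.mk (nilradical A)))
  show _ = Brnch.numGeomBranches (A ⧸ (pOf A q).1)
  rw [numGeomBranches_eq_card (A ⧸ (pOf A q).1), card_sigma_emb (A ⧸ (pOf A q).1)]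
  let f_q : A →+* Cq (CAlg2.red A) q :=
    (Pi.evalRingHom (fun p : MinPrime (CAlg2.red A) => Cq (CAlg2.red A) p) q).comp
      (((Groth.Agent.Lib.TotalFracFin98.integralClosureEquivPi (CAlg2.red A)).toRingEquiv :
        CAlg2.normRed A →+* (∀ p : MinPrime (CAlg2.red A), Cq (CAlg2.red A) p)).comp (fA A))
  have hfq_apply : ∀ a : A, f_q a
      = algebraMap (CAlg2.red A) (Cq (CAlg2.red A) q) (Ideal.Quotient.mk (nilradical A) a) := by
    intro a
    show ((Groth.Agent.Lib.TotalFracFin98.integralClosureEquivPi (CAlg2.red A))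
      (algebraMap (CAlg2.red A) (CAlg2.normRed A) (Ideal.Quotient.mk (nilradical A) a))) q = _
    rw [AlgEquiv.commutes]
    rfl
  have hC1 : (ε : Cq (CAlg2.red A) q →+* CAlg2.normRed (A ⧸ q.1.comap (Ideal.Quotient.mk (nilradical A)))).comp f_q
      = (fA (A ⧸ q.1.comap (Ideal.Quotient.mk (nilradical A)))).comp
        (Ideal.Quotient.mk (q.1.comap (Ideal.Quotient.mk (nilradical A)))) := by
    refine RingHom.ext fun a => ?_
    show ε (f_q a) = _
    rw [hfq_apply]
    exact hε a
  calc ENat.card (HomOver f_q (Brnch.toClosure A))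
      = ENat.card (HomOver ((ε : Cq (CAlg2.red A) q →+* CAlg2.normRed (A ⧸ q.1.comap (Ideal.Quotient.mk (nilradical A)))).comp f_q) (Brnch.toClosure A)) :=
        ENat.card_congr (homOverCongr ε f_q _)
    _ = ENat.card (HomOver ((ε : Cq (CAlg2.red A) q →+* CAlg2.normRed (A ⧸ q.1.comap (Ideal.Quotient.mk (nilradical A)))).comp f_q)
          ((Ψ : AlgebraicClosure (IsLocalRing.ResidueField A) →+* AlgebraicClosure (IsLocalRing.ResidueField (A ⧸ q.1.comap (Ideal.Quotient.mk (nilradical A))))).comp (Brnch.toClosure A))) :=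
        ENat.card_congr (homOverTarget Ψ _ _)
    _ = ENat.card (HomOver
          ((fA (A ⧸ q.1.comap (Ideal.Quotient.mk (nilradical A)))).comp
            (Ideal.Quotient.mk (q.1.comap (Ideal.Quotient.mk (nilradical A)))))
          ((Brnch.toClosure (A ⧸ q.1.comap (Ideal.Quotient.mk (nilradical A)))).comp
            (Ideal.Quotient.mk (q.1.comap (Ideal.Quotient.mk (nilradical A)))))) := by
        rw [hC1, hΨ]
    _ = ENat.card (HomOver (fA (A ⧸ q.1.comap (Ideal.Quotient.mk (nilradical A))))
          (Brnch.toClosure (A ⧸ q.1.comap (Ideal.Quotient.mk (nilradical A))))) :=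
        (ENat.card_congr (homOverPrecomp
          (Ideal.Quotient.mk (q.1.comap (Ideal.Quotient.mk (nilradical A))))
          Ideal.Quotient.mk_surjective _ _)).symm

end Groth.Agent.S9811
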