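import Groth.Statements.S1379
import Groth.Agent.Lib.QFSection6
import Groth.Agent.Lib.EtLocQF

set_option autoImplicit false
universe u
open FlatMor

namespace Groth.Agent.S1379

open AlgebraicGeometry CategoryTheory Limits in
/-- Let S₁ → S be flat, locally of finite presentation and surjective (an fppf cover by one morphism).
Then for every point s of S there are an étale morphism S' → S whose image contains s and a
surjective, finite, flat morphism of finite presentation V → S' such that V → S factors through S₁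
Zariski locally on V. -/
theorem result {S₁ S : Scheme.{u}} (g : S₁ ⟶ S) [Flat g] [LocallyOfFinitePresentation g] [Surjective g] (s : S) :
    ∃ (S' V : Scheme.{u}) (e : S' ⟶ S) (π : V ⟶ S'), Etale e ∧ s ∈ Set.range ⇑e ∧ Surjective π ∧ IsFinite π ∧ Flat π ∧ LocallyOfFinitePresentation π ∧
      ∀ v : ↑V, ∃ (W : V.Opens) (r : ↑W ⟶ S₁), v ∈ W ∧ r ≫ g = W.ι ≫ π ≫ e := by
  obtain ⟨x, rfl⟩ := g.surjective s
  obtain ⟨T, gT, h, hcomp, hfl, hfp, hqf, z, hz⟩ :=
    Groth.Agent.Lib.QFSection6.exists_local_quasiSection g x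
  have hlft : LocallyOfFiniteType gT := inferInstance
  obtain ⟨U, e₀, u, het, hu, -, V, v, hvV, hfin, hsnd, -, -⟩ :=
    Groth.Agent.Lib.EtLocQF.exists_etaleNbhd_of_quasiFiniteAt gT z (gT.quasiFiniteAt z)
  -- the finite flat morphism `p : V ⟶ U`
  have hflp : Flat (V.ι ≫ pullback.snd gT e₀) := inferInstance
  have hfpp : LocallyOfFinitePresentation (V.ι ≫ pullback.snd gT e₀) := inferInstance
  have hopen : IsOpen (Set.range ⇑(V.ι ≫ pullback.snd gT e₀)) :=
    (V.ι ≫ pullback.snd gT e₀).isOpenMap.isOpen_range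
  let W : U.Opens := ⟨Set.range ⇑(V.ι ≫ pullback.snd gT e₀), hopen⟩
  have huW : u ∈ W := ⟨⟨v, hvV⟩, by rw [Scheme.Hom.comp_apply]; exact hsnd⟩
  refine ⟨W, ((V.ι ≫ pullback.snd gT e₀) ⁻¹ᵁ W : _), W.ι ≫ e₀,
    (V.ι ≫ pullback.snd gT e₀) ∣_ W, inferInstance, ?_, ?_, inferInstance, inferInstance,
    inferInstance, ?_⟩
  · refine ⟨⟨u, huW⟩, ?_⟩
    rw [Scheme.Hom.comp_apply, ← hz, ← hu]
    rfl
  · constructor
    rintro ⟨w, y, rfl⟩
    refine ⟨⟨y, ⟨y, rfl⟩⟩, ?_⟩
    apply W.ι.isOpenEmbedding.injective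
    rw [← Scheme.Hom.comp_apply, morphismRestrict_ι]
    rfl
  · intro y
    refine ⟨⊤, (⊤ : Scheme.Opens _).ι ≫ ((V.ι ≫ pullback.snd gT e₀) ⁻¹ᵁ W).ι ≫ V.ι ≫
      pullback.fst gT e₀ ≫ h, trivial, ?_⟩
    simp only [Category.assoc]
    rw [hcomp, pullback.condition, ← Category.assoc V.ι, ← Category.assoc _ (V.ι ≫ _) e₀,
      ← morphismRestrict_ι]
    simp only [Category.assoc]

end Groth.Agent.S1379
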