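import Groth.Statements.S3522
import Groth.Agent.Lib.TensorCxZ35
import Groth.Agent.Lib.BifunctorCone66
import Groth.Agent.Lib.ConeQuasiIso
import Mathlib.Algebra.Homology.BifunctorFlip

set_option autoImplicit false
universe u
attribute [local instance] HasDerivedCategory.standard
open HTor

namespace Groth.Agent.S3522

section Helpers
open CategoryTheory CategoryTheory.Limits MonoidalCategory HomologicalComplex
variable {A : Type u} [CommRing A]

/-- Acyclicity transfers across isomorphisms of complexes. -/
lemma acyclic_of_iso {K K' : CochainComplex (ModuleCat.{u} A) ℤ} (e : K ≅ K') (h : K.Acyclic) :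
    K'.Acyclic := fun n => (h n).of_iso e

instance : ((curriedTensor (ModuleCat.{u} A)).flip).Additive := by
  constructor
  intro X Y f g
  ext Z
  simp

instance (X : ModuleCat.{u} A) : (((curriedTensor (ModuleCat.{u} A)).flip).obj X).Additive := by
  constructor
  intro Y Z f g
  simp

theorem quasiIso_tensor_left (L M Q : CochainComplex (ModuleCat.{u} A) ℤ)
    (η : M ⟶ Q) [QuasiIso η] (hL : ∀ i, Module.Flat A (L.X i)) (b : ℤ)
    (hb : ∀ i : ℤ, b < i → IsZero (L.X i)) :
    QuasiIso (HomologicalComplex.tensorHom (𝟙 L) η) := by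
  let F := curriedTensor (ModuleCat.{u} A)
  let c := ComplexShape.up ℤ
  have h1 : (CochainComplex.mappingCone η).Acyclic :=
    (Groth.Agent.Lib.ConeQuasiIso.quasiIso_iff_acyclic_mappingCone η).1 inferInstance
  have h2 : (HomologicalComplex.tensorObj L (CochainComplex.mappingCone η)).Acyclic :=
    Groth.Agent.Lib.TensorCxZ35.acyclic_tensorObj_of_flat L _ hL b hb h1
  have h3 : (mapBifunctor (CochainComplex.mappingCone η) L F.flip c).Acyclic :=
    acyclic_of_iso (HomologicalComplex.mapBifunctorFlipIso L (CochainComplex.mappingCone η) F c).symm h2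
  have h4 : (CochainComplex.mappingCone (mapBifunctorMap η (𝟙 L) F.flip c)).Acyclic :=
    acyclic_of_iso (Groth.Agent.Lib.BifunctorCone66.coneIso₁ F.flip η L) h3
  have h5 : QuasiIso (mapBifunctorMap η (𝟙 L) F.flip c) :=
    (Groth.Agent.Lib.ConeQuasiIso.quasiIso_iff_acyclic_mappingCone _).2 h4
  have nat := HomologicalComplex.mapBifunctorFlipIso_hom_naturality (𝟙 L) η F c
  have : HomologicalComplex.tensorHom (𝟙 L) η =
      (mapBifunctorFlipIso L M F c).inv ≫ mapBifunctorMap η (𝟙 L) F.flip c ≫
        (mapBifunctorFlipIso L Q F c).hom := by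
    rw [nat, Iso.inv_hom_id_assoc]
  rw [this]
  infer_instance

end Helpers

open CategoryTheory CategoryTheory.Limits in
/-- In cochain indexing: let L be a complex of flat A-modules and η : M ⟶ Q a quasi-isomorphism of
complexes of A-modules, the three complexes vanishing in large degrees. Then L ⊗ η : L ⊗ M ⟶ L ⊗ Q
is a quasi-isomorphism. (Consequently the hypertor modules of L and Q, the cohomology of L' ⊗ M' for
projective resolutions, are computed by the plain tensor product complex L ⊗ Q; only the
quasi-isomorphism is asserted.) -/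
theorem result (A : Type u) [CommRing A] (L M Q : DRing.Cx A)
    (η : M ⟶ Q) [QuasiIso η] (hL : DRing.TermwiseFlat L) (bL : ∃ b : ℤ, DRing.VanishesAbove L b)
    (bM : ∃ b : ℤ, DRing.VanishesAbove M b) (bQ : ∃ b : ℤ, DRing.VanishesAbove Q b) :
    QuasiIso (HomologicalComplex.tensorHom (𝟙 L) η) := by
  obtain ⟨b, hb⟩ := bL
  exact quasiIso_tensor_left L M Q η hL b hb

end Groth.Agent.S3522
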