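import Groth.Statements.S1052
import Groth.Agent.Lib.H43K0Db
import Groth.Agent.Lib.H90OXModExact
import Groth.Agent.Lib.HartogsO

set_option autoImplicit false
universe u
open CategoryTheory CategoryTheory.Limits AlgebraicGeometry
attribute [local instance] HasDerivedCategory.standard
open KZero

namespace Groth.Agent.S1052

open Groth.Agent.Lib.H90OXModExact

/-- The class of coherent modules. -/
abbrev cohP (X : Scheme.{u}) : ObjectProperty X.Modules := fun M => Coh.IsCoh M

theorem isCoh_of_iso {X : Scheme.{u}} {M N : X.Modules} (e : M ≅ N) (hM : Coh.IsCoh M) :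
    Coh.IsCoh N := by
  have hq : M.IsQuasicoherent := hM.1
  have hN : N.IsQuasicoherent :=
    (SheafOfModules.isQuasicoherent X.ringCatSheaf).prop_of_iso e hq
  exact isCoh_of_epi e.hom hM hN

instance (X : Scheme.{u}) : (cohP X).IsClosedUnderIsomorphisms := ⟨fun e h => isCoh_of_iso e h⟩

instance (X : Scheme.{u}) [IsLocallyNoetherian X] : (cohP X).IsClosedUnderKernels where
  kernels_le := by
    rintro Z ⟨f, k, hk, ⟨hX, hY⟩⟩
    rename_i X₁ X₂
    haveI : X₂.IsQuasicoherent := hY.1
    exact isCoh_of_iso (IsLimit.conePointUniqueUpToIso (kernelIsKernel f) hk) (isCoh_kernel f hX)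

instance (X : Scheme.{u}) [IsLocallyNoetherian X] : (cohP X).ContainsZero := by
  have h := Groth.Agent.Lib.Hartogs.isCoh_structureModule X
  haveI : (Coh.structureModule X).IsQuasicoherent := h.1
  refine ⟨⟨kernel (𝟙 (Coh.structureModule X)), ?_, isCoh_kernel _ h⟩⟩
  exact IsZero.of_mono_eq_zero (kernel.ι (𝟙 (Coh.structureModule X)))
    (by simpa using kernel.condition (𝟙 (Coh.structureModule X)))

/-- Let X be a Noetherian scheme. There is an isomorphism between K₀(Coh(O_X)) (free abelian group on
coherent O_X-modules modulo short exact sequences of coherent modules) and K₀(D^b_Coh(O_X)) (free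
abelian group on bounded objects of D(O_X) with coherent cohomology modulo distinguished triangles
among them) which sends the class of a coherent module F to the class of F placed in degree 0. -/
theorem result (X : Scheme.{u}) [IsNoetherian X] :
    ∃ φ : KZero.K0sub (fun M : X.Modules => Coh.IsCoh M) ≃+
        KZero.K0tr (fun K : DCoh.D X => DCoh.IsCohD K ∧ ∃ a b : ℤ, K.IsGE a ∧ K.IsLE b),
      ∀ F : X.Modules, Coh.IsCoh F →
        φ (KZero.clSub (fun M : X.Modules => Coh.IsCoh M) F) =
          KZero.clTr (fun K : DCoh.D X => DCoh.IsCohD K ∧ ∃ a b : ℤ, K.IsGE a ∧ K.IsLE b) (DCoh.inD X F) := by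
  exact Groth.Agent.Lib.H43K0Db.exists_addEquiv (C := X.Modules) (cohP X)

end Groth.Agent.S1052
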