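import Groth.Statements.S9056
import Groth.Agent.Lib.BifunctorCone66
import Groth.Agent.Lib.ConeAcyclic66

set_option autoImplicit false
universe u
open CategoryTheory CategoryTheory.Limits Opposite
attribute [local instance] HasDerivedCategory.standard
open ModSite

namespace Groth.Agent.S9056

/-- On a ringed site (C, O), in a distinguished triangle of K(Mod(O)), if two of the three complexes are
K-flat then so is the third. Distinguished triangles are represented here by mapping cones: for a
morphism φ : K₁ → K₂ of complexes of O-modules with mapping cone C(φ), each of the three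
two-out-of-three implications among K₁, K₂, C(φ) holds. -/
theorem result
    {C : Type u} [SmallCategory C] {J : GrothendieckTopology C} (O : Sheaf J CommRingCat.{u})
    {K₁ K₂ : CochainComplex (ModSite.Mod O) ℤ} (φ : K₁ ⟶ K₂) :
    (ModSite.IsKFlat K₁ → ModSite.IsKFlat K₂ → ModSite.IsKFlat (CochainComplex.mappingCone φ)) ∧
    (ModSite.IsKFlat K₁ → ModSite.IsKFlat (CochainComplex.mappingCone φ) → ModSite.IsKFlat K₂) ∧
    (ModSite.IsKFlat K₂ → ModSite.IsKFlat (CochainComplex.mappingCone φ) → ModSite.IsKFlat K₁) := by
  have key : ∀ F : CochainComplex (ModSite.Mod O) ℤ, ∀ i : ℤ,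
      IsZero ((((ModSite.tensorCx O).obj F).obj (CochainComplex.mappingCone φ)).homology i) ↔
      IsZero ((CochainComplex.mappingCone (HomologicalComplex.mapBifunctorMap (𝟙 F) φ
        (ModSite.tensorBi O) (ComplexShape.up ℤ))).homology i) := fun F i =>
    (Iso.isZero_iff ((HomologicalComplex.homologyFunctor _ _ i).mapIso
      (Groth.Agent.Lib.BifunctorCone66.coneIso₂ (ModSite.tensorBi O) F φ)))
  refine ⟨fun h1 h2 F hF i => ?_, fun h1 h3 F hF i => ?_, fun h2 h3 F hF i => ?_⟩
  · rw [key]
    exact Groth.Agent.Lib.ConeAcyclic66.isZero_homology_cone _ (h1 F hF) (h2 F hF) i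
  · exact Groth.Agent.Lib.ConeAcyclic66.isZero_homology_tgt
      (HomologicalComplex.mapBifunctorMap (𝟙 F) φ (ModSite.tensorBi O) (ComplexShape.up ℤ))
      (h1 F hF) (fun j => (key F j).1 (h3 F hF j)) i
  · exact Groth.Agent.Lib.ConeAcyclic66.isZero_homology_src
      (HomologicalComplex.mapBifunctorMap (𝟙 F) φ (ModSite.tensorBi O) (ComplexShape.up ℤ))
      (h2 F hF) (fun j => (key F j).1 (h3 F hF j)) i

end Groth.Agent.S9056
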