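import Groth.Statements.S13699
import Groth.Agent.Lib.KerBC23
import Groth.Agent.Lib.PolLawGen23
import Mathlib.RingTheory.Localization.Away.Basic
import Mathlib.Algebra.Polynomial.AlgebraMap

set_option autoImplicit false
universe u
open scoped TensorProduct
open ZeroCyc

namespace Groth.Agent.S13699

open Groth.Agent.Lib.PolLaw23 Groth.Agent.Lib.KerBC23 Groth.Agent.Lib.PolLawExt23

section

variable {A : Type u} [CommRing A] {B : Type u} [CommRing B] [Algebra A B]
    (F : B →ₚₗ[A] A)

/-- `X` is a non-zero-divisor modulo the kernel of the base change to `A[X]`. -/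
theorem mem_kerBC_of_X_mul (b'' : Polynomial A ⊗[A] B)
    (h : ((Polynomial.X : Polynomial A) ⊗ₜ[A] (1 : B)) * b'' ∈ PolLaw.kerBC F (Polynomial A)) :
    b'' ∈ PolLaw.kerBC F (Polynomial A) := by
  rw [mem_kerBC_iff] at h ⊢
  intro R _ _ φ x w
  set r : R := φ Polynomial.X with hr
  set R₁ := Polynomial R with hR₁
  set ρ : R₁ := Polynomial.C r + Polynomial.X with hρ
  set φ₁ : Polynomial A →ₐ[A] R₁ := Polynomial.aeval ρ with hφ₁
  set R₂ := Localization.Away ρ with hR₂
  set j : R₁ →ₐ[A] R₂ := IsScalarTower.toAlgHom A R₁ R₂ with hj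
  set ev0 : R₁ →ₐ[A] R := (Polynomial.aeval (0 : R)).restrictScalars A with hev0
  set ι : R →ₐ[A] R₁ := IsScalarTower.toAlgHom A R R₁ with hι
  have hev0φ : ev0.comp φ₁ = φ := by
    apply Polynomial.algHom_ext
    rw [AlgHom.comp_apply, hφ₁, Polynomial.aeval_X, hρ]
    show Polynomial.aeval (0 : R) (Polynomial.C r + Polynomial.X) = _
    simp [hr]
  have hev0ι : ev0.comp ι = AlgHom.id A R := by
    ext a
    show Polynomial.aeval (0 : R) (Polynomial.C a) = a
    simp
  -- the identity over `R₂`
  have hunit : IsUnit (j ρ) := IsLocalization.Away.algebraMap_isUnit ρ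
  obtain ⟨v, hv⟩ := hunit.exists_left_inv
  have h2 : ∀ x₁ w₁ : R₁ ⊗[A] B, F.toFun' R₁ (x₁ + w₁ * bc φ₁ b'') = F.toFun' R₁ x₁ := by
    intro x₁ w₁
    have h3 := h R₂ (j.comp φ₁) (j.toLinearMap.rTensor B x₁)
      (j.toLinearMap.rTensor B w₁ * (v ⊗ₜ[A] (1 : B)))
    rw [map_mul, bc_tmul, AlgHom.comp_apply, hφ₁, Polynomial.aeval_X] at h3
    have h4 : j.toLinearMap.rTensor B w₁ * (v ⊗ₜ[A] (1 : B)) * ((j ρ) ⊗ₜ[A] (1 : B) * bc (j.comp φ₁) b'') =
        j.toLinearMap.rTensor B (w₁ * bc φ₁ b'') := by
      rw [PolLaw.rTensor_algHom_apply, PolLaw.rTensor_algHom_apply, map_mul, ← PolLaw.rTensor_algHom_apply,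
        ← PolLaw.rTensor_algHom_apply, bc_comp, mul_assoc, ← mul_assoc (v ⊗ₜ[A] (1 : B)),
        Algebra.TensorProduct.tmul_mul_tmul, hv, mul_one, ← Algebra.TensorProduct.one_def, one_mul]
    rw [h4, ← map_add, ← PolynomialLaw.isCompat_apply', ← PolynomialLaw.isCompat_apply'] at h3
    have hjinj : Function.Injective j := by
      have : Function.Injective (algebraMap R₁ R₂) := by
        apply IsLocalization.injective R₂ (M := Submonoid.powers ρ)
        rw [Submonoid.powers_le]
        rw [hρ, add_comm]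
        exact (Polynomial.monic_X_add_C r).mem_nonZeroDivisors
      exact this
    have hinj : Function.Injective (j.toLinearMap.rTensor A) := by
      intro y y' hyy'
      have e : ∀ y : R₁ ⊗[A] A, TensorProduct.rid A R₂ (j.toLinearMap.rTensor A y) =
          j (TensorProduct.rid A R₁ y) := by
        intro y
        induction y using TensorProduct.induction_on with
        | zero => simp
        | tmul p a => simp
        | add a b ha hb => simp only [map_add, ha, hb]
      have := congrArg (TensorProduct.rid A R₂) hyy'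
      rw [e, e] at this
      exact (TensorProduct.rid A R₁).injective (hjinj this)
    exact hinj h3
  have h5 := h2 (ι.toLinearMap.rTensor B x) (ι.toLinearMap.rTensor B w)
  have h6 := congrArg (ev0.toLinearMap.rTensor A) h5
  rw [PolynomialLaw.isCompat_apply', PolynomialLaw.isCompat_apply'] at h6
  rw [PolLaw.rTensor_algHom_apply, map_add, map_mul, ← PolLaw.rTensor_algHom_apply,
    ← PolLaw.rTensor_algHom_apply, ← PolLaw.rTensor_algHom_apply, bc_comp, hev0φ, ← rTensor_comp_apply',
    ← rTensor_comp_apply', hev0ι] at h6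
  simpa using h6


theorem coeffs_mem_ker : ∀ (n : ℕ) (b : ℕ → B),
    (∑ k ∈ Finset.range n, (Polynomial.X ^ k : Polynomial A) ⊗ₜ[A] b k) ∈ PolLaw.kerBC F (Polynomial A) →
    ∀ k < n, b k ∈ PolLaw.ker F := by
  intro n
  induction n with
  | zero => intro b _ k hk; omega
  | succ n ih =>
    intro b hb
    rw [Finset.sum_range_succ', pow_zero] at hb
    have h0 : b 0 ∈ PolLaw.ker F := by
      rw [mem_ker_iff]
      intro S _ _ x w
      have h1 := (mem_kerBC_iff F (Polynomial A) _).1 hb S (Polynomial.aeval (0 : S)) x w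
      rw [map_add, map_sum, bc_tmul, map_one] at h1
      rw [Finset.sum_eq_zero] at h1
      · rw [zero_add] at h1
        exact h1
      · intro k _
        rw [bc_tmul, map_pow, Polynomial.aeval_X, pow_succ, mul_zero, TensorProduct.zero_tmul]
    have h1 : ((1 : Polynomial A) ⊗ₜ[A] b 0 : Polynomial A ⊗[A] B) ∈ PolLaw.kerBC F (Polynomial A) := by
      apply map_ker_le_kerBC F (Polynomial A)
      exact Ideal.mem_map_of_mem _ h0
    have h2 : ((Polynomial.X : Polynomial A) ⊗ₜ[A] (1 : B)) *
        (∑ k ∈ Finset.range n, (Polynomial.X ^ k : Polynomial A) ⊗ₜ[A] b (k + 1)) ∈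
          PolLaw.kerBC F (Polynomial A) := by
      have h3 := Ideal.sub_mem _ hb h1
      rw [add_sub_cancel_right] at h3
      convert h3 using 1
      rw [Finset.mul_sum]
      refine Finset.sum_congr rfl fun k _ => ?_
      rw [Algebra.TensorProduct.tmul_mul_tmul, one_mul, pow_succ, mul_comm]
    have h4 := ih (fun k => b (k + 1)) (mem_kerBC_of_X_mul F _ h2)
    intro k hk
    rcases Nat.eq_zero_or_eq_succ_pred k with h | h
    · rw [h]; exact h0
    · rw [h]
      exact h4 (k - 1) (by omega)

theorem exists_repr (b' : Polynomial A ⊗[A] B) :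
    ∃ (n : ℕ) (b : ℕ → B), (∀ k, n ≤ k → b k = 0) ∧
      b' = ∑ k ∈ Finset.range n, (Polynomial.X ^ k : Polynomial A) ⊗ₜ[A] b k := by
  induction b' using TensorProduct.induction_on with
  | zero => exact ⟨0, fun _ => 0, fun _ _ => rfl, by simp⟩
  | tmul p y =>
    refine ⟨p.natDegree + 1, fun k => p.coeff k • y, fun k hk => ?_, ?_⟩
    · show p.coeff k • y = 0
      rw [Polynomial.coeff_eq_zero_of_natDegree_lt (by omega), zero_smul]
    · conv_lhs => rw [Polynomial.as_sum_range_C_mul_X_pow p]
      rw [TensorProduct.sum_tmul]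
      refine Finset.sum_congr rfl fun k _ => ?_
      rw [← Polynomial.smul_eq_C_mul, TensorProduct.smul_tmul]
  | add x y hx hy =>
    obtain ⟨n, b, hb, rfl⟩ := hx
    obtain ⟨n', b2, hb2, rfl⟩ := hy
    refine ⟨max n n', fun k => b k + b2 k, fun k hk => ?_, ?_⟩
    · show b k + b2 k = 0
      rw [hb k (le_trans (le_max_left _ _) hk), hb2 k (le_trans (le_max_right _ _) hk), add_zero]
    · have e1 : ∑ k ∈ Finset.range n, (Polynomial.X ^ k : Polynomial A) ⊗ₜ[A] b k =
          ∑ k ∈ Finset.range (max n n'), (Polynomial.X ^ k : Polynomial A) ⊗ₜ[A] b k := by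
        apply Finset.sum_subset (Finset.range_subset_range.2 (le_max_left _ _))
        intro k _ hk
        rw [hb k (by simpa using hk), TensorProduct.tmul_zero]
      have e2 : ∑ k ∈ Finset.range n', (Polynomial.X ^ k : Polynomial A) ⊗ₜ[A] b2 k =
          ∑ k ∈ Finset.range (max n n'), (Polynomial.X ^ k : Polynomial A) ⊗ₜ[A] b2 k := by
        apply Finset.sum_subset (Finset.range_subset_range.2 (le_max_right _ _))
        intro k _ hk
        rw [hb2 k (by simpa using hk), TensorProduct.tmul_zero]
      rw [e1, e2, ← Finset.sum_add_distrib]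
      refine Finset.sum_congr rfl fun k _ => ?_
      rw [TensorProduct.tmul_add]

end

/-- Let F : B → A be a multiplicative polynomial law homogeneous of degree d over the commutative ring
A. Then the kernel of the base change of F to the polynomial ring A[X] is the ideal of A[X] ⊗_A B
generated by the kernel of F. -/
theorem result {A : Type u} [CommRing A] {B : Type u} [CommRing B] [Algebra A B]
    {d : ℕ} (F : PolLaw.MulLaw A B A d) :
    (PolLaw.ker F.law).map (Algebra.TensorProduct.includeRight : B →ₐ[A] Polynomial A ⊗[A] B) =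
      PolLaw.kerBC F.law (Polynomial A) := by
  apply le_antisymm (Groth.Agent.Lib.KerBC23.map_ker_le_kerBC F.law (Polynomial A))
  intro b' hb'
  obtain ⟨n, b, -, rfl⟩ := Groth.Agent.S13699.exists_repr b'
  have h := Groth.Agent.S13699.coeffs_mem_ker F.law n b hb'
  refine Submodule.sum_mem _ fun k hk => ?_
  have h1 : ((Polynomial.X ^ k : Polynomial A) ⊗ₜ[A] b k : Polynomial A ⊗[A] B) =
      ((Polynomial.X ^ k : Polynomial A) ⊗ₜ[A] (1 : B)) *
        (Algebra.TensorProduct.includeRight : B →ₐ[A] Polynomial A ⊗[A] B) (b k) := by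
    rw [Algebra.TensorProduct.includeRight_apply, Algebra.TensorProduct.tmul_mul_tmul, mul_one, one_mul]
  rw [h1]
  exact Ideal.mul_mem_left _ _ (Ideal.mem_map_of_mem _ (h k (Finset.mem_range.1 hk)))

end Groth.Agent.S13699
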