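import Groth.Statements.S3291

set_option autoImplicit false
universe u
open Finset
open LambdaRing

namespace Groth.Agent.S3291

theorem gamma_one' {K : Type u} [CommRing K] [LambdaRing.LambdaOps K] (x : K) :
    LambdaRing.gamma 1 x = x := by
  simp [LambdaRing.gamma, Finset.sum_range_succ, LambdaRing.LambdaOps.lam_one]

theorem smul_mem {K : Type u} [CommRing K] [LambdaRing.LambdaOps K] (P : LambdaRing.PosStructure K)
    (n : ℕ) (a x : K) (hx : x ∈ LambdaRing.gammaFiltration P n) :
    a * x ∈ LambdaRing.gammaFiltration P n := by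
  unfold LambdaRing.gammaFiltration at hx ⊢
  split_ifs at hx ⊢ with hn
  · trivial
  · induction hx using AddSubgroup.closure_induction generalizing a with
    | mem x hx =>
      obtain ⟨l, hl, hsum, rfl⟩ := hx
      have h1 : a * (l.map fun p => LambdaRing.gamma p.1 p.2).prod =
          (a - ((P.aug a : ℤ) : K)) * (l.map fun p => LambdaRing.gamma p.1 p.2).prod +
            (P.aug a) • (l.map fun p => LambdaRing.gamma p.1 p.2).prod := by
        rw [zsmul_eq_mul]; ring
      rw [h1]
      have hmem : (l.map fun p => LambdaRing.gamma p.1 p.2).prod ∈ AddSubgroup.closure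
          {y | ∃ (l : List (ℕ × K)), (∀ p ∈ l, P.aug p.2 = 0) ∧ n ≤ (l.map Prod.fst).sum ∧
            y = (l.map fun p => LambdaRing.gamma p.1 p.2).prod} :=
        AddSubgroup.subset_closure ⟨l, hl, hsum, rfl⟩
      refine add_mem (AddSubgroup.subset_closure ?_) (AddSubgroup.zsmul_mem _ hmem _)
      refine ⟨(1, a - ((P.aug a : ℤ) : K)) :: l, ?_, ?_, ?_⟩
      · intro p hp
        rcases List.mem_cons.mp hp with rfl | hp
        · simp
        · exact hl p hp
      · simp only [List.map_cons, List.sum_cons]
        omega
      · simp [gamma_one']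
    | zero => simp
    | add x y _ _ hx hy => rw [mul_add]; exact add_mem (hx a) (hy a)
    | neg x _ hx => rw [mul_neg]; exact neg_mem (hx a)

theorem result (K : Type u) [CommRing K] [LambdaRing.LambdaOps K] (P : LambdaRing.PosStructure K) :
    (∀ (n : ℕ) (a x : K), x ∈ LambdaRing.gammaFiltration P n → a * x ∈ LambdaRing.gammaFiltration P n) ∧
    ∀ (m n : ℕ) (x y : K), x ∈ LambdaRing.gammaFiltration P m → y ∈ LambdaRing.gammaFiltration P n →
      x * y ∈ LambdaRing.gammaFiltration P (m + n) := by
  refine ⟨smul_mem P, ?_⟩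
  intro m n x y hx hy
  rcases Nat.eq_zero_or_pos m with rfl | hm
  · rw [zero_add]; exact smul_mem P n x y hy
  rcases Nat.eq_zero_or_pos n with rfl | hn
  · rw [add_zero, mul_comm]; exact smul_mem P m y x hx
  have hm' : m ≠ 0 := by omega
  have hn' : n ≠ 0 := by omega
  have hmn : m + n ≠ 0 := by omega
  unfold LambdaRing.gammaFiltration at hx hy ⊢
  rw [if_neg hm'] at hx
  rw [if_neg hn'] at hy
  rw [if_neg hmn]
  induction hx using AddSubgroup.closure_induction with
  | mem x hx =>
    induction hy using AddSubgroup.closure_induction with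
    | mem y hy =>
      obtain ⟨l₁, hl₁, hs₁, rfl⟩ := hx
      obtain ⟨l₂, hl₂, hs₂, rfl⟩ := hy
      refine AddSubgroup.subset_closure ⟨l₁ ++ l₂, ?_, ?_, ?_⟩
      · intro p hp
        rcases List.mem_append.mp hp with hp | hp
        · exact hl₁ p hp
        · exact hl₂ p hp
      · simp only [List.map_append, List.sum_append]
        omega
      · simp [List.map_append, List.prod_append]
    | zero => simp
    | add y z _ _ hy hz => rw [mul_add]; exact add_mem hy hz
    | neg y _ hy => rw [mul_neg]; exact neg_mem hy
  | zero => simp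
  | add x z _ _ hx hz => rw [add_mul]; exact add_mem hx hz
  | neg x _ hx => rw [neg_mul]; exact neg_mem hx

end Groth.Agent.S3291
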