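import Groth.Statements.S3792
import Groth.Agent.Lib.LambdaGamma6
import Mathlib.Algebra.Ring.GeomSum

set_option autoImplicit false
universe v u
open CategoryTheory CategoryTheory.Limits AlgebraicGeometry
attribute [local instance] HasDerivedCategory.standard
open KRR

namespace Groth.Agent.S3792

open LambdaRing Groth.Agent.Lib.LambdaRing Groth.Agent.Lib.LambdaGamma6

section

variable {K : Type v} [CommRing K] [LambdaRing.LambdaOps K]

lemma lamSeries_sum {ι : Type*} (s : Finset ι) (f : ι → K) :
    lamSeries (∑ i ∈ s, f i) = ∏ i ∈ s, lamSeries (f i) := by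
  classical
  induction s using Finset.induction_on with
  | empty => simp [lamSeries_zero]
  | insert k s hk ih => rw [Finset.sum_insert hk, Finset.prod_insert hk, lamSeries_add, ih]

/-- `λ^k` of a sum of line elements is the elementary symmetric polynomial. -/
lemma lam_sum_lines (P : PosStructure K) {m : ℕ} (u : Fin m → K) (hu : ∀ i, P.IsLine (u i))
    (k : ℕ) :
    LambdaOps.lam k (∑ i, u i) = MvPolynomial.aeval u (MvPolynomial.esymm (Fin m) ℤ k) := by
  classical
  rw [← coeff_lamSeries, lamSeries_sum]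
  have h1 : ∀ i ∈ (Finset.univ : Finset (Fin m)), lamSeries (u i) =
      1 + PowerSeries.C (u i) * PowerSeries.X :=
    fun i _ => lamSeries_of_isLine P (hu i)
  rw [Finset.prod_congr rfl h1, Finset.prod_one_add, map_sum]
  have h2 : ∀ t ∈ (Finset.univ : Finset (Fin m)).powerset,
      PowerSeries.coeff k (∏ i ∈ t, PowerSeries.C (u i) * (PowerSeries.X : PowerSeries K)) =
        if t.card = k then ∏ i ∈ t, u i else 0 := by
    intro t _
    rw [Finset.prod_mul_distrib, Finset.prod_const, ← map_prod, PowerSeries.coeff_C_mul,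
      PowerSeries.coeff_X_pow]
    split_ifs with h1 h2 h2
    · rw [mul_one]
    · exact absurd h1.symm h2
    · exact absurd h2.symm h1
    · rw [mul_zero]
  rw [Finset.sum_congr rfl h2, ← Finset.sum_filter, ← Finset.powersetCard_eq_filter,
    MvPolynomial.esymm, map_sum]
  refine Finset.sum_congr rfl fun t _ => ?_
  rw [map_prod]
  refine Finset.prod_congr rfl fun i _ => ?_
  rw [MvPolynomial.aeval_X]

omit [LambdaRing.LambdaOps K] in
/-- `Σ (-1)^k e_k(u) = Π (1 - u_i)`. -/
lemma alt_sum_esymm {m : ℕ} (u : Fin m → K) :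
    ∑ k ∈ Finset.range (m + 1),
      (-1 : K) ^ k * MvPolynomial.aeval u (MvPolynomial.esymm (Fin m) ℤ k) = ∏ i, (1 - u i) := by
  classical
  have h0 : ∏ i, (1 - u i) = ∏ i, (1 + -u i) := by simp [sub_eq_add_neg]
  rw [h0, Finset.prod_one_add, Finset.sum_powerset]
  rw [Finset.card_univ, Fintype.card_fin]
  refine Finset.sum_congr rfl fun k _ => ?_
  rw [MvPolynomial.esymm, map_sum, Finset.mul_sum]
  refine Finset.sum_congr rfl fun t ht => ?_
  rw [map_prod, Finset.prod_neg, (Finset.mem_powersetCard.1 ht).2]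
  congr 1
  refine Finset.prod_congr rfl fun i _ => ?_
  rw [MvPolynomial.aeval_X]

lemma E_bottPoly (j m : ℕ) : E ℤ m (bottPoly j m) = bottSym j m := by
  rw [E_eq, bottPoly]
  have := (MvPolynomial.esymmAlgEquiv (Fin m) ℤ (Fintype.card_fin m)).apply_symm_apply
    ⟨bottSym j m, bottSym_isSymmetric j m⟩
  rw [MvPolynomial.esymmAlgEquiv_apply] at this
  rw [this]

/-- In the split ring. -/
lemma split_identity (P : PosStructure K) (hK : HasSplitting K P) {m : ℕ} (u : Fin m → K)
    (hu : ∀ i, P.IsLine (u i)) (j : ℕ) :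
    adams P j (∑ k ∈ Finset.range (m + 1), (-1 : K) ^ k * LambdaOps.lam k (∑ i, u i)) =
      (∑ k ∈ Finset.range (m + 1), (-1 : K) ^ k * LambdaOps.lam k (∑ i, u i)) *
        MvPolynomial.aeval (fun i : Fin m => LambdaOps.lam (i.1 + 1) (∑ i, u i)) (bottPoly j m) := by
  have h1 : ∑ k ∈ Finset.range (m + 1), (-1 : K) ^ k * LambdaOps.lam k (∑ i, u i) =
      ∏ i, (1 - u i) := by
    rw [← alt_sum_esymm]
    refine Finset.sum_congr rfl fun k _ => ?_
    rw [lam_sum_lines P u hu]
  have h2 : MvPolynomial.aeval (fun i : Fin m => LambdaOps.lam (i.1 + 1) (∑ i, u i))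
      (bottPoly j m) = ∏ i, ∑ k ∈ Finset.range j, u i ^ k := by
    have : (fun i : Fin m => LambdaOps.lam (i.1 + 1) (∑ i, u i)) =
        fun i : Fin m => MvPolynomial.aeval u (MvPolynomial.esymm (Fin m) ℤ (i.1 + 1)) := by
      funext i
      exact lam_sum_lines P u hu _
    rw [this, ← MvPolynomial.comp_aeval, AlgHom.comp_apply]
    change MvPolynomial.aeval u (E ℤ m (bottPoly j m)) = _
    rw [E_bottPoly, bottSym, map_prod]
    refine Finset.prod_congr rfl fun i _ => ?_
    rw [map_sum]
    refine Finset.sum_congr rfl fun k _ => ?_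
    rw [map_pow, MvPolynomial.aeval_X]
  rw [h1, h2, ← Finset.prod_mul_distrib]
  have h3 : adams P j (∏ i, (1 - u i)) = ∏ i, adams P j (1 - u i) :=
    map_prod (adamsRingHom P hK j) _ _
  rw [h3]
  refine Finset.prod_congr rfl fun i _ => ?_
  rw [adams_sub, adams_one, adams_of_isLine P (hu i), mul_neg_geom_sum]

end

/-- Let K be a λ-ring with positive structure having the splitting property, e a positive element and j
≥ 1. Then ψ^j(λ_{-1}(e)) = λ_{-1}(e) · θ^j(e), where λ_{-1}(e) = Σ_{i ≤ ε(e)} (-1)^i λ^i(e), ψ^j is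
the Adams operation and θ^j(e) is Bott's cannibalistic class (the universal polynomial in the λ^i(e)
which is Π (1 + u_i + ⋯ + u_i^{j-1}) on a splitting e = Σ u_i). -/
theorem result (K : Type v) [CommRing K] [LambdaRing.LambdaOps K] (P : LambdaRing.PosStructure K) (hK : LambdaRing.HasSplitting K P) (e : K) (he : e ∈ P.pos) (j : ℕ) (hj : 1 ≤ j) :
    LambdaRing.adams P j (KRR.lamAlt P e) = KRR.lamAlt P e * KRR.bott P j e := by
  obtain ⟨C, hC, hsplit⟩ := hK
  obtain ⟨L', hL', f, hf, s, hs, hsum⟩ := hsplit ⟨K, P⟩ hC e he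
  have hL : LambdaRing.HasSplitting L'.carrier L'.posStr := ⟨C, hL', hsplit⟩
  obtain ⟨l, rfl⟩ := Quot.exists_rep s
  change ∀ u ∈ (l : Multiset L'.carrier), L'.posStr.IsLine u at hs
  change (l : Multiset L'.carrier).sum = f e at hsum
  rw [Multiset.sum_coe] at hsum
  obtain ⟨m, hm⟩ : ∃ m, m = l.length := ⟨_, rfl⟩
  subst hm
  set u : Fin l.length → L'.carrier := fun i => l.get i with hu_def
  have hu : ∀ i, L'.posStr.IsLine (u i) := fun i => hs _ (by
    rw [Multiset.mem_coe]; exact List.get_mem l i)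
  have hsum' : ∑ i, u i = f e := by
    rw [← hsum, ← List.sum_ofFn, hu_def, List.ofFn_get]
  have haug : P.aug e = (l.length : ℤ) := by
    rw [← hf.aug_comp, ← hsum', map_sum]
    simp only [(hu _).2, Finset.sum_const, Finset.card_univ, Fintype.card_fin, nsmul_eq_mul,
      mul_one]
  have htoNat : (P.aug e).toNat = l.length := by rw [haug, Int.toNat_natCast]
  apply hf.injective
  have key := split_identity L'.posStr hL u hu j
  rw [hsum'] at key
  have h1 : f (KRR.lamAlt P e) =
      ∑ k ∈ Finset.range (l.length + 1), (-1 : L'.carrier) ^ k * LambdaRing.LambdaOps.lam k (f e) := by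
    rw [KRR.lamAlt, htoNat, map_sum]
    refine Finset.sum_congr rfl fun k _ => ?_
    rw [map_mul, map_pow, map_neg, map_one, hf.isLambdaHom]
  have h2 : f (KRR.bott P j e) =
      MvPolynomial.aeval (fun i : Fin l.length => LambdaRing.LambdaOps.lam (i.1 + 1) (f e))
        (KRR.bottPoly j l.length) := by
    rw [KRR.bott]
    rw [htoNat]
    have : f (MvPolynomial.aeval (fun i : Fin l.length => LambdaRing.LambdaOps.lam (i.1 + 1) e)
        (KRR.bottPoly j l.length)) =
        (f.toIntAlgHom.comp (MvPolynomial.aeval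
          (fun i : Fin l.length => LambdaRing.LambdaOps.lam (i.1 + 1) e)))
          (KRR.bottPoly j l.length) := rfl
    rw [this, MvPolynomial.comp_aeval]
    congr 2
    funext i
    exact hf.isLambdaHom _ _
  rw [Groth.Agent.Lib.LambdaRing.isExtension_map_adams hf, map_mul, h1, h2]
  exact key

end Groth.Agent.S3792
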