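import Groth.Statements.S8691
import Groth.Agent.Lib.SpecialLam6d

set_option autoImplicit false
universe u
open Finset
open LambdaRing

namespace Groth.Agent.S8691

open MvPolynomial Groth.Agent.Lib.SpecialLam6d

/-- Let K be a λ-ring in the strict sense, d a natural number and N ∈ K with λ^i(N) = 0 for every i > d;
put λ_{−1}(N) = Σ_{i=0}^{d} (−1)^i λ^i(N). Then for every p ≥ 1 and every x ∈ K the element λ^p(x ·
λ_{−1}(N)) is divisible by λ_{−1}(N). (The published statement is for the λ-ring generated over the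
integers by N and x subject to λ^i(N) = 0 for i > d, a polynomial ring; the divisibility passes to
any λ-ring along the λ-homomorphism sending the generators to N and x, which is the substituted form
stated here.) The hypotheses hP and hQ, existence of the universal polynomials, are true statements
carried so that the identities of K can be used at every index. -/
theorem result (K : Type u) [CommRing K] [LambdaRing.LambdaOps K]
    (hK : LambdaRing.IsSpecial K)
    (hP : ∀ n : ℕ, ∃ P : MvPolynomial (Fin n ⊕ Fin n) ℤ, LambdaRing.IsMulPoly n P)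
    (hQ : ∀ i j : ℕ, ∃ Q : MvPolynomial (Fin (i * j)) ℤ, LambdaRing.IsCompPoly i j Q)
    (d : ℕ) (N : K) (hN : ∀ i : ℕ, d < i → LambdaRing.LambdaOps.lam i N = 0)
    (p : ℕ) (hp : 1 ≤ p) (x : K) :
    (∑ i ∈ range (d + 1), (-1 : K) ^ i * LambdaRing.LambdaOps.lam i N) ∣
      LambdaRing.LambdaOps.lam p (x * ∑ i ∈ range (d + 1), (-1 : K) ^ i * LambdaRing.LambdaOps.lam i N) := by
  set z := ∑ i ∈ range (d + 1), (-1 : K) ^ i * LambdaRing.LambdaOps.lam i N with hz
  obtain ⟨P, hP'⟩ := hP p
  rw [hK.lam_mul p P hP' x z]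
  set f : Fin p ⊕ Fin p → K := Sum.elim (fun k : Fin p => LambdaOps.lam ((k : ℕ) + 1) x)
    (fun k : Fin p => LambdaOps.lam ((k : ℕ) + 1) z) with hf
  have hsum : aeval f P = ∑ m ∈ P.support, aeval f (monomial m (coeff m P)) := by
    conv_lhs => rw [P.as_sum]
    rw [map_sum]
  rw [hsum]
  refine Finset.dvd_sum fun m hm => ?_
  rw [aeval_monomial]
  refine Dvd.dvd.mul_left ?_ _
  have hw := hP'.2 (mem_support_iff.1 hm)
  obtain ⟨k, hk⟩ : ∃ k : Fin p, m (Sum.inr k) ≠ 0 := by
    by_contra hcon
    push Not at hcon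
    have h2 := congrArg Prod.snd hw
    rw [Finsupp.weight_apply, Finsupp.sum, Prod.snd_sum] at h2
    have h3 : ∑ v ∈ m.support, (m v • Sum.elim (fun k : Fin p => (((k : ℕ) + 1, 0) : ℕ × ℕ))
        (fun k : Fin p => ((0, (k : ℕ) + 1) : ℕ × ℕ)) v).2 = 0 := by
      refine Finset.sum_eq_zero fun v _ => ?_
      rcases v with a | a
      · simp
      · simp [hcon a]
    rw [h3] at h2
    simp only at h2
    omega
  have h1 : f (Sum.inr k) ^ m (Sum.inr k) ∣ m.prod (fun v e => f v ^ e) :=
    Finset.dvd_prod_of_mem _ (Finsupp.mem_support_iff.2 hk)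
  have h4 : z ∣ f (Sum.inr k) := lamAlt_dvd_lam hK d N hN ((k : ℕ) + 1) (by omega)
  exact dvd_trans (dvd_trans h4 (dvd_pow_self _ hk)) h1

end Groth.Agent.S8691
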