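import Groth.Statements.S8687
import Groth.Agent.Lib.SpecialLam6

set_option autoImplicit false
universe u
open LambdaRing

namespace Groth.Agent.S8687

open MvPolynomial Finset Groth.Agent.Lib.MulPoly6 Groth.Agent.Lib.SpecialLam6

section Universal

variable (N : ℕ)

/-- the sequence `1, X_1, …, X_N, 0, …` -/
noncomputable def ξ : ℕ → MvPolynomial (Fin N ⊕ Fin N) ℤ
  | 0 => 1
  | (j + 1) => if h : j < N then X (Sum.inl ⟨j, h⟩) else 0

/-- the sequence `1, Y_1, …, Y_N, 0, …` -/
noncomputable def η : ℕ → MvPolynomial (Fin N ⊕ Fin N) ℤ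
  | 0 => 1
  | (j + 1) => if h : j < N then X (Sum.inr ⟨j, h⟩) else 0

/-- the stable universal polynomial `P_i` (for `i ≤ N`) -/
noncomputable def Pst (i : ℕ) (h : i ≤ N) : MvPolynomial (Fin i ⊕ Fin i) ℤ :=
  Classical.choose (exists_isMulPoly_stable h)

lemma Pst_isMulPoly (i : ℕ) (h : i ≤ N) : LambdaRing.IsMulPoly i (Pst N i h) :=
  (Classical.choose_spec (exists_isMulPoly_stable h)).1

lemma Φ_ι_Pst (i : ℕ) (h : i ≤ N) : Φ N (ι h (Pst N i h)) = LambdaRing.mulGen N i :=
  (Classical.choose_spec (exists_isMulPoly_stable h)).2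

/-- the sequence `P_0, P_1, …, P_N, 0, …` at level `N` -/
noncomputable def π (i : ℕ) : MvPolynomial (Fin N ⊕ Fin N) ℤ :=
  if h : i ≤ N then ι h (Pst N i h) else 0

lemma Φ_ξ (i : ℕ) (hi : i ≤ N) : Φ N (ξ N i) = rename Sum.inl (esymm (Fin N) ℤ i) := by
  rcases i with _ | j
  · rw [ξ, map_one, esymm_zero, map_one]
  · rw [ξ, dif_pos (by omega), Φ, aeval_X, Sum.elim_inl]

lemma Φ_η (i : ℕ) (hi : i ≤ N) : Φ N (η N i) = rename Sum.inr (esymm (Fin N) ℤ i) := by
  rcases i with _ | j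
  · rw [η, map_one, esymm_zero, map_one]
  · rw [η, dif_pos (by omega), Φ, aeval_X, Sum.elim_inr]

lemma Φ_π (i : ℕ) (hi : i ≤ N) : Φ N (π N i) = LambdaRing.mulGen N i := by
  rw [π, dif_pos hi, Φ_ι_Pst]

/-- the power sum of the products `T_a U_b` -/
lemma aeval_mulGen_newton (m : ℕ) :
    aeval (fun i => LambdaRing.mulGen N i) (newton (m + 1)) =
      ∑ ab : Fin N × Fin N,
        (X (Sum.inl ab.1) * X (Sum.inr ab.2) : MvPolynomial (Fin N ⊕ Fin N) ℤ) ^ (m + 1) := by
  classical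
  let θ : MvPolynomial (Fin N × Fin N) ℤ →ₐ[ℤ] MvPolynomial (Fin N ⊕ Fin N) ℤ :=
    aeval (fun ab : Fin N × Fin N =>
      (X (Sum.inl ab.1) * X (Sum.inr ab.2) : MvPolynomial (Fin N ⊕ Fin N) ℤ))
  have h1 : ∀ i, θ (esymm (Fin N × Fin N) ℤ i) = LambdaRing.mulGen N i := by
    intro i
    rw [mulGen_eq, esymm, map_sum]
    refine Finset.sum_congr rfl fun t _ => ?_
    rw [map_prod]
    refine Finset.prod_congr rfl fun ab _ => ?_
    exact aeval_X _ _
  have h2 : (fun i => LambdaRing.mulGen N i) = fun i => θ (esymm (Fin N × Fin N) ℤ i) := by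
    funext i; exact (h1 i).symm
  rw [h2, ← comp_aeval, AlgHom.comp_apply, ← psum_eq_aeval_newton, psum, map_sum]
  refine Finset.sum_congr rfl fun ab _ => ?_
  rw [map_pow]
  congr 1
  exact aeval_X _ _

lemma aeval_inl_newton (m : ℕ) :
    aeval (fun i => (rename Sum.inl (esymm (Fin N) ℤ i) : MvPolynomial (Fin N ⊕ Fin N) ℤ))
        (newton (m + 1)) =
      ∑ a : Fin N, (X (Sum.inl a) : MvPolynomial (Fin N ⊕ Fin N) ℤ) ^ (m + 1) := by
  classical
  rw [← comp_aeval, AlgHom.comp_apply, ← psum_eq_aeval_newton, psum, map_sum]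
  refine Finset.sum_congr rfl fun a _ => ?_
  rw [map_pow, rename_X]

lemma aeval_inr_newton (m : ℕ) :
    aeval (fun i => (rename Sum.inr (esymm (Fin N) ℤ i) : MvPolynomial (Fin N ⊕ Fin N) ℤ))
        (newton (m + 1)) =
      ∑ a : Fin N, (X (Sum.inr a) : MvPolynomial (Fin N ⊕ Fin N) ℤ) ^ (m + 1) := by
  classical
  rw [← comp_aeval, AlgHom.comp_apply, ← psum_eq_aeval_newton, psum, map_sum]
  refine Finset.sum_congr rfl fun a _ => ?_
  rw [map_pow, rename_X]

/-- the universal identity `ν_k(P_1, …, P_k) = ν_k(X) ν_k(Y)` at level `N ≥ k`. -/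
theorem universal_identity (m : ℕ) (hm : m + 1 ≤ N) :
    aeval (π N) (newton (m + 1)) = aeval (ξ N) (newton (m + 1)) * aeval (η N) (newton (m + 1)) := by
  apply Φ_injective N
  rw [map_mul]
  have e1 : Φ N (aeval (π N) (newton (m + 1))) =
      aeval (fun i => Φ N (π N i)) (newton (m + 1)) := by
    rw [← AlgHom.comp_apply, comp_aeval]
  have e2 : Φ N (aeval (ξ N) (newton (m + 1))) =
      aeval (fun i => Φ N (ξ N i)) (newton (m + 1)) := by
    rw [← AlgHom.comp_apply, comp_aeval]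
  have e3 : Φ N (aeval (η N) (newton (m + 1))) =
      aeval (fun i => Φ N (η N i)) (newton (m + 1)) := by
    rw [← AlgHom.comp_apply, comp_aeval]
  have c1 : aeval (fun i => Φ N (π N i)) (newton (m + 1)) =
      aeval (fun i => LambdaRing.mulGen N i) (newton (m + 1)) :=
    newton_congr _ _ (m + 1) (fun i hi => Φ_π N i (by omega))
  have c2 : aeval (fun i => Φ N (ξ N i)) (newton (m + 1)) =
      aeval (fun i => (rename Sum.inl (esymm (Fin N) ℤ i) : MvPolynomial (Fin N ⊕ Fin N) ℤ))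
        (newton (m + 1)) :=
    newton_congr _ _ (m + 1) (fun i hi => Φ_ξ N i (by omega))
  have c3 : aeval (fun i => Φ N (η N i)) (newton (m + 1)) =
      aeval (fun i => (rename Sum.inr (esymm (Fin N) ℤ i) : MvPolynomial (Fin N ⊕ Fin N) ℤ))
        (newton (m + 1)) :=
    newton_congr _ _ (m + 1) (fun i hi => Φ_η N i (by omega))
  rw [e1, e2, e3, c1, c2, c3,
    aeval_mulGen_newton, aeval_inl_newton, aeval_inr_newton, Fintype.sum_prod_type,
    Finset.sum_mul_sum]
  refine Finset.sum_congr rfl fun a _ => Finset.sum_congr rfl fun b _ => ?_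
  rw [mul_pow]

end Universal

/-- Let K be a λ-ring in the strict sense (λ_t(1) = 1 + t and the identities λ^n(xy) = P_n(λ^1 x, …; λ^1
y, …), λ^j(λ^i x) = Q_{i,j}(λ^1 x, …) for the universal polynomials). Then for every k ≥ 1 the Adams
operation ψ^k is multiplicative: ψ^k(xy) = ψ^k(x) ψ^k(y). The hypothesis hP, that a universal
polynomial P_n exists for every n, is a true statement carried here so that the product identities
of K can be used at every n. -/
theorem result (K : Type u) [CommRing K] [LambdaRing.LambdaOps K]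
    (hK : LambdaRing.IsSpecial K)
    (hP : ∀ n : ℕ, ∃ P : MvPolynomial (Fin n ⊕ Fin n) ℤ, LambdaRing.IsMulPoly n P)
    (k : ℕ) (hk : 1 ≤ k) (x y : K) :
    LambdaRing.adamsOp k (x * y) = LambdaRing.adamsOp k x * LambdaRing.adamsOp k y := by
  obtain ⟨m, rfl⟩ : ∃ m, k = m + 1 := ⟨k - 1, by omega⟩
  set N := m + 1 with hN
  let ev : MvPolynomial (Fin N ⊕ Fin N) ℤ →ₐ[ℤ] K :=
    aeval (Sum.elim (fun a : Fin N => LambdaRing.LambdaOps.lam ((a : ℕ) + 1) x)
      (fun b : Fin N => LambdaRing.LambdaOps.lam ((b : ℕ) + 1) y))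
  have hξ : ∀ i, i ≤ N → ev (ξ N i) = LambdaRing.LambdaOps.lam i x := by
    intro i hi
    rcases i with _ | j
    · rw [ξ, map_one, LambdaRing.LambdaOps.lam_zero]
    · rw [ξ, dif_pos (by omega)]
      exact aeval_X _ _
  have hη : ∀ i, i ≤ N → ev (η N i) = LambdaRing.LambdaOps.lam i y := by
    intro i hi
    rcases i with _ | j
    · rw [η, map_one, LambdaRing.LambdaOps.lam_zero]
    · rw [η, dif_pos (by omega)]
      exact aeval_X _ _
  have hπ : ∀ i, i ≤ N → ev (π N i) = LambdaRing.LambdaOps.lam i (x * y) := by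
    intro i hi
    rw [π, dif_pos hi, hK.lam_mul i (Pst N i hi) (Pst_isMulPoly N i hi) x y]
    change aeval _ (rename _ (Pst N i hi)) = _
    rw [aeval_rename]
    congr 2
    funext v
    rcases v with a | a <;> rfl
  rw [adamsOp_eq_aeval_newton, adamsOp_eq_aeval_newton, adamsOp_eq_aeval_newton,
    ← newton_congr (fun i => ev (π N i)) _ (m + 1) (fun i hi => hπ i (by omega)),
    ← newton_congr (fun i => ev (ξ N i)) _ (m + 1) (fun i hi => hξ i (by omega)),
    ← newton_congr (fun i => ev (η N i)) _ (m + 1) (fun i hi => hη i (by omega)),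
    ← comp_aeval, ← comp_aeval, ← comp_aeval, AlgHom.comp_apply, AlgHom.comp_apply,
    AlgHom.comp_apply, universal_identity N m (by omega), map_mul]

end Groth.Agent.S8687
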