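import Groth.Statements.S8699
import Groth.Agent.Lib.SpecialLam6c

set_option autoImplicit false
universe u
open LambdaRing

namespace Groth.Agent.S8699

open Finset MvPolynomial Groth.Agent.Lib.SpecialLam6 Groth.Agent.Lib.SpecialLam6b
  Groth.Agent.Lib.SpecialLam6c

section

variable {K : Type u} [CommRing K] [BinomialRing K]

lemma alt_sum_choose (x : K) (m : ℕ) :
    ∑ ab ∈ antidiagonal m, (-1 : K) ^ ab.1 * Ring.choose x ab.2 = Ring.choose (x - 1) m := by
  induction m with
  | zero => simp
  | succ m ih =>
    rw [Finset.Nat.antidiagonal_succ, Finset.sum_cons, Finset.sum_map]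
    have h1 : ∑ ab ∈ antidiagonal m,
        (-1 : K) ^ ((Function.Embedding.prodMap ⟨Nat.succ, Nat.succ_injective⟩
          (Function.Embedding.refl ℕ)) ab).1 *
          Ring.choose x ((Function.Embedding.prodMap ⟨Nat.succ, Nat.succ_injective⟩
          (Function.Embedding.refl ℕ)) ab).2 = - Ring.choose (x - 1) m := by
      rw [← ih, ← Finset.sum_neg_distrib]
      refine Finset.sum_congr rfl fun ab _ => ?_
      simp only [Function.Embedding.coe_prodMap, Function.Embedding.coeFn_mk, Prod.map_fst,
        Nat.succ_eq_add_one, Function.Embedding.refl_apply, Prod.map_snd]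
      ring
    rw [h1]
    have h2 := Ring.choose_succ_succ (x - 1) m
    rw [sub_add_cancel] at h2
    rw [pow_zero, one_mul, h2]
    ring

lemma succ_mul_choose (x : K) (m : ℕ) :
    ((m + 1 : ℕ) : K) * Ring.choose x (m + 1) = x * Ring.choose (x - 1) m := by
  have h := Ring.choose_smul_choose x (n := m + 1) (k := 1) (by omega)
  rw [Nat.choose_one_right, Ring.choose_one_right, Nat.add_sub_cancel, nsmul_eq_mul,
    Nat.cast_one] at h
  exact h

end

/-- A binomial ring K (no additive torsion and all binomial coefficients C(x, n) defined) with its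
binomial λ-structure λ^n(x) = C(x, n), i.e. λ_t(x) = (1 + t)^x, is a λ-ring in the strict sense:
λ_t(1) = 1 + t, λ^n(xy) = P_n(λ^1 x, …; λ^1 y, …) and λ^j(λ^i x) = Q_{i,j}(λ^1 x, …) for the
universal polynomials. In particular the integers with λ^n(m) = C(m, n) form a λ-ring. -/
theorem result (K : Type u) [CommRing K] [LambdaRing.LambdaOps K] [BinomialRing K]
    (hKb : LambdaRing.IsBinomial K) : LambdaRing.IsSpecial K := by
  have hψ : ∀ k, 1 ≤ k → ∀ x : K, adamsOp k x = x := by
    intro k hk x
    obtain ⟨m, rfl⟩ : ∃ m, k = m + 1 := ⟨k - 1, by omega⟩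
    rw [adamsOp_eq_aeval_newton]
    refine (newton_spec (fun i => LambdaOps.lam i x) (fun _ => x) (LambdaOps.lam_zero x) ?_ m).symm
    intro m'
    rw [hKb, succ_mul_choose, ← alt_sum_choose, Finset.mul_sum]
    refine Finset.sum_congr rfl fun ab _ => ?_
    rw [hKb]
    ring
  refine isSpecial_of_adams ?_ (fun k hk => hψ k hk 1)
    (fun k hk x y => by rw [hψ k hk, hψ k hk, hψ k hk])
    (fun k k' hk hk' x => by rw [hψ k' hk', hψ k hk, hψ (k * k') (Nat.mul_pos hk hk')])
  intro n x hn hx
  have := BinomialRing.toIsAddTorsionFree (R := K)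
  rw [← nsmul_eq_mul] at hx
  exact nsmul_right_injective hn.ne' (by simpa using hx)

end Groth.Agent.S8699
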