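import Groth.Statements.S4763

set_option autoImplicit false
universe u
open CategoryTheory AlgebraicGeometry
open Lim8

namespace Groth.Agent.S4763

theorem isDominant_π_of_forall {I : Type u} [SmallCategory I] [IsCofiltered I]
    (D : I ⥤ Scheme.{u}) (c : Limits.Cone D) (hc : Limits.IsLimit c)
    [∀ (i j : I) (f : i ⟶ j), IsAffineHom (D.map f)] (i : I)
    (h : ∀ (j : I) (φ : j ⟶ i), IsDominant (D.map φ)) : IsDominant (c.π.app i) := by
  have hA : ∀ {i j : I} (f : i ⟶ j), IsAffineHom (D.map f) := fun f => inferInstance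
  constructor
  rw [DenseRange, dense_iff_inter_open]
  intro V hV hVne
  obtain ⟨x, hx⟩ := hVne
  obtain ⟨_, ⟨W, hW : IsAffineOpen W, rfl⟩, hxW, hWV⟩ :=
    (D.obj i).isBasis_affineOpens.exists_subset_of_mem_open hx hV
  have hne : ∀ j : Over i, Nonempty ((opensDiagram D i W).obj j) := by
    intro j
    have := h j.left j.hom
    have hd := (D.map j.hom).denseRange
    rw [DenseRange, dense_iff_inter_open] at hd
    obtain ⟨_, hy1, ⟨y, rfl⟩⟩ := hd W W.2 ⟨x, hxW⟩
    exact ⟨⟨y, hy1⟩⟩
  have haff : ∀ j : Over i, IsAffine ((opensDiagram D i W).obj j) := by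
    intro j
    have h0 : IsAffineHom (D.map j.hom) := hA j.hom
    exact hW.preimage (D.map j.hom)
  have hcpt : ∀ j : Over i, CompactSpace ((opensDiagram D i W).obj j) := fun j => inferInstance
  have hne' : Nonempty (opensCone D c i W).pt :=
    Scheme.nonempty_of_isLimit (opensDiagram D i W) (opensCone D c i W) (isLimitOpensCone D c hc i W)
  obtain ⟨⟨z, hz⟩⟩ := hne'
  exact ⟨c.π.app i z, hWV hz, ⟨z, rfl⟩⟩

/-- Let S = lim S_i be a cofiltered limit of schemes with affine transition maps and let i be an index.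
The canonical projection S ⟶ S_i is dominant if and only if every transition map S_j ⟶ S_i is
dominant. -/
theorem result {I : Type u} [SmallCategory I] [IsCofiltered I]
    (D : I ⥤ Scheme.{u}) (c : Limits.Cone D) (hc : Limits.IsLimit c)
    [∀ (i j : I) (f : i ⟶ j), IsAffineHom (D.map f)] (i : I) :
    IsDominant (c.π.app i) ↔ ∀ (j : I) (φ : j ⟶ i), IsDominant (D.map φ) := by
  constructor
  · intro h j φ
    have e : c.π.app j ≫ D.map φ = c.π.app i := c.w φ
    rw [← e] at h
    exact IsDominant.of_comp (c.π.app j) (D.map φ)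
  · exact isDominant_π_of_forall D c hc i

end Groth.Agent.S4763
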