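import Groth.Statements.S3398
import Groth.Agent.Lib.ConsTop

set_option autoImplicit false
open CategoryTheory AlgebraicGeometry
universe u
open EGA41

namespace Groth.Agent.S3398

open Topology Groth.Agent.Lib.ConsTop in
/-- Local claim: around each point of the preimage of the affine open `U` there is an open on which
the image of `E'` avoids `z` constructibly. -/
theorem local_claim {X' X : Scheme.{u}} (f : X' ⟶ X)
    (E' : Set X') (hE' : ProCons.IsProConstructible E') (U : X.Opens) (hU : IsAffineOpen U)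
    (z : ↥(U : Set X)) (hz : z.1 ∉ f.base '' E') (x' : X') (hx' : x' ∈ f ⁻¹ᵁ U) :
    ∃ W' : X'.Opens, x' ∈ W' ∧ ∃ C : Set ↥(U : Set X), IsConstructible C ∧ z ∉ C ∧
      ∀ w ∈ W', w ∈ E' → ∀ h : f.base w ∈ U, (⟨f.base w, h⟩ : ↥(U : Set X)) ∈ C := by
  obtain ⟨U', hU'open, hx'U', S', hS', hES'⟩ := hE' x'
  obtain ⟨W', hW', hx'W', hW'le⟩ := exists_isAffineOpen_mem_and_subset
    (U := (⟨U', hU'open⟩ : X'.Opens) ⊓ f ⁻¹ᵁ U) (x := x') ⟨hx'U', hx'⟩
  have e : W' ≤ f ⁻¹ᵁ U := fun w hw => (hW'le hw).2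
  have eU' : (W' : Set X') ⊆ U' := fun w hw => (hW'le hw).1
  let g : W'.toScheme ⟶ U.toScheme := f.resLE U W' e
  have : IsAffine W'.toScheme := hW'
  have : IsAffine U.toScheme := hU
  let ι : W'.toScheme → ↥U' := Set.inclusion eU'
  have hι : IsOpenEmbedding ι :=
    IsOpenEmbedding.inclusion eU' (W'.2.preimage continuous_subtype_val)
  let S'' : Set (Set W'.toScheme) := (fun T => ι ⁻¹' T) '' S'
  have hS'' : ∀ T ∈ S'', IsConstructible T := by
    rintro _ ⟨T, hT, rfl⟩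
    exact ((hS' T hT).preimage_of_isOpenEmbedding hι).isConstructible
  have hzim : (z : U.toScheme) ∉ g.base '' ⋂₀ S'' := by
    rintro ⟨w, hw, hgw⟩
    apply hz
    refine ⟨w.1, ?_, ?_⟩
    · have : ι w ∈ (Subtype.val ⁻¹' E' : Set ↥U') := by
        rw [hES']
        intro T hT
        exact hw (ι ⁻¹' T) ⟨T, hT, rfl⟩
      exact this
    · rw [← hgw]
      exact (Scheme.Hom.coe_resLE_apply f e w).symm
  obtain ⟨C, hC, hCim, hzC⟩ := exists_isConstructible_of_notMem_image (W := W'.toScheme)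
    (U := U.toScheme) g.base (fun C hC => g.isConstructible_preimage hC) S'' hS'' z hzim
  refine ⟨W', hx'W', C, hC, hzC, ?_⟩
  intro w hwW' hwE' h
  apply hCim
  refine ⟨⟨w, hwW'⟩, ?_, ?_⟩
  · rintro _ ⟨T, hT, rfl⟩
    have : (⟨w, eU' hwW'⟩ : ↥U') ∈ (Subtype.val ⁻¹' E' : Set ↥U') := hwE'
    rw [hES'] at this
    exact this T hT
  · apply Subtype.ext
    exact Scheme.Hom.coe_resLE_apply f e ⟨w, hwW'⟩

open Topology in
/-- Let f : X' ⟶ X be a quasi-compact morphism of schemes and E' a pro-constructible subset of X'. Then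
f(E') is pro-constructible in X; in particular f(X') is pro-constructible. -/
theorem result {X' X : Scheme.{u}} (f : X' ⟶ X) [QuasiCompact f]
    (E' : Set X') (hE' : ProCons.IsProConstructible E') :
    ProCons.IsProConstructible (f.base '' E') := by
  intro x
  obtain ⟨U, hU, hxU, -⟩ := exists_isAffineOpen_mem_and_subset (U := ⊤) (x := x) (by simp)
  refine ⟨(U : Set X), U.2, hxU,
    {T | IsLocallyConstructible T ∧ (Subtype.val ⁻¹' (f.base '' E') : Set ↥(U : Set X)) ⊆ T},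
    fun T hT => hT.1, ?_⟩
  apply Set.Subset.antisymm
  · intro z hz T hT
    exact hT.2 hz
  · intro z hz
    by_contra hzE
    have hzE' : z.1 ∉ f.base '' E' := hzE
    have hcomp : IsCompact ((f ⁻¹ᵁ U : X'.Opens) : Set X') :=
      QuasiCompact.isCompact_preimage (f := f) _ U.2 hU.isCompact
    choose W' hxW' C hC hzC hWC using local_claim f E' hE' U hU z hzE'
    obtain ⟨t, ht⟩ := hcomp.elim_finite_subcover
      (fun i : ↥((f ⁻¹ᵁ U : X'.Opens) : Set X') => ((W' i.1 i.2 : X'.Opens) : Set X'))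
      (fun i => (W' i.1 i.2).2) (fun w hw => Set.mem_iUnion.mpr ⟨⟨w, hw⟩, hxW' w hw⟩)
    have hCt : IsConstructible (⋃ i ∈ t, C i.1 i.2) :=
      IsConstructible.biUnion t.finite_toSet (fun i _ => hC i.1 i.2)
    have hmem := hz (⋃ i ∈ t, C i.1 i.2) ⟨hCt.isLocallyConstructible, ?_⟩
    · simp only [Set.mem_iUnion] at hmem
      obtain ⟨i, -, hi⟩ := hmem
      exact hzC i.1 i.2 hi
    · rintro ⟨y, hyU⟩ ⟨w, hwE', rfl⟩
      have hw : w ∈ ((f ⁻¹ᵁ U : X'.Opens) : Set X') := hyU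
      obtain ⟨i, hi, hwi⟩ := Set.mem_iUnion₂.mp (ht hw)
      exact Set.mem_iUnion₂.mpr ⟨i, hi, hWC i.1 i.2 w hwi hwE' hyU⟩

end Groth.Agent.S3398
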