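import Groth.Statements.S12139
import Groth.Agent.S8281
import Groth.Agent.Lib.H60AwayMapEq
import Groth.Agent.Lib.ImmersionGlue
import Groth.Agent.Lib.ProjQMap
import Groth.Agent.Lib.ProjQMapOn

set_option autoImplicit false
universe u
open CategoryTheory CategoryTheory.Limits AlgebraicGeometry TopologicalSpace Opposite
open scoped HomogeneousIdeal
noncomputable section
open EGA2

namespace Groth.Agent.S12139

open Groth.Agent.Lib.H60AwayMapEq Groth.Agent.Lib.ProjQMap Groth.Agent.Lib.ProjQMapOn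
open HomogeneousLocalization

section Alg

variable {A σ : Type u} [CommRing A] [SetLike σ A] [AddSubgroupClass σ A] {𝒜 : ℕ → σ}
  [GradedRing 𝒜]

/-- `awayι` for propositionally equal elements. -/
lemma awayι_eq {i : ℕ} (hi : 0 < i) (s t : A) (h : s = t) (hs : s ∈ 𝒜 i) (ht : t ∈ 𝒜 i) :
    Spec.map (CommRingCat.ofHom (awayMapEq (GradedRingHom.id 𝒜) s t h)) ≫ Proj.awayι 𝒜 s hs hi =
      Proj.awayι 𝒜 t ht hi := by
  subst h
  have : awayMapEq (GradedRingHom.id 𝒜) s s rfl = RingHom.id _ :=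
    awayMapEq_eq_id _ (fun _ ↦ rfl) s rfl
  rw [this]
  have hid : CommRingCat.ofHom (RingHom.id (Away 𝒜 s)) = 𝟙 _ := rfl
  rw [hid, Spec.map_id, Category.id_comp]

end Alg

section Aux

variable {Y Y' P P' : Scheme.{u}} (g : Y' ⟶ Y)
  (𝒮 : RelProj.QCGrAlg Y) (𝒮' : RelProj.QCGrAlg Y') (u : RelProj.QGrHom g 𝒮 𝒮')
  (p : P ⟶ Y)
  (chart : ∀ (U : Y.Opens) (hU : IsAffineOpen U),
    (((p ⁻¹ᵁ U : P.Opens) : Scheme.{u}) ≅ Proj (𝒮.deg U hU)))
  (hP : RelProj.IsRelProj 𝒮 p chart)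
  (p' : P' ⟶ Y')
  (chart' : ∀ (U : Y'.Opens) (hU : IsAffineOpen U),
    (((p' ⁻¹ᵁ U : P'.Opens) : Scheme.{u}) ≅ Proj (𝒮'.deg U hU)))
  (hP' : RelProj.IsRelProj 𝒮' p' chart')

section Defs

variable (U : Y.Opens) (hU : IsAffineOpen U) (U' : Y'.Opens) (hU' : IsAffineOpen U')
  (hle : U' ≤ g ⁻¹ᵁ U) {d : ℕ} (hd : 0 < d) (f : 𝒮.presheaf.obj (op U)) (hf : f ∈ 𝒮.deg U hU d)

/-- The standard chart lifted into `G(u)`. -/
def liftQ : Spec (CommRingCat.of (Away (𝒮'.deg U' hU') (u.gradedAt U hU U' hU' hle f))) ⟶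
    ((RelProj.domQ u p' chart' : P'.Opens) : Scheme.{u}) :=
  IsOpenImmersion.lift (RelProj.domQ u p' chart').ι
    (RelProj.awayEmb u p' chart' U hU U' hU' hle hd f hf)
    (RelProj.range_awayEmb_subset_domQ u p' chart' U hU U' hU' hle hd f hf)

lemma liftQ_ι : liftQ g 𝒮 𝒮' u p' chart' U hU U' hU' hle hd f hf ≫ (RelProj.domQ u p' chart').ι =
    Proj.awayι (𝒮'.deg U' hU') (u.gradedAt U hU U' hU' hle f)
      ((u.gradedAt U hU U' hU' hle).map_mem hf) hd ≫ RelProj.emb p' chart' U' hU' :=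
  IsOpenImmersion.lift_fac _ _ _

instance : IsOpenImmersion (liftQ g 𝒮 𝒮' u p' chart' U hU U' hU' hle hd f hf) := by
  have : IsOpenImmersion (liftQ g 𝒮 𝒮' u p' chart' U hU U' hU' hle hd f hf ≫
      (RelProj.domQ u p' chart').ι) := by
    rw [liftQ_ι]; infer_instance
  exact IsOpenImmersion.of_comp _ (RelProj.domQ u p' chart').ι

/-- The chart morphism `Spec 𝒮'(U')_(u f) ⟶ P`. -/
def gchart : Spec (CommRingCat.of (Away (𝒮'.deg U' hU') (u.gradedAt U hU U' hU' hle f))) ⟶ P :=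
  Spec.map (CommRingCat.ofHom (Away.map (u.gradedAt U hU U' hU' hle) f)) ≫
    Proj.awayι (𝒮.deg U hU) f hf hd ≫ RelProj.emb p chart U hU

end Defs

section Nat

variable (U : Y.Opens) (hU : IsAffineOpen U)

/-- source restriction: `res' ∘ u_{U,U'} = u_{U,W'}`. -/
lemma gradedAt_resS (U' W' : Y'.Opens) (hU' : IsAffineOpen U') (hW' : IsAffineOpen W')
    (hle : U' ≤ g ⁻¹ᵁ U) (i : W' ≤ U') (a : 𝒮.presheaf.obj (op U)) :
    𝒮'.res hU' hW' i (u.gradedAt U hU U' hU' hle a) =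
      u.gradedAt U hU W' hW' (i.trans hle) a :=
  congrArg (fun t ↦ t.hom a) (u.toQHom.appLE_map hle i)

/-- target restriction: `u_{W,W'} ∘ res = u_{U,W'}`. -/
lemma gradedAt_resT (W : Y.Opens) (hW : IsAffineOpen W) (i : W ≤ U) (W' : Y'.Opens)
    (hW' : IsAffineOpen W') (hle : W' ≤ g ⁻¹ᵁ W) (a : 𝒮.presheaf.obj (op U)) :
    u.gradedAt W hW W' hW' hle (𝒮.res hU hW i a) =
      u.gradedAt U hU W' hW' (hle.trans (g.preimage_mono i)) a :=
  congrArg (fun t ↦ t.hom a) (u.toQHom.map_appLE i hle)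

end Nat

section StepS

variable (U : Y.Opens) (hU : IsAffineOpen U) (U' : Y'.Opens) (hU' : IsAffineOpen U')
  (hle : U' ≤ g ⁻¹ᵁ U) {d : ℕ} (hd : 0 < d) (f : 𝒮.presheaf.obj (op U)) (hf : f ∈ 𝒮.deg U hU d)
  (r' : Γ(Y', U'))

/-- Refinement: restrict the source affine open to a basic open. -/
def stepS : Spec (CommRingCat.of (Away (𝒮'.deg (Y'.basicOpen r') (hU'.basicOpen r'))
      (u.gradedAt U hU (Y'.basicOpen r') (hU'.basicOpen r') ((Y'.basicOpen_le r').trans hle) f))) ⟶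
    Spec (CommRingCat.of (Away (𝒮'.deg U' hU') (u.gradedAt U hU U' hU' hle f))) :=
  Spec.map (CommRingCat.ofHom (awayMapEq (𝒮'.res hU' (hU'.basicOpen r') (Y'.basicOpen_le r'))
    (u.gradedAt U hU U' hU' hle f)
    (u.gradedAt U hU (Y'.basicOpen r') (hU'.basicOpen r') ((Y'.basicOpen_le r').trans hle) f)
    (gradedAt_resS g 𝒮 𝒮' u U hU U' _ hU' (hU'.basicOpen r') hle (Y'.basicOpen_le r') f)))

include hP' in
lemma stepS_liftQ :
    stepS g 𝒮 𝒮' u U hU U' hU' hle f r' ≫ liftQ g 𝒮 𝒮' u p' chart' U hU U' hU' hle hd f hf =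
      liftQ g 𝒮 𝒮' u p' chart' U hU (Y'.basicOpen r') (hU'.basicOpen r')
        ((Y'.basicOpen_le r').trans hle) hd f hf := by
  rw [← cancel_mono (RelProj.domQ u p' chart').ι, Category.assoc, liftQ_ι, liftQ_ι]
  rw [← RelProj.map_res_emb hP' U' hU' r']
  unfold stepS
  rw [← Category.assoc, ← Category.assoc]
  congr 1
  exact (awayι_comp_map_eq (𝒮'.res hU' (hU'.basicOpen r') (Y'.basicOpen_le r'))
    (𝒮'.irrelevant_le_map U' hU' r') hd _ ((u.gradedAt U hU U' hU' hle).map_mem hf) _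
    (gradedAt_resS g 𝒮 𝒮' u U hU U' _ hU' (hU'.basicOpen r') hle (Y'.basicOpen_le r') f) _).symm

lemma stepS_gchart :
    stepS g 𝒮 𝒮' u U hU U' hU' hle f r' ≫ gchart g 𝒮 𝒮' u p chart U hU U' hU' hle hd f hf =
      gchart g 𝒮 𝒮' u p chart U hU (Y'.basicOpen r') (hU'.basicOpen r')
        ((Y'.basicOpen_le r').trans hle) hd f hf := by
  unfold gchart stepS
  rw [← Spec.map_comp_assoc, ← CommRingCat.ofHom_comp]
  congr 3
  rw [← awayMapEq_rfl, ← awayMapEq_rfl, awayMapEq_comp]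
  exact awayMapEq_congr _ _ (fun a ↦ gradedAt_resS g 𝒮 𝒮' u U hU U' _ hU' (hU'.basicOpen r') hle
    (Y'.basicOpen_le r') a) _ _ _

end StepS

section StepT

variable (U : Y.Opens) (hU : IsAffineOpen U) (r : Γ(Y, U)) (W' : Y'.Opens) (hW' : IsAffineOpen W')
  (hle : W' ≤ g ⁻¹ᵁ (Y.basicOpen r)) {d : ℕ} (hd : 0 < d) (f : 𝒮.presheaf.obj (op U))
  (hf : f ∈ 𝒮.deg U hU d)

/-- Refinement: restrict the target affine open to a basic open. -/
def stepT : Spec (CommRingCat.of (Away (𝒮'.deg W' hW')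
      (u.gradedAt (Y.basicOpen r) (hU.basicOpen r) W' hW' hle
        (𝒮.res hU (hU.basicOpen r) (Y.basicOpen_le r) f)))) ⟶
    Spec (CommRingCat.of (Away (𝒮'.deg W' hW')
      (u.gradedAt U hU W' hW' (hle.trans (g.preimage_mono (Y.basicOpen_le r))) f))) :=
  Spec.map (CommRingCat.ofHom (awayMapEq (GradedRingHom.id (𝒮'.deg W' hW'))
    (u.gradedAt U hU W' hW' (hle.trans (g.preimage_mono (Y.basicOpen_le r))) f)
    (u.gradedAt (Y.basicOpen r) (hU.basicOpen r) W' hW' hle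
        (𝒮.res hU (hU.basicOpen r) (Y.basicOpen_le r) f))
    (gradedAt_resT g 𝒮 𝒮' u U hU _ (hU.basicOpen r) (Y.basicOpen_le r) W' hW' hle f).symm))

lemma stepT_liftQ :
    stepT g 𝒮 𝒮' u U hU r W' hW' hle f ≫ liftQ g 𝒮 𝒮' u p' chart' U hU W' hW'
        (hle.trans (g.preimage_mono (Y.basicOpen_le r))) hd f hf =
      liftQ g 𝒮 𝒮' u p' chart' (Y.basicOpen r) (hU.basicOpen r) W' hW' hle hd
        (𝒮.res hU (hU.basicOpen r) (Y.basicOpen_le r) f)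
        ((𝒮.res hU (hU.basicOpen r) (Y.basicOpen_le r)).2 hf) := by
  rw [← cancel_mono (RelProj.domQ u p' chart').ι, Category.assoc, liftQ_ι, liftQ_ι]
  unfold stepT
  rw [← Category.assoc]
  congr 1
  exact awayι_eq hd _ _ _ _ _

include hP in
lemma stepT_gchart :
    stepT g 𝒮 𝒮' u U hU r W' hW' hle f ≫ gchart g 𝒮 𝒮' u p chart U hU W' hW'
        (hle.trans (g.preimage_mono (Y.basicOpen_le r))) hd f hf =
      gchart g 𝒮 𝒮' u p chart (Y.basicOpen r) (hU.basicOpen r) W' hW' hle hd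
        (𝒮.res hU (hU.basicOpen r) (Y.basicOpen_le r) f)
        ((𝒮.res hU (hU.basicOpen r) (Y.basicOpen_le r)).2 hf) := by
  unfold gchart stepT
  rw [← RelProj.map_res_emb hP U hU r,
    Proj.awayι_comp_map_assoc (𝒮.res hU (hU.basicOpen r) (Y.basicOpen_le r))
      (𝒮.irrelevant_le_map U hU r) hd f hf]
  rw [← Spec.map_comp_assoc, ← Spec.map_comp_assoc, ← CommRingCat.ofHom_comp,
    ← CommRingCat.ofHom_comp]
  congr 3
  rw [← awayMapEq_rfl, ← awayMapEq_rfl, ← awayMapEq_rfl, awayMapEq_comp, awayMapEq_comp]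
  exact awayMapEq_congr _ _ (fun a ↦
    (gradedAt_resT g 𝒮 𝒮' u U hU _ (hU.basicOpen r) (Y.basicOpen_le r) W' hW' hle a).symm) _ _ _

end StepT

section StepM

variable (U : Y.Opens) (hU : IsAffineOpen U) (U' : Y'.Opens) (hU' : IsAffineOpen U')
  (hle : U' ≤ g ⁻¹ᵁ U) {d e n : ℕ} (hd : 0 < d) (hn0 : 0 < n)
  (f g' x : 𝒮.presheaf.obj (op U)) (hf : f ∈ 𝒮.deg U hU d) (hg' : g' ∈ 𝒮.deg U hU e)
  (hx : x = f * g') (hn : n = d + e) (hxn : x ∈ 𝒮.deg U hU n)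

/-- Refinement: multiply `f` by `g'`. -/
def stepM : Spec (CommRingCat.of (Away (𝒮'.deg U' hU') (u.gradedAt U hU U' hU' hle x))) ⟶
    Spec (CommRingCat.of (Away (𝒮'.deg U' hU') (u.gradedAt U hU U' hU' hle f))) :=
  Spec.map (CommRingCat.ofHom (awayMap (𝒮'.deg U' hU') ((u.gradedAt U hU U' hU' hle).map_mem hg')
    (show (u.gradedAt U hU U' hU' hle) x =
      (u.gradedAt U hU U' hU' hle) f * (u.gradedAt U hU U' hU' hle) g' by rw [hx, map_mul])))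

include hn in
lemma stepM_liftQ :
    stepM g 𝒮 𝒮' u U hU U' hU' hle f g' x hg' hx ≫
        liftQ g 𝒮 𝒮' u p' chart' U hU U' hU' hle hd f hf =
      liftQ g 𝒮 𝒮' u p' chart' U hU U' hU' hle hn0 x hxn := by
  subst hn
  rw [← cancel_mono (RelProj.domQ u p' chart').ι, Category.assoc, liftQ_ι, liftQ_ι]
  unfold stepM
  rw [← Category.assoc]
  congr 1
  exact Proj.SpecMap_awayMap_awayι (𝒮'.deg U' hU') _ hd _ _

include hn in
lemma stepM_gchart :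
    stepM g 𝒮 𝒮' u U hU U' hU' hle f g' x hg' hx ≫
        gchart g 𝒮 𝒮' u p chart U hU U' hU' hle hd f hf =
      gchart g 𝒮 𝒮' u p chart U hU U' hU' hle hn0 x hxn := by
  subst hn
  unfold gchart stepM
  have h1 := Proj.SpecMap_awayMap_awayι (𝒮.deg U hU) hf hd hg' hx
  have h2 : Proj.awayι (𝒮.deg U hU) x hxn hn0 =
      Spec.map (CommRingCat.ofHom (awayMap (𝒮.deg U hU) hg' hx)) ≫
        Proj.awayι (𝒮.deg U hU) f hf hd := h1.symm
  rw [h2, Category.assoc, ← Spec.map_comp_assoc, ← Spec.map_comp_assoc, ← CommRingCat.ofHom_comp,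
    ← CommRingCat.ofHom_comp]
  congr 3
  exact awayMap_comp_map (u.gradedAt U hU U' hU' hle) hf hg' hx _

end StepM

section Refine

include hP hP' in
/-- Combined refinement of a standard chart. -/
lemma refine_chart (U : Y.Opens) (hU : IsAffineOpen U) (U' : Y'.Opens) (hU' : IsAffineOpen U')
    (hle : U' ≤ g ⁻¹ᵁ U) {d : ℕ} (hd : 0 < d) (f : 𝒮.presheaf.obj (op U)) (hf : f ∈ 𝒮.deg U hU d)
    (W : Y.Opens) (hW : IsAffineOpen W) (r : Γ(Y, U)) (hWr : Y.basicOpen r = W) (hWU : W ≤ U)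
    (W' : Y'.Opens) (hW' : IsAffineOpen W') (r' : Γ(Y', U')) (hW'r : Y'.basicOpen r' = W')
    (hle' : W' ≤ g ⁻¹ᵁ W) {e n : ℕ} (hn0 : 0 < n) (g' x : 𝒮.presheaf.obj (op W))
    (hg' : g' ∈ 𝒮.deg W hW e) (hx : x = 𝒮.res hU hW hWU f * g') (hn : n = d + e)
    (hxn : x ∈ 𝒮.deg W hW n) :
    ∃ a : Spec (CommRingCat.of (Away (𝒮'.deg W' hW') (u.gradedAt W hW W' hW' hle' x))) ⟶
        Spec (CommRingCat.of (Away (𝒮'.deg U' hU') (u.gradedAt U hU U' hU' hle f))),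
      a ≫ liftQ g 𝒮 𝒮' u p' chart' U hU U' hU' hle hd f hf =
          liftQ g 𝒮 𝒮' u p' chart' W hW W' hW' hle' hn0 x hxn ∧
        a ≫ gchart g 𝒮 𝒮' u p chart U hU U' hU' hle hd f hf =
          gchart g 𝒮 𝒮' u p chart W hW W' hW' hle' hn0 x hxn := by
  subst hWr hW'r
  refine ⟨stepM g 𝒮 𝒮' u (Y.basicOpen r) (hU.basicOpen r) (Y'.basicOpen r') (hU'.basicOpen r') hle'
      (𝒮.res hU (hU.basicOpen r) (Y.basicOpen_le r) f) g' x hg' hx ≫
    stepT g 𝒮 𝒮' u U hU r (Y'.basicOpen r') (hU'.basicOpen r') hle' f ≫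
    stepS g 𝒮 𝒮' u U hU U' hU' hle f r', ?_, ?_⟩
  · rw [Category.assoc, Category.assoc, stepS_liftQ g 𝒮 𝒮' u p' chart' hP' U hU U' hU' hle hd f hf r',
      stepT_liftQ g 𝒮 𝒮' u p' chart' U hU r (Y'.basicOpen r') (hU'.basicOpen r') hle' hd f hf]
    exact stepM_liftQ g 𝒮 𝒮' u p' chart' (Y.basicOpen r) (hU.basicOpen r) (Y'.basicOpen r')
      (hU'.basicOpen r') hle' hd hn0 _ g' x ((𝒮.res hU (hU.basicOpen r) (Y.basicOpen_le r)).2 hf)
      hg' hx hn hxn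
  · rw [Category.assoc, Category.assoc, stepS_gchart g 𝒮 𝒮' u p chart U hU U' hU' hle hd f hf r',
      stepT_gchart g 𝒮 𝒮' u p chart hP U hU r (Y'.basicOpen r') (hU'.basicOpen r') hle' hd f hf]
    exact stepM_gchart g 𝒮 𝒮' u p chart (Y.basicOpen r) (hU.basicOpen r) (Y'.basicOpen r')
      (hU'.basicOpen r') hle' hd hn0 _ g' x ((𝒮.res hU (hU.basicOpen r) (Y.basicOpen_le r)).2 hf)
      hg' hx hn hxn

end Refine

section Cover

lemma liftQ_ι_apply (U : Y.Opens) (hU : IsAffineOpen U) (U' : Y'.Opens) (hU' : IsAffineOpen U')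
    (hle : U' ≤ g ⁻¹ᵁ U) {d : ℕ} (hd : 0 < d) (f : 𝒮.presheaf.obj (op U)) (hf : f ∈ 𝒮.deg U hU d)
    (t : Spec (CommRingCat.of (Away (𝒮'.deg U' hU') (u.gradedAt U hU U' hU' hle f)))) :
    (RelProj.domQ u p' chart').ι.base
        ((liftQ g 𝒮 𝒮' u p' chart' U hU U' hU' hle hd f hf).base t) =
      (RelProj.emb p' chart' U' hU').base ((Proj.awayι (𝒮'.deg U' hU')
        (u.gradedAt U hU U' hU' hle f) ((u.gradedAt U hU U' hU' hle).map_mem hf) hd).base t) :=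
  congrArg (fun g ↦ g.base t) (liftQ_ι g 𝒮 𝒮' u p' chart' U hU U' hU' hle hd f hf)

lemma mem_range_liftQ (U : Y.Opens) (hU : IsAffineOpen U) (U' : Y'.Opens) (hU' : IsAffineOpen U')
    (hle : U' ≤ g ⁻¹ᵁ U) {d : ℕ} (hd : 0 < d) (f : 𝒮.presheaf.obj (op U)) (hf : f ∈ 𝒮.deg U hU d)
    (x : ((RelProj.domQ u p' chart' : P'.Opens) : Scheme.{u})) (w : Proj (𝒮'.deg U' hU'))
    (hw : (RelProj.emb p' chart' U' hU').base w = (RelProj.domQ u p' chart').ι.base x)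
    (hwf : (u.gradedAt U hU U' hU' hle) f ∉ w.asHomogeneousIdeal) :
    ∃ t, (liftQ g 𝒮 𝒮' u p' chart' U hU U' hU' hle hd f hf).base t = x := by
  have hwg' : w ∈ (Proj.awayι (𝒮'.deg U' hU') ((u.gradedAt U hU U' hU' hle) f)
      ((u.gradedAt U hU U' hU' hle).map_mem hf) hd).opensRange := by
    rw [Proj.opensRange_awayι]; exact (Proj.mem_basicOpen _ _ _).mpr hwf
  obtain ⟨t, ht⟩ := hwg'
  refine ⟨t, ?_⟩
  apply (RelProj.domQ u p' chart').ι.isOpenEmbedding.injective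
  rw [liftQ_ι_apply]
  exact (congrArg (RelProj.emb p' chart' U' hU').base ht).trans hw

/-- The index type of the standard charts of `G(u)`. -/
structure Idx : Type u where
  /-- an affine open of the base -/
  U : Y.Opens
  hU : IsAffineOpen U
  /-- an affine open over it -/
  U' : Y'.Opens
  hU' : IsAffineOpen U'
  hle : U' ≤ g ⁻¹ᵁ U
  /-- the degree -/
  d : ℕ
  hd : 0 < d
  /-- a homogeneous element of positive degree -/
  f : 𝒮.presheaf.obj (op U)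
  hf : f ∈ 𝒮.deg U hU d

lemma exists_liftQ (x : ((RelProj.domQ u p' chart' : P'.Opens) : Scheme.{u})) :
    ∃ (k : Idx g 𝒮) (t : Spec (CommRingCat.of (Away (𝒮'.deg k.U' k.hU')
        (u.gradedAt k.U k.hU k.U' k.hU' k.hle k.f)))),
      (liftQ g 𝒮 𝒮' u p' chart' k.U k.hU k.U' k.hU' k.hle k.hd k.f k.hf).base t = x := by
  obtain ⟨⟨⟨⟨U, hU⟩, ⟨U', hU'⟩⟩, hle⟩, w, hw, hwx⟩ := Opens.mem_iSup.mp x.2
  have hU₁ : IsAffineOpen U := hU
  have hU₁' : IsAffineOpen U' := hU'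
  have hle₁ : U' ≤ g ⁻¹ᵁ U := hle
  have hw' : w ∈ RelCone.domOpen (u.gradedAt U hU₁ U' hU₁' hle₁) := hw
  obtain ⟨e, he, g₀, hg₀, hwg⟩ :=
    exists_homogeneous_of_mem_domOpen (u.gradedAt U hU₁ U' hU₁' hle₁) w hw'
  obtain ⟨t, ht⟩ := mem_range_liftQ g 𝒮 𝒮' u p' chart' U hU₁ U' hU₁' hle₁ he g₀ hg₀ x w hwx
    ((Proj.mem_basicOpen _ _ _).mp hwg)
  exact ⟨⟨U, hU₁, U', hU₁', hle₁, e, he, g₀, hg₀⟩, t, ht⟩

/-- The cover of `G(u)` by the lifted standard charts. -/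
def cov : Scheme.OpenCover.{u} ((RelProj.domQ u p' chart' : P'.Opens) : Scheme.{u}) where
  I₀ := Idx g 𝒮
  X k := Spec (CommRingCat.of (Away (𝒮'.deg k.U' k.hU') (u.gradedAt k.U k.hU k.U' k.hU' k.hle k.f)))
  f k := liftQ g 𝒮 𝒮' u p' chart' k.U k.hU k.U' k.hU' k.hle k.hd k.f k.hf
  mem₀ := by
    rw [Scheme.presieve₀_mem_precoverage_iff]
    refine ⟨fun x => ?_, fun k => inferInstance⟩
    obtain ⟨k, t, ht⟩ := exists_liftQ g 𝒮 𝒮' u p' chart' x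
    exact ⟨k, t, ht⟩

include hP' in
/-- If a point of the chart `(U, U', f)` lies over a basic open `W'` of `U'` mapping into `W ⊆ U`,
its chart point over `W'` lies in `D₊(u_{W,W'} (f|_W))`. -/
lemma res_notMem (U : Y.Opens) (hU : IsAffineOpen U) (U' : Y'.Opens) (hU' : IsAffineOpen U')
    (hle : U' ≤ g ⁻¹ᵁ U) {d : ℕ} (hd : 0 < d) (f : 𝒮.presheaf.obj (op U)) (hf : f ∈ 𝒮.deg U hU d)
    (t : Spec (CommRingCat.of (Away (𝒮'.deg U' hU') (u.gradedAt U hU U' hU' hle f))))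
    (W : Y.Opens) (hW : IsAffineOpen W) (hWU : W ≤ U)
    (W' : Y'.Opens) (hW' : IsAffineOpen W') (r' : Γ(Y', U')) (hW'r : Y'.basicOpen r' = W')
    (hle' : W' ≤ g ⁻¹ᵁ W) (w : Proj (𝒮'.deg W' hW'))
    (hw : (RelProj.emb p' chart' W' hW').base w = (RelProj.domQ u p' chart').ι.base
      ((liftQ g 𝒮 𝒮' u p' chart' U hU U' hU' hle hd f hf).base t)) :
    (u.gradedAt W hW W' hW' hle') (𝒮.res hU hW hWU f) ∉ w.asHomogeneousIdeal := by
  subst hW'r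
  rw [liftQ_ι_apply] at hw
  have e1 := congrArg (fun g ↦ g.base w) (RelProj.map_res_emb hP' U' hU' r')
  have e1' : (RelProj.emb p' chart' U' hU').base
      ((Proj.map (𝒮'.res hU' (hU'.basicOpen r') (Y'.basicOpen_le r'))
        (𝒮'.irrelevant_le_map U' hU' r')).base w) =
      (RelProj.emb p' chart' (Y'.basicOpen r') (hU'.basicOpen r')).base w := e1
  have e2 := (RelProj.emb p' chart' U' hU').isOpenEmbedding.injective (e1'.trans hw)
  have h3 : (Proj.awayι (𝒮'.deg U' hU') ((u.gradedAt U hU U' hU' hle) f)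
      ((u.gradedAt U hU U' hU' hle).map_mem hf) hd).base t ∈
        Proj.basicOpen (𝒮'.deg U' hU') ((u.gradedAt U hU U' hU' hle) f) :=
    (Proj.opensRange_awayι (𝒮'.deg U' hU') _ _ hd).le ⟨t, rfl⟩
  rw [← e2] at h3
  have h4 : (𝒮'.res hU' (hU'.basicOpen r') (Y'.basicOpen_le r'))
      ((u.gradedAt U hU U' hU' hle) f) ∉ w.asHomogeneousIdeal :=
    (Proj.mem_basicOpen _ _ _).mp h3
  rw [gradedAt_resS g 𝒮 𝒮' u U hU U' _ hU' (hU'.basicOpen r') hle (Y'.basicOpen_le r') f,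
    ← gradedAt_resT g 𝒮 𝒮' u U hU W hW hWU _ (hU'.basicOpen r') hle' f] at h4
  exact h4

include hP hP' in
/-- Compatibility of the chart morphisms on overlaps, checked on a common refinement. -/
lemma compat (k k' : Idx g 𝒮)
    (t : Spec (CommRingCat.of (Away (𝒮'.deg k.U' k.hU')
      (u.gradedAt k.U k.hU k.U' k.hU' k.hle k.f))))
    (t' : Spec (CommRingCat.of (Away (𝒮'.deg k'.U' k'.hU')
      (u.gradedAt k'.U k'.hU k'.U' k'.hU' k'.hle k'.f))))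
    (htt' : (liftQ g 𝒮 𝒮' u p' chart' k.U k.hU k.U' k.hU' k.hle k.hd k.f k.hf).base t =
      (liftQ g 𝒮 𝒮' u p' chart' k'.U k'.hU k'.U' k'.hU' k'.hle k'.hd k'.f k'.hf).base t') :
    ∃ (W : Scheme.{u})
      (a : W ⟶ Spec (CommRingCat.of (Away (𝒮'.deg k.U' k.hU')
        (u.gradedAt k.U k.hU k.U' k.hU' k.hle k.f))))
      (b : W ⟶ Spec (CommRingCat.of (Away (𝒮'.deg k'.U' k'.hU')
        (u.gradedAt k'.U k'.hU k'.U' k'.hU' k'.hle k'.f)))),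
      IsOpenImmersion a ∧ t ∈ Set.range a.base ∧
        a ≫ liftQ g 𝒮 𝒮' u p' chart' k.U k.hU k.U' k.hU' k.hle k.hd k.f k.hf =
          b ≫ liftQ g 𝒮 𝒮' u p' chart' k'.U k'.hU k'.U' k'.hU' k'.hle k'.hd k'.f k'.hf ∧
        a ≫ gchart g 𝒮 𝒮' u p chart k.U k.hU k.U' k.hU' k.hle k.hd k.f k.hf =
          b ≫ gchart g 𝒮 𝒮' u p chart k'.U k'.hU k'.U' k'.hU' k'.hle k'.hd k'.f k'.hf := by
  set ê := (liftQ g 𝒮 𝒮' u p' chart' k.U k.hU k.U' k.hU' k.hle k.hd k.f k.hf).base t with hê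
  set c := (RelProj.domQ u p' chart').ι.base ê with hc
  have hcU : c ∈ p' ⁻¹ᵁ k.U' := by
    rw [hc, hê, liftQ_ι_apply]; exact range_emb_le p' chart' k.U' k.hU' _
  have hcV : c ∈ p' ⁻¹ᵁ k'.U' := by
    rw [hc, htt', liftQ_ι_apply]; exact range_emb_le p' chart' k'.U' k'.hU' _
  have hsU : g.base (p'.base c) ∈ k.U := k.hle hcU
  have hsV : g.base (p'.base c) ∈ k'.U := k'.hle hcV
  obtain ⟨W, hW₁, hW₂, hsW, -⟩ := Groth.Agent.S8281.exists_common_basic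
    (⟨k.U, k.hU⟩ : Y.AffineZariskiSite) ⟨k'.U, k'.hU⟩ ⊤ (g.base (p'.base c)) hsU hsV trivial
  have hsW' : p'.base c ∈ g ⁻¹ᵁ W.1 := hsW
  obtain ⟨W', hW'₁, hW'₂, hcW', hW'W⟩ := Groth.Agent.S8281.exists_common_basic
    (⟨k.U', k.hU'⟩ : Y'.AffineZariskiSite) ⟨k'.U', k'.hU'⟩ (g ⁻¹ᵁ W.1) (p'.base c) hcU hcV hsW'
  obtain ⟨r₁, hr₁⟩ := hW₁
  obtain ⟨r₂, hr₂⟩ := hW₂
  obtain ⟨r₁', hr₁'⟩ := hW'₁
  obtain ⟨r₂', hr₂'⟩ := hW'₂
  have hr₁e : Y.basicOpen r₁ = W.1 := hr₁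
  have hr₂e : Y.basicOpen r₂ = W.1 := hr₂
  have hr₁'e : Y'.basicOpen r₁' = W'.1 := hr₁'
  have hr₂'e : Y'.basicOpen r₂' = W'.1 := hr₂'
  have hWU : W.1 ≤ k.U := by rw [← hr₁e]; exact Y.basicOpen_le r₁
  have hWV : W.1 ≤ k'.U := by rw [← hr₂e]; exact Y.basicOpen_le r₂
  have hW : IsAffineOpen W.1 := W.2
  have hW' : IsAffineOpen W'.1 := W'.2
  set f₁ := 𝒮.res k.hU hW hWU k.f with hf₁
  set g₁ := 𝒮.res k'.hU hW hWV k'.f with hg₁
  have hf₁m : f₁ ∈ 𝒮.deg W.1 hW k.d := (𝒮.res k.hU hW hWU).2 k.hf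
  have hg₁m : g₁ ∈ 𝒮.deg W.1 hW k'.d := (𝒮.res k'.hU hW hWV).2 k'.hf
  have hxm : f₁ * g₁ ∈ 𝒮.deg W.1 hW (k.d + k'.d) := SetLike.mul_mem_graded hf₁m hg₁m
  have hn0 : 0 < k.d + k'.d := Nat.add_pos_left k.hd _
  obtain ⟨a, ha1, ha2⟩ := refine_chart g 𝒮 𝒮' u p chart hP p' chart' hP' k.U k.hU k.U' k.hU' k.hle
    k.hd k.f k.hf W.1 hW r₁ hr₁e hWU W'.1 hW' r₁' hr₁'e hW'W hn0 g₁ (f₁ * g₁) hg₁m rfl rfl hxm
  obtain ⟨b, hb1, hb2⟩ := refine_chart g 𝒮 𝒮' u p chart hP p' chart' hP' k'.U k'.hU k'.U' k'.hU'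
    k'.hle k'.hd k'.f k'.hf W.1 hW r₂ hr₂e hWV W'.1 hW' r₂' hr₂'e hW'W hn0 f₁ (f₁ * g₁) hf₁m
    (mul_comm _ _) (add_comm _ _) hxm
  refine ⟨_, a, b, ?_, ?_, ha1.trans hb1.symm, ha2.trans hb2.symm⟩
  · have : IsOpenImmersion
        (a ≫ liftQ g 𝒮 𝒮' u p' chart' k.U k.hU k.U' k.hU' k.hle k.hd k.f k.hf) := by
      rw [ha1]; infer_instance
    exact IsOpenImmersion.of_comp a
      (liftQ g 𝒮 𝒮' u p' chart' k.U k.hU k.U' k.hU' k.hle k.hd k.f k.hf)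
  · have hcW'' : c ∈ p' ⁻¹ᵁ W'.1 := hcW'
    have hw := emb_apply_chart p' chart' W'.1 hW' c hcW''
    set w := chartPt p' chart' W'.1 hW' c hcW''
    have h1 := res_notMem g 𝒮 𝒮' u p' chart' hP' k.U k.hU k.U' k.hU' k.hle k.hd k.f k.hf t
      W.1 hW hWU W'.1 hW' r₁' hr₁'e hW'W w hw
    have hw' : (RelProj.emb p' chart' W'.1 hW').base w = (RelProj.domQ u p' chart').ι.base
        ((liftQ g 𝒮 𝒮' u p' chart' k'.U k'.hU k'.U' k'.hU' k'.hle k'.hd k'.f k'.hf).base t') := by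
      rw [← htt']; exact hw
    have h2 := res_notMem g 𝒮 𝒮' u p' chart' hP' k'.U k'.hU k'.U' k'.hU' k'.hle k'.hd k'.f k'.hf
      t' W.1 hW hWV W'.1 hW' r₂' hr₂'e hW'W w hw'
    have h3 : (u.gradedAt W.1 hW W'.1 hW' hW'W) (f₁ * g₁) ∉ w.asHomogeneousIdeal := by
      rw [map_mul]
      intro hmem
      rcases w.isPrime.mem_or_mem hmem with h | h
      · exact h1 h
      · exact h2 h
    obtain ⟨t'', ht''⟩ := mem_range_liftQ g 𝒮 𝒮' u p' chart' W.1 hW W'.1 hW' hW'W hn0 (f₁ * g₁)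
      hxm ê w hw h3
    refine ⟨t'', ?_⟩
    apply (liftQ g 𝒮 𝒮' u p' chart' k.U k.hU k.U' k.hU' k.hle k.hd k.f
      k.hf).isOpenEmbedding.injective
    have e := congrArg (fun g ↦ g.base t'') ha1
    exact e.trans ht''

include hP hP' in
theorem existsUnique_glued :
    ∃! v : ((RelProj.domQ u p' chart' : P'.Opens) : Scheme.{u}) ⟶ P,
      ∀ k : Idx g 𝒮, liftQ g 𝒮 𝒮' u p' chart' k.U k.hU k.U' k.hU' k.hle k.hd k.f k.hf ≫ v =
        gchart g 𝒮 𝒮' u p chart k.U k.hU k.U' k.hU' k.hle k.hd k.f k.hf :=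
  Groth.Agent.Lib.ImmersionGlue.existsUnique_glue (cov g 𝒮 𝒮' u p' chart')
    (fun k ↦ gchart g 𝒮 𝒮' u p chart k.U k.hU k.U' k.hU' k.hle k.hd k.f k.hf)
    (fun k k' t t' h ↦ compat g 𝒮 𝒮' u p chart hP p' chart' hP' k k' t t' h)

lemma isProjQMapOn_iff (v : ((RelProj.domQ u p' chart' : P'.Opens) : Scheme.{u}) ⟶ P) :
    RelProj.IsProjQMapOn u p chart p' chart' (RelProj.domQ u p' chart') v ↔
      ∀ k : Idx g 𝒮, liftQ g 𝒮 𝒮' u p' chart' k.U k.hU k.U' k.hU' k.hle k.hd k.f k.hf ≫ v =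
        gchart g 𝒮 𝒮' u p chart k.U k.hU k.U' k.hU' k.hle k.hd k.f k.hf := by
  constructor
  · intro h k
    exact h k.U k.hU k.U' k.hU' k.hle k.d k.hd k.f k.hf _
  · intro h U hU U' hU' hle d hd f hf hW
    exact h ⟨U, hU, U', hU', hle, d, hd, f, hf⟩

include hP hP' in
/-- A morphism pinned on the standard charts lies over `g`. -/
theorem over_base (v : ((RelProj.domQ u p' chart' : P'.Opens) : Scheme.{u}) ⟶ P)
    (hv : ∀ k : Idx g 𝒮, liftQ g 𝒮 𝒮' u p' chart' k.U k.hU k.U' k.hU' k.hle k.hd k.f k.hf ≫ v =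
        gchart g 𝒮 𝒮' u p chart k.U k.hU k.U' k.hU' k.hle k.hd k.f k.hf) :
    v ≫ p = (RelProj.domQ u p' chart').ι ≫ p' ≫ g := by
  refine Groth.Agent.Lib.ImmersionGlue.hom_ext_of_forall_isOpenImmersion _ _ fun x ↦ ?_
  obtain ⟨k, t, ht⟩ := exists_liftQ g 𝒮 𝒮' u p' chart' x
  refine ⟨_, liftQ g 𝒮 𝒮' u p' chart' k.U k.hU k.U' k.hU' k.hle k.hd k.f k.hf, inferInstance,
    ⟨t, ht⟩, ?_⟩
  rw [← Category.assoc, hv k,
    reassoc_of% (liftQ_ι g 𝒮 𝒮' u p' chart' k.U k.hU k.U' k.hU' k.hle k.hd k.f k.hf)]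
  unfold gchart
  simp only [Category.assoc]
  rw [emb_comp hP k.U k.hU, reassoc_of% (emb_comp hP' k.U' k.hU')]
  have hstr : ∀ r : Γ(Y, k.U), (u.gradedAt k.U k.hU k.U' k.hU' k.hle)
      (((𝒮.strZero k.U k.hU).hom r : 𝒮.deg k.U k.hU 0) : 𝒮.presheaf.obj (op k.U)) =
      ((((g.appLE k.U k.U' k.hle) ≫ 𝒮'.strZero k.U' k.hU').hom r : 𝒮'.deg k.U' k.hU' 0) :
        𝒮'.presheaf.obj (op k.U')) := by
    intro r
    exact congrArg (fun t ↦ t.hom r) (u.toQHom.str_appLE k.U k.U' k.hle)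
  have e3 := away_toSpecZero_comp (u.gradedAt k.U k.hU k.U' k.hU' k.hle) (𝒮.strZero k.U k.hU)
    ((g.appLE k.U k.U' k.hle) ≫ 𝒮'.strZero k.U' k.hU') hstr k.hd k.f k.hf
  rw [reassoc_of% e3, Spec.map_comp, Category.assoc,
    IsAffineOpen.SpecMap_appLE_fromSpec g k.hU k.hU' k.hle]

end Cover

end Aux

/-- Let g : Y' → Y be a morphism of schemes, 𝒮 and 𝒮' quasi-coherent positively graded algebras over O_Y
and O_{Y'}, u : 𝒮 → g_*𝒮' a graded g-morphism, P = Proj(𝒮) and P' = Proj(𝒮') the relative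
homogeneous spectra (with their charts), and G(u) ⊆ P' the open on which the morphism induced by u
is defined. There is exactly one morphism v : G(u) → P which, on each standard affine chart Spec
𝒮'(U')_(u f) of G(u) (U' ⊆ g⁻¹(U) affine opens, f ∈ 𝒮(U) homogeneous of positive degree), is Spec of
the canonical homomorphism 𝒮(U)_(f) → 𝒮'(U')_(u f) followed by the standard open D_+(f) of Proj 𝒮(U)
and the chart of P; and every such v makes the square G(u) → P → Y, G(u) → P' → Y' → Y commute. -/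
theorem result {Y Y' P P' : Scheme.{u}} (g : Y' ⟶ Y)
    (𝒮 : RelProj.QCGrAlg Y) (𝒮' : RelProj.QCGrAlg Y') (u : RelProj.QGrHom g 𝒮 𝒮')
    (p : P ⟶ Y) (chart : ∀ (U : Y.Opens) (hU : IsAffineOpen U), (((p ⁻¹ᵁ U : P.Opens) : Scheme.{u}) ≅ Proj (𝒮.deg U hU)))
    (hP : RelProj.IsRelProj 𝒮 p chart)
    (p' : P' ⟶ Y') (chart' : ∀ (U : Y'.Opens) (hU : IsAffineOpen U), (((p' ⁻¹ᵁ U : P'.Opens) : Scheme.{u}) ≅ Proj (𝒮'.deg U hU)))
    (hP' : RelProj.IsRelProj 𝒮' p' chart') :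
    (∃! v : ((RelProj.domQ u p' chart' : P'.Opens) : Scheme.{u}) ⟶ P,
        RelProj.IsProjQMapOn u p chart p' chart' (RelProj.domQ u p' chart') v) ∧
      ∀ v : ((RelProj.domQ u p' chart' : P'.Opens) : Scheme.{u}) ⟶ P,
        RelProj.IsProjQMapOn u p chart p' chart' (RelProj.domQ u p' chart') v →
          v ≫ p = (RelProj.domQ u p' chart').ι ≫ p' ≫ g := by
  refine ⟨?_, fun v hv ↦ ?_⟩
  · obtain ⟨v, hv, huniq⟩ := existsUnique_glued g 𝒮 𝒮' u p chart hP p' chart' hP'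
    exact ⟨v, (isProjQMapOn_iff g 𝒮 𝒮' u p chart p' chart' v).mpr hv,
      fun v' hv' ↦ huniq v' ((isProjQMapOn_iff g 𝒮 𝒮' u p chart p' chart' v').mp hv')⟩
  · exact over_base g 𝒮 𝒮' u p chart hP p' chart' hP' v
      ((isProjQMapOn_iff g 𝒮 𝒮' u p chart p' chart' v).mp hv)

end Groth.Agent.S12139
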