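import Groth.Statements.S4950
import Groth.Agent.Lib.H80GeomCount2
import Groth.Agent.Lib.H80DvrGeom

set_option autoImplicit false
open CategoryTheory AlgebraicGeometry
universe u v w
open EGA43

namespace Groth.Agent.S4950

open CategoryTheory.Limits in
/-- Let Y be a locally Noetherian scheme, f : X ⟶ Y a separated quasi-finite morphism, y a point of Y
and y' a generization of y distinct from y; write n(z) for the geometric number of points of the
fibre X_z. Then there are a discrete valuation ring A and a morphism g : Spec A ⟶ Y mapping the
closed point to y and the generic point to y', such that n(y) is the number of points of the fibre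
of X ×_Y Spec A ⟶ Spec A over the closed point and n(y') is the number of points of its fibre over
the generic point. -/
theorem result {X Y : Scheme.{u}} [IsLocallyNoetherian Y] (f : X ⟶ Y)
    [IsSeparated f] [LocallyQuasiFinite f] [LocallyOfFiniteType f] [QuasiCompact f] (y y' : Y) (hne : y' ≠ y)
    (hgen : y' ⤳ y) :
    ∃ (A : Type u) (_ : CommRing A) (_ : IsDomain A) (_ : IsDiscreteValuationRing A) (g : Spec (CommRingCat.of A) ⟶ Y),
      g.base (IsLocalRing.closedPoint A) = y ∧ g.base (genericPoint (Spec (CommRingCat.of A))) = y' ∧
      MoreMor.nGeomConnComp f y = ENat.card ↥((pullback.snd f g).fiber (IsLocalRing.closedPoint A)) ∧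
      MoreMor.nGeomConnComp f y' = ENat.card ↥((pullback.snd f g).fiber (genericPoint (Spec (CommRingCat.of A)))) := by
  classical
  -- the finitely many points of the fibre over `y'`
  have hfinF : Finite {x' : X // f x' = y'} := (f.finite_preimage_singleton y').to_subtype
  -- a finite normal extension of `κ(y')` containing all their residue fields
  obtain ⟨N, hNfield, hNalg, hNnormal, hNfin, hNemb⟩ :=
    Groth.Agent.Lib.H80NormalRange.exists_normal_finite (k := Y.residueField y')
      (ι := {x' : X // f x' = y'}) (fun x' => X.residueField x'.1)
      (fun x' => ((Y.residueFieldCongr x'.2).inv ≫ f.residueFieldMap x'.1).hom)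
      (fun x' => by
        rw [CommRingCat.hom_comp]
        refine RingHom.Finite.comp ?_ ?_
        · exact (Groth.Agent.Lib.H59GeomPoints.finite_residueFieldMap f x'.1 :)
        · exact RingHom.Finite.of_surjective _
            (ConcreteCategory.bijective_of_isIso (Y.residueFieldCongr x'.2).inv).2)
  -- the strictly henselian trait
  obtain ⟨A, hAring, hAdom, hAdvr, g, hcl, hsc, τ, hτ⟩ :=
    Groth.Agent.Lib.H80DvrGeom.exists_dvr_map y y' hne hgen N
  have hgenpt : g (genericPoint (Spec (CommRingCat.of A))) = y' := by
    obtain ⟨p⟩ : Nonempty (Spec ((Spec (CommRingCat.of A)).residueField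
      (genericPoint (Spec (CommRingCat.of A))))) := inferInstance
    have h1 := congrArg (fun k => k.base p) hτ
    simp only [Scheme.Hom.comp_base, TopCat.coe_comp, Function.comp_apply] at h1
    rw [Scheme.fromSpecResidueField_apply, Scheme.fromSpecResidueField_apply] at h1
    exact h1
  refine ⟨A, hAring, hAdom, hAdvr, g, hcl, hgenpt, ?_, ?_⟩
  · have := Groth.Agent.Lib.H80GeomCount.isSepClosed_residueField_closedPoint A
    have h := Groth.Agent.Lib.H80GeomCount.nGeomConnComp_eq_card_fiber_of_isSepClosed f g
      (IsLocalRing.closedPoint A)
    rw [hcl] at h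
    exact h
  · have h := Groth.Agent.Lib.H80GeomCount.nGeomConnComp_eq_card_fiber f g
      (genericPoint (Spec (CommRingCat.of A))) (fun u =>
        Groth.Agent.Lib.H80GeomCount.sepDeg_eq_one_of_normal f
          ((Spec (CommRingCat.of A)).residueField (genericPoint (Spec (CommRingCat.of A))))
          _ y' N τ hτ (fun x' h => hNemb ⟨x', h⟩) u)
    rw [hgenpt] at h
    exact h

end Groth.Agent.S4950
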