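import Groth.Statements.S0393
import Groth.Agent.Lib.FlatCrit

set_option autoImplicit false
universe u
open FlatMor

namespace Groth.Agent.S0393

open TensorProduct Function Groth.Agent.Lib.FlatCrit

section

variable {R : Type u} [CommRing R] [IsLocalRing R]
variable {M N : Type*} [AddCommGroup M] [Module R M] [AddCommGroup N] [Module R N]

/-- `u ⊗ V` is injective for modules `V` killed by the maximal ideal. -/
theorem lTensor_injective_of_smul_eq_bot (u : N →ₗ[R] M)
    (h : Injective (u.lTensor (IsLocalRing.ResidueField R)))
    (V : Type*) [AddCommGroup V] [Module R V]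
    (hV : IsLocalRing.maximalIdeal R • (⊤ : Submodule R V) = ⊥) : Injective (u.lTensor V) := by
  have htors : Module.IsTorsionBySet R V (IsLocalRing.maximalIdeal R) := by
    intro x a
    have : (a : R) • x ∈ IsLocalRing.maximalIdeal R • (⊤ : Submodule R V) :=
      Submodule.smul_mem_smul a.2 trivial
    rwa [hV, Submodule.mem_bot] at this
  let _ : Module (IsLocalRing.ResidueField R) V := htors.module
  have : IsScalarTower R (IsLocalRing.ResidueField R) V := htors.isScalarTower
  apply lTensor_injective_of_baseChange (IsLocalRing.ResidueField R) u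
  exact Module.Flat.lTensor_preserves_injective_linearMap (M := V) _ h

/-- `u ⊗ V` is injective for modules `V` killed by a power of the maximal ideal. -/
theorem lTensor_injective_of_pow_smul_eq_bot [Module.Flat R M] (u : N →ₗ[R] M)
    (h : Injective (u.lTensor (IsLocalRing.ResidueField R))) (n : ℕ)
    (V : Type u) [AddCommGroup V] [Module R V]
    (hV : IsLocalRing.maximalIdeal R ^ n • (⊤ : Submodule R V) = ⊥) : Injective (u.lTensor V) := by
  refine induction_pow_smul (IsLocalRing.maximalIdeal R) (fun V _ _ => Injective (u.lTensor V))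
    ?_ ?_ n V hV
  · intro V _ _ hV
    exact lTensor_injective_of_smul_eq_bot u h V hV
  · intro V _ _ V' h' h''
    exact lTensor_injective_of_exact_of_flat u V'.subtype_injective
      (LinearMap.exact_subtype_mkQ V') (Submodule.mkQ_surjective V') h' h''

end

/-- `u ⊗ V` is injective for finite modules `V`. -/
theorem lTensor_injective_of_finite {R S : Type u} [CommRing R] [CommRing S] [IsLocalRing R]
    [IsLocalRing S] [IsNoetherianRing S] [Algebra R S] [IsLocalHom (algebraMap R S)]
    {M N : Type u} [AddCommGroup M] [Module R M] [Module.Flat R M]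
    [AddCommGroup N] [Module R N] [Module S N] [IsScalarTower R S N] [Module.Finite S N]
    (u : N →ₗ[R] M) (h : Injective (u.lTensor (IsLocalRing.ResidueField R)))
    (V : Type u) [AddCommGroup V] [Module R V] [Module.Finite R V] : Injective (u.lTensor V) := by
  have hI : (IsLocalRing.maximalIdeal R).map (algebraMap R S) ≤ Ideal.jacobson ⊥ := by
    rw [IsLocalRing.jacobson_eq_maximalIdeal ⊥ bot_ne_top]
    exact IsLocalRing.map_maximalIdeal_le (algebraMap R S)
  rw [injective_iff_map_eq_zero]
  intro x hx
  apply eq_zero_of_forall_mem_pow_smul_top (S := S) (M := N) (P := V) (IsLocalRing.maximalIdeal R)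
    hI x
  intro n
  have hW : IsLocalRing.maximalIdeal R ^ n •
      (⊤ : Submodule R (V ⧸ (IsLocalRing.maximalIdeal R ^ n • ⊤ : Submodule R V))) = ⊥ := by
    rw [← Submodule.range_mkQ (IsLocalRing.maximalIdeal R ^ n • (⊤ : Submodule R V)),
      ← Submodule.map_top, ← Submodule.map_smul'', Submodule.mkQ_map_self]
  have hWinj := lTensor_injective_of_pow_smul_eq_bot u h n _ hW
  have h1 : (IsLocalRing.maximalIdeal R ^ n • (⊤ : Submodule R V)).mkQ.rTensor N x = 0 := by
    apply hWinj
    rw [map_zero, ← LinearMap.comp_apply, LinearMap.lTensor_comp_rTensor,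
      ← LinearMap.rTensor_comp_lTensor, LinearMap.comp_apply, hx, map_zero]
  obtain ⟨y, rfl⟩ := (rTensor_exact N (LinearMap.exact_subtype_mkQ _)
    (Submodule.mkQ_surjective _) x).mp h1
  clear hx h1
  induction y with
  | zero => simp
  | add y z hy hz => rw [map_add]; exact Submodule.add_mem _ hy hz
  | tmul v n' =>
    rw [LinearMap.rTensor_tmul]
    have : (IsLocalRing.maximalIdeal R ^ n • (⊤ : Submodule R V)).map
        ((TensorProduct.mk R V N).flip n') ≤
        IsLocalRing.maximalIdeal R ^ n • (⊤ : Submodule R (V ⊗[R] N)) := by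
      rw [Submodule.map_smul'']
      exact Submodule.smul_mono le_rfl le_top
    exact this ⟨v.1, v.2, rfl⟩

open TensorProduct in
/-- For a local homomorphism of local rings R → S with S Noetherian, an R-linear map u from a finite
S-module N to a flat R-module M whose reduction modulo the maximal ideal of R is injective is itself
injective, and its cokernel is flat over R. -/
theorem result {R S M N : Type u} [CommRing R] [CommRing S] [IsLocalRing R] [IsLocalRing S] [IsNoetherianRing S] [Algebra R S] [IsLocalHom (algebraMap R S)]
    [AddCommGroup M] [Module R M] [Module.Flat R M]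
    [AddCommGroup N] [Module R N] [Module S N] [IsScalarTower R S N] [Module.Finite S N]
    (u : N →ₗ[R] M) (h : Function.Injective (LinearMap.lTensor (IsLocalRing.ResidueField R) u)) :
    Function.Injective u ∧ Module.Flat R (M ⧸ LinearMap.range u) := by
  constructor
  · have hR := lTensor_injective_of_finite (S := S) u h R
    intro x y hxy
    have : u.lTensor R ((1 : R) ⊗ₜ[R] x) = u.lTensor R ((1 : R) ⊗ₜ[R] y) := by
      rw [LinearMap.lTensor_tmul, LinearMap.lTensor_tmul, hxy]
    have h2 := congrArg (TensorProduct.lid R N) (hR this)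
    simpa using h2
  · rw [Module.Flat.iff_lTensor_injective']
    intro 𝔞
    have hfinj : Injective (u.rTensor (R ⧸ 𝔞)) :=
      (LinearMap.lTensor_inj_iff_rTensor_inj _ _).mp
        (lTensor_injective_of_finite (S := S) u h (R ⧸ 𝔞))
    exact lTensor_injective_of_exact_of_exact_of_rTensor_injective
      (M₁ := N) (M₂ := M) (M₃ := M ⧸ LinearMap.range u)
      (LinearMap.exact_map_mkQ_range u) (Submodule.mkQ_surjective _)
      (LinearMap.exact_subtype_mkQ 𝔞) (Submodule.mkQ_surjective 𝔞) hfinj
      (Module.Flat.lTensor_preserves_injective_linearMap _ 𝔞.subtype_injective)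

end Groth.Agent.S0393
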