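import Groth.Statements.S2970
import Groth.Agent.Lib.GLLift55g

set_option autoImplicit false
universe u
open TensorProduct SGA3b
open SGA3b

namespace Groth.Agent.S2970

open Groth.Agent.Lib.GLLift55 Groth.Agent.Lib.MultType58

/-- Let R be a ring, I an ideal consisting of nilpotent elements, and H = Spec A an R-group of
multiplicative type. If the base change of H to R/I is diagonalisable, then H is diagonalisable.
(Affine group schemes over an affine base are taken in Hopf-algebra form; base change is the tensor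
product.) -/
theorem result (R : Type u) [CommRing R] (A : Type u) [CommRing A] [HopfAlgebra R A] (I : Ideal R) (hI : ∀ x ∈ I, IsNilpotent x)
    (h : IsMultType R A) (h0 : IsDiag (R ⧸ I) ((R ⧸ I) ⊗[R] A)) : IsDiag R A := by
  classical
  obtain ⟨M, _, ⟨θ⟩⟩ := h0
  have hcov := hasGLCover_of_isMultType h
  -- the basis of group-likes of `(R/I) ⊗ A`
  set w : Module.Basis M (R ⧸ I) ((R ⧸ I) ⊗[R] A) :=
    (MonoidAlgebra.basis M (R ⧸ I)).map θ.symm.toLinearEquiv with hwdef
  have hwa : ∀ m, w m = θ.symm (MonoidAlgebra.single m 1) := by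
    intro m
    rw [hwdef, Module.Basis.map_apply, MonoidAlgebra.basis_apply]
    rfl
  have hw : ∀ m, IsGroupLikeElem (R ⧸ I) (w m) := by
    intro m
    rw [hwa]
    exact (MonoidAlgebra.isGroupLikeElem_single_one (R := R ⧸ I) m).map θ.symm
  -- lifts
  have hex : ∀ m, ∃ g : A, IsGroupLikeElem R g ∧ (1 : R ⧸ I) ⊗ₜ[R] g = w m := by
    intro m
    obtain ⟨b, hb⟩ := includeRight_surj A I (w m)
    have hb' : (1 : R ⧸ I) ⊗ₜ[R] b = w m := hb
    have hgl : IsGroupLikeElem (R ⧸ I) ((1 : R ⧸ I) ⊗ₜ[R] b) := hb' ▸ hw m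
    have hΔ : Coalgebra.comul (R := R) b - b ⊗ₜ[R] b ∈ I.map (algebraMap R (A ⊗[R] A)) := by
      have h1 := comul_of_one_tmul (R ⧸ I) hgl
      have h2 : (1 : R ⧸ I) ⊗ₜ[R] (Coalgebra.comul (R := R) b - b ⊗ₜ[R] b) =
          (1 : R ⧸ I) ⊗ₜ[R] (0 : A ⊗[R] A) := by
        rw [h1, TensorProduct.tmul_zero]
      have h3 := mem_map_of_one_tmul_eq' I h2
      rwa [sub_zero] at h3
    have hε : Coalgebra.counit (R := R) b - 1 ∈ I := by
      have h1 := counit_of_one_tmul (R ⧸ I) hgl
      have h2 : (1 : R ⧸ I) ⊗ₜ[R] (Coalgebra.counit (R := R) b - 1) =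
          (1 : R ⧸ I) ⊗ₜ[R] (0 : R) := by
        rw [h1, TensorProduct.tmul_zero]
      have h3 := mem_map_of_one_tmul_eq' I h2
      rw [sub_zero, Algebra.algebraMap_self, Ideal.map_id] at h3
      exact h3
    obtain ⟨g, hg1, hg2⟩ := exists_lift_global hcov I hI b hΔ hε
    exact ⟨g, hg1, (one_tmul_eq_of_mem_map I hg2).trans hb'⟩
  choose g hg hgw using hex
  -- multiplicativity
  have huniq : ∀ x y : A, IsGroupLikeElem R x → IsGroupLikeElem R y →
      (1 : R ⧸ I) ⊗ₜ[R] x = (1 : R ⧸ I) ⊗ₜ[R] y → x = y := fun x y hx hy hxy =>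
    unique_global hcov I hI hx hy (mem_map_of_one_tmul_eq I hxy)
  have hg1 : g 1 = 1 := by
    apply huniq _ _ (hg 1) IsGroupLikeElem.one
    rw [hgw, hwa]
    have : (MonoidAlgebra.single (1 : M) (1 : R ⧸ I)) = 1 := rfl
    rw [this, map_one]
    rfl
  have hgmul : ∀ m m' : M, g (m * m') = g m * g m' := by
    intro m m'
    apply huniq _ _ (hg _) ((hg m).mul (hg m'))
    have e1 : (1 : R ⧸ I) ⊗ₜ[R] (g m * g m') =
        ((1 : R ⧸ I) ⊗ₜ[R] g m) * ((1 : R ⧸ I) ⊗ₜ[R] g m') := by
      rw [Algebra.TensorProduct.tmul_mul_tmul, mul_one]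
    rw [e1, hgw, hgw, hgw, hwa, hwa, hwa, ← map_mul, MonoidAlgebra.single_mul_single, mul_one]
  -- the comparison map
  let γ : M →* GroupLike R A :=
    { toFun := fun m => ⟨g m, hg m⟩
      map_one' := GroupLike.val_injective hg1
      map_mul' := fun m m' => GroupLike.val_injective (hgmul m m') }
  let Φ : MonoidAlgebra R M →ₐc[R] A :=
    (MonoidAlgebra.liftGroupLikeBialgHom : MonoidAlgebra R (GroupLike R A) →ₐc[R] A).comp
      (MonoidAlgebra.mapDomainBialgHom R γ)
  have hΦs : ∀ (m : M) (r : R), Φ (MonoidAlgebra.single m r) = r • g m := by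
    intro m r
    show MonoidAlgebra.liftGroupLikeBialgHom (MonoidAlgebra.mapDomainBialgHom R γ
      (MonoidAlgebra.single m r)) = r • g m
    rw [MonoidAlgebra.mapDomainBialgHom_single]
    show MonoidAlgebra.lift R A (GroupLike R A) _ (MonoidAlgebra.single (γ m) r) = _
    rw [MonoidAlgebra.lift_single]
    rfl
  have happ : ∀ x : MonoidAlgebra R M, Φ x = Finsupp.linearCombination R g x.coeff := by
    intro x
    induction x using MonoidAlgebra.induction_linear with
    | zero => simp
    | add a b ha hb => rw [map_add, ha, hb, MonoidAlgebra.coeff_add, map_add]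
    | single m r =>
      rw [hΦs, MonoidAlgebra.coeff_single, Finsupp.linearCombination_single]
  have hli := linearIndependent_of_lifts h I hI w g hg hgw
  have hspan := span_eq_top_of_lifts hcov I hI w hw g hg hgw
  have hbij : Function.Bijective Φ := by
    constructor
    · rw [injective_iff_map_eq_zero]
      intro x hx
      rw [happ] at hx
      have := (linearIndependent_iff.mp hli) x.coeff hx
      apply MonoidAlgebra.ext
      rw [this]
      rfl
    · intro a
      have ha : a ∈ Submodule.span R (Set.range g) := by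
        rw [hspan]
        trivial
      rw [Finsupp.mem_span_range_iff_exists_finsupp] at ha
      obtain ⟨c, hc⟩ := ha
      refine ⟨MonoidAlgebra.ofCoeff c, ?_⟩
      rw [happ, Finsupp.linearCombination_apply]
      exact hc
  exact ⟨M, inferInstance, ⟨(BialgEquiv.ofBijective Φ hbij).symm⟩⟩

end Groth.Agent.S2970
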