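import Groth.Statements.S2466
import Groth.Agent.Lib.PBasisH44

set_option autoImplicit false
universe u
open EGA41

namespace Groth.Agent.S2466

open Groth.Agent.Lib.PBasisH44

section Helpers

variable (p : ℕ) [Fact p.Prime] {A B : Type u} [CommRing A] [CommRing B] [Algebra A B] [CharP B p]
  {ι : Type u} (x : ι → B)

/-- the partial derivatives with respect to a `p`-basis -/
theorem exists_partial [DecidableEq ι] (hx : EGA41.IsPBasis p A x) (i : ι) :
    ∃ d : Derivation A B B, ∀ j, d (x j) = if j = i then 1 else 0 := by
  obtain ⟨D', hC, hD'x⟩ := exists_derivation p hx (L := B) (0 : pPowerSubalgebra p A B →+ B)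
    (by intro c c'; simp) (by intro j; simp) (fun j => if j = i then 1 else 0)
  let l : B →ₗ[A] B :=
    { toFun := D'
      map_add' := map_add D'
      map_smul' := by
        intro a b
        have h0 : D' (algebraMap A B a) = 0 :=
          hC ⟨algebraMap A B a, Subalgebra.algebraMap_mem _ a⟩
        rw [Algebra.smul_def, Derivation.leibniz, h0, smul_zero, add_zero, RingHom.id_apply,
          smul_eq_mul, Algebra.smul_def] }
  exact ⟨Derivation.mk' l (fun a b => D'.leibniz a b), hD'x⟩

omit [Fact (Nat.Prime p)] in
/-- the universal derivation kills `A[B^p]` -/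
theorem D_eq_zero_of_mem (c : B) (hc : c ∈ pPowerSubalgebra p A B) :
    KaehlerDifferential.D A B c = 0 := by
  induction hc using Algebra.adjoin_induction with
  | mem c hc =>
    obtain ⟨b, rfl⟩ := hc
    rw [Derivation.leibniz_pow, ← Nat.cast_smul_eq_nsmul B, CharP.cast_eq_zero B p, zero_smul]
  | algebraMap a => exact Derivation.map_algebraMap _ a
  | add s t _ _ hs ht => rw [map_add, hs, ht, add_zero]
  | mul s t _ _ hs ht => rw [Derivation.leibniz, hs, ht, smul_zero, smul_zero, add_zero]

omit [Fact (Nat.Prime p)] in
theorem span_D_eq_top (hx : EGA41.IsPBasis p A x) :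
    Submodule.span B (Set.range fun i => KaehlerDifferential.D A B (x i)) = ⊤ := by
  classical
  set N := Submodule.span B (Set.range fun i => KaehlerDifferential.D A B (x i)) with hN
  let S : Submonoid B :=
    { carrier := {b | KaehlerDifferential.D A B b ∈ N}
      one_mem' := by simp
      mul_mem' := by
        intro a b ha hb
        simp only [Set.mem_ofPred_eq] at ha hb ⊢
        rw [Derivation.leibniz]
        exact N.add_mem (N.smul_mem _ hb) (N.smul_mem _ ha) }
  have hxS : ∀ i, x i ∈ S := fun i => Submodule.subset_span ⟨i, rfl⟩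
  have hmon : ∀ n : ι →₀ ℕ, mon x n ∈ S := by
    intro n
    unfold mon
    exact Submonoid.prod_mem S fun i _ => Submonoid.pow_mem S (hxS i) _
  have hall : ∀ s : B, KaehlerDifferential.D A B s ∈ N := by
    intro s
    have hs : s ∈ Submodule.span (pPowerSubalgebra p A B)
        (Set.range fun e : {e : ι →₀ ℕ // ∀ i, e i < p} => pMonomial x e.1) := by
      rw [hx.2]; trivial
    induction hs using Submodule.span_induction with
    | mem s hs =>
      obtain ⟨e, rfl⟩ := hs
      exact hmon e.1
    | zero => simp
    | add s t _ _ hs ht => rw [map_add]; exact N.add_mem hs ht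
    | smul c s _ hs =>
      rw [Algebra.smul_def]
      change KaehlerDifferential.D A B ((c : B) * s) ∈ N
      rw [Derivation.leibniz, D_eq_zero_of_mem p c.1 c.2, smul_zero, add_zero]
      exact N.smul_mem _ hs
  rw [eq_top_iff, ← KaehlerDifferential.span_range_derivation A B, Submodule.span_le]
  rintro _ ⟨s, rfl⟩
  exact hall s

end Helpers

/-- Let p be a prime, B an A-algebra of characteristic p and (x_α) a p-basis of B over A. Then the
family of differentials (d_{B/A} x_α) is a basis of the B-module Ω_{B/A}. -/
theorem result (p : ℕ) [Fact p.Prime] {A B : Type u} [CommRing A] [CommRing B] [Algebra A B] [CharP B p]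
    {ι : Type u} (x : ι → B) (hx : EGA41.IsPBasis p A x) :
    ∃ b : Module.Basis ι B (Ω[B⁄A]), ∀ i, b i = KaehlerDifferential.D A B (x i) := by
  classical
  have hli : LinearIndependent B (fun i => KaehlerDifferential.D A B (x i)) := by
    rw [linearIndependent_iff']
    intro s g hg i hi
    obtain ⟨d, hd⟩ := exists_partial p x hx i
    have := congrArg d.liftKaehlerDifferential hg
    rw [map_sum, map_zero] at this
    simp only [map_smul, Derivation.liftKaehlerDifferential_comp_D, hd, smul_eq_mul, mul_ite,
      mul_one, mul_zero, Finset.sum_ite_eq', hi, if_true] at this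
    exact this
  refine ⟨Module.Basis.mk hli (by rw [span_D_eq_top p x hx]), fun i => ?_⟩
  rw [Module.Basis.mk_apply]

end Groth.Agent.S2466
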