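import Groth.Statements.S2468
import Groth.Agent.Lib.PBasisField2H44
import Groth.Agent.S2466

set_option autoImplicit false
universe u
open EGA41

namespace Groth.Agent.S2468

open Groth.Agent.Lib.PBasisH44 Groth.Agent.Lib.PBasisFieldH44 Groth.Agent.Lib.PBasisField2H44

section Helpers

variable (p : ℕ) [hp : Fact p.Prime] {k K : Type u} [Field k] [Field K] [Algebra k K] [CharP K p]
  {ι : Type u} (x : ι → K)

omit [CharP K p] in
theorem isPGenerating_iff_adjoin :
    EGA41.IsPGenerating p k x ↔
      Algebra.adjoin (pPowerSubalgebra p k K) (Set.range x) = ⊤ := by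
  have hr : (Set.range fun e : {e : ι →₀ ℕ // ∀ i, e i < p} => pMonomial x e.1) =
      Set.range fun e : IdxOn p (Set.univ : Set ι) => mon x e.1 := by
    apply Set.Subset.antisymm
    · rintro _ ⟨e, rfl⟩
      exact ⟨⟨e.1, Set.subset_univ _, e.2⟩, rfl⟩
    · rintro _ ⟨e, rfl⟩
      exact ⟨⟨e.1, e.2.2⟩, rfl⟩
  unfold EGA41.IsPGenerating
  rw [hr, span_eq_adjoin, Set.image_univ, ← Algebra.toSubmodule_eq_top]

omit hp in
/-- the differential of an element of the subalgebra generated by `x '' J` lies in the span of
the `d x_j`, `j ∈ J` -/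
theorem D_mem_span_of_mem_adjoin (J : Set ι) (m : K)
    (hm : m ∈ Algebra.adjoin (pPowerSubalgebra p k K) (x '' J)) :
    KaehlerDifferential.D k K m ∈
      Submodule.span K ((fun i => KaehlerDifferential.D k K (x i)) '' J) := by
  induction hm using Algebra.adjoin_induction with
  | mem m hm =>
    obtain ⟨j, hj, rfl⟩ := hm
    exact Submodule.subset_span ⟨j, hj, rfl⟩
  | algebraMap c =>
    have : KaehlerDifferential.D k K (c : K) = 0 :=
      Groth.Agent.S2466.D_eq_zero_of_mem p c.1 c.2
    change KaehlerDifferential.D k K (c : K) ∈ _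
    rw [this]
    exact Submodule.zero_mem _
  | add s t _ _ hs ht =>
    rw [map_add]
    exact Submodule.add_mem _ hs ht
  | mul s t _ _ hs ht =>
    rw [Derivation.leibniz]
    exact Submodule.add_mem _ (Submodule.smul_mem _ _ ht) (Submodule.smul_mem _ _ hs)

theorem indep_of_linearIndependent
    (h : LinearIndependent K (fun i => KaehlerDifferential.D k K (x i))) :
    EGA41.IsPIndependent p k x := by
  rw [← indepOn_univ_iff]
  apply indepOn_of_forall_notMem
  intro a _ hmem
  have h1 := D_mem_span_of_mem_adjoin p x _ _ hmem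
  exact h.notMem_span_image (s := Set.univ \ {a}) (x := a) (by simp) h1

theorem linearIndependent_of_indep (h : EGA41.IsPIndependent p k x) :
    LinearIndependent K (fun i => KaehlerDifferential.D k K (x i)) := by
  classical
  have hind : IndepOn p k x Set.univ := (indepOn_univ_iff p x).2 h
  have hinj : Function.Injective x := by
    intro a b hab
    by_contra hne
    apply hind.notMem_adjoin p x (Set.mem_univ a)
    apply Algebra.subset_adjoin
    exact ⟨b, ⟨Set.mem_univ b, fun hba => hne hba.symm⟩, hab.symm⟩
  have hL : IndepOn p k (id : K → K) (Set.range x) := by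
    apply indepOn_of_forall_notMem
    rintro _ ⟨a, rfl⟩ hmem
    apply hind.notMem_adjoin p x (Set.mem_univ a)
    refine Algebra.adjoin_mono ?_ hmem
    rw [Set.image_id]
    rintro _ ⟨⟨b, rfl⟩, hb⟩
    exact ⟨b, ⟨Set.mem_univ b, fun hba => hb (by rw [Set.mem_singleton_iff, hba])⟩, rfl⟩
  obtain ⟨B, hLB, -, hBind, hBgen⟩ := exists_maximal_indepOn p Set.univ (Set.range x)
    (Set.subset_univ _) (Algebra.adjoin_univ _ _) hL
  have hB : EGA41.IsPBasis p k (Subtype.val : B → K) := by
    refine ⟨(isPIndependent_restrict_iff p (A := k) (id : K → K) B).2 hBind, ?_⟩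
    apply (isPGenerating_restrict_iff p (A := k) (id : K → K) B).2
    rwa [Set.image_id]
  obtain ⟨bΩ, hbΩ⟩ := Groth.Agent.S2466.result p (Subtype.val : B → K) hB
  let f : ι → B := fun i => ⟨x i, hLB ⟨i, rfl⟩⟩
  have hf : Function.Injective f := fun a b hab => hinj (congrArg Subtype.val hab)
  have := bΩ.linearIndependent.comp f hf
  have heq : (fun i => KaehlerDifferential.D k K (x i)) = bΩ ∘ f := by
    funext i
    exact (hbΩ (f i)).symm
  rw [heq]
  exact this

/-- if `t` is not in the subfield generated by `K^p`, `k` and the `x i`, there is a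
`k`-derivation killing the `x i` but not `t` -/
theorem exists_derivation_of_notMem (t : K)
    (ht : t ∉ Algebra.adjoin (pPowerSubalgebra p k K) (Set.range x)) :
    ∃ d : Derivation k K K, (∀ i, d (x i) = 0) ∧ d t = 1 := by
  classical
  let M := Algebra.adjoin (pPowerSubalgebra p k K) (Set.range x)
  let F : Subfield K := toSubfield p M
  have hCF : ∀ c : K, c ∈ pPowerSubalgebra p F K → c ∈ M := by
    intro c hc
    induction hc using Algebra.adjoin_induction with
    | mem c hc =>
      obtain ⟨y, rfl⟩ := hc
      exact M.algebraMap_mem ⟨y ^ p, pow_mem p y⟩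
    | algebraMap f => exact f.2
    | add s t _ _ hs ht => exact M.add_mem hs ht
    | mul s t _ _ hs ht => exact M.mul_mem hs ht
  have hMCF : ∀ m : K, m ∈ M → m ∈ pPowerSubalgebra p F K := by
    intro m hm
    exact (pPowerSubalgebra p F K).algebraMap_mem (⟨m, hm⟩ : F)
  have htL : IndepOn p F (id : K → K) {t} := by
    have h0 : IndepOn p F (id : K → K) ∅ := indepOn_empty p id
    have := indepOn_insert p (id : K → K) h0 (Set.notMem_empty t) (by
      rw [Set.image_empty, Algebra.adjoin_empty]
      rintro ⟨c, hc⟩
      have hc' : (c : K) = t := hc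
      exact ht (hc' ▸ hCF c.1 c.2))
    rwa [insert_empty_eq] at this
  obtain ⟨B, htB, -, hBind, hBgen⟩ := exists_maximal_indepOn p (k := F) Set.univ {t}
    (Set.subset_univ _) (Algebra.adjoin_univ _ _) htL
  have hB : EGA41.IsPBasis p F (Subtype.val : B → K) := by
    refine ⟨(isPIndependent_restrict_iff p (A := F) (id : K → K) B).2 hBind, ?_⟩
    apply (isPGenerating_restrict_iff p (A := F) (id : K → K) B).2
    rwa [Set.image_id]
  obtain ⟨D', hC, hD'x⟩ := exists_derivation p hB (L := K) (0 : pPowerSubalgebra p F K →+ K)
    (by intro c c'; simp) (by intro j; simp) (fun b => if b.1 = t then 1 else 0)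
  have hkill : ∀ m : K, m ∈ M → D' m = 0 := fun m hm => hC ⟨m, hMCF m hm⟩
  let l : K →ₗ[k] K :=
    { toFun := D'
      map_add' := map_add D'
      map_smul' := by
        intro a b
        have h0 : D' (algebraMap k K a) = 0 :=
          hkill _ (M.algebraMap_mem (algebraMap k (pPowerSubalgebra p k K) a))
        rw [Algebra.smul_def, Derivation.leibniz, h0, smul_zero, add_zero, RingHom.id_apply,
          smul_eq_mul, Algebra.smul_def] }
  refine ⟨Derivation.mk' l (fun a b => D'.leibniz a b), ?_, ?_⟩
  · intro i
    exact hkill _ (Algebra.subset_adjoin ⟨i, rfl⟩)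
  · have := hD'x ⟨t, htB rfl⟩
    change D' t = 1
    simpa using this

theorem generating_of_span_eq_top
    (h : Submodule.span K (Set.range fun i => KaehlerDifferential.D k K (x i)) = ⊤) :
    EGA41.IsPGenerating p k x := by
  rw [isPGenerating_iff_adjoin]
  by_contra hne
  have : ∃ t : K, t ∉ Algebra.adjoin (pPowerSubalgebra p k K) (Set.range x) := by
    by_contra hcon
    push Not at hcon
    exact hne (eq_top_iff.2 fun t _ => hcon t)
  obtain ⟨t, ht⟩ := this
  obtain ⟨d, hdx, hdt⟩ := exists_derivation_of_notMem p x t ht
  have hzero : d.liftKaehlerDifferential = 0 := by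
    apply LinearMap.ext_on h
    rintro _ ⟨i, rfl⟩
    rw [Derivation.liftKaehlerDifferential_comp_D, hdx, LinearMap.zero_apply]
  have := Derivation.liftKaehlerDifferential_comp_D d t
  rw [hzero, LinearMap.zero_apply, hdt] at this
  exact zero_ne_one this

omit hp in
theorem span_D_eq_top_of_generating (hx : EGA41.IsPGenerating p k x) :
    Submodule.span K (Set.range fun i => KaehlerDifferential.D k K (x i)) = ⊤ := by
  classical
  set N := Submodule.span K (Set.range fun i => KaehlerDifferential.D k K (x i)) with hN
  let S : Submonoid K :=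
    { carrier := {b | KaehlerDifferential.D k K b ∈ N}
      one_mem' := by simp
      mul_mem' := by
        intro a b ha hb
        simp only [Set.mem_ofPred_eq] at ha hb ⊢
        rw [Derivation.leibniz]
        exact N.add_mem (N.smul_mem _ hb) (N.smul_mem _ ha) }
  have hxS : ∀ i, x i ∈ S := fun i => Submodule.subset_span ⟨i, rfl⟩
  have hmon : ∀ n : ι →₀ ℕ, mon x n ∈ S := by
    intro n
    unfold mon
    exact Submonoid.prod_mem S fun i _ => Submonoid.pow_mem S (hxS i) _
  have hall : ∀ s : K, KaehlerDifferential.D k K s ∈ N := by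
    intro s
    have hs : s ∈ Submodule.span (pPowerSubalgebra p k K)
        (Set.range fun e : {e : ι →₀ ℕ // ∀ i, e i < p} => pMonomial x e.1) := by
      rw [hx]; trivial
    induction hs using Submodule.span_induction with
    | mem s hs =>
      obtain ⟨e, rfl⟩ := hs
      exact hmon e.1
    | zero => simp
    | add s t _ _ hs ht => rw [map_add]; exact N.add_mem hs ht
    | smul c s _ hs =>
      rw [Algebra.smul_def]
      change KaehlerDifferential.D k K ((c : K) * s) ∈ N
      rw [Derivation.leibniz, Groth.Agent.S2466.D_eq_zero_of_mem p c.1 c.2, smul_zero, add_zero]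
      exact N.smul_mem _ hs
  rw [eq_top_iff, ← KaehlerDifferential.span_range_derivation k K, Submodule.span_le]
  rintro _ ⟨s, rfl⟩
  exact hall s

end Helpers

/-- Let k ⊆ K be fields of characteristic p > 0 and (x_α) a family of elements of K. Then (x_α) is
p-free over k if and only if the d_{K/k} x_α are linearly independent over K; it is a system of
p-generators of K over k if and only if the d x_α span Ω_{K/k}; and it is a p-basis if and only if
the d x_α form a basis of Ω_{K/k} (stated as the existence of a K-basis of Ω_{K/k} indexed by the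
same index set whose members are the d x_α). (With the empty family the second equivalence
specializes to: Ω_{K/k} = 0 iff K = k(K^p).) -/
theorem result (p : ℕ) [Fact p.Prime] {k K : Type u} [Field k] [Field K] [Algebra k K] [CharP K p]
    {ι : Type u} (x : ι → K) :
    (EGA41.IsPIndependent p k x ↔ LinearIndependent K (fun i => KaehlerDifferential.D k K (x i))) ∧
    (EGA41.IsPGenerating p k x ↔ Submodule.span K (Set.range fun i => KaehlerDifferential.D k K (x i)) = ⊤) ∧
    (EGA41.IsPBasis p k x ↔ ∃ b : Module.Basis ι K (Ω[K⁄k]), ∀ i, b i = KaehlerDifferential.D k K (x i)) := by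
  have hG : EGA41.IsPGenerating p k x →
      Submodule.span K (Set.range fun i => KaehlerDifferential.D k K (x i)) = ⊤ := by
    intro h
    exact span_D_eq_top_of_generating p x h
  refine ⟨⟨linearIndependent_of_indep p x, indep_of_linearIndependent p x⟩,
    ⟨hG, generating_of_span_eq_top p x⟩, ⟨fun h => Groth.Agent.S2466.result p x h, ?_⟩⟩
  rintro ⟨b, hb⟩
  have hfun : (fun i => KaehlerDifferential.D k K (x i)) = b := by
    funext i
    exact (hb i).symm
  refine ⟨indep_of_linearIndependent p x (hfun ▸ b.linearIndependent),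
    generating_of_span_eq_top p x (hfun ▸ b.span_eq)⟩

end Groth.Agent.S2468
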