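import Groth.Statements.S1977
import Groth.Agent.Lib.WeaklyEtaleField96
-- import your own Groth.Agent.* helpers here

set_option autoImplicit false
universe u
open EtAlg

namespace Groth.Agent.S1977


open Groth.Agent.Lib.StepWeaklyEtale96 Groth.Agent.Lib.WeaklyEtaleField96 in
theorem weaklyEtale_adjoin (K : Type u) [Field K] (A : Type u) [CommRing A] [Algebra K A]
    (s : Set A) (hs : ∀ x ∈ s, ∃ g : Polynomial K, g.Separable ∧ Polynomial.aeval x g = 0) :
    Algebra.WeaklyEtale K ↥(Algebra.adjoin K s) := by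
  refine weaklyEtale_of_forall_killed K ↥(Algebra.adjoin K s) fun y => ?_
  obtain ⟨y, hy⟩ := y
  induction hy using Algebra.adjoin_induction with
  | mem x hx =>
    obtain ⟨g, hg, hy⟩ := hs x hx
    refine killed_of_separable hg (Subtype.ext ?_)
    have h2 : ((Polynomial.aeval (⟨x, Algebra.subset_adjoin hx⟩ : ↥(Algebra.adjoin K s)) g :
        ↥(Algebra.adjoin K s)) : A) = Polynomial.aeval x g :=
      (Polynomial.aeval_algHom_apply (Algebra.adjoin K s).val _ g).symm
    rw [h2, hy]
    rfl
  | algebraMap r =>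
    have : (⟨algebraMap K A r, Subalgebra.algebraMap_mem _ r⟩ : ↥(Algebra.adjoin K s)) =
        algebraMap K ↥(Algebra.adjoin K s) r := rfl
    rw [this]
    exact killed_algebraMap r
  | add x y hx hy ihx ihy =>
    have : (⟨x + y, add_mem hx hy⟩ : ↥(Algebra.adjoin K s)) = ⟨x, hx⟩ + ⟨y, hy⟩ := rfl
    rw [this]
    exact killed_add ihx ihy
  | mul x y hx hy ihx ihy =>
    have : (⟨x * y, mul_mem hx hy⟩ : ↥(Algebra.adjoin K s)) = ⟨x, hx⟩ * ⟨y, hy⟩ := rfl
    rw [this]
    exact killed_mul ihx ihy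


/-- Let K be a field and A a K-algebra. The supremum of the weakly etale K-subalgebras of A is itself
weakly etale over K; it is therefore the largest weakly etale K-subalgebra of A. -/
theorem result (K : Type u) [Field K] (A : Type u) [CommRing A] [Algebra K A] :
    Algebra.WeaklyEtale K ↥(EtAlgD.maxWeaklyEtale K A) := by
  have h := weaklyEtale_adjoin K A
    (⋃₀ (SetLike.coe '' {S : Subalgebra K A | Algebra.WeaklyEtale K S})) (by
      rintro x ⟨_, ⟨S, hS, rfl⟩, hxS⟩
      haveI : Algebra.WeaklyEtale K S := hS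
      obtain ⟨g, hg, hy⟩ :=
        Groth.Agent.Lib.WeaklyEtaleField96.exists_separable_aeval_eq_zero K S ⟨x, hxS⟩
      refine ⟨g, hg, ?_⟩
      have h1 : ((Polynomial.aeval (⟨x, hxS⟩ : S) g : S) : A) = Polynomial.aeval x g :=
        (Polynomial.aeval_algHom_apply S.val (⟨x, hxS⟩ : S) g).symm
      rw [← h1, hy]
      rfl)
  exact h

end Groth.Agent.S1977
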