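import Groth.Statements.S8861
import Groth.Agent.Lib.AssPoints
import Groth.Agent.Lib.StructureModule
import Groth.Agent.Lib.IdealComap
import Groth.Agent.Lib.IdealSheafGeneric

set_option autoImplicit false
universe u
open CategoryTheory CategoryTheory.Limits AlgebraicGeometry TopologicalSpace
open SDiv

namespace Groth.Agent.S8861

open Groth.Agent.Lib.QCohStalk Groth.Agent.Lib.AssPoints Groth.Agent.Lib.StructureModule
open Groth.Agent.Lib.IdealComap Groth.Agent.Lib.IdealSheafGeneric

/-- A section all of whose germs vanish is zero. -/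
theorem eq_zero_of_germ_eq_zero {X : Scheme.{u}} (M : X.Modules) {W : X.Opens} (t : Γ(M, W))
    (h : ∀ (z : X) (hz : z ∈ W), M.presheaf.germ W z hz t = 0) : t = 0 := by
  apply TopCat.Presheaf.section_ext ⟨M.presheaf, M.isSheaf⟩ W t 0
  intro z hz
  rw [map_zero]
  exact h z hz

/-- A function on an affine open which is invertible at all weakly associated points of `O_X`
is a nonzerodivisor. -/
theorem mem_nonZeroDivisors_of_isUnit_germ {X : Scheme.{u}} (U : X.Opens) (a : Γ(X, U))
    (h : ∀ (y : X) (hy : y ∈ U), Curv2.IsWeakAssPoint (Coh.structureModule X) y →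
      IsUnit (X.presheaf.germ U y hy a)) : a ∈ nonZeroDivisors Γ(X, U) := by
  have hq := isQuasicoherent_structureModule X
  rw [mem_nonZeroDivisors_iff_right]
  intro s hs
  by_contra hne
  have hne' : toSec U s ≠ 0 := hne
  obtain ⟨x, hx, hsx⟩ : ∃ (x : X) (hx : x ∈ U),
      (Coh.structureModule X).presheaf.germ U x hx (toSec U s) ≠ 0 := by
    by_contra hcon
    push Not at hcon
    exact hne' (eq_zero_of_germ_eq_zero _ _ hcon)
  obtain ⟨y, hyU, -, hyass, hsy⟩ :=
    exists_isWeakAssPoint_of_germ_ne_zero (Coh.structureModule X) (toSec U s) x hx hsx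
  have hu := h y hyU hyass
  apply hsy
  have h0 : a • toSec U s = 0 := by
    rw [← toSec_smul, mul_comm, hs]
    rfl
  have h1 := congrArg ((Coh.structureModule X).presheaf.germ U y hyU) h0
  rw [germ_smul, map_zero] at h1
  exact hu.smul_eq_zero.mp h1

/-- Let f : X ⟶ Y be a morphism of schemes and 𝓘 the ideal sheaf of an effective Cartier divisor D ⊆ Y.
If f x ∉ D for every weakly associated point x of X (weakly associated point of the structure
sheaf), then the inverse image ideal sheaf of 𝓘 on X is the ideal of an effective Cartier divisor,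
i.e. the pullback of D by f is defined. -/
theorem result {X Y : Scheme.{u}} (f : X ⟶ Y) (𝓘 : Y.IdealSheafData)
    (hD : BlowUp.IsEffCartierIdeal 𝓘)
    (h : ∀ x : ↥X, Curv2.IsWeakAssPoint (Coh.structureModule X) x → f x ∉ 𝓘.support) :
    BlowUp.IsEffCartierIdeal (𝓘.comap f) := by
  intro x
  obtain ⟨V, hxV, g, hg, hI⟩ := hD (f x)
  have hxW : x ∈ f ⁻¹ᵁ V.1 := hxV
  obtain ⟨_, ⟨U, hU, rfl⟩, hxU, hUV⟩ :=
    X.isBasis_affineOpens.exists_subset_of_mem_open hxW (f ⁻¹ᵁ V.1).2
  replace hUV : U ≤ f ⁻¹ᵁ V.1 := hUV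
  replace hU : IsAffineOpen U := hU
  refine ⟨⟨U, hU⟩, hxU, (f.appLE V.1 U hUV).hom g, ?_, ?_⟩
  · apply mem_nonZeroDivisors_of_isUnit_germ
    intro y hyU hyass
    have hfy : f y ∉ 𝓘.support := h y hyass
    have hfyV : f y ∈ V.1 := hUV hyU
    rw [mem_support_iff_le_primeIdealOf 𝓘 V V.2 (f y) hfyV, hI, Ideal.span_singleton_le_iff_mem,
      ← isUnit_germ_iff V.2 ⟨f y, hfyV⟩ g, ← Y.mem_basicOpen g (f y) hfyV] at hfy
    have hy : y ∈ X.basicOpen ((f.appLE V.1 U hUV).hom g) := by
      rw [Scheme.basicOpen_appLE]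
      exact ⟨hyU, hfy⟩
    exact (X.mem_basicOpen _ y hyU).mp hy
  · have := ideal_comap 𝓘 f V.1 V.2 U hU hUV
    rw [this]
    have hI' : 𝓘.ideal ⟨V.1, V.2⟩ = Ideal.span {g} := hI
    rw [hI', Ideal.map_span, Set.image_singleton]

end Groth.Agent.S8861
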