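import Groth.Statements.S8903
import Groth.Agent.S8861
import Groth.Agent.Lib.QCohStalk
import Groth.Agent.Lib.H90InvertibleFP
import Groth.Agent.Lib.LocFreeFP
import Mathlib.RingTheory.Flat.TorsionFree

set_option autoImplicit false
universe u
open CategoryTheory CategoryTheory.Limits AlgebraicGeometry TopologicalSpace
open SDiv

namespace Groth.Agent.S8903

open Mero Groth.Agent.Lib.QCohStalk

/-- nonzerodivisors act injectively on the stalks of an invertible module -/
theorem smul_eq_zero_of_invertible {X : Scheme.{u}} (L : X.Modules) (hL : PicF.IsInvertible L)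
    (y : X) (u : X.presheaf.stalk y) (hu : u ∈ nonZeroDivisors (X.presheaf.stalk y))
    (m : L.presheaf.stalk y) (h : u • m = 0) : m = 0 := by
  haveI := Groth.Agent.Lib.LocFreeFP.free_stalk_of_isFinLocFree
    (Groth.Agent.Lib.H90Invertible.isFinLocFree_of_isInvertible hL) y
  have hreg : IsSMulRegular (L.presheaf.stalk y) u :=
    Module.Flat.isSMulRegular_of_nonZeroDivisors hu
  exact hreg.right_eq_zero_of_smul h


theorem local_vanish {X : Scheme.{u}} (L : X.Modules) [L.IsQuasicoherent]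
    (hreg : ∀ (y : X) (u : X.presheaf.stalk y), u ∈ nonZeroDivisors (X.presheaf.stalk y) →
      ∀ m : L.presheaf.stalk y, u • m = 0 → m = 0)
    (s : Γ(Mero.merMod L, ⊤)) (U : X.Opens) (h g : Γ(X, U)) (m : Γ(L, U))
    (hv : ∀ (y : X) (hyU : y ∈ U), y ∈ X.basicOpen h →
      X.presheaf.germ U y hyU g • s.1 ⟨y, Opens.mem_top y⟩ =
        LocalizedModule.mkLinearMap (regStalk X y) _ (L.presheaf.germ U y hyU m))
    (x : X) (hxU : x ∈ U) :
    ∃ (W : X.Opens) (n : ℕ), x ∈ W ∧ ∀ (y : X) (hyU : y ∈ U), y ∈ W → ∀ k : ℕ, n ≤ k →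
      X.presheaf.germ U y hyU (h ^ k * g) • s.1 ⟨y, Opens.mem_top y⟩ =
        LocalizedModule.mkLinearMap (regStalk X y) _ (L.presheaf.germ U y hyU (h ^ k • m)) := by
  obtain ⟨V, hxV, i, a, b, hab⟩ := s.2 ⟨x, Opens.mem_top x⟩
  obtain ⟨_, ⟨W, hW, rfl⟩, hxW, hWVU⟩ :=
    X.isBasis_affineOpens.exists_subset_of_mem_open (show x ∈ V ⊓ U from ⟨hxV, hxU⟩) (V ⊓ U).2
  replace hW : IsAffineOpen W := hW
  have hWV : W ≤ V := fun y hy => (hWVU hy).1
  have hWU : W ≤ U := fun y hy => (hWVU hy).2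
  set a' : Γ(L, W) := res L hWV a with ha'
  set b' : Γ(X, W) := resO X hWV b.1 with hb'
  set g' : Γ(X, W) := resO X hWU g with hg'
  set h' : Γ(X, W) := resO X hWU h with hh'
  set m' : Γ(L, W) := res L hWU m with hm'
  set d : Γ(L, W) := g' • a' - b' • m' with hd
  -- germs
  have ea : ∀ (y : X) (hy : y ∈ W), L.presheaf.germ W y hy a' = L.presheaf.germ V y (hWV hy) a :=
    fun y hy => germ_res L hWV y hy a
  have em : ∀ (y : X) (hy : y ∈ W), L.presheaf.germ W y hy m' = L.presheaf.germ U y (hWU hy) m :=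
    fun y hy => germ_res L hWU y hy m
  have eb : ∀ (y : X) (hy : y ∈ W), X.presheaf.germ W y hy b' = X.presheaf.germ V y (hWV hy) b.1 :=
    fun y hy => germO_res X hWV y hy b.1
  have eg : ∀ (y : X) (hy : y ∈ W), X.presheaf.germ W y hy g' = X.presheaf.germ U y (hWU hy) g :=
    fun y hy => germO_res X hWU y hy g
  have eh : ∀ (y : X) (hy : y ∈ W), X.presheaf.germ W y hy h' = X.presheaf.germ U y (hWU hy) h :=
    fun y hy => germO_res X hWU y hy h
  have hsy : ∀ (y : X) (hy : y ∈ W), s.1 ⟨y, Opens.mem_top y⟩ =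
      LocalizedModule.mk (L.presheaf.germ V y (hWV hy) a) (regGerm ⟨y, hWV hy⟩ b) :=
    fun y hy => hab ⟨y, hWV hy⟩
  have hdy : ∀ (y : X) (hy : y ∈ W), L.presheaf.germ W y hy d =
      X.presheaf.germ U y (hWU hy) g • L.presheaf.germ V y (hWV hy) a -
        X.presheaf.germ V y (hWV hy) b.1 • L.presheaf.germ U y (hWU hy) m := by
    intro y hy
    rw [hd, map_sub, Mero.germ_smul, Mero.germ_smul, ea, em, eb, eg]
  have hres : res L (X.basicOpen_le h') d = 0 := by
    apply Groth.Agent.S8861.eq_zero_of_germ_eq_zero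
    intro y hy
    have hyW : y ∈ W := X.basicOpen_le h' hy
    have hyh : y ∈ X.basicOpen h := by
      have : y ∈ W ⊓ X.basicOpen h := by
        rw [← Scheme.basicOpen_res]
        exact hy
      exact this.2
    rw [germ_res, hdy y hyW]
    have h1 := hv y (hWU hyW) hyh
    rw [hsy y hyW, LocalizedModule.smul'_mk, LocalizedModule.mkLinearMap_apply,
      LocalizedModule.mk_eq] at h1
    obtain ⟨u, hu⟩ := h1
    simp only [one_smul, Submonoid.smul_def] at hu
    have h2 : (u : X.presheaf.stalk y) •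
        (X.presheaf.germ U y (hWU hyW) g • L.presheaf.germ V y (hWV hyW) a -
          X.presheaf.germ V y (hWV hyW) b.1 • L.presheaf.germ U y (hWU hyW) m) = 0 := by
      rw [smul_sub, sub_eq_zero]
      exact hu
    exact hreg y u (regStalk_le_nonZeroDivisors y u.2) _ h2
  obtain ⟨n, hn⟩ := exists_pow_smul_eq_zero L hW h' d hres
  refine ⟨W, n, hxW, fun y hyU hyW k hk => ?_⟩
  rw [hsy y hyW, LocalizedModule.smul'_mk, LocalizedModule.mkLinearMap_apply,
    LocalizedModule.mk_eq]
  refine ⟨1, ?_⟩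
  simp only [one_smul, Submonoid.smul_def]
  have hkd : h' ^ k • d = 0 := by
    obtain ⟨j, rfl⟩ := Nat.exists_eq_add_of_le hk
    rw [pow_add, mul_comm, mul_smul, hn, smul_zero]
  have h3 := congrArg (L.presheaf.germ W y hyW) hkd
  rw [map_zero, Mero.germ_smul, hdy y hyW, map_pow, eh y hyW, smul_sub, sub_eq_zero] at h3
  rw [map_mul, map_pow, Mero.germ_smul, map_pow, mul_smul]
  rw [h3, smul_comm]


theorem global_vanish {X : Scheme.{u}} (L : X.Modules) [L.IsQuasicoherent]
    (hreg : ∀ (y : X) (u : X.presheaf.stalk y), u ∈ nonZeroDivisors (X.presheaf.stalk y) →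
      ∀ m : L.presheaf.stalk y, u • m = 0 → m = 0)
    (s : Γ(Mero.merMod L, ⊤)) (U : X.Opens) (hU : IsCompact (U : Set X)) (h g : Γ(X, U))
    (m : Γ(L, U))
    (hv : ∀ (y : X) (hyU : y ∈ U), y ∈ X.basicOpen h →
      X.presheaf.germ U y hyU g • s.1 ⟨y, Opens.mem_top y⟩ =
        LocalizedModule.mkLinearMap (regStalk X y) _ (L.presheaf.germ U y hyU m)) :
    ∃ N : ℕ, ∀ (y : X) (hyU : y ∈ U),
      X.presheaf.germ U y hyU (h ^ N * g) • s.1 ⟨y, Opens.mem_top y⟩ =
        LocalizedModule.mkLinearMap (regStalk X y) _ (L.presheaf.germ U y hyU (h ^ N • m)) := by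
  choose W n hxW hWn using fun x : U => local_vanish L hreg s U h g m hv x.1 x.2
  obtain ⟨t, ht⟩ := hU.elim_nhds_subcover' (fun x hx => (W ⟨x, hx⟩ : Set X))
    (fun x hx => (W ⟨x, hx⟩).2.mem_nhds (hxW ⟨x, hx⟩))
  refine ⟨t.sup n, fun y hyU => ?_⟩
  have hy : y ∈ ⋃ x ∈ t, (W ⟨x.1, x.2⟩ : Set X) := ht hyU
  simp only [Set.mem_iUnion] at hy
  obtain ⟨x, hxt, hy⟩ := hy
  exact hWn x y hyU hy _ (Finset.le_sup hxt)


theorem map_denomIdeal_basicOpen {X : Scheme.{u}} (L : X.Modules) [L.IsQuasicoherent]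
    (hreg : ∀ (y : X) (u : X.presheaf.stalk y), u ∈ nonZeroDivisors (X.presheaf.stalk y) →
      ∀ m : L.presheaf.stalk y, u • m = 0 → m = 0)
    (s : Γ(Mero.merMod L, ⊤)) (U : X.Opens) (hU : IsAffineOpen U) (f : Γ(X, U)) :
    (Mero.denomIdeal L s U).map (X.presheaf.map (homOfLE (X.basicOpen_le f)).op).hom =
      Mero.denomIdeal L s (X.basicOpen f) := by
  apply le_antisymm
  · rw [Ideal.map_le_iff_le_comap]
    rintro g ⟨m, hm⟩
    refine ⟨res L (X.basicOpen_le f) m, fun x => ?_⟩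
    have h1 := hm ⟨x.1, X.basicOpen_le f x.2⟩
    rw [germ_res]
    have e : X.presheaf.germ (X.basicOpen f) x.1 x.2
        ((X.presheaf.map (homOfLE (X.basicOpen_le f)).op).hom g) =
        X.presheaf.germ U x.1 (X.basicOpen_le f x.2) g :=
      TopCat.Presheaf.germ_res_apply X.presheaf (homOfLE (X.basicOpen_le f)) x.1 x.2 g
    rw [e]
    exact h1
  · rintro g' ⟨m', hm'⟩
    haveI hloc : IsLocalization.Away f Γ(X, X.basicOpen f) := hU.isLocalization_basicOpen f
    obtain ⟨⟨g₀, ⟨_, k, rfl⟩⟩, hg₀⟩ := IsLocalization.surj (Submonoid.powers f) g'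
    simp only at hg₀
    obtain ⟨l, m₀, hm₀⟩ := exists_pow_smul_eq_res L hU f m'
    have hv : ∀ (y : X) (hyU : y ∈ U), y ∈ X.basicOpen f →
        X.presheaf.germ U y hyU (f ^ l * g₀) • s.1 ⟨y, Opens.mem_top y⟩ =
          LocalizedModule.mkLinearMap (regStalk X y) _
            (L.presheaf.germ U y hyU (f ^ k • m₀)) := by
      intro y hyU hyf
      have h1 := hm' ⟨y, hyf⟩
      dsimp only at h1
      have ef : ∀ r : Γ(X, U), X.presheaf.germ (X.basicOpen f) y hyf
          (algebraMap Γ(X, U) Γ(X, X.basicOpen f) r) = X.presheaf.germ U y hyU r := fun r =>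
        TopCat.Presheaf.germ_res_apply X.presheaf (homOfLE (X.basicOpen_le f)) y hyf r
      have e1 : X.presheaf.germ U y hyU g₀ =
          X.presheaf.germ (X.basicOpen f) y hyf g' * X.presheaf.germ U y hyU f ^ k := by
        have h2 := congrArg (X.presheaf.germ (X.basicOpen f) y hyf) hg₀
        rw [map_mul, ef, ef, map_pow] at h2
        exact h2.symm
      have e2 : X.presheaf.germ U y hyU f ^ l • L.presheaf.germ (X.basicOpen f) y hyf m' =
          L.presheaf.germ U y hyU m₀ := by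
        have h2 := congrArg (L.presheaf.germ (X.basicOpen f) y hyf) hm₀
        rw [Mero.germ_smul, germ_res, map_pow, germO_res] at h2
        exact h2
      rw [map_mul, map_pow, Mero.germ_smul, map_pow, e1, ← e2, map_smul, map_smul, ← h1,
        smul_smul, smul_smul]
      congr 1
      ring
    obtain ⟨N, hN⟩ := global_vanish L hreg s U hU.isCompact f (f ^ l * g₀) (f ^ k • m₀) hv
    have hGmem : f ^ N * (f ^ l * g₀) ∈ Mero.denomIdeal L s U :=
      ⟨f ^ N • (f ^ k • m₀), fun y => hN y.1 y.2⟩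
    have hu : IsUnit (algebraMap Γ(X, U) Γ(X, X.basicOpen f) f) :=
      IsLocalization.map_units Γ(X, X.basicOpen f) (⟨f, Submonoid.mem_powers f⟩ : Submonoid.powers f)
    obtain ⟨v, hv'⟩ := hu
    have hG : algebraMap Γ(X, U) Γ(X, X.basicOpen f) (f ^ N * (f ^ l * g₀)) =
        (v : Γ(X, X.basicOpen f)) ^ N * ((v : Γ(X, X.basicOpen f)) ^ l *
          (g' * (v : Γ(X, X.basicOpen f)) ^ k)) := by
      rw [map_mul, map_mul, map_pow, map_pow, ← hg₀, map_pow, hv']
    have hg' : g' = algebraMap Γ(X, U) Γ(X, X.basicOpen f) (f ^ N * (f ^ l * g₀)) *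
        ((v⁻¹ : (Γ(X, X.basicOpen f))ˣ) : Γ(X, X.basicOpen f)) ^ (N + l + k) := by
      have hvv : (v : Γ(X, X.basicOpen f)) * ((v⁻¹ : (Γ(X, X.basicOpen f))ˣ) : Γ(X, X.basicOpen f)) = 1 :=
        Units.mul_inv v
      rw [hG]
      calc g' = g' * ((v : Γ(X, X.basicOpen f)) *
            ((v⁻¹ : (Γ(X, X.basicOpen f))ˣ) : Γ(X, X.basicOpen f))) ^ (N + l + k) := by
              rw [hvv, one_pow, mul_one]
        _ = _ := by ring
    rw [hg']
    exact Ideal.mul_mem_right _ _ (Ideal.mem_map_of_mem _ hGmem)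

theorem interior_support_eq_empty {X : Scheme.{u}} (L : X.Modules) (s : Γ(Mero.merMod L, ⊤))
    (I : X.IdealSheafData) (hI : ∀ U : X.affineOpens, I.ideal U = Mero.denomIdeal L s U.1) :
    interior (I.support : Set X) = ∅ := by
  rw [Set.eq_empty_iff_forall_notMem]
  intro x hx
  rw [mem_interior] at hx
  obtain ⟨O, hOsub, hOopen, hxO⟩ := hx
  obtain ⟨V, hxV, i, a, b, hab⟩ := s.2 ⟨x, Opens.mem_top x⟩
  obtain ⟨_, ⟨W, hW, rfl⟩, hxW, hWVO⟩ :=
    X.isBasis_affineOpens.exists_subset_of_mem_open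
      (show x ∈ V ⊓ ⟨O, hOopen⟩ from ⟨hxV, hxO⟩) (V ⊓ ⟨O, hOopen⟩).2
  replace hW : IsAffineOpen W := hW
  have hWV : W ≤ V := fun y hy => (hWVO hy).1
  have hWO : (W : Set X) ⊆ O := fun y hy => (hWVO hy).2
  set b' : Γ(X, W) := resO X hWV b.1 with hb'
  have hb'mem : b' ∈ I.ideal ⟨W, hW⟩ := by
    rw [hI]
    refine ⟨res L hWV a, fun y => ?_⟩
    have h1 : s.1 ⟨y.1, Opens.mem_top y.1⟩ =
        LocalizedModule.mk (L.presheaf.germ V y.1 (hWV y.2) a) (regGerm ⟨y.1, hWV y.2⟩ b) :=
      hab ⟨y.1, hWV y.2⟩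
    rw [h1, LocalizedModule.smul'_mk, LocalizedModule.mkLinearMap_apply, LocalizedModule.mk_eq]
    refine ⟨1, ?_⟩
    simp only [one_smul, Submonoid.smul_def]
    rw [germ_res, hb', germO_res]
  have hbo : X.basicOpen b' = ⊥ := by
    rw [eq_bot_iff]
    intro y hy
    have hyW : y ∈ W := X.basicOpen_le b' hy
    have hys : y ∈ I.support := hOsub (hWO hyW)
    rw [Scheme.IdealSheafData.mem_support_iff_of_mem (U := ⟨W, hW⟩) hyW,
      Scheme.mem_zeroLocus_iff] at hys
    exact hys b' hb'mem hy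
  have hnil : IsNilpotent b' :=
    (Scheme.isNilpotent_iff_basicOpen_eq_bot_of_isCompact hW.isCompact b').mpr hbo
  obtain ⟨n, hn⟩ := hnil
  have h1 : X.presheaf.germ W x hxW b' ∈ nonZeroDivisors (X.presheaf.stalk x) := by
    rw [hb', germO_res]
    exact b.2 ⟨x, hxV⟩
  have h2 := pow_mem h1 n
  rw [← map_pow, hn, map_zero] at h2
  exact zero_notMem_nonZeroDivisors h2


/-- Suppose X is a scheme, L is an O_X-module that is invertible, and s is a meromorphic section of L
which is regular. Then the ideal of denominators of s, U ↦ {f ∈ O_X(U) | f·s ∈ L(U)}, is a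
quasi-coherent ideal sheaf: there is a quasi-coherent ideal sheaf I whose ideal on every affine open
U is the ideal of denominators over U; and the closed subset of X cut out by I (the support of
O_X/I) is nowhere dense. The published statement also asserts that the cokernel of the map I → L
given by s is supported on a closed nowhere dense subset; this row does not state that part. -/
theorem result (X : Scheme.{u}) (L : X.Modules) (hL : PicF.IsInvertible L)
    (s : Γ(Mero.merMod L, ⊤)) (hs : Mero.IsRegularMero L s) :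
    ∃ I : X.IdealSheafData, (∀ U : X.affineOpens, I.ideal U = Mero.denomIdeal L s U.1) ∧
      interior (I.support : Set ↥X) = ∅ := by
  haveI : L.IsQuasicoherent := Groth.Agent.Lib.H90Invertible.isQCoh_of_isInvertible hL
  have hreg := smul_eq_zero_of_invertible L hL
  let I : X.IdealSheafData :=
    { ideal := fun U => Mero.denomIdeal L s U.1
      map_ideal_basicOpen := fun U f => map_denomIdeal_basicOpen L hreg s U.1 U.2 f }
  exact ⟨I, fun U => rfl, interior_support_eq_empty L s I (fun U => rfl)⟩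

end Groth.Agent.S8903
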