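import Groth.Statements.S5096
import Groth.Agent.Lib.MeroDiv82

set_option autoImplicit false
universe u
open CategoryTheory CategoryTheory.Limits AlgebraicGeometry TopologicalSpace
open Mero

namespace Groth.Agent.S5096

open Mero Groth.Agent.Lib.H90Invertible Groth.Agent.Lib.MeroDiv82

variable {X : Scheme.{u}}

theorem units_apply_mul_inv {U : X.Opens} (f : (Γ(Mero.kmod X, U))ˣ) (z : U) :
    f.val.1 z * (f⁻¹ : (Γ(Mero.kmod X, U))ˣ).val.1 z = 1 := by
  have h1 : f.val * (f⁻¹ : (Γ(Mero.kmod X, U))ˣ).val = 1 := Units.mul_inv f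
  have h2 := congrArg (fun r : Γ(Mero.kmod X, U) => r.1 z) h1
  simpa only [Mero.kmod_mul_apply, Mero.kmod_one_apply] using h2

/-- if `D_z` is the class of `f_z` then `t` satisfies the divisor condition iff `t * f_z` is a
function germ -/
theorem divCond_iff {U : X.Opens} (D : Mero.Divisor X) (f : (Γ(Mero.kmod X, U))ˣ) (z : U)
    (hD : D.1 z.1 = Mero.germOf f z) (t : KStalk X z.1) :
    Mero.DivCond D z.1 t ↔
      t * f.val.1 z ∈ (algebraMap (X.presheaf.stalk z.1) (KStalk X z.1)).range := by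
  constructor
  · intro h
    exact h (Units.map (Mero.evalK X U z).toMonoidHom f) hD
  · intro h g hg
    rw [hD] at hg
    have h1 := QuotientGroup.eq.mp hg
    obtain ⟨w, hw⟩ := h1
    have h2 := congrArg Units.val hw
    simp only [Units.coe_map, Units.val_mul] at h2
    -- g = f_z * alg w
    have h3 : (g : KStalk X z.1) = f.val.1 z * algebraMap _ _ (w : X.presheaf.stalk z.1) := by
      have h4 : ((Units.map (Mero.evalK X U z).toMonoidHom f)⁻¹ : (KStalk X z.1)ˣ).val =
          (f⁻¹ : (Γ(Mero.kmod X, U))ˣ).val.1 z := by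
        rw [← map_inv]
        rfl
      rw [h4] at h2
      have h5 : algebraMap (X.presheaf.stalk z.1) (KStalk X z.1) (w : X.presheaf.stalk z.1) =
          (f⁻¹ : (Γ(Mero.kmod X, U))ˣ).val.1 z * (g : KStalk X z.1) := h2
      rw [h5, ← mul_assoc, units_apply_mul_inv, one_mul]
    rw [h3, ← mul_assoc]
    exact mul_mem h ⟨_, rfl⟩


/-- For every divisor D on a scheme X, the fractional ideal O_X(D) — the sub-O_X-module of the sheaf of
meromorphic functions whose sections are the t with t_x · g ∈ O_{X,x} for a representative g of the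
germ of D at x, at every point x — is an invertible O_X-module (locally isomorphic to O_X; where D
is the divisor of a local unit g of K_X it is O · g⁻¹). -/
theorem result (X : Scheme.{u}) (D : Mero.Divisor X) : PicF.IsInvertible (Mero.divMod D) := by
  rw [isInvertible_iff_exists_isGen]
  intro x
  obtain ⟨U, hxU, f, hf⟩ := D.2 x
  have hpred : (Mero.divLoc X D).pred (f⁻¹ : (Γ(Mero.kmod X, U))ˣ).val.1 := by
    refine ⟨(f⁻¹ : (Γ(Mero.kmod X, U))ˣ).val.2, fun z => ?_⟩
    rw [divCond_iff D f z (hf z), mul_comm, units_apply_mul_inv]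
    exact one_mem _
  let s : Γ(Mero.divMod D, U) := ⟨(f⁻¹ : (Γ(Mero.kmod X, U))ˣ).val.1, hpred⟩
  refine ⟨U, hxU, s, ?_⟩
  intro W hWU
  constructor
  · intro a a' haa'
    apply TopCat.Presheaf.section_ext X.sheaf W
    intro z hz
    have h1 := congrArg (fun t : Γ(Mero.divMod D, W) => t.1 ⟨z, hz⟩) haa'
    change X.presheaf.germ W z hz a • (f⁻¹ : (Γ(Mero.kmod X, U))ˣ).val.1 ⟨z, hWU hz⟩ =
      X.presheaf.germ W z hz a' • (f⁻¹ : (Γ(Mero.kmod X, U))ˣ).val.1 ⟨z, hWU hz⟩ at h1
    rw [Algebra.smul_def, Algebra.smul_def] at h1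
    have h2 := congrArg (fun t => t * f.val.1 ⟨z, hWU hz⟩) h1
    simp only [mul_assoc] at h2
    rw [mul_comm _ (f.val.1 ⟨z, hWU hz⟩), units_apply_mul_inv, mul_one, mul_one] at h2
    exact algebraMap_KStalk_injective z h2
  · intro t
    let t' : Γ(Mero.kmod X, W) := ⟨t.1, t.2.1⟩
    let fW : Γ(Mero.kmod X, W) := (Mero.kmod X).presheaf.map (homOfLE hWU).op f.val
    obtain ⟨r, hr⟩ := exists_toK_eq W (t' * fW) (fun z => by
      have h1 := t.2.2 z
      rw [divCond_iff D f ⟨z.1, hWU z.2⟩ (hf ⟨z.1, hWU z.2⟩)] at h1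
      exact h1)
    refine ⟨r, ?_⟩
    apply Subtype.ext
    funext z
    change X.presheaf.germ W z.1 z.2 r • (f⁻¹ : (Γ(Mero.kmod X, U))ˣ).val.1 ⟨z.1, hWU z.2⟩ = t.1 z
    have h1 := congrArg (fun q : Γ(Mero.kmod X, W) => q.1 z) hr
    change (LocalizedModule.mk (X.presheaf.germ W z.1 z.2 r) 1 : KStalk X z.1) =
      t.1 z * f.val.1 ⟨z.1, hWU z.2⟩ at h1
    rw [Algebra.smul_def, algebraMap_eq_mk, h1, mul_assoc, units_apply_mul_inv, mul_one]

end Groth.Agent.S5096
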