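import Groth.Statements.S8863
import Mathlib.AlgebraicGeometry.Noetherian
import Mathlib.RingTheory.Support
import Mathlib.Tactic.Ring

set_option autoImplicit false
universe u
open CategoryTheory CategoryTheory.Limits AlgebraicGeometry TopologicalSpace
open SDiv

namespace Groth.Agent.S8863


section Algebra

variable {A : Type*} [CommRing A]

/-- In a Noetherian ring, if `g` becomes a nonzerodivisor in the localization at `p`, then some
`s ∉ p` kills the annihilator of `g`. -/
theorem exists_kills_ann [IsNoetherianRing A] (p : Ideal A) [p.IsPrime]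
    (A' : Type*) [CommRing A'] [Algebra A A'] [IsLocalization.AtPrime A' p] (g : A)
    (hg : algebraMap A A' g ∈ nonZeroDivisors A') :
    ∃ s : A, s ∉ p ∧ ∀ a : A, g * a = 0 → s * a = 0 := by
  let K : Ideal A := LinearMap.ker (LinearMap.mul A A g)
  have hKmem : ∀ a : A, a ∈ K ↔ g * a = 0 := by
    intro a
    simp [K, LinearMap.mem_ker]
  have hfin : Module.Finite A K := Module.IsNoetherian.finite A K
  have hsupp : (⟨p, inferInstance⟩ : PrimeSpectrum A) ∉ Module.support A K := by
    rw [Module.notMem_support_iff']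
    rintro ⟨k, hk⟩
    rw [hKmem] at hk
    have h1 : algebraMap A A' k = 0 := by
      apply (mem_nonZeroDivisors_iff_right.mp hg)
      rw [mul_comm, ← map_mul, hk, map_zero]
    obtain ⟨r, hr⟩ := (IsLocalization.map_eq_zero_iff p.primeCompl A' k).mp h1
    refine ⟨r.1, r.2, ?_⟩
    apply Subtype.ext
    simpa using hr
  rw [Module.mem_support_iff_of_finite] at hsupp
  obtain ⟨s, hsann, hsp⟩ := SetLike.not_le_iff_exists.mp hsupp
  refine ⟨s, hsp, fun a ha => ?_⟩
  have := Module.mem_annihilator.mp hsann ⟨a, (hKmem a).mpr ha⟩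
  simpa using congrArg Subtype.val this

/-- If `s ∉ q` kills the annihilator of `g`, then `g` is a nonzerodivisor in the localization
at `q`. -/
theorem map_mem_nonZeroDivisors_of_kills (q : Ideal A) [q.IsPrime]
    (A' : Type*) [CommRing A'] [Algebra A A'] [IsLocalization.AtPrime A' q] (g s : A)
    (hs : s ∉ q) (h : ∀ a : A, g * a = 0 → s * a = 0) :
    algebraMap A A' g ∈ nonZeroDivisors A' := by
  rw [mem_nonZeroDivisors_iff_right]
  intro β hβ
  obtain ⟨a, t, rfl⟩ := IsLocalization.exists_mk'_eq q.primeCompl β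
  have h1 : algebraMap A A' (a * g) = 0 := by
    have : algebraMap A A' (a * g) = algebraMap A A' t.1 * (IsLocalization.mk' A' a t * algebraMap A A' g) := by
      rw [← mul_assoc, IsLocalization.mk'_spec', map_mul]
    rw [this, hβ, mul_zero]
  obtain ⟨r, hr⟩ := (IsLocalization.map_eq_zero_iff q.primeCompl A' (a * g)).mp h1
  have h2 : g * (r.1 * a) = 0 := by
    rw [← hr]; ring
  have h3 := h _ h2
  rw [IsLocalization.mk'_eq_zero_iff]
  refine ⟨⟨s * r.1, q.primeCompl.mul_mem hs r.2⟩, ?_⟩
  rw [← h3]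
  simp only
  ring

end Algebra

/-- Let X be a locally Noetherian scheme and x a point of X. Then the monoid S_x of germs at x of
regular sections of O_X (sections whose germ at every point of their open of definition is a
nonzerodivisor) is the whole monoid of nonzerodivisors of O_{X,x}; consequently K_{X,x} is the total
ring of fractions of O_{X,x}. -/
theorem result (X : Scheme.{u}) [IsLocallyNoetherian X] (x : ↥X) :
    Mero.regStalk X x = nonZeroDivisors ↑(X.presheaf.stalk x) := by
  apply le_antisymm (Mero.regStalk_le_nonZeroDivisors x)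
  intro γ hγ
  obtain ⟨U, hxU, g₀, rfl⟩ := X.presheaf.exists_germ_eq (x := x) γ
  obtain ⟨_, ⟨W, hW, rfl⟩, hxW, hWU⟩ :=
    X.isBasis_affineOpens.exists_subset_of_mem_open hxU U.2
  replace hWU : W ≤ U := hWU
  replace hW : IsAffineOpen W := hW
  set g : Γ(X, W) := X.presheaf.map (homOfLE hWU).op g₀ with hg
  have hgx : X.presheaf.germ W x hxW g = X.presheaf.germ U x hxU g₀ := by
    rw [hg, TopCat.Presheaf.germ_res_apply]
  rw [← hgx] at hγ ⊢
  have hnoeth : IsNoetherianRing Γ(X, W) := IsLocallyNoetherian.component_noetherian ⟨W, hW⟩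
  letI alg : Algebra Γ(X, W) (X.presheaf.stalk x) := X.presheaf.algebra_section_stalk ⟨x, hxW⟩
  haveI hloc : IsLocalization.AtPrime (X.presheaf.stalk x) (hW.primeIdealOf ⟨x, hxW⟩).asIdeal :=
    hW.isLocalization_stalk ⟨x, hxW⟩
  have hγ' : algebraMap Γ(X, W) (X.presheaf.stalk x) g ∈ nonZeroDivisors (X.presheaf.stalk x) := hγ
  obtain ⟨s, hsp, hs⟩ := exists_kills_ann (hW.primeIdealOf ⟨x, hxW⟩).asIdeal
    (X.presheaf.stalk x) g hγ'
  have hle : X.basicOpen s ≤ W := X.basicOpen_le s
  refine ⟨X.basicOpen s, ?_, X.presheaf.map (homOfLE hle).op g, ?_, ?_⟩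
  · rw [X.mem_basicOpen s x hxW]
    exact (IsLocalization.AtPrime.isUnit_to_map_iff (X.presheaf.stalk x)
      (hW.primeIdealOf ⟨x, hxW⟩).asIdeal s).mpr hsp
  · intro y
    have hyW : y.1 ∈ W := hle y.2
    letI algy : Algebra Γ(X, W) (X.presheaf.stalk y.1) :=
      X.presheaf.algebra_section_stalk ⟨y.1, hyW⟩
    haveI hlocy : IsLocalization.AtPrime (X.presheaf.stalk y.1)
        (hW.primeIdealOf ⟨y.1, hyW⟩).asIdeal := hW.isLocalization_stalk ⟨y.1, hyW⟩
    have hsy : s ∉ (hW.primeIdealOf ⟨y.1, hyW⟩).asIdeal := by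
      have h1 := (X.mem_basicOpen s y.1 hyW).mp y.2
      exact (IsLocalization.AtPrime.isUnit_to_map_iff (X.presheaf.stalk y.1)
        (hW.primeIdealOf ⟨y.1, hyW⟩).asIdeal s).mp h1
    have := map_mem_nonZeroDivisors_of_kills (hW.primeIdealOf ⟨y.1, hyW⟩).asIdeal
      (X.presheaf.stalk y.1) g s hsy hs
    rw [TopCat.Presheaf.germ_res_apply]
    exact this
  · rw [TopCat.Presheaf.germ_res_apply]

end Groth.Agent.S8863
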