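import Groth.Statements.S14950
import Mathlib.LinearAlgebra.TensorProduct.RightExactness

set_option autoImplicit false
universe u
open TensorProduct
open EtAlg

namespace Groth.Agent.S14950

section
variable {B' B A' A : Type u} [CommRing B'] [CommRing B] [CommRing A'] [CommRing A]
    [Algebra B' B] [Algebra B' A'] [Algebra B A] [Algebra A' A] [Algebra B' A] [IsScalarTower B' B A] [IsScalarTower B' A' A]

theorem surjective_algebraMap (hsq : EtMil.IsFibreSquare B' B A' A) :
    Function.Surjective (algebraMap B' B) := by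
  intro b
  obtain ⟨a', ha'⟩ := hsq.1 (algebraMap B A b)
  obtain ⟨b', ⟨hb', _⟩, _⟩ := hsq.2 b a' ha'.symm
  exact ⟨b', hb'⟩

theorem eq_of_eq (hsq : EtMil.IsFibreSquare B' B A' A) {x y : B'}
    (h1 : algebraMap B' B x = algebraMap B' B y) (h2 : algebraMap B' A' x = algebraMap B' A' y) : x = y := by
  have hc : algebraMap B A (algebraMap B' B y) = algebraMap A' A (algebraMap B' A' y) := by
    rw [← IsScalarTower.algebraMap_apply, ← IsScalarTower.algebraMap_apply]
  obtain ⟨z, _, hz⟩ := hsq.2 _ _ hc
  rw [hz x ⟨h1, h2⟩, hz y ⟨rfl, rfl⟩]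

/-- For `j` in the kernel of `B' → B` and `a' : A'`, the element of `B'` mapping to `(0, ι j * a')`. -/
theorem exists_mulKer (hsq : EtMil.IsFibreSquare B' B A' A) (j : B') (hj : algebraMap B' B j = 0) (a' : A') :
    ∃ c : B', algebraMap B' B c = 0 ∧ algebraMap B' A' c = algebraMap B' A' j * a' := by
  have h0 : algebraMap A' A (algebraMap B' A' j) = 0 := by
    rw [← IsScalarTower.algebraMap_apply, IsScalarTower.algebraMap_apply B' B A, hj, map_zero]
  obtain ⟨c, ⟨hc1, hc2⟩, _⟩ := hsq.2 0 (algebraMap B' A' j * a') (by rw [map_zero, map_mul, h0, zero_mul])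
  exact ⟨c, hc1, hc2⟩

/-- The `B'`-linear map `A' → B'`, `a' ↦ j * a'` for `j ∈ ker (B' → B)`. -/
noncomputable def mulKer (hsq : EtMil.IsFibreSquare B' B A' A) (j : B') (hj : algebraMap B' B j = 0) :
    A' →ₗ[B'] B' where
  toFun a' := (exists_mulKer hsq j hj a').choose
  map_add' x y := by
    have hx := (exists_mulKer hsq j hj x).choose_spec
    have hy := (exists_mulKer hsq j hj y).choose_spec
    have hxy := (exists_mulKer hsq j hj (x + y)).choose_spec
    apply eq_of_eq hsq
    · rw [map_add, hxy.1, hx.1, hy.1, add_zero]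
    · rw [map_add, hxy.2, hx.2, hy.2, mul_add]
  map_smul' c x := by
    have hx := (exists_mulKer hsq j hj x).choose_spec
    have hcx := (exists_mulKer hsq j hj (c • x)).choose_spec
    apply eq_of_eq hsq
    · rw [RingHom.id_apply, smul_eq_mul, map_mul, hcx.1, hx.1, mul_zero]
    · rw [RingHom.id_apply, smul_eq_mul, map_mul, hcx.2, hx.2, Algebra.smul_def]
      ring

theorem mulKer_one (hsq : EtMil.IsFibreSquare B' B A' A) (j : B') (hj : algebraMap B' B j = 0) :
    mulKer hsq j hj 1 = j := by
  have h1 := (exists_mulKer hsq j hj 1).choose_spec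
  apply eq_of_eq hsq
  · change algebraMap B' B (exists_mulKer hsq j hj 1).choose = _
    rw [h1.1, hj]
  · change algebraMap B' A' (exists_mulKer hsq j hj 1).choose = _
    rw [h1.2, mul_one]

end


/-- Let B' = B ×_A A' be a fibre product of commutative rings with A' → A surjective, let J be the
kernel of B' → B and L' a B'-module. The canonical map from L' to pairs in (B ⊗_{B'} L') × (A'
⊗_{B'} L') has kernel annihilated by J and contained in J L': if l ∈ L' satisfies 1 ⊗ l = 0 in B
⊗_{B'} L' and 1 ⊗ l = 0 in A' ⊗_{B'} L', then j • l = 0 for every j ∈ J, and l ∈ J L'. (Surjectivity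
of that map onto the compatible pairs is a separate result.) -/
theorem result (B' B A' A : Type u) [CommRing B'] [CommRing B] [CommRing A'] [CommRing A]
    [Algebra B' B] [Algebra B' A'] [Algebra B A] [Algebra A' A] [Algebra B' A] [IsScalarTower B' B A] [IsScalarTower B' A' A]
    (hsq : EtMil.IsFibreSquare B' B A' A)
    (L' : Type u) [AddCommGroup L'] [Module B' L'] (l : L')
    (h1 : ((1 : B) ⊗ₜ[B'] l : B ⊗[B'] L') = 0) (h2 : ((1 : A') ⊗ₜ[B'] l : A' ⊗[B'] L') = 0) :
    (∀ j : B', algebraMap B' B j = 0 → j • l = 0) ∧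
      l ∈ (RingHom.ker (algebraMap B' B)) • (⊤ : Submodule B' L') := by
  constructor
  · intro j hj
    let Φ : A' ⊗[B'] L' →ₗ[B'] L' := TensorProduct.lift ((LinearMap.lsmul B' L').comp (mulKer hsq j hj))
    have := congrArg Φ h2
    rw [map_zero] at this
    change (mulKer hsq j hj 1) • l = 0 at this
    rw [mulKer_one] at this
    exact this
  · -- B ⊗ L' ≅ L' / J L'
    have hsurj := surjective_algebraMap hsq
    let g : B' →ₗ[B'] B := (Algebra.linearMap B' B)
    have hg : Function.Surjective g := hsurj
    have hex : Function.Exact ((LinearMap.ker g).subtype.rTensor L') (g.rTensor L') :=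
      rTensor_exact L' (LinearMap.exact_subtype_ker_map g) hg
    have hz : g.rTensor L' ((1 : B') ⊗ₜ[B'] l) = 0 := by
      rw [LinearMap.rTensor_tmul]
      change (algebraMap B' B 1) ⊗ₜ[B'] l = 0
      rw [map_one, h1]
    obtain ⟨t, ht⟩ := (hex _).mp hz
    have ht' := congrArg (TensorProduct.lid B' L') ht
    rw [TensorProduct.lid_tmul, one_smul] at ht'
    rw [← ht']
    clear ht ht' hz
    induction t using TensorProduct.induction_on with
    | zero => simp
    | tmul j x =>
      rw [LinearMap.rTensor_tmul, TensorProduct.lid_tmul]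
      exact Submodule.smul_mem_smul j.2 Submodule.mem_top
    | add a b ha hb =>
      rw [map_add, map_add]
      exact add_mem ha hb

end Groth.Agent.S14950
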