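import Groth.Statements.S14949
import Groth.Agent.S14950

set_option autoImplicit false
universe u
open TensorProduct
open EtAlg

namespace Groth.Agent.S14949


/-- Let B' = B ×_A A' be a fibre product of commutative rings with A' → A surjective, and let L' be a
B'-module. If B ⊗_{B'} L' = 0 and A' ⊗_{B'} L' = 0 then L' = 0. (The converse is clear.) -/
theorem result (B' B A' A : Type u) [CommRing B'] [CommRing B] [CommRing A'] [CommRing A]
    [Algebra B' B] [Algebra B' A'] [Algebra B A] [Algebra A' A] [Algebra B' A] [IsScalarTower B' B A] [IsScalarTower B' A' A]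
    (hsq : EtMil.IsFibreSquare B' B A' A)
    (L' : Type u) [AddCommGroup L'] [Module B' L']
    [Subsingleton (B ⊗[B'] L')] [Subsingleton (A' ⊗[B'] L')] : Subsingleton L' := by
  have key : ∀ l : L', (∀ j : B', algebraMap B' B j = 0 → j • l = 0) ∧
      l ∈ (RingHom.ker (algebraMap B' B)) • (⊤ : Submodule B' L') := fun l =>
    Groth.Agent.S14950.result B' B A' A hsq L' l (Subsingleton.elim _ _) (Subsingleton.elim _ _)
  have hzero : (RingHom.ker (algebraMap B' B)) • (⊤ : Submodule B' L') = ⊥ := by
    rw [eq_bot_iff]
    apply Submodule.smul_le.mpr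
    intro j hj l _
    rw [Submodule.mem_bot]
    exact (key l).1 j hj
  refine ⟨fun x y => ?_⟩
  have hx := (key x).2
  have hy := (key y).2
  rw [hzero, Submodule.mem_bot] at hx hy
  rw [hx, hy]

end Groth.Agent.S14949
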