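import Groth.Statements.S14952
import Groth.Agent.S14950
import Mathlib.RingTheory.Flat.Tensor
import Mathlib.LinearAlgebra.TensorProduct.RightExactness

set_option autoImplicit false
universe u
open TensorProduct
open EtAlg

namespace Groth.Agent.S14952

open LinearMap in
/-- FB: if `X ⊗[R] L` is flat over `X`, then `- ⊗[R] L` preserves injectivity of `X`-linear maps. -/
theorem rTensor_injective_of_flat_baseChange {R : Type u} [CommRing R] (X : Type u) [CommRing X] [Algebra R X]
    (L : Type u) [AddCommGroup L] [Module R L] [Module.Flat X (X ⊗[R] L)]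
    {Q₁ Q₂ : Type u} [AddCommGroup Q₁] [Module R Q₁] [Module X Q₁] [IsScalarTower R X Q₁]
    [AddCommGroup Q₂] [Module R Q₂] [Module X Q₂] [IsScalarTower R X Q₂]
    (f : Q₁ →ₗ[X] Q₂) (hf : Function.Injective f) :
    Function.Injective ((f.restrictScalars R).rTensor L) := by
  let e₁ := TensorProduct.AlgebraTensorModule.cancelBaseChange R X X Q₁ L
  let e₂ := TensorProduct.AlgebraTensorModule.cancelBaseChange R X X Q₂ L
  have hflat : Function.Injective (f.rTensor (X ⊗[R] L)) :=
    Module.Flat.rTensor_preserves_injective_linearMap f hf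
  have hcomm : ∀ t, (f.restrictScalars R).rTensor L (e₁ t) = e₂ (f.rTensor (X ⊗[R] L) t) := by
    intro t
    induction t using TensorProduct.induction_on with
    | zero => simp
    | add a b ha hb => simp only [map_add, ha, hb]
    | tmul q y =>
      induction y using TensorProduct.induction_on with
      | zero => simp
      | add a b ha hb => simp only [tmul_add, map_add, ha, hb]
      | tmul x l =>
        simp [e₁, e₂]
  intro a b hab
  have ha : a = e₁ (e₁.symm a) := (e₁.apply_symm_apply a).symm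
  have hb : b = e₁ (e₁.symm b) := (e₁.apply_symm_apply b).symm
  rw [ha, hb, hcomm, hcomm] at hab
  have := hflat (e₂.injective hab)
  rw [ha, hb, this]

/-- Chase lemma. -/
theorem eq_zero_of_chase {R : Type u} [CommRing R] (L : Type u) [AddCommGroup L] [Module R L]
    (X Y : Ideal R) (hYX : Y ≤ X) {Q : Type u} [AddCommGroup Q] [Module R Q] (π : X →ₗ[R] Q)
    (hπ : Function.Surjective π) (hker : ∀ x : X, π x = 0 → (x : R) ∈ Y)
    (hY : Function.Injective (LinearMap.rTensor L Y.subtype))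
    (s : X ⊗[R] L) (h1 : LinearMap.rTensor L π s = 0) (h2 : LinearMap.rTensor L X.subtype s = 0) : s = 0 := by
  have hex : Function.Exact ((LinearMap.ker π).subtype.rTensor L) (π.rTensor L) :=
    rTensor_exact L (LinearMap.exact_subtype_ker_map π) hπ
  obtain ⟨s'', rfl⟩ := (hex s).mp h1
  let v : LinearMap.ker π →ₗ[R] Y :=
    LinearMap.codRestrict Y (X.subtype.comp (LinearMap.ker π).subtype) (fun x => hker x.1 x.2)
  have hv : (LinearMap.ker π).subtype = (Submodule.inclusion hYX).comp v := by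
    ext x; rfl
  have hv2 : X.subtype.comp (LinearMap.ker π).subtype = Y.subtype.comp v := by
    ext x; rfl
  have h3 : LinearMap.rTensor L Y.subtype (LinearMap.rTensor L v s'') = 0 := by
    rw [← LinearMap.rTensor_comp_apply, ← hv2, LinearMap.rTensor_comp_apply]
    exact h2
  have h4 : LinearMap.rTensor L v s'' = 0 := hY (by rw [h3, map_zero])
  rw [hv, LinearMap.rTensor_comp_apply, h4, map_zero]


section
variable {B' B A' A : Type u} [CommRing B'] [CommRing B] [CommRing A'] [CommRing A]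
    [Algebra B' B] [Algebra B' A'] [Algebra B A] [Algebra A' A] [Algebra B' A] [IsScalarTower B' B A] [IsScalarTower B' A' A]

theorem map_mem_ker (j : B') (hj : algebraMap B' B j = 0) :
    algebraMap B' A' j ∈ RingHom.ker (algebraMap A' A) := by
  rw [RingHom.mem_ker, ← IsScalarTower.algebraMap_apply, IsScalarTower.algebraMap_apply B' B A, hj, map_zero]

theorem exists_of_mem_ker (hsq : EtMil.IsFibreSquare B' B A' A) (i : A') (hi : i ∈ RingHom.ker (algebraMap A' A)) :
    ∃ j : B', algebraMap B' B j = 0 ∧ algebraMap B' A' j = i := by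
  obtain ⟨j, ⟨hj1, hj2⟩, _⟩ := hsq.2 0 i (by rw [map_zero, RingHom.mem_ker.mp hi])
  exact ⟨j, hj1, hj2⟩

/-- FA: for an ideal `𝔡'` of `A'` inside `I = ker (A' → A)`, the corresponding ideal of `B'` inside `J`
is `L`-flat as soon as `A' ⊗ L` is flat over `A'`. -/
theorem rTensor_injective_of_le_ker (hsq : EtMil.IsFibreSquare B' B A' A)
    (L : Type u) [AddCommGroup L] [Module B' L] [Module.Flat A' (A' ⊗[B'] L)]
    (𝔡' : Ideal A') (h𝔡 : 𝔡' ≤ RingHom.ker (algebraMap A' A)) :
    Function.Injective (LinearMap.rTensor L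
      ((RingHom.ker (algebraMap B' B)) ⊓ 𝔡'.comap (algebraMap B' A')).subtype) := by
  set 𝔡 : Ideal B' := (RingHom.ker (algebraMap B' B)) ⊓ 𝔡'.comap (algebraMap B' A') with h𝔡def
  let g : 𝔡 →ₗ[B'] 𝔡' := LinearMap.codRestrict (𝔡'.restrictScalars B')
    ((Algebra.linearMap B' A').comp 𝔡.subtype) (fun x => x.2.2)
  have hginj : Function.Injective g := by
    intro x y hxy
    apply Subtype.ext
    apply Groth.Agent.S14950.eq_of_eq hsq
    · rw [RingHom.mem_ker.mp x.2.1, RingHom.mem_ker.mp y.2.1]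
    · exact congrArg Subtype.val hxy
  have hgsurj : Function.Surjective g := by
    rintro ⟨i, hi⟩
    obtain ⟨j, hj1, hj2⟩ := exists_of_mem_ker hsq i (h𝔡 hi)
    refine ⟨⟨j, RingHom.mem_ker.mpr hj1, ?_⟩, Subtype.ext hj2⟩
    change algebraMap B' A' j ∈ 𝔡'
    rw [hj2]; exact hi
  let e : 𝔡 ≃ₗ[B'] 𝔡' := LinearEquiv.ofBijective g ⟨hginj, hgsurj⟩
  have hcomp : (Algebra.linearMap B' A').comp 𝔡.subtype =
      ((Submodule.subtype 𝔡').restrictScalars B').comp e.toLinearMap := by
    ext x; rfl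
  have h1 : Function.Injective (LinearMap.rTensor L ((Submodule.subtype 𝔡').restrictScalars B')) :=
    rTensor_injective_of_flat_baseChange A' L (Submodule.subtype 𝔡') Subtype.val_injective
  have h2 : Function.Injective (LinearMap.rTensor L e.toLinearMap) :=
    (e.rTensor L).injective
  have h3 : Function.Injective (LinearMap.rTensor L ((Algebra.linearMap B' A').comp 𝔡.subtype)) := by
    rw [hcomp, LinearMap.rTensor_comp]
    exact h1.comp h2
  rw [LinearMap.rTensor_comp] at h3
  exact Function.Injective.of_comp h3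


theorem exists_one_tmul (hsq : EtMil.IsFibreSquare B' B A' A) (X : Type u) [AddCommGroup X] [Module B' X]
    (t : B ⊗[B'] X) : ∃ x : X, t = (1 : B) ⊗ₜ[B'] x := by
  have hsurj := Groth.Agent.S14950.surjective_algebraMap hsq
  induction t using TensorProduct.induction_on with
  | zero => exact ⟨0, by simp⟩
  | tmul b x =>
    obtain ⟨b', rfl⟩ := hsurj b
    refine ⟨b' • x, ?_⟩
    rw [← TensorProduct.smul_tmul, Algebra.smul_def, mul_one]
  | add x y hx hy =>
    obtain ⟨a₁, rfl⟩ := hx
    obtain ⟨a₂, rfl⟩ := hy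
    exact ⟨a₁ + a₂, by rw [TensorProduct.tmul_add]⟩

theorem mem_smul_top_of_one_tmul_eq_zero (hsq : EtMil.IsFibreSquare B' B A' A)
    (L' : Type u) [AddCommGroup L'] [Module B' L'] (l : L')
    (h1 : ((1 : B) ⊗ₜ[B'] l : B ⊗[B'] L') = 0) :
    l ∈ (RingHom.ker (algebraMap B' B)) • (⊤ : Submodule B' L') := by
  have hsurj := Groth.Agent.S14950.surjective_algebraMap hsq
  let g : B' →ₗ[B'] B := (Algebra.linearMap B' B)
  have hg : Function.Surjective g := hsurj
  have hex : Function.Exact ((LinearMap.ker g).subtype.rTensor L') (g.rTensor L') :=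
    rTensor_exact L' (LinearMap.exact_subtype_ker_map g) hg
  have hz : g.rTensor L' ((1 : B') ⊗ₜ[B'] l) = 0 := by
    rw [LinearMap.rTensor_tmul]
    change (algebraMap B' B 1) ⊗ₜ[B'] l = 0
    rw [map_one, h1]
  obtain ⟨t, ht⟩ := (hex _).mp hz
  have ht' := congrArg (TensorProduct.lid B' L') ht
  rw [TensorProduct.lid_tmul, one_smul] at ht'
  rw [← ht']
  clear ht ht' hz
  induction t using TensorProduct.induction_on with
  | zero => simp
  | tmul j x =>
    rw [LinearMap.rTensor_tmul, TensorProduct.lid_tmul]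
    exact Submodule.smul_mem_smul j.2 Submodule.mem_top
  | add a b ha hb =>
    rw [map_add, map_add]
    exact add_mem ha hb


end

/-- FB': same as FB for an `R`-submodule of an `X`-module when `R → X` is surjective. -/
theorem rTensor_subtype_injective_of_surjective {R : Type u} [CommRing R] (X : Type u) [CommRing X] [Algebra R X]
    (hsurj : Function.Surjective (algebraMap R X))
    (L : Type u) [AddCommGroup L] [Module R L] [Module.Flat X (X ⊗[R] L)]
    {Q₂ : Type u} [AddCommGroup Q₂] [Module R Q₂] [Module X Q₂] [IsScalarTower R X Q₂]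
    (N : Submodule R Q₂) :
    Function.Injective (LinearMap.rTensor L N.subtype) := by
  let N' : Submodule X Q₂ :=
    { carrier := N
      add_mem' := fun ha hb => N.add_mem ha hb
      zero_mem' := N.zero_mem
      smul_mem' := by
        intro c x hx
        obtain ⟨r, rfl⟩ := hsurj c
        rw [algebraMap_smul]
        exact N.smul_mem r hx }
  let e : N →ₗ[R] N' :=
    { toFun := fun x => ⟨x.1, x.2⟩
      map_add' := fun _ _ => rfl
      map_smul' := fun _ _ => rfl }
  have he : Function.Injective (LinearMap.rTensor L e) := by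
    let e' : N ≃ₗ[R] N' :=
      { e with
        invFun := fun x => ⟨x.1, x.2⟩
        left_inv := fun _ => rfl
        right_inv := fun _ => rfl }
    exact (e'.rTensor L).injective
  have hcomp : N.subtype = (N'.subtype.restrictScalars R).comp e := by ext; rfl
  have hinj := rTensor_injective_of_flat_baseChange (R := R) X L (Q₁ := ↥N') (Q₂ := Q₂)
      N'.subtype (Submodule.injective_subtype N')
  rw [hcomp, LinearMap.rTensor_comp]
  exact hinj.comp he

/-- Chase lemma, second form. -/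
theorem eq_zero_of_chase' {R : Type u} [CommRing R] (X : Type u) [CommRing X] [Algebra R X]
    (hsurj : Function.Surjective (algebraMap R X))
    (L : Type u) [AddCommGroup L] [Module R L] [Module.Flat X (X ⊗[R] L)]
    (𝔞 Y : Ideal R) (hY𝔞 : Y ≤ 𝔞)
    {Q₂ : Type u} [AddCommGroup Q₂] [Module R Q₂] [Module X Q₂] [IsScalarTower R X Q₂]
    (φ : 𝔞 →ₗ[R] Q₂) (hker : ∀ x : 𝔞, φ x = 0 → (x : R) ∈ Y)
    (hY : Function.Injective (LinearMap.rTensor L Y.subtype))
    (s : 𝔞 ⊗[R] L) (h1 : LinearMap.rTensor L φ s = 0) (h2 : LinearMap.rTensor L 𝔞.subtype s = 0) : s = 0 := by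
  have hinj := rTensor_subtype_injective_of_surjective X hsurj L (LinearMap.range φ)
  have hcomp : (LinearMap.range φ).subtype.comp φ.rangeRestrict = φ := by ext; rfl
  have h1' : LinearMap.rTensor L φ.rangeRestrict s = 0 := by
    apply hinj
    rw [map_zero, ← LinearMap.rTensor_comp_apply, hcomp, h1]
  refine eq_zero_of_chase L 𝔞 Y hY𝔞 φ.rangeRestrict (LinearMap.surjective_rangeRestrict φ) ?_ hY s h1' h2
  intro x hx
  apply hker
  have := congrArg Subtype.val hx
  simpa using this

section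
variable {B' B A' A : Type u} [CommRing B'] [CommRing B] [CommRing A'] [CommRing A]
    [Algebra B' B] [Algebra B' A'] [Algebra B A] [Algebra A' A] [Algebra B' A] [IsScalarTower B' B A] [IsScalarTower B' A' A]

set_option maxHeartbeats 400000 in
/-- Step B: ideals inside `J`. -/
theorem rTensor_injective_of_le_ker' (hsq : EtMil.IsFibreSquare B' B A' A)
    (L : Type u) [AddCommGroup L] [Module B' L] [Module.Flat B (B ⊗[B'] L)] [Module.Flat A' (A' ⊗[B'] L)]
    (𝔟 : Ideal B') (h𝔟 : 𝔟 ≤ RingHom.ker (algebraMap B' B)) :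
    Function.Injective (LinearMap.rTensor L 𝔟.subtype) := by
  have hsurj := Groth.Agent.S14950.surjective_algebraMap hsq
  set J := RingHom.ker (algebraMap B' B) with hJ
  set I := RingHom.ker (algebraMap A' A) with hI
  set 𝔟' : Ideal A' := Ideal.map (algebraMap B' A') 𝔟 with h𝔟'
  have h𝔟'I : 𝔟' ≤ I := Ideal.map_le_iff_le_comap.mpr (fun x hx => map_mem_ker x (h𝔟 hx))
  set 𝔟t : Ideal B' := J ⊓ 𝔟'.comap (algebraMap B' A') with h𝔟tdef
  have h𝔟t : 𝔟 ≤ 𝔟t := le_inf h𝔟 Ideal.le_comap_map
  set 𝔠' : Ideal A' := I * 𝔟' with h𝔠'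
  have h𝔠'I : 𝔠' ≤ I := Ideal.mul_le_right.trans h𝔟'I
  set 𝔠 : Ideal B' := J ⊓ 𝔠'.comap (algebraMap B' A') with h𝔠def
  have hkey : ∀ x ∈ 𝔠', ∃ β ∈ 𝔟, algebraMap B' A' β = x := by
    have hP : ∀ b' ∈ 𝔟', ∀ i ∈ I, ∃ β ∈ 𝔟, algebraMap B' A' β = i * b' := by
      intro b' hb'
      refine Submodule.span_induction ?_ ?_ ?_ ?_ hb'
      · rintro _ ⟨β₀, hβ₀, rfl⟩ i hi
        obtain ⟨j, hj1, hj2⟩ := exists_of_mem_ker hsq i hi
        exact ⟨j * β₀, 𝔟.mul_mem_left j hβ₀, by rw [map_mul, hj2]⟩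
      · intro i hi; exact ⟨0, 𝔟.zero_mem, by simp⟩
      · intro x y _ _ hx hy i hi
        obtain ⟨β₁, h1, h1'⟩ := hx i hi
        obtain ⟨β₂, h2, h2'⟩ := hy i hi
        exact ⟨β₁ + β₂, 𝔟.add_mem h1 h2, by rw [map_add, h1', h2', mul_add]⟩
      · intro a' x _ hx i hi
        obtain ⟨β, h1, h1'⟩ := hx (i * a') (I.mul_mem_right a' hi)
        exact ⟨β, h1, by rw [h1', smul_eq_mul, mul_assoc]⟩
    intro x hx
    refine Submodule.mul_induction_on hx ?_ ?_
    · intro i hi b' hb'; exact hP b' hb' i hi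
    · rintro x y ⟨β₁, h1, h1'⟩ ⟨β₂, h2, h2'⟩
      exact ⟨β₁ + β₂, 𝔟.add_mem h1 h2, by rw [map_add, h1', h2']⟩
  have h𝔠𝔟 : 𝔠 ≤ 𝔟 := by
    intro c hc
    obtain ⟨β, hβ, hβc⟩ := hkey (algebraMap B' A' c) hc.2
    have : c = β := Groth.Agent.S14950.eq_of_eq hsq
      (by rw [RingHom.mem_ker.mp hc.1, RingHom.mem_ker.mp (h𝔟 hβ)]) hβc.symm
    rw [this]; exact hβ
  have hFA1 := rTensor_injective_of_le_ker hsq L 𝔟' h𝔟'I
  have hFA2 := rTensor_injective_of_le_ker hsq L 𝔠' h𝔠'I
  rw [injective_iff_map_eq_zero]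
  intro s hs
  let u : 𝔟 →ₗ[B'] 𝔟t := Submodule.inclusion h𝔟t
  have hu : 𝔟.subtype = 𝔟t.subtype.comp u := by ext; rfl
  have h1 : LinearMap.rTensor L u s = 0 := hFA1 (by
    rw [map_zero, ← LinearMap.rTensor_comp_apply, ← hu]; exact hs)
  let π₂ : 𝔟t →ₗ[B'] B ⊗[B'] 𝔟t := TensorProduct.mk B' B 𝔟t 1
  have h2 : LinearMap.rTensor L (π₂.comp u) s = 0 := by
    rw [LinearMap.rTensor_comp_apply, h1, map_zero]
  have hker : ∀ x : 𝔟, (π₂.comp u) x = 0 → (x : B') ∈ 𝔠 := by
    intro x hx
    have hx' : ((1 : B) ⊗ₜ[B'] (u x) : B ⊗[B'] 𝔟t) = 0 := hx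
    have hmem := mem_smul_top_of_one_tmul_eq_zero hsq 𝔟t (u x) hx'
    refine ⟨h𝔟 x.2, ?_⟩
    have hgen : ∀ y ∈ J • (⊤ : Submodule B' 𝔟t), algebraMap B' A' (y : B') ∈ 𝔠' := by
      intro y hy
      refine Submodule.smul_induction_on hy ?_ ?_
      · intro j hj z _
        change algebraMap B' A' (j * (z : B')) ∈ 𝔠'
        rw [map_mul]
        exact Ideal.mul_mem_mul (map_mem_ker j hj) z.2.2
      · intro a b ha hb
        change algebraMap B' A' ((a : B') + (b : B')) ∈ 𝔠'
        rw [map_add]; exact add_mem ha hb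
    exact hgen (u x) hmem
  exact eq_zero_of_chase' B hsurj L 𝔟 𝔠 h𝔠𝔟 (π₂.comp u) hker hFA2 s h2 hs

set_option maxHeartbeats 400000 in
/-- Step A: all ideals. -/
theorem rTensor_injective_ideal (hsq : EtMil.IsFibreSquare B' B A' A)
    (L : Type u) [AddCommGroup L] [Module B' L] [Module.Flat B (B ⊗[B'] L)] [Module.Flat A' (A' ⊗[B'] L)]
    (𝔞 : Ideal B') :
    Function.Injective (LinearMap.rTensor L 𝔞.subtype) := by
  have hsurj := Groth.Agent.S14950.surjective_algebraMap hsq
  rw [injective_iff_map_eq_zero]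
  intro s hs
  have hY := rTensor_injective_of_le_ker' hsq L (𝔞 ⊓ RingHom.ker (algebraMap B' B)) inf_le_right
  let φ : 𝔞 →ₗ[B'] B := (Algebra.linearMap B' B).comp 𝔞.subtype
  have h1 : LinearMap.rTensor L φ s = 0 := by
    rw [LinearMap.rTensor_comp_apply, hs, map_zero]
  refine eq_zero_of_chase' B hsurj L 𝔞 (𝔞 ⊓ RingHom.ker (algebraMap B' B)) inf_le_left φ ?_ hY s h1 hs
  intro x hx
  exact ⟨x.2, RingHom.mem_ker.mpr hx⟩

end


/-- Let B' = B ×_A A' be a fibre product of commutative rings with A' → A surjective and L' a B'-module.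
If B ⊗_{B'} L' is a flat B-module and A' ⊗_{B'} L' is a flat A'-module, then L' is a flat B'-module.
(The converse holds by base change.) -/
theorem result (B' B A' A : Type u) [CommRing B'] [CommRing B] [CommRing A'] [CommRing A]
    [Algebra B' B] [Algebra B' A'] [Algebra B A] [Algebra A' A] [Algebra B' A] [IsScalarTower B' B A] [IsScalarTower B' A' A]
    (hsq : EtMil.IsFibreSquare B' B A' A)
    (L' : Type u) [AddCommGroup L'] [Module B' L']
    [Module.Flat B (B ⊗[B'] L')] [Module.Flat A' (A' ⊗[B'] L')] : Module.Flat B' L' := by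
  rw [Module.Flat.iff_rTensor_injective']
  intro I
  exact rTensor_injective_ideal hsq L' I

end Groth.Agent.S14952
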