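import Groth.Statements.S14953
import Groth.Agent.S14949
import Mathlib.RingTheory.Finiteness.Basic
import Mathlib.LinearAlgebra.TensorProduct.RightExactness

set_option autoImplicit false
universe u
open TensorProduct
open EtAlg

namespace Groth.Agent.S14953

section
variable {R : Type u} [CommRing R] (X : Type u) [CommRing X] [Algebra R X]
  (L : Type u) [AddCommGroup L] [Module R L]

theorem span_one_tmul_eq_top :
    Submodule.span X (Set.range fun l : L => ((1 : X) ⊗ₜ[R] l : X ⊗[R] L)) = ⊤ := by
  rw [eq_top_iff]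
  rintro t -
  induction t using TensorProduct.induction_on with
  | zero => exact zero_mem _
  | tmul x l =>
    have : x ⊗ₜ[R] l = x • ((1 : X) ⊗ₜ[R] l) := by
      rw [TensorProduct.smul_tmul', smul_eq_mul, mul_one]
    rw [this]
    exact Submodule.smul_mem _ _ (Submodule.subset_span ⟨l, rfl⟩)
  | add a b ha hb => exact add_mem ha hb

theorem exists_finset_span [Module.Finite X (X ⊗[R] L)] :
    ∃ s : Finset L, Submodule.span X ((fun l : L => ((1 : X) ⊗ₜ[R] l : X ⊗[R] L)) '' (s : Set L)) = ⊤ := by
  classical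
  have hfg : (Submodule.span X (Set.range fun l : L => ((1 : X) ⊗ₜ[R] l : X ⊗[R] L))).FG := by
    rw [span_one_tmul_eq_top]
    exact Module.Finite.fg_top
  obtain ⟨s', hs', hspan⟩ := (Submodule.fg_span_iff_fg_span_finset_subset _).mp hfg
  rw [← Set.image_univ] at hs'
  obtain ⟨s, _, hs⟩ := Finset.subset_set_image_iff.mp hs'
  refine ⟨s, ?_⟩
  rw [← span_one_tmul_eq_top X L, hspan, ← hs, Finset.coe_image]

/-- If `N ≤ L` contains a set `s` whose image `1 ⊗ s` spans `X ⊗ L`, then `X ⊗ (L ⧸ N) = 0`. -/
theorem subsingleton_tensor_quotient (N : Submodule R L) (s : Set L) (hs : s ⊆ N)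
    (hspan : Submodule.span X ((fun l : L => ((1 : X) ⊗ₜ[R] l : X ⊗[R] L)) '' s) = ⊤) :
    Subsingleton (X ⊗[R] (L ⧸ N)) := by
  let f : X ⊗[R] L →ₗ[X] X ⊗[R] (L ⧸ N) := N.mkQ.baseChange X
  have hf : Function.Surjective f := LinearMap.lTensor_surjective X N.mkQ_surjective
  have hzero : f = 0 := by
    apply LinearMap.ext_on_range (v := fun x : s => ((1 : X) ⊗ₜ[R] (x : L) : X ⊗[R] L))
    · rw [← hspan]
      congr 1
      ext t
      constructor
      · rintro ⟨x, rfl⟩; exact ⟨x.1, x.2, rfl⟩
      · rintro ⟨x, hx, rfl⟩; exact ⟨⟨x, hx⟩, rfl⟩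
    · intro x
      rw [LinearMap.zero_apply, LinearMap.baseChange_tmul, Submodule.mkQ_apply,
        (Submodule.Quotient.mk_eq_zero N).mpr (hs x.2), tmul_zero]
  refine ⟨fun a b => ?_⟩
  obtain ⟨a', rfl⟩ := hf a
  obtain ⟨b', rfl⟩ := hf b
  rw [hzero, LinearMap.zero_apply, LinearMap.zero_apply]

end


/-- Let B' = B ×_A A' be a fibre product of commutative rings with A' → A surjective and L' a B'-module.
If B ⊗_{B'} L' is a finitely generated B-module and A' ⊗_{B'} L' is a finitely generated A'-module,
then L' is a finitely generated B'-module. (The published statement is about flat modules of finite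
type; the finiteness conclusion does not use flatness, which descends separately.) -/
theorem result (B' B A' A : Type u) [CommRing B'] [CommRing B] [CommRing A'] [CommRing A]
    [Algebra B' B] [Algebra B' A'] [Algebra B A] [Algebra A' A] [Algebra B' A] [IsScalarTower B' B A] [IsScalarTower B' A' A]
    (hsq : EtMil.IsFibreSquare B' B A' A)
    (L' : Type u) [AddCommGroup L'] [Module B' L']
    [Module.Finite B (B ⊗[B'] L')] [Module.Finite A' (A' ⊗[B'] L')] : Module.Finite B' L' := by
  classical
  obtain ⟨s₁, hs₁⟩ := exists_finset_span (R := B') B L'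
  obtain ⟨s₂, hs₂⟩ := exists_finset_span (R := B') A' L'
  let N : Submodule B' L' := Submodule.span B' ((s₁ ∪ s₂ : Finset L') : Set L')
  have h1 : (s₁ : Set L') ⊆ N := fun x hx => Submodule.subset_span (by simp [hx])
  have h2 : (s₂ : Set L') ⊆ N := fun x hx => Submodule.subset_span (by simp [hx])
  have := subsingleton_tensor_quotient B L' N s₁ h1 hs₁
  have := subsingleton_tensor_quotient A' L' N s₂ h2 hs₂
  have hQ : Subsingleton (L' ⧸ N) := Groth.Agent.S14949.result B' B A' A hsq (L' ⧸ N)
  have hN : N = ⊤ := Submodule.Quotient.subsingleton_iff.mp hQ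
  exact ⟨⟨s₁ ∪ s₂, hN⟩⟩

end Groth.Agent.S14953
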