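import Groth.Statements.S14954
import Groth.Agent.S14952
import Groth.Agent.S14953
import Mathlib.RingTheory.Flat.Equalizer
import Mathlib.Algebra.Module.FinitePresentation

set_option autoImplicit false
universe u
open TensorProduct
open EtAlg

namespace Groth.Agent.S14954

/-- If `L` is flat over `R`, `f : F → L` surjective with `F` finite, and `X ⊗ L` is f.p. over `X`, then
`X ⊗ ker f` is finite over `X`. -/
theorem finite_baseChange_ker {R : Type u} [CommRing R] (X : Type u) [CommRing X] [Algebra R X]
    {F L : Type u} [AddCommGroup F] [Module R F] [AddCommGroup L] [Module R L] [Module.Finite R F]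
    [Module.Flat R L] [Module.FinitePresentation X (X ⊗[R] L)]
    (f : F →ₗ[R] L) (hf : Function.Surjective f) :
    Module.Finite X (X ⊗[R] LinearMap.ker f) := by
  set K := LinearMap.ker f
  let g : X ⊗[R] K →ₗ[X] X ⊗[R] F := K.subtype.baseChange X
  have hg : Function.Injective g := by
    have := LinearMap.lTensor_injective_of_exact_of_flat f hf K.subtype K.injective_subtype
      (LinearMap.exact_subtype_ker_map f) X
    exact this
  have hex : Function.Exact (K.subtype.lTensor X) (f.lTensor X) :=
    lTensor_exact X (LinearMap.exact_subtype_ker_map f) hf
  have hrange : LinearMap.range g = LinearMap.ker (f.baseChange X) := by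
    ext x
    rw [LinearMap.mem_ker, LinearMap.mem_range]
    exact ((hex x).symm)
  have hfg : (LinearMap.ker (f.baseChange X)).FG :=
    Module.FinitePresentation.fg_ker (f.baseChange X) (LinearMap.lTensor_surjective X hf)
  rw [← hrange] at hfg
  have : Module.Finite X (LinearMap.range g) := Module.Finite.iff_fg.mpr hfg
  exact Module.Finite.equiv (LinearEquiv.ofInjective g hg).symm


/-- Let B' = B ×_A A' be a fibre product of commutative rings with A' → A surjective and L' a B'-module.
If B ⊗_{B'} L' is flat and finitely presented over B and A' ⊗_{B'} L' is flat and finitely presented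
over A', then L' is finitely presented over B'. (Together with descent of flatness, L' is then flat
of finite presentation, i.e. finite locally free.) -/
theorem result (B' B A' A : Type u) [CommRing B'] [CommRing B] [CommRing A'] [CommRing A]
    [Algebra B' B] [Algebra B' A'] [Algebra B A] [Algebra A' A] [Algebra B' A] [IsScalarTower B' B A] [IsScalarTower B' A' A]
    (hsq : EtMil.IsFibreSquare B' B A' A)
    (L' : Type u) [AddCommGroup L'] [Module B' L']
    [Module.Flat B (B ⊗[B'] L')] [Module.FinitePresentation B (B ⊗[B'] L')]
    [Module.Flat A' (A' ⊗[B'] L')] [Module.FinitePresentation A' (A' ⊗[B'] L')] :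
    Module.FinitePresentation B' L' := by
  have hfin : Module.Finite B' L' := Groth.Agent.S14953.result B' B A' A hsq L'
  have hflat : Module.Flat B' L' := Groth.Agent.S14952.result B' B A' A hsq L'
  obtain ⟨n, f, hf⟩ := Module.Finite.exists_fin' B' L'
  have h1 : Module.Finite B (B ⊗[B'] LinearMap.ker f) := finite_baseChange_ker B f hf
  have h2 : Module.Finite A' (A' ⊗[B'] LinearMap.ker f) := finite_baseChange_ker A' f hf
  have hK : Module.Finite B' (LinearMap.ker f) := Groth.Agent.S14953.result B' B A' A hsq (LinearMap.ker f)
  exact Module.finitePresentation_of_surjective f hf (Module.Finite.iff_fg.mp hK)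

end Groth.Agent.S14954
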