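import Groth.Statements.S2019
import Mathlib.LinearAlgebra.TensorProduct.RightExactness
import Mathlib.RingTheory.TensorProduct.Basic

set_option autoImplicit false
set_option linter.unusedSectionVars false
universe u
open TensorProduct
open EtAlg

namespace Groth.Agent.S2019

section lemA
variable {R S M : Type*} [CommRing R] [CommRing S] [Algebra R S] [AddCommGroup M] [Module R M]

theorem mem_smul_top_of_one_tmul_eq_zero (hs : Function.Surjective (algebraMap R S)) (m : M)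
    (h : (1 : S) ⊗ₜ[R] m = 0) : m ∈ (RingHom.ker (algebraMap R S)) • (⊤ : Submodule R M) := by
  let g : R →ₗ[R] S := Algebra.linearMap R S
  let I : Submodule R R := LinearMap.ker g
  have hI : I = RingHom.ker (algebraMap R S) := by
    ext x
    simp [I, g, RingHom.mem_ker]
  have hex : Function.Exact I.subtype g := LinearMap.exact_subtype_ker_map g
  have hex' := rTensor_exact M hex hs
  have h1 : LinearMap.rTensor M g ((1 : R) ⊗ₜ[R] m) = 0 := by
    simp [g, h]
  obtain ⟨y, hy⟩ := (hex' _).mp h1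
  rw [← hI, ← Submodule.map_range_rTensor_subtype_lid]
  refine ⟨(1 : R) ⊗ₜ[R] m, ⟨y, hy⟩, by simp⟩

end lemA

section main
variable {B' B A' A : Type u} [CommRing B'] [CommRing B] [CommRing A'] [CommRing A]
    [Algebra B' B] [Algebra B' A'] [Algebra B A] [Algebra A' A] [Algebra B' A]
    [IsScalarTower B' B A] [IsScalarTower B' A' A]
    (hsq : EtMil.IsFibreSquare B' B A' A)
    {N M' : Type u} [AddCommGroup N] [Module B N] [Module B' N] [IsScalarTower B' B N]
    [AddCommGroup M'] [Module A' M'] [Module B' M'] [IsScalarTower B' A' M']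
    (φ : A ⊗[B] N ≃ₗ[A] A ⊗[A'] M')

include hsq

theorem exists_of_mem_ker (i : A') (hi : algebraMap A' A i = 0) :
    ∃ c : B', algebraMap B' B c = 0 ∧ algebraMap B' A' c = i := by
  obtain ⟨c, ⟨h1, h2⟩, -⟩ := hsq.2 0 i (by simp [hi])
  exact ⟨c, h1, h2⟩

theorem surj_B : Function.Surjective (algebraMap B' B) := by
  intro b
  obtain ⟨a', ha'⟩ := hsq.1 (algebraMap B A b)
  obtain ⟨c, ⟨h1, h2⟩, -⟩ := hsq.2 b a' ha'.symm
  exact ⟨c, h1⟩

theorem exists_glue (n : N) : ∃ x : EtMil.glue B' φ, EtMil.glueFst B' φ x = n := by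
  obtain ⟨m', hm'⟩ := TensorProduct.mk_surjective A' M' A hsq.1 (φ (1 ⊗ₜ n))
  exact ⟨⟨(n, m'), hm'.symm⟩, rfl⟩

omit hsq in
theorem glue_prop (x : EtMil.glue B' φ) :
    φ ((1 : A) ⊗ₜ[B] (EtMil.glueFst B' φ x)) = (1 : A) ⊗ₜ[A'] (EtMil.glueSnd B' φ x) := x.2

omit hsq in
theorem zero_smul_mem (i : A') (hi : algebraMap A' A i = 0) (m : M') :
    ((0 : N), i • m) ∈ EtMil.glue B' φ := by
  change φ ((1 : A) ⊗ₜ[B] (0 : N)) = (1 : A) ⊗ₜ[A'] (i • m)
  rw [tmul_zero, map_zero, ← smul_tmul, Algebra.smul_def, hi, zero_mul, zero_tmul]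

theorem snd_surj : Function.Surjective (LinearMap.liftBaseChange A' (EtMil.glueSnd B' φ)) := by
  intro m'
  have key : ∀ z : A ⊗[B] N, ∃ y : A' ⊗[B'] EtMil.glue B' φ,
      (1 : A) ⊗ₜ[A'] (LinearMap.liftBaseChange A' (EtMil.glueSnd B' φ) y) = φ z := by
    intro z
    induction z using TensorProduct.induction_on with
    | zero => exact ⟨0, by simp⟩
    | tmul a n =>
      obtain ⟨a', rfl⟩ := hsq.1 a
      obtain ⟨x, rfl⟩ := exists_glue hsq φ n
      refine ⟨a' ⊗ₜ x, ?_⟩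
      rw [LinearMap.liftBaseChange_tmul, ← smul_tmul, Algebra.smul_def, mul_one]
      have : (algebraMap A' A a') ⊗ₜ[B] (EtMil.glueFst B' φ x) =
          (algebraMap A' A a') • ((1 : A) ⊗ₜ[B] (EtMil.glueFst B' φ x)) := by
        rw [smul_tmul', smul_eq_mul, mul_one]
      rw [this, map_smul, glue_prop, smul_tmul', smul_eq_mul, mul_one]
    | add z₁ z₂ h₁ h₂ =>
      obtain ⟨y₁, e₁⟩ := h₁
      obtain ⟨y₂, e₂⟩ := h₂
      exact ⟨y₁ + y₂, by rw [map_add, tmul_add, e₁, e₂, map_add]⟩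
  obtain ⟨y, hy⟩ := key (φ.symm ((1 : A) ⊗ₜ[A'] m'))
  rw [LinearEquiv.apply_symm_apply] at hy
  have hz : (1 : A) ⊗ₜ[A'] (m' - LinearMap.liftBaseChange A' (EtMil.glueSnd B' φ) y) = 0 := by
    rw [tmul_sub, hy, sub_self]
  have hmem := mem_smul_top_of_one_tmul_eq_zero hsq.1 _ hz
  have key2 : ∀ m ∈ (RingHom.ker (algebraMap A' A)) • (⊤ : Submodule A' M'),
      ∃ y : A' ⊗[B'] EtMil.glue B' φ, LinearMap.liftBaseChange A' (EtMil.glueSnd B' φ) y = m := by
    intro m hm
    refine Submodule.smul_induction_on hm ?_ ?_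
    · intro i hi m _
      refine ⟨(1 : A') ⊗ₜ ⟨((0 : N), i • m), zero_smul_mem φ i hi m⟩, ?_⟩
      rw [LinearMap.liftBaseChange_tmul, one_smul]
      rfl
    · rintro m₁ m₂ ⟨y₁, e₁⟩ ⟨y₂, e₂⟩
      exact ⟨y₁ + y₂, by rw [map_add, e₁, e₂]⟩
  obtain ⟨y₂, hy₂⟩ := key2 _ hmem
  exact ⟨y + y₂, by rw [map_add, hy₂]; abel⟩

theorem fst_surj : Function.Surjective (LinearMap.liftBaseChange B (EtMil.glueFst B' φ)) := by
  intro n
  obtain ⟨x, rfl⟩ := exists_glue hsq φ n
  exact ⟨(1 : B) ⊗ₜ x, by rw [LinearMap.liftBaseChange_tmul, one_smul]⟩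

theorem fst_inj : Function.Injective (LinearMap.liftBaseChange B (EtMil.glueFst B' φ)) := by
  rw [injective_iff_map_eq_zero]
  intro x hx
  obtain ⟨g, rfl⟩ := TensorProduct.mk_surjective B' (EtMil.glue B' φ) B (surj_B hsq) x
  change LinearMap.liftBaseChange B (EtMil.glueFst B' φ) ((1 : B) ⊗ₜ g) = 0 at hx
  change (1 : B) ⊗ₜ[B'] g = 0
  rw [LinearMap.liftBaseChange_tmul, one_smul] at hx
  have h0 : (1 : A) ⊗ₜ[A'] (EtMil.glueSnd B' φ g) = 0 := by
    rw [← glue_prop, hx, tmul_zero, map_zero]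
  have hmem := mem_smul_top_of_one_tmul_eq_zero hsq.1 _ h0
  have inner : ∀ i ∈ RingHom.ker (algebraMap A' A), ∀ y : A' ⊗[B'] EtMil.glue B' φ,
      ∃ g' : EtMil.glue B' φ,
        g'.1 = ((0 : N), i • LinearMap.liftBaseChange A' (EtMil.glueSnd B' φ) y) ∧
        (1 : B) ⊗ₜ[B'] g' = 0 := by
    intro i hi y
    induction y using TensorProduct.induction_on with
      | zero => exact ⟨0, by simp; rfl, by simp⟩
      | tmul a' x =>
        have hia : algebraMap A' A (i * a') = 0 := by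
          rw [map_mul, (RingHom.mem_ker).mp hi, zero_mul]
        obtain ⟨c, hc1, hc2⟩ := exists_of_mem_ker hsq (i * a') hia
        refine ⟨c • x, ?_, ?_⟩
        · rw [LinearMap.liftBaseChange_tmul]
          ext
          · change c • (EtMil.glueFst B' φ x) = 0
            rw [← IsScalarTower.algebraMap_smul B c, hc1, zero_smul]
          · change c • (EtMil.glueSnd B' φ x) = i • a' • (EtMil.glueSnd B' φ x)
            rw [← IsScalarTower.algebraMap_smul A' c, hc2, mul_smul]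
        · rw [← smul_tmul, Algebra.smul_def, hc1, zero_mul, zero_tmul]
      | add y₁ y₂ h₁ h₂ =>
        obtain ⟨g₁, e₁, z₁⟩ := h₁
        obtain ⟨g₂, e₂, z₂⟩ := h₂
        refine ⟨g₁ + g₂, ?_, by rw [tmul_add, z₁, z₂, add_zero]⟩
        rw [Submodule.coe_add, e₁, e₂, map_add, smul_add]
        simp
  have key : ∀ m ∈ (RingHom.ker (algebraMap A' A)) • (⊤ : Submodule A' M'),
      ∃ g' : EtMil.glue B' φ, g'.1 = ((0 : N), m) ∧ (1 : B) ⊗ₜ[B'] g' = 0 := by
    intro m hm
    refine Submodule.smul_induction_on hm ?_ ?_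
    · intro i hi m _
      obtain ⟨y, rfl⟩ := snd_surj hsq φ m
      exact inner i hi y
    · rintro m₁ m₂ ⟨g₁, e₁, z₁⟩ ⟨g₂, e₂, z₂⟩
      refine ⟨g₁ + g₂, ?_, by rw [tmul_add, z₁, z₂, add_zero]⟩
      rw [Submodule.coe_add, e₁, e₂]
      simp
  obtain ⟨g', e', z'⟩ := key _ hmem
  have : g = g' := by
    apply Subtype.ext
    rw [e']
    ext
    · exact hx
    · rfl
  rw [this, z']

theorem snd_inj : Function.Injective (LinearMap.liftBaseChange A' (EtMil.glueSnd B' φ)) := by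
  rw [injective_iff_map_eq_zero]
  intro x hx
  let e1 : B ⊗[B'] EtMil.glue B' φ ≃ₗ[B] N :=
    LinearEquiv.ofBijective (LinearMap.liftBaseChange B (EtMil.glueFst B' φ))
      ⟨fst_inj hsq φ, fst_surj hsq φ⟩
  let θ : A ⊗[B'] EtMil.glue B' φ ≃ₗ[B] A ⊗[B] N :=
    (TensorProduct.AlgebraTensorModule.cancelBaseChange B' B B A (EtMil.glue B' φ)).symm ≪≫ₗ
      (LinearEquiv.lTensor A e1)
  have hθ : ∀ (a : A) (g : EtMil.glue B' φ), θ (a ⊗ₜ g) = a ⊗ₜ (EtMil.glueFst B' φ g) := by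
    intro a g
    simp only [θ, LinearEquiv.trans_apply,
      TensorProduct.AlgebraTensorModule.cancelBaseChange_symm_tmul, LinearEquiv.lTensor_tmul, e1]
    congr 1
    change LinearMap.liftBaseChange B (EtMil.glueFst B' φ) ((1 : B) ⊗ₜ g) = _
    rw [LinearMap.liftBaseChange_tmul, one_smul]
  let gA : A' →ₗ[B'] A := (IsScalarTower.toAlgHom B' A' A).toLinearMap
  have hgA : ∀ a', gA a' = algebraMap A' A a' := fun a' => rfl
  have hcl : ∀ x : A' ⊗[B'] EtMil.glue B' φ,
      φ (θ (LinearMap.rTensor (EtMil.glue B' φ) gA x)) =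
        (1 : A) ⊗ₜ[A'] (LinearMap.liftBaseChange A' (EtMil.glueSnd B' φ) x) := by
    intro x
    induction x using TensorProduct.induction_on with
    | zero => simp
    | tmul a' g =>
      rw [LinearMap.rTensor_tmul, hθ, hgA, LinearMap.liftBaseChange_tmul, ← smul_tmul,
        Algebra.smul_def, mul_one]
      have : (algebraMap A' A a') ⊗ₜ[B] (EtMil.glueFst B' φ g) =
          (algebraMap A' A a') • ((1 : A) ⊗ₜ[B] (EtMil.glueFst B' φ g)) := by
        rw [smul_tmul', smul_eq_mul, mul_one]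
      rw [this, map_smul, glue_prop, smul_tmul', smul_eq_mul, mul_one]
    | add x₁ x₂ h₁ h₂ => rw [map_add, map_add, map_add, h₁, h₂, map_add, tmul_add]
  have hπ : LinearMap.rTensor (EtMil.glue B' φ) gA x = 0 := by
    apply θ.injective
    apply φ.injective
    rw [hcl, hx, tmul_zero, map_zero, map_zero]
  have hex : Function.Exact (LinearMap.ker gA).subtype gA := LinearMap.exact_subtype_ker_map gA
  have hex' := rTensor_exact (EtMil.glue B' φ) hex hsq.1
  obtain ⟨y, rfl⟩ := (hex' _).mp hπ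
  have hcl2 : ∀ y : (LinearMap.ker gA) ⊗[B'] EtMil.glue B' φ, ∃ g : EtMil.glue B' φ,
      EtMil.glueFst B' φ g = 0 ∧
      LinearMap.rTensor (EtMil.glue B' φ) (LinearMap.ker gA).subtype y = (1 : A') ⊗ₜ g := by
    intro y
    induction y using TensorProduct.induction_on with
    | zero => exact ⟨0, by simp, by simp⟩
    | tmul i g₀ =>
      obtain ⟨c, hc1, hc2⟩ := exists_of_mem_ker hsq i.1 i.2
      refine ⟨c • g₀, ?_, ?_⟩
      · rw [map_smul, ← IsScalarTower.algebraMap_smul B c, hc1, zero_smul]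
      · rw [LinearMap.rTensor_tmul, Submodule.subtype_apply, ← hc2, ← smul_tmul, Algebra.smul_def,
          mul_one]
    | add y₁ y₂ h₁ h₂ =>
      obtain ⟨g₁, e₁, z₁⟩ := h₁
      obtain ⟨g₂, e₂, z₂⟩ := h₂
      exact ⟨g₁ + g₂, by rw [map_add, e₁, e₂, add_zero], by rw [map_add, z₁, z₂, tmul_add]⟩
  obtain ⟨g, hg1, hg2⟩ := hcl2 y
  rw [hg2] at hx ⊢
  rw [LinearMap.liftBaseChange_tmul, one_smul] at hx
  have : g = 0 := by
    apply Subtype.ext
    ext
    · exact hg1
    · exact hx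
  rw [this, tmul_zero]

end main

/-- Let B' = B ×_A A' be a fibre product of rings with A' -> A surjective, N a B-module, M' an A'-module
and φ : A ⊗_B N ≅ A ⊗_{A'} M' an A-linear isomorphism. For the glued B'-module N' = N ×_φ M' (pairs
with matching images), the canonical maps B ⊗_{B'} N' -> N and A' ⊗_{B'} N' -> M' induced by the two
projections are bijective. -/
theorem result (B' B A' A : Type u) [CommRing B'] [CommRing B] [CommRing A'] [CommRing A]
    [Algebra B' B] [Algebra B' A'] [Algebra B A] [Algebra A' A] [Algebra B' A] [IsScalarTower B' B A] [IsScalarTower B' A' A]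
    (hsq : EtMil.IsFibreSquare B' B A' A)
    (N M' : Type u) [AddCommGroup N] [Module B N] [Module B' N] [IsScalarTower B' B N]
    [AddCommGroup M'] [Module A' M'] [Module B' M'] [IsScalarTower B' A' M'] (φ : A ⊗[B] N ≃ₗ[A] A ⊗[A'] M') :
    Function.Bijective (LinearMap.liftBaseChange B (EtMil.glueFst B' φ)) ∧
    Function.Bijective (LinearMap.liftBaseChange A' (EtMil.glueSnd B' φ)) := by
  exact ⟨⟨fst_inj hsq φ, fst_surj hsq φ⟩, ⟨snd_inj hsq φ, snd_surj hsq φ⟩⟩

end Groth.Agent.S2019
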