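import Groth.Statements.S2020
import Groth.Agent.S2019
import Groth.Agent.S14950
import Groth.Agent.S14952
import Mathlib.RingTheory.Flat.Basic

set_option autoImplicit false
universe u
open TensorProduct
open EtAlg

namespace Groth.Agent.S2020

section
variable {B' B A' A : Type u} [CommRing B'] [CommRing B] [CommRing A'] [CommRing A]
    [Algebra B' B] [Algebra B' A'] [Algebra B A] [Algebra A' A] [Algebra B' A] [IsScalarTower B' B A] [IsScalarTower B' A' A]

/-- Part (2): flat modules are glued from their base changes. -/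
theorem flat_part (hsq : EtMil.IsFibreSquare B' B A' A) (L' : Type u) [AddCommGroup L'] [Module B' L']
    [Module.Flat B' L'] :
    Function.Injective (fun l : L' => (((1 : B) ⊗ₜ[B'] l : B ⊗[B'] L'), ((1 : A') ⊗ₜ[B'] l : A' ⊗[B'] L'))) ∧
      ∀ (x : B ⊗[B'] L') (y : A' ⊗[B'] L'),
        (IsScalarTower.toAlgHom B' B A).toLinearMap.rTensor L' x = (IsScalarTower.toAlgHom B' A' A).toLinearMap.rTensor L' y →
          ∃ l : L', (1 : B) ⊗ₜ[B'] l = x ∧ (1 : A') ⊗ₜ[B'] l = y := by
  let f : B' →ₗ[B'] B × A' := (Algebra.linearMap B' B).prod (Algebra.linearMap B' A')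
  let g : B × A' →ₗ[B'] A :=
    (IsScalarTower.toAlgHom B' B A).toLinearMap.coprod (-(IsScalarTower.toAlgHom B' A' A).toLinearMap)
  have hf : Function.Injective f := by
    intro x y hxy
    have h1 : algebraMap B' B x = algebraMap B' B y := congrArg Prod.fst hxy
    have h2 : algebraMap B' A' x = algebraMap B' A' y := congrArg Prod.snd hxy
    exact Groth.Agent.S14950.eq_of_eq hsq h1 h2
  have hfg : Function.Exact f g := by
    intro z
    constructor
    · intro hz
      have hz' : algebraMap B A z.1 - algebraMap A' A z.2 = 0 := by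
        simpa [g, sub_eq_add_neg] using hz
      obtain ⟨b', ⟨h1, h2⟩, -⟩ := hsq.2 z.1 z.2 (sub_eq_zero.mp hz')
      exact ⟨b', Prod.ext h1 h2⟩
    · rintro ⟨b', rfl⟩
      simp [f, g, ← IsScalarTower.algebraMap_apply]
  have hinj : Function.Injective (f.rTensor L') :=
    Module.Flat.rTensor_preserves_injective_linearMap f hf
  have hex : Function.Exact (f.rTensor L') (g.rTensor L') := Module.Flat.rTensor_exact L' hfg
  have hfst : ∀ l : L', (LinearMap.fst B' B A').rTensor L' (f.rTensor L' ((1 : B') ⊗ₜ[B'] l)) = (1 : B) ⊗ₜ[B'] l := by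
    intro l; simp [f]
  have hsnd : ∀ l : L', (LinearMap.snd B' B A').rTensor L' (f.rTensor L' ((1 : B') ⊗ₜ[B'] l)) = (1 : A') ⊗ₜ[B'] l := by
    intro l; simp [f]
  have hdecomp : ∀ z : (B × A') ⊗[B'] L',
      z = (LinearMap.inl B' B A').rTensor L' ((LinearMap.fst B' B A').rTensor L' z) +
        (LinearMap.inr B' B A').rTensor L' ((LinearMap.snd B' B A').rTensor L' z) := by
    intro z
    rw [← LinearMap.rTensor_comp_apply, ← LinearMap.rTensor_comp_apply, ← LinearMap.add_apply,
      ← LinearMap.rTensor_add]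
    have : (LinearMap.inl B' B A').comp (LinearMap.fst B' B A') +
        (LinearMap.inr B' B A').comp (LinearMap.snd B' B A') = LinearMap.id := by
      ext <;> simp
    rw [this, LinearMap.rTensor_id, LinearMap.id_apply]
  constructor
  · intro l₁ l₂ h
    have h1 : (1 : B) ⊗ₜ[B'] l₁ = (1 : B) ⊗ₜ[B'] l₂ := congrArg Prod.fst h
    have h2 : (1 : A') ⊗ₜ[B'] l₁ = (1 : A') ⊗ₜ[B'] l₂ := congrArg Prod.snd h
    have h3 : f.rTensor L' ((1 : B') ⊗ₜ[B'] l₁) = f.rTensor L' ((1 : B') ⊗ₜ[B'] l₂) := by
      rw [hdecomp (f.rTensor L' ((1 : B') ⊗ₜ[B'] l₁)), hdecomp (f.rTensor L' ((1 : B') ⊗ₜ[B'] l₂)),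
        hfst, hfst, hsnd, hsnd, h1, h2]
    have h4 := hinj h3
    have h5 := congrArg (TensorProduct.lid B' L') h4
    simpa using h5
  · intro x y hxy
    set z : (B × A') ⊗[B'] L' := (LinearMap.inl B' B A').rTensor L' x + (LinearMap.inr B' B A').rTensor L' y with hz
    have hgz : g.rTensor L' z = 0 := by
      rw [hz, map_add, ← LinearMap.rTensor_comp_apply, ← LinearMap.rTensor_comp_apply]
      have e1 : g.comp (LinearMap.inl B' B A') = (IsScalarTower.toAlgHom B' B A).toLinearMap := by
        ext; simp [g]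
      have e2 : g.comp (LinearMap.inr B' B A') = -(IsScalarTower.toAlgHom B' A' A).toLinearMap := by
        ext; simp [g]
      rw [e1, e2, LinearMap.rTensor_neg, LinearMap.neg_apply, hxy, add_neg_cancel]
    obtain ⟨t, ht⟩ := (hex z).mp hgz
    have ht' : t = (1 : B') ⊗ₜ[B'] (TensorProduct.lid B' L' t) := by
      have := (TensorProduct.lid B' L').symm_apply_apply t
      rw [TensorProduct.lid_symm_apply] at this
      exact this.symm
    refine ⟨TensorProduct.lid B' L' t, ?_, ?_⟩
    · rw [← hfst, ← ht', ht, hz, map_add, ← LinearMap.rTensor_comp_apply, ← LinearMap.rTensor_comp_apply]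
      have e1 : (LinearMap.fst B' B A').comp (LinearMap.inl B' B A') = LinearMap.id := by ext; simp
      have e2 : (LinearMap.fst B' B A').comp (LinearMap.inr B' B A') = 0 := by ext; simp
      rw [e1, e2, LinearMap.rTensor_id, LinearMap.rTensor_zero]
      simp
    · rw [← hsnd, ← ht', ht, hz, map_add, ← LinearMap.rTensor_comp_apply, ← LinearMap.rTensor_comp_apply]
      have e1 : (LinearMap.snd B' B A').comp (LinearMap.inl B' B A') = 0 := by ext; simp
      have e2 : (LinearMap.snd B' B A').comp (LinearMap.inr B' B A') = LinearMap.id := by ext; simp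
      rw [e1, e2, LinearMap.rTensor_id, LinearMap.rTensor_zero]
      simp


end


/-- Let B' → B, B' → A', B → A and A' → A be ring homomorphisms forming a commutative square that is a
fibre product, B' = B ×_A A', with A' → A surjective. (1) Given a flat B-module N, a flat A'-module
M' and an A-linear isomorphism φ : A ⊗_B N ≅ A ⊗_{A'} M', the glued module N ×_φ M' (pairs (n, m')
with φ(1 ⊗ n) = 1 ⊗ m') is a flat B'-module. (2) For every flat B'-module L', the map L' → (B ⊗_{B'}
L') × (A' ⊗_{B'} L') is injective, and any pair (x, y) whose two images in A ⊗_{B'} L' agree comes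
from an element of L'. -/
theorem result (B' B A' A : Type u) [CommRing B'] [CommRing B] [CommRing A'] [CommRing A]
    [Algebra B' B] [Algebra B' A'] [Algebra B A] [Algebra A' A] [Algebra B' A] [IsScalarTower B' B A] [IsScalarTower B' A' A]
    (hsq : EtMil.IsFibreSquare B' B A' A) :
    (∀ (N M' : Type u) [AddCommGroup N] [Module B N] [Module B' N] [IsScalarTower B' B N]
    [AddCommGroup M'] [Module A' M'] [Module B' M'] [IsScalarTower B' A' M'] (φ : A ⊗[B] N ≃ₗ[A] A ⊗[A'] M'), Module.Flat B N → Module.Flat A' M' → Module.Flat B' ↥(EtMil.glue B' φ)) ∧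
    (∀ (L' : Type u) [AddCommGroup L'] [Module B' L'], Module.Flat B' L' →
      Function.Injective (fun l : L' => (((1 : B) ⊗ₜ[B'] l : B ⊗[B'] L'), ((1 : A') ⊗ₜ[B'] l : A' ⊗[B'] L'))) ∧
      ∀ (x : B ⊗[B'] L') (y : A' ⊗[B'] L'),
        (IsScalarTower.toAlgHom B' B A).toLinearMap.rTensor L' x = (IsScalarTower.toAlgHom B' A' A).toLinearMap.rTensor L' y →
          ∃ l : L', (1 : B) ⊗ₜ[B'] l = x ∧ (1 : A') ⊗ₜ[B'] l = y) := by
  constructor
  · intro N M' _ _ _ _ _ _ _ _ φ hN hM'
    obtain ⟨h1, h2⟩ := Groth.Agent.S2019.result B' B A' A hsq N M' φ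
    haveI : Module.Flat B (B ⊗[B'] ↥(EtMil.glue B' φ)) :=
      Module.Flat.of_linearEquiv (LinearEquiv.ofBijective _ h1)
    haveI : Module.Flat A' (A' ⊗[B'] ↥(EtMil.glue B' φ)) :=
      Module.Flat.of_linearEquiv (LinearEquiv.ofBijective _ h2)
    exact Groth.Agent.S14952.result B' B A' A hsq _
  · intro L' _ _ hL'
    exact flat_part hsq L'

end Groth.Agent.S2020
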