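import Groth.Statements.S12720
import Groth.Agent.Lib.H71ArtFunProRep
import Groth.Agent.Lib.H71ArtFunHull
import Groth.Agent.Lib.ArtFunBasic

set_option autoImplicit false
universe u v
open CategoryTheory
open ArtFun

namespace Groth.Agent.S12720

/-- For functors, let F be a functor on Artinian local Λ-algebras with residue field k with F(k) a
point, and ξ a versal family of F over a complete local Noetherian R with residue field k. Then
every formal element η of F over a complete local Noetherian S with residue field k is induced from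
ξ: there is a morphism g : R → S (over Λ, compatible with the augmentations) such that the family
obtained from ξ by composing with g has formal element η. -/
theorem result {Λ : Type u} {k : Type u} [CommRing Λ] [Field k] [Algebra Λ k]
    [IsNoetherianRing Λ] [Module.Finite Λ k]
    {F : ArtFun.Art Λ k ⥤ Type v} (h0 : ArtFun.H0 F)
    (R : ArtFun.CRing Λ k) (ξ : ArtFun.Family R.carrier R.res F) (hξ : ArtFun.IsVersal ξ)
    (S : ArtFun.CRing Λ k) (η : ArtFun.FormalElt F S) :
    ∃ (g : R.carrier →ₐ[Λ] S.carrier) (hg : S.res.comp g = R.res), (ξ.along g hg).toFormalElt = η := by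
  have hsurjMap : ∀ n, Function.Surjective (S.truncMap n) := by
    intro n y
    obtain ⟨a, rfl⟩ := Ideal.Quotient.mk_surjective y
    exact ⟨Ideal.Quotient.mk _ a, rfl⟩
  have h0' : ∃ ψ : ArtFun.HomSet R.carrier R.res (S.trunc 0), ξ.app _ ψ = η.elt 0 :=
    Groth.Agent.Lib.H71ArtFunHull.surjective_app_of_isVersal ξ hξ h0 _ (η.elt 0)
  have step : ∀ (n : ℕ)
      (ψ : {ψ : ArtFun.HomSet R.carrier R.res (S.trunc n) // ξ.app _ ψ = η.elt n}),
      ∃ ψ' : {ψ' : ArtFun.HomSet R.carrier R.res (S.trunc (n + 1)) // ξ.app _ ψ' = η.elt (n + 1)},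
        ArtFun.HomSet.map (S.truncMap n) ψ'.1 = ψ.1 := by
    intro n ψ
    obtain ⟨ψ', h1, h2⟩ := hξ (S.truncMap n) (hsurjMap n) ψ.1 (η.elt (n + 1))
      (by rw [η.compat, ψ.2])
    exact ⟨⟨ψ', h2⟩, h1⟩
  choose next hnext using step
  obtain ⟨ψ0, hψ0⟩ := h0'
  let seq : ∀ n : ℕ, {ψ : ArtFun.HomSet R.carrier R.res (S.trunc n) // ξ.app _ ψ = η.elt n} :=
    fun n => Nat.rec (motive := fun n =>
      {ψ : ArtFun.HomSet R.carrier R.res (S.trunc n) // ξ.app _ ψ = η.elt n})
      ⟨ψ0, hψ0⟩ (fun n prev => next n prev) n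
  have hseq : ∀ n, ArtFun.HomSet.map (S.truncMap n) (seq (n + 1)).1 = (seq n).1 :=
    fun n => hnext n (seq n)
  obtain ⟨G, hG, hGn⟩ := Groth.Agent.Lib.H71ArtFunProRep.exists_algHom_of_compatible R S
    (fun n => (seq n).1) hseq
  refine ⟨G, hG, ?_⟩
  apply ArtFun.FormalElt.ext'
  intro n
  rw [Groth.Agent.Lib.ArtFunBasic.toFormalElt_along_elt, hGn n]
  exact (seq n).2

end Groth.Agent.S12720
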