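import Mathlib
import Groth.Statements.S17079

set_option autoImplicit false
universe u
open CategoryTheory CategoryTheory.Limits AlgebraicGeometry
open MorSch

namespace Groth.Agent.S17079

section Helpers

variable {X Y S S' : Scheme.{u}} (gX : X ⟶ S) (gY : Y ⟶ S) (h : S' ⟶ S)

/-- `T' ×_{S'} (X ×_S S') ≅ T' ×_S X` -/
noncomputable def theta (T' : Over S') :
    pullback T'.hom (pullback.snd gX h) ≅ pullback (T'.hom ≫ h) gX :=
  (((IsPullback.of_hasPullback T'.hom (pullback.snd gX h)).flip.paste_horiz
    (IsPullback.of_hasPullback gX h)).flip).isoPullback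

@[reassoc (attr := simp)]
lemma theta_hom_fst (T' : Over S') :
    (theta gX h T').hom ≫ pullback.fst (T'.hom ≫ h) gX = pullback.fst T'.hom (pullback.snd gX h) :=
  IsPullback.isoPullback_hom_fst _

@[reassoc (attr := simp)]
lemma theta_hom_snd (T' : Over S') :
    (theta gX h T').hom ≫ pullback.snd (T'.hom ≫ h) gX =
      pullback.snd T'.hom (pullback.snd gX h) ≫ pullback.fst gX h :=
  IsPullback.isoPullback_hom_snd _

@[reassoc (attr := simp)]
lemma theta_inv_fst (T' : Over S') :
    (theta gX h T').inv ≫ pullback.fst T'.hom (pullback.snd gX h) = pullback.fst (T'.hom ≫ h) gX :=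
  IsPullback.isoPullback_inv_fst _

@[reassoc (attr := simp)]
lemma theta_inv_snd (T' : Over S') :
    (theta gX h T').inv ≫ pullback.snd T'.hom (pullback.snd gX h) ≫ pullback.fst gX h =
      pullback.snd (T'.hom ≫ h) gX := by
  rw [Iso.inv_comp_eq, theta_hom_snd]

/-- transfer of sections -/
noncomputable def sectEquiv (T' : Over S') :
    (Flatn.morS gX gY).obj (Opposite.op ((Over.map h).obj T')) ≃
      (Flatn.morS (pullback.snd gX h) (pullback.snd gY h)).obj (Opposite.op T') where
  toFun b := Over.homMk (pullback.lift ((theta gX h T').hom ≫ b.left)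
      (pullback.snd T'.hom (pullback.snd gX h) ≫ pullback.snd gX h) (by
        have hb : b.left ≫ gY = pullback.snd (T'.hom ≫ h) gX ≫ gX := Over.w b
        rw [Category.assoc, hb, theta_hom_snd_assoc, Category.assoc, pullback.condition]))
      (by
        change pullback.lift _ _ _ ≫ pullback.snd gY h = _
        rw [pullback.lift_snd]
        rfl)
  invFun c := Over.homMk ((theta gX h T').inv ≫ c.left ≫ pullback.fst gY h) (by
      have hc : c.left ≫ pullback.snd gY h =
          pullback.snd T'.hom (pullback.snd gX h) ≫ pullback.snd gX h := Over.w c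
      change ((theta gX h T').inv ≫ c.left ≫ pullback.fst gY h) ≫ gY =
        pullback.snd (T'.hom ≫ h) gX ≫ gX
      rw [Category.assoc, Category.assoc, pullback.condition, reassoc_of% hc,
        ← pullback.condition, theta_inv_snd_assoc])
  left_inv b := by
    apply Over.OverMorphism.ext
    change (theta gX h T').inv ≫ pullback.lift _ _ _ ≫ pullback.fst gY h = b.left
    rw [pullback.lift_fst, Iso.inv_hom_id_assoc]
  right_inv c := by
    apply Over.OverMorphism.ext
    have hc : c.left ≫ pullback.snd gY h =
        pullback.snd T'.hom (pullback.snd gX h) ≫ pullback.snd gX h := Over.w c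
    apply pullback.hom_ext
    · change pullback.lift _ _ _ ≫ pullback.fst gY h = _
      rw [pullback.lift_fst]
      change (theta gX h T').hom ≫ (theta gX h T').inv ≫ c.left ≫ pullback.fst gY h = _
      rw [Iso.hom_inv_id_assoc]
    · change pullback.lift _ _ _ ≫ pullback.snd gY h = _
      rw [pullback.lift_snd]
      exact hc.symm

lemma theta_natural {T'' T' : Over S'} (f : T'' ⟶ T') :
    (theta gX h T'').hom ≫ ((Over.pullback gX).map ((Over.map h).map f)).left =
      ((Over.pullback (pullback.snd gX h)).map f).left ≫ (theta gX h T').hom := by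
  apply pullback.hom_ext
  · change (theta gX h T'').hom ≫ pullback.lift _ _ _ ≫ pullback.fst (T'.hom ≫ h) gX =
      pullback.lift _ _ _ ≫ (theta gX h T').hom ≫ pullback.fst (T'.hom ≫ h) gX
    rw [pullback.lift_fst, theta_hom_fst, pullback.lift_fst]
    exact theta_hom_fst_assoc gX h T'' f.left
  · change (theta gX h T'').hom ≫ pullback.lift _ _ _ ≫ pullback.snd (T'.hom ≫ h) gX =
      pullback.lift _ _ _ ≫ (theta gX h T').hom ≫ pullback.snd (T'.hom ≫ h) gX
    rw [pullback.lift_snd, theta_hom_snd, pullback.lift_snd_assoc]
    exact theta_hom_snd gX h T''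

lemma sectEquiv_natural {T'' T' : Over S'} (f : T'' ⟶ T')
    (x : (Flatn.morS gX gY).obj (Opposite.op ((Over.map h).obj T'))) :
    sectEquiv gX gY h T'' ((Flatn.morS gX gY).map ((Over.map h).map f).op x) =
      (Flatn.morS (pullback.snd gX h) (pullback.snd gY h)).map f.op (sectEquiv gX gY h T' x) := by
  apply Over.OverMorphism.ext
  apply pullback.hom_ext
  · change pullback.lift _ _ _ ≫ pullback.fst gY h =
      (((Over.pullback (pullback.snd gX h)).map f).left ≫ pullback.lift _ _ _) ≫ pullback.fst gY h
    rw [pullback.lift_fst, Category.assoc, pullback.lift_fst]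
    change (theta gX h T'').hom ≫ ((Over.pullback gX).map ((Over.map h).map f)).left ≫ x.left = _
    rw [← Category.assoc, theta_natural, Category.assoc]
  · change pullback.lift _ _ _ ≫ pullback.snd gY h =
      (((Over.pullback (pullback.snd gX h)).map f).left ≫ pullback.lift _ _ _) ≫ pullback.snd gY h
    rw [pullback.lift_snd, Category.assoc, pullback.lift_snd]
    change _ = pullback.lift _ _ _ ≫ pullback.snd T'.hom (pullback.snd gX h) ≫ pullback.snd gX h
    rw [pullback.lift_snd_assoc]

/-- the representing structure after base change -/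
noncomputable def repr (M : Over S) (e : (Flatn.morS gX gY).RepresentableBy M) :
    (Flatn.morS (pullback.snd gX h) (pullback.snd gY h)).RepresentableBy
      (Over.mk (pullback.snd M.hom h)) where
  homEquiv {T'} := ((Over.mapPullbackAdj h).homEquiv T' M).symm.trans
      (e.homEquiv.trans (sectEquiv gX gY h T'))
  homEquiv_comp {T'' T'} f g := by
    simp only [Equiv.trans_apply]
    rw [Adjunction.homEquiv_naturality_left_symm, e.homEquiv_comp]
    exact sectEquiv_natural gX gY h f _

end Helpers

/-- Let gX : X → S and gY : Y → S be morphisms and suppose the functor Mor_S(X, Y) — sending an S-scheme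
T to the set of S-morphisms T ×_S X → Y, with base change as transition maps — is represented by an
S-scheme M. Then for every morphism h : S' → S the functor Mor_{S'}(X ×_S S', Y ×_S S') on
S'-schemes is represented by M ×_S S'. (The published statement assumes X and Y projective over S
with X flat and S, S' locally Noetherian; this row assumes only that the functor is represented by
M. Only the existence of a representing structure on M ×_S S' is asserted, not its compatibility
with the one on M.) -/
theorem result
    {X Y S S' : Scheme.{u}} (gX : X ⟶ S) (gY : Y ⟶ S) (h : S' ⟶ S)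
    (M : Over S) (e : (Flatn.morS gX gY).RepresentableBy M) :
    Nonempty ((Flatn.morS (pullback.snd gX h) (pullback.snd gY h)).RepresentableBy
      (Over.mk (pullback.snd M.hom h))) := by
  exact ⟨Groth.Agent.S17079.repr gX gY h M e⟩

end Groth.Agent.S17079
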