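import Groth.Statements.S14995
import Groth.Agent.Lib.HartogsO
-- import your own Groth.Agent.* helpers here

set_option autoImplicit false
universe u
open CategoryTheory CategoryTheory.Limits AlgebraicGeometry
open Coherent

namespace Groth.Agent.S14995

/-- Under the depth condition, the unit `E ⟶ j_* j^* E` is an isomorphism. -/
theorem isIso_unit (Y : Scheme.{u}) [IsLocallyNoetherian Y]
    (E : Y.Modules) (hE : Coh.IsCoh E) (U : Y.Opens)
    (hdepth : ∀ y : Y, y ∉ U → (2 : ℕ∞) ≤ LocCoh.depth (Y.presheaf.stalk y) (E.presheaf.stalk y)) :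
    IsIso ((Scheme.Modules.restrictAdjunction U.ι).unit.app E) := by
  rw [Scheme.Modules.Hom.isIso_iff_isIso_app]
  intro V
  rw [Scheme.Modules.restrictAdjunction_unit_app_app, ConcreteCategory.isIso_iff_bijective]
  refine Groth.Agent.Lib.Hartogs.res_bijective_of_eq E hE U hdepth _ ?_
  ext x
  simp only [Scheme.Hom.coe_image, Scheme.Hom.coe_preimage, TopologicalSpace.Opens.coe_inf,
    Set.image_preimage_eq_inter_range, Scheme.Opens.range_ι]

/-- Let Y be a locally Noetherian scheme, E and F coherent O_Y-modules and U an open subset of Y such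
that for every point y of Y outside U the stalk E_y has depth at least 2 as a module over the local
ring O_{Y,y}. Then restricting morphisms to U is a bijection from Hom(F, E) onto Hom(F|_U, E|_U).
(The published statement is the case F = E; this row allows any coherent F.) -/
theorem result (Y : Scheme.{u}) [IsLocallyNoetherian Y]
    (E F : Y.Modules) (hE : Coh.IsCoh E) (hF : Coh.IsCoh F) (U : Y.Opens)
    (hdepth : ∀ y : Y, y ∉ U → (2 : ℕ∞) ≤ LocCoh.depth (Y.presheaf.stalk y) (E.presheaf.stalk y)) :
    Function.Bijective (fun φ : F ⟶ E => (Scheme.Modules.restrictFunctor U.ι).map φ) := by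
  haveI := isIso_unit Y E hE U hdepth
  let adj := Scheme.Modules.restrictAdjunction U.ι
  have key : ∀ φ : F ⟶ E, adj.homEquiv F ((Scheme.Modules.restrictFunctor U.ι).obj E)
      ((Scheme.Modules.restrictFunctor U.ι).map φ) = φ ≫ adj.unit.app E := by
    intro φ
    rw [Adjunction.homEquiv_unit]
    exact (adj.unit.naturality φ).symm
  constructor
  · intro φ₁ φ₂ h
    have h' := congrArg (adj.homEquiv F ((Scheme.Modules.restrictFunctor U.ι).obj E)) h
    rw [key φ₁, key φ₂] at h'
    exact (cancel_mono _).mp h'
  · intro ψ
    refine ⟨adj.homEquiv F _ ψ ≫ inv (adj.unit.app E), ?_⟩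
    apply (adj.homEquiv F ((Scheme.Modules.restrictFunctor U.ι).obj E)).injective
    rw [key, Category.assoc, IsIso.inv_hom_id, Category.comp_id]

end Groth.Agent.S14995
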