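import Groth.Statements.S6876
import Groth.Agent.Lib.DepthRees
-- import your own Groth.Agent.* helpers here

set_option autoImplicit false
universe u
open CAlg
open Pointwise

namespace Groth.Agent.S6876

theorem isSMulRegular_linearMap {R : Type u} [CommRing R] {M N : Type u} [AddCommGroup M]
    [Module R M] [AddCommGroup N] [Module R N] {x : R} (hx : IsSMulRegular N x) :
    IsSMulRegular (M →ₗ[R] N) x := by
  rw [isSMulRegular_iff_right_eq_zero_of_smul]
  intro φ hφ
  ext m
  have : x • φ m = 0 := by
    have := LinearMap.congr_fun hφ m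
    simpa using this
  exact (isSMulRegular_iff_right_eq_zero_of_smul.1 hx) _ this

theorem isSMulRegular_quotSMulTop_linearMap {R : Type u} [CommRing R] {M N : Type u}
    [AddCommGroup M] [Module R M] [AddCommGroup N] [Module R N] {x y : R}
    (hx : IsSMulRegular N x) (hy : IsSMulRegular (QuotSMulTop x N) y) :
    IsSMulRegular (QuotSMulTop x (M →ₗ[R] N)) y := by
  rw [isSMulRegular_iff_right_eq_zero_of_smul]
  intro a ha
  obtain ⟨φ, rfl⟩ := Submodule.Quotient.mk_surjective _ a
  rw [← Submodule.Quotient.mk_smul, Submodule.Quotient.mk_eq_zero,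
    Submodule.mem_smul_pointwise_iff_exists] at ha
  obtain ⟨ψ, -, hψ⟩ := ha
  rw [Submodule.Quotient.mk_eq_zero, Submodule.mem_smul_pointwise_iff_exists]
  -- every value of `φ` is divisible by `x`
  have hdiv : ∀ m : M, ∃ n : N, x • n = φ m := by
    intro m
    have h1 : y • (Submodule.Quotient.mk (φ m) : QuotSMulTop x N) = 0 := by
      rw [← Submodule.Quotient.mk_smul, Submodule.Quotient.mk_eq_zero,
        Submodule.mem_smul_pointwise_iff_exists]
      refine ⟨ψ m, Submodule.mem_top, ?_⟩
      have := LinearMap.congr_fun hψ m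
      simpa using this
    have h2 := (isSMulRegular_iff_right_eq_zero_of_smul.1 hy) _ h1
    rw [Submodule.Quotient.mk_eq_zero, Submodule.mem_smul_pointwise_iff_exists] at h2
    obtain ⟨n, -, hn⟩ := h2
    exact ⟨n, hn⟩
  choose χ hχ using hdiv
  have hinj : ∀ n n' : N, x • n = x • n' → n = n' := fun n n' h => hx h
  refine ⟨{ toFun := χ
            map_add' := fun m m' => hinj _ _ (by rw [smul_add, hχ, hχ, hχ, map_add])
            map_smul' := fun c m => hinj _ _ (by
              rw [RingHom.id_apply, smul_comm, hχ, hχ, map_smul]) }, Submodule.mem_top, ?_⟩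
  ext m
  simpa using hχ m


/-- Let `R` be a Noetherian local ring and `M, N` finite `R`-modules. If `N` has depth `≥ 1` then so
does `Hom_R(M, N)`; if `N` has depth `≥ 2` then so does `Hom_R(M, N)`. -/
theorem result (R : Type u) [CommRing R] [IsNoetherianRing R] [IsLocalRing R]
    (M N : Type u) [AddCommGroup M] [Module R M] [Module.Finite R M] [AddCommGroup N] [Module R N] [Module.Finite R N] :
    (1 ≤ LocCoh.depth R N → 1 ≤ LocCoh.depth R (M →ₗ[R] N)) ∧
    (2 ≤ LocCoh.depth R N → 2 ≤ LocCoh.depth R (M →ₗ[R] N)) := by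
  have hfin : Module.Finite R (M →ₗ[R] N) := Module.IsNoetherian.finite R _
  refine ⟨fun h1 => ?_, fun h2 => ?_⟩
  · rcases subsingleton_or_nontrivial (M →ₗ[R] N) with hs | hnt
    · have : IsLocalRing.maximalIdeal R • (⊤ : Submodule R (M →ₗ[R] N)) = ⊤ :=
        Subsingleton.elim _ _
      unfold LocCoh.depth LocCoh.idealDepth
      rw [if_pos this]
      exact le_top
    · have hN : Nontrivial N := by
        by_contra hN
        rw [not_nontrivial_iff_subsingleton] at hN
        obtain ⟨φ, ψ, hne⟩ := hnt
        exact hne (LinearMap.ext fun m => Subsingleton.elim _ _)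
      have h1' : ((1 : ℕ) : ℕ∞) ≤ LocCoh.depth R N := by exact_mod_cast h1
      obtain ⟨rs, hlen, hmem, hreg⟩ :=
        (Groth.Agent.Lib.DepthRees.natCast_le_depth_iff N 1).1 h1'
      obtain ⟨x, rfl⟩ := List.length_eq_one_iff.1 hlen
      have hx : IsSMulRegular N x :=
        ((RingTheory.Sequence.isWeaklyRegular_cons_iff N x []).1 hreg).1
      have goal : ((1 : ℕ) : ℕ∞) ≤ LocCoh.depth R (M →ₗ[R] N) := by
        rw [Groth.Agent.Lib.DepthRees.natCast_le_depth_iff]
        refine ⟨[x], rfl, hmem, ?_⟩
        rw [RingTheory.Sequence.isWeaklyRegular_cons_iff]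
        exact ⟨isSMulRegular_linearMap hx, RingTheory.Sequence.IsWeaklyRegular.nil R _⟩
      exact_mod_cast goal
  · rcases subsingleton_or_nontrivial (M →ₗ[R] N) with hs | hnt
    · have : IsLocalRing.maximalIdeal R • (⊤ : Submodule R (M →ₗ[R] N)) = ⊤ :=
        Subsingleton.elim _ _
      unfold LocCoh.depth LocCoh.idealDepth
      rw [if_pos this]
      exact le_top
    · have hN : Nontrivial N := by
        by_contra hN
        rw [not_nontrivial_iff_subsingleton] at hN
        obtain ⟨φ, ψ, hne⟩ := hnt
        exact hne (LinearMap.ext fun m => Subsingleton.elim _ _)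
      have h2' : ((2 : ℕ) : ℕ∞) ≤ LocCoh.depth R N := by exact_mod_cast h2
      obtain ⟨rs, hlen, hmem, hreg⟩ :=
        (Groth.Agent.Lib.DepthRees.natCast_le_depth_iff N 2).1 h2'
      obtain ⟨x, y, rfl⟩ := List.length_eq_two.1 hlen
      rw [RingTheory.Sequence.isWeaklyRegular_cons_iff,
        RingTheory.Sequence.isWeaklyRegular_cons_iff] at hreg
      obtain ⟨hx, hy, -⟩ := hreg
      have goal : ((2 : ℕ) : ℕ∞) ≤ LocCoh.depth R (M →ₗ[R] N) := by
        rw [Groth.Agent.Lib.DepthRees.natCast_le_depth_iff]
        refine ⟨[x, y], rfl, hmem, ?_⟩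
        rw [RingTheory.Sequence.isWeaklyRegular_cons_iff,
          RingTheory.Sequence.isWeaklyRegular_cons_iff]
        exact ⟨isSMulRegular_linearMap hx, isSMulRegular_quotSMulTop_linearMap hx hy,
          RingTheory.Sequence.IsWeaklyRegular.nil R _⟩
      exact_mod_cast goal
end Groth.Agent.S6876
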