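import Groth.Statements.S6880
import Groth.Agent.S6876
import Groth.Agent.Lib.H47Reflexive
import Groth.Agent.Lib.H8CM
-- import your own Groth.Agent.* helpers here

set_option autoImplicit false
universe u
open CAlg

namespace Groth.Agent.S6880

open Groth.Agent.Lib.H47Reflexive

/-- over a Noetherian local ring, a finite reflexive module inherits depth `≥ 1`, `≥ 2` from the
ring (it is `Hom(M*, A)`). -/
theorem depth_of_isReflexive (A : Type u) [CommRing A] [IsNoetherianRing A] [IsLocalRing A]
    (N : Type u) [AddCommGroup N] [Module A N] [Module.Finite A N] [Module.IsReflexive A N] :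
    (1 ≤ LocCoh.depth A A → 1 ≤ LocCoh.depth A N) ∧
    (2 ≤ LocCoh.depth A A → 2 ≤ LocCoh.depth A N) := by
  have hfin : Module.Finite A (Module.Dual A N) := Module.IsNoetherian.finite A _
  have e : N ≃ₗ[A] (Module.Dual A N →ₗ[A] A) := Module.evalEquiv A N
  have h := Groth.Agent.S6876.result A (Module.Dual A N) A
  rw [Groth.Agent.Lib.H8CM.depth_eq_of_equiv e]
  exact h

/-- Let `R` be a Noetherian domain and `M` a finite reflexive `R`-module. For a prime `𝔭` with
`depth(R_𝔭) ≥ 2` one has `depth(M_𝔭) ≥ 2`; and if `R` has `(S_2)` then `M` has `(S_2)`. -/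
theorem result (R : Type u) [CommRing R] [IsDomain R] [IsNoetherianRing R] (M : Type u)
    [AddCommGroup M] [Module R M] [Module.Finite R M] [Module.IsReflexive R M] :
    (∀ (p : Ideal R) [p.IsPrime], 2 ≤ LocCoh.depth (Localization.AtPrime p) (Localization.AtPrime p) →
      2 ≤ LocCoh.depth (Localization.AtPrime p) (LocalizedModule p.primeCompl M)) ∧
    (LocCoh.HasSk 2 R R → LocCoh.HasSk 2 R M) := by
  have key : ∀ (p : Ideal R) [p.IsPrime],
      (1 ≤ LocCoh.depth (Localization.AtPrime p) (Localization.AtPrime p) →
        1 ≤ LocCoh.depth (Localization.AtPrime p) (LocalizedModule p.primeCompl M)) ∧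
      (2 ≤ LocCoh.depth (Localization.AtPrime p) (Localization.AtPrime p) →
        2 ≤ LocCoh.depth (Localization.AtPrime p) (LocalizedModule p.primeCompl M)) := by
    intro p _
    have : Module.IsReflexive (Localization.AtPrime p) (LocalizedModule p.primeCompl M) :=
      isReflexive_localizedModule p M
    exact depth_of_isReflexive (Localization.AtPrime p) (LocalizedModule p.primeCompl M)
  refine ⟨fun p _ => (key p).2, fun hR p _ => ?_⟩
  have hd : LocCoh.depth (Localization.AtPrime p) (LocalizedModule p.primeCompl R) =
      LocCoh.depth (Localization.AtPrime p) (Localization.AtPrime p) :=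
    Groth.Agent.Lib.H8CM.depth_eq_of_equiv (localizedSelfEquiv p)
  refine arith2 _ _ _ _ (supportDim_localizedModule_le p M) ?_ ?_ (hR p)
  · rw [hd]; exact (key p).1
  · rw [hd]; exact (key p).2

end Groth.Agent.S6880
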