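import Groth.Statements.S17941
import Mathlib.LinearAlgebra.FreeModule.PID
import Mathlib.RingTheory.AdjoinRoot
import Mathlib.Algebra.Exact.Basic
import Mathlib.Algebra.Module.Projective
import Mathlib.Algebra.Polynomial.Div

set_option autoImplicit false
universe u
open MultCrv

namespace Groth.Agent.S17941

open Polynomial

section frobenius

variable (R : Type u) [CommRing R] (n : ℕ)

/-- The `i`-th coefficient functional on `R[X]/(X^n)`, for `i < n`. -/
noncomputable def cf (i : ℕ) (hi : i < n) : Rn R n →ₗ[R] R :=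
  (((Ideal.span {(X : R[X]) ^ n}).restrictScalars R).liftQ (lcoeff R i) (by
     intro p hp
     rw [Submodule.restrictScalars_mem, Ideal.mem_span_singleton] at hp
     rw [LinearMap.mem_ker, lcoeff_apply]
     exact X_pow_dvd_iff.mp hp i hi)) ∘ₗ
  (Submodule.Quotient.restrictScalarsEquiv R (Ideal.span {(X : R[X]) ^ n})).symm.toLinearMap

lemma cf_mk (i : ℕ) (hi : i < n) (p : R[X]) :
    cf R n i hi (Ideal.Quotient.mk (Ideal.span {(X : R[X]) ^ n}) p) = p.coeff i := rfl

lemma eq_zero_of_cf (a : Rn R n) (h : ∀ i (hi : i < n), cf R n i hi a = 0) : a = 0 := by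
  obtain ⟨p, rfl⟩ := Ideal.Quotient.mk_surjective a
  rw [Ideal.Quotient.eq_zero_iff_mem, Ideal.mem_span_singleton, X_pow_dvd_iff]
  intro d hd
  exact h d hd

lemma eq_of_cf (a b : Rn R n) (h : ∀ i (hi : i < n), cf R n i hi a = cf R n i hi b) : a = b := by
  rw [← sub_eq_zero]
  apply eq_zero_of_cf
  intro i hi
  rw [map_sub, h i hi, sub_self]

lemma cf_z_pow_mul (i j : ℕ) (hj : j < n) (a : Rn R n) :
    cf R n j hj (z R n ^ i * a) =
      if h : i ≤ j then cf R n (j - i) (by omega) a else 0 := by
  obtain ⟨p, rfl⟩ := Ideal.Quotient.mk_surjective a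
  rw [z, ← map_pow, ← map_mul, cf_mk, coeff_X_pow_mul']
  split_ifs <;> simp [cf_mk]

lemma cf_smul_z_pow (i j : ℕ) (hj : j < n) (r : R) :
    cf R n j hj (r • z R n ^ i) = if j = i then r else 0 := by
  rw [map_smul, z, ← map_pow, cf_mk, coeff_X_pow]
  split_ifs <;> simp

lemma z_pow_n : z R n ^ n = 0 := by
  rw [z, ← map_pow, Ideal.Quotient.eq_zero_iff_mem]
  exact Ideal.mem_span_singleton_self _

variable {R n}
variable {M : Type u} [AddCommGroup M] [Module (Rn R n) M] [Module R M]
  [IsScalarTower R (Rn R n) M]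

/-- The `R`-linear map underlying the `A`-linear form attached to an `R`-linear form. -/
noncomputable def l0 (lam : M →ₗ[R] R) : M →ₗ[R] Rn R n :=
  ∑ i ∈ Finset.range n, (LinearMap.toSpanSingleton R (Rn R n) (z R n ^ i)) ∘ₗ lam ∘ₗ
    ((LinearMap.lsmul (Rn R n) M (z R n ^ (n - 1 - i))).restrictScalars R)

lemma l0_apply (lam : M →ₗ[R] R) (m : M) :
    l0 lam m = ∑ i ∈ Finset.range n, lam (z R n ^ (n - 1 - i) • m) • z R n ^ i := by
  simp [l0, LinearMap.sum_apply]

lemma cf_l0 (lam : M →ₗ[R] R) (m : M) (j : ℕ) (hj : j < n) :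
    cf R n j hj (l0 lam m) = lam (z R n ^ (n - 1 - j) • m) := by
  rw [l0_apply, map_sum]
  simp_rw [cf_smul_z_pow]
  rw [Finset.sum_eq_single j]
  · simp
  · intro b _ hb
    rw [if_neg (Ne.symm hb)]
  · intro h
    exact absurd (Finset.mem_range.mpr hj) h

lemma l0_z_smul (lam : M →ₗ[R] R) (m : M) : l0 lam (z R n • m) = z R n * l0 lam m := by
  apply eq_of_cf
  intro j hj
  have h1 := cf_z_pow_mul R n 1 j hj (l0 lam m)
  rw [pow_one] at h1
  rw [h1, cf_l0]
  split_ifs with h
  · rw [cf_l0, ← mul_smul, ← pow_succ]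
    congr 3
    omega
  · have hj0 : j = 0 := by omega
    subst hj0
    rw [← mul_smul, ← pow_succ, show n - 1 - 0 + 1 = n by omega, z_pow_n, zero_smul (Rn R n) m,
      map_zero]

lemma l0_smul (lam : M →ₗ[R] R) (a : Rn R n) (m : M) : l0 lam (a • m) = a * l0 lam m := by
  obtain ⟨p, rfl⟩ := Ideal.Quotient.mk_surjective a
  induction p using Polynomial.induction_on generalizing m with
  | C r =>
    have : (Ideal.Quotient.mk (Ideal.span {(X : R[X]) ^ n}) (C r)) = algebraMap R (Rn R n) r := rfl
    rw [this, algebraMap_smul, map_smul]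
    exact Algebra.smul_def (A := Rn R n) r (l0 lam m)
  | add p q hp hq =>
    rw [map_add, add_smul, map_add, hp, hq, add_mul]
  | monomial k r h =>
    have : (Ideal.Quotient.mk (Ideal.span {(X : R[X]) ^ n}) (C r * X ^ (k + 1))) =
        (Ideal.Quotient.mk (Ideal.span {(X : R[X]) ^ n}) (C r * X ^ k)) * z R n := by
      rw [z, ← map_mul, pow_succ, mul_assoc]
    rw [this, mul_smul, h, l0_z_smul, mul_assoc]

/-- The `A`-linear form attached to an `R`-linear form. -/
noncomputable def lift (lam : M →ₗ[R] R) : M →ₗ[Rn R n] Rn R n :=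
  { toFun := l0 lam
    map_add' := map_add _
    map_smul' := fun a m => by simp [l0_smul] }

lemma cf_lift (lam : M →ₗ[R] R) (m : M) (j : ℕ) (hj : j < n) :
    cf R n j hj (lift lam m) = lam (z R n ^ (n - 1 - j) • m) := cf_l0 lam m j hj

end frobenius

/-- Let R be a discrete valuation ring, n ≥ 1, A = R[X]/(X^n), and 0 → M' → M → M'' → 0 a short exact
sequence of finitely generated A-modules with M and M'' torsion-free as R-modules (so M' is as
well). Then the A-dual sequence 0 → Hom_A(M'', A) → Hom_A(M, A) → Hom_A(M', A) → 0 is exact; the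
content is that every A-linear form on M' extends to M, i.e. restriction of forms along M' → M is
surjective. (Statement at a closed point of the sheaf statement on a primitive multiple curve of
multiplicity n, whose local rings are of the form R[X]/(X^n) with R the local ring of the reduced
smooth curve; stated for every discrete valuation ring R.) -/
theorem result (R : Type u) [CommRing R] [IsDomain R] [IsDiscreteValuationRing R] (n : ℕ) (hn : 1 ≤ n) (M' M M'' : Type u) [AddCommGroup M'] [Module (MultCrv.Rn R n) M'] [AddCommGroup M] [Module (MultCrv.Rn R n) M] [Module R M] [IsScalarTower R (MultCrv.Rn R n) M] [Module.Finite (MultCrv.Rn R n) M] [Module.IsTorsionFree R M] [AddCommGroup M''] [Module (MultCrv.Rn R n) M''] [Module R M''] [IsScalarTower R (MultCrv.Rn R n) M''] [Module.Finite (MultCrv.Rn R n) M''] [Module.IsTorsionFree R M''] (f : M' →ₗ[MultCrv.Rn R n] M) (g : M →ₗ[MultCrv.Rn R n] M'') (hf : Function.Injective f) (hg : Function.Surjective g) (hfg : LinearMap.range f = LinearMap.ker g) : Function.Surjective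 (f.dualMap : Module.Dual (MultCrv.Rn R n) M →ₗ[MultCrv.Rn R n] Module.Dual (MultCrv.Rn R n) M') := by
  intro l'
  let _ : Module R M' := Module.compHom M' (algebraMap R (Rn R n))
  have hsm : ∀ (r : R) (m : M'), r • m = algebraMap R (Rn R n) r • m := fun _ _ => rfl
  have : IsScalarTower R (Rn R n) M' := ⟨fun r a m => by
    rw [hsm, ← mul_smul]
    congr 1
    exact Algebra.smul_def (A := Rn R n) r a⟩
  have hfinA : Module.Finite R (Rn R n) := (monic_X_pow n).finite_adjoinRoot
  have hfin'' : Module.Finite R M'' := Module.Finite.trans (Rn R n) M''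
  have hfree : Module.Free R M'' := inferInstance
  obtain ⟨s, hs⟩ := Module.projective_lifting_property (g.restrictScalars R)
    (LinearMap.id : M'' →ₗ[R] M'') hg
  have hexact : Function.Exact (f.restrictScalars R) (g.restrictScalars R) := by
    intro y
    have := congrArg (fun S : Submodule (Rn R n) M => y ∈ S) hfg
    simp only [LinearMap.mem_range, LinearMap.mem_ker, eq_iff_iff] at this
    exact ⟨fun h => this.mpr h, fun h => this.mp h⟩
  have h01 := (hexact.split_tfae').out 0 1
  obtain ⟨-, ρ, hρ⟩ := h01.mp ⟨hf, s, hs⟩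
  have hρ' : ∀ m', ρ (f m') = m' := fun m' => LinearMap.congr_fun hρ m'
  have hn1 : n - 1 < n := by omega
  refine ⟨lift ((cf R n (n - 1) hn1) ∘ₗ (l'.restrictScalars R) ∘ₗ ρ), ?_⟩
  apply LinearMap.ext
  intro m'
  apply eq_of_cf
  intro j hj
  rw [LinearMap.dualMap_apply, cf_lift]
  simp only [LinearMap.coe_comp, Function.comp_apply, LinearMap.coe_restrictScalars]
  rw [← map_smul f, hρ', map_smul, smul_eq_mul, cf_z_pow_mul]
  rw [dif_pos (by omega)]
  have key : n - 1 - (n - 1 - j) = j := by omega
  congr 2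

end Groth.Agent.S17941
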