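import Groth.Statements.S0571
import Groth.Agent.Lib.FiniteIntClosure98

set_option maxHeartbeats 400000

set_option autoImplicit false
universe u
open CAlg

namespace Groth.Agent.S0571

open Groth.Agent.Lib.FiniteIntClosure98 Groth.Agent.Lib.NormalLocus98

/-- A Noetherian domain `R` is N-1 exactly when (a) `R_f` is integrally closed for some nonzero `f`, and
(b) the localization of `R` at every maximal ideal is N-1. -/
theorem result (R : Type u) [CommRing R] [IsDomain R]
    [IsNoetherianRing R] :
    CAlg.IsN1 R ↔ ((∃ f : R, f ≠ 0 ∧ IsIntegrallyClosed (Localization.Away f)) ∧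
      ∀ (m : Ideal R) [m.IsMaximal], CAlg.IsN1 (Localization.AtPrime m)) := by
  constructor
  · intro h
    have h' : Module.Finite R (integralClosure R (FractionRing R)) := h
    refine ⟨?_, fun m _ => ?_⟩
    · obtain ⟨f, hf, hcond⟩ := exists_conductor (FractionRing R) h'
      refine ⟨f, hf, ?_⟩
      rw [isIntegrallyClosed_iff_of_isLocalization (Submonoid.powers f)
        (powers_le_nonZeroDivisors_of_noZeroDivisors hf) (Localization.Away f) (FractionRing R)]
      intro x hx
      obtain ⟨a, ha⟩ := hcond x hx
      exact ⟨f, Submonoid.mem_powers f, a, ha⟩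
    · exact (isN1_localization m.primeCompl m.primeCompl_le_nonZeroDivisors
        (Localization.AtPrime m) (FractionRing R)).2 h'
  · rintro ⟨⟨f, hf, hn⟩, hloc⟩
    show Module.Finite R (integralClosure R (FractionRing R))
    have hinj := IsFractionRing.injective R (FractionRing R)
    haveI : Algebra.IsAlgebraic R (FractionRing R) :=
      IsLocalization.isAlgebraic (FractionRing R) (nonZeroDivisors R)
    apply finite_integralClosure_of_local hinj f hf ∅ (by simp)
    · intro x hx
      obtain ⟨n, a, ha⟩ := exists_pow_mul_of_isIntegrallyClosed_away f hf hn (FractionRing R) x hx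
      refine ⟨n, ?_⟩
      rw [Algebra.smul_def, ha]
      exact Subalgebra.algebraMap_mem _ a
    · intro m hm
      have hm' : Module.Finite (Localization.AtPrime m)
          (integralClosure (Localization.AtPrime m) (FractionRing (Localization.AtPrime m))) :=
        hloc m
      obtain ⟨T, hT, hT'⟩ := (isN1_localization m.primeCompl m.primeCompl_le_nonZeroDivisors
        (Localization.AtPrime m) (FractionRing R)).1 hm'
      exact ⟨T, hT, fun x hx => hT' x hx⟩

end Groth.Agent.S0571
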