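import Groth.Statements.S9833
import Groth.Agent.Lib.NagataLocal98
import Mathlib.AlgebraicGeometry.AffineScheme
import Mathlib.AlgebraicGeometry.Properties

set_option autoImplicit false
universe u
open CategoryTheory AlgebraicGeometry TopologicalSpace
open Props

namespace Groth.Agent.S9833

/-- If a scheme has an affine open covering by spectra of Nagata rings, then the coordinate ring of
every affine open is Nagata. -/
theorem result (X : Scheme.{u}) {ι : Type u} (U : ι → X.Opens)
    (hU : iSup U = ⊤) (haff : ∀ i, IsAffineOpen (U i)) (hN : ∀ i, CAlg.IsNagata Γ(X, U i))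
    (V : X.Opens) (hV : IsAffineOpen V) : CAlg.IsNagata Γ(X, V) := by
  refine of_affine_open_cover
    (P := fun W : X.affineOpens => CAlg.IsNagata Γ(X, W.1))
    (fun i => (⟨U i, haff i⟩ : X.affineOpens)) hU ⟨V, hV⟩ ?_ ?_ ?_
  · intro W f hW
    have := W.2.isLocalization_basicOpen f
    exact Groth.Agent.Lib.NagataLocal98.isNagata_away f Γ(X, X.basicOpen f) hW
  · intro W s hs h
    refine Groth.Agent.Lib.NagataLocal98.isNagata_of_span s hs (fun f hf => ?_)
    have := W.2.isLocalization_basicOpen f
    exact ⟨Γ(X, X.basicOpen f), inferInstance, inferInstance, inferInstance, h ⟨f, hf⟩⟩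
  · intro i
    exact hN i

end Groth.Agent.S9833
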