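import Groth.Statements.S2172
import Mathlib
-- import your own Groth.Agent.* helpers here

set_option autoImplicit false
open Finset
open Models

namespace Groth.Agent.S2172

/-- dimension of the kernel of a composite -/
theorem finrank_ker_comp_le {F : Type} [Field F] {V W U : Type} [AddCommGroup V] [Module F V]
    [AddCommGroup W] [Module F W] [AddCommGroup U] [Module F U] [FiniteDimensional F V]
    [FiniteDimensional F W] (g : V →ₗ[F] W) (f : W →ₗ[F] U) :
    Module.finrank F (LinearMap.ker (f.comp g)) ≤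
      Module.finrank F (LinearMap.ker g) + Module.finrank F (LinearMap.ker f) := by
  set K := LinearMap.ker (f.comp g) with hK
  set h : K →ₗ[F] W := g.domRestrict K with hh
  have h1 := LinearMap.finrank_range_add_finrank_ker h
  have h2 : Module.finrank F (LinearMap.range h) ≤ Module.finrank F (LinearMap.ker f) := by
    apply Submodule.finrank_mono
    rintro _ ⟨⟨x, hx⟩, rfl⟩
    simpa [hh, hK] using hx
  have h3 : Module.finrank F (LinearMap.ker h) ≤ Module.finrank F (LinearMap.ker g) := by
    rw [hh, LinearMap.ker_domRestrict]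
    have : Module.finrank F (Submodule.comap K.subtype (LinearMap.ker g)) =
        Module.finrank F ((Submodule.comap K.subtype (LinearMap.ker g)).map K.subtype) :=
      (Submodule.finrank_map_subtype_eq _ _).symm
    rw [this]
    apply Submodule.finrank_mono
    rw [Submodule.map_comap_subtype]
    exact inf_le_right
  omega

/-- double sums over ordered pairs -/
theorem sum_lt_pairs {F : Type} [Field F] {n : ℕ} (g : Fin n → Fin n → F) :
    ∑ i, ∑ j, (if i < j then g i j + g j i else 0) = ∑ i, ∑ j, g i j - ∑ i, g i i := by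
  have h1 : ∑ i : Fin n, ∑ j : Fin n, (if i < j then g j i else 0)
      = ∑ i : Fin n, ∑ j : Fin n, (if j < i then g i j else 0) := Finset.sum_comm
  have h2 : ∑ i : Fin n, ∑ j : Fin n, (if i < j then g i j + g j i else 0)
      = ∑ i : Fin n, ∑ j : Fin n, (if i < j then g i j else 0)
        + ∑ i : Fin n, ∑ j : Fin n, (if i < j then g j i else 0) := by
    rw [← Finset.sum_add_distrib]
    apply Finset.sum_congr rfl; intro i _
    rw [← Finset.sum_add_distrib]
    apply Finset.sum_congr rfl; intro j _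
    split_ifs <;> simp
  rw [h2, h1, ← Finset.sum_add_distrib, ← Finset.sum_sub_distrib]
  apply Finset.sum_congr rfl; intro i _
  rw [← Finset.sum_add_distrib]
  have key : ∀ j, (if i < j then g i j else 0) + (if j < i then g i j else 0)
      = g i j - (if j = i then g i i else 0) := by
    intro j
    rcases lt_trichotomy i j with h | h | h
    · rw [if_pos h, if_neg (not_lt.mpr h.le), if_neg (ne_of_gt h)]; ring
    · subst h; simp
    · rw [if_neg (not_lt.mpr h.le), if_pos h, if_neg (ne_of_lt h)]; ring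
  rw [Finset.sum_congr rfl (fun j _ => key j), Finset.sum_sub_distrib, Finset.sum_ite_eq']
  simp

theorem key_identity {F : Type} [Field F] {n : ℕ} (Ab : Matrix (Fin n) (Fin n) F) (mb : Fin n → F)
    (hsymm : Ab.IsSymm) (hm : ∀ i, mb i ≠ 0) (hAm : Ab.mulVec mb = 0) (x x' : Fin n → F) :
    ∑ i, ∑ j, (if i < j then (Ab i j * mb i * mb j) * (x i / mb i - x j / mb j) *
        (x' i / mb i - x' j / mb j) else 0) = - (x' ⬝ᵥ Ab.mulVec x) := by
  set u : Fin n → F := fun i => x i / mb i with hu
  set u' : Fin n → F := fun i => x' i / mb i with hu'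
  set c : Fin n → Fin n → F := fun i j => Ab i j * mb i * mb j with hc
  have hcs : ∀ i j, c i j = c j i := by
    intro i j; simp only [hc]; rw [hsymm.apply j i]; ring
  have hrow : ∀ i, ∑ j, c i j = 0 := by
    intro i
    have := congrFun hAm i
    simp only [Matrix.mulVec, dotProduct, Pi.zero_apply] at this
    calc ∑ j, c i j = mb i * ∑ j, Ab i j * mb j := by
          rw [Finset.mul_sum]; apply Finset.sum_congr rfl; intro j _; simp only [hc]; ring
      _ = 0 := by rw [this, mul_zero]
  have hx : ∀ i, x i = mb i * u i := by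
    intro i; simp only [hu]; field_simp [hm i]
  have hx' : ∀ i, x' i = mb i * u' i := by
    intro i; simp only [hu']; field_simp [hm i]
  set g : Fin n → Fin n → F := fun i j => c i j * u i * (u' i - u' j) with hg
  have e1 : ∑ i, ∑ j, (if i < j then c i j * (u i - u j) * (u' i - u' j) else 0)
      = ∑ i, ∑ j, (if i < j then g i j + g j i else 0) := by
    apply Finset.sum_congr rfl; intro i _
    apply Finset.sum_congr rfl; intro j _
    split_ifs
    · simp only [hg]; rw [hcs j i]; ring
    · rfl
  have e2 : ∑ i, g i i = 0 := by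
    apply Finset.sum_eq_zero; intro i _; simp [hg]
  have e3 : ∑ i, ∑ j, g i j = - ∑ i, ∑ j, c i j * u i * u' j := by
    rw [← Finset.sum_neg_distrib]
    apply Finset.sum_congr rfl; intro i _
    have : ∑ j, g i j = u i * u' i * ∑ j, c i j - ∑ j, c i j * u i * u' j := by
      rw [Finset.mul_sum, ← Finset.sum_sub_distrib]
      apply Finset.sum_congr rfl; intro j _; simp only [hg]; ring
    rw [this, hrow i, mul_zero, zero_sub]
  have e4 : x' ⬝ᵥ Ab.mulVec x = ∑ i, ∑ j, c i j * u i * u' j := by
    simp only [Matrix.mulVec, dotProduct]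
    rw [Finset.sum_comm]
    apply Finset.sum_congr rfl; intro i _
    rw [Finset.mul_sum]
    apply Finset.sum_congr rfl; intro j _
    rw [hx' i, hx j, hcs j i]
    simp only [hc]; ring
  show ∑ i, ∑ j, (if i < j then c i j * (u i - u j) * (u' i - u' j) else 0) = _
  rw [e1, sum_lt_pairs, e2, sub_zero, e3, e4]

/-- the weighted incidence matrix -/
def Dm {F : Type} [Field F] {n : ℕ} (mb : Fin n → F) (P : Fin n × Fin n → Prop) :
    Matrix {p : Fin n × Fin n // P p} (Fin n) F :=
  Matrix.of fun e l => (if l = e.1.1 then (mb l)⁻¹ else 0) - (if l = e.1.2 then (mb l)⁻¹ else 0)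

theorem Dm_mulVec {F : Type} [Field F] {n : ℕ} (mb : Fin n → F) (P : Fin n × Fin n → Prop)
    (x : Fin n → F) (e : {p : Fin n × Fin n // P p}) :
    (Dm mb P).mulVec x e = x e.1.1 / mb e.1.1 - x e.1.2 / mb e.1.2 := by
  simp only [Dm, Matrix.mulVec, dotProduct, Matrix.of_apply, sub_mul, Finset.sum_sub_distrib, ite_mul,
    zero_mul, Finset.sum_ite_eq', Finset.mem_univ, if_true]
  rw [div_eq_inv_mul, div_eq_inv_mul]

theorem laplacian_ker_bound {F : Type} [Field F] {n : ℕ} (Ab : Matrix (Fin n) (Fin n) F)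
    (mb : Fin n → F) (hsymm : Ab.IsSymm) (hm : ∀ i, mb i ≠ 0) (hAm : Ab.mulVec mb = 0)
    (P : Fin n × Fin n → Prop) [DecidablePred P] (hP : ∀ i j, P (i, j) ↔ i < j ∧ Ab i j ≠ 0)
    (hconn : ∀ I : Finset (Fin n), I.Nonempty → I ≠ univ → ∃ i ∈ I, ∃ j ∉ I, Ab i j ≠ 0) :
    Module.finrank F (LinearMap.ker Ab.mulVecLin) + n ≤ (univ.filter P).card + 2 := by
  classical
  set E := {p : Fin n × Fin n // P p} with hE
  have hcardE : Fintype.card E = (univ.filter P).card := Fintype.card_subtype P
  set D : Matrix E (Fin n) F := Dm mb P with hD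
  set ω : E → F := fun e => Ab e.1.1 e.1.2 * mb e.1.1 * mb e.1.2 with hω
  have hω0 : ∀ e, ω e ≠ 0 := by
    intro e
    have := (hP e.1.1 e.1.2).mp e.2
    exact mul_ne_zero (mul_ne_zero this.2 (hm _)) (hm _)
  set B : Matrix (Fin n) E F := D.transpose * Matrix.diagonal ω with hB
  -- kernel of D is at most one-dimensional
  have hkerD : Module.finrank F (LinearMap.ker D.mulVecLin) ≤ 1 := by
    rcases Nat.eq_zero_or_pos n with hn | hn
    · subst hn
      have : Module.finrank F (Fin 0 → F) = 0 := by simp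
      have h2 := Submodule.finrank_le (LinearMap.ker D.mulVecLin)
      omega
    · set i₀ : Fin n := ⟨0, hn⟩
      apply finrank_le_one (⟨mb, by
        rw [LinearMap.mem_ker, Matrix.mulVecLin_apply]
        ext e
        rw [Dm_mulVec, Pi.zero_apply, div_self (hm _), div_self (hm _), sub_self]⟩ :
          LinearMap.ker D.mulVecLin)
      rintro ⟨x, hx⟩
      rw [LinearMap.mem_ker, Matrix.mulVecLin_apply] at hx
      have hxe : ∀ e : E, x e.1.1 / mb e.1.1 = x e.1.2 / mb e.1.2 := by
        intro e
        have := congrFun hx e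
        rw [Dm_mulVec, Pi.zero_apply, sub_eq_zero] at this
        exact this
      -- level set of i₀
      set I : Finset (Fin n) := univ.filter (fun i => x i / mb i = x i₀ / mb i₀) with hI
      have hIne : I.Nonempty := ⟨i₀, by simp [hI]⟩
      have hIuniv : I = univ := by
        by_contra hne
        obtain ⟨i, hi, j, hj, hij⟩ := hconn I hIne hne
        have hi' : x i / mb i = x i₀ / mb i₀ := by simpa [hI] using hi
        have hj' : ¬ x j / mb j = x i₀ / mb i₀ := by simpa [hI] using hj
        have hne' : i ≠ j := by rintro rfl; exact hj hi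
        rcases lt_or_gt_of_ne hne' with h | h
        · have := hxe ⟨(i, j), (hP i j).mpr ⟨h, hij⟩⟩
          simp only at this
          exact hj' (this ▸ hi')
        · have hji : Ab j i ≠ 0 := by rw [hsymm.apply i j]; exact hij
          have := hxe ⟨(j, i), (hP j i).mpr ⟨h, hji⟩⟩
          simp only at this
          exact hj' (this.trans hi')
      refine ⟨x i₀ / mb i₀, ?_⟩
      apply Subtype.ext
      ext i
      have hi : i ∈ I := by rw [hIuniv]; exact Finset.mem_univ i
      have hi' : x i / mb i = x i₀ / mb i₀ := by simpa [hI] using hi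
      simp only [Submodule.coe_smul, Pi.smul_apply, smul_eq_mul]
      rw [← hi']; field_simp [hm i]
  -- ranks
  have hrD := LinearMap.finrank_range_add_finrank_ker D.mulVecLin
  have hrB := LinearMap.finrank_range_add_finrank_ker B.mulVecLin
  have hrankB : B.rank = D.rank := by
    rw [hB, Matrix.rank_mul_eq_left_of_isUnit_det, Matrix.rank_transpose]
    rw [Matrix.det_diagonal]
    exact isUnit_iff_ne_zero.mpr (Finset.prod_ne_zero_iff.mpr (fun e _ => hω0 e))
  unfold Matrix.rank at hrankB
  rw [hrankB] at hrB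
  have hdimE : Module.finrank F (E → F) = (univ.filter P).card := by
    rw [Module.finrank_fintype_fun_eq_card, hcardE]
  have hdimn : Module.finrank F (Fin n → F) = n := by simp
  rw [hdimE] at hrB
  rw [hdimn] at hrD
  -- kernel of Ab is inside the kernel of the composite
  have hle : LinearMap.ker Ab.mulVecLin ≤ LinearMap.ker (B.mulVecLin.comp D.mulVecLin) := by
    intro x hx
    rw [LinearMap.mem_ker, Matrix.mulVecLin_apply] at hx
    rw [LinearMap.mem_ker, LinearMap.comp_apply, Matrix.mulVecLin_apply, Matrix.mulVecLin_apply]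
    ext a
    rw [Pi.zero_apply]
    have hBae : ∀ e : E, B a e = D e a * ω e := by
      intro e
      rw [hB, Matrix.mul_diagonal, Matrix.transpose_apply]
    have hsingle : ∀ e : E, D.mulVec (Pi.single a 1) e = D e a := by
      intro e
      simp [Matrix.mulVec, dotProduct, Pi.single_apply]
    have h1 : (B.mulVec (D.mulVec x)) a
        = ∑ e : E, ω e * (D.mulVec x e) * (D.mulVec (Pi.single a 1) e) := by
      rw [Matrix.mulVec, dotProduct]
      apply Finset.sum_congr rfl
      intro e _
      rw [hBae, hsingle]; ring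
    rw [h1]
    have h2 := key_identity Ab mb hsymm hm hAm x (Pi.single a 1)
    rw [hx] at h2
    set f : Fin n × Fin n → F := fun p => (Ab p.1 p.2 * mb p.1 * mb p.2) *
        (x p.1 / mb p.1 - x p.2 / mb p.2) *
        ((Pi.single a 1 : Fin n → F) p.1 / mb p.1 - (Pi.single a 1 : Fin n → F) p.2 / mb p.2) with hf
    have h3 : ∑ e : E, ω e * (D.mulVec x e) * (D.mulVec (Pi.single a 1) e)
        = ∑ i, ∑ j, (if i < j then f (i, j) else 0) := by
      have h4 : ∀ e : E, ω e * (D.mulVec x e) * (D.mulVec (Pi.single a 1) e) = f e.1 := by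
        intro e
        rw [hD, Dm_mulVec, Dm_mulVec]
      rw [Finset.sum_congr rfl (fun e _ => h4 e), ← Fintype.sum_prod_type',
        ← Finset.sum_subtype (univ.filter P) (fun p => by simp) f, Finset.sum_filter]
      apply Finset.sum_congr rfl
      rintro ⟨i, j⟩ _
      by_cases hij : i < j
      · by_cases hA : Ab i j = 0
        · rw [if_neg (fun h => ((hP i j).mp h).2 hA), if_pos hij]
          simp only [hf, hA]; ring
        · rw [if_pos ((hP i j).mpr ⟨hij, hA⟩), if_pos hij]
      · rw [if_neg (fun h => hij ((hP i j).mp h).1), if_neg hij]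
    rw [h3]
    simp only [hf]
    rw [h2]
    simp
  have h5 := Submodule.finrank_mono hle
  have h6 := finrank_ker_comp_le D.mulVecLin B.mulVecLin
  omega

/-- Let A be a symmetric integer n by n matrix with non-negative off-diagonal entries killing an integer
vector m with positive entries, such that no proper non-empty index set is orthogonal to its
complement. Write e for the number of index pairs i < j where A i j > 0, and let l be a prime
dividing none of the nonzero entries of A and none of the m i. Then the l-torsion subgroup of the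
cokernel of A on Z^n has at most l^(1 - n + e) elements, i.e. F_l-dimension at most 1 - n + e (the
exponent is written with truncated subtraction; e + 1 is never smaller than n here). -/
theorem result {n : ℕ} (A : Matrix (Fin n) (Fin n) ℤ)
    (m : Fin n → ℤ) (hsymm : A.IsSymm) (hA : ∀ i j, i ≠ j → 0 ≤ A i j) (hm : ∀ i, 0 < m i)
    (hAm : A.mulVec m = 0)
    (hconn : ∀ I : Finset (Fin n), I.Nonempty → I ≠ univ → ∃ i ∈ I, ∃ j ∉ I, A i j ≠ 0)
    (ℓ : ℕ) (hℓ : ℓ.Prime) (hℓA : ∀ i j, A i j ≠ 0 → ¬ ((ℓ : ℤ) ∣ A i j))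
    (hℓm : ∀ i, ¬ ((ℓ : ℤ) ∣ m i)) :
    Nat.card (Submodule.torsionBy ℤ ((Fin n → ℤ) ⧸ LinearMap.range (Matrix.mulVecLin A)) (ℓ : ℤ))
      ≤ ℓ ^ ((univ.filter fun p : Fin n × Fin n => p.1 < p.2 ∧ 0 < A p.1 p.2).card + 1 - n) := by
  classical
  have : Fact ℓ.Prime := ⟨hℓ⟩
  rcases Nat.eq_zero_or_pos n with hn | hn
  · subst hn
    have : Subsingleton ((Fin 0 → ℤ) ⧸ LinearMap.range (Matrix.mulVecLin A)) :=
      (Submodule.mkQ_surjective _).subsingleton
    rw [Nat.card_unique]
    exact Nat.one_le_pow _ _ hℓ.pos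
  set i₀ : Fin n := ⟨0, hn⟩ with hi₀
  set f : ℤ →+* ZMod ℓ := Int.castRingHom (ZMod ℓ) with hf
  set Ab : Matrix (Fin n) (Fin n) (ZMod ℓ) := A.map f with hAb
  set mb : Fin n → ZMod ℓ := f ∘ m with hmb
  have hcast0 : ∀ a : ℤ, f a = 0 ↔ (ℓ : ℤ) ∣ a := fun a => ZMod.intCast_zmod_eq_zero_iff_dvd a ℓ
  have hAbsymm : Ab.IsSymm := by
    ext i j
    simp only [hAb, Matrix.transpose_apply, Matrix.map_apply]
    rw [hsymm.apply i j]
  have hmb0 : ∀ i, mb i ≠ 0 := by
    intro i h
    exact hℓm i ((hcast0 _).mp h)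
  have hmapmul : ∀ v : Fin n → ℤ, Ab.mulVec (f ∘ v) = f ∘ (A.mulVec v) := by
    intro v; ext i
    exact (RingHom.map_mulVec f A v i).symm
  have hAbm : Ab.mulVec mb = 0 := by
    rw [hmb, hmapmul, hAm]; ext i; simp
  have hAb0 : ∀ i j, Ab i j ≠ 0 ↔ A i j ≠ 0 := by
    intro i j
    simp only [hAb, Matrix.map_apply]
    constructor
    · intro h h0; apply h; rw [h0, map_zero]
    · intro h h0; exact hℓA i j h ((hcast0 _).mp h0)
  have hP : ∀ i j : Fin n, (fun p : Fin n × Fin n => p.1 < p.2 ∧ 0 < A p.1 p.2) (i, j)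
      ↔ i < j ∧ Ab i j ≠ 0 := by
    intro i j
    simp only
    constructor
    · rintro ⟨h1, h2⟩; exact ⟨h1, (hAb0 i j).mpr (ne_of_gt h2)⟩
    · rintro ⟨h1, h2⟩
      exact ⟨h1, lt_of_le_of_ne (hA i j (ne_of_lt h1)) (Ne.symm ((hAb0 i j).mp h2))⟩
  have hconnb : ∀ I : Finset (Fin n), I.Nonempty → I ≠ univ → ∃ i ∈ I, ∃ j ∉ I, Ab i j ≠ 0 := by
    intro I h1 h2
    obtain ⟨i, hi, j, hj, hij⟩ := hconn I h1 h2
    exact ⟨i, hi, j, hj, (hAb0 i j).mpr hij⟩
  have hbound := laplacian_ker_bound Ab mb hAbsymm hmb0 hAbm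
    (fun p : Fin n × Fin n => p.1 < p.2 ∧ 0 < A p.1 p.2) hP hconnb
  set e := (univ.filter fun p : Fin n × Fin n => p.1 < p.2 ∧ 0 < A p.1 p.2).card with he
  set d := Module.finrank (ZMod ℓ) (LinearMap.ker Ab.mulVecLin) with hd
  set Φ := (Fin n → ℤ) ⧸ LinearMap.range (Matrix.mulVecLin A) with hΦ
  set T := Submodule.torsionBy ℤ Φ (ℓ : ℤ) with hT
  -- choose representatives
  have hrep : ∀ t : T, ∃ x y : Fin n → ℤ, Submodule.Quotient.mk x = t.1 ∧ A.mulVec y = (ℓ : ℤ) • x := by
    intro t
    obtain ⟨x, hx⟩ := Submodule.Quotient.mk_surjective _ t.1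
    have ht : (ℓ : ℤ) • t.1 = 0 := (Submodule.mem_torsionBy_iff _ _).mp t.2
    rw [← hx, ← Submodule.Quotient.mk_smul, Submodule.Quotient.mk_eq_zero] at ht
    obtain ⟨y, hy⟩ := ht
    exact ⟨x, y, hx, hy⟩
  choose xr yr hxr hyr using hrep
  have hker : ∀ (t : T) (c : ZMod ℓ), (f ∘ yr t) + c • mb ∈ LinearMap.ker Ab.mulVecLin := by
    intro t c
    rw [LinearMap.mem_ker, map_add, map_smul, Matrix.mulVecLin_apply, Matrix.mulVecLin_apply,
      hAbm, smul_zero, add_zero, hmapmul, hyr]
    ext i
    simp [hf]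
  set j : T × ZMod ℓ → LinearMap.ker Ab.mulVecLin := fun q => ⟨(f ∘ yr q.1) + q.2 • mb, hker q.1 q.2⟩
    with hj
  have hjinj : Function.Injective j := by
    rintro ⟨t, c⟩ ⟨t', c'⟩ h
    have h1 : (f ∘ yr t) + c • mb = (f ∘ yr t') + c' • mb := congrArg Subtype.val h
    obtain ⟨ct, hct⟩ := ZMod.intCast_surjective (c' - c)
    have h2 : ∀ i, (ℓ : ℤ) ∣ yr t i - yr t' i - ct * m i := by
      intro i
      rw [← hcast0]
      have := congrFun h1 i
      simp only [Pi.add_apply, Function.comp_apply, Pi.smul_apply, smul_eq_mul, hmb] at this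
      rw [map_sub, map_sub, map_mul]
      have hct' : f ct = c' - c := hct
      rw [hct']
      linear_combination this
    choose z hz using h2
    have h3 : A.mulVec (yr t) - A.mulVec (yr t') = (ℓ : ℤ) • A.mulVec z := by
      have : yr t - yr t' - ct • m = (ℓ : ℤ) • z := by
        ext i; simp only [Pi.sub_apply, Pi.smul_apply, smul_eq_mul]; exact hz i
      have h4 := congrArg A.mulVec this
      rw [Matrix.mulVec_sub, Matrix.mulVec_sub, Matrix.mulVec_smul, Matrix.mulVec_smul, hAm,
        smul_zero, sub_zero] at h4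
      exact h4
    rw [hyr, hyr, ← smul_sub] at h3
    have h5 : xr t - xr t' = A.mulVec z := by
      have hℓ0 : (ℓ : ℤ) ≠ 0 := by exact_mod_cast hℓ.ne_zero
      exact smul_right_injective _ hℓ0 h3
    have htt : t = t' := by
      apply Subtype.ext
      rw [← hxr t, ← hxr t', ← sub_eq_zero, ← Submodule.Quotient.mk_sub, Submodule.Quotient.mk_eq_zero,
        h5]
      exact ⟨z, rfl⟩
    subst htt
    have hcc : c = c' := by
      have := congrFun h1 i₀
      simp only [Pi.add_apply, Pi.smul_apply, smul_eq_mul, add_right_inj] at this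
      exact mul_right_cancel₀ (hmb0 i₀) this
    rw [hcc]
  have hcard := Nat.card_le_card_of_injective j hjinj
  have hkercard : Nat.card (LinearMap.ker Ab.mulVecLin) = ℓ ^ d := by
    rw [Module.natCard_eq_pow_finrank (K := ZMod ℓ) (V := LinearMap.ker Ab.mulVecLin), Nat.card_zmod]
  rw [Nat.card_prod, Nat.card_zmod, hkercard] at hcard
  rcases Nat.eq_zero_or_pos d with hd0 | hd0
  · rw [hd0, pow_zero] at hcard
    have h2 := hℓ.two_le
    have : Nat.card T = 0 := by
      by_contra hne
      have : 1 ≤ Nat.card T := Nat.one_le_iff_ne_zero.mpr hne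
      nlinarith
    rw [this]; exact Nat.zero_le _
  · have h1 : Nat.card T ≤ ℓ ^ (d - 1) := by
      have : ℓ ^ d = ℓ ^ (d - 1) * ℓ := by
        rw [← pow_succ]; congr 1; omega
      rw [this] at hcard
      exact Nat.le_of_mul_le_mul_right hcard hℓ.pos
    refine h1.trans (Nat.pow_le_pow_right hℓ.pos ?_)
    omega

end Groth.Agent.S2172
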