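import Groth.Statements.S2175
import Groth.Agent.Lib.NumType
import Mathlib

set_option autoImplicit false
open Finset
open Models Models.NumericalType

namespace Groth.Agent.S2175

open Finset
open Models Models.NumericalType
open Groth.Agent.Lib

/-- the halved-or-not weight -/
theorem wprime_spec (wi α β : ℤ) (hwi : 0 < wi) (a wl : ℤ) (hwl : 0 < wl) (h1 : a = wl * α) (h2 : a = wi * β) :
    ∃ d : ℤ, (d = 1 ∨ d = 2) ∧
      wi = d * (if 2 ∣ α ∧ ¬ 2 ∣ β then wi / 2 else wi) ∧
      0 < (if 2 ∣ α ∧ ¬ 2 ∣ β then wi / 2 else wi) ∧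
      (d = 2 ↔ (2 ∣ α ∧ ¬ 2 ∣ β)) := by
  by_cases hc : 2 ∣ α ∧ ¬ 2 ∣ β
  · rw [if_pos hc]
    have hwi2 : 2 ∣ wi := by
      obtain ⟨hα, hβ⟩ := hc
      have h3 : 2 ∣ wi * β := by rw [← h2, h1]; exact Dvd.dvd.mul_left hα _
      rcases Int.prime_two.dvd_or_dvd h3 with h | h
      · exact h
      · exact absurd h hβ
    obtain ⟨c, hc'⟩ := hwi2
    refine ⟨2, Or.inr rfl, ?_, ?_, by simp [hc]⟩
    · rw [hc', Int.mul_ediv_cancel_left _ (by norm_num)]
    · rw [hc', Int.mul_ediv_cancel_left _ (by norm_num)]; omega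
  · rw [if_neg hc]
    refine ⟨1, Or.inl rfl, by ring, hwi, ?_⟩
    constructor
    · intro h; norm_num at h
    · intro h; exact absurd h hc


/-- the correction term in the genus -/
theorem corr_spec (wi w' d α β a wl : ℤ) (hw' : 0 < w') (hwl : 0 < wl) (hd : d = 1 ∨ d = 2)
    (hwi : wi = d * w') (h1 : a = wl * α) (h2 : a = wi * β) (hd2 : d = 2 ↔ (2 ∣ α ∧ ¬ 2 ∣ β)) :
    2 * w' * ((a ^ 2 - wl * a) / (2 * w' * wl)) = a * (α - 1) ∧
    (a ^ 2 - wl * a) / (2 * w' * wl) = d * β * (α - 1) / 2 ∧ (2 : ℤ) ∣ d * β * (α - 1) := by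
  have hnum : a ^ 2 - wl * a = (w' * wl) * (d * β * (α - 1)) := by
    have e1 : a ^ 2 - wl * a = a * (a - wl) := by ring
    rw [e1]
    have e2 : a - wl = wl * (α - 1) := by rw [h1]; ring
    rw [e2]
    nth_rewrite 1 [h2]
    rw [hwi]
    ring
  have hden : 2 * w' * wl = (w' * wl) * 2 := by ring
  have hq : (a ^ 2 - wl * a) / (2 * w' * wl) = d * β * (α - 1) / 2 := by
    rw [hnum, hden, Int.mul_ediv_mul_of_pos _ _ (mul_pos hw' hwl)]
  have hdvd : (2 : ℤ) ∣ d * β * (α - 1) := by
    rcases hd with hd | hd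
    · have hnot : ¬ (2 ∣ α ∧ ¬ 2 ∣ β) := by
        intro hc
        have := hd2.2 hc
        omega
      subst hd
      by_cases hβ : 2 ∣ β
      · exact Dvd.dvd.mul_right (Dvd.dvd.mul_left hβ _) _
      · have hα : ¬ 2 ∣ α := fun hα => hnot ⟨hα, hβ⟩
        have : (2 : ℤ) ∣ α - 1 := by omega
        exact Dvd.dvd.mul_left this _
    · subst hd
      exact Dvd.dvd.mul_right (Dvd.dvd.mul_right (dvd_refl _) _) _
  refine ⟨?_, hq, hdvd⟩
  rw [hq]
  obtain ⟨c, hc⟩ := hdvd
  rw [hc, Int.mul_ediv_cancel_left _ (by norm_num)]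
  have : a * (α - 1) = w' * (d * β * (α - 1)) := by rw [h2, hwi]; ring
  rw [this, hc]
  ring

/-- nonnegativity of the new genus -/
theorem gprime_nonneg (d α β g : ℤ) (hd : d = 1 ∨ d = 2) (hα : 0 ≤ α) (hβ : 0 ≤ β)
    (hαβ : α = 0 ↔ β = 0) (hg : 0 ≤ g) (hd2 : d = 2 ↔ (2 ∣ α ∧ ¬ 2 ∣ β))
    (hdvd : (2 : ℤ) ∣ d * β * (α - 1)) :
    0 ≤ d * (g - 1) + 1 + d * β * (α - 1) / 2 := by
  obtain ⟨c, hc⟩ := hdvd
  rw [hc, Int.mul_ediv_cancel_left _ (by norm_num)]
  rcases hd with hd | hd
  · subst hd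
    have hc0 : 0 ≤ c := by
      by_cases h0 : α = 0
      · have := hαβ.1 h0
        subst h0
        subst this
        omega
      · have h1 : 0 ≤ β * (α - 1) := mul_nonneg hβ (by omega)
        nlinarith
    nlinarith
  · have hc' := hd2.1 hd
    subst hd
    obtain ⟨hα2, hβ2⟩ := hc'
    have hβ1 : 1 ≤ β := by omega
    have hα0 : α ≠ 0 := by
      intro h0
      have := hαβ.1 h0
      omega
    have hα2' : 2 ≤ α := by omega
    have : 1 ≤ β * (α - 1) := by nlinarith
    have hcβ : c = β * (α - 1) := by linarith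
    rw [hcβ]
    nlinarith


theorem mul_ediv_neg_aux (x w y : ℤ) (hw : w ≠ 0) : x * (w * y) / (-w) = -(x * y) := by
  have : x * (w * y) = (-w) * (-(x * y)) := by ring
  rw [this, Int.mul_ediv_cancel_left _ (neg_ne_zero.mpr hw)]

/-- Let T be a numerical type on n + 1 indices whose last index is a (-1)-index. Then the contracted
data (same multiplicities, a i j - a i l a j l / a l l, the halved-or-not w i, and the adjusted g i,
l the last index) is again a numerical type on n indices, and any such contraction has the same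
genus as T. -/
theorem result {n : ℕ} (T : Models.NumericalType (n + 1)) (h : T.IsMinusOne (Fin.last n)) :
    (∃ T' : Models.NumericalType n, T.IsContraction T') ∧
      ∀ T' : Models.NumericalType n, T.IsContraction T' → T'.genus = T.genus := by
  classical
  set l := Fin.last n with hl
  have hll : T.a l l = -T.w l := h.2
  have hgl : T.g l = 0 := h.1
  have hwl := T.w_pos l
  have hwl0 : T.w l ≠ 0 := ne_of_gt hwl
  have hal : ∀ i : Fin n, ∃ α : ℤ, T.a i.castSucc l = T.w l * α := fun i => by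
    obtain ⟨c, hc⟩ := T.w_dvd l i.castSucc
    exact ⟨c, by rw [NumType.a_symm T i.castSucc l, hc]⟩
  choose al hal using hal
  have hbe : ∀ i : Fin n, ∃ β : ℤ, T.a i.castSucc l = T.w i.castSucc * β :=
    fun i => T.w_dvd i.castSucc l
  choose be hbe using hbe
  have hne : ∀ i : Fin n, i.castSucc ≠ l := fun i => Fin.castSucc_ne_last i
  have hail_nonneg : ∀ i : Fin n, 0 ≤ T.a i.castSucc l := fun i => T.offDiag_nonneg _ _ (hne i)
  have hal_nonneg : ∀ i : Fin n, 0 ≤ al i := by
    intro i
    have := hail_nonneg i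
    rw [hal i] at this
    by_contra hc
    push Not at hc
    nlinarith
  have hbe_nonneg : ∀ i : Fin n, 0 ≤ be i := by
    intro i
    have := hail_nonneg i
    rw [hbe i] at this
    have hwi := T.w_pos i.castSucc
    by_contra hc
    push Not at hc
    nlinarith
  have halbe : ∀ i : Fin n, al i = 0 ↔ be i = 0 := by
    intro i
    have hwi := T.w_pos i.castSucc
    have e : T.w l * al i = T.w i.castSucc * be i := by rw [← hal i, hbe i]
    constructor
    · intro h0
      rw [h0, mul_zero] at e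
      rcases mul_eq_zero.1 e.symm with h | h
      · omega
      · exact h
    · intro h0
      rw [h0, mul_zero] at e
      rcases mul_eq_zero.1 e with h | h
      · omega
      · exact h
  -- quotients
  have hq1 : ∀ i : Fin n, T.a i.castSucc l / T.w l = al i := fun i => by
    rw [hal i, Int.mul_ediv_cancel_left _ hwl0]
  have hq2 : ∀ i : Fin n, T.a i.castSucc l / T.w i.castSucc = be i := fun i => by
    rw [hbe i, Int.mul_ediv_cancel_left _ (ne_of_gt (T.w_pos i.castSucc))]
  have hq3 : ∀ i j : Fin n, T.a i.castSucc l * T.a j.castSucc l / T.a l l =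
      -(T.a i.castSucc l * al j) := fun i j => by
    rw [hll, hal j]
    exact mul_ediv_neg_aux _ _ _ hwl0
  -- row sums
  have hrow_l : ∑ i : Fin n, al i * T.m i.castSucc = T.m l := by
    have h1 := NumType.row_sum T l
    rw [Fin.sum_univ_castSucc] at h1
    have h2 : ∑ i : Fin n, T.a l i.castSucc * T.m i.castSucc =
        T.w l * ∑ i : Fin n, al i * T.m i.castSucc := by
      rw [Finset.mul_sum]
      apply Finset.sum_congr rfl
      intro i _
      rw [NumType.a_symm T l i.castSucc, hal i]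
      ring
    rw [h2, hll] at h1
    have h3 : T.w l * (∑ i : Fin n, al i * T.m i.castSucc - T.m l) = 0 := by linarith
    rcases mul_eq_zero.1 h3 with h | h
    · omega
    · linarith
  have hrow_i : ∀ i : Fin n, ∑ j : Fin n, T.a i.castSucc j.castSucc * T.m j.castSucc =
      -(T.a i.castSucc l * T.m l) := by
    intro i
    have h1 := NumType.row_sum T i.castSucc
    rw [Fin.sum_univ_castSucc] at h1
    linarith
  -- n positive
  have hn : 0 < n := by
    rcases Nat.eq_zero_or_pos n with h0 | h0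
    · exfalso
      subst h0
      have h1 := NumType.row_sum T l
      rw [Fin.sum_univ_castSucc] at h1
      simp only [Finset.univ_eq_empty, Finset.sum_empty, zero_add] at h1
      rw [hll] at h1
      have := T.m_pos l
      rcases mul_eq_zero.1 h1 with h | h
      · linarith
      · linarith
    · exact h0
  -- the new data
  let a' : Matrix (Fin n) (Fin n) ℤ := fun i j => T.a i.castSucc j.castSucc -
      T.a i.castSucc (Fin.last n) * T.a j.castSucc (Fin.last n) / T.a (Fin.last n) (Fin.last n)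
  let w' : Fin n → ℤ := fun i =>
      if 2 ∣ T.a i.castSucc (Fin.last n) / T.w (Fin.last n) ∧
          ¬ 2 ∣ T.a i.castSucc (Fin.last n) / T.w i.castSucc
      then T.w i.castSucc / 2 else T.w i.castSucc
  let g' : Fin n → ℤ := fun i => T.w i.castSucc / w' i * (T.g i.castSucc - 1) + 1 +
      (T.a i.castSucc (Fin.last n) ^ 2 - T.w (Fin.last n) * T.a i.castSucc (Fin.last n)) /
        (2 * w' i * T.w (Fin.last n))
  have ha' : ∀ i j : Fin n, a' i j = T.a i.castSucc j.castSucc + T.a i.castSucc l * al j := by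
    intro i j
    show T.a i.castSucc j.castSucc - T.a i.castSucc l * T.a j.castSucc l / T.a l l = _
    rw [hq3]
    ring
  have hw'spec : ∀ i : Fin n, ∃ d : ℤ, (d = 1 ∨ d = 2) ∧ T.w i.castSucc = d * w' i ∧ 0 < w' i ∧
      (d = 2 ↔ (2 ∣ al i ∧ ¬ 2 ∣ be i)) := by
    intro i
    have := wprime_spec (T.w i.castSucc) (al i) (be i) (T.w_pos i.castSucc) (T.a i.castSucc l)
      (T.w l) hwl (hal i) (hbe i)
    show ∃ d : ℤ, (d = 1 ∨ d = 2) ∧ T.w i.castSucc = d *
      (if 2 ∣ T.a i.castSucc l / T.w l ∧ ¬ 2 ∣ T.a i.castSucc l / T.w i.castSucc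
        then T.w i.castSucc / 2 else T.w i.castSucc) ∧
      0 < (if 2 ∣ T.a i.castSucc l / T.w l ∧ ¬ 2 ∣ T.a i.castSucc l / T.w i.castSucc
        then T.w i.castSucc / 2 else T.w i.castSucc) ∧ (d = 2 ↔ (2 ∣ al i ∧ ¬ 2 ∣ be i))
    rw [hq1, hq2]
    exact this
  choose dd hdd hwd hw'pos hdd2 using hw'spec
  have hcorr : ∀ i : Fin n, 2 * w' i * ((T.a i.castSucc l ^ 2 - T.w l * T.a i.castSucc l) /
      (2 * w' i * T.w l)) = T.a i.castSucc l * (al i - 1) ∧
      (T.a i.castSucc l ^ 2 - T.w l * T.a i.castSucc l) / (2 * w' i * T.w l) =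
        dd i * be i * (al i - 1) / 2 ∧ (2 : ℤ) ∣ dd i * be i * (al i - 1) := fun i =>
    corr_spec (T.w i.castSucc) (w' i) (dd i) (al i) (be i) (T.a i.castSucc l) (T.w l)
      (hw'pos i) hwl (hdd i) (hwd i) (hal i) (hbe i) (hdd2 i)
  have hwdiv : ∀ i : Fin n, T.w i.castSucc / w' i = dd i := fun i => by
    rw [hwd i, Int.mul_ediv_cancel _ (ne_of_gt (hw'pos i))]
  have hg'eq : ∀ i : Fin n, g' i = dd i * (T.g i.castSucc - 1) + 1 + dd i * be i * (al i - 1) / 2 := by
    intro i
    show T.w i.castSucc / w' i * (T.g i.castSucc - 1) + 1 +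
      (T.a i.castSucc l ^ 2 - T.w l * T.a i.castSucc l) / (2 * w' i * T.w l) = _
    rw [hwdiv, (hcorr i).2.1]
  have hw'dvd : ∀ i : Fin n, w' i ∣ T.w i.castSucc := fun i => ⟨dd i, by rw [hwd i]; ring⟩
  refine ⟨⟨⟨fun i => T.m i.castSucc, a', w', g', hn, fun i => T.m_pos _, hw'pos, ?_, ?_, ?_, ?_, ?_, ?_⟩,
    ⟨fun i => rfl, fun i j => rfl, fun i => rfl, fun i => rfl⟩⟩, ?_⟩
  · -- g' nonneg
    intro i
    rw [hg'eq]
    exact gprime_nonneg (dd i) (al i) (be i) (T.g i.castSucc) (hdd i) (hal_nonneg i)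
      (hbe_nonneg i) (halbe i) (T.g_nonneg _) (hdd2 i) (hcorr i).2.2
  · -- symm
    ext i j
    rw [Matrix.transpose_apply, ha', ha', NumType.a_symm T j.castSucc i.castSucc, hal i, hal j]
    ring
  · -- offdiag
    intro i j hij
    rw [ha']
    have h1 : 0 ≤ T.a i.castSucc j.castSucc :=
      T.offDiag_nonneg _ _ (fun h => hij (Fin.castSucc_injective _ h))
    have h2 := mul_nonneg (hail_nonneg i) (hal_nonneg j)
    linarith
  · -- connected
    intro I hI hIne
    have hpos_of_ne : ∀ i j : Fin n, i ≠ j → T.a i.castSucc j.castSucc ≠ 0 → a' i j ≠ 0 := by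
      intro i j hij h0
      rw [ha']
      have h1 : 0 ≤ T.a i.castSucc j.castSucc :=
        T.offDiag_nonneg _ _ (fun h => hij (Fin.castSucc_injective _ h))
      have h2 := mul_nonneg (hail_nonneg i) (hal_nonneg j)
      have : 0 < T.a i.castSucc j.castSucc := lt_of_le_of_ne h1 (Ne.symm h0)
      linarith
    set Ip : Finset (Fin (n + 1)) := I.map Fin.castSuccEmb with hIp
    have hmemIp : ∀ i : Fin n, i.castSucc ∈ Ip ↔ i ∈ I := by
      intro i
      rw [hIp, Finset.mem_map]
      constructor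
      · rintro ⟨i', hi', hii'⟩
        have : i' = i := Fin.castSucc_injective _ hii'
        rw [← this]; exact hi'
      · intro hi; exact ⟨i, hi, rfl⟩
    have hlIp : l ∉ Ip := by
      rw [hIp, Finset.mem_map]
      rintro ⟨i', _, hii'⟩
      exact hne i' hii'
    obtain ⟨i, hi, j, hj, hij⟩ := T.connected Ip (by
      obtain ⟨i0, hi0⟩ := hI
      exact ⟨i0.castSucc, (hmemIp i0).2 hi0⟩) (by
      intro hu
      exact hlIp (hu ▸ Finset.mem_univ l))
    obtain ⟨i', hi'I, rfl⟩ : ∃ i' ∈ I, i'.castSucc = i := by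
      rw [hIp, Finset.mem_map] at hi
      obtain ⟨i', hi', hii'⟩ := hi
      exact ⟨i', hi', hii'⟩
    rcases Fin.eq_castSucc_or_eq_last j with ⟨j', rfl⟩ | hjl
    · have hj'I : j' ∉ I := fun hc => hj ((hmemIp j').2 hc)
      exact ⟨i', hi'I, j', hj'I, hpos_of_ne i' j' (fun hc => hj'I (hc ▸ hi'I)) hij⟩
    · -- a_{i' l} ≠ 0
      rw [hjl] at hij
      have hali : 0 < al i' := by
        have h0 : al i' ≠ 0 := by
          intro h0
          rw [hal i', h0, mul_zero] at hij
          exact hij rfl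
        exact lt_of_le_of_ne (hal_nonneg i') (Ne.symm h0)
      -- second application
      obtain ⟨j0, hj0⟩ : ∃ j0, j0 ∉ I := by
        by_contra hc
        push Not at hc
        exact hIne (Finset.eq_univ_iff_forall.2 hc)
      obtain ⟨i₂, hi₂, j₂, hj₂, hij₂⟩ := T.connected (insert l Ip)
        ⟨l, Finset.mem_insert_self _ _⟩ (by
          intro hu
          have : j0.castSucc ∈ insert l Ip := hu ▸ Finset.mem_univ _
          rcases Finset.mem_insert.1 this with h | h
          · exact hne j0 h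
          · exact hj0 ((hmemIp j0).1 h))
      have hj₂l : j₂ ≠ l := fun hc => hj₂ (hc ▸ Finset.mem_insert_self _ _)
      rcases Fin.eq_castSucc_or_eq_last j₂ with ⟨j₂', rfl⟩ | hc
      · have hj₂'I : j₂' ∉ I := fun hc => hj₂ (Finset.mem_insert_of_mem ((hmemIp j₂').2 hc))
        rcases Finset.mem_insert.1 hi₂ with hi₂l | hi₂Ip
        · -- i₂ = l
          rw [hi₂l] at hij₂
          have halj : 0 < al j₂' := by
            have h0 : al j₂' ≠ 0 := by
              intro h0
              rw [NumType.a_symm T l j₂'.castSucc, hal j₂', h0, mul_zero] at hij₂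
              exact hij₂ rfl
            exact lt_of_le_of_ne (hal_nonneg j₂') (Ne.symm h0)
          refine ⟨i', hi'I, j₂', hj₂'I, ?_⟩
          rw [ha']
          have h1 : 0 ≤ T.a i'.castSucc j₂'.castSucc :=
            T.offDiag_nonneg _ _ (fun h => hj₂'I ((Fin.castSucc_injective _ h) ▸ hi'I))
          have h2 : 0 < T.a i'.castSucc l * al j₂' := by
            rw [hal i']
            exact mul_pos (mul_pos hwl hali) halj
          linarith
        · obtain ⟨i₂', hi₂'I, rfl⟩ : ∃ i₂' ∈ I, i₂'.castSucc = i₂ := by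
            rw [hIp, Finset.mem_map] at hi₂Ip
            obtain ⟨i₂', hi₂', hii'⟩ := hi₂Ip
            exact ⟨i₂', hi₂', hii'⟩
          exact ⟨i₂', hi₂'I, j₂', hj₂'I,
            hpos_of_ne i₂' j₂' (fun hc => hj₂'I (hc ▸ hi₂'I)) hij₂⟩
      · exact absurd hc hj₂l
  · -- mulVec
    funext i
    simp only [Matrix.mulVec, dotProduct, Pi.zero_apply]
    have : ∀ j, a' i j * T.m j.castSucc =
        T.a i.castSucc j.castSucc * T.m j.castSucc + T.a i.castSucc l * (al j * T.m j.castSucc) := by
      intro j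
      rw [ha']
      ring
    simp_rw [this]
    rw [Finset.sum_add_distrib, ← Finset.mul_sum, hrow_i, hrow_l]
    ring
  · -- w' dvd
    intro i j
    rw [ha']
    apply dvd_add
    · exact dvd_trans (hw'dvd i) (T.w_dvd _ _)
    · exact Dvd.dvd.mul_right (dvd_trans (hw'dvd i) (T.w_dvd _ _)) _
  · -- genus
    intro T' hT'
    obtain ⟨hm, haT, hwT, hgT⟩ := hT'
    have hw'T : ∀ i, T'.w i = w' i := fun i => hwT i
    have haT' : ∀ i j, T'.a i j = a' i j := fun i j => haT i j
    have hgT' : ∀ i, T'.g i = g' i := by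
      intro i
      rw [hgT i, hw'T i]
    have hcc : ∀ i, NumType.cc T' i = NumType.cc T i.castSucc - T.w l * al i := by
      intro i
      unfold NumType.cc
      rw [hw'T, haT', hgT', ha', hg'eq]
      obtain ⟨c, hc⟩ := (hcorr i).2.2
      rw [hc, Int.mul_ediv_cancel_left _ (by norm_num)]
      have h1 := (hcorr i).1
      rw [(hcorr i).2.1, hc, Int.mul_ediv_cancel_left _ (by norm_num)] at h1
      have h2 := hwd i
      have h3 := hal i
      -- 2 * w' * c = a_il * (al - 1); w = d * w'
      have e1 : 2 * w' i * (dd i * (T.g i.castSucc - 1) + 1 + c - 1) =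
          2 * T.w i.castSucc * (T.g i.castSucc - 1) + T.a i.castSucc l * (al i - 1) := by
        rw [h2, ← h1]; ring
      rw [e1, h3]
      ring
    have hcl : NumType.cc T l = -T.w l := by
      unfold NumType.cc
      rw [hgl, hll]; ring
    have h1 := NumType.two_mul_genus_sub_two T'
    have h2 := NumType.two_mul_genus_sub_two T
    rw [Fin.sum_univ_castSucc] at h2
    have h3 : ∑ i, T'.m i * NumType.cc T' i =
        ∑ i : Fin n, T.m i.castSucc * NumType.cc T i.castSucc - T.w l * T.m l := by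
      have : ∀ i, T'.m i * NumType.cc T' i =
          T.m i.castSucc * NumType.cc T i.castSucc - T.w l * (al i * T.m i.castSucc) := by
        intro i
        rw [hm i, hcc i]
        ring
      simp_rw [this]
      rw [Finset.sum_sub_distrib, ← Finset.mul_sum, hrow_l]
    rw [h3] at h1
    rw [hcl] at h2
    linarith

end Groth.Agent.S2175
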