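import Groth.Statements.S2180
import Mathlib

set_option autoImplicit false
open Finset
open Models Models.NumericalType

namespace Groth.Agent.S2180

theorem mul_ediv_neg_aux (x w y : ℤ) (hw : w ≠ 0) : x * (w * y) / (-w) = -(x * y) := by
  have : x * (w * y) = (-w) * (-(x * y)) := by ring
  rw [this, Int.mul_ediv_cancel_left _ (neg_ne_zero.mpr hw)]

/-- Let T be a numerical type on n + 1 indices whose last index is a (-1)-index and T' a contraction of
it. Then there is an injective homomorphism Pic(T) -> Pic(T') whose cokernel is annihilated by 2. -/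
theorem result {n : ℕ} (T : Models.NumericalType (n + 1)) (h : T.IsMinusOne (Fin.last n))
    (T' : Models.NumericalType n) (hT' : T.IsContraction T') :
    ∃ f : T.Pic →+ T'.Pic, Function.Injective f ∧ ∀ y : T'.Pic, ∃ x : T.Pic, 2 • y = f x := by
  classical
  obtain ⟨hm, ha, hw, hg⟩ := hT'
  set l := Fin.last n with hl
  have hll : T.a l l = -T.w l := h.2
  set B := T.picMatrix with hB
  set B' := T'.picMatrix with hB'
  have hwB : ∀ i j, T.w i * B i j = T.a i j := fun i j => by
    show T.w i * (T.a i j / T.w i) = T.a i j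
    exact Int.mul_ediv_cancel' (T.w_dvd i j)
  have hwB' : ∀ i j, T'.w i * B' i j = T'.a i j := fun i j => by
    show T'.w i * (T'.a i j / T'.w i) = T'.a i j
    exact Int.mul_ediv_cancel' (T'.w_dvd i j)
  have hBll : B l l = -1 := by
    have h1 := hwB l l
    rw [hll] at h1
    have hwl := T.w_pos l
    have : T.w l * (B l l + 1) = 0 := by rw [mul_add, h1]; ring
    rcases mul_eq_zero.mp this with h2 | h2
    · exact absurd h2 (ne_of_gt hwl)
    · linarith
  -- the condition and d
  let cond : Fin n → Prop := fun i =>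
    2 ∣ T.a i.castSucc l / T.w l ∧ ¬ 2 ∣ T.a i.castSucc l / T.w i.castSucc
  let d : Fin n → ℤ := fun i => if cond i then 2 else 1
  let e : Fin n → ℤ := fun i => if cond i then 1 else 2
  have hde : ∀ i, d i * e i = 2 := fun i => by
    by_cases hc : cond i <;> simp [d, e, hc]
  have hd0 : ∀ i, d i ≠ 0 := fun i => by
    by_cases hc : cond i <;> simp [d, hc]
  have hdw : ∀ i, T.w i.castSucc = d i * T'.w i := fun i => by
    have hwi := hw i
    by_cases hc : cond i
    · have hc' : 2 ∣ T.a i.castSucc (Fin.last n) / T.w (Fin.last n) ∧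
          ¬ 2 ∣ T.a i.castSucc (Fin.last n) / T.w i.castSucc := hc
      rw [if_pos hc'] at hwi
      have h2 : (2 : ℤ) ∣ T.w i.castSucc := by
        obtain ⟨u', hu'⟩ := hc.1
        have e1 : T.w l * (T.a i.castSucc l / T.w l) = T.a i.castSucc l := by
          have := T.w_dvd l i.castSucc
          rw [T.symm.apply i.castSucc l] at this
          exact Int.mul_ediv_cancel' this
        have e2 : T.w i.castSucc * (T.a i.castSucc l / T.w i.castSucc) = T.a i.castSucc l :=
          Int.mul_ediv_cancel' (T.w_dvd i.castSucc l)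
        have h3 : (2 : ℤ) ∣ T.w i.castSucc * (T.a i.castSucc l / T.w i.castSucc) := by
          rw [e2, ← e1, hu']
          exact ⟨T.w l * u', by ring⟩
        exact (Int.prime_two.dvd_or_dvd h3).resolve_right hc.2
      simp only [d, if_pos hc]
      rw [hwi]
      exact (Int.mul_ediv_cancel' h2).symm
    · have hc' : ¬ (2 ∣ T.a i.castSucc (Fin.last n) / T.w (Fin.last n) ∧
          ¬ 2 ∣ T.a i.castSucc (Fin.last n) / T.w i.castSucc) := hc
      rw [if_neg hc'] at hwi
      simp only [d, if_neg hc]
      rw [hwi, one_mul]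
  -- key identity
  have hK : ∀ i j : Fin n,
      d i * (B i.castSucc j.castSucc + B i.castSucc l * B l j.castSucc) = B' i j := by
    intro i j
    have hw'pos := T'.w_pos i
    apply mul_left_cancel₀ (ne_of_gt hw'pos)
    rw [hwB' i j, ha i j]
    have e1 : T.a j.castSucc l = T.w l * B l j.castSucc := by
      rw [hwB l j.castSucc]; exact T.symm.apply l j.castSucc
    have e2 : T.a i.castSucc (Fin.last n) * T.a j.castSucc (Fin.last n) /
        T.a (Fin.last n) (Fin.last n) = -(T.a i.castSucc l * B l j.castSucc) := by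
      show T.a i.castSucc l * T.a j.castSucc l / T.a l l = _
      rw [hll, e1]
      exact mul_ediv_neg_aux _ _ _ (ne_of_gt (T.w_pos l))
    rw [e2]
    have e3 : T'.w i * (d i * (B i.castSucc j.castSucc + B i.castSucc l * B l j.castSucc)) =
        T.w i.castSucc * B i.castSucc j.castSucc +
          (T.w i.castSucc * B i.castSucc l) * B l j.castSucc := by
      rw [hdw i]; ring
    rw [e3, hwB, hwB]
    ring
  -- the map
  let φ : (Fin (n + 1) → ℤ) →ₗ[ℤ] (Fin n → ℤ) :=
    { toFun := fun x i => d i * (x i.castSucc + B i.castSucc l * x l)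
      map_add' := by intro x y; funext i; simp only [Pi.add_apply]; ring
      map_smul' := by
        intro c x; funext i
        simp only [Pi.smul_apply, smul_eq_mul, RingHom.id_apply]; ring }
  have hφ_apply : ∀ x i, φ x i = d i * (x i.castSucc + B i.castSucc l * x l) := fun x i => rfl
  have hφB : ∀ v : Fin (n + 1) → ℤ, φ (B.mulVec v) = B'.mulVec (fun j => v j.castSucc) := by
    intro v
    funext i
    rw [hφ_apply]
    simp only [Matrix.mulVec, dotProduct]
    rw [Fin.sum_univ_castSucc, Fin.sum_univ_castSucc]
    have : d i * ((∑ j : Fin n, B i.castSucc j.castSucc * v j.castSucc) +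
        B i.castSucc (Fin.last n) * v (Fin.last n) +
        B i.castSucc l * ((∑ j : Fin n, B l j.castSucc * v j.castSucc) +
          B l (Fin.last n) * v (Fin.last n))) =
        ∑ j : Fin n, (d i * (B i.castSucc j.castSucc + B i.castSucc l * B l j.castSucc)) *
          v j.castSucc := by
      have hBll' : B l (Fin.last n) = -1 := hBll
      rw [hBll']
      have hl' : B i.castSucc (Fin.last n) = B i.castSucc l := rfl
      rw [hl']
      simp only [mul_add, add_mul, Finset.sum_add_distrib, Finset.mul_sum]
      have e1 : ∀ j : Fin n, d i * (B i.castSucc l * (B l j.castSucc * v j.castSucc)) =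
          d i * (B i.castSucc l * B l j.castSucc) * v j.castSucc := fun j => by ring
      have e2 : ∀ j : Fin n, d i * (B i.castSucc j.castSucc * v j.castSucc) =
          d i * B i.castSucc j.castSucc * v j.castSucc := fun j => by ring
      simp only [e1, e2]
      ring
    rw [this]
    refine Finset.sum_congr rfl fun j _ => ?_
    rw [hK]
  have hφ : LinearMap.range (Matrix.mulVecLin B) ≤
      (LinearMap.range (Matrix.mulVecLin B')).comap φ := by
    rintro _ ⟨v, rfl⟩
    rw [Submodule.mem_comap, Matrix.mulVecLin_apply, hφB]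
    exact ⟨_, rfl⟩
  let f : T.Pic →ₗ[ℤ] T'.Pic := Submodule.mapQ _ _ φ hφ
  refine ⟨f.toAddMonoidHom, ?_, ?_⟩
  · -- injective
    rw [injective_iff_map_eq_zero]
    intro x hx
    obtain ⟨x0, rfl⟩ := Submodule.Quotient.mk_surjective _ x
    have hx' : f (Submodule.Quotient.mk x0) = 0 := hx
    rw [Submodule.mapQ_apply, Submodule.Quotient.mk_eq_zero] at hx'
    obtain ⟨v, hv⟩ := hx'
    rw [Matrix.mulVecLin_apply] at hv
    rw [Submodule.Quotient.mk_eq_zero]
    let S : ℤ := ∑ j : Fin n, B l j.castSucc * v j
    refine ⟨Fin.snoc v (S - x0 l), ?_⟩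
    rw [Matrix.mulVecLin_apply]
    funext i
    simp only [Matrix.mulVec, dotProduct]
    rw [Fin.sum_univ_castSucc]
    simp only [Fin.snoc_castSucc, Fin.snoc_last]
    refine Fin.lastCases ?_ (fun i => ?_) i
    · show (∑ j : Fin n, B l j.castSucc * v j) + B l l * (S - x0 l) = x0 l
      rw [hBll]; simp only [S]; ring
    · have h1 := congrFun hv i
      rw [hφ_apply] at h1
      simp only [Matrix.mulVec, dotProduct] at h1
      have h2 : ∑ j : Fin n, B' i j * v j =
          d i * ((∑ j : Fin n, B i.castSucc j.castSucc * v j) + B i.castSucc l * S) := by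
        simp only [S, Finset.mul_sum, mul_add, ← Finset.sum_add_distrib]
        refine Finset.sum_congr rfl fun j _ => ?_
        rw [← hK]; ring
      rw [h2] at h1
      have h3 := mul_left_cancel₀ (hd0 i) h1
      show (∑ j : Fin n, B i.castSucc j.castSucc * v j) + B i.castSucc l * (S - x0 l) =
        x0 i.castSucc
      linarith
  · intro y
    obtain ⟨y0, rfl⟩ := Submodule.Quotient.mk_surjective _ y
    refine ⟨Submodule.Quotient.mk (Fin.snoc (fun i => e i * y0 i) 0), ?_⟩
    show (2 : ℕ) • (Submodule.Quotient.mk y0 : T'.Pic) =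
      f (Submodule.Quotient.mk (Fin.snoc (fun i => e i * y0 i) 0))
    rw [Submodule.mapQ_apply, ← Submodule.Quotient.mk_smul]
    congr 1
    funext i
    rw [hφ_apply]
    simp only [Fin.snoc_castSucc]
    have : (Fin.snoc (fun i => e i * y0 i) (0 : ℤ) : Fin (n + 1) → ℤ) l = 0 := Fin.snoc_last _ _
    rw [this, mul_zero, add_zero, ← mul_assoc, hde]
    simp

end Groth.Agent.S2180
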