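import Groth.Statements.S2183
import Groth.Agent.Lib.NumType

set_option autoImplicit false
open Finset
open Models Models.NumericalType

namespace Groth.Agent.S2183

open Classical in
/-- Let T be a minimal numerical type with n > 1 indices and genus g at least 2, and let J be the set of
indices which are not (-2)-indices. Then J has at most 2g - 2 elements, and for j in J one has g j <
g, m j * |a j j| at most 6g - 6, and m i * a i j at most 6g - 6 for every index i. -/
theorem result {n : ℕ} (T : Models.NumericalType n) (hmin : T.IsMinimal) (hn : 1 < n) (hg : 2 ≤ T.genus) :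
    ((univ.filter fun j => ¬T.IsMinusTwo j).card : ℤ) ≤ 2 * T.genus - 2 ∧
      ∀ j, ¬T.IsMinusTwo j →
        T.g j < T.genus ∧ T.m j * |T.a j j| ≤ 6 * T.genus - 6 ∧
          ∀ i, T.m i * T.a i j ≤ 6 * T.genus - 6 := by
  have hsum := Groth.Agent.Lib.NumType.two_mul_genus_sub_two T
  have hcc0 := Groth.Agent.Lib.NumType.cc_nonneg T hmin hn
  refine ⟨?_, ?_⟩
  · rw [hsum, Finset.card_eq_sum_ones]
    push_cast
    calc ∑ j ∈ univ.filter (fun j => ¬T.IsMinusTwo j), (1 : ℤ)
        ≤ ∑ j ∈ univ.filter (fun j => ¬T.IsMinusTwo j),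
            T.m j * Groth.Agent.Lib.NumType.cc T j := by
          apply Finset.sum_le_sum
          intro j hj
          rw [mem_filter] at hj
          have h1 := (Groth.Agent.Lib.NumType.cc_bounds T hmin hn j hj.2).1
          have h2 := T.m_pos j
          nlinarith
      _ ≤ ∑ j, T.m j * Groth.Agent.Lib.NumType.cc T j := by
          apply Finset.sum_le_sum_of_subset_of_nonneg (filter_subset _ _)
          intro j _ _
          exact mul_nonneg (T.m_pos j).le (hcc0 j)
  · intro j hj
    obtain ⟨h1, h2, h3⟩ := Groth.Agent.Lib.NumType.cc_bounds T hmin hn j hj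
    have h4 := Groth.Agent.Lib.NumType.m_mul_cc_le T hmin hn j
    have hm := T.m_pos j
    have hdiag : T.m j * |T.a j j| ≤ 6 * T.genus - 6 := by
      rw [abs_of_nonpos (Groth.Agent.Lib.NumType.diag_nonpos T j)]
      nlinarith
    refine ⟨?_, hdiag, ?_⟩
    · nlinarith
    · intro i
      by_cases hij : 0 < T.a i j
      · exact le_trans (Groth.Agent.Lib.NumType.mul_le_of_pos_offDiag T i j hij).1 hdiag
      · rw [not_lt] at hij
        have := mul_nonpos_of_nonneg_of_nonpos (T.m_pos i).le hij
        linarith

end Groth.Agent.S2183
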