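import Groth.Statements.S2184
import Groth.Agent.Lib.NumType768
import Groth.Agent.S2183

set_option autoImplicit false
open Finset
open Models Models.NumericalType

namespace Groth.Agent.S2184

/-- For a minimal numerical type of genus g at least 2 one has m i * |a i j| at most 768 g for all
indices i, j. -/
theorem result {n : ℕ} (T : Models.NumericalType n) (hmin : T.IsMinimal) (hg : 2 ≤ T.genus) (i j : Fin n) :
    T.m i * |T.a i j| ≤ 768 * T.genus := by
  by_cases hn : 1 < n
  · obtain ⟨-, h83⟩ := Groth.Agent.S2183.result T hmin hn hg
    have hB0 : (0 : ℤ) ≤ 6 * T.genus - 6 := by linarith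
    have hB : ∀ j, ¬T.IsMinusTwo j → ∀ i, T.m i * T.a i j ≤ 6 * T.genus - 6 :=
      fun j hj i => (h83 j hj).2.2 i
    have hJ : ∃ j, ¬T.IsMinusTwo j := by
      by_contra hcon
      push Not at hcon
      have hsum := Groth.Agent.Lib.NumType.two_mul_genus_sub_two T
      have hz : ∑ i, T.m i * Groth.Agent.Lib.NumType.cc T i = 0 := by
        apply Finset.sum_eq_zero
        intro i _
        have h2 := hcon i
        unfold Groth.Agent.Lib.NumType.cc
        rw [h2.1, h2.2]
        ring
      rw [hz] at hsum
      linarith
    have hmu := Groth.Agent.Lib.NumType768.mu_le T (6 * T.genus - 6) hB0 hB hJ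
    by_cases hj : T.IsMinusTwo j
    · have hμ := hmu j hj
      have hdiag : T.m j * |T.a j j| ≤ 768 * T.genus := by
        rw [hj.2, abs_of_nonpos (by have := T.w_pos j; linarith)]
        unfold Groth.Agent.Lib.NumType768.mu at hμ
        nlinarith
      by_cases hij : i = j
      · subst hij
        exact hdiag
      · have h0 := T.offDiag_nonneg i j hij
        rcases h0.eq_or_lt with h0 | h0
        · rw [← h0]
          simp only [abs_zero, mul_zero]
          linarith
        · rw [abs_of_pos h0]
          exact le_trans (Groth.Agent.Lib.NumType.mul_le_of_pos_offDiag T i j h0).1 hdiag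
    · obtain ⟨-, h2, h3⟩ := h83 j hj
      by_cases hij : i = j
      · subst hij
        linarith
      · have h0 := T.offDiag_nonneg i j hij
        rw [abs_of_nonneg h0]
        have := h3 i
        linarith
  · have hn1 : n = 1 := by have := T.pos; omega
    subst hn1
    have hij : i = j := Subsingleton.elim i j
    subst hij
    have hrow := Groth.Agent.Lib.NumType.row_sum T i
    rw [Fintype.sum_subsingleton _ i] at hrow
    have hm := T.m_pos i
    have ha : T.a i i = 0 := by
      rcases mul_eq_zero.mp hrow with h | h
      · exact h
      · linarith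
    rw [ha]
    simp only [abs_zero, mul_zero]
    linarith

end Groth.Agent.S2184
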