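import Groth.Statements.S5603
import Groth.Agent.Lib.H43PCohD

set_option autoImplicit false
universe w v u
open CategoryTheory CategoryTheory.Limits
open PCoh

namespace Groth.Agent.S5603

/-- Punctual site: let C be an abelian category and C₀ a strictly full additive subcategory,
quasi-stable under kernels of epimorphisms and quasi-liftable. If F ∈ D(C) is acyclic in degrees >
n, then F is n-pseudo-coherent (isomorphic to a strictly n-pseudo-coherent complex) if and only if
H^n(F) is of C₀-finite type. -/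
theorem result {C : Type u} [Category.{v} C] [Abelian C] [HasDerivedCategory.{w} C]
    (P : ObjectProperty C) [P.IsClosedUnderIsomorphisms] [P.ContainsZero] (hsum : ∀ X Y : C, P X → P Y → P (X ⨯ Y))
    (hqs : PCoh.IsQuasiStableUnderKernels P) (hql : PCoh.IsQuasiLiftable P)
    (n : ℤ) (F : DerivedCategory C) (hac : ∀ i : ℤ, n < i → IsZero ((DerivedCategory.homologyFunctor C i).obj F)) :
    (∃ E : CochainComplex C ℤ, PCoh.IsStrictPC P n E ∧ Nonempty (DerivedCategory.Q.obj E ≅ F)) ↔ PCoh.IsOfFiniteType P ((DerivedCategory.homologyFunctor C n).obj F) := by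
  constructor
  · rintro ⟨E, hE, ⟨e⟩⟩
    have eH : ∀ i : ℤ, E.homology i ≅ (DerivedCategory.homologyFunctor C i).obj F := fun i =>
      (Groth.Agent.Lib.H43PCohD.homologyIso E i).symm ≪≫
        (DerivedCategory.homologyFunctor C i).mapIso e
    have hEac : ∀ i : ℤ, n < i → IsZero (E.homology i) := fun i hi =>
      IsZero.of_iso (hac i hi) (eH i)
    obtain ⟨P₀, π₀, hP₀, hπ₀⟩ := Groth.Agent.S5602.result P hqs n E hE hEac
    exact ⟨P₀, π₀ ≫ (eH n).hom, hP₀, inferInstance⟩
  · intro hft
    obtain ⟨X, ⟨e⟩⟩ : ∃ X : CochainComplex C ℤ, Nonempty (DerivedCategory.Q.obj X ≅ F) :=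
      ⟨_, ⟨DerivedCategory.Q.objObjPreimageIso F⟩⟩
    have eH : ∀ i : ℤ, X.homology i ≅ (DerivedCategory.homologyFunctor C i).obj F := fun i =>
      (Groth.Agent.Lib.H43PCohD.homologyIso X i).symm ≪≫
        (DerivedCategory.homologyFunctor C i).mapIso e
    have hXft : PCoh.IsOfFiniteType P (X.homology n) := by
      obtain ⟨P₀, π₀, hP₀, hπ₀⟩ := hft
      exact ⟨P₀, π₀ ≫ (eH n).inv, hP₀, inferInstance⟩
    obtain ⟨P', j, hP', hj⟩ := Groth.Agent.Lib.H43PCohD.exists_single_epi P hql X n hXft
    have hLz : ∀ i : ℤ, i ≠ n →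
        IsZero (((HomologicalComplex.single C (ComplexShape.up ℤ) n).obj P').X i) := fun i hi =>
      HomologicalComplex.isZero_single_obj_X (ComplexShape.up ℤ) n P' i hi
    have hL : PCoh.IsStrictPC P n ((HomologicalComplex.single C (ComplexShape.up ℤ) n).obj P') := by
      refine ⟨⟨n, fun i hi => hLz i (by lia)⟩, fun i hi => ?_⟩
      by_cases h : i = n
      · subst h
        exact P.prop_of_iso (HomologicalComplex.singleObjXSelf (ComplexShape.up ℤ) i P').symm hP'
      · exact P.prop_of_isZero (hLz i h)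
    have hw : Groth.Agent.Lib.H43PCohD.NQis n j := by
      refine ⟨fun i hi => ?_, hj⟩
      have h1 : IsZero (((HomologicalComplex.single C (ComplexShape.up ℤ) n).obj P').homology i) := by
        rw [← HomologicalComplex.exactAt_iff_isZero_homology]
        exact HomologicalComplex.ExactAt.of_isZero (hLz i (by lia))
      have h2 : IsZero (X.homology i) := IsZero.of_iso (hac i hi) (eH i)
      exact ⟨0, h1.eq_of_src _ _, h2.eq_of_src _ _⟩
    obtain ⟨E', v, u', -, hE', hq, -, -⟩ :=
      Groth.Agent.Lib.H43PCohD.exists_factor_qis P n _ X hL j hw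
    have : IsIso (DerivedCategory.Q.map u') :=
      (DerivedCategory.isIso_Q_map_iff_quasiIso C u').2 hq
    exact ⟨E', hE', ⟨asIso (DerivedCategory.Q.map u') ≪≫ e⟩⟩

end Groth.Agent.S5603
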