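import Groth.Statements.S6942
import Groth.Agent.Lib.DRingPCoh21D

set_option autoImplicit false
universe u
open CategoryTheory CategoryTheory.Limits
attribute [local instance] HasDerivedCategory.standard
open DRing

namespace Groth.Agent.S6942

/-- Let R be a Noetherian commutative ring and m an integer. An object K of D(R) is m-pseudo-coherent
exactly when H^i(K) = 0 for all large i and H^i(K) is a finitely generated R-module for each i ≥ m.
Every finitely generated R-module M is pseudo-coherent, and conversely. -/
theorem result (R : Type u) [CommRing R]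
    [IsNoetherianRing R] (m : ℤ) (K : Dual.D R) (M : Type u) [AddCommGroup M] [Module R M] :
    (DRing.IsPseudoCoherent R m K ↔
      (∃ b : ℤ, ∀ i : ℤ, b < i → Subsingleton (Dual.HD R K i)) ∧ ∀ i : ℤ, m ≤ i → Module.Finite R (Dual.HD R K i)) ∧
      (DRing.IsPseudoCoherentModule' R M ↔ Module.Finite R M) := by
  have hR : ∀ I : Ideal R, I.FG → Module.FinitePresentation R I := fun I _ =>
    Module.finitePresentation_of_finite R I
  constructor
  · constructor
    · intro h
      have hb : ∃ b : ℤ, ∀ i : ℤ, b < i → Subsingleton (Dual.HD R K i) := by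
        obtain ⟨b, hb⟩ := Groth.Agent.Lib.PCohD.exists_bound
          ((Groth.Agent.Lib.DRingPCoh21.isPseudoCoherent_iff R m K).1 h)
        exact ⟨b, fun i hi => ModuleCat.subsingleton_of_isZero (hb i hi)⟩
      obtain ⟨h1, h2⟩ :=
        (Groth.Agent.Lib.DRingPCoh21.isPseudoCoherent_iff_of_coherent R hR K hb m).1 h
      refine ⟨hb, fun i hi => ?_⟩
      rcases hi.lt_or_eq with h' | h'
      · have := h2 i h'
        infer_instance
      · subst h'
        exact h1
    · rintro ⟨hb, hfin⟩
      refine (Groth.Agent.Lib.DRingPCoh21.isPseudoCoherent_iff_of_coherent R hR K hb m).2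
        ⟨hfin m le_rfl, fun i hi => ?_⟩
      have := hfin i hi.le
      exact Module.finitePresentation_of_finite R _
  · constructor
    · intro h
      have h0 := (Groth.Agent.Lib.DRingPCoh21.isPseudoCoherent'_iff_forall R _).1 h 0
      exact (Groth.Agent.Lib.DRingPCoh21.isPseudoCoherent_single_zero_iff R (ModuleCat.of R M)).1 h0
    · intro h
      have hb : ∃ b : ℤ, ∀ i : ℤ, b < i → Subsingleton (Dual.HD R (Dual.inD R M) i) :=
        ⟨0, fun i hi => ModuleCat.subsingleton_of_isZero
          (DerivedCategory.isZero_of_isLE (Dual.inD R M) 0 i hi)⟩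
      refine (Groth.Agent.Lib.DRingPCoh21.isPseudoCoherent'_iff_of_coherent R hR _ hb).2
        (fun i => ?_)
      rcases lt_trichotomy i 0 with hi | hi | hi
      · have := ModuleCat.subsingleton_of_isZero
          (DerivedCategory.isZero_of_isGE (Dual.inD R M) 0 i hi)
        infer_instance
      · subst hi
        have e := ((DerivedCategory.singleFunctorCompHomologyFunctorIso (ModuleCat.{u} R) 0).app
          (ModuleCat.of R M)).toLinearEquiv
        have hM : Module.Finite R ((𝟭 (ModuleCat.{u} R)).obj (ModuleCat.of R M)) := h
        have : Module.Finite R (Dual.HD R (Dual.inD R M) 0) := Module.Finite.equiv e.symm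
        exact Module.finitePresentation_of_finite R _
      · have := ModuleCat.subsingleton_of_isZero
          (DerivedCategory.isZero_of_isLE (Dual.inD R M) 0 i hi)
        infer_instance

end Groth.Agent.S6942
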