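import Groth.Statements.S6938
import Groth.Agent.Lib.DRingPCoh21
import Groth.Agent.Lib.PCohD2
import Groth.Agent.S5599

set_option autoImplicit false
universe u
open CategoryTheory CategoryTheory.Limits
attribute [local instance] HasDerivedCategory.standard
open DRing

namespace Groth.Agent.S6938

/-- Let R be a commutative ring, m an integer and K a bounded above cochain complex of R-modules. If the
module K^i is (m - i)-pseudo-coherent for every i, then K is m-pseudo-coherent in D(R). If every K^i
is a pseudo-coherent module, then K is pseudo-coherent. -/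
theorem result (R : Type u) [CommRing R] (m : ℤ)
    (K : DRing.Cx R) (b : ℤ) (hb : DRing.VanishesAbove K b) :
    ((∀ i : ℤ, DRing.IsPseudoCoherentModule R (m - i) (K.X i)) → DRing.IsPseudoCoherent R m (DRing.toD K)) ∧
      ((∀ i : ℤ, DRing.IsPseudoCoherentModule' R (K.X i)) → DRing.IsPseudoCoherent' R (DRing.toD K)) := by
  have h23 : Groth.Agent.Lib.PCohD.TwoOfThree (Groth.Agent.Lib.DRingPCoh21.FF R) := fun n T hT =>
    Groth.Agent.S5599.result (Groth.Agent.Lib.DRingPCoh21.FF R)
      (Groth.Agent.Lib.DRingPCoh21.ff_prod R) (Groth.Agent.Lib.DRingPCoh21.fp_quasiStable R)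
      (Groth.Agent.Lib.DRingPCoh21.ff_quasiLiftable R) n T hT
  have key : ∀ m : ℤ, (∀ i : ℤ, DRing.IsPseudoCoherentModule R (m - i) (K.X i)) →
      DRing.IsPseudoCoherent R m (DRing.toD K) := by
    intro m h
    simp only [DRing.IsPseudoCoherentModule,
      Groth.Agent.Lib.DRingPCoh21.isPseudoCoherent_iff] at h ⊢
    exact Groth.Agent.Lib.PCohD.termwise h23 m K b hb (fun i _ => h i)
  refine ⟨key m, fun h => ?_⟩
  simp only [DRing.IsPseudoCoherentModule',
    Groth.Agent.Lib.DRingPCoh21.isPseudoCoherent'_iff_forall] at h ⊢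
  exact fun m => key m (fun i => h i (m - i))

end Groth.Agent.S6938
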