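import Groth.Statements.S7071
import Groth.Agent.Lib.PCohRelative3

set_option autoImplicit false
universe u
attribute [local instance] HasDerivedCategory.standard
open DerCA

namespace Groth.Agent.S7071

/-- Let R → A be a pseudo-coherent homomorphism of commutative rings, m an integer and K an object of
D(A). Then the object K is m-pseudo-coherent as an object of D(A) exactly when, relative to R, it is
m-pseudo-coherent. -/
theorem result (R A : Type u) [CommRing R] [CommRing A]
    [Algebra R A] (hRA : MoreMor.IsPseudoCoherentHom R A) (m : ℤ) (K : Dual.D A) :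
    DerCA.IsRelPseudoCoherent R A m K ↔ DRing.IsPseudoCoherent A m K := by
  obtain ⟨n, φ, hφ, hA⟩ := hRA
  rw [Groth.Agent.Lib.PCohRelative2.rel_iff_via φ hφ, Groth.Agent.Lib.PCohRelative2.via_iff_npc,
    Groth.Agent.Lib.DRingPCoh21.isPseudoCoherent_iff]
  refine (Groth.Agent.Lib.PCohRestrict.npc_restrict_iff φ.toRingHom ?_ m K).symm
  intro a
  let _ : Algebra (MvPolynomial (Fin n) R) A := φ.toRingHom.toAlgebra
  have h1 : DRing.IsPseudoCoherent (MvPolynomial (Fin n) R) a
      (Dual.inD (MvPolynomial (Fin n) R) A) :=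
    (Groth.Agent.Lib.DRingPCoh21.isPseudoCoherent'_iff_forall _ _).1 hA a
  rw [Groth.Agent.Lib.DRingPCoh21.isPseudoCoherent_iff] at h1
  refine Groth.Agent.S5599.NPC.of_iso h1
    ((DerivedCategory.singleFunctor (ModuleCat.{u} (MvPolynomial (Fin n) R)) 0).mapIso ?_)
  exact (Groth.Agent.Lib.FlatBaseChangeD.restrictEquiv (A := MvPolynomial (Fin n) R)
    (B := A)).symm.toModuleIso

end Groth.Agent.S7071
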