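import Groth.Statements.S7168
import Groth.Agent.S6935
import Groth.Agent.Lib.DRingPCoh21
import Mathlib.AlgebraicGeometry.Morphisms.FinitePresentation

set_option autoImplicit false
universe u
attribute [local instance] HasDerivedCategory.standard
open FlatMor

namespace Groth.Agent.S7168

/-- a pseudo-coherent ring map is of finite presentation -/
lemma finitePresentation_of_isPseudoCoherentHom {A B : Type u} [CommRing A] [CommRing B]
    [Algebra A B] (h : MoreMor.IsPseudoCoherentHom A B) : Algebra.FinitePresentation A B := by
  obtain ⟨n, φ, hφ, hB⟩ := h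
  let _ : Algebra (MvPolynomial (Fin n) A) B := φ.toRingHom.toAlgebra
  have h1 : DRing.IsPseudoCoherentModule (MvPolynomial (Fin n) A) (-1) B :=
    (Groth.Agent.Lib.DRingPCoh21.isPseudoCoherent'_iff_forall _ _).1 hB (-1)
  have h2 : Module.FinitePresentation (MvPolynomial (Fin n) A) B :=
    (Groth.Agent.S6935.result (MvPolynomial (Fin n) A) B).2.1 h1
  have h3 : (LinearMap.ker (Algebra.linearMap (MvPolynomial (Fin n) A) B)).FG :=
    Module.FinitePresentation.fg_ker (Algebra.linearMap (MvPolynomial (Fin n) A) B) hφ
  exact Algebra.FinitePresentation.of_surjective (f := φ) hφ h3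

open AlgebraicGeometry CategoryTheory Limits in
/-- A pseudo-coherent morphism of schemes is locally of finite presentation. -/
theorem result {X S : Scheme.{u}} (f : X ⟶ S) (hf : MoreMor.IsPseudoCoherentMor f) :
    LocallyOfFinitePresentation f := by
  rw [HasRingHomProperty.iff_appLE (P := @LocallyOfFinitePresentation)]
  intro V U e
  have h := hf U.1 V.1 U.2 V.2 e
  let _ := (f.appLE V.1 U.1 e).hom.toAlgebra
  have h2 := finitePresentation_of_isPseudoCoherentHom h
  exact (RingHom.finitePresentation_algebraMap (A := Γ(S, V.1)) (B := Γ(X, U.1))).2 h2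

end Groth.Agent.S7168
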