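import Groth.Statements.S13771
-- no extra imports

set_option autoImplicit false
universe u v w
open PLie

namespace Groth.Agent.S13771

section
variable {R : Type u} [CommRing R] {p : ℕ} [CharP R p]
variable {L : Type v} [LieRing L] [LieAlgebra R L] {M : Type w} [LieRing M] [LieAlgebra R M]

theorem map_bracketWord (g : L →ₗ⁅R⁆ M) (x₀ x₁ : L) (l : List Bool) :
    g (bracketWord (pair x₀ x₁) x₁ l) = bracketWord (pair (g x₀) (g x₁)) (g x₁) l := by
  induction l with
  | nil => rfl
  | cons b l ih =>
    rw [bracketWord_cons, bracketWord_cons, LieHom.map_lie, ih]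
    congr 1
    cases b <;> rfl

theorem map_jacobson (g : L →ₗ⁅R⁆ M) (x₀ x₁ : L) :
    g (jacobson R p x₀ x₁) = jacobson R p (g x₀) (g x₁) := by
  unfold jacobson
  rw [map_sum]
  refine Finset.sum_congr rfl fun t _ => ?_
  rw [map_smul, map_bracketWord]

theorem bracketWord_zero (x₀ : L) (l : List Bool) : bracketWord (pair x₀ (0 : L)) 0 l = 0 := by
  induction l with
  | nil => rfl
  | cons b l ih => rw [bracketWord_cons, ih, lie_zero]

theorem jacobson_zero_right (x₀ : L) : jacobson R p x₀ (0 : L) = 0 := by
  unfold jacobson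
  refine Finset.sum_eq_zero fun t _ => ?_
  rw [bracketWord_zero, smul_zero]

theorem pmap_ext {φ ψ : PMap R p L} (h : ∀ x, φ x = ψ x) : φ = ψ := by
  cases φ; cases ψ
  congr
  exact funext h

/-- General version: a surjective Lie hom with `p`-stable kernel transports the `p`-map uniquely. -/
theorem existsUnique_of_surjective (φ : PMap R p L) (g : L →ₗ⁅R⁆ M) (hg : Function.Surjective g)
    (hker : ∀ x : L, g x = 0 → g (φ x) = 0) : ∃! ψ : PMap R p M, IsPHom φ ψ g := by
  have hwd : ∀ x x' : L, g x = g x' → g (φ x) = g (φ x') := by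
    intro x x' h
    have hn : g (x - x') = 0 := by rw [map_sub, h, sub_self]
    have hx : x = x' + (x - x') := by abel
    rw [hx, φ.map_add, map_sub, map_add, hker _ hn, map_jacobson, hn, jacobson_zero_right]
    abel
  let s : M → L := fun y => (hg y).choose
  have hs : ∀ y, g (s y) = y := fun y => (hg y).choose_spec
  have hψ : ∀ x, g (φ (s (g x))) = g (φ x) := fun x => hwd _ _ (hs (g x))
  let ψ : PMap R p M :=
    { toFun := fun y => g (φ (s y))
      map_smul := fun c y => by
        have h1 : g (s (c • y)) = g (c • s y) := by rw [hs, map_smul, hs]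
        rw [hwd _ _ h1, φ.map_smul, map_smul]
      ad_map := fun y => by
        ext z
        obtain ⟨w, rfl⟩ := hg z
        have hpow : ∀ (n : ℕ) (w : L), g ((LieAlgebra.ad R L (s y) ^ n) w) =
            (LieAlgebra.ad R M y ^ n) (g w) := by
          intro n
          induction n with
          | zero => intro w; simp
          | succ n ih =>
            intro w
            rw [pow_succ, pow_succ, Module.End.mul_apply, Module.End.mul_apply, ih]
            congr 1
            simp only [LieAlgebra.ad_apply]
            rw [LieHom.map_lie, hs]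
        rw [← hpow, ← φ.ad_map, LieAlgebra.ad_apply, LieAlgebra.ad_apply, LieHom.map_lie]
      map_add := fun y₀ y₁ => by
        have h1 : g (s (y₀ + y₁)) = g (s y₀ + s y₁) := by rw [hs, map_add, hs, hs]
        rw [hwd _ _ h1, φ.map_add, map_sub, map_add, map_jacobson, hs, hs] }
  refine ⟨ψ, fun x => (hψ x).symm, fun ψ' hψ' => ?_⟩
  apply pmap_ext
  intro y
  obtain ⟨x, rfl⟩ := hg y
  rw [← hψ' x]
  exact (hψ x).symm

end


/-- Let R be a commutative ring of prime characteristic p, L₁ and L₂ Lie algebras over R, φ a p-mapping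
on L₁ and f : L₁ → L₂ a morphism of Lie algebras whose kernel is stable under φ (a p-ideal). Then
the image f(L₁), a Lie subalgebra of L₂, carries exactly one p-mapping ψ for which the corestriction
of f to its image is a morphism of p-Lie algebras, i.e. ψ (f x) = f (φ x) for all x. -/
theorem result (R : Type u) [CommRing R] (p : ℕ) [Fact p.Prime] [CharP R p]
    (L₁ : Type v) [LieRing L₁] [LieAlgebra R L₁] (L₂ : Type w) [LieRing L₂] [LieAlgebra R L₂]
    (φ : PLie.PMap R p L₁) (f : L₁ →ₗ⁅R⁆ L₂) (hker : ∀ x : L₁, f x = 0 → f (φ x) = 0) :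
    ∃! ψ : PLie.PMap R p f.range, PLie.IsPHom φ ψ f.rangeRestrict := by
  apply existsUnique_of_surjective φ f.rangeRestrict f.surjective_rangeRestrict
  intro x hx
  apply Subtype.ext
  rw [LieHom.rangeRestrict_apply] at hx ⊢
  have : f x = 0 := congrArg Subtype.val hx
  exact hker x this

end Groth.Agent.S13771
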