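import Groth.Statements.S13773
import Groth.Agent.Lib.JacobsonFormula9
import Groth.Agent.Lib.PBW58d
import Groth.Agent.S13771
import Groth.Agent.S13772

set_option autoImplicit false
universe u v w
open PLie

namespace Groth.Agent.S13773
open Groth.Agent.Lib.JacobsonFormula9 Groth.Agent.Lib

attribute [local instance 100] LieRing.ofAssociativeRing

section
variable {R : Type u} [CommRing R] {L : Type v} [LieRing L] [LieAlgebra R L] {ι : Type w}
  (b : Module.Basis ι R L)

local notation "ιU" => UniversalEnvelopingAlgebra.ι R (L := L)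

include b in
/-- PBW consequence: a free Lie algebra (as a module) embeds in its enveloping algebra. -/
theorem ιU_injective : Function.Injective (ιU : L → UniversalEnvelopingAlgebra R L) := by
  classical
  letI : LinearOrder ι := linearOrderOfSTO (WellOrderingRel (α := ι))
  have h1 := PBW58.linearIndependent_prodU b
  have hinj : Function.Injective (fun i : ι =>
      (⟨[i], (List.pairwise_singleton _ i).sortedLE⟩ : {l : List ι // l.SortedLE})) := by
    intro i j h
    simpa using congrArg Subtype.val h
  have h2 : LinearIndependent R (fun i : ι => (ιU (b i) : UniversalEnvelopingAlgebra R L)) := by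
    have h3 := h1.comp _ hinj
    have h4 : ((fun l : {l : List ι // l.SortedLE} => PBW58.prodU b l.1) ∘ fun i : ι =>
        (⟨[i], (List.pairwise_singleton _ i).sortedLE⟩ : {l : List ι // l.SortedLE})) =
        fun i : ι => (ιU (b i) : UniversalEnvelopingAlgebra R L) := by
      funext i
      simp [PBW58.prodU]
    rw [h4] at h3
    exact h3
  have h5 : (ιU : L →ₗ⁅R⁆ UniversalEnvelopingAlgebra R L).toLinearMap =
      (Finsupp.linearCombination R (fun i : ι => (ιU (b i) : UniversalEnvelopingAlgebra R L))) ∘ₗ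
        b.repr.toLinearMap := by
    apply b.ext
    intro i
    simp
  intro x y hxy
  have h6 : (ιU : L →ₗ⁅R⁆ UniversalEnvelopingAlgebra R L).toLinearMap x =
      (ιU : L →ₗ⁅R⁆ UniversalEnvelopingAlgebra R L).toLinearMap y := hxy
  rw [h5, LinearMap.comp_apply, LinearMap.comp_apply] at h6
  exact b.repr.injective (h2 h6)


end

section Construction
variable {R : Type u} [CommRing R] {p : ℕ} [Fact p.Prime] [CharP R p] {L : Type v} [LieRing L]
  [LieAlgebra R L] {ι : Type w} (b : Module.Basis ι R L) (y : ι → L)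

local notation "ιU" => UniversalEnvelopingAlgebra.ι R (L := L)
local notation "UL" => UniversalEnvelopingAlgebra R L

omit [Fact p.Prime] [CharP R p] in
/-- `ι ∘ (ad x)^n = (ad (ι x))^n ∘ ι`. -/
theorem ιU_ad_pow (x w : L) (n : ℕ) :
    (ιU ((LieAlgebra.ad R L x ^ n) w) : UL) = (LieAlgebra.ad R UL (ιU x) ^ n) (ιU w) := by
  induction n generalizing w with
  | zero => simp
  | succ n ih =>
    rw [pow_succ, pow_succ, Module.End.mul_apply, Module.End.mul_apply, ih, LieAlgebra.ad_apply,
      LieAlgebra.ad_apply, LieHom.map_lie]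

/-- the central elements `z_i = ι(b_i)^p - ι(y_i)`. -/
noncomputable def z (i : ι) : UL := (ιU (b i)) ^ p - ιU (y i)

variable (hy : ∀ i : ι, LieAlgebra.ad R L (b i) ^ p = LieAlgebra.ad R L (y i))

include hy in
theorem z_comm (i : ι) (w : L) : ⁅z (p := p) b y i, (ιU w : UL)⁆ = 0 := by
  rw [z, sub_lie, ← LieAlgebra.ad_apply (R := R), ← ad_pow_char R p, ← ιU_ad_pow, hy,
    LieAlgebra.ad_apply, LieHom.map_lie, sub_self]

/-- the `p`-semilinear correction `ζ(∑ aᵢ bᵢ) = ∑ aᵢ^p zᵢ`. -/
noncomputable def ζ (x : L) : UL := (b.repr x).sum fun i c => c ^ p • z (p := p) b y i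

theorem ζ_add (x x' : L) : ζ (p := p) b y (x + x') = ζ (p := p) b y x + ζ (p := p) b y x' := by
  have hp : p.Prime := Fact.out
  unfold ζ
  rw [map_add, Finsupp.sum_add_index']
  · intro i
    rw [zero_pow hp.ne_zero, zero_smul]
  · intro i c d
    rw [add_pow_char c d, add_smul]

theorem ζ_smul (c : R) (x : L) : ζ (p := p) b y (c • x) = c ^ p • ζ (p := p) b y x := by
  have hp : p.Prime := Fact.out
  unfold ζ
  rw [map_smul, Finsupp.sum_smul_index', Finsupp.smul_sum]
  · refine Finsupp.sum_congr fun i _ => ?_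
    rw [smul_eq_mul, mul_pow, mul_smul]
  · intro i
    rw [zero_pow hp.ne_zero, zero_smul]

theorem ζ_basis (i : ι) : ζ (p := p) b y (b i) = z (p := p) b y i := by
  have hp : p.Prime := Fact.out
  unfold ζ
  rw [b.repr_self, Finsupp.sum_single_index]
  · rw [one_pow, one_smul]
  · rw [zero_pow hp.ne_zero, zero_smul]

include hy in
theorem ζ_comm (x w : L) : ⁅ζ (p := p) b y x, (ιU w : UL)⁆ = 0 := by
  unfold ζ
  rw [Finsupp.sum, sum_lie]
  refine Finset.sum_eq_zero fun i _ => ?_
  rw [smul_lie, z_comm b y hy, smul_zero]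

/-- `ι(x)^p - ζ(x)` lies in `ι(L)`. -/
theorem mem_range (x : L) :
    (ιU x : UL) ^ p - ζ (p := p) b y x ∈ LinearMap.range (ιU : L →ₗ⁅R⁆ UL).toLinearMap := by
  have hp : p.Prime := Fact.out
  let S : Submodule R L :=
    { carrier := {x | (ιU x : UL) ^ p - ζ (p := p) b y x ∈
        LinearMap.range (ιU : L →ₗ⁅R⁆ UL).toLinearMap}
      add_mem' := by
        intro x x' hx hx'
        simp only [Set.mem_setOf_eq] at hx hx' ⊢
        rw [map_add, jacobson_formula R p, ζ_add, ← S13771.map_jacobson (p := p) ιU x x']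
        have h3 : (ιU x : UL) ^ p + (ιU x') ^ p - ιU (jacobson R p x x') -
            (ζ (p := p) b y x + ζ (p := p) b y x') =
            ((ιU x : UL) ^ p - ζ (p := p) b y x) + ((ιU x' : UL) ^ p - ζ (p := p) b y x') -
              ιU (jacobson R p x x') := by abel
        rw [h3]
        exact Submodule.sub_mem _ (Submodule.add_mem _ hx hx') ⟨_, rfl⟩
      zero_mem' := by
        simp only [Set.mem_setOf_eq]
        have : ζ (p := p) b y (0 : L) = 0 := by
          have := ζ_smul (p := p) b y (0 : R) (0 : L)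
          rwa [zero_smul, zero_pow hp.ne_zero, zero_smul] at this
        rw [map_zero, zero_pow hp.ne_zero, this, sub_zero]
        exact Submodule.zero_mem _
      smul_mem' := by
        intro c x hx
        simp only [Set.mem_setOf_eq] at hx ⊢
        rw [map_smul, smul_pow, ζ_smul, ← smul_sub]
        exact Submodule.smul_mem _ _ hx }
  have hS : S = ⊤ := by
    rw [eq_top_iff, ← b.span_eq, Submodule.span_le]
    rintro _ ⟨i, rfl⟩
    have h4 : (ιU (b i) : UL) ^ p - ζ (p := p) b y (b i) ∈
        LinearMap.range (ιU : L →ₗ⁅R⁆ UL).toLinearMap := by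
      rw [ζ_basis, z, sub_sub_cancel]
      exact ⟨_, rfl⟩
    exact h4
  have : x ∈ S := hS ▸ Submodule.mem_top
  exact this

/-- the `p`-map. -/
noncomputable def phi (x : L) : L := (mem_range (p := p) b y x).choose

theorem ιU_phi (x : L) : (ιU (phi (p := p) b y x) : UL) = (ιU x : UL) ^ p - ζ (p := p) b y x :=
  (mem_range (p := p) b y x).choose_spec

include hy in
/-- Jacobson's theorem, existence. -/
theorem exists_pmap : ∃ φ : PLie.PMap R p L, ∀ i : ι, φ (b i) = y i := by
  have hinj := ιU_injective (R := R) b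
  refine ⟨{ toFun := phi (p := p) b y, map_smul := ?_, ad_map := ?_, map_add := ?_ }, ?_⟩
  · intro c x
    apply hinj
    show (ιU (phi (p := p) b y (c • x)) : UL) = ιU (c ^ p • phi (p := p) b y x)
    rw [ιU_phi, map_smul, map_smul, ιU_phi, smul_pow, ζ_smul, smul_sub]
  · intro x
    apply LinearMap.ext
    intro w
    apply hinj
    show (ιU ((LieAlgebra.ad R L (phi (p := p) b y x)) w) : UL) = ιU ((LieAlgebra.ad R L x ^ p) w)
    rw [LieAlgebra.ad_apply, LieHom.map_lie, ιU_phi, sub_lie, ζ_comm b y hy, sub_zero, ιU_ad_pow,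
      ad_pow_char R p, LieAlgebra.ad_apply]
  · intro x x'
    apply hinj
    have e1 := ιU_phi (p := p) b y (x + x')
    have e2 := ιU_phi (p := p) b y x
    have e3 := ιU_phi (p := p) b y x'
    show (ιU (phi (p := p) b y (x + x')) : UL) =
      ιU (phi (p := p) b y x + phi (p := p) b y x' - jacobson R p x x')
    rw [e1, map_sub, map_add, map_add, e2, e3, jacobson_formula R p, ζ_add,
      ← S13771.map_jacobson (p := p) ιU x x']
    abel
  · intro i
    apply hinj
    show (ιU (phi (p := p) b y (b i)) : UL) = _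
    rw [ιU_phi, ζ_basis, z, sub_sub_cancel]


omit [Fact p.Prime] in
/-- Uniqueness: two `p`-maps agreeing on a basis are equal. -/
theorem pmap_eq_of_basis [Fact p.Prime] (φ ψ : PLie.PMap R p L) (h : ∀ i : ι, φ (b i) = ψ (b i)) :
    φ = ψ := by
  have hp : p.Prime := Fact.out
  obtain ⟨hadd, hsmul, -⟩ := (S13772.result R p L φ (fun x => ψ x - φ x)).1
    ⟨ψ, fun x => by abel⟩
  let S : Submodule R L :=
    { carrier := {x | ψ x - φ x = 0}
      add_mem' := by
        intro x x' hx hx'
        simp only [Set.mem_ofPred_eq] at hx hx' ⊢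
        rw [hadd, hx, hx', add_zero]
      zero_mem' := by
        simp only [Set.mem_ofPred_eq]
        have := hsmul 0 0
        simp only [zero_smul, zero_pow hp.ne_zero] at this
        exact this
      smul_mem' := by
        intro c x hx
        simp only [Set.mem_ofPred_eq] at hx ⊢
        rw [hsmul, hx, smul_zero] }
  have hS : S = ⊤ := by
    rw [eq_top_iff, ← b.span_eq, Submodule.span_le]
    rintro _ ⟨i, rfl⟩
    have : ψ (b i) - φ (b i) = 0 := by rw [h i, sub_self]
    exact this
  apply S13771.pmap_ext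
  intro x
  have hx : x ∈ S := hS ▸ Submodule.mem_top
  have hx' : ψ x - φ x = 0 := hx
  exact (sub_eq_zero.1 hx').symm

end Construction


/-- Let R be a commutative ring of prime characteristic p and L a Lie algebra over R, free as an
R-module with basis b indexed by ι, and let y : ι → L satisfy (ad (b i)) ^ p = ad (y i) in the
R-linear endomorphisms of L for every i. Then L carries exactly one p-mapping φ with φ (b i) = y i
for all i. -/
theorem result (R : Type u) [CommRing R] (p : ℕ) [Fact p.Prime] [CharP R p]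
    (L : Type v) [LieRing L] [LieAlgebra R L] {ι : Type w} (b : Module.Basis ι R L) (y : ι → L)
    (hy : ∀ i : ι, LieAlgebra.ad R L (b i) ^ p = LieAlgebra.ad R L (y i)) :
    ∃! φ : PLie.PMap R p L, ∀ i : ι, φ (b i) = y i := by
  obtain ⟨φ, hφ⟩ := exists_pmap b y hy
  refine ⟨φ, hφ, fun ψ hψ => ?_⟩
  exact pmap_eq_of_basis b ψ φ fun i => by rw [hψ i, hφ i]

end Groth.Agent.S13773
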