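import Groth.Statements.S4521
import Groth.Agent.Lib.PBasisFieldH44

set_option autoImplicit false
universe u
open EGA41

namespace Groth.Agent.S4521

/-- Let k ⊆ K be fields of characteristic p > 0 and (x_α) a family of elements of K. Then (x_α) is
p-independent over k if and only if, for every α, x_α does not lie in the subfield generated over k
by K^p and the x_β with β ≠ α. -/
theorem result (p : ℕ) [Fact p.Prime] {k K : Type u} [Field k] [Field K]
    [Algebra k K] [CharP K p] {ι : Type u} (x : ι → K) :
    EGA41.IsPIndependent p k x ↔
      ∀ a : ι, x a ∉ IntermediateField.adjoin k ((Set.range fun y : K => y ^ p) ∪ x '' {b | b ≠ a}) := by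
  have hset : ∀ a : ι, (Set.univ \ {a} : Set ι) = {b | b ≠ a} := by
    intro a
    ext b
    simp
  rw [← Groth.Agent.Lib.PBasisFieldH44.indepOn_univ_iff]
  constructor
  · intro h a hmem
    rw [Groth.Agent.Lib.PBasisFieldH44.mem_intermediateField_adjoin_iff] at hmem
    have := Groth.Agent.Lib.PBasisFieldH44.IndepOn.notMem_adjoin p x h (Set.mem_univ a)
    rw [hset a] at this
    exact this hmem
  · intro h
    apply Groth.Agent.Lib.PBasisFieldH44.indepOn_of_forall_notMem
    intro a _ hmem
    rw [hset a] at hmem
    exact h a ((Groth.Agent.Lib.PBasisFieldH44.mem_intermediateField_adjoin_iff p _ _).2 hmem)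

end Groth.Agent.S4521
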