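import Groth.Statements.S6299
import Mathlib

set_option autoImplicit false
set_option linter.unusedSectionVars false
set_option linter.unusedVariables false
universe u

namespace Groth.Agent.S6299

open PowerSeries

section
variable {R : Type u} [CommRing R] [IsDomain R] [IsNoetherianRing R] [IsIntegrallyClosed R]
variable {K : Type u} [Field K] [Algebra R K] [IsFractionRing R K]

/-- Lemma A: the first nonvanishing coefficient of an almost integral series lies in `R`. -/
lemma coeff_mem_of_almost (q : K⟦X⟧) (hq : IsAlmostIntegral R⟦X⟧ q) (i : ℕ)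
    (hi : ∀ j < i, coeff j q = 0) : coeff i q ∈ (algebraMap R K).range := by
  obtain ⟨d, hd, hdn⟩ := hq
  have hd0 : d ≠ 0 := nonZeroDivisors.ne_zero hd
  set m := d.order.toNat with hm
  have hdm : coeff m d ≠ 0 := coeff_order hd0
  have hdlt : ∀ a < m, coeff a d = 0 := fun a ha => coeff_of_lt_order_toNat a ha
  obtain ⟨q3, rfl⟩ : (X : K⟦X⟧) ^ i ∣ q := X_pow_dvd_iff.mpr hi
  have hq3 : coeff i ((X : K⟦X⟧) ^ i * q3) = constantCoeff q3 := by
    rw [coeff_X_pow_mul', if_pos le_rfl, Nat.sub_self, coeff_zero_eq_constantCoeff]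
  have hai : IsAlmostIntegral R (constantCoeff q3) := by
    refine ⟨coeff m d, mem_nonZeroDivisors_of_ne_zero hdm, fun n => ?_⟩
    obtain ⟨H, hH⟩ := hdn n
    refine ⟨coeff (i * n + m) H, ?_⟩
    have h1 : coeff (i * n + m) (algebraMap R⟦X⟧ K⟦X⟧ H) =
        algebraMap R K (coeff (i * n + m) H) := by
      rw [algebraMap_apply'', coeff_map]
    rw [← h1, hH, Algebra.smul_def, algebraMap_apply'', mul_pow, ← pow_mul, mul_left_comm,
      coeff_X_pow_mul', if_pos (Nat.le_add_right _ _), Nat.add_sub_cancel_left, coeff_mul,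
      Finset.sum_eq_single (m, 0)]
    · simp only [coeff_map, coeff_zero_eq_constantCoeff, map_pow, Algebra.smul_def]
    · rintro ⟨a, b⟩ hab hne
      have hab' : a + b = m := Finset.HasAntidiagonal.mem_antidiagonal.mp hab
      have halt : a < m := by
        rcases Nat.eq_zero_or_pos b with hb | hb
        · exfalso; apply hne; subst hb; simp at hab'; simp [hab']
        · omega
      rw [coeff_map, hdlt a halt, map_zero, zero_mul]
    · intro h
      exact absurd (Finset.HasAntidiagonal.mem_antidiagonal.mpr (add_zero m)) h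
  have hint : IsIntegral R (constantCoeff q3) := hai.isIntegral
  rw [hq3]
  exact IsIntegrallyClosed.isIntegral_iff.mp hint

/-- Lemma B: all coefficients of an almost integral series lie in `R`. -/
lemma coeff_mem_all (q : K⟦X⟧) (hq : IsAlmostIntegral R⟦X⟧ q) :
    ∀ i, coeff i q ∈ (algebraMap R K).range := by
  intro i
  induction i using Nat.strong_induction_on with
  | _ i ih =>
    have hex : ∀ j, ∃ c : R, j < i → algebraMap R K c = coeff j q := by
      intro j
      by_cases hj : j < i
      · obtain ⟨c, hc⟩ := RingHom.mem_range.mp (ih j hj)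
        exact ⟨c, fun _ => hc⟩
      · exact ⟨0, fun h => absurd h hj⟩
    choose c hc using hex
    let q' : R⟦X⟧ := PowerSeries.mk (fun j => if j < i then c j else 0)
    have hq' : IsAlmostIntegral R⟦X⟧ (q - algebraMap R⟦X⟧ K⟦X⟧ q') :=
      (completeIntegralClosure R⟦X⟧ K⟦X⟧).sub_mem hq (Subalgebra.algebraMap_mem _ q')
    have h0 : ∀ j < i, coeff j (q - algebraMap R⟦X⟧ K⟦X⟧ q') = 0 := by
      intro j hj
      rw [map_sub, algebraMap_apply'', coeff_map, coeff_mk, if_pos hj, hc j hj, sub_self]
    have := coeff_mem_of_almost _ hq' i h0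
    rw [map_sub, algebraMap_apply'', coeff_map, coeff_mk, if_neg (lt_irrefl i), map_zero,
      sub_zero] at this
    exact this

end

theorem ic (R : Type u) [CommRing R] [IsDomain R] [IsNoetherianRing R] [IsIntegrallyClosed R] :
    IsIntegrallyClosed (PowerSeries R) := by
  let K := FractionRing R
  let L := FractionRing R⟦X⟧
  rw [isIntegrallyClosed_iff L]
  intro w hw
  obtain ⟨d, hd, hdn⟩ := hw.isAlmostIntegral
  obtain ⟨f, g, rfl⟩ := IsLocalization.exists_mk'_eq (nonZeroDivisors R⟦X⟧) w
  have hg0 : (g : R⟦X⟧) ≠ 0 := nonZeroDivisors.ne_zero g.2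
  have hd0 : d ≠ 0 := nonZeroDivisors.ne_zero hd
  have hid : ∀ n, ∃ h : R⟦X⟧, d * f ^ n = h * (g : R⟦X⟧) ^ n := by
    intro n
    obtain ⟨h, hh⟩ := hdn n
    refine ⟨h, IsFractionRing.injective R⟦X⟧ L ?_⟩
    rw [map_mul, map_mul, map_pow, map_pow, hh, Algebra.smul_def, mul_assoc, ← mul_pow,
      IsLocalization.mk'_spec]
  set φ := PowerSeries.map (algebraMap R K) with hφ
  have hφinj : Function.Injective φ :=
    PowerSeries.map_injective _ (IsFractionRing.injective R K)
  have hφg0 : φ g ≠ 0 := fun h => hg0 (hφinj (by rw [h, map_zero]))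
  -- find q
  have hq : ∃ q : K⟦X⟧, φ f = φ g * q := by
    by_cases hf0 : f = 0
    · exact ⟨0, by rw [hf0, map_zero, mul_zero]⟩
    have hφf0 : φ f ≠ 0 := fun h => hf0 (hφinj (by rw [h, map_zero]))
    rcases ValuationRing.dvd_total (φ g) (φ f) with ⟨q, hq⟩ | ⟨c, hc⟩
    · exact ⟨q, hq⟩
    · by_cases hcu : IsUnit c
      · obtain ⟨cu, rfl⟩ := hcu
        exact ⟨↑cu⁻¹, by rw [hc, mul_assoc, Units.mul_inv, mul_one]⟩
      · exfalso
        have hc0 : constantCoeff c = 0 := by
          by_contra h
          exact hcu (isUnit_iff_constantCoeff.mpr (Ne.isUnit h))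
        have hXc : (X : K⟦X⟧) ∣ c := X_dvd_iff.mpr hc0
        have hall : ∀ n, (X : K⟦X⟧) ^ n ∣ φ d := by
          intro n
          obtain ⟨h, hh⟩ := hid n
          have h2 : φ d * φ f ^ n = φ h * c ^ n * φ f ^ n := by
            have := congrArg φ hh
            rw [map_mul, map_mul, map_pow, map_pow, hc, mul_pow] at this
            rw [this]; ring
          have h3 : φ d = φ h * c ^ n := mul_right_cancel₀ (pow_ne_zero n hφf0) h2
          rw [h3]
          exact Dvd.dvd.mul_left (pow_dvd_pow_of_dvd hXc n) _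
        apply hd0
        apply hφinj
        rw [map_zero]
        ext n
        rw [map_zero]
        exact X_pow_dvd_iff.mp (hall (n + 1)) n (Nat.lt_succ_self n)
  obtain ⟨q, hq⟩ := hq
  have hqa : IsAlmostIntegral R⟦X⟧ q := by
    refine ⟨d, hd, fun n => ?_⟩
    obtain ⟨h, hh⟩ := hid n
    refine ⟨h, ?_⟩
    rw [Algebra.smul_def, algebraMap_apply'', algebraMap_apply'']
    have h2 : φ h * φ g ^ n = φ d * q ^ n * φ g ^ n := by
      have := congrArg φ hh
      rw [map_mul, map_mul, map_pow, map_pow, hq, mul_pow] at this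
      rw [← this]; ring
    exact mul_right_cancel₀ (pow_ne_zero n hφg0) h2
  have hall := coeff_mem_all q hqa
  choose c hc using fun i => RingHom.mem_range.mp (hall i)
  have hq0 : φ (PowerSeries.mk c) = q := by
    ext i
    rw [hφ, coeff_map, coeff_mk, hc]
  have hfg : f = g * PowerSeries.mk c := hφinj (by rw [map_mul, hq0, hq])
  refine ⟨PowerSeries.mk c, ?_⟩
  rw [eq_comm, IsLocalization.mk'_eq_iff_eq_mul, hfg, map_mul, mul_comm]

/-- Let R be a Noetherian normal domain. Then the power series ring R[[x]] is a Noetherian normal domain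
(here: it is an integrally closed domain and a Noetherian ring). -/
theorem result (R : Type u) [CommRing R] [IsDomain R] [IsNoetherianRing R] [IsIntegrallyClosed R] : IsIntegrallyClosed (PowerSeries R) ∧ IsNoetherianRing (PowerSeries R) :=
  ⟨ic R, inferInstance⟩

end Groth.Agent.S6299
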