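import Groth.Statements.S1390
import Groth.Agent.Lib.SplitAlg61b

set_option autoImplicit false
universe u
open FlatMor

namespace Groth.Agent.S1390

open AlgebraicGeometry CategoryTheory Limits in
/-- Let (U, u) be an étale neighbourhood of (S, s), i.e. U → S étale with u over s. Then there are an
affine open neighbourhood V of s and a surjective, finite, flat morphism of finite presentation π :
T → V such that every point t of T over s has an open neighbourhood W_t with an S-morphism W_t → U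
sending t to u. -/
theorem result {U S : Scheme.{u}} (e : U ⟶ S) [Etale e] (u : U) (s : S) (hu : e u = s) :
    ∃ (V : S.Opens) (T : Scheme.{u}) (π : T ⟶ (V : Scheme.{u})), s ∈ V ∧ IsAffineOpen V ∧ Surjective π ∧ IsFinite π ∧ Flat π ∧ LocallyOfFinitePresentation π ∧
      ∀ t : T, V.ι (π t) = s → ∃ (W : T.Opens) (h : (W : Scheme.{u}) ⟶ U), t ∈ W ∧ h ≫ e = W.ι ≫ π ≫ V.ι ∧ ∀ ht : t ∈ W, h ⟨t, ht⟩ = u := by
  subst hu
  obtain ⟨V, hV, hsV, -⟩ := exists_isAffineOpen_mem_and_subset (x := e u) (U := ⊤) trivial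
  obtain ⟨U₀, hU₀, huU₀, hU₀V⟩ :=
    exists_isAffineOpen_mem_and_subset (x := u) (U := e ⁻¹ᵁ V) hsV
  have hle : U₀ ≤ e ⁻¹ᵁ V := hU₀V
  let φ := e.appLE V U₀ hle
  have hφ : RingHom.Etale φ.hom :=
    HasRingHomProperty.appLE @Etale e inferInstance ⟨V, hV⟩ ⟨U₀, hU₀⟩ hle
  algebraize [φ.hom]
  have hAet : Algebra.Etale Γ(S, V) Γ(U, U₀) := hφ
  let pA : ↥(Spec Γ(U, U₀)) := hU₀.primeIdealOf ⟨u, huU₀⟩
  obtain ⟨T, _, _, hTfree, hTfin, hTinj, hT⟩ :=
    Groth.Agent.Lib.SplitAlg61.exists_cover_ring Γ(S, V) Γ(U, U₀) pA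
  let α : Γ(S, V) ⟶ CommRingCat.of T := CommRingCat.ofHom (algebraMap Γ(S, V) T)
  let π : Spec (CommRingCat.of T) ⟶ (V : Scheme.{u}) := Spec.map α ≫ hV.isoSpec.inv
  have hπι : π ≫ V.ι = Spec.map α ≫ hV.fromSpec := by
    simp only [π, Category.assoc, IsAffineOpen.isoSpec_inv_ι]
  have hsq : Spec.map φ ≫ hV.fromSpec = hU₀.fromSpec ≫ e :=
    IsAffineOpen.SpecMap_appLE_fromSpec e hV hU₀ hle
  refine ⟨V, Spec (CommRingCat.of T), π, hsV, hV, ?_, ?_, ?_, ?_, ?_⟩
  · -- surjective
    have h1 : Surjective (Spec.map α) := by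
      rw [surjective_iff]
      exact RingHom.IsIntegral.comap_surjective
        (RingHom.Finite.to_isIntegral (RingHom.finite_algebraMap.mpr hTfin)) hTinj
    change Surjective (Spec.map α ≫ hV.isoSpec.inv)
    infer_instance
  · have h1 : IsFinite (Spec.map α) := by
      rw [IsFinite.SpecMap_iff]
      exact RingHom.finite_algebraMap.mpr hTfin
    change IsFinite (Spec.map α ≫ hV.isoSpec.inv)
    infer_instance
  · have h1 : Flat (Spec.map α) := by
      rw [Flat.SpecMap_iff]
      exact RingHom.flat_algebraMap_iff.mpr inferInstance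
    change Flat (Spec.map α ≫ hV.isoSpec.inv)
    infer_instance
  · have h1 : LocallyOfFinitePresentation (Spec.map α) := by
      rw [HasRingHomProperty.Spec_iff (P := @LocallyOfFinitePresentation)]
      have : Module.FinitePresentation Γ(S, V) T := Module.finitePresentation_of_projective _ _
      have : Algebra.FinitePresentation Γ(S, V) T :=
        Algebra.FinitePresentation.of_finitePresentation _ _
      exact RingHom.finitePresentation_algebraMap.mpr this
    change LocallyOfFinitePresentation (Spec.map α ≫ hV.isoSpec.inv)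
    infer_instance
  · intro t ht
    -- the prime `t` lies over the image of `pA`
    have h1 : hV.fromSpec ((Spec.map α) t) = hV.fromSpec ((Spec.map φ) pA) := by
      have e1 : hV.fromSpec ((Spec.map α) t) = V.ι (π t) :=
        calc hV.fromSpec ((Spec.map α) t) = (Spec.map α ≫ hV.fromSpec) t :=
              (Scheme.Hom.comp_apply _ _ _).symm
          _ = (π ≫ V.ι) t := by rw [hπι]
          _ = V.ι (π t) := Scheme.Hom.comp_apply _ _ _
      have e2 : hV.fromSpec ((Spec.map φ) pA) = e u :=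
        calc hV.fromSpec ((Spec.map φ) pA) = (Spec.map φ ≫ hV.fromSpec) pA :=
              (Scheme.Hom.comp_apply _ _ _).symm
          _ = (hU₀.fromSpec ≫ e) pA := by rw [hsq]
          _ = e (hU₀.fromSpec pA) := Scheme.Hom.comp_apply _ _ _
          _ = e u := congrArg _ (hU₀.fromSpec_primeIdealOf ⟨u, huU₀⟩)
      rw [e1, e2, ht]
    have h2 : (Spec.map α) t = (Spec.map φ) pA := hV.fromSpec.isOpenEmbedding.injective h1
    obtain ⟨b, ψ, 𝔓', h3, h4⟩ := hT t h2
    let j : Spec (CommRingCat.of (Localization.Away b)) ⟶ Spec (CommRingCat.of T) :=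
      Spec.map (CommRingCat.ofHom (algebraMap T (Localization.Away b)))
    have hj : IsOpenImmersion j := inferInstance
    let ψ' : Γ(U, U₀) ⟶ CommRingCat.of (Localization.Away b) := CommRingCat.ofHom ψ.toRingHom
    have hψ : φ ≫ ψ' = α ≫ CommRingCat.ofHom (algebraMap T (Localization.Away b)) := by
      ext x
      change ψ (algebraMap Γ(S, V) Γ(U, U₀) x) = algebraMap T (Localization.Away b) (algebraMap Γ(S, V) T x)
      rw [ψ.commutes, ← IsScalarTower.algebraMap_apply]
    have hjt : j 𝔓' = t := h3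
    refine ⟨j.opensRange, j.isoOpensRange.inv ≫ Spec.map ψ' ≫ hU₀.fromSpec, ⟨𝔓', hjt⟩, ?_, ?_⟩
    · rw [Category.assoc, Category.assoc, ← hsq, ← Spec.map_comp_assoc, hψ, Spec.map_comp_assoc,
        ← Scheme.Hom.isoOpensRange_inv_comp, Category.assoc, hπι]
    · intro ht'
      let x : ↥(j.opensRange.toScheme) := ⟨t, ht'⟩
      have e1 : j.isoOpensRange.inv x = 𝔓' := j.isOpenEmbedding.injective
        (calc j (j.isoOpensRange.inv x) = (j.isoOpensRange.inv ≫ j) x :=
              (Scheme.Hom.comp_apply _ _ _).symm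
          _ = j.opensRange.ι x := by rw [Scheme.Hom.isoOpensRange_inv_comp]
          _ = t := rfl
          _ = j 𝔓' := hjt.symm)
      exact
        (calc (j.isoOpensRange.inv ≫ Spec.map ψ' ≫ hU₀.fromSpec) x
            = (Spec.map ψ' ≫ hU₀.fromSpec) (j.isoOpensRange.inv x) := Scheme.Hom.comp_apply _ _ _
          _ = (Spec.map ψ' ≫ hU₀.fromSpec) 𝔓' := congrArg _ e1
          _ = hU₀.fromSpec ((Spec.map ψ') 𝔓') := Scheme.Hom.comp_apply _ _ _
          _ = hU₀.fromSpec pA := congrArg _ h4
          _ = u := hU₀.fromSpec_primeIdealOf ⟨u, huU₀⟩)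
end Groth.Agent.S1390
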