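import Groth.Statements.S7198
import Groth.Agent.Lib.FppfRefine33
import Groth.Agent.S1390

set_option autoImplicit false
universe w u
open FlatMor

namespace Groth.Agent.S7198

open AlgebraicGeometry CategoryTheory Limits in
/-- Any fppf covering {S_i → S} is refined by a family built in four steps — cover S by Zariski opens
U_j; over each U_j take a surjective finite locally free W_j → U_j; cover each W_j by Zariski opens
W_{j,k}; over each of those take a surjective finite locally free T_{j,k} → W_{j,k} — where every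
composite T_{j,k} → S factors through some S_i. Stated pointwise: around every point of S, and then
around every point of the finite locally free cover, such data exist. -/
theorem result {S : Scheme.{u}} (E : PreZeroHypercover.{w} S)
    (hflat : ∀ i, Flat (E.f i)) (hfp : ∀ i, LocallyOfFinitePresentation (E.f i))
    (hsurj : ∀ s : S, ∃ (i : E.I₀) (x : E.X i), E.f i x = s) (s : S) :
    ∃ (U : S.Opens) (W : Scheme.{u}) (π : W ⟶ U.toScheme), s ∈ U ∧ Mor2.IsFinLocFree π ∧ Surjective π ∧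
      ∀ w : W, ∃ (W' : W.Opens) (T : Scheme.{u}) (ρ : T ⟶ W'.toScheme) (i : E.I₀) (r : T ⟶ E.X i),
        w ∈ W' ∧ Mor2.IsFinLocFree ρ ∧ Surjective ρ ∧ r ≫ E.f i = ρ ≫ W'.ι ≫ π ≫ U.ι := by
  obtain ⟨i, x, hx⟩ := hsurj s
  have := hflat i
  have := hfp i
  obtain ⟨S', V, e, π₀, r₀, het, ⟨u, hu⟩, hπ₀s, hπ₀f, hπ₀fl, hπ₀fp, hr₀⟩ :=
    Groth.Agent.Lib.FppfRefine33.exists_etale_finite_flat (E.f i) x
  rw [hx] at hu
  obtain ⟨V₁, T₁, π₁, hsV₁, hV₁, hπ₁s, hπ₁f, hπ₁fl, hπ₁fp, hloc⟩ :=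
    Groth.Agent.S1390.result e u s hu
  -- the good locus in `T₁`
  let G : Set T₁ := {t | ∃ (W : T₁.Opens) (h : (W : Scheme.{u}) ⟶ S'), t ∈ W ∧
    h ≫ e = W.ι ≫ π₁ ≫ V₁.ι}
  have hG : IsOpen G := by
    rw [isOpen_iff_forall_mem_open]
    rintro t ⟨W, h, htW, hh⟩
    exact ⟨W, fun t' ht' => ⟨W, h, ht', hh⟩, W.2, htW⟩
  have hC : IsClosed (π₁ '' Gᶜ) := π₁.isClosedMap _ hG.isClosed_compl
  let U' : (V₁ : Scheme.{u}).Opens := ⟨(π₁ '' Gᶜ)ᶜ, hC.isOpen_compl⟩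
  have hsU' : (⟨s, hsV₁⟩ : V₁) ∈ U' := by
    rintro ⟨t, htG, ht⟩
    apply htG
    have : V₁.ι (π₁ t) = s := by rw [ht]; rfl
    obtain ⟨W, h, htW, hh, -⟩ := hloc t this
    exact ⟨W, h, htW, hh⟩
  refine ⟨V₁.ι ''ᵁ U', (π₁ ⁻¹ᵁ U' : _), (π₁ ∣_ U') ≫ (V₁.ι.isoImage U').hom,
    ⟨⟨s, hsV₁⟩, hsU', rfl⟩, ⟨inferInstance, inferInstance, inferInstance⟩, ?_, ?_⟩
  · have : Surjective (π₁ ∣_ U') := by
      constructor
      rintro ⟨y, hy⟩
      obtain ⟨t, rfl⟩ := π₁.surjective y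
      refine ⟨⟨t, hy⟩, ?_⟩
      apply U'.ι.isOpenEmbedding.injective
      rw [← Scheme.Hom.comp_apply, morphismRestrict_ι]
      rfl
    infer_instance
  · intro w
    have hwG : (w.1 : T₁) ∈ G := by
      by_contra hcon
      exact w.2 ⟨w.1, hcon, rfl⟩
    obtain ⟨Wt, ht, hwWt, hht⟩ := hwG
    let W' : Scheme.Opens (π₁ ⁻¹ᵁ U' : Scheme.{u}) := (π₁ ⁻¹ᵁ U').ι ⁻¹ᵁ Wt
    let a : (W' : Scheme.{u}) ⟶ S' := (π₁ ⁻¹ᵁ U').ι.resLE Wt W' le_rfl ≫ ht
    refine ⟨W', pullback a π₀, pullback.fst a π₀, i, pullback.snd a π₀ ≫ r₀, hwWt,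
      ⟨inferInstance, inferInstance, inferInstance⟩, inferInstance, ?_⟩
    rw [Category.assoc, hr₀, ← pullback.condition_assoc]
    simp only [a, Category.assoc]
    rw [hht, Scheme.Hom.resLE_comp_ι_assoc, Scheme.Hom.isoImage_hom_ι, morphismRestrict_ι_assoc]

end Groth.Agent.S7198
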