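import Groth.Statements.S1640
import Groth.Agent.Lib.GlueDimOne2

set_option autoImplicit false
universe u
open Variety

namespace Groth.Agent.S1640


open Groth.Agent.Lib.GlueDimOne

/-- archimedean property of a DVR, uniform over a list. -/
theorem exists_pow_gt {K : Type u} [Field K] (a x : K) :
    ∀ l : List (ValuationSubring K), (∀ W ∈ l, IsDiscreteValuationRing W) →
      ∃ M₀ : ℕ, ∀ M ≥ M₀, ∀ W ∈ l, 1 < W.valuation a → W.valuation x < W.valuation a ^ M
  | [], _ => ⟨0, fun _ _ W hW => by simp at hW⟩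
  | W :: l, hdvr => by
    obtain ⟨M₁, h₁⟩ := exists_pow_gt a x l (fun W' hW' => hdvr W' (List.mem_cons_of_mem _ hW'))
    have hW : IsDiscreteValuationRing W := hdvr W List.mem_cons_self
    by_cases ha : 1 < W.valuation a
    · have ha0 : a ≠ 0 := by
        rintro rfl
        simp at ha
      have hai : W.valuation a⁻¹ < 1 := by
        rw [map_inv₀]; exact inv_lt_one_of_one_lt₀ ha
      obtain ⟨N₀, hN₀⟩ := dvr_absorb W hai (inv_ne_zero ha0) x
      refine ⟨max M₁ (N₀ + 1), fun M hM W' hW' ha' => ?_⟩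
      rcases List.mem_cons.mp hW' with rfl | hW'
      · obtain ⟨d, rfl⟩ : ∃ d, M = d + 1 := ⟨M - 1, by
          have : N₀ + 1 ≤ M := le_trans (le_max_right _ _) hM
          omega⟩
        have hd : N₀ ≤ d := by
          have : N₀ + 1 ≤ d + 1 := le_trans (le_max_right _ _) hM
          omega
        have h2 := (W'.valuation_le_one_iff _).mpr (hN₀ d hd)
        rw [map_mul, map_pow, map_inv₀, inv_pow] at h2
        have hpos : 0 < W'.valuation a ^ d := pow_pos (lt_trans zero_lt_one ha) d
        have h3 : W'.valuation x ≤ W'.valuation a ^ d := by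
          rwa [mul_inv_le_iff₀ hpos, one_mul] at h2
        calc W'.valuation x ≤ W'.valuation a ^ d := h3
          _ < W'.valuation a ^ d * W'.valuation a := lt_mul_of_one_lt_right hpos ha
          _ = W'.valuation a ^ (d + 1) := (pow_succ _ _).symm
      · exact h₁ M (le_trans (le_max_left _ _) hM) W' hW' ha'
    · refine ⟨M₁, fun M hM W' hW' ha' => ?_⟩
      rcases List.mem_cons.mp hW' with rfl | hW'
      · exact absurd ha' ha
      · exact h₁ M hM W' hW' ha'

/-- simultaneous poles: an element of `A` outside finitely many DVRs none of which contains `A`. -/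
theorem exists_forall_notMem {K : Type u} [Field K] (A : Subring K) :
    ∀ l : List (ValuationSubring K), (∀ W ∈ l, IsDiscreteValuationRing W) →
      (∀ W ∈ l, ∃ a ∈ A, a ∉ W) → ∃ x ∈ A, ∀ W ∈ l, 1 < W.valuation x
  | [], _, _ => ⟨1, A.one_mem, fun W hW => by simp at hW⟩
  | W :: l, hdvr, hA => by
    have hdvr' : ∀ W' ∈ l, IsDiscreteValuationRing W' :=
      fun W' hW' => hdvr W' (List.mem_cons_of_mem _ hW')
    obtain ⟨x', hx'A, hx'⟩ := exists_forall_notMem A l hdvr'
      (fun W' hW' => hA W' (List.mem_cons_of_mem _ hW'))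
    by_cases hxW : 1 < W.valuation x'
    · refine ⟨x', hx'A, fun W' hW' => ?_⟩
      rcases List.mem_cons.mp hW' with rfl | hW'
      · exact hxW
      · exact hx' W' hW'
    · obtain ⟨a, haA, haW⟩ := hA W List.mem_cons_self
      have haW' : 1 < W.valuation a := by
        by_contra h
        exact haW ((W.valuation_le_one_iff a).mp (not_lt.mp h))
      obtain ⟨M₀, hM₀⟩ := exists_pow_gt a x' l hdvr'
      refine ⟨x' + a ^ (M₀ + 1), A.add_mem hx'A (A.pow_mem haA _), fun W' hW' => ?_⟩
      rcases List.mem_cons.mp hW' with rfl | hW'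
      · have h1 : W'.valuation x' < W'.valuation (a ^ (M₀ + 1)) := by
          rw [map_pow]
          exact lt_of_le_of_lt (not_lt.mp hxW) (one_lt_pow₀ haW' (by omega))
        rw [Valuation.map_add_eq_of_lt_right _ h1, map_pow]
        exact one_lt_pow₀ haW' (by omega)
      · by_cases ha' : 1 < W'.valuation a
        · have h1 : W'.valuation x' < W'.valuation (a ^ (M₀ + 1)) := by
            rw [map_pow]
            exact hM₀ (M₀ + 1) (by omega) W' hW' ha'
          rw [Valuation.map_add_eq_of_lt_right _ h1, map_pow]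
          exact one_lt_pow₀ ha' (by omega)
        · have h1 : W'.valuation (a ^ (M₀ + 1)) < W'.valuation x' := by
            rw [map_pow]
            exact lt_of_le_of_lt (pow_le_one₀ zero_le (not_lt.mp ha')) (hx' W' hW')
          rw [Valuation.map_add_eq_of_lt_left _ h1]
          exact hx' W' hW'

/-- Let K be a field, A ⊆ K a subring with fraction field K, and B_1, …, B_r ⊆ K Noetherian
one-dimensional subrings with finitely many maximal ideals and fraction field K, such that for each
i the subring generated by A and B_i is all of K. Then some nonzero x ∈ A has x⁻¹ lying in B_i and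
in the Jacobson radical of B_i for every i. -/
theorem result (K : Type u) [Field K] (A : Subring K) [IsFractionRing A K]
    (r : ℕ) (B : Fin r → Subring K) [∀ i, IsNoetherianRing (B i)] [∀ i, IsFractionRing (B i) K]
    (hdim : ∀ i, ringKrullDim (B i) = 1) (hsl : ∀ i, Finite (MaximalSpectrum (B i)))
    (hgen : ∀ i, A ⊔ B i = ⊤) :
    ∃ x : K, x ∈ A ∧ x ≠ 0 ∧ ∀ i, ∃ hx : x⁻¹ ∈ B i, (⟨x⁻¹, hx⟩ : B i) ∈ (⊥ : Ideal (B i)).jacobson := by
  have hB : ∀ i, Good (B i) := fun i => Good.of (B i) (hdim i) (hsl i)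
  have hK1 : ∀ i, Ring.KrullDimLE 1 (B i) := fun i => (hB i).dim
  have hfin : (⋃ i, {W : ValuationSubring K | B i ≤ W.toSubring ∧ W ≠ ⊤}).Finite :=
    Set.finite_iUnion (fun i => finite_valuationSubrings (B i) (hB i))
  have hl_mem : ∀ W, W ∈ hfin.toFinset.toList ↔ ∃ i, (B i ≤ W.toSubring ∧ W ≠ ⊤) := by
    intro W
    rw [Finset.mem_toList, Set.Finite.mem_toFinset, Set.mem_iUnion]
    rfl
  have hdvr : ∀ W ∈ hfin.toFinset.toList, IsDiscreteValuationRing W := by
    intro W hW
    obtain ⟨i, hi⟩ := (hl_mem W).mp hW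
    exact isDVR_of_le (B i) W hi.1 hi.2
  have hnA : ∀ W ∈ hfin.toFinset.toList, ∃ a ∈ A, a ∉ W := by
    intro W hW
    obtain ⟨i, hi⟩ := (hl_mem W).mp hW
    by_contra hcon
    push Not at hcon
    apply hi.2
    have h1 : A ⊔ B i ≤ W.toSubring := sup_le (fun a ha => hcon a ha) hi.1
    rw [hgen i] at h1
    rw [eq_top_iff]
    intro k _
    exact h1 (Subring.mem_top k)
  obtain ⟨x₀, hx₀A, hx₀⟩ := exists_forall_notMem A _ hdvr hnA
  have hx₀0 : x₀ ≠ 0 ∨ r = 0 := by
    by_cases hr : r = 0
    · exact Or.inr hr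
    · left
      rintro rfl
      obtain ⟨i⟩ : Nonempty (Fin r) := ⟨⟨0, Nat.pos_of_ne_zero hr⟩⟩
      -- `B i` has a nontrivial valuation subring above it
      have hnf := (hB i).nf
      obtain ⟨M, hM⟩ := Ideal.exists_maximal (B i)
      have hM0 : M ≠ ⊥ := by
        intro h
        apply hnf
        rw [Ring.isField_iff_maximal_bot, ← h]
        exact hM
      obtain ⟨c, hcM, hc0⟩ := Submodule.exists_mem_ne_zero_of_ne_bot hM0
      obtain ⟨V, hVB, hV2⟩ := exists_valuationSubring_of_ideal' (B i) M hM.ne_top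
      have hVtop : V ≠ ⊤ := ne_top_of_val_lt_one V (fun h => hc0 (Subtype.ext h)) (hV2 c hcM)
      have := hx₀ V ((hl_mem V).mpr ⟨i, hVB, hVtop⟩)
      simp at this
  have hN : ∀ i, ∃ N₀ : ℕ, ∀ N ≥ N₀, (x₀⁻¹) ^ N ∈ radK (B i) := by
    intro i
    apply exists_pow_mem_radK (B i) (hB i).nf
    intro W hW hWt
    rw [map_inv₀]
    exact inv_lt_one_of_one_lt₀ (hx₀ W ((hl_mem W).mpr ⟨i, hW, hWt⟩))
  choose N₀ hN₀ using hN
  rcases hx₀0 with hx0 | hr0
  · refine ⟨x₀ ^ (Finset.univ.sup N₀), A.pow_mem hx₀A _, pow_ne_zero _ hx0, fun i => ?_⟩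
    have h1 := hN₀ i (Finset.univ.sup N₀) (Finset.le_sup (Finset.mem_univ i))
    rw [← inv_pow]
    refine ⟨h1.1, ?_⟩
    rw [Ideal.jacobson, Ideal.mem_sInf]
    rintro J ⟨_, hJ⟩
    exact h1.2 J hJ
  · subst hr0
    exact ⟨1, A.one_mem, one_ne_zero, fun i => i.elim0⟩

end Groth.Agent.S1640

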