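import Groth.Statements.S5979
-- import your own Groth.Agent.* helpers here

set_option autoImplicit false
set_option linter.style.haveILetI false
universe u
open CategoryTheory CategoryTheory.Limits AlgebraicGeometry TopologicalSpace Opposite
open Nrm16

namespace Groth.Agent.S5979

section helpers

/-- pushforward along an isomorphism of schemes is an equivalence of module categories -/
noncomputable def pushforwardEquiv {X Y : Scheme.{u}} (e : X ≅ Y) : X.Modules ≌ Y.Modules :=
  CategoryTheory.Equivalence.mk (Scheme.Modules.pushforward e.hom) (Scheme.Modules.pushforward e.inv)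
    ((Scheme.Modules.pushforwardId X).symm ≪≫
      Scheme.Modules.pushforwardCongr e.hom_inv_id.symm ≪≫
      (Scheme.Modules.pushforwardComp e.hom e.inv).symm)
    (Scheme.Modules.pushforwardComp e.inv e.hom ≪≫
      Scheme.Modules.pushforwardCongr e.inv_hom_id ≪≫ Scheme.Modules.pushforwardId Y)

instance {X Y : Scheme.{u}} (h : X ⟶ Y) [IsIso h] : (Scheme.Modules.pushforward h).IsEquivalence :=
  (pushforwardEquiv (asIso h)).isEquivalence_functor

theorem pullSect_bijective {X' X : Scheme.{u}} (h : X' ⟶ X) [IsIso h] (M : X.Modules) (U : X.Opens) :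
    Function.Bijective (OmegaSh.pullSect h M U) := by
  haveI : IsIso (Scheme.Modules.pullbackPushforwardAdjunction h).unit := inferInstance
  haveI : IsIso ((Scheme.Modules.pullbackPushforwardAdjunction h).unit.app M) := inferInstance
  haveI : IsIso (((Scheme.Modules.pullbackPushforwardAdjunction h).unit.app M).app U) :=
    inferInstance
  exact ConcreteCategory.bijective_of_isIso
    (((Scheme.Modules.pullbackPushforwardAdjunction h).unit.app M).app U)

theorem isIso_inclusion_of_eq {X : Scheme.{u}} {I J : X.IdealSheafData} (e : I = J) (h : I ≤ J) :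
    IsIso (Scheme.IdealSheafData.inclusion h) := by
  subst e
  rw [Scheme.IdealSheafData.inclusion_id]
  infer_instance

theorem isIso_toInfNbhd_zero {X Y : Scheme.{u}} (i : Y ⟶ X) [IsClosedImmersion i] :
    IsIso (PrinPart.toInfNbhd i 0) := by
  unfold PrinPart.toInfNbhd
  haveI : IsIso (Scheme.IdealSheafData.inclusion (PrinPart.ker_pow_succ_le i 0)) :=
    isIso_inclusion_of_eq (pow_one i.ker) _
  infer_instance

theorem isIso_pr2_zero {X S : Scheme.{u}} (f : X ⟶ S) : IsIso (PrinPart.pr2 f 0) := by
  haveI : IsIso (PrinPart.toNbhd f 0) := isIso_toInfNbhd_zero (PrinPart.diagCl f)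
  have h : PrinPart.toNbhd f 0 ≫ PrinPart.pr2 f 0 = 𝟙 X := PrinPart.toNbhd_pr2 f 0
  have : PrinPart.pr2 f 0 = inv (PrinPart.toNbhd f 0) := by
    rw [← cancel_epi (PrinPart.toNbhd f 0), h, IsIso.hom_inv_id]
  rw [this]
  infer_instance

end helpers


/-- Let f : X ⟶ S be a morphism of schemes and F an O_X-module. For every open U of X the canonical
operator d^0 : Γ(U, F) ⟶ Γ(U, P^0_{X/S}(F)) is bijective; so P^0_{X/S}(F) is identified with F, and
P^0_{X/S} with O_X, through d^0. -/
theorem result {X S : Scheme.{u}} (f : X ⟶ S) (F : X.Modules) (U : X.Opens) :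
    Function.Bijective (PrinPart.dP f 0 F U) := by
  haveI := isIso_pr2_zero f
  have h1 := pullSect_bijective (PrinPart.pr2 f 0) F U
  have e := PrinPart.preimage_pr1 f 0 U
  haveI : IsIso (homOfLE e.le) := ⟨⟨homOfLE e.ge, Subsingleton.elim _ _, Subsingleton.elim _ _⟩⟩
  have h2 : Function.Bijective (((Scheme.Modules.pullback (PrinPart.pr2 f 0)).obj F).presheaf.map
      (homOfLE e.le).op) :=
    ConcreteCategory.bijective_of_isIso _
  unfold PrinPart.dP
  exact h2.comp h1

end Groth.Agent.S5979
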