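import Groth.Statements.S3806
import Groth.Agent.Lib.QuotPow
import Mathlib.LinearAlgebra.TensorProduct.RightExactness

set_option autoImplicit false
universe u
open scoped TensorProduct
attribute [local instance] PP16.mapAlgebra PP16.isScalarTower_mapAlgebra
open PP16

namespace Groth.Agent.S3806

theorem bijective_of_quot {R₁ R₂ S₁ S₂ F₁ F₂ F₃ F₄ : Type*} [CommRing R₁] [CommRing R₂]
    [CommRing S₁] [CommRing S₂]
    [FunLike F₁ R₁ R₂] [RingHomClass F₁ R₁ R₂] [FunLike F₂ S₁ S₂] [RingHomClass F₂ S₁ S₂]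
    [FunLike F₃ R₁ S₁] [RingHomClass F₃ R₁ S₁] [FunLike F₄ R₂ S₂] [RingHomClass F₄ R₂ S₂]
    (L : F₁) (q : F₂) (g : F₃) (Ψ : F₄)
    (hL : Function.Surjective L) (hq : Function.Surjective q) (hg : Function.Bijective g)
    (hcomm : ∀ r, Ψ (L r) = q (g r)) (hker : (RingHom.ker L).map g = RingHom.ker q) :
    Function.Bijective Ψ := by
  constructor
  · rw [injective_iff_map_eq_zero]
    intro x hx
    obtain ⟨r, rfl⟩ := hL x
    rw [hcomm] at hx
    have h1 : g r ∈ RingHom.ker q := hx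
    rw [← hker, Ideal.mem_map_iff_of_surjective g hg.2] at h1
    obtain ⟨r', hr', hrr⟩ := h1
    rw [← hg.1 hrr]
    exact hr'
  · intro y
    obtain ⟨s, rfl⟩ := hq y
    obtain ⟨r, rfl⟩ := hg.2 s
    exact ⟨L r, hcomm r⟩

section

variable (n : ℕ) (A B A' B' : Type u) [CommRing A] [CommRing B] [Algebra A B]
    [CommRing A'] [CommRing B'] [Algebra A' B'] [Algebra A A'] [Algebra B B'] [Algebra A B']
    [IsScalarTower A A' B'] [IsScalarTower A B B']

theorem ideal_map_eq [Algebra.IsPushout A B A' B'] :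
    (KaehlerDifferential.ideal A B).map (PP16.tensorMap A B A' B') =
      KaehlerDifferential.ideal A' B' := by
  apply le_antisymm (PP16.ideal_map_tensorMap_le A B A' B')
  rw [← KaehlerDifferential.span_range_eq_ideal A' B', Ideal.span_le]
  rintro _ ⟨s, rfl⟩
  change (1 : B') ⊗ₜ[A'] s - s ⊗ₜ[A'] (1 : B') ∈ _
  have h : IsBaseChange B (IsScalarTower.toAlgHom A A' B').toLinearMap := Algebra.IsPushout.out
  refine h.inductionOn s (fun s => (1 : B') ⊗ₜ[A'] s - s ⊗ₜ[A'] (1 : B') ∈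
    (KaehlerDifferential.ideal A B).map (PP16.tensorMap A B A' B')) ?_ ?_ ?_ ?_
  · simp
  · intro a'
    have h0 : (1 : B') ⊗ₜ[A'] (algebraMap A' B' a') - (algebraMap A' B' a') ⊗ₜ[A'] (1 : B') = 0 := by
      rw [Algebra.algebraMap_eq_smul_one, TensorProduct.tmul_smul, TensorProduct.smul_tmul',
        sub_self]
    change (1 : B') ⊗ₜ[A'] (algebraMap A' B' a') - (algebraMap A' B' a') ⊗ₜ[A'] (1 : B') ∈ _
    rw [h0]
    exact Ideal.zero_mem _
  · intro b s hs
    have hβ : (1 : B') ⊗ₜ[A'] (algebraMap B B' b) - (algebraMap B B' b) ⊗ₜ[A'] (1 : B') ∈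
        (KaehlerDifferential.ideal A B).map (PP16.tensorMap A B A' B') := by
      have h1 : (1 : B') ⊗ₜ[A'] (algebraMap B B' b) - (algebraMap B B' b) ⊗ₜ[A'] (1 : B') =
          PP16.tensorMap A B A' B' ((1 : B) ⊗ₜ[A] b - b ⊗ₜ[A] (1 : B)) := by
        rw [map_sub, PP16.tensorMap_tmul, PP16.tensorMap_tmul, map_one]
      rw [h1]
      exact Ideal.mem_map_of_mem _ (KaehlerDifferential.one_smul_sub_smul_one_mem_ideal A b)
    have key : (1 : B') ⊗ₜ[A'] (b • s) - (b • s) ⊗ₜ[A'] (1 : B') =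
        ((1 : B') ⊗ₜ[A'] (algebraMap B B' b)) * ((1 : B') ⊗ₜ[A'] s - s ⊗ₜ[A'] (1 : B')) +
        (s ⊗ₜ[A'] (1 : B')) *
          ((1 : B') ⊗ₜ[A'] (algebraMap B B' b) - (algebraMap B B' b) ⊗ₜ[A'] (1 : B')) := by
      rw [Algebra.smul_def, mul_sub, mul_sub]
      simp only [Algebra.TensorProduct.tmul_mul_tmul, mul_one, one_mul]
      rw [mul_comm s (algebraMap B B' b)]
      abel
    rw [key]
    exact Ideal.add_mem _ (Ideal.mul_mem_left _ _ hs) (Ideal.mul_mem_left _ _ hβ)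
  · intro s₁ s₂ h₁ h₂
    have key : (1 : B') ⊗ₜ[A'] (s₁ + s₂) - (s₁ + s₂) ⊗ₜ[A'] (1 : B') =
        ((1 : B') ⊗ₜ[A'] s₁ - s₁ ⊗ₜ[A'] (1 : B')) + ((1 : B') ⊗ₜ[A'] s₂ - s₂ ⊗ₜ[A'] (1 : B')) := by
      rw [TensorProduct.tmul_add, TensorProduct.add_tmul]
      abel
    rw [key]
    exact Ideal.add_mem _ h₁ h₂

/-- `B' ⊗_B (B ⊗_A B) ≃ B' ⊗_{A'} B'` -/
noncomputable def e₁ [Algebra.IsPushout A B A' B'] :
    B' ⊗[B] (B ⊗[A] B) ≃ₐ[B'] B' ⊗[A'] B' :=
  haveI : Algebra.IsPushout A A' B B' := Algebra.IsPushout.symm inferInstance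
  (Algebra.TensorProduct.cancelBaseChange A B B' B' B).trans
    ((Algebra.TensorProduct.cancelBaseChange A A' B' B' B).symm.trans
      (Algebra.TensorProduct.congr (AlgEquiv.refl (R := B') (A₁ := B'))
        (Algebra.IsPushout.equiv A A' B B')))

theorem e₁_one_tmul [Algebra.IsPushout A B A' B'] (x : B ⊗[A] B) :
    e₁ A B A' B' ((1 : B') ⊗ₜ[B] x) = PP16.tensorMap A B A' B' x := by
  have : Algebra.IsPushout A A' B B' := Algebra.IsPushout.symm inferInstance
  induction x with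
  | zero => simp
  | tmul b c =>
    rw [PP16.tensorMap_tmul]
    simp only [e₁, AlgEquiv.trans_apply, Algebra.TensorProduct.cancelBaseChange_tmul,
      Algebra.TensorProduct.cancelBaseChange_symm_tmul, Algebra.TensorProduct.congr_apply,
      Algebra.TensorProduct.map_tmul, AlgEquiv.coe_toAlgHom, AlgEquiv.coe_refl, id_eq,
      Algebra.IsPushout.equiv_tmul, map_one, one_mul, Algebra.smul_def, mul_one]
  | add x y hx hy => rw [TensorProduct.tmul_add, map_add, map_add, hx, hy]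

end

/-- Let A → A' be a ring map, B an A-algebra and B' = B ⊗_A A'. Then the canonical map P^n_{B/A} ⊗_B B'
→ P^n_{B'/A'} induced by functoriality of principal parts is an isomorphism; that is, the square B →
P^n_{B/A}, B → B', with P^n_{B'/A'} in the corner, is a pushout of rings. -/
theorem result (n : ℕ) (A B A' B' : Type u) [CommRing A] [CommRing B] [Algebra A B]
    [CommRing A'] [CommRing B'] [Algebra A' B'] [Algebra A A'] [Algebra B B'] [Algebra A B']
    [IsScalarTower A A' B'] [IsScalarTower A B B'] [Algebra.IsPushout A B A' B'] :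
    Algebra.IsPushout B (PP16.P n A B) B' (PP16.P n A' B') := by
  apply Algebra.IsPushout.symm
  refine ⟨?_⟩
  set I := KaehlerDifferential.ideal A B with hI
  set J := KaehlerDifferential.ideal A' B' with hJ
  let Ψ : B' ⊗[B] (PP16.P n A B) →ₐ[B'] PP16.P n A' B' :=
    Algebra.TensorProduct.lift (Algebra.ofId B' (PP16.P n A' B'))
      (IsScalarTower.toAlgHom B (PP16.P n A B) (PP16.P n A' B')) (fun _ _ => Commute.all _ _)
  let L : B' ⊗[B] (B ⊗[A] B) →ₐ[B] B' ⊗[B] (PP16.P n A B) :=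
    Algebra.TensorProduct.map (AlgHom.id B B') (Ideal.Quotient.mkₐ B (I ^ (n + 1)))
  have hmk : Function.Surjective (Ideal.Quotient.mkₐ B (I ^ (n + 1))) :=
    Ideal.Quotient.mkₐ_surjective B _
  have hL : Function.Surjective L :=
    Algebra.TensorProduct.map_surjective _ _ (fun x => ⟨x, rfl⟩) hmk
  have hkerL : RingHom.ker L = (I ^ (n + 1)).map
      (Algebra.TensorProduct.includeRight : B ⊗[A] B →ₐ[B] B' ⊗[B] (B ⊗[A] B)) := by
    have h1 := Algebra.TensorProduct.lTensor_ker (A := B') (Ideal.Quotient.mkₐ B (I ^ (n + 1))) hmk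
    have h2 : RingHom.ker (Ideal.Quotient.mkₐ B (I ^ (n + 1))) = I ^ (n + 1) :=
      Ideal.Quotient.mkₐ_ker B _
    rw [h2] at h1
    exact h1
  have hcomm : ∀ r : B' ⊗[B] (B ⊗[A] B),
      Ψ (L r) = Ideal.Quotient.mk (J ^ (n + 1)) (e₁ A B A' B' r) := by
    intro r
    induction r with
    | zero => simp
    | tmul s x =>
      have h1 : s ⊗ₜ[B] x = (algebraMap B' (B' ⊗[B] (B ⊗[A] B)) s) * ((1 : B') ⊗ₜ[B] x) := by
        rw [Algebra.TensorProduct.algebraMap_apply, Algebra.TensorProduct.tmul_mul_tmul]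
        simp
      have h2 : Ψ (L (s ⊗ₜ[B] x)) = algebraMap B' (PP16.P n A' B') s *
          Ideal.Quotient.mk (J ^ (n + 1)) (PP16.tensorMap A B A' B' x) := by
        simp only [L, Ψ, Algebra.TensorProduct.map_tmul, AlgHom.id_apply,
          Algebra.TensorProduct.lift_tmul, Algebra.ofId_apply]
        rfl
      rw [h2, h1, map_mul, map_mul, AlgEquiv.commutes, e₁_one_tmul]
      rfl
    | add x y hx hy => rw [map_add, map_add, map_add, map_add, hx, hy]
  have hker : (RingHom.ker L).map (e₁ A B A' B') = J ^ (n + 1) := by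
    rw [hkerL, Groth.Agent.Lib.QuotPow.map_map_of_eq
      (Algebra.TensorProduct.includeRight : B ⊗[A] B →ₐ[B] B' ⊗[B] (B ⊗[A] B))
      (e₁ A B A' B') (PP16.tensorMap A B A' B')
      (fun x => e₁_one_tmul A B A' B' x)]
    have h0 := Ideal.map_pow (PP16.tensorMap A B A' B') I (n + 1)
    rw [h0, hI, ideal_map_eq]
  have hΨ : Function.Bijective Ψ := by
    constructor
    · rw [injective_iff_map_eq_zero]
      intro x hx
      obtain ⟨r, rfl⟩ := hL x
      rw [hcomm, Ideal.Quotient.eq_zero_iff_mem, ← hker,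
        Ideal.mem_map_iff_of_surjective _ (e₁ A B A' B').surjective] at hx
      obtain ⟨r', hr', hrr⟩ := hx
      rw [← (e₁ A B A' B').injective hrr]
      exact hr'
    · intro y
      obtain ⟨s, rfl⟩ := Ideal.Quotient.mk_surjective y
      obtain ⟨r, rfl⟩ := (e₁ A B A' B').surjective s
      exact ⟨L r, hcomm r⟩
  refine IsBaseChange.of_equiv (AlgEquiv.ofBijective Ψ hΨ).toLinearEquiv (fun x => ?_)
  change Ψ ((1 : B') ⊗ₜ[B] x) = _
  simp only [Ψ, Algebra.TensorProduct.lift_tmul, map_one, one_mul]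
  rfl

end Groth.Agent.S3806
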