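import Groth.Statements.S0707
import Mathlib.RingTheory.Etale.Weakly
import Mathlib.RingTheory.Etale.Pi
import Mathlib.Algebra.Algebra.Epi
-- import your own Groth.Agent.* helpers here

set_option autoImplicit false
open CategoryTheory CategoryTheory.Limits AlgebraicGeometry Opposite Topology
universe u
open ProEtW

namespace Groth.Agent.S0707

open TensorProduct

section Helpers

/-- A binary product of flat modules is flat. -/
theorem flat_prod (R M N : Type*) [CommRing R] [AddCommGroup M] [AddCommGroup N]
    [Module R M] [Module R N] [Module.Flat R M] [Module.Flat R N] : Module.Flat R (M × N) := by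
  rw [Module.Flat.iff_rTensor_injective]
  intro I _
  have h : (TensorProduct.prodRight R R R M N).toLinearMap ∘ₗ (I.subtype.rTensor (M × N)) =
      (LinearMap.prodMap (I.subtype.rTensor M) (I.subtype.rTensor N)) ∘ₗ
        (TensorProduct.prodRight R R I M N).toLinearMap := by
    ext <;> simp
  have hinj : Function.Injective ((LinearMap.prodMap (I.subtype.rTensor M) (I.subtype.rTensor N)) ∘ₗ
        (TensorProduct.prodRight R R I M N).toLinearMap) := by
    rw [LinearMap.coe_comp]
    refine Function.Injective.comp ?_ (LinearEquiv.injective _)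
    rw [LinearMap.coe_prodMap]
    exact Function.Injective.prodMap
      (Module.Flat.rTensor_preserves_injective_linearMap _ (Submodule.injective_subtype I))
      (Module.Flat.rTensor_preserves_injective_linearMap _ (Submodule.injective_subtype I))
  rw [← h, LinearMap.coe_comp] at hinj
  exact Function.Injective.of_comp hinj

/-- A surjective ring hom `ε : D → C` such that every element of the kernel is killed by an element
with unit image is flat (it is a localization). -/
theorem flat_of_kernel_locally_killed {D C : Type*} [CommRing D] [CommRing C] (ε : D →+* C)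
    (hsurj : Function.Surjective ε)
    (hkill : ∀ z ∈ RingHom.ker ε, ∃ c : D, IsUnit (ε c) ∧ c * z = 0) : ε.Flat := by
  letI : Algebra D C := ε.toAlgebra
  let M : Submonoid D := (IsUnit.submonoid C).comap ε
  have hloc : IsLocalization M C := by
    rw [isLocalization_iff]
    refine ⟨fun y => y.2, fun t => ?_, fun {x y} hxy => ?_⟩
    · obtain ⟨d, rfl⟩ := hsurj t
      exact ⟨(d, 1), by simp [RingHom.algebraMap_toAlgebra]⟩
    · have hxy' : x - y ∈ RingHom.ker ε := by
        rw [RingHom.mem_ker, map_sub, sub_eq_zero]
        exact hxy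
      obtain ⟨c, hc, hc0⟩ := hkill _ hxy'
      refine ⟨⟨c, hc⟩, ?_⟩
      rw [mul_sub, sub_eq_zero] at hc0
      exact hc0
  show Module.Flat D C
  exact IsLocalization.flat C M

theorem flat_fst (S₁ S₂ : Type*) [CommRing S₁] [CommRing S₂] : (RingHom.fst S₁ S₂).Flat := by
  refine flat_of_kernel_locally_killed _ (fun s => ⟨(s, 0), rfl⟩) ?_
  intro z hz
  refine ⟨(1, 0), by simp, ?_⟩
  rw [RingHom.mem_ker] at hz
  ext
  · simpa using hz
  · simp

theorem flat_snd (S₁ S₂ : Type*) [CommRing S₁] [CommRing S₂] : (RingHom.snd S₁ S₂).Flat := by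
  refine flat_of_kernel_locally_killed _ (fun s => ⟨(0, s), rfl⟩) ?_
  intro z hz
  refine ⟨(0, 1), by simp, ?_⟩
  rw [RingHom.mem_ker] at hz
  ext
  · simp
  · simpa using hz

theorem flat_ringHom_prod {T S₁ S₂ : Type*} [CommRing T] [CommRing S₁] [CommRing S₂]
    (g₁ : T →+* S₁) (g₂ : T →+* S₂) (h₁ : g₁.Flat) (h₂ : g₂.Flat) : (g₁.prod g₂).Flat := by
  algebraize [g₁, g₂]
  have h : Module.Flat T (S₁ × S₂) := flat_prod T S₁ S₂
  have e : (g₁.prod g₂).toAlgebra = Prod.algebra T S₁ S₂ := Algebra.algebra_ext _ _ (fun r => rfl)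
  unfold RingHom.Flat
  rw [e]
  exact h

/-- A binary product of weakly étale algebras is weakly étale. -/
theorem weaklyEtale_prod (R S₁ S₂ : Type*) [CommRing R] [CommRing S₁] [CommRing S₂]
    [Algebra R S₁] [Algebra R S₂] [Algebra.WeaklyEtale R S₁] [Algebra.WeaklyEtale R S₂] :
    Algebra.WeaklyEtale R (S₁ × S₂) where
  flat := flat_prod R S₁ S₂
  flat_lmul' := by
    let g₁ : (S₁ × S₂) ⊗[R] (S₁ × S₂) →ₐ[R] S₁ :=
      (Algebra.TensorProduct.lmul' R).comp
        (Algebra.TensorProduct.map (AlgHom.fst R S₁ S₂) (AlgHom.fst R S₁ S₂))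
    let g₂ : (S₁ × S₂) ⊗[R] (S₁ × S₂) →ₐ[R] S₂ :=
      (Algebra.TensorProduct.lmul' R).comp
        (Algebra.TensorProduct.map (AlgHom.snd R S₁ S₂) (AlgHom.snd R S₁ S₂))
    have hg₁ : g₁.toRingHom.Flat :=
      RingHom.Flat.comp
        (RingHom.Flat.tensorProductMap (f := AlgHom.fst R S₁ S₂) (g := AlgHom.fst R S₁ S₂)
          (flat_fst S₁ S₂) (flat_fst S₁ S₂))
        (Algebra.WeaklyEtale.flat_lmul' R S₁)
    have hg₂ : g₂.toRingHom.Flat :=
      RingHom.Flat.comp
        (RingHom.Flat.tensorProductMap (f := AlgHom.snd R S₁ S₂) (g := AlgHom.snd R S₁ S₂)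
          (flat_snd S₁ S₂) (flat_snd S₁ S₂))
        (Algebra.WeaklyEtale.flat_lmul' R S₂)
    have key : Algebra.TensorProduct.lmul' R (S := S₁ × S₂) = g₁.prod g₂ := by
      ext <;> simp [g₁, g₂]
    have key' : (Algebra.TensorProduct.lmul' R (S := S₁ × S₂)).toRingHom =
        g₁.toRingHom.prod g₂.toRingHom := by
      rw [key]; rfl
    show (Algebra.TensorProduct.lmul' R (S := S₁ × S₂)).toRingHom.Flat
    rw [key']
    exact flat_ringHom_prod _ _ hg₁ hg₂

/-- A localization is an epimorphism. -/
theorem isEpi_of_isLocalization {A : Type*} [CommRing A] (S : Submonoid A) (B : Type*) [CommRing B]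
    [Algebra A B] [IsLocalization S B] : Algebra.IsEpi A B := by
  refine (Algebra.isEpi_iff_forall_one_tmul_eq A B).mpr fun x ↦ ?_
  obtain ⟨a, s, rfl⟩ := IsLocalization.exists_mk'_eq S x
  have hu : (s : A) • IsLocalization.mk' B (1 : A) s = 1 := by
    rw [Algebra.smul_def, mul_comm, IsLocalization.mk'_spec, map_one]
  have hb : IsLocalization.mk' B a s = a • IsLocalization.mk' B (1 : A) s := by
    rw [Algebra.smul_def, IsLocalization.mul_mk'_eq_mk'_of_mul, mul_one]
  calc (1 : B) ⊗ₜ[A] IsLocalization.mk' B a s
      = a • ((1 : B) ⊗ₜ[A] IsLocalization.mk' B (1 : A) s) := by rw [hb, TensorProduct.tmul_smul]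
    _ = a • (((s : A) • IsLocalization.mk' B (1 : A) s) ⊗ₜ[A] IsLocalization.mk' B (1 : A) s) := by
        rw [hu]
    _ = a • (IsLocalization.mk' B (1 : A) s ⊗ₜ[A] ((s : A) • IsLocalization.mk' B (1 : A) s)) := by
        rw [TensorProduct.smul_tmul]
    _ = IsLocalization.mk' B a s ⊗ₜ[A] (1 : B) := by
        rw [hu, hb, TensorProduct.smul_tmul']

/-- A localization is weakly étale. -/
theorem weaklyEtale_of_isLocalization {A : Type*} [CommRing A] (S : Submonoid A) (B : Type*)
    [CommRing B] [Algebra A B] [IsLocalization S B] : Algebra.WeaklyEtale A B where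
  flat := IsLocalization.flat B S
  flat_lmul' := by
    haveI := isEpi_of_isLocalization S B
    refine RingHom.Flat.of_bijective ⟨?_, fun b => ⟨b ⊗ₜ 1, by simp⟩⟩
    exact Algebra.IsEpi.injective_lift_mul (R := A) (A := B)

end Helpers

/-- Let A be w-contractible, E a finite set of elements of A with zero set Z in Spec A, and B a
localization of A at a multiplicative subset S such that the image of Spec B → Spec A is precisely
the set of points of Spec A specializing to some point of Z. Then B is w-contractible. -/
theorem result (A B : Type u) [CommRing A] [CommRing B]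
    [Algebra A B] (S : Submonoid A) [IsLocalization S B] (E : Finset A)
    (hB : Set.range (PrimeSpectrum.comap (algebraMap A B)) =
      {x | ∃ z : PrimeSpectrum A, z ∈ PrimeSpectrum.zeroLocus (R := A) E ∧ x ⤳ z})
    (hA : EtPBC.IsWContractible A) : EtPBC.IsWContractible B := by
  classical
  intro C _ _ hff hWE
  letI : Algebra A C := ((algebraMap B C).comp (algebraMap A B)).toAlgebra
  haveI : IsScalarTower A B C := IsScalarTower.of_algebraMap_eq (fun _ => rfl)
  haveI : Algebra.WeaklyEtale A B := weaklyEtale_of_isLocalization S B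
  haveI : Algebra.WeaklyEtale A C := Algebra.WeaklyEtale.trans A B C
  haveI : Algebra.WeaklyEtale A (C × (Π e : E, Localization.Away (e : A))) :=
    weaklyEtale_prod A C (Π e : E, Localization.Away (e : A))
  -- faithful flatness
  have hffD : Module.FaithfullyFlat A (C × (Π e : E, Localization.Away (e : A))) := by
    refine Module.FaithfullyFlat.of_comap_surjective (fun p => ?_)
    by_cases hp : p ∈ PrimeSpectrum.zeroLocus (R := A) E
    · have hpB : p ∈ Set.range (PrimeSpectrum.comap (algebraMap A B)) := by
        rw [hB]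
        exact ⟨p, hp, specializes_rfl⟩
      obtain ⟨qB, hqB⟩ := hpB
      obtain ⟨qC, hqC⟩ := PrimeSpectrum.comap_surjective_of_faithfullyFlat (A := B) (B := C) qB
      refine ⟨PrimeSpectrum.comap (RingHom.fst C (Π e : E, Localization.Away (e : A))) qC, ?_⟩
      rw [← PrimeSpectrum.comap_comp_apply]
      have : (RingHom.fst C (Π e : E, Localization.Away (e : A))).comp
          (algebraMap A (C × (Π e : E, Localization.Away (e : A)))) =
          (algebraMap B C).comp (algebraMap A B) := by
        ext a; rfl
      rw [this, PrimeSpectrum.comap_comp_apply, hqC, hqB]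
    · rw [PrimeSpectrum.mem_zeroLocus, Set.not_subset] at hp
      obtain ⟨e, heE, hep⟩ := hp
      have hpe : p ∈ Set.range (PrimeSpectrum.comap (algebraMap A (Localization.Away e))) := by
        rw [PrimeSpectrum.localization_away_comap_range (Localization.Away e) e]
        exact hep
      obtain ⟨q, hq⟩ := hpe
      refine ⟨PrimeSpectrum.comap ((Pi.evalRingHom (fun e : E => Localization.Away (e : A))
        ⟨e, heE⟩).comp (RingHom.snd C (Π e : E, Localization.Away (e : A)))) q, ?_⟩
      rw [← PrimeSpectrum.comap_comp_apply]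
      have : ((Pi.evalRingHom (fun e : E => Localization.Away (e : A))
          ⟨e, heE⟩).comp (RingHom.snd C (Π e : E, Localization.Away (e : A)))).comp
          (algebraMap A (C × (Π e : E, Localization.Away (e : A)))) =
          algebraMap A (Localization.Away e) := by
        ext a; rfl
      rw [this, hq]
  obtain ⟨r⟩ := hA _ hffD inferInstance
  -- the two idempotents
  have hsum : r ((1 : C), (0 : Π e : E, Localization.Away (e : A))) +
      r ((0 : C), (1 : Π e : E, Localization.Away (e : A))) = 1 := by
    rw [← map_add, Prod.mk_add_mk, add_zero, zero_add, ← Prod.one_eq_mk, map_one]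
  have hprod : r ((1 : C), (0 : Π e : E, Localization.Away (e : A))) *
      r ((0 : C), (1 : Π e : E, Localization.Away (e : A))) = 0 := by
    rw [← map_mul, Prod.mk_mul_mk, mul_zero, zero_mul, ← Prod.zero_eq_mk, map_zero]
  have hidem : IsIdempotentElem (r ((0 : C), (1 : Π e : E, Localization.Away (e : A)))) := by
    unfold IsIdempotentElem
    rw [← map_mul, Prod.mk_mul_mk, mul_zero, mul_one]
  -- `f = r (0, 1)` lies in the ideal generated by `E`
  have hfE : r ((0 : C), (1 : Π e : E, Localization.Away (e : A))) ∈
      Ideal.span (E : Set A) := by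
    have h1 : ((0 : C), (1 : Π e : E, Localization.Away (e : A))) =
        ∑ e : E, (e : A) • ((0 : C), (Pi.single e (IsLocalization.Away.invSelf (e : A)) :
          Π e : E, Localization.Away (e : A))) := by
      ext
      · simp [Prod.fst_sum]
      · rename_i e
        rw [Prod.snd_sum, Finset.sum_apply]
        simp only [Prod.smul_snd, Pi.smul_apply, Pi.single_apply, Pi.one_apply]
        rw [Finset.sum_eq_single e]
        · rw [Pi.single_eq_same, Algebra.smul_def]
          exact (IsLocalization.Away.mul_invSelf (e : A)).symm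
        · intro b _ hb
          rw [Pi.single_eq_of_ne (Ne.symm hb), smul_zero]
        · intro h; exact absurd (Finset.mem_univ e) h
    rw [h1, map_sum]
    refine Ideal.sum_mem _ (fun e _ => ?_)
    rw [map_smul, smul_eq_mul]
    exact Ideal.mul_mem_right _ _ (Ideal.subset_span e.2)
  -- the image of `f` in `B` vanishes
  have hfB : algebraMap A B (r ((0 : C), (1 : Π e : E, Localization.Away (e : A)))) = 0 := by
    have hnil : IsNilpotent (algebraMap A B
        (r ((0 : C), (1 : Π e : E, Localization.Away (e : A))))) := by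
      rw [nilpotent_iff_mem_prime]
      intro q hq
      have hx : PrimeSpectrum.comap (algebraMap A B) ⟨q, hq⟩ ∈
          {x | ∃ z : PrimeSpectrum A, z ∈ PrimeSpectrum.zeroLocus (R := A) E ∧ x ⤳ z} := by
        rw [← hB]
        exact ⟨_, rfl⟩
      obtain ⟨z, hz, hxz⟩ := hx
      have hle : (PrimeSpectrum.comap (algebraMap A B) ⟨q, hq⟩).asIdeal ≤ z.asIdeal :=
        (PrimeSpectrum.le_iff_specializes _ _).mpr hxz
      by_contra hnot
      have h2 : r ((1 : C), (0 : Π e : E, Localization.Away (e : A))) ∈
          (PrimeSpectrum.comap (algebraMap A B) ⟨q, hq⟩).asIdeal := by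
        have h3 : r ((1 : C), (0 : Π e : E, Localization.Away (e : A))) *
            r ((0 : C), (1 : Π e : E, Localization.Away (e : A))) ∈
            (PrimeSpectrum.comap (algebraMap A B) ⟨q, hq⟩).asIdeal := by
          rw [hprod]
          exact Ideal.zero_mem _
        exact ((PrimeSpectrum.comap (algebraMap A B) ⟨q, hq⟩).isPrime.mem_or_mem h3).resolve_right
          hnot
      have h4 : (1 : A) ∈ z.asIdeal := by
        have := z.asIdeal.add_mem (hle h2) ((Ideal.span_le.mpr hz) hfE)
        rwa [hsum] at this
      exact z.isPrime.ne_top ((Ideal.eq_top_iff_one _).mpr h4)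
    exact (hidem.map (algebraMap A B)).eq_zero_of_isNilpotent hnil
  have hεB : algebraMap A B (r ((1 : C), (0 : Π e : E, Localization.Away (e : A)))) = 1 := by
    have := congrArg (algebraMap A B) hsum
    rwa [map_add, hfB, add_zero, map_one] at this
  -- the retraction
  let ψ₀ : C →+* B :=
    { toFun := fun c => algebraMap A B (r (c, (0 : Π e : E, Localization.Away (e : A))))
      map_one' := hεB
      map_mul' := fun x y => by
        rw [← map_mul, ← map_mul, Prod.mk_mul_mk, mul_zero]
      map_zero' := by
        rw [← Prod.zero_eq_mk, map_zero, map_zero]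
      map_add' := fun x y => by
        rw [← map_add, ← map_add, Prod.mk_add_mk, add_zero] }
  have hψ : ψ₀.comp (algebraMap B C) = RingHom.id B := by
    refine IsLocalization.ringHom_ext S ?_
    ext a
    change algebraMap A B (r (algebraMap B C (algebraMap A B a),
      (0 : Π e : E, Localization.Away (e : A)))) = algebraMap A B a
    have h1 : (algebraMap B C (algebraMap A B a), (0 : Π e : E, Localization.Away (e : A))) =
        a • ((1 : C), (0 : Π e : E, Localization.Away (e : A))) := by
      rw [Prod.smul_mk, smul_zero, Algebra.smul_def, mul_one]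
      rfl
    rw [h1, map_smul, smul_eq_mul, map_mul, hεB, mul_one]
  exact ⟨⟨ψ₀, fun b => RingHom.congr_fun hψ b⟩⟩

end Groth.Agent.S0707
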