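import Groth.Statements.S6615
-- import your own Groth.Agent.* helpers here

set_option autoImplicit false
universe v u
open CategoryTheory CategoryTheory.Limits Opposite
open CohDer

namespace Groth.Agent.S6615

section helpers

variable {D : Type u} [Category.{v} D]

lemma tr_comp (X : ARSys.PS D) {n m l : ℕ} (h₁ : n ≤ m) (h₂ : m ≤ l) :
    ARSys.tr X h₂ ≫ ARSys.tr X h₁ = ARSys.tr X (h₁.trans h₂) := by
  simp only [ARSys.tr, ← X.map_comp]
  rfl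

lemma tr_comp_assoc (X : ARSys.PS D) {n m l : ℕ} (h₁ : n ≤ m) (h₂ : m ≤ l) {T : D}
    (φ : X.obj (op n) ⟶ T) :
    ARSys.tr X h₂ ≫ ARSys.tr X h₁ ≫ φ = ARSys.tr X (h₁.trans h₂) ≫ φ := by
  rw [← Category.assoc, tr_comp]

lemma tr_refl (X : ARSys.PS D) (n : ℕ) : ARSys.tr X (le_refl n) = 𝟙 _ := by
  have : (homOfLE (le_refl n)).op = 𝟙 (op n) := rfl
  simp only [ARSys.tr, this, X.map_id]

lemma nat_tr {X Y : ARSys.PS D} (f : X ⟶ Y) {n m : ℕ} (h : n ≤ m) :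
    ARSys.tr X h ≫ f.app (op n) = f.app (op m) ≫ ARSys.tr Y h :=
  f.naturality _

lemma nat_tr_assoc {X Y : ARSys.PS D} (f : X ⟶ Y) {n m : ℕ} (h : n ≤ m) {T : D}
    (φ : Y.obj (op n) ⟶ T) :
    ARSys.tr X h ≫ f.app (op n) ≫ φ = f.app (op m) ≫ ARSys.tr Y h ≫ φ := by
  rw [← Category.assoc, nat_tr, Category.assoc]

lemma cone_tr {A : D} {X : ARSys.PS D} (c : (Functor.const ℕᵒᵖ).obj A ⟶ X) {n m : ℕ}
    (h : n ≤ m) : c.app (op m) ≫ ARSys.tr X h = c.app (op n) := by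
  have := c.naturality (homOfLE h).op
  simp only [Functor.const_obj_obj, Functor.const_obj_map, Category.id_comp] at this
  exact this.symm

lemma cone_tr_assoc {A : D} {X : ARSys.PS D} (c : (Functor.const ℕᵒᵖ).obj A ⟶ X) {n m : ℕ}
    (h : n ≤ m) {T : D} (φ : X.obj (op n) ⟶ T) :
    c.app (op m) ≫ ARSys.tr X h ≫ φ = c.app (op n) ≫ φ := by
  rw [← Category.assoc, cone_tr]

/-- Re-indexing the data of an essentially constant system to a later level. -/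
lemma reindex_data {W : ARSys.PS D} {V : D} (c : (Functor.const ℕᵒᵖ).obj V ⟶ W) {i : ℕ}
    (s : W.obj (op i) ⟶ V) (hs : c.app (op i) ≫ s = 𝟙 V)
    (hfac : ∀ j : ℕ, ∃ (m : ℕ) (hi : i ≤ m) (hj : j ≤ m),
      ARSys.tr W hj = ARSys.tr W hi ≫ s ≫ c.app (op j))
    {k : ℕ} (hik : i ≤ k) :
    c.app (op k) ≫ (ARSys.tr W hik ≫ s) = 𝟙 V ∧
    ∀ j : ℕ, ∃ (m : ℕ) (hk : k ≤ m) (hj : j ≤ m),
      ARSys.tr W hj = ARSys.tr W hk ≫ (ARSys.tr W hik ≫ s) ≫ c.app (op j) := by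
  refine ⟨by rw [cone_tr_assoc, hs], fun j => ?_⟩
  obtain ⟨m', hi, hj, hm'⟩ := hfac j
  refine ⟨max m' k, le_max_right _ _, hj.trans (le_max_left _ _), ?_⟩
  rw [← tr_comp W hj (le_max_left m' k), hm', tr_comp_assoc, Category.assoc, tr_comp_assoc]

/-- A pro-isomorphism from the system `W` to the constant system `V`, given at level `k` by `ρ`. -/
structure ProIsoData [Preadditive D] (W : ARSys.PS D) (V : D) (k : ℕ) (ρ : W.obj (op k) ⟶ V) :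
    Prop where
  surj : ∀ (j : ℕ) (T : D) (φ : W.obj (op j) ⟶ T), ∃ (m : ℕ) (hj : j ≤ m) (hk : k ≤ m) (ψ : V ⟶ T),
      ARSys.tr W hj ≫ φ = ARSys.tr W hk ≫ ρ ≫ ψ
  inj : ∀ (T : D) (ψ : V ⟶ T) (m : ℕ) (hk : k ≤ m), ARSys.tr W hk ≫ ρ ≫ ψ = 0 → ψ = 0

lemma ProIsoData.unique [Preadditive D] {W : ARSys.PS D} {V : D} {k : ℕ} {ρ : W.obj (op k) ⟶ V}
    (hW : ProIsoData W V k ρ) {j : ℕ} {T : D} (φ : W.obj (op j) ⟶ T)
    {m m' : ℕ} (hj : j ≤ m) (hk : k ≤ m) (hj' : j ≤ m') (hk' : k ≤ m') (ψ ψ' : V ⟶ T)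
    (h : ARSys.tr W hj ≫ φ = ARSys.tr W hk ≫ ρ ≫ ψ)
    (h' : ARSys.tr W hj' ≫ φ = ARSys.tr W hk' ≫ ρ ≫ ψ') : ψ = ψ' := by
  rw [← sub_eq_zero]
  apply hW.inj T (ψ - ψ') (max m m') (hk.trans (le_max_left _ _))
  rw [Preadditive.comp_sub, Preadditive.comp_sub, sub_eq_zero]
  calc ARSys.tr W (hk.trans (le_max_left m m')) ≫ ρ ≫ ψ
      = ARSys.tr W (le_max_left m m') ≫ ARSys.tr W hk ≫ ρ ≫ ψ := by rw [tr_comp_assoc]
    _ = ARSys.tr W (le_max_left m m') ≫ ARSys.tr W hj ≫ φ := by rw [h]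
    _ = ARSys.tr W (le_max_right m m') ≫ ARSys.tr W hj' ≫ φ := by
        rw [tr_comp_assoc, tr_comp_assoc]
    _ = ARSys.tr W (le_max_right m m') ≫ ARSys.tr W hk' ≫ ρ ≫ ψ' := by rw [h']
    _ = ARSys.tr W (hk.trans (le_max_left m m')) ≫ ρ ≫ ψ' := by rw [tr_comp_assoc]

lemma essConstant_of_proIso [Preadditive D] {W : ARSys.PS D} {V : D} {k : ℕ}
    {ρ : W.obj (op k) ⟶ V} (hW : ProIsoData W V k ρ) :
    ∃ (c : (Functor.const ℕᵒᵖ).obj V ⟶ W), DerCA.IsEssConstant W V c := by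
  choose m hj hk ψ hψ using fun j => hW.surj j (W.obj (op j)) (𝟙 _)
  have hnat : ∀ {j j' : ℕ} (h : j ≤ j'), ψ j' ≫ ARSys.tr W h = ψ j := by
    intro j j' h
    refine hW.unique (𝟙 (W.obj (op j))) (h.trans (hj j')) (hk j') (hj j) (hk j) _ _ ?_ (hψ j)
    rw [Category.comp_id, ← tr_comp W h (hj j')]
    have := hψ j'
    rw [Category.comp_id] at this
    rw [this]
    simp only [Category.assoc]
  let c : (Functor.const ℕᵒᵖ).obj V ⟶ W :=
    { app := fun n => ψ n.unop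
      naturality := by
        rintro ⟨j'⟩ ⟨j⟩ u
        have hle : j ≤ j' := leOfHom u.unop
        have hu : u = (homOfLE hle).op := rfl
        subst hu
        simp only [Functor.const_obj_obj, Functor.const_obj_map, Category.id_comp]
        exact (hnat hle).symm }
  refine ⟨c, k, ρ, ?_, fun j => ⟨m j, hk j, hj j, ?_⟩⟩
  · show ψ k ≫ ρ = 𝟙 V
    rw [← sub_eq_zero]
    apply hW.inj V _ (m k) (hk k)
    have := hψ k
    rw [Category.comp_id] at this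
    rw [Preadditive.comp_sub, Preadditive.comp_sub, Category.comp_id, sub_eq_zero]
    conv_rhs => rw [this]
    simp only [Category.assoc]
  · have := hψ j
    rw [Category.comp_id] at this
    exact this

end helpers

section chase

open CategoryTheory.Pretriangulated

variable {D : Type u} [Category.{v} D] [Preadditive D] [HasZeroObject D] [HasShift D ℤ]
    [∀ n : ℤ, (shiftFunctor D n).Additive] [Pretriangulated D]

/-- Exactness of `Hom(-, T)` at the first vertex of a distinguished triangle. -/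
lemma exact_at_one {A B C : D} (a : A ⟶ B) (b : B ⟶ C) (δ : C ⟶ (shiftFunctor D (1 : ℤ)).obj A)
    (hT : Triangle.mk a b δ ∈ distinguishedTriangles) {T : D} (ψ : A ⟶ T)
    (hψ : δ ≫ (shiftFunctor D (1 : ℤ)).map ψ = 0) : ∃ ψ' : B ⟶ T, ψ = a ≫ ψ' := by
  obtain ⟨(g : (shiftFunctor D (1 : ℤ)).obj B ⟶ (shiftFunctor D (1 : ℤ)).obj T),
    (hg : (shiftFunctor D (1 : ℤ)).map ψ = (-(shiftFunctor D (1 : ℤ)).map a) ≫ g)⟩ :=
    Triangle.yoneda_exact₃ _ (rot_of_distTriang _ hT) ((shiftFunctor D (1 : ℤ)).map ψ) hψ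
  obtain ⟨g', rfl⟩ := (shiftFunctor D (1 : ℤ)).map_surjective g
  refine ⟨-g', (shiftFunctor D (1 : ℤ)).map_injective ?_⟩
  rw [hg]
  simp

omit [Preadditive D] [HasZeroObject D] [∀ n : ℤ, (shiftFunctor D n).Additive] [Pretriangulated D] in
lemma hnat {X Z : ARSys.PS D} (h : Z ⟶ X ⋙ shiftFunctor D (1 : ℤ)) {n m : ℕ} (hnm : n ≤ m) :
    ARSys.tr Z hnm ≫ h.app (op n) =
      h.app (op m) ≫ (shiftFunctor D (1 : ℤ)).map (ARSys.tr X hnm) :=
  h.naturality _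

omit [Preadditive D] [HasZeroObject D] [∀ n : ℤ, (shiftFunctor D n).Additive] [Pretriangulated D] in
lemma hnat_assoc {X Z : ARSys.PS D} (h : Z ⟶ X ⋙ shiftFunctor D (1 : ℤ)) {n m : ℕ} (hnm : n ≤ m)
    {T : D} (φ : (shiftFunctor D (1 : ℤ)).obj (X.obj (op n)) ⟶ T) :
    ARSys.tr Z hnm ≫ h.app (op n) ≫ φ =
      h.app (op m) ≫ (shiftFunctor D (1 : ℤ)).map (ARSys.tr X hnm) ≫ φ := by
  rw [← Category.assoc, hnat, Category.assoc]

/-- The five lemma chase: the middle system of an inverse system of distinguished triangles whose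
outer systems are essentially constant is pro-isomorphic to the cone. -/
lemma proIso_middle (X Y Z : ARSys.PS D) (f : X ⟶ Y) (g : Y ⟶ Z)
    (h : Z ⟶ X ⋙ shiftFunctor D (1 : ℤ))
    (hT : ∀ n : ℕ, Triangle.mk (f.app (op n)) (g.app (op n)) (h.app (op n)) ∈
      distinguishedTriangles)
    {A C : D} (cA : ∀ n : ℕ, A ⟶ X.obj (op n)) (cC : ∀ n : ℕ, C ⟶ Z.obj (op n))
    (hcA : ∀ {n m : ℕ} (hnm : n ≤ m), cA m ≫ ARSys.tr X hnm = cA n)
    (hcC : ∀ {n m : ℕ} (hnm : n ≤ m), cC m ≫ ARSys.tr Z hnm = cC n)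
    (k : ℕ) (ρA : X.obj (op k) ⟶ A) (ρC : Z.obj (op k) ⟶ C)
    (hρA : cA k ≫ ρA = 𝟙 A) (hρC : cC k ≫ ρC = 𝟙 C)
    (hEX : ∀ j : ℕ, ∃ (m : ℕ) (hk : k ≤ m) (hj : j ≤ m),
      ARSys.tr X hj = ARSys.tr X hk ≫ ρA ≫ cA j)
    (hEZ : ∀ j : ℕ, ∃ (m : ℕ) (hk : k ≤ m) (hj : j ≤ m),
      ARSys.tr Z hj = ARSys.tr Z hk ≫ ρC ≫ cC j)
    {B : D} (a : A ⟶ B) (b : B ⟶ C) (δ : C ⟶ (shiftFunctor D (1 : ℤ)).obj A)
    (hABC : Triangle.mk a b δ ∈ distinguishedTriangles)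
    (β : Y.obj (op k) ⟶ B)
    (hβ₁ : f.app (op k) ≫ β = ρA ≫ a) (hβ₂ : β ≫ b = g.app (op k) ≫ ρC)
    (hδ : h.app (op k) ≫ (shiftFunctor D (1 : ℤ)).map ρA = ρC ≫ δ) :
    ProIsoData Y B k β where
  inj := by
    intro T ψ m hk hzero
    -- Step 1: `a ≫ ψ = 0`
    have h1 : a ≫ ψ = 0 := by
      calc a ≫ ψ = cA k ≫ (ρA ≫ a) ≫ ψ := by
            rw [Category.assoc, ← Category.assoc, hρA, Category.id_comp]
        _ = cA k ≫ f.app (op k) ≫ β ≫ ψ := by rw [← hβ₁, Category.assoc]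
        _ = cA m ≫ ARSys.tr X hk ≫ f.app (op k) ≫ β ≫ ψ := by rw [← hcA hk, Category.assoc]
        _ = cA m ≫ f.app (op m) ≫ ARSys.tr Y hk ≫ β ≫ ψ := by rw [nat_tr_assoc]
        _ = 0 := by rw [hzero, comp_zero, comp_zero]
    -- Step 2
    obtain ⟨(ψ' : C ⟶ T), (hψ' : ψ = b ≫ ψ')⟩ := Triangle.yoneda_exact₂ _ hABC ψ h1
    -- Step 3
    have h3 : g.app (op m) ≫ (ARSys.tr Z hk ≫ ρC ≫ ψ') = 0 := by
      calc g.app (op m) ≫ (ARSys.tr Z hk ≫ ρC ≫ ψ')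
          = ARSys.tr Y hk ≫ (g.app (op k) ≫ ρC) ≫ ψ' := by
            rw [← nat_tr_assoc, Category.assoc]
        _ = ARSys.tr Y hk ≫ β ≫ ψ := by rw [← hβ₂, hψ', Category.assoc]
        _ = 0 := hzero
    obtain ⟨(w' : (shiftFunctor D (1 : ℤ)).obj (X.obj (op m)) ⟶ T),
      (hw' : ARSys.tr Z hk ≫ ρC ≫ ψ' = h.app (op m) ≫ w')⟩ :=
      Triangle.yoneda_exact₃ _ (hT m) (ARSys.tr Z hk ≫ ρC ≫ ψ') h3
    -- Step 4
    obtain ⟨m', hk', hm', hfac⟩ := hEX m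
    -- Step 5
    have h5 : ψ' = δ ≫ (shiftFunctor D (1 : ℤ)).map (cA m) ≫ w' := by
      rw [← sub_eq_zero]
      have hid : ∀ θ : C ⟶ T, ARSys.tr Z hk' ≫ ρC ≫ θ = 0 → θ = 0 := by
        intro θ hθ
        calc θ = cC k ≫ ρC ≫ θ := by rw [← Category.assoc, hρC, Category.id_comp]
          _ = cC m' ≫ ARSys.tr Z hk' ≫ ρC ≫ θ := by rw [← hcC hk', Category.assoc]
          _ = 0 := by rw [hθ, comp_zero]
      apply hid
      rw [Preadditive.comp_sub, Preadditive.comp_sub, sub_eq_zero]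
      calc ARSys.tr Z hk' ≫ ρC ≫ ψ'
          = ARSys.tr Z hm' ≫ ARSys.tr Z hk ≫ ρC ≫ ψ' := by rw [tr_comp_assoc]
        _ = ARSys.tr Z hm' ≫ h.app (op m) ≫ w' := by rw [hw']
        _ = h.app (op m') ≫ (shiftFunctor D (1 : ℤ)).map (ARSys.tr X hm') ≫ w' := by
            rw [hnat_assoc]
        _ = h.app (op m') ≫ (shiftFunctor D (1 : ℤ)).map (ARSys.tr X hk') ≫
              (shiftFunctor D (1 : ℤ)).map ρA ≫
              (shiftFunctor D (1 : ℤ)).map (cA m) ≫ w' := by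
            rw [hfac]
            simp only [Functor.map_comp, Category.assoc]
        _ = ARSys.tr Z hk' ≫ (h.app (op k) ≫ (shiftFunctor D (1 : ℤ)).map ρA) ≫
              (shiftFunctor D (1 : ℤ)).map (cA m) ≫ w' := by
            rw [← hnat_assoc, Category.assoc]
        _ = ARSys.tr Z hk' ≫ ρC ≫ δ ≫
              (shiftFunctor D (1 : ℤ)).map (cA m) ≫ w' := by
            rw [hδ, Category.assoc]
    have hbδ : b ≫ δ = 0 := comp_distTriang_mor_zero₂₃ _ hABC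
    rw [hψ', h5, ← Category.assoc b, hbδ, zero_comp]
  surj := by
    intro j T φ
    -- Step 1
    obtain ⟨m₁, hk₁, hj₁, hfac₁⟩ := hEX j
    have h1 : ARSys.tr X hj₁ ≫ f.app (op j) ≫ φ =
        ARSys.tr X hk₁ ≫ ρA ≫ (cA j ≫ f.app (op j) ≫ φ) := by
      conv_lhs => rw [hfac₁]
      simp only [Category.assoc]
    generalize hψA : cA j ≫ f.app (op j) ≫ φ = ψA at h1
    -- Step 2
    have hδ' : δ = cC k ≫ h.app (op k) ≫ (shiftFunctor D (1 : ℤ)).map ρA := by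
      rw [hδ, ← Category.assoc, hρC, Category.id_comp]
    have h2 : δ ≫ (shiftFunctor D (1 : ℤ)).map ψA = 0 := by
      have hhf : h.app (op m₁) ≫ (shiftFunctor D (1 : ℤ)).map (f.app (op m₁)) = 0 :=
        comp_distTriang_mor_zero₃₁ _ (hT m₁)
      calc δ ≫ (shiftFunctor D (1 : ℤ)).map ψA
          = cC k ≫ h.app (op k) ≫ (shiftFunctor D (1 : ℤ)).map (ρA ≫ ψA) := by
            rw [hδ', Functor.map_comp]
            simp only [Category.assoc]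
        _ = cC m₁ ≫ ARSys.tr Z hk₁ ≫ h.app (op k) ≫
              (shiftFunctor D (1 : ℤ)).map (ρA ≫ ψA) := by
            rw [← hcC hk₁, Category.assoc]
        _ = cC m₁ ≫ h.app (op m₁) ≫
              (shiftFunctor D (1 : ℤ)).map (ARSys.tr X hk₁ ≫ ρA ≫ ψA) := by
            rw [hnat_assoc, ← Functor.map_comp]
        _ = cC m₁ ≫ h.app (op m₁) ≫
              (shiftFunctor D (1 : ℤ)).map (f.app (op m₁) ≫ ARSys.tr Y hj₁ ≫ φ) := by
            rw [← h1, nat_tr_assoc]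
        _ = 0 := by
            rw [Functor.map_comp, ← Category.assoc (h.app _), hhf, zero_comp, comp_zero]
    -- Step 3
    obtain ⟨ψB, hψB⟩ := exact_at_one a b δ hABC ψA h2
    -- Step 4
    have h4 : f.app (op m₁) ≫ (ARSys.tr Y hj₁ ≫ φ - ARSys.tr Y hk₁ ≫ β ≫ ψB) = 0 := by
      rw [Preadditive.comp_sub, sub_eq_zero]
      calc f.app (op m₁) ≫ ARSys.tr Y hj₁ ≫ φ
          = ARSys.tr X hj₁ ≫ f.app (op j) ≫ φ := by rw [nat_tr_assoc]
        _ = ARSys.tr X hk₁ ≫ ρA ≫ ψA := h1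
        _ = ARSys.tr X hk₁ ≫ (ρA ≫ a) ≫ ψB := by rw [hψB, Category.assoc]
        _ = ARSys.tr X hk₁ ≫ f.app (op k) ≫ β ≫ ψB := by rw [← hβ₁, Category.assoc]
        _ = f.app (op m₁) ≫ ARSys.tr Y hk₁ ≫ β ≫ ψB := by rw [nat_tr_assoc]
    obtain ⟨(ζ : Z.obj (op m₁) ⟶ T),
      (hζ : ARSys.tr Y hj₁ ≫ φ - ARSys.tr Y hk₁ ≫ β ≫ ψB = g.app (op m₁) ≫ ζ)⟩ :=
      Triangle.yoneda_exact₂ _ (hT m₁) _ h4
    -- Step 5
    obtain ⟨m₂, hk₂, hm₂, hfac₂⟩ := hEZ m₁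
    -- Step 6
    refine ⟨m₂, hj₁.trans hm₂, hk₂, ψB + b ≫ cC m₁ ≫ ζ, ?_⟩
    have h6 : ARSys.tr Y hk₂ ≫ β ≫ b ≫ cC m₁ ≫ ζ =
        ARSys.tr Y hm₂ ≫ (ARSys.tr Y hj₁ ≫ φ - ARSys.tr Y hk₁ ≫ β ≫ ψB) := by
      calc ARSys.tr Y hk₂ ≫ β ≫ b ≫ cC m₁ ≫ ζ
          = ARSys.tr Y hk₂ ≫ g.app (op k) ≫ ρC ≫ cC m₁ ≫ ζ := by
            rw [← Category.assoc β, hβ₂, Category.assoc]
        _ = g.app (op m₂) ≫ (ARSys.tr Z hk₂ ≫ ρC ≫ cC m₁) ≫ ζ := by
            rw [nat_tr_assoc]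
            simp only [Category.assoc]
        _ = g.app (op m₂) ≫ ARSys.tr Z hm₂ ≫ ζ := by rw [← hfac₂]
        _ = ARSys.tr Y hm₂ ≫ g.app (op m₁) ≫ ζ := by rw [← nat_tr_assoc]
        _ = _ := by rw [hζ]
    rw [Preadditive.comp_add, Preadditive.comp_add, h6, Preadditive.comp_sub, tr_comp_assoc,
      tr_comp_assoc]
    abel

/-- The statement, with the data of essential constancy of the outer systems given at a common
level. -/
lemma middle_aux (X Y Z : ARSys.PS D) (f : X ⟶ Y) (g : Y ⟶ Z)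
    (h : Z ⟶ X ⋙ shiftFunctor D (1 : ℤ))
    (hT : ∀ n : ℕ, Triangle.mk (f.app (op n)) (g.app (op n)) (h.app (op n)) ∈
      distinguishedTriangles)
    {A C : D} (cA : (Functor.const ℕᵒᵖ).obj A ⟶ X) (cC : (Functor.const ℕᵒᵖ).obj C ⟶ Z)
    (n₀ : ℕ) (rA : X.obj (op n₀) ⟶ A) (rC : Z.obj (op n₀) ⟶ C)
    (hA1 : cA.app (op n₀) ≫ rA = 𝟙 A) (hC1 : cC.app (op n₀) ≫ rC = 𝟙 C)
    (hA2 : ∀ j : ℕ, ∃ (m : ℕ) (hk : n₀ ≤ m) (hj : j ≤ m),
      ARSys.tr X hj = ARSys.tr X hk ≫ rA ≫ cA.app (op j))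
    (hC2 : ∀ j : ℕ, ∃ (m : ℕ) (hk : n₀ ≤ m) (hj : j ≤ m),
      ARSys.tr Z hj = ARSys.tr Z hk ≫ rC ≫ cC.app (op j)) :
    ∃ (B : D) (cB : (Functor.const ℕᵒᵖ).obj B ⟶ Y), DerCA.IsEssConstant Y B cB := by
  -- a later index `k` from which `Z_k ⟶ Z_{n₀}` factors through `C`
  obtain ⟨k, hn₀k, hn₀k', hP⟩ := hC2 n₀
  obtain ⟨hA1', hA2'⟩ := reindex_data cA rA hA1 hA2 hn₀k
  obtain ⟨hC1', hC2'⟩ := reindex_data cC rC hC1 hC2 hn₀k
  have hδ : h.app (op k) ≫ (shiftFunctor D (1 : ℤ)).map (ARSys.tr X hn₀k ≫ rA) =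
      (ARSys.tr Z hn₀k ≫ rC) ≫ (cC.app (op k) ≫ h.app (op k) ≫
        (shiftFunctor D (1 : ℤ)).map (ARSys.tr X hn₀k ≫ rA)) := by
    have e1 : h.app (op k) ≫ (shiftFunctor D (1 : ℤ)).map (ARSys.tr X hn₀k ≫ rA) =
        ARSys.tr Z hn₀k ≫ h.app (op n₀) ≫ (shiftFunctor D (1 : ℤ)).map rA := by
      rw [Functor.map_comp, hnat_assoc]
    rw [e1]
    simp only [Category.assoc]
    rw [cone_tr_assoc cC hn₀k]
    conv_lhs => rw [hP]
    simp only [Category.assoc]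
  generalize ARSys.tr X hn₀k ≫ rA = ρA at hA1' hA2' hδ
  generalize ARSys.tr Z hn₀k ≫ rC = ρC at hC1' hC2' hδ
  generalize cC.app (op k) ≫ h.app (op k) ≫ (shiftFunctor D (1 : ℤ)).map ρA = δ at hδ
  obtain ⟨B, a, b, hABC⟩ := distinguished_cocone_triangle₂ δ
  obtain ⟨β, hβ₁, hβ₂⟩ := complete_distinguished_triangle_morphism₂ _ _ (hT k) hABC ρA ρC hδ
  have := proIso_middle X Y Z f g h hT (fun n => cA.app (op n)) (fun n => cC.app (op n))
    (fun hnm => cone_tr cA hnm) (fun hnm => cone_tr cC hnm) k ρA ρC hA1' hC1' hA2' hC2'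
    a b δ hABC β hβ₁ hβ₂.symm hδ
  exact ⟨B, essConstant_of_proIso this⟩

end chase

open CategoryTheory.Pretriangulated in
/-- Essential constancy of the middle system: in a triangulated category D, take an ℕ-indexed inverse
system of distinguished triangles with vertices A_n, B_n, C_n. When (A_n) and (C_n) are both
essentially constant, the middle system (B_n) is too. (The published statement also says the values
fit in a distinguished triangle receiving a map of triangles from some level; this row asserts only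
the essential constancy of the middle system.) -/
theorem result {D : Type u} [Category.{v} D] [Preadditive D] [HasZeroObject D] [HasShift D ℤ]
    [∀ n : ℤ, (shiftFunctor D n).Additive] [Pretriangulated D] [IsTriangulated D]
    (X Y Z : ARSys.PS D) (f : X ⟶ Y) (g : Y ⟶ Z) (h : Z ⟶ X ⋙ shiftFunctor D (1 : ℤ))
    (hT : ∀ n : ℕ, Triangle.mk (f.app (op n)) (g.app (op n)) (h.app (op n)) ∈ distinguishedTriangles)
    (hX : ∃ (A : D) (cA : (Functor.const ℕᵒᵖ).obj A ⟶ X), DerCA.IsEssConstant X A cA)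
    (hZ : ∃ (C : D) (cC : (Functor.const ℕᵒᵖ).obj C ⟶ Z), DerCA.IsEssConstant Z C cC) :
    ∃ (B : D) (cB : (Functor.const ℕᵒᵖ).obj B ⟶ Y), DerCA.IsEssConstant Y B cB := by
  obtain ⟨A, cA, iA, sA, hsA, hfacA⟩ := hX
  obtain ⟨C, cC, iC, sC, hsC, hfacC⟩ := hZ
  -- a common index `n₀ = max iA iC`
  obtain ⟨hA1, hA2⟩ := reindex_data cA sA hsA hfacA (le_max_left iA iC)
  obtain ⟨hC1, hC2⟩ := reindex_data cC sC hsC hfacC (le_max_right iA iC)
  exact middle_aux X Y Z f g h hT cA cC (max iA iC) _ _ hA1 hC1 hA2 hC2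

end Groth.Agent.S6615
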