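import Groth.Statements.S9147
import Groth.Agent.Lib.RelGCIFlat89
import Groth.Agent.Lib.SectionCompl89

set_option autoImplicit false
set_option linter.style.haveILetI false
universe u
open Synt

namespace Groth.Agent.S9147

section Helpers

open Groth.Agent.Lib.RelGCIFlat89 Groth.Agent.Lib.GlobalCI

variable {R : Type u} [CommRing R] {n c : ℕ} (F : Fin c → MvPolynomial (Fin n) R)
  (h : Synt.IsRelGCI R n c F)

include h in
theorem flat_local (m : Ideal (MvPolynomial (Fin n) R)) [m.IsPrime]
    (hm : Ideal.span (Set.range F) ≤ m) :
    Module.Flat R (Localization.AtPrime m ⧸ (Ideal.span (Set.range F)).map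
      (algebraMap (MvPolynomial (Fin n) R) (Localization.AtPrime m))) := by
  have h1 := (isRegular_and_flat F h m hm).2 c le_rfl
  have h2 : Ideal.ofList (((List.ofFn F).take c).map
      (algebraMap (MvPolynomial (Fin n) R) (Localization.AtPrime m))) =
      (Ideal.span (Set.range F)).map
        (algebraMap (MvPolynomial (Fin n) R) (Localization.AtPrime m)) := by
    rw [List.take_of_length_le (by simp), ← Ideal.map_ofList,
      Groth.Agent.Lib.H8LCICM.ofList_ofFn]
  rw [h2] at h1
  exact h1

include h in
theorem flat : Module.Flat R (Synt.RelGCIRing R n c F) := by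
  apply Module.flat_of_isLocalized_maximal (Synt.RelGCIRing R n c F) (Synt.RelGCIRing R n c F)
    (fun P ↦ Localization.AtPrime P) (fun P ↦ Algebra.linearMap (Synt.RelGCIRing R n c F) _)
  intro mbar _
  let m : Ideal (MvPolynomial (Fin n) R) :=
    mbar.comap (Ideal.Quotient.mk (Ideal.span (Set.range F)))
  haveI : m.IsPrime := Ideal.comap_isPrime _ _
  have hm : Ideal.span (Set.range F) ≤ m := by
    intro x hx
    change Ideal.Quotient.mk _ x ∈ mbar
    rw [Ideal.Quotient.eq_zero_iff_mem.mpr hx]
    exact Ideal.zero_mem _
  have hfl := flat_local F h m hm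
  haveI := Groth.Agent.Lib.SectionCompl89.isLocalization_quotient
    (Ideal.span (Set.range F)) mbar m rfl
  have e := IsLocalization.algEquiv mbar.primeCompl (Localization.AtPrime mbar)
      (Localization.AtPrime m ⧸ (Ideal.span (Set.range F)).map
        (algebraMap (MvPolynomial (Fin n) R) (Localization.AtPrime m)))
  haveI : IsScalarTower R (Synt.RelGCIRing R n c F)
      (Localization.AtPrime m ⧸ (Ideal.span (Set.range F)).map
        (algebraMap (MvPolynomial (Fin n) R) (Localization.AtPrime m))) :=
    IsScalarTower.of_algebraMap_eq (R := R) (S := Synt.RelGCIRing R n c F) (by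
      intro x
      rw [IsScalarTower.algebraMap_apply R (MvPolynomial (Fin n) R) (Synt.RelGCIRing R n c F),
        IsScalarTower.algebraMap_apply R (MvPolynomial (Fin n) R) (Localization.AtPrime m ⧸ _),
        IsScalarTower.algebraMap_apply (MvPolynomial (Fin n) R) (Localization.AtPrime m)
          (Localization.AtPrime m ⧸ _)]
      rfl)
  exact Module.Flat.of_linearEquiv (e.restrictScalars R).toLinearEquiv

end Helpers

/-- A relative global complete intersection over a ring R is syntomic over R, in particular flat. -/
theorem result (R : Type u) [CommRing R] (n c : ℕ) (F : Fin c → MvPolynomial (Fin n) R)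
    (h : Synt.IsRelGCI R n c F) : Synt.IsSyntomic R (Synt.RelGCIRing R n c F) := by
  refine ⟨flat F h, ?_, ?_⟩
  · exact Algebra.FinitePresentation.quotient
      (Submodule.fg_span (Set.finite_range F))
  · intro p
    let Pres : Algebra.Presentation p.asIdeal.ResidueField
        (p.asIdeal.Fiber (Synt.RelGCIRing R n c F)) (Fin n) (Fin c) :=
      (Algebra.Presentation.naive (v := F)).baseChange p.asIdeal.ResidueField
    by_cases hnt : Nontrivial (p.asIdeal.Fiber (Synt.RelGCIRing R n c F))
    · obtain ⟨hcn, hd⟩ := h p hnt
      exact Groth.Agent.Lib.GlobalCI.isLCIOver_of_isGlobalCI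
        (Groth.Agent.Lib.GlobalCI.isGlobalCI_of_presentation Pres hcn (Or.inr hd))
    · rw [not_nontrivial_iff_subsingleton] at hnt
      exact Groth.Agent.Lib.GlobalCI.isLCIOver_of_isGlobalCI (Or.inl hnt)

end Groth.Agent.S9147
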