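import Groth.Statements.S1217
import Mathlib
import Groth.Agent.Lib.PurityBC7

set_option autoImplicit false
universe u
open FlatMor

namespace Groth.Agent.S1217

section helpers

open scoped TensorProduct
open Groth.Agent.Lib.PurityBC7

theorem key_generic {A B : Type u} [CommRing A] [CommRing B] [Algebra A B] [Algebra.FiniteType A B]
    (N : Type u) [AddCommGroup N] [Module B N] (p : Ideal A) [p.IsPrime]
    (A' B' N' : Type u) [CommRing A'] [CommRing B'] [Algebra A A'] [Algebra B B'] [Algebra A' B']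
    [Algebra A B'] [IsScalarTower A B B'] [IsScalarTower A A' B']
    (hpush : Algebra.IsPushout A B A' B')
    [AddCommGroup N'] [Module B' N'] [Module B N'] [IsScalarTower B B' N'] (f : N →ₗ[B] N')
    (hf : IsBaseChange B' f)
    (p' : Ideal A') [p'.IsPrime]
    (A₁ B₁ N₁ : Type u) [CommRing A₁] [CommRing B₁] [Algebra A A₁] [Algebra B B₁]
    [Algebra A₁ B₁] [Algebra A B₁] [IsScalarTower A B B₁] [IsScalarTower A A₁ B₁]
    [AddCommGroup N₁] [Module B₁ N₁] [Module B N₁] [IsScalarTower B B₁ N₁] [Module A₁ N₁]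
    [IsScalarTower A₁ B₁ N₁] (f₁ : N →ₗ[B] N₁) (t₁' t₁ : Ideal A₁) [t₁'.IsPrime] [t₁.IsPrime]
    (P₁ : Ideal B₁) [P₁.IsPrime] (himp : FlatCA.IsImpurity A B N p A₁ B₁ N₁ f₁ t₁' t₁ P₁)
    (A₂ : Type u) [CommRing A₂] [Algebra A' A₂] [Algebra A₁ A₂] [Algebra A A₂]
    [IsScalarTower A A' A₂] [IsScalarTower A A₁ A₂]
    (B₂ N₂ : Type u) [CommRing B₂] [Algebra A₂ B₂] [Algebra B B₂] [Algebra A B₂]
    [IsScalarTower A B B₂] [IsScalarTower A A₂ B₂] (hpushAB₂ : Algebra.IsPushout A B A₂ B₂)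
    [AddCommGroup N₂] [Module B₂ N₂] [Module B N₂] [IsScalarTower B B₂ N₂]
    (k : N →ₗ[B] N₂) (hk : IsBaseChange B₂ k)
    (t₂' t₂ : Ideal A₂) [t₂'.IsPrime] [t₂.IsPrime] (hle₂ : t₂' ≤ t₂)
    [ht₂p' : t₂.LiesOver p'] [ht₂t₁ : t₂.LiesOver t₁] [ht₂'t₁' : t₂'.LiesOver t₁']
    (C : Prop)
    (hC : ∀ [Algebra B' B₂] [Algebra A' B₂] [IsScalarTower A' B' B₂] [IsScalarTower A' A₂ B₂]
      [Module B' N₂] [IsScalarTower B' B₂ N₂] [Module A₂ N₂] [IsScalarTower A₂ B₂ N₂]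
      (f₂ : N' →ₗ[B'] N₂) (P₂ : Ideal B₂) [P₂.IsPrime],
      FlatCA.IsImpurity A' B' N' p' A₂ B₂ N₂ f₂ t₂' t₂ P₂ → C) : C := by
  obtain ⟨hpush₁, hbc₁, hle, hover₁, hPover₁, hass₁, hcl₁⟩ := himp
  haveI := hover₁
  haveI := hPover₁
  -- algebra structures over A' and A₁ on B₂
  letI aA'B₂ : Algebra A' B₂ := ((algebraMap A₂ B₂).comp (algebraMap A' A₂)).toAlgebra
  haveI tA'A₂B₂ : IsScalarTower A' A₂ B₂ := .of_algebraMap_eq fun _ => rfl
  letI aA₁B₂ : Algebra A₁ B₂ := ((algebraMap A₂ B₂).comp (algebraMap A₁ A₂)).toAlgebra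
  haveI tA₁A₂B₂ : IsScalarTower A₁ A₂ B₂ := .of_algebraMap_eq fun _ => rfl
  obtain ⟨aB'B₂, tw1, tw2, hpush₂'⟩ := exists_algebra_isPushout (A := A) (B := B) (A' := A')
    (B' := B') (A₂ := A₂) (B₂ := B₂) hpush hpushAB₂
  obtain ⟨aB₁B₂, tw3, tw4, hpush₂₁⟩ := exists_algebra_isPushout (A := A) (B := B) (A' := A₁)
    (B' := B₁) (A₂ := A₂) (B₂ := B₂) hpush₁ hpushAB₂
  -- module structures on N₂
  letI mB'N₂ : Module B' N₂ := Module.compHom N₂ (algebraMap B' B₂)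
  haveI tB'B₂N₂ : IsScalarTower B' B₂ N₂ := ⟨fun b b₂ n => by
    change (b • b₂) • n = algebraMap B' B₂ b • (b₂ • n)
    rw [Algebra.smul_def, mul_smul]⟩
  haveI tBB'N₂ : IsScalarTower B B' N₂ := ⟨fun b b' n => by
    change algebraMap B' B₂ (b • b') • n = b • (algebraMap B' B₂ b' • n)
    rw [Algebra.smul_def, map_mul, mul_smul, ← IsScalarTower.algebraMap_apply B B' B₂,
      algebraMap_smul]⟩
  letI mB₁N₂ : Module B₁ N₂ := Module.compHom N₂ (algebraMap B₁ B₂)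
  haveI tB₁B₂N₂ : IsScalarTower B₁ B₂ N₂ := ⟨fun b b₂ n => by
    change (b • b₂) • n = algebraMap B₁ B₂ b • (b₂ • n)
    rw [Algebra.smul_def, mul_smul]⟩
  haveI tBB₁N₂ : IsScalarTower B B₁ N₂ := ⟨fun b b' n => by
    change algebraMap B₁ B₂ (b • b') • n = b • (algebraMap B₁ B₂ b' • n)
    rw [Algebra.smul_def, map_mul, mul_smul, ← IsScalarTower.algebraMap_apply B B₁ B₂,
      algebraMap_smul]⟩
  letI mA₂N₂ : Module A₂ N₂ := Module.compHom N₂ (algebraMap A₂ B₂)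
  haveI tA₂B₂N₂ : IsScalarTower A₂ B₂ N₂ := ⟨fun b b₂ n => by
    change (b • b₂) • n = algebraMap A₂ B₂ b • (b₂ • n)
    rw [Algebra.smul_def, mul_smul]⟩
  obtain ⟨f₂, hf₂, -⟩ := exists_isBaseChange f hf k hk
  obtain ⟨g, hg, -⟩ := exists_isBaseChange f₁ hbc₁ k hk
  -- finite type
  haveI : Algebra.FiniteType A₁ B₁ :=
    Algebra.FiniteType.equiv (inferInstance : Algebra.FiniteType A₁ (A₁ ⊗[A] B))
      (Algebra.IsPushout.equiv A A₁ B B₁ (h := hpush₁.symm))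
  haveI : Algebra.FiniteType A₂ B₂ :=
    Algebra.FiniteType.equiv (inferInstance : Algebra.FiniteType A₂ (A₂ ⊗[A] B))
      (Algebra.IsPushout.equiv A A₂ B B₂ (h := hpushAB₂.symm))
  obtain ⟨P₂, hP₂prime, hP₂over, hP₂comap, hass₂⟩ := transfer hpush₂₁ g hg t₁' t₂' P₁ hass₁
  haveI := hP₂prime
  refine hC f₂ P₂ ⟨hpush₂', hf₂, hle₂, ht₂p', hP₂over, hass₂, ?_⟩
  intro P' _ hle' hover'
  refine hcl₁ (P'.comap (algebraMap B₁ B₂)) (hP₂comap ▸ Ideal.comap_mono hle') ⟨?_⟩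
  rw [Ideal.under_def, Ideal.comap_comap, ← IsScalarTower.algebraMap_eq A₁ B₁ B₂,
    IsScalarTower.algebraMap_eq A₁ A₂ B₂, ← Ideal.comap_comap, ← Ideal.under_def (A := A₂) P',
    ← hover'.over, ← Ideal.under_def, ← ht₂t₁.over]

section Concrete

attribute [local instance] Algebra.TensorProduct.rightAlgebra

theorem key_mid {A B : Type u} [CommRing A] [CommRing B] [Algebra A B] [Algebra.FiniteType A B]
    (N : Type u) [AddCommGroup N] [Module B N] (p : Ideal A) [p.IsPrime]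
    (A' B' N' : Type u) [CommRing A'] [CommRing B'] [Algebra A A'] [Algebra B B'] [Algebra A' B']
    [Algebra A B'] [IsScalarTower A B B'] [IsScalarTower A A' B']
    (hpush : Algebra.IsPushout A B A' B')
    [AddCommGroup N'] [Module B' N'] [Module B N'] [IsScalarTower B B' N'] (f : N →ₗ[B] N')
    (hf : IsBaseChange B' f)
    (p' : Ideal A') [p'.IsPrime]
    (A₁ B₁ N₁ : Type u) [CommRing A₁] [CommRing B₁] [Algebra A A₁] [Algebra B B₁]
    [Algebra A₁ B₁] [Algebra A B₁] [IsScalarTower A B B₁] [IsScalarTower A A₁ B₁]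
    [AddCommGroup N₁] [Module B₁ N₁] [Module B N₁] [IsScalarTower B B₁ N₁] [Module A₁ N₁]
    [IsScalarTower A₁ B₁ N₁] (f₁ : N →ₗ[B] N₁) (t₁' t₁ : Ideal A₁) [t₁'.IsPrime] [t₁.IsPrime]
    (P₁ : Ideal B₁) [P₁.IsPrime] (himp : FlatCA.IsImpurity A B N p A₁ B₁ N₁ f₁ t₁' t₁ P₁)
    (A₂ : Type u) [CommRing A₂] [Algebra A' A₂] [Algebra A₁ A₂] [Algebra A A₂]
    [IsScalarTower A A' A₂] [IsScalarTower A A₁ A₂]
    (t₂' t₂ : Ideal A₂) [t₂'.IsPrime] [t₂.IsPrime] (hle₂ : t₂' ≤ t₂)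
    [ht₂p' : t₂.LiesOver p'] [ht₂t₁ : t₂.LiesOver t₁] [ht₂'t₁' : t₂'.LiesOver t₁']
    (C : Prop)
    (hC : ∀ (B₂ N₂ : Type u) [CommRing B₂] [Algebra B' B₂] [Algebra A₂ B₂] [Algebra A' B₂]
      [IsScalarTower A' B' B₂] [IsScalarTower A' A₂ B₂] [AddCommGroup N₂] [Module B₂ N₂]
      [Module B' N₂] [IsScalarTower B' B₂ N₂] [Module A₂ N₂]
      [IsScalarTower A₂ B₂ N₂] (f₂ : N' →ₗ[B'] N₂) (P₂ : Ideal B₂) [P₂.IsPrime],
      FlatCA.IsImpurity A' B' N' p' A₂ B₂ N₂ f₂ t₂' t₂ P₂ → C) : C := by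
  have hpushAB₂ : Algebra.IsPushout A B A₂ (A₂ ⊗[A] B) := TensorProduct.isPushout'
  have hk : IsBaseChange (A₂ ⊗[A] B) (TensorProduct.mk B (A₂ ⊗[A] B) N 1) :=
    TensorProduct.isBaseChange B N _
  apply key_generic N p A' B' N' hpush f hf p' A₁ B₁ N₁ f₁ t₁' t₁ P₁ himp A₂
    (A₂ ⊗[A] B) ((A₂ ⊗[A] B) ⊗[B] N) hpushAB₂ _ hk t₂' t₂ hle₂ C
  intro _ _ _ _ _ _ _ _ f₂ P₂ _ himp₂
  exact hC _ _ f₂ P₂ himp₂

theorem key_aux {A B : Type u} [CommRing A] [CommRing B] [Algebra A B] [Algebra.FiniteType A B]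
    (N : Type u) [AddCommGroup N] [Module B N] (p : Ideal A) [p.IsPrime]
    (A' B' N' : Type u) [CommRing A'] [CommRing B'] [Algebra A A'] [Algebra B B'] [Algebra A' B']
    [Algebra A B'] [IsScalarTower A B B'] [IsScalarTower A A' B']
    (hpush : Algebra.IsPushout A B A' B')
    [AddCommGroup N'] [Module B' N'] [Module B N'] [IsScalarTower B B' N'] (f : N →ₗ[B] N')
    (hf : IsBaseChange B' f)
    (p' : Ideal A') [p'.IsPrime] [Module.Flat A (Localization.AtPrime p')]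
    (A₁ B₁ N₁ : Type u) [CommRing A₁] [CommRing B₁] [Algebra A A₁] [Algebra B B₁]
    [Algebra A₁ B₁] [Algebra A B₁] [IsScalarTower A B B₁] [IsScalarTower A A₁ B₁]
    [AddCommGroup N₁] [Module B₁ N₁] [Module B N₁] [IsScalarTower B B₁ N₁] [Module A₁ N₁]
    [IsScalarTower A₁ B₁ N₁] (f₁ : N →ₗ[B] N₁) (t₁' t₁ : Ideal A₁) [t₁'.IsPrime] [t₁.IsPrime]
    (P₁ : Ideal B₁) [P₁.IsPrime] (himp : FlatCA.IsImpurity A B N p A₁ B₁ N₁ f₁ t₁' t₁ P₁)
    {L : Type u} [Field L] (u : A' →+* L) (v : A₁ →+* L)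
    (hcompat : ∀ a : A, u (algebraMap A A' a) = v (algebraMap A A₁ a))
    (hu : RingHom.ker u = p') (hv : RingHom.ker v = t₁)
    (E : Ideal (A' ⊗[A] A₁) → Prop)
    (hE : ∀ t₂ : Ideal (A' ⊗[A] A₁), t₂ = RingHom.ker (thetaHom u v hcompat) → E t₂)
    (C : Prop)
    (hC : ∀ (B₂ N₂ : Type u) [CommRing B₂] [Algebra B' B₂] [Algebra (A' ⊗[A] A₁) B₂] [Algebra A' B₂]
      [IsScalarTower A' B' B₂] [IsScalarTower A' (A' ⊗[A] A₁) B₂] [AddCommGroup N₂] [Module B₂ N₂]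
      [Module B' N₂] [IsScalarTower B' B₂ N₂] [Module (A' ⊗[A] A₁) N₂]
      [IsScalarTower (A' ⊗[A] A₁) B₂ N₂] (f₂ : N' →ₗ[B'] N₂) (t₂' t₂ : Ideal (A' ⊗[A] A₁))
      [t₂'.IsPrime] [t₂.IsPrime] (P₂ : Ideal B₂) [P₂.IsPrime], E t₂ →
      FlatCA.IsImpurity A' B' N' p' (A' ⊗[A] A₁) B₂ N₂ f₂ t₂' t₂ P₂ → C) : C := by
  have hle := himp.2.2.1
  obtain ⟨t₂', t₂, ht₂'prime, ht₂prime, hle₂, ht₂ker, ht₂p', ht₂t₁, ht₂'t₁'⟩ :=
    exists_primes_tensor u v p' t₁ t₁' hle hcompat hu hv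
  haveI := ht₂'prime
  haveI := ht₂prime
  haveI : t₂.LiesOver p' := ⟨ht₂p'.symm⟩
  haveI : t₂.LiesOver t₁ := ⟨ht₂t₁.symm⟩
  haveI : t₂'.LiesOver t₁' := ⟨ht₂'t₁'.symm⟩
  haveI : IsScalarTower A A₁ (A' ⊗[A] A₁) := inferInstance
  apply key_mid N p A' B' N' hpush f hf p' A₁ B₁ N₁ f₁ t₁' t₁ P₁ himp (A' ⊗[A] A₁)
    t₂' t₂ hle₂ C
  intro B₂ N₂ _ _ _ _ _ _ _ _ _ _ _ _ f₂ P₂ _ himp₂
  exact hC B₂ N₂ f₂ t₂' t₂ P₂ (hE t₂ ht₂ker) himp₂

theorem main {A B : Type u} [CommRing A] [CommRing B] [Algebra A B] [Algebra.FiniteType A B]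
    (N : Type u) [AddCommGroup N] [Module B N] [Module.Finite B N] (p : Ideal A) [p.IsPrime]
    (A' B' N' : Type u) [CommRing A'] [CommRing B'] [Algebra A A'] [Algebra B B'] [Algebra A' B'] [Algebra A B']
    [IsScalarTower A B B'] [IsScalarTower A A' B'] [Algebra.IsPushout A B A' B']
    [AddCommGroup N'] [Module B' N'] [Module B N'] [IsScalarTower B B' N'] (f : N →ₗ[B] N') (hf : IsBaseChange B' f)
    (p' : Ideal A') [p'.IsPrime] [p'.LiesOver p] [Module.Flat A (Localization.AtPrime p')] :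
    (FlatCA.IsPureAlong A' B' N' p' → FlatCA.IsPureAlong A B N p) ∧
    (FlatCA.IsUnivPureAlong A' B' N' p' → FlatCA.IsUnivPureAlong A B N p) := by
  constructor
  · intro H A₁ B₁ N₁ _ _ _ _ _ _ _ _ _ _ _ _ _ _ f₁ t₁' t₁ _ _ P₁ _ hnhd himp
    obtain ⟨hetale, hover, hbij⟩ := hnhd
    haveI := hetale
    obtain ⟨v, hcompat, hv⟩ := exists_etale_field p p' t₁ hover hbij
    refine key_aux N p A' B' N' inferInstance f hf p' A₁ B₁ N₁ f₁ t₁' t₁ P₁ himp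
      (algebraMap A' p'.ResidueField) v hcompat (Ideal.ker_algebraMap_residueField p') hv
      (fun t₂ => ∀ (_ : t₂.IsPrime), FlatCA.IsEtaleNhd A' (A' ⊗[A] A₁) p' t₂) ?_ False ?_
    · intro t₂ ht₂ _
      have hover' : p' = t₂.comap (algebraMap A' (A' ⊗[A] A₁)) := by
        rw [ht₂, comap_left_ker_thetaHom, Ideal.ker_algebraMap_residueField p']
      refine ⟨inferInstance, ⟨hover'⟩, ?_⟩
      exact bijective_residueField_map p' v hcompat t₂ ht₂ hover'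
    · intro B₂ N₂ _ _ _ _ _ _ _ _ _ _ _ _ f₂ t₂' t₂ _ _ P₂ _ hE himp₂
      exact H (A' ⊗[A] A₁) B₂ N₂ f₂ t₂' t₂ P₂ (hE inferInstance) himp₂
  · intro H A₁ B₁ N₁ _ _ _ _ _ _ _ _ _ _ _ _ _ _ f₁ t₁' t₁ _ _ P₁ _ himp
    haveI : t₁.LiesOver p := himp.2.2.2.1
    obtain ⟨L, _, u, v, hcompat, hu, hv⟩ := exists_common_field p p' t₁
    refine key_aux N p A' B' N' inferInstance f hf p' A₁ B₁ N₁ f₁ t₁' t₁ P₁ himp
      u v hcompat hu hv (fun _ => True) (fun _ _ => trivial) False ?_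
    intro B₂ N₂ _ _ _ _ _ _ _ _ _ _ _ _ f₂ t₂' t₂ _ _ P₂ _ _ himp₂
    exact H (A' ⊗[A] A₁) B₂ N₂ f₂ t₂' t₂ P₂ himp₂

end Concrete

end helpers

/-- Ring form, X = Spec B affine: let B be a finite type A-algebra, N a finite B-module, p a prime of A,
and A' an A-algebra with a prime p' over p such that the local ring of A' at p' is flat over A. Let
B', N' be the base changes of B, N to A'. If N' is pure along the fibre over p' then N is pure along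
the fibre over p, and likewise for universal purity. -/
theorem result {A B : Type u} [CommRing A] [CommRing B] [Algebra A B] [Algebra.FiniteType A B]
    (N : Type u) [AddCommGroup N] [Module B N] [Module.Finite B N] (p : Ideal A) [p.IsPrime]
    (A' B' N' : Type u) [CommRing A'] [CommRing B'] [Algebra A A'] [Algebra B B'] [Algebra A' B'] [Algebra A B']
    [IsScalarTower A B B'] [IsScalarTower A A' B'] [Algebra.IsPushout A B A' B']
    [AddCommGroup N'] [Module B' N'] [Module B N'] [IsScalarTower B B' N'] (f : N →ₗ[B] N') (hf : IsBaseChange B' f)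
    (p' : Ideal A') [p'.IsPrime] [p'.LiesOver p] [Module.Flat A (Localization.AtPrime p')] :
    (FlatCA.IsPureAlong A' B' N' p' → FlatCA.IsPureAlong A B N p) ∧
    (FlatCA.IsUnivPureAlong A' B' N' p' → FlatCA.IsUnivPureAlong A B N p) := by
  exact main N p A' B' N' f hf p'

end Groth.Agent.S1217
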