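import Groth.Statements.S1296
import Mathlib
import Groth.Agent.Lib.PurityQF7

set_option autoImplicit false
universe u
open FlatMor

namespace Groth.Agent.S1296

section helpers

open scoped TensorProduct
open Groth.Agent.Lib.PurityBC7 Groth.Agent.Lib.PurityQF7

attribute [local instance] Algebra.TensorProduct.rightAlgebra

/-- Push an impurity over `V` down to `R'` when a finite-level witness of "no specialization" is
available. -/
theorem pushdown_limit {A B : Type u} [CommRing A] [CommRing B] [Algebra A B]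
    [Algebra.FiniteType A B]
    (N : Type u) [AddCommGroup N] [Module B N] (p : Ideal A) [p.IsPrime]
    (R' B' N' : Type u) [CommRing R'] [CommRing B'] [Algebra A R'] [Algebra B B'] [Algebra R' B']
    [Algebra A B'] [IsScalarTower A B B'] [IsScalarTower A R' B']
    (hpushR' : Algebra.IsPushout A B R' B')
    [AddCommGroup N'] [Module B' N'] [Module B N'] [IsScalarTower B B' N'] [Module R' N']
    [IsScalarTower R' B' N'] (k : N →ₗ[B] N') (hk : IsBaseChange B' k)
    (V BV NV : Type u) [CommRing V] [CommRing BV] [Algebra A V] [Algebra B BV]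
    [Algebra V BV] [Algebra A BV] [IsScalarTower A B BV] [IsScalarTower A V BV]
    [AddCommGroup NV] [Module BV NV] [Module B NV] [IsScalarTower B BV NV] [Module V NV]
    [IsScalarTower V BV NV] (fV : N →ₗ[B] NV) (v' v : Ideal V) [v'.IsPrime] [v.IsPrime]
    (PV : Ideal BV) [PV.IsPrime] (himp : FlatCA.IsImpurity A B N p V BV NV fV v' v PV)
    [Algebra R' V] [IsScalarTower A R' V]
    (s₁ : R') (hs₁ : algebraMap R' V s₁ ∉ v)
    (T : Finset B) (c : B → R') (hc : ∀ b ∈ T, algebraMap R' V (c b) ∈ v)
    (hx : algebraMap V BV (algebraMap R' V s₁) -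
      ∑ b ∈ T, algebraMap V BV (algebraMap R' V (c b)) * algebraMap B BV b ∈ PV) :
    ∃ (P'' : Ideal B') (_ : P''.IsPrime),
      FlatCA.IsImpurity A B N p R' B' N' k (v'.under R') (v.under R') P'' := by
  obtain ⟨hpushV, hbcV, hle, hover, hPVover, hassV, hclV⟩ := himp
  haveI := hover
  haveI := hPVover
  letI aR'BV : Algebra R' BV := ((algebraMap V BV).comp (algebraMap R' V)).toAlgebra
  haveI tR'VBV : IsScalarTower R' V BV := .of_algebraMap_eq fun _ => rfl
  obtain ⟨aB'BV, tw1, tw2, hpush₂⟩ := exists_algebra_isPushout (A := A) (B := B) (A' := R')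
    (B' := B') (A₂ := V) (B₂ := BV) hpushR' hpushV
  letI mB'NV : Module B' NV := Module.compHom NV (algebraMap B' BV)
  haveI tB'BVNV : IsScalarTower B' BV NV := ⟨fun b b₂ n => by
    change (b • b₂) • n = algebraMap B' BV b • (b₂ • n)
    rw [Algebra.smul_def, mul_smul]⟩
  haveI tBB'NV : IsScalarTower B B' NV := ⟨fun b b' n => by
    change algebraMap B' BV (b • b') • n = b • (algebraMap B' BV b' • n)
    rw [Algebra.smul_def, map_mul, mul_smul, ← IsScalarTower.algebraMap_apply B B' BV,
      algebraMap_smul]⟩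
  obtain ⟨g, hg, -⟩ := exists_isBaseChange k hk fV hbcV
  haveI : Algebra.FiniteType R' B' :=
    Algebra.FiniteType.equiv (inferInstance : Algebra.FiniteType R' (R' ⊗[A] B))
      (Algebra.IsPushout.equiv A R' B B' (h := hpushR'.symm))
  haveI : Algebra.FiniteType V BV :=
    Algebra.FiniteType.equiv (inferInstance : Algebra.FiniteType V (V ⊗[A] B))
      (Algebra.IsPushout.equiv A V B BV (h := hpushV.symm))
  haveI hsv' : v'.LiesOver (v'.under R') := ⟨rfl⟩
  have hass := transfer_down hpush₂ g hg (v'.under R') v' PV hassV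
  haveI : (v.under R').LiesOver p := ⟨by
    rw [hover.over, Ideal.under_def, Ideal.under_def, Ideal.under_def, Ideal.comap_comap,
      ← IsScalarTower.algebraMap_eq A R' V]⟩
  refine ⟨PV.comap (algebraMap B' BV), Ideal.comap_isPrime _ _,
    hpushR', hk, Ideal.comap_mono hle, inferInstance, ⟨?_⟩, hass, ?_⟩
  · rw [Ideal.under_def, Ideal.under_def, Ideal.comap_comap,
      ← IsScalarTower.algebraMap_eq R' B' BV, IsScalarTower.algebraMap_eq R' V BV,
      ← Ideal.comap_comap, ← Ideal.under_def (A := V) PV, ← hPVover.over]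
  · intro Q hQ hleQ hQover
    apply hs₁
    have hmem : ∀ r : R', r ∈ v.under R' → algebraMap R' B' r ∈ Q := by
      intro r hr
      rw [hQover.over] at hr
      exact hr
    have hx₁ : algebraMap R' B' s₁ - ∑ b ∈ T, algebraMap R' B' (c b) * algebraMap B B' b ∈
        PV.comap (algebraMap B' BV) := by
      rw [Ideal.mem_comap, map_sub, map_sum]
      convert hx using 2
      · rw [← IsScalarTower.algebraMap_apply R' B' BV, IsScalarTower.algebraMap_apply R' V BV]
      · apply Finset.sum_congr rfl
        intro b _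
        rw [map_mul, ← IsScalarTower.algebraMap_apply R' B' BV,
          IsScalarTower.algebraMap_apply R' V BV, ← IsScalarTower.algebraMap_apply B B' BV]
    have hsum : ∑ b ∈ T, algebraMap R' B' (c b) * algebraMap B B' b ∈ Q := by
      apply Ideal.sum_mem
      intro b hb
      exact Ideal.mul_mem_right _ _ (hmem _ (hc b hb))
    have hs₁Q : algebraMap R' B' s₁ ∈ Q := by
      have := Q.add_mem (hleQ hx₁) hsum
      simpa using this
    have : s₁ ∈ v.under R' := by
      rw [hQover.over]
      exact hs₁Q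
    exact this


theorem exists_witness {A' B' : Type u} [CommRing A'] [CommRing B'] [Algebra A' B']
    (t : Ideal A') [t.IsPrime] (P : Ideal B')
    (hcl : ∀ (P' : Ideal B') [P'.IsPrime], P ≤ P' → ¬ P'.LiesOver t) :
    ∃ s : A', s ∉ t ∧ algebraMap A' B' s ∈ P ⊔ t.map (algebraMap A' B') := by
  by_contra hcon
  push_neg at hcon
  let S : Submonoid B' := t.primeCompl.map (algebraMap A' B')
  have hdisj : Disjoint ((P ⊔ t.map (algebraMap A' B') : Ideal B') : Set B') (S : Set B') := by
    rw [Set.disjoint_left]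
    rintro x hx ⟨s, hs, rfl⟩
    exact hcon s hs hx
  obtain ⟨P', hP'prime, hle, hP'disj⟩ := Ideal.exists_le_prime_disjoint _ S hdisj
  refine hcl P' (le_trans le_sup_left hle) ⟨?_⟩
  ext a
  constructor
  · intro ha
    exact hle (Ideal.mem_sup_right (Ideal.mem_map_of_mem _ ha))
  · intro ha
    by_contra hat
    exact Set.disjoint_left.mp hP'disj ha ⟨a, hat, rfl⟩

theorem exists_decomp {A B A' B' : Type u} [CommRing A] [CommRing B] [CommRing A'] [CommRing B']
    [Algebra A B] [Algebra A A'] [Algebra B B'] [Algebra A' B'] [Algebra A B']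
    [IsScalarTower A B B'] [IsScalarTower A A' B']
    (hpush : Algebra.IsPushout A B A' B') (t : Ideal A') (y : B')
    (hy : y ∈ t.map (algebraMap A' B')) :
    ∃ a : B →₀ A', (∀ b, a b ∈ t) ∧
      (a.sum fun b c => algebraMap A' B' c * algebraMap B B' b) = y := by
  have htop : Submodule.span A' (Set.range (algebraMap B B')) = ⊤ := by
    rw [eq_top_iff]
    intro x _
    have hbc := hpush.symm.out
    refine hbc.inductionOn x (fun x => x ∈ Submodule.span A' (Set.range (algebraMap B B')))
      (Submodule.zero_mem _) ?_ ?_ ?_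
    · intro b
      exact Submodule.subset_span ⟨b, rfl⟩
    · intro a x hx
      exact Submodule.smul_mem _ a hx
    · intro x₁ x₂ h₁ h₂
      exact Submodule.add_mem _ h₁ h₂
  have hy' : y ∈ t • Submodule.span A' (Set.range (algebraMap B B')) := by
    rw [htop, Ideal.smul_top_eq_map]
    exact hy
  obtain ⟨a, ha, hsum⟩ := (Submodule.mem_ideal_smul_span_iff_exists_sum t _ y).mp hy'
  refine ⟨a, ha, ?_⟩
  rw [← hsum]
  apply Finsupp.sum_congr
  intro b _
  rw [Algebra.smul_def]

theorem exists_index {ι : Type u} [Preorder ι] (G : ι → Type u) [∀ i, CommRing (G i)]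
    (g : ∀ i j, i ≤ j → G i →+* G j) (A' : Type u) [CommRing A'] [∀ i, Algebra (G i) A']
    (hcolim : FlatCA.IsDirectedColimitRing G g A') (T : Finset A') :
    ∃ i, ∀ x ∈ T, ∃ y : G i, algebraMap (G i) A' y = x := by
  classical
  obtain ⟨hdir, hne, -, -, hcompat, hsurj, -⟩ := hcolim
  induction T using Finset.induction_on with
  | empty => exact ⟨hne.some, fun x hx => absurd hx (Finset.notMem_empty x)⟩
  | insert x T _ ih =>
    obtain ⟨i, hi⟩ := ih
    obtain ⟨j, y, hy⟩ := hsurj x
    obtain ⟨k, hik, hjk⟩ := hdir.directed i j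
    refine ⟨k, fun z hz => ?_⟩
    rcases Finset.mem_insert.mp hz with rfl | hz
    · refine ⟨g j k hjk y, ?_⟩
      rw [← hy, ← hcompat j k hjk]
      rfl
    · obtain ⟨w, hw⟩ := hi z hz
      refine ⟨g i k hik w, ?_⟩
      rw [← hw, ← hcompat i k hik]
      rfl


theorem main_level {A B : Type u} [CommRing A] [CommRing B] [Algebra A B]
    [Algebra.FiniteType A B]
    (N : Type u) [AddCommGroup N] [Module B N] (p : Ideal A) [p.IsPrime]
    (A' B' N' : Type u) [CommRing A'] [CommRing B'] [Algebra A A'] [Algebra B B']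
    [Algebra A' B'] [Algebra A B'] [IsScalarTower A B B'] [IsScalarTower A A' B']
    [AddCommGroup N'] [Module B' N'] [Module B N'] [IsScalarTower B B' N'] [Module A' N']
    [IsScalarTower A' B' N'] (f : N →ₗ[B] N') (t' t : Ideal A') [t'.IsPrime] [t.IsPrime]
    (P : Ideal B') [P.IsPrime] (himp : FlatCA.IsImpurity A B N p A' B' N' f t' t P)
    (G₁ : Type u) [CommRing G₁] [Algebra A G₁] [Algebra G₁ A'] [IsScalarTower A G₁ A']
    (s₁ : G₁) (hs₁ : algebraMap G₁ A' s₁ ∉ t)
    (T : Finset B) (c : B → G₁) (hc : ∀ b ∈ T, algebraMap G₁ A' (c b) ∈ t)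
    (hx : algebraMap A' B' (algebraMap G₁ A' s₁) -
      ∑ b ∈ T, algebraMap A' B' (algebraMap G₁ A' (c b)) * algebraMap B B' b ∈ P) :
    FlatCA.HasImpurity A B N p (fun A'' _ _ t'' => ∃ e : A'' ≃ₐ[A] G₁,
      t''.map e = t.comap (algebraMap G₁ A')) := by
  have hpush : Algebra.IsPushout A B G₁ (G₁ ⊗[A] B) := TensorProduct.isPushout'
  have hk : IsBaseChange (G₁ ⊗[A] B) (TensorProduct.mk B (G₁ ⊗[A] B) N 1) :=
    TensorProduct.isBaseChange B N _
  haveI : IsScalarTower G₁ (G₁ ⊗[A] B) ((G₁ ⊗[A] B) ⊗[B] N) := inferInstance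
  obtain ⟨P'', hP'', himp₁⟩ := pushdown_limit N p G₁ (G₁ ⊗[A] B) ((G₁ ⊗[A] B) ⊗[B] N)
    hpush _ hk A' B' N' f t' t P himp s₁ hs₁ T c hc hx
  refine ⟨G₁, G₁ ⊗[A] B, (G₁ ⊗[A] B) ⊗[B] N, inferInstance, inferInstance, inferInstance,
    inferInstance, inferInstance, inferInstance, inferInstance, inferInstance, inferInstance,
    inferInstance, inferInstance, inferInstance, inferInstance, inferInstance, _, t'.under G₁,
    t.under G₁, inferInstance, inferInstance, P'', hP'', himp₁, AlgEquiv.refl, ?_⟩
  apply le_antisymm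
  · rw [Ideal.map_le_iff_le_comap]
    intro x hx
    exact hx
  · intro x hx
    exact Ideal.mem_map_of_mem (AlgEquiv.refl : G₁ ≃ₐ[A] G₁) (I := t.under G₁) hx

theorem main {A B : Type u} [CommRing A] [CommRing B] [Algebra A B] [Algebra.FiniteType A B]
    (N : Type u) [AddCommGroup N] [Module B N] (p : Ideal A) [p.IsPrime]
    {ι : Type u} [Preorder ι] (G : ι → Type u) [∀ i, CommRing (G i)] [∀ i, Algebra A (G i)]
    (g : ∀ i j, i ≤ j → G i →ₐ[A] G j)
    (A' : Type u) [CommRing A'] [Algebra A A'] [∀ i, Algebra (G i) A']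
    [∀ i, IsScalarTower A (G i) A']
    (hcolim : FlatCA.IsDirectedColimitRing G (fun i j h => (g i j h).toRingHom) A')
    (B' N' : Type u) [CommRing B'] [Algebra B B'] [Algebra A' B'] [Algebra A B']
    [IsScalarTower A B B'] [IsScalarTower A A' B']
    [AddCommGroup N'] [Module B' N'] [Module B N'] [IsScalarTower B B' N'] [Module A' N']
    [IsScalarTower A' B' N']
    (f : N →ₗ[B] N') (t' t : Ideal A') [t'.IsPrime] [t.IsPrime] (P : Ideal B') [P.IsPrime]
    (himp : FlatCA.IsImpurity A B N p A' B' N' f t' t P) :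
    ∃ i : ι, FlatCA.HasImpurity A B N p (fun A'' _ _ t'' => ∃ e : A'' ≃ₐ[A] G i,
      t''.map e = t.comap (algebraMap (G i) A')) := by
  classical
  have himp' := himp
  obtain ⟨hpush, hbc, hle, hover, hPover, hass, hcl⟩ := himp'
  obtain ⟨s, hs, hsmem⟩ := exists_witness t P hcl
  obtain ⟨x, hx, y, hy, hxy⟩ := Submodule.mem_sup.mp hsmem
  obtain ⟨a, ha, hsum⟩ := exists_decomp hpush t y hy
  obtain ⟨i, hi⟩ := exists_index G _ A' hcolim (insert s (a.support.image a))
  obtain ⟨s₁, hs₁⟩ := hi s (Finset.mem_insert_self _ _)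
  have hlift : ∀ b ∈ a.support, ∃ y : G i, algebraMap (G i) A' y = a b := fun b hb =>
    hi _ (Finset.mem_insert_of_mem (Finset.mem_image_of_mem a hb))
  choose! c hc using hlift
  refine ⟨i, main_level N p A' B' N' f t' t P himp (G i) s₁ (hs₁ ▸ hs) a.support c ?_ ?_⟩
  · intro b hb
    rw [hc b hb]
    exact ha b
  · have h1 : ∑ b ∈ a.support, algebraMap A' B' (algebraMap (G i) A' (c b)) * algebraMap B B' b
        = y := by
      rw [← hsum, Finsupp.sum]
      apply Finset.sum_congr rfl
      intro b hb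
      rw [hc b hb]
    rw [h1, hs₁, ← hxy, add_sub_cancel_right]
    exact hx

end helpers

/-- Ring form, X = Spec B affine, T = Spec A' with A' the colimit of a directed system of A-algebras
A'_i: let B be a finite type A-algebra, N a finite B-module, p a prime of A, and suppose given an
impurity of N above p with base change ring A' and points t' ⊆ t. Then for some index i there is an
impurity of N above p whose base change ring is A'_i (up to an A-isomorphism) and whose point t
corresponds to the contraction of t to A'_i. -/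
theorem result {A B : Type u} [CommRing A] [CommRing B] [Algebra A B] [Algebra.FiniteType A B]
    (N : Type u) [AddCommGroup N] [Module B N] [Module.Finite B N] (p : Ideal A) [p.IsPrime]
    {ι : Type u} [Preorder ι] (G : ι → Type u) [∀ i, CommRing (G i)] [∀ i, Algebra A (G i)]
    (g : ∀ i j, i ≤ j → G i →ₐ[A] G j)
    (A' : Type u) [CommRing A'] [Algebra A A'] [∀ i, Algebra (G i) A'] [∀ i, IsScalarTower A (G i) A']
    (hcolim : FlatCA.IsDirectedColimitRing G (fun i j h => (g i j h).toRingHom) A')
    (B' N' : Type u) [CommRing B'] [Algebra B B'] [Algebra A' B'] [Algebra A B'] [IsScalarTower A B B'] [IsScalarTower A A' B']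
    [AddCommGroup N'] [Module B' N'] [Module B N'] [IsScalarTower B B' N'] [Module A' N'] [IsScalarTower A' B' N']
    (f : N →ₗ[B] N') (t' t : Ideal A') [t'.IsPrime] [t.IsPrime] (P : Ideal B') [P.IsPrime]
    (himp : FlatCA.IsImpurity A B N p A' B' N' f t' t P) :
    ∃ i : ι, FlatCA.HasImpurity A B N p (fun A'' _ _ t'' => ∃ e : A'' ≃ₐ[A] G i, t''.map e = t.comap (algebraMap (G i) A')) := by
  exact main N p G g A' hcolim B' N' f t' t P himp

end Groth.Agent.S1296
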