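import Groth.Statements.S9005
import Mathlib
import Groth.Agent.S1296

set_option autoImplicit false
universe u
open FlatMor

namespace Groth.Agent.S9005

section helpers

open scoped TensorProduct
open Groth.Agent.Lib.PurityBC7

attribute [local instance] Algebra.TensorProduct.rightAlgebra

/-- Piece A: for a projective module with dual basis `σ`, membership in `𝔞 • ⊤` is tested on
coordinates. -/
theorem mem_smul_top_iff_coords {A' N' : Type u} [CommRing A'] [AddCommGroup N'] [Module A' N']
    (σ : N' →ₗ[A'] (N' →₀ A')) (hσ : Finsupp.linearCombination A' id ∘ₗ σ = LinearMap.id)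
    (𝔞 : Ideal A') (n : N') :
    n ∈ 𝔞 • (⊤ : Submodule A' N') ↔ ∀ k, σ n k ∈ 𝔞 := by
  constructor
  · intro hn
    refine Submodule.smul_induction_on hn ?_ ?_
    · intro a ha m _ k
      rw [map_smul, Finsupp.smul_apply, smul_eq_mul]
      exact 𝔞.mul_mem_right _ ha
    · intro x y hx hy k
      rw [map_add, Finsupp.add_apply]
      exact 𝔞.add_mem (hx k) (hy k)
  · intro h
    have h1 : n = Finsupp.linearCombination A' id (σ n) := by
      have := LinearMap.congr_fun hσ n
      simpa using this.symm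
    rw [h1, Finsupp.linearCombination_apply, Finsupp.sum]
    apply Submodule.sum_mem
    intro k _
    exact Submodule.smul_mem_smul (h k) Submodule.mem_top

/-- Piece C: Nakayama. -/
theorem le_of_mul_mem {A' : Type u} [CommRing A'] (I : Ideal A') (hI : I.FG)
    (t' t : Ideal A') [t'.IsPrime] [t.IsPrime] (hle : t' ≤ t) (s : A') (hs : s ∉ t)
    (h : ∀ a ∈ I, s * a ∈ (I ⊓ t') ⊔ t * I) : I ≤ t' := by
  let R := Localization.AtPrime t
  have hsu : IsUnit (algebraMap A' R s) :=
    IsLocalization.map_units R (⟨s, hs⟩ : t.primeCompl)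
  have hNN : I.map (algebraMap A' R) ≤
      (I ⊓ t').map (algebraMap A' R) ⊔ (IsLocalRing.maximalIdeal R) • I.map (algebraMap A' R) := by
    rw [Ideal.map_le_iff_le_comap]
    intro a ha
    rw [Ideal.mem_comap]
    have h1 : algebraMap A' R (s * a) ∈ ((I ⊓ t') ⊔ t * I).map (algebraMap A' R) :=
      Ideal.mem_map_of_mem _ (h a ha)
    rw [Ideal.map_sup, Ideal.map_mul, map_mul] at h1
    have h2 : t.map (algebraMap A' R) ≤ IsLocalRing.maximalIdeal R := by
      rw [Localization.AtPrime.map_eq_maximalIdeal]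
    have h3 : algebraMap A' R s * algebraMap A' R a ∈
        (I ⊓ t').map (algebraMap A' R) ⊔
          (IsLocalRing.maximalIdeal R) • I.map (algebraMap A' R) := by
      have h33 : Ideal.map (algebraMap A' R) t * Ideal.map (algebraMap A' R) I ≤
          (IsLocalRing.maximalIdeal R) • I.map (algebraMap A' R) := by
        rw [smul_eq_mul]
        exact Ideal.mul_mono_left h2
      exact (sup_le_sup_left h33 _) h1
    obtain ⟨v, hv⟩ := hsu
    have := Ideal.mul_mem_left _ (↑v⁻¹ : R) h3
    rwa [← hv, ← mul_assoc, Units.inv_mul, one_mul] at this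
  have hfg : (I.map (algebraMap A' R)).FG := Ideal.FG.map hI _
  have h4 : I.map (algebraMap A' R) ≤ (I ⊓ t').map (algebraMap A' R) :=
    Submodule.le_of_le_smul_of_le_jacobson_bot hfg
      (IsLocalRing.maximalIdeal_le_jacobson _) hNN
  have h5 : I.map (algebraMap A' R) ≤ t'.map (algebraMap A' R) :=
    h4.trans (Ideal.map_mono inf_le_right)
  have hdisj : Disjoint (t.primeCompl : Set A') (t' : Set A') := by
    rw [Set.disjoint_left]
    intro a ha ha'
    exact ha (hle ha')
  intro a ha
  have h6 : a ∈ (t'.map (algebraMap A' R)).comap (algebraMap A' R) :=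
    Ideal.mem_comap.mpr (h5 (Ideal.mem_map_of_mem _ ha))
  have h7 := IsLocalization.comap_map_of_isPrime_disjoint t.primeCompl R ‹t'.IsPrime› hdisj
  rw [Ideal.under_def] at h7
  rwa [h7] at h6


section Fibre

variable {A' B' N' : Type u} [CommRing A'] [CommRing B'] [Algebra A' B']
  [AddCommGroup N'] [Module B' N'] [Module A' N'] [IsScalarTower A' B' N']
  (t' : Ideal A') [t'.IsPrime]

theorem algebraMap_fiber_eq_zero {a : A'} (ha : a ∈ t') : algebraMap A' (t'.Fiber B') a = 0 := by
  rw [IsScalarTower.algebraMap_apply A' t'.ResidueField (t'.Fiber B'),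
    (Ideal.algebraMap_residueField_eq_zero).mpr ha, map_zero]

theorem algebraMap_smul_one_tmul (r : A') (x : N') :
    algebraMap A' (t'.Fiber B') r • ((1 : t'.Fiber B') ⊗ₜ[B'] x) = 1 ⊗ₜ[B'] (r • x) := by
  rw [TensorProduct.smul_tmul', smul_eq_mul, mul_one,
    IsScalarTower.algebraMap_apply A' B' (t'.Fiber B'), Algebra.algebraMap_eq_smul_one,
    TensorProduct.smul_tmul, algebraMap_smul]

/-- Piece B': elements of `t' N'` die in the fibre module. -/
theorem tmul_eq_zero_of_mem_smul_top (n : N') (hn : n ∈ t' • (⊤ : Submodule A' N')) :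
    (1 : t'.Fiber B') ⊗ₜ[B'] n = 0 := by
  refine Submodule.smul_induction_on hn ?_ ?_
  · intro a ha m _
    rw [← algebraMap_smul_one_tmul, algebraMap_fiber_eq_zero t' ha, zero_smul]
  · intro x y hx hy
    rw [TensorProduct.tmul_add, hx, hy, add_zero]

/-- Piece B: linear functionals of elements dying in the fibre module take values in `t'`. -/
theorem coord_mem_of_tmul_eq_zero (l : N' →ₗ[A'] A') (n : N')
    (h : (1 : t'.Fiber B') ⊗ₜ[B'] n = 0) : l n ∈ t' := by
  haveI : Algebra.IsPushout A' t'.ResidueField B' (t'.Fiber B') := TensorProduct.isPushout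
  have h1 : (1 : t'.ResidueField) ⊗ₜ[A'] n = 0 := by
    have := Algebra.IsPushout.cancelBaseChange_tmul A' t'.ResidueField B' (t'.Fiber B') N' n
    rw [h, map_zero] at this
    exact this.symm
  let φ : t'.ResidueField ⊗[A'] N' →ₗ[A'] t'.ResidueField :=
    (TensorProduct.rid A' t'.ResidueField).toLinearMap ∘ₗ (l.lTensor t'.ResidueField)
  have h2 : φ ((1 : t'.ResidueField) ⊗ₜ[A'] n) = algebraMap A' t'.ResidueField (l n) := by
    simp [φ, Algebra.algebraMap_eq_smul_one]
  rw [h1, map_zero] at h2
  exact Ideal.algebraMap_residueField_eq_zero.mp h2.symm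

/-- Piece D: clearing denominators in the fibre module. -/
theorem exists_smul_eq_one_tmul (z : (t'.Fiber B') ⊗[B'] N') :
    ∃ r : A', r ∉ t' ∧ ∃ x : N', algebraMap A' (t'.Fiber B') r • z = 1 ⊗ₜ[B'] x := by
  induction z using TensorProduct.induction_on with
  | zero => exact ⟨1, fun h => (Ideal.IsPrime.ne_top ‹_›) ((Ideal.eq_top_iff_one _).mpr h), 0, by simp⟩
  | tmul f n =>
    obtain ⟨r, hr, b, e⟩ := Ideal.Fiber.exists_smul_eq_one_tmul t' f
    refine ⟨r, hr, b • n, ?_⟩
    rw [TensorProduct.smul_tmul', smul_eq_mul, ← Algebra.smul_def, e]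
    have : ((1 : t'.ResidueField) ⊗ₜ[A'] b : t'.Fiber B') = b • (1 : t'.Fiber B') := by
      rw [Algebra.smul_def, mul_one]
      rfl
    rw [this, TensorProduct.smul_tmul]
  | add z₁ z₂ h₁ h₂ =>
    obtain ⟨r₁, hr₁, x₁, e₁⟩ := h₁
    obtain ⟨r₂, hr₂, x₂, e₂⟩ := h₂
    refine ⟨r₁ * r₂, fun h => ?_, r₂ • x₁ + r₁ • x₂, ?_⟩
    · rcases Ideal.IsPrime.mem_or_mem ‹_› h with h | h
      · exact hr₁ h
      · exact hr₂ h
    · rw [smul_add, map_mul, mul_comm, mul_smul, e₁, mul_comm, mul_smul, e₂,
        algebraMap_smul_one_tmul, algebraMap_smul_one_tmul, TensorProduct.tmul_add]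

end Fibre


/-- multiplication by an element of `B'` preserves `J • ⊤`. -/
theorem smul_mem_smul_top {A' B' N' : Type u} [CommRing A'] [CommRing B'] [Algebra A' B']
    [AddCommGroup N'] [Module B' N'] [Module A' N'] [IsScalarTower A' B' N']
    (J : Ideal A') (b : B') (n : N') (hn : n ∈ J • (⊤ : Submodule A' N')) :
    b • n ∈ J • (⊤ : Submodule A' N') := by
  refine Submodule.smul_induction_on hn ?_ ?_
  · intro a ha m _
    rw [smul_comm]
    exact Submodule.smul_mem_smul ha Submodule.mem_top
  · intro x y hx hy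
    rw [smul_add]
    exact Submodule.add_mem _ hx hy

/-- elements of `J B'` move `I • ⊤` into `(J * I) • ⊤`. -/
theorem map_smul_mem {A' B' N' : Type u} [CommRing A'] [CommRing B'] [Algebra A' B']
    [AddCommGroup N'] [Module B' N'] [Module A' N'] [IsScalarTower A' B' N']
    (J I : Ideal A') (x : N') (hx : x ∈ I • (⊤ : Submodule A' N')) (w : B')
    (hw : w ∈ J.map (algebraMap A' B')) : w • x ∈ (J * I) • (⊤ : Submodule A' N') := by
  refine Submodule.span_induction (p := fun w _ => w • x ∈ (J * I) • (⊤ : Submodule A' N'))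
    ?_ ?_ ?_ ?_ hw
  · rintro _ ⟨a, ha, rfl⟩
    have h1 : a • x ∈ J • (I • (⊤ : Submodule A' N')) := Submodule.smul_mem_smul ha hx
    have h2 : J • (I • (⊤ : Submodule A' N')) = (J * I) • (⊤ : Submodule A' N') :=
      (Submodule.mul_smul J I ⊤).symm
    rw [h2] at h1
    have h3 : algebraMap A' B' a • x = a • x := algebraMap_smul B' a x
    rw [h3]
    exact h1
  · rw [zero_smul]
    exact Submodule.zero_mem _
  · intro w₁ w₂ _ _ h₁ h₂
    rw [add_smul]
    exact Submodule.add_mem _ h₁ h₂
  · intro b w _ h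
    have h3 : (b • w) • x = b • (w • x) := by rw [smul_eq_mul]; exact mul_smul b w x
    rw [h3]
    exact smul_mem_smul_top _ b _ h

/-- Reformulation of the associated prime hypothesis. -/
theorem exists_ann_eq {A' B' N' : Type u} [CommRing A'] [CommRing B'] [Algebra A' B']
    [Algebra.FiniteType A' B']
    [AddCommGroup N'] [Module B' N'] [Module A' N'] [IsScalarTower A' B' N']
    (t' : Ideal A') [t'.IsPrime] (P : Ideal B')
    (hass : FlatCA.fiberIdeal t' P ∈ associatedPrimes (t'.Fiber B') (FlatCA.fiberMod t' B' N')) :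
    ∃ z : (t'.Fiber B') ⊗[B'] N', ∀ f : t'.Fiber B', f • z = 0 ↔ f ∈ FlatCA.fiberIdeal t' P := by
  haveI : IsNoetherianRing (t'.Fiber B') :=
    Algebra.FiniteType.isNoetherianRing t'.ResidueField (t'.Fiber B')
  obtain ⟨-, z, hz⟩ := (isAssociatedPrime_iff).mp hass
  refine ⟨z, fun f => ?_⟩
  rw [hz, Submodule.mem_colon_singleton, Submodule.mem_bot]
  rfl

/-- Piece E: the core lemma. -/
theorem core {A' B' N' : Type u} [CommRing A'] [CommRing B'] [Algebra A' B']
    [Algebra.FiniteType A' B']
    [AddCommGroup N'] [Module B' N'] [Module A' N'] [IsScalarTower A' B' N']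
    [Module.Projective A' N']
    (t' t : Ideal A') [t'.IsPrime] [t.IsPrime] (hle : t' ≤ t) (P : Ideal B') [P.IsPrime]
    [P.LiesOver t']
    (hass : FlatCA.fiberIdeal t' P ∈ associatedPrimes (t'.Fiber B') (FlatCA.fiberMod t' B' N'))
    (hcl : ∀ (P' : Ideal B') [P'.IsPrime], P ≤ P' → ¬ P'.LiesOver t) : False := by
  classical
  obtain ⟨s, hs, hsmem⟩ := Groth.Agent.S1296.exists_witness t P hcl
  obtain ⟨h𝔓prime, -⟩ := fiberIdeal_isPrime_comap t' P
  obtain ⟨z, hz⟩ := exists_ann_eq t' P hass
  obtain ⟨r, hr, x, hx⟩ := exists_smul_eq_one_tmul t' z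
  have hru := isUnit_algebraMap_fiber (B := B') t' hr
  have hann : ∀ f : t'.Fiber B', f • ((1 : t'.Fiber B') ⊗ₜ[B'] x) = 0 ↔
      f ∈ FlatCA.fiberIdeal t' P := by
    intro f
    rw [← hz, ← hx, smul_comm]
    constructor
    · intro h
      obtain ⟨v, hv⟩ := hru
      have := congrArg (fun w => (↑v⁻¹ : t'.Fiber B') • w) h
      simp only [smul_zero] at this
      rwa [← hv, smul_smul, Units.inv_mul, one_smul] at this
    · intro h
      rw [h, smul_zero]
  obtain ⟨σ, hσ⟩ := Module.projective_def'.mp ‹Module.Projective A' N'›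
  let I : Ideal A' := Ideal.span ((fun k => σ x k) '' ((σ x).support : Set N'))
  have hIfg : I.FG := ⟨((σ x).support.image (fun k => σ x k)), by simp [I]⟩
  have hxI : ∀ k, σ x k ∈ I := by
    intro k
    by_cases hk : k ∈ (σ x).support
    · exact Ideal.subset_span ⟨k, hk, rfl⟩
    · rw [Finsupp.notMem_support_iff] at hk
      rw [hk]
      exact I.zero_mem
  have hxmem : x ∈ I • (⊤ : Submodule A' N') := (mem_smul_top_iff_coords σ hσ I x).mpr hxI
  -- elements of `P`
  have hP : ∀ y ∈ P, y • x ∈ (I ⊓ t') • (⊤ : Submodule A' N') := by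
    intro y hy
    have h1 : fiberIncl (B := B') t' y ∈ FlatCA.fiberIdeal t' P := Ideal.mem_map_of_mem _ hy
    have h2 := (hann _).mpr h1
    have h3 : (1 : t'.Fiber B') ⊗ₜ[B'] (y • x) = 0 := by
      rw [← h2]
      change _ = ((1 : t'.ResidueField) ⊗ₜ[A'] y : t'.Fiber B') • ((1 : t'.Fiber B') ⊗ₜ[B'] x)
      have : ((1 : t'.ResidueField) ⊗ₜ[A'] y : t'.Fiber B') = y • (1 : t'.Fiber B') := by
        rw [Algebra.smul_def, mul_one]
        rfl
      rw [this, TensorProduct.smul_tmul', smul_eq_mul, mul_one, TensorProduct.smul_tmul]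
    rw [mem_smul_top_iff_coords σ hσ]
    intro k
    refine ⟨?_, ?_⟩
    · exact (mem_smul_top_iff_coords σ hσ I _).mp (smul_mem_smul_top I y x hxmem) k
    · exact coord_mem_of_tmul_eq_zero t' ((Finsupp.lapply k) ∘ₗ σ) (y • x) h3
  have hsx : s • x ∈ ((I ⊓ t') ⊔ t * I) • (⊤ : Submodule A' N') := by
    obtain ⟨y, hy, w, hw, e⟩ := Submodule.mem_sup.mp hsmem
    rw [← algebraMap_smul B' s x, ← e, add_smul, Submodule.sup_smul]
    exact Submodule.add_mem_sup (hP y hy) (map_smul_mem t I x hxmem w hw)
  have hcoords : ∀ a ∈ I, s * a ∈ (I ⊓ t') ⊔ t * I := by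
    intro a ha
    refine Submodule.span_induction (p := fun a _ => s * a ∈ (I ⊓ t') ⊔ t * I) ?_ ?_ ?_ ?_ ha
    · rintro _ ⟨k, -, rfl⟩
      have := (mem_smul_top_iff_coords σ hσ _ _).mp hsx k
      rwa [map_smul, Finsupp.smul_apply, smul_eq_mul] at this
    · rw [mul_zero]
      exact Ideal.zero_mem _
    · intro a₁ a₂ _ _ h₁ h₂
      rw [mul_add]
      exact Ideal.add_mem _ h₁ h₂
    · intro c a _ h
      rw [smul_eq_mul, mul_left_comm]
      exact Ideal.mul_mem_left _ c h
  have hIle : I ≤ t' := le_of_mul_mem I hIfg t' t hle s hs hcoords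
  have hxt : x ∈ t' • (⊤ : Submodule A' N') :=
    (mem_smul_top_iff_coords σ hσ t' x).mpr (fun k => hIle (hxI k))
  have h0 := tmul_eq_zero_of_mem_smul_top (B' := B') t' x hxt
  have h1 : (1 : t'.Fiber B') ∈ FlatCA.fiberIdeal t' P := by
    rw [← hann, one_smul, h0]
  exact h𝔓prime.ne_top ((Ideal.eq_top_iff_one _).mpr h1)

/-- base change of a projective module along a pushout square is projective. -/
theorem projective_of_isPushout {A B A' B' N N' : Type u} [CommRing A] [CommRing B]
    [CommRing A'] [CommRing B'] [Algebra A B] [Algebra A A'] [Algebra B B'] [Algebra A' B']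
    [Algebra A B'] [IsScalarTower A B B'] [IsScalarTower A A' B']
    [AddCommGroup N] [Module B N] [Module A N] [IsScalarTower A B N] [Module.Projective A N]
    [AddCommGroup N'] [Module B' N'] [Module B N'] [IsScalarTower B B' N'] [Module A' N']
    [IsScalarTower A' B' N']
    (hpush : Algebra.IsPushout A B A' B') (f : N →ₗ[B] N') (hf : IsBaseChange B' f) :
    Module.Projective A' N' := by
  haveI : Algebra.IsPushout A A' B B' := hpush.symm
  let e₁ : B' ⊗[B] N ≃ₗ[A'] A' ⊗[A] N := Algebra.IsPushout.cancelBaseChange A A' B B' N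
  let e₂ : B' ⊗[B] N ≃ₗ[A'] N' := hf.equiv.restrictScalars A'
  exact Module.Projective.of_equiv (e₁.symm ≪≫ₗ e₂)

theorem main {A B : Type u} [CommRing A] [CommRing B] [Algebra A B] [Algebra.FiniteType A B]
    (N : Type u) [AddCommGroup N] [Module B N] [Module A N] [IsScalarTower A B N]
    [Module.Finite B N] [Module.Projective A N] : FlatCA.IsUnivPure A B N := by
  intro p _ A' B' N' _ _ _ _ _ _ _ _ _ _ _ _ _ _ f t' t _ _ P _ himp
  obtain ⟨hpush, hf, hle, hlt, hPt', hass, hcl⟩ := himp
  haveI : Algebra.FiniteType A' B' :=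
    Algebra.FiniteType.equiv (inferInstance : Algebra.FiniteType A' (A' ⊗[A] B))
      (Algebra.IsPushout.equiv A A' B B' (h := hpush.symm))
  haveI : Module.Projective A' N' := projective_of_isPushout hpush f hf
  exact core t' t hle P hass hcl

end helpers

/-- For an affine finite type morphism Spec B → Spec A: a finite B-module which is projective as an
A-module is universally pure over Spec A. (The published statement allows any base scheme S and asks
the direct image to be locally projective; over an affine base a projective module gives such a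
direct image, so this row is that case.) -/
theorem result {A B : Type u} [CommRing A] [CommRing B] [Algebra A B] [Algebra.FiniteType A B] (N : Type u) [AddCommGroup N] [Module B N] [Module A N] [IsScalarTower A B N] [Module.Finite B N] [Module.Projective A N] : FlatCA.IsUnivPure A B N := by
  exact main N

end Groth.Agent.S9005
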