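import Groth.Statements.S1127
import Groth.Agent.Lib.QuasiAffineDescent
import Groth.Agent.Lib.QuasiAffineHom

set_option autoImplicit false
open CategoryTheory CategoryTheory.Limits AlgebraicGeometry Opposite
universe u
open Desc

namespace Groth.Agent.S1127

/-- If the base change of a morphism along a quasi-compact, flat, surjective morphism is quasi-affine
(quasi-compact, with quasi-affine preimages of affine opens), then the morphism is quasi-affine.
(The published statement is the fpqc-local form; stated here for a single quasi-compact flat
surjective base change, from which that form follows by Zariski-locality on the target.) -/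
theorem result :
    MorphismProperty.DescendsAlong (fun _ _ f => Mor2.IsQuasiAffine f : MorphismProperty Scheme.{u})
      (@Surjective ⊓ @Flat ⊓ @QuasiCompact : MorphismProperty Scheme.{u}) := by
  refine ⟨fun {A X Y Z fst snd f g} h hf hfst => ?_⟩
  have : Surjective f := hf.1.1
  have : Flat f := hf.1.2
  have : QuasiCompact f := hf.2
  rw [Groth.Agent.Lib.QuasiAffineHom.isQuasiAffine_iff] at hfst ⊢
  obtain ⟨hqc, hind⟩ := hfst
  refine ⟨MorphismProperty.of_isPullback_of_descendsAlong (P := @QuasiCompact) h hf hqc, ?_⟩
  exact Groth.Agent.Lib.QuasiAffineDescent.isIndQuasiAffineHom_of_isPullback g fst snd f h.flip hind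

end Groth.Agent.S1127
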