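import Groth.Statements.S3213
import Mathlib.LinearAlgebra.FiniteDimensional.Lemmas
import Mathlib.FieldTheory.Separable
import Mathlib.Tactic

set_option autoImplicit false
universe u v
open SGA7II

namespace Groth.Agent.S3213

open Polynomial in
/-- the polynomials giving the coordinates of a solution -/
noncomputable def Xp {k : Type u} [Field k] (q : ℕ) (c : ℕ → k) : ℕ → k[X]
  | 0 => 1 + C (c 0) * X ^ q
  | (i + 1) => (Xp q c i) ^ q + C (c (i + 1)) * X ^ q

open Polynomial in
theorem derivative_Xp {k : Type u} [Field k] (q : ℕ) (hq : ((q : ℕ) : k[X]) = 0) (c : ℕ → k) (i : ℕ) :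
    derivative (Xp q c i) = 0 := by
  cases i with
  | zero =>
    simp [Xp, derivative_X_pow, hq]
  | succ i =>
    simp [Xp, derivative_pow, hq]

/-- some iterate lies in the span of the previous ones -/
theorem exists_mem_span {k : Type u} [Field k] {V : Type v} [AddCommGroup V] [Module k V] [FiniteDimensional k V]
    (w : ℕ → V) : ∃ m : ℕ, w m ∈ Submodule.span k (Set.range fun i : Fin m => w i) := by
  by_contra hcon
  have hcon' : ∀ m, w m ∉ Submodule.span k (Set.range fun i : Fin m => w i) := fun m hm => hcon ⟨m, hm⟩
  have hle : ∀ m, Submodule.span k (Set.range fun i : Fin m => w i) <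
      Submodule.span k (Set.range fun i : Fin (m + 1) => w i) := by
    intro m
    refine lt_of_le_of_ne (Submodule.span_mono ?_) ?_
    · rintro _ ⟨i, rfl⟩
      exact ⟨Fin.castSucc i, rfl⟩
    · intro heq
      apply hcon' m
      rw [heq]
      exact Submodule.subset_span ⟨Fin.last m, rfl⟩
  have hrank : ∀ m, m ≤ Module.finrank k (Submodule.span k (Set.range fun i : Fin m => w i)) := by
    intro m
    induction m with
    | zero => exact Nat.zero_le _
    | succ m ih =>
      have := Submodule.finrank_lt_finrank_of_lt (hle m)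
      omega
  have h1 := hrank (Module.finrank k V + 1)
  have h2 := Submodule.finrank_le (Submodule.span k (Set.range fun i : Fin (Module.finrank k V + 1) => w i))
  omega

/-- Let k be a separably closed field of characteristic p > 0, q = p^r (r >= 1), V a finite-dimensional
k-vector space and phi : V -> V additive with phi(c v) = c^q phi(v). Then the additive map v |-> v -
phi(v) is surjective. -/
theorem result (k : Type u) [Field k] [IsSepClosed k] (p : ℕ) [Fact p.Prime] [CharP k p]
    (r : ℕ) (hr : 0 < r) (V : Type v) [AddCommGroup V] [Module k V] [FiniteDimensional k V] (φ : V →+ V)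
    (hφ : ∀ (c : k) (v : V), φ (c • v) = c ^ (p ^ r) • φ v) :
    Function.Surjective (fun v : V => v - φ v) := by
  intro t
  set q := p ^ r with hq
  have hq0 : ((q : ℕ) : Polynomial k) = 0 := by
    have h1 : ((q : ℕ) : k) = 0 := by
      rw [CharP.cast_eq_zero_iff k p, hq]
      exact dvd_pow_self p (by omega)
    rw [← map_natCast (Polynomial.C : k →+* Polynomial k), h1, map_zero]
  set w : ℕ → V := fun i => (⇑φ)^[i] t with hw
  have hw0 : w 0 = t := rfl
  have hwsucc : ∀ i, φ (w i) = w (i + 1) := fun i => (Function.iterate_succ_apply' _ _ _).symm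
  obtain ⟨m, hm⟩ := exists_mem_span (k := k) w
  obtain ⟨c₀, hc₀⟩ := (Submodule.mem_span_range_iff_exists_fun k).mp hm
  set c : ℕ → k := fun i => if h : i < m then c₀ ⟨i, h⟩ else 0 with hc
  have hrel : w m = ∑ i ∈ Finset.range m, c i • w i := by
    rw [← hc₀, ← Fin.sum_univ_eq_sum_range (fun i => c i • w i) m]
    refine Finset.sum_congr rfl fun i _ => ?_
    simp [hc, i.2]
  cases m with
  | zero =>
    refine ⟨0, ?_⟩
    simp only [Finset.range_zero, Finset.sum_empty] at hrel
    rw [← hw0, hrel]
    simp
  | succ m' =>
    set G : Polynomial k := Xp q c m' - Polynomial.X with hG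
    have hGder : Polynomial.derivative G = -1 := by
      rw [hG, Polynomial.derivative_sub, derivative_Xp q hq0, Polynomial.derivative_X, zero_sub]
    have hGsep : G.Separable := by
      rw [Polynomial.separable_def, hGder]
      exact isCoprime_one_right.neg_right
    have hGdeg : G.degree ≠ 0 := by
      intro h0
      have := Polynomial.eq_C_of_degree_eq_zero h0
      rw [this, Polynomial.derivative_C] at hGder
      exact one_ne_zero (neg_eq_zero.mp hGder.symm)
    obtain ⟨y, hy⟩ := IsSepClosed.exists_root G hGdeg hGsep
    set x : ℕ → k := fun i => Polynomial.eval y (Xp q c i) with hx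
    have hx0 : x 0 = 1 + c 0 * y ^ q := by simp [hx, Xp]
    have hxsucc : ∀ i, x (i + 1) = (x i) ^ q + c (i + 1) * y ^ q := fun i => by simp [hx, Xp]
    have hxm : x m' = y := by
      have : Polynomial.eval y G = 0 := hy
      rw [hG, Polynomial.eval_sub, Polynomial.eval_X, sub_eq_zero] at this
      exact this
    refine ⟨∑ i ∈ Finset.range (m' + 1), x i • w i, ?_⟩
    have hφsum : φ (∑ i ∈ Finset.range (m' + 1), x i • w i) =
        ∑ i ∈ Finset.range m', (x i) ^ q • w (i + 1) +
          y ^ q • (∑ i ∈ Finset.range m', c (i + 1) • w (i + 1) + c 0 • w 0) := by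
      rw [map_sum, Finset.sum_range_succ]
      congr 1
      · refine Finset.sum_congr rfl fun i _ => ?_
        rw [hφ, hwsucc]
      · rw [hφ, hwsucc, hxm, hrel, Finset.sum_range_succ']
    have hsum : ∑ i ∈ Finset.range (m' + 1), x i • w i =
        (∑ i ∈ Finset.range m', (x i) ^ q • w (i + 1) +
          y ^ q • ∑ i ∈ Finset.range m', c (i + 1) • w (i + 1)) + (1 + c 0 * y ^ q) • w 0 := by
      rw [Finset.sum_range_succ', hx0]
      congr 1
      rw [Finset.smul_sum, ← Finset.sum_add_distrib]
      refine Finset.sum_congr rfl fun i _ => ?_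
      rw [hxsucc, add_smul, smul_smul, mul_comm]
    change (∑ i ∈ Finset.range (m' + 1), x i • w i) - φ (∑ i ∈ Finset.range (m' + 1), x i • w i) = t
    rw [hφsum, hsum, hw0]
    module

end Groth.Agent.S3213
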