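import Groth.Statements.S3824
import Mathlib.LinearAlgebra.Finsupp.LinearCombination
import Mathlib.LinearAlgebra.Matrix.NonsingularInverse

set_option autoImplicit false
universe u
open QReg16

namespace Groth.Agent.S3824

open MvPolynomial

section

variable {R : Type*} [CommRing R] {n : ℕ}

/-- the linear forms `∑ j, M i j X j` -/
noncomputable def lin (M : Matrix (Fin n) (Fin n) R) (i : Fin n) : MvPolynomial (Fin n) R :=
  ∑ j, C (M i j) * X j

theorem lin_isHomogeneous (M : Matrix (Fin n) (Fin n) R) (i : Fin n) :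
    (lin M i).IsHomogeneous 1 :=
  IsHomogeneous.sum _ _ _ (fun _ _ => isHomogeneous_C_mul_X _ _)

theorem eval_lin (M : Matrix (Fin n) (Fin n) R) (f : Fin n → R) (i : Fin n) :
    eval f (lin M i) = ∑ j, M i j * f j := by
  simp [lin, map_sum]

theorem lin_one (i : Fin n) : lin (1 : Matrix (Fin n) (Fin n) R) i = X i := by
  rw [lin, Finset.sum_eq_single i]
  · simp
  · intro j _ hj
    simp [Matrix.one_apply_ne (Ne.symm hj)]
  · simp

theorem aeval_lin_lin (M N : Matrix (Fin n) (Fin n) R) (i : Fin n) :
    aeval (lin M) (lin N i) = lin (N * M) i := by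
  simp only [lin, map_sum, map_mul, aeval_C, aeval_X, algebraMap_eq, Matrix.mul_apply,
    Finset.mul_sum, Finset.sum_mul]
  rw [Finset.sum_comm]
  refine Finset.sum_congr rfl fun k _ => Finset.sum_congr rfl fun j _ => ?_
  ring

theorem eval_aeval' (f : Fin n → R) (g : Fin n → MvPolynomial (Fin n) R)
    (P : MvPolynomial (Fin n) R) :
    eval f (aeval g P) = eval (fun i => eval f (g i)) P := by
  induction P using MvPolynomial.induction_on with
  | C a => simp
  | add p q hp hq => simp only [map_add, hp, hq]
  | mul_X p i hp => simp only [map_mul, hp, aeval_X, map_X, eval_X]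

theorem map_aeval' {S : Type*} [CommRing S] (φ : R →+* S) (g : Fin n → MvPolynomial (Fin n) R)
    (P : MvPolynomial (Fin n) R) :
    map φ (aeval g P) = aeval (fun i => map φ (g i)) (map φ P) := by
  induction P using MvPolynomial.induction_on with
  | C a => simp
  | add p q hp hq => simp only [map_add, hp, hq]
  | mul_X p i hp => simp only [map_mul, hp, aeval_X, map_X, eval_X]

theorem aeval_aeval' (g h : Fin n → MvPolynomial (Fin n) R) (P : MvPolynomial (Fin n) R) :
    aeval g (aeval h P) = aeval (fun i => aeval g (h i)) P := by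
  induction P using MvPolynomial.induction_on with
  | C a => simp
  | add p q hp hq => simp only [map_add, hp, hq]
  | mul_X p i hp => simp only [map_mul, hp, aeval_X, map_X, eval_X]

theorem map_lin {S : Type*} [CommRing S] (φ : R →+* S) (M : Matrix (Fin n) (Fin n) R)
    (i : Fin n) : map φ (lin M i) = lin (M.map φ) i := by
  simp [lin, map_sum]

theorem entry_of_lin_eq_zero (M : Matrix (Fin n) (Fin n) R) (i k : Fin n)
    (h : lin M i = 0) : M i k = 0 := by
  have h1 := congrArg (eval (Pi.single k (1 : R))) h
  rw [eval_lin, map_zero] at h1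
  rw [← h1, Finset.sum_eq_single k]
  · simp
  · intro j _ hj
    simp [Pi.single_apply, hj]
  · simp

theorem map_eq_zero_of_coeff_mem (J : Ideal R) (P : MvPolynomial (Fin n) R)
    (h : ∀ d, P.coeff d ∈ J) : map (Ideal.Quotient.mk J) P = 0 := by
  ext d
  rw [coeff_map, coeff_zero]
  exact Ideal.Quotient.eq_zero_iff_mem.mpr (h d)

theorem coeff_mem_of_map_eq_zero (J : Ideal R) (P : MvPolynomial (Fin n) R)
    (h : map (Ideal.Quotient.mk J) P = 0) (d : Fin n →₀ ℕ) : P.coeff d ∈ J := by
  rw [← Ideal.Quotient.eq_zero_iff_mem, ← coeff_map, h, coeff_zero]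

end

/-- Let f_1, …, f_n be a quasi-regular sequence in a ring A and f'_1, …, f'_n another sequence of the
same length generating the same ideal. Then (f'_i) is quasi-regular. -/
theorem result {A : Type u} [CommRing A] {n : ℕ} (f f' : Fin n → A)
    (hf : CAlgX.IsQuasiRegular f) (h : Ideal.span (Set.range f') = Ideal.span (Set.range f)) :
    CAlgX.IsQuasiRegular f' := by
  have hM : ∀ i, ∃ c : Fin n → A, ∑ j, c j • f j = f' i := fun i =>
    (Submodule.mem_span_range_iff_exists_fun A).mp
      (show f' i ∈ Ideal.span (Set.range f) from h ▸ Ideal.subset_span ⟨i, rfl⟩)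
  have hN : ∀ i, ∃ c : Fin n → A, ∑ j, c j • f' j = f i := fun i =>
    (Submodule.mem_span_range_iff_exists_fun A).mp
      (show f i ∈ Ideal.span (Set.range f') from h.symm ▸ Ideal.subset_span ⟨i, rfl⟩)
  choose M hM using hM
  choose N hN using hN
  set J := Ideal.span (Set.range f) with hJ
  have hf'M : ∀ i, f' i = ∑ j, (Matrix.of M) i j * f j := fun i => by
    rw [← hM i]; rfl
  have hfN : ∀ i, f i = ∑ j, (Matrix.of N) i j * f' j := fun i => by
    rw [← hN i]; rfl
  -- N M = 1 modulo J
  have hNM : (Matrix.of N * Matrix.of M).map (Ideal.Quotient.mk J) = 1 := by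
    have hP : ∀ i, (lin (Matrix.of N * Matrix.of M - 1) i).IsHomogeneous 1 :=
      fun i => lin_isHomogeneous _ _
    have hev : ∀ i, eval f (lin (Matrix.of N * Matrix.of M - 1) i) = 0 := by
      intro i
      rw [eval_lin]
      simp only [Matrix.sub_apply, sub_mul, Finset.sum_sub_distrib, Matrix.one_apply, ite_mul,
        one_mul, zero_mul, Finset.sum_ite_eq, Finset.mem_univ, if_true]
      rw [sub_eq_zero]
      conv_rhs => rw [hfN i]
      simp only [Matrix.mul_apply, Finset.sum_mul]
      rw [Finset.sum_comm]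
      refine Finset.sum_congr rfl fun j _ => ?_
      rw [hf'M j, Finset.mul_sum]
      refine Finset.sum_congr rfl fun k _ => ?_
      ring
    have hzero : ∀ i, lin ((Matrix.of N * Matrix.of M - 1).map (Ideal.Quotient.mk J)) i = 0 := by
      intro i
      rw [← map_lin]
      apply map_eq_zero_of_coeff_mem
      exact hf 1 _ (hP i) (by rw [hev i]; exact Ideal.zero_mem _)
    ext i k
    have h1 := entry_of_lin_eq_zero _ i k (hzero i)
    rw [Matrix.map_apply, Matrix.sub_apply, map_sub, sub_eq_zero] at h1
    rw [Matrix.map_apply, h1, Matrix.one_apply, Matrix.one_apply]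
    split_ifs <;> simp
  have hMN : (Matrix.of M).map (Ideal.Quotient.mk J) * (Matrix.of N).map (Ideal.Quotient.mk J) = 1 := by
    rw [Matrix.map_mul] at hNM
    exact mul_eq_one_comm.mp hNM
  intro d P hP hPev e
  rw [h]
  apply coeff_mem_of_map_eq_zero
  -- Q = P(M X)
  have hQhom : (aeval (lin (Matrix.of M)) P).IsHomogeneous d := by
    have := hP.aeval (lin (Matrix.of M)) (fun i => lin_isHomogeneous (Matrix.of M) i)
    rwa [one_mul] at this
  have hQev : eval f (aeval (lin (Matrix.of M)) P) ∈ J ^ (d + 1) := by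
    rw [eval_aeval']
    have : (fun i => eval f (lin (Matrix.of M) i)) = f' := by
      funext i
      rw [eval_lin, hf'M i]
    rw [this, ← h]
    exact hPev
  have hQ0 : map (Ideal.Quotient.mk J) (aeval (lin (Matrix.of M)) P) = 0 :=
    map_eq_zero_of_coeff_mem J _ (hf d _ hQhom hQev)
  rw [map_aeval'] at hQ0
  have h2 := congrArg (aeval (lin ((Matrix.of N).map (Ideal.Quotient.mk J)))) hQ0
  rw [aeval_aeval', map_zero] at h2
  have h3 : (fun i => aeval (lin ((Matrix.of N).map (Ideal.Quotient.mk J)))
      (map (Ideal.Quotient.mk J) (lin (Matrix.of M) i))) = X := by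
    funext i
    rw [map_lin, aeval_lin_lin, hMN, lin_one]
  rw [h3, aeval_X_left, AlgHom.id_apply] at h2
  exact h2

end Groth.Agent.S3824
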