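import Groth.Statements.S9272
import Groth.Agent.Lib.QuasiRegFlat89
import Mathlib.LinearAlgebra.TensorProduct.RightExactness

set_option autoImplicit false
universe u
open CAlgX

namespace Groth.Agent.S9272


open TensorProduct Groth.Agent.Lib.QuasiRegFlat89

section aux

variable {A B A' : Type u} [CommRing A] [CommRing B] [CommRing A'] [Algebra A B] [Algebra A A']
  {r : ℕ} (f : Fin r → B)

local notation "J" => Ideal.span (Set.range f)

variable (A A') in
theorem span_eq_map :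
    Ideal.span (Set.range (fun i => ((1 : A') ⊗ₜ[A] f i : A' ⊗[A] B)))
      = (Ideal.span (Set.range f)).map
          ((Algebra.TensorProduct.includeRight : B →ₐ[A] A' ⊗[A] B) : B →+* A' ⊗[A] B) := by
  rw [Ideal.map_span, ← Set.range_comp]
  rfl

variable (A') in
/-- `A' ⊗ B → A' ⊗ B/J`. -/
noncomputable def pi1 : A' ⊗[A] B →ₗ[A] A' ⊗[A] (B ⧸ J) :=
  (Ideal.Quotient.mkₐ A J).toLinearMap.lTensor A'

theorem mem_of_pi1_eq_zero (x : A' ⊗[A] B) (hx : pi1 A' f x = 0) :
    x ∈ Ideal.span (Set.range (fun i => ((1 : A') ⊗ₜ[A] f i : A' ⊗[A] B))) := by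
  have hex : Function.Exact ((Submodule.restrictScalars A (Ideal.span (Set.range f))).subtype)
      (Ideal.Quotient.mkₐ A J).toLinearMap := by
    intro b
    constructor
    · intro hb
      exact ⟨⟨b, Ideal.Quotient.eq_zero_iff_mem.mp hb⟩, rfl⟩
    · rintro ⟨⟨x, hx⟩, rfl⟩
      exact Ideal.Quotient.eq_zero_iff_mem.mpr hx
  have hexT := lTensor_exact A' hex (Ideal.Quotient.mkₐ_surjective A J)
  obtain ⟨t, rfl⟩ := (hexT x).mp hx
  clear hx
  rw [span_eq_map]
  induction t using TensorProduct.induction_on with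
  | zero => simp
  | tmul a j =>
    rw [LinearMap.lTensor_tmul]
    have h1 : a ⊗ₜ[A] ((Submodule.restrictScalars A (Ideal.span (Set.range f))).subtype j)
        = (a ⊗ₜ[A] (1 : B)) * ((1 : A') ⊗ₜ[A] (j : B)) := by
      simp [Algebra.TensorProduct.tmul_mul_tmul]
    rw [h1]
    exact Ideal.mul_mem_left _ _ (Ideal.mem_map_of_mem _ j.2)
  | add x y hx hy =>
    rw [map_add]
    exact Ideal.add_mem _ hx hy

variable (A') in
/-- `A' ⊗ B → A' ⊗ B/J^(n+1)`. -/
noncomputable def pi2 (n : ℕ) : A' ⊗[A] B →ₐ[A] A' ⊗[A] (B ⧸ J ^ (n + 1)) :=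
  Algebra.TensorProduct.map (AlgHom.id A A') (Ideal.Quotient.mkₐ A (J ^ (n + 1)))

@[simp] theorem pi2_tmul (n : ℕ) (a : A') (b : B) :
    pi2 A' f n (a ⊗ₜ[A] b) = a ⊗ₜ[A] (Ideal.Quotient.mk (J ^ (n + 1)) b) := by
  simp [pi2]

theorem pi2_eq_zero (n : ℕ) (x : A' ⊗[A] B)
    (hx : x ∈ Ideal.span (Set.range (fun i => ((1 : A') ⊗ₜ[A] f i : A' ⊗[A] B))) ^ (n + 1)) :
    pi2 A' f n x = 0 := by
  rw [span_eq_map, ← Ideal.map_pow] at hx
  have hle : (J ^ (n + 1)).map
      ((Algebra.TensorProduct.includeRight : B →ₐ[A] A' ⊗[A] B) : B →+* A' ⊗[A] B)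
      ≤ RingHom.ker ((pi2 A' f n : A' ⊗[A] B →ₐ[A] A' ⊗[A] (B ⧸ J ^ (n + 1))) :
          A' ⊗[A] B →+* A' ⊗[A] (B ⧸ J ^ (n + 1))) := by
    rw [Ideal.map_le_iff_le_comap]
    intro j hj
    rw [Ideal.mem_comap, RingHom.mem_ker]
    show pi2 A' f n ((1 : A') ⊗ₜ[A] j) = 0
    rw [pi2_tmul, Ideal.Quotient.eq_zero_iff_mem.mpr hj, tmul_zero]
  exact hle hx

/-- `b ↦ [b] e_α`. -/
noncomputable def sigma (n : ℕ) (α : Mon r n) : B →ₗ[A] (Mon r n →₀ B ⧸ J) :=
  (Finsupp.lsingle α : (B ⧸ J) →ₗ[A] (Mon r n →₀ B ⧸ J)) ∘ₗ (Ideal.Quotient.mkₐ A J).toLinearMap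

theorem theta_sigma (n : ℕ) (α : Mon r n) (c : A' ⊗[A] B) :
    ((theta f n).restrictScalars A).lTensor A' ((sigma f n α).lTensor A' c)
      = pi2 A' f n (c * (1 : A') ⊗ₜ[A] mono f α.1) := by
  induction c using TensorProduct.induction_on with
  | zero => simp
  | tmul a b =>
    rw [LinearMap.lTensor_tmul, LinearMap.lTensor_tmul, Algebra.TensorProduct.tmul_mul_tmul,
      pi2_tmul, mul_one]
    congr 1
    simp only [sigma, LinearMap.coe_comp, Function.comp_apply, AlgHom.toLinearMap_apply,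
      Ideal.Quotient.mkₐ_eq_mk, Finsupp.lsingle_apply, LinearMap.coe_restrictScalars,
      theta_single, mulMono_mk]
    rw [mul_comm]
  | add x y hx hy =>
    simp only [map_add, add_mul, hx, hy]

theorem lapply_sigma (n : ℕ) (α β : Mon r n) (c : A' ⊗[A] B) :
    (Finsupp.lapply α : (Mon r n →₀ B ⧸ J) →ₗ[A] (B ⧸ J)).lTensor A' ((sigma f n β).lTensor A' c)
      = if β = α then pi1 A' f c else 0 := by
  induction c using TensorProduct.induction_on with
  | zero => simp
  | tmul a b =>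
    rw [LinearMap.lTensor_tmul, LinearMap.lTensor_tmul]
    simp only [sigma, LinearMap.coe_comp, Function.comp_apply, AlgHom.toLinearMap_apply,
      Ideal.Quotient.mkₐ_eq_mk, Finsupp.lsingle_apply, Finsupp.lapply_apply,
      Finsupp.single_apply, pi1, LinearMap.lTensor_tmul]
    split_ifs <;> simp
  | add x y hx hy =>
    simp only [map_add, hx, hy]
    split_ifs <;> simp

theorem coeff_mem [Module.Flat A (B ⧸ J)] (hq : CAlgX.IsQuasiRegular f) (n : ℕ)
    (P : MvPolynomial (Fin r) (A' ⊗[A] B)) (hP : P.IsHomogeneous n)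
    (hev : MvPolynomial.eval (fun i => ((1 : A') ⊗ₜ[A] f i : A' ⊗[A] B)) P
      ∈ Ideal.span (Set.range (fun i => ((1 : A') ⊗ₜ[A] f i : A' ⊗[A] B))) ^ (n + 1))
    (α : Mon r n) :
    MvPolynomial.coeff α.1 P
      ∈ Ideal.span (Set.range (fun i => ((1 : A') ⊗ₜ[A] f i : A' ⊗[A] B))) := by
  classical
  apply mem_of_pi1_eq_zero
  let S : Finset (Mon r n) := P.support.subtype (fun α => Finsupp.degree α = n)
  let z : A' ⊗[A] (Mon r n →₀ B ⧸ J) :=
    ∑ β ∈ S, (sigma f n β).lTensor A' (MvPolynomial.coeff β.1 P)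
  have hmem : ∀ d ∈ P.support, Finsupp.degree d = n := by
    intro d hd
    rw [Finsupp.degree_eq_weight_one]
    exact hP (MvPolynomial.mem_support_iff.mp hd)
  have hmono : ∀ d : Fin r →₀ ℕ,
      ∏ i, ((1 : A') ⊗ₜ[A] f i : A' ⊗[A] B) ^ d i = (1 : A') ⊗ₜ[A] mono f d := by
    intro d
    have := map_prod (Algebra.TensorProduct.includeRight : B →ₐ[A] A' ⊗[A] B)
      (fun i => f i ^ d i) Finset.univ
    simp only [map_pow, Algebra.TensorProduct.includeRight_apply] at this
    rw [← this]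
    rfl
  have h1 : ((theta f n).restrictScalars A).lTensor A' z
      = pi2 A' f n (MvPolynomial.eval (fun i => ((1 : A') ⊗ₜ[A] f i : A' ⊗[A] B)) P) := by
    rw [MvPolynomial.eval_eq', map_sum, map_sum]
    rw [← Finset.sum_subtype_of_mem
      (fun d => pi2 A' f n (MvPolynomial.coeff d P * ∏ i, ((1 : A') ⊗ₜ[A] f i : A' ⊗[A] B) ^ d i))
      hmem]
    refine Finset.sum_congr rfl fun β _ => ?_
    rw [theta_sigma, hmono]
  have hz : z = 0 := by
    apply lTensor_theta_injective (A := A) f hq A' n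
    rw [h1, pi2_eq_zero f n _ hev, map_zero]
  by_cases hα : α ∈ S
  · have h2 := congrArg ((Finsupp.lapply α : (Mon r n →₀ B ⧸ J) →ₗ[A] (B ⧸ J)).lTensor A') hz
    rw [map_zero, map_sum] at h2
    simp only [lapply_sigma] at h2
    rw [Finset.sum_ite_eq' S α] at h2
    simpa [hα] using h2
  · have : MvPolynomial.coeff α.1 P = 0 := by
      by_contra hne
      apply hα
      rw [Finset.mem_subtype]
      exact MvPolynomial.mem_support_iff.mpr hne
    rw [this, map_zero]

end aux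

/-- Let A → B and A → A' be ring maps and B' = A' ⊗_A B. If f_1, ..., f_r is a quasi-regular sequence in
B with B/(f_1, ..., f_r) flat over A, then the images of the f_i in B' form a quasi-regular
sequence. -/
theorem result (A B A' : Type u) [CommRing A] [CommRing B]
    [CommRing A'] [Algebra A B] [Algebra A A'] (r : ℕ) (f : Fin r → B)
    (hflat : Module.Flat A (B ⧸ Ideal.span (Set.range f))) (hq : CAlgX.IsQuasiRegular f) :
    CAlgX.IsQuasiRegular (fun i => ((1 : A') ⊗ₜ[A] f i : TensorProduct A A' B)) := by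
  classical
  intro n P' hP' hev d
  by_cases hd : MvPolynomial.coeff d P' = 0
  · rw [hd]
    exact Ideal.zero_mem _
  have hdeg : Finsupp.degree d = n := by
    rw [Finsupp.degree_eq_weight_one]
    exact hP' hd
  exact coeff_mem f hq n P' hP' hev ⟨d, hdeg⟩

end Groth.Agent.S9272
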