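-- Statement S3397.
import Groth.Statements.S3397
import Groth.Agent.Lib.H30EquidimAt2
import Groth.Agent.Lib.H30DimIneqGen
import Groth.Agent.Lib.H30LowerBound
import Groth.Agent.S3448
import Mathlib

set_option autoImplicit false
open CategoryTheory AlgebraicGeometry
universe u
open EGA43

namespace Groth.Agent.S3397

open Groth.Agent.Lib.H30EquidimAt Groth.Agent.Lib.H30DimRel Groth.Agent.Lib.H30LowerBound
  Groth.Agent.Lib.H30DimIneqGen Groth.Agent.Lib.H30GenFib Groth.Agent.Lib.H30IrrFib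
  Groth.Agent.S3448

theorem main {X Y : Scheme.{u}} [IsLocallyNoetherian Y] (f : X ⟶ Y)
    [LocallyOfFiniteType f] (x : X) (hY : EGA4.IsEquidim (Y.presheaf.stalk (f x)))
    (hX : EGA4.IsEquidim (X.presheaf.stalk x))
    (h : ringKrullDim (X.presheaf.stalk x) =
        ringKrullDim (Y.presheaf.stalk (f x)) +
          ringKrullDim ((f.fiber (f x)).presheaf.stalk (f.asFiber x))) :
    EGA43.IsEquidimAt f x := by
  haveI : IsLocallyNoetherian X := LocallyOfFiniteType.isLocallyNoetherian f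
  obtain ⟨A, hA⟩ := nat_dim (X.presheaf.stalk x)
  obtain ⟨B, hB⟩ := nat_dim (Y.presheaf.stalk (f x))
  obtain ⟨δ, hδ⟩ := exists_nat_fibreDimAt_eq f x
  have hadd := Groth.Agent.Lib.FibreDimAtFormula.fibreDimAt_eq_add f x (rt f x) (trdeg_eq_rt f x)
  obtain ⟨c, hc⟩ : ∃ c : ℕ,
      ringKrullDim ((f.fiber (f x)).presheaf.stalk (f.asFiber x)) = c := by
    letI := Groth.Agent.Lib.H30FibRes.fiberOver f (f x)
    haveI := Groth.Agent.Lib.H30FibRes.lft_fiber f (f x)
    haveI := Groth.Agent.Lib.H30DimField.isLocallyNoetherian (Y.residueField (f x))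
      (f.fiber (f x))
    exact nat_dim _
  rw [hδ, hc] at hadd
  have hδc : δ = c + rt f x := by exact_mod_cast hadd
  rw [hA, hB, hc] at h
  have hABc : A = B + c := by exact_mod_cast h
  -- step 1
  have step1 : ∀ ζ : X, IsMaxPt ζ → ζ ⤳ x → rt f ζ = δ ∧ IsMaxPt (f ζ) := by
    intro ζ hζmax hζ
    obtain ⟨a, b, ha, hb, hab⟩ := gen_ineq f x ζ hζ
    have haA : a = A := by
      have h1 : ringKrullDim (X.presheaf.stalk x ⧸ RingHom.ker (Cyc.specMap x ζ hζ)) = a := ha
      rw [hX _ ((ker_mem_minimalPrimes_iff x ζ hζ).mpr hζmax), hA] at h1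
      exact_mod_cast h1.symm
    have hbB : b ≤ B := by
      have h1 : ringKrullDim (Cyc.LocQuot (f x) (f ζ) (hζ.map f.continuous)) ≤
          ringKrullDim (Y.presheaf.stalk (f x)) := ringKrullDim_quotient_le _
      rw [hb, hB] at h1
      exact_mod_cast h1
    have hrt : rt f ζ ≤ δ := by
      have h1 := rt_le_fibreDimAt_of_specializes f ζ ζ rfl specializes_rfl
      have h2 := h1.trans (fibreDimAt_le_of_specializes f x ζ hζ)
      rw [hδ] at h2
      exact_mod_cast h2
    have hbeq : b = B := by omega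
    refine ⟨by omega, ?_⟩
    rw [← ker_mem_minimalPrimes_iff (f x) (f ζ) (hζ.map f.continuous)]
    haveI hqp : (RingHom.ker (Cyc.specMap (f x) (f ζ) (hζ.map f.continuous))).IsPrime :=
      RingHom.ker_isPrime _
    obtain ⟨p₀, hp₀, hle⟩ := Ideal.exists_minimalPrimes_le
      (bot_le : (⊥ : Ideal (Y.presheaf.stalk (f x))) ≤
        RingHom.ker (Cyc.specMap (f x) (f ζ) (hζ.map f.continuous)))
    haveI : p₀.IsPrime := hp₀.1.1
    rcases eq_or_lt_of_le hle with heq | hlt
    · rw [← heq]; exact hp₀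
    · exfalso
      have h1 := ringKrullDim_quotient_add_one_le p₀ _ hlt
      have h2 : ringKrullDim (Y.presheaf.stalk (f x) ⧸
          RingHom.ker (Cyc.specMap (f x) (f ζ) (hζ.map f.continuous))) = b := hb
      rw [h2, hY p₀ hp₀, hB, hbeq] at h1
      have h3 : B + 1 ≤ B := by exact_mod_cast h1
      omega
  -- step 2
  have hopen := Groth.Agent.S0402.result f δ
  obtain ⟨U₀, hU₀⟩ : ∃ U₀ : X.Opens, (U₀ : Set X) = {z : X | FlatMor.fibreDimAt f z ≤ δ} :=
    ⟨⟨_, hopen⟩, rfl⟩
  have hxU₀ : x ∈ U₀ := by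
    show x ∈ (U₀ : Set X)
    rw [hU₀]
    exact hδ.le
  obtain ⟨U, hxU, hUU₀, hUmax⟩ := exists_open_all_max_specialize x U₀ hxU₀
  rw [isEquidimAt_iff]
  refine ⟨δ, U, hxU, ?_, ?_⟩
  · intro ζ hζU hζmax
    have hζx := hUmax ζ hζU hζmax
    exact ⟨(step1 ζ hζmax hζx).2, hζx.map f.continuous⟩
  · intro z hzU
    apply le_antisymm
    · have : z ∈ (U₀ : Set X) := hUU₀ hzU
      rw [hU₀] at this
      exact this
    · obtain ⟨ζ, hζmax, hζz⟩ := exists_isMaxPt_specializes z
      have hζU : ζ ∈ U := hζz.mem_open U.isOpen hzU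
      have hζx := hUmax ζ hζU hζmax
      obtain ⟨z₁, -, hz₁z, hfz₁, hrt⟩ := exists_specialization_rt_ge f z ζ hζz
      rw [(step1 ζ hζmax hζx).1] at hrt
      have h1 := rt_le_fibreDimAt_of_specializes f z z₁ hfz₁ hz₁z
      refine le_trans ?_ h1
      exact_mod_cast hrt

/-- Let Y be locally Noetherian, f : X ⟶ Y locally of finite type, x a point of X with y = f x, and
suppose O_{Y,y} is equidimensional. If O_{X,x} is equidimensional and dim O_{X,x} = dim O_{Y,y} +
dim O_{X_y,x}, then f is equidimensional at x. -/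
theorem result {X Y : Scheme.{u}} [IsLocallyNoetherian Y] (f : X ⟶ Y)
    [LocallyOfFiniteType f] (x : X) (hY : EGA4.IsEquidim (Y.presheaf.stalk (f.base x)))
    (hX : EGA4.IsEquidim (X.presheaf.stalk x))
    (h : ringKrullDim (X.presheaf.stalk x) =
        ringKrullDim (Y.presheaf.stalk (f.base x)) + ringKrullDim ((f.fiber (f.base x)).presheaf.stalk (f.asFiber x))) :
    EGA43.IsEquidimAt f x := by
  exact main f x hY hX h

end Groth.Agent.S3397
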