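import Groth.Statements.S15573
import Mathlib.RingTheory.Kaehler.Basic
import Mathlib.LinearAlgebra.LinearIndependent.Lemmas
import Mathlib.LinearAlgebra.Dimension.StrongRankCondition
import Mathlib.LinearAlgebra.Basis.Basic

set_option autoImplicit false
universe u v
open RInv

namespace Groth.Agent.S15573

section aux

variable {S : Type u} {R : Type v} [CommRing S] [CommRing R] [Algebra S R]
  (lam : R ≃+* R) (hlam : Function.Involutive lam) (hS : RInv.IsFixedRing S R lam)

include hS in
theorem lam_algebraMap (s : S) : lam (algebraMap S R s) = algebraMap S R s :=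
  (hS.2 _).mpr ⟨s, rfl⟩

include hlam hS in
/-- Every element of `R` is `a + b r` with `a, b ∈ S`, when `r - lam r` is a unit. -/
theorem decomp (r : R) (hu : IsUnit (r - lam r)) (x : R) :
    ∃ a b : S, algebraMap S R a + algebraMap S R b * r = x := by
  have hlam2 : ∀ a, lam (lam a) = a := hlam
  obtain ⟨u, hu'⟩ := hu
  set b : R := (x - lam x) * (↑u⁻¹ : R) with hb
  have hbu : b * (r - lam r) = x - lam x := by
    rw [hb, ← hu', mul_assoc, Units.inv_mul, mul_one]
  have hlb : lam b = b := by
    have h1 : lam b * (lam r - r) = lam x - x := by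
      have := congrArg lam hbu
      rwa [map_mul, map_sub, map_sub, hlam2, hlam2] at this
    have h2 : lam b * (r - lam r) = b * (r - lam r) := by
      rw [hbu]
      have : lam b * (r - lam r) = -(lam b * (lam r - r)) := by ring
      rw [this, h1]
      ring
    rw [← hu'] at h2
    exact u.isUnit.mul_left_injective h2
  set a : R := x - b * r with ha
  have hla : lam a = a := by
    have h1 : a - lam a = (x - lam x) - b * (r - lam r) := by
      rw [ha, map_sub, map_mul, hlb]
      ring
    rw [hbu, sub_self] at h1
    exact (sub_eq_zero.mp h1).symm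
  obtain ⟨a₀, ha₀⟩ := (hS.2 a).mp hla
  obtain ⟨b₀, hb₀⟩ := (hS.2 b).mp hlb
  refine ⟨a₀, b₀, ?_⟩
  rw [ha₀, hb₀, ha]
  ring

include hS in
theorem indep (r : R) (hu : IsUnit (r - lam r)) (a b : S)
    (h : algebraMap S R a + algebraMap S R b * r = 0) : a = 0 ∧ b = 0 := by
  have h1 : algebraMap S R a + algebraMap S R b * lam r = 0 := by
    have := congrArg lam h
    rwa [map_add, map_mul, lam_algebraMap lam hS, lam_algebraMap lam hS, map_zero] at this
  have h2 : algebraMap S R b * (r - lam r) = 0 := by
    have : algebraMap S R b * (r - lam r)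
        = (algebraMap S R a + algebraMap S R b * r) - (algebraMap S R a + algebraMap S R b * lam r) := by
      ring
    rw [this, h, h1, sub_zero]
  have hb : algebraMap S R b = 0 := by
    obtain ⟨u, hu'⟩ := hu
    rw [← hu'] at h2
    exact (u.isUnit.mul_left_eq_zero).mp h2
  have ha : algebraMap S R a = 0 := by
    rw [hb, zero_mul, add_zero] at h
    exact h
  exact ⟨hS.1 (ha.trans (map_zero _).symm), hS.1 (hb.trans (map_zero _).symm)⟩

include hlam hS in
/-- `{1, r}` is an `S`-basis of `R`. -/
theorem exists_basis (r : R) (hu : IsUnit (r - lam r)) :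
    ∃ b : Module.Basis (Fin 2) S R, b 0 = 1 ∧ b 1 = r := by
  have hli : LinearIndependent S ![(1 : R), r] := by
    rw [LinearIndependent.pair_iff]
    intro s t hst
    apply indep lam hS r hu s t
    rw [← hst, Algebra.smul_def, Algebra.smul_def, mul_one]
  have hsp : ⊤ ≤ Submodule.span S (Set.range ![(1 : R), r]) := by
    intro x _
    obtain ⟨a, b, hab⟩ := decomp lam hlam hS r hu x
    have hr : Set.range ![(1 : R), r] = {1, r} := by
      ext y
      simp only [Set.mem_range, Fin.exists_fin_two, Matrix.cons_val_zero, Matrix.cons_val_one,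
        Set.mem_insert_iff, Set.mem_singleton_iff]
      constructor
      · rintro (h | h)
        · exact Or.inl h.symm
        · exact Or.inr h.symm
      · rintro (h | h)
        · exact Or.inl h.symm
        · exact Or.inr h.symm
    rw [hr, Submodule.mem_span_pair]
    refine ⟨a, b, ?_⟩
    rw [← hab, Algebra.smul_def, Algebra.smul_def, mul_one]
  refine ⟨Module.Basis.mk hli hsp, ?_, ?_⟩
  · rw [Module.Basis.mk_apply]
    rfl
  · rw [Module.Basis.mk_apply]
    rfl

include hlam hS in
theorem formallyUnramified (r : R) (hu : IsUnit (r - lam r)) :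
    Algebra.FormallyUnramified S R := by
  have hlam2 : ∀ a, lam (lam a) = a := hlam
  constructor
  suffices (⊤ : Submodule R Ω[R⁄S]) ≤ ⊥ from
    (subsingleton_iff_forall_eq 0).mpr fun y ↦ this trivial
  rw [← KaehlerDifferential.span_range_derivation, Submodule.span_le]
  -- `D r = 0`
  obtain ⟨t, ht⟩ := (hS.2 (r + lam r)).mp (by rw [map_add, hlam2, add_comm])
  obtain ⟨n, hn⟩ := (hS.2 (r * lam r)).mp (by rw [map_mul, hlam2, mul_comm])
  have hrr : r * r = algebraMap S R t * r - algebraMap S R n := by
    rw [ht, hn]
    ring
  have hDr : KaehlerDifferential.D S R r = 0 := by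
    have h1 : KaehlerDifferential.D S R (r * r)
        = r • KaehlerDifferential.D S R r + r • KaehlerDifferential.D S R r :=
      Derivation.leibniz _ _ _
    have h2 : KaehlerDifferential.D S R (algebraMap S R t * r - algebraMap S R n)
        = algebraMap S R t • KaehlerDifferential.D S R r := by
      rw [map_sub, Derivation.leibniz, Derivation.map_algebraMap, Derivation.map_algebraMap,
        smul_zero, add_zero, sub_zero]
    rw [hrr, h2] at h1
    have h3 : (r - lam r) • KaehlerDifferential.D S R r = 0 := by
      have e : r - lam r = r + r - algebraMap S R t := by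
        rw [ht]
        ring
      rw [e, sub_smul, add_smul, ← h1, sub_self]
    obtain ⟨u, hu'⟩ := hu
    rw [← hu'] at h3
    have : KaehlerDifferential.D S R r = (↑u⁻¹ : R) • ((u : R) • KaehlerDifferential.D S R r) := by
      rw [smul_smul, Units.inv_mul, one_smul]
    rw [this, h3, smul_zero]
  rintro _ ⟨x, rfl⟩
  obtain ⟨a, b, rfl⟩ := decomp lam hlam hS r hu x
  rw [SetLike.mem_coe, Submodule.mem_bot, map_add, Derivation.leibniz, Derivation.map_algebraMap,
    Derivation.map_algebraMap, hDr, smul_zero, smul_zero, add_zero, add_zero]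

end aux

/-- Let `R` be a commutative ring with an involution `lam` and let `S` be its fixed ring. If there is an
element `r` of `R` such that `r - lam r` is a unit, then `R` is a quadratic etale `S`-algebra. -/
theorem result (S : Type u) (R : Type v) [CommRing S] [CommRing R]
    [Algebra S R] (lam : R ≃+* R) (hlam : Function.Involutive lam) (hS : RInv.IsFixedRing S R lam)
    (h : ∃ r : R, IsUnit (r - lam r)) : RInv.IsQuadEtale S R := by
  obtain ⟨r, hu⟩ := h
  obtain ⟨b, -, -⟩ := exists_basis lam hlam hS r hu
  have hfree : Module.Free S R := Module.Free.of_basis b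
  refine ⟨Module.Finite.of_basis b, inferInstance, formallyUnramified lam hlam hS r hu, ?_⟩
  intro p
  have := p.nontrivial
  rw [Module.rankAtStalk_eq_finrank_of_free]
  rw [Module.finrank_eq_card_basis b]
  simp

end Groth.Agent.S15573
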