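import Groth.Statements.S6870
import Mathlib.RingTheory.Localization.Finiteness
import Mathlib.RingTheory.Localization.FractionRing
import Mathlib.RingTheory.Localization.Integer
import Mathlib.LinearAlgebra.Dimension.Free
import Mathlib.LinearAlgebra.FreeModule.Finite.Basic
import Mathlib.LinearAlgebra.Basis.VectorSpace
import Mathlib.LinearAlgebra.Basis.SMul
import Mathlib.Algebra.Module.LocalizedModule.Basic

set_option autoImplicit false
universe u
open CAlg

namespace Groth.Agent.S6870

/-- Structure lemma: for a finite module `M` over a domain there are finitely many elements `g i`,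
functionals `φ i` and nonzero `d`, `s` with `s • (d • m - ∑ i, φ i m • g i) = 0` for every `m`. -/
theorem exists_approx_basis (R : Type u) [CommRing R] [IsDomain R] (M : Type u)
    [AddCommGroup M] [Module R M] [Module.Finite R M] :
    ∃ (n : ℕ) (g : Fin n → M) (φ : Fin n → Module.Dual R M) (d s : R), d ≠ 0 ∧ s ≠ 0 ∧
      ∀ m : M, s • (d • m - ∑ i, φ i m • g i) = 0 := by
  classical
  let K := FractionRing R
  let V := LocalizedModule (nonZeroDivisors R) M
  let f : M →ₗ[R] V := LocalizedModule.mkLinearMap (nonZeroDivisors R) M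
  have : Module.Finite K V := Module.Finite.of_isLocalizedModule (nonZeroDivisors R) f
  let n := Module.finrank K V
  let b : Module.Basis (Fin n) K V := Module.finBasis K V
  -- write each basis vector as a fraction
  have hb : ∀ i : Fin n, ∃ (gi : M) (si : nonZeroDivisors R), (si : R) • b i = f gi := by
    intro i
    obtain ⟨⟨gi, si⟩, h⟩ := IsLocalizedModule.surj (nonZeroDivisors R) f (b i)
    exact ⟨gi, si, h⟩
  choose g sg hg using hb
  have hunit : ∀ i : Fin n, IsUnit (algebraMap R K (sg i : R)) := by
    intro i
    apply IsUnit.mk0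
    rw [Ne, map_eq_zero_iff _ (IsFractionRing.injective R K)]
    exact nonZeroDivisors.ne_zero (sg i).2
  let b' : Module.Basis (Fin n) K V := b.isUnitSMul hunit
  have hb' : ∀ i, b' i = f (g i) := by
    intro i
    rw [Module.Basis.isUnitSMul_apply, ← hg i, algebraMap_smul]
  -- coordinates
  let c : M →ₗ[R] (Fin n → K) := (b'.equivFun.toLinearMap.restrictScalars R) ∘ₗ f
  obtain ⟨G, hG⟩ := (Module.Finite.fg_top : (⊤ : Submodule R M).FG)
  obtain ⟨d, hd⟩ := IsLocalization.exist_integer_multiples_of_finset (nonZeroDivisors R)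
    ((G ×ˢ (Finset.univ : Finset (Fin n))).image (fun p => c p.1 p.2))
  have hd0 : (d : R) ≠ 0 := nonZeroDivisors.ne_zero d.2
  let h : M →ₗ[R] (Fin n → K) := (d : R) • c
  let ι : (Fin n → R) →ₗ[R] (Fin n → K) := (Algebra.linearMap R K).compLeft (Fin n)
  have hι : Function.Injective ι := by
    intro x y hxy
    funext j
    exact IsFractionRing.injective R K (congrFun hxy j)
  have hrange : LinearMap.range h ≤ LinearMap.range ι := by
    rw [LinearMap.range_eq_map, ← hG, Submodule.map_span, Submodule.span_le]
    rintro _ ⟨x, hx, rfl⟩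
    have : ∀ j : Fin n, ∃ r : R, algebraMap R K r = (d : R) • c x j := by
      intro j
      exact hd (c x j)
        (Finset.mem_image.mpr ⟨(x, j), Finset.mem_product.mpr ⟨hx, Finset.mem_univ j⟩, rfl⟩)
    choose r hr using this
    refine ⟨r, ?_⟩
    funext j
    exact hr j
  let e := LinearEquiv.ofInjective ι hι
  let h' : M →ₗ[R] LinearMap.range ι := h.codRestrict (LinearMap.range ι)
    (fun m => hrange (LinearMap.mem_range_self h m))
  let Φ : M →ₗ[R] (Fin n → R) := e.symm.toLinearMap ∘ₗ h'
  have hΦ : ∀ m j, algebraMap R K (Φ m j) = (d : R) • c m j := by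
    intro m j
    have h1 : ι (Φ m) = h m := by
      have : (e (e.symm (h' m)) : Fin n → K) = h m := by
        rw [LinearEquiv.apply_symm_apply]
        rfl
      exact this
    exact congrFun h1 j
  let φ : Fin n → Module.Dual R M := fun i => (LinearMap.proj i : (Fin n → R) →ₗ[R] R) ∘ₗ Φ
  -- the key identity in `V`
  have hkey : ∀ m : M, f ((d : R) • m - ∑ i, φ i m • g i) = 0 := by
    intro m
    rw [map_sub, map_smul, map_sum, sub_eq_zero]
    have h1 : f m = ∑ i, b'.equivFun (f m) i • b' i := (b'.sum_equivFun (f m)).symm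
    conv_lhs => rw [h1]
    rw [Finset.smul_sum]
    apply Finset.sum_congr rfl
    intro i _
    rw [map_smul, hb' i]
    have h2 : algebraMap R K (φ i m) = (d : R) • b'.equivFun (f m) i := hΦ m i
    rw [← algebraMap_smul K (φ i m) (f (g i)), h2, smul_assoc]
  -- uniform killer on the generators
  have hkill : ∀ x : M, ∃ s : nonZeroDivisors R,
      (s : R) • ((d : R) • x - ∑ i, φ i x • g i) = 0 := by
    intro x
    have := (IsLocalizedModule.eq_zero_iff (nonZeroDivisors R) f).mp (hkey x)
    exact this
  choose sk hsk using hkill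
  let s : R := ∏ x ∈ G, (sk x : R)
  have hs0 : s ≠ 0 := by
    apply Finset.prod_ne_zero_iff.mpr
    intro x _
    exact nonZeroDivisors.ne_zero (sk x).2
  let E : M →ₗ[R] M := (d : R) • LinearMap.id - ∑ i, (φ i).smulRight (g i)
  have hE : ∀ m, E m = (d : R) • m - ∑ i, φ i m • g i := by
    intro m
    simp [E, LinearMap.sum_apply]
  have hsE : LinearMap.ker (s • E) = ⊤ := by
    rw [eq_top_iff, ← hG, Submodule.span_le]
    intro x hx
    rw [SetLike.mem_coe, LinearMap.mem_ker, LinearMap.smul_apply, hE]
    have : s = (∏ y ∈ G.erase x, (sk y : R)) * (sk x : R) := by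
      rw [Finset.prod_erase_mul G _ hx]
    rw [this, mul_smul, hsk x, smul_zero]
  refine ⟨n, g, φ, d, s, hd0, hs0, ?_⟩
  intro m
  have : m ∈ LinearMap.ker (s • E) := by
    rw [hsE]
    trivial
  rw [LinearMap.mem_ker, LinearMap.smul_apply, hE] at this
  exact this

/-- Let `R` be a domain, `M` a finite `R`-module and `j : M → M**` the evaluation map into the double
dual. Then one nonzero `c ∈ R` kills the kernel of `j` and multiplies `M**` into the image of `j`.
(The published statement says only that the kernel and cokernel of `j` are torsion; this row gives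
one such `c` for both.) -/
theorem result (R : Type u) [CommRing R] [IsDomain R] (M : Type u)
    [AddCommGroup M] [Module R M] [Module.Finite R M] :
    ∃ c : R, c ≠ 0 ∧ (∀ x : M, Module.Dual.eval R M x = 0 → c • x = 0) ∧
      ∀ y : Module.Dual R (Module.Dual R M), c • y ∈ LinearMap.range (Module.Dual.eval R M) := by
  obtain ⟨n, g, φ, d, s, hd0, hs0, hE⟩ := exists_approx_basis R M
  refine ⟨s * d, mul_ne_zero hs0 hd0, ?_, ?_⟩
  · intro x hx
    have h1 : ∀ i, φ i x = 0 := by
      intro i
      exact LinearMap.congr_fun hx (φ i)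
    have h2 := hE x
    simp only [h1, zero_smul, Finset.sum_const_zero, sub_zero] at h2
    rw [mul_smul]
    exact h2
  · intro y
    refine ⟨s • ∑ i, y (φ i) • g i, ?_⟩
    ext ψ
    have hψ : ∀ m : M, ψ (d • m) = ∑ i, φ i m * ψ (g i) := by
      intro m
      have h1 := congrArg ψ (hE m)
      rw [map_smul, map_sub, map_zero, smul_eq_mul, mul_eq_zero] at h1
      rcases h1 with h1 | h1
      · exact absurd h1 hs0
      · rw [sub_eq_zero] at h1
        rw [h1, map_sum]
        apply Finset.sum_congr rfl
        intro i _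
        rw [map_smul, smul_eq_mul]
    have hdψ : d • ψ = ∑ i, ψ (g i) • φ i := by
      ext m
      rw [LinearMap.smul_apply, smul_eq_mul, ← smul_eq_mul, ← map_smul, hψ m, LinearMap.sum_apply]
      apply Finset.sum_congr rfl
      intro i _
      rw [LinearMap.smul_apply, smul_eq_mul, mul_comm]
    rw [Module.Dual.eval_apply, map_smul, map_sum, LinearMap.smul_apply, mul_smul]
    congr 1
    rw [← map_smul, hdψ, map_sum]
    apply Finset.sum_congr rfl
    intro i _
    rw [map_smul, map_smul, smul_eq_mul, smul_eq_mul, mul_comm]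

end Groth.Agent.S6870
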