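import Groth.Statements.S6872
import Groth.Agent.S6870

set_option autoImplicit false
universe u
open CAlg

namespace Groth.Agent.S6872

/-- Version without the Noetherian hypothesis. -/
theorem isReflexive_of_exact (R : Type u) [CommRing R] [IsDomain R]
    {M M' M'' : Type u} [AddCommGroup M] [Module R M] [Module.Finite R M]
    [AddCommGroup M'] [Module R M'] [AddCommGroup M''] [Module R M'']
    (f : M →ₗ[R] M') (g : M' →ₗ[R] M'') (hf : Function.Injective f) (hfg : Function.Exact f g)
    [Module.IsReflexive R M'] [Module.IsTorsionFree R M''] : Module.IsReflexive R M := by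
  have hj' := Module.bijective_dual_eval R M'
  have hnat : ∀ m : M, f.dualMap.dualMap (Module.Dual.eval R M m) = Module.Dual.eval R M' (f m) := by
    intro m
    ext ψ
    rfl
  constructor
  constructor
  · -- injectivity
    rw [← LinearMap.ker_eq_bot, LinearMap.ker_eq_bot']
    intro x hx
    apply hf
    apply hj'.1
    rw [← hnat, hx, map_zero, map_zero, map_zero]
  · intro y
    obtain ⟨c, hc0, -, hc⟩ := Groth.Agent.S6870.result R M
    obtain ⟨m, hm⟩ := hc y
    obtain ⟨y', hy'⟩ := hj'.2 (f.dualMap.dualMap y)
    have h1 : c • y' = f m := by
      apply hj'.1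
      rw [map_smul, hy', ← map_smul, ← hm, hnat]
    have h2 : g y' = 0 := by
      have : c • g y' = 0 := by
        rw [← map_smul, h1]
        exact hfg.apply_apply_eq_zero m
      exact (smul_eq_zero_iff_right hc0).mp this
    obtain ⟨m', hm'⟩ := (hfg y').mp h2
    have h3 : c • m' = m := by
      apply hf
      rw [map_smul, hm', h1]
    refine ⟨m', ?_⟩
    ext ψ
    have h4 : c • (Module.Dual.eval R M m') = c • y := by
      rw [← map_smul, h3, hm]
    have h5 := LinearMap.congr_fun h4 ψ
    simp only [LinearMap.smul_apply, smul_eq_mul] at h5
    exact mul_left_cancel₀ hc0 h5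

/-- Let `R` be a Noetherian domain and `f : M → M'`, `g : M' → M''` linear maps between finite
`R`-modules with `f` injective and image of `f` equal to kernel of `g` (so `0 → M → M' → M''` is
exact). Then reflexivity of `M'` together with torsion-freeness of `M''` forces `M` to be reflexive. -/
theorem result (R : Type u) [CommRing R] [IsDomain R]
    [IsNoetherianRing R] {M M' M'' : Type u} [AddCommGroup M] [Module R M] [Module.Finite R M]
    [AddCommGroup M'] [Module R M'] [Module.Finite R M'] [AddCommGroup M''] [Module R M''] [Module.Finite R M'']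
    (f : M →ₗ[R] M') (g : M' →ₗ[R] M'') (hf : Function.Injective f) (hfg : Function.Exact f g)
    [Module.IsReflexive R M'] [Module.IsTorsionFree R M''] : Module.IsReflexive R M := by
  exact isReflexive_of_exact R f g hf hfg

end Groth.Agent.S6872
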