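import Groth.Statements.S6875
import Groth.Agent.S6872
import Mathlib.LinearAlgebra.Dual.Lemmas
import Mathlib.LinearAlgebra.StdBasis
import Mathlib.LinearAlgebra.Pi
import Mathlib.RingTheory.Noetherian.Basic
import Mathlib.RingTheory.Finiteness.Cardinality

set_option autoImplicit false
universe u
open CAlg

namespace Groth.Agent.S6875

section aux
variable {R : Type u} [CommRing R]

lemma isReflexive_pi_fin (N : Type u) [AddCommGroup N] [Module R N] [Module.IsReflexive R N]
    (b : ℕ) : Module.IsReflexive R (Fin b → N) := by
  induction b with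
  | zero => infer_instance
  | succ b ih =>
    have : Module.IsReflexive R (N × (Fin b → N)) := inferInstance
    exact Module.equiv (Fin.consLinearEquiv R (fun _ : Fin (b + 1) => N))

end aux

/-- Let `R` be a Noetherian domain, `M` a finite `R`-module and `N` a finite reflexive `R`-module. Then
`Hom_R(M, N)` is reflexive. -/
theorem result (R : Type u) [CommRing R] [IsDomain R] [IsNoetherianRing R]
    (M N : Type u) [AddCommGroup M] [Module R M] [Module.Finite R M] [AddCommGroup N] [Module R N] [Module.Finite R N]
    [Module.IsReflexive R N] : Module.IsReflexive R (M →ₗ[R] N) := by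
  obtain ⟨b, q, hq⟩ := Module.Finite.exists_fin' R M
  have : Module.Finite R (LinearMap.ker q) := inferInstance
  obtain ⟨a, p, hp⟩ := Module.Finite.exists_fin' R (LinearMap.ker q)
  let p' : (Fin a → R) →ₗ[R] (Fin b → R) := (LinearMap.ker q).subtype ∘ₗ p
  have hrange : LinearMap.range p' = LinearMap.ker q := by
    rw [LinearMap.range_comp, LinearMap.range_eq_top.mpr hp, Submodule.map_top,
      Submodule.range_subtype]
  let Φ : (M →ₗ[R] N) →ₗ[R] ((Fin b → R) →ₗ[R] N) := LinearMap.lcomp R N q
  let Ψ : ((Fin b → R) →ₗ[R] N) →ₗ[R] ((Fin a → R) →ₗ[R] N) := LinearMap.lcomp R N p'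
  have hΦ : Function.Injective Φ := by
    intro h1 h2 h
    ext m
    obtain ⟨x, rfl⟩ := hq m
    exact LinearMap.congr_fun h x
  have hex : Function.Exact Φ Ψ := by
    intro h
    constructor
    · intro hh
      have hker : LinearMap.ker q ≤ LinearMap.ker h := by
        rw [← hrange]
        rintro _ ⟨x, rfl⟩
        rw [LinearMap.mem_ker]
        exact LinearMap.congr_fun hh x
      let e := q.quotKerEquivOfSurjective hq
      refine ⟨((LinearMap.ker q).liftQ h hker) ∘ₗ e.symm.toLinearMap, ?_⟩
      ext x
      show ((LinearMap.ker q).liftQ h hker) (e.symm (q (Pi.single x 1))) = h (Pi.single x 1)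
      have : e.symm (q (Pi.single x 1)) = Submodule.Quotient.mk (Pi.single x 1) := by
        rw [LinearEquiv.symm_apply_eq]
        rfl
      rw [this]
      rfl
    · rintro ⟨h0, rfl⟩
      ext x
      show h0 (q (p' (Pi.single x 1))) = 0
      have : p' (Pi.single x 1) ∈ LinearMap.ker q := by
        rw [← hrange]
        exact LinearMap.mem_range_self _ _
      rw [LinearMap.mem_ker.mp this, map_zero]
  have : Module.IsReflexive R (Fin b → N) := isReflexive_pi_fin N b
  have : Module.IsReflexive R ((Fin b → R) →ₗ[R] N) :=
    Module.equiv (Module.piEquiv (Fin b) R N)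
  have : Module.IsTorsionFree R ((Fin a → R) →ₗ[R] N) := inferInstance
  have : Module.Finite R (M →ₗ[R] N) := inferInstance
  exact Groth.Agent.S6872.isReflexive_of_exact R Φ Ψ hΦ hex

end Groth.Agent.S6875
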