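import Groth.Statements.S1348
import Mathlib
import Groth.Agent.Lib.SliceFlat50

set_option autoImplicit false
set_option linter.style.haveILetI false
universe u
open FlatMor

namespace Groth.Agent.S1348

section helpers

open AlgebraicGeometry CategoryTheory Limits

theorem germ_appLE {X Y : Scheme.{u}} (f : X ⟶ Y) {U : X.Opens} {V : Y.Opens}
    (hUV : U ≤ f ⁻¹ᵁ V) (x : X) (hx : x ∈ U) (r : Γ(Y, V)) :
    (f.stalkMap x).hom ((Y.presheaf.germ V (f x) (hUV hx)).hom r) =
      (X.presheaf.germ U x hx).hom ((f.appLE V U hUV).hom r) := by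
  have h1 := Scheme.Hom.germ_stalkMap_apply f V x (hUV hx) r
  rw [Scheme.Hom.appLE]
  have h2 := TopCat.Presheaf.germ_res_apply X.presheaf (homOfLE hUV) x hx (f.app V r)
  exact h1.trans h2.symm

/-- ring-level output transported to an affine chart. -/
theorem exists_basicOpen_slice {X S : Scheme.{u}} (f : X ⟶ S) [LocallyOfFinitePresentation f]
    (x : X) (hflat : (f.stalkMap x).hom.Flat) {U : X.Opens} {V : S.Opens} (hU : IsAffineOpen U)
    (hV : IsAffineOpen V) (hUV : U ≤ f ⁻¹ᵁ V) (hxU : x ∈ U) (h₀ : Γ(X, U))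
    (hreg : Ideal.Quotient.mk (Ideal.map (f.stalkMap x).hom
        (IsLocalRing.maximalIdeal (S.presheaf.stalk (f x)))) (X.presheaf.germ U x hxU h₀) ∈
      nonZeroDivisors (X.presheaf.stalk x ⧸ Ideal.map (f.stalkMap x).hom
        (IsLocalRing.maximalIdeal (S.presheaf.stalk (f x))))) :
    ∃ g : Γ(X, U), x ∈ X.basicOpen g ∧
      X.presheaf.map (homOfLE (X.basicOpen_le g)).op h₀ ∈ nonZeroDivisors Γ(X, X.basicOpen g) ∧
      ((f.appLE V (X.basicOpen g) ((X.basicOpen_le g).trans hUV)) ≫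
        CommRingCat.ofHom (Ideal.Quotient.mk (Ideal.span
          {(X.presheaf.map (homOfLE (X.basicOpen_le g)).op h₀ : Γ(X, X.basicOpen g))}))).hom.Flat := by
  have hxV : f x ∈ V := hUV hxU
  letI algAB : Algebra Γ(S, V) Γ(X, U) := (f.appLE V U hUV).hom.toAlgebra
  letI algAA' : Algebra Γ(S, V) (S.presheaf.stalk (f x)) :=
    TopCat.Presheaf.algebra_section_stalk S.presheaf (⟨f x, hxV⟩ : V)
  letI algBB' : Algebra Γ(X, U) (X.presheaf.stalk x) :=
    TopCat.Presheaf.algebra_section_stalk X.presheaf (⟨x, hxU⟩ : U)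
  letI algA'B' : Algebra (S.presheaf.stalk (f x)) (X.presheaf.stalk x) :=
    (f.stalkMap x).hom.toAlgebra
  letI algAB' : Algebra Γ(S, V) (X.presheaf.stalk x) :=
    ((f.stalkMap x).hom.comp (S.presheaf.germ V (f x) hxV).hom).toAlgebra
  haveI : IsScalarTower Γ(S, V) (S.presheaf.stalk (f x)) (X.presheaf.stalk x) :=
    IsScalarTower.of_algebraMap_eq' rfl
  haveI : IsScalarTower Γ(S, V) Γ(X, U) (X.presheaf.stalk x) :=
    IsScalarTower.of_algebraMap_eq fun r => germ_appLE f hUV x hxU r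
  haveI locA : IsLocalization.AtPrime (S.presheaf.stalk (f x))
      (hV.primeIdealOf ⟨f x, hxV⟩).asIdeal := hV.isLocalization_stalk ⟨f x, hxV⟩
  haveI locB : IsLocalization.AtPrime (X.presheaf.stalk x)
      (hU.primeIdealOf ⟨x, hxU⟩).asIdeal := hU.isLocalization_stalk ⟨x, hxU⟩
  haveI : Algebra.FinitePresentation Γ(S, V) Γ(X, U) := f.finitePresentation_appLE hV hU hUV
  haveI : IsLocalHom (algebraMap (S.presheaf.stalk (f x)) (X.presheaf.stalk x)) :=
    inferInstanceAs (IsLocalHom (f.stalkMap x).hom)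
  haveI : Module.Flat (S.presheaf.stalk (f x)) (X.presheaf.stalk x) := hflat
  obtain ⟨g, hgq, hg⟩ := Groth.Agent.Lib.SliceFlat50.exists_away_of_fibre_nzd
    (R := S.presheaf.stalk (f x)) (S := X.presheaf.stalk x)
    (hV.primeIdealOf ⟨f x, hxV⟩).asIdeal (hU.primeIdealOf ⟨x, hxU⟩).asIdeal h₀ hreg
  refine ⟨g, ?_, ?_⟩
  · rw [X.mem_basicOpen g x hxU]
    exact (IsLocalization.AtPrime.isUnit_to_map_iff (X.presheaf.stalk x)
      (hU.primeIdealOf ⟨x, hxU⟩).asIdeal g).mpr hgq
  · letI algAB1 : Algebra Γ(S, V) Γ(X, X.basicOpen g) :=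
      (f.appLE V (X.basicOpen g) ((X.basicOpen_le g).trans hUV)).hom.toAlgebra
    haveI : IsScalarTower Γ(S, V) Γ(X, U) Γ(X, X.basicOpen g) := .of_algebraMap_eq' (by
      change (f.appLE V (X.basicOpen g) ((X.basicOpen_le g).trans hUV)).hom =
        (X.presheaf.map (homOfLE (X.basicOpen_le g)).op).hom.comp (f.appLE V U hUV).hom
      rw [← CommRingCat.hom_comp, Scheme.Hom.appLE_map])
    haveI : IsLocalization.Away g Γ(X, X.basicOpen g) := hU.isLocalization_basicOpen g
    obtain ⟨h1, h2⟩ := hg Γ(X, X.basicOpen g)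
    refine ⟨h1, ?_⟩
    rw [CommRingCat.hom_comp]
    exact (RingHom.flat_algebraMap_iff).mpr h2

end helpers

open AlgebraicGeometry CategoryTheory Limits in
/-- Let f be locally of finite presentation and flat at a point x with image s, and let h be an element
of the maximal ideal of the local ring at x whose image in the local ring of the fibre (the local
ring at x modulo the ideal generated by the maximal ideal at s) is a nonzerodivisor. Then there is
an affine open neighbourhood U of x and a nonzerodivisor of its coordinate ring with germ h at x (so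
its zero locus is an effective Cartier divisor of U through x) whose zero scheme is flat and locally
of finite presentation over the base. -/
theorem result {X S : Scheme.{u}} (f : X ⟶ S) [LocallyOfFinitePresentation f] (x : X)
    (hflat : (f.stalkMap x).hom.Flat) (h : X.presheaf.stalk x) (hm : h ∈ IsLocalRing.maximalIdeal (X.presheaf.stalk x))
    (hreg : Ideal.Quotient.mk (Ideal.map (f.stalkMap x).hom (IsLocalRing.maximalIdeal (S.presheaf.stalk (f x)))) h ∈
      nonZeroDivisors (X.presheaf.stalk x ⧸ Ideal.map (f.stalkMap x).hom (IsLocalRing.maximalIdeal (S.presheaf.stalk (f x))))) :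
    ∃ (U : X.Opens) (hU : IsAffineOpen U) (hx : x ∈ U) (h' : Γ(X, U)), X.presheaf.germ U x hx h' = h ∧ h' ∈ nonZeroDivisors Γ(X, U) ∧
      Flat (Spec.map (CommRingCat.ofHom (Ideal.Quotient.mk (Ideal.span {h'}))) ≫ hU.fromSpec ≫ f) ∧
      LocallyOfFinitePresentation (Spec.map (CommRingCat.ofHom (Ideal.Quotient.mk (Ideal.span {h'}))) ≫ hU.fromSpec ≫ f) := by
  obtain ⟨V, hV, hxV⟩ : ∃ V : S.Opens, IsAffineOpen V ∧ f x ∈ V := by
    obtain ⟨_, ⟨V, hV, rfl⟩, hxV, -⟩ :=
      S.isBasis_affineOpens.exists_subset_of_mem_open (Set.mem_univ (f x)) isOpen_univ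
    exact ⟨V, hV, hxV⟩
  obtain ⟨W, hxW, s, hs⟩ := TopCat.Presheaf.exists_germ_eq X.presheaf h
  obtain ⟨U, hU, hxU, hUW, hUV⟩ :
      ∃ U : X.Opens, IsAffineOpen U ∧ x ∈ U ∧ U ≤ W ∧ U ≤ f ⁻¹ᵁ V := by
    obtain ⟨_, ⟨U, hU, rfl⟩, hxU, hUV⟩ :=
      X.isBasis_affineOpens.exists_subset_of_mem_open
        (show x ∈ ((W ⊓ f ⁻¹ᵁ V : X.Opens) : Set X) from ⟨hxW, hxV⟩) (W ⊓ f ⁻¹ᵁ V).isOpen
    exact ⟨U, hU, hxU, fun y hy => (hUV hy).1, fun y hy => (hUV hy).2⟩
  let h₀ : Γ(X, U) := X.presheaf.map (homOfLE hUW).op s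
  have hh₀ : X.presheaf.germ U x hxU h₀ = h := by
    rw [← hs]
    exact TopCat.Presheaf.germ_res_apply X.presheaf (homOfLE hUW) x hxU s
  obtain ⟨g, hxg, hnzd, hfl⟩ := exists_basicOpen_slice f x hflat hU hV hUV hxU h₀
    (by rw [hh₀]; exact hreg)
  have e : X.basicOpen g ≤ f ⁻¹ᵁ V := (X.basicOpen_le g).trans hUV
  refine ⟨X.basicOpen g, hU.basicOpen g, hxg,
    X.presheaf.map (homOfLE (X.basicOpen_le g)).op h₀, ?_, hnzd, ?_, ?_⟩
  · rw [← hh₀]
    exact TopCat.Presheaf.germ_res_apply X.presheaf (homOfLE (X.basicOpen_le g)) x hxg h₀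
  · rw [← IsAffineOpen.SpecMap_appLE_fromSpec f hV (hU.basicOpen g) e, ← Category.assoc,
      ← Spec.map_comp]
    haveI : Flat (Spec.map (f.appLE V (X.basicOpen g) e ≫ CommRingCat.ofHom
        (Ideal.Quotient.mk (Ideal.span
          {(X.presheaf.map (homOfLE (X.basicOpen_le g)).op h₀ : Γ(X, X.basicOpen g))})))) :=
      Flat.SpecMap_iff.mpr hfl
    infer_instance
  · rw [← IsAffineOpen.SpecMap_appLE_fromSpec f hV (hU.basicOpen g) e, ← Category.assoc,
      ← Spec.map_comp]
    haveI : LocallyOfFinitePresentation (Spec.map (f.appLE V (X.basicOpen g) e ≫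
        CommRingCat.ofHom (Ideal.Quotient.mk (Ideal.span
          {(X.presheaf.map (homOfLE (X.basicOpen_le g)).op h₀ : Γ(X, X.basicOpen g))})))) := by
      rw [HasRingHomProperty.Spec_iff (P := @LocallyOfFinitePresentation), CommRingCat.hom_comp]
      refine RingHom.FinitePresentation.comp ?_ (f.finitePresentation_appLE hV (hU.basicOpen g) e)
      exact RingHom.FinitePresentation.of_surjective _ Ideal.Quotient.mk_surjective (by
        rw [CommRingCat.hom_ofHom, Ideal.mk_ker]
        exact ⟨{X.presheaf.map (homOfLE (X.basicOpen_le g)).op h₀}, by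
          rw [Finset.coe_singleton]⟩)
    infer_instance

end Groth.Agent.S1348
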