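import Groth.Statements.S1459
import Mathlib
import Groth.Agent.Lib.RegSeqSpread50
import Groth.Agent.Lib.RelRegImmBC

set_option autoImplicit false
set_option linter.style.haveILetI false
universe u
open FlatMor

namespace Groth.Agent.S1459

section helpers

open CategoryTheory CategoryTheory.Limits AlgebraicGeometry TopologicalSpace
open RingTheory.Sequence


open Groth.Agent.Lib.RegSeqSpread50 Groth.Agent.Lib.RelRegImmBC

/-- transport of good sequences along ring isomorphisms compatible with the `A`-algebra structures -/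
theorem goodSeq_of_ringEquiv {A P P' : Type u} [CommRing A] [CommRing P] [CommRing P']
    [Algebra A P] [Algebra A P'] (e : P ≃+* P')
    (he : ∀ a, e (algebraMap A P a) = algebraMap A P' a) {rs : List P} (h : GoodSeq A P rs) :
    GoodSeq A P' (rs.map e) := by
  let e' : P ≃ₐ[A] P' := AlgEquiv.ofRingEquiv (f := e) he
  refine ⟨(isWeaklyRegular_map_ringEquiv e rs).mp h.1, fun i => ?_⟩
  have hI : Ideal.ofList ((rs.map e).take i) = (Ideal.ofList (rs.take i)).map (e' : P →+* P') := by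
    rw [← List.map_take, Ideal.map_ofList]
    rfl
  haveI := h.2 i
  exact Module.Flat.of_linearEquiv (Ideal.quotientEquivAlg _ _ e' hI).symm.toLinearEquiv

theorem appTop_aux {X : Scheme.{u}} {U : X.Opens} (hU : IsAffineOpen U) {C : CommRingCat.{u}}
    (φ : Γ(X, U) ⟶ C) :
    (Spec.map φ ≫ hU.isoSpec.inv).appTop = U.topIso.hom ≫ φ ≫ (Scheme.ΓSpecIso C).inv := by
  rw [Scheme.Hom.comp_appTop, hU.isoSpec_inv_appTop, Category.assoc,
    Scheme.ΓSpecIso_inv_naturality]

theorem ker_appTop_aux {X : Scheme.{u}} {U : X.Opens} (hU : IsAffineOpen U) (J : Ideal Γ(X, U)) :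
    RingHom.ker (Spec.map (CommRingCat.ofHom (Ideal.Quotient.mk J)) ≫ hU.isoSpec.inv).appTop.hom =
      J.comap U.topIso.hom.hom := by
  rw [appTop_aux]
  have hinj : Function.Injective (Scheme.ΓSpecIso (CommRingCat.of (Γ(X, U) ⧸ J))).inv.hom :=
    (ConcreteCategory.bijective_of_isIso (Scheme.ΓSpecIso (CommRingCat.of (Γ(X, U) ⧸ J))).inv).1
  ext x
  rw [RingHom.mem_ker, Ideal.mem_comap, CommRingCat.hom_comp, CommRingCat.hom_comp,
    RingHom.comp_apply, RingHom.comp_apply, map_eq_zero_iff _ hinj, CommRingCat.hom_ofHom,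
    Ideal.Quotient.eq_zero_iff_mem]

theorem appLE_topIso {X S : Scheme.{u}} (f : X ⟶ S) {U : X.Opens} {V : S.Opens}
    (hUV : U ≤ f ⁻¹ᵁ V) (e : (⊤ : (U : Scheme.{u}).Opens) ≤ (U.ι ≫ f) ⁻¹ᵁ V) :
    (U.ι ≫ f).appLE V ⊤ e = f.appLE V U hUV ≫ U.topIso.inv := by
  have e' : (⊤ : (U : Scheme.{u}).Opens) ≤ U.ι ⁻¹ᵁ (f ⁻¹ᵁ V) := e
  have h1 : (U.ι ≫ f).appLE V ⊤ e = f.app V ≫ U.ι.appLE (f ⁻¹ᵁ V) ⊤ e' :=
    Scheme.Hom.comp_appLE _ _ _ _ _
  rw [h1, Scheme.Opens.ι_appLE, Scheme.Hom.appLE, Category.assoc, Scheme.Opens.topIso_inv]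
  congr 1
  refine Eq.trans ?_ (X.presheaf.map_comp _ _)
  rfl




/-- base change of a closed immersion into an affine scheme cut out by a good sequence -/
theorem isRegularClosedImmersion_of_isPullback {Z Y S S' X' Z' : Scheme.{u}} (fY : Y ⟶ S)
    (i : Z ⟶ Y) [IsClosedImmersion i] [IsAffine Y] (V : S.Opens) (hV : IsAffineOpen V)
    (hYV : (⊤ : Y.Opens) ≤ fY ⁻¹ᵁ V) (rs : List Γ(Y, ⊤))
    (hker : RingHom.ker (i.app ⊤).hom = Ideal.ofList rs)
    (hgood : letI := (fY.appLE V ⊤ hYV).hom.toAlgebra; GoodSeq Γ(S, V) Γ(Y, ⊤) rs)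
    (g : S' ⟶ S) (gX : X' ⟶ Y) (f' : X' ⟶ S') (hsq2 : IsPullback gX f' fY g)
    (g' : Z' ⟶ Z) (i' : Z' ⟶ X') (hsq1 : IsPullback g' i' i gX) :
    Mor2.IsRegularClosedImmersion i' := by
  haveI : IsClosedImmersion i' := MorphismProperty.of_isPullback (P := @IsClosedImmersion) hsq1
    inferInstance
  refine ⟨inferInstance, fun z' => ?_⟩
  have hU₁ : IsAffineOpen (⊤ : Y.Opens) := isAffineOpen_top Y
  have hgs : g (f' (i' z')) ∈ V := by
    have : g (f' (i' z')) = fY (gX (i' z')) := by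
      show (f' ≫ g) (i' z') = (gX ≫ fY) (i' z')
      rw [hsq2.w]
    rw [this]
    exact hYV (show gX (i' z') ∈ (⊤ : Y.Opens) from trivial)
  obtain ⟨W', hW', hsW', hW'le⟩ := TopologicalSpace.Opens.isBasis_iff_nbhd.mp S'.isBasis_affineOpens
    (show f' (i' z') ∈ g ⁻¹ᵁ V from hgs)
  set U' : X'.Opens := gX ⁻¹ᵁ ⊤ ⊓ f' ⁻¹ᵁ W' with hU'def
  have hz'U' : i' z' ∈ U' := ⟨trivial, hsW'⟩
  have hiso := isIso_pushoutSection_of_isAffineOpen hsq2 hW'le hYV hU'def hV hW' hU₁
  have hpo := (isIso_pushoutSection_iff hsq2 hW'le hYV hU'def).mp hiso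
  have hU' : IsAffineOpen U' := by
    have : IsAffine (V : Scheme) := hV
    have : IsAffine (W' : Scheme) := hW'
    have : IsAffine ((⊤ : Y.Opens) : Scheme) := hU₁
    exact IsAffine.of_isIso (Scheme.Hom.isPullback_resLE hsq2 hW'le hYV hU'def).isoPullback.hom
  have hle' : U' ≤ gX ⁻¹ᵁ ⊤ := inf_le_left
  have hcl₁ : IsClosedImmersion (i ∣_ (⊤ : Y.Opens)) := inferInstance
  obtain ⟨hcl', hker'⟩ := chart_baseChange' hsq1 hU₁ hcl₁ hU' hle'
  -- ring level
  letI : Algebra Γ(S, V) Γ(Y, ⊤) := (fY.appLE V ⊤ hYV).hom.toAlgebra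
  letI : Algebra Γ(S, V) Γ(S', W') := (g.appLE V W' hW'le).hom.toAlgebra
  letI : Algebra Γ(Y, ⊤) Γ(X', U') := (gX.appLE ⊤ U' hle').hom.toAlgebra
  letI : Algebra Γ(S', W') Γ(X', U') := (f'.appLE W' U' inf_le_right).hom.toAlgebra
  letI : Algebra Γ(S, V) Γ(X', U') :=
    ((algebraMap Γ(Y, ⊤) Γ(X', U')).comp (algebraMap Γ(S, V) Γ(Y, ⊤))).toAlgebra
  haveI : IsScalarTower Γ(S, V) Γ(Y, ⊤) Γ(X', U') := .of_algebraMap_eq fun _ => rfl
  haveI : IsScalarTower Γ(S, V) Γ(S', W') Γ(X', U') := .of_algebraMap_eq fun r => by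
    have := congrArg (fun φ => φ.hom r) hpo.w
    exact this
  haveI : Algebra.IsPushout Γ(S, V) Γ(S', W') Γ(Y, ⊤) Γ(X', U') :=
    CommRingCat.isPushout_iff_isPushout.mp hpo.flip
  have hwr := isWeaklyRegular_of_isPushout (R := Γ(S, V)) (R' := Γ(S', W')) (P' := Γ(X', U')) rs hgood
  have hkey : i'.ker.ideal ⟨U', hU'⟩ = Ideal.ofList (rs.map (algebraMap Γ(Y, ⊤) Γ(X', U'))) := by
    rw [Scheme.Hom.ker_apply, hker', hker, Ideal.map_ofList]
    rfl
  refine ⟨U', hU', hz'U', rs.map (algebraMap Γ(Y, ⊤) Γ(X', U')), ⟨hwr, ?_⟩, hkey⟩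
  intro htop
  have hideal : i'.ker.ideal ⟨U', hU'⟩ = ⊤ := by
    rw [hkey]
    have := htop.symm
    rwa [smul_eq_mul, Ideal.mul_top] at this
  have hmem : i' z' ∈ i'.ker.support := i'.range_subset_ker_support ⟨z', rfl⟩
  rw [Scheme.IdealSheafData.mem_support_iff_of_mem (U := ⟨U', hU'⟩) hz'U', hideal] at hmem
  simp at hmem
  exact hmem hz'U'


/-- a closed immersion into an affine scheme cut out by a weakly regular sequence is a regular closed
immersion -/
theorem isRegularClosedImmersion_of_goodSeq {Z Y : Scheme.{u}} (i : Z ⟶ Y) [IsClosedImmersion i]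
    [IsAffine Y] (rs : List Γ(Y, ⊤)) (hker : RingHom.ker (i.app ⊤).hom = Ideal.ofList rs)
    (hreg : IsWeaklyRegular Γ(Y, ⊤) rs) : Mor2.IsRegularClosedImmersion i := by
  refine ⟨inferInstance, fun z => ?_⟩
  have hU₁ : IsAffineOpen (⊤ : Y.Opens) := isAffineOpen_top Y
  have hkey : i.ker.ideal ⟨⊤, hU₁⟩ = Ideal.ofList rs := by rw [Scheme.Hom.ker_apply, hker]
  refine ⟨⊤, hU₁, trivial, rs, ⟨hreg, ?_⟩, hkey⟩
  intro htop
  have hideal : i.ker.ideal ⟨⊤, hU₁⟩ = ⊤ := by
    rw [hkey]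
    have := htop.symm
    rwa [smul_eq_mul, Ideal.mul_top] at this
  have hmem : i z ∈ i.ker.support := i.range_subset_ker_support ⟨z, rfl⟩
  rw [Scheme.IdealSheafData.mem_support_iff_of_mem (U := ⟨⊤, hU₁⟩) trivial, hideal] at hmem
  simp at hmem

/-- simultaneous lifting of finitely many germs to an affine open neighbourhood -/
theorem exists_lifts {X : Scheme.{u}} (x : X) (O : X.Opens) (hxO : x ∈ O)
    (hs : List (X.presheaf.stalk x)) :
    ∃ (U : X.Opens) (_ : IsAffineOpen U) (hx : x ∈ U), U ≤ O ∧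
      ∃ hs₀ : List Γ(X, U), hs₀.map (X.presheaf.germ U x hx) = hs := by
  induction hs with
  | nil =>
    obtain ⟨_, ⟨U, hU, rfl⟩, hxU, hUO⟩ :=
      X.isBasis_affineOpens.exists_subset_of_mem_open hxO O.isOpen
    exact ⟨U, hU, hxU, hUO, [], rfl⟩
  | cons h t ih =>
    obtain ⟨U₁, hU₁, hx₁, hle₁, t₀, ht₀⟩ := ih
    obtain ⟨W, hxW, s, hs⟩ := TopCat.Presheaf.exists_germ_eq X.presheaf h
    obtain ⟨_, ⟨U, hU, rfl⟩, hxU, hUle⟩ :=
      X.isBasis_affineOpens.exists_subset_of_mem_open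
        (show x ∈ ((U₁ ⊓ W : X.Opens) : Set X) from ⟨hx₁, hxW⟩) (U₁ ⊓ W).isOpen
    have hUU₁ : U ≤ U₁ := fun y hy => (hUle hy).1
    have hUW : U ≤ W := fun y hy => (hUle hy).2
    refine ⟨U, hU, hxU, hUU₁.trans hle₁,
      (X.presheaf.map (homOfLE hUW).op s) :: t₀.map (X.presheaf.map (homOfLE hUU₁).op), ?_⟩
    rw [List.map_cons, List.map_map, ← hs, ← ht₀]
    congr 1
    · exact TopCat.Presheaf.germ_res_apply X.presheaf (homOfLE hUW) x hxU s
    · apply List.map_congr_left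
      intro a _
      exact TopCat.Presheaf.germ_res_apply X.presheaf (homOfLE hUU₁) x hxU a

theorem germ_appLE {X Y : Scheme.{u}} (f : X ⟶ Y) {U : X.Opens} {V : Y.Opens}
    (hUV : U ≤ f ⁻¹ᵁ V) (x : X) (hx : x ∈ U) (r : Γ(Y, V)) :
    (f.stalkMap x).hom ((Y.presheaf.germ V (f x) (hUV hx)).hom r) =
      (X.presheaf.germ U x hx).hom ((f.appLE V U hUV).hom r) := by
  have h1 := Scheme.Hom.germ_stalkMap_apply f V x (hUV hx) r
  rw [Scheme.Hom.appLE]
  have h2 := TopCat.Presheaf.germ_res_apply X.presheaf (homOfLE hUV) x hx (f.app V r)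
  exact h1.trans h2.symm

/-- ring-level output transported to an affine chart. -/
theorem exists_basicOpen_goodSeq {X S : Scheme.{u}} (f : X ⟶ S) [LocallyOfFinitePresentation f]
    (x : X) (hflat : (f.stalkMap x).hom.Flat) {U : X.Opens} {V : S.Opens} (hU : IsAffineOpen U)
    (hV : IsAffineOpen V) (hUV : U ≤ f ⁻¹ᵁ V) (hxU : x ∈ U) (hs₀ : List Γ(X, U))
    (hreg : IsRegular (X.presheaf.stalk x ⧸ Ideal.map (f.stalkMap x).hom
        (IsLocalRing.maximalIdeal (S.presheaf.stalk (f x))))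
      ((hs₀.map (X.presheaf.germ U x hxU)).map (Ideal.Quotient.mk (Ideal.map (f.stalkMap x).hom
        (IsLocalRing.maximalIdeal (S.presheaf.stalk (f x))))))) :
    ∃ g : Γ(X, U), x ∈ X.basicOpen g ∧
      letI := (f.appLE V (X.basicOpen g) ((X.basicOpen_le g).trans hUV)).hom.toAlgebra
      GoodSeq Γ(S, V) Γ(X, X.basicOpen g)
        (hs₀.map (X.presheaf.map (homOfLE (X.basicOpen_le g)).op).hom) := by
  have hxV : f x ∈ V := hUV hxU
  letI algAB : Algebra Γ(S, V) Γ(X, U) := (f.appLE V U hUV).hom.toAlgebra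
  letI algAA' : Algebra Γ(S, V) (S.presheaf.stalk (f x)) :=
    TopCat.Presheaf.algebra_section_stalk S.presheaf (⟨f x, hxV⟩ : V)
  letI algBB' : Algebra Γ(X, U) (X.presheaf.stalk x) :=
    TopCat.Presheaf.algebra_section_stalk X.presheaf (⟨x, hxU⟩ : U)
  letI algA'B' : Algebra (S.presheaf.stalk (f x)) (X.presheaf.stalk x) :=
    (f.stalkMap x).hom.toAlgebra
  letI algAB' : Algebra Γ(S, V) (X.presheaf.stalk x) :=
    ((f.stalkMap x).hom.comp (S.presheaf.germ V (f x) hxV).hom).toAlgebra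
  haveI : IsScalarTower Γ(S, V) (S.presheaf.stalk (f x)) (X.presheaf.stalk x) :=
    IsScalarTower.of_algebraMap_eq' rfl
  haveI : IsScalarTower Γ(S, V) Γ(X, U) (X.presheaf.stalk x) :=
    IsScalarTower.of_algebraMap_eq fun r => germ_appLE f hUV x hxU r
  haveI locA : IsLocalization.AtPrime (S.presheaf.stalk (f x))
      (hV.primeIdealOf ⟨f x, hxV⟩).asIdeal := hV.isLocalization_stalk ⟨f x, hxV⟩
  haveI locB : IsLocalization.AtPrime (X.presheaf.stalk x)
      (hU.primeIdealOf ⟨x, hxU⟩).asIdeal := hU.isLocalization_stalk ⟨x, hxU⟩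
  haveI : Algebra.FinitePresentation Γ(S, V) Γ(X, U) := f.finitePresentation_appLE hV hU hUV
  haveI : IsLocalHom (algebraMap (S.presheaf.stalk (f x)) (X.presheaf.stalk x)) :=
    inferInstanceAs (IsLocalHom (f.stalkMap x).hom)
  haveI : Module.Flat (S.presheaf.stalk (f x)) (X.presheaf.stalk x) := hflat
  -- the sections lie in the prime of `x`
  have hmem : ∀ h ∈ hs₀, h ∈ (hU.primeIdealOf ⟨x, hxU⟩).asIdeal := by
    intro h hh
    by_contra hnot
    have hu : IsUnit (algebraMap Γ(X, U) (X.presheaf.stalk x) h) :=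
      (IsLocalization.AtPrime.isUnit_to_map_iff (X.presheaf.stalk x)
        (hU.primeIdealOf ⟨x, hxU⟩).asIdeal h).mpr hnot
    apply hreg.top_ne_smul
    symm
    rw [smul_eq_mul, Ideal.mul_top]
    refine Ideal.eq_top_of_isUnit_mem _ (x := Ideal.Quotient.mk _ (X.presheaf.germ U x hxU h))
      ?_ (hu.map _)
    exact Ideal.subset_span (List.mem_map_of_mem (List.mem_map_of_mem hh))
  obtain ⟨g, hgq, hg⟩ := Groth.Agent.Lib.RegSeqSpread50.exists_away_of_fibre_regular
    (R := S.presheaf.stalk (f x)) (S := X.presheaf.stalk x)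
    (hV.primeIdealOf ⟨f x, hxV⟩).asIdeal (hU.primeIdealOf ⟨x, hxU⟩).asIdeal hs₀ hmem
    hreg.toIsWeaklyRegular
  refine ⟨g, ?_, ?_⟩
  · rw [X.mem_basicOpen g x hxU]
    exact (IsLocalization.AtPrime.isUnit_to_map_iff (X.presheaf.stalk x)
      (hU.primeIdealOf ⟨x, hxU⟩).asIdeal g).mpr hgq
  · letI algAB1 : Algebra Γ(S, V) Γ(X, X.basicOpen g) :=
      (f.appLE V (X.basicOpen g) ((X.basicOpen_le g).trans hUV)).hom.toAlgebra
    haveI : IsScalarTower Γ(S, V) Γ(X, U) Γ(X, X.basicOpen g) := .of_algebraMap_eq' (by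
      change (f.appLE V (X.basicOpen g) ((X.basicOpen_le g).trans hUV)).hom =
        (X.presheaf.map (homOfLE (X.basicOpen_le g)).op).hom.comp (f.appLE V U hUV).hom
      rw [← CommRingCat.hom_comp, Scheme.Hom.appLE_map])
    haveI : IsLocalization.Away g Γ(X, X.basicOpen g) := hU.isLocalization_basicOpen g
    exact hg Γ(X, X.basicOpen g)

/-- the elements of a sequence regular on a nonzero quotient of a local ring are non-units -/
theorem mem_maximalIdeal_of_isRegular {R : Type u} [CommRing R] [IsLocalRing R] (I : Ideal R)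
    (hs : List R) (hreg : IsRegular (R ⧸ I) (hs.map (Ideal.Quotient.mk I))) :
    ∀ h ∈ hs, h ∈ IsLocalRing.maximalIdeal R := by
  intro h hh
  by_contra hnot
  have hu : IsUnit h := by
    by_contra hnu
    exact hnot ((IsLocalRing.mem_maximalIdeal h).mpr hnu)
  apply hreg.top_ne_smul
  symm
  rw [smul_eq_mul, Ideal.mul_top]
  refine Ideal.eq_top_of_isUnit_mem _ (x := Ideal.Quotient.mk I h) ?_ (hu.map _)
  exact Ideal.subset_span (List.mem_map_of_mem hh)

/-- base change square of the closed immersion -/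
theorem isPullback_map_aux {Z Y S S' : Scheme.{u}} (i : Z ⟶ Y) (fY : Y ⟶ S) (iS : Z ⟶ S)
    (hiS : iS = i ≫ fY) (g : S' ⟶ S) (h1 : iS ≫ 𝟙 S = i ≫ fY) (h2 : g ≫ 𝟙 S = 𝟙 S' ≫ g) :
    IsPullback (pullback.fst iS g) (pullback.map iS g fY g i (𝟙 S') (𝟙 S) h1 h2) i
      (pullback.fst fY g) := by
  subst hiS
  refine (IsPullback.of_right ?_ ?_ (IsPullback.of_hasPullback fY g).flip).flip
  · have : pullback.map (i ≫ fY) g fY g i (𝟙 S') (𝟙 S) h1 h2 ≫ pullback.snd fY g =
        pullback.snd (i ≫ fY) g := by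
      rw [pullback.lift_snd, Category.comp_id]
    rw [this]
    exact (IsPullback.of_hasPullback (i ≫ fY) g).flip
  · exact pullback.lift_fst _ _ _

end helpers

open AlgebraicGeometry CategoryTheory Limits in
/-- Let f : X → S be locally of finite presentation and flat at x with image s, and let h_1, …, h_r be
elements of O_{X,x} whose images in O_{X,x} / m_s O_{X,x} form a regular sequence. Then there are an
affine open U ∋ x and sections on U with these germs such that the closed subscheme Z of U they cut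
out is a regular closed immersion whose image contains x, Z → S is flat and locally of finite
presentation, and the base change of Z → U along any S' → S is again a regular closed immersion. -/
theorem result {X S : Scheme.{u}} (f : X ⟶ S) [LocallyOfFinitePresentation f] (x : X)
    (hflat : (f.stalkMap x).hom.Flat) (hs : List ↑(X.presheaf.stalk x))
    (hreg : RingTheory.Sequence.IsRegular (↑(X.presheaf.stalk x) ⧸ Ideal.map (f.stalkMap x).hom (IsLocalRing.maximalIdeal ↑(S.presheaf.stalk (f x))))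
      (hs.map (Ideal.Quotient.mk (Ideal.map (f.stalkMap x).hom (IsLocalRing.maximalIdeal ↑(S.presheaf.stalk (f x))))))) :
    ∃ (U : X.Opens) (hU : IsAffineOpen U) (hx : x ∈ U) (hs' : List Γ(X, U)), hs'.map (X.presheaf.germ U x hx) = hs ∧
      Mor2.IsRegularClosedImmersion (Spec.map (CommRingCat.ofHom (Ideal.Quotient.mk (Ideal.ofList hs'))) ≫ hU.isoSpec.inv) ∧
      x ∈ Set.range ⇑(Spec.map (CommRingCat.ofHom (Ideal.Quotient.mk (Ideal.ofList hs'))) ≫ hU.fromSpec) ∧
      Flat (Spec.map (CommRingCat.ofHom (Ideal.Quotient.mk (Ideal.ofList hs'))) ≫ hU.fromSpec ≫ f) ∧ LocallyOfFinitePresentation (Spec.map (CommRingCat.ofHom (Ideal.Quotient.mk (Ideal.ofList hs'))) ≫ hU.fromSpec ≫ f) ∧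
      ∀ (S' : Scheme.{u}) (g : S' ⟶ S), Mor2.IsRegularClosedImmersion
        (pullback.map (Spec.map (CommRingCat.ofHom (Ideal.Quotient.mk (Ideal.ofList hs'))) ≫ hU.isoSpec.inv ≫ U.ι ≫ f) g (U.ι ≫ f) g (Spec.map (CommRingCat.ofHom (Ideal.Quotient.mk (Ideal.ofList hs'))) ≫ hU.isoSpec.inv) (𝟙 S') (𝟙 S)
          (Category.comp_id _) ((Category.comp_id g).trans (Category.id_comp g).symm)) := by
  classical
  obtain ⟨V, hV, hxV⟩ : ∃ V : S.Opens, IsAffineOpen V ∧ f x ∈ V := by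
    obtain ⟨_, ⟨V, hV, rfl⟩, hxV, -⟩ :=
      S.isBasis_affineOpens.exists_subset_of_mem_open (Set.mem_univ (f x)) isOpen_univ
    exact ⟨V, hV, hxV⟩
  obtain ⟨U₀, hU₀, hxU₀, hU₀V, hs₀, hhs₀⟩ := exists_lifts x (f ⁻¹ᵁ V) hxV hs
  obtain ⟨g, hxg, hgood⟩ := exists_basicOpen_goodSeq f x hflat hU₀ hV hU₀V hxU₀ hs₀
    (by rw [hhs₀]; exact hreg)
  have hU : IsAffineOpen (X.basicOpen g) := hU₀.basicOpen g
  have e : X.basicOpen g ≤ f ⁻¹ᵁ V := (X.basicOpen_le g).trans hU₀V
  letI algAB : Algebra Γ(S, V) Γ(X, X.basicOpen g) := (f.appLE V (X.basicOpen g) e).hom.toAlgebra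
  set hs' : List Γ(X, X.basicOpen g) :=
    hs₀.map (X.presheaf.map (homOfLE (X.basicOpen_le g)).op).hom with hhs'
  have hgerm : hs'.map (X.presheaf.germ (X.basicOpen g) x hxg) = hs := by
    rw [hhs', List.map_map, ← hhs₀]
    apply List.map_congr_left
    intro a _
    exact TopCat.Presheaf.germ_res_apply X.presheaf (homOfLE (X.basicOpen_le g)) x hxg a
  -- the ideal lies in the prime of `x`
  have hmax := mem_maximalIdeal_of_isRegular _ hs hreg
  have hle : Ideal.ofList hs' ≤ (hU.primeIdealOf ⟨x, hxg⟩).asIdeal := by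
    rw [Ideal.ofList, Ideal.span_le]
    intro h' hh'
    letI := TopCat.Presheaf.algebra_section_stalk X.presheaf (⟨x, hxg⟩ : X.basicOpen g)
    haveI := hU.isLocalization_stalk ⟨x, hxg⟩
    by_contra hnot
    have hu : IsUnit (algebraMap Γ(X, X.basicOpen g) (X.presheaf.stalk x) h') :=
      (IsLocalization.AtPrime.isUnit_to_map_iff (X.presheaf.stalk x)
        (hU.primeIdealOf ⟨x, hxg⟩).asIdeal h').mpr hnot
    have hmem : X.presheaf.germ (X.basicOpen g) x hxg h' ∈ hs := by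
      rw [← hgerm]
      exact List.mem_map_of_mem hh'
    exact (IsLocalRing.mem_maximalIdeal _).mp (hmax _ hmem) hu
  -- transport to the affine scheme `U`
  haveI : IsAffine (X.basicOpen g : Scheme.{u}) := hU
  have hYV : (⊤ : (X.basicOpen g : Scheme.{u}).Opens) ≤ ((X.basicOpen g).ι ≫ f) ⁻¹ᵁ V :=
    fun y _ => e y.2
  let ε : Γ(X, X.basicOpen g) ≃+* Γ((X.basicOpen g : Scheme.{u}), ⊤) :=
    (X.basicOpen g).topIso.commRingCatIsoToRingEquiv.symm
  have hker : RingHom.ker ((Spec.map (CommRingCat.ofHom (Ideal.Quotient.mk (Ideal.ofList hs'))) ≫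
      hU.isoSpec.inv).app ⊤).hom = Ideal.ofList (hs'.map ε) := by
    have h1 := ker_appTop_aux hU (Ideal.ofList hs')
    rw [Scheme.Hom.appTop] at h1
    refine h1.trans ?_
    have h2 : Ideal.ofList (hs'.map ε) = (Ideal.ofList hs').map (ε : _ →+* _) :=
      (Ideal.map_ofList (ε : Γ(X, X.basicOpen g) →+* Γ((X.basicOpen g : Scheme.{u}), ⊤)) hs').symm
    rw [h2]
    exact (Ideal.map_symm (X.basicOpen g).topIso.commRingCatIsoToRingEquiv).symm
  have hgoodY : letI := (((X.basicOpen g).ι ≫ f).appLE V ⊤ hYV).hom.toAlgebra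
      Groth.Agent.Lib.RegSeqSpread50.GoodSeq Γ(S, V) Γ((X.basicOpen g : Scheme.{u}), ⊤)
        (hs'.map ε) := by
    letI := (((X.basicOpen g).ι ≫ f).appLE V ⊤ hYV).hom.toAlgebra
    refine goodSeq_of_ringEquiv ε (fun a => ?_) hgood
    exact (congr($(appLE_topIso f e hYV).hom a)).symm
  refine ⟨X.basicOpen g, hU, hxg, hs', hgerm, ?_, ?_, ?_, ?_, ?_⟩
  · exact isRegularClosedImmersion_of_goodSeq _ (hs'.map ε) hker hgoodY.1
  · obtain ⟨z, hz⟩ : hU.primeIdealOf ⟨x, hxg⟩ ∈ Set.range (PrimeSpectrum.comap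
        (Ideal.Quotient.mk (Ideal.ofList hs'))) := by
      rw [range_comap_of_surjective _ _ Ideal.Quotient.mk_surjective,
        PrimeSpectrum.mem_zeroLocus, Ideal.mk_ker]
      exact hle
    refine ⟨z, ?_⟩
    rw [Scheme.Hom.comp_apply]
    have : Spec.map (CommRingCat.ofHom (Ideal.Quotient.mk (Ideal.ofList hs'))) z =
        hU.primeIdealOf ⟨x, hxg⟩ := hz
    rw [this]
    exact hU.fromSpec_primeIdealOf ⟨x, hxg⟩
  · rw [← IsAffineOpen.SpecMap_appLE_fromSpec f hV hU e, ← Category.assoc, ← Spec.map_comp]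
    haveI : Flat (Spec.map (f.appLE V (X.basicOpen g) e ≫ CommRingCat.ofHom
        (Ideal.Quotient.mk (Ideal.ofList hs')))) := by
      refine Flat.SpecMap_iff.mpr ?_
      rw [CommRingCat.hom_comp]
      exact (RingHom.flat_algebraMap_iff).mpr hgood.flat_quot
    infer_instance
  · rw [← IsAffineOpen.SpecMap_appLE_fromSpec f hV hU e, ← Category.assoc, ← Spec.map_comp]
    haveI : LocallyOfFinitePresentation (Spec.map (f.appLE V (X.basicOpen g) e ≫
        CommRingCat.ofHom (Ideal.Quotient.mk (Ideal.ofList hs')))) := by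
      rw [HasRingHomProperty.Spec_iff (P := @LocallyOfFinitePresentation), CommRingCat.hom_comp]
      refine RingHom.FinitePresentation.comp ?_ (f.finitePresentation_appLE hV hU e)
      exact RingHom.FinitePresentation.of_surjective _ Ideal.Quotient.mk_surjective (by
        rw [CommRingCat.hom_ofHom, Ideal.mk_ker]
        exact ⟨hs'.toFinset, by rw [Ideal.ofList]; congr 1; ext y; simp⟩)
    infer_instance
  · intro S' g'
    have hsq1 := isPullback_map_aux
      (Spec.map (CommRingCat.ofHom (Ideal.Quotient.mk (Ideal.ofList hs'))) ≫ hU.isoSpec.inv)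
      ((X.basicOpen g).ι ≫ f)
      (Spec.map (CommRingCat.ofHom (Ideal.Quotient.mk (Ideal.ofList hs'))) ≫ hU.isoSpec.inv ≫
        (X.basicOpen g).ι ≫ f) (Category.assoc _ _ _).symm g' (Category.comp_id _)
      ((Category.comp_id g').trans (Category.id_comp g').symm)
    exact isRegularClosedImmersion_of_isPullback ((X.basicOpen g).ι ≫ f)
      (Spec.map (CommRingCat.ofHom (Ideal.Quotient.mk (Ideal.ofList hs'))) ≫ hU.isoSpec.inv)
      V hV hYV (hs'.map ε) hker hgoodY g' _ _ (IsPullback.of_hasPullback _ _) _ _ hsq1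

end Groth.Agent.S1459
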