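import Groth.Statements.S12292
import Groth.Agent.Lib.ExalT1

set_option autoImplicit false
universe u w m
open scoped TensorProduct
open DefT

namespace Groth.Agent.S12292

/-- Let A → B be a ring homomorphism and M a B-module. The equivalence classes of extensions of B by M
as A-algebras (surjections of A-algebras B' → B whose kernel is an ideal of square zero identified
with M, two extensions being equivalent when there is an isomorphism compatible with the identities
of B and M) are in bijection with T^1(B/A, M), computed from the choice-free presentation, the class
of the trivial extension B ⊕ M corresponding to zero. (The published statement calls the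
correspondence natural; this row asserts the existence of a bijection taking the trivial class to
zero.) -/
theorem result
    (A B : Type u) [CommRing A] [CommRing B] [Algebra A B] (M : Type u) [AddCommGroup M] [Module B M] :
    ∃ e : Exal.Exalcom A B M ≃ CotT.T1 (CotT.canon A B) M, e 0 = 0 := by
  let modR : Module (CotT.canon A B).toExtension.Ring M :=
    Module.compHom M (algebraMap (CotT.canon A B).toExtension.Ring B)
  have towR : IsScalarTower (CotT.canon A B).toExtension.Ring B M :=
    IsScalarTower.of_algebraMap_smul fun _ _ => rfl
  let modA : Module A M := Module.compHom M (algebraMap A B)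
  have towA : IsScalarTower A B M := IsScalarTower.of_algebraMap_smul fun _ _ => rfl
  have towAR : IsScalarTower A (CotT.canon A B).toExtension.Ring M :=
    IsScalarTower.of_algebraMap_smul fun a m => by
      change algebraMap (CotT.canon A B).toExtension.Ring B
        (algebraMap A (CotT.canon A B).toExtension.Ring a) • m = algebraMap A B a • m
      rw [← IsScalarTower.algebraMap_apply]
  have hlift : ∀ X : Exal.Ext A B M, ∃ s : (CotT.canon A B).toExtension.Ring →ₐ[A] X.E,
      ∀ r, X.proj (s r) = algebraMap (CotT.canon A B).toExtension.Ring B r := by
    intro X
    choose y hy using X.isExtension.proj_surjective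
    refine ⟨(MvPolynomial.aeval y : MvPolynomial B A →ₐ[A] X.E), fun r => ?_⟩
    have : X.proj.comp (MvPolynomial.aeval y : MvPolynomial B A →ₐ[A] X.E) =
        IsScalarTower.toAlgHom A (CotT.canon A B).toExtension.Ring B := by
      apply MvPolynomial.algHom_ext
      intro b
      change X.proj (MvPolynomial.aeval y (MvPolynomial.X b)) =
        algebraMap (Algebra.Generators.self A B).Ring B (MvPolynomial.X b)
      rw [MvPolynomial.aeval_X, hy, Algebra.Generators.algebraMap_apply, MvPolynomial.aeval_X]
      rfl
    exact congrArg (fun f => f r) this
  obtain ⟨e, he⟩ := Groth.Agent.Lib.ExalT1.exal_equiv_Y (CotT.canon A B).toExtension (M := M) hlift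
  refine ⟨e.trans (Groth.Agent.Lib.CotTIndep.T1equivY (CotT.canon A B) M).symm.toEquiv, ?_⟩
  rw [Equiv.trans_apply, he]
  exact map_zero (Groth.Agent.Lib.CotTIndep.T1equivY (CotT.canon A B) M).symm

end Groth.Agent.S12292
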