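import Groth.Statements.S5450
import Groth.Agent.Lib.RootDForm

set_option autoImplicit false
open RootD

namespace Groth.Agent.S5450

open Groth.Agent.Lib.RootDBasic Groth.Agent.Lib.RootDForm

theorem support_single_subset' {ι : Type*} {Δ : Set ι} {i : ι} (hi : i ∈ Δ) (n : ℕ) :
    (↑(Finsupp.single i n : ι →₀ ℕ).support : Set ι) ⊆ Δ := by
  intro k hk
  have := Finsupp.support_single_subset hk
  simp only [Finset.mem_singleton] at this
  rw [this]; exact hi

/-- A positive root (relative to a system of simple roots Δ) is simple if and only if it is not the sum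
of two positive roots. -/
theorem result {ι M N : Type*} [AddCommGroup M] [AddCommGroup N]
    (P : RootPairing ι ℤ M N) [Finite ι] (Δ : Set ι) (hΔ : RootD.IsSimpleSys P Δ)
    (k : ι) (hk : k ∈ RootD.posOf P Δ) :
    k ∈ Δ ↔ ¬ ∃ i j : ι, i ∈ RootD.posOf P Δ ∧ j ∈ RootD.posOf P Δ ∧ P.root k = P.root i + P.root j := by
  classical
  constructor
  · rintro hkΔ ⟨i, j, hi, hj, hsum⟩
    obtain ⟨ci, hci, hci'⟩ := (mem_natSpan_iff P Δ _).mp hi
    obtain ⟨cj, hcj, hcj'⟩ := (mem_natSpan_iff P Δ _).mp hj
    have hcomb : comb P (ci + cj) = comb P (Finsupp.single k 1) := by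
      rw [comb_add, hci', hcj', comb_single, one_smul, hsum]
    have hsupp : (↑(ci + cj).support : Set ι) ⊆ Δ := by
      intro l hl
      rcases Finset.mem_union.mp (Finsupp.support_add hl) with h | h
      · exact hci h
      · exact hcj h
    have heq := comb_injOn P hΔ.linInd _ _ hsupp (support_single_subset' hkΔ 1) hcomb
    have hk1 := DFunLike.congr_fun heq k
    simp only [Finsupp.coe_add, Pi.add_apply, Finsupp.single_eq_same] at hk1
    have hother : ∀ l, l ≠ k → ci l = 0 ∧ cj l = 0 := by
      intro l hl
      have := DFunLike.congr_fun heq l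
      simp only [Finsupp.coe_add, Pi.add_apply, Finsupp.single_apply, if_neg hl.symm] at this
      omega
    rcases Nat.eq_zero_or_pos (ci k) with h0 | h0
    · have : ci = 0 := by
        ext l
        by_cases hl : l = k
        · rw [hl, h0]; rfl
        · exact (hother l hl).1
      rw [this, comb_zero] at hci'
      exact root_ne_zero P i hci'.symm
    · have hcjk : cj k = 0 := by omega
      have : cj = 0 := by
        ext l
        by_cases hl : l = k
        · rw [hl, hcjk]; rfl
        · exact (hother l hl).2
      rw [this, comb_zero] at hcj'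
      exact root_ne_zero P j hcj'.symm
  · intro hnot
    by_contra hkΔ
    apply hnot
    obtain ⟨c, hc, hck⟩ := (mem_natSpan_iff P Δ _).mp hk
    have hk' : P.root k = ∑ d ∈ c.support, c d • P.root d := hck.symm
    obtain ⟨d, hd, hcd, hpair⟩ := exists_pairing_pos P c.support id c k hk'
    have hdΔ : d ∈ Δ := hc hd
    have hkd : k ≠ d := fun h => hkΔ (h ▸ hdΔ)
    obtain ⟨l, hl⟩ := exists_root_sub P k d hpair hkd
    refine ⟨d, l, root_mem_natSpan P hdΔ, ?_, by rw [hl]; abel⟩
    have hle : Finsupp.single d 1 ≤ c := by
      intro x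
      by_cases hx : x = d
      · subst hx; simp; exact hcd
      · simp [Ne.symm hx]
    have hsplit : c = (c - Finsupp.single d 1) + Finsupp.single d 1 :=
      (tsub_add_cancel_of_le hle).symm
    have hcomb : comb P c = comb P (c - Finsupp.single d 1) + P.root d := by
      conv_lhs => rw [hsplit]
      rw [comb_add, comb_single, one_smul]
    change P.root l ∈ natSpan P Δ
    rw [mem_natSpan_iff]
    refine ⟨c - Finsupp.single d 1, ?_, ?_⟩
    · intro x hx
      apply hc
      rw [Finset.mem_coe, Finsupp.mem_support_iff] at hx ⊢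
      intro h0
      apply hx
      simp [h0]
    · rw [hl, ← hck, hcomb]; abel

end Groth.Agent.S5450
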