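import Groth.Statements.S5452
import Mathlib.LinearAlgebra.RootSystem.Finite.Nondegenerate
import Mathlib.LinearAlgebra.RootSystem.WeylGroup

set_option autoImplicit false
open RootD

namespace Groth.Agent.S5452

/-- For an element of the Weyl group, `g • x - x` lies in the span of the roots. -/
lemma smul_sub_mem_rootSpan {ι M N : Type*} [AddCommGroup M] [AddCommGroup N]
    (P : RootPairing ι ℤ M N) {g : P.Aut} (hg : g ∈ P.weylGroup) (x : M) :
    g • x - x ∈ P.rootSpan ℤ := by
  induction hg using RootPairing.weylGroup.induction generalizing x with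
  | mem i =>
    rw [RootPairing.Equiv.reflection_smul, RootPairing.reflection_apply, sub_sub_cancel_left]
    exact neg_mem (Submodule.smul_mem _ _ (Submodule.subset_span ⟨i, rfl⟩))
  | one => simp
  | mul g₁ g₂ hg₁ hg₂ ih₁ ih₂ =>
    have h : (g₁ * g₂) • x - x = (g₁ • (g₂ • x) - g₂ • x) + (g₂ • x - x) := by
      rw [mul_smul]; abel
    rw [h]
    exact add_mem (ih₁ _) (ih₂ _)

/-- The Weyl group of a root datum acts faithfully on the set of roots. -/
theorem result {ι M N : Type*} [AddCommGroup M] [AddCommGroup N]
    (P : RootPairing ι ℤ M N) [Finite ι] :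
    Function.Injective P.weylGroupToPerm := by
  classical
  have : Fintype ι := Fintype.ofFinite ι
  rw [injective_iff_map_eq_one]
  rintro ⟨g, hg⟩ h1
  have hidx : ∀ i, g.indexEquiv i = i := by
    intro i
    have := congrArg (fun σ : Equiv.Perm ι => σ i) h1
    simpa using this
  have hidx' : ∀ i, g.indexEquiv.symm i = i := by
    intro i
    conv_lhs => rw [← hidx i]
    simp
  have hcoroot : ∀ i, g.coweightMap (P.coroot i) = P.coroot i := by
    intro i
    rw [RootPairing.Hom.coroot_coweightMap_apply P P i g.toHom, hidx']
  have hpair : ∀ (x : M) (i : ι), P.coroot' i (g • x - x) = 0 := by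
    intro x i
    have h2 := LinearMap.congr_fun
      (RootPairing.Hom.weight_coweight_transpose_apply P P (P.coroot i) g.toHom) x
    have h3 : P.toLinearMap (g • x) (P.coroot i) = P.toLinearMap x (g.coweightMap (P.coroot i)) :=
      h2
    rw [hcoroot] at h3
    rw [map_sub]
    exact sub_eq_zero.mpr h3
  have hfix : ∀ x : M, g • x = x := by
    intro x
    have hy := smul_sub_mem_rootSpan P hg x
    have hform : P.RootForm (g • x - x) (g • x - x) = 0 := by
      rw [P.rootForm_apply_apply]
      exact Finset.sum_eq_zero fun i _ => by rw [hpair x i, zero_mul]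
    exact sub_eq_zero.mp (P.eq_zero_of_mem_rootSpan_of_rootForm_self_eq_zero hy hform)
  apply Subtype.ext
  apply RootPairing.Equiv.weightHom_injective P
  ext x
  exact hfix x

end Groth.Agent.S5452
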