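import Groth.Statements.S5446
import Groth.Agent.Lib.RootDForm

set_option autoImplicit false
open RootD

namespace Groth.Agent.S5446

open Groth.Agent.Lib.RootDBasic Groth.Agent.Lib.RootDForm

section

variable {ι M N : Type*} [AddCommGroup M] [AddCommGroup N] (P : RootPairing ι ℤ M N)

/-- total weight of a natural family -/
noncomputable def wt (c : ι →₀ ℕ) : ℕ := c.sum fun _ n => n

theorem wt_add (c c' : ι →₀ ℕ) : wt (c + c') = wt c + wt c' := by
  unfold wt
  rw [Finsupp.sum_add_index']
  · intro i; rfl
  · intro i m n; rfl

theorem wt_single (i : ι) (n : ℕ) : wt (Finsupp.single i n) = n := by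
  simp [wt]

include P in
theorem torsionFree (x : M) (n : ℕ) (hn : 0 < n) (h : n • x = 0) : x = 0 := by
  have : Module.IsReflexive ℤ M := .of_isPerfPair P.toLinearMap
  have : IsAddTorsionFree M := .of_isTorsionFree ℤ M
  exact (nsmul_eq_zero_iff_right hn.ne').mp h

theorem support_single_subset'' {Δ : Set ι} {i : ι} (hi : i ∈ Δ) (n : ℕ) :
    (↑(Finsupp.single i n : ι →₀ ℕ).support : Set ι) ⊆ Δ := by
  intro k hk
  have := Finsupp.support_single_subset hk
  simp only [Finset.mem_singleton] at this
  rw [this]; exact hi

theorem support_add_subset'' {Δ : Set ι} (c c' : ι →₀ ℕ) (hc : (↑c.support : Set ι) ⊆ Δ)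
    (hc' : (↑c'.support : Set ι) ⊆ Δ) : (↑(c + c').support : Set ι) ⊆ Δ := by
  classical
  intro l hl
  rcases Finset.mem_union.mp (Finsupp.support_add hl) with h | h
  · exact hc h
  · exact hc' h

variable [Finite ι]

theorem exists_pairing_pos' (c : ι →₀ ℕ) (k : ι) (n : ℕ) (hn : 0 < n)
    (hk : n • P.root k = comb P c) : ∃ d ∈ c.support, 0 < c d ∧ 0 < P.pairing k d := by
  cases nonempty_fintype ι
  have h1 : 0 < P.RootForm (P.root k) (n • P.root k) := by
    rw [map_nsmul, nsmul_eq_mul]
    exact mul_pos (by exact_mod_cast hn) (rootForm_root_self_pos P k)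
  have h2 : P.RootForm (P.root k) (n • P.root k) =
      ∑ d ∈ c.support, (c d : ℤ) * P.RootForm (P.root k) (P.root d) := by
    rw [hk, comb, Finsupp.sum, map_sum]
    apply Finset.sum_congr rfl
    intro i _
    rw [map_nsmul, nsmul_eq_mul]
  rw [h2] at h1
  obtain ⟨i, hi, hpos⟩ := Finset.exists_lt_of_sum_lt (f := fun _ => (0 : ℤ)) (by simpa using h1)
  refine ⟨i, hi, ?_, ?_⟩
  · by_contra h
    have : c i = 0 := by omega
    simp [this] at hpos
  · rw [← rootForm_pos_iff]
    by_contra h
    push Not at h
    have : (c i : ℤ) * P.RootForm (P.root k) (P.root i) ≤ 0 :=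
      mul_nonpos_of_nonneg_of_nonpos (by positivity) h
    omega

theorem main (Δ : Set ι) (hind : ∀ i ∈ Δ, IsIndiv P i) (hli : LinearIndepOn ℤ P.root Δ)
    (D : ℕ) (hD : 0 < D)
    (hcov : ∀ k : ι, D • P.root k ∈ natSpan P Δ ∨ D • (-P.root k) ∈ natSpan P Δ) :
    ∀ (h : ℕ) (k : ι) (c : ι →₀ ℕ), (↑c.support : Set ι) ⊆ Δ → comb P c = D • P.root k →
      wt c = h → P.root k ∈ natSpan P Δ := by
  intro h
  induction h using Nat.strong_induction_on with
  | _ h ih =>
    intro k c hc hck hwt
    obtain ⟨d, hd, hcd, hpair⟩ := exists_pairing_pos' P c k D hD hck.symm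
    have hdΔ : d ∈ Δ := hc hd
    by_cases hkd : k = d
    · rw [hkd]; exact root_mem_natSpan P hdΔ
    obtain ⟨l, hl⟩ := exists_root_sub P k d hpair hkd
    rcases hcov l with hpos | hneg
    · obtain ⟨c', hc', hcl⟩ := (mem_natSpan_iff P Δ _).mp hpos
      have hcomb : comb P c = comb P (c' + Finsupp.single d D) := by
        rw [comb_add, comb_single, hcl, hck, hl, smul_sub]; abel
      have heq := comb_injOn P hli _ _ hc
        (support_add_subset'' _ _ hc' (support_single_subset'' hdΔ D)) hcomb
      have hwt' : wt c' < h := by rw [← hwt, heq, wt_add, wt_single]; omega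
      have := ih (wt c') hwt' l c' hc' hcl rfl
      have hk : P.root k = P.root l + P.root d := by rw [hl]; abel
      rw [hk]
      exact AddSubmonoid.add_mem _ this (root_mem_natSpan P hdΔ)
    · obtain ⟨c', hc', hcl⟩ := (mem_natSpan_iff P Δ _).mp hneg
      have hcomb : comb P (c + c') = comb P (Finsupp.single d D) := by
        rw [comb_add, comb_single, hcl, hck, hl, smul_neg, smul_sub]; abel
      have heq := comb_injOn P hli _ _ (support_add_subset'' _ _ hc hc')
        (support_single_subset'' hdΔ D) hcomb
      have hc_other : ∀ x, x ≠ d → c x = 0 := by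
        intro x hx
        have := DFunLike.congr_fun heq x
        simp only [Finsupp.coe_add, Pi.add_apply, Finsupp.single_eq_of_ne hx] at this
        omega
      have hck' : D • P.root k = (c d) • P.root d := by
        rw [← hck, comb, Finsupp.sum, Finset.sum_eq_single d]
        · intro x _ hx
          rw [hc_other x hx, zero_smul]
        · intro hd'
          exact absurd hd hd'
      have e1 : (D : ℤ) * P.pairing k d = 2 * (c d : ℤ) := by
        have := congrArg (fun x => P.toLinearMap x (P.coroot d)) hck'
        simp only [map_nsmul, LinearMap.smul_apply, P.root_coroot_eq_pairing, P.pairing_same,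
          nsmul_eq_mul] at this
        linarith
      have e2 : 2 * (D : ℤ) = (c d : ℤ) * P.pairing d k := by
        have := congrArg (fun x => P.toLinearMap x (P.coroot k)) hck'
        simp only [map_nsmul, LinearMap.smul_apply, P.root_coroot_eq_pairing, P.pairing_same,
          nsmul_eq_mul] at this
        linarith
      have hDpos : (0 : ℤ) < D := by exact_mod_cast hD
      have hcpos : (0 : ℤ) < c d := by exact_mod_cast hcd
      have hpq : P.pairing k d * P.pairing d k = 4 := by
        have : ((D : ℤ) * (c d : ℤ)) * (P.pairing k d * P.pairing d k) = (D * c d) * 4 := by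
          calc ((D : ℤ) * (c d : ℤ)) * (P.pairing k d * P.pairing d k)
              = (D * P.pairing k d) * (c d * P.pairing d k) := by ring
            _ = (2 * c d) * (2 * D) := by rw [e1, e2]
            _ = _ := by ring
        exact mul_left_cancel₀ (by positivity) this
      have hq_pos : 0 < P.pairing d k := by
        by_contra hq
        push Not at hq
        have : P.pairing k d * P.pairing d k ≤ 0 := mul_nonpos_of_nonneg_of_nonpos hpair.le hq
        omega
      have hp_le : P.pairing k d ≤ 4 := by nlinarith
      have hp1 : 1 ≤ P.pairing k d := hpair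
      generalize hp : P.pairing k d = p at *
      generalize hq : P.pairing d k = q at *
      interval_cases p
      · exfalso
        have h2 : c d • ((2 : ℕ) • P.root k - P.root d) = 0 := by
          rw [smul_sub, ← hck', smul_smul]
          have : D = c d * 2 := by omega
          rw [this, sub_self]
        have h3 := torsionFree P _ (c d) hcd h2
        rw [sub_eq_zero] at h3
        apply hind d hdΔ k
        rw [← h3, ← natCast_zsmul]; rfl
      · exfalso
        have hcD : c d = D := by omega
        have h2 : D • P.root l = 0 := by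
          rw [hl, smul_sub, hck', hcD, sub_self]
        exact nsmul_root_ne_zero P l D hD h2
      · exfalso; omega
      · have hcD : c d = 2 * D := by omega
        have h2 : D • (P.root k - (2 : ℕ) • P.root d) = 0 := by
          rw [smul_sub, hck', hcD, smul_smul, mul_comm, sub_self]
        have h3 := torsionFree P _ D hD h2
        rw [sub_eq_zero] at h3
        rw [h3]
        exact AddSubmonoid.nsmul_mem _ (root_mem_natSpan P hdΔ) 2

end

/-- If the roots indexed by Δ are indivisible and linearly independent and every root is, up to sign, a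
non-negative rational combination of them (some positive multiple is a non-negative integer
combination), then Δ is a system of simple roots: every root is, up to sign, a non-negative integer
combination of Δ. -/
theorem result {ι M N : Type*} [AddCommGroup M] [AddCommGroup N]
    (P : RootPairing ι ℤ M N) [Finite ι] (Δ : Set ι)
    (hind : ∀ i ∈ Δ, RootD.IsIndiv P i) (hli : LinearIndepOn ℤ P.root Δ)
    (hcone : ∀ k : ι, ∃ n : ℕ, 0 < n ∧
      (n • P.root k ∈ RootD.natSpan P Δ ∨ n • (-P.root k) ∈ RootD.natSpan P Δ)) :
    RootD.IsSimpleSys P Δ := by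
  classical
  cases nonempty_fintype ι
  choose n hn hcone' using hcone
  set D : ℕ := ∏ k, n k with hDdef
  have hD : 0 < D := Finset.prod_pos fun k _ => hn k
  have hdvd : ∀ k, ∃ e : ℕ, D = e * n k := by
    intro k
    obtain ⟨e, he⟩ := Finset.dvd_prod_of_mem n (Finset.mem_univ k)
    exact ⟨e, by rw [hDdef, he, mul_comm]⟩
  have hcov : ∀ k : ι, D • P.root k ∈ natSpan P Δ ∨ D • (-P.root k) ∈ natSpan P Δ := by
    intro k
    obtain ⟨e, he⟩ := hdvd k
    rcases hcone' k with h | h
    · left
      rw [he, mul_smul]
      exact AddSubmonoid.nsmul_mem _ h e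
    · right
      rw [he, mul_smul]
      exact AddSubmonoid.nsmul_mem _ h e
  refine ⟨hli, ?_⟩
  intro k
  rcases hcov k with h | h
  · left
    obtain ⟨c, hc, hck⟩ := (mem_natSpan_iff P Δ _).mp h
    exact main P Δ hind hli D hD hcov _ k c hc hck rfl
  · right
    obtain ⟨c, hc, hck⟩ := (mem_natSpan_iff P Δ _).mp h
    have := main P Δ hind hli D hD hcov _ (P.reflectionPerm k k) c hc
      (by rw [hck, root_reflectionPerm_self]) rfl
    rwa [root_reflectionPerm_self] at this

end Groth.Agent.S5446
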