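import Groth.Statements.S5488
import Mathlib.LinearAlgebra.RootSystem.Finite.Lemmas

set_option autoImplicit false
open RootPairing
open scoped Pointwise
open RootD

namespace Groth.Agent.S5488

theorem pairingIn_int_eq {ι M N : Type*} [AddCommGroup M] [AddCommGroup N]
    (P : RootPairing ι ℤ M N) (i j : ι) : P.pairingIn ℤ i j = P.pairing i j := by
  have := P.algebraMap_pairingIn ℤ i j
  simpa using this

theorem reflection_eq_of_root_eq_two_smul {ι M N : Type*} [AddCommGroup M] [AddCommGroup N]
    (P : RootPairing ι ℤ M N) [Finite ι] (i j : ι) (h : P.root i = (2 : ℤ) • P.root j) :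
    Equiv.reflection P i = Equiv.reflection P j := by
  have hN : IsAddTorsionFree N := by
    have : Module.IsReflexive ℤ N := Module.IsReflexive.of_isPerfPair P.flip.toLinearMap
    exact IsAddTorsionFree.of_isTorsionFree ℤ N
  have hco : (2 : ℤ) • P.coroot i = P.coroot j := smul_coroot_eq_of_root_eq_smul j i 2 h
  apply Equiv.weightHom_injective P
  ext x
  change Equiv.weightEquiv P P (Equiv.reflection P i) x = Equiv.weightEquiv P P (Equiv.reflection P j) x
  rw [Equiv.reflection_weightEquiv, Equiv.reflection_weightEquiv, P.reflection_apply,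
    P.reflection_apply]
  have hc' : P.coroot' j x = 2 * P.coroot' i x := by
    change P.toLinearMap x (P.coroot j) = 2 * P.toLinearMap x (P.coroot i)
    rw [← hco, map_zsmul]
    simp
  rw [hc', h, smul_smul, mul_comm]

theorem indiv_of_two_smul {ι M N : Type*} [AddCommGroup M] [AddCommGroup N]
    (P : RootPairing ι ℤ M N) [Finite ι] (i j : ι) (h : P.root i = (2 : ℤ) • P.root j) :
    RootD.IsIndiv P j := by
  intro j' hj'
  have h4 : P.root i = (4 : ℤ) • P.root j' := by
    rw [h, ← hj', smul_smul]; norm_num
  have h8 : P.pairing i j' = 8 := by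
    have := congrArg (fun x => P.toLinearMap x (P.coroot j')) h4
    simpa [map_zsmul] using this
  have hset := P.pairingIn_pairingIn_mem_set_of_isCrystallographic i j'
  rw [pairingIn_int_eq, pairingIn_int_eq, h8] at hset
  simp at hset

/-- The reduced datum of indivisible roots has the same Weyl group: the reflections in indivisible roots
generate W. -/
theorem result {ι M N : Type*} [AddCommGroup M] [AddCommGroup N]
    (P : RootPairing ι ℤ M N) [Finite ι] :
    Subgroup.closure ((fun i : ι => Equiv.reflection P i) '' {i : ι | RootD.IsIndiv P i}) = P.weylGroup := by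
  apply le_antisymm
  · apply Subgroup.closure_mono
    rintro _ ⟨i, -, rfl⟩
    exact ⟨i, rfl⟩
  · rw [weylGroup, Subgroup.closure_le]
    rintro _ ⟨i, rfl⟩
    by_cases hi : RootD.IsIndiv P i
    · exact Subgroup.subset_closure ⟨i, hi, rfl⟩
    · unfold RootD.IsIndiv at hi
      push Not at hi
      obtain ⟨j, hj⟩ := hi
      rw [reflection_eq_of_root_eq_two_smul P i j hj.symm]
      exact Subgroup.subset_closure ⟨j, indiv_of_two_smul P i j hj.symm, rfl⟩

end Groth.Agent.S5488
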