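import Groth.Statements.S5485
import Groth.Agent.S5446
import Groth.Agent.S5488
import Groth.Agent.Lib.RootDForm
import Groth.Agent.Lib.RootDBasic
import Mathlib.LinearAlgebra.RootSystem.Finite.Nondegenerate

set_option autoImplicit false
open RootD

namespace Groth.Agent.S5485

/-- `2 • Polarization` maps a root to a positive multiple of its coroot. -/
theorem two_pol_root {ι M N : Type*} [AddCommGroup M] [AddCommGroup N]
    (P : RootPairing ι ℤ M N) [Fintype ι] (i : ι) :
    (2 : ℤ) • P.Polarization (P.root i) = (P.RootForm (P.root i) (P.root i)) • P.coroot i := by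
  rw [P.rootForm_self_smul_coroot i]
  simp [two_smul]

/-- The Polarization is injective on the span of the roots. -/
theorem pol_inj {ι M N : Type*} [AddCommGroup M] [AddCommGroup N]
    (P : RootPairing ι ℤ M N) [Fintype ι] (x : M) (hx : x ∈ P.rootSpan ℤ)
    (h : P.Polarization x = 0) : x = 0 := by
  apply P.eq_zero_of_mem_rootSpan_of_rootForm_self_eq_zero (R := ℤ) hx
  rw [← P.toLinearMap_apply_apply_Polarization, h, map_zero]

/-- Coroots of a linearly independent family of roots are linearly independent. -/
theorem coroot_linearIndependent {ι M N : Type*} [AddCommGroup M] [AddCommGroup N]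
    (P : RootPairing ι ℤ M N) [Finite ι] (Δ : Set ι) (hli : LinearIndepOn ℤ P.root Δ) :
    LinearIndepOn ℤ P.coroot Δ := by
  classical
  let _ : Fintype ι := Fintype.ofFinite ι
  have hN : IsAddTorsionFree N := by
    have : Module.IsReflexive ℤ N := Module.IsReflexive.of_isPerfPair P.flip.toLinearMap
    exact IsAddTorsionFree.of_isTorsionFree ℤ N
  set ℓ : ι → ℤ := fun i => P.RootForm (P.root i) (P.root i) with hℓ
  have hℓpos : ∀ i, 0 < ℓ i := fun i => Groth.Agent.Lib.RootDForm.rootForm_root_self_pos P i
  set L : ℤ := ∏ i, ℓ i with hL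
  set r : ι → ℤ := fun i => ∏ j ∈ Finset.univ.erase i, ℓ j with hr
  have hrL : ∀ i, r i * ℓ i = L := fun i => Finset.prod_erase_mul _ _ (Finset.mem_univ i)
  have hrpos : ∀ i, 0 < r i := fun i => Finset.prod_pos fun j _ => hℓpos j
  have hli' : LinearIndependent ℤ (fun i : Δ => P.root i) := hli
  show LinearIndependent ℤ (fun i : Δ => P.coroot i)
  rw [Fintype.linearIndependent_iff] at hli' ⊢
  intro g hg i
  have hx : ∑ i : Δ, (g i * r i) • P.root i = 0 := by
    apply pol_inj P
    · apply Submodule.sum_mem
      intro i _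
      exact Submodule.smul_mem _ _ (Submodule.subset_span ⟨i, rfl⟩)
    · have h2 : (2 : ℤ) • P.Polarization (∑ i : Δ, (g i * r i) • P.root i) = 0 := by
        rw [map_sum, Finset.smul_sum]
        have : ∀ i : Δ, (2 : ℤ) • P.Polarization ((g i * r i) • P.root i) =
            L • (g i • P.coroot i) := by
          intro i
          rw [map_smul, smul_comm, two_pol_root, smul_smul, smul_smul, ← hrL i]
          congr 1
          ring
        rw [Finset.sum_congr rfl (fun i _ => this i), ← Finset.smul_sum, hg, smul_zero]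
      exact (smul_eq_zero_iff_right (two_ne_zero : (2 : ℤ) ≠ 0)).mp h2
  have := hli' (fun i => g i * r i) hx i
  rcases mul_eq_zero.mp this with h | h
  · exact h
  · exact absurd h (hrpos i).ne'

/-- If Δ is a system of simple roots then ind(Δ^v), the set of coroots of Δ with each divisible coroot
replaced by its half, is a system of simple coroots (a system of simple roots of the dual datum). -/
theorem result {ι M N : Type*} [AddCommGroup M] [AddCommGroup N]
    (P : RootPairing ι ℤ M N) [Finite ι] (Δ : Set ι) (hΔ : RootD.IsSimpleSys P Δ) :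
    RootD.IsSimpleSys P.flip {j : ι | ∃ i ∈ Δ, (j = i ∧ RootD.IsIndiv P.flip i) ∨ (2 : ℤ) • P.coroot j = P.coroot i} := by
  classical
  let _ : Fintype ι := Fintype.ofFinite ι
  have hN : IsAddTorsionFree N := by
    have : Module.IsReflexive ℤ N := Module.IsReflexive.of_isPerfPair P.flip.toLinearMap
    exact IsAddTorsionFree.of_isTorsionFree ℤ N
  set D : Set ι := {j : ι | ∃ i ∈ Δ, (j = i ∧ RootD.IsIndiv P.flip i) ∨
    (2 : ℤ) • P.coroot j = P.coroot i} with hD
  have hdiv : ∀ i : ι, ¬ RootD.IsIndiv P.flip i → ∃ j, (2 : ℤ) • P.coroot j = P.coroot i := by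
    intro i hi
    unfold RootD.IsIndiv at hi
    push Not at hi
    exact hi
  let ψ : ι → ι := fun i => if h : RootD.IsIndiv P.flip i then i else Classical.choose (hdiv i h)
  have hψ1 : ∀ i, RootD.IsIndiv P.flip i → ψ i = i := fun i h => dif_pos h
  have hψ2 : ∀ i, ¬ RootD.IsIndiv P.flip i → (2 : ℤ) • P.coroot (ψ i) = P.coroot i := by
    intro i h
    simp only [ψ, dif_neg h]
    exact Classical.choose_spec (hdiv i h)
  have hnotindiv : ∀ i j : ι, (2 : ℤ) • P.coroot j = P.coroot i → ¬ RootD.IsIndiv P.flip i :=
    fun i j h hind => hind j h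
  have hψD : ∀ i ∈ Δ, ψ i ∈ D := by
    intro i hiΔ
    by_cases hi : RootD.IsIndiv P.flip i
    · exact ⟨i, hiΔ, Or.inl ⟨hψ1 i hi, hi⟩⟩
    · exact ⟨i, hiΔ, Or.inr (hψ2 i hi)⟩
  have hDimage : D = ψ '' Δ := by
    ext j
    constructor
    · rintro ⟨i, hiΔ, ⟨rfl, hind⟩ | h2⟩
      · exact ⟨j, hiΔ, hψ1 j hind⟩
      · refine ⟨i, hiΔ, ?_⟩
        have h3 := hψ2 i (hnotindiv i j h2)
        rw [← h2] at h3
        exact P.coroot.injective (smul_right_injective N (two_ne_zero : (2 : ℤ) ≠ 0) h3)
    · rintro ⟨i, hiΔ, rfl⟩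
      exact hψD i hiΔ
  -- e i • coroot (ψ i) = coroot i,  e' i • coroot i = 2 • coroot (ψ i)
  let e : ι → ℕ := fun i => if RootD.IsIndiv P.flip i then 1 else 2
  let e' : ι → ℤ := fun i => if RootD.IsIndiv P.flip i then 2 else 1
  have he : ∀ i, e i • P.coroot (ψ i) = P.coroot i := by
    intro i
    by_cases hi : RootD.IsIndiv P.flip i
    · simp only [e, if_pos hi, hψ1 i hi, one_smul]
    · simp only [e, if_neg hi]
      rw [← hψ2 i hi, ofNat_zsmul]
  have he' : ∀ i, e' i • P.coroot i = (2 : ℤ) • P.coroot (ψ i) := by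
    intro i
    by_cases hi : RootD.IsIndiv P.flip i
    · simp only [e', if_pos hi, hψ1 i hi]
    · simp only [e', if_neg hi, one_smul]
      exact (hψ2 i hi).symm
  have he'ne : ∀ i, e' i ≠ 0 := by
    intro i
    by_cases hi : RootD.IsIndiv P.flip i
    · simp only [e', if_pos hi]; norm_num
    · simp only [e', if_neg hi]; norm_num
  have hcoΔ : LinearIndependent ℤ (fun i : Δ => P.coroot i) :=
    coroot_linearIndependent P Δ hΔ.linInd
  apply Groth.Agent.S5446.result P.flip D
  · -- indivisibility
    rintro j ⟨i, -, ⟨rfl, hind⟩ | h2⟩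
    · exact hind
    · exact Groth.Agent.S5488.indiv_of_two_smul P.flip i j h2.symm
  · -- linear independence
    rw [hDimage]
    apply LinearIndepOn.image_of_comp
    show LinearIndependent ℤ (fun i : Δ => P.coroot (ψ i))
    rw [Fintype.linearIndependent_iff] at hcoΔ ⊢
    intro g hg i
    have h2 : ∑ i : Δ, (g i * e' i) • P.coroot i = 0 := by
      have : ∀ i : Δ, (g i * e' (i : ι)) • P.coroot i = (2 : ℤ) • (g i • P.coroot (ψ i)) := by
        intro i
        rw [mul_smul, he', smul_comm]
      rw [Finset.sum_congr rfl (fun i _ => this i), ← Finset.smul_sum, hg, smul_zero]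
    have := hcoΔ (fun i => g i * e' (i : ι)) h2 i
    rcases mul_eq_zero.mp this with h | h
    · exact h
    · exact absurd h (he'ne i)
  · -- the cone condition
    have key : ∀ x ∈ RootD.natSpan P Δ, (2 : ℤ) • P.Polarization x ∈ RootD.natSpan P.flip D := by
      intro x hx
      unfold RootD.natSpan at hx
      induction hx using AddSubmonoid.closure_induction with
      | mem x hx =>
        obtain ⟨i, hi, rfl⟩ := hx
        rw [two_pol_root, ← he i]
        have hpos := Groth.Agent.Lib.RootDForm.rootForm_root_self_pos P i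
        have : (P.RootForm (P.root i) (P.root i)) • (e i • P.coroot (ψ i)) =
            ((P.RootForm (P.root i) (P.root i)).toNat * e i) • P.flip.root (ψ i) := by
          rw [mul_smul, ← natCast_zsmul (_ : N) (Int.toNat _), Int.toNat_of_nonneg hpos.le]
          rfl
        rw [this]
        exact AddSubmonoid.nsmul_mem _
          (Groth.Agent.Lib.RootDBasic.root_mem_natSpan P.flip (hψD i hi)) _
      | zero => rw [map_zero, smul_zero]; exact AddSubmonoid.zero_mem _
      | add x y _ _ hx hy => rw [map_add, smul_add]; exact AddSubmonoid.add_mem _ hx hy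
    intro k
    have hpos := Groth.Agent.Lib.RootDForm.rootForm_root_self_pos P k
    refine ⟨(P.RootForm (P.root k) (P.root k)).toNat, by omega, ?_⟩
    have hcast : ∀ y : N, (P.RootForm (P.root k) (P.root k)).toNat • y =
        (P.RootForm (P.root k) (P.root k)) • y := by
      intro y
      rw [← natCast_zsmul, Int.toNat_of_nonneg hpos.le]
    rcases hΔ.mem_or_neg_mem k with h | h
    · left
      have := key _ h
      rw [two_pol_root] at this
      rw [hcast]
      exact this
    · right
      have := key _ h
      rw [map_neg, smul_neg, two_pol_root, ← smul_neg] at this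
      rw [hcast]
      exact this

end Groth.Agent.S5485
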