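import Groth.Statements.S2952
-- import your own Groth.Agent.* helpers here

set_option autoImplicit false
open RootPairing
open scoped Pointwise
universe u
open RootD

namespace Groth.Agent.S2952

theorem refl_conj {ι R M N : Type*} [CommRing R] [AddCommGroup M] [Module R M]
    [AddCommGroup N] [Module R N] (P : RootPairing ι R M N) (i j : ι) :
    Equiv.reflection P (P.reflectionPerm j i) =
      Equiv.reflection P j * Equiv.reflection P i * Equiv.reflection P j := by
  apply Equiv.weightHom_injective P
  rw [map_mul, map_mul]
  simp only [Equiv.weightHom_apply, Equiv.reflection_weightEquiv]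
  exact P.reflection_reflectionPerm

theorem refl_neg {ι R M N : Type*} [CommRing R] [AddCommGroup M] [Module R M]
    [AddCommGroup N] [Module R N] (P : RootPairing ι R M N) (i : ι) :
    Equiv.reflection P (P.reflectionPerm i i) = Equiv.reflection P i := by
  rw [refl_conj]
  have h : Equiv.reflection P i * Equiv.reflection P i = 1 := by
    rw [mul_eq_one_iff_inv_eq, Equiv.reflection_inv P i]
  rw [h, one_mul]

theorem smul_idx {ι R M N : Type*} [CommRing R] [AddCommGroup M] [Module R M]
    [AddCommGroup N] [Module R N] (P : RootPairing ι R M N) (i j : ι) :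
    Equiv.reflection P i • j = P.reflectionPerm i j := rfl

/-- For a finite crystallographic reduced root pairing over a characteristic-zero domain with a base b:
(1) the Weyl group is generated by the reflections in the simple roots; (2) every root is the image
of a simple root under an element of the Weyl group (acting on the indexing type). (The published
statement also covers the non-reduced case.) -/
theorem result {ι R M N : Type*} [CommRing R] [CharZero R] [IsDomain R] [AddCommGroup M] [Module R M]
    [AddCommGroup N] [Module R N] (P : RootPairing ι R M N) [Finite ι] [P.IsCrystallographic] [P.IsReduced]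
    (b : P.Base) :
    Subgroup.closure ((fun i : ι => Equiv.reflection P i) '' (b.support : Set ι)) = P.weylGroup ∧
    ∀ i : ι, ∃ g : P.Aut, g ∈ P.weylGroup ∧ ∃ j ∈ b.support, g • j = i := by
  constructor
  · apply le_antisymm
    · rw [Subgroup.closure_le]
      rintro _ ⟨i, -, rfl⟩
      exact P.reflection_mem_weylGroup i
    · rw [weylGroup, Subgroup.closure_le]
      rintro _ ⟨i, rfl⟩
      set H := Subgroup.closure ((fun i : ι => Equiv.reflection P i) '' (b.support : Set ι))
      have hsimple : ∀ j ∈ b.support, Equiv.reflection P j ∈ H := fun j hj =>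
        Subgroup.subset_closure ⟨j, hj, rfl⟩
      refine b.induction_reflect i (p := fun i => Equiv.reflection P i ∈ H) ?_ hsimple ?_
      · intro i hi
        rw [refl_neg]; exact hi
      · intro i j hi hj
        rw [refl_conj]
        exact H.mul_mem (H.mul_mem (hsimple j hj) hi) (hsimple j hj)
  · intro i
    refine b.induction_reflect i
      (p := fun i => ∃ g : P.Aut, g ∈ P.weylGroup ∧ ∃ j ∈ b.support, g • j = i) ?_ ?_ ?_
    · rintro i ⟨g, hg, j, hj, rfl⟩
      refine ⟨Equiv.reflection P (g • j) * g,
        P.weylGroup.mul_mem (P.reflection_mem_weylGroup _) hg, j, hj, ?_⟩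
      rw [mul_smul, smul_idx]
    · intro i hi
      exact ⟨1, P.weylGroup.one_mem, i, hi, one_smul _ _⟩
    · rintro i j ⟨g, hg, k, hk, rfl⟩ hj
      refine ⟨Equiv.reflection P j * g,
        P.weylGroup.mul_mem (P.reflection_mem_weylGroup _) hg, k, hk, ?_⟩
      rw [mul_smul, smul_idx]

end Groth.Agent.S2952
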