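import Groth.Statements.S2953
import Groth.Agent.S2952
-- import your own Groth.Agent.* helpers here

set_option autoImplicit false
open RootPairing
open scoped Pointwise
universe u
open RootD

namespace Groth.Agent.S2953

section
variable {ι R M N : Type*} [CommRing R] [AddCommGroup M] [Module R M]
    [AddCommGroup N] [Module R N] (P : RootPairing ι R M N)

/-- product of the reflections along a list of indices -/
noncomputable def wprod (l : List ι) : P.Aut := (l.map (Equiv.reflection P)).prod

@[simp] theorem wprod_nil : wprod P [] = 1 := rfl

@[simp] theorem wprod_cons (a : ι) (l : List ι) :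
    wprod P (a :: l) = Equiv.reflection P a * wprod P l := by
  simp [wprod]

theorem wprod_append (l m : List ι) : wprod P (l ++ m) = wprod P l * wprod P m := by
  simp [wprod]

theorem refl_mul_self (i : ι) : Equiv.reflection P i * Equiv.reflection P i = 1 := by
  rw [mul_eq_one_iff_inv_eq, Equiv.reflection_inv P i]

theorem wprod_inv (l : List ι) : (wprod P l)⁻¹ = wprod P l.reverse := by
  induction l with
  | nil => simp
  | cons a l ih =>
    rw [wprod_cons, mul_inv_rev, ih, List.reverse_cons, wprod_append, wprod_cons, wprod_nil,
      mul_one, Equiv.reflection_inv]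

theorem smul_idx (i j : ι) : Equiv.reflection P i • j = P.reflectionPerm i j := rfl

/-- conjugation formula for products of reflections -/
theorem refl_wprod_smul (l : List ι) (i : ι) :
    Equiv.reflection P (wprod P l • i) = wprod P l * Equiv.reflection P i * (wprod P l)⁻¹ := by
  induction l with
  | nil => simp
  | cons a l ih =>
    rw [wprod_cons, mul_smul, smul_idx, Groth.Agent.S2952.refl_conj, ih, mul_inv_rev,
      Equiv.reflection_inv]
    simp only [mul_assoc]

theorem root_smul_idx (g : P.Aut) (i : ι) : P.root (g • i) = g • P.root i :=
  Equiv.root_indexEquiv_eq_smul P i g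

/-- automorphisms commute with negation of indices -/
theorem smul_neg_idx (g : P.Aut) (i : ι) :
    g • (P.reflectionPerm i i) = P.reflectionPerm (g • i) (g • i) := by
  apply P.root.injective
  rw [root_smul_idx, root_reflectionPerm, reflection_apply_self, root_reflectionPerm,
    reflection_apply_self, root_smul_idx, smul_neg]

end

section
variable {ι R M N : Type*} [CommRing R] [CharZero R] [IsDomain R] [AddCommGroup M] [Module R M]
    [AddCommGroup N] [Module R N] (P : RootPairing ι R M N) [Finite ι] [P.IsCrystallographic]
    [P.IsReduced] (b : P.Base)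

omit [IsDomain R] [Finite ι] [P.IsCrystallographic] [P.IsReduced] in
theorem not_pos_neg {i : ι} : b.IsPos (P.reflectionPerm i i) ↔ ¬ b.IsPos i := by
  have := RootPairing.Base.IsPos.neg_iff_not b i
  simpa only [indexNeg_neg] using this

/-- deletion: if the product of simple reflections along `l` sends the simple root `a` to a
non-positive root then `wprod l * s_a` is a product along a shorter list. -/
theorem deletion (l : List ι) (hl : ∀ c ∈ l, c ∈ b.support) (a : ι) (ha : a ∈ b.support)
    (hneg : ¬ b.IsPos (wprod P l • a)) :
    ∃ m : List ι, (∀ c ∈ m, c ∈ b.support) ∧ m.length + 1 = l.length ∧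
      wprod P l * Equiv.reflection P a = wprod P m := by
  induction l with
  | nil =>
    exfalso
    apply hneg
    rw [wprod_nil, one_smul]
    exact RootPairing.Base.isPos_of_mem_support ha
  | cons c l ih =>
    have hc : c ∈ b.support := hl c List.mem_cons_self
    have hl' : ∀ c ∈ l, c ∈ b.support := fun d hd => hl d (List.mem_cons_of_mem _ hd)
    by_cases hβ : b.IsPos (wprod P l • a)
    · -- then `wprod l • a = c`
      have hβc : wprod P l • a = c := by
        by_contra hne
        apply hneg
        rw [wprod_cons, mul_smul, smul_idx]
        exact RootPairing.Base.IsPos.reflectionPerm hβ hc hne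
      refine ⟨l, hl', rfl, ?_⟩
      have h1 := refl_wprod_smul P l a
      rw [hβc] at h1
      rw [wprod_cons, h1]
      simp only [mul_assoc, inv_mul_cancel_left, refl_mul_self, mul_one]
    · obtain ⟨m, hm, hlen, hprod⟩ := ih hl' hβ
      refine ⟨c :: m, ?_, by simp [hlen], ?_⟩
      · intro d hd
        rcases List.mem_cons.mp hd with rfl | hd
        · exact hc
        · exact hm d hd
      · rw [wprod_cons, wprod_cons, mul_assoc, hprod]

theorem exists_list_of_mem (g : P.Aut) (hg : g ∈ P.weylGroup) :
    ∃ l : List ι, (∀ c ∈ l, c ∈ b.support) ∧ wprod P l = g := by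
  rw [← (Groth.Agent.S2952.result P b).1] at hg
  induction hg using Subgroup.closure_induction with
  | mem x hx =>
    obtain ⟨i, hi, rfl⟩ := hx
    exact ⟨[i], by simpa using hi, by simp⟩
  | one => exact ⟨[], by simp, rfl⟩
  | mul x y _ _ hx hy =>
    obtain ⟨l, hl, rfl⟩ := hx
    obtain ⟨m, hm, rfl⟩ := hy
    refine ⟨l ++ m, ?_, wprod_append P l m⟩
    intro c hc
    rcases List.mem_append.mp hc with h | h
    · exact hl c h
    · exact hm c h
  | inv x _ hx =>
    obtain ⟨l, hl, rfl⟩ := hx
    exact ⟨l.reverse, fun c hc => hl c (List.mem_reverse.mp hc), (wprod_inv P l).symm⟩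

theorem eq_one_of_list (n : ℕ) : ∀ l : List ι, l.length = n → (∀ c ∈ l, c ∈ b.support) →
    (∀ i, b.IsPos i → b.IsPos (wprod P l • i)) → wprod P l = 1 := by
  induction n using Nat.strong_induction_on with
  | _ n ih =>
    intro l hlen hl hpos
    rcases List.eq_nil_or_concat l with rfl | ⟨m, a, rfl⟩
    · rfl
    · simp only [List.concat_eq_append] at hlen hl hpos ⊢
      have ha : a ∈ b.support := hl a (by simp)
      have hm : ∀ c ∈ m, c ∈ b.support := fun c hc => hl c (by simp [hc])
      have hposa : b.IsPos (wprod P (m ++ [a]) • a) :=
        hpos a (RootPairing.Base.isPos_of_mem_support ha)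
      have hneg : ¬ b.IsPos (wprod P m • a) := by
        rw [wprod_append, wprod_cons, wprod_nil, mul_one, mul_smul, smul_idx, smul_neg_idx,
          not_pos_neg] at hposa
        exact hposa
      obtain ⟨m', hm', hlen', hprod⟩ := deletion P b m hm a ha hneg
      have heq : wprod P (m ++ [a]) = wprod P m' := by
        rw [wprod_append, wprod_cons, wprod_nil, mul_one, hprod]
      rw [heq]
      refine ih m'.length ?_ m' rfl hm' ?_
      · rw [← hlen, List.length_append, ← hlen']
        simp
      · rw [← heq]; exact hpos

end

/-- For a finite crystallographic reduced root pairing with a base b: an element of the Weyl group which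
maps positive roots (relative to b) to positive roots is the identity. -/
theorem result {ι R M N : Type*} [CommRing R] [CharZero R] [IsDomain R] [AddCommGroup M] [Module R M]
    [AddCommGroup N] [Module R N] (P : RootPairing ι R M N) [Finite ι] [P.IsCrystallographic] [P.IsReduced]
    (b : P.Base) (g : P.Aut) (hg : g ∈ P.weylGroup) (hpos : ∀ i, b.IsPos i → b.IsPos (g • i)) : g = 1 := by
  obtain ⟨l, hl, rfl⟩ := exists_list_of_mem P b g hg
  exact eq_one_of_list P b l.length l rfl hl hpos

end Groth.Agent.S2953
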