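import Groth.Statements.S5448
import Groth.Agent.Lib.RootDBasic

set_option autoImplicit false
open RootD

namespace Groth.Agent.S5448

open Groth.Agent.Lib.RootDBasic

/-- The elements of a system of simple roots (root-only sense) are indivisible, i.e. none of them is
twice a root. -/
theorem result {ι M N : Type*} [AddCommGroup M] [AddCommGroup N]
    (P : RootPairing ι ℤ M N) [Finite ι] (Δ : Set ι) (hΔ : RootD.IsSimpleSys P Δ)
    (i : ι) (hi : i ∈ Δ) : RootD.IsIndiv P i := by
  intro j hj
  have hsingle : (↑(Finsupp.single i 1 : ι →₀ ℕ).support : Set ι) ⊆ Δ := by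
    intro k hk
    have := Finsupp.support_single_subset hk
    simp only [Finset.mem_singleton] at this
    rw [this]; exact hi
  have h2 : (2 : ℤ) • P.root j = (2 : ℕ) • P.root j := by
    rw [← natCast_zsmul]; rfl
  rw [h2] at hj
  rcases hΔ.mem_or_neg_mem j with h | h
  · obtain ⟨c, hc, hcj⟩ := (mem_natSpan_iff P Δ _).mp h
    have hcomb : comb P (c + c) = comb P (Finsupp.single i 1) := by
      rw [comb_add, hcj, comb_single, one_smul, ← hj, two_smul]
    have hsupp : (↑(c + c).support : Set ι) ⊆ Δ := by
      classical
      intro k hk
      rcases Finset.mem_union.mp (Finsupp.support_add hk) with h | h <;> exact hc h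
    have := comb_injOn P hΔ.linInd _ _ hsupp hsingle hcomb
    have := DFunLike.congr_fun this i
    simp only [Finsupp.coe_add, Pi.add_apply, Finsupp.single_eq_same] at this
    omega
  · obtain ⟨c, hc, hcj⟩ := (mem_natSpan_iff P Δ _).mp h
    have hcomb : comb P (c + c + Finsupp.single i 1) = comb P 0 := by
      rw [comb_add, comb_add, hcj, comb_single, one_smul, ← hj, two_smul, comb_zero]
      abel
    have hsupp : (↑(c + c + Finsupp.single i 1).support : Set ι) ⊆ Δ := by
      classical
      intro k hk
      rcases Finset.mem_union.mp (Finsupp.support_add hk) with h | h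
      · rcases Finset.mem_union.mp (Finsupp.support_add h) with h | h <;> exact hc h
      · exact hsingle h
    have := comb_injOn P hΔ.linInd _ _ hsupp (by simp) hcomb
    have := DFunLike.congr_fun this i
    simp only [Finsupp.coe_add, Pi.add_apply, Finsupp.single_eq_same, Finsupp.coe_zero,
      Pi.zero_apply] at this
    omega

end Groth.Agent.S5448
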