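import Groth.Statements.S5495
import Mathlib.LinearAlgebra.RootSystem.Finite.Lemmas

set_option autoImplicit false
open RootD

namespace Groth.Agent.S5495

theorem pairingIn_int_eq {ι M N : Type*} [AddCommGroup M] [AddCommGroup N]
    (P : RootPairing ι ℤ M N) (i j : ι) : P.pairingIn ℤ i j = P.pairing i j := by
  have := P.algebraMap_pairingIn ℤ i j
  simpa using this

/-- If α is an indivisible root and kα is a root for a rational k, then k is an integer. -/
theorem result {ι M N : Type*} [AddCommGroup M] [AddCommGroup N]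
    (P : RootPairing ι ℤ M N) [Finite ι] (i j : ι) (hind : RootD.IsIndiv P i) (a b : ℤ) (hb : b ≠ 0)
    (h : b • P.root j = a • P.root i) : b ∣ a := by
  have hM : IsAddTorsionFree M := by
    have : Module.IsReflexive ℤ M := Module.IsReflexive.of_isPerfPair P.toLinearMap
    exact IsAddTorsionFree.of_isTorsionFree ℤ M
  -- apply coroot j : 2 b = a * pairing i j
  have h1 : b * 2 = a * P.pairing i j := by
    have := congrArg (fun x => P.toLinearMap x (P.coroot j)) h
    simpa [map_zsmul] using this
  -- apply coroot i : b * pairing j i = 2 a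
  have h2 : b * P.pairing j i = a * 2 := by
    have := congrArg (fun x => P.toLinearMap x (P.coroot i)) h
    simpa [map_zsmul] using this
  have ha : a ≠ 0 := by
    rintro rfl
    simp at h1
    exact hb h1
  have hset := P.pairingIn_pairingIn_mem_set_of_isCrystallographic i j
  rw [pairingIn_int_eq, pairingIn_int_eq] at hset
  have h4 : P.pairing i j * P.pairing j i = 4 := by
    apply mul_left_cancel₀ ha
    calc a * (P.pairing i j * P.pairing j i) = (a * P.pairing i j) * P.pairing j i := by ring
      _ = b * 2 * P.pairing j i := by rw [h1]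
      _ = 2 * (b * P.pairing j i) := by ring
      _ = a * 4 := by rw [h2]; ring
  generalize hp : P.pairing i j = p at *
  generalize hq : P.pairing j i = q at *
  simp only [Set.mem_insert_iff, Set.mem_singleton_iff, Prod.mk.injEq] at hset
  rcases hset with ⟨rfl, rfl⟩ | ⟨rfl, rfl⟩ | ⟨rfl, rfl⟩ | ⟨rfl, rfl⟩ | ⟨rfl, rfl⟩ | ⟨rfl, rfl⟩ |
    ⟨rfl, rfl⟩ | ⟨rfl, rfl⟩ | ⟨rfl, rfl⟩ | ⟨rfl, rfl⟩ | ⟨rfl, rfl⟩ | ⟨rfl, rfl⟩ | ⟨rfl, rfl⟩ |
    ⟨rfl, rfl⟩ | ⟨rfl, rfl⟩ | ⟨rfl, rfl⟩ | ⟨rfl, rfl⟩ <;> try (norm_num at h4)
  · -- (4,1): b = 2a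
    exfalso
    have hb2 : b = 2 * a := by linarith
    subst hb2
    have : a • ((2 : ℤ) • P.root j) = a • P.root i := by
      rw [← h, smul_smul, mul_comm]
    have := smul_right_injective M ha this
    exact hind j this
  · -- (1,4)
    exact ⟨2, by linarith⟩
  · -- (-4,-1): b = -2a
    exfalso
    have hb2 : b = -2 * a := by linarith
    subst hb2
    have : a • ((2 : ℤ) • P.root (P.reflectionPerm j j)) = a • P.root i := by
      rw [← h, P.root_reflectionPerm, P.reflection_apply_self, smul_neg, smul_neg, smul_smul,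
        ← neg_smul]
      congr 1
      ring
    have := smul_right_injective M ha this
    exact hind _ this
  · exact ⟨-2, by linarith⟩
  · exact ⟨1, by linarith⟩
  · exact ⟨-1, by linarith⟩

end Groth.Agent.S5495
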