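import Groth.Statements.S5447
import Groth.Agent.Lib.RootDForm
import Groth.Agent.S5448

set_option autoImplicit false
open RootD

namespace Groth.Agent.S5447

open Groth.Agent.Lib.RootDBasic Groth.Agent.Lib.RootDForm

section

variable {ι M N : Type*} [AddCommGroup M] [AddCommGroup N] (P : RootPairing ι ℤ M N)

/-- same-sign representation of the root `k` over `Δ` -/
def Rep (Δ : Set ι) (k : ι) (c : ι →₀ ℤ) : Prop :=
  (↑c.support : Set ι) ⊆ Δ ∧ ((∀ j, 0 ≤ c j) ∨ (∀ j, c j ≤ 0)) ∧
    Finsupp.linearCombination ℤ P.root c = P.root k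

theorem support_single_sub {Δ : Set ι} {i : ι} (hi : i ∈ Δ) (n : ℤ) :
    (↑(Finsupp.single i n : ι →₀ ℤ).support : Set ι) ⊆ Δ := by
  intro k hk
  have := Finsupp.support_single_subset hk
  simp only [Finset.mem_singleton] at this
  rw [this]; exact hi

theorem support_add_sub {Δ : Set ι} (c c' : ι →₀ ℤ) (hc : (↑c.support : Set ι) ⊆ Δ)
    (hc' : (↑c'.support : Set ι) ⊆ Δ) : (↑(c + c').support : Set ι) ⊆ Δ := by
  classical
  intro l hl
  rcases Finset.mem_union.mp (Finsupp.support_add hl) with h | h
  · exact hc h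
  · exact hc' h

theorem rep_single {Δ : Set ι} {i : ι} (hi : i ∈ Δ) : Rep P Δ i (Finsupp.single i 1) := by
  refine ⟨support_single_sub hi 1, Or.inl ?_, by simp⟩
  intro j
  classical
  rw [Finsupp.single_apply]
  split_ifs <;> simp

/-- natural part of an integer family -/
noncomputable def toNat' (c : ι →₀ ℤ) : ι →₀ ℕ := c.mapRange Int.toNat rfl

theorem toInt_toNat' (c : ι →₀ ℤ) (hc : ∀ j, 0 ≤ c j) : toInt (toNat' c) = c := by
  ext j
  simp [toInt, toNat', hc j]

theorem support_toNat' (c : ι →₀ ℤ) : (toNat' c).support ⊆ c.support := by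
  intro j hj
  rw [Finsupp.mem_support_iff] at hj ⊢
  intro h0
  apply hj
  simp [toNat', h0]

theorem mem_natSpan_of_nonneg {Δ : Set ι} (c : ι →₀ ℤ) (hsupp : (↑c.support : Set ι) ⊆ Δ)
    (hc : ∀ j, 0 ≤ c j) : Finsupp.linearCombination ℤ P.root c ∈ natSpan P Δ := by
  rw [mem_natSpan_iff]
  refine ⟨toNat' c, ?_, ?_⟩
  · intro j hj
    exact hsupp (support_toNat' c hj)
  · rw [← linearCombination_toInt, toInt_toNat' c hc]

theorem rootForm_lc_lc [Fintype ι] (c c' : ι →₀ ℤ) :
    P.RootForm (Finsupp.linearCombination ℤ P.root c) (Finsupp.linearCombination ℤ P.root c') =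
      ∑ d ∈ c.support, ∑ e ∈ c'.support, c d * c' e * P.RootForm (P.root d) (P.root e) := by
  rw [Finsupp.linearCombination_apply, Finsupp.linearCombination_apply, Finsupp.sum, Finsupp.sum]
  simp only [map_sum, LinearMap.sum_apply, map_smul, smul_eq_mul, LinearMap.smul_apply,
    Finset.mul_sum]
  rw [Finset.sum_comm]
  apply Finset.sum_congr rfl
  intro d _
  apply Finset.sum_congr rfl
  intro e _
  ring

end

section main

variable {ι M N : Type*} [AddCommGroup M] [AddCommGroup N] (P : RootPairing ι ℤ M N) [Finite ι]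
variable (Δ : Set ι) (h : ∀ k : ι, ∃! c : ι →₀ ℤ, Rep P Δ k c)

include h

omit [Finite ι] in
theorem mem_or_neg_mem' (k : ι) : P.root k ∈ natSpan P Δ ∨ -P.root k ∈ natSpan P Δ := by
  obtain ⟨c, ⟨hsupp, hsign, hlc⟩, -⟩ := h k
  rcases hsign with hs | hs
  · left
    rw [← hlc]
    exact mem_natSpan_of_nonneg P c hsupp hs
  · right
    rw [← hlc, ← map_neg]
    apply mem_natSpan_of_nonneg P (-c)
    · rw [Finsupp.support_neg]; exact hsupp
    · intro j
      simp only [Finsupp.coe_neg, Pi.neg_apply, Left.nonneg_neg_iff]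
      exact hs j

theorem pairing_nonpos (d e : ι) (hd : d ∈ Δ) (he : e ∈ Δ) (hde : d ≠ e) :
    P.pairing d e ≤ 0 := by
  classical
  by_contra hcon
  push Not at hcon
  obtain ⟨l, hl⟩ := exists_root_sub P d e hcon hde
  obtain ⟨c, ⟨hsupp, hsign, hlc⟩, -⟩ := h l
  rcases hsign with hs | hs
  · have hrep : Rep P Δ d (Finsupp.single e 1 + c) := by
      refine ⟨support_add_sub _ _ (support_single_sub he 1) hsupp, Or.inl ?_, ?_⟩
      · intro j
        have := hs j
        simp only [Finsupp.coe_add, Pi.add_apply, Finsupp.single_apply]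
        split_ifs <;> omega
      · rw [map_add, hlc, hl]; simp
    have := (h d).unique hrep (rep_single P hd)
    have := DFunLike.congr_fun this e
    simp only [Finsupp.coe_add, Pi.add_apply, Finsupp.single_eq_same,
      Finsupp.single_apply, if_neg hde] at this
    have := hs e
    omega
  · have hrep : Rep P Δ e (Finsupp.single d 1 + (-c)) := by
      refine ⟨support_add_sub _ _ (support_single_sub hd 1)
        (by rw [Finsupp.support_neg]; exact hsupp), Or.inl ?_, ?_⟩
      · intro j
        have := hs j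
        simp only [Finsupp.coe_add, Pi.add_apply, Finsupp.single_apply, Finsupp.coe_neg,
          Pi.neg_apply]
        split_ifs <;> omega
      · rw [map_add, map_neg, hlc, hl]; simp
    have := (h e).unique hrep (rep_single P he)
    have := DFunLike.congr_fun this d
    simp only [Finsupp.coe_add, Pi.add_apply, Finsupp.single_eq_same, Finsupp.coe_neg,
      Pi.neg_apply, Finsupp.single_apply, if_neg hde.symm] at this
    have := hs d
    omega

theorem linInd' : LinearIndepOn ℤ P.root Δ := by
  classical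
  cases nonempty_fintype ι
  rw [linearIndepOn_iff]
  intro l hl hl0
  rw [Finsupp.mem_supported] at hl
  set lp : ι →₀ ℤ := l.mapRange (fun z => max z 0) (by simp) with hlp
  set ln : ι →₀ ℤ := l.mapRange (fun z => max (-z) 0) (by simp) with hln
  have hlp_apply : ∀ j, lp j = max (l j) 0 := fun j => by simp [hlp]
  have hln_apply : ∀ j, ln j = max (-l j) 0 := fun j => by simp [hln]
  have hsplit : l = lp - ln := by
    ext j
    simp only [Finsupp.coe_sub, Pi.sub_apply, hlp_apply, hln_apply]
    omega
  have hlp_supp : (↑lp.support : Set ι) ⊆ Δ := by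
    intro j hj
    apply hl
    rw [Finset.mem_coe, Finsupp.mem_support_iff] at hj ⊢
    intro h0
    apply hj
    rw [hlp_apply, h0]; simp
  have hln_supp : (↑ln.support : Set ι) ⊆ Δ := by
    intro j hj
    apply hl
    rw [Finset.mem_coe, Finsupp.mem_support_iff] at hj ⊢
    intro h0
    apply hj
    rw [hln_apply, h0]; simp
  have hlp_nonneg : ∀ j, 0 ≤ lp j := fun j => by rw [hlp_apply]; omega
  have hln_nonneg : ∀ j, 0 ≤ ln j := fun j => by rw [hln_apply]; omega
  have hdisj : ∀ j, lp j = 0 ∨ ln j = 0 := fun j => by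
    rw [hlp_apply, hln_apply]; omega
  have hv : Finsupp.linearCombination ℤ P.root lp = Finsupp.linearCombination ℤ P.root ln := by
    rw [hsplit, map_sub, sub_eq_zero] at hl0
    exact hl0
  have hform : P.RootForm (Finsupp.linearCombination ℤ P.root lp)
      (Finsupp.linearCombination ℤ P.root lp) ≤ 0 := by
    have hvv : P.RootForm (Finsupp.linearCombination ℤ P.root lp)
        (Finsupp.linearCombination ℤ P.root lp) = P.RootForm (Finsupp.linearCombination ℤ P.root lp)
        (Finsupp.linearCombination ℤ P.root ln) := by rw [← hv]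
    rw [hvv, rootForm_lc_lc]
    apply Finset.sum_nonpos
    intro d hd
    apply Finset.sum_nonpos
    intro e he
    by_cases hde : d = e
    · subst hde
      rcases hdisj d with h0 | h0 <;> simp [h0]
    · have hdΔ : d ∈ Δ := hlp_supp hd
      have heΔ : e ∈ Δ := hln_supp he
      have h1 := (rootForm_nonpos_iff P d e).mpr (pairing_nonpos P Δ h d e hdΔ heΔ hde)
      exact mul_nonpos_of_nonneg_of_nonpos (mul_nonneg (hlp_nonneg d) (hln_nonneg e)) h1
  have hv0 : Finsupp.linearCombination ℤ P.root lp = 0 := by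
    apply P.eq_zero_of_mem_rootSpan_of_rootForm_self_eq_zero
    · rw [RootPairing.rootSpan, Finsupp.mem_span_range_iff_exists_finsupp]
      exact ⟨lp, (Finsupp.linearCombination_apply ℤ lp).symm⟩
    · exact le_antisymm hform (P.zero_le_rootForm _)
  have hkey : ∀ c : ι →₀ ℤ, (↑c.support : Set ι) ⊆ Δ → (∀ j, 0 ≤ c j) →
      Finsupp.linearCombination ℤ P.root c = 0 → c = 0 := by
    intro c hcs hcn hc0
    by_contra hne
    obtain ⟨d, hd⟩ : ∃ d, c d ≠ 0 := by
      by_contra hall
      push Not at hall
      apply hne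
      ext j
      exact hall j
    have hdΔ : d ∈ Δ := hcs (Finsupp.mem_support_iff.mpr hd)
    have hrep : Rep P Δ d (Finsupp.single d 1 + c) := by
      refine ⟨support_add_sub _ _ (support_single_sub hdΔ 1) hcs, Or.inl ?_, ?_⟩
      · intro j
        have := hcn j
        simp only [Finsupp.coe_add, Pi.add_apply, Finsupp.single_apply]
        split_ifs <;> omega
      · rw [map_add, hc0]; simp
    have := (h d).unique hrep (rep_single P hdΔ)
    exact hne (by simpa using this)
  have hlp0 : lp = 0 := hkey lp hlp_supp hlp_nonneg hv0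
  have hln0 : ln = 0 := hkey ln hln_supp hln_nonneg (by rw [← hv, hv0])
  rw [hsplit, hlp0, hln0, sub_zero]

end main

/-- If every root can be written in exactly one way as an integer combination of the roots indexed by Δ
with coefficients all of the same sign, then these roots are linearly independent (so Δ is a system
of simple roots) and indivisible. -/
theorem result {ι M N : Type*} [AddCommGroup M] [AddCommGroup N]
    (P : RootPairing ι ℤ M N) [Finite ι] (Δ : Set ι)
    (h : ∀ k : ι, ∃! c : ι →₀ ℤ, (↑c.support ⊆ Δ ∧ ((∀ j, 0 ≤ c j) ∨ (∀ j, c j ≤ 0)) ∧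
      Finsupp.linearCombination ℤ P.root c = P.root k)) :
    RootD.IsSimpleSys P Δ ∧ ∀ i ∈ Δ, RootD.IsIndiv P i := by
  have hΔ : RootD.IsSimpleSys P Δ := ⟨linInd' P Δ h, mem_or_neg_mem' P Δ h⟩
  exact ⟨hΔ, fun i hi => Groth.Agent.S5448.result P Δ hΔ i hi⟩

end Groth.Agent.S5447
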