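import Groth.Statements.S5449
import Groth.Agent.Lib.RootDBasic

set_option autoImplicit false
open RootD

namespace Groth.Agent.S5449

open Groth.Agent.Lib.RootDBasic

theorem isPosSys_posOf {ι M N : Type*} [AddCommGroup M] [AddCommGroup N]
    (P : RootPairing ι ℤ M N) (Δ : Set ι) (hΔ : RootD.IsSimpleSys P Δ) :
    RootD.IsPosSys P (RootD.posOf P Δ) where
  disjoint := by
    intro i hi hi'
    have h1 : P.root i ∈ natSpan P Δ := hi
    have h2 : -P.root i ∈ natSpan P Δ := by
      have : P.root (P.reflectionPerm i i) ∈ natSpan P Δ := hi'
      rwa [root_reflectionPerm_self] at this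
    exact root_ne_zero P i (eq_zero_of_mem_of_neg_mem P hΔ.linInd _ h1 h2)
  cover := by
    intro i
    rcases hΔ.mem_or_neg_mem i with h | h
    · exact Or.inl h
    · right
      change P.root (P.reflectionPerm i i) ∈ natSpan P Δ
      rwa [root_reflectionPerm_self]
  sat := by
    intro k n hn hk
    rw [natSpan_posOf] at hk
    rcases hΔ.mem_or_neg_mem k with h | h
    · exact h
    · exfalso
      have h' : -(n • P.root k) ∈ natSpan P Δ := by
        rw [← smul_neg]
        exact AddSubmonoid.nsmul_mem _ h n
      exact nsmul_root_ne_zero P k n hn (eq_zero_of_mem_of_neg_mem P hΔ.linInd _ hk h')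

/-- For a system of simple roots Δ, the roots that are non-negative integer combinations of Δ form a
system of positive roots; and a system of positive roots S contains Δ if and only if S is that set. -/
theorem result {ι M N : Type*} [AddCommGroup M] [AddCommGroup N]
    (P : RootPairing ι ℤ M N) [Finite ι] (Δ : Set ι) (hΔ : RootD.IsSimpleSys P Δ)
    (S : Set ι) (hS : RootD.IsPosSys P S) :
    RootD.IsPosSys P (RootD.posOf P Δ) ∧ (Δ ⊆ S ↔ S = RootD.posOf P Δ) := by
  refine ⟨isPosSys_posOf P Δ hΔ, ?_, ?_⟩
  · intro hΔS
    have hsub : RootD.posOf P Δ ⊆ S := by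
      intro k hk
      apply hS.sat 1 one_pos
      rw [one_smul]
      exact natSpan_mono P hΔS hk
    apply Set.Subset.antisymm
    · intro k hk
      rcases hΔ.mem_or_neg_mem k with h | h
      · exact h
      · exfalso
        have : P.reflectionPerm k k ∈ RootD.posOf P Δ := by
          change P.root (P.reflectionPerm k k) ∈ natSpan P Δ
          rwa [root_reflectionPerm_self]
        exact hS.disjoint hk (hsub this)
    · exact hsub
  · rintro rfl
    intro i hi
    exact root_mem_natSpan P hi

end Groth.Agent.S5449
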