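import Groth.Statements.S5445
import Groth.Agent.Lib.RootDIndep
import Groth.Agent.S5447
import Groth.Agent.S5449
import Groth.Agent.S5450

set_option autoImplicit false

namespace Groth.Agent.S5445

open RootD Groth.Agent.Lib.RootDBasic Groth.Agent.Lib.RootDForm Groth.Agent.Lib.RootDIndep

section

variable {ι M N : Type*} [AddCommGroup M] [AddCommGroup N] (P : RootPairing ι ℤ M N)
variable (S : Set ι)

/-- indecomposable elements of `S` -/
def Indec : Set ι :=
  {k | k ∈ S ∧ ¬ ∃ i j : ι, i ∈ S ∧ j ∈ S ∧ P.root k = P.root i + P.root j}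

/-- elements of `S` below `k` -/
def lowerSet (k : ι) : Set ι := {i | i ∈ S ∧ P.root k - P.root i ∈ natSpan P S}

variable {S} (hS : IsPosSys P S)

include hS

theorem neg_root_not_mem (j : ι) (hj : j ∈ S) : -P.root j ∉ natSpan P S := by
  intro h
  have : P.reflectionPerm j j ∈ S :=
    hS.sat 1 one_pos (by rwa [one_smul, root_reflectionPerm_self])
  exact hS.disjoint hj this

theorem lowerSet_ssubset (k i j : ι) (hk : k ∈ S) (hj : j ∈ S)
    (hsum : P.root k = P.root i + P.root j) : lowerSet P S i ⊂ lowerSet P S k := by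
  rw [Set.ssubset_iff_of_subset]
  · refine ⟨k, ⟨hk, by rw [sub_self]; exact zero_mem _⟩, ?_⟩
    rintro ⟨-, h⟩
    apply neg_root_not_mem P hS j hj
    have : P.root i - P.root k = -P.root j := by rw [hsum]; abel
    rwa [this] at h
  · rintro i' ⟨hi', h⟩
    refine ⟨hi', ?_⟩
    have : P.root k - P.root i' = (P.root i - P.root i') + P.root j := by rw [hsum]; abel
    rw [this]
    exact add_mem h (root_mem_natSpan P hj)

theorem mem_natSpan_indec [Finite ι] : ∀ (n : ℕ) (k : ι), k ∈ S → (lowerSet P S k).ncard = n →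
    P.root k ∈ natSpan P (Indec P S) := by
  intro n
  induction n using Nat.strong_induction_on with
  | _ n ih =>
    intro k hk hn
    by_cases hdec : ∃ i j : ι, i ∈ S ∧ j ∈ S ∧ P.root k = P.root i + P.root j
    · obtain ⟨i, j, hi, hj, hsum⟩ := hdec
      have h1 : (lowerSet P S i).ncard < n := by
        rw [← hn]
        exact Set.ncard_lt_ncard (lowerSet_ssubset P hS k i j hk hj hsum) (Set.toFinite _)
      have h2 : (lowerSet P S j).ncard < n := by
        rw [← hn]
        exact Set.ncard_lt_ncard
          (lowerSet_ssubset P hS k j i hk hi (by rw [hsum, add_comm])) (Set.toFinite _)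
      rw [hsum]
      exact add_mem (ih _ h1 i hi rfl) (ih _ h2 j hj rfl)
    · exact root_mem_natSpan P ⟨hk, hdec⟩

theorem indec_obtuse [Finite ι] (d : ι) (hd : d ∈ Indec P S) (e : ι) (he : e ∈ Indec P S)
    (hde : d ≠ e) : P.pairing d e ≤ 0 := by
  by_contra hcon
  push Not at hcon
  obtain ⟨l, hl⟩ := exists_root_sub P d e hcon hde
  rcases hS.cover l with h | h
  · exact hd.2 ⟨e, l, he.1, h, by rw [hl]; abel⟩
  · exact he.2 ⟨d, P.reflectionPerm l l, hd.1, h, by rw [root_reflectionPerm_self, hl]; abel⟩

theorem indec_key (c : ι →₀ ℤ) (hcs : (↑c.support : Set ι) ⊆ Indec P S) (hcn : ∀ j, 0 ≤ c j)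
    (hc0 : Finsupp.linearCombination ℤ P.root c = 0) : c = 0 := by
  classical
  by_contra hne
  obtain ⟨d, hd⟩ : ∃ d, c d ≠ 0 := by
    by_contra hall
    push Not at hall
    apply hne
    ext j
    exact hall j
  have hdI : d ∈ Indec P S := hcs (Finsupp.mem_support_iff.mpr hd)
  apply neg_root_not_mem P hS d hdI.1
  have hlc : Finsupp.linearCombination ℤ P.root (c - Finsupp.single d 1) = -P.root d := by
    rw [map_sub, hc0]; simp
  rw [← hlc]
  apply Groth.Agent.S5447.mem_natSpan_of_nonneg
  · intro x hx
    rw [Finset.mem_coe, Finsupp.mem_support_iff] at hx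
    by_cases hxd : x = d
    · rw [hxd]; exact hdI.1
    · have : c x ≠ 0 := by
        intro h0
        apply hx
        simp [h0, Finsupp.single_eq_of_ne hxd]
      exact (hcs (Finsupp.mem_support_iff.mpr this)).1
  · intro j
    have h1 := hcn j
    have h2 := hcn d
    simp only [Finsupp.coe_sub, Pi.sub_apply, Finsupp.single_apply]
    split_ifs with hdj
    · subst hdj; omega
    · omega

theorem isSimpleSys_indec [Finite ι] : IsSimpleSys P (Indec P S) where
  linInd := linearIndepOn_of_obtuse P (Indec P S) (indec_obtuse P hS) (indec_key P hS)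
  mem_or_neg_mem := by
    intro k
    rcases hS.cover k with h | h
    · left
      exact mem_natSpan_indec P hS _ k h rfl
    · right
      have := mem_natSpan_indec P hS _ _ h rfl
      rwa [root_reflectionPerm_self] at this

end

/-- A system of positive roots of a root datum contains exactly one system of simple roots (simple
systems in the sense of conditions on roots only: linearly independent, every root a non-negative or
non-positive integer combination). -/
theorem result {ι M N : Type*} [AddCommGroup M] [AddCommGroup N]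
    (P : RootPairing ι ℤ M N) [Finite ι] (S : Set ι) (hS : RootD.IsPosSys P S) :
    ∃! Δ : Set ι, RootD.IsSimpleSys P Δ ∧ Δ ⊆ S := by
  refine ⟨Indec P S, ⟨isSimpleSys_indec P hS, fun k hk => hk.1⟩, ?_⟩
  rintro Δ' ⟨hΔ', hsub⟩
  have hSeq : S = posOf P Δ' := (Groth.Agent.S5449.result P Δ' hΔ' S hS).2.mp hsub
  ext k
  constructor
  · intro hk
    have hkS : k ∈ S := hsub hk
    refine ⟨hkS, ?_⟩
    have := (Groth.Agent.S5450.result P Δ' hΔ' k (hSeq ▸ hkS)).mp hk
    rwa [← hSeq] at this
  · rintro ⟨hkS, hk⟩
    apply (Groth.Agent.S5450.result P Δ' hΔ' k (hSeq ▸ hkS)).mpr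
    rwa [← hSeq]

end Groth.Agent.S5445
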