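import Groth.Statements.S5456
import Groth.Agent.Lib.RootDatum

set_option autoImplicit false
open RootD

namespace Groth.Agent.S5456

open Groth.Agent.Lib.RootDatum

/-- A set of roots is a system of positive roots if and only if it satisfies (P 1), (P 2) and is closed. -/
theorem result {ι M N : Type*} [AddCommGroup M] [AddCommGroup N]
    (P : RootPairing ι ℤ M N) [Finite ι] (S : Set ι) :
    RootD.IsPosSys P S ↔ ((∀ i ∈ S, P.reflectionPerm i i ∉ S) ∧ (∀ i : ι, i ∈ S ∨ P.reflectionPerm i i ∈ S) ∧
      RootD.IsClosedSub P S) := by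
  constructor
  · intro h
    refine ⟨fun i hi => h.disjoint hi, h.cover, ?_⟩
    intro i j k hi hj hk
    apply h.sat 1 one_pos
    rw [one_smul, hk]
    exact add_mem (AddSubmonoid.subset_closure ⟨i, hi, rfl⟩) (AddSubmonoid.subset_closure ⟨j, hj, rfl⟩)
  · rintro ⟨h1, h2, h3⟩
    refine ⟨fun i hi => h1 i hi, h2, ?_⟩
    intro k n hn hmem
    by_contra hk
    have hk' : P.reflectionPerm k k ∈ S := (h2 k).resolve_left hk
    obtain ⟨m, hm, hsum⟩ := (mem_natSpan_iff P S _).mp hmem
    refine sum_ne_zero_of_closed P S h3 (fun i hi => h1 i hi) _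
      (m + Multiset.replicate n (P.reflectionPerm k k)) rfl ?_ ?_ ?_
    · intro h0
      have := congrArg Multiset.card h0
      simp at this
      omega
    · intro i hi
      rcases Multiset.mem_add.mp hi with h | h
      · exact hm i h
      · rw [Multiset.eq_of_mem_replicate h]; exact hk'
    · rw [Multiset.map_add, Multiset.sum_add, hsum, Multiset.map_replicate, Multiset.sum_replicate,
        root_neg]
      simp

end Groth.Agent.S5456
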