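import Groth.Statements.S5489
import Mathlib.LinearAlgebra.RootSystem.Finite.Lemmas
import Mathlib.LinearAlgebra.RootSystem.Finite.Nondegenerate

set_option autoImplicit false
open RootD

namespace Groth.Agent.S5489

theorem pairingIn_int_eq {ι M N : Type*} [AddCommGroup M] [AddCommGroup N]
    (P : RootPairing ι ℤ M N) (i j : ι) : P.pairingIn ℤ i j = P.pairing i j := by
  have := P.algebraMap_pairingIn ℤ i j
  simpa using this

/-- If a root α, distinct from roots α_1, ..., α_n, is a non-negative rational combination of them, then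
some α_l with non-zero coefficient has (α^v, α_l) > 0 and α - α_l a root. -/
theorem result {ι M N : Type*} [AddCommGroup M] [AddCommGroup N]
    (P : RootPairing ι ℤ M N) [Finite ι] {n : ℕ} (a : Fin n → ι) (m : Fin n → ℕ)
    (k : ι) (hne : ∀ l, a l ≠ k) (c : ℕ) (hc : 0 < c) (hk : c • P.root k = ∑ l, m l • P.root (a l)) :
    ∃ l : Fin n, m l ≠ 0 ∧ 0 < P.pairing (a l) k ∧ P.root k - P.root (a l) ∈ Set.range P.root := by
  classical
  have : Fintype ι := Fintype.ofFinite ι
  let B := P.toInvariantForm
  have hBpos : 0 < P.RootForm (P.root k) (P.root k) := by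
    have h1 : 0 ≤ P.RootForm (P.root k) (P.root k) := (P.rootForm_self_sum_of_squares (P.root k)).nonneg
    have h2 : P.RootForm (P.root k) (P.root k) ≠ 0 := B.ne_zero k
    exact lt_of_le_of_ne h1 (Ne.symm h2)
  have hsum : (c : ℤ) * P.RootForm (P.root k) (P.root k) =
      ∑ l, (m l : ℤ) * P.RootForm (P.root (a l)) (P.root k) := by
    have := congrArg (fun x => P.RootForm x (P.root k)) hk
    simpa [map_sum, map_nsmul] using this
  have hpos : 0 < ∑ l, (m l : ℤ) * P.RootForm (P.root (a l)) (P.root k) := by
    rw [← hsum]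
    exact mul_pos (by exact_mod_cast hc) hBpos
  obtain ⟨l, -, hl⟩ := Finset.exists_lt_of_sum_lt (s := Finset.univ) (f := fun _ => (0:ℤ))
    (g := fun l => (m l : ℤ) * P.RootForm (P.root (a l)) (P.root k)) (by simpa using hpos)
  have hml : m l ≠ 0 := by
    rintro h0
    simp [h0] at hl
  have hform : 0 < P.RootForm (P.root (a l)) (P.root k) := by
    have hm0 : (0 : ℤ) < m l := by exact_mod_cast Nat.pos_of_ne_zero hml
    exact pos_of_mul_pos_right hl hm0.le
  have h2 := B.two_mul_apply_root_root (a l) k
  have hpair : 0 < P.pairing (a l) k := by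
    have h3 : 0 < P.pairing (a l) k * P.RootForm (P.root k) (P.root k) := by
      have : P.pairing (a l) k * P.RootForm (P.root k) (P.root k) =
          2 * P.RootForm (P.root (a l)) (P.root k) := h2.symm
      rw [this]; positivity
    exact pos_of_mul_pos_left h3 hBpos.le
  refine ⟨l, hml, hpair, ?_⟩
  have h4 : P.root (a l) - P.root k ∈ Set.range P.root :=
    P.root_sub_root_mem_of_pairingIn_pos (by rw [pairingIn_int_eq]; exact hpair) (hne l)
  have h5 := (P.neg_mem_range_root_iff).2 h4
  simpa using h5

end Groth.Agent.S5489
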