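import Groth.Statements.S5484
import Groth.Agent.Lib.RootDForm
import Mathlib.LinearAlgebra.RootSystem.Finite.Nondegenerate
import Mathlib.Analysis.Matrix.PosDef
import Mathlib.Algebra.Order.Star.Real
import Mathlib.LinearAlgebra.Matrix.ToLinearEquiv

set_option autoImplicit false
open RootD

namespace Groth.Agent.S5484

open Matrix in
/-- The Gram matrix (w.r.t. the canonical form) of a linearly independent family of roots has
positive determinant. -/
theorem gram_det_pos {ι M N : Type*} [AddCommGroup M] [AddCommGroup N]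
    (P : RootPairing ι ℤ M N) [Fintype ι] (Δ' : Finset ι)
    (hli : LinearIndepOn ℤ P.root (↑Δ' : Set ι)) [DecidableEq ↥Δ'] :
    0 < Matrix.det (Matrix.of fun (a b : ↥Δ') => P.RootForm (P.root a) (P.root b)) := by
  set C : Matrix ι ↥Δ' ℤ := Matrix.of fun i a => P.pairing a i with hC
  set G : Matrix ↥Δ' ↥Δ' ℤ := Matrix.of fun (a b : ↥Δ') => P.RootForm (P.root a) (P.root b) with hG
  have hGC : G = Cᵀ * C := by
    ext a b
    simp [hG, hC, Matrix.mul_apply, RootPairing.rootForm_apply_apply]
  -- nonvanishing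
  have hne : G.det ≠ 0 := by
    intro h0
    obtain ⟨v, hv, hGv⟩ := Matrix.exists_mulVec_eq_zero_iff.mpr h0
    apply hv
    set x : M := ∑ a : ↥Δ', v a • P.root a with hx
    have hxx : P.RootForm x x = v ⬝ᵥ (G *ᵥ v) := by
      simp only [hx, map_sum, LinearMap.sum_apply, map_smul, LinearMap.smul_apply, smul_eq_mul,
        dotProduct, Matrix.mulVec, hG, Matrix.of_apply, Finset.mul_sum]
      rw [Finset.sum_comm]
      apply Finset.sum_congr rfl
      intro a _
      apply Finset.sum_congr rfl
      intro b _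
      ring
    have hx0 : x = 0 := by
      apply P.eq_zero_of_mem_rootSpan_of_rootForm_self_eq_zero (R := ℤ)
      · apply Submodule.sum_mem
        intro a _
        apply Submodule.smul_mem
        exact Submodule.subset_span ⟨a, rfl⟩
      · rw [hxx, hGv]; simp
    have hli' : LinearIndependent ℤ (fun a : ↥Δ' => P.root a) := hli
    have := Fintype.linearIndependent_iff.mp hli' v hx0
    funext a
    exact this a
  -- nonnegativity via the reals
  have hnonneg : (0 : ℝ) ≤ ((G.det : ℤ) : ℝ) := by
    have h1 : ((G.det : ℤ) : ℝ) = (G.map (Int.castRingHom ℝ)).det := by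
      rw [← RingHom.mapMatrix_apply, ← RingHom.map_det]; simp
    have h2 : G.map (Int.castRingHom ℝ) = (C.map (Int.castRingHom ℝ))ᴴ * (C.map (Int.castRingHom ℝ)) := by
      rw [hGC, Matrix.map_mul, Matrix.conjTranspose_eq_transpose_of_trivial, Matrix.transpose_map]
    rw [h1, h2]
    exact (Matrix.posSemidef_conjTranspose_mul_self _).det_nonneg
  have : 0 ≤ G.det := by exact_mod_cast hnonneg
  exact lt_of_le_of_ne this (Ne.symm hne)

theorem main {ι M N : Type*} [AddCommGroup M] [AddCommGroup N]
    (P : RootPairing ι ℤ M N) [Finite ι] (Δ' : Finset ι)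
    (hli : LinearIndepOn ℤ P.root (↑Δ' : Set ι)) (inst : DecidableEq ↥Δ') :
    0 < @Matrix.det _ inst _ _ _ (Matrix.of fun (a b : ↥Δ') => P.pairing (b : ι) (a : ι)) := by
  letI : Fintype ι := Fintype.ofFinite ι
  set A : Matrix ↥Δ' ↥Δ' ℤ := Matrix.of fun (a b : ↥Δ') => P.pairing (b : ι) (a : ι) with hA
  set G : Matrix ↥Δ' ↥Δ' ℤ := Matrix.of fun (a b : ↥Δ') => P.RootForm (P.root a) (P.root b) with hG
  have hGpos : 0 < G.det := gram_det_pos P Δ' hli
  set d : ↥Δ' → ℤ := fun a => P.RootForm (P.root a) (P.root a) with hd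
  have hdpos : ∀ a, 0 < d a := fun a => Groth.Agent.Lib.RootDForm.rootForm_root_self_pos P a
  have hDA : Matrix.diagonal d * A = (2 : ℤ) • G := by
    ext a b
    rw [Matrix.diagonal_mul, Matrix.smul_apply]
    simp only [hd, hA, hG, Matrix.of_apply, smul_eq_mul]
    have h1 := Groth.Agent.Lib.RootDForm.two_mul_rootForm P b a
    have h2 := P.rootForm_symmetric.eq (P.root b) (P.root a)
    simp only [RingHom.id_apply] at h2
    rw [← h2, h1]; ring
  have hdet : (∏ a, d a) * A.det = 2 ^ (Fintype.card ↥Δ') * G.det := by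
    have := congrArg Matrix.det hDA
    rw [Matrix.det_mul, Matrix.det_diagonal, Matrix.det_smul] at this
    exact this
  have hprod : 0 < ∏ a, d a := Finset.prod_pos fun a _ => hdpos a
  have hrhs : 0 < 2 ^ (Fintype.card ↥Δ') * G.det := mul_pos (by positivity) hGpos
  rw [← hdet] at hrhs
  exact (mul_pos_iff_of_pos_left hprod).mp hrhs

open Classical in
/-- Every principal minor of the Cartan matrix (a_{α,β} = (α^v, β), α, β simple) is strictly positive. -/
theorem result {ι M N : Type*} [AddCommGroup M] [AddCommGroup N]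
    (P : RootPairing ι ℤ M N) [Finite ι] (Δ : Finset ι) (hΔ : RootD.IsSimpleSys P (↑Δ : Set ι))
    (Δ' : Finset ι) (hsub : Δ' ⊆ Δ) :
    0 < Matrix.det (Matrix.of fun (a b : ↥Δ') => P.pairing (b : ι) (a : ι)) := by
  exact main P Δ' (hΔ.linInd.mono (by exact_mod_cast hsub)) _

end Groth.Agent.S5484
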