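import Groth.Statements.S0031
import Groth.Agent.Lib.BasisAcyclic
import Groth.Agent.Lib.QcqsVanishingBound

set_option autoImplicit false
universe u
open Coherent

namespace Groth.Agent.S0031

open AlgebraicGeometry CategoryTheory in
/-- If f : X → S is quasi-compact and quasi-separated and S is quasi-compact, there is an integer n with
R^p f_* F = 0 for all p ≥ n and all quasi-coherent F (higher direct images of the underlying abelian
sheaves). -/
theorem result {X S : Scheme.{u}} (f : X ⟶ S) [QuasiCompact f]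
    [QuasiSeparated f] [CompactSpace S] :
    ∃ n : ℕ, ∀ (M : X.Modules), Coh.IsQCoh M → ∀ p : ℕ, n ≤ p →
      Limits.IsZero ((Coh.RpushAb f p).obj (Coh.toAb M)) := by
  classical
  -- a finite affine cover of `S`
  obtain ⟨t, ht⟩ := isCompact_univ.elim_finite_subcover
    (fun T : S.affineOpens => ((T : S.Opens) : Set S)) (fun T => T.1.2)
    (fun x _ => by
      obtain ⟨T, hT, hxT, -⟩ := TopologicalSpace.Opens.isBasis_iff_nbhd.1 S.isBasis_affineOpens
        (show x ∈ (⊤ : S.Opens) from trivial)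
      exact Set.mem_iUnion.2 ⟨⟨T, hT⟩, hxT⟩)
  -- uniform bounds on each member of the cover
  choose d hd using fun T : S.affineOpens =>
    Groth.Agent.Lib.AffVan.exists_uniform_bound_preimage (f := f) T.2
  -- the basis of affine opens contained in a member of the cover
  let B : Set S.Opens := {V | IsAffineOpen V ∧ ∃ T ∈ t, V ≤ (T : S.Opens)}
  have hB : TopologicalSpace.Opens.IsBasis B := by
    rw [TopologicalSpace.Opens.isBasis_iff_nbhd]
    intro U x hxU
    obtain ⟨T, hT⟩ := Set.mem_iUnion.1 (ht (Set.mem_univ x))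
    obtain ⟨hTt, hxT⟩ := Set.mem_iUnion.1 hT
    obtain ⟨V, hV, hxV, hVUT⟩ := TopologicalSpace.Opens.isBasis_iff_nbhd.1 S.isBasis_affineOpens
      (show x ∈ U ⊓ (T : S.Opens) from ⟨hxU, hxT⟩)
    exact ⟨V, ⟨hV, T, hTt, hVUT.trans inf_le_right⟩, hxV, hVUT.trans inf_le_left⟩
  refine ⟨t.sup d + 1, fun M hM p hp => ?_⟩
  obtain ⟨q, rfl⟩ := Nat.exists_eq_succ_of_ne_zero (by omega : p ≠ 0)
  have hq : t.sup d ≤ q := by omega
  refine Groth.Agent.Lib.BasisAcyclic.isZero_Rpush_succ (f := f.base) hB (Coh.toAb M) (t.sup d)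
    ?_ q hq
  rintro V ⟨hV, T, hTt, hVT⟩ n hn α
  exact hd T V hV hVT M hM (n + 1) ((Finset.le_sup hTt).trans (hn.trans (Nat.le_succ n))) α

end Groth.Agent.S0031
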