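import Groth.Statements.S3833
-- import your own Groth.Agent.* helpers here

set_option autoImplicit false
universe u
open CategoryTheory CategoryTheory.Limits AlgebraicGeometry TopologicalSpace
open Rat20

namespace Groth.Agent.S3833

/-- Stated for a global section, the case of a section over an open subset U being the same statement
for the open subscheme U: let X be a scheme and s a global section of O_X which is regular in the
sense that its germ at every point x is a non-zero-divisor of the local ring O_{X,x} (on an affine
scheme this is the same as being a non-zero-divisor of Γ(X, O_X), but not in general). Then the open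
subset X_s where s is invertible is schematically dense in X. -/
theorem result (X : Scheme.{u}) (s : Γ(X, ⊤))
    (hs : ∀ x : ↥X, (X.presheaf.germ ⊤ x trivial s) ∈ nonZeroDivisors ↑(X.presheaf.stalk x)) :
    CInt.IsSchematicallyDense (X.basicOpen s) := by
  intro V
  rw [injective_iff_map_eq_zero]
  intro t ht
  refine TopCat.Presheaf.section_ext X.sheaf V _ _ ?_
  intro x hx
  obtain ⟨W, hW, hxW, hWV⟩ := Opens.isBasis_iff_nbhd.mp X.isBasis_affineOpens hx
  have hW' : IsAffineOpen W := hW
  -- restrict to W
  set sW : Γ(X, W) := X.presheaf.map (homOfLE le_top).op s with hsW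
  set tW : Γ(X, W) := X.presheaf.map (homOfLE hWV).op t with htW
  have hb : X.basicOpen sW = W ⊓ X.basicOpen s := by
    rw [hsW, Scheme.basicOpen_res]
  have hle : X.basicOpen sW ≤ V ⊓ X.basicOpen s := by
    rw [hb]
    exact inf_le_inf_right _ hWV
  have h0 : tW |_ (X.basicOpen sW) = 0 := by
    change X.presheaf.map (homOfLE (X.basicOpen_le sW)).op (X.presheaf.map (homOfLE hWV).op t) = 0
    have h1 : X.presheaf.map (homOfLE (X.basicOpen_le sW)).op (X.presheaf.map (homOfLE hWV).op t) =
        X.presheaf.map (homOfLE hle).op
          (X.presheaf.map (homOfLE (inf_le_left : V ⊓ X.basicOpen s ≤ V)).op t) := by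
      rw [← CategoryTheory.comp_apply, ← CategoryTheory.comp_apply, ← Functor.map_comp,
        ← Functor.map_comp]
      rfl
    rw [h1, ht, map_zero]
  obtain ⟨n, hn⟩ := exists_pow_mul_eq_zero_of_res_basicOpen_eq_zero_of_isAffineOpen X hW' tW sW h0
  have hg := congrArg (X.presheaf.germ W x hxW) hn
  rw [map_mul, map_pow, map_zero] at hg
  have hgs : X.presheaf.germ W x hxW sW = X.presheaf.germ ⊤ x trivial s := by
    rw [hsW]
    exact TopCat.Presheaf.germ_res_apply _ _ _ _ _
  have hgt : X.presheaf.germ W x hxW tW = X.presheaf.germ V x hx t := by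
    rw [htW]
    exact TopCat.Presheaf.germ_res_apply _ _ _ _ _
  rw [hgs, hgt] at hg
  change X.presheaf.germ V x hx t = X.presheaf.germ V x hx 0
  rw [map_zero]
  have := pow_mem (hs x) n
  exact this.1 _ hg

end Groth.Agent.S3833
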