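import Groth.Statements.S9239
import Groth.Agent.S9237
import Groth.Agent.S9238
import Groth.Agent.Lib.HenselizationNoeth
import Groth.Agent.Lib.HznWeaklyEtale96
import Groth.Agent.Lib.StrictHenselization
import Groth.Agent.Lib.StrictHenselizationProps
import Groth.Agent.Lib.DiagFlat
import Groth.Agent.Lib.AdicNoeth

set_option autoImplicit false
universe u
open Brnch

namespace Groth.Agent.S9239

open IsLocalRing

theorem card_minimalPrimes_le_of_injective {R R' : Type*} [CommRing R] [CommRing R']
    (f : R →+* R') (hf : Function.Injective f) :
    ENat.card (minimalPrimes R) ≤ ENat.card (minimalPrimes R') := by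
  have hex : ∀ p : minimalPrimes R, ∃ P ∈ minimalPrimes R', P.comap f = p.1 := by
    intro p
    have hp' : p.1 ∈ ((⊥ : Ideal R').comap f).minimalPrimes := by
      rw [Ideal.comap_bot_of_injective _ hf]; exact p.2
    exact Ideal.exists_minimalPrimes_comap_eq f p.1 hp'
  choose c hc hcp using hex
  refine ENat.card_le_card_of_injective (f := fun p => (⟨c p, hc p⟩ : minimalPrimes R')) ?_
  intro p p' h
  have h1 : c p = c p' := congrArg Subtype.val h
  exact Subtype.ext (by rw [← hcp p, ← hcp p', h1])

theorem isHenselization_self (T : Type u) [CommRing T] [IsLocalRing T] [h : HenselianLocalRing T]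
    [IsLocalHom (algebraMap T T)] : Hensel.IsHenselization T T where
  henselian := h
  universal := fun T' _ _ f _ => ⟨f, RingHom.ext fun x => rfl, fun g hg => by
    rw [← hg]; exact RingHom.ext fun x => rfl⟩

section Strict

theorem card_minimalPrimes_strict_le (A B S T : Type u) [CommRing A] [IsLocalRing A] [CommRing B]
    [IsLocalRing B] [Algebra A B] [IsLocalHom (algebraMap A B)] [Module.Flat A B]
    [CommRing S] [IsLocalRing S] [Algebra A S] [IsLocalHom (algebraMap A S)]
    [Hensel.IsStrictHenselization A S]
    [CommRing T] [IsLocalRing T] [Algebra B T] [IsLocalHom (algebraMap B T)]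
    [Hensel.IsStrictHenselization B T] :
    ENat.card (minimalPrimes S) ≤ ENat.card (minimalPrimes T) := by
  have hT : HenselianLocalRing T := Hensel.IsStrictHenselization.henselian (R := B)
  have hscT : IsSepClosure (ResidueField B) (ResidueField T) :=
    Hensel.IsStrictHenselization.isSepClosure
  have hscS : IsSepClosure (ResidueField A) (ResidueField S) :=
    Hensel.IsStrictHenselization.isSepClosure
  let f : A →+* T := (algebraMap B T).comp (algebraMap A B)
  letI algAT : Algebra A T := f.toAlgebra
  have htowerABT : IsScalarTower A B T := IsScalarTower.of_algebraMap_eq (fun _ => rfl)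
  have hlocf : IsLocalHom (algebraMap A T) :=
    RingHom.isLocalHom_comp (algebraMap B T) (algebraMap A B)
  have hsepclosedT : IsSepClosed (ResidueField T) := IsSepClosure.sep_closed (ResidueField B)
  have hsepS : Algebra.IsSeparable (ResidueField A) (ResidueField S) := IsSepClosure.separable
  let τ₀ : ResidueField S →ₐ[ResidueField A] ResidueField T := IsSepClosed.lift
  have hτ : (τ₀ : ResidueField S →+* ResidueField T).comp
      (ResidueField.map (algebraMap A S)) = ResidueField.map (algebraMap A T) := by
    refine RingHom.ext fun x => ?_
    obtain ⟨a, rfl⟩ := residue_surjective x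
    rw [RingHom.comp_apply, ResidueField.map_residue, ResidueField.map_residue,
      ← ResidueField.algebraMap_residue]
    exact τ₀.commutes (residue A a)
  obtain ⟨g, ⟨hg1, hg2⟩, -⟩ := Hensel.IsStrictHenselization.universal (R := A) (S := S) T
    (algebraMap A T) (τ₀ : ResidueField S →+* ResidueField T) hτ
  have hlocg : IsLocalHom g := by
    constructor
    intro x hx
    by_contra hnx
    have h1 : residue S x = 0 := (residue_eq_zero_iff x).mpr hnx
    have h2 : residue T (g x) = 0 := by rw [hg2, h1, map_zero]
    have h3 : g x ∈ maximalIdeal T := (residue_eq_zero_iff (g x)).mp h2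
    exact h3 hx
  letI algST : Algebra S T := g.toAlgebra
  have htowerAST : IsScalarTower A S T :=
    IsScalarTower.of_algebraMap_eq (fun a => (RingHom.congr_fun hg1 a).symm)
  have hffBT : Module.FaithfullyFlat B T :=
    Groth.Agent.Lib.StrictHenselization.faithfullyFlat_of_isStrictHenselization B T
  have hflatBT : Module.Flat B T := inferInstance
  have hflatAT : Module.Flat A T := Module.Flat.trans A B T
  have hwe : Algebra.WeaklyEtale A S :=
    Groth.Agent.Lib.HznWeaklyEtale96.weaklyEtale_of_isStrictHenselization A S
  have hflatST : Module.Flat S T :=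
    Groth.Agent.Lib.DiagFlat.flat_of_flat_lmul' (Algebra.WeaklyEtale.flat_lmul' A S) T
  have hlocg' : IsLocalHom (algebraMap S T) := hlocg
  have hff : Module.FaithfullyFlat S T := Module.FaithfullyFlat.of_flat_of_isLocalHom
  exact card_minimalPrimes_le_of_injective (algebraMap S T)
    (FaithfulSMul.algebraMap_injective S T)

end Strict


/-- For a Noetherian local ring A with completion A^ at its maximal ideal, A^ has at least as many
branches as A, and at least as many geometric branches as A. -/
theorem result (A : Type u) [CommRing A] [IsLocalRing A] [IsNoetherianRing A] :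
    Brnch.numBranches A ≤ Brnch.numBranches (AdicCompletion (IsLocalRing.maximalIdeal A) A) ∧
      Brnch.numGeomBranches A ≤
        Brnch.numGeomBranches (AdicCompletion (IsLocalRing.maximalIdeal A) A) := by
  classical
  have hN : IsNoetherianRing (AdicCompletion (maximalIdeal A) A) :=
    Groth.Agent.Lib.AdicNoeth.isNoetherianRing_adicCompletion _
  have hH : HenselianLocalRing (AdicCompletion (maximalIdeal A) A) :=
    Groth.Agent.Lib.HenselizationNoeth.henselianLocalRing_of_henselianRing _
  have hflat : Module.Flat A (AdicCompletion (maximalIdeal A) A) :=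
    AdicCompletion.flat_of_isNoetherian (maximalIdeal A)
  constructor
  · have hfl : (algebraMap A (AdicCompletion (maximalIdeal A) A)).Flat :=
      RingHom.flat_algebraMap_iff.mpr hflat
    letI algHA : Algebra (Groth.Agent.Lib.HenselizationConstr.Hzn A)
        (AdicCompletion (maximalIdeal A) A) :=
      (Groth.Agent.Lib.HenselizationConstr.liftHzn
        (algebraMap A (AdicCompletion (maximalIdeal A) A))).toAlgebra
    have hff : Module.FaithfullyFlat (Groth.Agent.Lib.HenselizationConstr.Hzn A)
        (AdicCompletion (maximalIdeal A) A) :=
      Groth.Agent.Lib.HenselizationNoeth.faithfullyFlat_liftHzn A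
        (algebraMap A (AdicCompletion (maximalIdeal A) A)) hfl
    have hle := card_minimalPrimes_le_of_injective
      (algebraMap (Groth.Agent.Lib.HenselizationConstr.Hzn A) (AdicCompletion (maximalIdeal A) A))
      (FaithfulSMul.algebraMap_injective _ _)
    haveI hid : IsLocalHom (algebraMap (AdicCompletion (maximalIdeal A) A)
        (AdicCompletion (maximalIdeal A) A)) := ⟨fun a h => h⟩
    haveI hself : Hensel.IsHenselization (AdicCompletion (maximalIdeal A) A)
        (AdicCompletion (maximalIdeal A) A) := isHenselization_self _
    rw [← Groth.Agent.S9237.result A (Groth.Agent.Lib.HenselizationConstr.Hzn A),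
      ← Groth.Agent.S9237.result (AdicCompletion (maximalIdeal A) A)
        (AdicCompletion (maximalIdeal A) A)]
    exact hle
  · rw [← Groth.Agent.S9238.result A (Groth.Agent.Lib.StrictHenselization.Sh A),
      ← Groth.Agent.S9238.result (AdicCompletion (maximalIdeal A) A)
        (Groth.Agent.Lib.StrictHenselization.Sh (AdicCompletion (maximalIdeal A) A))]
    exact card_minimalPrimes_strict_le A (AdicCompletion (maximalIdeal A) A)
      (Groth.Agent.Lib.StrictHenselization.Sh A)
      (Groth.Agent.Lib.StrictHenselization.Sh (AdicCompletion (maximalIdeal A) A))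

end Groth.Agent.S9239
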