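import Groth.Statements.S9243
import Groth.Agent.S9237
import Groth.Agent.S9239
import Groth.Agent.Lib.HenselizationNoeth
import Groth.Agent.Lib.HznWeaklyEtale96
import Groth.Agent.Lib.HenselizationUP
import Groth.Agent.Lib.DiagFlat
import Groth.Agent.Lib.AdicNoeth
import Mathlib.RingTheory.Ideal.GoingDown

set_option autoImplicit false
universe u
open Brnch

namespace Groth.Agent.S9243

open IsLocalRing

section GD

variable {R R' : Type*} [CommRing R] [CommRing R'] [Algebra R R'] [Module.Flat R R']

theorem comap_mem_minimalPrimes {P : Ideal R'} (hP : P ∈ minimalPrimes R') :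
    P.comap (algebraMap R R') ∈ minimalPrimes R := by
  have hPprime : P.IsPrime := hP.1.1
  have hpprime : (P.comap (algebraMap R R')).IsPrime := Ideal.comap_isPrime _ _
  obtain ⟨q', hq'min, hq'le⟩ :=
    Ideal.exists_minimalPrimes_le (I := ⊥) (J := P.comap (algebraMap R R')) bot_le
  by_cases hne : q' = P.comap (algebraMap R R')
  · rw [← hne]; exact hq'min
  · exfalso
    have hq'prime : q'.IsPrime := hq'min.1.1
    obtain ⟨P', hP'le, hP'prime, hP'over⟩ :=
      Algebra.HasGoingDown.exists_ideal_le_liesOver_of_lt (R := R) (p := q') P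
        (lt_of_le_of_ne hq'le hne)
    have h1 : P ≤ P' := hP.2 ⟨hP'prime, bot_le⟩ hP'le
    have h2 : P' = P := le_antisymm hP'le h1
    apply hne
    rw [hP'over.over, h2]

theorem minimalPrimes_map_eq {q : Ideal R} (hq : q ∈ minimalPrimes R) :
    (q.map (algebraMap R R')).minimalPrimes
      = {P | P ∈ minimalPrimes R' ∧ P.comap (algebraMap R R') = q} := by
  have hqprime : q.IsPrime := hq.1.1
  ext P
  constructor
  · intro hP
    have hPprime : P.IsPrime := hP.1.1
    have hle : q ≤ P.comap (algebraMap R R') := Ideal.map_le_iff_le_comap.mp hP.1.2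
    have hcomap : P.comap (algebraMap R R') = q := by
      by_contra hne
      have hlt : q < P.under R := lt_of_le_of_ne hle (Ne.symm hne)
      obtain ⟨P', hP'le, hP'prime, hP'over⟩ :=
        Algebra.HasGoingDown.exists_ideal_le_liesOver_of_lt (R := R) (p := q) P hlt
      have h0 : q.map (algebraMap R R') ≤ P' :=
        Ideal.map_le_iff_le_comap.mpr (le_of_eq hP'over.over)
      have h1 : P ≤ P' := hP.2 ⟨hP'prime, h0⟩ hP'le
      have h2 : P' = P := le_antisymm hP'le h1
      apply hne
      rw [hP'over.over, h2]
    refine ⟨⟨⟨hPprime, bot_le⟩, ?_⟩, hcomap⟩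
    rintro P'' ⟨hP''prime, -⟩ hP''le
    have h1 : P''.comap (algebraMap R R') ≤ q := by
      rw [← hcomap]; exact Ideal.comap_mono hP''le
    have h2 : q ≤ P''.comap (algebraMap R R') := hq.2 ⟨Ideal.comap_isPrime _ _, bot_le⟩ h1
    exact hP.2 ⟨hP''prime, Ideal.map_le_iff_le_comap.mpr h2⟩ hP''le
  · rintro ⟨hP, hcomap⟩
    have hPprime : P.IsPrime := hP.1.1
    refine ⟨⟨hPprime, Ideal.map_le_iff_le_comap.mpr (le_of_eq hcomap.symm)⟩, ?_⟩
    rintro Q ⟨hQprime, -⟩ hQP
    exact hP.2 ⟨hQprime, bot_le⟩ hQP

end GD

theorem radical_isPrime_iff {R : Type*} [CommRing R] (I : Ideal R) :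
    I.radical.IsPrime ↔ ∃ P, I.minimalPrimes = {P} := by
  constructor
  · intro h
    refine ⟨I.radical, ?_⟩
    rw [← Ideal.radical_minimalPrimes]
    exact Ideal.minimalPrimes_eq_subsingleton_self
  · rintro ⟨P, hP⟩
    have h1 : I.radical = P := by rw [← Ideal.sInf_minimalPrimes, hP, sInf_singleton]
    have h2 : P ∈ I.minimalPrimes := by rw [hP]; exact Set.mem_singleton P
    rw [h1]
    exact h2.1.1


/-- Let A be a Noetherian local ring with henselization S and completion A^, and ψ : S → A^ the ring map
compatible with the structure maps from A. Then A and A^ have the same number of branches if and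
only if, for every minimal prime q of S, the radical of the extension of q along ψ is a prime ideal
of A^. -/
theorem result (A S : Type u) [CommRing A] [IsLocalRing A]
    [IsNoetherianRing A] [CommRing S] [IsLocalRing S] [Algebra A S] [IsLocalHom (algebraMap A S)]
    [Hensel.IsHenselization A S] (ψ : S →+* AdicCompletion (IsLocalRing.maximalIdeal A) A)
    (hψ : ψ.comp (algebraMap A S) = algebraMap A (AdicCompletion (IsLocalRing.maximalIdeal A) A)) :
    Brnch.numBranches A = Brnch.numBranches (AdicCompletion (IsLocalRing.maximalIdeal A) A) ↔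
      ∀ q ∈ minimalPrimes S, (Ideal.map ψ q).radical.IsPrime := by
  classical
  have hN : IsNoetherianRing (AdicCompletion (maximalIdeal A) A) :=
    Groth.Agent.Lib.AdicNoeth.isNoetherianRing_adicCompletion _
  have hH : HenselianLocalRing (AdicCompletion (maximalIdeal A) A) :=
    Groth.Agent.Lib.HenselizationNoeth.henselianLocalRing_of_henselianRing _
  have hflatA : Module.Flat A (AdicCompletion (maximalIdeal A) A) := AdicCompletion.flat_of_isNoetherian (maximalIdeal A)
  have hNS : IsNoetherianRing S :=
    (Groth.Agent.Lib.HenselizationNoeth.isNoetherianRing_iff_of_isHenselization A S).mp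
      inferInstance
  letI algSA : Algebra S (AdicCompletion (maximalIdeal A) A) := ψ.toAlgebra
  have htower : IsScalarTower A S (AdicCompletion (maximalIdeal A) A) :=
    IsScalarTower.of_algebraMap_eq (fun a => (RingHom.congr_fun hψ a).symm)
  have hwe : Algebra.WeaklyEtale A S :=
    Groth.Agent.Lib.HznWeaklyEtale96.weaklyEtale_of_isHenselization A S
  have hflatS : Module.Flat S (AdicCompletion (maximalIdeal A) A) :=
    Groth.Agent.Lib.DiagFlat.flat_of_flat_lmul' (Algebra.WeaklyEtale.flat_lmul' A S) (AdicCompletion (maximalIdeal A) A)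
  have hloc : IsLocalHom (algebraMap S (AdicCompletion (maximalIdeal A) A)) := by
    refine ((local_hom_TFAE (algebraMap S (AdicCompletion (maximalIdeal A) A))).out 2 0).mp ?_
    rw [← Groth.Agent.Lib.HenselizationUP.map_maximalIdeal_eq A S, Ideal.map_map,
      ← IsScalarTower.algebraMap_eq]
    exact map_maximalIdeal_le (algebraMap A (AdicCompletion (maximalIdeal A) A))
  have hff : Module.FaithfullyFlat S (AdicCompletion (maximalIdeal A) A) := Module.FaithfullyFlat.of_flat_of_isLocalHom
  have hinj : Function.Injective (algebraMap S (AdicCompletion (maximalIdeal A) A)) := FaithfulSMul.algebraMap_injective S (AdicCompletion (maximalIdeal A) A)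
  have hfinS : (minimalPrimes S).Finite := minimalPrimes.finite_of_isNoetherianRing S
  have hfinAh : (minimalPrimes (AdicCompletion (maximalIdeal A) A)).Finite := minimalPrimes.finite_of_isNoetherianRing (AdicCompletion (maximalIdeal A) A)
  have : Fintype (minimalPrimes S) := hfinS.fintype
  have : Fintype (minimalPrimes (AdicCompletion (maximalIdeal A) A)) := hfinAh.fintype
  let c : minimalPrimes (AdicCompletion (maximalIdeal A) A) → minimalPrimes S := fun P =>
    ⟨P.1.comap (algebraMap S (AdicCompletion (maximalIdeal A) A)), comap_mem_minimalPrimes P.2⟩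
  have hcsurj : Function.Surjective c := by
    rintro ⟨q, hq⟩
    have hq' : q ∈ ((⊥ : Ideal (AdicCompletion (maximalIdeal A) A)).comap (algebraMap S (AdicCompletion (maximalIdeal A) A))).minimalPrimes := by
      rw [Ideal.comap_bot_of_injective _ hinj]; exact hq
    obtain ⟨P, hP, hPq⟩ := Ideal.exists_minimalPrimes_comap_eq (algebraMap S (AdicCompletion (maximalIdeal A) A)) q hq'
    exact ⟨⟨P, hP⟩, Subtype.ext hPq⟩
  haveI hid : IsLocalHom (algebraMap (AdicCompletion (maximalIdeal A) A) (AdicCompletion (maximalIdeal A) A)) := ⟨fun a h => h⟩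
  haveI hself : Hensel.IsHenselization (AdicCompletion (maximalIdeal A) A) (AdicCompletion (maximalIdeal A) A) := Groth.Agent.S9239.isHenselization_self _
  rw [← Groth.Agent.S9237.result A S, ← Groth.Agent.S9237.result (AdicCompletion (maximalIdeal A) A) (AdicCompletion (maximalIdeal A) A),
    ENat.card_eq_coe_fintype_card, ENat.card_eq_coe_fintype_card, Nat.cast_inj]
  have hψmap : ∀ q : Ideal S, Ideal.map ψ q = Ideal.map (algebraMap S (AdicCompletion (maximalIdeal A) A)) q := fun q => rfl
  constructor
  · intro hcard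
    have hbij : Function.Bijective c :=
      (Fintype.bijective_iff_surjective_and_card c).mpr ⟨hcsurj, hcard.symm⟩
    intro q hq
    rw [hψmap, radical_isPrime_iff, minimalPrimes_map_eq hq]
    obtain ⟨P, hP⟩ := hcsurj ⟨q, hq⟩
    refine ⟨P.1, ?_⟩
    ext P'
    simp only [Set.mem_setOf_eq, Set.mem_singleton_iff]
    constructor
    · rintro ⟨hP'min, hP'q⟩
      have h1 : c ⟨P', hP'min⟩ = c P := by rw [hP]; exact Subtype.ext hP'q
      exact congrArg Subtype.val (hbij.1 h1)
    · rintro rfl
      exact ⟨P.2, congrArg Subtype.val hP⟩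
  · intro hrad
    have hcinj : Function.Injective c := by
      intro P P' h
      have hq := (c P).2
      have hr : (Ideal.map (algebraMap S (AdicCompletion (maximalIdeal A) A)) (c P).1).radical.IsPrime :=
        hrad (c P).1 hq
      obtain ⟨P₀, hP₀⟩ := (radical_isPrime_iff _).mp hr
      rw [minimalPrimes_map_eq hq] at hP₀
      have h1 : P.1 ∈ ({P₀} : Set (Ideal (AdicCompletion (maximalIdeal A) A))) := by rw [← hP₀]; exact ⟨P.2, rfl⟩
      have h2 : P'.1 ∈ ({P₀} : Set (Ideal (AdicCompletion (maximalIdeal A) A))) := by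
        rw [← hP₀]; exact ⟨P'.2, (congrArg Subtype.val h).symm⟩
      exact Subtype.ext
        ((Set.mem_singleton_iff.mp h1).trans (Set.mem_singleton_iff.mp h2).symm)
    exact (Fintype.card_of_bijective ⟨hcinj, hcsurj⟩).symm

end Groth.Agent.S9243
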