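import Groth.Statements.S16431
import Groth.Agent.Lib.BrnchPI98
import Groth.Agent.S9237
import Groth.Agent.S9238
import Groth.Agent.S9243
import Groth.Agent.S0540
import Groth.Agent.Lib.AbsFlat
import Groth.Agent.Lib.HenselizationNoeth
import Groth.Agent.Lib.HznWeaklyEtale96
import Groth.Agent.Lib.HenselizationUP
import Groth.Agent.Lib.DiagFlat

set_option autoImplicit false
universe u
open Hensel

namespace Groth.Agent.S16431

open IsLocalRing TensorProduct Groth.Agent.Lib.BrnchPI98 Groth.Agent.Lib.BrnchSum98

/-- Let A be an excellent reduced local ring with residue field k, let A' be the integral closure of A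
in its total ring of fractions, let A^h be a henselization and A^hs a strict henselization of A, and
let A^h → A^hs be the A-algebra map between them (it is the unique one). Then the residue field of
A' at every maximal ideal is purely inseparable over k — every element has some p^n-th power in the
image of A, p the characteristic exponent — if and only if every minimal prime ideal of A^hs is
generated by its contraction to A^h. -/
theorem result
    (A Ah Ash : Type u) [CommRing A] [IsLocalRing A] [IsReduced A] (hA : EGA4.IsExcellent A)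
    [CommRing Ah] [IsLocalRing Ah] [Algebra A Ah] [IsLocalHom (algebraMap A Ah)]
    [Hensel.IsHenselization A Ah]
    [CommRing Ash] [IsLocalRing Ash] [Algebra A Ash] [IsLocalHom (algebraMap A Ash)]
    [Hensel.IsStrictHenselization A Ash] [Algebra Ah Ash] [IsScalarTower A Ah Ash] :
    (∀ (M : Ideal (integralClosure A (FractionRing A))) [M.IsMaximal], ∀ x : (integralClosure A (FractionRing A)) ⧸ M, ∃ n : ℕ,
        x ^ (ringExpChar ((integralClosure A (FractionRing A)) ⧸ M)) ^ n ∈
          ((Ideal.Quotient.mk M).comp (algebraMap A (integralClosure A (FractionRing A)))).range) ↔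
      (∀ Q ∈ minimalPrimes Ash, Q = Ideal.map (algebraMap Ah Ash) (Q.comap (algebraMap Ah Ash))) := by
  classical
  have hN : IsNoetherianRing A := hA.1
  have hNh : IsNoetherianRing Ah :=
    (Groth.Agent.Lib.HenselizationNoeth.isNoetherianRing_iff_of_isHenselization A Ah).mp hN
  have hNsh : IsNoetherianRing Ash := (Groth.Agent.S0540.result A Ash).mp hN
  haveI hweA : Algebra.WeaklyEtale A Ah :=
    Groth.Agent.Lib.HznWeaklyEtale96.weaklyEtale_of_isHenselization A Ah
  haveI hweS : Algebra.WeaklyEtale A Ash :=
    Groth.Agent.Lib.HznWeaklyEtale96.weaklyEtale_of_isStrictHenselization A Ash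
  haveI hwe : Algebra.WeaklyEtale Ah Ash := Groth.Agent.Lib.DiagFlat.weaklyEtale_of_tower A Ah Ash
  have hflat : Module.Flat Ah Ash := hwe.flat
  have hloc : IsLocalHom (algebraMap Ah Ash) := by
    refine ((local_hom_TFAE (algebraMap Ah Ash)).out 2 0).mp ?_
    rw [← Groth.Agent.Lib.HenselizationUP.map_maximalIdeal_eq A Ah, Ideal.map_map,
      ← IsScalarTower.algebraMap_eq]
    exact map_maximalIdeal_le (algebraMap A Ash)
  have hff : Module.FaithfullyFlat Ah Ash := Module.FaithfullyFlat.of_flat_of_isLocalHom
  have hinj : Function.Injective (algebraMap Ah Ash) := FaithfulSMul.algebraMap_injective Ah Ash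
  have hfinA : (minimalPrimes A).Finite := minimalPrimes.finite_of_isNoetherianRing A
  have hfinh : (minimalPrimes Ah).Finite := minimalPrimes.finite_of_isNoetherianRing Ah
  have hfinsh : (minimalPrimes Ash).Finite := minimalPrimes.finite_of_isNoetherianRing Ash
  haveI : Finite (minimalPrimes Ah) := hfinh.to_subtype
  haveI : Finite (minimalPrimes Ash) := hfinsh.to_subtype
  have hcardh : ENat.card (minimalPrimes Ah) = Brnch.numBranches A := Groth.Agent.S9237.result A Ah
  have hcardsh : ENat.card (minimalPrimes Ash) = Brnch.numGeomBranches A :=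
    Groth.Agent.S9238.result A Ash
  haveI hfinMax : Finite (MaximalSpectrum (CAlg2.normRed A)) := by
    rw [← ENat.card_lt_top]
    have h1 : Brnch.numBranches A = ENat.card (MaximalSpectrum (CAlg2.normRed A)) := by
      unfold Brnch.numBranches
      rw [if_pos hfinA]
    rw [← h1, ← hcardh]
    exact ENat.card_lt_top_of_finite
  let c : minimalPrimes Ash → minimalPrimes Ah := fun P =>
    ⟨P.1.comap (algebraMap Ah Ash), Groth.Agent.S9243.comap_mem_minimalPrimes P.2⟩
  have hcsurj : Function.Surjective c := by
    rintro ⟨q, hq⟩
    have hq' : q ∈ ((⊥ : Ideal Ash).comap (algebraMap Ah Ash)).minimalPrimes := by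
      rw [Ideal.comap_bot_of_injective _ hinj]; exact hq
    obtain ⟨P, hP, hPq⟩ := Ideal.exists_minimalPrimes_comap_eq (algebraMap Ah Ash) q hq'
    exact ⟨⟨P, hP⟩, Subtype.ext hPq⟩
  have hcinj_iff : Function.Injective c ↔ Brnch.numGeomBranches A = Brnch.numBranches A := by
    rw [← hcardh, ← hcardsh]
    constructor
    · intro h
      exact ENat.card_congr (Equiv.ofBijective c ⟨h, hcsurj⟩)
    · intro h
      have hnat : Nat.card (minimalPrimes Ash) = Nat.card (minimalPrimes Ah) := by
        rw [ENat.card_eq_coe_natCard, ENat.card_eq_coe_natCard] at h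
        exact_mod_cast h
      exact (hcsurj.bijective_of_nat_card_le hnat.le).1
  have hrhs : (∀ Q ∈ minimalPrimes Ash,
      Q = Ideal.map (algebraMap Ah Ash) (Q.comap (algebraMap Ah Ash))) ↔ Function.Injective c := by
    constructor
    · intro h P P' hPP'
      have h1 : P.1.comap (algebraMap Ah Ash) = P'.1.comap (algebraMap Ah Ash) :=
        congrArg Subtype.val hPP'
      apply Subtype.ext
      rw [h P.1 P.2, h P'.1 P'.2, h1]
    · intro hc Q hQ
      have hq : Q.comap (algebraMap Ah Ash) ∈ minimalPrimes Ah :=
        Groth.Agent.S9243.comap_mem_minimalPrimes hQ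
      haveI hqprime : (Q.comap (algebraMap Ah Ash)).IsPrime := hq.1.1
      have hrad : ((Q.comap (algebraMap Ah Ash)).map (algebraMap Ah Ash)).IsRadical := by
        rw [Ideal.isRadical_iff_quotient_reduced]
        haveI : IsReduced ((Ah ⧸ Q.comap (algebraMap Ah Ash)) ⊗[Ah] Ash) :=
          Groth.Agent.Lib.AbsFlat.isReduced_of_weaklyEtale (Ah ⧸ Q.comap (algebraMap Ah Ash)) _
        exact isReduced_of_injective
          (Algebra.TensorProduct.quotIdealMapEquivQuotTensor Ash (Q.comap (algebraMap Ah Ash)))
          (AlgEquiv.injective _)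
      have hmin : ((Q.comap (algebraMap Ah Ash)).map (algebraMap Ah Ash)).minimalPrimes = {Q} := by
        rw [Groth.Agent.S9243.minimalPrimes_map_eq hq]
        ext P'
        simp only [Set.mem_setOf_eq, Set.mem_singleton_iff]
        constructor
        · rintro ⟨hP'min, hP'q⟩
          have h1 : c ⟨P', hP'min⟩ = c ⟨Q, hQ⟩ := Subtype.ext hP'q
          exact congrArg Subtype.val (hc h1)
        · intro hP'Q
          rw [hP'Q]
          exact ⟨hQ, rfl⟩
      have h3 : ((Q.comap (algebraMap Ah Ash)).map (algebraMap Ah Ash)).radical = Q := by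
        rw [← Ideal.sInf_minimalPrimes, hmin, sInf_singleton]
      rw [hrad.radical] at h3
      exact h3.symm
  rw [hrhs, hcinj_iff, numGeomBranches_eq_numBranches_iff A hfinA]
  have hεinj : Function.Injective (Ideal.Quotient.mk (nilradical A)) := by
    rw [RingHom.injective_iff_ker_eq_bot, Ideal.mk_ker, nilradical_eq_zero, Ideal.zero_eq_bot]
  let ε : A ≃+* CAlg2.red A :=
    RingEquiv.ofBijective (Ideal.Quotient.mk (nilradical A)) ⟨hεinj, Ideal.Quotient.mk_surjective⟩
  let E : integralClosure A (FractionRing A) ≃+* CAlg2.normRed A := icEquiv ε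
  have hE : ∀ a : A, E (algebraMap A (integralClosure A (FractionRing A)) a) = fA A a := by
    intro a
    show icEquiv ε (algebraMap A (integralClosure A (FractionRing A)) a) = fA A a
    rw [icEquiv_algebraMap]
    rfl
  constructor
  · intro h m'
    rw [subsingleton_emb_iff]
    haveI := m'.isMaximal
    haveI hmax : (m'.asIdeal.map ((E.symm : CAlg2.normRed A ≃+* integralClosure A (FractionRing A)) :
        CAlg2.normRed A →+* integralClosure A (FractionRing A))).IsMaximal :=
      (Ideal.isMaximal_map_iff_of_bijective _ E.symm.bijective).mpr inferInstance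
    exact pi_transport E.symm (fA A) (algebraMap A (integralClosure A (FractionRing A)))
      (fun a => by rw [← hE a, RingEquiv.symm_apply_apply]) m'.asIdeal
      (h (m'.asIdeal.map ((E.symm : CAlg2.normRed A ≃+* integralClosure A (FractionRing A)) :
        CAlg2.normRed A →+* integralClosure A (FractionRing A))))
  · intro h M hM x
    have h2 := fun m' => (subsingleton_emb_iff A m').mp (h m')
    haveI hM' : (M.map (E : integralClosure A (FractionRing A) →+* CAlg2.normRed A)).IsMaximal :=
      (Ideal.isMaximal_map_iff_of_bijective _ E.bijective).mpr hM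
    exact pi_transport E (algebraMap A (integralClosure A (FractionRing A))) (fA A) hE M
      (h2 ⟨M.map (E : integralClosure A (FractionRing A) →+* CAlg2.normRed A), hM'⟩) x

end Groth.Agent.S16431
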