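import Groth.Statements.S16441
import Groth.Agent.Lib.ShSub6
import Groth.Agent.Lib.FracEssEtale6

set_option autoImplicit false
universe u
open EGA4loc

namespace Groth.Agent.S16441


open Groth.Agent.Lib.FracEssEtale6 Groth.Agent.Lib.ShSub6 Polynomial

/-- Non-zero-divisors of an `A`-subalgebra `D` of a strict henselization `S` of a reduced local
ring `A` with finitely many minimal primes are non-zero-divisors of `S`. -/
theorem nzd_of_nzd_sub (A S : Type u) [CommRing A] [IsLocalRing A] [IsReduced A]
    (hmin : (minimalPrimes A).Finite)
    [CommRing S] [IsLocalRing S] [Algebra A S] [IsLocalHom (algebraMap A S)]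
    [Hensel.IsStrictHenselization A S] (D : Subalgebra A S) (s : D)
    (hs : s ∈ nonZeroDivisors D) : (s : S) ∈ nonZeroDivisors S := by
  classical
  rw [mem_nonZeroDivisors_iff_right]
  intro y hy
  obtain ⟨E, hFE, hloc, hlocal, hess⟩ := exists_essEtale_sub A S {(s : S), y}
  have hsE : (s : S) ∈ E := hFE (by simp)
  have hyE : y ∈ E := hFE (by simp)
  obtain ⟨h1, h2, h3⟩ := instances_of_essEtale A E hess
  obtain ⟨hlocE, -⟩ := main E hmin
  have hunits : ∀ a : nonZeroDivisors A, IsUnit (algebraMap A (FractionRing E) a) := by
    intro a
    rw [IsScalarTower.algebraMap_apply A E (FractionRing E)]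
    exact IsLocalization.map_units (FractionRing E)
      (⟨algebraMap A E a, Submonoid.mem_map_of_mem _ a.2⟩ :
        (nonZeroDivisors A).map (algebraMap A E))
  let _ : Algebra (FractionRing A) (FractionRing E) :=
    (IsLocalization.lift (M := nonZeroDivisors A) (g := algebraMap A (FractionRing E))
      hunits).toAlgebra
  have : IsScalarTower A (FractionRing A) (FractionRing E) :=
    IsScalarTower.of_algebraMap_eq (fun x => (IsLocalization.lift_eq hunits x).symm)
  have hfin : Module.Finite (FractionRing A) (FractionRing E) :=
    finite_fractionRing_tower E hmin _ _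
  have hart : IsArtinianRing (FractionRing A) := isArtinianRing_fractionRing hmin _
  let sE : E := ⟨s, hsE⟩
  have hσ : IsUnit (algebraMap E (FractionRing E) sE) := by
    let B := Algebra.adjoin (FractionRing A) {algebraMap E (FractionRing E) sE}
    have : Module.Finite (FractionRing A) B :=
      Algebra.finite_adjoin_simple_of_isIntegral (Algebra.IsIntegral.isIntegral _)
    have : IsArtinianRing B := IsArtinianRing.of_finite (FractionRing A) B
    let σB : B := ⟨algebraMap E (FractionRing E) sE, Algebra.self_mem_adjoin_singleton _ _⟩
    have hσB : σB ∈ nonZeroDivisors B := by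
      rw [mem_nonZeroDivisors_iff_right]
      rintro ⟨b, hb⟩ hbσ
      have hbσ' : b * algebraMap E (FractionRing E) sE = 0 := congrArg Subtype.val hbσ
      have hb' : b ∈ (aeval (R := FractionRing A) (algebraMap E (FractionRing E) sE)).range := by
        rw [← Algebra.adjoin_singleton_eq_range_aeval]; exact hb
      obtain ⟨g, rfl⟩ := hb'
      obtain ⟨a, ha, hG⟩ := IsLocalization.integerNormalization_spec (nonZeroDivisors A) g
      set G := IsLocalization.integerNormalization (nonZeroDivisors A) g with hGdef
      -- `a • aeval σ g = algebraMap (aeval sE G)`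
      have e1 : algebraMap A (FractionRing E) a * aeval (algebraMap E (FractionRing E) sE) g =
          algebraMap E (FractionRing E) (aeval sE G) := by
        calc algebraMap A (FractionRing E) a * aeval (algebraMap E (FractionRing E) sE) g
            = aeval (algebraMap E (FractionRing E) sE) (a • g) := by
              rw [← algebraMap_smul (FractionRing A) a g, map_smul, Algebra.smul_def,
                ← IsScalarTower.algebraMap_apply]
          _ = aeval (algebraMap E (FractionRing E) sE) (G.map (algebraMap A (FractionRing A))) := by
              rw [hG]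
          _ = aeval (algebraMap E (FractionRing E) sE) G :=
              aeval_map_algebraMap (FractionRing A) _ G
          _ = algebraMap E (FractionRing E) (aeval sE G) :=
              aeval_algebraMap_apply (FractionRing E) sE G
      -- `aeval sE G * sE = 0` in `E`
      have e2 : aeval sE G * sE = 0 := by
        apply IsFractionRing.injective E (FractionRing E)
        rw [map_mul, ← e1, mul_assoc, map_zero]
        exact (by rw [show (AlgHom.toRingHom (aeval (algebraMap E (FractionRing E) sE)) g) =
            aeval (algebraMap E (FractionRing E) sE) g from rfl] at hbσ'; rw [hbσ', mul_zero])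
      -- transport to `D`
      have e3 : aeval (s : S) G * (s : S) = 0 := by
        have := congrArg Subtype.val e2
        simpa [sE, ← Subalgebra.aeval_coe] using this
      have e4 : aeval s G * s = 0 := by
        apply Subtype.ext
        simpa [← Subalgebra.aeval_coe] using e3
      have e5 : aeval s G = 0 := (mem_nonZeroDivisors_iff_right.mp hs) _ e4
      have e6 : aeval (s : S) G = 0 := by
        rw [Subalgebra.aeval_coe, e5]; rfl
      have e7 : aeval sE G = 0 := by
        apply Subtype.ext
        rw [← Subalgebra.aeval_coe]; exact e6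
      rw [e7, map_zero] at e1
      have e8 : aeval (algebraMap E (FractionRing E) sE) g = 0 :=
        (hunits ⟨a, ha⟩).mul_right_eq_zero.mp e1
      exact Subtype.ext e8
    exact (IsArtinianRing.isUnit_of_mem_nonZeroDivisors hσB).map B.val
  have h0 : (⟨y, hyE⟩ : E) = 0 := by
    apply IsFractionRing.injective E (FractionRing E)
    rw [map_zero]
    have h5 : algebraMap E (FractionRing E) ⟨y, hyE⟩ * algebraMap E (FractionRing E) sE = 0 := by
      rw [← map_mul]
      have : (⟨y, hyE⟩ : E) * sE = 0 := Subtype.ext hy
      rw [this, map_zero]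
    exact hσ.mul_left_eq_zero.mp h5
  exact congrArg Subtype.val h0



theorem forward (A S : Type u) [CommRing A] [IsLocalRing A] [IsReduced A]
    (hmin : (minimalPrimes A).Finite)
    [CommRing S] [IsLocalRing S] [Algebra A S] [IsLocalHom (algebraMap A S)]
    [Hensel.IsStrictHenselization A S] (D : Subalgebra A S) (t : Finset (FractionRing D))
    (ht : ∀ x : FractionRing D, ∃ a ∈ nonZeroDivisors A,
      algebraMap A (FractionRing D) a * x ∈ Algebra.adjoin A (t : Set (FractionRing D))) :
    ∃ E : Subalgebra A S, D ≤ E ∧ ∃ _ : IsLocalRing E, EGA4loc.IsEssentiallyEtale A E := by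
  classical
  have : Module.FaithfullyFlat A S :=
    Groth.Agent.Lib.StrictHenselization.faithfullyFlat_of_isStrictHenselization A S
  choose nd hnd using fun z : FractionRing D => IsLocalization.surj (nonZeroDivisors D) z
  obtain ⟨E, hFE, ⟨hloc, hlocal, hess⟩, hdiv⟩ := exists_essEtale_sub' A S
    (t.image (fun z => ((nd z).1 : S)) ∪ t.image (fun z => (((nd z).2 : D) : S)))
  refine ⟨E, ?_, hloc, hess⟩
  -- the subalgebra of fractions with numerator and denominator in `E`
  let R' : Subalgebra A (FractionRing D) :=
    { carrier := {z | ∃ u : D, u ∈ nonZeroDivisors D ∧ (u : S) ∈ E ∧ ∃ e : D, (e : S) ∈ E ∧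
        z * algebraMap D (FractionRing D) u = algebraMap D (FractionRing D) e}
      mul_mem' := by
        rintro z₁ z₂ ⟨u₁, hu₁, hu₁E, e₁, he₁, h₁⟩ ⟨u₂, hu₂, hu₂E, e₂, he₂, h₂⟩
        refine ⟨u₁ * u₂, mul_mem hu₁ hu₂, E.mul_mem hu₁E hu₂E, e₁ * e₂, E.mul_mem he₁ he₂, ?_⟩
        rw [map_mul, map_mul, ← h₁, ← h₂]; ring
      one_mem' := ⟨1, one_mem _, E.one_mem, 1, E.one_mem, by simp⟩
      add_mem' := by
        rintro z₁ z₂ ⟨u₁, hu₁, hu₁E, e₁, he₁, h₁⟩ ⟨u₂, hu₂, hu₂E, e₂, he₂, h₂⟩
        refine ⟨u₁ * u₂, mul_mem hu₁ hu₂, E.mul_mem hu₁E hu₂E, e₁ * u₂ + e₂ * u₁,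
          E.add_mem (E.mul_mem he₁ hu₂E) (E.mul_mem he₂ hu₁E), ?_⟩
        rw [map_add, map_mul, map_mul, map_mul, ← h₁, ← h₂]; ring
      zero_mem' := ⟨1, one_mem _, E.one_mem, 0, E.zero_mem, by simp⟩
      algebraMap_mem' := fun r => ⟨1, one_mem _, E.one_mem, algebraMap A D r,
        E.algebraMap_mem r, by
          rw [map_one, mul_one, ← IsScalarTower.algebraMap_apply]⟩ }
  have htR : Algebra.adjoin A (t : Set (FractionRing D)) ≤ R' := by
    refine Algebra.adjoin_le ?_
    intro z hz
    refine ⟨(nd z).2, (nd z).2.2, hFE ?_, (nd z).1, hFE ?_, hnd z⟩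
    · simp only [Finset.coe_union, Finset.coe_image, Set.mem_union, Set.mem_image]
      exact Or.inr ⟨z, hz, rfl⟩
    · simp only [Finset.coe_union, Finset.coe_image, Set.mem_union, Set.mem_image]
      exact Or.inl ⟨z, hz, rfl⟩
  intro x hx
  obtain ⟨a, ha, hax⟩ := ht (algebraMap D (FractionRing D) ⟨x, hx⟩)
  obtain ⟨u, hu, huE, e, heE, hue⟩ := htR hax
  have h1 : algebraMap A D a * ⟨x, hx⟩ * u = e := by
    apply IsFractionRing.injective D (FractionRing D)
    rw [map_mul, map_mul, ← IsScalarTower.algebraMap_apply]
    exact hue
  have h2 : (algebraMap A S a * (u : S)) * x = (e : S) := by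
    have := congrArg Subtype.val h1
    simp only [Subalgebra.coe_mul, Subalgebra.coe_algebraMap] at this
    rw [← this]; ring
  have haS : algebraMap A S a ∈ nonZeroDivisors S := by
    have h3 : IsSMulRegular S a := Module.Flat.isSMulRegular_of_nonZeroDivisors ha
    rw [mem_nonZeroDivisors_iff_right]
    intro z hz
    apply h3
    simp only [Algebra.smul_def]
    rw [mul_comm, hz, mul_zero]
  have huS : (u : S) ∈ nonZeroDivisors S := nzd_of_nzd_sub A S hmin D u hu
  exact hdiv _ _ x (E.mul_mem (E.algebraMap_mem a) huE) heE h2 (mul_mem haS huS)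



theorem backward (A S : Type u) [CommRing A] [IsLocalRing A] [IsReduced A]
    (hmin : (minimalPrimes A).Finite)
    [CommRing S] [IsLocalRing S] [Algebra A S] [IsLocalHom (algebraMap A S)]
    [Hensel.IsStrictHenselization A S] (D E : Subalgebra A S) (hDE : D ≤ E)
    (hess : EGA4loc.IsEssentiallyEtale A E) :
    ∃ t : Finset (FractionRing D), ∀ x : FractionRing D, ∃ a ∈ nonZeroDivisors A,
      algebraMap A (FractionRing D) a * x ∈ Algebra.adjoin A (t : Set (FractionRing D)) := by
  classical
  have : Module.FaithfullyFlat A S :=
    Groth.Agent.Lib.StrictHenselization.faithfullyFlat_of_isStrictHenselization A S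
  obtain ⟨h1, h2, h3⟩ := instances_of_essEtale A E hess
  obtain ⟨hlocE, -⟩ := main E hmin
  -- `K`-algebra structure on `K_E`
  have hunits : ∀ a : nonZeroDivisors A, IsUnit (algebraMap A (FractionRing E) a) := by
    intro a
    rw [IsScalarTower.algebraMap_apply A E (FractionRing E)]
    exact IsLocalization.map_units (FractionRing E)
      (⟨algebraMap A E a, Submonoid.mem_map_of_mem _ a.2⟩ :
        (nonZeroDivisors A).map (algebraMap A E))
  let _ : Algebra (FractionRing A) (FractionRing E) :=
    (IsLocalization.lift (M := nonZeroDivisors A) (g := algebraMap A (FractionRing E))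
      hunits).toAlgebra
  have : IsScalarTower A (FractionRing A) (FractionRing E) :=
    IsScalarTower.of_algebraMap_eq (fun x => (IsLocalization.lift_eq hunits x).symm)
  have hfin : Module.Finite (FractionRing A) (FractionRing E) :=
    finite_fractionRing_tower E hmin _ _
  have hart : IsArtinianRing (FractionRing A) := isArtinianRing_fractionRing hmin _
  -- `K`-algebra structure on `K_D`
  have haS : ∀ a ∈ nonZeroDivisors A, algebraMap A S a ∈ nonZeroDivisors S := by
    intro a ha
    have h3 : IsSMulRegular S a := Module.Flat.isSMulRegular_of_nonZeroDivisors ha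
    rw [mem_nonZeroDivisors_iff_right]
    intro z hz
    apply h3
    simp only [Algebra.smul_def]
    rw [mul_comm, hz, mul_zero]
  have hunitsD : ∀ a : nonZeroDivisors A, IsUnit (algebraMap A (FractionRing D) a) := by
    intro a
    rw [IsScalarTower.algebraMap_apply A D (FractionRing D)]
    refine IsLocalization.map_units (FractionRing D) (⟨algebraMap A D a, ?_⟩ : nonZeroDivisors D)
    rw [mem_nonZeroDivisors_iff_right]
    intro z hz
    apply Subtype.ext
    exact (mem_nonZeroDivisors_iff_right.mp (haS a a.2)) z (congrArg Subtype.val hz)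
  let _ : Algebra (FractionRing A) (FractionRing D) :=
    (IsLocalization.lift (M := nonZeroDivisors A) (g := algebraMap A (FractionRing D))
      hunitsD).toAlgebra
  have : IsScalarTower A (FractionRing A) (FractionRing D) :=
    IsScalarTower.of_algebraMap_eq (fun x => (IsLocalization.lift_eq hunitsD x).symm)
  -- the map `K_D → K_E`
  let g : D →+* FractionRing E :=
    (algebraMap E (FractionRing E)).comp (Subalgebra.inclusion hDE).toRingHom
  have hginj : Function.Injective g :=
    (IsFractionRing.injective E (FractionRing E)).comp (Subalgebra.inclusion_injective hDE)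
  have hgunits : ∀ s : nonZeroDivisors D, IsUnit (g s) := by
    intro s
    have hsS : ((s : D) : S) ∈ nonZeroDivisors S := nzd_of_nzd_sub A S hmin D s s.2
    refine IsLocalization.map_units (FractionRing E)
      (⟨Subalgebra.inclusion hDE s, ?_⟩ : nonZeroDivisors E)
    rw [mem_nonZeroDivisors_iff_right]
    intro z hz
    apply Subtype.ext
    exact (mem_nonZeroDivisors_iff_right.mp hsS) z (congrArg Subtype.val hz)
  let ι : FractionRing D →+* FractionRing E := IsLocalization.lift hgunits
  have hιinj : Function.Injective ι := by
    rw [IsLocalization.lift_injective_iff]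
    intro x y
    rw [(IsFractionRing.injective D (FractionRing D)).eq_iff, hginj.eq_iff]
  have hιalg : ι.comp (algebraMap (FractionRing A) (FractionRing D)) =
      algebraMap (FractionRing A) (FractionRing E) := by
    apply IsLocalization.ringHom_ext (nonZeroDivisors A)
    ext a
    simp only [RingHom.comp_apply]
    rw [← IsScalarTower.algebraMap_apply A (FractionRing A) (FractionRing D),
      ← IsScalarTower.algebraMap_apply A (FractionRing A) (FractionRing E),
      IsScalarTower.algebraMap_apply A D (FractionRing D), IsLocalization.lift_eq]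
    rfl
  let f : FractionRing D →ₗ[FractionRing A] FractionRing E :=
    { toFun := ι
      map_add' := map_add ι
      map_smul' := fun c z => by
        simp only [Algebra.smul_def, map_mul, RingHom.id_apply]
        rw [← RingHom.comp_apply, hιalg] }
  have hfinD : Module.Finite (FractionRing A) (FractionRing D) :=
    Module.Finite.of_injective f hιinj
  obtain ⟨t, ht⟩ := exists_finset_span_of_finite (A := A) (FractionRing A) (FractionRing D)
  refine ⟨t, fun x => ?_⟩
  obtain ⟨a, ha, hax⟩ := ht x
  exact ⟨a, ha, Algebra.span_le_adjoin A _ hax⟩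


/-- Let A be a reduced local ring with finitely many minimal prime ideals, S a strict henselization of
A, and D an A-subalgebra of S which is a local ring dominated by S (local inclusion). Then the total
ring of fractions K_D of D is finitely generated over that of A — there is a finite subset t of K_D
such that every element of K_D, multiplied by (the image of) some non-zero-divisor of A, is a
polynomial expression in t with coefficients from A — if and only if D is contained in some
A-subalgebra E of S which is a local ring and an essentially etale local A-algebra (a localization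
of an etale A-algebra at a prime over the maximal ideal). -/
theorem result
    (A S : Type u) [CommRing A] [IsLocalRing A] [IsReduced A] (hmin : (minimalPrimes A).Finite)
    [CommRing S] [IsLocalRing S] [Algebra A S] [IsLocalHom (algebraMap A S)]
    [Hensel.IsStrictHenselization A S] (D : Subalgebra A S) [IsLocalRing D]
    [IsLocalHom (algebraMap D S)] :
    (∃ t : Finset (FractionRing D), ∀ x : FractionRing D, ∃ a ∈ nonZeroDivisors A,
        algebraMap A (FractionRing D) a * x ∈ Algebra.adjoin A (t : Set (FractionRing D))) ↔
      ∃ E : Subalgebra A S, D ≤ E ∧ ∃ _ : IsLocalRing E, EGA4loc.IsEssentiallyEtale A E := by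
  constructor
  · rintro ⟨t, ht⟩
    exact forward A S hmin D t ht
  · rintro ⟨E, hDE, _, hess⟩
    exact backward A S hmin D E hDE hess

end Groth.Agent.S16441
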