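import Groth.Statements.S9315
import Groth.Agent.Lib.SqZeroHenselLocal

set_option autoImplicit false
universe u
open CAlg

namespace Groth.Agent.S9315

open IsLocalRing Groth.Agent.Lib.SqZeroHenselLocal in
lemma lift_of_local {R S : Type u} [CommRing R] [CommRing S]
    [IsLocalRing R] [IsLocalRing S] [Algebra R S] [IsLocalHom (algebraMap R S)]
    (h : ∀ (A : Type u) [CommRing A] [IsLocalRing A] [Algebra R A] [IsLocalHom (algebraMap R A)]
        (J : Ideal A), J ^ 2 = ⊥ → (∃ n : ℕ, maximalIdeal A ^ n = ⊥) →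
        ∀ [IsLocalRing (A ⧸ J)] (ψ : S →ₐ[R] A ⧸ J) [IsLocalHom ψ.toRingHom],
          Function.Bijective (ResidueField.map ψ.toRingHom) →
          ∃ χ : S →ₐ[R] A, (Ideal.Quotient.mkₐ R J).comp χ = ψ)
    (A : Type u) [CommRing A] [Algebra R A] (J : Ideal A) (hJ : J ^ 2 = ⊥)
    (ψ : S →ₐ[R] A ⧸ J) (k : ℕ) (hk : ∀ x ∈ maximalIdeal S ^ k, ψ x = 0) :
    ∃ χ : S →ₐ[R] A, (Ideal.Quotient.mkₐ R J).comp χ = ψ := by
  classical
  set N := k + 1 with hN
  set 𝔫 := maximalIdeal S with h𝔫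
  have hNtop : 𝔫 ^ N ≠ ⊤ := by
    intro htop
    have : 𝔫 ^ N ≤ 𝔫 := Ideal.pow_le_self (Nat.succ_ne_zero k)
    rw [htop] at this
    exact (maximalIdeal.isMaximal S).ne_top (top_le_iff.mp this)
  have : Nontrivial (S ⧸ 𝔫 ^ N) := Ideal.Quotient.nontrivial_iff.mpr hNtop
  have : IsLocalRing (S ⧸ 𝔫 ^ N) :=
    IsLocalRing.of_surjective' (Ideal.Quotient.mk (𝔫 ^ N)) Ideal.Quotient.mk_surjective
  have hmkloc : IsLocalHom (Ideal.Quotient.mk (𝔫 ^ N)) :=
    IsLocalHom.of_surjective _ Ideal.Quotient.mk_surjective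
  -- the map induced on the quotient
  let ψ' : S ⧸ 𝔫 ^ N →+* A ⧸ J := Ideal.Quotient.lift (𝔫 ^ N) ψ.toRingHom
    (fun x hx => hk x (Ideal.pow_le_pow_right (Nat.le_succ k) hx))
  have hψ' : ∀ s, ψ' (Ideal.Quotient.mk (𝔫 ^ N) s) = ψ s := fun s => rfl
  -- the fibre product
  let π := fibreFst J ψ'
  have hπ : Function.Surjective π := fibreFst_surjective J ψ'
  have hK : ∀ x y, π x = 0 → π y = 0 → x * y = 0 := fibreFst_sqZero J ψ' hJ
  have hloc : IsLocalRing (fibreRing J ψ') := isLocalRing_of_sqZero π hπ hK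
  have hcompat : ψ'.comp ((Ideal.Quotient.mk (𝔫 ^ N)).comp (algebraMap R S)) =
      (Ideal.Quotient.mk J).comp (algebraMap R A) := by
    ext r
    show ψ (algebraMap R S r) = _
    rw [ψ.commutes]
    rfl
  let ρ : R →+* fibreRing J ψ' :=
    fibreLift J ψ' ((Ideal.Quotient.mk (𝔫 ^ N)).comp (algebraMap R S)) (algebraMap R A) hcompat
  let _ : Algebra R (fibreRing J ψ') := ρ.toAlgebra
  have hρπ : ∀ r, π (algebraMap R (fibreRing J ψ') r) =
      Ideal.Quotient.mk (𝔫 ^ N) (algebraMap R S r) := fun r => rfl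
  have hρsnd : ∀ r, fibreSnd J ψ' (algebraMap R (fibreRing J ψ') r) = algebraMap R A r :=
    fun r => rfl
  have hRloc : IsLocalHom (algebraMap R (fibreRing J ψ')) := by
    refine ⟨fun r hr => ?_⟩
    have h1 : IsUnit (Ideal.Quotient.mk (𝔫 ^ N) (algebraMap R S r)) := by
      rw [← hρπ]; exact hr.map π
    have h2 : IsUnit (algebraMap R S r) := isUnit_of_map_unit (Ideal.Quotient.mk (𝔫 ^ N)) _ h1
    exact isUnit_of_map_unit (algebraMap R S) _ h2
  -- the square zero ideal
  set J' : Ideal (fibreRing J ψ') := RingHom.ker π with hJ'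
  have hJ'sq : J' ^ 2 = ⊥ := by
    rw [sq, eq_bot_iff, Ideal.mul_le]
    intro x hx y hy
    rw [Ideal.mem_bot]
    exact hK x y hx hy
  have hmpow : maximalIdeal (fibreRing J ψ') ^ N ≤ J' := by
    intro x hx
    rw [hJ', RingHom.mem_ker]
    have h1 : π x ∈ (maximalIdeal (fibreRing J ψ') ^ N).map π := Ideal.mem_map_of_mem _ hx
    rw [Ideal.map_pow, map_maximalIdeal_of_surjective π hπ,
      ← map_maximalIdeal_of_surjective (Ideal.Quotient.mk (𝔫 ^ N)) Ideal.Quotient.mk_surjective,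
      ← Ideal.map_pow, Ideal.map_quotient_self] at h1
    exact h1
  have hnil : ∃ n : ℕ, maximalIdeal (fibreRing J ψ') ^ n = ⊥ := by
    refine ⟨N + N, ?_⟩
    rw [pow_add (maximalIdeal (fibreRing J ψ')) N N, eq_bot_iff, ← hJ'sq, sq]
    exact Ideal.mul_mono hmpow hmpow
  -- the quotient is `S ⧸ 𝔫 ^ N`
  let e : fibreRing J ψ' ⧸ J' ≃+* S ⧸ 𝔫 ^ N := RingHom.quotientKerEquivOfSurjective hπ
  have he : ∀ x, e (Ideal.Quotient.mk J' x) = π x := fun x => rfl
  have hqloc : IsLocalRing (fibreRing J ψ' ⧸ J') := e.symm.isLocalRing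
  let ψ'' : S →ₐ[R] fibreRing J ψ' ⧸ J' :=
    { toRingHom := (e.symm : S ⧸ 𝔫 ^ N →+* fibreRing J ψ' ⧸ J').comp (Ideal.Quotient.mk (𝔫 ^ N))
      commutes' := fun r => by
        show e.symm (Ideal.Quotient.mk (𝔫 ^ N) (algebraMap R S r)) = _
        rw [RingEquiv.symm_apply_eq]
        exact (hρπ r).symm }
  have hψ''app : ∀ s, e (ψ'' s) = Ideal.Quotient.mk (𝔫 ^ N) s := by
    intro s
    show e (e.symm (Ideal.Quotient.mk (𝔫 ^ N) s)) = _
    rw [RingEquiv.apply_symm_apply]
  have hsurj : Function.Surjective ψ''.toRingHom := by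
    intro y
    obtain ⟨s, hs⟩ := Ideal.Quotient.mk_surjective (e y)
    refine ⟨s, ?_⟩
    apply e.injective
    rw [← hs]
    exact hψ''app s
  have hψ''loc : IsLocalHom ψ''.toRingHom := IsLocalHom.of_surjective _ hsurj
  have hbij : Function.Bijective (ResidueField.map ψ''.toRingHom) := by
    refine ⟨RingHom.injective _, fun y => ?_⟩
    obtain ⟨z, rfl⟩ := residue_surjective y
    obtain ⟨s, rfl⟩ := hsurj z
    exact ⟨residue S s, ResidueField.map_residue _ _⟩
  obtain ⟨χ, hχ⟩ := h (fibreRing J ψ') J' hJ'sq hnil ψ'' hbij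
  have hχapp : ∀ s, π (χ s) = Ideal.Quotient.mk (𝔫 ^ N) s := by
    intro s
    rw [← he, ← hψ''app]
    congr 1
    exact congrArg (fun F => F s) hχ
  refine ⟨{ toRingHom := (fibreSnd J ψ').comp χ.toRingHom
            commutes' := fun r => by
              show fibreSnd J ψ' (χ (algebraMap R S r)) = _
              rw [χ.commutes, hρsnd] }, ?_⟩
  ext s
  show Ideal.Quotient.mk J (fibreSnd J ψ' (χ s)) = ψ s
  rw [← fibre_compat, ← hψ']
  congr 1
  exact hχapp s


open IsLocalRing in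
/-- Let `R → S` be a local homomorphism of local rings (no Noetherian hypothesis). Then `R → S` is
formally smooth for the adic topology of the maximal ideal of `S` if and only if the following
lifting property holds: for every local ring `A` with a local structure map `R → A`, every ideal `J`
of `A` of square zero such that some power of the maximal ideal of `A` is zero, and every local
`R`-algebra homomorphism `ψ : S → A/J` inducing a bijection on residue fields, there is an
`R`-algebra homomorphism `S → A` lifting `ψ`. -/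
theorem result {R S : Type u} [CommRing R] [CommRing S]
    [IsLocalRing R] [IsLocalRing S] [Algebra R S] [IsLocalHom (algebraMap R S)] :
    CAlgX.IsAdicFormallySmooth R S (maximalIdeal S) ↔
      ∀ (A : Type u) [CommRing A] [IsLocalRing A] [Algebra R A] [IsLocalHom (algebraMap R A)]
        (J : Ideal A), J ^ 2 = ⊥ → (∃ n : ℕ, maximalIdeal A ^ n = ⊥) →
        ∀ [IsLocalRing (A ⧸ J)] (ψ : S →ₐ[R] A ⧸ J) [IsLocalHom ψ.toRingHom],
          Function.Bijective (ResidueField.map ψ.toRingHom) →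
          ∃ χ : S →ₐ[R] A, (Ideal.Quotient.mkₐ R J).comp χ = ψ := by
  constructor
  · intro h A _ _ _ _ J hJ ⟨n, hn⟩ _ ψ _ _
    apply h A J hJ ψ
    refine ⟨n, fun x hx => ?_⟩
    have h1 : (maximalIdeal S ^ n).map ψ.toRingHom ≤ maximalIdeal (A ⧸ J) ^ n := by
      rw [Ideal.map_pow]
      exact Ideal.pow_right_mono (map_maximalIdeal_le ψ.toRingHom) n
    have h2 : maximalIdeal (A ⧸ J) ^ n = ⊥ := by
      rw [← map_maximalIdeal_of_surjective (Ideal.Quotient.mk J) Ideal.Quotient.mk_surjective,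
        ← Ideal.map_pow, hn, Ideal.map_bot]
    have h3 := h1 (Ideal.mem_map_of_mem _ hx)
    rw [h2] at h3
    simpa using h3
  · intro h A _ _ J hJ ψ ⟨k, hk⟩
    exact lift_of_local h A J hJ ψ k hk

end Groth.Agent.S9315
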