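import Groth.Statements.S9316
import Groth.Agent.S9315
import Groth.Agent.Lib.SqZeroHenselLocal
import Mathlib.Algebra.Module.Torsion.Basic
import Mathlib.RingTheory.HopkinsLevitzki
import Mathlib.RingTheory.FiniteLength
import Mathlib.RingTheory.SimpleModule.Basic
import Mathlib.LinearAlgebra.Dual.Lemmas
import Mathlib.RingTheory.Ideal.Quotient.Operations

set_option autoImplicit false
universe u
open CAlg

namespace Groth.Agent.S9316


section helpers

open IsLocalRing

section glue

variable {R S B C : Type*} [CommRing R] [CommRing S] [CommRing B] [CommRing C]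
  [Algebra R S] [Algebra R B] [Algebra R C]

/-- Gluing lifts modulo a family of sub-ideals `Ki i` of a square-zero kernel `K`, when `K`
is a retract of a product along functionals vanishing on the `Ki i`. -/
lemma glue (π : B →ₐ[R] C) (hπ : Function.Surjective π) (ψ : S →ₐ[R] C)
    (hK : ∀ x y : B, π x = 0 → π y = 0 → x * y = 0)
    (K : Ideal B) (memK : ∀ x : B, x ∈ K ↔ π x = 0)
    {ι M : Type*} [AddCommGroup M] [Module B M]
    (lam : ι → K →ₗ[B] M)
    (ρ : (ι → M) →ₗ[B] K)
    (hρ : ∀ k, ρ (fun i => lam i k) = k)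
    (Ki : ι → Ideal B)
    (hKi : ∀ i (k : K), (k : B) ∈ Ki i → lam i k = 0)
    (hKle : ∀ i, Ki i ≤ K)
    (χi : ∀ i, S →ₐ[R] B ⧸ Ki i)
    (hχi : ∀ i s, Ideal.Quotient.lift (Ki i) (π : B →+* C)
      (fun x hx => (memK x).1 (hKle i hx)) (χi i s) = ψ s) :
    ∃ χ : S →ₐ[R] B, π.comp χ = ψ := by
  classical
  -- representatives
  choose a ha using fun s => hπ (ψ s)
  choose b hb using fun i s => Ideal.Quotient.mk_surjective (χi i s)
  have hbπ : ∀ i s, π (b i s) = ψ s := by
    intro i s
    rw [← hχi i s, ← hb i s]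
    rfl
  have hba : ∀ i s, b i s - a s ∈ K := fun i s => by
    rw [memK, map_sub, hbπ, ha, sub_self]
  -- key independence lemma
  have key : ∀ (x x' : B) (y y' : ι → B) (hxy : ∀ i, y i - x ∈ K) (hxy' : ∀ i, y' i - x' ∈ K),
      x - x' ∈ K → (∀ i, y i - y' i ∈ Ki i) →
      x + (ρ (fun i => lam i ⟨y i - x, hxy i⟩) : B) =
        x' + (ρ (fun i => lam i ⟨y' i - x', hxy' i⟩) : B) := by
    intro x x' y y' hxy hxy' hxx' hyy'
    have h1 : (fun i => lam i ⟨y i - x, hxy i⟩) =
        (fun i => lam i ⟨y' i - x', hxy' i⟩) - (fun i => lam i ⟨x - x', hxx'⟩) := by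
      funext i
      have h2 : (⟨y i - x, hxy i⟩ : K) =
          ⟨y' i - x', hxy' i⟩ + ⟨y i - y' i, hKle i (hyy' i)⟩ - ⟨x - x', hxx'⟩ := by
        apply Subtype.ext
        simp only [AddSubgroupClass.coe_sub, Submodule.coe_add]
        ring
      rw [Pi.sub_apply, h2, map_sub, map_add, hKi i ⟨y i - y' i, _⟩ (hyy' i), add_zero]
    rw [h1, map_sub, hρ]
    simp only [AddSubgroupClass.coe_sub]
    ring
  -- the lift as a function
  let f : S → B := fun s => a s + (ρ (fun i => lam i ⟨b i s - a s, hba i s⟩) : B)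
  have hf : ∀ s, f s = a s + (ρ (fun i => lam i ⟨b i s - a s, hba i s⟩) : B) := fun s => rfl
  have hfπ : ∀ s, π (f s) = ψ s := by
    intro s
    rw [hf, map_add, ha]
    have : π (ρ (fun i => lam i ⟨b i s - a s, hba i s⟩) : B) = 0 :=
      (memK _).1 (ρ _).2
    rw [this, add_zero]
  have hf_alg : ∀ r : R, f (algebraMap R S r) = algebraMap R B r := by
    intro r
    have h0 : ∀ i : ι, algebraMap R B r - algebraMap R B r ∈ K := fun i => by
      rw [sub_self]; exact zero_mem _
    have h1 : algebraMap R B r = algebraMap R B r +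
        (ρ (fun i => lam i ⟨algebraMap R B r - algebraMap R B r, h0 i⟩) : B) := by
      have : (fun i => lam i ⟨algebraMap R B r - algebraMap R B r, h0 i⟩) = 0 := by
        funext i
        have : (⟨algebraMap R B r - algebraMap R B r, h0 i⟩ : K) = 0 :=
          Subtype.ext (sub_self _)
        rw [this, map_zero]; rfl
      rw [this, map_zero]; simp
    rw [h1, hf]
    apply key
    · rw [memK, map_sub, ha, AlgHom.commutes, AlgHom.commutes, sub_self]
    · intro i
      rw [← Ideal.Quotient.eq, hb, AlgHom.commutes]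
      rfl
  have hf_add : ∀ s t, f (s + t) = f s + f t := by
    intro s t
    have h0 : ∀ i : ι, (b i s + b i t) - (a s + a t) ∈ K := fun i => by
      have := add_mem (hba i s) (hba i t)
      convert this using 1; ring
    have h1 : f s + f t = (a s + a t) +
        (ρ (fun i => lam i ⟨(b i s + b i t) - (a s + a t), h0 i⟩) : B) := by
      have : (fun i => lam i ⟨(b i s + b i t) - (a s + a t), h0 i⟩) =
          (fun i => lam i ⟨b i s - a s, hba i s⟩) + (fun i => lam i ⟨b i t - a t, hba i t⟩) := by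
        funext i
        rw [Pi.add_apply, ← map_add]
        congr 1
        apply Subtype.ext
        simp only [Submodule.coe_add]
        ring
      rw [this, map_add, hf, hf]
      simp only [Submodule.coe_add]
      ring
    rw [h1, hf]
    apply key
    · simp only [memK, map_sub, map_add, ha, sub_self]
    · intro i
      rw [← Ideal.Quotient.eq]
      simp only [map_add, hb]
  have hf_mul : ∀ s t, f (s * t) = f s * f t := by
    intro s t
    have h0 : ∀ i : ι, (a s * b i t + a t * b i s - a s * a t) - a s * a t ∈ K := fun i => by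
      have := add_mem (K.mul_mem_left (a s) (hba i t)) (K.mul_mem_left (a t) (hba i s))
      convert this using 1; ring
    have h1 : f s * f t = a s * a t +
        (ρ (fun i => lam i ⟨(a s * b i t + a t * b i s - a s * a t) - a s * a t, h0 i⟩) : B) := by
      have : (fun i => lam i ⟨(a s * b i t + a t * b i s - a s * a t) - a s * a t, h0 i⟩) =
          a s • (fun i => lam i ⟨b i t - a t, hba i t⟩) +
            a t • (fun i => lam i ⟨b i s - a s, hba i s⟩) := by
        funext i
        rw [Pi.add_apply, Pi.smul_apply, Pi.smul_apply, ← map_smul, ← map_smul, ← map_add]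
        congr 1
        apply Subtype.ext
        simp only [Submodule.coe_add, Submodule.coe_smul, smul_eq_mul]
        ring
      rw [this, map_add, map_smul, map_smul, hf, hf]
      simp only [Submodule.coe_add, Submodule.coe_smul, smul_eq_mul]
      have hz : (ρ (fun i => lam i ⟨b i s - a s, hba i s⟩) : B) *
          (ρ (fun i => lam i ⟨b i t - a t, hba i t⟩) : B) = 0 :=
        hK _ _ ((memK _).1 (ρ _).2) ((memK _).1 (ρ _).2)
      linear_combination hz
    rw [h1, hf]
    apply key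
    · simp only [memK, map_sub, map_mul, ha, sub_self]
    · intro i
      have h2 : b i (s * t) - (a s * b i t + a t * b i s - a s * a t) =
          (b i (s * t) - b i s * b i t) + (b i s - a s) * (b i t - a t) := by ring
      have h3 : (b i s - a s) * (b i t - a t) = 0 :=
        hK _ _ ((memK _).1 (hba i s)) ((memK _).1 (hba i t))
      rw [h2, h3, add_zero, ← Ideal.Quotient.eq]
      simp only [map_mul, hb]
  have hf_one : f 1 = 1 := by
    have := hf_alg 1
    rwa [map_one, map_one] at this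
  have hf_zero : f 0 = 0 := by
    have := hf_alg 0
    rwa [map_zero, map_zero] at this
  refine ⟨{ toFun := f, map_one' := hf_one, map_mul' := hf_mul, map_zero' := hf_zero,
            map_add' := hf_add, commutes' := hf_alg }, ?_⟩
  ext s
  exact hfπ s

end glue

section lemmaA

/-- Small-extension lifting in surjection form. -/
def SmallLift (R S : Type u) [CommRing R] [CommRing S] [Algebra R S] [IsLocalRing S] : Prop :=
  ∀ (B C : Type u) [CommRing B] [CommRing C] [IsLocalRing B] [IsLocalRing C] [IsArtinianRing C]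
    [Algebra R B] [Algebra R C] [IsLocalHom (algebraMap R B)]
    (π : B →ₐ[R] C), Function.Surjective π → IsSimpleModule B (RingHom.ker π) →
    (∀ x y : B, π x = 0 → π y = 0 → x * y = 0) →
    ∀ (ψ : S →ₐ[R] C) [IsLocalHom ψ.toRingHom], (∀ c : C, ∃ s : S, c - ψ s ∈ maximalIdeal C) →
    ∃ χ : S →ₐ[R] B, π.comp χ = ψ

lemma lemmaA {R S : Type u} [CommRing R] [CommRing S] [Algebra R S] [IsLocalRing S]
    (H : SmallLift R S)
    {B C : Type u} [CommRing B] [CommRing C] [IsLocalRing B] [IsLocalRing C] [IsArtinianRing C]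
    [Algebra R B] [Algebra R C] [IsLocalHom (algebraMap R B)]
    (π : B →ₐ[R] C) (hπ : Function.Surjective π)
    (hmK : ∀ a ∈ maximalIdeal B, ∀ k : B, π k = 0 → a * k = 0)
    (ψ : S →ₐ[R] C) [IsLocalHom ψ.toRingHom]
    (hres : ∀ c : C, ∃ s : S, c - ψ s ∈ maximalIdeal C) :
    ∃ χ : S →ₐ[R] B, π.comp χ = ψ := by
  classical
  let K : Ideal B := RingHom.ker π
  have memK : ∀ x : B, x ∈ K ↔ π x = 0 := fun x => RingHom.mem_ker
  have hKm : ∀ x : B, π x = 0 → x ∈ maximalIdeal B := by
    intro x hx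
    rw [mem_maximalIdeal, mem_nonunits_iff]
    intro hu
    have := hu.map π
    rw [hx] at this
    exact not_isUnit_zero this
  have hK : ∀ x y : B, π x = 0 → π y = 0 → x * y = 0 := fun x y hx hy => hmK x (hKm x hx) y hy
  have hKne : K ≠ ⊤ := by
    intro h
    have h1 : (1 : B) ∈ K := by rw [h]; trivial
    rw [memK, map_one] at h1
    exact one_ne_zero h1
  -- vector space structure on K
  have htors : Module.IsTorsionBySet B K (maximalIdeal B : Set B) := by
    intro x a
    apply Subtype.ext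
    exact hmK a.1 a.2 x.1 ((memK _).1 x.2)
  letI : Field (B ⧸ maximalIdeal B) := Ideal.Quotient.field (maximalIdeal B)
  letI : Module (B ⧸ maximalIdeal B) K := htors.module
  haveI : IsScalarTower B (B ⧸ maximalIdeal B) K := htors.isScalarTower
  let κ := B ⧸ maximalIdeal B
  let D' := {l : Module.Dual κ K // l ≠ 0}
  let ev : K →ₗ[κ] (D' → κ) := LinearMap.pi (fun l => l.1)
  have hev : LinearMap.ker ev = ⊥ := by
    rw [LinearMap.ker_eq_bot']
    intro k hk
    by_contra hne
    obtain ⟨l, hl⟩ : ∃ l : Module.Dual κ K, l k ≠ 0 := by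
      by_contra hcon
      push_neg at hcon
      exact hne ((Module.forall_dual_apply_eq_zero_iff κ k).1 hcon)
    have hl0 : l ≠ 0 := by
      rintro rfl
      exact hl rfl
    exact hl (congrFun hk ⟨l, hl0⟩)
  obtain ⟨ρκ, hρκ⟩ := ev.exists_leftInverse_of_injective hev
  let ρ : (D' → κ) →ₗ[B] K := ρκ.restrictScalars B
  let lam : D' → K →ₗ[B] κ := fun l => l.1.restrictScalars B
  have hρ : ∀ k, ρ (fun i => lam i k) = k := fun k => LinearMap.congr_fun hρκ k
  let Ki : D' → Ideal B := fun l => Submodule.map K.subtype (LinearMap.ker (lam l))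
  have hKi : ∀ i (k : K), (k : B) ∈ Ki i → lam i k = 0 := by
    rintro i k ⟨k', hk', heq⟩
    have : k' = k := Subtype.ext heq
    rw [← this]; exact hk'
  have hKi' : ∀ i (k : K), lam i k = 0 → (k : B) ∈ Ki i := fun i k hk => ⟨k, hk, rfl⟩
  have hKle : ∀ i, Ki i ≤ K := fun i => Submodule.map_subtype_le _ _
  -- per functional lifts
  have hl : ∀ l : D', ∃ χ : S →ₐ[R] B ⧸ Ki l,
      ∀ s, Ideal.Quotient.lift (Ki l) (π : B →+* C)
        (fun x hx => (memK x).1 (hKle l hx)) (χ s) = ψ s := by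
    intro l
    have hne : Ki l ≠ ⊤ := fun h => hKne (top_le_iff.1 (h ▸ hKle l))
    haveI : Nontrivial (B ⧸ Ki l) := Ideal.Quotient.nontrivial_iff.2 hne
    haveI : IsLocalRing (B ⧸ Ki l) :=
      IsLocalRing.of_surjective' (Ideal.Quotient.mk (Ki l)) Ideal.Quotient.mk_surjective
    have hmkloc : IsLocalHom (Ideal.Quotient.mk (Ki l)) :=
      IsLocalHom.of_surjective _ Ideal.Quotient.mk_surjective
    haveI : IsLocalHom (algebraMap R (B ⧸ Ki l)) := by
      refine ⟨fun r hr => ?_⟩
      have h1 : IsUnit (algebraMap R B r) := isUnit_of_map_unit (Ideal.Quotient.mk (Ki l)) _ hr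
      exact isUnit_of_map_unit (algebraMap R B) _ h1
    let πl : B ⧸ Ki l →ₐ[R] C :=
      Ideal.Quotient.liftₐ (Ki l) π (fun x hx => (memK x).1 (hKle l hx))
    have hπl : ∀ x : B, πl (Ideal.Quotient.mk (Ki l) x) = π x := fun x => rfl
    have hπl_surj : Function.Surjective πl := fun c => by
      obtain ⟨x, rfl⟩ := hπ c; exact ⟨Ideal.Quotient.mk _ x, rfl⟩
    have hsq : ∀ x y : B ⧸ Ki l, πl x = 0 → πl y = 0 → x * y = 0 := by
      intro x y hx hy
      obtain ⟨x, rfl⟩ := Ideal.Quotient.mk_surjective x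
      obtain ⟨y, rfl⟩ := Ideal.Quotient.mk_surjective y
      rw [← map_mul, hK x y hx hy, map_zero]
    have hsimple : IsSimpleModule (B ⧸ Ki l) (RingHom.ker πl) := by
      rw [isSimpleModule_iff_toSpanSingleton_surjective]
      constructor
      · obtain ⟨k, hk⟩ : ∃ k : K, l.1 k ≠ 0 := by
          by_contra hcon
          push_neg at hcon
          exact l.2 (LinearMap.ext hcon)
        refine ⟨⟨⟨Ideal.Quotient.mk _ k.1, ?_⟩, 0, ?_⟩⟩
        · rw [RingHom.mem_ker, hπl]; exact (memK _).1 k.2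
        · intro h
          have h1 : Ideal.Quotient.mk (Ki l) k.1 = 0 := congrArg Subtype.val h
          rw [Ideal.Quotient.eq_zero_iff_mem] at h1
          exact hk (hKi l k h1)
      · rintro ⟨x, hx⟩ hx0 ⟨y, hy⟩
        obtain ⟨x, rfl⟩ := Ideal.Quotient.mk_surjective x
        obtain ⟨y, rfl⟩ := Ideal.Quotient.mk_surjective y
        rw [RingHom.mem_ker, hπl] at hx hy
        let kx : K := ⟨x, (memK x).2 hx⟩
        let ky : K := ⟨y, (memK y).2 hy⟩
        have hlx : l.1 kx ≠ 0 := by
          intro h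
          apply hx0
          apply Subtype.ext
          show Ideal.Quotient.mk (Ki l) x = 0
          rw [Ideal.Quotient.eq_zero_iff_mem]
          exact hKi' l kx h
        obtain ⟨a, ha⟩ := Ideal.Quotient.mk_surjective (l.1 ky / l.1 kx)
        refine ⟨Ideal.Quotient.mk (Ki l) a, ?_⟩
        apply Subtype.ext
        show Ideal.Quotient.mk (Ki l) a * Ideal.Quotient.mk (Ki l) x = Ideal.Quotient.mk (Ki l) y
        rw [← map_mul, Ideal.Quotient.eq]
        have h1 : l.1 (a • kx - ky) = 0 := by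
          have h2 : a • kx = (Ideal.Quotient.mk (maximalIdeal B) a : κ) • kx :=
            (algebraMap_smul κ a kx).symm
          rw [map_sub, h2, map_smul, ha, smul_eq_mul, div_mul_cancel₀ _ hlx, sub_self]
        exact hKi' l (a • kx - ky) h1
    obtain ⟨χ, hχ⟩ := H (B ⧸ Ki l) C πl hπl_surj hsimple hsq ψ hres
    exact ⟨χ, fun s => DFunLike.congr_fun hχ s⟩
  choose χi hχi using hl
  exact glue π hπ ψ hK K memK lam ρ hρ Ki hKi hKle χi hχi


lemma lemmaA' {R S : Type u} [CommRing R] [CommRing S] [Algebra R S] [IsLocalRing S]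
    [IsNoetherianRing S] (H : SmallLift R S)
    {B C : Type u} [CommRing B] [CommRing C] [IsLocalRing B] [IsLocalRing C]
    [Algebra R B] [Algebra R C] [IsLocalHom (algebraMap R B)]
    (π : B →ₐ[R] C) (hπ : Function.Surjective π)
    (n : ℕ) (hn : maximalIdeal B ^ n = ⊥)
    (hmK : ∀ a ∈ maximalIdeal B, ∀ k : B, π k = 0 → a * k = 0)
    (ψ : S →ₐ[R] C) [IsLocalHom ψ.toRingHom]
    (hres : ∀ c : C, ∃ s : S, c - ψ s ∈ maximalIdeal C) :
    ∃ χ : S →ₐ[R] B, π.comp χ = ψ := by
  classical
  have hKm : ∀ x : B, π x = 0 → x ∈ maximalIdeal B := by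
    intro x hx
    rw [mem_maximalIdeal, mem_nonunits_iff]
    intro hu
    have := hu.map π
    rw [hx] at this
    exact not_isUnit_zero this
  have hmB : ∀ x : B, π x ∈ maximalIdeal C → x ∈ maximalIdeal B := by
    intro x hx
    rw [mem_maximalIdeal, mem_nonunits_iff] at hx ⊢
    exact fun hu => hx (hu.map π)
  have hψloc : ∀ s : S, IsUnit (ψ s) → IsUnit s := fun s hs =>
    isUnit_of_map_unit ψ.toRingHom s hs
  let C₁ : Subalgebra R C := ψ.range
  let B₁ : Subalgebra R B := C₁.comap π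
  let π₁ : B₁ →ₐ[R] C₁ := (π.comp B₁.val).codRestrict C₁ (fun x => x.2)
  let ψ₁ : S →ₐ[R] C₁ := ψ.rangeRestrict
  have hπ₁v : ∀ x : B₁, (π₁ x : C) = π x.1 := fun x => rfl
  have hψ₁v : ∀ s : S, (ψ₁ s : C) = ψ s := fun s => rfl
  have hψ₁ : Function.Surjective ψ₁ := ψ.rangeRestrict_surjective
  have hπ₁ : Function.Surjective π₁ := by
    rintro ⟨c, s, rfl⟩
    obtain ⟨b, hb⟩ := hπ (ψ s)
    exact ⟨⟨b, ⟨s, hb.symm⟩⟩, Subtype.ext hb⟩
  haveI : IsLocalRing C₁ := IsLocalRing.of_surjective' ψ₁.toRingHom hψ₁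
  have hK₁ : ∀ x y : B₁, π₁ x = 0 → π₁ y = 0 → x * y = 0 := by
    intro x y hx hy
    have hx' : π x.1 = 0 := by rw [← hπ₁v, hx]; rfl
    have hy' : π y.1 = 0 := by rw [← hπ₁v, hy]; rfl
    exact Subtype.ext (hmK x.1 (hKm _ hx') y.1 hy')
  haveI : IsLocalRing B₁ :=
    Groth.Agent.Lib.SqZeroHenselLocal.isLocalRing_of_sqZero π₁.toRingHom hπ₁ hK₁
  -- maximal ideals
  have hmC₁ : ∀ y : C₁, y ∈ maximalIdeal C₁ → y.1 ∈ maximalIdeal C := by
    intro y hy
    obtain ⟨s, rfl⟩ := hψ₁ y
    rw [mem_maximalIdeal, mem_nonunits_iff] at hy ⊢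
    intro hu
    exact hy ((hψloc s hu).map ψ₁)
  have hmB₁ : ∀ x : B₁, x ∈ maximalIdeal B₁ → x.1 ∈ maximalIdeal B := by
    intro x hx
    apply hmB
    rw [← hπ₁v]
    apply hmC₁
    exact (Groth.Agent.Lib.SqZeroHenselLocal.mem_maximalIdeal_iff_of_sqZero π₁.toRingHom hπ₁ hK₁ x).1
      hx
  have hmK₁ : ∀ a ∈ maximalIdeal B₁, ∀ k : B₁, π₁ k = 0 → a * k = 0 := by
    intro a ha k hk
    have hk' : π k.1 = 0 := by rw [← hπ₁v, hk]; rfl
    exact Subtype.ext (hmK a.1 (hmB₁ a ha) k.1 hk')
  haveI : IsLocalHom (algebraMap R B₁) := by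
    refine ⟨fun r hr => ?_⟩
    have h1 : IsUnit (algebraMap R B r) := hr.map B₁.val
    exact isUnit_of_map_unit (algebraMap R B) _ h1
  haveI : IsLocalHom ψ₁.toRingHom := by
    refine ⟨fun s hs => ?_⟩
    have h1 : IsUnit (ψ s) := hs.map C₁.val
    exact hψloc s h1
  have hres₁ : ∀ c : C₁, ∃ s : S, c - ψ₁ s ∈ maximalIdeal C₁ := by
    intro c
    obtain ⟨s, hs⟩ := hψ₁ c
    exact ⟨s, by rw [hs, sub_self]; exact zero_mem _⟩
  -- Artinian
  have hmCn : maximalIdeal C ^ n = ⊥ := by
    rw [← map_maximalIdeal_of_surjective (π : B →+* C) hπ, ← Ideal.map_pow, hn, Ideal.map_bot]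
  haveI : IsNoetherianRing C₁ := isNoetherianRing_of_surjective S C₁ ψ₁.toRingHom hψ₁
  haveI : IsArtinianRing C₁ := by
    rw [isArtinianRing_iff_isNilpotent_maximalIdeal]
    refine ⟨n, ?_⟩
    rw [Ideal.zero_eq_bot, eq_bot_iff]
    have h1 : maximalIdeal C₁ ≤ (maximalIdeal C).comap (C₁.val : C₁ →+* C) := fun y hy =>
      hmC₁ y hy
    calc maximalIdeal C₁ ^ n ≤ ((maximalIdeal C).comap (C₁.val : C₁ →+* C)) ^ n :=
          Ideal.pow_right_mono h1 n
      _ ≤ (maximalIdeal C ^ n).comap (C₁.val : C₁ →+* C) := Ideal.le_comap_pow _ n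
      _ = ⊥ := by
          rw [hmCn]
          exact Ideal.comap_bot_of_injective _ Subtype.val_injective
  obtain ⟨χ₁, hχ₁⟩ := lemmaA H π₁ hπ₁ hmK₁ ψ₁ hres₁
  refine ⟨B₁.val.comp χ₁, ?_⟩
  ext s
  have := DFunLike.congr_fun hχ₁ s
  exact congrArg Subtype.val this

lemma lemmaB {R S : Type u} [CommRing R] [CommRing S] [Algebra R S] [IsLocalRing S]
    [IsNoetherianRing S] (H : SmallLift R S) (d : ℕ) :
    ∀ {B C : Type u} [CommRing B] [CommRing C] [IsLocalRing B] [IsLocalRing C]
    [Algebra R B] [Algebra R C] [IsLocalHom (algebraMap R B)]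
    (π : B →ₐ[R] C) (_ : Function.Surjective π)
    (n : ℕ) (_ : maximalIdeal B ^ n = ⊥)
    (_ : ∀ x y : B, π x = 0 → π y = 0 → x * y = 0)
    (_ : maximalIdeal B ^ d * RingHom.ker π = ⊥)
    (ψ : S →ₐ[R] C) [IsLocalHom ψ.toRingHom]
    (_ : ∀ c : C, ∃ s : S, c - ψ s ∈ maximalIdeal C),
    ∃ χ : S →ₐ[R] B, π.comp χ = ψ := by
  induction d with
  | zero =>
    intro B C _ _ _ _ _ _ _ π hπ n hn hK hd ψ _ hres
    have hinj : Function.Injective π := by
      rw [injective_iff_map_eq_zero]
      intro x hx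
      have h1 : x ∈ maximalIdeal B ^ 0 * RingHom.ker π := by
        rw [pow_zero, Ideal.one_eq_top, Ideal.top_mul]
        exact RingHom.mem_ker.2 hx
      rw [hd] at h1
      exact h1
    let e := AlgEquiv.ofBijective π ⟨hinj, hπ⟩
    refine ⟨(e.symm : C →ₐ[R] B).comp ψ, ?_⟩
    ext s
    exact e.apply_symm_apply (ψ s)
  | succ d ih =>
    intro B C _ _ _ _ _ _ _ π hπ n hn hK hd ψ _ hres
    let K : Ideal B := RingHom.ker π
    have memK : ∀ x : B, x ∈ K ↔ π x = 0 := fun x => RingHom.mem_ker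
    let K₁ : Ideal B := maximalIdeal B * K
    have hK₁le : K₁ ≤ K := Ideal.mul_le_right
    have hKne : K ≠ ⊤ := by
      intro h
      have h1 : (1 : B) ∈ K := by rw [h]; trivial
      rw [memK, map_one] at h1
      exact one_ne_zero h1
    have hne : K₁ ≠ ⊤ := fun h => hKne (top_le_iff.1 (h ▸ hK₁le))
    haveI : Nontrivial (B ⧸ K₁) := Ideal.Quotient.nontrivial_iff.2 hne
    haveI : IsLocalRing (B ⧸ K₁) :=
      IsLocalRing.of_surjective' (Ideal.Quotient.mk K₁) Ideal.Quotient.mk_surjective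
    have hmkloc : IsLocalHom (Ideal.Quotient.mk K₁) :=
      IsLocalHom.of_surjective _ Ideal.Quotient.mk_surjective
    haveI : IsLocalHom (algebraMap R (B ⧸ K₁)) := by
      refine ⟨fun r hr => ?_⟩
      have h1 : IsUnit (algebraMap R B r) := isUnit_of_map_unit (Ideal.Quotient.mk K₁) _ hr
      exact isUnit_of_map_unit (algebraMap R B) _ h1
    let π' : B ⧸ K₁ →ₐ[R] C :=
      Ideal.Quotient.liftₐ K₁ π (fun x hx => (memK x).1 (hK₁le hx))
    have hπ'mk : ∀ x : B, π' (Ideal.Quotient.mk K₁ x) = π x := fun x => rfl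
    have hπ' : Function.Surjective π' := fun c => by
      obtain ⟨x, rfl⟩ := hπ c; exact ⟨Ideal.Quotient.mk _ x, rfl⟩
    have hn' : maximalIdeal (B ⧸ K₁) ^ n = ⊥ := by
      rw [← map_maximalIdeal_of_surjective (Ideal.Quotient.mk K₁) Ideal.Quotient.mk_surjective,
        ← Ideal.map_pow, hn, Ideal.map_bot]
    have hmK' : ∀ a ∈ maximalIdeal (B ⧸ K₁), ∀ k : B ⧸ K₁, π' k = 0 → a * k = 0 := by
      intro a ha k hk
      obtain ⟨a, rfl⟩ := Ideal.Quotient.mk_surjective a
      obtain ⟨k, rfl⟩ := Ideal.Quotient.mk_surjective k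
      rw [hπ'mk] at hk
      have ha' : a ∈ maximalIdeal B := by
        rw [mem_maximalIdeal, mem_nonunits_iff] at ha ⊢
        exact fun hu => ha (hu.map _)
      rw [← map_mul, Ideal.Quotient.eq_zero_iff_mem]
      exact Ideal.mul_mem_mul ha' ((memK k).2 hk)
    obtain ⟨χ', hχ'⟩ := lemmaA' H π' hπ' n hn' hmK' ψ hres
    have hχ's : ∀ s, π' (χ' s) = ψ s := fun s => DFunLike.congr_fun hχ' s
    -- second step
    haveI : IsLocalHom χ'.toRingHom := by
      refine ⟨fun s hs => ?_⟩
      have h1 : IsUnit (ψ s) := by rw [← hχ's]; exact hs.map π'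
      exact isUnit_of_map_unit ψ.toRingHom s h1
    have hres' : ∀ c : B ⧸ K₁, ∃ s : S, c - χ' s ∈ maximalIdeal (B ⧸ K₁) := by
      intro c
      obtain ⟨s, hs⟩ := hres (π' c)
      refine ⟨s, ?_⟩
      rw [mem_maximalIdeal, mem_nonunits_iff] at hs ⊢
      intro hu
      apply hs
      have := hu.map π'
      rwa [map_sub, hχ's] at this
    have hker : RingHom.ker (Ideal.Quotient.mkₐ R K₁) = K₁ := Ideal.Quotient.mkₐ_ker R K₁
    have hK'' : ∀ x y : B, Ideal.Quotient.mkₐ R K₁ x = 0 → Ideal.Quotient.mkₐ R K₁ y = 0 →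
        x * y = 0 := by
      intro x y hx hy
      have hx' : x ∈ K₁ := Ideal.Quotient.eq_zero_iff_mem.1 hx
      have hy' : y ∈ K₁ := Ideal.Quotient.eq_zero_iff_mem.1 hy
      exact hK x y ((memK x).1 (hK₁le hx')) ((memK y).1 (hK₁le hy'))
    have hd' : maximalIdeal B ^ d * RingHom.ker (Ideal.Quotient.mkₐ R K₁) = ⊥ := by
      rw [hker, ← mul_assoc, ← pow_succ]
      exact hd
    obtain ⟨χ, hχ⟩ := ih (Ideal.Quotient.mkₐ R K₁) (Ideal.Quotient.mkₐ_surjective R K₁) n hn hK''
      hd' χ' hres'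
    refine ⟨χ, ?_⟩
    ext s
    have h1 : Ideal.Quotient.mk K₁ (χ s) = χ' s := DFunLike.congr_fun hχ s
    show π (χ s) = ψ s
    rw [← hπ'mk, h1, hχ's]

end lemmaA

section residue

variable {S C : Type*} [CommRing S] [CommRing C] [IsLocalRing S] [IsLocalRing C]

lemma bijective_residue_of (f : S →+* C) [IsLocalHom f]
    (h : ∀ c : C, ∃ s : S, c - f s ∈ maximalIdeal C) :
    Function.Bijective (ResidueField.map f) := by
  refine ⟨RingHom.injective _, fun y => ?_⟩
  obtain ⟨c, rfl⟩ := residue_surjective y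
  obtain ⟨s, hs⟩ := h c
  refine ⟨residue S s, ?_⟩
  rw [ResidueField.map_residue]
  symm
  rw [← sub_eq_zero, ← map_sub, residue_eq_zero_iff]
  exact hs

lemma exists_of_bijective_residue (f : S →+* C) [IsLocalHom f]
    (hb : Function.Bijective (ResidueField.map f)) (c : C) :
    ∃ s : S, c - f s ∈ maximalIdeal C := by
  obtain ⟨y, hy⟩ := hb.2 (residue C c)
  obtain ⟨s, rfl⟩ := residue_surjective y
  refine ⟨s, ?_⟩
  rw [ResidueField.map_residue] at hy
  rw [← residue_eq_zero_iff, map_sub, hy, sub_self]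

end residue

lemma smallLift_of {R S : Type u} [CommRing R] [CommRing S] [IsLocalRing R] [IsLocalRing S]
    [Algebra R S] [IsLocalHom (algebraMap R S)]
    (h : ∀ (A : Type u) [CommRing A] [IsLocalRing A] [IsArtinianRing A] [Algebra R A]
        [IsLocalHom (algebraMap R A)] (J : Ideal A), J ^ 2 = ⊥ → Module.length A J = 1 →
        ∀ [IsLocalRing (A ⧸ J)] (ψ : S →ₐ[R] A ⧸ J) [IsLocalHom ψ.toRingHom],
          Function.Bijective (ResidueField.map ψ.toRingHom) →
          ∃ χ : S →ₐ[R] A, (Ideal.Quotient.mkₐ R J).comp χ = ψ) : SmallLift R S := by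
  intro B C _ _ _ _ _ _ _ _ π hπ hsimple hsq ψ _ hres
  let J : Ideal B := RingHom.ker π
  have memJ : ∀ x : B, x ∈ J ↔ π x = 0 := fun x => RingHom.mem_ker
  let e : (B ⧸ J) ≃ₐ[R] C := Ideal.quotientKerAlgEquivOfSurjective hπ
  have he : ∀ x, e (Ideal.Quotient.mk J x) = π x := fun x => rfl
  haveI : IsArtinianRing B := by
    letI : Algebra B C := (π : B →+* C).toAlgebra
    haveI : IsArtinian B C := isArtinian_of_surjective_algebraMap (S := B) (R := C) (M := C) hπ
    haveI : IsArtinian B J := by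
      have : IsFiniteLength B J := by
        rw [← Module.length_ne_top_iff, Module.length_eq_one B J]
        exact ENat.one_ne_top
      exact (isFiniteLength_iff_isNoetherian_isArtinian.1 this).2
    refine isArtinian_of_range_eq_ker (J.subtype) (Algebra.linearMap B C) ?_
    rw [Submodule.range_subtype]
    ext x
    rw [LinearMap.mem_ker, Algebra.linearMap_apply]
    exact memJ x
  have hJ2 : J ^ 2 = ⊥ := by
    rw [sq, eq_bot_iff, Ideal.mul_le]
    intro x hx y hy
    rw [Ideal.mem_bot]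
    exact hsq x y ((memJ x).1 hx) ((memJ y).1 hy)
  have hlen : Module.length B J = 1 := Module.length_eq_one B J
  haveI : IsLocalRing (B ⧸ J) := e.symm.toRingEquiv.isLocalRing
  let ψ' : S →ₐ[R] B ⧸ J := (e.symm : C →ₐ[R] B ⧸ J).comp ψ
  have hψ' : ∀ s, e (ψ' s) = ψ s := fun s => e.apply_symm_apply (ψ s)
  haveI : IsLocalHom ψ'.toRingHom := by
    refine ⟨fun s hs => ?_⟩
    have h1 : IsUnit (ψ s) := by rw [← hψ']; exact hs.map e
    exact isUnit_of_map_unit ψ.toRingHom s h1
  have hbij : Function.Bijective (ResidueField.map ψ'.toRingHom) := by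
    apply bijective_residue_of
    intro c
    obtain ⟨s, hs⟩ := hres (e c)
    refine ⟨s, ?_⟩
    rw [mem_maximalIdeal, mem_nonunits_iff] at hs ⊢
    intro hu
    apply hs
    have h2 : e (c - ψ' s) = e c - ψ s := by rw [map_sub, hψ']
    have := hu.map e
    change IsUnit (e (c - ψ' s)) at this
    rwa [h2] at this
  obtain ⟨χ, hχ⟩ := h B J hJ2 hlen ψ' hbij
  refine ⟨χ, ?_⟩
  ext s
  have h1 : Ideal.Quotient.mk J (χ s) = ψ' s := DFunLike.congr_fun hχ s
  show π (χ s) = ψ s
  rw [← he, h1, hψ']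

end helpers


open IsLocalRing in
/-- Let `R → S` be a local homomorphism of local rings with `S` Noetherian. Then `R → S` is formally
smooth for the adic topology of the maximal ideal of `S` if and only if lifts exist along small
extensions: for every Artinian local ring `A` with a local structure map `R → A`, every ideal `J` of
`A` of square zero which has length one as an `A`-module, and every local `R`-algebra homomorphism
`ψ : S → A/J` inducing a bijection on residue fields, there is an `R`-algebra homomorphism `S → A`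
lifting `ψ`. -/
theorem result {R S : Type u} [CommRing R] [CommRing S]
    [IsLocalRing R] [IsLocalRing S] [IsNoetherianRing S] [Algebra R S] [IsLocalHom (algebraMap R S)] :
    CAlgX.IsAdicFormallySmooth R S (maximalIdeal S) ↔
      ∀ (A : Type u) [CommRing A] [IsLocalRing A] [IsArtinianRing A] [Algebra R A]
        [IsLocalHom (algebraMap R A)] (J : Ideal A), J ^ 2 = ⊥ → Module.length A J = 1 →
        ∀ [IsLocalRing (A ⧸ J)] (ψ : S →ₐ[R] A ⧸ J) [IsLocalHom ψ.toRingHom],
          Function.Bijective (ResidueField.map ψ.toRingHom) →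
          ∃ χ : S →ₐ[R] A, (Ideal.Quotient.mkₐ R J).comp χ = ψ := by
  constructor
  · intro h A _ _ _ _ _ J hJ _ _ ψ _ hbij
    have hnil : IsNilpotent (maximalIdeal A) :=
      (isArtinianRing_iff_isNilpotent_maximalIdeal A).1 inferInstance
    obtain ⟨n, hn⟩ := hnil
    exact (Groth.Agent.S9315.result.1 h) A J hJ ⟨n, hn⟩ ψ hbij
  · intro h
    apply Groth.Agent.S9315.result.2
    intro A _ _ _ _ J hJ hnil _ ψ _ hbij
    obtain ⟨n, hn⟩ := hnil
    have H : SmallLift R S := smallLift_of h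
    have hker : RingHom.ker (Ideal.Quotient.mkₐ R J) = J := Ideal.Quotient.mkₐ_ker R J
    have hK : ∀ x y : A, Ideal.Quotient.mkₐ R J x = 0 → Ideal.Quotient.mkₐ R J y = 0 →
        x * y = 0 := by
      intro x y hx hy
      have hx' : x ∈ J := Ideal.Quotient.eq_zero_iff_mem.1 hx
      have hy' : y ∈ J := Ideal.Quotient.eq_zero_iff_mem.1 hy
      have : x * y ∈ J ^ 2 := by rw [sq]; exact Ideal.mul_mem_mul hx' hy'
      rwa [hJ, Ideal.mem_bot] at this
    have hd : maximalIdeal A ^ n * RingHom.ker (Ideal.Quotient.mkₐ R J) = ⊥ := by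
      rw [hn, Ideal.bot_mul]
    exact lemmaB H n (Ideal.Quotient.mkₐ R J) (Ideal.Quotient.mkₐ_surjective R J) n hn hK hd ψ
      (fun c => exists_of_bijective_residue ψ.toRingHom hbij c)

end Groth.Agent.S9316
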