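import Groth.Statements.S9753
import Groth.Agent.S9238
import Groth.Agent.Lib.BranchesNbhdC96
import Groth.Agent.Lib.StrictHenselizationProps
import Groth.Agent.Lib.H56ShGen

set_option autoImplicit false
universe u
open Brnch

namespace Groth.Agent.S9753

open AlgebraicGeometry CategoryTheory Limits in
/-- Let X be a scheme and x ∈ X. Over all étale neighbourhoods (U, u) of (X, x) (g : U ⟶ X étale with g
u = x), take the count (in ℕ∞) of irreducible components of U containing u; the supremum of these
counts is the geometric branch number of X at x. -/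
theorem result (X : Scheme.{u}) (x : X) :
    Brnch.numGeomBranchesAt X x = ⨆ (U : Scheme.{u}) (g : U ⟶ X) (u : U) (_ : Etale g ∧ g u = x),
      {Z : Set ↑U | Z ∈ irreducibleComponents ↑U ∧ u ∈ Z}.encard := by
  have hcard : ENat.card (minimalPrimes (Groth.Agent.Lib.StrictHenselization.Sh
      (X.presheaf.stalk x))) = Brnch.numGeomBranches (X.presheaf.stalk x) :=
    Groth.Agent.S9238.result (X.presheaf.stalk x) _
  show Brnch.numGeomBranches (X.presheaf.stalk x) = _
  rw [← hcard]
  show (minimalPrimes (Groth.Agent.Lib.StrictHenselization.Sh (X.presheaf.stalk x))).encard = _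
  apply le_antisymm
  · rw [← ENat.forall_natCast_le_iff_le]
    intro k hk
    obtain ⟨T, hTsub, hTcard⟩ := Set.exists_subset_encard_eq hk
    have hTfin : T.Finite := Set.finite_of_encard_eq_coe hTcard
    obtain ⟨U, g, u, hg, hgu, -, hle⟩ :=
      Groth.Agent.Lib.BranchesNbhd96.exists_nbhd_encard_ge x
        (Groth.Agent.Lib.StrictHenselization.Sh (X.presheaf.stalk x))
        (fun F => Groth.Agent.Lib.H56ShGen.exists_etale_of_finset _ _ F) T hTfin hTsub
    rw [← hTcard]
    exact hle.trans (le_iSup_of_le U (le_iSup_of_le g (le_iSup_of_le u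
      (le_iSup_of_le ⟨hg, hgu⟩ le_rfl))))
  · refine iSup_le fun U => iSup_le fun g => iSup_le fun u => iSup_le fun h => ?_
    obtain ⟨hg, hgu⟩ := h
    subst hgu
    exact Groth.Agent.Lib.BranchesNbhd96.encard_le_minimalPrimes g u _ (Or.inr inferInstance)

end Groth.Agent.S9753
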