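import Groth.Statements.S9359
import Groth.Agent.Lib.H30FibBC
import Groth.Agent.Lib.FibreDimAtFormula
import Groth.Agent.Lib.FibreStalkCM33
import Groth.Agent.Lib.H73FibDim2
import Groth.Agent.Lib.SpecDim

set_option autoImplicit false
universe u
open FibDim

namespace Groth.Agent.S9359
open AlgebraicGeometry CategoryTheory
open Groth.Agent.Lib.H30DimRel Groth.Agent.Lib.H30IrrFib

/-- the dimension of an open subset of a scheme is the supremum of the dimensions of the local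
rings at its points -/
theorem dim_opens_eq_iSup (X : Scheme.{u}) (U : X.Opens) :
    topologicalKrullDim (U : Set X) = ⨆ u : U, ringKrullDim (X.presheaf.stalk u.1) := by
  have h1 : topologicalKrullDim (U : Set X) = topologicalKrullDim U.toScheme := rfl
  rw [h1, Groth.Agent.Lib.SpecDim.topologicalKrullDim_eq_krullDim (A := U.toScheme),
    Order.krullDim_eq_iSup_coheight]
  refine iSup_congr fun u => ?_
  rw [← ringKrullDim_stalk_eq_coheight]
  exact ringKrullDim_eq_of_ringEquiv (U.stalkIso u).commRingCatIsoToRingEquiv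

/-- key formula: `dim O_{X,u} + trdeg κ(u)/κ(f u) = dim O_{Y,f u} + d` -/
theorem stalk_formula {X Y : Scheme.{u}} [IsLocallyNoetherian X] [IsLocallyNoetherian Y] (f : X ⟶ Y)
    [Flat f] [LocallyOfFiniteType f] (d : ℕ) (hd : ∀ x : X, FlatMor.fibreDimAt f x = d) (u : X) :
    ringKrullDim (X.presheaf.stalk u) + ((rt f u : ℕ) : WithBot ℕ∞) =
      ringKrullDim (Y.presheaf.stalk (f u)) + (d : WithBot ℕ∞) := by
  have hflat : (f.stalkMap u).hom.Flat := Flat.stalkMap f u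
  rw [Groth.Agent.Lib.FibreStalkCM33.ringKrullDim_stalk_eq_add f u hflat, ← hd u,
    Groth.Agent.Lib.FibreDimAtFormula.fibreDimAt_eq_add f u (rt f u) (trdeg_eq_rt f u), add_assoc]

/-- every point of an open `U` specializes, inside `U` and its fibre, to a point with
`rt f = 0` -/
theorem exists_rt_eq_zero {X Y : Scheme.{u}} (f : X ⟶ Y) [LocallyOfFiniteType f] (U : X.Opens)
    (x : X) (hx : x ∈ U) : ∃ c : X, c ∈ U ∧ f c = f x ∧ rt f c = 0 := by
  obtain ⟨c, hc, -, hcl⟩ := Groth.Agent.Lib.H73FibDim.exists_closed_in_fibre' (U.ι ≫ f) ⟨x, hx⟩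
  have hfin := Groth.Agent.Lib.H73FibDim.finite_residueFieldMap_of_isClosed_fibre (U.ι ≫ f)
    ((U.ι ≫ f) ⟨x, hx⟩) ⟨c, hc⟩ hcl
  refine ⟨c.1, c.2, hc, ?_⟩
  have h1 : rt (U.ι ≫ f) c = rt f (U.ι c) := rt_comp_of_isPreimmersion f U.ι c
  have h2 : rt (U.ι ≫ f) c = 0 := by
    apply rt_eq_of_trdeg_eq
    letI := ((U.ι ≫ f).residueFieldMap c).hom.toAlgebra
    haveI : Module.Finite (Y.residueField ((U.ι ≫ f) c)) (U.toScheme.residueField c) := hfin
    haveI : Algebra.IsAlgebraic (Y.residueField ((U.ι ≫ f) c)) (U.toScheme.residueField c) :=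
      Algebra.IsAlgebraic.of_finite _ _
    rw [trdeg_eq_zero]
    rfl
  rw [h1] at h2
  exact h2

theorem iSup_add_nat {ι : Type*} [Nonempty ι] (a : ι → WithBot ℕ∞) (ha : ∀ i, 0 ≤ a i) (d : ℕ) :
    (⨆ i, a i) + (d : WithBot ℕ∞) = ⨆ i, (a i + (d : WithBot ℕ∞)) := by
  lift a to ι → ℕ∞ using (fun i => ne_bot_of_le_ne_bot (by simp) (ha i))
  have hb : ∀ g : ι → ℕ∞, BddAbove (Set.range g) := fun g => OrderTop.bddAbove _
  have h1 : (⨆ i, ((a i : ℕ∞) : WithBot ℕ∞)) = (((⨆ i, a i : ℕ∞)) : WithBot ℕ∞) :=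
    (WithBot.coe_iSup (hb a)).symm
  have h2 : (⨆ i, (((a i : ℕ∞) : WithBot ℕ∞) + (d : WithBot ℕ∞))) =
      (((⨆ i, (a i + (d : ℕ∞)) : ℕ∞)) : WithBot ℕ∞) := by
    rw [WithBot.coe_iSup (hb _)]
    rfl
  rw [h1, h2, ← ENat.iSup_add]
  rfl


open AlgebraicGeometry CategoryTheory in
/-- Let f : X → Y be flat, locally of finite type and of relative dimension d, with X and Y locally
Noetherian. Then dim_x(X) = dim_y(Y) + d for every x ∈ X with image y. -/
theorem result {X Y : Scheme.{u}} [IsLocallyNoetherian X] [IsLocallyNoetherian Y] (f : X ⟶ Y)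
    [Flat f] [LocallyOfFiniteType f] (d : ℕ) (hd : Cyc.HasRelDim f d) (x : X) :
    FlatMor.localDim ↑X x = FlatMor.localDim ↑Y (f.base x) + (d : WithBot ℕ∞) := by
  rw [Groth.Agent.Lib.H30FibBC.hasRelDim_iff] at hd
  haveI : LocallyOfFinitePresentation f :=
    LocallyOfFinitePresentation.iff_locallyOfFiniteType.mpr inferInstance
  have hopen : IsOpenMap f := f.isOpenMap
  apply le_antisymm
  · obtain ⟨V, hyV, hV⟩ := Groth.Agent.Lib.TopKrullDim.exists_open_dim_eq_localDim (f x)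
    rw [← hV]
    refine (Groth.Agent.Lib.TopKrullDim.localDim_le_dim_open x (f ⁻¹ᵁ V) hyV).trans ?_
    rw [dim_opens_eq_iSup X (f ⁻¹ᵁ V)]
    refine iSup_le fun u => ?_
    have h1 := stalk_formula f d hd u.1
    have h2 : ringKrullDim (X.presheaf.stalk u.1) ≤
        ringKrullDim (X.presheaf.stalk u.1) + ((rt f u.1 : ℕ) : WithBot ℕ∞) :=
      le_add_of_nonneg_right (by exact_mod_cast Nat.zero_le _)
    rw [h1] at h2
    refine h2.trans (add_le_add_left ?_ _)
    rw [dim_opens_eq_iSup Y V]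
    exact le_iSup (fun v : V => ringKrullDim (Y.presheaf.stalk v.1)) ⟨f u.1, u.2⟩
  · obtain ⟨U, hxU, hU⟩ := Groth.Agent.Lib.TopKrullDim.exists_open_dim_eq_localDim x
    rw [← hU]
    let V : Y.Opens := ⟨f '' (U : Set X), hopen _ U.2⟩
    have hyV : f x ∈ V := ⟨x, hxU, rfl⟩
    refine (add_le_add_left (Groth.Agent.Lib.TopKrullDim.localDim_le_dim_open (f x) V hyV) _).trans ?_
    rw [dim_opens_eq_iSup Y V, dim_opens_eq_iSup X U]
    haveI : Nonempty {v // v ∈ V} := ⟨⟨f x, hyV⟩⟩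
    rw [iSup_add_nat _ (fun v => ringKrullDim_nonneg_of_nontrivial) d]
    refine iSup_le fun v => ?_
    obtain ⟨u₀, hu₀, hv⟩ := v.2
    obtain ⟨c, hcU, hfc, hrt⟩ := exists_rt_eq_zero f U u₀ hu₀
    have h1 := stalk_formula f d hd c
    rw [hrt, hfc, hv] at h1
    rw [← h1]
    simp only [Nat.cast_zero, add_zero]
    exact le_iSup (fun u : U => ringKrullDim (X.presheaf.stalk u.1)) ⟨c, hcU⟩

end Groth.Agent.S9359
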