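import Groth.Statements.S2101
import Mathlib.RingTheory.Regular.RegularSequence
import Mathlib.RingTheory.MvPolynomial.Basic
import Mathlib.Tactic

set_option autoImplicit false
universe u
open CAlg

namespace Groth.Agent.S2101

open RingTheory.Sequence MvPolynomial

/-- `x` is a nonzerodivisor modulo `I`. -/
def Reg {A : Type*} [CommRing A] (I : Ideal A) (x : A) : Prop := ∀ a, x * a ∈ I → a ∈ I

section piece1

variable {A : Type*} [CommRing A]

lemma isSMulRegular_quot_iff (I : Ideal A) (x : A) :
    IsSMulRegular (A ⧸ (I • ⊤ : Submodule A A)) x ↔ Reg I x := by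
  rw [isSMulRegular_quotient_iff_mem_of_smul_mem]
  have : (I • ⊤ : Submodule A A) = I := by
    rw [smul_eq_mul, Ideal.mul_top]
  rw [this]
  rfl

lemma setOf_mem_take_ofFn {r : ℕ} (F : Fin r → A) (i : ℕ) :
    {y | y ∈ (List.ofFn F).take i} = F '' {j | (j : ℕ) < i} := by
  ext y
  constructor
  · intro hy
    obtain ⟨j, hj, rfl⟩ := List.mem_take_iff_getElem.1 hy
    rw [List.length_ofFn] at hj
    refine ⟨⟨j, by omega⟩, ?_, by simp⟩
    change j < i
    omega
  · rintro ⟨j, hj, rfl⟩
    change (j : ℕ) < i at hj
    refine List.mem_take_iff_getElem.2 ⟨j, ?_, by simp⟩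
    rw [List.length_ofFn]
    have := j.2
    omega

lemma isWeaklyRegular_ofFn_iff {r : ℕ} (F : Fin r → A) :
    IsWeaklyRegular A (List.ofFn F) ↔
      ∀ i : Fin r, Reg (Ideal.span (F '' {j | j < i})) (F i) := by
  rw [isWeaklyRegular_iff]
  constructor
  · intro h i
    have := h i (by simp)
    rw [isSMulRegular_quot_iff] at this
    simp only [List.getElem_ofFn] at this
    unfold Ideal.ofList at this
    rw [setOf_mem_take_ofFn] at this
    exact this
  · intro h i hi
    rw [List.length_ofFn] at hi
    rw [isSMulRegular_quot_iff]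
    simp only [List.getElem_ofFn]
    unfold Ideal.ofList
    rw [setOf_mem_take_ofFn]
    exact h ⟨i, hi⟩

lemma ofList_ofFn {r : ℕ} (F : Fin r → A) : Ideal.ofList (List.ofFn F) = Ideal.span (Set.range F) := by
  unfold Ideal.ofList
  congr 1
  ext y
  simp [List.mem_ofFn]

end piece1

section piece4

variable {R : Type u} [CommRing R] {ι : Type*} [DecidableEq ι] (f : ι → R)

/-- the ideal `(f_j X_j : j ∈ S)` -/
noncomputable def JJ (S : Set ι) : Ideal (MvPolynomial ι R) :=
  Ideal.span ((fun j => C (f j) * X j) '' S)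

/-- the ideal `(f_j : j ∈ S, m_j ≠ 0)` -/
def II (S : Set ι) (m : ι →₀ ℕ) : Ideal R :=
  Ideal.span (f '' (S ∩ {j | m j ≠ 0}))

lemma II_mono (S : Set ι) {a m : ι →₀ ℕ} (h : a ≤ m) : II f S a ≤ II f S m := by
  apply Ideal.span_mono
  apply Set.image_mono
  rintro j ⟨hjS, hj⟩
  refine ⟨hjS, ?_⟩
  change a j ≠ 0 at hj
  change m j ≠ 0
  have := h j
  omega

lemma monomial_mem_JJ (S : Set ι) (m : ι →₀ ℕ) (c : R) (hc : c ∈ II f S m) :
    monomial m c ∈ JJ f S := by
  unfold II at hc
  induction hc using Submodule.span_induction with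
  | mem c hc =>
    obtain ⟨j, ⟨hjS, hj⟩, rfl⟩ := hc
    change m j ≠ 0 at hj
    have h1 : Finsupp.single j 1 ≤ m := by
      intro k
      by_cases hk : k = j
      · subst hk
        simp only [Finsupp.single_eq_same]
        omega
      · simp [Finsupp.single_eq_of_ne hk]
    have h2 : monomial m (f j) = (C (f j) * X j) * monomial (m - Finsupp.single j 1) 1 := by
      rw [C_mul_X_eq_monomial, monomial_mul, mul_one, add_tsub_cancel_of_le h1]
    rw [h2]
    exact Ideal.mul_mem_right _ _ (Ideal.subset_span ⟨j, hjS, rfl⟩)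
  | zero => simp
  | add c c' _ _ h h' =>
    rw [map_add]
    exact Ideal.add_mem _ h h'
  | smul a c _ h =>
    rw [smul_eq_mul, ← C_mul_monomial]
    exact Ideal.mul_mem_left _ _ h

lemma mem_JJ_iff (S : Set ι) (g : MvPolynomial ι R) :
    g ∈ JJ f S ↔ ∀ m, coeff m g ∈ II f S m := by
  constructor
  · intro hg
    let K : Ideal (MvPolynomial ι R) :=
      { carrier := {g | ∀ m, coeff m g ∈ II f S m}
        add_mem' := by
          intro a b ha hb m
          rw [coeff_add]
          exact Ideal.add_mem _ (ha m) (hb m)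
        zero_mem' := by
          intro m
          simp
        smul_mem' := by
          intro h g hg m
          rw [smul_eq_mul, coeff_mul]
          refine Ideal.sum_mem _ fun ab hab => ?_
          refine Ideal.mul_mem_left _ _ (II_mono f S ?_ (hg ab.2))
          rw [Finset.mem_antidiagonal] at hab
          rw [← hab]
          exact le_add_self }
    have hle : JJ f S ≤ K := by
      unfold JJ
      rw [Ideal.span_le]
      rintro _ ⟨j, hjS, rfl⟩ m
      rw [coeff_C_mul, coeff_X]
      split_ifs with h
      · rw [mul_one, ← h]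
        refine Ideal.subset_span ⟨j, ⟨hjS, ?_⟩, rfl⟩
        change Finsupp.single j 1 j ≠ 0
        simp
      · simp
    exact hle hg
  · intro h
    rw [← support_sum_monomial_coeff g]
    exact Ideal.sum_mem _ fun m _ => monomial_mem_JJ f S m _ (h m)

lemma II_add_single (S : Set ι) (m : ι →₀ ℕ) (i : ι) (hi : i ∉ S) :
    II f S (m + Finsupp.single i 1) = II f S m := by
  unfold II
  congr 2
  ext j
  simp only [Set.mem_inter_iff]
  constructor
  · rintro ⟨hjS, hj⟩
    refine ⟨hjS, ?_⟩
    change (m + Finsupp.single i 1 : ι →₀ ℕ) j ≠ 0 at hj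
    change m j ≠ 0
    have hji : j ≠ i := fun h => hi (h ▸ hjS)
    simpa [Finsupp.single_eq_of_ne hji] using hj
  · rintro ⟨hjS, hj⟩
    refine ⟨hjS, ?_⟩
    change m j ≠ 0 at hj
    change (m + Finsupp.single i 1 : ι →₀ ℕ) j ≠ 0
    simp only [Finsupp.coe_add, Pi.add_apply]
    omega

lemma reg_JJ_iff (S : Set ι) (i : ι) (hi : i ∉ S) :
    Reg (JJ f S) (C (f i) * X i) ↔ ∀ m : ι →₀ ℕ, Reg (II f S m) (f i) := by
  constructor
  · intro h m c hc
    have h1 : (C (f i) * X i) * monomial m c ∈ JJ f S := by
      rw [C_mul_X_eq_monomial, monomial_mul, add_comm]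
      apply monomial_mem_JJ
      exact II_mono f S le_self_add hc
    have h2 := (mem_JJ_iff f S _).1 (h _ h1) m
    simpa using h2
  · intro h g hg
    rw [mem_JJ_iff] at hg ⊢
    intro m
    have h1 := hg (m + Finsupp.single i 1)
    rw [II_add_single f S m i hi, mul_assoc, coeff_C_mul, mul_comm (X i) g, coeff_mul_X] at h1
    exact h _ _ h1

lemma reg_JJ_iff' [Finite ι] (S : Set ι) (i : ι) (hi : i ∉ S) :
    Reg (JJ f S) (C (f i) * X i) ↔ ∀ T : Set ι, T ⊆ S → Reg (Ideal.span (f '' T)) (f i) := by
  classical
  rw [reg_JJ_iff f S i hi]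
  constructor
  · intro h T hT
    have := h (Finsupp.equivFunOnFinite.symm (fun j => if j ∈ T then 1 else 0))
    have h2 : S ∩ {j | (Finsupp.equivFunOnFinite.symm (fun j => if j ∈ T then 1 else 0) : ι →₀ ℕ) j ≠ 0}
        = T := by
      ext j
      simp only [Set.mem_inter_iff]
      constructor
      · rintro ⟨-, hj⟩
        change (Finsupp.equivFunOnFinite.symm (fun j => if j ∈ T then 1 else 0) : ι →₀ ℕ) j ≠ 0 at hj
        by_contra hjT
        apply hj
        simp [hjT]
      · intro hjT
        refine ⟨hT hjT, ?_⟩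
        change (Finsupp.equivFunOnFinite.symm (fun j => if j ∈ T then 1 else 0) : ι →₀ ℕ) j ≠ 0
        simp [hjT]
    unfold II at this
    rwa [h2] at this
  · intro h m
    exact h _ Set.inter_subset_left

end piece4

section piece3

variable {A : Type*} [CommRing A]

lemma reg_swap (I : Ideal A) (x y : A) (hx : Reg I x) (hy : Reg (I ⊔ Ideal.span {x}) y) :
    Reg (I ⊔ Ideal.span {y}) x := by
  intro a ha
  obtain ⟨u, hu, v, hv, huv⟩ := Submodule.mem_sup.1 ha
  obtain ⟨b, rfl⟩ := Ideal.mem_span_singleton'.1 hv
  have h1 : y * b ∈ I ⊔ Ideal.span {x} := by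
    have : y * b = x * a - u := by rw [← huv]; ring
    rw [this]
    refine Ideal.sub_mem _ ?_ (Ideal.mem_sup_left hu)
    exact Ideal.mem_sup_right (Ideal.mul_mem_right _ _ (Ideal.mem_span_singleton_self x))
  obtain ⟨w, hw, z, hz, hwz⟩ := Submodule.mem_sup.1 (hy b h1)
  obtain ⟨c, rfl⟩ := Ideal.mem_span_singleton'.1 hz
  have h2 : x * (a - y * c) ∈ I := by
    have : x * (a - y * c) = u + y * w := by
      have e1 : x * a = u + b * y := huv.symm
      have e2 : b = w + c * x := hwz.symm
      rw [mul_sub, e1, e2]
      ring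
    rw [this]
    exact Ideal.add_mem _ hu (Ideal.mul_mem_left _ _ hw)
  have h3 := hx _ h2
  have : a = (a - y * c) + c * y := by ring
  rw [this]
  exact Ideal.add_mem _ (Ideal.mem_sup_left h3)
    (Ideal.mem_sup_right (Ideal.mul_mem_left _ _ (Ideal.mem_span_singleton_self y)))

lemma reg_all {r : ℕ} (f : Fin r → A)
    (H : ∀ i, ∀ T : Finset (Fin r), (∀ j ∈ T, j < i) → Reg (Ideal.span (f '' T)) (f i)) :
    ∀ (n : ℕ) (T : Finset (Fin r)) (i : Fin r), T.card = n → i ∉ T →
      Reg (Ideal.span (f '' T)) (f i) := by
  intro n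
  induction n using Nat.strong_induction_on with
  | _ n ih =>
    intro T i hcard hi
    by_cases hall : ∀ j ∈ T, j < i
    · exact H i T hall
    · push Not at hall
      obtain ⟨j0, hj0T, hj0⟩ := hall
      have hne : T.Nonempty := ⟨j0, hj0T⟩
      set j := T.max' hne with hj
      have hjT : j ∈ T := Finset.max'_mem T hne
      have hij : i < j := by
        have h1 : j0 ≤ j := Finset.le_max' T j0 hj0T
        have h2 : i ≠ j := fun h => hi (h ▸ hjT)
        exact lt_of_le_of_ne (hj0.trans h1) h2
      have hT'card : (T.erase j).card < n := by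
        rw [Finset.card_erase_of_mem hjT, hcard]
        have : 0 < T.card := Finset.card_pos.2 hne
        omega
      have hiT' : i ∉ T.erase j := fun h => hi (Finset.mem_of_mem_erase h)
      have h1 := ih _ hT'card (T.erase j) i rfl hiT'
      have h2 := H j (insert i (T.erase j)) (by
        intro k hk
        rcases Finset.mem_insert.1 hk with rfl | hk
        · exact hij
        · have := Finset.le_max' T k (Finset.mem_of_mem_erase hk)
          exact lt_of_le_of_ne this (Finset.ne_of_mem_erase hk))
      rw [Finset.coe_insert, Set.image_insert_eq, Ideal.span_insert, sup_comm] at h2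
      have h3 := reg_swap _ _ _ h1 h2
      have h4 : (T : Set (Fin r)) = insert j ((T.erase j : Finset (Fin r)) : Set (Fin r)) := by
        rw [← Finset.coe_insert, Finset.insert_erase hjT]
      rw [h4, Set.image_insert_eq, Ideal.span_insert, sup_comm]
      exact h3

end piece3

section piece2

lemma exists_perm {r : ℕ} (T : Finset (Fin r)) (i : Fin r) (hi : i ∉ T) :
    ∃ (σ : Equiv.Perm (Fin r)) (k : Fin r), σ k = i ∧ σ '' {j | j < k} = ↑T := by
  classical
  have ht : T.card < r := by
    have h1 : (insert i T).card ≤ Fintype.card (Fin r) := Finset.card_le_univ _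
    rw [Finset.card_insert_of_notMem hi, Fintype.card_fin] at h1
    omega
  let k : Fin r := ⟨T.card, ht⟩
  have hcard : Fintype.card {j : Fin r // j < k} = Fintype.card {x : Fin r // x ∈ T} := by
    rw [Fintype.card_subtype, Fintype.card_coe]
    have : (Finset.univ.filter fun j : Fin r => j < k) = Finset.Iio k := by
      ext j; simp
    rw [this, Fin.card_Iio]
  let e : {j : Fin r // j < k} ≃ {x : Fin r // x ∈ T} := Fintype.equivOfCardEq hcard
  let σ₀ : Equiv.Perm (Fin r) := e.extendSubtype
  let k0 : Fin r := σ₀.symm i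
  have hk0 : ¬ k0 < k := by
    intro h
    have := e.extendSubtype_mem k0 h
    change σ₀ (σ₀.symm i) ∈ T at this
    rw [Equiv.apply_symm_apply] at this
    exact hi this
  refine ⟨(Equiv.swap k k0).trans σ₀, k, ?_, ?_⟩
  · simp [k0]
  · ext x
    constructor
    · rintro ⟨j, hj, rfl⟩
      change j < k at hj
      have h1 : Equiv.swap k k0 j = j := by
        apply Equiv.swap_apply_of_ne_of_ne
        · exact ne_of_lt hj
        · intro h
          exact hk0 (h ▸ hj)
      rw [Equiv.trans_apply, h1]
      exact e.extendSubtype_mem j hj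
    · intro hx
      let j := e.symm ⟨x, hx⟩
      refine ⟨j.1, j.2, ?_⟩
      have h1 : Equiv.swap k k0 j.1 = j.1 := by
        apply Equiv.swap_apply_of_ne_of_ne
        · exact ne_of_lt j.2
        · intro h
          exact hk0 (h ▸ j.2)
      rw [Equiv.trans_apply, h1]
      change e.extendSubtype j.1 = x
      rw [e.extendSubtype_apply_of_mem j.1 j.2]
      simp [j]

end piece2

/-- For elements `f_1, …, f_r` generating a proper ideal, all reorderings are regular sequences in `R`
if and only if the products `f_i x_i` form a regular sequence in `R[x_1, …, x_r]`. -/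
theorem result {R : Type u} [CommRing R] {r : ℕ} (f : Fin r → R)
    (hf : Ideal.span (Set.range f) ≠ ⊤) :
    (∀ σ : Equiv.Perm (Fin r), RingTheory.Sequence.IsRegular R (List.ofFn (f ∘ σ))) ↔
      RingTheory.Sequence.IsRegular (MvPolynomial (Fin r) R)
        (List.ofFn fun i => MvPolynomial.C (f i) * MvPolynomial.X i) := by
  classical
  have hnt : Nontrivial R := by
    by_contra h
    rw [not_nontrivial_iff_subsingleton] at h
    exact hf (Subsingleton.elim _ _)
  -- the central condition
  have key1 : (∀ σ : Equiv.Perm (Fin r), RingTheory.Sequence.IsRegular R (List.ofFn (f ∘ σ))) ↔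
      ∀ (T : Finset (Fin r)) (i : Fin r), i ∉ T → Reg (Ideal.span (f '' T)) (f i) := by
    constructor
    · intro h T i hi
      obtain ⟨σ, k, hk, hT⟩ := exists_perm T i hi
      have h1 := (isWeaklyRegular_ofFn_iff (f ∘ σ)).1 (h σ).toIsWeaklyRegular k
      rw [Set.image_comp, hT, Function.comp_apply, hk] at h1
      exact h1
    · intro h σ
      refine ⟨(isWeaklyRegular_ofFn_iff (f ∘ σ)).2 fun i => ?_, ?_⟩
      · have := h ((Finset.univ.filter fun j => j < i).image σ) (σ i) (by
          simp only [Finset.mem_image, Finset.mem_filter, Finset.mem_univ, true_and, not_exists,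
            not_and]
          intro j hj hji
          rw [σ.injective hji] at hj
          exact lt_irrefl _ hj)
        rw [Set.image_comp, Function.comp_apply]
        convert this using 3
        ext x
        simp
      · rw [ofList_ofFn, smul_eq_mul, Ideal.mul_top]
        have : Set.range (f ∘ σ) = Set.range f := by
          rw [Set.range_comp, σ.surjective.range_eq, Set.image_univ]
        rw [this]
        exact fun h => hf h.symm
  have key2 : RingTheory.Sequence.IsRegular (MvPolynomial (Fin r) R)
        (List.ofFn fun i => MvPolynomial.C (f i) * MvPolynomial.X i) ↔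
      ∀ i, ∀ T : Finset (Fin r), (∀ j ∈ T, j < i) → Reg (Ideal.span (f '' T)) (f i) := by
    constructor
    · intro h i T hT
      have h1 := (isWeaklyRegular_ofFn_iff _).1 h.toIsWeaklyRegular i
      change Reg (JJ f {j | j < i}) _ at h1
      rw [reg_JJ_iff' f _ i (by simp)] at h1
      exact h1 T (fun j hj => hT j hj)
    · intro h
      refine ⟨(isWeaklyRegular_ofFn_iff _).2 fun i => ?_, ?_⟩
      · change Reg (JJ f {j | j < i}) _
        rw [reg_JJ_iff' f _ i (by simp)]
        intro T hT
        have := h i T.toFinset (by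
          intro j hj
          exact hT (Set.mem_toFinset.1 hj))
        rwa [Set.coe_toFinset] at this
      · rw [ofList_ofFn, smul_eq_mul, Ideal.mul_top]
        intro htop
        have h1 : (1 : MvPolynomial (Fin r) R) ∈ JJ f Set.univ := by
          unfold JJ
          rw [Set.image_univ, ← htop]
          trivial
        have h2 := (mem_JJ_iff f Set.univ 1).1 h1 0
        unfold II at h2
        have h3 : (Set.univ ∩ {j : Fin r | (0 : Fin r →₀ ℕ) j ≠ 0}) = ∅ := by
          ext j; simp
        rw [h3, Set.image_empty, Ideal.span_empty, Ideal.mem_bot] at h2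
        simp at h2
  rw [key1, key2]
  constructor
  · intro h i T hT
    exact h T i (fun hi => lt_irrefl _ (hT i hi))
  · intro h T i hi
    exact reg_all f h _ T i rfl hi

end Groth.Agent.S2101
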