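import Groth.Statements.S12288
import Groth.Agent.Lib.CotTMor
import Groth.Agent.S2101

set_option autoImplicit false
universe u w m
open scoped TensorProduct
open DefT

namespace Groth.Agent.S12288

section aux

open Finsupp in
theorem koszul_trivial {R : Type*} [CommRing R] {n : ℕ} (r : Fin n → R)
    (reg : ∀ (i : Fin n) (x : R), r i * x ∈ Ideal.span (r '' {k | k < i}) → x ∈ Ideal.span (r '' {k | k < i}))
    (c : Fin n →₀ R) (hc : Finsupp.linearCombination R r c = 0) :
    c ∈ Submodule.span R {y | ∃ a b : Fin n →₀ R,
      y = Finsupp.linearCombination R r a • b - Finsupp.linearCombination R r b • a} := by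
  classical
  set T := Submodule.span R {y | ∃ a b : Fin n →₀ R,
      y = Finsupp.linearCombination R r a • b - Finsupp.linearCombination R r b • a} with hT
  have hTker : ∀ t ∈ T, Finsupp.linearCombination R r t = 0 := by
    intro t ht
    induction ht using Submodule.span_induction with
    | mem x hx =>
      obtain ⟨a, b, rfl⟩ := hx
      simp only [map_sub, map_smul, smul_eq_mul]; ring
    | zero => simp
    | add x y _ _ hx hy => rw [map_add, hx, hy, add_zero]
    | smul a x _ hx => rw [map_smul, hx, smul_zero]
  -- main induction
  have main : ∀ m : ℕ, m ≤ n → ∀ c : Fin n →₀ R, Finsupp.linearCombination R r c = 0 →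
      c ∈ Finsupp.supported R R {k : Fin n | k.val < m} → c ∈ T := by
    intro m
    induction m with
    | zero =>
      intro _ c _ hsupp
      have : c = 0 := by
        ext k
        have := (Finsupp.mem_supported' R c).1 hsupp k (by simp)
        simpa using this
      rw [this]; exact T.zero_mem
    | succ m ih =>
      intro hm c hc hsupp
      let im : Fin n := ⟨m, hm⟩
      have hSm : {k : Fin n | k.val < m} = {k : Fin n | k < im} := by
        ext k; simp [im, Fin.lt_def]
      let c₀ : Fin n →₀ R := c.erase im
      have hc₀supp : c₀ ∈ Finsupp.supported R R {k : Fin n | k.val < m} := by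
        rw [Finsupp.mem_supported']
        intro k hk
        simp only [Set.mem_ofPred_eq, not_lt] at hk
        by_cases hkm : k = im
        · rw [hkm]; simp [c₀]
        · have : m + 1 ≤ k.val := by
            rcases Nat.lt_or_ge m k.val with h | h
            · exact h
            · exact absurd (Fin.ext (le_antisymm h hk)) hkm
          have h0 := (Finsupp.mem_supported' R c).1 hsupp k (by simp; omega)
          simp [c₀, Finsupp.erase_ne hkm, h0]
      have hdecomp : c = c₀ + Finsupp.single im (c im) := by
        rw [add_comm]; exact (Finsupp.single_add_erase im c).symm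
      have hj : Finsupp.linearCombination R r c₀ + c im * r im = 0 := by
        rw [hdecomp] at hc
        simpa [Finsupp.linearCombination_single] using hc
      have hmem : r im * c im ∈ Ideal.span (r '' {k | k < im}) := by
        have h1 : Finsupp.linearCombination R r c₀ ∈ Ideal.span (r '' {k | k < im}) := by
          rw [← hSm]
          exact (Finsupp.mem_span_image_iff_linearCombination R).2 ⟨c₀, hc₀supp, rfl⟩
        have : r im * c im = -Finsupp.linearCombination R r c₀ := by
          rw [mul_comm]; exact eq_neg_of_add_eq_zero_right hj
        rw [this]; exact neg_mem h1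
      have hcm := reg im (c im) hmem
      rw [← hSm] at hcm
      obtain ⟨d, hdsupp, hd⟩ := (Finsupp.mem_span_image_iff_linearCombination R).1 hcm
      let t : Fin n →₀ R := Finsupp.linearCombination R r d • Finsupp.single im (1 : R) -
        Finsupp.linearCombination R r (Finsupp.single im (1 : R)) • d
      have htT : t ∈ T := Submodule.subset_span ⟨d, Finsupp.single im 1, rfl⟩
      have hct : c - t = c₀ + r im • d := by
        simp only [t, hd, Finsupp.linearCombination_single, one_smul, Finsupp.smul_single, smul_eq_mul, mul_one]
        rw [hdecomp]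
        simp only [Finsupp.coe_add, Pi.add_apply, Finsupp.single_eq_same]
        have : c₀ im = 0 := by simp [c₀]
        rw [this, zero_add, one_mul]; abel
      have hct_supp : c - t ∈ Finsupp.supported R R {k : Fin n | k.val < m} := by
        rw [hct]
        exact Submodule.add_mem _ hc₀supp (Submodule.smul_mem _ _ hdsupp)
      have hct_ker : Finsupp.linearCombination R r (c - t) = 0 := by
        rw [map_sub, hc, hTker t htT, sub_zero]
      have := ih (Nat.le_of_succ_le hm) (c - t) hct_ker hct_supp
      have h2 : c = (c - t) + t := by abel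
      rw [h2]; exact T.add_mem this htT
  apply main n le_rfl c hc
  rw [Finsupp.mem_supported']
  intro k hk
  exact absurd k.isLt hk


open CotT

variable {A B : Type u} [CommRing A] [CommRing B] [Algebra A B]

/-- the presentation of `B = A/(rs)` over `A` with no variables and relations `rs`. -/
noncomputable def P1 (hs : Function.Surjective (algebraMap A B)) (rs : List A)
    (hI : RingHom.ker (algebraMap A B) = Ideal.ofList rs) :
    Algebra.Presentation A B PEmpty.{1} (Fin rs.length) where
  __ := Algebra.Generators.ofSurjectiveAlgebraMap hs
  relation i := MvPolynomial.C (rs.get i)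
  span_range_relation_eq_ker := by
    rw [Algebra.Generators.ker_eq_ker_aeval_val]
    have hofList : Ideal.ofList rs = Ideal.span (Set.range rs.get) := by
      conv_lhs => rw [← List.ofFn_get rs]
      exact Groth.Agent.S2101.ofList_ofFn rs.get
    ext x
    obtain ⟨a, rfl⟩ := MvPolynomial.C_surjective PEmpty x
    rw [RingHom.mem_ker]
    have h1 : (MvPolynomial.aeval (Algebra.Generators.ofSurjectiveAlgebraMap hs).val) (MvPolynomial.C a) =
        algebraMap A B a := by
      rw [MvPolynomial.aeval_C]
    change _ ↔ (MvPolynomial.aeval (Algebra.Generators.ofSurjectiveAlgebraMap hs).val) (MvPolynomial.C a) = 0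
    rw [h1, ← RingHom.mem_ker, hI, hofList]
    have hr : Set.range (fun i => (MvPolynomial.C (rs.get i) : MvPolynomial PEmpty A)) =
        (MvPolynomial.C : A →+* MvPolynomial PEmpty A) '' Set.range rs.get := by
      rw [← Set.range_comp]; rfl
    have hr2 : (MvPolynomial.eval (PEmpty.elim : PEmpty → A)) ''
        ((MvPolynomial.C : A →+* MvPolynomial PEmpty A) '' Set.range rs.get) = Set.range rs.get := by
      rw [Set.image_image]
      simp
    change (MvPolynomial.C a : MvPolynomial PEmpty A) ∈
      Ideal.span (Set.range (fun i => (MvPolynomial.C (rs.get i) : MvPolynomial PEmpty A))) ↔ _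
    rw [hr]
    constructor
    · intro h
      have := Ideal.mem_map_of_mem (MvPolynomial.eval (PEmpty.elim : PEmpty → A)) h
      rw [Ideal.map_span, MvPolynomial.eval_C, hr2] at this
      exact this
    · intro h
      have := Ideal.mem_map_of_mem (MvPolynomial.C : A →+* MvPolynomial PEmpty A) h
      rw [Ideal.map_span] at this
      exact this

/-- regularity transported to `MvPolynomial PEmpty A`. -/
lemma reg_C {n : ℕ} (r : Fin n → A)
    (hregA : ∀ i : Fin n, Groth.Agent.S2101.Reg (Ideal.span (r '' {j | j < i})) (r i))
    (i : Fin n) (x : MvPolynomial PEmpty A)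
    (hx : (MvPolynomial.C (r i) : MvPolynomial PEmpty A) * x ∈
      Ideal.span ((fun k => (MvPolynomial.C (r k) : MvPolynomial PEmpty A)) '' {k | k < i})) :
    x ∈ Ideal.span ((fun k => (MvPolynomial.C (r k) : MvPolynomial PEmpty A)) '' {k | k < i}) := by
  obtain ⟨a, rfl⟩ := MvPolynomial.C_surjective PEmpty x
  have himg : (MvPolynomial.eval (PEmpty.elim : PEmpty → A)) ''
      ((fun k => (MvPolynomial.C (r k) : MvPolynomial PEmpty A)) '' {k | k < i}) = r '' {k | k < i} := by
    rw [Set.image_image]
    simp
  have himg2 : (MvPolynomial.C : A →+* MvPolynomial PEmpty A) '' (r '' {k | k < i}) =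
      (fun k => (MvPolynomial.C (r k) : MvPolynomial PEmpty A)) '' {k | k < i} := by
    rw [Set.image_image]
  have h1 := Ideal.mem_map_of_mem (MvPolynomial.eval (PEmpty.elim : PEmpty → A)) hx
  rw [Ideal.map_span, himg, map_mul, MvPolynomial.eval_C, MvPolynomial.eval_C] at h1
  have h3 := hregA i a h1
  have h4 := Ideal.mem_map_of_mem (MvPolynomial.C : A →+* MvPolynomial PEmpty A) h3
  rw [Ideal.map_span, himg2] at h4
  exact h4

variable (hs : Function.Surjective (algebraMap A B)) (rs : List A)
    (hI : RingHom.ker (algebraMap A B) = Ideal.ofList rs)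

lemma relKer_le_trivRel (hreg : RingTheory.Sequence.IsRegular A rs) :
    relKer (P1 hs rs hI) ≤ trivRel (P1 hs rs hI) := by
  intro c hc
  have hregA : ∀ i : Fin rs.length,
      Groth.Agent.S2101.Reg (Ideal.span (rs.get '' {j | j < i})) (rs.get i) := by
    have h := hreg.toIsWeaklyRegular
    rw [← List.ofFn_get rs] at h
    have h2 := (Groth.Agent.S2101.isWeaklyRegular_ofFn_iff rs.get).1 h
    exact h2
  have reg1 : ∀ (i : Fin rs.length) (x : (P1 hs rs hI).toExtension.Ring),
      rel (P1 hs rs hI) i * x ∈ Ideal.span (rel (P1 hs rs hI) '' {k | k < i}) →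
        x ∈ Ideal.span (rel (P1 hs rs hI) '' {k | k < i}) :=
    fun i x hx => reg_C rs.get hregA i x hx
  exact koszul_trivial (rel (P1 hs rs hI)) reg1 c hc

lemma subsingleton_T2 (hreg : RingTheory.Sequence.IsRegular A rs) (M : Type u) [AddCommGroup M] [Module B M] :
    Subsingleton (T2 (P1 hs rs hI) M) := by
  have hL2 : Subsingleton (L2 (P1 hs rs hI)) := by
    refine ⟨fun x y => ?_⟩
    have h0 : ∀ z : L2 (P1 hs rs hI), z = 0 := by
      intro z
      induction z using Submodule.Quotient.induction_on with
      | H z =>
        rw [Submodule.Quotient.mk_eq_zero]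
        induction z using TensorProduct.induction_on with
        | zero => exact Submodule.zero_mem _
        | add x y hx hy => exact Submodule.add_mem _ hx hy
        | tmul b q =>
          exact ⟨b ⊗ₜ ⟨q, relKer_le_trivRel hs rs hI hreg q.2⟩, rfl⟩
    rw [h0 x, h0 y]
  exact (Submodule.mkQ_surjective _).subsingleton

end aux

/-- Let A be a local ring and A → B a surjective ring homomorphism whose kernel is generated by a
regular sequence a_1, …, a_r on A (each a_i is a non-zero-divisor on A/(a_1, …, a_{i-1}) and the
ideal is proper). Then T^2(B/A, M) = 0 for every B-module M, the module being computed from the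
choice-free presentation of B over A. -/
theorem result
    (A B : Type u) [CommRing A] [IsLocalRing A] [CommRing B] [Algebra A B]
    (hs : Function.Surjective (algebraMap A B)) (rs : List A) (hreg : RingTheory.Sequence.IsRegular A rs)
    (hI : RingHom.ker (algebraMap A B) = Ideal.ofList rs) (M : Type u) [AddCommGroup M] [Module B M] :
    Subsingleton (CotT.T2 (CotT.canon A B) M) := by
  obtain ⟨f⟩ := Groth.Agent.Lib.CotTMor.nonempty_T2equiv (CotT.canon A B) (P1 hs rs hI) M
  exact f.toEquiv.subsingleton_congr.mpr (subsingleton_T2 hs rs hI hreg M)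

end Groth.Agent.S12288
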