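import Groth.Statements.S5891
import Groth.Agent.Lib.ConsLocusMorMain
import Groth.Agent.Lib.ConsLocusLim

set_option autoImplicit false
universe u
open CategoryTheory AlgebraicGeometry
open ConsProp

namespace Groth.Agent.S5891

/-- Let S = lim S_i be a cofiltered limit of schemes with affine transition maps, i₀ an index with
S_{i₀} quasi-compact, g₀ : Y₀ ⟶ S_{i₀} and f₀ : X₀ ⟶ Y₀ morphisms with g₀ and f₀ ≫ g₀ of finite
presentation (locally of finite presentation, quasi-compact and quasi-separated), and f : X ⟶ Y over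
g : Y ⟶ S the base change of f₀ along S ⟶ S_{i₀} (pullback squares). Let P(f, X, Y, k) be an
ind-constructible property of morphisms of algebraic schemes. Then P holds for the morphism of
fibres f_s : X_s ⟶ Y_s over κ(s) for every point s of S if and only if there is an index j over i₀
such that, for the base change f_j : X_j ⟶ Y_j of f₀ along S_j ⟶ S_{i₀}, P holds for (f_j)_t for
every point t of S_j. -/
theorem result
    {P : ∀ ⦃X Y T : Scheme.{u}⦄, (X ⟶ Y) → (Y ⟶ T) → Prop} (hP : ConsProp.IsIndConsMor P)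
    {I : Type u} [SmallCategory I] [IsCofiltered I]
    (D : I ⥤ Scheme.{u}) (c : Limits.Cone D) (hc : Limits.IsLimit c)
    [∀ (i j : I) (a : i ⟶ j), IsAffineHom (D.map a)] (i₀ : I) [CompactSpace ↥(D.obj i₀)]
    {X₀ Y₀ : Scheme.{u}} (f₀ : X₀ ⟶ Y₀) (g₀ : Y₀ ⟶ D.obj i₀)
    [LocallyOfFinitePresentation g₀] [QuasiCompact g₀] [QuasiSeparated g₀]
    [LocallyOfFinitePresentation (f₀ ≫ g₀)] [QuasiCompact (f₀ ≫ g₀)] [QuasiSeparated (f₀ ≫ g₀)]
    {X Y : Scheme.{u}} (f : X ⟶ Y) (g : Y ⟶ c.pt) (qY : Y ⟶ Y₀) (qX : X ⟶ X₀)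
    (hY : IsPullback qY g g₀ (c.π.app i₀)) (hX : IsPullback qX f f₀ qY) :
    (∀ s : ↥c.pt, s ∈ ConsProp.locusMor P f g) ↔
      ∃ (j : I) (φ : j ⟶ i₀) (Xj Yj : Scheme.{u}) (fj : Xj ⟶ Yj) (gj : Yj ⟶ D.obj j)
        (pY : Yj ⟶ Y₀) (pX : Xj ⟶ X₀), IsPullback pY gj g₀ (D.map φ) ∧ IsPullback pX fj f₀ pY ∧
          ∀ t : ↥(D.obj j), t ∈ ConsProp.locusMor P fj gj := by
  haveI : ∀ {i j : I} (a : i ⟶ j), IsAffineHom (D.map a) := fun a => inferInstance
  have heq : ConsProp.locusMor P f g = (c.π.app i₀) ⁻¹' ConsProp.locusMor P f₀ g₀ :=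
    Groth.Agent.Lib.ConsLocusMor.locusMor_eq_preimage hP.1 hY hX
  constructor
  · intro hall
    have hE : ∀ U : (D.obj i₀).Opens, IsAffineOpen U →
        Groth.Agent.Lib.ConsLocusGen.IsUnionCons (U.ι ⁻¹' ConsProp.locusMor P f₀ g₀) := by
      intro U hU
      haveI : IsAffine U.toScheme := hU
      refine Groth.Agent.Lib.ConsLocusMor.with_baseChange hP.1 f₀ g₀ U.ι
        (fun X' Y' f' g' eX eY hY' hX' hXS he => ?_)
      rw [← he]
      haveI : LocallyOfFinitePresentation g' := MorphismProperty.of_isPullback hY' inferInstance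
      haveI : QuasiCompact g' := MorphismProperty.of_isPullback hY' inferInstance
      haveI : QuasiSeparated g' := MorphismProperty.of_isPullback hY' inferInstance
      haveI : LocallyOfFinitePresentation (f' ≫ g') :=
        MorphismProperty.of_isPullback hXS inferInstance
      haveI : QuasiCompact (f' ≫ g') := MorphismProperty.of_isPullback hXS inferInstance
      haveI : QuasiSeparated (f' ≫ g') := MorphismProperty.of_isPullback hXS inferInstance
      exact Groth.Agent.Lib.ConsLocusMor.isUnionCons_locusMor_of_isAffine hP f' g'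
    obtain ⟨j, φ, hj⟩ := Groth.Agent.Lib.ConsLocusLim.exists_stage_forall_mem D c hc
      (ConsProp.locusMor P f₀ g₀) hE (fun s => by
        have h1 := hall s
        rw [heq] at h1
        exact h1)
    refine ⟨j, φ, Limits.pullback f₀ (Limits.pullback.fst g₀ (D.map φ)), Limits.pullback g₀ (D.map φ),
      Limits.pullback.snd _ _, Limits.pullback.snd _ _, Limits.pullback.fst _ _, Limits.pullback.fst _ _,
      IsPullback.of_hasPullback _ _, IsPullback.of_hasPullback _ _, fun t => ?_⟩
    rw [Groth.Agent.Lib.ConsLocusMor.locusMor_eq_preimage hP.1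
      (IsPullback.of_hasPullback g₀ (D.map φ)) (IsPullback.of_hasPullback f₀ _)]
    exact hj t
  · rintro ⟨j, φ, Xj, Yj, fj, gj, pY, pX, hYj, hXj, hall⟩ s
    rw [heq]
    have e : c.π.app i₀ s = D.map φ (c.π.app j s) := by
      rw [← Scheme.Hom.comp_apply, c.w]
    change c.π.app i₀ s ∈ ConsProp.locusMor P f₀ g₀
    rw [e]
    have h1 := hall (c.π.app j s)
    rw [Groth.Agent.Lib.ConsLocusMor.locusMor_eq_preimage hP.1 hYj hXj] at h1
    exact h1

end Groth.Agent.S5891
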