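import Groth.Statements.S8872
import Groth.Agent.Lib.Fitting82E
import Groth.Agent.Lib.Fitting82N
import Groth.Agent.Lib.H72PullbackQCoh
import Groth.Agent.Lib.IdealComap
import Groth.Agent.Lib.SupportTensor

set_option autoImplicit false
universe u
open CategoryTheory CategoryTheory.Limits AlgebraicGeometry TopologicalSpace
open SDiv

namespace Groth.Agent.S8872

open Groth.Agent.Lib.Fitting82


/-- Let f : T ⟶ S be a morphism of schemes and F a quasi-coherent O_S-module of finite type. Then for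
every i the inverse image ideal sheaf on T of the i-th Fitting ideal of F is the i-th Fitting ideal
of f^*F. -/
theorem result {T S : Scheme.{u}} (f : T ⟶ S) (F : S.Modules) (hF : Coh.IsQCoh F) (hft : CohB1.IsFT F)
    (i : ℕ) : (Fitt.sheafIdeal F i).comap f = Fitt.sheafIdeal ((Scheme.Modules.pullback f).obj F) i := by
  haveI : F.IsQuasicoherent := hF
  haveI : F.IsFiniteType := hft
  haveI : ((Scheme.Modules.pullback f).obj F).IsQuasicoherent :=
    Groth.Agent.Lib.H72PullbackQCoh.isQuasicoherent_pullback f F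
  haveI : ((Scheme.Modules.pullback f).obj F).IsFiniteType :=
    Groth.Agent.Lib.SupportTensor.isFiniteType_pullback f F
  -- the index set: pairs of affine opens `U ≤ f ⁻¹ᵁ V`
  let ι := {p : T.affineOpens × S.affineOpens // p.1.1 ≤ f ⁻¹ᵁ p.2.1}
  apply Scheme.IdealSheafData.ext_of_iSup_eq_top (ι := ι) (fun p => p.1.1)
  · rw [eq_top_iff]
    rintro t -
    obtain ⟨_, ⟨V, hV, rfl⟩, htV, -⟩ :=
      S.isBasis_affineOpens.exists_subset_of_mem_open (Set.mem_univ (f t)) isOpen_univ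
    obtain ⟨_, ⟨U, hU, rfl⟩, htU, hUV⟩ :=
      T.isBasis_affineOpens.exists_subset_of_mem_open (show t ∈ f ⁻¹ᵁ V from htV) (f ⁻¹ᵁ V).2
    exact TopologicalSpace.Opens.mem_iSup.mpr ⟨⟨⟨⟨U, hU⟩, ⟨V, hV⟩⟩, hUV⟩, htU⟩
  · rintro ⟨⟨U, V⟩, hUV⟩
    change ((Fitt.sheafIdeal F i).comap f).ideal ⟨U.1, U.2⟩ =
      (Fitt.sheafIdeal ((Scheme.Modules.pullback f).obj F) i).ideal U
    rw [Groth.Agent.Lib.IdealComap.ideal_comap _ f V.1 V.2 U.1 U.2 hUV, sheafIdeal_ideal,
      sheafIdeal_ideal]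
    haveI : Module.Finite Γ(S, V.1) Γ(F, V.1) :=
      Groth.Agent.Lib.CohFinite.finite_sections_of_isAffineOpen F V.2
    rw [← ideal_extendScalars (f.appLE V.1 U.1 hUV).hom Γ(F, V.1) i]
    exact (ideal_congr
      (Groth.Agent.Lib.H72PullbackQCoh.pullbackSectionsIso f F U.2 V.2 hUV).toLinearEquiv i).symm

end Groth.Agent.S8872
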