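import Groth.Statements.S13583
import Groth.Agent.Lib.HZPreDerivedLC92
import Groth.Agent.Lib.RightDerivedPostComp

set_option autoImplicit false
universe u
open CategoryTheory TopologicalSpace
open SuppFam

namespace Groth.Agent.S13583

/-- For an abelian sheaf `F` on a topological space `X` and a locally closed `Z = V ∖ W` (`W ≤ V`
opens), the local cohomology sheaf `ℋ^q_Z(F)`, the `q`-th right derived functor of the sheaf of
sections with supports in `Z`, is isomorphic to the sheaf associated to the presheaf `V' ↦ H^q_{Z ∩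
V'}(V', F)` (here written through the Ext groups with supports for the pair `W ∩ V' ≤ V ∩ V'`).
Existence of an isomorphism only; the canonical comparison map is not named. -/
theorem result {X : TopCat.{u}} (F : CohTop.Ab X) {W V : Opens X} (h : W ≤ V)
    (q : ℕ) :
    Nonempty ((SuppFam.HZshLC h q).obj F ≅
      (presheafToSheaf (Opens.grothendieckTopology X) AddCommGrpCat.{u}).obj (SuppFam.HZpre F q h)) := by
  let J := Opens.grothendieckTopology X
  let T := SuppFam.sectSuppLC h
  let ι := sheafToPresheaf J AddCommGrpCat.{u}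
  let sh := presheafToSheaf J AddCommGrpCat.{u}
  obtain ⟨e⟩ := Groth.Agent.Lib.HZPreDerivedLC92.nonempty_rightDerived_iso h q
  have e' : T ≅ (T ⋙ ι) ⋙ sh :=
    T.rightUnitor.symm ≪≫
      Functor.isoWhiskerLeft T (asIso (sheafificationAdjunction J AddCommGrpCat.{u}).counit).symm ≪≫
      (Functor.associator _ _ _).symm
  have e4 := Groth.Agent.Lib.RightDerivedPostComp.rightDerivedIsoOfIso e' q
  have e5 := Groth.Agent.Lib.RightDerivedPostComp.postCompIsoApp (T ⋙ ι) sh q F
  exact ⟨e4.app F ≪≫ e5.symm ≪≫ sh.mapIso (e.app F) ≪≫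
    sh.mapIso (Groth.Agent.Lib.HZPreDerivedLC92.pFIsoHZpre h F q)⟩

end Groth.Agent.S13583
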