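import Groth.Statements.S9172
import Mathlib
import Groth.Agent.Lib.GlobalCI
import Groth.Agent.Lib.H56FibDimSmooth2
import Groth.Agent.Lib.H56LocDimRing

set_option autoImplicit false
universe u
open Synt

namespace Groth.Agent.S9172

section Helpers

namespace B1

open Groth.Agent.Lib.H56LocDim PrimeSpectrum TensorProduct

/-- From an ideal `a` of `S` whose extension to the fibre ring is the unit ideal, extract a
single element of `a` which becomes a unit in the fibre ring. -/
lemma exists_mem_isUnit_tmul {R S : Type u} [CommRing R] [CommRing S] [Algebra R S]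
    (p : Ideal R) [p.IsPrime] (a : Ideal S)
    (ha : a.map (Algebra.TensorProduct.includeRight : S →ₐ[R] p.Fiber S).toRingHom = ⊤) :
    ∃ g ∈ a, IsUnit ((1 : p.ResidueField) ⊗ₜ[R] g : p.Fiber S) := by
  have key : ∀ x ∈ a.map (Algebra.TensorProduct.includeRight : S →ₐ[R] p.Fiber S).toRingHom,
      ∃ r ∉ p, ∃ g ∈ a, r • x = (1 : p.ResidueField) ⊗ₜ[R] g := by
    intro x hx
    refine Submodule.span_induction ?_ ?_ ?_ ?_ hx
    · rintro _ ⟨s, hs, rfl⟩
      exact ⟨1, fun h => (Ideal.IsPrime.ne_top inferInstance) ((Ideal.eq_top_iff_one p).mpr h),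
        s, hs, by simp⟩
    · exact ⟨1, fun h => (Ideal.IsPrime.ne_top inferInstance) ((Ideal.eq_top_iff_one p).mpr h),
        0, zero_mem _, by simp⟩
    · rintro x y _ _ ⟨r₁, hr₁, g₁, hg₁, h₁⟩ ⟨r₂, hr₂, g₂, hg₂, h₂⟩
      refine ⟨r₁ * r₂, (Ideal.IsPrime.mul_notMem inferInstance hr₁ hr₂), r₂ • g₁ + r₁ • g₂,
        add_mem (Submodule.smul_of_tower_mem _ _ hg₁) (Submodule.smul_of_tower_mem _ _ hg₂), ?_⟩
      have e1 : (r₁ * r₂) • x = (1 : p.ResidueField) ⊗ₜ[R] (r₂ • g₁) := by
        rw [mul_comm, mul_smul, h₁, tmul_smul]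
      have e2 : (r₁ * r₂) • y = (1 : p.ResidueField) ⊗ₜ[R] (r₁ • g₂) := by
        rw [mul_smul, h₂, tmul_smul]
      rw [smul_add, e1, e2, tmul_add]
    · rintro t x _ ⟨r, hr, g, hg, h⟩
      obtain ⟨r', hr', s, hs⟩ := Ideal.Fiber.exists_smul_eq_one_tmul (p := p) t
      refine ⟨r' * r, (Ideal.IsPrime.mul_notMem inferInstance hr' hr), s * g,
        Ideal.mul_mem_left _ _ hg, ?_⟩
      rw [smul_eq_mul, ← smul_mul_smul_comm, h, hs, Algebra.TensorProduct.tmul_mul_tmul, one_mul]
  obtain ⟨r, hr, g, hg, h⟩ := key 1 (ha ▸ Submodule.mem_top)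
  refine ⟨g, hg, ?_⟩
  rw [← h, Algebra.smul_def, mul_one]
  have hu : IsUnit (algebraMap R p.ResidueField r) := by
    rw [isUnit_iff_ne_zero, Ne, Ideal.algebraMap_residueField_eq_zero]
    exact hr
  rw [IsScalarTower.algebraMap_apply R p.ResidueField (p.Fiber S)]
  exact hu.map _

theorem exists_g {R S : Type u} [CommRing R] [CommRing S] [Algebra R S] [Algebra.FiniteType R S]
    (p : Ideal R) [p.IsPrime] (d : ℕ) (hp : ringKrullDim (p.Fiber S) ≤ d) :
    ∃ g : S, IsUnit ((1 : p.ResidueField) ⊗ₜ[R] g : p.Fiber S) ∧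
      ∀ q : PrimeSpectrum S, g ∉ q.asIdeal →
        fibLocDim (comap (algebraMap R S)) q ≤ (d : WithBot ℕ∞) := by
  set W := {q : PrimeSpectrum S | fibLocDim (comap (algebraMap R S)) q ≤ (d : WithBot ℕ∞)} with hW
  have hWo : IsOpen W := isOpen_fibLocDim_le d
  set a := vanishingIdeal Wᶜ with ha
  have hZ : zeroLocus (a : Set S) = Wᶜ := by
    rw [ha, zeroLocus_vanishingIdeal_eq_closure, hWo.isClosed_compl.closure_eq]
  have hfib : ∀ q : PrimeSpectrum S, comap (algebraMap R S) q = ⟨p, inferInstance⟩ → q ∈ W := by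
    intro q hq
    change fibLocDim _ q ≤ d
    refine (fibLocDim_le_dim _ q).trans ?_
    rw [hq, topologicalKrullDim_fibre_eq]
    exact hp
  have htop : a.map (Algebra.TensorProduct.includeRight : S →ₐ[R] p.Fiber S).toRingHom = ⊤ := by
    by_contra hne
    obtain ⟨𝔪, h𝔪, hle⟩ := Ideal.exists_le_maximal _ hne
    haveI := h𝔪.isPrime
    let q : PrimeSpectrum S :=
      comap (Algebra.TensorProduct.includeRight : S →ₐ[R] p.Fiber S).toRingHom ⟨𝔪, h𝔪.isPrime⟩
    have hq1 : q ∈ Wᶜ := by
      rw [← hZ]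
      intro x hx
      exact hle (Ideal.mem_map_of_mem _ hx)
    have hq2 : comap (algebraMap R S) q = ⟨p, inferInstance⟩ := by
      apply PrimeSpectrum.ext
      have h1 : 𝔪.comap (algebraMap R (p.Fiber S)) = p := (Ideal.over_def 𝔪 p).symm
      change (comap (algebraMap R S) q).asIdeal = p
      rw [← h1]
      ext r
      change (Algebra.TensorProduct.includeRight : S →ₐ[R] p.Fiber S) (algebraMap R S r) ∈ 𝔪 ↔
        algebraMap R (p.Fiber S) r ∈ 𝔪
      rw [AlgHom.commutes]
    exact hq1 (hfib q hq2)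
  obtain ⟨g, hga, hg⟩ := exists_mem_isUnit_tmul p a htop
  refine ⟨g, hg, fun q hq => ?_⟩
  by_contra hcon
  have hmem : q ∈ zeroLocus (a : Set S) := by
    rw [hZ]; exact hcon
  exact hq (hmem hga)

end B1

namespace B2

open MvPolynomial

variable {R : Type u} [CommRing R] {n c : ℕ} (F : Fin c → MvPolynomial (Fin n) R)
  (h : MvPolynomial (Fin n) R)

/-- The extended relations `F_1, …, F_c, h x_{n+1} - 1`. -/
noncomputable abbrev F' : Fin (c + 1) → MvPolynomial (Fin (n + 1)) R :=
  Fin.snoc (fun i => rename Fin.castSucc (F i)) (rename Fin.castSucc h * X (Fin.last n) - 1)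

lemma F'_castSucc (i : Fin c) : F' F h (Fin.castSucc i) = rename Fin.castSucc (F i) := by
  simp [F']

lemma F'_last : F' F h (Fin.last c) = rename Fin.castSucc h * X (Fin.last n) - 1 := by
  simp [F']

/-- The forward map on the quotient. -/
noncomputable def φ₀ : (MvPolynomial (Fin n) R ⧸ Ideal.span (Set.range F)) →ₐ[R]
    (MvPolynomial (Fin (n + 1)) R ⧸ Ideal.span (Set.range (F' F h))) :=
  Ideal.Quotient.liftₐ (Ideal.span (Set.range F))
    ((Ideal.Quotient.mkₐ R (Ideal.span (Set.range (F' F h)))).comp (rename Fin.castSucc))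
    (by
      intro x hx
      rw [AlgHom.comp_apply, Ideal.Quotient.mkₐ_eq_mk, Ideal.Quotient.eq_zero_iff_mem]
      have hle : Ideal.span (Set.range F) ≤
          (Ideal.span (Set.range (F' F h))).comap (rename (R := R) Fin.castSucc).toRingHom := by
        rw [Ideal.span_le]
        rintro _ ⟨i, rfl⟩
        show rename Fin.castSucc (F i) ∈ Ideal.span (Set.range (F' F h))
        rw [← F'_castSucc F h i]
        exact Ideal.subset_span ⟨_, rfl⟩
      exact hle hx)

lemma φ₀_mk (x : MvPolynomial (Fin n) R) :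
    φ₀ F h (Ideal.Quotient.mk _ x) = Ideal.Quotient.mk _ (rename Fin.castSucc x) := rfl

lemma φ₀_mul_eq_one :
    φ₀ F h (Ideal.Quotient.mk _ h) * Ideal.Quotient.mk _ (X (Fin.last n)) = 1 := by
  rw [φ₀_mk, ← map_mul, ← sub_eq_zero, ← map_one (Ideal.Quotient.mk _), ← map_sub,
    Ideal.Quotient.eq_zero_iff_mem, ← F'_last F h]
  exact Ideal.subset_span ⟨_, rfl⟩

variable (T : Type u) [CommRing T] [Algebra R T]
  [Algebra (MvPolynomial (Fin n) R ⧸ Ideal.span (Set.range F)) T]
  [IsScalarTower R (MvPolynomial (Fin n) R ⧸ Ideal.span (Set.range F)) T]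
  [IsLocalization.Away (Ideal.Quotient.mk (Ideal.span (Set.range F)) h) T]

/-- The forward map. -/
noncomputable def φ : T →ₐ[R]
    (MvPolynomial (Fin (n + 1)) R ⧸ Ideal.span (Set.range (F' F h))) :=
  IsLocalization.Away.liftAlgHom (A := R) (Ideal.Quotient.mk (Ideal.span (Set.range F)) h)
    (f := φ₀ F h) (IsUnit.of_mul_eq_one _ (φ₀_mul_eq_one F h))

lemma φ_algebraMap (s : MvPolynomial (Fin n) R ⧸ Ideal.span (Set.range F)) :
    φ F h T (algebraMap _ T s) = φ₀ F h s := by
  simp [φ]

/-- The backward map on the polynomial ring. -/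
noncomputable def ψ₀ : MvPolynomial (Fin (n + 1)) R →ₐ[R] T :=
  aeval (Fin.snoc (fun i : Fin n => algebraMap (MvPolynomial (Fin n) R ⧸ Ideal.span (Set.range F)) T
      (Ideal.Quotient.mk _ (X i)))
    (IsLocalization.Away.invSelf (S := T) (Ideal.Quotient.mk (Ideal.span (Set.range F)) h)))

lemma ψ₀_rename (x : MvPolynomial (Fin n) R) :
    ψ₀ F h T (rename Fin.castSucc x) =
      algebraMap (MvPolynomial (Fin n) R ⧸ Ideal.span (Set.range F)) T (Ideal.Quotient.mk _ x) := by
  have : (ψ₀ F h T).comp (rename Fin.castSucc) =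
      (IsScalarTower.toAlgHom R (MvPolynomial (Fin n) R ⧸ Ideal.span (Set.range F)) T).comp
        (Ideal.Quotient.mkₐ R (Ideal.span (Set.range F))) := by
    apply MvPolynomial.algHom_ext
    intro i
    simp [ψ₀]
  exact congrArg (fun f => f x) this

lemma ψ₀_X_last : ψ₀ F h T (X (Fin.last n)) =
    IsLocalization.Away.invSelf (S := T) (Ideal.Quotient.mk (Ideal.span (Set.range F)) h) := by
  simp [ψ₀]

/-- The backward map. -/
noncomputable def ψ : (MvPolynomial (Fin (n + 1)) R ⧸ Ideal.span (Set.range (F' F h))) →ₐ[R] T :=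
  Ideal.Quotient.liftₐ (Ideal.span (Set.range (F' F h))) (ψ₀ F h T)
    (by
      intro x hx
      have hle : Ideal.span (Set.range (F' F h)) ≤ RingHom.ker (ψ₀ F h T).toRingHom := by
        rw [Ideal.span_le]
        rintro _ ⟨j, rfl⟩
        change ψ₀ F h T (F' F h j) = 0
        refine Fin.lastCases ?_ (fun i => ?_) j
        · rw [F'_last, map_sub, map_mul, ψ₀_rename, ψ₀_X_last, map_one,
            IsLocalization.Away.mul_invSelf, sub_self]
        · rw [F'_castSucc, ψ₀_rename,
            Ideal.Quotient.eq_zero_iff_mem.mpr (Ideal.subset_span (Set.mem_range_self i)), map_zero]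
      exact hle hx)

lemma ψ_mk (x : MvPolynomial (Fin (n + 1)) R) : ψ F h T (Ideal.Quotient.mk _ x) = ψ₀ F h T x := rfl

/-- `S_g` is isomorphic to the extended presentation. -/
noncomputable def equiv : T ≃ₐ[R]
    (MvPolynomial (Fin (n + 1)) R ⧸ Ideal.span (Set.range (F' F h))) :=
  AlgEquiv.ofAlgHom (φ F h T) (ψ F h T)
    (by
      apply Ideal.Quotient.algHom_ext
      apply MvPolynomial.algHom_ext
      intro j
      simp only [AlgHom.coe_comp, Function.comp_apply, Ideal.Quotient.mkₐ_eq_mk, AlgHom.coe_id,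
        id_eq]
      rw [ψ_mk]
      refine Fin.lastCases ?_ (fun i => ?_) j
      · rw [ψ₀_X_last]
        have h1 : φ F h T (algebraMap _ T (Ideal.Quotient.mk (Ideal.span (Set.range F)) h)) *
            φ F h T (IsLocalization.Away.invSelf (S := T)
              (Ideal.Quotient.mk (Ideal.span (Set.range F)) h)) = 1 := by
          rw [← map_mul, IsLocalization.Away.mul_invSelf, map_one]
        rw [φ_algebraMap] at h1
        have h2 := φ₀_mul_eq_one F h
        exact (left_inv_eq_right_inv (by rw [mul_comm]; exact h2) h1).symm.symm ▸ rfl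
      · have : (X (Fin.castSucc i) : MvPolynomial (Fin (n + 1)) R) = rename Fin.castSucc (X i) := by
          simp
        rw [this, ψ₀_rename, φ_algebraMap, φ₀_mk])
    (by
      apply IsLocalization.algHom_ext (Submonoid.powers
        (Ideal.Quotient.mk (Ideal.span (Set.range F)) h))
      apply Ideal.Quotient.algHom_ext
      apply MvPolynomial.algHom_ext
      intro i
      change ψ F h T (φ F h T (algebraMap _ T (Ideal.Quotient.mk _ (X i)))) =
        algebraMap _ T (Ideal.Quotient.mk _ (X i))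
      rw [φ_algebraMap, φ₀_mk, ψ_mk, ψ₀_rename])

end B2

namespace B3

open Groth.Agent.Lib.H56LocDim Groth.Agent.Lib.TopKrullDim Groth.Agent.Lib.GlobalCI
  PrimeSpectrum MvPolynomial B2

/-- A space all of whose local dimensions are at most `d` has dimension at most `d`. -/
lemma dim_le_of_localDim_le {X : Type*} [TopologicalSpace X] (d : WithBot ℕ∞)
    (h : ∀ x : X, FlatMor.localDim X x ≤ d) : topologicalKrullDim X ≤ d := by
  unfold topologicalKrullDim Order.krullDim
  refine iSup_le fun p => ?_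
  obtain ⟨x, hx⟩ := p.head.isIrreducible.nonempty
  obtain ⟨U, hxU, hU⟩ := exists_open_dim_eq_localDim x
  refine le_trans ?_ (h x)
  rw [← hU]
  exact length_le_dim_of_head_meets_open p U U.isOpen x hx hxU

/-- Lower bound for the dimension of a nontrivial `k[x]/(r_1..r_c)`. -/
theorem le_ringKrullDim_of_presentation {k : Type u} [Field k] {T : Type u} [CommRing T]
    [Algebra k T] [Nontrivial T] {n c : ℕ} (P : Algebra.Presentation k T (Fin n) (Fin c)) :
    ((n - c : ℕ) : WithBot ℕ∞) ≤ ringKrullDim T := by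
  have hsurj : Function.Surjective (aeval (R := k) P.val) := P.aeval_val_surjective
  have hker' : RingHom.ker (aeval (R := k) P.val).toRingHom =
      Ideal.span (Set.range P.relation) := by
    rw [P.span_range_relation_eq_ker, Algebra.Generators.ker_eq_ker_aeval_val]
    rfl
  obtain ⟨m, hm⟩ := Ideal.exists_maximal T
  have h1 := le_height_add_of_presentation (aeval (R := k) P.val) P.relation hsurj hker' m
  have h2 : (m.height : WithBot ℕ∞) ≤ ringKrullDim T :=
    Ideal.height_le_ringKrullDim_of_ne_top Ideal.IsPrime.ne_top'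
  refine le_trans ?_ h2
  have h3 : ((n - c : ℕ) : ℕ∞) ≤ m.height := by
    cases hh : m.height with
    | top => exact le_top
    | coe a =>
      rw [hh] at h1
      have : (n : ℕ) ≤ a + c := by exact_mod_cast h1
      exact_mod_cast (by omega : n - c ≤ a)
  calc ((n - c : ℕ) : WithBot ℕ∞) = (((n - c : ℕ) : ℕ∞) : WithBot ℕ∞) := rfl
    _ ≤ _ := WithBot.coe_le_coe.mpr h3

theorem isRelGCI_F' (R : Type u) [CommRing R] (n c : ℕ) (F : Fin c → MvPolynomial (Fin n) R)
    (h : MvPolynomial (Fin n) R) (hcn : c ≤ n)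
    (hW : ∀ q : PrimeSpectrum (MvPolynomial (Fin n) R ⧸ Ideal.span (Set.range F)),
      Ideal.Quotient.mk (Ideal.span (Set.range F)) h ∉ q.asIdeal →
        fibLocDim (PrimeSpectrum.comap (algebraMap R (MvPolynomial (Fin n) R ⧸ Ideal.span (Set.range F)))) q ≤
          ((n - c : ℕ) : WithBot ℕ∞)) :
    Synt.IsRelGCI R (n + 1) (c + 1) (F' F h) := by
  intro p' hnt
  refine ⟨by omega, ?_⟩
  have hnc : n + 1 - (c + 1) = n - c := by omega
  rw [hnc]
  apply le_antisymm
  · -- upper bound
    rw [← topologicalKrullDim_fibre_eq]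
    apply dim_le_of_localDim_le
    rintro ⟨z, hz⟩
    rw [localDim_fibre_eq _ z p' hz]
    -- the open embedding
    let T := Localization.Away (Ideal.Quotient.mk (Ideal.span (Set.range F)) h)
    let eR : T →+* (MvPolynomial (Fin (n + 1)) R ⧸ Ideal.span (Set.range (F' F h))) :=
      (equiv F h T).toAlgHom.toRingHom
    have heR : Function.Bijective eR := (equiv F h T).bijective
    have hφ₀ : (φ₀ F h).toRingHom = eR.comp
        (algebraMap (MvPolynomial (Fin n) R ⧸ Ideal.span (Set.range F)) T) := by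
      refine RingHom.ext fun s => ?_
      exact (φ_algebraMap F h T s).symm
    have hj : Topology.IsOpenEmbedding (PrimeSpectrum.comap (φ₀ F h).toRingHom) := by
      rw [hφ₀]
      have h1 : Topology.IsOpenEmbedding (PrimeSpectrum.comap (algebraMap
          (MvPolynomial (Fin n) R ⧸ Ideal.span (Set.range F)) T)) :=
        localization_away_isOpenEmbedding T (Ideal.Quotient.mk (Ideal.span (Set.range F)) h)
      have h2 : Topology.IsOpenEmbedding (PrimeSpectrum.comap eR) :=
        ((PrimeSpectrum.isHomeomorph_comap_of_bijective heR).homeomorph _).isOpenEmbedding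
      exact h1.comp h2
    have hsq := fibLocDim_eq_of_square hj (i := id) Function.injective_id
      (PrimeSpectrum.comap (algebraMap R (Synt.RelGCIRing R (n + 1) (c + 1) (F' F h))))
      (PrimeSpectrum.comap (algebraMap R (MvPolynomial (Fin n) R ⧸ Ideal.span (Set.range F))))
      (by
        intro x'
        rw [← (φ₀ F h).comp_algebraMap]
        rfl) z
    rw [hsq]
    apply hW
    intro hmem
    have hu : IsUnit (φ₀ F h (Ideal.Quotient.mk _ h)) :=
      IsUnit.of_mul_eq_one _ (φ₀_mul_eq_one F h)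
    exact z.2.ne_top (Ideal.eq_top_of_isUnit_mem _ hmem hu)
  · -- lower bound
    let P : Algebra.Presentation p'.asIdeal.ResidueField
        (p'.asIdeal.Fiber (Synt.RelGCIRing R (n + 1) (c + 1) (F' F h))) (Fin (n + 1)) (Fin (c + 1)) :=
      (Algebra.Presentation.naive (v := F' F h)).baseChange p'.asIdeal.ResidueField
    have := le_ringKrullDim_of_presentation P
    rwa [hnc] at this

end B3

namespace A1

open MvPolynomial

variable {R : Type u} [CommRing R] {n c : ℕ} (F : Fin c → MvPolynomial (Fin n) R) (I : Ideal R)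

/-- The reduced relations. -/
noncomputable abbrev Fbar : Fin c → MvPolynomial (Fin n) (R ⧸ I) :=
  fun i => MvPolynomial.map (Ideal.Quotient.mk I) (F i)

/-- The source ring. -/
abbrev SS : Type u := MvPolynomial (Fin n) R ⧸ Ideal.span (Set.range F)

/-- The target ring. -/
abbrev SB : Type u := MvPolynomial (Fin n) (R ⧸ I) ⧸ Ideal.span (Set.range (Fbar F I))

lemma span_Fbar : Ideal.span (Set.range (Fbar F I)) =
    (Ideal.span (Set.range F)).map (MvPolynomial.map (σ := Fin n) (Ideal.Quotient.mk I)) := by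
  rw [Ideal.map_span, ← Set.range_comp]
  rfl

/-- The reduction map `R[x]/(F) → (R/I)[x]/(F̄)`. -/
noncomputable def θ : (MvPolynomial (Fin n) R ⧸ Ideal.span (Set.range F)) →+*
    (MvPolynomial (Fin n) (R ⧸ I) ⧸ Ideal.span (Set.range (Fbar F I))) :=
  Ideal.Quotient.lift (Ideal.span (Set.range F))
    ((Ideal.Quotient.mk (Ideal.span (Set.range (Fbar F I)))).comp
      (MvPolynomial.map (σ := Fin n) (Ideal.Quotient.mk I)))
    (by
      intro x hx
      rw [RingHom.comp_apply, Ideal.Quotient.eq_zero_iff_mem, span_Fbar]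
      exact Ideal.mem_map_of_mem _ hx)

lemma θ_mk (x : MvPolynomial (Fin n) R) : θ F I (Ideal.Quotient.mk _ x) =
    Ideal.Quotient.mk _ (MvPolynomial.map (Ideal.Quotient.mk I) x) := rfl

lemma θ_surjective : Function.Surjective (θ F I) := by
  intro y
  obtain ⟨y, rfl⟩ := Ideal.Quotient.mk_surjective y
  obtain ⟨x, rfl⟩ := MvPolynomial.map_surjective _ Ideal.Quotient.mk_surjective y
  exact ⟨Ideal.Quotient.mk _ x, rfl⟩

lemma θ_algebraMap (r : R) :
    θ F I (algebraMap R (MvPolynomial (Fin n) R ⧸ Ideal.span (Set.range F)) r) =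
      algebraMap (R ⧸ I) (MvPolynomial (Fin n) (R ⧸ I) ⧸ Ideal.span (Set.range (Fbar F I)))
        (Ideal.Quotient.mk I r) := by
  have h1 : algebraMap R (MvPolynomial (Fin n) R ⧸ Ideal.span (Set.range F)) r =
      Ideal.Quotient.mk _ (C r) := rfl
  have h2 : algebraMap (R ⧸ I) (MvPolynomial (Fin n) (R ⧸ I) ⧸ Ideal.span (Set.range (Fbar F I)))
      (Ideal.Quotient.mk I r) = Ideal.Quotient.mk _ (C (Ideal.Quotient.mk I r)) := rfl
  rw [h1, h2, θ_mk, MvPolynomial.map_C]

lemma ker_θ_le : RingHom.ker (θ F I) ≤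
    I.map (algebraMap R (MvPolynomial (Fin n) R ⧸ Ideal.span (Set.range F))) := by
  intro s hs
  obtain ⟨b, rfl⟩ := Ideal.Quotient.mk_surjective s
  rw [RingHom.mem_ker, θ_mk, Ideal.Quotient.eq_zero_iff_mem, span_Fbar] at hs
  have h1 : b ∈ ((Ideal.span (Set.range F)).map
      (MvPolynomial.map (σ := Fin n) (Ideal.Quotient.mk I))).comap
      (MvPolynomial.map (σ := Fin n) (Ideal.Quotient.mk I)) := hs
  rw [Ideal.comap_map_of_surjective (MvPolynomial.map (σ := Fin n) (Ideal.Quotient.mk I))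
    (MvPolynomial.map_surjective _ Ideal.Quotient.mk_surjective)] at h1
  obtain ⟨b₁, hb₁, b₂, hb₂, rfl⟩ := Submodule.mem_sup.mp h1
  rw [map_add, Ideal.Quotient.eq_zero_iff_mem.mpr hb₁, zero_add]
  have hb₂' : b₂ ∈ RingHom.ker (MvPolynomial.map (σ := Fin n) (Ideal.Quotient.mk I)) := by
    rw [RingHom.mem_ker]
    exact (Ideal.mem_comap.mp hb₂ : _ ∈ (⊥ : Ideal _))
  rw [MvPolynomial.ker_map, Ideal.mk_ker] at hb₂'
  have h2 := Ideal.mem_map_of_mem (Ideal.Quotient.mk (Ideal.span (Set.range F))) hb₂'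
  rw [Ideal.map_map] at h2
  exact h2

end A1

namespace A2

open Groth.Agent.Lib.H56LocDim Groth.Agent.Lib.TopKrullDim A1

theorem fibLocDim_le_of_le {R : Type u} [CommRing R] {n c : ℕ} (F : Fin c → MvPolynomial (Fin n) R)
    (I : Ideal R) (hI : Synt.IsRelGCI (R ⧸ I) n c (Fbar F I))
    (q : PrimeSpectrum (MvPolynomial (Fin n) R ⧸ Ideal.span (Set.range F)))
    (hq : I.map (algebraMap R (MvPolynomial (Fin n) R ⧸ Ideal.span (Set.range F))) ≤ q.asIdeal) :
    c ≤ n ∧ fibLocDim (PrimeSpectrum.comap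
      (algebraMap R (MvPolynomial (Fin n) R ⧸ Ideal.span (Set.range F)))) q ≤
        ((n - c : ℕ) : WithBot ℕ∞) := by
  set φ := PrimeSpectrum.comap (algebraMap R (MvPolynomial (Fin n) R ⧸ Ideal.span (Set.range F)))
    with hφ
  set φ' := PrimeSpectrum.comap (algebraMap (R ⧸ I) (Synt.RelGCIRing (R ⧸ I) n c (Fbar F I)))
    with hφ'
  set j := PrimeSpectrum.comap (R := SS F) (S := SB F I) (θ F I) with hj
  set i := PrimeSpectrum.comap (Ideal.Quotient.mk I) with hi
  have hiinj : Function.Injective i :=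
    PrimeSpectrum.comap_injective_of_surjective _ Ideal.Quotient.mk_surjective
  have hsq : ∀ z, φ (j z) = i (φ' z) := by
    intro z
    have : (θ F I).comp (algebraMap R (MvPolynomial (Fin n) R ⧸ Ideal.span (Set.range F))) =
        (algebraMap (R ⧸ I) (Synt.RelGCIRing (R ⧸ I) n c (Fbar F I))).comp
          (Ideal.Quotient.mk I) := RingHom.ext (θ_algebraMap F I)
    rw [hφ, hj, hi, hφ', ← PrimeSpectrum.comap_comp_apply, ← PrimeSpectrum.comap_comp_apply, this]
  have hrange : ∀ x : PrimeSpectrum (MvPolynomial (Fin n) R ⧸ Ideal.span (Set.range F)),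
      I.map (algebraMap R (MvPolynomial (Fin n) R ⧸ Ideal.span (Set.range F))) ≤ x.asIdeal →
        x ∈ Set.range j := by
    intro x hx
    rw [hj, range_comap_of_surjective (R := SS F) (SB F I) (θ F I) (θ_surjective F I)]
    exact fun s hs => hx (ker_θ_le F I hs)
  obtain ⟨qb, hqb⟩ := hrange q hq
  set pb := φ' qb with hpb
  have hnt : Nontrivial (pb.asIdeal.Fiber (Synt.RelGCIRing (R ⧸ I) n c (Fbar F I))) :=
    (PrimeSpectrum.preimageHomeomorphFiber (R ⧸ I) (Synt.RelGCIRing (R ⧸ I) n c (Fbar F I)) pb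
      ⟨qb, rfl⟩).nontrivial
  obtain ⟨hcn, hfd⟩ := hI pb hnt
  refine ⟨hcn, (fibLocDim_le_dim φ q).trans ?_⟩
  rw [← hfd, ← topologicalKrullDim_fibre_eq]
  refine dim_le_of_range_subset (X := PrimeSpectrum (MvPolynomial (Fin n) R ⧸ Ideal.span (Set.range F)))
    (fun t : (φ ⁻¹' {φ q}) => t.1)
    (fun t : (φ' ⁻¹' {pb}) => j t.1)
    Topology.IsInducing.subtypeVal
    ((PrimeSpectrum.comap_isInducing_of_surjective (R := SS F) (SB F I) (θ F I)
      (θ_surjective F I)).comp
      Topology.IsInducing.subtypeVal) ?_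
  rintro _ ⟨⟨x, hx⟩, rfl⟩
  have hx' : φ x = φ q := hx
  have hxI : I.map (algebraMap R (MvPolynomial (Fin n) R ⧸ Ideal.span (Set.range F))) ≤
      x.asIdeal := by
    rw [Ideal.map_le_iff_le_comap]
    have h1 : (φ x).asIdeal = (φ q).asIdeal := by rw [hx']
    have h2 : I ≤ (φ q).asIdeal := Ideal.map_le_iff_le_comap.mp hq
    show I ≤ (φ x).asIdeal
    rw [h1]
    exact h2
  obtain ⟨xb, hxb⟩ := hrange x hxI
  refine ⟨⟨xb, ?_⟩, hxb⟩
  apply hiinj
  rw [← hsq, ← hsq, hxb, hqb, hx']

end A2

namespace A3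

open Groth.Agent.Lib.H56LocDim MvPolynomial A1 B2

theorem main (R : Type u) [CommRing R] (n c : ℕ) (F : Fin c → MvPolynomial (Fin n) R)
    (I : Ideal R)
    (hI : Synt.IsRelGCI (R ⧸ I) n c (fun i => MvPolynomial.map (Ideal.Quotient.mk I) (F i))) :
    ∃ h : MvPolynomial (Fin n) R,
      Ideal.Quotient.mk (I.map (algebraMap R (Synt.RelGCIRing R n c F)))
        (Ideal.Quotient.mk (Ideal.span (Set.range F)) h) = 1 ∧
      Synt.IsRelGCI R (n + 1) (c + 1)
        (Fin.snoc (fun i => rename Fin.castSucc (F i)) (rename Fin.castSucc h * X (Fin.last n) - 1)) ∧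
      Nonempty (Localization.Away (Ideal.Quotient.mk (Ideal.span (Set.range F)) h) ≃ₐ[R]
        Synt.RelGCIRing R (n + 1) (c + 1)
          (Fin.snoc (fun i => rename Fin.castSucc (F i)) (rename Fin.castSucc h * X (Fin.last n) - 1))) := by
  by_cases hcn : c ≤ n
  · -- main case
    set W := {q : PrimeSpectrum (Synt.RelGCIRing R n c F) |
      fibLocDim (PrimeSpectrum.comap (algebraMap R (Synt.RelGCIRing R n c F))) q ≤
        ((n - c : ℕ) : WithBot ℕ∞)} with hW
    have hWo : IsOpen W := isOpen_fibLocDim_le (n - c)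
    set a := PrimeSpectrum.vanishingIdeal Wᶜ with ha
    have hZ : PrimeSpectrum.zeroLocus (a : Set (Synt.RelGCIRing R n c F)) = Wᶜ := by
      rw [ha, PrimeSpectrum.zeroLocus_vanishingIdeal_eq_closure, hWo.isClosed_compl.closure_eq]
    have htop : a ⊔ I.map (algebraMap R (Synt.RelGCIRing R n c F)) = ⊤ := by
      by_contra hne
      obtain ⟨𝔪, h𝔪, hle⟩ := Ideal.exists_le_maximal _ hne
      let q : PrimeSpectrum (Synt.RelGCIRing R n c F) := ⟨𝔪, h𝔪.isPrime⟩
      have hq1 : q ∈ W := (A2.fibLocDim_le_of_le F I hI q (le_sup_right.trans hle)).2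
      have hq2 : q ∈ Wᶜ := by
        rw [← hZ]
        intro x hx
        exact hle (Ideal.mem_sup_left hx)
      exact hq2 hq1
    obtain ⟨a₀, ha₀, i₀, hi₀, hsum⟩ := Submodule.mem_sup.mp (htop ▸ (Submodule.mem_top : (1 : Synt.RelGCIRing R n c F) ∈ ⊤))
    obtain ⟨h, rfl⟩ := Ideal.Quotient.mk_surjective a₀
    refine ⟨h, ?_, ?_, ⟨B2.equiv F h (Localization.Away _)⟩⟩
    · have h1 := congrArg (Ideal.Quotient.mk (I.map (algebraMap R (Synt.RelGCIRing R n c F)))) hsum
      rw [map_add, Ideal.Quotient.eq_zero_iff_mem.mpr hi₀, add_zero, map_one] at h1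
      exact h1
    · refine B3.isRelGCI_F' R n c F h hcn (fun q hq => ?_)
      by_contra hcon
      have hmem : q ∈ PrimeSpectrum.zeroLocus (a : Set (Synt.RelGCIRing R n c F)) := by
        rw [hZ]; exact hcon
      exact hq (hmem ha₀)
  · -- degenerate case: `IS = ⊤`
    have htop : I.map (algebraMap R (Synt.RelGCIRing R n c F)) = ⊤ := by
      by_contra hne
      obtain ⟨𝔪, h𝔪, hle⟩ := Ideal.exists_le_maximal _ hne
      exact hcn (A2.fibLocDim_le_of_le F I hI ⟨𝔪, h𝔪.isPrime⟩ hle).1
    refine ⟨0, ?_, ?_, ⟨B2.equiv F 0 (Localization.Away _)⟩⟩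
    · haveI : Subsingleton (Synt.RelGCIRing R n c F ⧸
          I.map (algebraMap R (Synt.RelGCIRing R n c F))) :=
        Ideal.Quotient.subsingleton_iff.mpr htop
      exact Subsingleton.elim _ _
    · intro p' hnt
      exfalso
      have h1 : (1 : MvPolynomial (Fin (n + 1)) R) ∈ Ideal.span (Set.range (F' F 0)) := by
        have h2 : F' F 0 (Fin.last c) ∈ Ideal.span (Set.range (F' F 0)) :=
          Ideal.subset_span ⟨_, rfl⟩
        rw [F'_last, map_zero, zero_mul, zero_sub] at h2
        simpa using Ideal.neg_mem_iff _ |>.mp h2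
      haveI : Subsingleton (Synt.RelGCIRing R (n + 1) (c + 1) (F' F 0)) :=
        Ideal.Quotient.subsingleton_iff.mpr ((Ideal.eq_top_iff_one _).mpr h1)
      haveI : Subsingleton (p'.asIdeal.Fiber (Synt.RelGCIRing R (n + 1) (c + 1) (F' F 0))) :=
        inferInstance
      exact not_subsingleton _ ‹_›

end A3

end Helpers

open MvPolynomial in
/-- Let S = R[x_1, …, x_n]/(F_1, …, F_c) over a ring R. Let I be an ideal of R such that the reduction
R/I[x]/(F mod I) = S/IS is a relative global complete intersection over R/I (its nonempty fibres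
have dimension n − c). Then some h in the polynomial ring, with image g in S, satisfies: g maps to 1
in S/IS, and the presentation S_g = R[x_1, …, x_{n+1}]/(F_1, …, F_c, h·x_{n+1} − 1) is a relative
global complete intersection over R (with S_g isomorphic to it over R). -/
theorem result (R : Type u) [CommRing R] (n c : ℕ) (F : Fin c → MvPolynomial (Fin n) R)
    (I : Ideal R)
    (hI : Synt.IsRelGCI (R ⧸ I) n c (fun i => MvPolynomial.map (Ideal.Quotient.mk I) (F i))) :
    ∃ h : MvPolynomial (Fin n) R,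
      Ideal.Quotient.mk (I.map (algebraMap R (Synt.RelGCIRing R n c F)))
        (Ideal.Quotient.mk (Ideal.span (Set.range F)) h) = 1 ∧
      Synt.IsRelGCI R (n + 1) (c + 1)
        (Fin.snoc (fun i => rename Fin.castSucc (F i)) (rename Fin.castSucc h * X (Fin.last n) - 1)) ∧
      Nonempty (Localization.Away (Ideal.Quotient.mk (Ideal.span (Set.range F)) h) ≃ₐ[R]
        Synt.RelGCIRing R (n + 1) (c + 1)
          (Fin.snoc (fun i => rename Fin.castSucc (F i)) (rename Fin.castSucc h * X (Fin.last n) - 1))) := by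
  exact A3.main R n c F I hI

end Groth.Agent.S9172
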