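import Groth.Statements.S9150
import Groth.Agent.Lib.SyntRelGCI89
import Groth.Agent.S9172

set_option autoImplicit false
set_option linter.style.haveILetI false
universe u
open Synt

namespace Groth.Agent.S9150

section Helpers

open MvPolynomial

/-- L1: quotient of an algebra isomorphism by the extension of an ideal of the base. -/
noncomputable def quotEquivOfAlgEquiv {R A B : Type*} [CommRing R] [CommRing A] [CommRing B]
    [Algebra R A] [Algebra R B] (I : Ideal R) (e : A ≃ₐ[R] B) :
    (A ⧸ I.map (algebraMap R A)) ≃ₐ[R] (B ⧸ I.map (algebraMap R B)) :=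
  Ideal.quotientEquivAlg _ _ e (by
    rw [Ideal.map_map]
    congr 1
    ext r
    simp)

/-- L2: localizing away from an element congruent to `1` does not change the quotient. -/
theorem nonempty_awayQuotEquiv {R S : Type*} [CommRing R] [CommRing S] [Algebra R S]
    (J : Ideal S) (x : S) (hx : Ideal.Quotient.mk J x = 1) :
    Nonempty ((Localization.Away x ⧸ J.map (algebraMap S (Localization.Away x))) ≃ₐ[R] (S ⧸ J)) := by
  have hM : Algebra.algebraMapSubmonoid (S ⧸ J) (Submonoid.powers x) ≤
      IsUnit.submonoid (S ⧸ J) := by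
    rintro _ ⟨y, ⟨k, rfl⟩, rfl⟩
    change IsUnit (algebraMap S (S ⧸ J) (x ^ k))
    rw [map_pow, Ideal.Quotient.algebraMap_eq, hx, one_pow]
    exact isUnit_one
  have e := IsLocalization.atUnits (S ⧸ J) (Algebra.algebraMapSubmonoid (S ⧸ J) (Submonoid.powers x))
    (S := Localization.Away x ⧸ J.map (algebraMap S (Localization.Away x))) hM
  haveI : IsScalarTower R (S ⧸ J)
      (Localization.Away x ⧸ J.map (algebraMap S (Localization.Away x))) :=
    IsScalarTower.of_algebraMap_eq (R := R) (S := S ⧸ J) (by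
      intro r
      rw [IsScalarTower.algebraMap_apply R S (S ⧸ J),
        IsScalarTower.algebraMap_apply R S (Localization.Away x ⧸ _),
        IsScalarTower.algebraMap_apply S (Localization.Away x) (Localization.Away x ⧸ _)]
      rfl)
  exact ⟨(e.restrictScalars R).symm⟩

/-- L3: `(R[x]/(F))/I ≃ (R/I)[x]/(F mod I)`. -/
theorem nonempty_reductionEquiv (R : Type u) [CommRing R] (n c : ℕ)
    (F : Fin c → MvPolynomial (Fin n) R) (I : Ideal R) :
    Nonempty ((Synt.RelGCIRing R n c F ⧸ I.map (algebraMap R (Synt.RelGCIRing R n c F))) ≃ₐ[R]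
      Synt.RelGCIRing (R ⧸ I) n c (fun i => MvPolynomial.map (Ideal.Quotient.mk I) (F i))) := by
  let φ₁ : MvPolynomial (Fin n) R →ₐ[R]
      (Synt.RelGCIRing R n c F ⧸ I.map (algebraMap R (Synt.RelGCIRing R n c F))) :=
    (Ideal.Quotient.mkₐ R _).comp (Ideal.Quotient.mkₐ R (Ideal.span (Set.range F)))
  have hφ₁ : Function.Surjective φ₁ :=
    (Ideal.Quotient.mkₐ_surjective R _).comp (Ideal.Quotient.mkₐ_surjective R _)
  let ρ : MvPolynomial (Fin n) R →ₐ[R] MvPolynomial (Fin n) (R ⧸ I) :=
    MvPolynomial.mapAlgHom (Ideal.Quotient.mkₐ R I)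
  have hρ : Function.Surjective ρ :=
    MvPolynomial.map_surjective _ Ideal.Quotient.mk_surjective
  have hρF : ∀ i, ρ (F i) = MvPolynomial.map (Ideal.Quotient.mk I) (F i) := fun i => rfl
  let φ₂ : MvPolynomial (Fin n) R →ₐ[R]
      Synt.RelGCIRing (R ⧸ I) n c (fun i => MvPolynomial.map (Ideal.Quotient.mk I) (F i)) :=
    (Ideal.Quotient.mkₐ R _).comp ρ
  have hφ₂ : Function.Surjective φ₂ := (Ideal.Quotient.mkₐ_surjective R _).comp hρ
  have hkρ : RingHom.ker ρ.toRingHom = I.map (C : R →+* MvPolynomial (Fin n) R) := by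
    have h1 := MvPolynomial.ker_map (σ := Fin n) (Ideal.Quotient.mk I)
    rw [Ideal.mk_ker] at h1
    exact h1
  have hk₁ : RingHom.ker φ₁.toRingHom =
      I.map (C : R →+* MvPolynomial (Fin n) R) ⊔ Ideal.span (Set.range F) := by
    have h1 : RingHom.ker φ₁.toRingHom =
        (I.map (algebraMap R (Synt.RelGCIRing R n c F))).comap
          (Ideal.Quotient.mk (Ideal.span (Set.range F))) := by
      ext x
      rw [RingHom.mem_ker, Ideal.mem_comap]
      exact Ideal.Quotient.eq_zero_iff_mem
    have h2 : I.map (algebraMap R (Synt.RelGCIRing R n c F)) =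
        (I.map (C : R →+* MvPolynomial (Fin n) R)).map
          (Ideal.Quotient.mk (Ideal.span (Set.range F))) := by
      rw [Ideal.map_map]
      rfl
    rw [h1, h2, Ideal.comap_map_of_surjective _ Ideal.Quotient.mk_surjective,
      ← RingHom.ker_eq_comap_bot, Ideal.mk_ker]
  have hk₂ : RingHom.ker φ₂.toRingHom =
      I.map (C : R →+* MvPolynomial (Fin n) R) ⊔ Ideal.span (Set.range F) := by
    have h1 : RingHom.ker φ₂.toRingHom =
        (Ideal.span (Set.range
          (fun i => MvPolynomial.map (Ideal.Quotient.mk I) (F i)))).comap ρ.toRingHom := by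
      ext x
      rw [RingHom.mem_ker, Ideal.mem_comap]
      exact Ideal.Quotient.eq_zero_iff_mem
    have h2 : Ideal.span (Set.range (fun i => MvPolynomial.map (Ideal.Quotient.mk I) (F i))) =
        (Ideal.span (Set.range F)).map ρ.toRingHom := by
      rw [Ideal.map_span, ← Set.range_comp]
      rfl
    rw [h1, h2, Ideal.comap_map_of_surjective ρ.toRingHom hρ, ← RingHom.ker_eq_comap_bot, hkρ,
      sup_comm]
  exact ⟨(Ideal.quotientKerAlgEquivOfSurjective hφ₁).symm.trans
    ((Ideal.quotientEquivAlgOfEq R (hk₁.trans hk₂.symm)).trans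
      (Ideal.quotientKerAlgEquivOfSurjective hφ₂))⟩

end Helpers

/-- Let I be an ideal of a ring R and S̄ an R-algebra killed by I which is syntomic over R/I. Then S̄ is
covered by finitely many basic opens S̄_g each isomorphic, as an R-algebra, to S/IS for some
relative global complete intersection S over R. -/
theorem result (R : Type u) [CommRing R] (I : Ideal R) (Sb : Type u) [CommRing Sb]
    [Algebra R Sb] [Algebra (R ⧸ I) Sb] [IsScalarTower R (R ⧸ I) Sb] (h : Synt.IsSyntomic (R ⧸ I) Sb) :
    ∃ s : Finset Sb, Ideal.span (s : Set Sb) = ⊤ ∧ ∀ g ∈ s,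
      ∃ (n c : ℕ) (F : Fin c → MvPolynomial (Fin n) R), Synt.IsRelGCI R n c F ∧
        Nonempty (Localization.Away g ≃ₐ[R]
          (Synt.RelGCIRing R n c F ⧸ I.map (algebraMap R (Synt.RelGCIRing R n c F)))) := by
  classical
  have key : ∀ q : PrimeSpectrum Sb, ∃ g : Sb, g ∉ q.asIdeal ∧
      ∃ (n c : ℕ) (F : Fin c → MvPolynomial (Fin n) R), Synt.IsRelGCI R n c F ∧
        Nonempty (Localization.Away g ≃ₐ[R]
          (Synt.RelGCIRing R n c F ⧸ I.map (algebraMap R (Synt.RelGCIRing R n c F)))) := by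
    intro q
    haveI := q.2
    obtain ⟨g, hg, n, c, Fb, hFb, ⟨e⟩⟩ :=
      Groth.Agent.Lib.SyntRelGCI89.exists_relGCI_of_isSyntomic h q.asIdeal
    have hlift : ∀ i, ∃ f : MvPolynomial (Fin n) R,
        MvPolynomial.map (Ideal.Quotient.mk I) f = Fb i :=
      fun i => MvPolynomial.map_surjective _ Ideal.Quotient.mk_surjective (Fb i)
    choose F hF using hlift
    have hFb' : (fun i => MvPolynomial.map (Ideal.Quotient.mk I) (F i)) = Fb := funext hF
    subst hFb'
    obtain ⟨h₀, h1, hrel, ⟨e2⟩⟩ := Groth.Agent.S9172.result R n c F I hFb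
    refine ⟨g, hg, n + 1, c + 1, _, hrel, ?_⟩
    obtain ⟨e3⟩ := nonempty_awayQuotEquiv (R := R)
      (I.map (algebraMap R (Synt.RelGCIRing R n c F)))
      (Ideal.Quotient.mk (Ideal.span (Set.range F)) h₀) h1
    obtain ⟨e4⟩ := nonempty_reductionEquiv R n c F I
    have heq : (I.map (algebraMap R (Synt.RelGCIRing R n c F))).map
        (algebraMap (Synt.RelGCIRing R n c F)
          (Localization.Away (Ideal.Quotient.mk (Ideal.span (Set.range F)) h₀))) =
        I.map (algebraMap R
          (Localization.Away (Ideal.Quotient.mk (Ideal.span (Set.range F)) h₀))) := by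
      rw [Ideal.map_map, ← IsScalarTower.algebraMap_eq]
    exact ⟨(e.restrictScalars R).trans (e4.symm.trans (e3.symm.trans
      ((Ideal.quotientEquivAlgOfEq R heq).trans (quotEquivOfAlgEquiv I e2))))⟩
  choose g hg hrest using key
  have hspan : Ideal.span (Set.range g) = ⊤ := by
    by_contra hne
    obtain ⟨m, hm, hle⟩ := Ideal.exists_le_maximal _ hne
    exact hg ⟨m, hm.isPrime⟩ (hle (Ideal.subset_span ⟨_, rfl⟩))
  obtain ⟨s, hs, hs'⟩ := (Ideal.span_eq_top_iff_finite _).mp hspan
  refine ⟨s, hs', fun x hx => ?_⟩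
  obtain ⟨q, rfl⟩ := hs hx
  exact hrest q

end Groth.Agent.S9150
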