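import Groth.Statements.S5803
import Groth.Agent.Lib.QuasiReg97
-- import your own Groth.Agent.* helpers here

set_option autoImplicit false
universe u
open EGA41

namespace Groth.Agent.S5803

open MvPolynomial Groth.Agent.Lib.QuasiReg97
open scoped Pointwise

variable {A : Type*} [CommRing A] {σ τ : Type*}

/-- colon property from quasi-regularity: `(I^(i+1) : f k) ⊆ I^i`. -/
theorem mem_pow_of_gen_mul_mem (f : σ → A) (hq : ∀ n, QRn f n) (k : σ) :
    ∀ (i : ℕ) (a : A), f k * a ∈ Ideal.span (Set.range f) ^ (i + 1) →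
      a ∈ Ideal.span (Set.range f) ^ i := by
  intro i
  induction i with
  | zero => intro a _; simp
  | succ i ih =>
    intro a ha
    have h1 : a ∈ Ideal.span (Set.range f) ^ i :=
      ih a (Ideal.pow_le_pow_right (Nat.le_succ _) ha)
    obtain ⟨H, hH, rfl⟩ := (Ideal.mem_span_pow_iff_exists_isHomogeneous f a).1 h1
    have hXH : (X k * H).IsHomogeneous (i + 1) := by
      have := (isHomogeneous_X A k).mul hH
      rwa [add_comm] at this
    have h2 := hq (i + 1) (X k * H) hXH (by simpa using ha)
    have h3 : H ∈ Ideal.map (C : A →+* MvPolynomial σ A) (Ideal.span (Set.range f)) := by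
      rw [mem_map_C_iff] at h2 ⊢
      intro d
      have := h2 (Finsupp.single k 1 + d)
      rwa [coeff_X_mul] at this
    have := eval_mem_mul_pow f _ hH h3
    rwa [← pow_succ'] at this

theorem eq_zero_of_gen_mul_eq_zero [IsNoetherianRing A] (f : σ → A) (hq : ∀ n, QRn f n)
    (hJ : Ideal.span (Set.range f) ≤ Ideal.jacobson ⊥) (k : σ) (a : A) (ha : f k * a = 0) :
    a = 0 := by
  have h1 : ∀ i, a ∈ Ideal.span (Set.range f) ^ i := fun i =>
    mem_pow_of_gen_mul_mem f hq k i a (by rw [ha]; exact Ideal.zero_mem _)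
  have h2 := Ideal.iInf_pow_smul_eq_bot_of_le_jacobson (M := A) _ hJ
  have h3 : a ∈ (⨅ i : ℕ, Ideal.span (Set.range f) ^ i • ⊤ : Submodule A A) := by
    rw [Submodule.mem_iInf]
    intro i
    simpa using h1 i
  rw [h2] at h3
  simpa using h3


theorem span_range_eq_sup (f : σ → A) (k : σ) (ι : τ → σ)
    (hr : ∀ j, j ≠ k → j ∈ Set.range ι) :
    Ideal.span (Set.range f) = Ideal.span {f k} ⊔ Ideal.span (Set.range (f ∘ ι)) := by
  apply le_antisymm
  · rw [Ideal.span_le]
    rintro _ ⟨j, rfl⟩
    by_cases hj : j = k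
    · subst hj
      exact Submodule.mem_sup_left (Ideal.mem_span_singleton_self _)
    · obtain ⟨t, rfl⟩ := hr j hj
      exact Submodule.mem_sup_right (Ideal.subset_span ⟨t, rfl⟩)
  · refine sup_le ((Ideal.span_singleton_le_iff_mem _).2 (Ideal.subset_span ⟨k, rfl⟩))
      (Ideal.span_mono (Set.range_comp_subset_range ι f))

theorem exists_homogeneous_lift (J : Ideal A) {n : ℕ} (G' : MvPolynomial τ (A ⧸ J))
    (hG' : G'.IsHomogeneous n) :
    ∃ G : MvPolynomial τ A, G.IsHomogeneous n ∧ map (Ideal.Quotient.mk J) G = G' := by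
  obtain ⟨G0, hG0⟩ := map_surjective (Ideal.Quotient.mk J) Ideal.Quotient.mk_surjective G'
  refine ⟨homogeneousComponent n G0, homogeneousComponent_isHomogeneous n G0, ?_⟩
  ext d
  rw [coeff_map, coeff_homogeneousComponent]
  split_ifs with hd
  · rw [← hG0, coeff_map]
  · rw [map_zero]
    exact (hG'.coeff_eq_zero hd).symm

theorem eval_map_mk (J : Ideal A) (g : τ → A) (G : MvPolynomial τ A) :
    eval (fun i => Ideal.Quotient.mk J (g i)) (map (Ideal.Quotient.mk J) G) =
      Ideal.Quotient.mk J (eval g G) := by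
  rw [eval_map]
  have := eval₂_comp_left (Ideal.Quotient.mk J) (RingHom.id A) g G
  simpa [Function.comp_def] using this.symm

/-- quasi-regularity passes to the quotient by one member of the family. -/
theorem qrn_quotient (k : σ) (ι : τ → σ) (hι : Function.Injective ι)
    (hr : ∀ j, j ≠ k → j ∈ Set.range ι) (hk : k ∉ Set.range ι) (f : σ → A)
    (hq : ∀ n, QRn f n) :
    ∀ n, QRn (fun t => Ideal.Quotient.mk (Ideal.span {f k}) (f (ι t))) n := by
  classical
  set J : Ideal A := Ideal.span {f k} with hJ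
  set I : Ideal A := Ideal.span (Set.range f) with hI
  set I' : Ideal A := Ideal.span (Set.range (f ∘ ι)) with hI'
  have hsup : I = J ⊔ I' := span_range_eq_sup f k ι hr
  have hbar : Ideal.span (Set.range (fun t => Ideal.Quotient.mk J (f (ι t)))) =
      Ideal.map (Ideal.Quotient.mk J) I' := by
    rw [hI', Ideal.map_span, ← Set.range_comp]
    rfl
  have hbar' : Ideal.map (Ideal.Quotient.mk J) I = Ideal.map (Ideal.Quotient.mk J) I' := by
    rw [hsup, Ideal.map_sup, Ideal.map_quotient_self, bot_sup_eq]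
  -- conclusion from coefficients of a lift lying in `I`
  have concl : ∀ (G : MvPolynomial τ A), (∀ d, coeff d G ∈ I) →
      map (Ideal.Quotient.mk J) G ∈ Ideal.map (C : (A ⧸ J) →+* MvPolynomial τ (A ⧸ J))
        (Ideal.span (Set.range (fun t => Ideal.Quotient.mk J (f (ι t))))) := by
    intro G hG
    rw [mem_map_C_iff]
    intro d
    rw [coeff_map, hbar, ← hbar']
    exact Ideal.mem_map_of_mem _ (hG d)
  intro n G' hG' hev
  obtain ⟨G, hG, rfl⟩ := exists_homogeneous_lift J G' hG'
  rw [eval_map_mk, hbar, ← Ideal.map_pow, Ideal.mem_quotient_iff_mem_sup] at hev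
  obtain ⟨u, hu, v, hv, huv⟩ := Submodule.mem_sup.1 hev
  obtain ⟨ω, rfl⟩ := Ideal.mem_span_singleton'.1 hv
  change u + ω * f k = eval (f ∘ ι) G at huv
  apply concl
  have hI'le : I' ≤ I := by rw [hsup]; exact le_sup_right
  cases n with
  | zero =>
    intro d
    have h1 : G = C (coeff 0 G) :=
      totalDegree_eq_zero_iff_eq_C.1 ((totalDegree_zero_iff_isHomogeneous τ).2 hG)
    rw [h1, eval_C] at huv
    rw [h1, coeff_C]
    split_ifs
    · rw [← huv]
      refine Ideal.add_mem _ (hI'le (by simpa using hu)) ?_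
      exact Ideal.mul_mem_left _ _ (Ideal.subset_span ⟨k, rfl⟩)
    · exact Ideal.zero_mem _
  | succ m =>
    have h1 : f k * ω ∈ I ^ (m + 1) := by
      have h2 : eval (f ∘ ι) G ∈ I' ^ (m + 1) :=
        (Ideal.mem_span_pow_iff_exists_isHomogeneous _ _).2 ⟨G, hG, rfl⟩
      have h3 : f k * ω = eval (f ∘ ι) G - u := by rw [← huv]; ring
      rw [h3]
      refine Ideal.sub_mem _ (Ideal.pow_right_mono hI'le _ h2) ?_
      exact Ideal.pow_le_pow_right (Nat.le_succ _) (Ideal.pow_right_mono hI'le _ hu)
    have h4 : ω ∈ I ^ m := mem_pow_of_gen_mul_mem f hq k m ω h1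
    obtain ⟨H, hH, rfl⟩ := (Ideal.mem_span_pow_iff_exists_isHomogeneous f ω).1 h4
    have hXH : (X k * H).IsHomogeneous (m + 1) := by
      have := (isHomogeneous_X A k).mul hH
      rwa [add_comm] at this
    have h5 := hq (m + 1) (rename ι G - X k * H) ((hG.rename_isHomogeneous).sub hXH) (by
      have : eval f (rename ι G - X k * H) = u := by
        rw [map_sub, eval_rename, map_mul, eval_X, ← huv]; ring
      rw [this]
      exact Ideal.pow_right_mono hI'le _ hu)
    rw [mem_map_C_iff] at h5
    intro d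
    have h6 := h5 (d.mapDomain ι)
    rw [coeff_sub, coeff_rename_mapDomain ι hι, coeff_X_mul'] at h6
    rw [if_neg] at h6
    · simpa using h6
    · rw [Finsupp.mem_support_iff, not_not]
      rw [Finsupp.mapDomain_of_notMem_range]
      exact hk


open RingTheory.Sequence in
theorem main_aux : ∀ (c : ℕ) (A : Type u) [CommRing A] [IsNoetherianRing A] (f : Fin c → A),
    (∀ i, f i ∈ Ring.jacobson A) → (∀ n, QRn f n) → IsWeaklyRegular A (List.ofFn f) := by
  intro c
  induction c with
  | zero =>
    intro A _ _ f _ _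
    rw [List.ofFn_zero]
    exact IsWeaklyRegular.nil A A
  | succ c ih =>
    intro A _ _ f hf hq
    have hJ : Ideal.span (Set.range f) ≤ Ideal.jacobson ⊥ := by
      rw [Ideal.span_le, Ideal.jacobson_bot]
      rintro _ ⟨i, rfl⟩
      exact hf i
    rw [List.ofFn_succ, isWeaklyRegular_cons_iff]
    refine ⟨?_, ?_⟩
    · intro a b hab
      have h1 : f 0 * (a - b) = 0 := by
        simp only [smul_eq_mul] at hab
        rw [mul_sub, hab, sub_self]
      exact sub_eq_zero.1 (eq_zero_of_gen_mul_eq_zero f hq hJ 0 _ h1)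
    · -- the quotient ring
      have hq' := qrn_quotient (0 : Fin (c + 1)) Fin.succ (Fin.succ_injective c)
        (fun j hj => ⟨j.pred hj, Fin.succ_pred j hj⟩)
        (by rintro ⟨j, hj⟩; exact Fin.succ_ne_zero j hj) f hq
      have hjac : ∀ t : Fin c, Ideal.Quotient.mk (Ideal.span {f 0}) (f t.succ) ∈
          Ring.jacobson (A ⧸ Ideal.span {f 0}) := by
        intro t
        rw [← Ideal.jacobson_bot, Ideal.mem_jacobson_bot]
        intro y
        obtain ⟨y, rfl⟩ := Ideal.Quotient.mk_surjective y
        have h1 := (Ideal.mem_jacobson_bot.1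
          (by rw [Ideal.jacobson_bot]; exact hf t.succ)) y
        have h2 := h1.map (Ideal.Quotient.mk (Ideal.span {f 0}))
        simpa using h2
      have h2 := ih (A ⧸ Ideal.span {f 0}) _ hjac hq'
      have h3 : IsWeaklyRegular (A ⧸ Ideal.span {f 0}) (List.ofFn fun i => f i.succ) := by
        apply (isWeaklyRegular_map_algebraMap_iff (A ⧸ Ideal.span {f 0})
          (A ⧸ Ideal.span {f 0}) _).1
        rw [List.map_ofFn]
        exact h2
      have h4 : (Ideal.span {f 0} : Submodule A A) = (f 0 • ⊤ : Submodule A A) := by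
        rw [← Submodule.ideal_span_singleton_smul, smul_eq_mul, Ideal.mul_top]
      exact ((Submodule.quotEquivOfEq _ _ h4).isWeaklyRegular_congr _).1 h3


/-- Case M = A: let A be a Noetherian ring and (f_i)_{1 ≤ i ≤ c} a finite sequence of elements of the
Jacobson radical of A. Then (f_i) is a regular sequence if it is quasi-regular (and conversely every
regular sequence is quasi-regular). -/
theorem result (A : Type u) [CommRing A] [IsNoetherianRing A]
    (c : ℕ) (f : Fin c → A) (hf : ∀ i, f i ∈ Ring.jacobson A) (hq : CAlgX.IsQuasiRegular f) :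
    RingTheory.Sequence.IsWeaklyRegular A (List.ofFn f) := by
  exact main_aux c A f hf (fun n P hP hev => (MvPolynomial.mem_map_C_iff).2 (hq n P hP hev))

end Groth.Agent.S5803
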