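import Groth.Statements.S6295
import Mathlib.RingTheory.Ideal.MinimalPrime.Localization
import Mathlib.RingTheory.LocalProperties.Reduced
import Mathlib.RingTheory.LocalRing.MaximalIdeal.Basic

set_option autoImplicit false
universe u
open CAlg

namespace Groth.Agent.S6295

/-- Let R be a reduced ring. Then every localization R_p at a minimal prime p is a field and the map R →
∏_{p minimal} R_p is injective (so R is a subring of a product of fields); moreover the set of
zerodivisors of R is the union of the minimal primes. -/
theorem result (R : Type u) [CommRing R] [IsReduced R] : (∀ p : PrimeSpectrum R, p.asIdeal ∈ minimalPrimes R → IsField (Localization.AtPrime p.asIdeal)) ∧ Function.Injective (algebraMap R (∀ p : {p : PrimeSpectrum R // p.asIdeal ∈ minimalPrimes R}, Localization.AtPrime p.1.asIdeal)) ∧ (∀ x : R, x ∉ nonZeroDivisors R ↔ ∃ p ∈ minimalPrimes R, x ∈ p) := by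
  have hnil : ∀ y : R, (∀ p ∈ minimalPrimes R, y ∈ p) → y = 0 := by
    intro y hy
    have h1 : y ∈ sInf (minimalPrimes R) := by
      rw [Ideal.mem_sInf]
      intro p hp
      exact hy p hp
    have h2 : sInf (minimalPrimes R) = (⊥ : Ideal R).radical := Ideal.sInf_minimalPrimes
    rw [h2] at h1
    have h3 : IsNilpotent y := by
      obtain ⟨n, hn⟩ := h1
      exact ⟨n, by simpa using hn⟩
    exact h3.eq_zero
  refine ⟨?_, ?_, ?_⟩
  · intro p hp
    have hmin : p.asIdeal ∈ (⊥ : Ideal R).minimalPrimes := hp
    have h1 := IsLocalization.AtPrime.radical_map_of_mem_minimalPrimes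
      (A := Localization.AtPrime p.asIdeal) p.asIdeal ⊥ hmin
    rw [Ideal.map_bot, IsLocalization.AtPrime.map_eq_maximalIdeal p.asIdeal
      (Localization.AtPrime p.asIdeal)] at h1
    have h2 : (⊥ : Ideal (Localization.AtPrime p.asIdeal)).radical = ⊥ := by
      have := nilradical_eq_zero (Localization.AtPrime p.asIdeal)
      exact this
    rw [h2] at h1
    exact IsLocalRing.isField_iff_maximalIdeal_eq.2 h1.symm
  · rw [injective_iff_map_eq_zero]
    intro x hx
    apply hnil
    intro q hq
    have hqprime : q.IsPrime := hq.1.1
    have h1 := congrFun hx ⟨⟨q, hqprime⟩, hq⟩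
    rw [Pi.algebraMap_apply] at h1
    change algebraMap R (Localization.AtPrime q) x = 0 at h1
    rw [IsLocalization.map_eq_zero_iff q.primeCompl] at h1
    obtain ⟨s, hs⟩ := h1
    have : (s : R) * x ∈ q := by rw [hs]; exact q.zero_mem
    exact (hqprime.mem_or_mem this).resolve_left s.2
  · intro x
    constructor
    · intro hx
      rw [mem_nonZeroDivisors_iff_right] at hx
      push Not at hx
      obtain ⟨y, hxy, hy⟩ := hx
      by_contra hcon
      push Not at hcon
      apply hy
      apply hnil
      intro p hp
      have hpprime : p.IsPrime := hp.1.1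
      have : x * y ∈ p := by rw [mul_comm, hxy]; exact p.zero_mem
      exact (hpprime.mem_or_mem this).resolve_left (hcon p hp)
    · rintro ⟨p, hp, hxp⟩
      exact notMem_nonZeroDivisors_of_mem_mem_minimalPrimes hxp hp

end Groth.Agent.S6295
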