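import Groth.Statements.S4492
import Mathlib.RingTheory.FiniteLength
import Mathlib.Algebra.Homology.ShortComplex.ModuleCat

set_option autoImplicit false
universe u
open FlatCx

namespace Groth.Agent.S4492

open CategoryTheory CategoryTheory.Limits

section modules

variable {B : Type*} [Ring B] {M₁ M₂ M₃ : Type*} [AddCommGroup M₁] [AddCommGroup M₂]
  [AddCommGroup M₃] [Module B M₁] [Module B M₂] [Module B M₃]

theorem length_mid_eq (f : M₁ →ₗ[B] M₂) (g : M₂ →ₗ[B] M₃) (H : Function.Exact f g) :
    Module.length B M₂ = Module.length B (LinearMap.range f) + Module.length B (LinearMap.range g) := by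
  have h1 : Module.length B M₂ =
      Module.length B (LinearMap.ker g) + Module.length B (LinearMap.range g) :=
    Module.length_eq_add_of_exact (LinearMap.ker g).subtype g.rangeRestrict
      (Submodule.subtype_injective _) g.surjective_rangeRestrict (by
        intro y
        constructor
        · intro hy
          have : g y = 0 := by
            have := congrArg Subtype.val hy
            simpa using this
          exact ⟨⟨y, this⟩, rfl⟩
        · rintro ⟨⟨z, hz⟩, rfl⟩
          apply Subtype.ext
          simpa using hz)
  rw [h1, (LinearMap.exact_iff.mp H)]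

theorem length_src_eq (f : M₁ →ₗ[B] M₂) :
    Module.length B M₁ = Module.length B (LinearMap.ker f) + Module.length B (LinearMap.range f) :=
  Module.length_eq_add_of_exact (LinearMap.ker f).subtype f.rangeRestrict
    (Submodule.subtype_injective _) f.surjective_rangeRestrict (by
      intro y
      constructor
      · intro hy
        have : f y = 0 := by
          have := congrArg Subtype.val hy
          simpa using this
        exact ⟨⟨y, this⟩, rfl⟩
      · rintro ⟨⟨z, hz⟩, rfl⟩
        apply Subtype.ext
        simpa using hz)

theorem length_tgt_eq (g : M₂ →ₗ[B] M₃) :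
    Module.length B M₃ =
      Module.length B (LinearMap.range g) + Module.length B (M₃ ⧸ LinearMap.range g) :=
  Module.length_eq_add_of_exact (LinearMap.range g).subtype (LinearMap.range g).mkQ
    (Submodule.subtype_injective _) (Submodule.mkQ_surjective _)
    (LinearMap.exact_subtype_mkQ _)

theorem length_le_of_exact (f : M₁ →ₗ[B] M₂) (g : M₂ →ₗ[B] M₃) (H : Function.Exact f g) :
    Module.length B M₂ ≤ Module.length B M₁ + Module.length B M₃ := by
  rw [length_mid_eq f g H, length_src_eq f, length_tgt_eq g]
  calc Module.length B (LinearMap.range f) + Module.length B (LinearMap.range g)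
      ≤ (Module.length B (LinearMap.ker f) + Module.length B (LinearMap.range f)) +
          Module.length B (LinearMap.range g) := by gcongr; exact le_add_self
    _ ≤ _ := by gcongr; exact le_self_add

theorem length_eq_iff_of_exact (f : M₁ →ₗ[B] M₂) (g : M₂ →ₗ[B] M₃) (H : Function.Exact f g)
    (h1 : Module.length B M₁ ≠ ⊤) (h3 : Module.length B M₃ ≠ ⊤) :
    Module.length B M₂ = Module.length B M₁ + Module.length B M₃ ↔
      Function.Injective f ∧ Function.Surjective g := by
  constructor
  · intro h
    rw [length_mid_eq f g H, length_src_eq f, length_tgt_eq g] at h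
    rw [length_src_eq f] at h1
    rw [length_tgt_eq g] at h3
    have hk : Module.length B (LinearMap.ker f) ≠ ⊤ := fun h' => h1 (by rw [h', top_add])
    have hr : Module.length B (LinearMap.range f) ≠ ⊤ := fun h' => h1 (by rw [h', add_top])
    have hr' : Module.length B (LinearMap.range g) ≠ ⊤ := fun h' => h3 (by rw [h', top_add])
    have hc : Module.length B (M₃ ⧸ LinearMap.range g) ≠ ⊤ := fun h' => h3 (by rw [h', add_top])
    obtain ⟨k, hk'⟩ := ENat.ne_top_iff_exists.mp hk
    obtain ⟨r, hr1⟩ := ENat.ne_top_iff_exists.mp hr
    obtain ⟨r', hr2⟩ := ENat.ne_top_iff_exists.mp hr'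
    obtain ⟨c, hc'⟩ := ENat.ne_top_iff_exists.mp hc
    rw [← hk', ← hr1, ← hr2, ← hc'] at h
    have h' : r + r' = (k + r) + (r' + c) := by exact_mod_cast h
    have hk0 : k = 0 := by omega
    have hc0 : c = 0 := by omega
    constructor
    · rw [← LinearMap.ker_eq_bot]
      have : Module.length B (LinearMap.ker f) = 0 := by rw [← hk', hk0]; rfl
      rw [Module.length_eq_zero_iff] at this
      exact Submodule.eq_bot_of_subsingleton
    · rw [← LinearMap.range_eq_top]
      have : Module.length B (M₃ ⧸ LinearMap.range g) = 0 := by rw [← hc', hc0]; rfl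
      rw [Module.length_eq_zero_iff] at this
      exact Submodule.Quotient.subsingleton_iff.mp this
  · rintro ⟨hi, hs⟩
    exact Module.length_eq_add_of_exact f g hi hs H

end modules

variable {A B : Type u} [Ring A] [Ring B]

theorem exact_map (F : ModuleCat.{u} A ⥤ ModuleCat.{u} B) [F.Additive]
    (hF : ∀ S : ShortComplex (ModuleCat.{u} A), S.ShortExact → (S.map F).Exact)
    (S : ShortComplex (ModuleCat.{u} A)) (hS : S.ShortExact) :
    Function.Exact (F.map S.f).hom (F.map S.g).hom :=
  (ShortComplex.ShortExact.moduleCat_exact_iff_function_exact (S.map F)).mp (hF S hS)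

theorem finite_aux (F : ModuleCat.{u} A ⥤ ModuleCat.{u} B) [F.Additive]
    (hF : ∀ S : ShortComplex (ModuleCat.{u} A), S.ShortExact → (S.map F).Exact)
    (hS : ∀ M : ModuleCat.{u} A, IsSimpleModule A M → Module.length B (F.obj M) ≠ ⊤) :
    ∀ (n : ℕ) (E : ModuleCat.{u} A), Module.length A E = n → Module.length B (F.obj E) ≠ ⊤ := by
  intro n
  induction n using Nat.strong_induction_on with
  | _ n ih =>
    intro E hE
    by_cases hsub : Subsingleton E
    · have hz : IsZero E := ModuleCat.isZero_of_subsingleton E
      have hz' : IsZero (F.obj E) := F.map_isZero hz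
      have := ModuleCat.subsingleton_of_isZero hz'
      rw [Module.length_eq_zero]
      exact ENat.zero_ne_top
    · rw [not_subsingleton_iff_nontrivial] at hsub
      have hfin : IsFiniteLength A E := by
        rw [← Module.length_ne_top_iff, hE]; exact ENat.natCast_ne_top n
      obtain ⟨hnoeth, hart⟩ := isFiniteLength_iff_isNoetherian_isArtinian.mp hfin
      obtain ⟨N, hN⟩ : ∃ N : Submodule A E, IsAtom N := by
        have : IsAtomic (Submodule A E) :=
          isAtomic_of_orderBot_wellFounded_lt (wellFounded_lt (α := Submodule A E))
        obtain h | ⟨N, hN, -⟩ := eq_bot_or_exists_atom_le (⊤ : Submodule A E)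
        · exact absurd h top_ne_bot
        · exact ⟨N, hN⟩
      have hsimple : IsSimpleModule A N := isSimpleModule_iff_isAtom.mpr hN
      let S : ShortComplex (ModuleCat.{u} A) :=
        ShortComplex.mk (ModuleCat.ofHom N.subtype) (ModuleCat.ofHom N.mkQ) (by
          ext x
          simp)
      have hSE : S.ShortExact := ModuleCat.shortComplex_shortExact S
        (LinearMap.exact_subtype_mkQ N) (Submodule.subtype_injective N) (Submodule.mkQ_surjective N)
      have hex := exact_map F hF S hSE
      have hle := length_le_of_exact _ _ hex
      have h1 : Module.length B (F.obj (ModuleCat.of A N)) ≠ ⊤ := hS _ hsimple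
      have hlt : Module.length A (E ⧸ N) < Module.length A E :=
        Submodule.length_quotient_lt N hN.1
      have hq : Module.length A (E ⧸ N) ≠ ⊤ := ne_top_of_lt hlt
      obtain ⟨m, hm⟩ := ENat.ne_top_iff_exists.mp hq
      have hmn : m < n := by
        rw [hE, ← hm] at hlt
        exact_mod_cast hlt
      have h3 : Module.length B (F.obj (ModuleCat.of A (E ⧸ N))) ≠ ⊤ :=
        ih m hmn (ModuleCat.of A (E ⧸ N)) hm.symm
      intro htop
      rw [htop, top_le_iff] at hle
      exact WithTop.add_ne_top.mpr ⟨h1, h3⟩ hle

open CategoryTheory CategoryTheory.Limits in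
/-- (The published statement is for arbitrary abelian categories; this row is for functors between
module categories.) Let F be an additive functor from A-modules to B-modules which is half exact
(every short exact sequence 0 → E' → E → E'' → 0 goes to a sequence F(E') → F(E) → F(E'') exact at
the middle) and such that F(S) has finite length for every simple A-module S. Then F(E) has finite
length for every A-module E of finite length; and for every short exact sequence 0 → E' → E → E'' →
0 of A-modules with E of finite length one has length F(E) ≤ length F(E') + length F(E''), with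
equality if and only if 0 → F(E') → F(E) → F(E'') → 0 is (short) exact. Lengths are Mathlib's,
valued in ℕ∞. -/
theorem result {A B : Type u} [Ring A] [Ring B]
    (F : ModuleCat.{u} A ⥤ ModuleCat.{u} B) [F.Additive]
    (hF : ∀ S : ShortComplex (ModuleCat.{u} A), S.ShortExact → (S.map F).Exact)
    (hS : ∀ M : ModuleCat.{u} A, IsSimpleModule A M → Module.length B (F.obj M) ≠ ⊤) :
    (∀ E : ModuleCat.{u} A, Module.length A E ≠ ⊤ → Module.length B (F.obj E) ≠ ⊤) ∧
      ∀ S : ShortComplex (ModuleCat.{u} A), S.ShortExact → Module.length A S.X₂ ≠ ⊤ →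
        Module.length B (F.obj S.X₂) ≤ Module.length B (F.obj S.X₁) + Module.length B (F.obj S.X₃) ∧
          (Module.length B (F.obj S.X₂) = Module.length B (F.obj S.X₁) + Module.length B (F.obj S.X₃) ↔
            (S.map F).ShortExact) := by
  have part1 : ∀ E : ModuleCat.{u} A, Module.length A E ≠ ⊤ → Module.length B (F.obj E) ≠ ⊤ := by
    intro E hE
    obtain ⟨n, hn⟩ := ENat.ne_top_iff_exists.mp hE
    exact finite_aux F hF hS n E hn.symm
  refine ⟨part1, ?_⟩
  intro S hSE hfin
  have hex := exact_map F hF S hSE
  have hadd : Module.length A S.X₂ = Module.length A S.X₁ + Module.length A S.X₃ :=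
    Module.length_eq_add_of_exact S.f.hom S.g.hom hSE.moduleCat_injective_f
      hSE.moduleCat_surjective_g
      ((ShortComplex.ShortExact.moduleCat_exact_iff_function_exact S).mp hSE.exact)
  have hX1 : Module.length A S.X₁ ≠ ⊤ := fun h' => hfin (by rw [hadd, h', top_add])
  have hX3 : Module.length A S.X₃ ≠ ⊤ := fun h' => hfin (by rw [hadd, h', add_top])
  refine ⟨length_le_of_exact _ _ hex, ?_⟩
  rw [length_eq_iff_of_exact _ _ hex (part1 _ hX1) (part1 _ hX3)]
  constructor
  · rintro ⟨hi, hs⟩
    exact ModuleCat.shortComplex_shortExact (S.map F) hex hi hs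
  · intro h
    exact ⟨h.moduleCat_injective_f, h.moduleCat_surjective_g⟩

end Groth.Agent.S4492
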