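import Groth.Statements.S7402
-- import your own Groth.Agent.* helpers here
import Groth.Agent.Lib.UHGenH52

set_option autoImplicit false
universe u
open CategoryTheory AlgebraicGeometry
open Polynomial
open Mor

namespace Groth.Agent.S7402

/-- Let `A` be a ring and `x, y ∈ A` with `x^3 = y^2`. Then `A → B = A[t]/(t^2 - x, t^3 - y)` induces a
universal homeomorphism on spectra and isomorphisms on residue fields. -/
theorem result (A : Type u) [CommRing A] (x y : A) (h : x ^ 3 = y ^ 2) :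
    FlatMor.IsUnivHomeo (Spec.map (CommRingCat.ofHom (algebraMap A
      (A[X] ⧸ Ideal.span ({X ^ 2 - C x, X ^ 3 - C y} : Set A[X]))))) ∧
    ∀ q : Spec (CommRingCat.of (A[X] ⧸ Ideal.span ({X ^ 2 - C x, X ^ 3 - C y} : Set A[X]))),
      Function.Surjective ((Spec.map (CommRingCat.ofHom (algebraMap A
        (A[X] ⧸ Ideal.span ({X ^ 2 - C x, X ^ 3 - C y} : Set A[X]))))).residueFieldMap q) := by
  set I := Ideal.span ({X ^ 2 - C x, X ^ 3 - C y} : Set A[X]) with hI
  have ht2 : (Ideal.Quotient.mk I X) ^ 2 = algebraMap A (A[X] ⧸ I) x := by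
    rw [← map_pow, ← sub_eq_zero]
    change Ideal.Quotient.mk I (X ^ 2) - Ideal.Quotient.mk I (C x) = 0
    rw [← map_sub, Ideal.Quotient.eq_zero_iff_mem]
    exact Ideal.subset_span (by simp)
  have ht3 : (Ideal.Quotient.mk I X) ^ 3 = algebraMap A (A[X] ⧸ I) y := by
    rw [← map_pow, ← sub_eq_zero]
    change Ideal.Quotient.mk I (X ^ 3) - Ideal.Quotient.mk I (C y) = 0
    rw [← map_sub, Ideal.Quotient.eq_zero_iff_mem]
    exact Ideal.subset_span (by simp)
  have hex : Groth.Agent.Lib.UHTowerH52.Exhausts A (A[X] ⧸ I) Groth.Agent.Lib.UHTowerH52.Step23 := by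
    apply Groth.Agent.Lib.UHTowerH52.exhausts_of_adjoin Groth.Agent.Lib.UHTowerH52.step23_mono
      {Ideal.Quotient.mk I X} (Groth.Agent.Lib.UHGenH52.adjoin_mk_X_eq_top I)
    intro b hb
    rw [Set.mem_singleton_iff] at hb
    subst hb
    refine ⟨?_, ?_⟩
    · rw [ht2]; exact Subalgebra.algebraMap_mem _ _
    · rw [ht3]; exact Subalgebra.algebraMap_mem _ _
  rw [Groth.Agent.Lib.UHRingH52.isUnivHomeo_iff, Groth.Agent.Lib.UHRingH52.resSurj_iff]
  refine ⟨Groth.Agent.Lib.UHGenH52.isUH_of_exhausts_of_lift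
    (Groth.Agent.Lib.UHTowerH52.exhausts_of_le (fun C b hb => Or.inl hb) hex) ?_,
    Groth.Agent.Lib.UHTowerH52.resTriv_of_exhausts hex⟩
  intro L _ _ f
  have hxy : f x ^ 3 = f y ^ 2 := by rw [← map_pow, ← map_pow, h]
  by_cases hx : f x = 0
  · have hy : f y = 0 := by
      rw [hx, zero_pow (by norm_num)] at hxy
      exact (pow_eq_zero_iff (by norm_num)).mp hxy.symm
    obtain ⟨g, hg, -⟩ := Groth.Agent.Lib.UHGenH52.exists_lift
      ({X ^ 2 - C x, X ^ 3 - C y} : Set A[X]) f 0 (by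
        intro s hs
        rw [Set.mem_insert_iff, Set.mem_singleton_iff] at hs
        rcases hs with rfl | rfl
        · rw [eval₂_sub, eval₂_pow, eval₂_X, eval₂_C, hx]; norm_num
        · rw [eval₂_sub, eval₂_pow, eval₂_X, eval₂_C, hy]; norm_num)
    exact ⟨g, hg⟩
  · obtain ⟨g, hg, -⟩ := Groth.Agent.Lib.UHGenH52.exists_lift
      ({X ^ 2 - C x, X ^ 3 - C y} : Set A[X]) f (f y / f x) (by
        intro s hs
        rw [Set.mem_insert_iff, Set.mem_singleton_iff] at hs
        rcases hs with rfl | rfl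
        · rw [eval₂_sub, eval₂_pow, eval₂_X, eval₂_C, sub_eq_zero, div_pow,
            div_eq_iff (pow_ne_zero 2 hx), ← hxy]
          ring
        · rw [eval₂_sub, eval₂_pow, eval₂_X, eval₂_C, sub_eq_zero, div_pow,
            div_eq_iff (pow_ne_zero 3 hx), hxy]
          ring)
    exact ⟨g, hg⟩

end Groth.Agent.S7402
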