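import Groth.Statements.S7403
-- import your own Groth.Agent.* helpers here
import Groth.Agent.Lib.UHGenH52

set_option autoImplicit false
universe u
open CategoryTheory AlgebraicGeometry
open Polynomial
open Mor

namespace Groth.Agent.S7403

/-- Let `A` be a ring, `p` a prime number and `x, y ∈ A` with `p^p x = y^p`. Then `A → B = A[t]/(t^p -
x, p t - y)` induces a universal homeomorphism on spectra. -/
theorem result (A : Type u) [CommRing A] (p : ℕ) (hp : p.Prime) (x y : A)
    (h : (p : A) ^ p * x = y ^ p) :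
    FlatMor.IsUnivHomeo (Spec.map (CommRingCat.ofHom (algebraMap A
      (A[X] ⧸ Ideal.span ({X ^ p - C x, C (p : A) * X - C y} : Set A[X]))))) := by
  set I := Ideal.span ({X ^ p - C x, C (p : A) * X - C y} : Set A[X]) with hI
  have ht1 : (p : A[X] ⧸ I) * (Ideal.Quotient.mk I X) = algebraMap A (A[X] ⧸ I) y := by
    have hpc : (p : A[X] ⧸ I) = Ideal.Quotient.mk I (C (p : A)) := by
      rw [map_natCast C, map_natCast]
    rw [hpc, ← map_mul, ← sub_eq_zero]
    change Ideal.Quotient.mk I (C (p : A) * X) - Ideal.Quotient.mk I (C y) = 0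
    rw [← map_sub, Ideal.Quotient.eq_zero_iff_mem]
    exact Ideal.subset_span (by simp)
  have ht2 : (Ideal.Quotient.mk I X) ^ p = algebraMap A (A[X] ⧸ I) x := by
    rw [← map_pow, ← sub_eq_zero]
    change Ideal.Quotient.mk I (X ^ p) - Ideal.Quotient.mk I (C x) = 0
    rw [← map_sub, Ideal.Quotient.eq_zero_iff_mem]
    exact Ideal.subset_span (by simp)
  have hex : Groth.Agent.Lib.UHTowerH52.Exhausts A (A[X] ⧸ I) Groth.Agent.Lib.UHTowerH52.StepAny := by
    apply Groth.Agent.Lib.UHTowerH52.exhausts_of_adjoin Groth.Agent.Lib.UHTowerH52.stepAny_mono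
      {Ideal.Quotient.mk I X} (Groth.Agent.Lib.UHGenH52.adjoin_mk_X_eq_top I)
    intro b hb
    rw [Set.mem_singleton_iff] at hb
    subst hb
    refine Or.inr ⟨p, hp, ?_, ?_⟩
    · rw [ht1]; exact Subalgebra.algebraMap_mem _ _
    · rw [ht2]; exact Subalgebra.algebraMap_mem _ _
  rw [Groth.Agent.Lib.UHRingH52.isUnivHomeo_iff]
  refine Groth.Agent.Lib.UHGenH52.isUH_of_exhausts_of_lift hex ?_
  intro L _ _ f
  have hxy : (p : L) ^ p * f x = f y ^ p := by
    rw [← map_natCast f, ← map_pow, ← map_pow, ← map_mul, h]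
  by_cases hp0 : (p : L) = 0
  · have hy : f y = 0 := by
      rw [hp0, zero_pow hp.ne_zero, zero_mul] at hxy
      exact (pow_eq_zero_iff hp.ne_zero).mp hxy.symm
    obtain ⟨τ, hτ⟩ := IsAlgClosed.exists_pow_nat_eq (f x) hp.pos
    obtain ⟨g, hg, -⟩ := Groth.Agent.Lib.UHGenH52.exists_lift
      ({X ^ p - C x, C (p : A) * X - C y} : Set A[X]) f τ (by
        intro s hs
        rw [Set.mem_insert_iff, Set.mem_singleton_iff] at hs
        rcases hs with rfl | rfl
        · rw [eval₂_sub, eval₂_pow, eval₂_X, eval₂_C, hτ, sub_self]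
        · rw [eval₂_sub, eval₂_mul, eval₂_X, eval₂_C, eval₂_C, map_natCast, hp0, hy, zero_mul,
            sub_self])
    exact ⟨g, hg⟩
  · obtain ⟨g, hg, -⟩ := Groth.Agent.Lib.UHGenH52.exists_lift
      ({X ^ p - C x, C (p : A) * X - C y} : Set A[X]) f (f y / (p : L)) (by
        intro s hs
        rw [Set.mem_insert_iff, Set.mem_singleton_iff] at hs
        rcases hs with rfl | rfl
        · rw [eval₂_sub, eval₂_pow, eval₂_X, eval₂_C, sub_eq_zero, div_pow,
            div_eq_iff (pow_ne_zero p hp0), ← hxy]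
          ring
        · rw [eval₂_sub, eval₂_mul, eval₂_X, eval₂_C, eval₂_C, map_natCast, mul_div_cancel₀ _ hp0,
            sub_self])
    exact ⟨g, hg⟩

end Groth.Agent.S7403
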