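import Groth.Statements.S7420
import Groth.Agent.Lib.Seminormal

set_option autoImplicit false
universe u
open CategoryTheory AlgebraicGeometry
open HTop

namespace Groth.Agent.S7420

/-- A ring property that respects ring isomorphisms, localizes, and is local on a finite standard
cover holds on every affine open of a scheme as soon as every point has an affine open
neighbourhood on which it holds. -/
lemma affine_local (Q : ∀ (R : Type u) [CommRing R], Prop)
    (hequiv : ∀ (R R' : Type u) [CommRing R] [CommRing R'], (R ≃+* R') → Q R → Q R')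
    (hloc : ∀ (R : Type u) [CommRing R] (M : Submonoid R) (S : Type u) [CommRing S] [Algebra R S]
      [IsLocalization M S], Q R → Q S)
    (hspan : ∀ (R : Type u) [CommRing R] (s : Finset R), Ideal.span (s : Set R) = ⊤ →
      (∀ f ∈ s, Q (Localization.Away f)) → Q R)
    (X : Scheme.{u}) :
    (∀ x : X, ∃ U : X.affineOpens, x ∈ (U : X.Opens) ∧ Q Γ(X, U)) ↔
      ∀ U : X.affineOpens, Q Γ(X, U) := by
  constructor
  · intro h V
    choose U hxU hU using h
    refine of_affine_open_cover (P := fun W => Q Γ(X, W)) U ?_ V ?_ ?_ hU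
    · rw [eq_top_iff]
      intro x _
      exact TopologicalSpace.Opens.mem_iSup.mpr ⟨x, hxU x⟩
    · intro W f hW
      have := W.2.isLocalization_basicOpen f
      exact hloc Γ(X, W) (Submonoid.powers f) Γ(X, X.basicOpen f) hW
    · intro W s hs hW
      apply hspan Γ(X, W) s hs
      intro f hf
      have := W.2.isLocalization_basicOpen f
      exact hequiv _ _ (IsLocalization.algEquiv (Submonoid.powers f) Γ(X, X.basicOpen f)
        (Localization.Away f)).toRingEquiv (hW ⟨f, hf⟩)
  · intro h x
    obtain ⟨W, hW, hxW, -⟩ := exists_isAffineOpen_mem_and_subset (x := x) (U := ⊤) trivial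
    exact ⟨⟨W, hW⟩, hxW, h ⟨W, hW⟩⟩

/-- A scheme `X` is seminormal if and only if `O_X(U)` is seminormal for every affine open `U ⊆ X`; the
same holds with 'seminormal' replaced by 'absolutely weakly normal'. -/
theorem result (X : Scheme.{u}) :
    (HTop.IsSeminormal X ↔ ∀ U : X.affineOpens, HTop.IsSeminormalRing Γ(X, U)) ∧
    (HTop.IsAWN X ↔ ∀ U : X.affineOpens, HTop.IsAWNRing Γ(X, U)) := by
  constructor
  · exact affine_local (fun R _ => HTop.IsSeminormalRing R)
      (fun R R' _ _ e h => Groth.Agent.Lib.Seminormal.isSeminormalRing_of_ringEquiv e h)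
      (fun R _ M S _ _ _ h => Groth.Agent.Lib.Seminormal.isSeminormalRing_of_isLocalization M S h)
      (fun R _ s hs h => Groth.Agent.Lib.Seminormal.isSeminormalRing_of_span s hs h) X
  · exact affine_local (fun R _ => HTop.IsAWNRing R)
      (fun R R' _ _ e h => Groth.Agent.Lib.Seminormal.isAWNRing_of_ringEquiv e h)
      (fun R _ M S _ _ _ h => Groth.Agent.Lib.Seminormal.isAWNRing_of_isLocalization M S h)
      (fun R _ s hs h => Groth.Agent.Lib.Seminormal.isAWNRing_of_span s hs h) X

end Groth.Agent.S7420
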