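import Groth.Statements.S1423
import Groth.Agent.Lib.WeightCons34D

set_option autoImplicit false
universe u
open FlatMor

namespace Groth.Agent.S1423


open AlgebraicGeometry CategoryTheory Limits Topology Groth.Agent.Lib.Weight34 in
set_option maxHeartbeats 1600000 in
/-- the affine case -/
theorem aux {X Y : Scheme.{u}} [IsAffine X] (f : X ⟶ Y) [LocallyQuasiFinite f]
    [LocallyOfFiniteType f] (w : ↑X → ℤ) (hw : MoreMor.IsWeighting f w) (n : ℤ) :
    Topology.IsLocallyConstructible {x : ↑X | w x = n} := by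
  intro x₀
  -- étale local structure at `x₀`
  obtain ⟨V, gV, v, hgV, hgv, k, B, bpt, HB, -, hcov⟩ :=
    Groth.Agent.Lib.EtLocQF.exists_etaleNbhd_purelyInseparable f (f x₀) (fun _ : Unit => x₀)
      (fun _ => rfl) (fun _ => f.quasiFiniteAt x₀)
  obtain ⟨z₀, hz₀1, hz₀2⟩ := Scheme.Pullback.exists_preimage_pullback (f := f) (g := gV) x₀ v
    hgv.symm
  obtain ⟨m, hm⟩ := hcov z₀ hz₀2 ⟨(), hz₀1⟩
  obtain ⟨hmem, hBfin, hsnd, -, -, -, -⟩ := HB m
  haveI := hBfin
  -- shrink to an affine open of `V`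
  obtain ⟨_, ⟨(V' : V.Opens), (hV'aff : IsAffineOpen V'), rfl⟩, hvV', -⟩ :=
    V.isBasis_affineOpens.exists_subset_of_mem_open (Set.mem_univ v) isOpen_univ
  haveI : IsAffine (V' : Scheme.{u}) := hV'aff
  let ρ : ((B m : (pullback f gV).Opens) : Scheme.{u}) ⟶ V := (B m).ι ≫ pullback.snd f gV
  let π : ((ρ ⁻¹ᵁ V' : (B m : Scheme.{u}).Opens) : Scheme.{u}) ⟶ (V' : Scheme.{u}) := ρ ∣_ V'
  let c : ((ρ ⁻¹ᵁ V' : (B m : Scheme.{u}).Opens) : Scheme.{u}) ⟶ X :=
    (ρ ⁻¹ᵁ V').ι ≫ (B m).ι ≫ pullback.fst f gV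
  haveI : IsFinite π := inferInstanceAs (IsFinite (ρ ∣_ V'))
  haveI : IsAffine ((ρ ⁻¹ᵁ V' : (B m : Scheme.{u}).Opens) : Scheme.{u}) := isAffine_of_isAffineHom π
  -- the weighting on the chart
  have hw1 : MoreMor.IsWeighting (pullback.snd f gV) (fun z => w (pullback.fst f gV z)) :=
    isWeighting_of_isPullback f w hw (pullback.snd f gV) (pullback.fst f gV) gV
      (IsPullback.of_hasPullback f gV)
  have hw2 : MoreMor.IsWeighting ρ (fun b => w (pullback.fst f gV ((B m).ι b))) :=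
    isWeighting_comp_openImmersion (B m).ι (pullback.snd f gV) _ hw1
  have hw3 : MoreMor.IsWeighting π (fun b => w (c b)) :=
    isWeighting_of_isPullback ρ _ hw2 π (ρ ⁻¹ᵁ V').ι V'.ι
      (isPullback_morphismRestrict ρ V').flip
  have hP := patchLocConst_of_isFinite π _ hw3
  have hcons := hP.isConstructible_setOf_eq n
  -- push forward to `X`
  have himg : IsConstructible (c '' {b | w (c b) = n}) := c.isConstructible_image hcons
  have hopen : IsOpen (Set.range c) := c.isOpenMap.isOpen_range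
  have hx₀ : x₀ ∈ Set.range c := by
    have hz₀B : z₀ ∈ B m := hm ▸ hmem
    refine ⟨⟨⟨z₀, hz₀B⟩, ?_⟩, ?_⟩
    · show ρ ⟨z₀, hz₀B⟩ ∈ V'
      have : ρ ⟨z₀, hz₀B⟩ = v := hz₀2
      rw [this]
      exact hvV'
    · exact hz₀1
  have hset : {x : ↑X | w x = n} ∩ Set.range c = c '' {b | w (c b) = n} := by
    ext x
    constructor
    · rintro ⟨hx, b, rfl⟩
      exact ⟨b, hx, rfl⟩
    · rintro ⟨b, hb, rfl⟩
      exact ⟨hb, b, rfl⟩
  refine ⟨Set.range c, hopen.mem_nhds hx₀, hopen, ?_⟩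
  rw [← hset] at himg
  have := himg.preimage_of_isOpenEmbedding hopen.isOpenEmbedding_subtypeVal
  rwa [Subtype.preimage_coe_inter_self] at this

open AlgebraicGeometry CategoryTheory Limits in
/-- Let f be locally quasi-finite and w a weighting of f. Then every level set of w is locally
constructible in X. -/
theorem result {X Y : Scheme.{u}} (f : X ⟶ Y) [LocallyQuasiFinite f] [LocallyOfFiniteType f] (w : ↑X → ℤ) (hw : MoreMor.IsWeighting f w) (n : ℤ) :
    Topology.IsLocallyConstructible {x : ↑X | w x = n} := by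
  refine Topology.IsLocallyConstructible.of_isOpenCover (U := fun V : X.affineOpens => (V : X.Opens))
    (iSup_affineOpens_eq_top X) fun X₀ => ?_
  haveI : IsAffine (X₀ : X.Opens).toScheme := X₀.2
  have hw0 : MoreMor.IsWeighting ((X₀ : X.Opens).ι ≫ f) (fun x => w ((X₀ : X.Opens).ι x)) :=
    Groth.Agent.Lib.Weight34.isWeighting_comp_openImmersion (X₀ : X.Opens).ι f w hw
  exact aux ((X₀ : X.Opens).ι ≫ f) _ hw0 n

end Groth.Agent.S1423
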