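import Groth.Statements.S0014
import Groth.Agent.Lib.SerreCrit13b
import Groth.Agent.Lib.H90QCohSection
import Groth.Agent.Lib.H90CohSum
import Groth.Agent.S10848

set_option autoImplicit false
universe u
open Coherent

namespace Groth.Agent.S0014

section aux

open CategoryTheory CategoryTheory.Limits AlgebraicGeometry TopologicalSpace Opposite
open AlgebraicGeometry.Scheme AlgebraicGeometry.Scheme.Modules
open Groth.Agent.Lib.QCohStalk Groth.Agent.Lib.H90OXModQcqs Groth.Agent.Lib.StructureModule
  Groth.Agent.Lib.H90OXModSections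

variable {X : Scheme.{u}}

/-- A finite cover of a compact open by affine opens, indexed by `Fin n`. -/
theorem exists_fin_affine_cover (U : X.Opens) (hU : IsCompact (U : Set X)) :
    ∃ (n : ℕ) (V : Fin n → X.Opens), (∀ l, IsAffineOpen (V l)) ∧ (∀ l, V l ≤ U) ∧ U ≤ ⨆ l, V l := by
  obtain ⟨s, hs, hcov⟩ := (isCompact_iff_finite_and_eq_biUnion_affineOpens (U := U)).mp hU
  have : Finite s := hs
  obtain ⟨n, ⟨e⟩⟩ := Finite.exists_equiv_fin s
  refine ⟨n, fun l => ((e.symm l : s) : X.affineOpens).1, fun l => ((e.symm l : s) : X.affineOpens).2,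
    fun l => ?_, ?_⟩
  · rw [hcov]
    exact le_iSup₂ (f := fun (i : X.affineOpens) (_ : i ∈ s) => (i : X.Opens)) _ (e.symm l).2
  · rw [hcov]
    refine iSup₂_le fun i hi => ?_
    have : ((e.symm (e ⟨i, hi⟩) : s) : X.affineOpens).1 = i.1 := by simp
    rw [← this]
    exact le_iSup (fun l => ((e.symm l : s) : X.affineOpens).1) _

/-- Key step: on a qcqs scheme where `H¹` of finite type quasi-coherent ideals vanishes, every
epimorphism from the structure sheaf onto a quasi-coherent module is surjective on global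
sections. -/
theorem surjective_app_top [CompactSpace X] [QuasiSeparatedSpace X]
    (h : ∀ (I : X.Modules) (i : I ⟶ Coh.structureModule X), Mono i →
      Coh.IsQCoh I → CohB1.IsFT I → Subsingleton (Coh.HH X I 1))
    (Q : X.Modules) (π : Coh.structureModule X ⟶ Q) (hπ : Epi π) (hQ : Q.IsQuasicoherent) :
    Function.Surjective (π.app ⊤) := by
  classical
  intro t
  have hO := isQuasicoherent_structureModule X
  have hJ : (kernel π).IsQuasicoherent := Groth.Agent.Lib.QCohKernel13.isQuasicoherent_kernel π
  -- the short exact sequence `0 → J → O → Q → 0`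
  have hS : (ShortComplex.mk (kernel.ι π) π (kernel.condition π)).ShortExact := by
    have h1 : Mono (kernel.ι π) := inferInstance
    exact ShortComplex.ShortExact.mk'
      (ShortComplex.exact_of_f_is_kernel _ (kernelIsKernel _)) h1 hπ
  -- finite affine cover
  obtain ⟨n, V, hV, -, hcov⟩ := exists_fin_affine_cover (⊤ : X.Opens) (by simpa using isCompact_univ)
  -- local lifts
  have hlift : ∀ l, ∃ a : Γ(Coh.structureModule X, V l), π.app (V l) a = res Q le_top t := fun l =>
    Groth.Agent.Lib.SerreCrit13.surjective_app_of_isAffineOpen hS hJ (hV l) _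
  choose a ha using hlift
  -- finite affine covers of the overlaps
  have hov : ∀ p : Fin n × Fin n, ∃ (m : ℕ) (W : Fin m → X.Opens), (∀ k, IsAffineOpen (W k)) ∧
      (∀ k, W k ≤ V p.1 ⊓ V p.2) ∧ V p.1 ⊓ V p.2 ≤ ⨆ k, W k := fun p =>
    exists_fin_affine_cover (V p.1 ⊓ V p.2)
      (QuasiSeparatedSpace.inter_isCompact _ _ (V p.1).isOpen (hV p.1).isCompact (V p.2).isOpen
        (hV p.2).isCompact)
  choose m W hW hWle hWcov using hov
  -- the differences lie in the kernel
  have hdiff : ∀ (p : Fin n × Fin n) (k : Fin (m p)), ∃ e : Γ(kernel π, W p k),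
      (kernel.ι π).app (W p k) e =
        res (Coh.structureModule X) ((hWle p k).trans inf_le_left) (a p.1) -
          res (Coh.structureModule X) ((hWle p k).trans inf_le_right) (a p.2) := by
    intro p k
    apply Groth.Agent.Lib.QCohKernel13.exists_kernel_ι_app_eq
    rw [map_sub, Groth.Agent.Lib.H1Lift13.app_res, Groth.Agent.Lib.H1Lift13.app_res, ha, ha,
      res_res, res_res, sub_self]
  choose e he using hdiff
  -- finite type quasi-coherent subsheaves through the differences
  have hsub : ∀ (τ : Σ p : Fin n × Fin n, Fin (m p)), ∃ (G' : X.Modules) (i' : G' ⟶ kernel π),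
      Mono i' ∧ G'.IsQuasicoherent ∧ CohB1.IsFT G' ∧
        ∃ g : Γ(G', W τ.1 τ.2), i'.app (W τ.1 τ.2) g = e τ.1 τ.2 := by
    intro τ
    refine Groth.Agent.Lib.H90QCohSection.exists_subsheaf_through_section (kernel π)
      (hW τ.1 τ.2) (e τ.1 τ.2) ?_
    intro G i _ _ hG
    exact Groth.Agent.S10848.result (W τ.1 τ.2) (hW τ.1 τ.2).isCompact (kernel π) G hG i
  choose G iG hGmono hGq hGft g hg using hsub
  obtain ⟨E, iE, hEmono, hEcoh, hfac⟩ :=
    Groth.Agent.Lib.H90CohSum.exists_coh_sum (kernel π) G iG (fun τ => ⟨hGq τ, hGft τ⟩)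
  choose l hl using hfac
  -- the finite type ideal and its quotient
  let i' : E ⟶ Coh.structureModule X := iE ≫ kernel.ι π
  have hi' : Mono i' := mono_comp _ _
  have hH := h E i' hi' hEcoh.1 hEcoh.2
  have hS' : (ShortComplex.mk i' (cokernel.π i') (cokernel.condition i')).ShortExact := by
    have h2 : Epi (cokernel.π i') := inferInstance
    exact ShortComplex.ShortExact.mk'
      (ShortComplex.exact_of_g_is_cokernel _ (cokernelIsCokernel _)) hi' h2
  have hsurj : Function.Surjective ((cokernel.π i').app ⊤) :=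
    Groth.Agent.Lib.H1Lift13.surjective_app_top_of_shortExact hS' hH
  have hi'π : i' ≫ π = 0 := by
    change (iE ≫ kernel.ι π) ≫ π = 0
    rw [Category.assoc, kernel.condition, comp_zero]
  let q : cokernel i' ⟶ Q := cokernel.desc i' π hi'π
  have hq : cokernel.π i' ≫ q = π := cokernel.π_desc _ _ _
  have hqapp : ∀ (U : X.Opens) (x : Γ(Coh.structureModule X, U)),
      q.app U ((cokernel.π i').app U x) = π.app U x := by
    intro U x
    have : (cokernel.π i' ≫ q).app U x = π.app U x := by rw [hq]
    exact this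
  have hzero : ∀ (U : X.Opens) (x : Γ(E, U)), (cokernel.π i').app U (i'.app U x) = 0 := by
    intro U x
    have : (i' ≫ cokernel.π i').app U x = 0 := by rw [cokernel.condition]; rfl
    exact this
  -- glue the images of the local lifts
  obtain ⟨t', ht'⟩ := exists_glue (cokernel i') ⊤ V (fun _ => le_top) hcov
    (fun l => (cokernel.π i').app (V l) (a l)) (by
      intro l₁ l₂
      apply res_ext (cokernel i') (V l₁ ⊓ V l₂) (W (l₁, l₂)) (hWle (l₁, l₂)) (hWcov (l₁, l₂))
      intro k
      rw [res_res, res_res, ← Groth.Agent.Lib.H1Lift13.app_res, ← Groth.Agent.Lib.H1Lift13.app_res,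
        ← sub_eq_zero, ← map_sub]
      have h1 := he (l₁, l₂) k
      have h2 := hg ⟨(l₁, l₂), k⟩
      have h3 : iG ⟨(l₁, l₂), k⟩ = l ⟨(l₁, l₂), k⟩ ≫ iE := (hl _).symm
      have h4 : i'.app (W (l₁, l₂) k) ((l ⟨(l₁, l₂), k⟩).app (W (l₁, l₂) k) (g ⟨(l₁, l₂), k⟩)) =
          res (Coh.structureModule X) ((hWle (l₁, l₂) k).trans inf_le_left) (a l₁) -
          res (Coh.structureModule X) ((hWle (l₁, l₂) k).trans inf_le_right) (a l₂) := by
        rw [← h1, ← h2, h3]
        rfl
      rw [← h4]
      exact hzero _ _)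
  obtain ⟨s, hs⟩ := hsurj t'
  refine ⟨s, ?_⟩
  apply res_ext Q ⊤ V (fun _ => le_top) hcov
  intro l
  rw [← hqapp, hs, ← Groth.Agent.Lib.H1Lift13.app_res, ht', hqapp, ha]

end aux

open AlgebraicGeometry CategoryTheory in
/-- If X is quasi-compact and quasi-separated and H^1 vanishes for every quasi-coherent submodule of
finite type of the structure sheaf, then X is affine. -/
theorem result (X : Scheme.{u}) [CompactSpace X]
    [QuasiSeparatedSpace X]
    (h : ∀ (I : X.Modules) (i : I ⟶ Coh.structureModule X), Mono i →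
      Coh.IsQCoh I → CohB1.IsFT I → Subsingleton (Coh.HH X I 1)) : IsAffine X := by
  exact Groth.Agent.Lib.SerreCrit13.isAffine_of_smulLift
    (Groth.Agent.Lib.SerreCrit13.smulLift_of_surjective (surjective_app_top h))

end Groth.Agent.S0014
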