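import Groth.Statements.S1424
import Groth.Agent.Lib.WeightCons34B

set_option autoImplicit false
universe u
open FlatMor

namespace Groth.Agent.S1424

open AlgebraicGeometry CategoryTheory Limits in
/-- Let f be locally quasi-finite and of finite presentation and w a weighting of f. Then every level
set of the fibre integral of w along f is locally constructible in Y. -/
theorem result {X Y : Scheme.{u}} (f : X ⟶ Y) [LocallyQuasiFinite f] [LocallyOfFinitePresentation f] [QuasiCompact f] [QuasiSeparated f]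
    (w : ↑X → ℤ) (hw : MoreMor.IsWeighting f w) (n : ℤ) :
    Topology.IsLocallyConstructible {y : ↑Y | MoreMor.fibreIntegral f w y = n} := by
  have hfin : ∀ y : Y, (f ⁻¹' {y}).Finite := fun y => f.finite_preimage_singleton y
  refine Topology.IsLocallyConstructible.of_isOpenCover (U := fun V : Y.affineOpens => (V : Y.Opens))
    (iSup_affineOpens_eq_top Y) fun V => ?_
  haveI : IsAffine (V : Y.Opens).toScheme := V.2
  have hsq : IsPullback (f ⁻¹ᵁ (V : Y.Opens)).ι (f ∣_ (V : Y.Opens)) f (V : Y.Opens).ι :=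
    (isPullback_morphismRestrict f (V : Y.Opens)).flip
  have hw' : MoreMor.IsWeighting (f ∣_ (V : Y.Opens))
      (fun x => w ((f ⁻¹ᵁ (V : Y.Opens)).ι x)) :=
    Groth.Agent.S1419.result f w hw (f ∣_ (V : Y.Opens)) (f ⁻¹ᵁ (V : Y.Opens)).ι
      (V : Y.Opens).ι hsq
  have hP := Groth.Agent.Lib.Weight34.patchLocConst_fibreIntegral_of_qcqs (f ∣_ (V : Y.Opens)) _ hw'
  have hc := hP.isConstructible_setOf_eq n
  have heq : ∀ y, MoreMor.fibreIntegral (f ∣_ (V : Y.Opens))
      (fun x => w ((f ⁻¹ᵁ (V : Y.Opens)).ι x)) y = MoreMor.fibreIntegral f w ((V : Y.Opens).ι y) :=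
    fun y => Groth.Agent.S1418.result f hfin (f ∣_ (V : Y.Opens)) (f ⁻¹ᵁ (V : Y.Opens)).ι
      (V : Y.Opens).ι hsq w y
  have hset : {y | MoreMor.fibreIntegral (f ∣_ (V : Y.Opens))
        (fun x => w ((f ⁻¹ᵁ (V : Y.Opens)).ι x)) y = n} =
      ((V : Y.Opens).ι ⁻¹' {y : ↑Y | MoreMor.fibreIntegral f w y = n}) := by
    ext y
    rw [Set.mem_preimage, Set.mem_ofPred_eq, Set.mem_ofPred_eq, heq y]
  rw [hset] at hc
  exact hc.isLocallyConstructible

end Groth.Agent.S1424
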