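import Groth.Statements.S16491
import Groth.Agent.Lib.ReflRankOne82
import Groth.Agent.Lib.HomSh53e
import Groth.Agent.Lib.RegUFD6
import Groth.Agent.Lib.FibreFreeSch88
import Groth.Agent.Lib.SemilocalFree
import Groth.Agent.Lib.H90InvertibleFP

set_option autoImplicit false
universe u
open CategoryTheory CategoryTheory.Limits AlgebraicGeometry TopologicalSpace
open VBPn

namespace Groth.Agent.S16491

open Groth.Agent.Lib.ReflRankOne82


/-- Let X be an integral locally Noetherian scheme all of whose local rings are regular, and F a
coherent O_X-module which is reflexive (the canonical map F → F^** is an isomorphism) and of rank 1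
(F restricts to an invertible module on some dense open subset of X). Then F is invertible: every
point has an open neighbourhood on which F is isomorphic to the structure sheaf. The published
statement is for reflexive coherent analytic sheaves of rank 1 on a complex manifold; this row is
its statement on a regular integral locally Noetherian scheme, whose local rings are factorial as
the argument requires. -/
theorem result (X : Scheme.{u}) [IsIntegral X] [IsLocallyNoetherian X]
    (hreg : ∀ x : X, IsRegularLocalRing (X.presheaf.stalk x)) (F : X.Modules) (hF : Coh.IsCoh F)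
    (hrefl : RefHull.IsReflexive F) (hrk : RefHull.GenInvertible F) :
    PicF.IsInvertible F := by
  haveI : F.IsQuasicoherent := hF.1
  have hFP : CohB1.IsFP F := Groth.Agent.Lib.HomSh53.isFP_of_isCoh hF
  have hη := exists_bijective_smul_genericPoint F hrk
  have hreflAt := (Groth.Agent.Lib.HomSh53.isReflexive_iff_forall_isReflexiveAt hF).mp hrefl
  have hstalk : ∀ x : X, ∃ m : F.presheaf.stalk x,
      Function.Bijective (fun a : X.presheaf.stalk x => a • m) := by
    intro x
    haveI := hreg x
    haveI : UniqueFactorizationMonoid (X.presheaf.stalk x) :=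
      Groth.Agent.Lib.RegUFD6.ufd_of_isRegularLocalRing _
    haveI : Module.Finite (X.presheaf.stalk x) (F.presheaf.stalk x) := by
      have := Groth.Agent.Lib.FibreFreeSch88.finitePresentation_stalk_of_isFP F hFP x
      infer_instance
    haveI : Module.IsReflexive (X.presheaf.stalk x) (F.presheaf.stalk x) := hreflAt x
    haveI := nontrivial_stalk F hη x
    exact exists_bijective_smul_of_reflexive_rank_one (exists_smul_eq_smul_stalk F hη x)
  rw [Groth.Agent.Lib.H90Invertible.isInvertible_iff_isFinLocFreeOfRank_one]
  intro x
  obtain ⟨m, hm⟩ := hstalk x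
  let e₀ : X.presheaf.stalk x ≃ₗ[X.presheaf.stalk x] F.presheaf.stalk x :=
    LinearEquiv.ofBijective (LinearMap.toSpanSingleton _ _ m) hm
  have hfree : Module.Free (X.presheaf.stalk x) (F.presheaf.stalk x) := Module.Free.of_equiv e₀
  obtain ⟨n, hn⟩ := Groth.Agent.Lib.LocFreeFP.exists_locFreeAt_of_isFP_of_free F hFP x hfree
  obtain ⟨U, hxU, ⟨e⟩⟩ := hn.exists_restrict_iso
  have hn1 : n = 1 := by
    have h1 := Groth.Agent.Lib.SemilocalFree.finrank_stalk_eq_of_restrict_iso U e ⟨x, hxU⟩
    have h2 : Module.finrank (X.presheaf.stalk x) (F.presheaf.stalk x) = 1 := by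
      rw [← e₀.finrank_eq, Module.finrank_self]
    exact h1.symm.trans h2
  subst hn1
  exact ⟨U, hxU, ⟨e⟩⟩

end Groth.Agent.S16491
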