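import Groth.Statements.S17984
import Groth.Agent.Lib.WeilCI
open Groth.Agent.Lib.WeilCI
open scoped Pointwise

set_option autoImplicit false
universe u
open MvPolynomial
open WeilNum

namespace Groth.Agent.S17984

/-- Let p be a prime, e ≥ 1 and q = p^e. Let (π_i) be a finite family of pairwise nonconjugate Weil
q-numbers: π_i is an element of a field K_i of characteristic zero, integral over ℤ with minimal
polynomial P_i, every complex root of P_i has absolute value √q, and P_i ≠ P_j for i ≠ j. Suppose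
the total degree Σ_i deg P_i is even, equal to 2D (equivalently, the family contains either none or
both of the rational Weil q-numbers ±q^{1/2}). Put P_w = ∏_i P_i and let h ∈ ℤ[F, V] (F = X_0, V =
X_1) be any polynomial with F^D · h ≡ P_w(F) modulo FV − q; such an h exists, is unique modulo FV −
q, and the product of the symmetric polynomials h_{π_i} is one. Then the kernel of the ring map ℤ[F,
V] → ∏_i K_i, F ↦ (π_i), V ↦ (q/π_i), whose image is the minimal central order R_w, is the ideal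
generated by FV − q and h, and (FV − q, h) is a regular sequence in ℤ[F, V]: R_w is the complete
intersection ℤ[F, V]/(FV − q, h). -/
theorem result (p e : ℕ) [Fact p.Prime] (he : 0 < e)
    (ι : Type) [Fintype ι] (K : ι → Type u) [∀ i, Field (K i)] [∀ i, CharZero (K i)] (π : ∀ i, K i)
    (hint : ∀ i, IsIntegral ℤ (π i))
    (hweil : ∀ i, ∀ z ∈ (minpoly ℤ (π i)).aroots ℂ, ‖z‖ = Real.sqrt ((p : ℝ) ^ e))
    (hinj : ∀ i j, minpoly ℤ (π i) = minpoly ℤ (π j) → i = j)
    (D : ℕ) (hD : ∑ i, (minpoly ℤ (π i)).natDegree = 2 * D)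
    (h : MvPolynomial (Fin 2) ℤ)
    (hh : X 0 ^ D * h - Polynomial.aeval (X 0 : MvPolynomial (Fin 2) ℤ) (∏ i, minpoly ℤ (π i)) ∈
      Ideal.span ({X 0 * X 1 - C ((p : ℤ) ^ e)} : Set (MvPolynomial (Fin 2) ℤ))) :
    RingHom.ker (MvPolynomial.aeval ![fun i => π i, fun i => ((p : K i) ^ e) / π i] :
        MvPolynomial (Fin 2) ℤ →ₐ[ℤ] ((i : ι) → K i)) =
        Ideal.span {X 0 * X 1 - C ((p : ℤ) ^ e), h} ∧
      RingTheory.Sequence.IsWeaklyRegular (MvPolynomial (Fin 2) ℤ) [X 0 * X 1 - C ((p : ℤ) ^ e), h] := by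
  classical
  have hp0 : 0 < p := (Fact.out : p.Prime).pos
  set q : ℤ := (p:ℤ)^e with hq
  have hqpos : 0 < q := pow_pos (by exact_mod_cast hp0) _
  have hqne : q ≠ 0 := hqpos.ne'
  set r : ℝ := Real.sqrt ((p:ℝ)^e) with hr
  have hpe : (0:ℝ) < (p:ℝ)^e := by positivity
  have hr0 : 0 < r := Real.sqrt_pos.mpr hpe
  have hr2 : r^2 = (q:ℝ) := by
    rw [hr, Real.sq_sqrt hpe.le, hq]; push_cast; rfl
  have hπ0 : ∀ i, π i ≠ 0 := fun i => ne_zero_of_roots (hint i) r hr0 (hweil i)
  set Pw : Polynomial ℤ := ∏ i, minpoly ℤ (π i) with hPw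
  have hPwmonic : Pw.Monic :=
    Polynomial.monic_prod_of_monic _ _ (fun i _ => minpoly.monic (hint i))
  have hPwdeg : Pw.natDegree = 2 * D := by
    rw [hPw, Polynomial.natDegree_prod_of_monic _ _ (fun i _ => minpoly.monic (hint i)), hD]
  have habs : |((Pw.coeff 0 : ℤ) : ℝ)| = (q:ℝ)^D := by
    rw [hPw, Polynomial.coeff_zero_prod]
    push_cast
    rw [Finset.abs_prod]
    have : ∀ i ∈ Finset.univ, |(((minpoly ℤ (π i)).coeff 0 : ℤ) : ℝ)| =
        r ^ (minpoly ℤ (π i)).natDegree :=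
      fun i _ => abs_coeff_zero_of_roots (minpoly.monic (hint i)) r (hweil i)
    rw [Finset.prod_congr rfl this, Finset.prod_pow_eq_pow_sum, hD, pow_mul, hr2]
  obtain ⟨ε, hε, hc0⟩ : ∃ ε : ℤ, ε * ε = 1 ∧ Pw.coeff 0 = ε * q^D := by
    have h1 : |Pw.coeff 0| = q^D := by exact_mod_cast habs
    rcases (abs_eq (pow_pos hqpos D).le).mp h1 with h | h
    · exact ⟨1, by norm_num, by rw [h]; ring⟩
    · exact ⟨-1, by norm_num, by rw [h]; ring⟩
  set I0 : Ideal (MvPolynomial (Fin 2) ℤ) := Ideal.span {gg q} with hI0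
  set φ := (MvPolynomial.aeval ![fun i => π i, fun i => ((p : K i) ^ e) / π i] :
    MvPolynomial (Fin 2) ℤ →ₐ[ℤ] ((i : ι) → K i)) with hφ
  have hφ0 : φ (X 0) = fun i => π i := by simp [hφ]
  have hφ1 : φ (X 1) = fun i => ((p : K i) ^ e) / π i := by simp [hφ]
  have hφg : φ (gg q) = 0 := by
    rw [gg, map_sub, map_mul, hφ0, hφ1]
    funext i
    have : (φ (C q)) i = ((q : ℤ) : K i) := by
      rw [MvPolynomial.algHom_C]; rfl
    rw [Pi.sub_apply, Pi.mul_apply, this, mul_div_cancel₀ _ (hπ0 i), hq]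
    push_cast; simp
  have hI0ker : I0 ≤ RingHom.ker φ := by
    rw [hI0, Ideal.span_le]
    intro x hx
    rw [Set.mem_singleton_iff] at hx
    rw [hx]; exact hφg
  have hφc : ∀ (c : Polynomial ℤ) (i : ι),
      φ (Polynomial.aeval (X 0 : MvPolynomial (Fin 2) ℤ) c) i = Polynomial.aeval (π i) c := by
    intro c i
    rw [← Polynomial.aeval_algHom_apply φ (X 0) c, hφ0]
    exact (Polynomial.aeval_algHom_apply (Pi.evalAlgHom ℤ K i) (fun i => π i) c).symm
  have hPwπ : ∀ i, Polynomial.aeval (π i) Pw = 0 := by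
    intro i
    rw [hPw, map_prod]
    exact Finset.prod_eq_zero (Finset.mem_univ i) (minpoly.aeval ℤ (π i))
  have hφh : φ h = 0 := by
    have h1 : φ (X 0 ^ D * h - Polynomial.aeval (X 0 : MvPolynomial (Fin 2) ℤ) Pw) = 0 :=
      hI0ker hh
    rw [map_sub, map_mul, map_pow, hφ0, sub_eq_zero] at h1
    funext i
    have h2 := congrFun h1 i
    rw [hφc, hPwπ, Pi.mul_apply, Pi.pow_apply] at h2
    rcases mul_eq_zero.mp h2 with h3 | h3
    · exact absurd h3 (pow_ne_zero _ (hπ0 i))
    · exact h3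
  let S := concrete q hqne
  set mk := Ideal.Quotient.mk I0 with hmk
  have hSF : S.F = mk (X 0) := rfl
  have hSq : S.q = q := rfl
  have haev : ∀ c : Polynomial ℤ, Polynomial.aeval S.F c =
      mk (Polynomial.aeval (X 0 : MvPolynomial (Fin 2) ℤ) c) := by
    intro c
    rw [hSF, Polynomial.aeval_def, Polynomial.aeval_def, Polynomial.hom_eval₂]
    congr 1
  set KK : Ideal (MvPolynomial (Fin 2) ℤ ⧸ I0) := Ideal.map mk (RingHom.ker φ) with hKK
  have hKKmem : ∀ y, mk y ∈ KK → φ y = 0 := by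
    intro y hy
    rw [hKK, Ideal.mem_map_iff_of_surjective mk Ideal.Quotient.mk_surjective] at hy
    obtain ⟨x, hx, hxy⟩ := hy
    have h1 : x - y ∈ I0 := Ideal.Quotient.eq.mp hxy
    have h2 : φ (x - y) = 0 := hI0ker h1
    rw [map_sub, RingHom.mem_ker.mp hx, zero_sub, neg_eq_zero] at h2
    exact h2
  have hK : mk h ∈ KK := Ideal.mem_map_of_mem _ (RingHom.mem_ker.mpr hφh)
  have hKc : ∀ c : Polynomial ℤ, Polynomial.aeval S.F c ∈ KK → Pw ∣ c := by
    intro c hc
    rw [haev] at hc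
    have h1 := hKKmem _ hc
    apply prod_minpoly_dvd π hint hinj
    intro i
    apply minpoly.isIntegrallyClosed_dvd (hint i)
    rw [← hφc, h1]; rfl
  have hhS : S.F ^ D * mk h = Polynomial.aeval S.F Pw := by
    rw [haev, hSF, ← map_pow, ← map_mul]
    exact Ideal.Quotient.eq.mpr hh
  have hker := S.ker_eq D Pw hPwmonic hPwdeg ε hε hc0 (mk h) hhS KK hK hKc
  have hmkh : mk h ≠ 0 := S.h_ne_zero D Pw hPwmonic (mk h) hhS
  have hgg : (X 0 * X 1 - C ((p : ℤ) ^ e) : MvPolynomial (Fin 2) ℤ) = gg q := rfl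
  rw [hgg]
  constructor
  · apply le_antisymm
    · intro x hx
      have h1 : mk x ∈ KK := Ideal.mem_map_of_mem _ hx
      rw [hker, Ideal.mem_span_singleton'] at h1
      obtain ⟨y', hy'⟩ := h1
      obtain ⟨y, rfl⟩ := Ideal.Quotient.mk_surjective y'
      rw [← map_mul] at hy'
      have h2 : y * h - x ∈ I0 := Ideal.Quotient.eq.mp hy'
      rw [hI0, Ideal.mem_span_singleton'] at h2
      obtain ⟨u, hu⟩ := h2
      rw [Ideal.mem_span_pair]
      exact ⟨-u, y, by rw [neg_mul, hu]; ring⟩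
    · rw [Ideal.span_le]
      intro x hx
      rcases hx with rfl | hx
      · exact hφg
      · rw [Set.mem_singleton_iff] at hx
        rw [hx]; exact hφh
  · rw [RingTheory.Sequence.isWeaklyRegular_cons_iff, RingTheory.Sequence.isWeaklyRegular_cons_iff]
    refine ⟨?_, ?_, RingTheory.Sequence.IsWeaklyRegular.nil _ _⟩
    · have hg0 : gg q ≠ 0 := by
        intro h0
        have := congrArg (MvPolynomial.eval (fun _ => (0:ℤ))) h0
        simp [gg] at this
        exact hqne this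
      exact (IsRegular.of_ne_zero hg0).left.isSMulRegular
    · rw [isSMulRegular_quotient_iff_mem_of_smul_mem]
      intro x hx
      have hmem : ∀ y : MvPolynomial (Fin 2) ℤ,
          y ∈ (gg q • (⊤ : Submodule (MvPolynomial (Fin 2) ℤ) (MvPolynomial (Fin 2) ℤ))) ↔
            y ∈ I0 := by
        intro y
        rw [Submodule.mem_smul_pointwise_iff_exists, hI0, Ideal.mem_span_singleton']
        constructor
        · rintro ⟨b, _, hb⟩
          exact ⟨b, by rw [mul_comm]; exact hb⟩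
        · rintro ⟨b, hb⟩
          exact ⟨b, trivial, by rw [← hb, mul_comm]; rfl⟩
      rw [hmem] at hx ⊢
      have h1 : mk h * mk x = 0 := by
        rw [← map_mul]; exact Ideal.Quotient.eq_zero_iff_mem.mpr hx
      rcases S.mul_eq_zero _ _ h1 with h2 | h2
      · exact absurd h2 hmkh
      · exact Ideal.Quotient.eq_zero_iff_mem.mp h2

end Groth.Agent.S17984
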