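import Groth.Statements.S0008
import Groth.Agent.S0013
import Groth.Agent.S0007

set_option autoImplicit false
universe u
open Coherent

namespace Groth.Agent.S0008

open AlgebraicGeometry in


open AlgebraicGeometry in
/-- For a ring A, an A-module M and elements f_1, …, f_n generating the unit ideal, the Čech cohomology
of the associated module on Spec A with respect to the covering by the basic opens D(f_i) vanishes
in every positive degree. -/
theorem result (A : Type u) [CommRing A] (M : ModuleCat.{u} A)
    (n : ℕ) (f : ULift.{u} (Fin n) → A) (hf : Ideal.span (Set.range f) = ⊤) (p : ℕ) (hp : 0 < p) :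
    CategoryTheory.Limits.IsZero (CohB1.cechH (fun i => PrimeSpectrum.basicOpen (f i)) (tilde (R := CommRingCat.of A) M) p) := by
  classical
  let U : ULift.{u} (Fin n) → (Spec (CommRingCat.of A)).Opens := fun i => PrimeSpectrum.basicOpen (f i)
  have hcov : ⨆ i, U i = ⊤ :=
    (PrimeSpectrum.iSup_basicOpen_eq_top_iff).2 hf
  have hU : ∀ s : Finset (ULift.{u} (Fin n)), s.Nonempty → IsAffineOpen (⨅ i ∈ s, U i) := by
    intro s _
    have : ∀ s : Finset (ULift.{u} (Fin n)),
        (⨅ i ∈ s, U i) = PrimeSpectrum.basicOpen (∏ i ∈ s, f i) := by
      intro s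
      induction s using Finset.induction_on with
      | empty =>
        simp only [Finset.notMem_empty, iInf_false, iInf_top, Finset.prod_empty]
        exact PrimeSpectrum.basicOpen_one.symm
      | insert a s ha ih =>
        rw [Finset.iInf_insert, ih, Finset.prod_insert ha, PrimeSpectrum.basicOpen_mul]
        rfl
    rw [this s]
    exact IsAffineOpen.Spec_basicOpen (R := CommRingCat.of A) _
  obtain ⟨e⟩ := Groth.Agent.S0013.result (Spec (CommRingCat.of A)) U hcov hU
    (tilde (R := CommRingCat.of A) M) p
  have hsub := Groth.Agent.S0007.result (Spec (CommRingCat.of A)) (tilde (R := CommRingCat.of A) M) p hp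
  have : Subsingleton ↑(CohB1.cechH U (tilde (R := CommRingCat.of A) M) p) := e.toEquiv.subsingleton
  exact AddCommGrpCat.isZero_of_subsingleton _

end Groth.Agent.S0008
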