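import Groth.Agent.Lib.QCohBiproduct
import Groth.Agent.S0012
import Groth.Agent.S0007
import Groth.Statements.S0011

set_option autoImplicit false
universe u
open Coh

namespace Groth.Agent.S0011

open AlgebraicGeometry CategoryTheory CategoryTheory.Limits TopologicalSpace Opposite
open Groth.Agent.Lib.QCohBiproduct Groth.Agent.Lib.QCohStalk

attribute [local instance] CategoryTheory.Abelian.hasFiniteBiproducts

/-- The inclusion of an affine open is an affine morphism when affine opens have affine
intersections. -/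
theorem isAffineHom_ι {X : Scheme.{u}}
    (hd : ∀ V W : X.Opens, IsAffineOpen V → IsAffineOpen W → IsAffineOpen (V ⊓ W))
    (U : X.Opens) (hU : IsAffineOpen U) : IsAffineHom U.ι := by
  refine ⟨fun V hV => ?_⟩
  rw [← U.ι.isAffineOpen_iff_of_isOpenImmersion, Scheme.Hom.image_preimage_eq_opensRange_inf,
    Scheme.Opens.opensRange_ι]
  exact hd U V hU hV

open AlgebraicGeometry CategoryTheory in
/-- On a quasi-compact scheme in which affine opens have affine intersections, every quasi-coherent
module admits a monomorphism into a quasi-coherent module whose cohomology vanishes in all positive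
degrees. (Part (2), universality of the delta-functor, is not stated.) -/
theorem result (X : Scheme.{u}) [CompactSpace X]
    (hd : ∀ V W : X.Opens, IsAffineOpen V → IsAffineOpen W → IsAffineOpen (V ⊓ W))
    (M : X.Modules) [Coh.IsQCoh M] :
    ∃ (M' : X.Modules) (i : M ⟶ M'), Mono i ∧ Coh.IsQCoh M' ∧
      ∀ p : ℕ, 0 < p → Subsingleton (Coh.HH X M' p) := by
  classical
  -- a finite affine cover
  obtain ⟨t, ht⟩ := isCompact_univ.elim_finite_subcover
    (fun U : X.affineOpens => (U.1 : Set X)) (fun U => U.1.isOpen) (by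
      intro x _
      have : x ∈ (⨆ U : X.affineOpens, (U.1 : X.Opens)) := by
        rw [iSup_affineOpens_eq_top]; trivial
      obtain ⟨U, hU⟩ := Opens.mem_iSup.mp this
      exact Set.mem_iUnion.mpr ⟨U, hU⟩)
  let U : Fin t.card → X.affineOpens := fun i => (t.equivFin.symm i).1
  have hcover : ∀ x : X, ∃ i, x ∈ (U i).1 := by
    intro x
    obtain ⟨V, hV⟩ := Set.mem_iUnion.mp (ht (Set.mem_univ x))
    obtain ⟨hVt, hxV⟩ := Set.mem_iUnion.mp hV
    refine ⟨t.equivFin ⟨V, hVt⟩, ?_⟩
    show x ∈ ((t.equivFin.symm (t.equivFin ⟨V, hVt⟩)).1).1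
    rw [Equiv.symm_apply_apply]
    exact hxV
  have : ∀ i, IsAffineHom (U i).1.ι := fun i => isAffineHom_ι hd _ (U i).2
  let P : Fin t.card → X.Modules := fun i =>
    (Scheme.Modules.pushforward (U i).1.ι).obj (M.restrict (U i).1.ι)
  let φ : M ⟶ ⨁ P :=
    biproduct.lift (fun i => (Scheme.Modules.restrictAdjunction (U i).1.ι).unit.app M)
  refine ⟨⨁ P, φ, ?_, ?_, ?_⟩
  · -- mono
    apply mono_of_injective_app
    intro W
    rw [injective_iff_map_eq_zero]
    intro s hs
    have hsi : ∀ i, res M ((U i).1.ι.image_preimage_le W) s = 0 := by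
      intro i
      have h1 : (biproduct.π P i).app W (φ.app W s) = 0 := by
        rw [hs]; exact app_zero' _ _
      have h2 : (φ ≫ biproduct.π P i) =
          (Scheme.Modules.restrictAdjunction (U i).1.ι).unit.app M := biproduct.lift_π _ _
      have h3 : (biproduct.π P i).app W (φ.app W s) = (φ ≫ biproduct.π P i).app W s := rfl
      rw [h3, h2] at h1
      exact h1
    -- glue
    refine TopCat.Sheaf.eq_of_locally_eq' (⟨M.presheaf, M.isSheaf⟩ : TopCat.Sheaf Ab X)
      (fun i => (U i).1.ι ''ᵁ ((U i).1.ι ⁻¹ᵁ W)) W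
      (fun i => homOfLE ((U i).1.ι.image_preimage_le W)) ?_ s 0 ?_
    · intro x hx
      obtain ⟨i, hi⟩ := hcover x
      refine Opens.mem_iSup.mpr ⟨i, ?_⟩
      rw [Scheme.Hom.image_preimage_eq_opensRange_inf, Scheme.Opens.opensRange_ι]
      exact ⟨hi, hx⟩
    · intro i
      have := hsi i
      rw [map_zero]
      exact this
  · -- quasi-coherent
    refine isQuasicoherent_biproduct P fun i => ?_
    exact Groth.Agent.Lib.H90OXModPush.isQuasicoherent_pushforward (U i).1.ι (M.restrict (U i).1.ι)
  · -- acyclic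
    intro p hp
    refine subsingleton_HH_biproduct P p fun i => ?_
    have : IsAffine ↑(U i).1 := (U i).2
    obtain ⟨e⟩ := Groth.Agent.S0012.result (U i).1.ι (M.restrict (U i).1.ι) p
    have := Groth.Agent.S0007.result ↑(U i).1 (M.restrict (U i).1.ι) p hp
    exact e.symm.toEquiv.subsingleton

end Groth.Agent.S0011
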