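import Groth.Statements.S0015

set_option autoImplicit false
universe u
open Coherent

namespace Groth.Agent.S0015

open AlgebraicGeometry CategoryTheory in
theorem inf_affine_of_le (X : Scheme.{u}) (W U V : X.Opens) (hW : IsAffineOpen W)
    (hU : IsAffineOpen U) (hV : IsAffineOpen V) (hUW : U ≤ W) (hVW : V ≤ W) :
    IsAffineOpen (U ⊓ V) := by
  have : IsAffineHom (Limits.pullback.diagonal (𝟙 X)) := inferInstance
  exact isAffineHom_diagonal_iff.mp this W hW U (by simpa using hUW) V (by simpa using hVW) hU hV

open AlgebraicGeometry in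
theorem step1 (X : Scheme.{u})
    (P : X.Opens → Prop) (h₁ : ∀ U : X.Opens, IsAffineOpen U → P U)
    (h₂ : ∀ U V : X.Opens, IsCompact (U : Set X) → IsAffineOpen V → P U → P V → P (U ⊓ V) →
      P (U ⊔ V)) (W : X.Opens) (hW : IsAffineOpen W) :
    ∀ (n : ℕ) (s : Finset X.Opens), s.card ≤ n → (∀ i ∈ s, IsAffineOpen i ∧ i ≤ W) →
      P (s.sup id) := by
  classical
  intro n
  induction n with
  | zero =>
    intro s hs _
    have : s = ∅ := Finset.card_eq_zero.mp (Nat.le_zero.mp hs)
    subst this
    simpa using h₁ ⊥ (isAffineOpen_bot X)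
  | succ n ih =>
    intro s hs hs'
    rcases s.eq_empty_or_nonempty with rfl | ⟨V, hV⟩
    · simpa using h₁ ⊥ (isAffineOpen_bot X)
    · have hsV : s = insert V (s.erase V) := (Finset.insert_erase hV).symm
      have hcard : (s.erase V).card ≤ n := by
        rw [Finset.card_erase_of_mem hV]; omega
      have hs'' : ∀ i ∈ s.erase V, IsAffineOpen i ∧ i ≤ W :=
        fun i hi => hs' i (Finset.mem_of_mem_erase hi)
      have hP1 : P ((s.erase V).sup id) := ih _ hcard hs''
      have hcomp : IsCompact (((s.erase V).sup id : X.Opens) : Set X) := by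
        rw [isCompact_iff_finite_and_eq_biUnion_affineOpens]
        refine ⟨{ i : X.affineOpens | (i : X.Opens) ∈ s.erase V }, ?_, ?_⟩
        · apply Set.Finite.of_injOn (f := fun i : X.affineOpens => (i : X.Opens))
            (t := ((s.erase V : Finset X.Opens) : Set X.Opens))
          · intro i hi; exact hi
          · intro i _ j _ h; exact Subtype.ext h
          · exact Finset.finite_toSet _
        · apply le_antisymm
          · apply Finset.sup_le
            intro i hi
            exact le_iSup₂_of_le (⟨i, (hs'' i hi).1⟩ : X.affineOpens) hi le_rfl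
          · apply iSup₂_le
            intro i hi
            exact Finset.le_sup (f := id) hi
      have hVa : IsAffineOpen V := (hs' V hV).1
      have hP2 : P V := h₁ V hVa
      have hP3 : P ((s.erase V).sup id ⊓ V) := by
        have : (s.erase V).sup id ⊓ V = ((s.erase V).image (· ⊓ V)).sup id := by
          rw [Finset.sup_image, Finset.sup_inf_distrib_right]
          rfl
        rw [this]
        apply ih
        · exact Finset.card_image_le.trans hcard
        · intro i hi
          obtain ⟨j, hj, rfl⟩ := Finset.mem_image.mp hi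
          exact ⟨inf_affine_of_le X W j V hW (hs'' j hj).1 hVa (hs'' j hj).2 (hs' V hV).2,
            inf_le_right.trans (hs' V hV).2⟩
      have := h₂ _ V hcomp hVa hP1 hP2 hP3
      rw [hsV, Finset.sup_insert, sup_comm]
      exact this

open AlgebraicGeometry in
/-- Let X be quasi-compact and quasi-separated and P a property of opens of X. If P holds for affine
opens, and P(U ∪ V) follows from P(U), P(V), P(U ∩ V) whenever U is quasi-compact open and V affine
open, then P holds for every quasi-compact open, in particular for X. -/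
theorem result (X : Scheme.{u}) [CompactSpace X] [QuasiSeparatedSpace X]
    (P : X.Opens → Prop) (h₁ : ∀ U : X.Opens, IsAffineOpen U → P U)
    (h₂ : ∀ U V : X.Opens, IsCompact (U : Set X) → IsAffineOpen V → P U → P V → P (U ⊓ V) →
      P (U ⊔ V))
    (U : X.Opens) (hU : IsCompact (U : Set X)) : P U := by
  classical
  refine compact_open_induction_on U hU (h₁ ⊥ (isAffineOpen_bot X)) ?_
  intro S hS V hPS
  refine h₂ S V hS V.2 hPS (h₁ V V.2) ?_
  have hcomp : IsCompact ((S ⊓ V : X.Opens) : Set X) :=
    QuasiSeparatedSpace.inter_isCompact S.1 V.1.1 S.2 hS V.1.2 V.2.isCompact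
  obtain ⟨s, hs, e⟩ := isCompact_iff_finite_and_eq_biUnion_affineOpens.mp hcomp
  have hfin : (((fun i : X.affineOpens => (i : X.Opens)) '' s)).Finite := hs.image _
  have hle : ∀ i ∈ s, (i : X.Opens) ≤ S ⊓ V := by
    intro i hi
    rw [e]
    exact le_iSup₂_of_le i hi le_rfl
  have key := step1 X P h₁ h₂ V V.2 hfin.toFinset.card hfin.toFinset le_rfl (by
    intro i hi
    rw [Set.Finite.mem_toFinset] at hi
    obtain ⟨j, hj, rfl⟩ := hi
    exact ⟨j.2, (hle j hj).trans inf_le_right⟩)
  convert key using 1
  rw [e]
  apply le_antisymm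
  · apply iSup₂_le
    intro i hi
    exact Finset.le_sup (f := id) (by
      rw [Set.Finite.mem_toFinset]; exact ⟨i, hi, rfl⟩)
  · apply Finset.sup_le
    intro i hi
    rw [Set.Finite.mem_toFinset] at hi
    obtain ⟨j, hj, rfl⟩ := hi
    exact le_iSup₂_of_le j hj le_rfl

end Groth.Agent.S0015
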