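import Groth.Statements.S0024
import Groth.Agent.Lib.ProjSpaceCover

set_option autoImplicit false
universe u
open Coherent

namespace Groth.Agent.S0024

section Aux

open AlgebraicGeometry CategoryTheory HomogeneousLocalization MvPolynomial
open Groth.Agent.Lib

variable {n : ℕ} {R : Type u} [CommRing R]

/-- A homogeneous polynomial of degree `k` all of whose monomials have `i`-exponent at least `k`
is `c * X i ^ k`. -/
lemma eq_C_mul_X_pow_of_le (i : Fin (n + 1)) (k : ℕ) (g : MvPolynomial (Fin (n + 1)) R)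
    (hg : g.IsHomogeneous k) (h : ∀ α ∈ g.support, k ≤ α i) :
    g = C (coeff (Finsupp.single i k) g) * X i ^ k := by
  classical
  have key : ∀ α ∈ g.support, α = Finsupp.single i k := by
    intro α hα
    have hdeg : Finsupp.degree α = k := by
      by_contra hne
      exact (mem_support_iff.mp hα) (hg.coeff_eq_zero hne)
    rw [Finsupp.degree_eq_sum] at hdeg
    have hi := h α hα
    have hsplit : ∑ l, α l = α i + ∑ l ∈ Finset.univ.erase i, α l :=
      (Finset.add_sum_erase _ _ (Finset.mem_univ i)).symm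
    have hrest : ∑ l ∈ Finset.univ.erase i, α l = 0 := by omega
    have hαi : α i = k := by omega
    ext l
    by_cases hl : l = i
    · subst hl; simp [hαi]
    · rw [Finsupp.single_apply, if_neg (Ne.symm hl)]
      exact (Finset.sum_eq_zero_iff.mp hrest) l (Finset.mem_erase.mpr ⟨hl, Finset.mem_univ _⟩)
  ext β
  rw [X_pow_eq_monomial, C_mul_monomial, mul_one, coeff_monomial]
  split_ifs with hβ
  · rw [hβ]
  · by_contra hne
    exact hβ (key β (mem_support_iff.mpr hne)).symm

/-- If `g * X j ^ k' = g' * X i ^ k` with `j ≠ i` then all monomials of `g` have `i`-exponent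
at least `k`. -/
lemma le_of_mul_X_pow_eq (i j : Fin (n + 1)) (hij : j ≠ i) (k k' : ℕ)
    (g g' : MvPolynomial (Fin (n + 1)) R) (h : g * X j ^ k' = g' * X i ^ k) :
    ∀ α ∈ g.support, k ≤ α i := by
  classical
  intro α hα
  have h1 : coeff (α + Finsupp.single j k') (g * X j ^ k') = coeff α g := by
    rw [X_pow_eq_monomial, coeff_mul_monomial', if_pos le_add_self, add_tsub_cancel_right, mul_one]
  rw [h, X_pow_eq_monomial, coeff_mul_monomial'] at h1
  split_ifs at h1 with hle
  · have := hle i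
    simpa [Finsupp.single_apply, hij] using this
  · exact absurd h1.symm (mem_support_iff.mp hα)

local notation "𝒜" => CohB1.polyGrading n R

lemma X_mem (i : Fin (n + 1)) :
    (X i : MvPolynomial (Fin (n + 1)) R) ∈ 𝒜 1 := ProjSpaceCover.X_mem n R i

/-- the constant `c` as an element of the degree zero localisation -/
noncomputable def constAway (f : MvPolynomial (Fin (n + 1)) R) (c : R) : Away 𝒜 f :=
  fromZeroRingHom 𝒜 _ (algebraMap R (𝒜 0) c)

lemma powers_regular (f : MvPolynomial (Fin (n + 1)) R) (hf : IsRegular f)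
    (c : Submonoid.powers f) : IsRegular (c : MvPolynomial (Fin (n + 1)) R) := by
  obtain ⟨c, N, rfl⟩ := c
  exact hf.pow N

lemma constAway_injective (f : MvPolynomial (Fin (n + 1)) R) (hf : IsRegular f) :
    Function.Injective (constAway (n := n) (R := R) f) := by
  intro c d h
  have h1 := congrArg HomogeneousLocalization.val h
  simp only [constAway, fromZeroRingHom, RingHom.coe_mk, MonoidHom.coe_mk, OneHom.coe_mk,
    HomogeneousLocalization.val_mk] at h1
  rw [Localization.mk_eq_mk_iff, Localization.r_iff_exists] at h1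
  obtain ⟨e, he⟩ := h1
  have := (powers_regular f hf e).left he
  have this' : (1 : MvPolynomial (Fin (n + 1)) R) * C c = 1 * C d := this
  rw [one_mul, one_mul] at this'
  exact C_injective _ _ this'

lemma exists_eq_const (i : Fin (n + 1)) (b : Away 𝒜 (X i))
    (h : ∀ j, j ≠ i → ∃ b' : Away 𝒜 (X j),
      awayMap 𝒜 (X_mem j) (rfl : X i * X j = X i * X j) b =
        awayMap 𝒜 (X_mem i) (mul_comm _ _ : X i * X j = X j * X i) b') :
    ∃ c : R, b = constAway (X i) c := by
  classical
  obtain ⟨k, g, hg, rfl⟩ := Away.mk_surjective 𝒜 (X_mem i) b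
  have hg' : g.IsHomogeneous k := by
    have := (mem_homogeneousSubmodule _ _).mp hg
    simpa using this
  have hle : ∀ α ∈ g.support, k ≤ α i := by
    by_cases hj : ∃ j, j ≠ i
    · obtain ⟨j, hj⟩ := hj
      obtain ⟨b', hb'⟩ := h j hj
      obtain ⟨k', g', hg'', rfl⟩ := Away.mk_surjective 𝒜 (X_mem j) b'
      rw [awayMap_mk, awayMap_mk] at hb'
      have hv := congrArg HomogeneousLocalization.val hb'
      rw [Away.val_mk, Away.val_mk, Localization.mk_eq_mk_iff, Localization.r_iff_exists] at hv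
      obtain ⟨e, he⟩ := hv
      have hreg : IsRegular (X i * X j : MvPolynomial (Fin (n + 1)) R) :=
        isRegular_X.mul isRegular_X
      have he' := (powers_regular _ hreg e).left he
      simp only at he'
      have hreg2 : IsRegular (X i ^ k' * X j ^ k : MvPolynomial (Fin (n + 1)) R) :=
        (isRegular_X_pow k').mul (isRegular_X_pow k)
      refine le_of_mul_X_pow_eq i j hj k k' g g' (hreg2.left ?_)
      simp only
      calc X i ^ k' * X j ^ k * (g * X j ^ k') = (X i * X j) ^ k' * (g * X j ^ k) := by ring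
        _ = (X i * X j) ^ k * (g' * X i ^ k') := he'
        _ = X i ^ k' * X j ^ k * (g' * X i ^ k) := by ring
    · push Not at hj
      intro α hα
      have hdeg : Finsupp.degree α = k := by
        by_contra hne
        exact (mem_support_iff.mp hα) (hg'.coeff_eq_zero hne)
      rw [Finsupp.degree_eq_sum, Finset.sum_eq_single i (fun l _ hl => absurd (hj l) hl)
        (fun h => absurd (Finset.mem_univ i) h)] at hdeg
      exact hdeg.ge
  obtain ⟨c, hgeq⟩ : ∃ c : R, g = C c * X i ^ k := ⟨_, eq_C_mul_X_pow_of_le i k g hg' hle⟩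
  refine ⟨c, ?_⟩
  apply HomogeneousLocalization.val_injective
  rw [Away.val_mk]
  simp only [constAway, fromZeroRingHom, RingHom.coe_mk, MonoidHom.coe_mk, OneHom.coe_mk,
    HomogeneousLocalization.val_mk]
  rw [Localization.mk_eq_mk_iff, Localization.r_iff_exists]
  refine ⟨1, ?_⟩
  simp only [Submonoid.coe_one, one_mul]
  rw [hgeq]
  change (1 : MvPolynomial (Fin (n + 1)) R) * (C c * X i ^ k) = X i ^ k * C c
  ring

/-- restriction of the pulled back function from `Spec 𝒜₀` to a standard chart -/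
lemma toSpecZero_appTop_res {m : ℕ} (f : MvPolynomial (Fin (n + 1)) R) (f_deg : f ∈ 𝒜 m)
    (hm : 0 < m) :
    (Scheme.ΓSpecIso (.of (𝒜 0))).inv ≫ (Proj.toSpecZero 𝒜).appTop ≫
      (Proj 𝒜).presheaf.map (homOfLE (le_top : Proj.basicOpen 𝒜 f ≤ ⊤)).op =
    CommRingCat.ofHom (fromZeroRingHom 𝒜 _) ≫ Proj.awayToSection 𝒜 f := by
  have h := congrArg Scheme.Hom.appTop (Proj.awayι_toSpecZero 𝒜 f f_deg hm)
  rw [Scheme.Hom.comp_appTop, Proj.awayι, Scheme.Hom.comp_appTop] at h
  have h2 : (Proj.toSpecZero 𝒜).appTop ≫ (Proj.basicOpen 𝒜 f).ι.appTop =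
      (Spec.map (CommRingCat.ofHom (fromZeroRingHom 𝒜 (Submonoid.powers f)))).appTop ≫
        (Proj.basicOpenIsoSpec 𝒜 f f_deg hm).hom.appTop := by
    have h5 : (Proj.basicOpenIsoSpec 𝒜 f f_deg hm).inv.appTop ≫
        (Proj.basicOpenIsoSpec 𝒜 f f_deg hm).hom.appTop = 𝟙 _ := by
      rw [← Scheme.Hom.comp_appTop, Iso.hom_inv_id]; rfl
    rw [← h, Category.assoc, Category.assoc, h5, Category.comp_id]
  have h3 : (Proj.basicOpenIsoSpec 𝒜 f f_deg hm).hom.appTop =
      (Scheme.ΓSpecIso _).hom ≫ Proj.awayToSection 𝒜 f ≫ (Proj.basicOpen 𝒜 f).topIso.inv := by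
    rw [Proj.basicOpenIsoSpec_hom]
    exact Proj.basicOpenToSpec_app_top 𝒜 f
  have h4 : (Proj.basicOpen 𝒜 f).ι.appTop ≫ (Proj.basicOpen 𝒜 f).topIso.hom =
      (Proj 𝒜).presheaf.map (homOfLE (le_top : Proj.basicOpen 𝒜 f ≤ ⊤)).op := by
    rw [Scheme.Opens.ι_appTop, Scheme.Opens.topIso_hom]
    exact ((Proj 𝒜).presheaf.map_comp _ _).symm
  rw [← h4, reassoc_of% h2, h3]
  simp only [Category.assoc, Iso.inv_hom_id, Category.comp_id, Scheme.ΓSpecIso_naturality_assoc,
    Iso.inv_hom_id_assoc]


variable (n R) in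
/-- the ring map `R → Γ(P^n_R, O)` -/
noncomputable def ψ : CommRingCat.of R ⟶ Γ(Proj 𝒜, ⊤) :=
  CommRingCat.ofHom (algebraMap R (𝒜 0)) ≫ (Scheme.ΓSpecIso (.of (𝒜 0))).inv ≫
    (Proj.toSpecZero 𝒜).appTop

lemma ψ_res {m : ℕ} (f : MvPolynomial (Fin (n + 1)) R) (f_deg : f ∈ 𝒜 m) (hm : 0 < m) (c : R) :
    ((Proj 𝒜).presheaf.map (homOfLE (le_top : Proj.basicOpen 𝒜 f ≤ ⊤)).op).hom ((ψ n R).hom c) =
      (Proj.awayToSection 𝒜 f).hom (constAway f c) := by
  have := congrArg (fun φ => φ.hom (algebraMap R (𝒜 0) c)) (toSpecZero_appTop_res f f_deg hm)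
  exact this

lemma awayToSection_injective {m : ℕ} (f : MvPolynomial (Fin (n + 1)) R) (f_deg : f ∈ 𝒜 m)
    (hm : 0 < m) : Function.Injective (Proj.awayToSection 𝒜 f).hom := by
  have : IsIso (Proj.awayToSection 𝒜 f) :=
    (Proj.basicOpenIsoAway 𝒜 f f_deg hm).isIso_hom
  exact ((ConcreteCategory.isIso_iff_bijective _).mp this).1

lemma awayToSection_surjective {m : ℕ} (f : MvPolynomial (Fin (n + 1)) R) (f_deg : f ∈ 𝒜 m)
    (hm : 0 < m) : Function.Surjective (Proj.awayToSection 𝒜 f).hom := by
  have : IsIso (Proj.awayToSection 𝒜 f) :=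
    (Proj.basicOpenIsoAway 𝒜 f f_deg hm).isIso_hom
  exact ((ConcreteCategory.isIso_iff_bijective _).mp this).2

lemma XX_mem (i j : Fin (n + 1)) :
    (X i * X j : MvPolynomial (Fin (n + 1)) R) ∈ 𝒜 (1 + 1) :=
  SetLike.mul_mem_graded (X_mem i) (X_mem j)

lemma ψ_bijective : Function.Bijective (ψ n R).hom := by
  constructor
  · intro c d h
    have h1 := congrArg ((Proj 𝒜).presheaf.map
      (homOfLE (le_top : Proj.basicOpen 𝒜 (X 0) ≤ ⊤)).op).hom h
    rw [ψ_res _ (X_mem 0) one_pos, ψ_res _ (X_mem 0) one_pos] at h1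
    exact constAway_injective _ isRegular_X (awayToSection_injective _ (X_mem 0) one_pos h1)
  · intro s
    -- local pieces
    have hb : ∀ i : Fin (n + 1), ∃ b : Away 𝒜 (X i), (Proj.awayToSection 𝒜 (X i)).hom b =
        ((Proj 𝒜).presheaf.map (homOfLE (le_top : Proj.basicOpen 𝒜 (X i) ≤ ⊤)).op).hom s :=
      fun i => awayToSection_surjective _ (X_mem i) one_pos _
    choose b hb using hb
    have hcompat : ∀ i j : Fin (n + 1),
        awayMap 𝒜 (X_mem j) (rfl : X i * X j = X i * X j) (b i) =
          awayMap 𝒜 (X_mem i) (mul_comm _ _ : X i * X j = X j * X i) (b j) := by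
      intro i j
      apply awayToSection_injective _ (XX_mem i j) (by norm_num)
      have e1 := congrArg (fun φ => φ.hom (b i))
        (Proj.awayMap_awayToSection 𝒜 (X_mem j) (rfl : X i * X j = X i * X j))
      have e2 := congrArg (fun φ => φ.hom (b j))
        (Proj.awayMap_awayToSection 𝒜 (X_mem i) (mul_comm _ _ : X i * X j = X j * X i))
      simp only [CommRingCat.hom_comp, CommRingCat.hom_ofHom, RingHom.coe_comp,
        Function.comp_apply] at e1 e2
      rw [e1, e2, hb, hb, ← RingHom.comp_apply, ← RingHom.comp_apply, ← CommRingCat.hom_comp,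
        ← CommRingCat.hom_comp, ← Functor.map_comp, ← Functor.map_comp]
      rfl
    have hc : ∀ i, ∃ c : R, b i = constAway (X i) c :=
      fun i => exists_eq_const i (b i) (fun j _ => ⟨b j, hcompat i j⟩)
    choose c hc using hc
    have hcc : ∀ i j, c i = c j := by
      intro i j
      have h1 := hcompat i j
      rw [hc i, hc j] at h1
      simp only [constAway, awayMap_fromZeroRingHom] at h1
      exact constAway_injective (X i * X j) (isRegular_X.mul isRegular_X) h1
    refine ⟨c 0, ?_⟩
    refine TopCat.Sheaf.eq_of_locally_eq' (Proj 𝒜).sheaf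
      (fun i : Fin (n + 1) => Proj.basicOpen 𝒜 (X i)) ⊤
      (fun i => homOfLE le_top) ?_ _ _ ?_
    · exact (ProjSpaceCover.iSup_stdOpen n R).ge
    · intro i
      have := ψ_res (X i) (X_mem i) one_pos (c i)
      rw [← hc i, hb i] at this
      rw [hcc 0 i]
      exact this

end Aux


open AlgebraicGeometry CategoryTheory in
/-- Special case d = 0, q = 0: the map R → Γ(P^n_R, O) induced by the structure morphism P^n_R → Spec R
is an isomorphism (global functions on projective space are the degree-zero part R of the polynomial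
ring). -/
theorem result (n : ℕ) (R : Type u) [CommRing R] :
    IsIso (CohB1.ProjSpace.toSpec n R).appTop := by
  have h1 : IsIso (ψ n R) := (ConcreteCategory.isIso_iff_bijective _).mpr ψ_bijective
  have h2 : (CohB1.ProjSpace.toSpec n R).appTop =
      (Scheme.ΓSpecIso (.of R)).hom ≫ ψ n R := by
    unfold CohB1.ProjSpace.toSpec ψ
    rw [Scheme.Hom.comp_appTop, Scheme.ΓSpecIso_inv_naturality_assoc, Iso.hom_inv_id_assoc]
    rfl
  rw [h2]
  exact IsIso.comp_isIso' inferInstance h1

end Groth.Agent.S0024
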