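import Groth.Statements.S0027
import Mathlib
import Groth.Agent.Lib.H90DevFilt

set_option autoImplicit false
universe u
open Coherent

namespace Groth.Agent.S0027

open AlgebraicGeometry CategoryTheory CategoryTheory.Limits in
/-- Let X be a nonempty Noetherian scheme and P an isomorphism-invariant property of O_X-modules such
that (1) in a short exact sequence of coherent modules, P for the two outer terms implies P for the
middle term, and (2) P holds for the direct image of every quasi-coherent ideal sheaf of every
integral closed subscheme of X. Then P holds for every coherent O_X-module. (Nonemptiness of X is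
needed for the zero module; the published statement leaves it implicit.) -/
theorem result (X : Scheme.{u}) [IsNoetherian X] [Nonempty X]
    (P : X.Modules → Prop) (hP : ∀ M N : X.Modules, Nonempty (M ≅ N) → P M → P N)
    (h₁ : ∀ S : ShortComplex X.Modules, S.ShortExact → Coh.IsCoh S.X₁ → Coh.IsCoh S.X₂ →
      Coh.IsCoh S.X₃ → P S.X₁ → P S.X₃ → P S.X₂)
    (h₂ : ∀ (Z : Scheme.{u}) (i : Z ⟶ X), IsClosedImmersion i → IsIntegral Z →
      ∀ (I : Z.Modules) (ι : I ⟶ Coh.structureModule Z), Mono ι → Coh.IsQCoh I →
        P ((Coh.push i).obj I))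
    (M : X.Modules) (hM : Coh.IsCoh M) : P M := by
  classical
  obtain ⟨m, F, φ, h0, ⟨e⟩, hc, hs⟩ := Groth.Agent.Lib.H90DevFilt.good_of_isCoh hM
  -- `P` holds for zero modules
  have hzero : ∀ N : X.Modules, IsZero N → P N := by
    intro N hN
    obtain ⟨x⟩ := (inferInstance : Nonempty X)
    let Zc : TopologicalSpace.Closeds X := ⟨closure {x}, isClosed_closure⟩
    have hirr : IsIrreducible (Zc : Set X) := isIrreducible_singleton.closure
    have hint := Groth.Agent.Lib.H90DevAtom.isIntegral_subscheme Zc hirr
    let i := (Scheme.IdealSheafData.vanishingIdeal Zc).subschemeι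
    haveI := Groth.Agent.Lib.StructureModule.isQuasicoherent_structureModule
      (Scheme.IdealSheafData.vanishingIdeal Zc).subscheme
    have hq : Coh.IsQCoh (kernel (𝟙 (Coh.structureModule
        (Scheme.IdealSheafData.vanishingIdeal Zc).subscheme))) :=
      Groth.Agent.Lib.H90OXModExact.isQuasicoherent_kernel _
    have hp := h₂ _ i inferInstance hint _ (kernel.ι (𝟙 (Coh.structureModule
        (Scheme.IdealSheafData.vanishingIdeal Zc).subscheme))) inferInstance hq
    have hz : IsZero ((Coh.push i).obj (kernel (𝟙 (Coh.structureModule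
        (Scheme.IdealSheafData.vanishingIdeal Zc).subscheme)))) :=
      (Coh.push i).map_isZero (isZero_kernel_of_mono _)
    exact hP _ _ ⟨hz.iso hN⟩ hp
  have key : ∀ j, j ≤ m → P (F j) := by
    intro j
    induction j with
    | zero => intro _; exact hzero _ h0
    | succ j ih =>
      intro hj
      have hjm : j < m := hj
      obtain ⟨hmono, Z, i, hi, hZ, I, ι, hι, hI, _, ⟨eI⟩⟩ := hs j hjm
      haveI := hmono
      haveI : (F j).IsQuasicoherent := (hc j hjm.le).1
      have hcok : Coh.IsCoh (cokernel (φ j)) :=
        Groth.Agent.Lib.H90OXModExact.isCoh_cokernel (φ j) (hc (j + 1) hj)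
      have hPc : P (cokernel (φ j)) := hP _ _ ⟨eI.symm⟩ (h₂ Z i hi hZ I ι hι hI)
      exact h₁ (ShortComplex.mk (φ j) (cokernel.π (φ j)) (by simp))
        { exact := ShortComplex.exact_cokernel (φ j) }
        (hc j hjm.le) (hc (j + 1) hj) hcok (ih hjm.le) hPc
  exact hP _ _ ⟨e⟩ (key m le_rfl)

end Groth.Agent.S0027
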