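import Groth.Statements.S0029
import Groth.Agent.S0009
import Groth.Agent.S0032
import Groth.Agent.S0854
import Groth.Agent.Lib.RpushRestrict
import Groth.Agent.Lib.QCohExtend
import Groth.Agent.Lib.StructureModule

set_option autoImplicit false
universe u
open Coherent

namespace Groth.Agent.S0029

open AlgebraicGeometry CategoryTheory in
/-- Let f : X → Y be a quasi-compact morphism between quasi-separated schemes. Suppose R^1 f_* I
vanishes for each quasi-coherent submodule I of O_X; then f is affine. -/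
theorem result {X Y : Scheme.{u}} (f : X ⟶ Y) [QuasiCompact f]
    [QuasiSeparatedSpace X] [QuasiSeparatedSpace Y]
    (h : ∀ (I : X.Modules) (i : I ⟶ Coh.structureModule X), Mono i → Coh.IsQCoh I →
      Limits.IsZero ((Coh.RpushAb f 1).obj (Coh.toAb I))) : IsAffineHom f := by
  refine ⟨fun V hV => ?_⟩
  have hVa : IsAffine V.toScheme := hV
  have hcU : CompactSpace ↥(f ⁻¹ᵁ V).toScheme :=
    isCompact_iff_compactSpace.mp
      (QuasiCompact.isCompact_preimage (f := f) (V : Set Y) V.2 hV.isCompact)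
  have hqsU : QuasiSeparatedSpace ↥(f ⁻¹ᵁ V).toScheme :=
    quasiSeparatedSpace_of_quasiSeparated (f ⁻¹ᵁ V).ι
  have hqsf : QuasiSeparated (f ∣_ V) := QuasiSeparated.of_quasiSeparatedSpace _
  have hqcι : QuasiCompact (f ⁻¹ᵁ V).ι := inferInstance
  change IsAffine (f ⁻¹ᵁ V).toScheme
  apply Groth.Agent.S0009.result
  intro I' i' hi' hI'
  have hqX : (Coh.structureModule X).IsQuasicoherent :=
    Groth.Agent.Lib.StructureModule.isQuasicoherent_structureModule X
  have hI'q : I'.IsQuasicoherent := hI'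
  -- extend `I'` to a quasi-coherent ideal of `O_X`
  let j : I' ⟶ (Coh.structureModule X).restrict (f ⁻¹ᵁ V).ι :=
    i' ≫ (Scheme.Modules.restrictUnitIso (f ⁻¹ᵁ V).ι).inv
  have hj : Mono j := mono_comp _ _
  obtain ⟨I, i, hi, hIq, ⟨e⟩⟩ :=
    Groth.Agent.Lib.QCohExtend.exists_qcoh_extension (f ⁻¹ᵁ V) (Coh.structureModule X) j
  have hz : Limits.IsZero ((Coh.RpushAb f 1).obj (Coh.toAb I)) := h I i hi hIq
  -- restrict to `V`
  have hz2 : Limits.IsZero ((Coh.RpushAb (f ∣_ V) 1).obj (Coh.toAb (I.restrict (f ⁻¹ᵁ V).ι))) := by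
    obtain ⟨e'⟩ := Groth.Agent.S0854.result f.base (Coh.toAb I) V 1
    have h2 : Limits.IsZero (CohTop.restr ((CohTop.Rpush f.base 1).obj (Coh.toAb I)) V) :=
      (CohTop.restrFunctor V).map_isZero hz
    have h3 := h2.of_iso e'.symm
    change Limits.IsZero ((CohTop.Rpush (f ∣_ V).base 1).obj _)
    rw [Groth.Agent.Lib.RpushRestrict.base_eq]
    exact h3
  have hz3 : Limits.IsZero ((Coh.RpushAb (f ∣_ V) 1).obj (Coh.toAb I')) :=
    hz2.of_iso ((Coh.RpushAb (f ∣_ V) 1).mapIso
      ((SheafOfModules.toSheaf _).mapIso e)).symm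
  obtain ⟨E⟩ := Groth.Agent.S0032.result (f ∣_ V) I' 1
  have hs : Subsingleton ↑(((Coh.RpushAb (f ∣_ V) 1).obj (Coh.toAb I')).obj.obj (Opposite.op ⊤)) := by
    have h4 : Limits.IsZero (((Coh.RpushAb (f ∣_ V) 1).obj (Coh.toAb I')).obj.obj (Opposite.op ⊤)) :=
      (sheafToPresheaf _ _ ⋙ (evaluation _ _).obj (Opposite.op ⊤)).map_isZero hz3
    exact AddCommGrpCat.subsingleton_of_isZero h4
  exact E.toEquiv.subsingleton

end Groth.Agent.S0029
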