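import Groth.Statements.S0035
import Groth.Agent.Lib.CohBCFinProj
import Groth.Agent.Lib.FlatBCCoh
import Groth.Agent.Lib.PushCohEdge
import Groth.Agent.Lib.AffMorAcyclic

set_option autoImplicit false
universe u
open Coherent

namespace Groth.Agent.S0035

open AlgebraicGeometry CategoryTheory TensorProduct in
/-- Let B be a finite projective (= finite locally free) A-algebra, X any scheme over Spec A, X' = X ×_A
Spec B with projection g', and F quasi-coherent on X. Then H^i(X, F) ⊗_A B ≅ H^i(X', g'^* F). No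
quasi-compactness or separation hypothesis on X is needed. -/
theorem result (A B : Type u) [CommRing A] [CommRing B] [Algebra A B]
    [Module.Finite A B] [Module.Projective A B] (X X' : Scheme.{u})
    [X.Over (Spec (CommRingCat.of A))] [X'.Over (Spec (CommRingCat.of B))] (g' : X' ⟶ X)
    (h : IsPullback g' (X' ↘ Spec (CommRingCat.of B)) (X ↘ Spec (CommRingCat.of A))
      (Spec.map (CommRingCat.ofHom (algebraMap A B))))
    (M : X.Modules) [Coh.IsQCoh M] (i : ℕ) :
    Nonempty (TensorProduct A B (Coh.HH X M i) ≃ₗ[B] Coh.HH X' ((Scheme.Modules.pullback g').obj M) i) := by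
  classical
  have hM : Coh.IsQCoh M := inferInstance
  have : M.IsQuasicoherent := hM
  have : IsAffineHom g' := Groth.Agent.Lib.FlatBCCoh.isAffineHom_of_isPullback A B g' h
  let N := (Scheme.Modules.pullback g').obj M
  have hN : Coh.IsQCoh N :=
    (inferInstance : ((Scheme.Modules.pullback g').obj M).IsQuasicoherent)
  let D := Groth.Agent.Lib.FlatBCCohData.bcData A B g' h.w M
  have hbc : IsBaseChange B (D.ρ i ⊤) :=
    Groth.Agent.Lib.CohBCFinProj.bcAt_of_finite_projective D
      (fun U hU => Groth.Agent.Lib.FlatBCCoh.isBaseChange_ρ_zero A B g' h M hU) ⊤ i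
  have hac : ∀ q : ℕ, CategoryTheory.Limits.IsZero ((CohTop.Rpush g'.base (q + 1)).obj (Coh.toAb N)) := fun q =>
    Groth.Agent.Lib.AffMorAcyclic.isZero_RpushAb_succ (Coh.toAb N)
      (Groth.Agent.Lib.AffMorAcyclic.isAcyclicOver_toAb N hN) q
  let e₁ : Coh.HH X M i ≃ₗ[A] D.P.H i ⊤ :=
    { Groth.Agent.Lib.HBridge.HEquivHUTop (Coh.toAb M) i with
      map_smul' := fun a x => Groth.Agent.Lib.PushCohEdge.HEquivHUTop_map
        (Coh.smulAb M (Coh.toGlobal (X ↘ Spec (CommRingCat.of A)) a)) i x }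
  let ε : D.Q.H i ⊤ ≃ₗ[B] Coh.HH X' N i :=
    { (Groth.Agent.Lib.PushCohEdge.edgeEquivTop g'.base (Coh.toAb N) hac i).trans
        (Groth.Agent.Lib.HBridge.HEquivHUTop (Coh.toAb N) i).symm with
      map_smul' := fun b y => by
        apply (Groth.Agent.Lib.HBridge.HEquivHUTop (Coh.toAb N) i).injective
        refine ((Groth.Agent.Lib.HBridge.HEquivHUTop (Coh.toAb N) i).apply_symm_apply _).trans ?_
        refine (Groth.Agent.Lib.PushCohEdge.edgeEquivTop_mapH g'.base
          (Coh.smulAb N (Coh.toGlobal (X' ↘ Spec (CommRingCat.of B)) b)) hac hac i y).trans ?_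
        refine Eq.trans ?_ (Groth.Agent.Lib.PushCohEdge.HEquivHUTop_map
          (Coh.smulAb N (Coh.toGlobal (X' ↘ Spec (CommRingCat.of B)) b)) i _).symm
        exact congrArg _ ((Groth.Agent.Lib.HBridge.HEquivHUTop (Coh.toAb N) i).apply_symm_apply _).symm }
  exact ⟨(TensorProduct.AlgebraTensorModule.congr (LinearEquiv.refl B B) e₁) ≪≫ₗ hbc.equiv ≪≫ₗ ε⟩

end Groth.Agent.S0035
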