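import Groth.Statements.S0037
import Groth.Agent.S0854
import Groth.Agent.Lib.RpushRestrict
import Groth.Agent.Lib.AffMorAcyclic
import Groth.Agent.Lib.FiniteFibreNbhd

set_option autoImplicit false
universe u
open Coherent

namespace Groth.Agent.S0037

open CategoryTheory TopologicalSpace Opposite in
/-- a sheaf whose restriction to an open neighbourhood of `y` vanishes has zero stalk at `y` -/
theorem isZero_stalk_of_isZero_restr {Y : TopCat.{u}} (F : CohTop.Ab Y) (V : Opens Y) (y : Y)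
    (hy : y ∈ V) (h : Limits.IsZero (CohTop.restr F V)) :
    Limits.IsZero (TopCat.Presheaf.stalk F.obj y) := by
  have hsub : Subsingleton ↑(TopCat.Presheaf.stalk F.obj y) := by
    refine ⟨fun a b => ?_⟩
    suffices H : ∀ c : ↑(TopCat.Presheaf.stalk F.obj y), c = 0 by rw [H a, H b]
    intro c
    obtain ⟨U, hyU, s, rfl⟩ := TopCat.Presheaf.exists_germ_eq F.obj c
    let W'' : Opens ↥V := ⟨Subtype.val ⁻¹' (U : Set Y), U.2.preimage continuous_subtype_val⟩
    let W' : Opens Y := V.isOpenEmbedding.isOpenMap.functor.obj W''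
    have hW'U : W' ≤ U := by
      rintro _ ⟨x, hx, rfl⟩
      exact hx
    have hyW' : y ∈ W' := ⟨⟨y, hy⟩, hyU, rfl⟩
    have hz : Limits.IsZero ((CohTop.restr F V).obj.obj (op W'')) :=
      (sheafToPresheaf _ _ ⋙ (evaluation _ _).obj (op W'')).map_isZero h
    have hs : Subsingleton ↑(F.obj.obj (op W')) := AddCommGrpCat.subsingleton_of_isZero hz
    have e := TopCat.Presheaf.germ_res_apply F.obj (homOfLE hW'U) y hyW' s
    rw [← e, Subsingleton.elim ((ConcreteCategory.hom (F.obj.map (homOfLE hW'U).op)) s) 0, map_zero]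
  exact AddCommGrpCat.isZero_of_subsingleton _

open AlgebraicGeometry CategoryTheory in
/-- Let Y be locally Noetherian, f : X → Y proper and y a point whose fibre f⁻¹{y} is finite. Then for
every coherent F on X and every p > 0 the stalk of R^p f_* F at y vanishes. -/
theorem result {X Y : Scheme.{u}} (f : X ⟶ Y) [IsProper f]
    [IsLocallyNoetherian Y] (y : Y) (hy : (f.base ⁻¹' {y}).Finite) (M : X.Modules) (hM : Coh.IsCoh M)
    (p : ℕ) (hp : 0 < p) :
    Limits.IsZero (TopCat.Presheaf.stalk ((Coh.RpushAb f p).obj (Coh.toAb M)).obj y) := by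
  obtain ⟨V, hyV, hfin⟩ := Groth.Agent.Lib.FiniteFibreNbhd.exists_isFinite_restrict f y hy
  obtain ⟨q, rfl⟩ : ∃ q, p = q + 1 := ⟨p - 1, by omega⟩
  have hMq : M.IsQuasicoherent := hM.1
  have hq : (M.restrict (f ⁻¹ᵁ V).ι).IsQuasicoherent := inferInstance
  have hz : Limits.IsZero ((Coh.RpushAb (f ∣_ V) (q + 1)).obj (Coh.toAb (M.restrict (f ⁻¹ᵁ V).ι))) :=
    Groth.Agent.Lib.AffMorAcyclic.isZero_RpushAb_succ _
      (Groth.Agent.Lib.AffMorAcyclic.isAcyclicOver_toAb (f := f ∣_ V) _ hq) q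
  obtain ⟨e'⟩ := Groth.Agent.S0854.result f.base (Coh.toAb M) V (q + 1)
  have hz' : Limits.IsZero ((CohTop.Rpush (Groth.Agent.S0854.gV f.base V) (q + 1)).obj
      (CohTop.restr (Coh.toAb M) ((TopologicalSpace.Opens.map f.base).obj V))) := by
    rw [← Groth.Agent.Lib.RpushRestrict.base_eq]
    exact hz
  have hz2 : Limits.IsZero (CohTop.restr ((CohTop.Rpush f.base (q + 1)).obj (Coh.toAb M)) V) :=
    hz'.of_iso e'
  exact isZero_stalk_of_isZero_restr _ V y hyV hz2

end Groth.Agent.S0037
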