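import Groth.Statements.S0042
import Groth.Agent.Lib.FibreDimVanish
import Groth.Agent.Lib.BasisAcyclic
import Groth.Agent.Lib.RpushRestrict
import Groth.Agent.Lib.H56OpenFibDim2
import Groth.Agent.Lib.H90CohRestrict
import Groth.Agent.S0037
import Groth.Agent.S0854
import Groth.Agent.S0463

set_option autoImplicit false
universe u
open Coherent

namespace Groth.Agent.S0042

open AlgebraicGeometry CategoryTheory in
/-- Let Y be a locally Noetherian scheme, f : X → Y a proper morphism, and y a point of Y whose fibre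
X_y has dimension at most d. Then for every coherent 𝒪_X-module F and every p > d, the stalk of R^p
f_* F at y is zero. -/
theorem result {X Y : Scheme.{u}} (f : X ⟶ Y)
    [IsProper f] [IsLocallyNoetherian Y] (y : Y) (d : ℕ) (hd : topologicalKrullDim ↥(f.fiber y) ≤ d)
    (M : X.Modules) (hM : Coh.IsCoh M) (p : ℕ) (hp : d < p) :
    Limits.IsZero (TopCat.Presheaf.stalk ((Coh.RpushAb f p).obj (Coh.toAb M)).obj y) := by
  obtain ⟨q, rfl⟩ : ∃ q, p = q + 1 := ⟨p - 1, by omega⟩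
  have hdq : d ≤ q := by omega
  -- an open neighbourhood of `y` over which all fibres have dimension `≤ d`
  obtain ⟨V0, hV0, hfib⟩ :=
    Groth.Agent.Lib.H56OpenDim.exists_nhds_dim_fiber_le f f.isClosedMap y
  obtain ⟨V1, hV1sub, hV1open, hyV1⟩ := mem_nhds_iff.mp hV0
  let V : Y.Opens := ⟨V1, hV1open⟩
  have hyV : y ∈ V := hyV1
  have hfibV : ∀ z : V, topologicalKrullDim ↥((f ∣_ V) ⁻¹' {z}) ≤ d := fun z =>
    (Groth.Agent.Lib.FibreDimVanish.dim_preimage_restrict_le f V z).trans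
      (((f.fiberHomeo (z : Y)).isHomeomorph.topologicalKrullDim_eq).symm.le.trans
        ((hfib z (hV1sub z.2)).trans hd))
  have hM' : Coh.IsCoh (M.restrict (f ⁻¹ᵁ V).ι) :=
    Groth.Agent.Lib.H90CohRestrict.isCoh_restrict (f ⁻¹ᵁ V).ι M hM
  have hz : Limits.IsZero ((Coh.RpushAb (f ∣_ V) (q + 1)).obj
      (Coh.toAb (M.restrict (f ⁻¹ᵁ V).ι))) := by
    refine Groth.Agent.Lib.BasisAcyclic.isZero_Rpush_succ (f := (f ∣_ V).base)
      (V.toScheme).isBasis_affineOpens (Coh.toAb (M.restrict (f ⁻¹ᵁ V).ι)) d ?_ q hdq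
    rintro W₀ hW n hn α
    let W : (V : Scheme.{u}).Opens := W₀
    have hWa : IsAffine (W : Scheme.{u}) := hW
    have hsub : Subsingleton (Coh.HH ((f ∣_ V) ⁻¹ᵁ W)
        ((M.restrict (f ⁻¹ᵁ V).ι).restrict ((f ∣_ V) ⁻¹ᵁ W).ι) (n + 1)) :=
      Groth.Agent.Lib.FibreDimVanish.subsingleton_HH_of_fibre_dim_le' ((f ∣_ V) ∣_ W) d
        (fun z => (Groth.Agent.Lib.FibreDimVanish.dim_preimage_restrict_le (f ∣_ V) W z).trans
          (hfibV z.1)) _
        (Groth.Agent.Lib.H90CohRestrict.isCoh_restrict ((f ∣_ V) ⁻¹ᵁ W).ι _ hM') (n + 1)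
        (by omega)
    obtain ⟨E'⟩ := Groth.Agent.S0463.result (Coh.toAb (M.restrict (f ⁻¹ᵁ V).ι))
      ((TopologicalSpace.Opens.map (f ∣_ V).base).obj W) (n + 1)
    exact E'.injective (@Subsingleton.elim _ hsub _ _)
  obtain ⟨e'⟩ := Groth.Agent.S0854.result f.base (Coh.toAb M) V (q + 1)
  have hz' : Limits.IsZero ((CohTop.Rpush (Groth.Agent.S0854.gV f.base V) (q + 1)).obj
      (CohTop.restr (Coh.toAb M) ((TopologicalSpace.Opens.map f.base).obj V))) := by
    rw [← Groth.Agent.Lib.RpushRestrict.base_eq]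
    exact hz
  have hz2 : Limits.IsZero (CohTop.restr ((CohTop.Rpush f.base (q + 1)).obj (Coh.toAb M)) V) :=
    hz'.of_iso e'
  exact Groth.Agent.S0037.isZero_stalk_of_isZero_restr _ V y hyV hz2

end Groth.Agent.S0042
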