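import Groth.Statements.S0043
import Groth.Agent.S0009
import Groth.Agent.S0016
import Groth.Agent.Lib.QuasiAffineGlobGen
import Groth.Agent.Lib.CohLESExact
import Groth.Agent.Lib.ModToSheafColim
import Groth.Agent.Lib.FiltColimTop
import Groth.Agent.Lib.QCohKernel13

/-!
# S0043: a quasi-affine scheme with acyclic structure sheaf is affine

Serre's criterion (S0009) + descending induction on the cohomological degree starting from the
uniform vanishing bound (S0016): every quasi-coherent `F` on a quasi-affine scheme is a quotient of a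
free module `O_X^{(I)}` (helper42 `QuasiAffineGlobGen`), and `H^p(X, O_X^{(I)}) = 0` because
cohomology on a qcqs space commutes with filtered colimits (`Lib/FiltColimTop`), applied to the
filtered system of finite sub-coproducts.
-/

set_option autoImplicit false
universe u
open Coherent

namespace Groth.Agent.S0043

open AlgebraicGeometry CategoryTheory Limits TopologicalSpace Abelian Opposite
open Groth.Agent.Lib Groth.Agent.Lib.FiltColimTop

section Abstract

universe w v' u'

variable {C : Type u'} [Category.{v'} C] [Abelian C] [HasExt.{w} C]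

/-- `Ext^n(Z, -)` of a finite coproduct vanishes if it vanishes on each summand. -/
lemma subsingleton_ext_sigma (Z : C) {J : Type*} [Fintype J] (Y : J → C) (n : ℕ)
    (h : ∀ j, Subsingleton (Ext.{w} Z (Y j) n)) : Subsingleton (Ext.{w} Z (∐ Y) n) := by
  classical
  have hc := biconeIsBilimitOfColimitCoconeOfIsColimit (coproductIsCoproduct Y)
  exact (Ext.addEquivBiproduct Z hc n).toEquiv.subsingleton

end Abstract

/-- On a qcqs space, `H^p(X, A^{(ι)}) = 0` if `H^p(X, A) = 0`. -/
theorem subsingleton_H_sigma {X : TopCat.{u}} [CompactSpace X] [QuasiSeparatedSpace X]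
    (hb : Opens.IsBasis (qc X)) (A : CohTop.Ab X) (ι : Type u) (p : ℕ)
    (hA : Subsingleton (Sheaf.H A p)) : Subsingleton (Sheaf.H (∐ fun _ : ι => A) p) := by
  refine subsingleton_of_forall_eq 0 fun x => ?_
  obtain ⟨S, y, rfl⟩ := H_surj hb _ _
    (CoproductsFromFiniteFiltered.isColimitFiniteSubproductsCocone (fun _ : ι => A)) p x
  have : Subsingleton (Sheaf.H ((CoproductsFromFiniteFiltered.liftToFinsetObj
      (Discrete.functor fun _ : ι => A)).obj S) p) :=
    subsingleton_ext_sigma _ _ p (fun _ => hA)
  rw [Subsingleton.elim y 0, map_zero]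
  rfl

/-- compact opens form a basis of the topology of a scheme -/
theorem isBasis_qc (X : Scheme.{u}) : Opens.IsBasis (qc X.toTopCat) := by
  rw [Opens.isBasis_iff_nbhd]
  intro U x hx
  obtain ⟨V, hV, hxV, hVU⟩ := Opens.isBasis_iff_nbhd.1 X.isBasis_affineOpens hx
  exact ⟨V, IsAffineOpen.isCompact hV, hxV, hVU⟩

/-- transport of vanishing along an isomorphism of abelian sheaves -/
theorem subsingleton_H_of_iso {X : TopCat.{u}} {A B : CohTop.Ab X} (e : A ≅ B) (p : ℕ)
    (hB : Subsingleton (Sheaf.H B p)) : Subsingleton (Sheaf.H A p) := by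
  refine subsingleton_of_forall_eq 0 fun x => ?_
  have h : Sheaf.H.map e.inv p (Sheaf.H.map e.hom p x) = x := by
    rw [Sheaf.H.map_apply, Sheaf.H.map_apply, Ext.comp_assoc_of_second_deg_zero,
      Ext.mk₀_comp_mk₀, e.hom_inv_id, Ext.comp_mk₀_id]
  rw [← h, Subsingleton.elim (Sheaf.H.map e.hom p x) 0, map_zero]

/-- `H^p(X, O_X^{(ι)}) = 0` if `H^p(X, O_X) = 0`, on a qcqs scheme. -/
theorem subsingleton_HH_free (X : Scheme.{u}) [CompactSpace X] [QuasiSeparatedSpace X]
    (ι : Type u) (p : ℕ) (hO : Subsingleton (Coh.HH X (Coh.structureModule X) p)) :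
    Subsingleton (Coh.HH X (SheafOfModules.free ι : X.Modules) p) := by
  let e : Coh.toAb (SheafOfModules.free ι : X.Modules) ≅
      ∐ fun _ : ι => Coh.toAb (Coh.structureModule X) :=
    PreservesCoproduct.iso (SheafOfModules.toSheaf X.ringCatSheaf)
      (fun _ : ι => SheafOfModules.unit X.ringCatSheaf)
  haveI : CompactSpace X.toTopCat := ‹CompactSpace X›
  haveI : QuasiSeparatedSpace X.toTopCat := ‹QuasiSeparatedSpace X›
  have : Subsingleton (Sheaf.H (∐ fun _ : ι => Coh.toAb (Coh.structureModule X)) p) :=
    subsingleton_H_sigma (X := X.toTopCat) (isBasis_qc X) _ ι p hO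
  exact subsingleton_H_of_iso (X := X.toTopCat) e p this

open AlgebraicGeometry in
/-- If X is quasi-affine and H^p(X, O_X) = 0 for all p > 0, then X is affine. -/
theorem result (X : Scheme.{u}) [X.IsQuasiAffine]
    (h : ∀ p : ℕ, 0 < p → Subsingleton (Coh.HH X (Coh.structureModule X) p)) : IsAffine X := by
  haveI : QuasiSeparatedSpace X := inferInstance
  obtain ⟨d, hd⟩ := Groth.Agent.S0016.result X
  have claim : ∀ k p : ℕ, 0 < p → d ≤ p + k → ∀ M : X.Modules, Coh.IsQCoh M →
      Subsingleton (Coh.HH X M p) := by
    intro k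
    induction k with
    | zero =>
      intro p _ hdp M hM
      exact hd M hM p (by omega)
    | succ k ih =>
      intro p hp hdp M hM
      obtain ⟨ι, q, hq⟩ := Groth.Agent.Lib.QuasiAffineGlobGen.isGloballyGenerated_of_isQuasiAffine X M hM
      let S : ShortComplex X.Modules := ShortComplex.mk (kernel.ι q) q (kernel.condition q)
      have hS : S.ShortExact :=
        { exact := ShortComplex.exact_kernel q
          mono_f := equalizer.ι_mono
          epi_g := hq }
      haveI : M.IsQuasicoherent := hM
      haveI : (SheafOfModules.free ι : X.Modules).IsQuasicoherent := inferInstance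
      haveI h2 : Subsingleton (Coh.HH X S.X₂ p) := subsingleton_HH_free X ι p (h p hp)
      haveI h1 : Subsingleton (Coh.HH X S.X₁ (p + 1)) :=
        ih (p + 1) (by omega) (by omega) _ (Groth.Agent.Lib.QCohKernel13.isQuasicoherent_kernel q)
      exact Groth.Agent.Lib.CohLES.subsingleton_right hS p
  exact Groth.Agent.S0009.result X (fun I _ _ hI => claim d 1 one_pos (by omega) I hI)

end Groth.Agent.S0043
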