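import Groth.Statements.S0046
import Mathlib
import Groth.Agent.Lib.H90OXModSections

set_option autoImplicit false
universe u
open Coherent

namespace Groth.Agent.S0046

open AlgebraicGeometry CategoryTheory in
/-- On a locally Noetherian scheme, a quasi-coherent submodule of a coherent module is coherent. (The
statement about quotients is omitted.) -/
theorem result (X : Scheme.{u}) [IsLocallyNoetherian X]
    (M N : X.Modules) (i : N ⟶ M) [Mono i] (hM : Coh.IsCoh M) (hN : Coh.IsQCoh N) : Coh.IsCoh N := by
  haveI : N.IsQuasicoherent := hN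
  rw [Groth.Agent.Lib.H90OXModAffineFT.isCoh_iff_forall_affine]
  refine ⟨hN, fun U => ?_⟩
  haveI : IsNoetherianRing Γ(X, U.1) := IsLocallyNoetherian.component_noetherian U
  haveI : Module.Finite Γ(X, U.1) Γ(M, U.1) :=
    Groth.Agent.Lib.CohFinite.finite_sections_of_isCoh M hM U.2
  haveI : IsNoetherian Γ(X, U.1) Γ(M, U.1) := isNoetherian_of_isNoetherianRing_of_finite _ _
  exact Module.Finite.of_injective (Groth.Agent.Lib.H90OXModSections.appLin i U.1)
    (Groth.Agent.Lib.H90OXModSections.injective_appLin_of_mono i U.1)

end Groth.Agent.S0046
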