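import Groth.Statements.S0052
import Groth.Agent.Lib.AmpleFiniteCoh
import Groth.Agent.Lib.Dev01YM
import Groth.Agent.Lib.H90FiniteSurjHub
import Groth.Agent.Lib.H90IdealKill
import Groth.Agent.Lib.H90ArtinRees
import Groth.Agent.Lib.H90DevFilt
import Groth.Agent.S9523

set_option autoImplicit false
universe u
open Coherent

namespace Groth.Agent.S0052

open AlgebraicGeometry CategoryTheory in
/-- Let R be Noetherian, f : Y → X a finite surjective morphism of schemes proper over Spec R, and L
invertible on X. Ampleness of L is equivalent to ampleness of its pullback along f. -/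
theorem result (R : Type u) [CommRing R] [IsNoetherianRing R]
    {X Y : Scheme.{u}} (gX : X ⟶ Spec (CommRingCat.of R)) (gY : Y ⟶ Spec (CommRingCat.of R)) [IsProper gX]
    [IsProper gY] (f : Y ⟶ X) (hf : f ≫ gX = gY) [IsFinite f] [Surjective f] (L : X.Modules)
    (hL : PicF.IsInvertible L) :
    CohB1.IsAmple L ↔ CohB1.IsAmple ((Scheme.Modules.pullback f).obj L) := by
  have hLN : IsLocallyNoetherian X := LocallyOfFiniteType.isLocallyNoetherian gX
  have hcX : CompactSpace X := QuasiCompact.compactSpace_of_compactSpace gX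
  have hNX : IsNoetherian X := { }
  have hLNY : IsLocallyNoetherian Y := LocallyOfFiniteType.isLocallyNoetherian gY
  have hL' : PicF.IsInvertible ((Scheme.Modules.pullback f).obj L) :=
    Groth.Agent.Lib.H90Invertible.isInvertible_pullback f hL
  constructor
  · exact Groth.Agent.Lib.AmpleFiniteCoh.isAmple_pullback_of_finite R gX gY f L hL
  · intro hamp
    rw [Groth.Agent.S0051.result R X gX L hL]
    -- eventual vanishing on `Y`
    have hY : ∀ M : Y.Modules, Coh.IsCoh M →
        Groth.Agent.Lib.AmpleFiniteCoh.EV ((Scheme.Modules.pullback f).obj L) M :=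
      (Groth.Agent.S0051.result R Y gY _ hL').mp hamp
    intro M hM
    refine Groth.Agent.Lib.Dev01YM.devissage_ext_roots X (Groth.Agent.Lib.AmpleFiniteCoh.EV L)
      (fun M N ⟨e⟩ h => h.of_iso e) (fun M hM => Groth.Agent.Lib.AmpleFiniteCoh.EV.of_isZero hM)
      (fun S hS _ _ _ p₁ p₃ => Groth.Agent.Lib.AmpleFiniteCoh.EV.ext hL hS p₁ p₃)
      (fun F r _ hr h => Groth.Agent.Lib.AmpleFiniteCoh.EV.root r hr h) ?_ M hM
    intro Z₀ hZ₀ hirr ξ hξ
    obtain ⟨F₀, hF₀, hsupp, hkill⟩ :=
      Groth.Agent.Lib.H90FiniteSurjHub.exists_coherent_pushforward f ξ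
    have hF₀q : F₀.IsQuasicoherent := hF₀.1
    have hGc : Coh.IsCoh ((Scheme.Modules.pushforward f).obj F₀) :=
      Groth.Agent.Lib.H90OXModPushFinite.isCoh_pushforward f F₀ hF₀
    have hGq : ((Scheme.Modules.pushforward f).obj F₀).IsQuasicoherent := hGc.1
    refine ⟨(Scheme.Modules.pushforward f).obj F₀, hGc, hsupp.trans hξ.2, hkill, ?_⟩
    intro J hJ
    refine ⟨(Dual3.idealMul J).obj ((Scheme.Modules.pushforward f).obj F₀), 𝟙 _, inferInstance,
      Groth.Agent.Lib.H90ArtinRees.isQuasicoherent_idealMul J _, ?_, ?_⟩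
    · -- iso on the stalk at `ξ`
      rw [Category.id_comp]
      let U : X.Opens := ⟨(J.support : Set X)ᶜ, J.support.isClosed.isOpen_compl⟩
      have hU : (U : Set X) = (J.support : Set X)ᶜ := rfl
      have hsurj := Groth.Agent.Lib.H90IdealKill.surjective_stalkLin_idealMulι J
        ((Scheme.Modules.pushforward f).obj F₀) hU 1 ξ hJ
      rw [pow_one] at hsurj
      have hmono : Mono (Dual3.idealMulι J ((Scheme.Modules.pushforward f).obj F₀)) :=
        Dual3.mono_idealMulι J _
      have hinj := Groth.Agent.Lib.ModStalkLin.stalkLin_injective_of_mono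
        (Dual3.idealMulι J ((Scheme.Modules.pushforward f).obj F₀)) ξ
      exact (ConcreteCategory.isIso_iff_bijective _).mpr ⟨hinj, hsurj⟩
    · -- eventual vanishing for `J · f_* F₀ ≅ f_* ((f⁻¹ J) · F₀)`
      obtain ⟨e, -⟩ := Groth.Agent.S9523.result f F₀ hF₀q J
      have hsub : Coh.IsCoh ((Dual3.idealMul (J.comap f)).obj F₀) := by
        have hm : Mono (Dual3.idealMulι (J.comap f) F₀) := Dual3.mono_idealMulι (J.comap f) F₀
        have : ((Dual3.idealMul (J.comap f)).obj F₀).IsQuasicoherent :=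
          Groth.Agent.Lib.H90ArtinRees.isQuasicoherent_idealMul (J.comap f) F₀
        exact Groth.Agent.Lib.H90DevFilt.isCoh_of_mono (Dual3.idealMulι (J.comap f) F₀) hF₀
      have hq : ((Dual3.idealMul (J.comap f)).obj F₀).IsQuasicoherent := hsub.1
      exact (Groth.Agent.Lib.AmpleFiniteCoh.EV.push f hL _ (hY _ hsub)).of_iso e.symm

end Groth.Agent.S0052
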