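import Groth.Statements.S4467
import Groth.Agent.Lib.RpushStalk23
import Groth.Agent.Lib.FormalFn20
import Groth.Agent.Lib.H90CohRestrict
import Groth.Agent.Lib.ZClos5T
import Groth.Agent.S0002
import Groth.Agent.S0036
import Groth.Agent.S2435
import Groth.Agent.S0837

set_option autoImplicit false
universe u
open Coherent

namespace Groth.Agent.S4467

open AlgebraicGeometry CategoryTheory TensorProduct Groth.Agent.Lib.RpushStalk23 in
/-- the key identification `(R^p f_* F)_y ≃ H^p(X ×_Y Spec O_{Y,y}, g^* F)`, linear over the local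
ring -/
theorem nonempty_stalk_equiv {X Y : Scheme.{u}} (f : X ⟶ Y)
    [IsProper f] [IsLocallyNoetherian Y] [CategoryTheory.HasInjectiveResolutions X.Modules]
    (F : X.Modules) (hF : Coh.IsCoh F) (y : Y) (p : ℕ)
    (X₁ : Scheme.{u}) [X₁.Over (Spec (CommRingCat.of (Y.presheaf.stalk y)))] (g : X₁ ⟶ X)
    (hsq : IsPullback g (X₁ ↘ Spec (CommRingCat.of (Y.presheaf.stalk y))) f (Y.fromSpecStalk y)) :
    Nonempty (((Coh.Rpush f p).obj F).presheaf.stalk y ≃ₗ[Y.presheaf.stalk y]
      Coh.HH X₁ ((Scheme.Modules.pullback g).obj F) p) := by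
  obtain ⟨V, hV, hyV, -⟩ := exists_isAffineOpen_mem_and_subset (x := y) (U := ⊤) trivial
  haveI : IsAffine V.toScheme := hV
  let N := (Coh.Rpush f p).obj F
  have hNcoh : Coh.IsCoh N := Groth.Agent.S0036.result f F hF p
  haveI : N.IsQuasicoherent := hNcoh.1
  letI := algStalk V y hyV
  letI := modStalk V y N hyV
  haveI := isScalarTower_stalk V y N hyV
  have hbc := isBaseChange_germRestrict V y N hV hyV
  haveI : Module.Flat Γ(V.toScheme, ⊤) (Y.presheaf.stalk y) := flat_algStalk V y hV hyV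
  haveI : HasInjectiveResolutions (f ⁻¹ᵁ V).toScheme.Modules :=
    Groth.Agent.Lib.RpushRestrict.hasInjectiveResolutions _
  obtain ⟨e⟩ := Groth.Agent.Lib.RpushRestrict.nonempty_iso f V F p
  obtain ⟨g', hg', hsq'⟩ := exists_lift_isPullback f V y hV hyV X₁ g hsq
  have hF' : Coh.IsQCoh (F.restrict (f ⁻¹ᵁ V).ι) :=
    (Groth.Agent.Lib.H90CohRestrict.isCoh_restrict (f ⁻¹ᵁ V).ι F hF).1
  obtain ⟨e2⟩ := nonempty_tensor_sections_equiv (f ∣_ V) (F.restrict (f ⁻¹ᵁ V).ι) hF' p
    (Y.presheaf.stalk y) X₁ g' hsq'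
  let κ := sectionsLinearEquiv e ⊤
  let θ : (Scheme.Modules.pullback g').obj (F.restrict (f ⁻¹ᵁ V).ι) ≅
      (Scheme.Modules.pullback g).obj F :=
    (Scheme.Modules.pullback g').mapIso
        ((Scheme.Modules.restrictFunctorIsoPullback (f ⁻¹ᵁ V).ι).app F) ≪≫
      (Scheme.Modules.pullbackComp g' (f ⁻¹ᵁ V).ι).app F ≪≫
      (Scheme.Modules.pullbackCongr hg').app F
  exact ⟨hbc.equiv.symm ≪≫ₗ
    (TensorProduct.AlgebraTensorModule.congr (LinearEquiv.refl _ _) κ) ≪≫ₗ e2 ≪≫ₗ
    mapLEquiv (Y.presheaf.stalk y) θ p⟩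

open AlgebraicGeometry CategoryTheory in
theorem main (H0 : Groth.Agent.Lib.ProperFinHyp.Hyp.{u})
    (H1 : Groth.Agent.Lib.FormalFn20.Hyp2435.{u}) (H2 : Groth.Agent.Lib.FormalFn20.Hyp0837.{u})
    {X Y : Scheme.{u}} (f : X ⟶ Y)
    [IsProper f] [IsLocallyNoetherian Y] [CategoryTheory.HasInjectiveResolutions X.Modules]
    (F : X.Modules) (hF : Coh.IsCoh F) (y : Y) (p : ℕ)
    (X₁ : Scheme.{u}) [X₁.Over (Spec (CommRingCat.of (Y.presheaf.stalk y)))] (g : X₁ ⟶ X)
    (hsq : IsPullback g (X₁ ↘ Spec (CommRingCat.of (Y.presheaf.stalk y))) f (Y.fromSpecStalk y)) :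
    Module.Finite (Y.presheaf.stalk y) (((Coh.Rpush f p).obj F).presheaf.stalk y) ∧
    Nonempty (AdicCompletion (IsLocalRing.maximalIdeal (Y.presheaf.stalk y))
        (((Coh.Rpush f p).obj F).presheaf.stalk y) ≃+
      Formal.HHlim (IsLocalRing.maximalIdeal (Y.presheaf.stalk y)) ((Scheme.Modules.pullback g).obj F) p) := by
  obtain ⟨E⟩ := nonempty_stalk_equiv f F hF y p X₁ g hsq
  haveI : IsProper (X₁ ↘ Spec (CommRingCat.of (Y.presheaf.stalk y))) :=
    MorphismProperty.of_isPullback hsq (inferInstance : IsProper f)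
  have hG : Coh.IsCoh ((Scheme.Modules.pullback g).obj F) :=
    Groth.Agent.Lib.ZClos5.isCoh_pullback g F hF
  constructor
  · haveI : Module.Finite (Y.presheaf.stalk y) (Coh.HH X₁ ((Scheme.Modules.pullback g).obj F) p) :=
      H0 (Y.presheaf.stalk y) X₁ _ hG p
    exact Module.Finite.equiv E.symm
  · obtain ⟨e3, -⟩ := Groth.Agent.Lib.FormalFn20.exists_addEquiv_HHlim H1 H2 (Y.presheaf.stalk y)
      (IsLocalRing.maximalIdeal (Y.presheaf.stalk y)) X₁ _ hG p
    exact ⟨(AdicCompletion.congr (IsLocalRing.maximalIdeal (Y.presheaf.stalk y)) E).toAddEquiv.trans e3⟩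

theorem hyp0002 : Groth.Agent.Lib.ProperFinHyp.Hyp.{u} :=
  fun A _ _ X _ _ M hM n => Groth.Agent.S0002.result A X M hM n

theorem hyp2435 : Groth.Agent.Lib.FormalFn20.Hyp2435.{u} :=
  fun A _ _ m X _ _ F hF p => Groth.Agent.S2435.result A m X F hF p

theorem hyp0837 : Groth.Agent.Lib.FormalFn20.Hyp0837.{u} :=
  fun A _ _ I X _ _ F hF p => Groth.Agent.S0837.result A I X F hF p

open AlgebraicGeometry CategoryTheory in
/-- Suppose f : X → Y is a proper morphism whose target Y is a locally Noetherian scheme, and take a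
coherent O_X-module F, a point y ∈ Y and an integer p ≥ 0. Form X₁ = X ×_Y Spec(O_{Y,y}), writing g
for its first projection to X, and set F₁ = g^* F. Then the O_{Y,y}-module (R^p f_* F)_y is of
finite type, and completing it m_y-adically, with m_y the maximal ideal, yields something additively
isomorphic to the inverse limit, as k varies, of the groups H^p(X₁, F₁/m_y^(k+1)F₁); in the source
these are described as the cohomology groups of F ⊗ O_y/m_y^(k+1) on the fibre f⁻¹(y). (Whereas the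
source provides a canonical topological isomorphism, here we only claim that some additive
isomorphism exists. The existence of injective resolutions in X.Modules is supplied as an instance
argument.) -/
theorem result {X Y : Scheme.{u}} (f : X ⟶ Y)
    [IsProper f] [IsLocallyNoetherian Y] [CategoryTheory.HasInjectiveResolutions X.Modules]
    (F : X.Modules) (hF : Coh.IsCoh F) (y : Y) (p : ℕ)
    (X₁ : Scheme.{u}) [X₁.Over (Spec (CommRingCat.of (Y.presheaf.stalk y)))] (g : X₁ ⟶ X)
    (hsq : IsPullback g (X₁ ↘ Spec (CommRingCat.of (Y.presheaf.stalk y))) f (Y.fromSpecStalk y)) :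
    Module.Finite (Y.presheaf.stalk y) (((Coh.Rpush f p).obj F).presheaf.stalk y) ∧
    Nonempty (AdicCompletion (IsLocalRing.maximalIdeal (Y.presheaf.stalk y))
        (((Coh.Rpush f p).obj F).presheaf.stalk y) ≃+
      Formal.HHlim (IsLocalRing.maximalIdeal (Y.presheaf.stalk y)) ((Scheme.Modules.pullback g).obj F) p) := by
  exact main hyp0002 hyp2435 hyp0837 f F hF y p X₁ g hsq

end Groth.Agent.S4467
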