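import Groth.Statements.S0062
import Groth.Agent.Lib.FibreVan20
import Groth.Agent.Lib.PullTensor20
import Groth.Agent.Lib.RpushRestrict
import Groth.Agent.Lib.ZClos5T
import Groth.Agent.S4467
import Groth.Agent.S11319

set_option autoImplicit false
universe u
open Coherent

namespace Groth.Agent.S0062

open AlgebraicGeometry CategoryTheory CategoryTheory.Limits in
/-- Vanishing of `lim_n H^p(X₁, g^*(M ⊗ L^d)/𝔪^{n+1})` on `X₁ = X ×_Y Spec O_{Y,y}` for `d ≫ 0`, `p > 0`. -/
theorem key {X Y : Scheme.{u}} (f : X ⟶ Y) [IsProper f] [IsLocallyNoetherian Y]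
    (L : X.Modules) (hL : PicF.IsInvertible L) (M : X.Modules) (hM : Coh.IsCoh M) (y : Y)
    (hy : CohB1.IsAmple ((Scheme.Modules.pullback (f.fiberι y)).obj L))
    (X₁ : Scheme.{u}) [X₁.Over (Spec (CommRingCat.of (Y.presheaf.stalk y)))] (g : X₁ ⟶ X)
    (hsq : IsPullback g (X₁ ↘ Spec (CommRingCat.of (Y.presheaf.stalk y))) f (Y.fromSpecStalk y)) :
    ∃ d₀ : ℕ, ∀ d, d₀ ≤ d → ∀ p, 0 < p →
      Subsingleton (Formal.HHlim (IsLocalRing.maximalIdeal (Y.presheaf.stalk y))
        ((Scheme.Modules.pullback g).obj (CohB1.tensorMod M (CohB1.tensorPow L d))) p) := by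
  haveI : IsProper (X₁ ↘ Spec (CommRingCat.of (Y.presheaf.stalk y))) :=
    MorphismProperty.of_isPullback hsq (inferInstance : IsProper f)
  have hM₁ : Coh.IsCoh ((Scheme.Modules.pullback g).obj M) :=
    Groth.Agent.Lib.ZClos5.isCoh_pullback g M hM
  have hL₁ : PicF.IsInvertible ((Scheme.Modules.pullback g).obj L) :=
    Groth.Agent.Lib.H90Invertible.isInvertible_pullback g hL
  -- the closed fibre of `X₁ ⟶ Spec O_{Y,y}` is the fibre of `f` at `y`
  let q : f.fiber y ⟶ Spec (CommRingCat.of (Y.presheaf.stalk y ⧸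
      IsLocalRing.maximalIdeal (Y.presheaf.stalk y))) := f.fiberToSpecResidueField y
  have hw : f.fiberι y ≫ f = (q ≫ Spec.map (CommRingCat.ofHom
      (Ideal.Quotient.mk (IsLocalRing.maximalIdeal (Y.presheaf.stalk y))))) ≫ Y.fromSpecStalk y := by
    rw [Category.assoc]
    exact f.fiber_fac y
  let j : f.fiber y ⟶ X₁ := hsq.lift (f.fiberι y) (q ≫ Spec.map (CommRingCat.ofHom
      (Ideal.Quotient.mk (IsLocalRing.maximalIdeal (Y.presheaf.stalk y))))) hw
  have hj1 : j ≫ g = f.fiberι y := hsq.lift_fst _ _ _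
  have hj2 : j ≫ (X₁ ↘ Spec (CommRingCat.of (Y.presheaf.stalk y))) = q ≫ Spec.map (CommRingCat.ofHom
      (Ideal.Quotient.mk (IsLocalRing.maximalIdeal (Y.presheaf.stalk y)))) := hsq.lift_snd _ _ _
  have hsqZ : IsPullback j q (X₁ ↘ Spec (CommRingCat.of (Y.presheaf.stalk y)))
      (Spec.map (CommRingCat.ofHom
        (Ideal.Quotient.mk (IsLocalRing.maximalIdeal (Y.presheaf.stalk y))))) := by
    refine IsPullback.of_right ?_ hj2 hsq
    rw [hj1]
    exact IsPullback.of_hasPullback f (Y.fromSpecResidueField y)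
  have hampZ : CohB1.IsAmple ((Scheme.Modules.pullback j).obj ((Scheme.Modules.pullback g).obj L)) :=
    Groth.Agent.Lib.H78AmpleUnit.isAmple_of_iso
      ((Scheme.Modules.pullbackComp j g).app L ≪≫ (Scheme.Modules.pullbackCongr hj1).app L).symm hy
  obtain ⟨d₀, h⟩ := Groth.Agent.Lib.FibreVan20.uniform_vanishing_modPow_of_fibre_ample
    (IsLocalRing.maximalIdeal (Y.presheaf.stalk y)) hL₁ j q hsqZ hampZ hM₁
  refine ⟨d₀, fun d hd p hp => ?_⟩
  obtain ⟨θ⟩ := Groth.Agent.Lib.PullTensor20.nonempty_pullback_twist_iso g M hL d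
  exact Groth.Agent.Lib.FormalGr20.subsingleton_HHlim_of_iso θ _ p (fun n => h d hd n p hp)

open AlgebraicGeometry CategoryTheory in
/-- Let f : X → Y be proper with Y Noetherian, L invertible on X, F coherent on X, and y a point such
that the pullback of L to the fibre X_y is ample. Then there is d₀ such that for all d ≥ d₀ and p >
0 the stalk at y of R^p f_*(F ⊗ L^{⊗d}) vanishes. (The surjectivity assertion on global sections of
the fibre is not stated.) -/
theorem result {X Y : Scheme.{u}} (f : X ⟶ Y) [IsProper f]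
    [IsNoetherian Y] (L : X.Modules) (hL : PicF.IsInvertible L) (M : X.Modules) (hM : Coh.IsCoh M) (y : Y)
    (hy : CohB1.IsAmple ((Scheme.Modules.pullback (f.fiberι y)).obj L)) :
    ∃ d₀ : ℕ, ∀ d : ℕ, d₀ ≤ d → ∀ p : ℕ, 0 < p →
      Limits.IsZero (TopCat.Presheaf.stalk
        ((Coh.RpushAb f p).obj (Coh.toAb (CohB1.tensorMod M (CohB1.tensorPow L d)))).obj y) := by
  haveI : HasInjectiveResolutions X.Modules := Groth.Agent.Lib.RpushRestrict.hasInjectiveResolutions X
  letI : (Limits.pullback f (Y.fromSpecStalk y)).Over (Spec (CommRingCat.of (Y.presheaf.stalk y))) :=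
    ⟨Limits.pullback.snd f (Y.fromSpecStalk y)⟩
  have hsq : IsPullback (Limits.pullback.fst f (Y.fromSpecStalk y))
      ((Limits.pullback f (Y.fromSpecStalk y)) ↘ Spec (CommRingCat.of (Y.presheaf.stalk y))) f
      (Y.fromSpecStalk y) := IsPullback.of_hasPullback _ _
  obtain ⟨d₀, h⟩ := key f L hL M hM y hy _ _ hsq
  refine ⟨d₀, fun d hd p hp => ?_⟩
  haveI : IsLocallyNoetherian X := LocallyOfFiniteType.isLocallyNoetherian f
  have hN : Coh.IsCoh (CohB1.tensorMod M (CohB1.tensorPow L d)) :=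
    Groth.Agent.Lib.CohFinAmple.isCoh_tensorMod hM
      (Groth.Agent.Lib.CohFinAmple.isCoh_tensorPow
        (Groth.Agent.Lib.H90Invertible.isCoh_of_isInvertible hL) d)
  obtain ⟨hfin, ⟨E⟩⟩ := Groth.Agent.S4467.result f _ hN y p _ _ hsq
  haveI := h d hd p hp
  haveI : Subsingleton (AdicCompletion (IsLocalRing.maximalIdeal (Y.presheaf.stalk y))
      (((Coh.Rpush f p).obj (CohB1.tensorMod M (CohB1.tensorPow L d))).presheaf.stalk y)) :=
    E.toEquiv.subsingleton
  have hS : Subsingleton (((Coh.Rpush f p).obj (CohB1.tensorMod M (CohB1.tensorPow L d))).presheaf.stalk y) :=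
    (AdicCompletion.of_injective (I := IsLocalRing.maximalIdeal (Y.presheaf.stalk y))
      (M := ((Coh.Rpush f p).obj (CohB1.tensorMod M (CohB1.tensorPow L d))).presheaf.stalk y)).subsingleton
  obtain ⟨e⟩ := Groth.Agent.S11319.result f (CohB1.tensorMod M (CohB1.tensorPow L d)) p
  refine Limits.IsZero.of_iso ?_ ((TopCat.Presheaf.stalkFunctor AddCommGrpCat y).mapIso
    ((sheafToPresheaf _ _).mapIso e)).symm
  exact @AddCommGrpCat.isZero_of_subsingleton _ hS

end Groth.Agent.S0062
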