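import Groth.Statements.S0064
import Mathlib.AlgebraicGeometry.Morphisms.FormallyUnramified
-- import your own Groth.Agent.* helpers here

set_option autoImplicit false
open CategoryTheory CategoryTheory.Limits AlgebraicGeometry Opposite
universe u
open EtBase

namespace Groth.Agent.S0064

/-- A section of a formally unramified morphism locally of finite type is an open immersion. -/
theorem isOpenImmersion_of_section {W Y : Scheme.{u}} (p : W ⟶ Y) [FormallyUnramified p]
    [LocallyOfFiniteType p] (σ : Y ⟶ W) (hσ : σ ≫ p = 𝟙 Y) : IsOpenImmersion σ := by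
  set gr : Y ⟶ pullback (σ ≫ p) p := pullback.lift (𝟙 Y) σ (by simp) with hgr
  have h1 : σ = gr ≫ pullback.snd _ _ := (pullback.lift_snd _ _ _).symm
  have h2 : IsOpenImmersion gr :=
    MorphismProperty.of_isPullback (P := @IsOpenImmersion)
      (pullback_lift_diagonal_isPullback σ p) inferInstance
  have h3 : IsIso (σ ≫ p) := by rw [hσ]; infer_instance
  have h4 : IsOpenImmersion (pullback.snd (σ ≫ p) p) := inferInstance
  rw [h1]
  infer_instance

/-- In a Noetherian space there are finitely many clopen subsets. -/
theorem finite_isClopen {α : Type*} [TopologicalSpace α] [TopologicalSpace.NoetherianSpace α] :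
    Set.Finite {C : Set α | IsClopen C} := by
  have hfin : (irreducibleComponents α).Finite :=
    TopologicalSpace.NoetherianSpace.finite_irreducibleComponents
  have hfin' : Set.Finite (Set.univ : Set (Set (irreducibleComponents α))) := by
    have : Finite (irreducibleComponents α) := hfin
    exact Set.finite_univ
  refine Set.Finite.of_injOn (f := fun C => {Z : irreducibleComponents α | (Z : Set α) ⊆ C})
    (t := Set.univ) (fun _ _ => Set.mem_univ _) ?_ hfin'
  intro C hC D hD hCD
  have key : ∀ C : Set α, IsClopen C →
      C = ⋃ Z ∈ {Z : irreducibleComponents α | (Z : Set α) ⊆ C}, (Z : Set α) := by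
    intro C hC
    apply Set.Subset.antisymm
    · intro x hx
      have hZ : irreducibleComponent x ∈ irreducibleComponents α :=
        irreducibleComponent_mem_irreducibleComponents x
      refine Set.mem_iUnion₂.mpr ⟨⟨_, hZ⟩, ?_, mem_irreducibleComponent⟩
      exact (isIrreducible_irreducibleComponent (x := x)).2.isPreconnected.subset_isClopen hC
        ⟨x, mem_irreducibleComponent, hx⟩
    · exact Set.iUnion₂_subset fun Z hZ => hZ
  rw [key C hC, key D hD]
  simp only at hCD
  rw [hCD]

/-- Let S be a Noetherian scheme, X → S a quasi-compact, separated, unramified morphism (formally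
unramified and locally of finite type), and Y a Noetherian scheme with a morphism Y → S. Then there
are only finitely many S-morphisms Y → X. The published statement does not assume X → S separated;
it is stated here in the separated case. -/
theorem result {X S Y : Scheme.{u}} [IsNoetherian S] [IsNoetherian Y]
    (π : X ⟶ S) [FormallyUnramified π] [LocallyOfFiniteType π] [QuasiCompact π] [IsSeparated π]
    (h : Y ⟶ S) : Set.Finite {f : Y ⟶ X | f ≫ π = h} := by
  let W := pullback π h
  let p : W ⟶ Y := pullback.snd π h
  have : FormallyUnramified p := MorphismProperty.pullback_snd (P := @FormallyUnramified) _ _ ‹_›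
  have : IsLocallyNoetherian W := LocallyOfFiniteType.isLocallyNoetherian p
  have : CompactSpace W := QuasiCompact.compactSpace_of_compactSpace p
  have : IsNoetherian W := {}
  have hfin : Set.Finite {C : Set W | IsClopen C} := finite_isClopen
  let σ : ∀ f : Y ⟶ X, f ≫ π = h → (Y ⟶ W) := fun f hf => pullback.lift f (𝟙 Y) (by simpa using hf)
  have hσp : ∀ f hf, σ f hf ≫ p = 𝟙 Y := fun f hf => pullback.lift_snd _ _ _
  have hσf : ∀ f hf, σ f hf ≫ pullback.fst π h = f := fun f hf => pullback.lift_fst _ _ _
  classical
  refine Set.Finite.of_injOn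
    (f := fun f : Y ⟶ X => if hf : f ≫ π = h then Set.range (σ f hf) else ∅)
    (t := {C : Set W | IsClopen C}) ?_ ?_ hfin
  · intro f hf
    replace hf : f ≫ π = h := hf
    simp only [hf, dif_pos]
    have h1 : IsOpenImmersion (σ f hf) := isOpenImmersion_of_section p _ (hσp f hf)
    have h2 : IsClosedImmersion (σ f hf) := by
      have : IsClosedImmersion (σ f hf ≫ p) := by rw [hσp f hf]; infer_instance
      exact IsClosedImmersion.of_comp (σ f hf) p
    change IsClopen _
    exact ⟨(Scheme.Hom.isClosedEmbedding _).isClosed_range,
      (Scheme.Hom.isOpenEmbedding _).isOpen_range⟩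
  · intro f hf g hg hfg
    replace hf : f ≫ π = h := hf
    replace hg : g ≫ π = h := hg
    simp only [hf, hg, dif_pos] at hfg
    have h1 : IsOpenImmersion (σ f hf) := isOpenImmersion_of_section p _ (hσp f hf)
    have hle : Set.range (σ g hg) ⊆ Set.range (σ f hf) := hfg.ge
    have h3 : IsOpenImmersion.lift (σ f hf) (σ g hg) hle ≫ σ f hf = σ g hg :=
      IsOpenImmersion.lift_fac _ _ _
    have h4 : IsOpenImmersion.lift (σ f hf) (σ g hg) hle = 𝟙 Y := by
      have := congr($h3 ≫ p)
      rwa [Category.assoc, hσp f hf, hσp g hg, Category.comp_id] at this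
    rw [h4, Category.id_comp] at h3
    rw [← hσf f hf, ← hσf g hg, h3]

end Groth.Agent.S0064
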