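import Groth.Statements.S0068
import Groth.Agent.Lib.EtClosedStalk
import Groth.Agent.Lib.EtAbStalk2
import Groth.Agent.S0069

set_option autoImplicit false
open CategoryTheory CategoryTheory.Limits AlgebraicGeometry Opposite
universe u
open EtBase

namespace Groth.Agent.S0068

open Groth.Agent.Lib.EtGerm Groth.Agent.Lib.EtStalkPull Groth.Agent.Lib.EtStalkPullGerm
  Groth.Agent.Lib.EtClosedStalk Groth.Agent.Lib.EtStalkConservative Groth.Agent.Lib.EtAbStalk
  Groth.Agent.Lib.EtAbStalk2

/-- sections of a direct image along `i` vanish over etale schemes missing the image of `i` -/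
lemma isZero_push_of_disjoint {Z X : Scheme.{u}} (i : Z ⟶ X) [EtCoh.BCCont i]
    (G : EtCoh.Ab Z) (U : X.Etale)
    (hU : Disjoint (Set.range U.hom.base) (Set.range i.base)) :
    IsZero (((EtCoh.push i).obj G).obj.obj (op U)) := by
  have : IsEmpty ((EtCoh.bc i).obj U).left := by
    refine ⟨fun p => ?_⟩
    let w : U.left := (pullback.fst U.hom i : ((EtCoh.bc i).obj U).left ⟶ _) p
    let z : Z := (pullback.snd U.hom i : ((EtCoh.bc i).obj U).left ⟶ _) p
    have hcomm : U.hom w = i z := by
      have := congrArg (fun f : ((EtCoh.bc i).obj U).left ⟶ X => f p)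
        (pullback.condition (f := U.hom) (g := i))
      exact this
    exact Set.disjoint_left.1 hU ⟨w, rfl⟩ ⟨z, hcomm.symm⟩
  have : Subsingleton (EtCoh.sect ((EtCoh.push i).obj G) U) :=
    subsingleton_sect_of_isEmpty G ((EtCoh.bc i).obj U)
  exact AddCommGrpCat.isZero_of_subsingleton _

/-- the stalk of `F` at a point outside `Z` vanishes under the vanishing hypothesis -/
lemma isZero_stalk_of_vanishing {Z X : Scheme.{u}} (i : Z ⟶ X) [IsClosedImmersion i]
    (F : EtCoh.Ab X)
    (H : ∀ U : X.Etale, Disjoint (Set.range U.hom.base) (Set.range i.base) →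
      IsZero (F.obj.obj (op U)))
    {Ω : Type u} [Field Ω] [IsSepClosed Ω] (ξ : Spec (CommRingCat.of Ω) ⟶ X)
    (hξ : ξ default ∉ Set.range i) :
    IsZero ((EtCoh.stalk ξ).obj F) := by
  apply isZero_stalk_of_forall_germ
  intro U y s
  have hcl : IsClosed (U.hom ⁻¹' (Set.range i)) :=
    (Scheme.Hom.isClosedEmbedding i).isClosed_range.preimage U.hom.continuous
  let W : U.left.Opens := ⟨(U.hom ⁻¹' (Set.range i))ᶜ, hcl.isOpen_compl⟩
  have hyW : Nbhd.pt ξ y ∈ W := by
    show Nbhd.pt ξ y ∉ U.hom ⁻¹' (Set.range i)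
    intro hmem
    have h1 : U.hom (Nbhd.pt ξ y) ∈ Set.range i := hmem
    rw [Nbhd.hom_pt] at h1
    exact hξ h1
  have hdisj : Disjoint (Set.range (openSub U W).hom.base) (Set.range i.base) := by
    rw [Set.disjoint_left]
    rintro _ ⟨w, rfl⟩ hmem
    have hw : (W.ι w) ∉ U.hom ⁻¹' (Set.range i) := by
      have : (W.ι w) ∈ W := by
        rw [Scheme.Opens.ι_apply]
        exact w.2
      exact this
    exact hw hmem
  have : Subsingleton (EtCoh.sect F (openSub U W)) :=
    AddCommGrpCat.subsingleton_of_isZero (H (openSub U W) hdisj)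
  exact germ_eq_zero_of_subsingleton ξ _ W y hyW s

lemma bijective_of_isZero {A B : AddCommGrpCat.{u}} (f : A ⟶ B) (hA : IsZero A) (hB : IsZero B) :
    Function.Bijective f := by
  have := AddCommGrpCat.subsingleton_of_isZero hA
  have := AddCommGrpCat.subsingleton_of_isZero hB
  exact ⟨fun a b _ => Subsingleton.elim a b, fun b => ⟨0, Subsingleton.elim _ _⟩⟩

/-- under the vanishing hypothesis the unit `F ⟶ i_* i⁻¹ F` is an isomorphism -/
lemma isIso_unit_of_vanishing {Z X : Scheme.{u}} (i : Z ⟶ X) [IsClosedImmersion i]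
    [EtCoh.BCCont i] (F : EtCoh.Ab X)
    (H : ∀ U : X.Etale, Disjoint (Set.range U.hom.base) (Set.range i.base) →
      IsZero (F.obj.obj (op U))) :
    IsIso ((EtCoh.pullPushAdj i).unit.app F) := by
  apply isIso_of_forall_exists_geomPt
  intro x
  by_cases hx : x ∈ Set.range i
  · obtain ⟨z, rfl⟩ := hx
    refine ⟨_, inferInstance, inferInstance, stdPt z ≫ i, ?_, ?_⟩
    · show i (stdPt z default) = i z
      rw [stdPt_default]
    · have h1 : IsIso ((EtCoh.pull i).map ((EtCoh.pullPushAdj i).unit.app F)) := by
        have htri := (EtCoh.pullPushAdj i).left_triangle_components F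
        have hε : IsIso ((EtCoh.pullPushAdj i).counit.app ((EtCoh.pull i).obj F)) :=
          isIso_counit_app i _
        have hid : IsIso (𝟙 ((EtCoh.pull i).obj F)) := IsIso.id _
        exact @IsIso.of_isIso_fac_right _ _ _ _ _ _ _ _ hε hid htri
      have hnat := (stalkPullIso i (stdPt z)).hom.naturality ((EtCoh.pullPushAdj i).unit.app F)
      have h2 : IsIso ((EtCoh.pull i ⋙ EtCoh.stalk (stdPt z)).map
          ((EtCoh.pullPushAdj i).unit.app F)) := by
        show IsIso ((EtCoh.stalk (stdPt z)).map ((EtCoh.pull i).map _))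
        infer_instance
      have h3 : IsIso ((EtCoh.stalk (stdPt z ≫ i)).map ((EtCoh.pullPushAdj i).unit.app F)) := by
        have h4 : IsIso ((stalkPullIso i (stdPt z)).hom.app _ ≫
            (EtCoh.stalk (stdPt z ≫ i)).map ((EtCoh.pullPushAdj i).unit.app F)) := by
          rw [← hnat]
          infer_instance
        exact IsIso.of_isIso_comp_left ((stalkPullIso i (stdPt z)).hom.app _) _
      exact ConcreteCategory.bijective_of_isIso _
  · refine ⟨_, inferInstance, inferInstance, stdPt x, stdPt_default x, ?_⟩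
    apply bijective_of_isZero
    · exact isZero_stalk_of_vanishing i F H (stdPt x) (by rw [stdPt_default]; exact hx)
    · apply Groth.Agent.S0069.result i ((EtCoh.pull i).obj F) (stdPt x)
      rw [Set.disjoint_left]
      intro a ha hb
      have : a ∈ Set.range (stdPt x) := ha
      rw [range_stdPt] at this
      rw [Set.mem_singleton_iff] at this
      subst this
      exact hx hb

/-- Part (2), second half — an abelian étale sheaf is a pushforward from a closed subscheme exactly when
its sections vanish over every étale scheme mapping into the open complement. -/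
theorem result {Z X : Scheme.{u}} (i : Z ⟶ X) [IsClosedImmersion i] [EtCoh.BCCont i]
    (F : EtCoh.Ab X) :
    (EtCoh.push i).essImage F ↔
      ∀ U : X.Etale, Disjoint (Set.range U.hom.base) (Set.range i.base) → IsZero (F.obj.obj (op U)) := by
  constructor
  · rintro ⟨G, ⟨e⟩⟩ U hU
    have hz := isZero_push_of_disjoint i G U hU
    exact hz.of_iso (((sheafToPresheaf _ _ ⋙ (evaluation _ _).obj (op U)).mapIso e).symm)
  · intro H
    have := isIso_unit_of_vanishing i F H
    exact ⟨(EtCoh.pull i).obj F, ⟨(asIso ((EtCoh.pullPushAdj i).unit.app F)).symm⟩⟩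

end Groth.Agent.S0068
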