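import Groth.Statements.S0075
-- import your own Groth.Agent.* helpers here
import Groth.Agent.Lib.UHEtDesc3H52

set_option autoImplicit false
open CategoryTheory CategoryTheory.Limits AlgebraicGeometry Opposite
universe u
open EtBase

namespace Groth.Agent.S0075

/-- Topological invariance of the small étale site — base change along an integral, universally
injective, surjective morphism (a universal homeomorphism) is an equivalence between the categories
of étale schemes. -/
theorem result {X Y : Scheme.{u}} (f : X ⟶ Y) [IsIntegralHom f] [UniversallyInjective f]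
    [Surjective f] : (EtCoh.bc f).IsEquivalence := by
  have hg : FlatMor.IsUnivHomeo f :=
    (Groth.Agent.Lib.UnivHomeo.iff_isIntegralHom_universallyInjective_surjective f).mpr
      ⟨inferInstance, inferInstance, inferInstance⟩
  have key : ∀ (A B : Y.Etale) (φ : A ⟶ B),
      ((EtCoh.bc f).map φ).left = ((Over.pullback f).map
        (Over.homMk φ.left (MorphismProperty.Over.w φ) : Over.mk A.hom ⟶ Over.mk B.hom)).left := by
    intro A B φ
    rfl
  have hfull : (EtCoh.bc f).Full := by
    constructor
    intro A B ψ
    have : Etale B.hom := B.prop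
    have : Etale (Over.mk B.hom).hom := B.prop
    let ψ' : (Over.pullback f).obj (Over.mk A.hom) ⟶ (Over.pullback f).obj (Over.mk B.hom) :=
      Over.homMk ψ.left (MorphismProperty.Over.w ψ)
    obtain ⟨φ, hφ⟩ := (Groth.Agent.Lib.H80TopInv.bijective_pullback_map f hg
      (Over.mk B.hom) (Over.mk A.hom)).2 ψ'
    refine ⟨MorphismProperty.Over.homMk φ.left (Over.w φ) trivial, ?_⟩
    apply MorphismProperty.Over.Hom.ext
    refine (key _ _ _).trans ?_
    have := congrArg CommaMorphism.left hφ
    exact this
  have hfaith : (EtCoh.bc f).Faithful := by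
    constructor
    intro A B φ ψ h
    have : Etale (Over.mk B.hom).hom := B.prop
    apply MorphismProperty.Over.Hom.ext
    have h1 := congrArg (fun x => x.left) h
    change ((EtCoh.bc f).map φ).left = ((EtCoh.bc f).map ψ).left at h1
    replace h1 := (key _ _ φ).symm.trans (h1.trans (key _ _ ψ))
    have h2 := (Groth.Agent.Lib.H80TopInv.bijective_pullback_map f hg
      (Over.mk B.hom) (Over.mk A.hom)).1 (Over.OverMorphism.ext h1)
    exact congrArg CommaMorphism.left h2
  have hess : (EtCoh.bc f).EssSurj := by
    constructor
    intro E
    have h2 : Etale (Over.mk E.hom).hom := E.prop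
    obtain ⟨U, het, ⟨e⟩⟩ :=
      Groth.Agent.Lib.UHEtDescH52.exists_etale_pullback_iso' f (Over.mk E.hom)
    refine ⟨MorphismProperty.Over.mk ⊤ U.hom het, ⟨?_⟩⟩
    exact MorphismProperty.Over.isoMk ((Over.forget _).mapIso e) (Over.w e.hom)
  exact { faithful := hfaith, full := hfull, essSurj := hess }

end Groth.Agent.S0075
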