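import Groth.Statements.S0078
import Mathlib.FieldTheory.Finite.Basic
import Mathlib.LinearAlgebra.LinearIndependent.Lemmas
import Mathlib.LinearAlgebra.Dimension.Constructions

set_option autoImplicit false
universe u
open EtBase

namespace Groth.Agent.S0078


open Polynomial in
lemma card_fixed_le {k : Type u} [Field k] (p : ℕ) [hp : Fact p.Prime] :
    Set.Finite {c : k | c ^ p = c} ∧ Nat.card {c : k | c ^ p = c} ≤ p := by
  classical
  have hne : (X ^ p - X : k[X]) ≠ 0 := FiniteField.X_pow_card_sub_X_ne_zero k hp.out.one_lt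
  have hsub : {c : k | c ^ p = c} ⊆ ((X ^ p - X : k[X]).roots.toFinset : Set k) := by
    intro c hc
    simp only [Set.mem_ofPred_eq] at hc
    simp only [Finset.mem_coe, Multiset.mem_toFinset, mem_roots hne, IsRoot.def, eval_sub,
      eval_pow, eval_X, hc, sub_self]
  have hfin : Set.Finite {c : k | c ^ p = c} := (Finset.finite_toSet _).subset hsub
  refine ⟨hfin, ?_⟩
  calc Nat.card {c : k | c ^ p = c}
      ≤ Nat.card ((X ^ p - X : k[X]).roots.toFinset : Set k) :=
        Nat.card_mono (Finset.finite_toSet _) hsub
    _ = (X ^ p - X : k[X]).roots.toFinset.card := Nat.card_eq_card_toFinset _ |>.trans (by simp)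
    _ ≤ Multiset.card (X ^ p - X : k[X]).roots := Multiset.toFinset_card_le _
    _ ≤ (X ^ p - X : k[X]).natDegree := card_roots' _
    _ = p := FiniteField.X_pow_card_sub_X_natDegree_eq k hp.out.one_lt

theorem result' {k V : Type u} [Field k] (p : ℕ) [hp : Fact p.Prime]
    [AddCommGroup V] [Module k V] [FiniteDimensional k V] (F : V →+ V)
    (hF : ∀ (c : k) (v : V), F (c • v) = c ^ p • F v) :
    Set.Finite {v : V | F v = v} ∧ Nat.card {v : V | F v = v} ≤ p ^ Module.finrank k V := by
  classical
  set S := {v : V | F v = v} with hS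
  obtain ⟨b, hbS, hspan, hli⟩ := exists_linearIndependent k S
  have hbfin : Finite b := Cardinal.lt_aleph0_iff_finite.mp hli.lt_aleph0_of_finite
  have hbcard : Nat.card b ≤ Module.finrank k V := by
    have : Fintype b := Fintype.ofFinite b
    rw [Nat.card_eq_fintype_card]
    exact hli.fintype_card_le_finrank
  obtain ⟨hGfin, hGcard⟩ := card_fixed_le (k := k) p
  have hGfin' : Finite {c : k | c ^ p = c} := hGfin
  have hmem : ∀ v ∈ S, v ∈ Submodule.span k (Set.range ((↑) : b → V)) := by
    intro v hv; rw [Subtype.range_coe, hspan]; exact Submodule.subset_span hv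
  let c : S → (b →₀ k) := fun v => hli.repr ⟨v, hmem v v.2⟩
  have hc : ∀ v : S, Finsupp.linearCombination k ((↑) : b → V) (c v) = v :=
    fun v => hli.linearCombination_repr ⟨v, hmem v v.2⟩
  have hfix : ∀ (v : S) (i : b), (c v i) ^ p = c v i := by
    intro v i
    let c' : b →₀ k := (c v).mapRange (· ^ p) (zero_pow hp.out.ne_zero)
    have h1 : Finsupp.linearCombination k ((↑) : b → V) c' = v := by
      rw [Finsupp.linearCombination_apply, Finsupp.sum_mapRange_index (by simp)]
      have hv : F v = v := v.2
      conv_rhs => rw [← hv, ← hc v, Finsupp.linearCombination_apply, Finsupp.sum, map_sum]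
      rw [Finsupp.sum]
      refine Finset.sum_congr rfl (fun i _ => ?_)
      rw [hF, (hbS i.2 : F i = i)]
    have h2 : c v = c' := hli.repr_eq (x := ⟨v, hmem v v.2⟩) h1
    have := DFunLike.congr_fun h2 i
    simpa [c'] using this.symm
  let Φ : S → (b → {c : k | c ^ p = c}) := fun v i => ⟨c v i, hfix v i⟩
  have hΦ : Function.Injective Φ := by
    intro v w h
    have : c v = c w := by
      ext i; exact congrArg Subtype.val (congrFun h i)
    apply Subtype.ext; rw [← hc v, ← hc w, this]
  have hSfin : Finite S := Finite.of_injective Φ hΦ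
  refine ⟨Set.toFinite S, ?_⟩
  calc Nat.card S ≤ Nat.card (b → {c : k | c ^ p = c}) := Nat.card_le_card_of_injective Φ hΦ
    _ = Nat.card {c : k | c ^ p = c} ^ Nat.card b := Nat.card_fun
    _ ≤ p ^ Nat.card b := Nat.pow_le_pow_left hGcard _
    _ ≤ p ^ Module.finrank k V := Nat.pow_le_pow_right hp.out.pos hbcard


/-- Second half — for such an F the fixed vectors F v = v form a finite set of size at most p ^ dim V
(an F_p-space of dimension at most dim V). -/
theorem result {k V : Type u} [Field k] [IsAlgClosed k] (p : ℕ) [Fact p.Prime] [CharP k p]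
    [AddCommGroup V] [Module k V] [FiniteDimensional k V] (F : V →+ V)
    (hF : ∀ (c : k) (v : V), F (c • v) = c ^ p • F v) :
    Set.Finite {v : V | F v = v} ∧ Nat.card {v : V | F v = v} ≤ p ^ Module.finrank k V := by
  exact result' p F hF

end Groth.Agent.S0078
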