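import Groth.Statements.S0088
import Groth.Agent.Lib.EtGabber39
import Groth.Agent.Lib.HenselPair

set_option autoImplicit false
open CategoryTheory CategoryTheory.Limits AlgebraicGeometry Opposite
universe u
open EtBase

namespace Groth.Agent.S0088

open EtCore CategoryTheory.Abelian Groth.Agent.Lib.EtShriekConst Groth.Agent.Lib.ExtMV
  Groth.Agent.Lib.EtOpensExt39 Groth.Agent.Lib.EtGabber39

section zeroDim

variable {X : Scheme.{u}} (h1 : ∀ s : X, IsClosed ({s} : Set X))

include h1 in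
lemma subsingleton_primeSpectrum_stalk (x : X) :
    Subsingleton (PrimeSpectrum (X.presheaf.stalk x)) := by
  have hinj : Function.Injective (X.fromSpecStalk x) :=
    (X.fromSpecStalk x).isEmbedding.injective
  have hc : ∀ c, (X.fromSpecStalk x) c = x := fun c => by
    have hc : (X.fromSpecStalk x) c ∈ Set.range (X.fromSpecStalk x) := ⟨c, rfl⟩
    rw [Scheme.range_fromSpecStalk] at hc
    have h := (hc : (X.fromSpecStalk x) c ⤳ x).mem_closed (h1 _) rfl
    exact (Set.mem_singleton_iff.1 h).symm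
  exact ⟨fun a b => hinj ((hc a).trans (hc b).symm)⟩

include h1 in
lemma isNilpotent_of_not_isUnit (x : X) (a : X.presheaf.stalk x) (ha : ¬ IsUnit a) :
    IsNilpotent a := by
  have hs := subsingleton_primeSpectrum_stalk h1 x
  have hu : ∃! I : Ideal (X.presheaf.stalk x), I.IsPrime := by
    refine ⟨IsLocalRing.maximalIdeal _, inferInstance, fun J hJ => ?_⟩
    have := hs.elim ⟨J, hJ⟩ ⟨IsLocalRing.maximalIdeal _, inferInstance⟩
    exact congrArg PrimeSpectrum.asIdeal this
  exact (((Ring.krullDimLE_zero_and_isLocalRing_tfae (X.presheaf.stalk x)).out 1 2 rfl rfl).mp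
    hu a).2 ha

include h1 in
lemma henselianLocalRing_stalk (x : X) : HenselianLocalRing (X.presheaf.stalk x) := by
  have hH : HenselianRing (X.presheaf.stalk x) (IsLocalRing.maximalIdeal _) :=
    Groth.Agent.Lib.HenselPair.henselian_of_nilpotent _ (fun a ha =>
      isNilpotent_of_not_isUnit h1 x a ((IsLocalRing.mem_maximalIdeal a).1 ha))
  refine { is_henselian := fun f hf a₀ h₁ h₂ => ?_ }
  exact hH.is_henselian f hf a₀ h₁ (h₂.map _)

include h1 in
lemma isStrictlyHenselian_stalk (h2 : ∀ s : X, IsSepClosed (X.residueField s)) (x : X) :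
    EtCoh.IsStrictlyHenselianLocalRing (X.presheaf.stalk x) :=
  ⟨henselianLocalRing_stalk h1 x, h2 x⟩

include h1 in
lemma isClosed_basicOpen (a : Γ(X, ⊤)) : IsClosed ((X.basicOpen a : X.Opens) : Set X) := by
  rw [← isOpen_compl_iff, isOpen_iff_forall_mem_open]
  intro x hx
  have hnu : ¬ IsUnit (X.presheaf.germ ⊤ x trivial a) := fun h =>
    hx ((X.mem_basicOpen a x trivial).2 h)
  obtain ⟨n, hn⟩ := isNilpotent_of_not_isUnit h1 x _ hnu
  rw [← map_pow] at hn
  have hn' : X.presheaf.germ ⊤ x trivial (a ^ n) = X.presheaf.germ ⊤ x trivial 0 := by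
    rw [hn, map_zero]
  obtain ⟨W, hxW, i, i', hW⟩ := TopCat.Presheaf.germ_eq X.presheaf (U := ⊤) (V := ⊤) x trivial trivial _ _ hn'
  refine ⟨(W : Set X), ?_, W.2, hxW⟩
  intro y hyW hy
  have hu : IsUnit (X.presheaf.germ ⊤ y trivial a) := (X.mem_basicOpen a y trivial).1 hy
  have h0 : X.presheaf.germ ⊤ y trivial (a ^ n) = 0 := by
    have e1 := TopCat.Presheaf.germ_res_apply X.presheaf i y hyW (a ^ n)
    have e2 := TopCat.Presheaf.germ_res_apply X.presheaf i' y hyW (0 : Γ(X, ⊤))
    rw [← e1, hW, e2, map_zero]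
  rw [map_pow] at h0
  exact not_isUnit_zero (h0 ▸ hu.pow n)

end zeroDim

section kernel

variable {X : Scheme.{u}} (F : EtCoh.Ab X)

/-- sections over a clopen subset of an open extend -/
lemma surjective_res_of_isClosed {U A : X.Opens} (hA : A ≤ U) (hcl : IsClosed (A : Set X)) :
    Function.Surjective (res F 0 hA) := by
  intro w
  let B : X.Opens := U ⊓ ⟨(A : Set X)ᶜ, hcl.isOpen_compl⟩
  have hbot : A ⊓ B = ⊥ := by
    ext x
    constructor
    · rintro ⟨hxA, -, hxB⟩
      exact (hxB hxA).elim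
    · intro hx
      exact hx.elim
  have hU : U ≤ A ⊔ B := by
    intro x hx
    apply TopologicalSpace.Opens.mem_sup.2
    by_cases hxA : x ∈ A
    · exact Or.inl hxA
    · exact Or.inr ⟨hx, hxA⟩
  obtain ⟨δ, -, -, h3, -⟩ := isMV_opens A B F
  have hmem : ((w, 0) : Ext (Zsh A.ι) F 0 × Ext (Zsh B.ι) F 0) ∈
      ((res F 0 (inf_le_left : A ⊓ B ≤ A)).comp (AddMonoidHom.fst _ _) -
        (res F 0 (inf_le_right : A ⊓ B ≤ B)).comp (AddMonoidHom.snd _ _)).ker := by
    rw [AddMonoidHom.mem_ker]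
    exact ext_eq_zero_of_eq_bot F _ hbot 0 _
  rw [h3 0] at hmem
  obtain ⟨u, hu⟩ := hmem
  rw [AddMonoidHom.prod_apply, Prod.mk.injEq] at hu
  refine ⟨res F 0 hU u, ?_⟩
  rw [res_res]
  exact hu.1

theorem kernelCondition (hcl : ∀ a : Γ(X, ⊤), IsClosed ((X.basicOpen a : X.Opens) : Set X)) :
    KernelCondition F := by
  intro f g ζ hf hg
  have hU₀ := basicOpen_mul_le_right f (f + g)
  have hV₀ := basicOpen_mul_le_right g (f + g)
  have hsup : X.basicOpen (f * (f + g)) ⊔ X.basicOpen (g * (f + g)) ≤ X.basicOpen (f + g) :=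
    sup_le hU₀ hV₀
  have hsup' : X.basicOpen (f + g) ≤ X.basicOpen (f * (f + g)) ⊔ X.basicOpen (g * (f + g)) := by
    intro x hx
    rcases (TopologicalSpace.Opens.mem_sup.1 (X.basicOpen_add_le f g hx)) with h' | h'
    · apply TopologicalSpace.Opens.mem_sup.2
      left
      rw [Scheme.basicOpen_mul]
      exact ⟨h', hx⟩
    · apply TopologicalSpace.Opens.mem_sup.2
      right
      rw [Scheme.basicOpen_mul]
      exact ⟨h', hx⟩
  apply eq_zero_of_res_eq_zero F _ hsup hsup'
  obtain ⟨δ, -, h2, -, h4⟩ := isMV_opens (X.basicOpen (f * (f + g))) (X.basicOpen (g * (f + g))) F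
  have hmem : res F 1 hsup ζ ∈
      (AddMonoidHom.prod
        (res F (0 + 1) (le_sup_left : X.basicOpen (f * (f + g)) ≤ _ ⊔ X.basicOpen (g * (f + g))))
        (res F (0 + 1) (le_sup_right :
          X.basicOpen (g * (f + g)) ≤ X.basicOpen (f * (f + g)) ⊔ _))).ker := by
    rw [AddMonoidHom.mem_ker, AddMonoidHom.prod_apply, Prod.mk_eq_zero]
    constructor
    · exact (res_res F 1 _ hsup ζ).trans hf
    · exact (res_res F 1 _ hsup ζ).trans hg
  rw [h2 0] at hmem
  obtain ⟨w, hw⟩ := hmem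
  have hclW : IsClosed ((X.basicOpen (f * (f + g)) ⊓ X.basicOpen (g * (f + g)) : X.Opens) : Set X) :=
    (hcl _).inter (hcl _)
  obtain ⟨u, hu⟩ := surjective_res_of_isClosed F
    (inf_le_left : X.basicOpen (f * (f + g)) ⊓ X.basicOpen (g * (f + g)) ≤ _) hclW w
  have hker : w ∈ (δ 0).ker := by
    rw [h4 0]
    refine ⟨(u, 0), ?_⟩
    rw [AddMonoidHom.sub_apply, AddMonoidHom.comp_apply, AddMonoidHom.comp_apply]
    simp only [AddMonoidHom.coe_fst, AddMonoidHom.coe_snd, map_zero, sub_zero]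
    exact hu
  rw [← hw]
  exact hker

end kernel

/-- On an affine scheme all of whose points are closed and all of whose residue fields are separably
closed, every abelian étale sheaf has vanishing cohomology in positive degrees. -/
theorem result (S : Scheme.{u}) [IsAffine S] (h1 : ∀ s : S, IsClosed ({s} : Set S))
    (h2 : ∀ s : S, IsSepClosed (S.residueField s)) (F : EtCoh.Ab S) (i : ℕ) (hi : 1 ≤ i) :
    Subsingleton (EtCoh.H S F i) :=
  subsingleton_H_of_kernelCondition F (isStrictlyHenselian_stalk h1 h2)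
    (kernelCondition F (isClosed_basicOpen h1)) i hi

end Groth.Agent.S0088
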