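import Groth.Statements.S0091
import Groth.Agent.Lib.EtAICVanish39
import Groth.Agent.Lib.AICInsep39
import Groth.Agent.Lib.HenselQuot39
import Groth.Agent.Lib.NormalSepClosed61

set_option autoImplicit false
open CategoryTheory CategoryTheory.Limits AlgebraicGeometry Opposite
universe u
open EtBase

namespace Groth.Agent.S0091

open Groth.Agent.Lib.EtAICVanish39 Groth.Agent.Lib.AICInsep39 Groth.Agent.Lib.HenselQuot39

/-- sections over an affine open, with domain of sections, of a scheme with integrally closed local
rings form an integrally closed domain (as in helper5's `Lib/CartierPull5B`) -/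
theorem isIntegrallyClosed_sections {S : Scheme.{u}}
    (hX : ∀ x : S, IsIntegrallyClosed (S.presheaf.stalk x))
    {V : S.Opens} (hV : IsAffineOpen V) [IsDomain Γ(S, V)] : IsIntegrallyClosed Γ(S, V) := by
  have hmem : ∀ y : PrimeSpectrum Γ(S, V), hV.fromSpec y ∈ V := fun y ↦ (hV.isoSpec.inv y).2
  exact @IsIntegrallyClosed.of_isLocalization_maximal Γ(S, V) _
    (fun P hP ↦ S.presheaf.stalk (hV.fromSpec ⟨P, hP.isPrime⟩)) (fun P hP ↦ inferInstance)
    (fun P hP ↦ TopCat.Presheaf.algebra_section_stalk S.presheaf
      ⟨hV.fromSpec ⟨P, hP.isPrime⟩, hmem _⟩)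
    (fun P hP ↦ hV.isLocalization_stalk' ⟨P, hP.isPrime⟩ (hmem _)) _ (fun P hP ↦ hX _)

/-- Gabber — let X be affine, integral and normal, and suppose its function field is separably closed;
then on every closed subscheme of X the constant sheaf on a finite abelian group has no étale
cohomology in positive degrees. -/
theorem result {Z X : Scheme.{u}} [IsAffine X] [IsIntegral X]
    (hN : ∀ x : X, IsIntegrallyClosed (X.presheaf.stalk x)) [IsSepClosed X.functionField]
    (i : Z ⟶ X) [IsClosedImmersion i] (M : Type) [AddCommGroup M] [Finite M] (q : ℕ) (hq : 1 ≤ q) :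
    Subsingleton (EtCoh.H Z (EtCoh.const Z M) q) := by
  obtain ⟨hZ, hsurj⟩ := IsClosedImmersion.isAffine_surjective_of_isAffine i
  have hIC : IsIntegrallyClosed Γ(X, ⊤) := isIntegrallyClosed_sections hN (isAffineOpen_top X)
  have hne : Nonempty ((⊤ : X.Opens) : Scheme.{u}) := ⟨⟨genericPoint X, trivial⟩⟩
  have hfrac : IsFractionRing Γ(X, ⊤) X.functionField :=
    functionField_isFractionRing_of_isAffineOpen X ⊤ (isAffineOpen_top X)
  refine subsingleton_H_const_of_glue Z ?_ M ?_ q hq
  · intro z
    have := hN (i z)
    have hX : EtCoh.IsStrictlyHenselianLocalRing (X.presheaf.stalk (i z)) :=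
      ⟨Groth.Agent.Lib.NormalSepClosed61.henselianLocalRing (X.presheaf.stalk (i z))
        X.functionField,
      Groth.Agent.Lib.NormalSepClosed61.isSepClosed_residueField (X.presheaf.stalk (i z))
        X.functionField⟩
    exact isStrictlyHenselian_of_surjective (i.stalkMap z).hom (i.stalkMap_surjective z) hX
  · intro f g
    exact glue_basicOpen_of_spec Z _ f g
      (glue_of_normal_sepClosed X.functionField i.appTop.hom hsurj f g _)

end Groth.Agent.S0091
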