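import Groth.Statements.S0093
import Groth.Agent.Lib.EtAICVanish39
import Groth.Agent.Lib.AICClosure39

set_option autoImplicit false
open CategoryTheory CategoryTheory.Limits AlgebraicGeometry Opposite
universe u
open EtBase

namespace Groth.Agent.S0093

open Groth.Agent.Lib.AICClosure39 Groth.Agent.Lib.AICLocal39 Groth.Agent.Lib.EtAICVanish39

/-- closed subschemes of the spectrum of an absolutely integrally closed ring have absolutely
integrally closed rings of functions -/
lemma isAIC_of_isClosedImmersion (R : Type u) [CommRing R] (hR : Curves.IsAIC R)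
    (Z' : Scheme.{u}) (i : Z' ⟶ Spec (CommRingCat.of R)) [IsClosedImmersion i] :
    IsAffine Z' ∧ Curves.IsAIC Γ(Z', ⊤) := by
  obtain ⟨h1, h2⟩ := IsClosedImmersion.isAffine_surjective_of_isAffine i
  refine ⟨h1, ?_⟩
  have hR' : Curves.IsAIC Γ(Spec (CommRingCat.of R), ⊤) :=
    isAIC_of_surjective hR (Scheme.ΓSpecIso (CommRingCat.of R)).inv.hom
      (ConcreteCategory.bijective_of_isIso (Scheme.ΓSpecIso (CommRingCat.of R)).inv).2
  exact isAIC_of_surjective hR' i.appTop.hom h2

/-- Part (1) — every affine scheme admits an integral surjective morphism from a scheme all of whose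
closed subschemes have vanishing positive-degree étale cohomology with finite constant coefficients. -/
theorem result (X : Scheme.{u}) [IsAffine X] :
    ∃ (X' : Scheme.{u}) (π : X' ⟶ X) (_ : IsIntegralHom π) (_ : Surjective π),
      ∀ (Z' : Scheme.{u}) (i : Z' ⟶ X') (_ : IsClosedImmersion i)
        (M : Type) (_ : AddCommGroup M) (_ : Finite M) (q : ℕ), 1 ≤ q →
        Subsingleton (EtCoh.H Z' (EtCoh.const Z' M) q) := by
  let A := Γ(X, ⊤)
  let φ : CommRingCat.of A ⟶ CommRingCat.of (Rbar A) := CommRingCat.ofHom (algebraMap A (Rbar A))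
  have hφ : IsIntegralHom (Spec.map φ) := by
    rw [IsIntegralHom.SpecMap_iff]
    exact algebraMap_isIntegral_iff.2 inferInstance
  have hsurj : Surjective (Spec.map φ) := ⟨comap_surjective_Rbar A⟩
  refine ⟨Spec (CommRingCat.of (Rbar A)), Spec.map φ ≫ X.isoSpec.inv, inferInstance,
    inferInstance, ?_⟩
  intro Z' i hi M _ _ q hq
  obtain ⟨h1, h2⟩ := isAIC_of_isClosedImmersion (Rbar A) (isAIC_Rbar A) Z' i
  exact subsingleton_H_const_of_isAIC Z' h2 M q hq

end Groth.Agent.S0093
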