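import Groth.Statements.S0096
import Groth.Agent.Lib.UnramSplit61c

set_option autoImplicit false
open CategoryTheory CategoryTheory.Limits AlgebraicGeometry Opposite
universe u
open EtBase

namespace Groth.Agent.S0096

open scoped TensorProduct

/-- A finite unramified morphism becomes, after base change to a suitable étale neighbourhood of any
point of the base, a finite disjoint union of closed immersions. -/
theorem result {X S : Scheme.{u}} (f : X ⟶ S) [IsFinite f] [FormallyUnramified f] (s : S) :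
    ∃ (U : Scheme.{u}) (g : U ⟶ S) (_ : AlgebraicGeometry.Etale g) (u : U) (_ : g.base u = s)
      (n : ℕ) (V : Fin n → Scheme.{u}) (c : ∀ j, V j ⟶ U) (_ : ∀ j, IsClosedImmersion (c j))
      (e : (∐ V) ≅ pullback f g), ∀ j, Sigma.ι V j ≫ e.hom ≫ pullback.snd f g = c j := by
  obtain ⟨W, hW, hsW⟩ : ∃ W : S.Opens, IsAffineOpen W ∧ s ∈ W := by
    obtain ⟨W, hW, hsW, -⟩ := exists_isAffineOpen_mem_and_subset (x := s) (U := ⊤) trivial
    exact ⟨W, hW, hsW⟩
  have hfW : IsAffineOpen (f ⁻¹ᵁ W) := hW.preimage f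
  let φ : Γ(S, W) ⟶ Γ(X, f ⁻¹ᵁ W) := f.app W
  have hφfin : φ.hom.Finite := IsFinite.finite_app f W hW
  have hφun : φ.hom.FormallyUnramified := by
    have := Scheme.Hom.formallyUnramified_appLE f hW hfW le_rfl
    rwa [← Scheme.Hom.app_eq_appLE] at this
  algebraize [φ.hom]
  let P := hW.primeIdealOf ⟨s, hsW⟩
  obtain ⟨L, _, _, hetL, pL, _, hlies, n, A, _, _, ⟨e⟩, hsurj⟩ :=
    Groth.Agent.Lib.UnramSplit61c.split_finite Γ(S, W) Γ(X, f ⁻¹ᵁ W) P.asIdeal
  let ψ : Γ(S, W) ⟶ CommRingCat.of L := CommRingCat.ofHom (algebraMap Γ(S, W) L)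
  let g : Spec (CommRingCat.of L) ⟶ S := Spec.map ψ ≫ hW.fromSpec
  have hψet : Etale (Spec.map ψ) := by
    rw [HasRingHomProperty.Spec_iff (P := @Etale)]
    exact RingHom.etale_algebraMap.mpr hetL
  have hget : Etale g := inferInstance
  let u : Spec (CommRingCat.of L) := ⟨pL, inferInstance⟩
  have hu : g.base u = s := by
    change hW.fromSpec (Spec.map ψ u) = s
    have h1 : Spec.map ψ u = P := by
      apply PrimeSpectrum.ext
      change pL.comap (algebraMap _ L) = P.asIdeal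
      exact (hlies.over).symm
    rw [h1]
    exact hW.fromSpec_primeIdealOf ⟨s, hsW⟩
  let V : Fin n → Scheme.{u} := fun j => Spec (CommRingCat.of (A j))
  let c : ∀ j, V j ⟶ Spec (CommRingCat.of L) :=
    fun j => Spec.map (CommRingCat.ofHom (algebraMap L (A j)))
  have hc : ∀ j, IsClosedImmersion (c j) :=
    fun j => IsClosedImmersion.spec_of_surjective _ (hsurj j)
  let inclR : Γ(X, f ⁻¹ᵁ W) ⟶ CommRingCat.of (L ⊗[Γ(S, W)] Γ(X, f ⁻¹ᵁ W)) :=
    CommRingCat.ofHom (Algebra.TensorProduct.includeRight.toRingHom)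
  let inclL : CommRingCat.of L ⟶ CommRingCat.of (L ⊗[Γ(S, W)] Γ(X, f ⁻¹ᵁ W)) :=
    CommRingCat.ofHom (Algebra.TensorProduct.includeLeftRingHom)
  have sq1 : IsPullback (Spec.map inclR) (Spec.map inclL) (Spec.map φ) (Spec.map ψ) :=
    (isPullback_SpecMap_of_isPushout _ _ _ _
      (CommRingCat.isPushout_tensorProduct Γ(S, W) L Γ(X, f ⁻¹ᵁ W))).flip
  have sq2 : IsPullback hfW.fromSpec (Spec.map φ) f hW.fromSpec := by
    refine (IsOpenImmersion.isPullback (Spec.map φ) hfW.fromSpec hW.fromSpec f ?_ ?_).flip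
    · have := IsAffineOpen.SpecMap_appLE_fromSpec f hW hfW le_rfl
      rw [← Scheme.Hom.app_eq_appLE] at this
      exact this.symm
    · simp [IsAffineOpen.opensRange_fromSpec]
  have sq : IsPullback (Spec.map inclR ≫ hfW.fromSpec) (Spec.map inclL) f g :=
    sq1.paste_horiz sq2
  obtain ⟨Θ₀, hΘ₀iso, hΘ₀⟩ := Groth.Agent.Lib.UnramSplit61c.exists_isIso_sigma_Spec_pi A
  let Θ : (∐ V) ⟶ Spec (CommRingCat.of (L ⊗[Γ(S, W)] Γ(X, f ⁻¹ᵁ W))) :=
    Θ₀ ≫ Spec.map (CommRingCat.ofHom e.toRingEquiv.toRingHom)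
  have hΘiso : IsIso Θ := by
    have : IsIso (Spec.map (CommRingCat.ofHom e.toRingEquiv.toRingHom)) := by
      have : IsIso (CommRingCat.ofHom e.toRingEquiv.toRingHom) :=
        (e.toRingEquiv.toCommRingCatIso).isIso_hom
      infer_instance
    exact IsIso.comp_isIso
  have hΘ : Θ ≫ Spec.map inclL = Sigma.desc c := by
    apply Sigma.hom_ext
    intro j
    rw [Sigma.ι_desc]
    have e1 := congrArg (fun t => t ≫ Spec.map (CommRingCat.ofHom e.toRingEquiv.toRingHom) ≫
      Spec.map inclL) (hΘ₀ j)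
    simp only [Category.assoc] at e1
    refine e1.trans ?_
    rw [← Spec.map_comp, ← Spec.map_comp]
    congr 1
    ext l
    exact congrFun (e.commutes l) j
  have sq' : IsPullback (Θ ≫ Spec.map inclR ≫ hfW.fromSpec) (Sigma.desc c) f g := by
    refine IsPullback.of_iso sq (asIso Θ).symm (Iso.refl _) (Iso.refl _) (Iso.refl _) ?_ ?_ ?_ ?_
    · simp
    · simp [← hΘ]
    · simp
    · simp
  refine ⟨Spec (CommRingCat.of L), g, hget, u, hu, n, V, c, hc, sq'.isoPullback, ?_⟩
  intro j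
  rw [IsPullback.isoPullback_hom_snd, Sigma.ι_desc]

end Groth.Agent.S0096
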