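import Groth.Statements.S0102
import Mathlib.CategoryTheory.Sites.Whiskering
import Mathlib.AlgebraicGeometry.Morphisms.UniversallyOpen

set_option autoImplicit false
open CategoryTheory CategoryTheory.Limits AlgebraicGeometry Opposite
universe u
open EtBase

namespace Groth.Agent.S0102

theorem isPullback_left {S : Scheme.{u}} {U V V₁ : S.Etale} (φ : V ⟶ U) (φ₁ : V₁ ⟶ U) :
    IsPullback (pullback.fst φ φ₁).left (pullback.snd φ φ₁).left φ.left φ₁.left :=
  (IsPullback.of_hasPullback φ φ₁).map (Scheme.Etale.forget S ⋙ Over.forget S)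

/-- A section of an abelian étale sheaf over an étale scheme U vanishes on pullback to an étale V → U
exactly when V maps into a certain largest open subset of U. -/
theorem result {S : Scheme.{u}} (F : EtCoh.Ab S) (U : S.Etale) (σ : EtCoh.sect F U) :
    ∃ W : U.left.Opens, ∀ (V : S.Etale) (φ : V ⟶ U),
      F.obj.map φ.op σ = 0 ↔ Set.range φ.left.base ⊆ (W : Set U.left) := by
  classical
  let W : U.left.Opens :=
    ⟨⋃ (p : Σ' (V : S.Etale) (φ : V ⟶ U), F.obj.map φ.op σ = 0), Set.range p.2.1.left,
      isOpen_iUnion fun p ↦ p.2.1.left.isOpenMap.isOpen_range⟩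
  refine ⟨W, fun V φ ↦ ⟨fun h ↦ ?_, fun h ↦ ?_⟩⟩
  · exact Set.subset_iUnion (fun p : Σ' (V : S.Etale) (φ : V ⟶ U),
      F.obj.map φ.op σ = 0 ↦ Set.range p.2.1.left) ⟨V, φ, h⟩
  · -- the sieve of maps to `V` on which `σ` vanishes
    let R : Sieve V :=
      { arrows := fun V' ψ ↦ F.obj.map (ψ ≫ φ).op σ = 0
        downward_closed := by
          intro Y Z ψ hψ χ
          rw [Category.assoc, op_comp, Functor.map_comp, ConcreteCategory.comp_apply, hψ, map_zero] }
    have hR : R ∈ S.smallEtaleTopology V := by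
      have eS : S.smallEtaleTopology =
          (S.smallPretopology (P := EtCoh.etaleMP) (Q := EtCoh.etaleMP)).toGrothendieck :=
        Scheme.smallGrothendieckTopology_eq_toGrothendieck_smallPretopology S le_rfl
      rw [eS]
      refine (Scheme.mem_toGrothendieck_smallPretopology V R).2 ?_
      intro v
      have hv : φ.left v ∈ (W : Set U.left) := h ⟨v, rfl⟩
      obtain ⟨_, ⟨⟨V₁, φ₁, h₁⟩, rfl⟩, v₁, hv₁⟩ := hv
      have sq := isPullback_left φ φ₁
      obtain ⟨z, hz1, -⟩ := Scheme.Pullback.exists_preimage_pullback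
        (f := φ.left) (g := φ₁.left) v v₁ hv₁.symm
      refine ⟨pullback φ φ₁, pullback.fst φ φ₁, sq.isoPullback.inv z, ?_, inferInstance, ?_⟩
      · change F.obj.map (pullback.fst φ φ₁ ≫ φ).op σ = 0
        rw [pullback.condition, op_comp, Functor.map_comp, ConcreteCategory.comp_apply, h₁,
          map_zero]
      · have e' := congrArg (fun f : pullback φ.left φ₁.left ⟶ V.left => f z)
          sq.isoPullback_inv_fst
        rw [← hz1]
        exact e'
    have := Sheaf.isSeparated F V R hR (F.obj.map φ.op σ) 0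
    apply this
    intro Y ψ hψ
    rw [map_zero]
    simpa [R] using hψ

end Groth.Agent.S0102
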