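import Groth.Statements.S0103
import Groth.Agent.Lib.EtASConst65

set_option autoImplicit false
open CategoryTheory CategoryTheory.Limits AlgebraicGeometry Opposite
universe u
open EtBase

namespace Groth.Agent.S0103

/-- Let S be an affine scheme whose ring of global sections has prime characteristic p. Then the étale
cohomology H^q(S, Z/p) with constant Z/p coefficients vanishes for every q ≥ 2. -/
theorem result (S : Scheme.{u}) [IsAffine S] (p : ℕ) [Fact p.Prime] [CharP Γ(S, ⊤) p]
    (q : ℕ) (hq : 2 ≤ q) : Subsingleton (EtCoh.H S (EtCoh.const S (ZMod p)) q) := by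
  have hp : p.Prime := Fact.out
  have h0 : (p : Γ(S, ⊤)) = 0 := CharP.cast_eq_zero _ p
  exact Groth.Agent.Lib.EtASConst65.subsingleton_H_const_ZMod S p hp h0 q hq

end Groth.Agent.S0103
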