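import Groth.Statements.S0116
import Mathlib.AlgebraicGeometry.Morphisms.FlatDescent
import Mathlib.AlgebraicGeometry.Morphisms.Descent
import Mathlib.RingTheory.Finiteness.Descent

set_option autoImplicit false
open CategoryTheory CategoryTheory.Limits AlgebraicGeometry Opposite
universe u
open EtBase

namespace Groth.Agent.S0116

/-- A ring with a faithfully flat Noetherian algebra is Noetherian. -/
theorem isNoetherianRing_of_faithfullyFlat {A B : Type*} [CommRing A] [CommRing B] [Algebra A B]
    [Module.FaithfullyFlat A B] [IsNoetherianRing B] : IsNoetherianRing A := by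
  rw [isNoetherianRing_iff_ideal_fg]
  intro I
  exact Ideal.FG.of_FG_map_of_faithfullyFlat (S := B) (IsNoetherian.noetherian _)

/-- The affine-target case. -/
theorem affine_case {X Y : Scheme.{u}} (f : X ⟶ Y) [IsAffine Y] [Surjective f] [Flat f]
    [LocallyOfFinitePresentation f] [IsLocallyNoetherian X] : IsNoetherianRing Γ(Y, ⊤) := by
  obtain ⟨V : X.Opens, hV, e⟩ := f.isOpenMap.exists_opens_image_eq_of_prespectralSpace
    f.continuous (by simp) isOpen_univ isCompact_univ
  have : CompactSpace V := isCompact_iff_compactSpace.mp hV
  obtain ⟨W, p, hp, hpe, hW⟩ :=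
    Scheme.exists_hom_isAffine_of_isZariskiLocalAtSource (P := @Etale) (V : Scheme.{u})
  have : Etale p := hpe
  let g : W ⟶ Y := p ≫ V.ι ≫ f
  have hWN : IsLocallyNoetherian W := LocallyOfFiniteType.isLocallyNoetherian (p ≫ V.ι)
  have hg : Flat g := inferInstance
  have hgs : Surjective g := by
    refine ⟨fun y ↦ ?_⟩
    obtain ⟨x, hxV, hx⟩ := e.ge (Set.mem_univ y)
    obtain ⟨w, hw⟩ := hp.surj ⟨x, hxV⟩
    refine ⟨w, ?_⟩
    simp only [g, Scheme.Hom.comp_apply, hw]
    exact hx
  have hff : g.appTop.hom.FaithfullyFlat :=
    (Flat.flat_and_surjective_iff_faithfullyFlat_of_isAffine g).mp ⟨hg, hgs⟩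
  have hN : IsNoetherianRing Γ(W, ⊤) :=
    IsLocallyNoetherian.component_noetherian ⟨⊤, isAffineOpen_top W⟩
  algebraize [g.appTop.hom]
  exact isNoetherianRing_of_faithfullyFlat (B := Γ(W, ⊤))

/-- If f : X → Y is surjective, flat and locally of finite presentation and X is locally Noetherian,
then Y is locally Noetherian. (This is the descent half of the statement that, for such f, X is
locally Noetherian if and only if Y is; the ascent half is the fact that a scheme locally of finite
type over a locally Noetherian scheme is locally Noetherian, and is not stated here.) -/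
theorem result {X Y : Scheme.{u}} (f : X ⟶ Y) [Surjective f] [Flat f] [LocallyOfFinitePresentation f]
    [IsLocallyNoetherian X] : IsLocallyNoetherian Y := by
  rw [isLocallyNoetherian_iff_of_affine_openCover Y.affineCover]
  intro i
  let f' := pullback.snd f (Y.affineCover.f i)
  have : IsLocallyNoetherian (pullback f (Y.affineCover.f i)) :=
    isLocallyNoetherian_of_isOpenImmersion (pullback.fst f (Y.affineCover.f i))
  exact affine_case f'

end Groth.Agent.S0116
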