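import Groth.Statements.S0118
-- import your own Groth.Agent.* helpers here
import Groth.Agent.Lib.ThickeningEtH52
import Groth.Agent.Lib.H80TopInv

set_option autoImplicit false
open CategoryTheory CategoryTheory.Limits AlgebraicGeometry Opposite
universe u
open EtBase

namespace Groth.Agent.S0118

/-- Base change to a closed subscheme with the same underlying space is an equivalence between the
categories of étale schemes over the two. -/
theorem result {S S₀ : Scheme.{u}} (i : S₀ ⟶ S) [IsClosedImmersion i] [Surjective i] :
    (EtCoh.bc i).IsEquivalence := by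
  have hg : FlatMor.IsUnivHomeo i :=
    (Groth.Agent.Lib.UnivHomeo.iff_isIntegralHom_universallyInjective_surjective i).mpr
      ⟨inferInstance, inferInstance, inferInstance⟩
  have key : ∀ (A B : S.Etale) (φ : A ⟶ B),
      ((EtCoh.bc i).map φ).left = ((Over.pullback i).map
        (Over.homMk φ.left (MorphismProperty.Over.w φ) : Over.mk A.hom ⟶ Over.mk B.hom)).left := by
    intro A B φ
    rfl
  have : (EtCoh.bc i).Full := by
    constructor
    intro A B ψ
    have : Etale (Over.mk B.hom).hom := B.prop
    let ψ' : (Over.pullback i).obj (Over.mk A.hom) ⟶ (Over.pullback i).obj (Over.mk B.hom) :=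
      Over.homMk ψ.left (MorphismProperty.Over.w ψ)
    obtain ⟨φ, hφ⟩ := (Groth.Agent.Lib.H80TopInv.bijective_pullback_map i hg
      (Over.mk B.hom) (Over.mk A.hom)).2 ψ'
    refine ⟨MorphismProperty.Over.homMk φ.left (Over.w φ) trivial, ?_⟩
    apply MorphismProperty.Over.Hom.ext
    exact (key A B _).trans (congrArg CommaMorphism.left hφ)
  have : (EtCoh.bc i).Faithful := by
    constructor
    intro A B φ ψ h
    have : Etale (Over.mk B.hom).hom := B.prop
    apply MorphismProperty.Over.Hom.ext
    have h1 := congrArg (fun x => x.left) h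
    change ((EtCoh.bc i).map φ).left = ((EtCoh.bc i).map ψ).left at h1
    have h1' := (key A B φ).symm.trans (h1.trans (key A B ψ))
    have h2 := (Groth.Agent.Lib.H80TopInv.bijective_pullback_map i hg
      (Over.mk B.hom) (Over.mk A.hom)).1 (Over.OverMorphism.ext h1')
    exact congrArg CommaMorphism.left h2
  have : (EtCoh.bc i).EssSurj := by
    constructor
    intro V
    have : Etale V.hom := V.prop
    obtain ⟨U, t, ht, e, he⟩ :=
      Groth.Agent.Lib.ThickeningEtH52.exists_etale_pullback_iso i V.hom
    let P : S.Etale := MorphismProperty.Over.mk ⊤ t ht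
    refine ⟨P, ⟨MorphismProperty.Over.isoMk e ?_⟩⟩
    exact he
  exact { }

end Groth.Agent.S0118
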