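import Groth.Statements.S0119
import Mathlib.AlgebraicGeometry.Geometrically.Reduced
import Mathlib.RingTheory.Unramified.Field
import Mathlib.AlgebraicGeometry.Morphisms.FormallyUnramified
import Mathlib.AlgebraicGeometry.Morphisms.Flat

set_option autoImplicit false
open CategoryTheory CategoryTheory.Limits AlgebraicGeometry Opposite
universe u
open EtBase

namespace Groth.Agent.S0119

open TensorProduct in
/-- Ring-theoretic core: a flat, formally unramified, essentially finite type algebra over a
reduced Noetherian ring is reduced. -/
theorem isReduced_of_flat_unramified {A B : Type u} [CommRing A] [CommRing B] [Algebra A B]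
    [IsNoetherianRing A] [_root_.IsReduced A] [Module.Flat A B] [Algebra.EssFiniteType A B]
    [Algebra.FormallyUnramified A B] : _root_.IsReduced B := by
  let f : Spec (.of B) ⟶ Spec (.of A) := Spec.map (CommRingCat.ofHom (algebraMap A B))
  have hflat : Flat f := by
    rw [HasRingHomProperty.Spec_iff (P := @Flat)]
    exact (RingHom.flat_algebraMap_iff).mpr inferInstance
  have hgr : GeometricallyReduced f := by
    rw [geometricallyReduced_iff, geometrically_iff_of_commRing_of_isClosedUnderIsomorphisms]
    intro K _ _
    have hred : _root_.IsReduced (K ⊗[A] B) :=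
      Algebra.FormallyUnramified.isReduced_of_field K (K ⊗[A] B)
    have hred' : _root_.IsReduced (B ⊗[A] K) :=
      isReduced_of_injective (Algebra.TensorProduct.comm A B K).toRingHom
        (Algebra.TensorProduct.comm A B K).injective
    have : IsReduced (Spec (.of (B ⊗[A] K))) := inferInstance
    exact isReduced_of_isOpenImmersion (pullbackSpecIso A B K).hom
  have : IsReduced (Spec (.of A)) := inferInstance
  have : IsReduced (Spec (.of B)) :=
    GeometricallyReduced.isReduced_of_flat_of_isLocallyNoetherian f
  exact (affine_isReduced_iff (.of B)).mp this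

/-- Let f : X → Y be an étale morphism of schemes with Y locally Noetherian, and let x ∈ X. Then the
local ring O_{X,x} is reduced if and only if the local ring O_{Y,f(x)} is reduced. -/
theorem result {X Y : Scheme.{u}} (f : X ⟶ Y) [AlgebraicGeometry.Etale f]
    [IsLocallyNoetherian Y] (x : X) :
    _root_.IsReduced (X.presheaf.stalk x) ↔ _root_.IsReduced (Y.presheaf.stalk (f.base x)) := by
  algebraize [(f.stalkMap x).hom]
  have : IsLocalHom (algebraMap (Y.presheaf.stalk (f x)) (X.presheaf.stalk x)) :=
    inferInstanceAs <| IsLocalHom (f.stalkMap x).hom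
  have : Algebra.EssFiniteType (Y.presheaf.stalk (f x)) (X.presheaf.stalk x) := by
    rw [← RingHom.essFiniteType_algebraMap, RingHom.algebraMap_toAlgebra]
    exact LocallyOfFiniteType.stalkMap f x
  have : Algebra.FormallyUnramified (Y.presheaf.stalk (f x)) (X.presheaf.stalk x) := by
    rw [← RingHom.formallyUnramified_algebraMap, RingHom.algebraMap_toAlgebra]
    exact FormallyUnramified.stalkMap f x
  have : Module.Flat (Y.presheaf.stalk (f x)) (X.presheaf.stalk x) := by
    rw [← RingHom.flat_algebraMap_iff, RingHom.algebraMap_toAlgebra]
    exact Flat.stalkMap f x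
  have hff : Module.FaithfullyFlat (Y.presheaf.stalk (f x)) (X.presheaf.stalk x) :=
    Module.FaithfullyFlat.of_flat_of_isLocalHom
  constructor
  · intro h
    exact isReduced_of_injective (algebraMap (Y.presheaf.stalk (f x)) (X.presheaf.stalk x))
      (FaithfulSMul.algebraMap_injective _ _)
  · intro h
    exact isReduced_of_flat_unramified (A := Y.presheaf.stalk (f x))

end Groth.Agent.S0119
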