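import Groth.Statements.S0142
import Groth.Agent.Lib.EtSubLC22f

set_option autoImplicit false
universe u
open CategoryTheory CategoryTheory.Limits AlgebraicGeometry Opposite
open EtPBC

namespace Groth.Agent.S0142

/-- For X Noetherian and F a constructible abelian sheaf on X_et, every increasing sequence of
subsheaves F_1 ⊆ F_2 ⊆ ... ⊆ F is eventually constant. -/
theorem result (X : Scheme.{u}) [IsNoetherian X]
    (F : EtCoh.Ab X) (hF : EtPBC.IsConstructible F) (c : ℕ →o Subobject F) :
    ∃ N, ∀ m, N ≤ m → c m = c N := by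
  obtain ⟨N, hN⟩ := Groth.Agent.Lib.EtSubLC22.exists_stable hF
    (fun m => ((c m : Subobject F) : EtCoh.Ab X))
    (fun m => (c m).arrow) (fun m m' h => Subobject.ofLE (c m) (c m') (c.monotone h))
    (fun m m' h => Subobject.ofLE_arrow _)
  refine ⟨N, fun m h => ?_⟩
  haveI := hN m h
  apply le_antisymm
  · exact Subobject.le_of_comm (inv (Subobject.ofLE (c N) (c m) (c.monotone h))) (by
      rw [IsIso.inv_comp_eq, Subobject.ofLE_arrow])
  · exact c.monotone h

end Groth.Agent.S0142
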