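import Groth.Statements.S0145
import Groth.Agent.Lib.TorsColimP34
import Groth.Agent.Lib.SuppLemmas34
import Groth.Agent.Lib.EtSubLC22c
import Groth.Agent.Lib.EtSuppConstr22

set_option autoImplicit false
universe u
open CategoryTheory CategoryTheory.Limits AlgebraicGeometry Opposite
open EtPBC

namespace Groth.Agent.S0145

/-- (1): X Noetherian, E a subset of X stable under specialization, F a torsion abelian sheaf on X_et
supported inside E. Then F is a filtered colimit of constructible abelian sheaves each supported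
inside some closed subset contained in E. -/
theorem result (X : Scheme.{u}) [IsNoetherian X]
    (E : Set X) (hE : StableUnderSpecialization E)
    (F : EtCoh.Ab X) (hF : EtCoh.IsTorsion F) (hsupp : EtPBC.supp F ⊆ E) :
    ∃ (J : Type (u + 1)) (_ : SmallCategory J) (_ : IsFiltered J) (D : J ⥤ EtCoh.Ab X)
      (c : Cocone D) (_ : IsColimit c), Nonempty (c.pt ≅ F) ∧
      ∀ j, EtPBC.IsConstructible (D.obj j) ∧
        ∃ Z : Set X, IsClosed Z ∧ Z ⊆ E ∧ EtPBC.supp (D.obj j) ⊆ Z := by
  classical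
  let P : ObjectProperty (EtCoh.Ab X) := fun C =>
    EtPBC.IsConstructible C ∧ ∃ Z : Set X, IsClosed Z ∧ Z ⊆ E ∧ EtPBC.supp C ⊆ Z
  have hP : Groth.Agent.Lib.TorsColimP34.Adm P :=
    { constr := fun h => h.1
      zero := ⟨Groth.Agent.Lib.TorsNoeth34.isConstructible_of_isZero (isZero_zero _),
        ∅, isClosed_empty, Set.empty_subset _,
        (Groth.Agent.Lib.SuppLemmas34.supp_eq_empty_of_isZero (isZero_zero _)).subset⟩
      biprod := by
        rintro C C' ⟨h1, Z, hZ1, hZ2, hZ3⟩ ⟨h1', Z', hZ1', hZ2', hZ3'⟩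
        exact ⟨Groth.Agent.Lib.TorsNoeth34.isConstructible_biprod h1 h1', Z ∪ Z',
          hZ1.union hZ1', Set.union_subset hZ2 hZ2',
          (Groth.Agent.Lib.SuppLemmas34.supp_biprod_subset C C').trans
            (Set.union_subset_union hZ3 hZ3')⟩
      coker := by
        rintro C'' C f h'' ⟨h1, Z, hZ1, hZ2, hZ3⟩
        exact ⟨(Groth.Agent.Lib.EtConstr22.isConstructible_ker_coker f h'' h1).2, Z, hZ1, hZ2,
          (Groth.Agent.Lib.SuppLemmas34.supp_subset_of_epi (cokernel.π f)).trans hZ3⟩ }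
  have hfac : Groth.Agent.Lib.TorsColimP34.Fac F P := by
    intro C hC ψ
    have h1 : EtPBC.IsConstructible (Abelian.image ψ) :=
      Groth.Agent.Lib.EtSubLC22.isConstructible_of_epi (Abelian.factorThruImage ψ) hC
    have h2 : EtPBC.supp (Abelian.image ψ) ⊆ E :=
      (Groth.Agent.Lib.SuppLemmas34.supp_subset_of_mono (Abelian.image.ι ψ)).trans hsupp
    have h3 := Groth.Agent.Lib.EtSuppConstr22.isConstructible_supp _ h1
    refine ⟨Abelian.image ψ, ⟨h1, closure (EtPBC.supp (Abelian.image ψ)), isClosed_closure, ?_,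
      subset_closure⟩, Abelian.factorThruImage ψ, Abelian.image.ι ψ, Abelian.image.fac ψ⟩
    intro x hx
    obtain ⟨t, ht, htx⟩ := Groth.Agent.Lib.SuppLemmas34.exists_specializes_of_mem_closure h3 hx
    exact hE htx (h2 ht)
  obtain ⟨J, i1, i2, D, c, hc, hD, he⟩ :=
    Groth.Agent.Lib.TorsColimP34.exists_filtered_colimit_of F P hP hfac hF
  exact ⟨J, i1, i2, D, c, hc, he, hD⟩

end Groth.Agent.S0145
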