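import Groth.Statements.S0152
import Mathlib.Topology.Spectral.ConstructibleTopology

set_option autoImplicit false
universe u
open EtPBC

namespace Groth.Agent.S0152

open Topology

/-- A spectral space is compact for its constructible topology. -/
theorem compactSpace_constructible (X : Type u) [TopologicalSpace X] [SpectralSpace X] :
    @CompactSpace X (constructibleTopology X) :=
  @Function.Surjective.compactSpace (WithConstructibleTopology X) X _ (constructibleTopology X)
    WithTopology.ofTopology (WithTopology.continuous_ofTopology _) inferInstance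
    (WithTopology.ofTopology_surjective _)

/-- A compact open subset is closed for the constructible topology. -/
theorem isClosed_constructible_of_isCompact_isOpen {X : Type u} [TopologicalSpace X]
    {U : Set X} (hUo : IsOpen U) (hUc : IsCompact U) :
    IsClosed[constructibleTopology X] U := by
  rw [← @isOpen_compl_iff X U (constructibleTopology X)]
  exact IsCompact.isOpen_constructibleTopology_of_isClosed (by simpa using hUc)
    hUo.isClosed_compl

/-- Two closed subsets of a spectral space such that no point specialises into both of them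
are contained in disjoint compact open subsets. -/
theorem exists_disjoint_compact_opens (X : Type u) [TopologicalSpace X] [SpectralSpace X]
    (Z₁ Z₂ : Set X) (h₁ : IsClosed Z₁) (h₂ : IsClosed Z₂)
    (h : ∀ x : X, Z₁ ∩ closure {x} = ∅ ∨ Z₂ ∩ closure {x} = ∅) :
    ∃ U V : Set X, IsOpen U ∧ IsCompact U ∧ IsOpen V ∧ IsCompact V ∧ Z₁ ⊆ U ∧ Z₂ ⊆ V ∧
      U ∩ V = ∅ := by
  let ι := {p : Set X × Set X // (IsOpen p.1 ∧ IsCompact p.1 ∧ Z₁ ⊆ p.1) ∧
    (IsOpen p.2 ∧ IsCompact p.2 ∧ Z₂ ⊆ p.2)}
  let t : ι → Set X := fun p => p.1.1 ∩ p.1.2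
  have hne : Nonempty ι :=
    ⟨⟨(Set.univ, Set.univ), ⟨isOpen_univ, isCompact_univ, Set.subset_univ _⟩,
      ⟨isOpen_univ, isCompact_univ, Set.subset_univ _⟩⟩⟩
  have hcl : ∀ i, IsClosed[constructibleTopology X] (t i) := fun i =>
    @IsClosed.inter X _ _ (constructibleTopology X)
      (isClosed_constructible_of_isCompact_isOpen i.2.1.1 i.2.1.2.1)
      (isClosed_constructible_of_isCompact_isOpen i.2.2.1 i.2.2.2.1)
  have hempty : Set.univ ∩ ⋂ i, t i = ∅ := by
    rw [Set.univ_inter, Set.eq_empty_iff_forall_notMem]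
    intro x hx
    rw [Set.mem_iInter] at hx
    have hxcl : x ∈ closure ({x} : Set X) := subset_closure rfl
    rcases h x with hx1 | hx2
    · obtain ⟨W, hWc, hWo, hZW, hWU⟩ :=
        PrespectralSpace.exists_isCompact_and_isOpen_between h₁.isCompact
          (isClosed_closure (s := ({x} : Set X))).isOpen_compl
          (fun z hz hzx => by
            have : z ∈ Z₁ ∩ closure {x} := ⟨hz, hzx⟩
            rw [hx1] at this
            exact this)
      have := hx ⟨(W, Set.univ), ⟨hWo, hWc, hZW⟩, ⟨isOpen_univ, isCompact_univ, Set.subset_univ _⟩⟩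
      exact hWU this.1 hxcl
    · obtain ⟨W, hWc, hWo, hZW, hWU⟩ :=
        PrespectralSpace.exists_isCompact_and_isOpen_between h₂.isCompact
          (isClosed_closure (s := ({x} : Set X))).isOpen_compl
          (fun z hz hzx => by
            have : z ∈ Z₂ ∩ closure {x} := ⟨hz, hzx⟩
            rw [hx2] at this
            exact this)
      have := hx ⟨(Set.univ, W), ⟨isOpen_univ, isCompact_univ, Set.subset_univ _⟩, ⟨hWo, hWc, hZW⟩⟩
      exact hWU this.2 hxcl
  have hdir : Directed (· ⊇ ·) t := by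
    intro p q
    refine ⟨⟨(p.1.1 ∩ q.1.1, p.1.2 ∩ q.1.2),
      ⟨p.2.1.1.inter q.2.1.1, QuasiSeparatedSpace.inter_isCompact _ _ p.2.1.1 p.2.1.2.1 q.2.1.1 q.2.1.2.1,
        Set.subset_inter p.2.1.2.2 q.2.1.2.2⟩,
      ⟨p.2.2.1.inter q.2.2.1, QuasiSeparatedSpace.inter_isCompact _ _ p.2.2.1 p.2.2.2.1 q.2.2.1 q.2.2.2.1,
        Set.subset_inter p.2.2.2.2 q.2.2.2.2⟩⟩, ?_, ?_⟩
    · intro x hx
      exact ⟨hx.1.1, hx.2.1⟩
    · intro x hx
      exact ⟨hx.1.2, hx.2.2⟩
  obtain ⟨i, hi⟩ := @IsCompact.elim_directed_family_closed X (constructibleTopology X) Set.univ ι hne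
    (@isCompact_univ X (constructibleTopology X) (compactSpace_constructible X)) t hcl hempty hdir
  rw [Set.univ_inter] at hi
  exact ⟨i.1.1, i.1.2, i.2.1.1, i.2.1.2.1, i.2.2.1, i.2.2.2.1, i.2.1.2.2, i.2.2.2.2, hi⟩

/-- Let X be a spectral space and Z a closed subset such that Z meets the closure of every point of X in
a connected (nonempty) set. If Z is the disjoint union of two closed subsets Z_1, Z_2 then X is the
disjoint union of closed subsets X_1, X_2 with Z_i = Z ∩ X_i. -/
theorem result (X : Type u) [TopologicalSpace X] [SpectralSpace X]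
    (Z : Set X) (hZ : IsClosed Z)
    (hconn : ∀ x : X, IsConnected (Z ∩ closure {x}))
    (Z₁ Z₂ : Set X) (h₁ : IsClosed Z₁) (h₂ : IsClosed Z₂) (hdisj : Disjoint Z₁ Z₂) (hunion : Z₁ ∪ Z₂ = Z) :
    ∃ X₁ X₂ : Set X, IsClosed X₁ ∧ IsClosed X₂ ∧ Disjoint X₁ X₂ ∧ X₁ ∪ X₂ = Set.univ ∧
      Z₁ = Z ∩ X₁ ∧ Z₂ = Z ∩ X₂ := by
  have hdich : ∀ x : X, Z₁ ∩ closure {x} = ∅ ∨ Z₂ ∩ closure {x} = ∅ := by
    intro x
    by_contra hcon
    push Not at hcon
    obtain ⟨⟨a, ha⟩, ⟨b, hb⟩⟩ := hcon
    have hpre := (hconn x).isPreconnected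
    rw [isPreconnected_closed_iff] at hpre
    have := hpre Z₁ Z₂ h₁ h₂ (by rw [hunion]; exact Set.inter_subset_left)
      ⟨a, ⟨hunion ▸ Or.inl ha.1, ha.2⟩, ha.1⟩ ⟨b, ⟨hunion ▸ Or.inr hb.1, hb.2⟩, hb.1⟩
    obtain ⟨c, -, hc1, hc2⟩ := this
    exact (Set.disjoint_left.mp hdisj) hc1 hc2
  obtain ⟨U, V, hUo, hUc, hVo, hVc, hZU, hZV, hUV⟩ :=
    exists_disjoint_compact_opens X Z₁ Z₂ h₁ h₂ hdich
  have hcover : U ∪ V = Set.univ := by
    rw [Set.eq_univ_iff_forall]
    intro x
    obtain ⟨z, hzZ, hzx⟩ := (hconn x).nonempty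
    rw [← hunion] at hzZ
    have hspec : z ⤳ x ∨ x ⤳ z := Or.inr (specializes_iff_mem_closure.mpr hzx)
    rcases hzZ with hz | hz
    · exact Or.inl ((specializes_iff_mem_closure.mpr hzx).mem_open hUo (hZU hz))
    · exact Or.inr ((specializes_iff_mem_closure.mpr hzx).mem_open hVo (hZV hz))
  have hUcompl : U = Vᶜ := by
    ext x
    constructor
    · intro hxU hxV
      have : x ∈ U ∩ V := ⟨hxU, hxV⟩
      rw [hUV] at this
      exact this
    · intro hxV
      have : x ∈ U ∪ V := hcover ▸ Set.mem_univ x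
      rcases this with h | h
      · exact h
      · exact absurd h hxV
  have hVcompl : V = Uᶜ := by rw [hUcompl, compl_compl]
  refine ⟨U, V, ?_, ?_, ?_, hcover, ?_, ?_⟩
  · rw [hUcompl]; exact hVo.isClosed_compl
  · rw [hVcompl]; exact hUo.isClosed_compl
  · rw [Set.disjoint_iff_inter_eq_empty]; exact hUV
  · ext x
    constructor
    · intro hx
      exact ⟨hunion ▸ Or.inl hx, hZU hx⟩
    · rintro ⟨hxZ, hxU⟩
      rw [← hunion] at hxZ
      rcases hxZ with h | h
      · exact h
      · have : x ∈ U ∩ V := ⟨hxU, hZV h⟩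
        rw [hUV] at this
        exact absurd this (Set.notMem_empty x)
  · ext x
    constructor
    · intro hx
      exact ⟨hunion ▸ Or.inr hx, hZV hx⟩
    · rintro ⟨hxZ, hxV⟩
      rw [← hunion] at hxZ
      rcases hxZ with h | h
      · have : x ∈ U ∩ V := ⟨hZU h, hxV⟩
        rw [hUV] at this
        exact absurd this (Set.notMem_empty x)
      · exact h

end Groth.Agent.S0152
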