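import Groth.Statements.S3054
import Groth.Agent.Lib.EtPushEpi39
import Groth.Agent.Lib.PropB34

set_option autoImplicit false
open CategoryTheory CategoryTheory.Limits AlgebraicGeometry Opposite
universe u
open EtDesc

namespace Groth.Agent.S3054

/-- For an integral morphism of schemes f : X -> Y and an abelian sheaf F on X_et, R^q f_* F = 0 for
every q > 0. -/
theorem result {X Y : Scheme.{u}} (f : X ⟶ Y) [IsIntegralHom f] (F : EtCoh.Ab X)
    (q : ℕ) (hq : 0 < q) : IsZero ((EtCoh.Rpush f q).obj F) :=
  Groth.Agent.Lib.EtPushEpi39.isZero_Rpush_of_propB f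
    (Groth.Agent.Lib.PropB34.propB_integral f) F q hq

end Groth.Agent.S3054
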