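import Groth.Statements.S0161
import Groth.Agent.S0621
import Groth.Agent.S3054

set_option autoImplicit false
universe u
open CategoryTheory CategoryTheory.Limits AlgebraicGeometry Opposite
open EtPBC

namespace Groth.Agent.S0161

/-- For a finite morphism f : X -> Y, cohomology commutes with base change: for every cartesian square
and torsion abelian F on X_et and every q, g^* R^q f_* F ≅ R^q f'_* g'^* F (abstract-isomorphism
form). -/
theorem result {X Y : Scheme.{u}} (f : X ⟶ Y) [IsFinite f] [EtCoh.BCCont f] :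
    EtPBC.CohCommutesWithBC f := by
  intro X' Y' f' g' g _ _ _ h F _ q
  haveI : IsFinite f' := MorphismProperty.of_isPullback (P := @IsFinite) h ‹IsFinite f›
  rcases q with _ | q
  · -- degree zero: the base change map is an isomorphism
    haveI : IsIso (EtCoh.baseChange0 f g f' g' h.w F) := Groth.Agent.S0621.result f g f' g' h F
    let e1 : (EtCoh.Rpush f 0).obj F ≅ (EtCoh.push f).obj F :=
      (Functor.rightDerivedZeroIsoSelf (EtCoh.push f)).app F
    let e2 : (EtCoh.Rpush f' 0).obj ((EtCoh.pull g').obj F) ≅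
        (EtCoh.push f').obj ((EtCoh.pull g').obj F) :=
      (Functor.rightDerivedZeroIsoSelf (EtCoh.push f')).app _
    exact ⟨(EtCoh.pull g).mapIso e1 ≪≫ asIso (EtCoh.baseChange0 f g f' g' h.w F) ≪≫ e2.symm⟩
  · have z1 : IsZero ((EtCoh.Rpush f (q + 1)).obj F) :=
      Groth.Agent.S3054.result f F (q + 1) (Nat.succ_pos q)
    have z2 : IsZero ((EtCoh.Rpush f' (q + 1)).obj ((EtCoh.pull g').obj F)) :=
      Groth.Agent.S3054.result f' _ (q + 1) (Nat.succ_pos q)
    have z3 : IsZero ((EtCoh.pull g).obj ((EtCoh.Rpush f (q + 1)).obj F)) :=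
      (EtCoh.pull g).map_isZero z1
    exact ⟨z3.iso z2⟩

end Groth.Agent.S0161
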