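import Groth.Statements.S0173
import Groth.Agent.Lib.StalkKill34

set_option autoImplicit false
universe u
open CategoryTheory CategoryTheory.Limits AlgebraicGeometry Opposite
open EtPBC

namespace Groth.Agent.S0173

/-- (1), for X irreducible: X quasi-compact, quasi-separated and irreducible with generic point η, F a
torsion abelian sheaf on X_et whose stalk over η vanishes. Then F is a filtered colimit of
constructible abelian sheaves each supported in a closed subset not containing η. (The source allows
η to be the generic point of any irreducible component.) -/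
theorem result (X : Scheme.{u}) [CompactSpace X] [QuasiSeparatedSpace X]
    [IrreducibleSpace X] (F : EtCoh.Ab X) (hF : EtCoh.IsTorsion F) (hη : genericPoint X ∉ EtPBC.supp F) :
    ∃ (J : Type (u + 1)) (_ : SmallCategory J) (_ : IsFiltered J) (D : J ⥤ EtCoh.Ab X)
      (c : Cocone D) (_ : IsColimit c), Nonempty (c.pt ≅ F) ∧
      ∀ j, EtPBC.IsConstructible (D.obj j) ∧
        ∃ Z : Set X, IsClosed Z ∧ genericPoint X ∉ Z ∧ EtPBC.supp (D.obj j) ⊆ Z := by
  classical
  let P : ObjectProperty (EtCoh.Ab X) := fun C =>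
    EtPBC.IsConstructible C ∧ ∃ Z : Set X, IsClosed Z ∧ genericPoint X ∉ Z ∧ EtPBC.supp C ⊆ Z
  have hP : Groth.Agent.Lib.TorsColimP34.Adm P :=
    { constr := fun h => h.1
      zero := ⟨Groth.Agent.Lib.TorsNoeth34.isConstructible_of_isZero (isZero_zero _),
        ∅, isClosed_empty, Set.notMem_empty _,
        (Groth.Agent.Lib.SuppLemmas34.supp_eq_empty_of_isZero (isZero_zero _)).subset⟩
      biprod := by
        rintro C C' ⟨h1, Z, hZ1, hZ2, hZ3⟩ ⟨h1', Z', hZ1', hZ2', hZ3'⟩
        refine ⟨Groth.Agent.Lib.TorsNoeth34.isConstructible_biprod h1 h1', Z ∪ Z',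
          hZ1.union hZ1', ?_,
          (Groth.Agent.Lib.SuppLemmas34.supp_biprod_subset C C').trans
            (Set.union_subset_union hZ3 hZ3')⟩
        rintro (h | h)
        · exact hZ2 h
        · exact hZ2' h
      coker := by
        rintro C'' C f h'' ⟨h1, Z, hZ1, hZ2, hZ3⟩
        exact ⟨(Groth.Agent.Lib.EtConstr22.isConstructible_ker_coker f h'' h1).2, Z, hZ1, hZ2,
          (Groth.Agent.Lib.SuppLemmas34.supp_subset_of_epi (cokernel.π f)).trans hZ3⟩ }
  have hfac : Groth.Agent.Lib.TorsColimP34.Fac F P := by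
    intro C hC ψ
    obtain ⟨C', q, ψ', hq, hC', hx⟩ :=
      Groth.Agent.Lib.StalkKill34.exists_quotient_stalk_zero hC ψ (genericPoint X) hη
    have h3 := Groth.Agent.Lib.EtSuppConstr22.isConstructible_supp _ hC'
    refine ⟨C', ⟨hC', closure (EtPBC.supp C'), isClosed_closure, ?_, subset_closure⟩, q, ψ', hq⟩
    intro h
    exact hx (Groth.Agent.Lib.SuppLemmas34.genericPoint_mem_of_mem_closure h3 h)
  obtain ⟨J, i1, i2, D, c, hc, hD, he⟩ :=
    Groth.Agent.Lib.TorsColimP34.exists_filtered_colimit_of F P hP hfac hF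
  exact ⟨J, i1, i2, D, c, hc, he, hD⟩

end Groth.Agent.S0173
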