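import Groth.Statements.S0175
import Groth.Agent.Lib.EtExtZero2
import Groth.Agent.Lib.EtExtZeroMono

set_option autoImplicit false
universe u
open CategoryTheory CategoryTheory.Limits AlgebraicGeometry Opposite
open EtPBC

namespace Groth.Agent.S0175

open Groth.Agent.Lib.EtGerm Groth.Agent.Lib.EtStalkPull Groth.Agent.Lib.EtStalkPullGerm
  Groth.Agent.Lib.EtClosedStalk Groth.Agent.Lib.EtStalkConservative Groth.Agent.Lib.EtAbStalk
  Groth.Agent.Lib.EtAbStalk2 Groth.Agent.Lib.EtAbStalk3 Groth.Agent.Lib.EtExtZero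

/-- the unit `F ⟶ j_* j^* F` is a monomorphism on stalks at points of `U` -/
lemma mono_stalk_unit {U X : Scheme.{u}} (j : U ⟶ X) (F : EtCoh.Ab X)
    {Ω : Type u} [Field Ω] [IsSepClosed Ω] (y : Spec (CommRingCat.of Ω) ⟶ U) :
    Mono ((EtCoh.stalk (y ≫ j)).map ((EtCoh.pullPushAdj j).unit.app F)) := by
  have htri := (EtCoh.pullPushAdj j).left_triangle_components F
  have h1 : Mono ((EtCoh.pull j).map ((EtCoh.pullPushAdj j).unit.app F)) :=
    (SplitMono.mk _ htri).mono
  have h2 : Mono ((EtCoh.pull j ⋙ EtCoh.stalk y).map ((EtCoh.pullPushAdj j).unit.app F)) := by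
    show Mono ((EtCoh.stalk y).map ((EtCoh.pull j).map _))
    infer_instance
  exact ((MorphismProperty.monomorphisms _).arrow_mk_iso_iff
    (Arrow.isoOfNatIso (stalkPullIso j y) (Arrow.mk ((EtCoh.pullPushAdj j).unit.app F)))).1 h2

/-- the kernel of `F ⟶ j_* j^* F` has zero stalks at points of `U` -/
lemma isZero_stalk_kernel_unit {U X : Scheme.{u}} (j : U ⟶ X) (F : EtCoh.Ab X)
    {Ω : Type u} [Field Ω] [IsSepClosed Ω] (y : Spec (CommRingCat.of Ω) ⟶ U) :
    IsZero ((EtCoh.stalk (y ≫ j)).obj (kernel ((EtCoh.pullPushAdj j).unit.app F))) := by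
  have := mono_stalk_unit j F y
  have h0 : (EtCoh.stalk (y ≫ j)).map (kernel.ι ((EtCoh.pullPushAdj j).unit.app F)) ≫
      (EtCoh.stalk (y ≫ j)).map ((EtCoh.pullPushAdj j).unit.app F) = 0 := by
    rw [← Functor.map_comp, kernel.condition, Functor.map_zero]
  have h1 : (EtCoh.stalk (y ≫ j)).map (kernel.ι ((EtCoh.pullPushAdj j).unit.app F)) = 0 := by
    rw [← cancel_mono ((EtCoh.stalk (y ≫ j)).map ((EtCoh.pullPushAdj j).unit.app F)), h0,
      zero_comp]
  exact IsZero.of_mono_eq_zero _ h1

/-- Let i : Z → X be a closed immersion of schemes with open complement j : U → X, and I an injective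
abelian sheaf on X_ét. Then the subsheaf H_Z(I) of sections supported on Z (the kernel of I → j_*
j^* I), viewed on Z_ét via i^*, is an injective abelian sheaf on Z_ét. -/
theorem result {Z X U : Scheme.{u}} (i : Z ⟶ X) [IsClosedImmersion i]
    (j : U ⟶ X) [IsOpenImmersion j] (hZU : Set.range j = (Set.range i)ᶜ)
    [EtCoh.BCCont i] [EtCoh.BCCont j] (I : EtCoh.Ab X) [Injective I] :
    Injective ((EtCoh.pull i).obj (kernel ((EtCoh.pullPushAdj j).unit.app I))) := by
  have hjE : AlgebraicGeometry.Etale j := inferInstance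
  have hjC : EtShriek.JCont j := inferInstance
  have hd : Disjoint (Set.range j) (Set.range i) := by
    rw [hZU]
    exact disjoint_compl_left
  -- the unit `K ⟶ i_* i^* K` is an isomorphism
  have hK : IsIso ((EtCoh.pullPushAdj i).unit.app (kernel ((EtCoh.pullPushAdj j).unit.app I))) := by
    apply isIso_of_forall_exists_geomPt
    intro x
    by_cases hx : x ∈ Set.range i
    · obtain ⟨z, rfl⟩ := hx
      refine ⟨_, inferInstance, inferInstance, stdPt z ≫ i, ?_, ?_⟩
      · show i (stdPt z default) = i z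
        rw [stdPt_default]
      · have := isIso_stalk_unit_closed i (kernel ((EtCoh.pullPushAdj j).unit.app I)) (stdPt z)
        exact (ConcreteCategory.isIso_iff_bijective _).1 this
    · have hxU : x ∈ Set.range j := by
        rw [hZU]
        exact hx
      obtain ⟨y, rfl⟩ := hxU
      refine ⟨_, inferInstance, inferInstance, stdPt y ≫ j, ?_, ?_⟩
      · show j (stdPt y default) = j y
        rw [stdPt_default]
      · apply bijective_of_isZero
        · exact isZero_stalk_kernel_unit j I (stdPt y)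
        · apply Groth.Agent.S0069.result i _ (stdPt y ≫ j)
          rw [Set.disjoint_left]
          rintro _ ⟨a, rfl⟩ hb
          refine Set.disjoint_left.1 hd ⟨(stdPt y) a, ?_⟩ hb
          rfl
  constructor
  intro A B a m _
  -- transport along `i_*`
  have hmono : Mono ((EtCoh.push i).map m) := inferInstance
  let a' : (EtCoh.push i).obj A ⟶ kernel ((EtCoh.pullPushAdj j).unit.app I) :=
    (EtCoh.push i).map a ≫
      inv ((EtCoh.pullPushAdj i).unit.app (kernel ((EtCoh.pullPushAdj j).unit.app I)))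
  have ha' : a' ≫ (EtCoh.pullPushAdj i).unit.app (kernel ((EtCoh.pullPushAdj j).unit.app I)) =
      (EtCoh.push i).map a := by
    show ((EtCoh.push i).map a ≫
      inv ((EtCoh.pullPushAdj i).unit.app (kernel ((EtCoh.pullPushAdj j).unit.app I)))) ≫
      (EtCoh.pullPushAdj i).unit.app (kernel ((EtCoh.pullPushAdj j).unit.app I)) = _
    rw [Category.assoc, IsIso.inv_hom_id, Category.comp_id]
  let c : (EtCoh.push i).obj B ⟶ I :=
    Injective.factorThru (a' ≫ kernel.ι ((EtCoh.pullPushAdj j).unit.app I)) ((EtCoh.push i).map m)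
  have hc : (EtCoh.push i).map m ≫ c = a' ≫ kernel.ι ((EtCoh.pullPushAdj j).unit.app I) :=
    Injective.comp_factorThru _ _
  have hz : IsZero ((EtShriek.restrAlong j).obj ((EtCoh.push i).obj B)) :=
    isZero_restr_push i j B hd
  have hc0 : c ≫ (EtCoh.pullPushAdj j).unit.app I = 0 :=
    ((Groth.Agent.Lib.EtRestr.restrPushAdj j).homEquiv _ _).symm.injective (hz.eq_of_src _ _)
  let c' : (EtCoh.push i).obj B ⟶ kernel ((EtCoh.pullPushAdj j).unit.app I) :=
    kernel.lift ((EtCoh.pullPushAdj j).unit.app I) c hc0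
  have hc' : (EtCoh.push i).map m ≫ c' = a' := by
    rw [← cancel_mono (kernel.ι ((EtCoh.pullPushAdj j).unit.app I)), Category.assoc,
      kernel.lift_ι, hc]
  refine ⟨(fullyFaithfulPush i).preimage
    (c' ≫ (EtCoh.pullPushAdj i).unit.app (kernel ((EtCoh.pullPushAdj j).unit.app I))), ?_⟩
  apply (fullyFaithfulPush i).map_injective
  rw [Functor.map_comp, (fullyFaithfulPush i).map_preimage, ← Category.assoc, hc', ha']

end Groth.Agent.S0175
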