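import Groth.Statements.S0197
import Groth.Agent.Lib.CSABrauer

set_option autoImplicit false
universe u v w
open scoped TensorProduct
open Curves

namespace Groth.Agent.S0197

/-- If a finite central skew field D has dimension d^2, the degree of any finite splitting field of D is
divisible by d. -/
theorem result (k : Type u) [Field k]
    (D : Type u) [DivisionRing D] [Algebra k D] [Algebra.IsCentral k D] [FiniteDimensional k D]
    (d : ℕ) (hd : Module.finrank k D = d ^ 2)
    (k' : Type u) [Field k'] [Algebra k k'] [FiniteDimensional k k'] (hs : Curves.Splits k D k') :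
    d ∣ Module.finrank k k' := by
  obtain ⟨n, hn, ⟨e⟩⟩ := hs
  obtain ⟨B, hR, hAlg, hC, hS, hF, ι, a, b, ha, hb, ⟨e0⟩, hdim⟩ :=
    Groth.Agent.Lib.CSA.exists_brauer_of_splits hn e
  have : IsArtinianRing B := IsArtinianRing.of_finite k B
  obtain ⟨t, ht, D'', _, _, _, ⟨eB⟩⟩ :=
    IsSimpleRing.exists_algEquiv_matrix_divisionRing_finite k B
  have ht0 : t ≠ 0 := ht.out
  obtain ⟨eD⟩ := Groth.Agent.Lib.CSA.divisionRing_algEquiv_of_matrix_algEquiv (k := k)
    ha (Nat.mul_ne_zero hb ht0)
    (e0.trans ((AlgEquiv.mapMatrix eB).trans (Groth.Agent.Lib.CSA.matrixMatrixEquiv k D'' b t)))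
  have h1 : Module.finrank k B = t * t * Module.finrank k D'' := by
    rw [eB.toLinearEquiv.finrank_eq, Module.finrank_matrix]
    simp
  have h2 : Module.finrank k D'' = d ^ 2 := by
    rw [← eD.toLinearEquiv.finrank_eq, hd]
  have h3 : (t * d) ^ 2 = Module.finrank k k' ^ 2 := by
    rw [← hdim, h1, h2]; ring
  have h4 : t * d = Module.finrank k k' := Nat.pow_left_injective (by norm_num) h3
  exact ⟨t, by rw [← h4, mul_comm]⟩

end Groth.Agent.S0197
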