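import Groth.Statements.S0200
import Groth.Agent.Lib.CSASplit

set_option autoImplicit false
universe u v w
open scoped TensorProduct
open Curves

namespace Groth.Agent.S0200

/-- A k-algebra is finite central simple exactly when its base change to the separable closure of k is a
matrix algebra of positive size. -/
theorem result (k : Type u) [Field k] (A : Type v) [Ring A] [Algebra k A] :
    (Algebra.IsCentral k A ∧ IsSimpleRing A ∧ FiniteDimensional k A) ↔
      Curves.Splits k A (SeparableClosure k) := by
  constructor
  · rintro ⟨h1, h2, h3⟩
    have : Algebra.IsCentral (SeparableClosure k) (SeparableClosure k ⊗[k] A) :=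
      Groth.Agent.Lib.CSA.isCentral_baseChange
    have : IsSimpleRing (SeparableClosure k ⊗[k] A) := Groth.Agent.Lib.CSA.isSimpleRing_tensor
    exact Groth.Agent.Lib.CSA.exists_algEquiv_matrix_of_isSepClosed
      (K := SeparableClosure k) (SeparableClosure k ⊗[k] A)
  · rintro ⟨n, hn, ⟨e⟩⟩
    have : NeZero n := ⟨hn⟩
    have : Algebra.IsCentral (SeparableClosure k) (SeparableClosure k ⊗[k] A) :=
      Groth.Agent.Lib.CSA.isCentral_of_algEquiv' e.symm
    have : IsSimpleRing (SeparableClosure k ⊗[k] A) :=
      IsSimpleRing.of_ringEquiv e.symm.toRingEquiv inferInstance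
    have : Module.Finite (SeparableClosure k) (SeparableClosure k ⊗[k] A) :=
      Module.Finite.equiv e.symm.toLinearEquiv
    exact Groth.Agent.Lib.CSA.csa_of_baseChange (k := k) (K := SeparableClosure k)

end Groth.Agent.S0200
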