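import Groth.Statements.S0202
import Groth.Agent.Lib.EtConstKernel39
import Groth.Agent.Lib.AICSpecGlue39

set_option autoImplicit false
universe u
open CategoryTheory CategoryTheory.Limits AlgebraicGeometry
open Curves

namespace Groth.Agent.S0202

open Groth.Agent.Lib.AICLocal39 Groth.Agent.Lib.AICSpecGlue39 Groth.Agent.Lib.AICTop39
  Groth.Agent.Lib.EtConstKernel39 Groth.Agent.Lib.EtGabber39 Groth.Agent.Lib.EtConst

/-- the local rings of an absolutely integrally closed ring are strictly henselian -/
lemma isStrictlyHenselian_localization (R : Type u) [CommRing R] (hR : Curves.IsAIC R)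
    (p : PrimeSpectrum R) :
    EtCoh.IsStrictlyHenselianLocalRing (Localization.AtPrime p.asIdeal) := by
  have hA : Curves.IsAIC (Localization.AtPrime p.asIdeal) :=
    isAIC_of_isLocalization hR p.asIdeal.primeCompl _
  refine ⟨henselianLocalRing_of_isAIC hA, ?_⟩
  have := isAlgClosed_residueField_of_isAIC hA
  infer_instance

lemma coe_basicOpen_Spec (R : Type u) [CommRing R] (a : Γ(Spec (CommRingCat.of R), ⊤)) :
    (((Spec (CommRingCat.of R)).basicOpen a : (Spec (CommRingCat.of R)).Opens) :
      Set (Spec (CommRingCat.of R))) =
      {x : PrimeSpectrum R | (Scheme.ΓSpecIso (CommRingCat.of R)).hom a ∉ x.asIdeal} := by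
  rw [basicOpen_eq_of_affine']
  rfl

/-- Over the spectrum of an absolutely integrally closed ring, constant sheaves with finite value group
have no higher étale cohomology. Absolutely integrally closed is taken as: every monic of positive
degree has a root. -/
theorem result (R : Type u) [CommRing R] (hR : Curves.IsAIC R)
    (M : Type) [AddCommGroup M] [Finite M] (i : ℕ) (hi : 0 < i) :
    Subsingleton (EtCoh.H (Spec (CommRingCat.of R)) (EtCoh.const (Spec (CommRingCat.of R)) M) i) := by
  apply subsingleton_H_of_kernelCondition
    (constSh (Spec (CommRingCat.of R)) (AddCommGrpCat.of (ULift.{u + 1} M))) ?_ ?_ i hi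
  · intro x
    exact Groth.Agent.Lib.H15WLocSquare.isStrictlyHenselian_of_ringEquiv
      (AlgebraicGeometry.StructureSheaf.stalkIso R x).toRingEquiv
      (isStrictlyHenselian_localization R hR x)
  · apply kernelCondition_const
    intro f g
    rw [coe_basicOpen_Spec, coe_basicOpen_Spec, map_mul, map_mul, map_add]
    exact glue_of_isAIC hR _ _ _

end Groth.Agent.S0202
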