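import Groth.Statements.S0216
import Mathlib

set_option autoImplicit false
universe u
open CategoryTheory CategoryTheory.Limits AlgebraicGeometry TopologicalSpace
open Curves

namespace Groth.Agent.S0216

open Polynomial Topology Opposite

/-- In a space where `η` lies in every nonempty open set, a constructible set containing `η`
contains an open neighbourhood of `η`. -/
lemma constructible_nhds {X : Type*} [TopologicalSpace X] (η : X)
    (hη : ∀ U : Set X, IsOpen U → U.Nonempty → η ∈ U)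
    {s : Set X} (hs : IsConstructible s) :
    (η ∈ s → ∃ U, IsOpen U ∧ η ∈ U ∧ U ⊆ s) ∧ (η ∉ s → ∃ U, IsOpen U ∧ η ∈ U ∧ U ⊆ sᶜ) := by
  induction hs using IsConstructible.empty_union_induction with
  | open_retrocompact U hUopen hUcomp =>
    refine ⟨fun h => ⟨U, hUopen, h, subset_rfl⟩, fun h => ⟨Set.univ, isOpen_univ, trivial, ?_⟩⟩
    intro x _ hx
    exact h (hη U hUopen ⟨x, hx⟩)
  | union s hs t ht hs' ht' =>
    refine ⟨?_, ?_⟩
    · rintro (h | h)
      · obtain ⟨U, h1, h2, h3⟩ := hs'.1 h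
        exact ⟨U, h1, h2, h3.trans Set.subset_union_left⟩
      · obtain ⟨U, h1, h2, h3⟩ := ht'.1 h
        exact ⟨U, h1, h2, h3.trans Set.subset_union_right⟩
    · intro h
      have h1 : η ∉ s := fun h' => h (Or.inl h')
      have h2 : η ∉ t := fun h' => h (Or.inr h')
      obtain ⟨U, hU1, hU2, hU3⟩ := hs'.2 h1
      obtain ⟨V, hV1, hV2, hV3⟩ := ht'.2 h2
      refine ⟨U ∩ V, hU1.inter hV1, ⟨hU2, hV2⟩, ?_⟩
      rintro x ⟨hxU, hxV⟩ (hx | hx)
      exacts [hU3 hxU hx, hV3 hxV hx]
  | compl s hs hs' =>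
    refine ⟨fun h => hs'.2 h, fun h => ?_⟩
    have : η ∈ s := not_not.mp h
    simpa using hs'.1 this

/-- For a nonzero polynomial `h` over a field there is an integer polynomial whose image divides
no power of `h`. -/
lemma exists_int_poly_not_dvd_pow {k : Type*} [Field k] (h : k[X]) (hh : h ≠ 0) :
    ∃ Q : ℤ[X], Q.map (Int.castRingHom k) ≠ 0 ∧ ∀ M : ℕ, ¬ (Q.map (Int.castRingHom k)) ∣ h ^ M := by
  set d := h.natDegree
  have hN : ∃ N : ℕ, d < N ∧ (N : k) ≠ 0 := by
    by_cases h1 : ((d + 1 : ℕ) : k) = 0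
    · refine ⟨d + 2, by omega, fun h2 => ?_⟩
      have : ((d + 2 : ℕ) : k) - ((d + 1 : ℕ) : k) = 1 := by push_cast; ring
      rw [h1, h2, sub_zero] at this
      exact zero_ne_one this
    · exact ⟨d + 1, by omega, h1⟩
  obtain ⟨N, hdN, hNk⟩ := hN
  have hmap : (X ^ N - 1 : ℤ[X]).map (Int.castRingHom k) = X ^ N - C 1 := by
    simp
  have hsep : (X ^ N - C (1 : k)).Separable := separable_X_pow_sub_C 1 hNk one_ne_zero
  have hdeg : (X ^ N - C (1 : k)).natDegree = N := natDegree_X_pow_sub_C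
  refine ⟨X ^ N - 1, by rw [hmap]; exact hsep.ne_zero, fun M hdvd => ?_⟩
  rw [hmap] at hdvd
  have hdvd' : (X ^ N - C (1 : k)) ∣ h := by
    by_cases hM : M = 0
    · subst hM
      rw [pow_zero] at hdvd
      exact (isUnit_of_dvd_one hdvd).dvd
    · exact (hsep.squarefree.dvd_pow_iff_dvd hM).mp hdvd
  have := natDegree_le_of_dvd hdvd' hh
  omega

/-- Key affine lemma: in a finitely generated algebra `B` over a field `k`, for an element `f`
transcendental over `k` there is an integer polynomial `Q` with `Q(f)` a nonzero nonunit. -/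
lemma exists_nonunit {k B : Type*} [Field k] [CommRing B] (φ : k →+* B) (hφ : φ.FiniteType)
    (f : B) (hf : ∀ P : k[X], P.eval₂ φ f = 0 → P = 0) :
    ∃ Q : ℤ[X], aeval f Q ≠ 0 ∧ ¬ IsUnit (aeval f Q) := by
  let ψ : k[X] →+* B := eval₂RingHom φ f
  have hψinj : Function.Injective ψ := by
    rw [injective_iff_map_eq_zero]
    intro P hP
    exact hf P hP
  have hψC : ψ.comp C = φ := by
    ext a
    simp [ψ]
  have hψft : ψ.FiniteType := by
    apply RingHom.FiniteType.of_comp_finiteType (f := (C : k →+* k[X]))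
    rw [hψC]
    exact hφ
  have hψfp : ψ.FinitePresentation := RingHom.FinitePresentation.of_finiteType.mp hψft
  have hcons := PrimeSpectrum.isConstructible_range_comap hψfp
  let η : PrimeSpectrum k[X] := ⟨⊥, Ideal.isPrime_bot⟩
  have hη : ∀ U : Set (PrimeSpectrum k[X]), IsOpen U → U.Nonempty → η ∈ U := by
    rintro U hU ⟨p, hp⟩
    have : η ⤳ p := by
      rw [← PrimeSpectrum.le_iff_specializes]
      exact bot_le (a := p.asIdeal)
    exact this.mem_open hU hp
  have hηmem : η ∈ Set.range (PrimeSpectrum.comap ψ) := by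
    obtain ⟨q, hq, hq'⟩ := Ideal.exists_comap_eq_of_mem_minimalPrimes_of_injective hψinj ⊥
      (by rw [IsDomain.minimalPrimes_eq_singleton_bot]; rfl)
    exact ⟨⟨q, hq⟩, PrimeSpectrum.ext hq'⟩
  obtain ⟨U, hUo, hηU, hUsub⟩ := (constructible_nhds η hη hcons).1 hηmem
  obtain ⟨_, ⟨h, rfl⟩, hηh, hhU⟩ :=
    PrimeSpectrum.isTopologicalBasis_basic_opens.exists_subset_of_mem_open hηU hUo
  have hh0 : h ≠ 0 := by
    rintro rfl
    simp at hηh
  obtain ⟨Q, hQb0, hQ⟩ := exists_int_poly_not_dvd_pow h hh0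
  set Qb := Q.map (Int.castRingHom k) with hQb
  have hdisj : Disjoint ((Ideal.span {Qb} : Ideal k[X]) : Set k[X]) (Submonoid.powers h) := by
    rw [Set.disjoint_left]
    rintro x hx ⟨M, rfl⟩
    exact hQ M (Ideal.mem_span_singleton.mp hx)
  obtain ⟨p, hp, hle, hpd⟩ := Ideal.exists_le_prime_disjoint _ _ hdisj
  have hpmem : (⟨p, hp⟩ : PrimeSpectrum k[X]) ∈ Set.range (PrimeSpectrum.comap ψ) := by
    apply hUsub
    apply hhU
    show h ∉ p
    intro hhp
    exact Set.disjoint_left.mp hpd hhp ⟨1, by simp⟩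
  obtain ⟨q, hq⟩ := hpmem
  have hψQ : ψ Qb = aeval f Q := by
    simp only [ψ, hQb, coe_eval₂RingHom, eval₂_map, aeval_def]
    congr 1
    exact Subsingleton.elim _ _
  refine ⟨Q, ?_, ?_⟩
  · rw [← hψQ]
    intro h0
    exact hQb0 (hψinj (by rw [h0, map_zero]))
  · rw [← hψQ]
    intro hu
    have : ψ Qb ∈ q.asIdeal := by
      have : Qb ∈ (PrimeSpectrum.comap ψ q).asIdeal := by
        rw [hq]
        exact hle (Ideal.subset_span rfl)
      exact this
    exact q.isPrime.ne_top (Ideal.eq_top_of_isUnit_mem _ this hu)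


/-- In a reduced ring with only trivial idempotents, an element algebraic over a field is zero or a
unit. -/
lemma zero_or_unit_of_algebraic {k R : Type*} [Field k] [CommRing R] [IsReduced R]
    (hidem : ∀ e : R, e * e = e → e = 0 ∨ e = 1) (φ : k →+* R) (y : R) (P : k[X]) (hP : P ≠ 0)
    (hy : P.eval₂ φ y = 0) : y = 0 ∨ IsUnit y := by
  obtain ⟨P', hP', hnd⟩ := Polynomial.exists_eq_pow_rootMultiplicity_mul_and_not_dvd P hP 0
  set e := P.rootMultiplicity 0
  have hc : P'.coeff 0 ≠ 0 := by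
    intro h0
    apply hnd
    rw [C_0, sub_zero]
    exact X_dvd_iff.mpr h0
  set c := P'.coeff 0
  set g := P'.divX
  have hP'eq : g * X + C c = P' := Polynomial.divX_mul_X_add P'
  set w : R := φ c⁻¹ * P'.eval₂ φ y with hw
  set v : R := - φ c⁻¹ * g.eval₂ φ y with hv
  have hcc : φ c⁻¹ * φ c = 1 := by rw [← map_mul, inv_mul_cancel₀ hc, map_one]
  have h1 : y * v = 1 - w := by
    rw [hw, hv, ← hP'eq, eval₂_add, eval₂_mul, eval₂_X, eval₂_C]
    linear_combination hcc
  have h2 : y ^ e * w = 0 := by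
    have : P.eval₂ φ y = y ^ e * P'.eval₂ φ y := by
      rw [hP', eval₂_mul, eval₂_pow, eval₂_sub, eval₂_X, eval₂_C, map_zero, sub_zero]
    rw [hw, mul_left_comm, ← this, hy, mul_zero]
  have h3 : w * (1 - w) = 0 := by
    apply IsReduced.eq_zero
    refine ⟨e + 1, ?_⟩
    have : (w * (1 - w)) ^ (e + 1) = (w ^ e * y * v ^ e * v) * (y ^ e * w) := by
      rw [← h1]; ring
    rw [this, h2, mul_zero]
  have h4 : w * w = w := by linear_combination -h3
  rcases hidem w h4 with h0 | h1'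
  · right
    rw [h0, sub_zero] at h1
    exact IsUnit.of_mul_eq_one _ h1
  · left
    rw [h1', mul_one] at h2
    apply IsReduced.eq_zero
    exact ⟨e, h2⟩


variable {X : Scheme.{u}}

lemma sup_eq_top_of_isCoprime {f g : Γ(X, ⊤)} (h : IsCoprime f g) :
    X.basicOpen f ⊔ X.basicOpen g = ⊤ := by
  obtain ⟨a, b, hab⟩ := h
  have := X.basicOpen_add_le (f := a * f) (g := b * g)
  rw [hab, Scheme.basicOpen_one, Scheme.basicOpen_mul, Scheme.basicOpen_mul] at this
  exact top_le_iff.mp (this.trans (sup_le_sup inf_le_right inf_le_right))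

lemma basicOpen_eq_bot_or_top_of_isClosed [ConnectedSpace X] (f : Γ(X, ⊤))
    (h : IsClosed (X.basicOpen f : Set X)) : X.basicOpen f = ⊥ ∨ X.basicOpen f = ⊤ := by
  have hc : IsClopen (X.basicOpen f : Set X) := ⟨h, (X.basicOpen f).isOpen⟩
  rcases isClopen_iff.mp hc with h0 | h1
  · left
    exact Opens.ext (by simpa using h0)
  · right
    exact Opens.ext (by simpa using h1)

lemma idem_trivial [IsReduced X] [ConnectedSpace X] (e : Γ(X, ⊤)) (he : e * e = e) :
    e = 0 ∨ e = 1 := by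
  have h1 : X.basicOpen e ⊔ X.basicOpen (1 - e) = ⊤ :=
    sup_eq_top_of_isCoprime ⟨1, 1, by ring⟩
  have h2 : X.basicOpen e ⊓ X.basicOpen (1 - e) = ⊥ := by
    rw [← Scheme.basicOpen_mul]
    have : e * (1 - e) = 0 := by linear_combination -he
    rw [this, Scheme.basicOpen_zero]
  have hcl : IsClosed (X.basicOpen e : Set X) := by
    have : (X.basicOpen e : Set X) = (X.basicOpen (1 - e) : Set X)ᶜ := by
      have h1' := congrArg (fun U : X.Opens => (U : Set X)) h1
      have h2' := congrArg (fun U : X.Opens => (U : Set X)) h2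
      simp only [Opens.coe_sup, Opens.coe_inf, Opens.coe_top, Opens.coe_bot] at h1' h2'
      ext p
      constructor
      · intro hp hp'
        have : p ∈ (∅ : Set X) := h2' ▸ ⟨hp, hp'⟩
        exact this
      · intro hp
        have : p ∈ (Set.univ : Set X) := trivial
        rw [← h1'] at this
        exact this.resolve_right hp
    rw [this]
    exact (X.basicOpen (1 - e)).isOpen.isClosed_compl
  rcases basicOpen_eq_bot_or_top_of_isClosed e hcl with h | h
  · left
    exact (basicOpen_eq_bot_iff e).mp h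
  · right
    rw [h, top_inf_eq] at h2
    have := (basicOpen_eq_bot_iff (1 - e)).mp h2
    linear_combination -this



lemma map_aeval_int {R S : Type*} [CommRing R] [CommRing S] (r : R →+* S) (x : R) (Q : ℤ[X]) :
    r (aeval x Q) = aeval (r x) Q := by
  rw [aeval_def, aeval_def, hom_eval₂]
  congr 1
  exact Subsingleton.elim _ _

lemma isIntegralElem_aeval_int {k R : Type*} [CommRing k] [CommRing R] (φ : k →+* R) (x : R)
    (hx : φ.IsIntegralElem x) (Q : ℤ[X]) : φ.IsIntegralElem (aeval x Q) := by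
  induction Q using Polynomial.induction_on' with
  | add p q hp hq => rw [map_add]; exact RingHom.IsIntegralElem.add φ hp hq
  | monomial n a =>
    rw [← C_mul_X_pow_eq_monomial, map_mul, map_pow, aeval_X, aeval_C]
    refine RingHom.IsIntegralElem.mul φ ?_ ?_
    · have : algebraMap ℤ R a = φ (a : k) := by simp
      rw [this]
      exact φ.isIntegralElem_map
    · let _ := φ.toAlgebra
      exact (show IsIntegral k x from hx).pow n

lemma forward [IsReduced X] [ConnectedSpace X] {k : Type*} [Field k] (φ : k →+* Γ(X, ⊤))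
    (x : Γ(X, ⊤)) (hx : φ.IsIntegralElem x) (Q : ℤ[X]) :
    aeval x Q = 0 ∨ IsUnit (aeval x Q) := by
  obtain ⟨P, hP, hPy⟩ := isIntegralElem_aeval_int φ x hx Q
  have : Nonempty X := inferInstance
  have : Nontrivial k := inferInstance
  exact zero_or_unit_of_algebraic idem_trivial φ _ P hP.ne_zero hPy



section backward

variable {k : Type u} [Field k] (φ : k →+* Γ(X, ⊤)) (x : Γ(X, ⊤))

/-- Local algebraicity: near every point some nonzero polynomial in `x` vanishes. -/
def LocAlg : Prop :=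
  ∀ p : X, ∃ U : X.Opens, p ∈ U ∧ ∃ P : k[X], P ≠ 0 ∧ X.basicOpen (P.eval₂ φ x) ⊓ U = ⊥

lemma D_mul (P₁ P₂ : k[X]) : X.basicOpen ((P₁ * P₂).eval₂ φ x) =
    X.basicOpen (P₁.eval₂ φ x) ⊓ X.basicOpen (P₂.eval₂ φ x) := by
  rw [eval₂_mul, Scheme.basicOpen_mul]

lemma D_coprime {P₁ P₂ : k[X]} (h : IsCoprime P₁ P₂) :
    X.basicOpen (P₁.eval₂ φ x) ⊔ X.basicOpen (P₂.eval₂ φ x) = ⊤ :=
  sup_eq_top_of_isCoprime (h.map (eval₂RingHom φ x))

lemma D_le_pow (P : k[X]) (e : ℕ) :
    X.basicOpen (P.eval₂ φ x) ≤ X.basicOpen ((P ^ e).eval₂ φ x) := by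
  rcases Nat.eq_zero_or_pos e with rfl | he
  · rw [pow_zero, eval₂_one, Scheme.basicOpen_one]; exact le_top
  · rw [eval₂_pow, Scheme.basicOpen_pow _ _ he]

lemma isClosed_D_irreducible (hloc : LocAlg φ x) (m : k[X]) (hm : Irreducible m) :
    IsClosed (X.basicOpen (m.eval₂ φ x) : Set X) := by
  rw [← isOpen_compl_iff, isOpen_iff_forall_mem_open]
  intro p hp
  obtain ⟨U, hpU, P, hP, hPU⟩ := hloc p
  obtain ⟨e, P', hnd, rfl⟩ := WfDvdMonoid.max_power_factor hP hm
  have hcop : IsCoprime m P' := hm.coprime_iff_not_dvd.mpr hnd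
  have hcov := D_coprime φ x hcop
  have hpP' : p ∈ X.basicOpen (P'.eval₂ φ x) := by
    have : p ∈ X.basicOpen (m.eval₂ φ x) ⊔ X.basicOpen (P'.eval₂ φ x) := by
      rw [hcov]; trivial
    exact (this : p ∈ (X.basicOpen (m.eval₂ φ x) : Set X) ∪ _).resolve_left hp
  refine ⟨(X.basicOpen (P'.eval₂ φ x) ⊓ U : X.Opens), ?_, (X.basicOpen (P'.eval₂ φ x) ⊓ U).isOpen,
    ⟨hpP', hpU⟩⟩
  rintro q ⟨hq1, hq2⟩ hq3
  have hq4 : q ∈ X.basicOpen ((m ^ e).eval₂ φ x) := D_le_pow φ x m e hq3
  have : q ∈ X.basicOpen ((m ^ e * P').eval₂ φ x) ⊓ U := by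
    rw [D_mul]
    exact ⟨⟨hq4, hq1⟩, hq2⟩
  rw [hPU] at this
  exact this

lemma exists_irreducible_D_bot [ConnectedSpace X] (hloc : LocAlg φ x) (P : k[X]) (hP : P ≠ 0)
    (hD : X.basicOpen (P.eval₂ φ x) ≠ ⊤) :
    ∃ m : k[X], Irreducible m ∧ X.basicOpen (m.eval₂ φ x) = ⊥ := by
  induction P using WfDvdMonoid.induction_on_irreducible with
  | zero => exact absurd rfl hP
  | unit u hu =>
    exfalso
    apply hD
    have : IsUnit (u.eval₂ φ x) := hu.map (eval₂RingHom φ x)
    exact Scheme.basicOpen_of_isUnit _ this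
  | mul P' m hP' hm ih =>
    rw [D_mul] at hD
    by_cases h1 : X.basicOpen (m.eval₂ φ x) = ⊤
    · rw [h1, top_inf_eq] at hD
      exact ih hP' hD
    · refine ⟨m, hm, ?_⟩
      exact (basicOpen_eq_bot_or_top_of_isClosed _
        (isClosed_D_irreducible φ x hloc m hm)).resolve_right h1

lemma integral_of_locAlg [IsReduced X] [ConnectedSpace X] (hloc : LocAlg φ x) :
    φ.IsIntegralElem x := by
  obtain ⟨p⟩ : Nonempty X := inferInstance
  obtain ⟨U, hpU, P, hP, hPU⟩ := hloc p
  have hD : X.basicOpen (P.eval₂ φ x) ≠ ⊤ := by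
    intro h
    rw [h, top_inf_eq] at hPU
    rw [hPU] at hpU
    exact hpU
  obtain ⟨m, hm, hm0⟩ := exists_irreducible_D_bot φ x hloc P hP hD
  have hmx : m.eval₂ φ x = 0 := (basicOpen_eq_bot_iff _).mp hm0
  refine ⟨m * C m.leadingCoeff⁻¹, monic_mul_leadingCoeff_inv hm.ne_zero, ?_⟩
  rw [eval₂_mul, hmx, zero_mul]

end backward


variable {k : Type u} [Field k]

lemma locAlg_of_forall (a : X ⟶ Spec (CommRingCat.of k)) [LocallyOfFiniteType a] (x : Γ(X, ⊤))
    (hx : ∀ Q : ℤ[X], aeval x Q = 0 ∨ IsUnit (aeval x Q)) :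
    LocAlg ((a.appTop).hom.comp (Scheme.ΓSpecIso (CommRingCat.of k)).inv.hom) x := by
  intro p
  obtain ⟨_, ⟨U, hU, rfl⟩, hpU, -⟩ :=
    X.isBasis_affineOpens.exists_subset_of_mem_open (Set.mem_univ p) isOpen_univ
  refine ⟨U, hpU, ?_⟩
  by_contra hcon
  push Not at hcon
  set φ := (a.appTop).hom.comp (Scheme.ΓSpecIso (CommRingCat.of k)).inv.hom with hφ
  let r : Γ(X, ⊤) →+* Γ(X, U) := (X.presheaf.map (homOfLE (le_top : U ≤ ⊤)).op).hom
  have hft : (r.comp φ).FiniteType := by
    have h1 := LocallyOfFiniteType.finiteType_appLE a (U := ⊤) (isAffineOpen_top _) hU le_top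
    have h2 : (Scheme.ΓSpecIso (CommRingCat.of k)).inv.hom.FiniteType := by
      apply RingHom.FiniteType.of_surjective
      exact (ConcreteCategory.bijective_of_isIso (Scheme.ΓSpecIso (CommRingCat.of k)).inv).2
    have := h1.comp h2
    convert this using 1
    rw [hφ, ← RingHom.comp_assoc]
    rfl
  have hf : ∀ P : k[X], P.eval₂ (r.comp φ) (r x) = 0 → P = 0 := by
    intro P hP
    by_contra hP0
    apply hcon P hP0
    rw [← hom_eval₂] at hP
    have := Scheme.basicOpen_res X (P.eval₂ φ x) (homOfLE (le_top : U ≤ ⊤)).op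
    rw [inf_comm, ← this]
    have h0 : (X.presheaf.map (homOfLE (le_top : U ≤ ⊤)).op) (P.eval₂ φ x) = 0 := hP
    rw [h0, Scheme.basicOpen_zero]
  obtain ⟨Q, hQ0, hQu⟩ := exists_nonunit (r.comp φ) hft (r x) hf
  rw [← map_aeval_int] at hQ0 hQu
  rcases hx Q with h | h
  · exact hQ0 (by rw [h, map_zero])
  · exact hQu (h.map r)





/-- If a connected reduced scheme is locally of finite type over two fields k₁ and k₂, then a global
function is integral over k₁ exactly when it is integral over k₂ (the integral closures of the two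
base fields in the global functions coincide). -/
theorem result (X : Scheme.{u}) [IsReduced X] [ConnectedSpace X]
    (k₁ k₂ : Type u) [Field k₁] [Field k₂]
    (a : X ⟶ Spec (CommRingCat.of k₁)) (b : X ⟶ Spec (CommRingCat.of k₂))
    [LocallyOfFiniteType a] [LocallyOfFiniteType b] (x : Coh.Γtop X) :
    (Coh.toGlobal a).IsIntegralElem x ↔ (Coh.toGlobal b).IsIntegralElem x := by
  have key : ∀ (k : Type u) [Field k] (c : X ⟶ Spec (CommRingCat.of k)) [LocallyOfFiniteType c]
      (y : Γ(X, ⊤)),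
      ((c.appTop).hom.comp (Scheme.ΓSpecIso (CommRingCat.of k)).inv.hom).IsIntegralElem y ↔
        ∀ Q : ℤ[X], aeval y Q = 0 ∨ IsUnit (aeval y Q) := by
    intro k _ c _ y
    exact ⟨fun h Q => forward _ y h Q, fun h => integral_of_locAlg _ y (locAlg_of_forall c y h)⟩
  exact (key k₁ a x).trans (key k₂ b x).symm

end Groth.Agent.S0216
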