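import Groth.Statements.S0217
import Groth.Agent.Lib.CodimOne13e

set_option autoImplicit false
universe u
open CategoryTheory CategoryTheory.Limits AlgebraicGeometry TopologicalSpace
open Curves

namespace Groth.Agent.S0217

/-- On a separated scheme whose quasi-compact opens have finitely many irreducible components, any
finite set of points with Noetherian local rings of dimension at most one lies in a common affine
open. -/
theorem result (X : Scheme.{u}) [X.IsSeparated]
    (hirr : ∀ U : X.Opens, IsCompact (U : Set X) → (irreducibleComponents (U : Set X)).Finite)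
    (s : Finset X) (hs : ∀ x ∈ s, IsNoetherianRing (X.presheaf.stalk x) ∧ ringKrullDim (X.presheaf.stalk x) ≤ 1) :
    ∃ U : X.Opens, IsAffineOpen U ∧ ∀ x ∈ s, x ∈ U := by
  classical
  have hW : ∀ x : X, ∃ W : X.Opens, IsAffineOpen W ∧ x ∈ W := fun x => by
    obtain ⟨_, ⟨W, hW, rfl⟩, hxW, -⟩ :=
      X.isBasis_affineOpens.exists_subset_of_mem_open (Set.mem_univ x) isOpen_univ
    exact ⟨W, hW, hxW⟩
  choose W hWaff hxW using hW
  let X' : X.Opens := ⨆ x ∈ s, W x
  have hmem : ∀ x ∈ s, x ∈ X' := fun x hx =>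
    TopologicalSpace.Opens.mem_iSup.mpr ⟨x, TopologicalSpace.Opens.mem_iSup.mpr ⟨hx, hxW x⟩⟩
  have hX'c : IsCompact (X' : Set X) := by
    have : (X' : Set X) = ⋃ x ∈ s, (W x : Set X) := by
      ext y
      simp only [X', TopologicalSpace.Opens.coe_iSup, Set.mem_iUnion]
    rw [this]
    exact s.finite_toSet.isCompact_biUnion fun x _ => (hWaff x).isCompact
  have hfin : (irreducibleComponents ↥(X' : Scheme.{u})).Finite := hirr X' hX'c
  have hsep : (X' : Scheme.{u}).IsSeparated :=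
    ⟨by rw [← terminal.comp_from X'.ι]; infer_instance⟩
  let s' : Finset ↥(X' : Scheme.{u}) := s.attach.image (fun x => ⟨x.1, hmem x.1 x.2⟩)
  obtain ⟨U', hU', hs'U⟩ :=
    Groth.Agent.Lib.CodimOne13.exists_isAffineOpen_of_finite_irreducibleComponents hfin s' (by
      intro x' hx'
      obtain ⟨x, -, rfl⟩ := Finset.mem_image.mp hx'
      obtain ⟨hN, hd⟩ := hs x.1 x.2
      let e := (asIso (X'.ι.stalkMap ⟨x.1, hmem x.1 x.2⟩)).commRingCatIsoToRingEquiv
      have hN' : IsNoetherianRing (X.presheaf.stalk (X'.ι ⟨x.1, hmem x.1 x.2⟩)) := hN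
      have hd' : ringKrullDim (X.presheaf.stalk (X'.ι ⟨x.1, hmem x.1 x.2⟩)) ≤ 1 := hd
      exact ⟨isNoetherianRing_of_ringEquiv _ e, (ringKrullDim_eq_of_ringEquiv e).symm.le.trans hd'⟩)
  refine ⟨X'.ι ''ᵁ U', hU'.image_of_isOpenImmersion X'.ι, fun x hx => ?_⟩
  exact ⟨⟨x, hmem x hx⟩, hs'U _ (Finset.mem_image.mpr ⟨⟨x, hx⟩, Finset.mem_attach _ _, rfl⟩), rfl⟩

end Groth.Agent.S0217
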