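import Groth.Statements.S0218
import Mathlib.FieldTheory.Minpoly.Field
import Mathlib.RingTheory.Algebraic.Integral
import Mathlib.Algebra.Polynomial.FieldDivision
import Mathlib.RingTheory.Adjoin.Polynomial.Basic

set_option autoImplicit false
universe u
open Curves

namespace Groth.Agent.S0218

section Aux

variable {k : Type u} [Field k] {A : Type u} [CommRing A] [Algebra k A]

theorem bot_ne_top_and_forall (h : Nat.card (Subalgebra k A) = 2) :
    (⊥ : Subalgebra k A) ≠ ⊤ ∧ ∀ S : Subalgebra k A, S = ⊥ ∨ S = ⊤ := by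
  obtain ⟨x, y, hxy, huniv⟩ := Nat.card_eq_two_iff.mp h
  have hmem : ∀ S : Subalgebra k A, S = x ∨ S = y := fun S => by
    have : S ∈ ({x, y} : Set (Subalgebra k A)) := huniv ▸ Set.mem_univ S
    simpa using this
  have hbt : (⊥ : Subalgebra k A) ≠ ⊤ := by
    intro hbt
    have : ∀ S : Subalgebra k A, S = ⊥ := fun S => le_antisymm (hbt ▸ le_top) bot_le
    exact hxy ((this x).trans (this y).symm)
  refine ⟨hbt, fun S => ?_⟩
  rcases hmem ⊥ with h1 | h1 <;> rcases hmem ⊤ with h2 | h2 <;> rcases hmem S with h3 | h3 <;>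
    simp_all

theorem nontrivial_of_bot_ne_top (hbt : (⊥ : Subalgebra k A) ≠ ⊤) : Nontrivial A := by
  by_contra hn
  rw [not_nontrivial_iff_subsingleton] at hn
  apply hbt
  ext x
  simp only [Algebra.mem_top, iff_true]
  rw [Subsingleton.elim x 0]
  exact zero_mem _

theorem indep_of_notMem_bot [Nontrivial A] {v : A} (hv : v ∉ (⊥ : Subalgebra k A)) {x y : k}
    (hxy : x • (1 : A) + y • v = 0) : x = 0 ∧ y = 0 := by
  have hy : y = 0 := by
    by_contra hy
    apply hv
    rw [Algebra.mem_bot]
    refine ⟨-(y⁻¹ * x), ?_⟩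
    have h1 : y⁻¹ • (x • (1 : A) + y • v) = 0 := by rw [hxy, smul_zero]
    rw [smul_add, smul_smul, smul_smul, inv_mul_cancel₀ hy, one_smul] at h1
    rw [map_neg, Algebra.algebraMap_eq_smul_one]
    exact (eq_neg_of_add_eq_zero_right h1).symm
  refine ⟨?_, hy⟩
  rw [hy, zero_smul, add_zero, ← Algebra.algebraMap_eq_smul_one] at hxy
  exact (map_eq_zero_iff _ (algebraMap k A).injective).mp hxy

theorem surjective_of_mem_range (hall : ∀ S : Subalgebra k A, S = ⊥ ∨ S = ⊤) {v : A}
    (hv : v ∉ (⊥ : Subalgebra k A)) {B : Type*} [Semiring B] [Algebra k B] (ψ : B →ₐ[k] A)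
    (hmem : v ∈ ψ.range) : Function.Surjective ψ := by
  rcases hall ψ.range with h | h
  · rw [h] at hmem
    exact absurd hmem hv
  · exact (AlgHom.range_eq_top ψ).mp h

theorem isIntegral_of_two (hall : ∀ S : Subalgebra k A, S = ⊥ ∨ S = ⊤) (a : A) :
    IsIntegral k a := by
  rcases hall (Algebra.adjoin k {a * a}) with h | h
  · have hmem : a * a ∈ (⊥ : Subalgebra k A) := h ▸ Algebra.self_mem_adjoin_singleton k (a * a)
    rw [Algebra.mem_bot] at hmem
    obtain ⟨c, hc⟩ := hmem
    refine ⟨Polynomial.X ^ 2 - Polynomial.C c, Polynomial.monic_X_pow_sub_C c (by norm_num), ?_⟩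
    simp [hc, pow_two]
  · have hmem : a ∈ Algebra.adjoin k {a * a} := h ▸ Algebra.mem_top
    rw [Algebra.adjoin_singleton_eq_range_aeval] at hmem
    obtain ⟨p, hp⟩ := hmem
    apply IsAlgebraic.isIntegral
    refine ⟨p.comp (Polynomial.X ^ 2) - Polynomial.X, ?_, ?_⟩
    · intro h0
      have h1 : p.comp (Polynomial.X ^ 2) = Polynomial.X := sub_eq_zero.mp h0
      have h2 := congrArg Polynomial.natDegree h1
      rw [Polynomial.natDegree_comp, Polynomial.natDegree_X_pow, Polynomial.natDegree_X] at h2
      omega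
    · have : (Polynomial.aeval a) (p.comp (Polynomial.X ^ 2)) = Polynomial.aeval (a * a) p := by
        rw [Polynomial.aeval_comp]
        simp [pow_two]
      rw [map_sub, this, Polynomial.aeval_X]
      exact sub_eq_zero.mpr hp

theorem exists_quadratic [IsAlgClosed k] (hbt : (⊥ : Subalgebra k A) ≠ ⊤)
    (hall : ∀ S : Subalgebra k A, S = ⊥ ∨ S = ⊤) :
    ∃ (b : A) (e : k), b ∉ (⊥ : Subalgebra k A) ∧ b * b = e • b := by
  obtain ⟨a, -, ha⟩ := SetLike.exists_of_lt (lt_of_le_of_ne bot_le hbt)
  have hnt : Nontrivial A := nontrivial_of_bot_ne_top hbt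
  have hint : IsIntegral k a := isIntegral_of_two hall a
  have hmonic := minpoly.monic hint
  obtain ⟨c, hc⟩ := IsAlgClosed.exists_root (minpoly k a) (ne_of_gt (minpoly.degree_pos hint))
  have hfg : (Polynomial.X - Polynomial.C c) * (minpoly k a /ₘ (Polynomial.X - Polynomial.C c)) =
      minpoly k a := Polynomial.mul_divByMonic_eq_iff_isRoot.mpr hc
  set g := minpoly k a /ₘ (Polynomial.X - Polynomial.C c) with hg
  have hgmonic : g.Monic := (Polynomial.monic_X_sub_C c).of_mul_monic_left (hfg ▸ hmonic)
  have hab : (a - algebraMap k A c) * Polynomial.aeval a g = 0 := by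
    have := minpoly.aeval k a
    rw [← hfg, map_mul] at this
    simpa using this
  have hb0 : Polynomial.aeval a g ≠ 0 := by
    intro h0
    have h1 := Polynomial.natDegree_le_natDegree (minpoly.min k a hgmonic h0)
    have h2 : (minpoly k a).natDegree = 1 + g.natDegree := by
      rw [← hfg, (Polynomial.monic_X_sub_C c).natDegree_mul hgmonic, Polynomial.natDegree_X_sub_C]
    omega
  have hbbot : Polynomial.aeval a g ∉ (⊥ : Subalgebra k A) := by
    intro hmem
    rw [Algebra.mem_bot] at hmem
    obtain ⟨t, ht⟩ := hmem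
    have ht0 : t ≠ 0 := by
      intro h0
      rw [h0, map_zero] at ht
      exact hb0 ht.symm
    apply ha
    rw [Algebra.mem_bot]
    refine ⟨c, ?_⟩
    rw [← ht] at hab
    have h1 : (a - algebraMap k A c) * algebraMap k A t * algebraMap k A t⁻¹ = 0 := by
      rw [hab, zero_mul]
    rw [mul_assoc, ← map_mul, mul_inv_cancel₀ ht0, map_one, mul_one] at h1
    exact (sub_eq_zero.mp h1).symm
  refine ⟨Polynomial.aeval a g, g.eval c, hbbot, ?_⟩
  have key : ∀ p : Polynomial k, Polynomial.aeval a p * Polynomial.aeval a g =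
      p.eval c • Polynomial.aeval a g := by
    intro p
    have hdiv := Polynomial.modByMonic_add_div p (Polynomial.X - Polynomial.C c)
    rw [Polynomial.modByMonic_X_sub_C_eq_C_eval] at hdiv
    have h1 : Polynomial.aeval a p = algebraMap k A (p.eval c) +
        (a - algebraMap k A c) * Polynomial.aeval a (p /ₘ (Polynomial.X - Polynomial.C c)) := by
      conv_lhs => rw [← hdiv]
      simp
    rw [h1, add_mul, mul_comm (a - algebraMap k A c), mul_assoc, hab, mul_zero, add_zero,
      Algebra.smul_def]
  exact key g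

end Aux

/-- Over an algebraically closed field k, a commutative k-algebra with exactly two k-subalgebras is
isomorphic to k × k or to the dual numbers over k. -/
theorem result (k : Type u) [Field k] [IsAlgClosed k] (A : Type u) [CommRing A] [Algebra k A]
    (h : Nat.card (Subalgebra k A) = 2) :
    Nonempty (A ≃ₐ[k] (k × k)) ∨ Nonempty (A ≃ₐ[k] DualNumber k) := by
  obtain ⟨hbt, hall⟩ := bot_ne_top_and_forall h
  have hnt : Nontrivial A := nontrivial_of_bot_ne_top hbt
  obtain ⟨b, e, hb, hbb⟩ := exists_quadratic hbt hall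
  by_cases he : e = 0
  · -- dual numbers
    right
    rw [he, zero_smul] at hbb
    let ψ : DualNumber k →ₐ[k] A :=
      DualNumber.lift ⟨(Algebra.ofId k A, b), hbb, fun _ => Commute.all _ _⟩
    have hψ : ∀ z : DualNumber k, ψ z = z.fst • (1 : A) + z.snd • b := by
      intro z
      simp only [ψ, DualNumber.lift_apply_apply, Algebra.ofId_apply, Algebra.smul_def, mul_one]
    have hinj : Function.Injective ψ := by
      rw [injective_iff_map_eq_zero]
      intro z hz
      rw [hψ] at hz
      obtain ⟨h1, h2⟩ := indep_of_notMem_bot hb hz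
      exact TrivSqZeroExt.ext h1 h2
    have hsurj : Function.Surjective ψ := by
      apply surjective_of_mem_range hall hb ψ
      exact ⟨DualNumber.eps, by simp [ψ]⟩
    exact ⟨(AlgEquiv.ofBijective ψ ⟨hinj, hsurj⟩).symm⟩
  · -- product
    left
    set u : A := e⁻¹ • b with hu
    have huu : u * u = u := by
      rw [hu, smul_mul_smul_comm, hbb, smul_smul, mul_assoc, inv_mul_cancel₀ he, mul_one]
    have hubot : u ∉ (⊥ : Subalgebra k A) := by
      intro hmem
      apply hb
      have : b = e • u := by rw [hu, smul_smul, mul_inv_cancel₀ he, one_smul]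
      rw [this]
      exact Subalgebra.smul_mem _ hmem e
    let lin : (k × k) →ₗ[k] A :=
      (LinearMap.fst k k k).smulRight u + (LinearMap.snd k k k).smulRight (1 - u)
    have hlin : ∀ z : k × k, lin z = z.1 • u + z.2 • (1 - u) := fun z => rfl
    let ψ : (k × k) →ₐ[k] A := AlgHom.ofLinearMap lin
      (by rw [hlin]; simp)
      (by
        intro z w
        rw [hlin, hlin, hlin]
        simp only [Prod.fst_mul, Prod.snd_mul, Algebra.smul_def, map_mul]
        linear_combination
          (-(algebraMap k A z.1 * algebraMap k A w.1 - algebraMap k A z.1 * algebraMap k A w.2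
            - algebraMap k A z.2 * algebraMap k A w.1 + algebraMap k A z.2 * algebraMap k A w.2))
            * huu)
    have hψ : ∀ z : k × k, ψ z = z.1 • u + z.2 • (1 - u) := fun z => rfl
    have hinj : Function.Injective ψ := by
      rw [injective_iff_map_eq_zero]
      intro z hz
      rw [hψ] at hz
      have hz' : z.2 • (1 : A) + (z.1 - z.2) • u = 0 := by
        rw [← hz, sub_smul, smul_sub]
        abel
      obtain ⟨h1, h2⟩ := indep_of_notMem_bot hubot hz'
      have h3 : z.1 = 0 := by rw [h1, sub_zero] at h2; exact h2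
      exact Prod.ext h3 h1
    have hsurj : Function.Surjective ψ := by
      apply surjective_of_mem_range hall hubot ψ
      exact ⟨(1, 0), by change ψ (1, 0) = u; rw [hψ]; simp⟩
    exact ⟨(AlgEquiv.ofBijective ψ ⟨hinj, hsurj⟩).symm⟩

end Groth.Agent.S0218
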