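import Groth.Statements.S0220
import Mathlib.RingTheory.Flat.TorsionFree
import Mathlib.AlgebraicGeometry.Noetherian
import Mathlib.AlgebraicGeometry.Morphisms.Flat
import Mathlib.AlgebraicGeometry.FunctionField
import Mathlib.AlgebraicGeometry.Properties

set_option autoImplicit false
universe u
open CategoryTheory CategoryTheory.Limits AlgebraicGeometry TopologicalSpace
open Curves

namespace Groth.Agent.S0220

theorem flat_of_injective_of_dedekind {A B : Type*} [CommRing A] [CommRing B] [IsDomain A]
    [IsDomain B] [IsNoetherianRing A] [IsIntegrallyClosed A] [Ring.KrullDimLE 1 A]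
    (φ : A →+* B) (hφ : Function.Injective φ) : φ.Flat := by
  letI := φ.toAlgebra
  haveI : Ring.DimensionLEOne A := ⟨fun hp hP => Ideal.IsPrime.isMaximal_of_ne_bot hP hp⟩
  haveI : IsDedekindDomain A := {}
  haveI : Module.IsTorsionFree A B := Module.isTorsionFree_iff_algebraMap_injective.mpr hφ
  change Module.Flat A B
  infer_instance

theorem stalkSpecializes_injective {Y : Scheme.{u}} [IsIntegral Y] (y' y : Y) (h : y' ⤳ y)
    (hy' : y' = genericPoint Y) : Function.Injective (Y.presheaf.stalkSpecializes h).hom := by
  subst hy'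
  exact IsFractionRing.injective (Y.presheaf.stalk y) Y.functionField

theorem isField_stalk {Y : Scheme.{u}} [IsIntegral Y] (y' : Y) (hy' : y' = genericPoint Y) :
    IsField (Y.presheaf.stalk y') := by
  subst hy'
  exact Field.toIsField Y.functionField

open Order in
theorem coheight_le_topologicalKrullDim {Y : Scheme.{u}} (y : Y) :
    (coheight y : WithBot ℕ∞) ≤ topologicalKrullDim Y := by
  rw [← coheight_orderIso (irreducibleSetEquivPoints (α := Y)).symm y]
  exact coheight_le_krullDim _

theorem lt_of_specializes_of_ne {Y : Scheme.{u}} {a b : Y} (h : b ⤳ a) (hne : a ≠ b) : a < b := by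
  refine lt_of_le_not_ge h fun h' => hne ?_
  exact ((Specializes.antisymm h' h).eq)

open Order in
theorem map_genericPoint {X Y : Scheme.{u}} [IsIntegral X] [IsIntegral Y]
    (hY : topologicalKrullDim Y = 1) (f : X ⟶ Y) (hnc : (Set.range f.base).Nontrivial) :
    f (genericPoint X) = genericPoint Y := by
  by_contra hne
  set ξ := f (genericPoint X) with hξ
  have hspec : ∀ x : X, ξ ⤳ f x := fun x => (genericPoint_specializes x).map f.continuous
  obtain ⟨x₀, hx₀⟩ : ∃ x₀ : X, f x₀ ≠ ξ := by
    obtain ⟨_, ⟨x₁, rfl⟩, _, ⟨x₂, rfl⟩, h12⟩ := hnc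
    by_cases h1 : f x₁ = ξ
    · exact ⟨x₂, fun h2 => h12 (h1.trans h2.symm)⟩
    · exact ⟨x₁, h1⟩
  have h1 : f x₀ < ξ := lt_of_specializes_of_ne (hspec x₀) hx₀
  have h2 : ξ < genericPoint Y := lt_of_specializes_of_ne (genericPoint_specializes ξ) hne
  have c1 := coheight_add_one_le h2
  have c2 := coheight_add_one_le h1
  have c3 := coheight_le_topologicalKrullDim (f x₀)
  rw [hY] at c3
  have c4 : coheight (f x₀) ≤ 1 := by exact_mod_cast c3
  have c5 : (2 : ℕ∞) ≤ coheight (f x₀) := by
    calc (2 : ℕ∞) = 0 + 1 + 1 := by norm_num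
      _ ≤ coheight (genericPoint Y) + 1 + 1 := by gcongr; exact zero_le
      _ ≤ coheight ξ + 1 := by gcongr
      _ ≤ coheight (f x₀) := c2
  have := c5.trans c4
  norm_num at this

theorem stalkMap_injective {X Y : Scheme.{u}} [IsIntegral X] [IsIntegral Y] (f : X ⟶ Y)
    (hgen : f (genericPoint X) = genericPoint Y) (x : X) :
    Function.Injective (f.stalkMap x).hom := by
  have hsp : genericPoint X ⤳ x := genericPoint_specializes x
  have key := Scheme.Hom.stalkSpecializes_stalkMap f (genericPoint X) x hsp
  have h1 : Function.Injective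
      (Y.presheaf.stalkSpecializes (f.base.hom.map_specializes hsp)).hom :=
    stalkSpecializes_injective _ _ _ hgen
  have h2 : Function.Injective (f.stalkMap (genericPoint X)).hom := by
    letI := (isField_stalk (f (genericPoint X)) hgen).toField
    exact RingHom.injective _
  have h3 : Function.Injective
      ((Y.presheaf.stalkSpecializes (f.base.hom.map_specializes hsp)) ≫
        f.stalkMap (genericPoint X)).hom := by
    rw [CommRingCat.hom_comp]
    exact h2.comp h1
  rw [key, CommRingCat.hom_comp] at h3
  exact Function.Injective.of_comp h3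



/-- A nonconstant morphism between curves over a field (integral, separated, finite type, dimension one)
whose target has integrally closed local domains is flat. -/
theorem result (k : Type u) [Field k] (X Y : Scheme.{u}) (p : X ⟶ Spec (CommRingCat.of k)) (q : Y ⟶ Spec (CommRingCat.of k))
    [IsIntegral X] [IsIntegral Y] [IsSeparated p] [IsSeparated q] [LocallyOfFiniteType p] [LocallyOfFiniteType q]
    [QuasiCompact p] [QuasiCompact q] (hX : topologicalKrullDim X = 1) (hY : topologicalKrullDim Y = 1)
    (hN : ∀ y : Y, IsDomain (Y.presheaf.stalk y) ∧ IsIntegrallyClosed (Y.presheaf.stalk y))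
    (f : X ⟶ Y) (hf : f ≫ q = p) (hnc : (Set.range f.base).Nontrivial) :
    Flat f := by
  have hgen := map_genericPoint hY f hnc
  haveI : IsLocallyNoetherian Y := LocallyOfFiniteType.isLocallyNoetherian q
  refine Flat.of_stalkMap f fun x => ?_
  haveI : IsIntegrallyClosed (Y.presheaf.stalk (f x)) := (hN (f x)).2
  haveI : Ring.KrullDimLE 1 (Y.presheaf.stalk (f x)) := by
    apply krullDimLE_of_coheight_le
    have := coheight_le_topologicalKrullDim (f x)
    rw [hY] at this
    exact_mod_cast this
  exact flat_of_injective_of_dedekind _ (stalkMap_injective f hgen x)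

end Groth.Agent.S0220
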