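import Groth.Statements.S0219
import Groth.Agent.S0220
import Mathlib.AlgebraicGeometry.ZariskisMainTheorem
import Mathlib.AlgebraicGeometry.Morphisms.QuasiFinite
import Mathlib.AlgebraicGeometry.Morphisms.Proper
import Mathlib.AlgebraicGeometry.Noetherian
import Mathlib.Topology.NoetherianSpace
import Mathlib.Topology.KrullDimension

set_option autoImplicit false
universe u
open CategoryTheory CategoryTheory.Limits AlgebraicGeometry TopologicalSpace
open Curves

namespace Groth.Agent.S0219

open Order in
/-- In a scheme of dimension `≤ 1`, a point that is a proper specialization is closed. -/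
theorem isClosed_singleton_of_specializes {X : Scheme.{u}} (hdim : topologicalKrullDim X ≤ 1)
    {η z : X} (h : η ⤳ z) (hne : z ≠ η) : IsClosed ({z} : Set X) := by
  rw [← closure_eq_iff_isClosed]
  apply Set.Subset.antisymm _ subset_closure
  intro w hw
  have hzw : z ⤳ w := specializes_iff_mem_closure.mpr hw
  by_contra hwz
  have h1 : w < z := Groth.Agent.S0220.lt_of_specializes_of_ne hzw hwz
  have h2 : z < η := Groth.Agent.S0220.lt_of_specializes_of_ne h hne
  have c1 := coheight_add_one_le h2
  have c2 := coheight_add_one_le h1
  have c3 := (Groth.Agent.S0220.coheight_le_topologicalKrullDim w).trans hdim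
  have c4 : coheight w ≤ 1 := by exact_mod_cast c3
  have c5 : (2 : ℕ∞) ≤ coheight w := by
    calc (2 : ℕ∞) = 0 + 1 + 1 := by norm_num
      _ ≤ coheight η + 1 + 1 := by gcongr; exact zero_le
      _ ≤ coheight z + 1 := by gcongr
      _ ≤ coheight w := c2
  have := c5.trans c4
  norm_num at this

/-- A closed subset of a Noetherian quasi-sober space all of whose points are closed is finite. -/
theorem finite_of_isClosed_of_forall_isClosed {α : Type*} [TopologicalSpace α] [NoetherianSpace α]
    [QuasiSober α] {C : Set α} (hC : IsClosed C) (h : ∀ z ∈ C, IsClosed ({z} : Set α)) :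
    C.Finite := by
  obtain ⟨S, hSf, hSc, hSi, rfl⟩ := NoetherianSpace.exists_finite_set_isClosed_irreducible hC
  refine Set.Finite.sUnion hSf fun t ht => ?_
  have hg := (hSi t ht).isGenericPoint_genericPoint (hSc t ht)
  have hmem : (hSi t ht).genericPoint ∈ ⋃₀ S := ⟨t, ht, hg.mem⟩
  have := h _ hmem
  rw [← hg.def, this.closure_eq]
  exact Set.finite_singleton _

/-- An irreducible subset with two distinct points, one specializing to the other, has dimension
at least one. -/
theorem one_le_topologicalKrullDim_subtype {α : Type*} [TopologicalSpace α] [T0Space α]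
    {Z : Set α} (hZ : IsIrreducible Z) {η z : α} (hη : η ∈ Z) (hz : z ∈ Z) (h : η ⤳ z)
    (hne : z ≠ η) : 1 ≤ topologicalKrullDim Z := by
  haveI : IrreducibleSpace Z := Subtype.irreducibleSpace hZ
  unfold topologicalKrullDim
  rw [Order.one_le_krullDim_iff]
  refine ⟨⟨closure {(⟨z, hz⟩ : Z)}, isIrreducible_singleton.closure, isClosed_closure⟩,
    ⟨Set.univ, IrreducibleSpace.isIrreducible_univ Z, isClosed_univ⟩, ?_⟩
  refine lt_of_le_of_ne (fun x _ => Set.mem_univ x) fun heq => ?_
  have h1 : (⟨η, hη⟩ : Z) ∈ closure {(⟨z, hz⟩ : Z)} := by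
    have := congrArg (fun s : IrreducibleCloseds Z => (s : Set Z)) heq
    simp only [IrreducibleCloseds.coe_mk] at this
    rw [this]; exact Set.mem_univ _
  rw [closure_subtype, Set.image_singleton] at h1
  have h2 : z ⤳ η := specializes_iff_mem_closure.mpr h1
  exact hne (h2.antisymm h).eq



/-- A morphism over a field from a proper scheme of dimension at most one to a separated scheme, which
does not contract any one-dimensional irreducible component to a point, is finite. -/
theorem result (k : Type u) [Field k] (X Y : Scheme.{u}) (p : X ⟶ Spec (CommRingCat.of k)) (q : Y ⟶ Spec (CommRingCat.of k))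
    [IsProper p] [IsSeparated q] (f : X ⟶ Y) (hf : f ≫ q = p) (hdim : topologicalKrullDim X ≤ 1)
    (h : ∀ Z ∈ irreducibleComponents (X : Type u), topologicalKrullDim Z = 1 → (f.base '' Z).Nontrivial) :
    IsFinite f := by
  haveI : IsProper (f ≫ q) := hf ▸ inferInstance
  haveI : IsProper f := IsProper.of_comp f q
  haveI : IsLocallyNoetherian X := LocallyOfFiniteType.isLocallyNoetherian p
  haveI : CompactSpace X := QuasiCompact.compactSpace_of_compactSpace p
  haveI : IsNoetherian X := {}
  haveI : LocallyQuasiFinite f := by
    apply LocallyQuasiFinite.of_finite_preimage_singleton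
    intro y
    have hfin := NoetherianSpace.finite_irreducibleComponents (α := X)
    have hcover : f ⁻¹' {y} ⊆ ⋃ Z ∈ irreducibleComponents X, (f ⁻¹' {y} ∩ Z) := by
      intro x hx
      simp only [Set.mem_iUnion, Set.mem_inter_iff, exists_prop]
      exact ⟨irreducibleComponent x, irreducibleComponent_mem_irreducibleComponents x, hx,
        mem_irreducibleComponent⟩
    refine (Set.Finite.biUnion hfin fun Z hZ => ?_).subset hcover
    have hZirr : IsIrreducible Z := hZ.1
    have hZcl : IsClosed Z := isClosed_of_mem_irreducibleComponents Z hZ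
    set η := hZirr.genericPoint with hη
    have hg : IsGenericPoint η Z := hZirr.isGenericPoint_genericPoint hZcl
    by_cases hall : ∀ z ∈ Z, z = η
    · refine (Set.finite_singleton η).subset ?_
      rintro z ⟨-, hz⟩
      exact hall z hz
    · push Not at hall
      obtain ⟨z₀, hz₀, hz₀η⟩ := hall
      have hdimZ : topologicalKrullDim Z = 1 := by
        refine le_antisymm ((topologicalKrullDim_subspace_le X Z).trans hdim) ?_
        exact one_le_topologicalKrullDim_subtype hZirr hg.mem hz₀ (hg.specializes hz₀) hz₀η
      have hnc := h Z hZ hdimZ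
      have hclosedpt : ∀ z ∈ Z, z ≠ η → IsClosed ({z} : Set X) := fun z hz hzη =>
        isClosed_singleton_of_specializes hdim (hg.specializes hz) hzη
      by_cases hy : IsClosed ({y} : Set Y)
      · have hF : IsClosed (f ⁻¹' {y}) := hy.preimage f.continuous
        have hηF : η ∉ f ⁻¹' {y} := by
          intro hmem
          have hsub : Z ⊆ f ⁻¹' {y} := (hg.mem_closed_set_iff hF).mp hmem
          obtain ⟨a, ⟨x₁, hx₁, rfl⟩, b, ⟨x₂, hx₂, rfl⟩, hab⟩ := hnc
          exact hab ((hsub hx₁ : f x₁ = y).trans (hsub hx₂ : f x₂ = y).symm)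
        refine finite_of_isClosed_of_forall_isClosed (hF.inter hZcl) ?_
        rintro z ⟨hzF, hzZ⟩
        exact hclosedpt z hzZ fun hzη => hηF (hzη ▸ hzF)
      · refine (Set.finite_singleton η).subset ?_
        rintro z ⟨hzF, hzZ⟩
        by_contra hzη
        have hzcl := hclosedpt z hzZ hzη
        have := f.isClosedMap _ hzcl
        rw [Set.image_singleton, (hzF : f z = y)] at this
        exact hy this
  exact IsFinite.of_isProper_of_locallyQuasiFinite f

end Groth.Agent.S0219
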