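import Groth.Statements.S0226
import Groth.Agent.Lib.H87AB
import Groth.Agent.Lib.H87GlDim2
import Groth.Agent.Lib.RegularLocal
import Mathlib.LinearAlgebra.Dimension.FreeAndStrongRankCondition

set_option autoImplicit false
universe u
open Curves

namespace Groth.Agent.S0226


open CategoryTheory IsLocalRing Groth.Agent.Lib CategoryTheory.Abelian

/-- a reduced local quotient `A/I` with `I ≠ 𝔪` has no socle, hence nonzero depth -/
theorem depth_ne_zero (A : Type u) [CommRing A] [IsLocalRing A] [IsNoetherianRing A]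
    (I : Ideal A) (hI : I ≤ maximalIdeal A) (hne : I ≠ maximalIdeal A) [IsReduced (A ⧸ I)] :
    LocCoh.depth A (A ⧸ I) ≠ 0 := by
  intro h0
  have hD := (H87AB.depth_eq_iff (R := A) (A ⧸ I) 0).mp (by exact_mod_cast h0)
  apply hD.2
  refine (Ext.addEquiv₀ (X := ModuleCat.of A (A ⧸ maximalIdeal A))
    (Y := ModuleCat.of A (A ⧸ I))).toEquiv.subsingleton_congr.mpr ?_
  refine ⟨fun φ ψ => ?_⟩
  have key : ∀ φ : ModuleCat.of A (A ⧸ maximalIdeal A) ⟶ ModuleCat.of A (A ⧸ I), φ = 0 := by
    intro φ
    have hx : ∀ a ∈ maximalIdeal A, a • φ.hom (1 : A ⧸ maximalIdeal A) = 0 := by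
      intro a ha
      rw [← map_smul]
      have : a • (1 : A ⧸ maximalIdeal A) = 0 := by
        rw [Algebra.smul_def, mul_one, Ideal.Quotient.algebraMap_eq]
        exact Ideal.Quotient.eq_zero_iff_mem.mpr ha
      rw [this, map_zero]
    obtain ⟨y, hy⟩ := Ideal.Quotient.mk_surjective (φ.hom (1 : A ⧸ maximalIdeal A))
    have hx0 : φ.hom (1 : A ⧸ maximalIdeal A) = 0 := by
      by_cases hym : y ∈ maximalIdeal A
      · have h1 := hx y hym
        rw [← hy, Algebra.smul_def, Ideal.Quotient.algebraMap_eq, ← map_mul, ← pow_two,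
          map_pow] at h1
        rw [← hy]
        exact IsReduced.eq_zero _ ⟨2, h1⟩
      · exfalso
        apply hne
        apply le_antisymm hI
        intro a ha
        have h1 := hx a ha
        rw [← hy, Algebra.smul_def, Ideal.Quotient.algebraMap_eq, ← map_mul,
          Ideal.Quotient.eq_zero_iff_mem] at h1
        have hu : IsUnit y := by
          rwa [mem_maximalIdeal, mem_nonunits_iff, not_not] at hym
        obtain ⟨u, rfl⟩ := hu
        have := I.mul_mem_right (↑u⁻¹ : A) h1
        rwa [mul_assoc, Units.mul_inv, mul_one] at this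
    apply ModuleCat.hom_ext
    apply LinearMap.ext
    intro z
    obtain ⟨a, rfl⟩ := Ideal.Quotient.mk_surjective z
    have : (Ideal.Quotient.mk (maximalIdeal A) a) = a • (1 : A ⧸ maximalIdeal A) := by
      rw [Algebra.smul_def, mul_one]; rfl
    change φ.hom _ = 0
    rw [this, map_smul, hx0, smul_zero]
  rw [key φ, key ψ]

/-- In a regular local ring of dimension two, an ideal inside the maximal ideal with reduced quotient is
zero, the maximal ideal, or principal. -/
theorem result (A : Type u) [CommRing A] [IsRegularLocalRing A] (hdim : ringKrullDim A = 2)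
    (I : Ideal A) (hI : I ≤ IsLocalRing.maximalIdeal A) [IsReduced (A ⧸ I)] :
    I = ⊥ ∨ I = IsLocalRing.maximalIdeal A ∨ ∃ f ∈ IsLocalRing.maximalIdeal A, f ≠ 0 ∧ I = Ideal.span {f} := by
  classical
  have hdom : IsDomain A := RegularLocal.isDomain A
  by_cases h0 : I = ⊥
  · exact Or.inl h0
  by_cases hm : I = maximalIdeal A
  · exact Or.inr (Or.inl hm)
  right; right
  have hItop : I ≠ ⊤ := fun h => by
    rw [h] at hI
    exact (maximalIdeal.isMaximal A).ne_top (top_le_iff.mp hI)
  have hnt : Nontrivial (A ⧸ I) := Ideal.Quotient.nontrivial_iff.mpr hItop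
  have hpd3 : HasProjectiveDimensionLT (ModuleCat.of A (A ⧸ I)) 3 :=
    H87GlDim2.hasProjectiveDimensionLT_of_isRegularLocalRing (A := A) 2
      (by exact_mod_cast hdim) _
  obtain ⟨e, he3, h1, h2⟩ := H87AB.exists_projectiveDimension_eq (R := A) (A ⧸ I) 3 hpd3
  have hAB := H87AB.auslander_buchsbaum' (R := A) (A ⧸ I) e h1 h2
  have hdA : LocCoh.depth A A = 2 := by
    have := H87AB.depth_self_of_isRegularLocalRing A
    rw [hdim] at this
    have h2 : ((LocCoh.depth A A : ℕ∞) : WithBot ℕ∞) = ((2 : ℕ∞) : WithBot ℕ∞) := by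
      rw [this]; rfl
    exact WithBot.coe_injective h2
  have hd1 := depth_ne_zero A I hI hm
  have he : e ≤ 1 := by
    rw [hdA] at hAB
    by_contra hcon
    push Not at hcon
    have h2e : (2 : ℕ∞) ≤ (e : ℕ∞) := by exact_mod_cast hcon
    have h3 : (2 : ℕ∞) + 1 ≤ (e : ℕ∞) + LocCoh.depth A (A ⧸ I) :=
      add_le_add h2e (Order.one_le_iff_ne_zero.mpr hd1)
    rw [← hAB] at h3
    exact absurd h3 (by norm_num)
  have hpd2 : HasProjectiveDimensionLT (ModuleCat.of A (A ⧸ I)) 2 :=
    hasProjectiveDimensionLT_of_ge _ (e + 1) 2 (by omega)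
  let S : ShortComplex (ModuleCat.{u} A) :=
    ShortComplex.mk (ModuleCat.ofHom I.subtype) (ModuleCat.ofHom (Submodule.mkQ I)) (by
      apply ModuleCat.hom_ext
      ext m
      change Submodule.Quotient.mk (m : A) = 0
      rw [Submodule.Quotient.mk_eq_zero]
      exact m.2)
  have hS : S.ShortExact := by
    refine ModuleCat.shortComplex_shortExact _ ?_ ?_ ?_
    · intro (a : A)
      change Submodule.Quotient.mk a = (0 : A ⧸ I) ↔ ∃ m : I, (m : A) = a
      rw [Submodule.Quotient.mk_eq_zero]
      constructor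
      · intro ha; exact ⟨⟨a, ha⟩, rfl⟩
      · rintro ⟨m, rfl⟩; exact m.2
    · intro (m : I) (n : I) h
      exact Subtype.ext h
    · exact Submodule.mkQ_surjective _
  have hproj2 : Projective S.X₂ := by
    change Projective (ModuleCat.of A A)
    exact (IsProjective.iff_projective A).mp inferInstance
  have hpd1 : HasProjectiveDimensionLT S.X₁ 1 :=
    (hS.hasProjectiveDimensionLT_X₃_iff 0 hproj2).mp hpd2
  have hprojI : Projective (ModuleCat.of A I) := projective_iff_hasProjectiveDimensionLT_one.mpr hpd1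
  have hPI : Module.Projective A I := (IsProjective.iff_projective I).mpr hprojI
  have hfree : Module.Free A I := Module.free_of_flat_of_isLocalRing
  have hrank : Module.rank A I ≤ 1 := by
    have := Submodule.rank_le I
    rwa [Module.rank_self] at this
  obtain ⟨f, hfI, hle⟩ := (rank_submodule_le_one_iff I).mp hrank
  have hIf : I = Ideal.span {f} := by
    apply le_antisymm hle
    rw [Ideal.span_le]
    simpa using hfI
  refine ⟨f, hI hfI, ?_, hIf⟩
  rintro rfl
  apply h0
  rw [hIf]
  simp

end Groth.Agent.S0226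

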