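import Groth.Statements.S7671
import Groth.Agent.Lib.ToSpecGamma

set_option autoImplicit false
universe u
open CategoryTheory CategoryTheory.Limits AlgebraicGeometry
open Variety

namespace Groth.Agent.S7671

/-- Let A → B be faithfully flat and X a quasi-compact and quasi-separated scheme over A such that
H^0(X, O_X) is a semi-local ring. Then Pic(X) → Pic(X_B) is injective: an invertible module on X
which becomes trivial on X_B is trivial. -/
theorem result (A B : Type u) [CommRing A]
    [CommRing B] [Algebra A B] [Module.FaithfullyFlat A B]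
    (X : Scheme.{u}) (f : X ⟶ Spec (CommRingCat.of A)) [CompactSpace X] [QuasiSeparatedSpace X]
    (hsl : Finite (MaximalSpectrum Γ(X, ⊤))) (L : X.Modules) (hL : PicF.IsInvertible L)
    (htriv : Nonempty ((Scheme.Modules.pullback
        (pullback.fst f (Spec.map (CommRingCat.ofHom (algebraMap A B))))).obj L ≅
      Coh.structureModule (pullback f (Spec.map (CommRingCat.ofHom (algebraMap A B)))))) :
    Nonempty (L ≅ Coh.structureModule X) := by
  obtain ⟨θ⟩ := htriv
  have hff : (CommRingCat.ofHom (algebraMap A B)).hom.FaithfullyFlat :=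
    RingHom.faithfullyFlat_algebraMap_iff.2 inferInstance
  obtain ⟨hflat, hsurj⟩ := (flat_and_surjective_SpecMap_iff (CommRingCat.ofHom (algebraMap A B))).2 hff
  have H := IsPullback.of_hasPullback f (Spec.map (CommRingCat.ofHom (algebraMap A B)))
  have hT := Groth.Agent.Lib.QuasiAffineDescent.isPullback_toSpecΓ H
  have hR := Groth.Agent.Lib.QuasiAffineDescent.isPullback_SpecMap_appTop' H
  have hg1 : Flat (Spec.map (pullback.fst f (Spec.map (CommRingCat.ofHom (algebraMap A B)))).appTop) :=
    MorphismProperty.of_isPullback hR.flip hflat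
  have hg2 : Surjective (Spec.map (pullback.fst f (Spec.map (CommRingCat.ofHom (algebraMap A B)))).appTop) :=
    MorphismProperty.of_isPullback hR.flip hsurj
  have hqc : QuasiCompact X.toSpecΓ := (quasiCompact_iff_compactSpace _).2 inferInstance
  have hqs : QuasiSeparated X.toSpecΓ := (quasiSeparated_iff_quasiSeparatedSpace _).2 inferInstance
  obtain ⟨hN, hiso⟩ := Groth.Agent.Lib.PicDescent.isInvertible_pushforward_and_isIso_counit X.toSpecΓ
    (Spec.map (pullback.fst f (Spec.map (CommRingCat.ofHom (algebraMap A B)))).appTop)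
    (pullback.fst f (Spec.map (CommRingCat.ofHom (algebraMap A B))))
    (pullback f (Spec.map (CommRingCat.ofHom (algebraMap A B)))).toSpecΓ hT
    (Groth.Agent.Lib.ToSpecGamma.bijective_toSpecΓ_app X) hL θ
  obtain ⟨e⟩ := Groth.Agent.Lib.ToSpecGamma.nonempty_iso_structureModule_of_semilocal Γ(X, ⊤) hsl _ hN
  exact ⟨(asIso ((Scheme.Modules.pullbackPushforwardAdjunction X.toSpecΓ).counit.app L)).symm ≪≫
    (Scheme.Modules.pullback X.toSpecΓ).mapIso e ≪≫ Groth.Agent.Lib.H78PullSec.unitIso X.toSpecΓ⟩

end Groth.Agent.S7671
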