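import Groth.Statements.S0232
import Groth.Prelude.Def_PicGrp
import Groth.Agent.S7671
import Groth.Agent.Lib.H4TwistGamma

set_option autoImplicit false
set_option linter.style.haveILetI false
universe u
open CategoryTheory CategoryTheory.Limits AlgebraicGeometry
open Curves

namespace Groth.Agent.S0232

theorem finite_maximalSpectrum (k : Type u) [Field k] (X : Scheme.{u}) [X.Over (Spec (CommRingCat.of k))]
    (hfin : Module.Finite k (Coh.HH X (Coh.structureModule X) 0)) :
    Finite (MaximalSpectrum Γ(X, ⊤)) := by
  letI : Algebra k Γ(X, ⊤) := (Coh.toGlobal (X ↘ Spec (CommRingCat.of k))).toAlgebra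
  let l : Coh.HH X (Coh.structureModule X) 0 →ₗ[k] Γ(X, ⊤) :=
    { toFun := fun x => Groth.Agent.Lib.H4Twist.h0Equiv (Coh.structureModule X) x
      map_add' := fun x y => map_add _ x y
      map_smul' := fun r x =>
        Groth.Agent.Lib.H4Twist.h0Equiv_smul (Coh.structureModule X)
          (Coh.toGlobal (X ↘ Spec (CommRingCat.of k)) r) x }
  have hl : Function.Surjective l := (Groth.Agent.Lib.H4Twist.h0Equiv (Coh.structureModule X)).surjective
  haveI : Module.Finite k Γ(X, ⊤) := Module.Finite.of_surjective l hl
  haveI : IsArtinianRing Γ(X, ⊤) := IsArtinianRing.of_finite k _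
  infer_instance


/-- For a quasi-compact quasi-separated scheme X over a field k with finite-dimensional H^0(X, O_X), an
invertible module on X that becomes trivial after base change to a field extension k' is already
trivial (injectivity of Pic(X) → Pic(X_{k'}), stated on classes without a group structure). The base
change is given as any pullback square. -/
theorem result (k : Type u) [Field k] (X : Scheme.{u}) [X.Over (Spec (CommRingCat.of k))]
    [CompactSpace X] [QuasiSeparatedSpace X]
    (hfin : Module.Finite k (Coh.HH X (Coh.structureModule X) 0))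
    (k' : Type u) [Field k'] [Algebra k k'] (X' : Scheme.{u}) (g : X' ⟶ X) (q : X' ⟶ Spec (CommRingCat.of k'))
    (hpb : IsPullback g q (X ↘ Spec (CommRingCat.of k)) (Spec.map (CommRingCat.ofHom (algebraMap k k'))))
    (L : X.Modules) (hL : PicF.IsInvertible L) (htriv : PicF.IsTrivialCl (PicF.pullCl g (PicF.cl L))) :
    PicF.IsTrivialCl (PicF.cl L) := by
  rw [PicF.IsTrivialCl] at htriv ⊢
  obtain ⟨θ⟩ : Nonempty ((Scheme.Modules.pullback g).obj L ≅ Coh.structureModule X') :=
    (PicGrp.cl_eq_cl_iff _ _).1 htriv
  have hsl := finite_maximalSpectrum k X hfin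
  have he : hpb.isoPullback.inv ≫ g =
      pullback.fst (X ↘ Spec (CommRingCat.of k)) (Spec.map (CommRingCat.ofHom (algebraMap k k'))) :=
    hpb.isoPullback_inv_fst
  obtain ⟨t⟩ := Groth.Agent.S7671.result k k' X (X ↘ Spec (CommRingCat.of k)) hsl L hL
    ⟨(Scheme.Modules.pullbackCongr he.symm).app L ≪≫
      ((Scheme.Modules.pullbackComp hpb.isoPullback.inv g).app L).symm ≪≫
      (Scheme.Modules.pullback hpb.isoPullback.inv).mapIso θ ≪≫
      Groth.Agent.Lib.H78PullSec.unitIso hpb.isoPullback.inv⟩
  exact (PicGrp.cl_eq_cl_iff _ _).2 ⟨t⟩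


end Groth.Agent.S0232
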