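-- Statement S0237: faithfulness of pulling back finite etale covers along a dense-range morphism.
import Groth.Statements.S0237
import Groth.Agent.Lib.FEtFaithful

set_option autoImplicit false
universe u
open Pi1

namespace Groth.Agent.S0237

open AlgebraicGeometry CategoryTheory in
/-- If a morphism of schemes has dense image, pulling back finite etale covers along it is faithful. -/
theorem result {X Y : Scheme.{u}} (f : X ⟶ Y)
    (h : DenseRange f.base) : (FEt.restrict f).Faithful := by
  constructor
  intro A B φ ψ hφψ
  have hleft : ((FEt.restrict f).map φ).left = ((FEt.restrict f).map ψ).left := by rw [hφψ]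
  have key : Limits.pullback.fst A.hom f ≫ φ.left = Limits.pullback.fst A.hom f ≫ ψ.left := by
    have := congr($hleft ≫ Limits.pullback.fst B.hom f)
    simp only [FEt.restrict, MorphismProperty.Over.pullback_map_left] at this
    erw [Limits.pullback.lift_fst, Limits.pullback.lift_fst] at this
    exact this
  have hB1 : IsFinite B.hom := B.prop.1
  have hB2 : Etale B.hom := B.prop.2
  have hA2 : Etale A.hom := A.prop.2
  have hmain : φ.left = ψ.left := by
    refine Groth.Agent.Lib.FEtFaithful.eq_of_comp_eq B.hom φ.left ψ.left
      ((Over.w φ.hom).trans (Over.w ψ.hom).symm)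
      (Limits.pullback.fst A.hom f) ?_ key
    intro Z hZ hsub
    have hdense : Dense (Set.range (Limits.pullback.fst A.hom f)) := by
      rw [Scheme.Pullback.range_fst]
      exact h.preimage A.hom.isOpenMap
    exact Set.eq_univ_of_univ_subset
      (hdense.closure_eq ▸ hZ.1.closure_subset_iff.mpr hsub)
  exact MorphismProperty.Over.Hom.ext hmain

end Groth.Agent.S0237
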