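import Groth.Statements.S0283
import Groth.Agent.Lib.H80TopInv

set_option autoImplicit false
universe u
open Pi1

namespace Groth.Agent.S0283

open AlgebraicGeometry CategoryTheory CategoryTheory.Limits in
/-- Let f : X → Y be a morphism of schemes which is integral, universally injective and surjective (that
is, a universal homeomorphism). Then base change along f, from finite étale covers of Y to finite
étale covers of X, is a full and faithful functor. -/
theorem result {X Y : Scheme.{u}} (f : X ⟶ Y) [IsIntegralHom f] [UniversallyInjective f] [Surjective f] :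
    (FEt.restrict f).Full ∧ (FEt.restrict f).Faithful := by
  have hg : FlatMor.IsUnivHomeo f :=
    (Groth.Agent.Lib.UnivHomeo.iff_isIntegralHom_universallyInjective_surjective f).mpr
      ⟨inferInstance, inferInstance, inferInstance⟩
  have key : ∀ (A B : FEt.Cat Y) (φ : A ⟶ B),
      ((FEt.restrict f).map φ).left = ((Over.pullback f).map
        (Over.homMk φ.left (MorphismProperty.Over.w φ) : Over.mk A.hom ⟶ Over.mk B.hom)).left := by
    intro A B φ
    rfl
  constructor
  · constructor
    intro A B ψ
    have : Etale B.hom := B.prop.2
    have : Etale (Over.mk B.hom).hom := B.prop.2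
    let ψ' : (Over.pullback f).obj (Over.mk A.hom) ⟶ (Over.pullback f).obj (Over.mk B.hom) :=
      Over.homMk ψ.left (MorphismProperty.Over.w ψ)
    obtain ⟨φ, hφ⟩ := (Groth.Agent.Lib.H80TopInv.bijective_pullback_map f hg
      (Over.mk B.hom) (Over.mk A.hom)).2 ψ'
    refine ⟨MorphismProperty.Over.homMk φ.left (Over.w φ) trivial, ?_⟩
    apply MorphismProperty.Over.Hom.ext
    rw [key]
    have := congrArg CommaMorphism.left hφ
    exact this
  · constructor
    intro A B φ ψ h
    have : Etale (Over.mk B.hom).hom := B.prop.2
    apply MorphismProperty.Over.Hom.ext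
    have h1 := congrArg (fun x => x.left) h
    change ((FEt.restrict f).map φ).left = ((FEt.restrict f).map ψ).left at h1
    rw [key, key] at h1
    have h2 := (Groth.Agent.Lib.H80TopInv.bijective_pullback_map f hg
      (Over.mk B.hom) (Over.mk A.hom)).1 (Over.OverMorphism.ext h1)
    exact congrArg CommaMorphism.left h2

end Groth.Agent.S0283
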