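import Groth.Statements.S0238
-- import your own Groth.Agent.* helpers here
import Groth.Agent.Lib.ThickeningEtH52
import Groth.Agent.S0283
import Groth.Agent.S1305

set_option autoImplicit false
universe u
open Pi1

namespace Groth.Agent.S0238

open AlgebraicGeometry CategoryTheory CategoryTheory.Limits in
/-- For a thickening, i.e. a closed immersion which is surjective on points, pulling back finite etale
covers is an equivalence of categories. -/
theorem result {X X' : Scheme.{u}} (i : X ⟶ X') [IsClosedImmersion i] [Surjective i] :
    (FEt.restrict i).IsEquivalence := by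
  have hff := Groth.Agent.S0283.result i
  have : (FEt.restrict i).Full := hff.1
  have : (FEt.restrict i).Faithful := hff.2
  have : (FEt.restrict i).EssSurj := by
    constructor
    intro Q
    have hQf : IsFinite Q.hom := Q.prop.1
    haveI : Etale Q.hom := Q.prop.2
    obtain ⟨U, t, ht, e, he⟩ :=
      Groth.Agent.Lib.ThickeningEtH52.exists_etale_pullback_iso i Q.hom
    -- `t` is finite
    have hfin₀ : IsFinite (pullback.snd t i) := by
      rw [← he]
      infer_instance
    have hint₀ : IsIntegralHom (pullback.snd t i) := inferInstance
    have hthick : MoreMor.IsThickening (pullback.fst t i) := ⟨inferInstance, inferInstance⟩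
    have hint : IsIntegralHom t :=
      (Groth.Agent.S1305.result (pullback.fst t i) i (pullback.snd t i) t hthick
        ⟨inferInstance, inferInstance⟩ pullback.condition).mp hint₀
    have hfin : IsFinite t :=
      (IsFinite.iff_isIntegralHom_and_locallyOfFiniteType t).mpr ⟨hint, inferInstance⟩
    let P : FEt.Cat X' := MorphismProperty.Over.mk ⊤ t ⟨hfin, ht⟩
    refine ⟨P, ⟨MorphismProperty.Over.isoMk e ?_⟩⟩
    exact he
  exact { }

end Groth.Agent.S0238
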