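-- Statement S0243: faithfulness of restriction to a closed subscheme meeting all components.
import Groth.Statements.S0243
import Groth.Agent.Lib.FEtFaithful

set_option autoImplicit false
universe u
open Pi1

namespace Groth.Agent.S0243

open AlgebraicGeometry CategoryTheory CategoryTheory.Limits in
/-- If a closed subscheme meets every connected component of the ambient scheme, restricting finite
etale covers to it is a faithful functor. -/
theorem result {X Y : Scheme.{u}} (i : Y ⟶ X) [IsClosedImmersion i]
    (h : ∀ x : X, (connectedComponent x ∩ Set.range i.base).Nonempty) :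
    (FEt.restrict i).Faithful := by
  constructor
  intro A B φ ψ hφψ
  have hleft : ((FEt.restrict i).map φ).left = ((FEt.restrict i).map ψ).left := by rw [hφψ]
  have key : Limits.pullback.fst A.hom i ≫ φ.left = Limits.pullback.fst A.hom i ≫ ψ.left := by
    have := congr($hleft ≫ Limits.pullback.fst B.hom i)
    simp only [FEt.restrict, MorphismProperty.Over.pullback_map_left] at this
    erw [Limits.pullback.lift_fst, Limits.pullback.lift_fst] at this
    exact this
  have hB1 : IsFinite B.hom := B.prop.1
  have hB2 : Etale B.hom := B.prop.2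
  have hA1 : IsFinite A.hom := A.prop.1
  have hA2 : Etale A.hom := A.prop.2
  have hmain : φ.left = ψ.left := by
    refine Groth.Agent.Lib.FEtFaithful.eq_of_comp_eq B.hom φ.left ψ.left
      ((Over.w φ.hom).trans (Over.w ψ.hom).symm)
      (Limits.pullback.fst A.hom i) ?_ key
    intro Z hZ hsub
    rw [Scheme.Pullback.range_fst] at hsub
    by_contra hne
    obtain ⟨w, hw⟩ : ∃ w, w ∈ Zᶜ := by
      by_contra hcon
      exact hne (Set.eq_univ_of_forall fun w => by
        by_contra hwZ
        exact hcon ⟨w, hwZ⟩)
    have himg : IsClopen (A.hom '' Zᶜ) :=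
      ⟨A.hom.isClosedMap _ hZ.compl.1, A.hom.isOpenMap _ hZ.compl.2⟩
    obtain ⟨x, hx1, hx2⟩ := h (A.hom w)
    obtain ⟨w', hw', hw'x⟩ := himg.connectedComponent_subset (Set.mem_image_of_mem _ hw) hx1
    exact hw' (hsub (by simpa [hw'x] using hx2))
  exact MorphismProperty.Over.Hom.ext hmain

end Groth.Agent.S0243
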