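-- Statement S0245.
import Groth.Statements.S0245
import Groth.Agent.Lib.H30FEtNormal
import Mathlib

set_option autoImplicit false
universe u
open Pi1

namespace Groth.Agent.S0245

open AlgebraicGeometry CategoryTheory CategoryTheory.Limits

/-- The range of `Spec O_{X,η} ⟶ X` at the generic point is `{η}`. -/
theorem range_fromSpecStalk_genericPoint (X : Scheme.{u}) [IsIntegral X] :
    Set.range (X.fromSpecStalk (genericPoint X)) = {genericPoint X} := by
  rw [Scheme.range_fromSpecStalk]
  ext y
  simp only [Set.mem_ofPred_eq, Set.mem_singleton_iff]
  constructor
  · intro h
    exact ((genericPoint_specializes y).antisymm h).eq.symm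
  · rintro rfl
    exact specializes_rfl

open AlgebraicGeometry CategoryTheory CategoryTheory.Limits in

open AlgebraicGeometry CategoryTheory CategoryTheory.Limits in
/-- For a normal integral scheme X, restricting finite étale covers of X along the canonical morphism
from the spectrum of the local ring at the generic point (the spectrum of the function field) is a
full and faithful functor. -/
theorem result {X : Scheme.{u}} [IsIntegral X] (hX : Pi1.IsNormalScheme X) :
    (FEt.restrict (X.fromSpecStalk (genericPoint X))).Full ∧
    (FEt.restrict (X.fromSpecStalk (genericPoint X))).Faithful := by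
  constructor
  · exact Groth.Agent.Lib.H30FEtNormal.restrict_full hX _ (range_fromSpecStalk_genericPoint X)
  · apply Groth.Agent.Lib.H30FEtNormal.restrict_faithful
    intro y
    refine ⟨genericPoint X, ?_, genericPoint_specializes y⟩
    rw [range_fromSpecStalk_genericPoint]
    rfl

end Groth.Agent.S0245
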