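-- Statement S0244.
import Groth.Statements.S0244
import Groth.Agent.S0245
import Groth.Agent.Lib.H30FEtNormal
import Mathlib

set_option autoImplicit false
universe u
open Pi1

namespace Groth.Agent.S0244

open AlgebraicGeometry CategoryTheory CategoryTheory.Limits

open AlgebraicGeometry CategoryTheory CategoryTheory.Limits in

open AlgebraicGeometry CategoryTheory CategoryTheory.Limits in
/-- Let X be a normal integral scheme and U ⊆ X a nonempty open subscheme. Then the restriction functor
from finite étale covers of X to finite étale covers of U is full and faithful. -/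
theorem result {X : Scheme.{u}} [IsIntegral X] (hX : Pi1.IsNormalScheme X) (U : X.Opens)
    (hU : (U : Set X).Nonempty) : (FEt.restrict U.ι).Full ∧ (FEt.restrict U.ι).Faithful := by
  obtain ⟨u, hu⟩ := hU
  have hη : genericPoint X ∈ U := (genericPoint_specializes u).mem_open U.isOpen hu
  have hfaith : (FEt.restrict U.ι).Faithful := by
    apply Groth.Agent.Lib.H30FEtNormal.restrict_faithful
    intro y
    exact ⟨genericPoint X, ⟨⟨genericPoint X, hη⟩, rfl⟩, genericPoint_specializes y⟩
  refine ⟨?_, hfaith⟩
  let jU := U.fromSpecStalkOfMem (genericPoint X) hη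
  have hjU : jU ≫ U.ι = X.fromSpecStalk (genericPoint X) := U.fromSpecStalkOfMem_ι _ hη
  -- faithfulness of restriction along jU
  have hfaithU : (FEt.restrict jU).Faithful := by
    apply Groth.Agent.Lib.H30FEtNormal.restrict_faithful
    intro y
    obtain ⟨t⟩ : Nonempty (Spec (X.presheaf.stalk (genericPoint X))) := by
      have : Nontrivial (X.presheaf.stalk (genericPoint X)) := inferInstance
      infer_instance
    refine ⟨jU t, ⟨t, rfl⟩, ?_⟩
    have h1 : U.ι (jU t) = genericPoint X := by
      rw [← Scheme.Hom.comp_apply, hjU]
      have : X.fromSpecStalk (genericPoint X) t ∈ Set.range (X.fromSpecStalk (genericPoint X)) :=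
        ⟨t, rfl⟩
      rw [Groth.Agent.S0245.range_fromSpecStalk_genericPoint] at this
      exact this
    rw [← U.ι.isEmbedding.specializes_iff, h1]
    exact genericPoint_specializes _
  have hfull : (FEt.restrict (X.fromSpecStalk (genericPoint X))).Full :=
    (Groth.Agent.S0245.result hX).1
  have e : FEt.restrict U.ι ⋙ FEt.restrict jU ≅ FEt.restrict (X.fromSpecStalk (genericPoint X)) :=
    (MorphismProperty.Over.pullbackComp jU U.ι (X.fromSpecStalk (genericPoint X)) hjU.symm).symm
  exact Functor.Full.of_comp_faithful_iso e

end Groth.Agent.S0244
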