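-- Statement S0246.
import Groth.Statements.S0246
import Groth.Agent.Lib.H30NormalSmoothSch
import Mathlib

set_option autoImplicit false
universe u
open Pi1

namespace Groth.Agent.S0246

open AlgebraicGeometry CategoryTheory CategoryTheory.Limits TopologicalSpace

/-- A connected space covered by the closures of finitely many points, such that two of these
points specializing to a common point coincide, is irreducible. -/
theorem irreducibleSpace_of_finite_generic {Y : Type*} [TopologicalSpace Y] [ConnectedSpace Y]
    (F : Set Y) (hF : F.Finite)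
    (h1 : ∀ y, ∃ y' ∈ F, y' ⤳ y)
    (h3 : ∀ y y1 y2, y1 ∈ F → y2 ∈ F → y1 ⤳ y → y2 ⤳ y → y1 = y2) : IrreducibleSpace Y := by
  obtain ⟨y0⟩ : Nonempty Y := inferInstance
  obtain ⟨y', hy'F, -⟩ := h1 y0
  have hcompl : (closure {y'})ᶜ = ⋃ y'' ∈ F \ {y'}, closure {y''} := by
    ext y
    simp only [Set.mem_compl_iff, Set.mem_iUnion, Set.mem_sdiff, Set.mem_singleton_iff,
      exists_prop, ← specializes_iff_mem_closure]
    constructor
    · intro hy
      obtain ⟨y'', hy''F, hy''⟩ := h1 y
      refine ⟨y'', ⟨hy''F, ?_⟩, hy''⟩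
      rintro rfl
      exact hy hy''
    · rintro ⟨y'', ⟨hy''F, hne⟩, hy''⟩ hy
      exact hne (h3 y y'' y' hy''F hy'F hy'' hy)
  have hclosed : IsClosed ((closure {y'})ᶜ) := by
    rw [hcompl]
    exact (hF.subset Set.sdiff_subset).isClosed_biUnion fun _ _ => isClosed_closure
  have hclopen : IsClopen (closure {y'}) := ⟨isClosed_closure, by simpa using hclosed.isOpen_compl⟩
  have huniv : closure {y'} = Set.univ := by
    rcases isClopen_iff.mp hclopen with h | h
    · exact absurd h (Set.Nonempty.ne_empty ⟨y', subset_closure rfl⟩)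
    · exact h
  have hirr : IsIrreducible (Set.univ : Set Y) := by
    rw [← huniv]
    exact isIrreducible_singleton.closure
  exact (irreducibleSpace_def Y).mpr hirr

open AlgebraicGeometry CategoryTheory CategoryTheory.Limits in
/-- If Y is finite etale over a normal integral scheme X and Y is connected, then Y is an integral
scheme all of whose local rings are integrally closed domains. -/
theorem result {X : Scheme.{u}} [IsIntegral X] (hX : Pi1.IsNormalScheme X) (Y : FEt.Cat X)
    [ConnectedSpace Y.left] : IsIntegral Y.left ∧ Pi1.IsNormalScheme Y.left := by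
  let f : Y.left ⟶ X := Y.hom
  have hfin : IsFinite f := Y.prop.1
  have het : Etale f := Y.prop.2
  have hnorm : Pi1.IsNormalScheme Y.left := fun y =>
    (Groth.Agent.Lib.H30NormalSmoothSch.stalk_iff_of_smooth f y).1.mpr (hX _)
  refine ⟨?_, hnorm⟩
  have hred : IsReduced Y.left := by
    have : ∀ y : Y.left, _root_.IsReduced (Y.left.presheaf.stalk y) := fun y => by
      have := (hnorm y).1
      infer_instance
    exact isReduced_of_isReduced_stalk _
  let η := genericPoint X
  let F : Set Y.left := f ⁻¹' {η}
  have hF : F.Finite := f.finite_preimage_singleton η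
  have hdisc : _root_.IsDiscrete F := f.isDiscrete_preimage_singleton η
  have hgen := Flat.generalizingMap (f := f)
  have h1 : ∀ y, ∃ y' ∈ F, y' ⤳ y := by
    intro y
    obtain ⟨y', hy', hfy'⟩ := hgen (genericPoint_specializes (f y))
    exact ⟨y', hfy', hy'⟩
  have h2 : ∀ z y', y' ∈ F → z ⤳ y' → z = y' := by
    intro z y' hy' hz
    have hfz : f z ⤳ η := by
      have := hz.map f.continuous
      rwa [show f y' = η from hy'] at this
    have hzF : z ∈ F := ((genericPoint_specializes (f z)).antisymm hfz).eq.symm
    have := hdisc.to_subtype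
    have hs : (⟨z, hzF⟩ : F) ⤳ ⟨y', hy'⟩ := (subtype_specializes_iff _ _).mpr hz
    exact congrArg Subtype.val hs.eq
  have h3 : ∀ y y1 y2, y1 ∈ F → y2 ∈ F → y1 ⤳ y → y2 ⤳ y → y1 = y2 := by
    intro y y1 y2 hy1 hy2 h1y h2y
    have := (hnorm y).1
    let g := Y.left.fromSpecStalk y
    have key : ∀ y', y' ∈ F → y' ⤳ y →
        g (genericPoint (Spec (Y.left.presheaf.stalk y))) = y' := by
      intro y' hy' hy'y
      obtain ⟨p, rfl⟩ : y' ∈ Set.range g := by
        rw [Scheme.range_fromSpecStalk]
        exact hy'y
      exact h2 _ _ hy' ((genericPoint_specializes p).map g.continuous)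
    rw [← key y1 hy1 h1y, ← key y2 hy2 h2y]
  have := irreducibleSpace_of_finite_generic F hF h1 h3
  exact isIntegral_of_irreducibleSpace_of_isReduced _

end Groth.Agent.S0246
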