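-- Statement S0249: a height one prime containing a given element of the maximal ideal.
import Groth.Statements.S0249
import Mathlib.RingTheory.Ideal.KrullsHeightTheorem

set_option autoImplicit false
universe u
open Pi1

namespace Groth.Agent.S0249

open AlgebraicGeometry CategoryTheory CategoryTheory.Limits in
/-- Let A be a Noetherian local ring of dimension at least 1 and f an element of its maximal ideal. Then
some prime ideal of height exactly 1 contains f. -/
theorem result (A : Type u) [CommRing A] [IsNoetherianRing A] [IsLocalRing A]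
    (h : (1 : WithBot ℕ∞) ≤ ringKrullDim A) (f : A) (hf : f ∈ IsLocalRing.maximalIdeal A) :
    ∃ p : Ideal A, p.IsPrime ∧ f ∈ p ∧ p.height = 1 := by
  let S : Set (Ideal A) := {p | p.IsPrime ∧ f ∈ p ∧ 1 ≤ p.height}
  have hm : IsLocalRing.maximalIdeal A ∈ S := by
    refine ⟨inferInstance, hf, ?_⟩
    have := IsLocalRing.maximalIdeal_height_eq_ringKrullDim (R := A)
    rw [← this] at h
    exact_mod_cast h
  obtain ⟨p, hpS, hmin⟩ :=
    WellFounded.has_min (InvImage.wf (Ideal.height (R := A)) wellFounded_lt) S ⟨_, hm⟩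
  obtain ⟨hpprime, hfp, hp1⟩ := hpS
  refine ⟨p, hpprime, hfp, le_antisymm ?_ hp1⟩
  have : p.height ≤ ((1 : ℕ) : ℕ∞) := by
    rw [Ideal.height_le_iff]
    intro q hq hqp
    by_contra hlt
    have h1 : 1 ≤ q.height := by
      have := not_lt.mp hlt
      exact_mod_cast this
    have hfq : f ∉ q := fun hfq =>
      hmin q ⟨hq, hfq, h1⟩ (Ideal.height_strict_mono_of_isPrime_of_isPrime hqp)
    obtain ⟨q0, hq0min, hq0q⟩ := Ideal.exists_minimalPrimes_le (bot_le : (⊥ : Ideal A) ≤ q)
    have hq0prime : q0.IsPrime := hq0min.1.1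
    have hq0ht : q0.height = 0 := Ideal.height_eq_zero_iff.mpr hq0min
    have hq0ne : q0 ≠ q := by
      rintro rfl
      rw [hq0ht] at h1
      exact absurd h1 (by simp)
    have hq0lt : q0 < q := lt_of_le_of_ne hq0q hq0ne
    have hle : q0 ⊔ Ideal.span {f} ≤ p :=
      sup_le (hq0q.trans hqp.le) ((Ideal.span_singleton_le_iff_mem _).mpr hfp)
    obtain ⟨P, hPmin, hPp⟩ := Ideal.exists_minimalPrimes_le hle
    have hPprime : P.IsPrime := hPmin.1.1
    have hfP : f ∈ P := hPmin.1.2 (Ideal.mem_sup_right (Ideal.mem_span_singleton_self f))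
    have hq0P : q0 ≤ P := le_sup_left.trans hPmin.1.2
    have hq0Pne : q0 ≠ P := by
      rintro rfl
      exact hfq (hq0q hfP)
    have hq0Plt : q0 < P := lt_of_le_of_ne hq0P hq0Pne
    have hP1 : 1 ≤ P.height := by
      have := Ideal.height_add_one_le_of_lt_of_isPrime hq0Plt
      exact le_trans (by simp) this
    have hPeq : P = p := by
      rcases lt_or_eq_of_le hPp with hlt' | heq
      · exact absurd (Ideal.height_strict_mono_of_isPrime_of_isPrime hlt')
          (hmin P ⟨hPprime, hfP, hP1⟩)
      · exact heq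
    subst hPeq
    have hmap := Ideal.map_height_le_one_of_mem_minimalPrimes hPmin
    have hsurj : Function.Surjective (Ideal.Quotient.mk q0) := Ideal.Quotient.mk_surjective
    have hker : RingHom.ker (Ideal.Quotient.mk q0) = q0 := Ideal.mk_ker
    have hqmapprime : (q.map (Ideal.Quotient.mk q0)).IsPrime :=
      Ideal.map_isPrime_of_surjective hsurj (by rw [hker]; exact hq0q)
    have hPmapprime : (P.map (Ideal.Quotient.mk q0)).IsPrime :=
      Ideal.map_isPrime_of_surjective hsurj (by rw [hker]; exact hq0P)
    have hcomapq : (q.map (Ideal.Quotient.mk q0)).comap (Ideal.Quotient.mk q0) = q := by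
      rw [Ideal.comap_map_of_surjective _ hsurj, ← RingHom.ker_eq_comap_bot, hker]
      exact sup_eq_left.mpr hq0q
    have hcomapP : (P.map (Ideal.Quotient.mk q0)).comap (Ideal.Quotient.mk q0) = P := by
      rw [Ideal.comap_map_of_surjective _ hsurj, ← RingHom.ker_eq_comap_bot, hker]
      exact sup_eq_left.mpr hq0P
    have hmaplt : q.map (Ideal.Quotient.mk q0) < P.map (Ideal.Quotient.mk q0) := by
      refine lt_of_le_of_ne (Ideal.map_mono hqp.le) ?_
      intro heq
      have := congrArg (Ideal.comap (Ideal.Quotient.mk q0)) heq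
      rw [hcomapq, hcomapP] at this
      exact hqp.ne this
    have hqmapht : (q.map (Ideal.Quotient.mk q0)).height < ((1 : ℕ) : ℕ∞) :=
      (Ideal.height_le_iff (n := 1)).mp (by exact_mod_cast hmap) _ hqmapprime hmaplt
    have hqmap0 : (q.map (Ideal.Quotient.mk q0)).height = 0 := by
      have : (q.map (Ideal.Quotient.mk q0)).height < 1 := by exact_mod_cast hqmapht
      exact Order.lt_one_iff.mp this
    have hbot : q.map (Ideal.Quotient.mk q0) = ⊥ := Ideal.height_eq_zero_iff_eq_bot.mp hqmap0
    have : q ≤ q0 := by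
      rw [Ideal.map_eq_bot_iff_le_ker, hker] at hbot
      exact hbot
    exact absurd hq0lt (not_lt_of_ge this)
  exact_mod_cast this

end Groth.Agent.S0249
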