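import Groth.Statements.S0253
import Mathlib.RingTheory.Polynomial.GaussLemma
import Mathlib.RingTheory.Localization.LocalizationLocalization
import Mathlib.Algebra.Polynomial.Lifts
import Mathlib.Algebra.Polynomial.Eval.Irreducible
import Mathlib.FieldTheory.Separable

set_option autoImplicit false
universe u

open Pi1

open AlgebraicGeometry CategoryTheory CategoryTheory.Limits

namespace Groth.Agent.S0253

open Polynomial

/-- an irreducible polynomial over a separably closed field which is not of degree one has
vanishing derivative -/
theorem derivative_eq_zero_of_irreducible {K : Type*} [Field K] [IsSepClosed K] {q : K[X]}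
    (hq : Irreducible q) (hdeg : q.degree ≠ 1) : derivative q = 0 := by
  by_contra h
  exact hdeg (IsSepClosed.degree_eq_one_of_irreducible K
    hq ((separable_iff_derivative_ne_zero hq).mpr h))

/-- local version -/
theorem isAlgClosed_residueField_of_local (B : Type*) [CommRing B] [IsDomain B] [IsLocalRing B]
    [IsIntegrallyClosed B] (K : Type*) [Field K] [Algebra B K] [IsFractionRing B K]
    [IsSepClosed K] (hm : IsLocalRing.maximalIdeal B ≠ ⊥) :
    IsAlgClosed (IsLocalRing.ResidueField B) := by
  apply IsAlgClosed.of_exists_root
  intro P hPm hPirr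
  obtain ⟨a, ham, ha0⟩ := Submodule.exists_mem_ne_zero_of_ne_bot hm
  have hlift : P ∈ lifts (IsLocalRing.residue B) := by
    rw [lifts_iff_coeff_lifts]
    intro n
    exact IsLocalRing.residue_surjective _
  obtain ⟨Q, hQP, hQdeg, hQm⟩ := lifts_and_natDegree_eq_and_monic hlift hPm
  -- it suffices to show that `P` has degree one
  suffices hdeg : P.natDegree = 1 by
    have : P.degree = 1 := by
      rw [degree_eq_natDegree hPm.ne_zero, hdeg]; rfl
    exact exists_root_of_degree_eq_one this
  by_contra hne
  have hP0 : P.natDegree ≠ 0 := by
    intro h0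
    have : P = 1 := hPm.natDegree_eq_zero.mp h0
    exact hPirr.not_isUnit (this ▸ isUnit_one)
  have h2 : 2 ≤ Q.natDegree := by omega
  -- the second lift
  set Q' : B[X] := Q + C a * X with hQ'
  have hdegaX : (C a * X : B[X]).degree < Q.degree := by
    calc (C a * X : B[X]).degree ≤ 1 := by
          exact (degree_C_mul_X_le a)
      _ < Q.degree := by
          rw [degree_eq_natDegree hQm.ne_zero]
          exact_mod_cast h2
  have hQ'm : Q'.Monic := hQm.add_of_left hdegaX
  have hQ'P : Q'.map (IsLocalRing.residue B) = P := by
    rw [hQ', Polynomial.map_add, hQP, Polynomial.map_mul, map_C, map_X,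
      (IsLocalRing.residue_eq_zero_iff a).mpr ham, C_0, zero_mul, add_zero]
  have hQ'deg : Q'.natDegree = Q.natDegree := by
    rw [hQ', natDegree_add_eq_left_of_degree_lt hdegaX]
  -- irreducibility
  have hQirr : Irreducible Q := hQm.irreducible_of_irreducible_map _ _ (hQP ▸ hPirr)
  have hQ'irr : Irreducible Q' := hQ'm.irreducible_of_irreducible_map _ _ (hQ'P ▸ hPirr)
  have hQK : Irreducible (Q.map (algebraMap B K)) :=
    (hQm.irreducible_iff_irreducible_map_fraction_map).mp hQirr
  have hQ'K : Irreducible (Q'.map (algebraMap B K)) :=
    (hQ'm.irreducible_iff_irreducible_map_fraction_map).mp hQ'irr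
  have hinj : Function.Injective (algebraMap B K) := IsFractionRing.injective B K
  have hd1 : (Q.map (algebraMap B K)).degree ≠ 1 := by
    rw [degree_map_eq_of_injective hinj, degree_eq_natDegree hQm.ne_zero]
    intro h
    have : Q.natDegree = 1 := by exact_mod_cast h
    omega
  have hd2 : (Q'.map (algebraMap B K)).degree ≠ 1 := by
    rw [degree_map_eq_of_injective hinj, degree_eq_natDegree hQ'm.ne_zero]
    intro h
    have : Q'.natDegree = 1 := by exact_mod_cast h
    omega
  have e1 := derivative_eq_zero_of_irreducible hQK hd1
  have e2 := derivative_eq_zero_of_irreducible hQ'K hd2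
  rw [hQ', Polynomial.map_add, derivative_add, e1, zero_add, Polynomial.map_mul, map_C, map_X,
    derivative_C_mul, derivative_X, mul_one, C_eq_zero] at e2
  exact ha0 (hinj (e2.trans (map_zero _).symm))

/-- Let A be an integrally closed domain whose fraction field is separably closed. Then the residue
field at any nonzero prime ideal of A is algebraically closed. -/
theorem result (A : Type u) [CommRing A] [IsDomain A] [IsIntegrallyClosed A] [IsSepClosed (FractionRing A)]
    (p : Ideal A) [p.IsPrime] (hp : p ≠ ⊥) : IsAlgClosed p.ResidueField := by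
  have : IsIntegrallyClosed (Localization.AtPrime p) :=
    isIntegrallyClosed_of_isLocalization (Localization.AtPrime p) p.primeCompl
      p.primeCompl_le_nonZeroDivisors
  apply isAlgClosed_residueField_of_local (Localization.AtPrime p) (FractionRing A)
  obtain ⟨a, hap, ha0⟩ := Submodule.exists_mem_ne_zero_of_ne_bot hp
  intro hbot
  have h1 : algebraMap A (Localization.AtPrime p) a ∈
      IsLocalRing.maximalIdeal (Localization.AtPrime p) := by
    rw [← Localization.AtPrime.map_eq_maximalIdeal]
    exact Ideal.mem_map_of_mem _ hap
  rw [hbot, Ideal.mem_bot] at h1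
  have hinj : Function.Injective (algebraMap A (Localization.AtPrime p)) :=
    IsLocalization.injective _ p.primeCompl_le_nonZeroDivisors
  exact ha0 (hinj (h1.trans (map_zero _).symm))

end Groth.Agent.S0253
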