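import Groth.Statements.S0254
import Groth.Agent.S0253
import Mathlib.Algebra.Polynomial.Degree.SmallDegree

set_option autoImplicit false
universe u

open Pi1

open AlgebraicGeometry CategoryTheory CategoryTheory.Limits

namespace Groth.Agent.S0254

open Polynomial

section

variable (A : Type*) [CommRing A] [IsDomain A] [IsLocalRing A] [IsIntegrallyClosed A]
  (K : Type*) [Field K] [Algebra A K] [IsFractionRing A K] [IsSepClosed K]

include K in
theorem hensel_aux (n : ℕ) : ∀ f : A[X], f.natDegree = n → f.Monic → ∀ a₀ : A,
    f.eval a₀ ∈ IsLocalRing.maximalIdeal A → IsUnit (f.derivative.eval a₀) →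
    ∃ a : A, f.IsRoot a ∧ a - a₀ ∈ IsLocalRing.maximalIdeal A := by
  induction n using Nat.strong_induction_on with
  | _ n ih =>
  intro f hn hf a₀ h1 h2
  have hinj : Function.Injective (algebraMap A K) := IsFractionRing.injective A K
  by_cases hirr : Irreducible f
  · have hfK : Irreducible (f.map (algebraMap A K)) :=
      (hf.irreducible_iff_irreducible_map_fraction_map).mp hirr
    by_cases hdeg : (f.map (algebraMap A K)).degree = 1
    · rw [degree_map_eq_of_injective hinj, degree_eq_natDegree hf.ne_zero] at hdeg
      have hd1 : f.natDegree = 1 := by exact_mod_cast hdeg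
      have hfeq := hf.eq_X_add_C hd1
      refine ⟨- f.coeff 0, ?_, ?_⟩
      · rw [IsRoot, hfeq]
        simp
      · rw [hfeq] at h1
        simp only [eval_add, eval_X, eval_C] at h1
        have : - f.coeff 0 - a₀ = - (a₀ + f.coeff 0) := by ring
        rw [this]
        exact neg_mem h1
    · exfalso
      have e1 := Groth.Agent.S0253.derivative_eq_zero_of_irreducible hfK hdeg
      rw [derivative_map] at e1
      have : derivative f = 0 := by
        apply Polynomial.map_injective _ hinj
        rw [e1, Polynomial.map_zero]
      rw [this, eval_zero] at h2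
      exact not_isUnit_zero h2
  · have hf1 : f ≠ 1 := by
      rintro rfl
      simp only [eval_one] at h1
      exact (IsLocalRing.maximalIdeal.isMaximal A).ne_top
        ((Ideal.eq_top_iff_one _).mpr h1)
    rw [hf.irreducible_iff_natDegree] at hirr
    push Not at hirr
    obtain ⟨g, h, hg, hh, hgh, hg0, hh0⟩ := hirr hf1
    have hdegsum : g.natDegree + h.natDegree = n := by
      rw [← hn, ← hgh, hg.natDegree_mul hh]
    have hprime : (IsLocalRing.maximalIdeal A).IsPrime := inferInstance
    have hev : g.eval a₀ * h.eval a₀ ∈ IsLocalRing.maximalIdeal A := by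
      rw [← eval_mul, hgh]; exact h1
    have hder : f.derivative.eval a₀ =
        g.derivative.eval a₀ * h.eval a₀ + g.eval a₀ * h.derivative.eval a₀ := by
      rw [← hgh, derivative_mul]
      simp only [eval_add, eval_mul]
    rcases hprime.mem_or_mem hev with hgm | hhm
    · -- `g` has the root
      have hu : IsUnit (g.derivative.eval a₀ * h.eval a₀) := by
        by_contra hnu
        have hmem : g.derivative.eval a₀ * h.eval a₀ ∈ IsLocalRing.maximalIdeal A :=
          (IsLocalRing.mem_maximalIdeal _).mpr hnu
        have : f.derivative.eval a₀ ∈ IsLocalRing.maximalIdeal A := by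
          rw [hder]
          exact add_mem hmem (Ideal.mul_mem_right _ _ hgm)
        exact (IsLocalRing.mem_maximalIdeal _).mp this h2
      have hu' : IsUnit (g.derivative.eval a₀) := isUnit_of_mul_isUnit_left hu
      obtain ⟨a, ha, ha'⟩ := ih g.natDegree (by omega) g rfl hg a₀ hgm hu'
      refine ⟨a, ?_, ha'⟩
      rw [IsRoot, ← hgh, eval_mul, ha, zero_mul]
    · have hu : IsUnit (g.eval a₀ * h.derivative.eval a₀) := by
        by_contra hnu
        have hmem : g.eval a₀ * h.derivative.eval a₀ ∈ IsLocalRing.maximalIdeal A :=
          (IsLocalRing.mem_maximalIdeal _).mpr hnu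
        have : f.derivative.eval a₀ ∈ IsLocalRing.maximalIdeal A := by
          rw [hder]
          exact add_mem (Ideal.mul_mem_left _ _ hhm) hmem
        exact (IsLocalRing.mem_maximalIdeal _).mp this h2
      have hu' : IsUnit (h.derivative.eval a₀) := isUnit_of_mul_isUnit_right hu
      obtain ⟨a, ha, ha'⟩ := ih h.natDegree (by omega) h rfl hh a₀ hhm hu'
      refine ⟨a, ?_, ha'⟩
      rw [IsRoot, ← hgh, eval_mul, ha, mul_zero]

include K in
theorem isSepClosed_residueField : IsSepClosed (IsLocalRing.ResidueField A) := by
  apply IsSepClosed.of_exists_root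
  intro P hPm hPirr hPsep
  have hinj : Function.Injective (algebraMap A K) := IsFractionRing.injective A K
  have hlift : P ∈ lifts (IsLocalRing.residue A) := by
    rw [lifts_iff_coeff_lifts]
    intro n
    exact IsLocalRing.residue_surjective _
  obtain ⟨Q, hQP, hQdeg, hQm⟩ := lifts_and_natDegree_eq_and_monic hlift hPm
  have hQirr : Irreducible Q := hQm.irreducible_of_irreducible_map _ _ (hQP ▸ hPirr)
  have hQK : Irreducible (Q.map (algebraMap A K)) :=
    (hQm.irreducible_iff_irreducible_map_fraction_map).mp hQirr
  by_cases hdeg : (Q.map (algebraMap A K)).degree = 1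
  · rw [degree_map_eq_of_injective hinj, degree_eq_natDegree hQm.ne_zero] at hdeg
    have hd1 : Q.natDegree = 1 := by exact_mod_cast hdeg
    have : P.degree = 1 := by
      rw [degree_eq_natDegree hPm.ne_zero, ← hQdeg, hd1]; rfl
    exact exists_root_of_degree_eq_one this
  · exfalso
    have e1 := Groth.Agent.S0253.derivative_eq_zero_of_irreducible hQK hdeg
    rw [derivative_map] at e1
    have hQ' : derivative Q = 0 := by
      apply Polynomial.map_injective _ hinj
      rw [e1, Polynomial.map_zero]
    have hP' : derivative P = 0 := by
      rw [← hQP, derivative_map, hQ', Polynomial.map_zero]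
    exact (separable_iff_derivative_ne_zero hPirr).mp hPsep hP'

end

/-- An integrally closed local domain whose fraction field is separably closed is henselian with
separably closed residue field (i.e. strictly henselian). -/
theorem result (A : Type u) [CommRing A] [IsDomain A] [IsLocalRing A] [IsIntegrallyClosed A]
    [IsSepClosed (FractionRing A)] :
    HenselianLocalRing A ∧ IsSepClosed (IsLocalRing.ResidueField A) := by
  refine ⟨⟨fun f hf a₀ h1 h2 => ?_⟩, isSepClosed_residueField A (FractionRing A)⟩
  exact hensel_aux A (FractionRing A) f.natDegree f rfl hf a₀ h1 h2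

end Groth.Agent.S0254
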