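import Groth.Statements.S0259
import Groth.Agent.Lib.HartogsRel
-- import your own Groth.Agent.* helpers here

set_option autoImplicit false
universe u
open Pi1

namespace Groth.Agent.S0259

open AlgebraicGeometry CategoryTheory CategoryTheory.Limits Groth.Agent.Lib in
/-- Finite étale covers of a locally Noetherian scheme: morphisms out of the restriction to an open
`U` with `depth ≥ 2` off `U` extend uniquely. -/
theorem existsUnique_extension {X : Scheme.{u}} [IsLocallyNoetherian X] (U : X.Opens)
    (h : ∀ x : X, x ∉ U → (2 : ℕ∞) ≤ LocCoh.depth (X.presheaf.stalk x) (X.presheaf.stalk x))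
    {Y Y' : Scheme.{u}} (a : Y ⟶ X) (b : Y' ⟶ X) [LocallyOfFiniteType a] [Flat a] [IsAffineHom b]
    (ψ : pullback a U.ι ⟶ Y') (hψ : ψ ≫ b = pullback.fst a U.ι ≫ a) :
    ∃! φ : Y ⟶ Y', φ ≫ b = a ∧ pullback.fst a U.ι ≫ φ = ψ := by
  haveI : IsLocallyNoetherian Y := LocallyOfFiniteType.isLocallyNoetherian a
  refine HartogsRel.existsUnique_extension (pullback.fst a U.ι) ?_ a b ψ hψ
  intro y hy
  refine le_trans (h (a y) ?_) (HartogsRel.depth_le_of_flat a y)
  intro hfy
  apply hy
  rw [Scheme.Pullback.range_fst, Scheme.Opens.range_ι]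
  exact hfy

open AlgebraicGeometry CategoryTheory CategoryTheory.Limits in
/-- Restriction of finite étale covers to an open with `depth ≥ 2` off it is fully faithful. -/
theorem full_faithful {X : Scheme.{u}} [IsLocallyNoetherian X] (U : X.Opens)
    (h : ∀ x : X, x ∉ U → (2 : ℕ∞) ≤ LocCoh.depth (X.presheaf.stalk x) (X.presheaf.stalk x)) :
    (FEt.restrict U.ι).Full ∧ (FEt.restrict U.ι).Faithful := by
  constructor
  · constructor
    intro A B ψ
    let a : A.left ⟶ X := A.hom
    let b : B.left ⟶ X := B.hom
    haveI : IsFinite a := A.prop.1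
    haveI : Etale a := A.prop.2
    haveI : IsFinite b := B.prop.1
    let ψl : pullback a U.ι ⟶ pullback b U.ι := ψ.left
    have hw : ψl ≫ pullback.snd b U.ι = pullback.snd a U.ι :=
      MorphismProperty.Over.w ψ
    obtain ⟨φ, ⟨h1, h2⟩, -⟩ := existsUnique_extension U h a b
      (ψl ≫ pullback.fst b U.ι)
      (by rw [Category.assoc, pullback.condition, ← Category.assoc, hw, pullback.condition])
    refine ⟨MorphismProperty.Over.homMk φ h1 trivial, ?_⟩
    apply MorphismProperty.Over.Hom.ext
    change pullback.lift (pullback.fst a U.ι ≫ φ) (pullback.snd a U.ι) _ = ψl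
    apply pullback.hom_ext
    · rw [pullback.lift_fst, h2]
    · rw [pullback.lift_snd, hw]
  · constructor
    intro A B φ₁ φ₂ heq
    let a : A.left ⟶ X := A.hom
    let b : B.left ⟶ X := B.hom
    haveI : IsFinite a := A.prop.1
    haveI : Etale a := A.prop.2
    haveI : IsFinite b := B.prop.1
    apply MorphismProperty.Over.Hom.ext
    have h1 := congrArg (fun x => x.left ≫ pullback.fst b U.ι) heq
    change pullback.lift (pullback.fst a U.ι ≫ φ₁.left) (pullback.snd a U.ι) _ ≫
      pullback.fst b U.ι = pullback.lift (pullback.fst a U.ι ≫ φ₂.left)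
        (pullback.snd a U.ι) _ ≫ pullback.fst b U.ι at h1
    rw [pullback.lift_fst, pullback.lift_fst] at h1
    have w1 : φ₁.left ≫ b = a := MorphismProperty.Over.w φ₁
    have w2 : φ₂.left ≫ b = a := MorphismProperty.Over.w φ₂
    obtain ⟨φ, -, huniq⟩ := existsUnique_extension U h a b
      (pullback.fst a U.ι ≫ φ₁.left)
      (by rw [Category.assoc, w1])
    rw [huniq φ₁.left ⟨w1, rfl⟩, huniq φ₂.left ⟨w2, h1.symm⟩]

open AlgebraicGeometry CategoryTheory CategoryTheory.Limits in
/-- Let X be a Noetherian scheme and U ⊆ X a dense open subscheme such that at every point x outside U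
the local ring 𝒪_{X,x} has depth at least 2. Then the functor restricting finite étale covers of X
to U is full and faithful. (The published statement assumes instead that the punctured spectra of
the strict henselizations of X at the points outside U are connected; depth at least 2 is a
sufficient condition for this and is what is assumed here.) -/
theorem result {X : Scheme.{u}} [IsNoetherian X] (U : X.Opens) (hU : Dense (U : Set X))
    (h : ∀ x : X, x ∉ U → (2 : ℕ∞) ≤ LocCoh.depth (X.presheaf.stalk x) (X.presheaf.stalk x)) :
    (FEt.restrict U.ι).Full ∧ (FEt.restrict U.ι).Faithful := by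
  exact full_faithful U h

end Groth.Agent.S0259
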