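import Groth.Statements.S0258
import Groth.Agent.S0259
-- import your own Groth.Agent.* helpers here

set_option autoImplicit false
universe u
open Pi1

namespace Groth.Agent.S0258

open AlgebraicGeometry CategoryTheory CategoryTheory.Limits in
/-- The depth of the stalk of `Spec A` at the closed point is the depth of `A`. -/
theorem depth_stalk_closedPoint (A : Type u) [CommRing A] [IsLocalRing A] :
    LocCoh.depth ((Spec (CommRingCat.of A)).presheaf.stalk (IsLocalRing.closedPoint A))
      ((Spec (CommRingCat.of A)).presheaf.stalk (IsLocalRing.closedPoint A)) = LocCoh.depth A A := by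
  have e1 : Localization.AtPrime (IsLocalRing.closedPoint A).asIdeal ≃+*
      ((Spec (CommRingCat.of A)).presheaf.stalk (IsLocalRing.closedPoint A)) :=
    (AlgebraicGeometry.StructureSheaf.stalkIso A (IsLocalRing.closedPoint A)).toRingEquiv
  have e2 : A ≃+* Localization.AtPrime (IsLocalRing.closedPoint A).asIdeal :=
    (IsLocalization.atUnits A (IsLocalRing.closedPoint A).asIdeal.primeCompl (by
      intro a ha
      have : a ∉ IsLocalRing.maximalIdeal A := ha
      rw [IsLocalRing.mem_maximalIdeal, mem_nonunits_iff, not_not] at this
      exact this)).toRingEquiv
  rw [← Groth.Agent.Lib.CMRingEquiv96.depth_eq e1, ← Groth.Agent.Lib.CMRingEquiv96.depth_eq e2]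

open AlgebraicGeometry CategoryTheory CategoryTheory.Limits in
/-- For a Noetherian local ring A of depth at least 2, the functor restricting finite étale covers of
Spec A to the punctured spectrum is fully faithful (full and faithful). The published statement
assumes instead that the punctured spectrum of the strict henselization of A is connected; depth at
least 2 is a sufficient condition for this, and the result is stated here under that hypothesis. -/
theorem result (A : Type u) [CommRing A] [IsNoetherianRing A] [IsLocalRing A] (hA : (2 : ℕ∞) ≤ LocCoh.depth A A) :
    (FEt.restrict (FEt.puncturedSpec A).ι).Full ∧ (FEt.restrict (FEt.puncturedSpec A).ι).Faithful := by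
  haveI : IsNoetherianRing (CommRingCat.of A) := ‹IsNoetherianRing A›
  refine Groth.Agent.S0259.full_faithful (FEt.puncturedSpec A) ?_
  intro x hx
  have hx' : x = IsLocalRing.closedPoint A := by
    by_contra hne
    exact hx hne
  subst hx'
  rw [depth_stalk_closedPoint]
  exact hA

end Groth.Agent.S0258
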