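import Groth.Statements.S0263
import Groth.Agent.S0258
-- import your own Groth.Agent.* helpers here

set_option autoImplicit false
universe u
open Pi1

namespace Groth.Agent.S0263

open AlgebraicGeometry CategoryTheory in
theorem isIso_appTop_of_isIso {X Y : Scheme.{u}} (f : X ⟶ Y) [IsIso f] : IsIso f.appTop := by
  have : IsIso (Scheme.Γ.map f.op) := inferInstance
  exact this

open AlgebraicGeometry CategoryTheory CategoryTheory.Limits Groth.Agent.Lib in
/-- Hartogs for an open immersion: `Γ(Y, ⊤) ⟶ Γ(V, ⊤)` is an isomorphism. -/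
theorem isIso_appTop {V Y : Scheme.{u}} [IsLocallyNoetherian Y] (j : V ⟶ Y) [IsOpenImmersion j]
    (h : HartogsRel.DepthTwoOff j) : IsIso j.appTop := by
  have hdepth : ∀ x : Y, x ∉ j.opensRange →
      (2 : ℕ∞) ≤ LocCoh.depth (Y.presheaf.stalk x) (Y.presheaf.stalk x) := fun x hx => h x hx
  haveI := Hartogs.isIso_ι_appTop j.opensRange hdepth
  have : j.appTop = j.opensRange.ι.appTop ≫ j.isoOpensRange.hom.appTop := by
    rw [← Scheme.Hom.comp_appTop, Scheme.Hom.isoOpensRange_hom_ι]
  rw [this]
  haveI := isIso_appTop_of_isIso j.isoOpensRange.hom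
  infer_instance

open AlgebraicGeometry CategoryTheory CategoryTheory.Limits in
/-- Let A be a Noetherian local ring of depth at least 2 and V a finite étale cover of the punctured
spectrum of A which is isomorphic to the restriction of some finite étale cover of Spec A. Then the
ring of global sections Γ(V, O_V) is finite and étale over A, via the ring map A → Γ(V, O_V) induced
by the composite V → Spec A. (Only this implication of the published statement is asserted here; its
converse is not.) -/
theorem result (A : Type u) [CommRing A] [IsNoetherianRing A] [IsLocalRing A] (hA : (2 : ℕ∞) ≤ LocCoh.depth A A)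
    (V : FEt.Cat (FEt.puncturedSpec A : Scheme.{u}))
    (hV : ∃ Y : FEt.Cat (Spec (CommRingCat.of A)),
      Nonempty ((FEt.restrict (FEt.puncturedSpec A).ι).obj Y ≅ V)) :
    ((Scheme.ΓSpecIso (CommRingCat.of A)).inv ≫ (V.hom ≫ (FEt.puncturedSpec A).ι).appTop).hom.Finite ∧
    ((Scheme.ΓSpecIso (CommRingCat.of A)).inv ≫ (V.hom ≫ (FEt.puncturedSpec A).ι).appTop).hom.Etale := by
  obtain ⟨Y, ⟨iso⟩⟩ := hV
  haveI : IsNoetherianRing (CommRingCat.of A) := ‹IsNoetherianRing A›
  let a : Y.left ⟶ Spec (CommRingCat.of A) := Y.hom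
  haveI : IsFinite a := Y.prop.1
  haveI : Etale a := Y.prop.2
  haveI : IsAffine Y.left := isAffine_of_isAffineHom a
  haveI : IsLocallyNoetherian Y.left := LocallyOfFiniteType.isLocallyNoetherian a
  have hd : Groth.Agent.Lib.HartogsRel.DepthTwoOff (pullback.fst a (FEt.puncturedSpec A).ι) := by
    intro y hy
    refine le_trans ?_ (Groth.Agent.Lib.HartogsRel.depth_le_of_flat a y)
    have hay : a y = IsLocalRing.closedPoint A := by
      by_contra hne
      apply hy
      rw [Scheme.Pullback.range_fst, Scheme.Opens.range_ι]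
      exact hne
    rw [hay, Groth.Agent.S0258.depth_stalk_closedPoint]
    exact hA
  haveI : IsIso (pullback.fst a (FEt.puncturedSpec A).ι).appTop := isIso_appTop _ hd
  let il : pullback a (FEt.puncturedSpec A).ι ⟶ V.left := iso.hom.left
  haveI : IsIso il :=
    (inferInstance : IsIso ((MorphismProperty.Over.forget FEt.prop ⊤ _ ⋙
      CategoryTheory.Over.forget _).mapIso iso).hom)
  haveI : IsIso il.appTop := isIso_appTop_of_isIso il
  have hw : il ≫ V.hom = pullback.snd a (FEt.puncturedSpec A).ι := MorphismProperty.Over.w iso.hom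
  have key : ((Scheme.ΓSpecIso (CommRingCat.of A)).inv ≫
      (V.hom ≫ (FEt.puncturedSpec A).ι).appTop) ≫ il.appTop =
      ((Scheme.ΓSpecIso (CommRingCat.of A)).inv ≫ a.appTop) ≫
        (pullback.fst a (FEt.puncturedSpec A).ι).appTop := by
    rw [Category.assoc, Category.assoc, ← Scheme.Hom.comp_appTop, ← Scheme.Hom.comp_appTop]
    congr 2
    rw [← Category.assoc, hw, ← pullback.condition]
  have h0fin : ((Scheme.ΓSpecIso (CommRingCat.of A)).inv ≫ a.appTop).hom.Finite :=
    (RingHom.finite_respectsIso.cancel_left_isIso _ _).mpr a.finite_appTop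
  have h0et : ((Scheme.ΓSpecIso (CommRingCat.of A)).inv ≫ a.appTop).hom.Etale :=
    (RingHom.Etale.respectsIso.cancel_left_isIso _ _).mpr
      ((HasRingHomProperty.iff_of_isAffine (P := @Etale)).mp ‹Etale a›)
  constructor
  · rw [← RingHom.finite_respectsIso.cancel_right_isIso _ il.appTop, ← CommRingCat.hom_comp, key,
      CommRingCat.hom_comp, RingHom.finite_respectsIso.cancel_right_isIso]
    exact h0fin
  · rw [← RingHom.Etale.respectsIso.cancel_right_isIso _ il.appTop, ← CommRingCat.hom_comp, key,
      CommRingCat.hom_comp, RingHom.Etale.respectsIso.cancel_right_isIso]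
    exact h0et

end Groth.Agent.S0263
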