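import Groth.Statements.S0266
import Groth.Agent.Lib.FiberFunctorUnique

set_option autoImplicit false
universe u v w
open Pi1

namespace Groth.Agent.S0266

open CategoryTheory CategoryTheory.Limits in
/-- Transported along the equivalence of a Galois category with finite continuous G-sets : on a Galois
category in Mathlib's sense, every functor to finite sets that preserves finite limits and finite
colimits is isomorphic to the fibre functor. In particular two fibre functors are isomorphic. -/
theorem result {C : Type u} [Category.{v} C] [GaloisCategory C]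
    (F : C ⥤ FintypeCat.{w}) [PreGaloisCategory.FiberFunctor F] (F' : C ⥤ FintypeCat.{w})
    [PreservesFiniteLimits F'] [PreservesFiniteColimits F'] : Nonempty (F' ≅ F) := by
  apply Groth.Agent.Lib.FiberFunctorUnique.nonempty_iso F F'
  intro X hX
  by_contra hni
  have hne : Nonempty (F.obj X) :=
    (PreGaloisCategory.not_initial_iff_fiber_nonempty F X).mp (fun hi => hni ⟨hi⟩)
  -- `X ⟶ ⊤` is an epimorphism
  have hT : IsTerminal (F.obj (⊤_ C)) := IsTerminal.isTerminalObj F _ terminalIsTerminal
  have hepiF : Epi (F.map (terminal.from X)) := by
    apply ConcreteCategory.epi_of_surjective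
    intro t
    obtain ⟨x⟩ := hne
    refine ⟨x, ?_⟩
    have h1 : (FintypeCat.homMk (fun _ : PUnit.{w+1} => F.map (terminal.from X) x) :
        FintypeCat.of PUnit.{w+1} ⟶ F.obj (⊤_ C)) =
        FintypeCat.homMk (fun _ : PUnit.{w+1} => t) := hT.hom_ext _ _
    exact congrArg (fun f => f PUnit.unit) h1
  have hepi : Epi (terminal.from X) := F.epi_of_epi_map hepiF
  have hepi'' : Epi (F'.map (terminal.from X)) := inferInstance
  have hepi' : Function.Surjective (F'.map (terminal.from X)) :=
    surjective_of_epi (FintypeCat.incl.map (F'.map (terminal.from X)))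
  have hT' : IsTerminal (F'.obj (⊤_ C)) := IsTerminal.isTerminalObj F' _ terminalIsTerminal
  obtain ⟨x', _⟩ := hepi' ((hT'.from (FintypeCat.of PUnit.{w+1})) PUnit.unit)
  exact hX.false x'

end Groth.Agent.S0266
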