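import Groth.Statements.S1187
import Mathlib.CategoryTheory.Galois.Full
import Mathlib.CategoryTheory.Galois.IsFundamentalgroup
import Mathlib.CategoryTheory.Galois.Prorepresentability

set_option autoImplicit false
universe u v w
open CategoryTheory PreGaloisCategory
open Pi1

namespace Groth.Agent.S1187

open Limits

section Aux

variable {D : Type u} [Category.{v} D] [GaloisCategory D]
  (F : D ⥤ FintypeCat.{w}) [FiberFunctor F]

/-- The fibre of the terminal object is a subsingleton. -/
theorem subsingleton_fiber_terminal : Subsingleton (F.obj (⊤_ D)) := by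
  have hT : IsTerminal (F.obj (⊤_ D)) :=
    IsTerminal.isTerminalObj F _ terminalIsTerminal
  constructor
  intro a b
  have h1 : (FintypeCat.homMk (fun _ : PUnit.{w+1} => a) : FintypeCat.of PUnit.{w+1} ⟶ F.obj (⊤_ D)) =
      FintypeCat.homMk (fun _ : PUnit.{w+1} => b) := hT.hom_ext _ _
  have := congrArg (fun f => f PUnit.unit) h1
  exact this

theorem nonempty_fiber_terminal : Nonempty (F.obj (⊤_ D)) := by
  have hT : IsTerminal (F.obj (⊤_ D)) :=
    IsTerminal.isTerminalObj F _ terminalIsTerminal
  exact ⟨(hT.from (FintypeCat.of PUnit.{w+1})) PUnit.unit⟩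

/-- Every point of the fibre of `⊤ ⨿ ⊤` comes from one of the two summands. -/
theorem fiber_coprod_cases (A B : D) (z : F.obj (A ⨿ B)) :
    (∃ a : F.obj A, F.map (coprod.inl : A ⟶ A ⨿ B) a = z) ∨
      ∃ b : F.obj B, F.map (coprod.inr : B ⟶ A ⨿ B) b = z := by
  have hc : IsColimit (BinaryCofan.mk (coprod.inl : A ⟶ A ⨿ B) coprod.inr) := coprodIsCoprod A B
  have s' : IsColimit (F.mapCocone (BinaryCofan.mk (coprod.inl : A ⟶ A ⨿ B) coprod.inr)) :=
    isColimitOfPreserves F hc
  obtain ⟨⟨j⟩, y, h⟩ := Concrete.isColimit_exists_rep _ s' z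
  cases j with
  | left => exact Or.inl ⟨y, h⟩
  | right => exact Or.inr ⟨y, h⟩

end Aux

/-- Let H : C ⥤ C' be an exact functor between Galois categories and F' a fibre functor on C' such that
F' ∘ H is a fibre functor on C; write h : π_1(C', F') → π_1(C, F' ∘ H) for the induced homomorphism
of fundamental groups. Then h is surjective if and only if H is fully faithful. -/
theorem result {C C' : Type u} [Category.{v} C] [Category.{v} C'] [GaloisCategory C] [GaloisCategory C']
    (H : C ⥤ C') [Limits.PreservesFiniteLimits H] [Limits.PreservesFiniteColimits H]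
    (F' : C' ⥤ FintypeCat.{w}) [FiberFunctor F'] [FiberFunctor (H ⋙ F')] :
    Function.Surjective (Pi1X.autWhisker H F') ↔ (H.Full ∧ H.Faithful) := by
  have hfaith : H.Faithful := Functor.Faithful.of_comp H F'
  constructor
  · intro hsurj
    refine ⟨⟨fun {X Y} g => ?_⟩, hfaith⟩
    -- the equivariant map on fibres
    let φ : (functorToAction (H ⋙ F')).obj X ⟶ (functorToAction (H ⋙ F')).obj Y :=
      { hom := F'.map g
        comm := fun τ => by
          obtain ⟨σ, rfl⟩ := hsurj τ
          exact (σ.hom.naturality g).symm }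
    obtain ⟨f, hf⟩ := (functorToAction (H ⋙ F')).map_surjective φ
    refine ⟨f, ?_⟩
    apply F'.map_injective
    have := congrArg (fun ψ => ψ.hom) hf
    exact this
  · rintro ⟨hfull, _⟩
    have hsubT := subsingleton_fiber_terminal (H ⋙ F')
    obtain ⟨pt⟩ := nonempty_fiber_terminal (H ⋙ F')
    -- the two points of the fibre of `⊤ ⨿ ⊤`
    let a : F'.obj (H.obj ((⊤_ C) ⨿ (⊤_ C))) := (H ⋙ F').map coprod.inl pt
    let b : F'.obj (H.obj ((⊤_ C) ⨿ (⊤_ C))) := (H ⋙ F').map coprod.inr pt
    have hcases : ∀ z : F'.obj (H.obj ((⊤_ C) ⨿ (⊤_ C))), z = a ∨ z = b := by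
      intro z
      rcases fiber_coprod_cases (H ⋙ F') (⊤_ C) (⊤_ C) z with ⟨y, hy⟩ | ⟨y, hy⟩
      · left; rw [← hy, Subsingleton.elim y pt]
      · right; rw [← hy, Subsingleton.elim y pt]
    have hab : a ≠ b := by
      intro hab
      have h1 := card_fiber_coprod_eq_sum (H ⋙ F') (⊤_ C) (⊤_ C)
      have h2 : Nat.card ((H ⋙ F').obj (⊤_ C)) = 1 := by
        have : Unique ((H ⋙ F').obj (⊤_ C)) := ⟨⟨pt⟩, fun y => Subsingleton.elim _ _⟩
        exact Nat.card_unique
      have h3 : Subsingleton ((H ⋙ F').obj ((⊤_ C) ⨿ (⊤_ C))) := by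
        constructor
        intro z z'
        rcases hcases z with h | h <;> rcases hcases z' with h' | h' <;> rw [h, h'] <;>
          first | rfl | exact hab | exact hab.symm
      have h4 := Finite.card_le_one_iff_subsingleton.mpr h3
      omega
    have hfixF' : ∀ σ : Aut F', σ.hom.app (H.obj ((⊤_ C) ⨿ (⊤_ C))) a = a ∧
        σ.hom.app (H.obj ((⊤_ C) ⨿ (⊤_ C))) b = b := by
      intro σ
      constructor
      · have := congrArg (fun f => f pt) (σ.hom.naturality (H.map (coprod.inl : ⊤_ C ⟶ (⊤_ C) ⨿ (⊤_ C))))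
        simp only [FintypeCat.comp_apply] at this
        refine this.trans ?_
        exact congrArg _ (Subsingleton.elim (α := (H ⋙ F').obj (⊤_ C)) _ _)
      · have := congrArg (fun f => f pt) (σ.hom.naturality (H.map (coprod.inr : ⊤_ C ⟶ (⊤_ C) ⨿ (⊤_ C))))
        simp only [FintypeCat.comp_apply] at this
        refine this.trans ?_
        exact congrArg _ (Subsingleton.elim (α := (H ⋙ F').obj (⊤_ C)) _ _)
    have hfixΦ : ∀ τ : Aut (H ⋙ F'), τ.hom.app ((⊤_ C) ⨿ (⊤_ C)) a = a ∧
        τ.hom.app ((⊤_ C) ⨿ (⊤_ C)) b = b := by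
      intro τ
      constructor
      · have := congrArg (fun f => f pt) (τ.hom.naturality (coprod.inl : ⊤_ C ⟶ (⊤_ C) ⨿ (⊤_ C)))
        simp only [FintypeCat.comp_apply] at this
        refine this.trans ?_
        exact congrArg _ (Subsingleton.elim (α := (H ⋙ F').obj (⊤_ C)) _ _)
      · have := congrArg (fun f => f pt) (τ.hom.naturality (coprod.inr : ⊤_ C ⟶ (⊤_ C) ⨿ (⊤_ C)))
        simp only [FintypeCat.comp_apply] at this
        refine this.trans ?_
        exact congrArg _ (Subsingleton.elim (α := (H ⋙ F').obj (⊤_ C)) _ _)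
    -- transitivity on fibres of images of connected objects
    have htrans : ∀ (X : C) [IsConnected X] (x y : F'.obj (H.obj X)),
        ∃ σ : Aut F', σ.hom.app (H.obj X) x = y := by
      intro X _ x y
      classical
      by_contra hno
      let φfun : F'.obj (H.obj X) → F'.obj (H.obj ((⊤_ C) ⨿ (⊤_ C))) := fun z =>
        if z ∈ MulAction.orbit (Aut F') x then a else b
      have hφx : φfun x = a := if_pos (MulAction.mem_orbit_self x)
      have hφy : φfun y = b := if_neg (fun hy => hno (MulAction.mem_orbit_iff.mp hy))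
      have hequiv : ∀ (σ : Aut F') (z : F'.obj (H.obj X)), φfun (σ • z) = σ • φfun z := by
        intro σ z
        have hiff : σ • z ∈ MulAction.orbit (Aut F') x ↔ z ∈ MulAction.orbit (Aut F') x := by
          rw [← MulAction.orbit_eq_iff, ← MulAction.orbit_eq_iff, MulAction.orbit_smul]
        by_cases hz : z ∈ MulAction.orbit (Aut F') x
        · rw [show φfun (σ • z) = a from if_pos (hiff.mpr hz), show φfun z = a from if_pos hz]
          exact (hfixF' σ).1.symm
        · rw [show φfun (σ • z) = b from if_neg (fun h => hz (hiff.mp h)),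
            show φfun z = b from if_neg hz]
          exact (hfixF' σ).2.symm
      let φ : (functorToAction F').obj (H.obj X) ⟶
          (functorToAction F').obj (H.obj ((⊤_ C) ⨿ (⊤_ C))) :=
        { hom := FintypeCat.homMk φfun
          comm := fun σ => by
            ext z
            exact hequiv σ z }
      obtain ⟨g, hg⟩ := (functorToAction F').map_surjective φ
      obtain ⟨t, rfl⟩ := H.map_surjective g
      have hg' : ∀ z, F'.map (H.map t) z = φfun z := fun z => by
        have := congrArg (fun ψ => ψ.hom z) hg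
        exact this
      -- `Φ(t)` is constant
      obtain ⟨τ, hτ⟩ := MulAction.exists_smul_eq (Aut (H ⋙ F')) (α := (H ⋙ F').obj X) x y
      have hτ' : τ.hom.app X x = y := hτ
      have hnat := congrArg (fun f => f x) (τ.hom.naturality t)
      simp only [FintypeCat.comp_apply] at hnat
      rw [hτ'] at hnat
      have h1 : (H ⋙ F').map t y = b := (hg' y).trans hφy
      have h2 : (H ⋙ F').map t x = a := (hg' x).trans hφx
      rw [h1, h2, (hfixΦ τ).1] at hnat
      exact hab hnat
    let _ : ∀ X : C, MulAction (Aut F') ((H ⋙ F').obj X) := fun X =>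
      inferInstanceAs (MulAction (Aut F') (F'.obj (H.obj X)))
    have hnatsmul : IsNaturalSMul (H ⋙ F') (Aut F') :=
      ⟨fun σ {X Y} f x => (mulAction_naturality F' σ (H.map f) x).symm⟩
    have hcont : ∀ X : C, ContinuousSMul (Aut F') ((H ⋙ F').obj X) := fun X =>
      inferInstanceAs (ContinuousSMul (Aut F') (F'.obj (H.obj X)))
    have hsurj := toAut_surjective_of_isPretransitive (H ⋙ F') (G := Aut F')
      (fun X _ => ⟨fun x y => htrans X x y⟩)
    intro τ
    obtain ⟨σ, hσ⟩ := hsurj τ
    refine ⟨σ, ?_⟩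
    rw [← hσ]
    apply Iso.ext
    ext X x
    rfl

end Groth.Agent.S1187
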