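import Groth.Statements.S0267
import Groth.Agent.Lib.FiberFunctorUnique
import Groth.Agent.S1187

set_option autoImplicit false
universe u v
open Pi1

namespace Groth.Agent.S0267

open CategoryTheory CategoryTheory.Limits PreGaloisCategory

section Aux

variable {C : Type u} [Category.{v} C] [GaloisCategory C]

/-- A functor isomorphic to a fibre functor is a fibre functor. -/
theorem fiberFunctor_of_iso {F G : C ⥤ FintypeCat.{v}} [FiberFunctor F] (e : F ≅ G) :
    FiberFunctor G where
  preservesTerminalObjects := preservesLimitsOfShape_of_natIso e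
  preservesPullbacks := preservesLimitsOfShape_of_natIso e
  preservesFiniteCoproducts := ⟨fun _ => preservesColimitsOfShape_of_natIso e⟩
  preservesEpis := Functor.PreservesEpimorphisms.of_iso e
  preservesQuotientsByFiniteGroups _ := preservesColimitsOfShape_of_natIso e
  reflectsIsos := reflectsIsomorphisms_of_iso e

/-- An object with nonempty fibre on which the fundamental group acts transitively is connected. -/
theorem isConnected_of_transitive (F : C ⥤ FintypeCat.{v}) [FiberFunctor F] (Y : C)
    (hne : Nonempty (F.obj Y))
    (htr : ∀ x y : F.obj Y, ∃ σ : Aut F, σ.hom.app Y x = y) : IsConnected Y where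
  notInitial := fun hi => by
    obtain ⟨y⟩ := hne
    exact not_initial_of_inhabited F y hi
  noTrivialComponent := fun Z i _ hZ => by
    obtain ⟨z₀⟩ := (not_initial_iff_fiber_nonempty F Z).mp hZ
    have hiso : IsIso (F.map i) := by
      apply (ConcreteCategory.isIso_iff_bijective (F.map i)).mpr
      refine ⟨ConcreteCategory.injective_of_mono_of_preservesPullback (F.map i), fun y => ?_⟩
      obtain ⟨σ, hσ⟩ := htr (F.map i z₀) y
      refine ⟨σ.hom.app Z z₀, ?_⟩
      have := congrArg (fun f => f z₀) (σ.hom.naturality i)
      simp only [FintypeCat.comp_apply] at this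
      rw [← this, hσ]
    exact isIso_of_reflects_iso i F

end Aux



/-- The statement with chosen fibre functors. -/
theorem aux {C : Type u} [Category.{v} C]
    [GaloisCategory C] {D : Type u} [Category.{v} D] [GaloisCategory D]
    (H : C ⥤ D) [PreservesFiniteLimits H] [PreservesFiniteColimits H]
    (FC : C ⥤ FintypeCat.{v}) [FiberFunctor FC] (FD : D ⥤ FintypeCat.{v}) [FiberFunctor FD] :
    (H.Full ∧ H.Faithful) ↔
      ∀ X : C, PreGaloisCategory.IsConnected X → PreGaloisCategory.IsConnected (H.obj X) := by
  have hFDlim : PreservesFiniteLimits FD := inferInstance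
  have hΦlim : PreservesFiniteLimits (H ⋙ FD) := comp_preservesFiniteLimits H FD
  have hFDcop : PreservesColimitsOfShape (Discrete WalkingPair) FD := inferInstance
  have hHcop : PreservesColimitsOfShape (Discrete WalkingPair) H := inferInstance
  have hΦcop : PreservesColimitsOfShape (Discrete WalkingPair) (H ⋙ FD) :=
    comp_preservesColimitsOfShape H FD
  have hne : ∀ X : C, IsEmpty ((H ⋙ FD).obj X) → Nonempty (IsInitial X) := by
    intro X hX
    by_contra hni
    have hneC : Nonempty (FC.obj X) :=
      (not_initial_iff_fiber_nonempty FC X).mp (fun hi => hni ⟨hi⟩)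
    have hT : IsTerminal (FC.obj (⊤_ C)) := IsTerminal.isTerminalObj FC _ terminalIsTerminal
    have hepiF : Epi (FC.map (terminal.from X)) := by
      apply ConcreteCategory.epi_of_surjective
      intro t
      obtain ⟨x⟩ := hneC
      refine ⟨x, ?_⟩
      have h1 : (FintypeCat.homMk (fun _ : PUnit.{v+1} => FC.map (terminal.from X) x) :
          FintypeCat.of PUnit.{v+1} ⟶ FC.obj (⊤_ C)) =
          FintypeCat.homMk (fun _ : PUnit.{v+1} => t) := hT.hom_ext _ _
      exact congrArg (fun f => f PUnit.unit) h1
    have hepi : Epi (terminal.from X) := FC.epi_of_epi_map hepiF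
    have hepiH : Epi (H.map (terminal.from X)) := inferInstance
    have hsurj : Function.Surjective (FD.map (H.map (terminal.from X))) :=
      surjective_on_fiber_of_epi FD _
    have hT' : IsTerminal ((H ⋙ FD).obj (⊤_ C)) :=
      IsTerminal.isTerminalObj (H ⋙ FD) _ terminalIsTerminal
    obtain ⟨x', _⟩ := hsurj ((hT'.from (FintypeCat.of PUnit.{v+1})) PUnit.unit)
    exact hX.false x'
  obtain ⟨e⟩ := Groth.Agent.Lib.FiberFunctorUnique.nonempty_iso FC (H ⋙ FD) hne
  have hΦ : FiberFunctor (H ⋙ FD) := fiberFunctor_of_iso e.symm
  have hS1187 := Groth.Agent.S1187.result H FD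
  rw [← hS1187]
  constructor
  · intro hsurj X hX
    have hne : Nonempty (FD.obj (H.obj X)) := nonempty_fiber_of_isConnected (H ⋙ FD) X
    refine isConnected_of_transitive FD (H.obj X) hne (fun x y => ?_)
    obtain ⟨τ, hτ⟩ := MulAction.exists_smul_eq (Aut (H ⋙ FD)) (α := (H ⋙ FD).obj X) x y
    obtain ⟨σ, rfl⟩ := hsurj τ
    exact ⟨σ, hτ⟩
  · intro hconn
    let _ : ∀ X : C, MulAction (Aut FD) ((H ⋙ FD).obj X) := fun X =>
      inferInstanceAs (MulAction (Aut FD) (FD.obj (H.obj X)))
    have hnatsmul : IsNaturalSMul (H ⋙ FD) (Aut FD) :=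
      ⟨fun σ {X Y} f x => (mulAction_naturality FD σ (H.map f) x).symm⟩
    have hcont : ∀ X : C, ContinuousSMul (Aut FD) ((H ⋙ FD).obj X) := fun X =>
      inferInstanceAs (ContinuousSMul (Aut FD) (FD.obj (H.obj X)))
    have hsurj := toAut_surjective_of_isPretransitive (H ⋙ FD) (G := Aut FD)
      (fun X hX => by
        have : IsConnected (H.obj X) := hconn X inferInstance
        exact inferInstanceAs (MulAction.IsPretransitive (Aut FD) (FD.obj (H.obj X))))
    intro τ
    obtain ⟨σ, hσ⟩ := hsurj τ
    refine ⟨σ, ?_⟩
    rw [← hσ]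
    apply Iso.ext
    ext X x
    rfl


open CategoryTheory CategoryTheory.Limits in
/-- For an exact functor H between Galois categories, H is fully faithful exactly when it carries
connected objects to connected objects (both are equivalent to surjectivity of the induced map on
fundamental groups). -/
theorem result {C : Type u} [Category.{v} C]
    [GaloisCategory C] {D : Type u} [Category.{v} D] [GaloisCategory D]
    (H : C ⥤ D) [PreservesFiniteLimits H] [PreservesFiniteColimits H] :
    (H.Full ∧ H.Faithful) ↔
      ∀ X : C, PreGaloisCategory.IsConnected X → PreGaloisCategory.IsConnected (H.obj X) := by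
  exact aux H (GaloisCategory.getFiberFunctor C) (GaloisCategory.getFiberFunctor D)

end Groth.Agent.S0267
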