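import Groth.Statements.S0275
import Mathlib.LinearAlgebra.TensorProduct.RightExactness
import Mathlib.RingTheory.Finiteness.Basic
import Mathlib.LinearAlgebra.TensorProduct.Tower

set_option autoImplicit false
universe u
open scoped TensorProduct
open Pi1

namespace Groth.Agent.S0275

theorem exists_fg_baseChange_eq_top (R S : Type u) [CommRing R] [CommRing S] [Algebra R S]
    (M : Type u) [AddCommGroup M] [Module R M]
    [Module.Finite S (S ⊗[R] M)] : ∃ N : Submodule R M, N.FG ∧ N.baseChange S = ⊤ := by
  have h1 : (⊤ : Submodule S (S ⊗[R] M)).FG := Module.Finite.fg_top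
  have h2 : (⊤ : Submodule S (S ⊗[R] M)) =
      Submodule.span S (TensorProduct.mk R S M 1 '' Set.univ) := by
    rw [← Submodule.baseChange_span, Submodule.span_univ, Submodule.baseChange_top]
  rw [h2, Submodule.fg_span_iff_fg_span_finset_subset] at h1
  obtain ⟨t, ht, hspan⟩ := h1
  classical
  rw [Finset.subset_set_image_iff] at ht
  obtain ⟨s', -, hs'⟩ := ht
  refine ⟨Submodule.span R (s' : Set M), ⟨s', rfl⟩, ?_⟩
  rw [Submodule.baseChange_span, h2, hspan, ← hs']
  simp

theorem subsingleton_of_univInjective (R S : Type u) [CommRing R] [CommRing S] [Algebra R S]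
    (h : Pi1.UnivInjective R S) (P : Type u) [AddCommGroup P] [Module R P]
    [Subsingleton (S ⊗[R] P)] : Subsingleton P := by
  have h1 : Subsingleton (P ⊗[R] S) := (TensorProduct.comm R P S).toEquiv.subsingleton
  have h2 : Subsingleton (P ⊗[R] R) := (h P).subsingleton
  exact (TensorProduct.rid R P).symm.toEquiv.subsingleton

theorem eq_top_of_baseChange_eq_top (R S : Type u) [CommRing R] [CommRing S] [Algebra R S]
    (h : Pi1.UnivInjective R S) (M : Type u) [AddCommGroup M] [Module R M]
    (N : Submodule R M) (hN : N.baseChange S = ⊤) : N = ⊤ := by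
  have h1 : Function.Surjective (LinearMap.lTensor S N.mkQ) :=
    LinearMap.lTensor_surjective S N.mkQ_surjective
  have h2 : LinearMap.ker (LinearMap.lTensor S N.mkQ) = ⊤ := by
    rw [lTensor_mkQ]
    have : (LinearMap.range (LinearMap.lTensor S N.subtype) : Set (S ⊗[R] M)) =
        (N.baseChange S : Set (S ⊗[R] M)) := by
      ext x
      simp only [Submodule.baseChange, SetLike.mem_coe, LinearMap.mem_range]
      rfl
    apply SetLike.coe_injective
    rw [this, hN]
    rfl
  have h3 : Subsingleton (S ⊗[R] (M ⧸ N)) := by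
    refine ⟨fun a b => ?_⟩
    obtain ⟨a, rfl⟩ := h1 a
    obtain ⟨b, rfl⟩ := h1 b
    have ha : a ∈ LinearMap.ker (LinearMap.lTensor S N.mkQ) := by rw [h2]; trivial
    have hb : b ∈ LinearMap.ker (LinearMap.lTensor S N.mkQ) := by rw [h2]; trivial
    rw [LinearMap.mem_ker] at ha hb
    rw [ha, hb]
  have h4 : Subsingleton (M ⧸ N) := subsingleton_of_univInjective R S h (M ⧸ N)
  exact Submodule.Quotient.subsingleton_iff.mp h4

/-- Let R -> S be universally injective and M an R-module such that S ⊗_R M is finitely generated over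
S. Then M is finitely generated over R. -/
theorem result (R S : Type u) [CommRing R] [CommRing S] [Algebra R S]
    (h : Pi1.UnivInjective R S) (M : Type u) [AddCommGroup M] [Module R M]
    [Module.Finite S (S ⊗[R] M)] : Module.Finite R M := by
  obtain ⟨N, hfg, hN⟩ := exists_fg_baseChange_eq_top R S M
  have := eq_top_of_baseChange_eq_top R S h M N hN
  rw [Module.finite_def, ← this]
  exact hfg

end Groth.Agent.S0275
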