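import Groth.Statements.S0276
import Groth.Agent.S0275
import Mathlib.Algebra.Module.FinitePresentation

set_option autoImplicit false
universe u
open scoped TensorProduct
open Pi1

namespace Groth.Agent.S0276

theorem eq_zero_of_one_tmul_eq_zero (R S : Type u) [CommRing R] [CommRing S] [Algebra R S]
    (h : Pi1.UnivInjective R S) (P : Type u) [AddCommGroup P] [Module R P] (p : P)
    (hp : (1 : S) ⊗ₜ[R] p = 0) : p = 0 := by
  have h1 : p ⊗ₜ[R] (1 : S) = 0 := by
    have := congrArg (TensorProduct.comm R S P) hp
    simpa using this
  have h2 : LinearMap.lTensor P (Algebra.linearMap R S) (p ⊗ₜ[R] (1 : R)) = 0 := by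
    simpa using h1
  have h3 : p ⊗ₜ[R] (1 : R) = 0 := h P (by rw [h2, map_zero])
  have := congrArg (TensorProduct.rid R P) h3
  simpa using this

theorem le_of_baseChange_le (R S : Type u) [CommRing R] [CommRing S] [Algebra R S]
    (h : Pi1.UnivInjective R S) (F : Type u) [AddCommGroup F] [Module R F]
    (K K' : Submodule R F) (hK : K.baseChange S ≤ K'.baseChange S) : K ≤ K' := by
  intro k hk
  have h1 : (1 : S) ⊗ₜ[R] k ∈ K'.baseChange S := hK (Submodule.tmul_mem_baseChange_of_mem 1 hk)
  have h2 : (1 : S) ⊗ₜ[R] k ∈ LinearMap.ker (LinearMap.lTensor S K'.mkQ) := by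
    rw [lTensor_mkQ]
    exact h1
  rw [LinearMap.mem_ker, LinearMap.lTensor_tmul] at h2
  have h3 := eq_zero_of_one_tmul_eq_zero R S h (F ⧸ K') _ h2
  simpa using h3

/-- Let R -> S be universally injective and M an R-module such that S ⊗_R M is finitely presented over
S. Then M is finitely presented over R. -/
theorem result (R S : Type u) [CommRing R] [CommRing S] [Algebra R S]
    (h : Pi1.UnivInjective R S) (M : Type u) [AddCommGroup M] [Module R M]
    [Module.FinitePresentation S (S ⊗[R] M)] : Module.FinitePresentation R M := by
  have hfin : Module.Finite R M := Groth.Agent.S0275.result R S h M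
  obtain ⟨n, f, hf⟩ := Module.Finite.exists_fin' R M
  set K := LinearMap.ker f with hKdef
  have h1 : (LinearMap.ker (f.baseChange S)).FG :=
    Module.FinitePresentation.fg_ker (f.baseChange S) (LinearMap.baseChange_surjective S hf)
  have h2 : LinearMap.ker (f.baseChange S) = K.baseChange S := by
    have hex : Function.Exact K.subtype f := LinearMap.exact_subtype_ker_map f
    have := lTensor_exact S hex hf
    rw [LinearMap.exact_iff] at this
    apply SetLike.coe_injective
    ext x
    simp only [SetLike.mem_coe, LinearMap.mem_ker, Submodule.baseChange, LinearMap.mem_range]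
    have h3 := congrArg (fun N : Submodule R (S ⊗[R] (Fin n → R)) => x ∈ N) this
    simp only [LinearMap.mem_ker, LinearMap.mem_range] at h3
    exact Iff.of_eq h3
  rw [h2, Submodule.baseChange_eq_span, Submodule.fg_span_iff_fg_span_finset_subset] at h1
  obtain ⟨t, ht, hspan⟩ := h1
  classical
  rw [Submodule.map_coe, Finset.subset_set_image_iff] at ht
  obtain ⟨s', hs'K, hs'⟩ := ht
  have hle : K ≤ Submodule.span R (s' : Set (Fin n → R)) := by
    apply le_of_baseChange_le R S h
    rw [Submodule.baseChange_span, Submodule.baseChange_eq_span, hspan, ← hs']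
    simp
  have hK : K.FG := by
    have : K = Submodule.span R (s' : Set (Fin n → R)) :=
      le_antisymm hle (Submodule.span_le.mpr hs'K)
    rw [this]
    exact ⟨s', rfl⟩
  exact Module.finitePresentation_of_surjective f hf hK

end Groth.Agent.S0276
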