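import Groth.Statements.S0274
import Groth.Agent.S0276
import Mathlib.RingTheory.Flat.Tensor
import Mathlib.RingTheory.TensorProduct.Quotient

set_option autoImplicit false
universe u
open scoped TensorProduct
open Pi1

namespace Groth.Agent.S0274

section general

variable {A : Type*} [CommRing A] {F M : Type*} [AddCommGroup F] [AddCommGroup M]
  [Module A F] [Module A M]

/-- The map `J ⊗ F → F`. -/
noncomputable abbrev mulMap (J : Ideal A) (F : Type*) [AddCommGroup F] [Module A F] :
    J ⊗[A] F →ₗ[A] F :=
  (TensorProduct.lid A F).toLinearMap ∘ₗ (J.subtype.rTensor F)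

theorem mulMap_tmul (J : Ideal A) (a : J) (f : F) : mulMap J F (a ⊗ₜ f) = (a : A) • f := by
  simp [mulMap]

theorem mulMap_naturality (J : Ideal A) (π : F →ₗ[A] M) (y : J ⊗[A] F) :
    mulMap J M (π.lTensor J y) = π (mulMap J F y) := by
  induction y using TensorProduct.induction_on with
  | zero => simp
  | tmul a f => simp [mulMap]
  | add x y hx hy => simp only [map_add, hx, hy]

theorem range_mulMap (J : Ideal A) : LinearMap.range (mulMap J F) = J • (⊤ : Submodule A F) :=
  Ideal.subtype_rTensor_range F J

theorem mulMap_injective_of_flat [Module.Flat A F] (J : Ideal A) :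
    Function.Injective (mulMap J F) := by
  have := Module.Flat.rTensor_preserves_injective_linearMap (M := F) J.subtype
    J.subtype_injective
  exact (TensorProduct.lid A F).injective.comp this

theorem mulMap_lTensor_subtype_mem (J : Ideal A) (K : Submodule A F) (z : J ⊗[A] K) :
    mulMap J F (K.subtype.lTensor J z) ∈ J • K := by
  induction z using TensorProduct.induction_on with
  | zero => simp
  | tmul a k =>
    rw [LinearMap.lTensor_tmul, mulMap_tmul]
    exact Submodule.smul_mem_smul a.2 k.2
  | add x y hx hy =>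
    rw [map_add, map_add]
    exact add_mem hx hy

theorem smul_le_range (J : Ideal A) (K : Submodule A F) :
    J • K ≤ LinearMap.range (mulMap J F ∘ₗ K.subtype.lTensor J) := by
  rw [Submodule.smul_le]
  intro a ha k hk
  refine ⟨(⟨a, ha⟩ : J) ⊗ₜ (⟨k, hk⟩ : K), ?_⟩
  simp [mulMap]

/-- flat implies the intersection property. -/
theorem inf_smul_top_le_of_flat (π : F →ₗ[A] M) (hπ : Function.Surjective π) [Module.Flat A M]
    (J : Ideal A) :
    LinearMap.ker π ⊓ J • (⊤ : Submodule A F) ≤ J • LinearMap.ker π := by
  rintro k ⟨hk1, hk2⟩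
  rw [SetLike.mem_coe, ← range_mulMap] at hk2
  obtain ⟨y, rfl⟩ := hk2
  rw [SetLike.mem_coe, LinearMap.mem_ker, ← mulMap_naturality] at hk1
  have h0 : π.lTensor J y = 0 := mulMap_injective_of_flat (F := M) J (by rw [hk1, map_zero])
  have hex : Function.Exact (LinearMap.ker π).subtype π := LinearMap.exact_subtype_ker_map π
  have := lTensor_exact J hex hπ
  obtain ⟨z, rfl⟩ := (this y).mp h0
  exact mulMap_lTensor_subtype_mem J _ z

/-- the intersection property implies flat, if `F` is flat. -/
theorem flat_of_inf_smul_top_le (π : F →ₗ[A] M) (hπ : Function.Surjective π) [Module.Flat A F]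
    (H : ∀ I : Ideal A, LinearMap.ker π ⊓ I • (⊤ : Submodule A F) ≤ I • LinearMap.ker π) :
    Module.Flat A M := by
  rw [Module.Flat.iff_rTensor_injective']
  intro I
  rw [injective_iff_map_eq_zero]
  intro x hx
  obtain ⟨y, rfl⟩ := LinearMap.lTensor_surjective I hπ x
  have h1 : π (mulMap I F y) = 0 := by
    rw [← mulMap_naturality]
    simp only [mulMap, LinearMap.coe_comp, Function.comp_apply, hx, map_zero]
  have h2 : mulMap I F y ∈ I • LinearMap.ker π := by
    apply H I
    refine ⟨h1, ?_⟩
    rw [SetLike.mem_coe, ← range_mulMap]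
    exact ⟨y, rfl⟩
  obtain ⟨z, hz⟩ := smul_le_range I _ h2
  have h3 : (LinearMap.ker π).subtype.lTensor I z = y :=
    mulMap_injective_of_flat (F := F) I hz
  rw [← h3, ← LinearMap.comp_apply, ← LinearMap.lTensor_comp]
  have : π ∘ₗ (LinearMap.ker π).subtype = 0 := by
    ext k
    exact k.2
  rw [this, LinearMap.lTensor_zero, LinearMap.zero_apply]

end general

theorem ker_baseChange (R S : Type u) [CommRing R] [CommRing S] [Algebra R S]
    {F M : Type u} [AddCommGroup F] [AddCommGroup M] [Module R F] [Module R M]
    (f : F →ₗ[R] M) (hf : Function.Surjective f) :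
    LinearMap.ker (f.baseChange S) = (LinearMap.ker f).baseChange S := by
  have hex : Function.Exact (LinearMap.ker f).subtype f := LinearMap.exact_subtype_ker_map f
  have := lTensor_exact S hex hf
  rw [LinearMap.exact_iff] at this
  apply SetLike.coe_injective
  ext x
  simp only [SetLike.mem_coe, LinearMap.mem_ker, Submodule.baseChange, LinearMap.mem_range]
  have h3 := congrArg (fun N : Submodule R (S ⊗[R] F) => x ∈ N) this
  simp only [LinearMap.mem_ker, LinearMap.mem_range] at h3
  exact Iff.of_eq h3

theorem one_tmul_smul (R S : Type u) [CommRing R] [CommRing S] [Algebra R S]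
    {F : Type u} [AddCommGroup F] [Module R F] (a : R) (f : F) :
    (1 : S) ⊗ₜ[R] (a • f) = (algebraMap R S a) • ((1 : S) ⊗ₜ[R] f) := by
  rw [TensorProduct.tmul_smul, TensorProduct.smul_tmul', TensorProduct.smul_tmul', smul_eq_mul,
    mul_one, Algebra.smul_def, mul_one]

theorem one_tmul_mem_smul_top (R S : Type u) [CommRing R] [CommRing S] [Algebra R S]
    {F : Type u} [AddCommGroup F] [Module R F] (I : Ideal R) (k : F)
    (hk : k ∈ I • (⊤ : Submodule R F)) :
    (1 : S) ⊗ₜ[R] k ∈ (I.map (algebraMap R S)) • (⊤ : Submodule S (S ⊗[R] F)) := by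
  refine Submodule.smul_induction_on hk ?_ ?_
  · intro a ha f _
    rw [one_tmul_smul]
    exact Submodule.smul_mem_smul (Ideal.mem_map_of_mem _ ha) trivial
  · intro x y hx hy
    rw [TensorProduct.tmul_add]
    exact add_mem hx hy

theorem map_smul_baseChange_le (R S : Type u) [CommRing R] [CommRing S] [Algebra R S]
    {F : Type u} [AddCommGroup F] [Module R F] (I : Ideal R) (K : Submodule R F) :
    (I.map (algebraMap R S)) • K.baseChange S ≤ (I • K).baseChange S := by
  rw [Submodule.baseChange_eq_span, Ideal.map, Submodule.span_smul_span, Submodule.span_le]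
  rintro _ ⟨_, ⟨a, ha, rfl⟩, _, ⟨k, hk, rfl⟩, rfl⟩
  show (algebraMap R S a) • ((1 : S) ⊗ₜ[R] k) ∈ (I • K).baseChange S
  rw [← one_tmul_smul]
  exact Submodule.tmul_mem_baseChange_of_mem 1 (Submodule.smul_mem_smul ha hk)

/-- Let R -> S be universally injective and M an R-module such that S ⊗_R M is flat over S. Then M is
flat over R. -/
theorem result (R S : Type u) [CommRing R] [CommRing S] [Algebra R S]
    (h : Pi1.UnivInjective R S) (M : Type u) [AddCommGroup M] [Module R M]
    [Module.Flat S (S ⊗[R] M)] : Module.Flat R M := by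
  let π : (M →₀ R) →ₗ[R] M := Finsupp.linearCombination R id
  have hπ : Function.Surjective π := Finsupp.linearCombination_id_surjective R M
  apply flat_of_inf_smul_top_le π hπ
  intro I
  rintro k ⟨hk1, hk2⟩
  have hS := inf_smul_top_le_of_flat (π.baseChange S) (LinearMap.baseChange_surjective S hπ)
    (I.map (algebraMap R S))
  rw [ker_baseChange R S π hπ] at hS
  have h1 : (1 : S) ⊗ₜ[R] k ∈ (I • LinearMap.ker π).baseChange S := by
    apply map_smul_baseChange_le
    apply hS
    exact ⟨Submodule.tmul_mem_baseChange_of_mem 1 hk1, one_tmul_mem_smul_top R S I k hk2⟩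
  have h2 : Submodule.span R {k} ≤ I • LinearMap.ker π := by
    apply Groth.Agent.S0276.le_of_baseChange_le R S h
    rw [Submodule.baseChange_span, Submodule.span_le]
    rintro _ ⟨_, rfl, rfl⟩
    exact h1
  exact h2 (Submodule.mem_span_singleton_self k)

end Groth.Agent.S0274
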