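import Groth.Statements.S0277
import Mathlib.RingTheory.Finiteness.Descent

set_option autoImplicit false
universe u
open scoped TensorProduct
open Pi1

namespace Groth.Agent.S0277

/-- A module over `R` that dies after tensoring with a universally injective `R`-algebra `S`
is zero. -/
theorem subsingleton_of_tensor (R S : Type u) [CommRing R] [CommRing S] [Algebra R S]
    (h : Pi1.UnivInjective R S) (P : Type u) [AddCommGroup P] [Module R P]
    [Subsingleton (P ⊗[R] S)] : Subsingleton P := by
  have hinj := h P
  refine ⟨fun a b => ?_⟩
  have h1 : (TensorProduct.rid R P).symm a = (TensorProduct.rid R P).symm b :=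
    hinj (Subsingleton.elim _ _)
  exact (TensorProduct.rid R P).symm.injective h1

/-- If `S ⊗ f` is surjective for a universally injective `R → S`, then `f` is surjective. -/
theorem surjective_of_lTensor (R S : Type u) [CommRing R] [CommRing S] [Algebra R S]
    (h : Pi1.UnivInjective R S) (M N : Type u) [AddCommGroup M] [Module R M]
    [AddCommGroup N] [Module R N] (f : M →ₗ[R] N)
    (hf : Function.Surjective (LinearMap.lTensor S f)) : Function.Surjective f := by
  rw [← LinearMap.range_eq_top]
  set Q := N ⧸ LinearMap.range f
  have hsub : Subsingleton (Q ⊗[R] S) := by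
    have hq : Function.Surjective (LinearMap.lTensor S (LinearMap.range f).mkQ) :=
      LinearMap.lTensor_surjective S (Submodule.mkQ_surjective _)
    have hzero : LinearMap.lTensor S (LinearMap.range f).mkQ = 0 := by
      apply LinearMap.ext
      intro x
      obtain ⟨y, rfl⟩ := hf x
      rw [← LinearMap.comp_apply, ← LinearMap.lTensor_comp]
      have : (LinearMap.range f).mkQ ∘ₗ f = 0 := LinearMap.range_mkQ_comp f
      rw [this]
      simp
    have : Subsingleton (S ⊗[R] Q) := by
      refine ⟨fun a b => ?_⟩
      obtain ⟨a', rfl⟩ := hq a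
      obtain ⟨b', rfl⟩ := hq b
      simp [hzero]
    exact (TensorProduct.comm R Q S).toEquiv.subsingleton
  have : Subsingleton Q := subsingleton_of_tensor R S h Q
  exact Submodule.Quotient.subsingleton_iff.mp this

/-- Let R -> S be universally injective and A an R-algebra such that S ⊗_R A is of finite type over S.
Then A is of finite type over R. -/
theorem result (R S : Type u) [CommRing R] [CommRing S] [Algebra R S]
    (h : Pi1.UnivInjective R S) (A : Type u) [CommRing A] [Algebra R A]
    [Algebra.FiniteType S (S ⊗[R] A)] : Algebra.FiniteType R A := by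
  obtain ⟨s, hs⟩ := Algebra.FiniteType.out (R := S) (A := S ⊗[R] A)
  have (x : s) := TensorProduct.exists_sum_tmul_eq x.1
  choose k t m hx using this
  let f : MvPolynomial (Σ x : s, Fin (k x)) R →ₐ[R] A := MvPolynomial.aeval (fun ⟨x, i⟩ ↦ m x i)
  apply Algebra.FiniteType.of_surjective f
  have hf : Function.Surjective (Algebra.TensorProduct.map (.id S S) f) := by
    rw [← AlgHom.range_eq_top, _root_.eq_top_iff, ← hs, Algebra.adjoin_le_iff]
    intro x hx'
    let i : s := ⟨x, hx'⟩
    use ∑ (j : Fin (k i)), t i j ⊗ₜ MvPolynomial.X ⟨i, j⟩
    simp [f, ← hx, i]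
  exact surjective_of_lTensor R S h _ _ f.toLinearMap hf

end Groth.Agent.S0277
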