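import Groth.Statements.S0278
import Groth.Agent.S0277
import Mathlib.RingTheory.Finiteness.Descent

set_option autoImplicit false
universe u
open scoped TensorProduct
open Pi1

namespace Groth.Agent.S0278

/-- For a universally injective `R → S` and an `R`-module `Q`, an element `q` with
`1 ⊗ q = 0` in `S ⊗ Q` vanishes. -/
theorem eq_zero_of_one_tmul_eq_zero (R S : Type u) [CommRing R] [CommRing S] [Algebra R S]
    (h : Pi1.UnivInjective R S) (Q : Type u) [AddCommGroup Q] [Module R Q] (q : Q)
    (hq : (1 : S) ⊗ₜ[R] q = 0) : q = 0 := by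
  have hinj := h Q
  have h1 : LinearMap.lTensor Q (Algebra.linearMap R S) (q ⊗ₜ[R] (1 : R)) = 0 := by
    have : LinearMap.lTensor Q (Algebra.linearMap R S) (q ⊗ₜ[R] (1 : R)) = q ⊗ₜ[R] (1 : S) := by
      simp
    rw [this]
    have h2 : (TensorProduct.comm R S Q) ((1 : S) ⊗ₜ[R] q) = q ⊗ₜ[R] (1 : S) := rfl
    rw [← h2, hq, map_zero]
  have h3 : q ⊗ₜ[R] (1 : R) = 0 := hinj (by rw [h1, map_zero])
  have h4 : (TensorProduct.rid R Q) (q ⊗ₜ[R] (1 : R)) = q := by simp
  rw [← h4, h3, map_zero]

/-- Ideals are contracted along `P → S ⊗ P` when `R → S` is universally injective. -/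
theorem mem_of_tmul_mem_map (R S : Type u) [CommRing R] [CommRing S] [Algebra R S]
    (h : Pi1.UnivInjective R S) (P : Type u) [CommRing P] [Algebra R P] (I : Ideal P) (x : P)
    (hx : (1 : S) ⊗ₜ[R] x ∈
      I.map (Algebra.TensorProduct.includeRight : P →ₐ[R] S ⊗[R] P)) : x ∈ I := by
  have hsurj : Function.Surjective (Ideal.Quotient.mkₐ R I) := Ideal.Quotient.mkₐ_surjective R I
  have hker := Algebra.TensorProduct.lTensor_ker (A := S) (Ideal.Quotient.mkₐ R I) hsurj
  have hk : RingHom.ker (Ideal.Quotient.mkₐ R I) = I := by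
    ext y
    simp [RingHom.mem_ker, Ideal.Quotient.eq_zero_iff_mem]
  rw [hk] at hker
  rw [← hker] at hx
  have h0 : (1 : S) ⊗ₜ[R] (Ideal.Quotient.mk I x) = 0 := by
    have := (RingHom.mem_ker).mp hx
    simpa using this
  have := eq_zero_of_one_tmul_eq_zero R S h (P ⧸ I) _ h0
  exact Ideal.Quotient.eq_zero_iff_mem.mp this

/-- Finite generation of ideals descends along universally injective maps. -/
theorem fg_of_fg_map (R S : Type u) [CommRing R] [CommRing S] [Algebra R S]
    (h : Pi1.UnivInjective R S) (P : Type u) [CommRing P] [Algebra R P] (I : Ideal P)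
    (hI : (I.map (Algebra.TensorProduct.includeRight : P →ₐ[R] S ⊗[R] P)).FG) : I.FG := by
  classical
  set φ : P →ₐ[R] S ⊗[R] P := Algebra.TensorProduct.includeRight
  have hI' : (Submodule.span (S ⊗[R] P) (φ '' (I : Set P))).FG := hI
  rw [Submodule.fg_span_iff_fg_span_finset_subset] at hI'
  obtain ⟨s', hs', hspan⟩ := hI'
  rw [Finset.subset_set_image_iff] at hs'
  obtain ⟨t, ht, rfl⟩ := hs'
  refine ⟨t, le_antisymm (Ideal.span_le.mpr ht) ?_⟩
  intro x hx
  apply mem_of_tmul_mem_map R S h P (Ideal.span (t : Set P)) x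
  have h1 : (1 : S) ⊗ₜ[R] x ∈ I.map φ := Ideal.mem_map_of_mem φ hx
  have h2 : I.map φ = (Ideal.span (t : Set P)).map φ := by
    rw [Ideal.map_span]
    change Submodule.span (S ⊗[R] P) (φ '' (I : Set P)) = _
    rw [hspan]
    simp [Ideal.span]
  rw [← h2]
  exact h1

attribute [local instance] Algebra.TensorProduct.rightAlgebra in
/-- Let R -> S be universally injective and A an R-algebra such that S ⊗_R A is of finite presentation
over S. Then A is of finite presentation over R. -/
theorem result (R S : Type u) [CommRing R] [CommRing S] [Algebra R S]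
    (h : Pi1.UnivInjective R S) (A : Type u) [CommRing A] [Algebra R A]
    [Algebra.FinitePresentation S (S ⊗[R] A)] : Algebra.FinitePresentation R A := by
  have : Algebra.FiniteType R A := Groth.Agent.S0277.result R S h A
  rw [Algebra.FiniteType.iff_quotient_mvPolynomial''] at this
  obtain ⟨n, f, hf⟩ := this
  let fT := Algebra.TensorProduct.map (.id S S) f
  refine .of_surjective hf (fg_of_fg_map R S h _ _ ?_)
  have : (RingHom.ker f.toRingHom).map
      (Algebra.TensorProduct.includeRight : MvPolynomial (Fin n) R →ₐ[R] S ⊗[R] MvPolynomial (Fin n) R)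
        = RingHom.ker fT :=
    (Algebra.TensorProduct.lTensor_ker f hf).symm
  rw [this]
  apply Algebra.FinitePresentation.ker_fG_of_surjective
  exact Algebra.FiniteType.baseChangeAux_surj S hf

end Groth.Agent.S0278
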