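import Groth.Statements.S0279
import Groth.Agent.S0278
import Mathlib.RingTheory.Etale.Descent

set_option autoImplicit false
universe u
open scoped TensorProduct
open Pi1

namespace Groth.Agent.S0279

open Groth.Agent.S0278 in
/-- The equalizer property: for a universally injective `R → S`, an `R`-linear map `j : M → M'`
and `y : M'` such that `1 ⊗ y` lies in the image of `S ⊗ j`, the element `y` lies in the image
of `j`. -/
theorem mem_range_of_eq (R S : Type u) [CommRing R] [CommRing S] [Algebra R S]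
    (h : Pi1.UnivInjective R S) (M M' : Type u) [AddCommGroup M] [Module R M]
    [AddCommGroup M'] [Module R M'] (j : M →ₗ[R] M') (y : M') (z : S ⊗[R] M)
    (hy : (1 : S) ⊗ₜ[R] y = LinearMap.lTensor S j z) :
    y ∈ LinearMap.range j := by
  have h1 : LinearMap.lTensor S (LinearMap.range j).mkQ ((1 : S) ⊗ₜ[R] y) = 0 := by
    rw [hy, ← LinearMap.comp_apply, ← LinearMap.lTensor_comp, LinearMap.range_mkQ_comp]
    simp
  rw [LinearMap.lTensor_tmul] at h1
  have := eq_zero_of_one_tmul_eq_zero R S h _ _ h1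
  simpa using this

/-- Base change of a surjection with nilpotent kernel has nilpotent kernel. -/
theorem ker_map_nil (R S : Type u) [CommRing R] [CommRing S] [Algebra R S]
    (C D : Type u) [CommRing C] [CommRing D] [Algebra R C] [Algebra R D] (p : C →ₐ[R] D)
    (hp : Function.Surjective p) (hsq : IsNilpotent (RingHom.ker (p : C →+* D))) :
    IsNilpotent (RingHom.ker
      ((Algebra.TensorProduct.map (AlgHom.id R S) p : S ⊗[R] C →ₐ[R] S ⊗[R] D) :
        S ⊗[R] C →+* S ⊗[R] D)) := by
  obtain ⟨n, hn⟩ := hsq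
  refine ⟨n, ?_⟩
  rw [RingHom.ker_coe_toRingHom] at hn ⊢
  rw [Algebra.TensorProduct.lTensor_ker p hp, ← Ideal.map_pow, hn]
  simp

theorem second_level (R : Type u) [CommRing R] (A B' Q' T T' : Type u)
    [CommRing A] [CommRing B'] [CommRing Q'] [CommRing T] [CommRing T']
    [Algebra R A] [Algebra R B'] [Algebra R Q'] [Algebra R T] [Algebra R T']
    [Algebra.FormallyUnramified R A]
    (π' : B' →ₐ[R] Q') (πT : T →ₐ[R] T') (hπT : IsNilpotent (RingHom.ker (πT : T →+* T')))
    (d0 d1 : B' →ₐ[R] T) (e0 e1 : Q' →ₐ[R] T')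
    (h0 : πT.comp d0 = e0.comp π') (h1 : πT.comp d1 = e1.comp π')
    (LA : A →ₐ[R] B') (hLA : ∀ a, e0 (π' (LA a)) = e1 (π' (LA a))) :
    d0.comp LA = d1.comp LA := by
  apply Algebra.FormallyUnramified.lift_unique' πT hπT
  apply AlgHom.ext
  intro a
  have e0' := AlgHom.congr_fun h0 (LA a)
  have e1' := AlgHom.congr_fun h1 (LA a)
  simp only [AlgHom.comp_apply] at e0' e1' ⊢
  rw [e0', e1', hLA]

theorem formallyUnramified (R S : Type u) [CommRing R] [CommRing S] [Algebra R S]
    (h : Pi1.UnivInjective R S) (A : Type u) [CommRing A] [Algebra R A]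
    [Algebra.FormallyUnramified S (S ⊗[R] A)] : Algebra.FormallyUnramified R A := by
  constructor
  let _ : Algebra A (S ⊗[R] A) := Algebra.TensorProduct.rightAlgebra
  have : Subsingleton (S ⊗[R] Ω[A⁄R]) :=
    (KaehlerDifferential.tensorKaehlerEquivBase R S A (S ⊗[R] A)).subsingleton
  have : Subsingleton (Ω[A⁄R] ⊗[R] S) := (TensorProduct.comm R Ω[A⁄R] S).toEquiv.subsingleton
  exact Groth.Agent.S0277.subsingleton_of_tensor R S h _

theorem includeRight_injective (R S : Type u) [CommRing R] [CommRing S] [Algebra R S]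
    (h : Pi1.UnivInjective R S) (B : Type u) [CommRing B] [Algebra R B] :
    Function.Injective (Algebra.TensorProduct.includeRight : B →ₐ[R] S ⊗[R] B) := by
  intro a b hab
  have : (1 : S) ⊗ₜ[R] (a - b) = 0 := by
    rw [TensorProduct.tmul_sub]
    exact sub_eq_zero.mpr hab
  exact sub_eq_zero.mp (Groth.Agent.S0278.eq_zero_of_one_tmul_eq_zero R S h _ _ this)

/-- The two coface maps agree on elements of the form `1 ⊗ q`. -/
theorem coface_eq (R S : Type u) [CommRing R] [CommRing S] [Algebra R S]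
    (Q : Type u) [CommRing Q] [Algebra R Q] (q : Q) :
    (Algebra.TensorProduct.includeRight : S ⊗[R] Q →ₐ[R] S ⊗[R] (S ⊗[R] Q)) ((1 : S) ⊗ₜ[R] q) =
      (Algebra.TensorProduct.map (AlgHom.id R S)
        (Algebra.TensorProduct.includeRight : Q →ₐ[R] S ⊗[R] Q)) ((1 : S) ⊗ₜ[R] q) := by
  simp

/-- A lift over `S` descends to a lift over `R`, given that its restriction to `A` equalizes
the two coface maps. -/
theorem descend_lift (R S : Type u) [CommRing R] [CommRing S] [Algebra R S]
    (h : Pi1.UnivInjective R S) (A B Q : Type u) [CommRing A] [Algebra R A]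
    [CommRing B] [Algebra R B] [CommRing Q] [Algebra R Q] (π : B →ₐ[R] Q) (g : A →ₐ[R] Q)
    (LA : A →ₐ[R] S ⊗[R] B)
    (hLA : ∀ a, Algebra.TensorProduct.map (AlgHom.id R S) π (LA a) = (1 : S) ⊗ₜ[R] g a)
    (heq : (Algebra.TensorProduct.includeRight : S ⊗[R] B →ₐ[R] S ⊗[R] (S ⊗[R] B)).comp LA =
      (Algebra.TensorProduct.map (AlgHom.id R S)
        (Algebra.TensorProduct.includeRight : B →ₐ[R] S ⊗[R] B)).comp LA) :
    ∃ f : A →ₐ[R] B, π.comp f = g := by
  let inclB : B →ₐ[R] S ⊗[R] B := Algebra.TensorProduct.includeRight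
  let inclQ : Q →ₐ[R] S ⊗[R] Q := Algebra.TensorProduct.includeRight
  have hrange : ∀ a, LA a ∈ (inclB.range : Subalgebra R (S ⊗[R] B)) := by
    intro a
    have := AlgHom.congr_fun heq a
    simp only [AlgHom.comp_apply] at this
    have hm := mem_range_of_eq R S h B (S ⊗[R] B) inclB.toLinearMap (LA a) (LA a) this
    obtain ⟨b, hb⟩ := hm
    exact ⟨b, hb⟩
  have hinjB : Function.Injective inclB := includeRight_injective R S h B
  have hinjQ : Function.Injective inclQ := includeRight_injective R S h Q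
  let f : A →ₐ[R] B :=
    (AlgEquiv.ofInjective inclB hinjB).symm.toAlgHom.comp (LA.codRestrict inclB.range hrange)
  have hf : ∀ a, inclB (f a) = LA a := by
    intro a
    have := (AlgEquiv.ofInjective inclB hinjB).apply_symm_apply (LA.codRestrict inclB.range hrange a)
    exact congrArg Subtype.val this
  refine ⟨f, ?_⟩
  apply AlgHom.ext
  intro a
  apply hinjQ
  have h3 : inclQ (π (f a)) = Algebra.TensorProduct.map (AlgHom.id R S) π (inclB (f a)) := by
    simp [inclQ, inclB]
  simp only [AlgHom.comp_apply]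
  rw [h3, hf, hLA]
  rfl

theorem exists_lift (R S : Type u) [CommRing R] [CommRing S] [Algebra R S]
    (h : Pi1.UnivInjective R S) (A : Type u) [CommRing A] [Algebra R A]
    [Algebra.FormallyEtale S (S ⊗[R] A)] (B : Type u) [CommRing B] [Algebra R B] (I : Ideal B)
    (hI : I ^ 2 = ⊥) (g : A →ₐ[R] B ⧸ I) :
    ∃ f : A →ₐ[R] B, (Ideal.Quotient.mkₐ R I).comp f = g := by
  have hunr : Algebra.FormallyUnramified R A := formallyUnramified R S h A
  set π : B →ₐ[R] B ⧸ I := Ideal.Quotient.mkₐ R I with hπdef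
  have hπ : Function.Surjective π := Ideal.Quotient.mkₐ_surjective R I
  have hπnil : IsNilpotent (RingHom.ker (π : B →+* B ⧸ I)) := by
    refine ⟨2, ?_⟩
    have hkπ : RingHom.ker (π : B →+* B ⧸ I) = I := by
      ext y
      simp [π]
    rw [hkπ, hI]
    rfl
  -- base change to `S`
  let πS : S ⊗[R] B →ₐ[S] S ⊗[R] (B ⧸ I) := Algebra.TensorProduct.map (AlgHom.id S S) π
  let πSR : S ⊗[R] B →ₐ[R] S ⊗[R] (B ⧸ I) := Algebra.TensorProduct.map (AlgHom.id R S) π
  have hπSR : ∀ x, πS x = πSR x := fun _ => rfl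
  have hπS : Function.Surjective πS := LinearMap.lTensor_surjective S hπ
  have hπSR' : Function.Surjective πSR := hπS
  have hπSRnil := ker_map_nil R S B (B ⧸ I) π hπ hπnil
  have hπSnil : IsNilpotent (RingHom.ker (πS : S ⊗[R] B →+* S ⊗[R] (B ⧸ I))) := hπSRnil
  let G : S ⊗[R] A →ₐ[S] S ⊗[R] (B ⧸ I) := Algebra.TensorProduct.map (AlgHom.id S S) g
  let L : S ⊗[R] A →ₐ[S] S ⊗[R] B := Algebra.FormallySmooth.liftOfSurjective G πS hπS hπSnil
  have hL : ∀ x, πS (L x) = G x :=
    Algebra.FormallySmooth.liftOfSurjective_apply G πS hπS hπSnil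
  let inclA : A →ₐ[R] S ⊗[R] A := Algebra.TensorProduct.includeRight
  let LA : A →ₐ[R] S ⊗[R] B := (L.restrictScalars R).comp inclA
  have hLa : ∀ a, πSR (LA a) = (1 : S) ⊗ₜ[R] g a := by
    intro a
    have := hL (inclA a)
    simpa [LA, G, inclA, hπSR] using this
  have hπTnil := ker_map_nil R S _ _ πSR hπSR' hπSRnil
  refine descend_lift R S h A B (B ⧸ I) π g LA hLa ?_
  refine second_level R A _ _ _ _ πSR _ hπTnil _ _ Algebra.TensorProduct.includeRight
    (Algebra.TensorProduct.map (AlgHom.id R S) Algebra.TensorProduct.includeRight) ?_ ?_ LA ?_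
  · exact Algebra.TensorProduct.map_comp_includeRight _ _
  · rw [← Algebra.TensorProduct.map_id_comp, ← Algebra.TensorProduct.map_id_comp]
    congr 1
  · intro a
    rw [hLa]
    exact coface_eq R S (B ⧸ I) (g a)

/-- Let R → S be a universally injective ring map and A an R-algebra such that S ⊗_R A is étale over S.
Then A is étale over R. -/
theorem result (R S : Type u) [CommRing R] [CommRing S] [Algebra R S]
    (h : Pi1.UnivInjective R S) (A : Type u) [CommRing A] [Algebra R A]
    [Algebra.Etale S (S ⊗[R] A)] : Algebra.Etale R A := by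
  have hfp : Algebra.FinitePresentation R A := Groth.Agent.S0278.result R S h A
  have hunr : Algebra.FormallyUnramified R A := formallyUnramified R S h A
  have hfe : Algebra.FormallyEtale R A := by
    rw [Algebra.FormallyEtale.iff_comp_bijective]
    intro B _ _ I hI
    refine ⟨Algebra.FormallyUnramified.comp_injective I hI, ?_⟩
    intro g
    exact exists_lift R S h A B I hI g
  exact ⟨hfe, hfp⟩

end Groth.Agent.S0279
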