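import Groth.Statements.S0281
import Groth.Agent.Lib.EtaleCharP57g
-- import your own Groth.Agent.* helpers here

set_option autoImplicit false
universe u
open scoped TensorProduct
open Pi1

namespace Groth.Agent.S0281

section
open Groth.Agent.Lib.EtaleCharP57 TensorProduct

/-- the surjection onto `B` from the restriction to `V(I)` of a `P`-algebra mapping onto `B` -/
theorem exists_psi {P : Type u} [CommRing P] (I : Ideal P) (B : Type u) [CommRing B]
    [Algebra (P ⧸ I) B] (C : Type u) [CommRing C] [Algebra P C] (π : C →+* B)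
    (hπ : Function.Surjective π)
    (hcomm : ∀ r : P, π (algebraMap P C r) = algebraMap (P ⧸ I) B (Ideal.Quotient.mk I r)) :
    ∃ ψ : (P ⧸ I) ⊗[P] C →ₐ[P ⧸ I] B, Function.Surjective ψ := by
  letI algPB : Algebra P B := ((algebraMap (P ⧸ I) B).comp (Ideal.Quotient.mk I)).toAlgebra
  haveI : IsScalarTower P (P ⧸ I) B := IsScalarTower.of_algebraMap_eq (fun _ => rfl)
  let πa : C →ₐ[P] B := { π with commutes' := hcomm }
  refine ⟨Algebra.TensorProduct.lift (Algebra.ofId (P ⧸ I) B) πa (fun _ _ => Commute.all _ _), ?_⟩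
  intro b
  obtain ⟨c, rfl⟩ := hπ b
  refine ⟨1 ⊗ₜ c, ?_⟩
  rw [Algebra.TensorProduct.lift_tmul, map_one, one_mul]
  rfl

end

/-- Let k be a field of characteristic p > 0, I an ideal of the polynomial ring P in n variables over k,
and B a finite etale algebra over P/I. Then there are a finite etale P-algebra C and a surjective
P/I-algebra map from (P/I) ⊗_P C onto B (so Spec B is an open and closed subscheme of Spec C
restricted to V(I)). -/
theorem result (k : Type u) [Field k] (p : ℕ)
    [Fact p.Prime] [CharP k p] (n : ℕ) (I : Ideal (MvPolynomial (Fin n) k)) (B : Type u) [CommRing B]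
    [Algebra (MvPolynomial (Fin n) k ⧸ I) B] [Module.Finite (MvPolynomial (Fin n) k ⧸ I) B]
    [Algebra.Etale (MvPolynomial (Fin n) k ⧸ I) B] :
    ∃ (C : Type u) (_ : CommRing C) (_ : Algebra (MvPolynomial (Fin n) k) C),
      Module.Finite (MvPolynomial (Fin n) k) C ∧ Algebra.Etale (MvPolynomial (Fin n) k) C ∧
      ∃ ψ : (MvPolynomial (Fin n) k ⧸ I) ⊗[MvPolynomial (Fin n) k] C →ₐ[MvPolynomial (Fin n) k ⧸ I] B,
        Function.Surjective ψ := by
  rcases subsingleton_or_nontrivial B with hs | hn
  · refine ⟨MvPolynomial (Fin n) k, inferInstance, inferInstance, inferInstance, inferInstance, ?_⟩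
    refine exists_psi I B (MvPolynomial (Fin n) k)
      ((algebraMap (MvPolynomial (Fin n) k ⧸ I) B).comp (Ideal.Quotient.mk I))
      (fun b => ⟨0, Subsingleton.elim _ _⟩) (fun r => rfl)
  · haveI : Nontrivial (MvPolynomial (Fin n) k ⧸ I) := by
      by_contra h
      rw [not_nontrivial_iff_subsingleton] at h
      haveI := Module.subsingleton (MvPolynomial (Fin n) k ⧸ I) B
      exact not_subsingleton B inferInstance
    haveI : CharP (MvPolynomial (Fin n) k ⧸ I) p :=
      charP_of_injective_algebraMap (algebraMap k (MvPolynomial (Fin n) k ⧸ I)).injective p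
    haveI : CharP B p :=
      charP_of_injective_ringHom
        (f := (algebraMap (MvPolynomial (Fin n) k ⧸ I) B).comp
          (algebraMap k (MvPolynomial (Fin n) k ⧸ I))) (RingHom.injective _) p
    obtain ⟨m, e, ξ, hξm, hξd, π, hπ, hcomm⟩ :=
      Groth.Agent.Lib.EtaleCharP57.exists_cover p I B
    exact ⟨Groth.Agent.Lib.EtaleCharP57.SysQuot p e ξ, inferInstance, inferInstance,
      Groth.Agent.Lib.EtaleCharP57.finite_sysQuot p e ξ hξm hξd,
      Groth.Agent.Lib.EtaleCharP57.etale_sysQuot p e ξ, exists_psi I B _ π hπ hcomm⟩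

end Groth.Agent.S0281
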