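import Groth.Statements.S0282
import Groth.Agent.Lib.EtaleCharP57g
import Mathlib.RingTheory.RingHom.Etale
-- import your own Groth.Agent.* helpers here

set_option autoImplicit false
universe u
open scoped TensorProduct
open Pi1

namespace Groth.Agent.S0282

section
open Groth.Agent.Lib.EtaleCharP57 TensorProduct

/-- the surjection onto `B` from the base change of an `R`-algebra mapping onto `B` -/
theorem exists_psi {R A : Type u} [CommRing R] [CommRing A] [Algebra R A] (B : Type u) [CommRing B]
    [Algebra A B] (C : Type u) [CommRing C] [Algebra R C] (π : C →+* B)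
    (hπ : Function.Surjective π)
    (hcomm : ∀ r : R, π (algebraMap R C r) = algebraMap A B (algebraMap R A r)) :
    ∃ ψ : A ⊗[R] C →ₐ[A] B, Function.Surjective ψ := by
  letI algRB : Algebra R B := ((algebraMap A B).comp (algebraMap R A)).toAlgebra
  haveI : IsScalarTower R A B := IsScalarTower.of_algebraMap_eq (fun _ => rfl)
  let πa : C →ₐ[R] B := { π with commutes' := hcomm }
  refine ⟨Algebra.TensorProduct.lift (Algebra.ofId A B) πa (fun _ _ => Commute.all _ _), ?_⟩
  intro b
  obtain ⟨c, rfl⟩ := hπ b
  refine ⟨1 ⊗ₜ c, ?_⟩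
  rw [Algebra.TensorProduct.lift_tmul, map_one, one_mul]
  rfl

end

/-- Let R be a ring of prime characteristic p, A a quotient ring of R and B a finite étale A-algebra.
Then there are a finite étale R-algebra C and a surjective A-algebra homomorphism from A ⊗_R C onto
B. (This covering-level statement yields the injectivity of π₁(Spec A) → π₁(Spec R).) -/
theorem result (p : ℕ) [Fact p.Prime] (R A B : Type u)
    [CommRing R] [CommRing A] [CommRing B] [CharP R p] [Algebra R A]
    (hRA : Function.Surjective (algebraMap R A)) [Algebra A B] [Module.Finite A B]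
    [Algebra.Etale A B] :
    ∃ (C : Type u) (_ : CommRing C) (_ : Algebra R C), Module.Finite R C ∧ Algebra.Etale R C ∧
      ∃ ψ : A ⊗[R] C →ₐ[A] B, Function.Surjective ψ := by
  rcases subsingleton_or_nontrivial B with hs | hn
  · refine ⟨R, inferInstance, inferInstance, inferInstance, inferInstance, ?_⟩
    exact exists_psi B R ((algebraMap A B).comp (algebraMap R A))
      (fun b => ⟨0, Subsingleton.elim _ _⟩) (fun r => rfl)
  · haveI : Nontrivial A := by
      by_contra h
      rw [not_nontrivial_iff_subsingleton] at h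
      haveI := Module.subsingleton A B
      exact not_subsingleton B inferInstance
    have hpA : ((p : ℕ) : A) = 0 := by
      rw [← map_natCast (algebraMap R A), CharP.cast_eq_zero, map_zero]
    haveI : CharP A p := (CharP.charP_iff_prime_eq_zero (Fact.out : p.Prime)).mpr hpA
    have hpB : ((p : ℕ) : B) = 0 := by
      rw [← map_natCast (algebraMap A B), hpA, map_zero]
    haveI : CharP B p := (CharP.charP_iff_prime_eq_zero (Fact.out : p.Prime)).mpr hpB
    set I : Ideal R := RingHom.ker (algebraMap R A) with hI
    let e : R ⧸ I ≃+* A := RingHom.quotientKerEquivOfSurjective hRA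
    have he : ∀ r : R, e (Ideal.Quotient.mk I r) = algebraMap R A r := fun r => rfl
    letI algQA : Algebra (R ⧸ I) A := e.toRingHom.toAlgebra
    letI algQB : Algebra (R ⧸ I) B := ((algebraMap A B).comp e.toRingHom).toAlgebra
    haveI : IsScalarTower (R ⧸ I) A B := IsScalarTower.of_algebraMap_eq (fun _ => rfl)
    haveI : Module.Finite (R ⧸ I) A :=
      Module.Finite.of_surjective (Algebra.linearMap (R ⧸ I) A) e.surjective
    haveI : Module.Finite (R ⧸ I) B := Module.Finite.trans A B
    haveI : Algebra.Etale (R ⧸ I) A := RingHom.Etale.of_bijective e.bijective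
    haveI : Algebra.Etale (R ⧸ I) B := Algebra.Etale.comp (R ⧸ I) A B
    have hpQ : ((p : ℕ) : R ⧸ I) = 0 := by
      rw [← map_natCast (Ideal.Quotient.mk I), CharP.cast_eq_zero, map_zero]
    haveI : Nontrivial (R ⧸ I) := e.nontrivial
    haveI : CharP (R ⧸ I) p := (CharP.charP_iff_prime_eq_zero (Fact.out : p.Prime)).mpr hpQ
    obtain ⟨m, ee, ξ, hξm, hξd, π, hπ, hcomm⟩ :=
      Groth.Agent.Lib.EtaleCharP57.exists_cover p I B
    refine ⟨Groth.Agent.Lib.EtaleCharP57.SysQuot p ee ξ, inferInstance, inferInstance,
      Groth.Agent.Lib.EtaleCharP57.finite_sysQuot p ee ξ hξm hξd,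
      Groth.Agent.Lib.EtaleCharP57.etale_sysQuot p ee ξ, exists_psi B _ π hπ ?_⟩
    intro r
    rw [hcomm r]
    rfl

end Groth.Agent.S0282
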