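import Groth.Statements.S0289
-- import your own Groth.Agent.* helpers here
import Groth.Agent.S0283
import Groth.Agent.Lib.UHEtDesc2H52

set_option autoImplicit false
universe u
open Pi1

namespace Groth.Agent.S0289

open AlgebraicGeometry CategoryTheory CategoryTheory.Limits in
/-- A morphism of schemes which is integral, universally injective and surjective (equivalently, a
universal homeomorphism) induces by base change an equivalence between the categories of finite
étale covers. -/
theorem result {X Y : Scheme.{u}} (f : X ⟶ Y) [IsIntegralHom f] [UniversallyInjective f] [Surjective f] :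
    (FEt.restrict f).IsEquivalence := by
  obtain ⟨hfull, hfaith⟩ := Groth.Agent.S0283.result f
  have hess : (FEt.restrict f).EssSurj := by
    constructor
    intro E
    have h1 : IsFinite E.hom := E.prop.1
    have h2 : Etale E.hom := E.prop.2
    have h1' : IsAffineHom (Over.mk E.hom).hom := inferInstanceAs (IsAffineHom E.hom)
    have h2' : Etale (Over.mk E.hom).hom := h2
    obtain ⟨U, hqc, hsep, het, ⟨e⟩⟩ :=
      Groth.Agent.Lib.UHEtDescH52.exists_etale_pullback_iso f (Over.mk E.hom)
    have hw : e.hom.left ≫ E.hom = pullback.snd U.hom f := Over.w e.hom
    have hfin : IsFinite U.hom := by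
      apply Groth.Agent.Lib.UHEtDescH52.isFinite_of_pullback f U
      have h0 : IsIso e.hom.left := inferInstanceAs (IsIso ((Over.forget _).map e.hom))
      have h3 : IsFinite (pullback.snd U.hom f) := by
        rw [← hw]
        infer_instance
      have h4 : pullback.fst f U.hom = (pullbackSymmetry f U.hom).hom ≫ pullback.snd U.hom f := by
        simp
      rw [h4]
      infer_instance
    refine ⟨MorphismProperty.Over.mk ⊤ U.hom ⟨hfin, het⟩, ⟨?_⟩⟩
    exact MorphismProperty.Over.isoMk ((Over.forget _).mapIso e) hw
  exact { faithful := hfaith, full := hfull, essSurj := hess }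

end Groth.Agent.S0289
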