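import Groth.Statements.S0286
-- import your own Groth.Agent.* helpers here
import Groth.Agent.S0289
import Groth.Agent.Lib.UHRingH52

set_option autoImplicit false
universe u
open Pi1

namespace Groth.Agent.S0286

open Groth.Agent.Lib.UHRingH52 in
theorem isUH_perfectClosure (k : Type u) [Field k] (p : ℕ) [Fact p.Prime] [CharP k p] :
    IsUH (PerfectClosure.of k p) := by
  have key : ∀ y : PerfectClosure k p, ∃ (n : ℕ) (x : k), y ^ p ^ n = PerfectClosure.of k p x := by
    intro y
    obtain ⟨⟨n, x⟩, rfl⟩ := PerfectClosure.mk_surjective k p y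
    refine ⟨n, x, ?_⟩
    rw [← PerfectClosure.iterate_frobenius_mk, iterate_frobenius]
  refine ⟨?_, ?_, ?_⟩
  · intro y
    obtain ⟨n, x, h⟩ := key y
    refine ⟨Polynomial.X ^ p ^ n - Polynomial.C x,
      Polynomial.monic_X_pow_sub_C x (pow_ne_zero _ (Fact.out : p.Prime).ne_zero), ?_⟩
    simp [h]
  · intro P
    exact ⟨default, Subsingleton.elim _ _⟩
  · intro K _ g₁ g₂ hg
    have hc : CharP K p := charP_of_injective_ringHom g₁.injective p
    apply RingHom.ext
    intro y
    obtain ⟨n, x, h⟩ := key y
    have h1 : g₁ y ^ p ^ n = g₂ y ^ p ^ n := by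
      rw [← map_pow, ← map_pow, h]
      exact RingHom.congr_fun hg x
    rw [← iterate_frobenius, ← iterate_frobenius] at h1
    exact (frobenius_inj K p).iterate n h1

open AlgebraicGeometry CategoryTheory CategoryTheory.Limits in
/-- For a scheme X over a field k of characteristic p (p a prime), pulling back finite étale covers
along the projection X ×_{Spec k} Spec(k^perf) → X, where k^perf is the perfect closure of k, is an
equivalence of categories. -/
theorem result (k : Type u) [Field k] (p : ℕ) [Fact p.Prime] [CharP k p] {X : Scheme.{u}}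
    (f : X ⟶ Spec (CommRingCat.of k)) :
    (FEt.restrict (pullback.fst f
      (Spec.map (CommRingCat.ofHom (PerfectClosure.of k p))))).IsEquivalence := by
  let g : Spec (CommRingCat.of (PerfectClosure k p)) ⟶ Spec (CommRingCat.of k) :=
    Spec.map (CommRingCat.ofHom (PerfectClosure.of k p))
  have hg : FlatMor.IsUnivHomeo g :=
    (Groth.Agent.Lib.UHRingH52.isUnivHomeo_iff (PerfectClosure.of k p)).mpr
      (isUH_perfectClosure k p)
  obtain ⟨i1, i2, i3⟩ :=
    (Groth.Agent.Lib.UnivHomeo.iff_isIntegralHom_universallyInjective_surjective g).mp hg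
  have j1 : IsIntegralHom (pullback.fst f g) :=
    MorphismProperty.of_isPullback (P := @IsIntegralHom) (IsPullback.of_hasPullback f g).flip i1
  have j2 : UniversallyInjective (pullback.fst f g) :=
    MorphismProperty.of_isPullback (P := @UniversallyInjective)
      (IsPullback.of_hasPullback f g).flip i2
  have j3 : Surjective (pullback.fst f g) :=
    MorphismProperty.of_isPullback (P := @Surjective) (IsPullback.of_hasPullback f g).flip i3
  exact Groth.Agent.S0289.result (pullback.fst f g)

end Groth.Agent.S0286
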