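-- Statement S0288.
import Groth.Statements.S0288
import Groth.Agent.Lib.H30UnramNormal
import Groth.Agent.S9821
import Mathlib

set_option autoImplicit false
universe u
open Pi1

namespace Groth.Agent.S0288

section Helpers

open AlgebraicGeometry CategoryTheory CategoryTheory.Limits
open Groth.Agent.Lib.H30UnramNormal

/-- Sections version: for a dominant quasi-compact quasi-separated `g : Z ⟶ X` from an integral scheme to
a normal integral scheme whose relative normalization is unramified, the ring map on every nonempty
affine open is étale. -/
theorem etale_appLE {X Z : Scheme.{u}} [IsIntegral X] [IsIntegral Z] (hX : Pi1.IsNormalScheme X)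
    (g : Z ⟶ X) [QuasiCompact g] [QuasiSeparated g] [IsDominant g]
    [FormallyUnramified g.fromNormalization] [LocallyOfFiniteType g.fromNormalization]
    (V : X.Opens) (hV : IsAffineOpen V) [Nonempty V] (W : g.normalization.Opens)
    (hW : W = g.fromNormalization ⁻¹ᵁ V) :
    RingHom.Etale (g.fromNormalization.appLE V W hW.le).hom := by
  subst hW
  set h := g.fromNormalization with hh
  have hfin : IsFinite h :=
    (IsFinite.iff_isIntegralHom_and_locallyOfFiniteType h).mpr ⟨inferInstance, inferInstance⟩
  have hdom : IsDominant h := by
    have : IsDominant (g.toNormalization ≫ h) := by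
      rw [hh, Scheme.Hom.toNormalization_fromNormalization]; infer_instance
    exact IsDominant.of_comp (f := g.toNormalization) (g := h)
  have hstd : IsSchemeTheoreticallyDominant h := .of_isDominant h
  rw [← Scheme.Hom.app_eq_appLE]
  have hic : IsIntegrallyClosed Γ(X, V) := (Groth.Agent.S9821.result X).mp hX V hV
  have hne : Nonempty (h ⁻¹ᵁ V) := by
    obtain ⟨x, hx⟩ := ‹Nonempty V›
    obtain ⟨y, hy⟩ := h.denseRange.exists_mem_open V.isOpen ⟨x, hx⟩
    exact ⟨⟨y, hy⟩⟩
  have hfu : RingHom.FormallyUnramified (h.app V).hom := by
    rw [Scheme.Hom.app_eq_appLE]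
    exact HasRingHomProperty.appLE (P := @FormallyUnramified) h inferInstance ⟨V, hV⟩
      ⟨h ⁻¹ᵁ V, hV.preimage h⟩ le_rfl
  have hf : (h.app V).hom.Finite := h.finite_app V hV
  have hinj : Function.Injective (h.app V).hom := h.app_injective V
  algebraize [(h.app V).hom]
  exact etale_of_unramified_of_normal Γ(X, V) Γ(g.normalization, h ⁻¹ᵁ V) hinj


set_option backward.isDefEq.respectTransparency false in
theorem etale_fromNormalization {X Z : Scheme.{u}} [IsIntegral X] [IsIntegral Z]
    (hX : Pi1.IsNormalScheme X)
    (g : Z ⟶ X) [QuasiCompact g] [QuasiSeparated g] [IsDominant g]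
    [FormallyUnramified g.fromNormalization] [LocallyOfFiniteType g.fromNormalization] :
    Etale g.fromNormalization := by
  rw [IsZariskiLocalAtTarget.iff_of_iSup_eq_top (P := @Etale) _ (iSup_affineOpens_eq_top X)]
  intro U
  by_cases hne : Nonempty U.1
  · have : IsAffine (g.fromNormalization ⁻¹ᵁ U.1).toScheme := U.2.preimage _
    have : IsAffine U.1.toScheme := U.2
    rw [HasRingHomProperty.iff_of_isAffine (P := @Etale), Scheme.Hom.appTop, morphismRestrict_app']
    have hV : IsAffineOpen (U.1.ι ''ᵁ ⊤) := by
      rw [Scheme.Opens.ι_image_top]; exact U.2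
    have hVne : Nonempty (U.1.ι ''ᵁ ⊤ : X.Opens).toScheme := by
      rw [Scheme.Opens.ι_image_top]; exact hne
    exact etale_appLE hX g _ hV _ (image_morphismRestrict_preimage g.fromNormalization U.1 ⊤)
  · have : IsEmpty (g.fromNormalization ⁻¹ᵁ U.1).toScheme := by
      constructor
      rintro ⟨y, hy⟩
      exact hne ⟨⟨g.fromNormalization y, hy⟩⟩
    infer_instance

theorem isDominant_generic {X : Scheme.{u}} [IsIntegral X] (L : Type u) [Field L]
    [Algebra X.functionField L] :
    IsDominant (Spec.map (CommRingCat.ofHom (algebraMap X.functionField L)) ≫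
      X.fromSpecStalk (genericPoint X)) := by
  constructor
  have hpt : Nonempty (Spec (CommRingCat.of L)) := inferInstance
  obtain ⟨pt⟩ := hpt
  set g := Spec.map (CommRingCat.ofHom (algebraMap X.functionField L)) ≫
      X.fromSpecStalk (genericPoint X) with hg
  have h1 : g pt ⤳ genericPoint X := by
    have : g pt ∈ Set.range (X.fromSpecStalk (genericPoint X)) := by
      rw [hg]; exact ⟨_, rfl⟩
    rwa [Scheme.range_fromSpecStalk] at this
  have h2 : genericPoint X ⤳ g pt := (genericPoint_spec X).specializes (Set.mem_univ _)
  have h3 : g pt = genericPoint X := (h1.antisymm h2).eq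
  have hd : Dense ({genericPoint X} : Set X) := by
    rw [dense_iff_closure_eq]
    exact (genericPoint_spec X).def
  exact hd.mono (by rintro _ rfl; exact ⟨pt, h3⟩)

end Helpers

open AlgebraicGeometry CategoryTheory CategoryTheory.Limits in
/-- Let X be a normal integral scheme with function field K, L a finite field extension of K and Y -> X
the normalization of X in Spec L. If Y -> X is unramified (formally unramified and locally of finite
type), then it is etale, and finite. -/
theorem result {X : Scheme.{u}} [IsIntegral X] (hX : Pi1.IsNormalScheme X) (L : Type u) [Field L]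
    [Algebra X.functionField L] [FiniteDimensional X.functionField L]
    [QuasiCompact (Spec.map (CommRingCat.ofHom (algebraMap X.functionField L)) ≫ X.fromSpecStalk (genericPoint X))]
    [QuasiSeparated (Spec.map (CommRingCat.ofHom (algebraMap X.functionField L)) ≫ X.fromSpecStalk (genericPoint X))]
    [FormallyUnramified (Spec.map (CommRingCat.ofHom (algebraMap X.functionField L)) ≫ X.fromSpecStalk (genericPoint X)).fromNormalization]
    [LocallyOfFiniteType (Spec.map (CommRingCat.ofHom (algebraMap X.functionField L)) ≫ X.fromSpecStalk (genericPoint X)).fromNormalization] :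
    Etale (Spec.map (CommRingCat.ofHom (algebraMap X.functionField L)) ≫ X.fromSpecStalk (genericPoint X)).fromNormalization ∧
    IsFinite (Spec.map (CommRingCat.ofHom (algebraMap X.functionField L)) ≫ X.fromSpecStalk (genericPoint X)).fromNormalization := by
  have hgdom := isDominant_generic (X := X) L
  exact ⟨etale_fromNormalization hX _,
    (IsFinite.iff_isIntegralHom_and_locallyOfFiniteType _).mpr ⟨inferInstance, inferInstance⟩⟩

end Groth.Agent.S0288
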