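import Groth.Statements.S0291
import Groth.Agent.Lib.HartogsO
import Groth.Agent.Lib.CMRingEquiv96
import Mathlib.RingTheory.Ideal.GoingUp
-- import your own Groth.Agent.* helpers here

set_option autoImplicit false
universe u
open Pi1

namespace Groth.Agent.S0291

open AlgebraicGeometry CategoryTheory CategoryTheory.Limits in
/-- Let A be a Noetherian local ring and B a finite A-algebra such that the local rings of Spec B at all
closed points have depth at least 2. Then restriction from global sections of Spec B to sections
over the preimage of the punctured spectrum of A is an isomorphism. -/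
theorem result (A B : Type u) [CommRing A] [IsNoetherianRing A] [IsLocalRing A] [CommRing B] [Algebra A B]
    [Module.Finite A B]
    (h : ∀ (m : Ideal B) (_ : m.IsMaximal), (2 : ℕ∞) ≤ LocCoh.depth (Localization.AtPrime m) (Localization.AtPrime m)) :
    IsIso ((Spec (CommRingCat.of B)).presheaf.map (homOfLE (le_top :
      Spec.map (CommRingCat.ofHom (algebraMap A B)) ⁻¹ᵁ FEt.puncturedSpec A ≤ ⊤)).op) := by
  haveI : IsNoetherianRing B := IsNoetherianRing.of_finite A B
  haveI : IsNoetherianRing (CommRingCat.of B) := ‹IsNoetherianRing B›
  rw [ConcreteCategory.isIso_iff_bijective]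
  refine Groth.Agent.Lib.Hartogs.resO_bijective
    (Spec.map (CommRingCat.ofHom (algebraMap A B)) ⁻¹ᵁ FEt.puncturedSpec A) ?_ le_top
    (by rw [top_inf_eq])
  intro x hx
  -- `x` lies over the closed point of `Spec A`, hence is a maximal ideal of `B`
  have hx' : (Spec.map (CommRingCat.ofHom (algebraMap A B))) x = IsLocalRing.closedPoint A := by
    by_contra hne
    exact hx hne
  have hcomap : x.asIdeal.comap (algebraMap A B) = IsLocalRing.maximalIdeal A :=
    congrArg PrimeSpectrum.asIdeal hx'
  haveI : Algebra.IsIntegral A B := Algebra.IsIntegral.of_finite A B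
  have hmax : x.asIdeal.IsMaximal := by
    apply Ideal.isMaximal_of_isIntegral_of_isMaximal_comap (R := A)
    rw [hcomap]
    exact IsLocalRing.maximalIdeal.isMaximal A
  have e : Localization.AtPrime x.asIdeal ≃+*
      ((Spec (CommRingCat.of B)).presheaf.stalk x) :=
    (AlgebraicGeometry.StructureSheaf.stalkIso B x).toRingEquiv
  rw [← Groth.Agent.Lib.CMRingEquiv96.depth_eq e]
  exact h x.asIdeal hmax

end Groth.Agent.S0291
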