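import Groth.Statements.S0294
import Mathlib.LinearAlgebra.FreeModule.Finite.Matrix

set_option autoImplicit false
universe u
open Pi1

namespace Groth.Agent.S0294

open AlgebraicGeometry CategoryTheory CategoryTheory.Limits in
/-- For a finite étale cover Y of a scheme X and a point ξ : Spec Ω → X with values in a field Ω, the
fibre of Y over ξ (the set of Ω-valued points of Y lying over ξ) is finite. -/
theorem result {X : Scheme.{u}} {Ω : Type u} [Field Ω] (ξ : Spec (CommRingCat.of Ω) ⟶ X) (Y : FEt.Cat X) :
    Finite (FEt.fiberObj ξ Y) := by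
  have hfin : IsFinite Y.hom := Y.prop.1
  let P := pullback Y.hom ξ
  let p2 : P ⟶ Spec (CommRingCat.of Ω) := pullback.snd Y.hom ξ
  have hp2 : IsFinite p2 := inferInstance
  have hP : IsAffine P := isAffine_of_isAffineHom p2
  let K : CommRingCat := Γ(Spec (CommRingCat.of Ω), ⊤)
  let A : CommRingCat := Γ(P, ⊤)
  let φ : K →+* A := p2.appTop.hom
  have hφ : φ.Finite := p2.finite_appTop
  let e : K ≃+* Ω := (Scheme.ΓSpecIso (CommRingCat.of Ω)).commRingCatIsoToRingEquiv
  let alg : Algebra Ω A := (φ.comp e.symm.toRingHom).toAlgebra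
  have hfinA : Module.Finite Ω A := by
    have h1 : (φ.comp e.symm.toRingHom).Finite :=
      RingHom.Finite.comp hφ (RingHom.Finite.of_surjective _ e.symm.surjective)
    exact h1
  -- sections
  let t : FEt.fiberObj ξ Y → (Spec (CommRingCat.of Ω) ⟶ P) := fun s =>
    pullback.lift s.1 (𝟙 _) (by rw [s.2, Category.id_comp])
  have ht2 : ∀ s, t s ≫ p2 = 𝟙 _ := fun s => pullback.lift_snd _ _ _
  have ht1 : ∀ s, t s ≫ pullback.fst Y.hom ξ = s.1 := fun s => pullback.lift_fst _ _ _
  have htop : ∀ s (k : K), (t s).appTop.hom (φ k) = k := by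
    intro s k
    have h1 : p2.appTop ≫ (t s).appTop = 𝟙 _ := by
      rw [← Scheme.Hom.comp_appTop, ht2, Scheme.Hom.id_appTop]
    have := congrArg (fun f => f.hom k) h1
    simpa using this
  let F : FEt.fiberObj ξ Y → (A →ₐ[Ω] Ω) := fun s =>
    { toRingHom := e.toRingHom.comp (t s).appTop.hom
      commutes' := by
        intro ω
        change e ((t s).appTop.hom (φ (e.symm ω))) = ω
        rw [htop]
        exact e.apply_symm_apply ω }
  have hF : Function.Injective F := by
    intro s s' hss
    have h1 : (t s).appTop = (t s').appTop := by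
      ext a
      have := congrArg (fun f : A →ₐ[Ω] Ω => f a) hss
      exact e.injective this
    have h2 : t s = t s' := ext_of_isAffine h1
    apply Subtype.ext
    rw [← ht1 s, ← ht1 s', h2]
  exact Finite.of_injective F hF

end Groth.Agent.S0294
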