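import Groth.Statements.S0300

set_option autoImplicit false
universe u v

namespace Groth.Agent.S0300

/-- Over a Noetherian ring, injectivity of modules is preserved under arbitrary direct sums. -/
theorem result (R : Type u) [CommRing R] [IsNoetherianRing R] {ι : Type u} (E : ι → Type u) [∀ i, AddCommGroup (E i)] [∀ i, Module R (E i)] (hE : ∀ i, Module.Injective R (E i)) : Module.Injective R (DirectSum ι E) := by
  classical
  apply Module.Baer.injective
  intro I g
  have hB : ∀ i, Module.Baer R (E i) := fun i => Module.Baer.of_injective (hE i)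
  obtain ⟨t, ht⟩ : I.FG := IsNoetherian.noetherian I
  change Submodule.span R (t : Set R) = I at ht
  let c : ∀ i, I →ₗ[R] E i := fun i => (DirectSum.component R ι E i).comp g
  let s : Finset ι := t.biUnion fun x => if hx : x ∈ I then DFinsupp.support (g ⟨x, hx⟩) else ∅
  have hc : ∀ i, i ∉ s → ∀ (x : R) (hx : x ∈ I), c i ⟨x, hx⟩ = 0 := by
    intro i hi x hx
    have hx' : x ∈ Submodule.span R (t : Set R) := by rw [ht]; exact hx
    have key : ∀ (y : R) (hy : y ∈ Submodule.span R (t : Set R)),
        c i ⟨y, by rw [← ht]; exact hy⟩ = 0 := by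
      intro y hy
      induction hy using Submodule.span_induction with
      | mem y hyt =>
        have hyI : y ∈ I := by rw [← ht]; exact Submodule.subset_span hyt
        by_contra hne
        apply hi
        rw [Finset.mem_biUnion]
        refine ⟨y, hyt, ?_⟩
        rw [dif_pos hyI, DFinsupp.mem_support_iff]
        exact hne
      | zero =>
        have : (⟨0, by rw [← ht]; exact Submodule.zero_mem _⟩ : I) = 0 := rfl
        rw [this, map_zero]
      | add y z hy hz ihy ihz =>
        have : (⟨y + z, by rw [← ht]; exact Submodule.add_mem _ hy hz⟩ : I) =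
            ⟨y, by rw [← ht]; exact hy⟩ + ⟨z, by rw [← ht]; exact hz⟩ := rfl
        rw [this, map_add, ihy, ihz, add_zero]
      | smul a y hy ihy =>
        have : (⟨a • y, by rw [← ht]; exact Submodule.smul_mem _ a hy⟩ : I) =
            a • ⟨y, by rw [← ht]; exact hy⟩ := rfl
        rw [this, map_smul, ihy, smul_zero]
    exact key x hx'
  choose e he using fun i => hB i I (c i)
  refine ⟨∑ i ∈ s, (DirectSum.lof R ι E i).comp (e i), ?_⟩
  intro x hx
  refine DFinsupp.ext fun j => ?_
  have h1 : ((∑ i ∈ s, (DirectSum.lof R ι E i).comp (e i)) x) j = if j ∈ s then e j x else 0 := by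
    rw [LinearMap.sum_apply, DFinsupp.finsetSum_apply]
    simp only [LinearMap.comp_apply, DirectSum.lof_eq_of]
    by_cases hj : j ∈ s
    · rw [if_pos hj, Finset.sum_eq_single_of_mem j hj]
      · exact DirectSum.of_eq_same j _
      · intro i _ hij
        exact DirectSum.of_eq_of_ne i j _ hij.symm
    · rw [if_neg hj]
      apply Finset.sum_eq_zero
      intro i hi
      apply DirectSum.of_eq_of_ne
      rintro rfl
      exact hj hi
  rw [h1]
  by_cases hj : j ∈ s
  · rw [if_pos hj, he j x hx]
    rfl
  · rw [if_neg hj]
    exact (hc j hj x hx).symm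

end Groth.Agent.S0300
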