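import Groth.Statements.S0312
import Groth.Agent.S11174
import Mathlib.RingTheory.LocalRing.Length
import Mathlib.RingTheory.TensorProduct.Quotient
import Mathlib.Algebra.Module.FinitePresentation

set_option autoImplicit false
universe u v
open Matlis

namespace Groth.Agent.S0312

section aux

open IsLocalRing

variable {A : Type u} [CommRing A] [IsLocalRing A] [IsNoetherianRing A] {B : Type u} [CommRing B]
  [IsLocalRing B] [IsNoetherianRing B] [Algebra A B] [IsLocalHom (algebraMap A B)]
  [Module.Flat A B] {E : Type u} [AddCommGroup E] [Module A E]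

omit [IsNoetherianRing B] [IsLocalHom (algebraMap A B)] [Module.Flat A B] in
/-- The base change of the hull is power torsion for the maximal ideal of `B`. -/
theorem isPowerTorsion_baseChange
    (hm : (maximalIdeal A).map (algebraMap A B) = maximalIdeal B)
    (f : ResidueField A →ₗ[A] E) (hf : InjHull.IsInjectiveHull f) :
    LocCoh.IsPowerTorsion (maximalIdeal B) (TensorProduct A B E) := by
  intro t
  induction t using TensorProduct.induction_on with
  | zero => exact ⟨0, fun a _ => smul_zero a⟩
  | tmul b e =>
    obtain ⟨n, hn⟩ := Groth.Agent.S0311.result A E f hf e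
    refine ⟨n, ?_⟩
    have hle : maximalIdeal B ^ n ≤ Ideal.torsionOf B (TensorProduct A B E) (b ⊗ₜ[A] e) := by
      rw [← hm, ← Ideal.map_pow, Ideal.map_le_iff_le_comap]
      intro a ha
      rw [Ideal.mem_comap, Ideal.mem_torsionOf_iff, algebraMap_smul, ← TensorProduct.tmul_smul,
        hn a ha, TensorProduct.tmul_zero]
    intro a ha
    exact (Ideal.mem_torsionOf_iff _ _).mp (hle ha)
  | add x y hx hy =>
    obtain ⟨n1, h1⟩ := hx
    obtain ⟨n2, h2⟩ := hy
    refine ⟨max n1 n2, fun a ha => ?_⟩
    rw [smul_add, h1 a (Ideal.pow_le_pow_right (le_max_left _ _) ha),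
      h2 a (Ideal.pow_le_pow_right (le_max_right _ _) ha), add_zero]

theorem length_arrowCongr {R : Type*} [CommRing R] {M N P : Type*} [AddCommGroup M] [Module R M]
    [AddCommGroup N] [Module R N] [AddCommGroup P] [Module R P] (e : M ≃ₗ[R] N) :
    Module.length R (M →ₗ[R] P) = Module.length R (N →ₗ[R] P) :=
  (LinearEquiv.arrowCongr e (LinearEquiv.refl R P)).length_eq

omit [IsNoetherianRing B] in
/-- Length count: for an ideal `J` of `A` with `A ⧸ J` of finite length, the dual of `B ⧸ J B` into
`B ⊗ E` has the same length over `B` as `B ⧸ J B`. -/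
theorem length_hom_quot
    (hm : (maximalIdeal A).map (algebraMap A B) = maximalIdeal B)
    (f : ResidueField A →ₗ[A] E) (hf : InjHull.IsInjectiveHull f)
    (J : Ideal A) (hJ : IsFiniteLength A (A ⧸ J)) (b : Ideal B) (hb : J.map (algebraMap A B) = b) :
    Module.length B ((B ⧸ b) →ₗ[B] TensorProduct A B E) = Module.length B (B ⧸ b) := by
  subst hb
  have h1 : Module.length B (B ⧸ (maximalIdeal A).map (algebraMap A B)) = 1 := by
    rw [hm]
    have : IsSimpleModule B (B ⧸ maximalIdeal B) :=
      isSimpleModule_iff_isCoatom.mpr (Ideal.isMaximal_def.mp inferInstance)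
    exact Module.length_eq_one B (B ⧸ maximalIdeal B)
  have : Module.FinitePresentation A (A ⧸ J) := Module.finitePresentation_of_finite A (A ⧸ J)
  have e1 : (B ⧸ J.map (algebraMap A B)) ≃ₗ[B] TensorProduct A B (A ⧸ J) :=
    (Algebra.TensorProduct.quotIdealMapEquivTensorQuot B J).toLinearEquiv
  have hbc := Module.FinitePresentation.isBaseChange_map A (A ⧸ J) E B
  have h3 : Module.length B ((B ⧸ J.map (algebraMap A B)) →ₗ[B] TensorProduct A B E) =
      Module.length B (TensorProduct A B (A ⧸ J) →ₗ[B] TensorProduct A B E) :=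
    length_arrowCongr e1
  have h2 : Module.length B (TensorProduct A B ((A ⧸ J) →ₗ[A] E)) =
      Module.length B (TensorProduct A B (A ⧸ J) →ₗ[B] TensorProduct A B E) :=
    hbc.equiv.length_eq
  rw [h3, ← h2, e1.length_eq, IsLocalRing.length_baseChange, IsLocalRing.length_baseChange, h1,
    mul_one, mul_one, Groth.Agent.S5170.result A E f hf (A ⧸ J) hJ]

end aux


/-- For a flat local homomorphism A → B of Noetherian local rings with m_A B equal to the maximal ideal
of B, tensoring an injective hull of the residue field of A with B gives an injective hull of the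
residue field of B. -/
theorem result (A : Type u) [CommRing A] [IsLocalRing A] [IsNoetherianRing A] (B : Type u) [CommRing B] [IsLocalRing B] [IsNoetherianRing B] [Algebra A B] [IsLocalHom (algebraMap A B)] [Module.Flat A B] (hm : (IsLocalRing.maximalIdeal A).map (algebraMap A B) = IsLocalRing.maximalIdeal B) (E : Type u) [AddCommGroup E] [Module A E] (f : IsLocalRing.ResidueField A →ₗ[A] E) (hf : InjHull.IsInjectiveHull f) : ∃ g : IsLocalRing.ResidueField B →ₗ[B] TensorProduct A B E, InjHull.IsInjectiveHull g := by
  have htors := isPowerTorsion_baseChange hm f hf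
  have hpow : ∀ n : ℕ, (IsLocalRing.maximalIdeal A ^ n).map (algebraMap A B) =
      IsLocalRing.maximalIdeal B ^ n := by
    intro n
    rw [Ideal.map_pow, hm]
  have hres : IsFiniteLength A (A ⧸ IsLocalRing.maximalIdeal A) := by
    have h := Groth.Agent.Lib.H29MatlisEnd.isFiniteLength_quot_pow (R := A) 1
    rwa [pow_one] at h
  have hlen1 := length_hom_quot hm f hf (IsLocalRing.maximalIdeal A) hres
    (IsLocalRing.maximalIdeal B) hm
  have hsimple : IsSimpleModule B (B ⧸ IsLocalRing.maximalIdeal B) :=
    isSimpleModule_iff_isCoatom.mpr (Ideal.isMaximal_def.mp inferInstance)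
  rw [Module.length_eq_one B (B ⧸ IsLocalRing.maximalIdeal B)] at hlen1
  have hs : IsSimpleModule B ((B ⧸ IsLocalRing.maximalIdeal B) →ₗ[B] TensorProduct A B E) :=
    Module.length_eq_one_iff.mp hlen1
  obtain ⟨m, hmax, ⟨e⟩⟩ := isSimpleModule_iff_quot_maximal.mp hs
  obtain rfl := IsLocalRing.eq_maximalIdeal hmax
  refine Groth.Agent.S11174.result B (TensorProduct A B E) htors ⟨e⟩
    (fun n => IsLocalRing.maximalIdeal B ^ n) ?_ ?_ ?_ ?_
  · intro i j hij
    exact Ideal.pow_le_pow_right hij
  · intro n
    exact ⟨n, le_rfl⟩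
  · intro N
    exact ⟨N, le_rfl⟩
  · intro n
    exact (length_hom_quot hm f hf (IsLocalRing.maximalIdeal A ^ n)
      (Groth.Agent.Lib.H29MatlisEnd.isFiniteLength_quot_pow (R := A) n)
      (IsLocalRing.maximalIdeal B ^ n) (hpow n)).symm

end Groth.Agent.S0312
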