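import Groth.Statements.S0328
import Groth.Agent.S0327
import Groth.Agent.S11614
import Groth.Agent.Lib.LocCohRadical9

set_option autoImplicit false
universe u v
open LocCoh

namespace Groth.Agent.S0328

open IsLocalRing


/-- In a Noetherian local ring, if a prime p and a proper ideal I together have radical the maximal
ideal and dim R/p = d ≥ 1, then local cohomology with support in I does not vanish in all degrees ≥
d. -/
theorem result (R : Type u) [CommRing R] [IsLocalRing R] [IsNoetherianRing R] (I : Ideal R) (hI : I ≠ ⊤) (p : Ideal R) [p.IsPrime] (hpI : (p ⊔ I).radical = IsLocalRing.maximalIdeal R) (d : ℕ) (hd : ringKrullDim (R ⧸ p) = d) (hd1 : 1 ≤ d) : ¬ LocCoh.CdLE R I (d - 1) := by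
  intro hcd
  have hsub : Subsingleton (LocCoh.H I d (R ⧸ p)) := hcd (R ⧸ p) d (by omega)
  haveI : IsLocalRing (R ⧸ p) :=
    IsLocalRing.of_surjective' (Ideal.Quotient.mk p) Ideal.Quotient.mk_surjective
  have hrad : (I.map (algebraMap R (R ⧸ p))).radical = (maximalIdeal (R ⧸ p)).radical := by
    rw [Ideal.IsPrime.radical (Ideal.IsMaximal.isPrime' (maximalIdeal (R ⧸ p)))]
    apply Ideal.comap_injective_of_surjective (Ideal.Quotient.mk p) Ideal.Quotient.mk_surjective
    have h1 : Ideal.comap (Ideal.Quotient.mk p) (maximalIdeal (R ⧸ p)) = maximalIdeal R := by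
      haveI := Ideal.comap_isMaximal_of_surjective (Ideal.Quotient.mk p)
        Ideal.Quotient.mk_surjective (K := maximalIdeal (R ⧸ p))
      exact IsLocalRing.eq_maximalIdeal this
    rw [h1, Ideal.comap_radical]
    have h2 : Ideal.comap (Ideal.Quotient.mk p) (I.map (algebraMap R (R ⧸ p))) = p ⊔ I := by
      change Ideal.comap (Ideal.Quotient.mk p) (I.map (Ideal.Quotient.mk p)) = p ⊔ I
      rw [Ideal.comap_map_of_surjective' _ Ideal.Quotient.mk_surjective, Ideal.mk_ker, sup_comm]
    rw [h2, hpI]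
  have h1 := Groth.Agent.S0327.result (R ⧸ p) d hd
  have h2 : Nontrivial (LocCoh.H (I.map (algebraMap R (R ⧸ p))) d (R ⧸ p)) :=
    (Groth.Agent.Lib.LocCohRadical9.HEquiv hrad d (R ⧸ p)).toEquiv.nontrivial
  obtain ⟨φ, -⟩ := Groth.Agent.S11614.result R (R ⧸ p) I (R ⧸ p) d
  have h3 : Nontrivial (LocCoh.H I d (R ⧸ p)) := φ.symm.toEquiv.nontrivial
  exact not_subsingleton _ hsub

end Groth.Agent.S0328
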