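import Groth.Statements.S0333
import Groth.Agent.Lib.LocCohVanishing
import Groth.Agent.Lib.LocCohTorsion
import Mathlib.Tactic

set_option autoImplicit false
universe u v
open LocCoh
open Groth.Agent.Lib.LocCohLES Groth.Agent.Lib.LocCohTorsion Groth.Agent.Lib.LocCohVanishing
  Groth.Agent.Lib.LocCohConcrete

namespace Groth.Agent.S0333

section Helpers

open Groth.Agent.Lib.LocCohLES Groth.Agent.Lib.LocCohTorsion Groth.Agent.Lib.LocCohVanishing
  Groth.Agent.Lib.LocCohConcrete
open scoped TensorProduct Pointwise

variable {R : Type u} [CommRing R]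

/-- dimension drops for proper quotients of `R/q`. -/
lemma supportDim_succ_le (q : Ideal R) [q.IsPrime] {C : Type u} [AddCommGroup C] [Module R C]
    (g : (R ⧸ q) →ₗ[R] C) (hg : Function.Surjective g) (hker : ¬ Function.Injective g) :
    Module.supportDim R C + 1 ≤ Module.supportDim R (R ⧸ q) := by
  rw [← LinearMap.ker_eq_bot] at hker
  obtain ⟨y, hy, hy0⟩ := Submodule.exists_mem_ne_zero_of_ne_bot hker
  obtain ⟨x, rfl⟩ := Ideal.Quotient.mk_surjective y
  have hxq : x ∉ q := fun h => hy0 (Ideal.Quotient.eq_zero_iff_mem.2 h)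
  have h1 : Module.supportDim R (QuotSMulTop x (R ⧸ q)) + 1 ≤ Module.supportDim R (R ⧸ q) := by
    apply Module.supportDim_quotSMulTop_succ_le_of_notMem_minimalPrimes
    intro p hp
    rw [Ideal.annihilator_quotient, Ideal.minimalPrimes_eq_subsingleton_self] at hp
    rw [Set.mem_singleton_iff.1 hp]
    exact hxq
  have hle : x • (⊤ : Submodule R (R ⧸ q)) ≤ LinearMap.ker g := by
    intro z hz
    obtain ⟨w, -, rfl⟩ := (Submodule.mem_smul_pointwise_iff_exists _ _ _).1 hz
    obtain ⟨r, rfl⟩ := Ideal.Quotient.mk_surjective w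
    have h2 : x • (Ideal.Quotient.mk q r) = r • (Ideal.Quotient.mk q x) := by
      rw [Algebra.smul_def, Algebra.smul_def, Ideal.Quotient.algebraMap_eq, ← map_mul, ← map_mul,
        mul_comm]
    rw [LinearMap.mem_ker, h2, map_smul, LinearMap.mem_ker.1 hy, smul_zero]
  let g' : QuotSMulTop x (R ⧸ q) →ₗ[R] C := Submodule.liftQ _ g hle
  have hg' : Function.Surjective g' := by
    intro c
    obtain ⟨z, rfl⟩ := hg c
    exact ⟨Submodule.Quotient.mk z, rfl⟩
  exact le_trans (add_le_add_left (Module.supportDim_le_of_surjective g' hg') 1) h1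

/-- a finite module supported at `p` has a nonzero map to `R/p`. -/
lemma exists_ne_zero_map (p : PrimeSpectrum R) (M : Type u) [AddCommGroup M] [Module R M]
    [Module.Finite R M] (hp : p ∈ Module.support R M) :
    ∃ φ : M →ₗ[R] (R ⧸ p.asIdeal), φ ≠ 0 := by
  classical
  let K := p.asIdeal.ResidueField
  let D := R ⧸ p.asIdeal
  have hnt : Nontrivial (K ⊗[R] M) :=
    (Module.mem_support_iff_nontrivial_residueField_tensorProduct p).1 hp
  obtain ⟨v, hv⟩ := exists_ne (0 : K ⊗[R] M)
  obtain ⟨l, hl⟩ : ∃ l : Module.Dual K (K ⊗[R] M), l v ≠ 0 := by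
    by_contra h
    push Not at h
    exact hv ((Module.forall_dual_apply_eq_zero_iff K v).1 h)
  let ψ : M →ₗ[R] K := (l.restrictScalars R) ∘ₗ (TensorProduct.mk R K M 1)
  have hψ : ψ ≠ 0 := by
    intro h0
    apply hl
    have hall : ∀ w : K ⊗[R] M, l w = 0 := by
      intro w
      induction w using TensorProduct.induction_on with
      | zero => simp
      | tmul k m =>
        have h1 : k ⊗ₜ[R] m = k • ((1 : K) ⊗ₜ[R] m) := by
          rw [TensorProduct.smul_tmul', smul_eq_mul, mul_one]
        have h2 : l ((1 : K) ⊗ₜ[R] m) = 0 := LinearMap.congr_fun h0 m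
        rw [h1, map_smul, h2, smul_zero]
      | add a b ha hb => rw [map_add, ha, hb, add_zero]
    exact hall v
  obtain ⟨S, hS⟩ := (Module.Finite.fg_top : (⊤ : Submodule R M).FG)
  obtain ⟨b, hb⟩ := IsLocalization.exist_integer_multiples_of_finset (nonZeroDivisors D)
    (S.image ψ)
  obtain ⟨r, hr⟩ := Ideal.Quotient.mk_surjective (b : D)
  let ι : D →ₗ[R] K := (IsScalarTower.toAlgHom R D K).toLinearMap
  have hι : Function.Injective ι := IsFractionRing.injective D K
  have hrange : ∀ m, (r • ψ) m ∈ LinearMap.range ι := by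
    intro m
    have hm : m ∈ Submodule.span R (S : Set M) := by rw [hS]; trivial
    induction hm using Submodule.span_induction with
    | mem x hx =>
      obtain ⟨y, hy⟩ := hb (ψ x) (Finset.mem_image_of_mem ψ hx)
      refine ⟨y, ?_⟩
      change algebraMap D K y = r • ψ x
      rw [hy, ← hr, Algebra.smul_def, Algebra.smul_def, ← Ideal.Quotient.algebraMap_eq,
        ← IsScalarTower.algebraMap_apply]
    | zero => simp
    | add x y _ _ hx hy => rw [map_add]; exact Submodule.add_mem _ hx hy
    | smul a x _ hx => rw [map_smul]; exact Submodule.smul_mem _ a hx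
  let φ : M →ₗ[R] D := (LinearEquiv.ofInjective ι hι).symm.toLinearMap ∘ₗ
    (LinearMap.codRestrict (LinearMap.range ι) (r • ψ) hrange)
  refine ⟨φ, ?_⟩
  intro h0
  apply hψ
  ext m
  have h1 : ι (φ m) = r • ψ m := by
    change ι ((LinearEquiv.ofInjective ι hι).symm
      (LinearMap.codRestrict (LinearMap.range ι) (r • ψ) hrange m)) = r • ψ m
    rw [LinearEquiv.ofInjective_symm_apply]
    rfl
  rw [h0, LinearMap.zero_apply, map_zero] at h1
  have hr0 : algebraMap R K r ≠ 0 := by
    rw [Ne, Ideal.algebraMap_residueField_eq_zero]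
    intro hrp
    have : (b : D) = 0 := by rw [← hr]; exact Ideal.Quotient.eq_zero_iff_mem.2 hrp
    exact nonZeroDivisors.coe_ne_zero b this
  rw [Algebra.smul_def] at h1
  rcases mul_eq_zero.1 h1.symm with h2 | h2
  · exact absurd h2 hr0
  · exact h2

end Helpers

/-- Over a Noetherian ring of dimension d, if H^d_I(M) = 0 for one finite module M whose support
contains every minimal prime p with dim R/p = d, then H^i_I vanishes in degrees ≥ d on all modules. -/
theorem result (R : Type u) [CommRing R] [IsNoetherianRing R] (I : Ideal R) (d : ℕ) (hd : ringKrullDim R = d) (M : Type u) [AddCommGroup M] [Module R M] [Module.Finite R M] (hsupp : ∀ p ∈ minimalPrimes R, ringKrullDim (R ⧸ p) = d → ∀ hp : p.IsPrime, (⟨p, hp⟩ : PrimeSpectrum R) ∈ Module.support R M) (hvan : Subsingleton (LocCoh.H I d M)) (N : Type u) [AddCommGroup N] [Module R N] (i : ℕ) (hi : d ≤ i) : Subsingleton (LocCoh.H I i N) := by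
  have hGV : ∀ (N : Type u) [AddCommGroup N] [Module R N] (j : ℕ), d < j →
      Subsingleton (LocCoh.H I j N) := by
    intro N _ _ j hj
    apply subsingleton_H_of_supportDim_lt I N j
    refine lt_of_le_of_lt (Module.supportDim_le_ringKrullDim R N) ?_
    rw [hd]
    exact_mod_cast hj
  rcases Nat.lt_or_ge d i with hlt | hge
  · exact hGV N i hlt
  obtain rfl : i = d := le_antisymm hge hi
  -- right exactness of `H^d`
  have hright : ∀ (N₂ N₃ : Type u) [AddCommGroup N₂] [Module R N₂] [AddCommGroup N₃] [Module R N₃]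
      (g : N₂ →ₗ[R] N₃), Function.Surjective g → Subsingleton (LocCoh.H I i N₂) →
      Subsingleton (LocCoh.H I i N₃) := by
    intro N₂ N₃ _ _ _ _ g hg h2
    have h1 := hGV (LinearMap.ker g) (i + 1) (by omega)
    refine subsingleton_of_forall_eq 0 fun y => ?_
    obtain ⟨z, rfl⟩ := (exact₃ I (LinearMap.ker g).subtype g (Submodule.injective_subtype _)
      (LinearMap.exact_subtype_ker_map g) hg i y).1 (Subsingleton.elim _ _)
    rw [Subsingleton.elim z 0, map_zero]
  have hsucc : (((i + 1 : ℕ) : ℕ) : WithBot ℕ∞) = (i : WithBot ℕ∞) + 1 := by push_cast; rfl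
  -- the modules `R/p`
  have hprime : ∀ p : PrimeSpectrum R, Subsingleton (LocCoh.H I i (R ⧸ p.asIdeal)) := by
    intro p
    by_cases hdim : Module.supportDim R (R ⧸ p.asIdeal) < ((i : ℕ) : WithBot ℕ∞)
    · exact subsingleton_H_of_supportDim_lt I _ i hdim
    · have hle : ∀ q : Ideal R, Module.supportDim R (R ⧸ q) ≤ ((i : ℕ) : WithBot ℕ∞) := by
        intro q
        rw [← hd]
        exact Module.supportDim_le_ringKrullDim R _
      have hlt1 : ∀ q : Ideal R, Module.supportDim R (R ⧸ q) < ((i + 1 : ℕ) : WithBot ℕ∞) := by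
        intro q
        refine lt_of_le_of_lt (hle q) ?_
        exact_mod_cast Nat.lt_succ_self i
      have heq : Module.supportDim R (R ⧸ p.asIdeal) = ((i : ℕ) : WithBot ℕ∞) :=
        le_antisymm (hle _) (not_lt.1 hdim)
      have hmin : p.asIdeal ∈ minimalPrimes R := by
        refine ⟨⟨p.isPrime, bot_le⟩, ?_⟩
        rintro q ⟨hq, -⟩ hqp
        by_contra hnot
        have := hq
        obtain ⟨x, hxp, hxq⟩ := Set.not_subset.1 hnot
        let g : (R ⧸ q) →ₗ[R] (R ⧸ p.asIdeal) :=
          Submodule.liftQ q (p.asIdeal.mkQ) (by rw [Submodule.ker_mkQ]; exact hqp)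
        have hg : Function.Surjective g := by
          intro c
          obtain ⟨r, rfl⟩ := Submodule.mkQ_surjective _ c
          exact ⟨Submodule.Quotient.mk r, rfl⟩
        have hng : ¬ Function.Injective g := by
          intro hinj
          have h1 : g (Submodule.Quotient.mk x) = 0 :=
            (Submodule.Quotient.mk_eq_zero _).2 hxp
          have h2 : (Submodule.Quotient.mk x : R ⧸ q) = 0 := hinj (by rw [h1, map_zero])
          exact hxq ((Submodule.Quotient.mk_eq_zero _).1 h2)
        have h3 := supportDim_succ_le q g hg hng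
        exact hdim (lt_of_add_one_le_of_lt h3 (hlt1 q))
      have hsp := hsupp p.asIdeal hmin
        (by rw [← Module.supportDim_quotient_eq_ringKrullDim, heq]) p.isPrime
      obtain ⟨φ, hφ⟩ := exists_ne_zero_map p M hsp
      have hJ : Subsingleton (LocCoh.H I i (LinearMap.range φ)) :=
        hright M _ φ.rangeRestrict φ.surjective_rangeRestrict hvan
      have hC : Subsingleton (LocCoh.H I i ((R ⧸ p.asIdeal) ⧸ LinearMap.range φ)) := by
        apply subsingleton_H_of_supportDim_lt
        have h3 := supportDim_succ_le p.asIdeal (LinearMap.range φ).mkQ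
          (Submodule.mkQ_surjective _) (by
            intro hinj
            apply hφ
            have hker : LinearMap.ker (LinearMap.range φ).mkQ = ⊥ := LinearMap.ker_eq_bot.2 hinj
            rw [Submodule.ker_mkQ, LinearMap.range_eq_bot] at hker
            exact hker)
        exact lt_of_add_one_le_of_lt h3 (hlt1 _)
      refine subsingleton_of_forall_eq 0 fun y => ?_
      obtain ⟨z, rfl⟩ := (exact₂ I (LinearMap.range φ).subtype (LinearMap.range φ).mkQ
        (LinearMap.exact_subtype_mkQ _) (Submodule.injective_subtype _)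
        (Submodule.mkQ_surjective _) i y).1 (Subsingleton.elim _ _)
      rw [Subsingleton.elim z 0, map_zero]
  -- finitely generated modules
  have hfg : ∀ (N : Type u) [AddCommGroup N] [Module R N] [Module.Finite R N],
      Subsingleton (LocCoh.H I i N) := by
    intro N _ _ hfin
    refine IsNoetherianRing.induction_on_isQuotientEquivQuotientPrime R hfin
      (motive := fun N _ _ _ => Subsingleton (LocCoh.H I i N)) ?_ ?_ ?_
    · intro N _ _ _ _
      exact subsingleton_H_of_subsingleton I N i
    · intro N _ _ _ p e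
      have := hprime p
      exact (Hmap_bijective_of_equiv I e i).injective.subsingleton
    · intro N₁ _ _ _ N₂ _ _ _ N₃ _ _ _ f g hf hg hfg h1 h3
      refine subsingleton_of_forall_eq 0 fun y => ?_
      obtain ⟨z, rfl⟩ := (exact₂ I f g hfg hf hg i y).1 (Subsingleton.elim _ _)
      rw [Subsingleton.elim z 0, map_zero]
  refine subsingleton_of_forall_eq 0 fun y => ?_
  obtain ⟨N', hN', y', rfl⟩ := exists_fg_H N I i y
  have : Module.Finite R N' := Module.Finite.iff_fg.2 hN'
  have := hfg N'
  rw [Subsingleton.elim y' 0, map_zero]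


end Groth.Agent.S0333
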