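import Groth.Statements.S0334
import Groth.Agent.S0333
import Groth.Agent.Lib.LocCohLinear

set_option autoImplicit false
universe u v
open LocCoh

namespace Groth.Agent.S0334

open Groth.Agent.Lib.LocCohLES Groth.Agent.Lib.LocCohTorsion Groth.Agent.Lib.LocCohVanishing Groth.Agent.Lib.LocCohConcrete in
/-- Over a Noetherian local ring of dimension d, multiplication by an element lying in no minimal prime
p with dim R/p = d is surjective on H^d_I(M) for every finite module M and every ideal I. -/
theorem result (R : Type u) [CommRing R] [IsLocalRing R] [IsNoetherianRing R] (I : Ideal R) (d : ℕ) (hd : ringKrullDim R = d) (f : R) (hf : ∀ p ∈ minimalPrimes R, ringKrullDim (R ⧸ p) = d → f ∉ p) (M : Type u) [AddCommGroup M] [Module R M] [Module.Finite R M] : Function.Surjective (fun x : LocCoh.H I d M => f • x) := by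
  have hGV : ∀ (N : Type u) [AddCommGroup N] [Module R N] (j : ℕ), d < j →
      Subsingleton (LocCoh.H I j N) := by
    intro N _ _ j hj
    apply subsingleton_H_of_supportDim_lt I N j
    refine lt_of_le_of_lt (Module.supportDim_le_ringKrullDim R N) ?_
    rw [hd]
    exact_mod_cast hj
  -- multiplication by `f` on `H` is `Hmap` of multiplication by `f`
  have hsm : ∀ (N : Type u) [AddCommGroup N] [Module R N] (y : LocCoh.H I d N),
      Hmap I (f • (LinearMap.id : N →ₗ[R] N)) d y = f • y := by
    intro N _ _ y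
    rw [Hmap_smul, Hmap_id]
  -- the modules `R/p`
  have hprime : ∀ p : PrimeSpectrum R,
      Function.Surjective (fun x : LocCoh.H I d (R ⧸ p.asIdeal) => f • x) := by
    intro p
    by_cases hdim : Module.supportDim R (R ⧸ p.asIdeal) < ((d : ℕ) : WithBot ℕ∞)
    · have := subsingleton_H_of_supportDim_lt I (R ⧸ p.asIdeal) d hdim
      intro y
      exact ⟨0, Subsingleton.elim _ _⟩
    · have hle : ∀ q : Ideal R, Module.supportDim R (R ⧸ q) ≤ ((d : ℕ) : WithBot ℕ∞) := by
        intro q
        rw [← hd]
        exact Module.supportDim_le_ringKrullDim R _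
      have hlt1 : ∀ q : Ideal R, Module.supportDim R (R ⧸ q) < ((d + 1 : ℕ) : WithBot ℕ∞) := by
        intro q
        refine lt_of_le_of_lt (hle q) ?_
        exact_mod_cast Nat.lt_succ_self d
      have heq : Module.supportDim R (R ⧸ p.asIdeal) = ((d : ℕ) : WithBot ℕ∞) :=
        le_antisymm (hle _) (not_lt.1 hdim)
      have hmin : p.asIdeal ∈ minimalPrimes R := by
        refine ⟨⟨p.isPrime, bot_le⟩, ?_⟩
        rintro q ⟨hq, -⟩ hqp
        by_contra hnot
        have := hq
        obtain ⟨x, hxp, hxq⟩ := Set.not_subset.1 hnot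
        let g : (R ⧸ q) →ₗ[R] (R ⧸ p.asIdeal) :=
          Submodule.liftQ q (p.asIdeal.mkQ) (by rw [Submodule.ker_mkQ]; exact hqp)
        have hg : Function.Surjective g := by
          intro c
          obtain ⟨r, rfl⟩ := Submodule.mkQ_surjective _ c
          exact ⟨Submodule.Quotient.mk r, rfl⟩
        have hng : ¬ Function.Injective g := by
          intro hinj
          have h1 : g (Submodule.Quotient.mk x) = 0 :=
            (Submodule.Quotient.mk_eq_zero _).2 hxp
          have h2 : (Submodule.Quotient.mk x : R ⧸ q) = 0 := hinj (by rw [h1, map_zero])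
          exact hxq ((Submodule.Quotient.mk_eq_zero _).1 h2)
        have h3 := Groth.Agent.S0333.supportDim_succ_le q g hg hng
        exact hdim (lt_of_add_one_le_of_lt h3 (hlt1 q))
      have hfp : f ∉ p.asIdeal := hf p.asIdeal hmin
        (by rw [← Module.supportDim_quotient_eq_ringKrullDim, heq])
      -- multiplication by f on R/p
      let μ : (R ⧸ p.asIdeal) →ₗ[R] (R ⧸ p.asIdeal) := f • LinearMap.id
      have hμ : ∀ z : R ⧸ p.asIdeal, μ z = f • z := fun z => rfl
      have hμinj : Function.Injective μ := by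
        rw [injective_iff_map_eq_zero]
        intro z hz
        rw [hμ, Algebra.smul_def, Ideal.Quotient.algebraMap_eq] at hz
        rcases mul_eq_zero.1 hz with h | h
        · exact absurd (Ideal.Quotient.eq_zero_iff_mem.1 h) hfp
        · exact h
      let g := (LinearMap.range μ).mkQ
      have hg : Function.Surjective g := Submodule.mkQ_surjective _
      have hng : ¬ Function.Injective g := by
        intro hinj
        have hker : LinearMap.ker g = ⊥ := LinearMap.ker_eq_bot.2 hinj
        rw [Submodule.ker_mkQ, LinearMap.range_eq_bot] at hker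
        have h1 : μ 1 = 0 := by rw [hker]; rfl
        rw [hμ, Algebra.smul_def, mul_one, Ideal.Quotient.algebraMap_eq] at h1
        exact hfp (Ideal.Quotient.eq_zero_iff_mem.1 h1)
      have hC : Subsingleton (LocCoh.H I d ((R ⧸ p.asIdeal) ⧸ LinearMap.range μ)) := by
        apply subsingleton_H_of_supportDim_lt
        have h3 := Groth.Agent.S0333.supportDim_succ_le p.asIdeal g hg hng
        exact lt_of_add_one_le_of_lt h3 (hlt1 _)
      intro y
      obtain ⟨z, hz⟩ := (exact₂ I μ g (LinearMap.exact_map_mkQ_range μ) hμinj hg d y).1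
        (Subsingleton.elim _ _)
      exact ⟨z, by rw [← hz]; exact (hsm _ z).symm⟩
  refine IsNoetherianRing.induction_on_isQuotientEquivQuotientPrime R ‹Module.Finite R M›
    (motive := fun N _ _ _ => Function.Surjective (fun x : LocCoh.H I d N => f • x)) ?_ ?_ ?_
  · intro N _ _ _ _
    have := subsingleton_H_of_subsingleton I N d
    intro y
    exact ⟨0, Subsingleton.elim _ _⟩
  · intro N _ _ _ p e y
    obtain ⟨z, hz⟩ := hprime p (Hmap I e.toLinearMap d y)
    obtain ⟨w, rfl⟩ := (Hmap_bijective_of_equiv I e d).2 z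
    refine ⟨w, ?_⟩
    apply (Hmap_bijective_of_equiv I e d).1
    change f • Hmap I e.toLinearMap d w = _ at hz
    rw [← hz]
    exact map_smul _ _ _
  · intro N₁ _ _ _ N₂ _ _ _ N₃ _ _ _ φ ψ hφ hψ hφψ h1 h3 y
    obtain ⟨z₃, hz₃⟩ := h3 (Hmap I ψ d y)
    have hs : Function.Surjective (Hmap I ψ d) := by
      have := hGV N₁ (d + 1) (by omega)
      intro t
      exact (exact₃ I φ ψ hφ hφψ hψ d t).1 (Subsingleton.elim _ _)
    obtain ⟨z₂, rfl⟩ := hs z₃
    have hk : Hmap I ψ d (y - f • z₂) = 0 := by
      rw [map_sub, map_smul, sub_eq_zero]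
      exact hz₃.symm
    obtain ⟨x₁, hx₁⟩ := (exact₂ I φ ψ hφψ hφ hψ d _).1 hk
    obtain ⟨w₁, rfl⟩ := h1 x₁
    refine ⟨z₂ + Hmap I φ d w₁, ?_⟩
    change f • (z₂ + Hmap I φ d w₁) = y
    rw [smul_add, ← map_smul]
    change _ + Hmap I φ d (f • w₁) = y
    rw [hx₁]
    abel


end Groth.Agent.S0334
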