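import Groth.Statements.S0335
import Mathlib.RingTheory.Noetherian.Nilpotent
import Mathlib.RingTheory.Spectrum.Prime.Topology

set_option autoImplicit false
universe u v
open LocCoh

namespace Groth.Agent.S0335

section elem

variable {R : Type u} [CommRing R]

/-- If `y` is a nonzerodivisor modulo `x` (and `x` is regular) then `y` is a nonzerodivisor
modulo `x ^ k`. -/
theorem aux_pow_left {x y : R} (hx : ∀ r, x * r = 0 → r = 0)
    (hy : ∀ r s, y * r = x * s → ∃ r', r = x * r') (k : ℕ) :
    ∀ r s, y * r = x ^ k * s → ∃ r', r = x ^ k * r' := by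
  induction k with
  | zero => intro r s _; exact ⟨r, by simp⟩
  | succ k ih =>
    intro r s h
    obtain ⟨r1, rfl⟩ := hy r (x ^ k * s) (by rw [h]; ring)
    have h2 : y * r1 = x ^ k * s := by
      have : x * (y * r1 - x ^ k * s) = 0 := by linear_combination h
      have := hx _ this
      linear_combination this
    obtain ⟨r2, rfl⟩ := ih r1 s h2
    exact ⟨r2, by ring⟩

theorem aux_pow_right {x y : R} (k : ℕ)
    (hy : ∀ r s, y * r = x ^ k * s → ∃ r', r = x ^ k * r') (n : ℕ) :
    ∀ r s, y ^ n * r = x ^ k * s → ∃ r', r = x ^ k * r' := by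
  induction n with
  | zero => intro r s h; exact ⟨s, by simpa using h⟩
  | succ n ih =>
    intro r s h
    obtain ⟨r1, h1⟩ := hy (y ^ n * r) s (by rw [← h]; ring)
    exact ih r r1 h1

/-- The key algebraic step: two ideals with zero product whose sum contains both members
of a regular sequence `X, Y`; then one of them is zero. -/
theorem aux_key [IsLocalRing R] {X Y : R} (hX : ∀ r, X * r = 0 → r = 0)
    (hY : ∀ r s, Y * r = X * s → ∃ r', r = X * r')
    (I J : Ideal R) (hIJ : I * J = ⊥) (hXm : X ∈ I ⊔ J) (hYm : Y ∈ I ⊔ J) :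
    I = ⊥ ∨ J = ⊥ := by
  obtain ⟨a, ha, b, hb, hab⟩ := Submodule.mem_sup.mp hXm
  obtain ⟨c, hc, d, hd, hcd⟩ := Submodule.mem_sup.mp hYm
  have zero_of : ∀ i ∈ I, ∀ j ∈ J, i * j = 0 := by
    intro i hi j hj
    have : i * j ∈ I * J := Ideal.mul_mem_mul hi hj
    rwa [hIJ, Ideal.mem_bot] at this
  have had := zero_of a ha d hd
  have hcb := zero_of c hc b hb
  -- a * Y = X * c
  obtain ⟨t, ht⟩ := hY a c (by rw [← hab, ← hcd]; linear_combination had - hcb)
  obtain ⟨s, hs⟩ := hY b d (by rw [← hab, ← hcd]; linear_combination hcb - had)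
  have hts : t + s = 1 := by
    have : X * (t + s - 1) = 0 := by
      rw [mul_sub, mul_add, ← ht, ← hs, hab]; ring
    have := hX _ this
    linear_combination this
  rcases IsLocalRing.isUnit_or_isUnit_of_add_one hts with hu | hu
  · right
    obtain ⟨u, rfl⟩ := hu
    have hXI : X ∈ I := by
      have : X = ↑u⁻¹ * a := by rw [ht]; rw [mul_comm X, ← mul_assoc]; simp
      rw [this]; exact I.mul_mem_left _ ha
    rw [eq_bot_iff]
    intro j hj
    exact (Ideal.mem_bot).mpr (hX j (zero_of X hXI j hj))
  · left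
    obtain ⟨u, rfl⟩ := hu
    have hXJ : X ∈ J := by
      have : X = ↑u⁻¹ * b := by rw [hs]; rw [mul_comm X, ← mul_assoc]; simp
      rw [this]; exact J.mul_mem_left _ hb
    rw [eq_bot_iff]
    intro i hi
    exact (Ideal.mem_bot).mpr (hX i (by rw [mul_comm]; exact zero_of i hi X hXJ))

end elem

/-- Extract a regular sequence of length two from the depth hypothesis. -/
theorem exists_regular_pair (R : Type u) [CommRing R] [IsLocalRing R]
    (h : 2 ≤ LocCoh.depth R R) :
    ∃ x y : R, x ∈ IsLocalRing.maximalIdeal R ∧ y ∈ IsLocalRing.maximalIdeal R ∧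
      (∀ r, x * r = 0 → r = 0) ∧ (∀ r s, y * r = x * s → ∃ r', r = x * r') := by
  classical
  have hne : ¬ (IsLocalRing.maximalIdeal R • (⊤ : Submodule R R) = ⊤) := by
    rw [smul_eq_mul, Ideal.mul_top]
    exact Ideal.IsPrime.ne_top inferInstance
  unfold LocCoh.depth LocCoh.idealDepth at h
  rw [if_neg hne] at h
  obtain ⟨rs, hrs, hlen⟩ : ∃ rs : List R,
      (RingTheory.Sequence.IsWeaklyRegular R rs ∧ ∀ r ∈ rs, r ∈ IsLocalRing.maximalIdeal R) ∧
        2 ≤ rs.length := by
    by_contra hcon
    push Not at hcon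
    have : (⨆ (rs : List R) (_ : RingTheory.Sequence.IsWeaklyRegular R rs ∧
        ∀ r ∈ rs, r ∈ IsLocalRing.maximalIdeal R), (rs.length : ℕ∞)) ≤ 1 := by
      refine iSup₂_le fun rs hrs => ?_
      have := hcon rs hrs
      have h1 : rs.length ≤ 1 := by omega
      exact_mod_cast h1
    have := h.trans this
    norm_num at this
  match rs, hrs, hlen with
  | x :: y :: rest, hrs, _ =>
    obtain ⟨hreg, hmem⟩ := hrs
    rw [RingTheory.Sequence.isWeaklyRegular_cons_iff,
      RingTheory.Sequence.isWeaklyRegular_cons_iff] at hreg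
    obtain ⟨hx, hy, -⟩ := hreg
    refine ⟨x, y, hmem x (by simp), hmem y (by simp), ?_, ?_⟩
    · intro r hr
      exact hx (by simpa using hr)
    · intro r s hrs'
      have h0 : y • (Submodule.Quotient.mk r : QuotSMulTop x R) = y • 0 := by
        rw [smul_zero, ← Submodule.Quotient.mk_smul, Submodule.Quotient.mk_eq_zero]
        rw [Submodule.mem_smul_pointwise_iff_exists]
        exact ⟨s, trivial, by simpa using hrs'.symm⟩
      have h1 := hy h0
      rw [Submodule.Quotient.mk_eq_zero, Submodule.mem_smul_pointwise_iff_exists] at h1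
      obtain ⟨r', -, hr'⟩ := h1
      exact ⟨r', by simpa using hr'.symm⟩

/-- For the ring itself; Hartshorne's connectedness: if a Noetherian local ring has depth at least 2
then its punctured spectrum is connected. -/
theorem result (R : Type u) [CommRing R] [IsLocalRing R] [IsNoetherianRing R] (h : 2 ≤ LocCoh.depth R R) : IsConnected {x : PrimeSpectrum R | x.asIdeal ≠ IsLocalRing.maximalIdeal R} := by
  obtain ⟨x, y, hxm, hym, hx, hy⟩ := exists_regular_pair R h
  set m := IsLocalRing.maximalIdeal R with hm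
  refine ⟨?_, ?_⟩
  · -- nonempty
    by_contra hemp
    rw [Set.not_nonempty_iff_eq_empty] at hemp
    have hall : ∀ p : PrimeSpectrum R, p.asIdeal = m := by
      intro p
      by_contra hp
      have : p ∈ ({x : PrimeSpectrum R | x.asIdeal ≠ m} : Set _) := hp
      rw [hemp] at this
      exact this
    have hnil : x ∈ nilradical R := by
      rw [nilradical_eq_sInf, Ideal.mem_sInf]
      intro p hp
      have := hall ⟨p, hp⟩
      simp only at this
      rw [this]; exact hxm
    obtain ⟨k, hk⟩ := hnil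
    have hxk : ∀ k : ℕ, x ^ k = 0 → (1 : R) = 0 := by
      intro k
      induction k with
      | zero => intro h0; simp at h0
      | succ k ih =>
        intro h0
        apply ih
        apply hx
        rw [← h0]; ring
    exact one_ne_zero (hxk k hk)
  · rw [isPreconnected_closed_iff]
    intro t t' ht ht' hsub hnt hnt'
    by_contra hcon
    rw [Set.not_nonempty_iff_eq_empty] at hcon
    obtain ⟨I, rfl⟩ := (PrimeSpectrum.isClosed_iff_zeroLocus_ideal t).mp ht
    obtain ⟨J, rfl⟩ := (PrimeSpectrum.isClosed_iff_zeroLocus_ideal t').mp ht'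
    obtain ⟨p, hpm, hpI⟩ := hnt
    obtain ⟨q, hqm, hqJ⟩ := hnt'
    rw [PrimeSpectrum.mem_zeroLocus, SetLike.coe_subset_coe] at hpI hqJ
    have hpm' : p.asIdeal ≠ m := hpm
    have hqm' : q.asIdeal ≠ m := hqm
    have hcap : ∀ P : Ideal R, P.IsPrime → I ≤ P → J ≤ P → P = m := by
      intro P hP hIP hJP
      by_contra hne
      have : (⟨P, hP⟩ : PrimeSpectrum R) ∈
          {x : PrimeSpectrum R | x.asIdeal ≠ m} ∩
            (PrimeSpectrum.zeroLocus (I : Set R) ∩ PrimeSpectrum.zeroLocus (J : Set R)) := by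
        refine ⟨hne, ?_, ?_⟩ <;> rw [PrimeSpectrum.mem_zeroLocus, SetLike.coe_subset_coe] <;>
          assumption
      rw [hcon] at this
      exact this
    have hcup : ∀ P : Ideal R, P.IsPrime → I * J ≤ P := by
      intro P hP
      by_cases hPm : P = m
      · rw [hPm]
        exact (Ideal.mul_le_right).trans (hqJ.trans (IsLocalRing.le_maximalIdeal q.2.ne_top))
      · have : (⟨P, hP⟩ : PrimeSpectrum R) ∈ {x : PrimeSpectrum R | x.asIdeal ≠ m} := hPm
        rcases hsub this with h1 | h1 <;>
          rw [PrimeSpectrum.mem_zeroLocus, SetLike.coe_subset_coe] at h1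
        · exact (Ideal.mul_le_left).trans h1
        · exact (Ideal.mul_le_right).trans h1
    have hnil : I * J ≤ nilradical R := by
      rw [nilradical_eq_sInf]
      exact le_sInf fun P hP => hcup P hP
    obtain ⟨k, hk⟩ := IsNoetherianRing.isNilpotent_nilradical R
    have hIJk : I ^ k * J ^ k = ⊥ := by
      rw [← mul_pow, eq_bot_iff, ← Ideal.zero_eq_bot, ← hk]
      exact Ideal.pow_right_mono hnil k
    have hrad : m ≤ (I ^ k ⊔ J ^ k).radical := by
      rw [Ideal.radical_eq_sInf]
      refine le_sInf fun P ⟨hP1, hP2⟩ => ?_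
      have h1 : I ≤ P := hP2.le_of_pow_le (le_sup_left.trans hP1)
      have h2 : J ≤ P := hP2.le_of_pow_le (le_sup_right.trans hP1)
      exact (hcap P hP2 h1 h2).ge
    obtain ⟨n, hn⟩ := Ideal.exists_pow_le_of_le_radical_of_fg hrad
      (IsNoetherian.noetherian m)
    have hxn : x ^ n ∈ I ^ k ⊔ J ^ k := hn (Ideal.pow_mem_pow hxm n)
    have hyn : y ^ n ∈ I ^ k ⊔ J ^ k := hn (Ideal.pow_mem_pow hym n)
    have hX : ∀ r, x ^ n * r = 0 → r = 0 := by
      have : ∀ n : ℕ, ∀ r, x ^ n * r = 0 → r = 0 := by
        intro n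
        induction n with
        | zero => intro r hr; simpa using hr
        | succ n ih =>
          intro r hr
          apply ih
          apply hx
          rw [← hr]; ring
      exact this n
    have hY := aux_pow_right n (aux_pow_left hx hy n) n
    rcases aux_key hX hY (I ^ k) (J ^ k) hIJk hxn hyn with h0 | h0
    · -- I nilpotent
      have hIq : I ≤ q.asIdeal := q.2.le_of_pow_le (by rw [h0]; exact bot_le)
      exact hqm' (hcap q.asIdeal q.2 hIq hqJ)
    · have hJp : J ≤ p.asIdeal := p.2.le_of_pow_le (by rw [h0]; exact bot_le)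
      exact hpm' (hcap p.asIdeal p.2 hpI hJp)

end Groth.Agent.S0335
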