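import Groth.Statements.S0337
import Groth.Agent.Lib.Fitting82N
import Mathlib.RingTheory.Nakayama
import Mathlib.RingTheory.Jacobson.Ideal

set_option autoImplicit false
universe u v
open CategoryTheory
open LocCoh

namespace Groth.Agent.S0337

/-- Over a Noetherian local ring of prime characteristic p, a finite module isomorphic to its own base
change along Frobenius is free. -/
theorem result (p : ℕ) [Fact p.Prime] (R : Type u) [CommRing R] [IsLocalRing R] [IsNoetherianRing R] [CharP R p] (M : Type u) [AddCommGroup M] [Module R M] [Module.Finite R M] (h : Nonempty ((ModuleCat.extendScalars (frobenius R p)).obj (ModuleCat.of R M) ≅ ModuleCat.of R M)) : Module.Free R M := by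
  classical
  obtain ⟨e⟩ := h
  have hfit : ∀ k, Fitt.ideal R M k = (Fitt.ideal R M k).map (frobenius R p) := by
    intro k
    rw [← Groth.Agent.Lib.Fitting82.ideal_extendScalars (frobenius R p) M k]
    exact (Groth.Agent.Lib.Fitting82.ideal_congr e.toLinearEquiv k).symm
  obtain ⟨n, x, hx⟩ := Module.Finite.exists_fin (R := R) (M := M)
  have htopn : Fitt.ideal R M n = ⊤ :=
    Groth.Agent.Lib.Fitting82.ideal_eq_top_of_span x hx n le_rfl
  have hex : ∃ k, Fitt.ideal R M k = ⊤ := ⟨n, htopn⟩
  have hr : Fitt.ideal R M (Nat.find hex) = ⊤ := Nat.find_spec hex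
  apply Groth.Agent.Lib.Fitting82.free_of_ideal_eq_bot_of_eq_top M (Nat.find hex) _ hr
  by_cases hr0 : Nat.find hex = 0
  · left; exact hr0
  right
  have hIne : Fitt.ideal R M (Nat.find hex - 1) ≠ ⊤ :=
    Nat.find_min hex (by omega : Nat.find hex - 1 < Nat.find hex)
  have hfitI := hfit (Nat.find hex - 1)
  generalize Fitt.ideal R M (Nat.find hex - 1) = I at hIne hfitI ⊢
  have hIm : I ≤ IsLocalRing.maximalIdeal R := IsLocalRing.le_maximalIdeal hIne
  have hp2 : 2 ≤ p := (Fact.out : p.Prime).two_le
  have h1 : I.map (frobenius R p) ≤ I ^ p := by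
    rw [Ideal.map_le_iff_le_comap]
    intro y hy
    rw [Ideal.mem_comap, frobenius_def]
    exact Ideal.pow_mem_pow hy p
  have h2 : I ^ p ≤ IsLocalRing.maximalIdeal R * I :=
    calc I ^ p ≤ I ^ 2 := Ideal.pow_le_pow_right hp2
      _ = I * I := sq I
      _ ≤ IsLocalRing.maximalIdeal R * I := Ideal.mul_mono_left hIm
  have hle : I ≤ IsLocalRing.maximalIdeal R • I :=
    calc I = I.map (frobenius R p) := hfitI
      _ ≤ I ^ p := h1
      _ ≤ _ := h2
  exact Submodule.eq_bot_of_le_smul_of_le_jacobson_bot _ _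
    (IsNoetherian.noetherian I) hle (IsLocalRing.maximalIdeal_le_jacobson _)

end Groth.Agent.S0337
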