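import Groth.Statements.S0347
import Mathlib.CategoryTheory.Monoidal.Cartesian.Grp
import Mathlib.AlgebraicGeometry.Morphisms.UniversallyOpen

set_option autoImplicit false
universe u v
open CategoryTheory MonoidalCategory CartesianMonoidalCategory MonObj GrpObj AlgebraicGeometry
open GrpSch

namespace Groth.Agent.S0347

section cat

variable {C : Type*} [Category C] [CartesianMonoidalCategory C]

/-- The shear isomorphism `(g, h) ↦ (g, g * h)` of a group object. -/
@[simps]
def shear (G : C) [GrpObj G] : G ⊗ G ≅ G ⊗ G where
  hom := lift (fst G G) (fst G G * snd G G)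
  inv := lift (fst G G) ((fst G G)⁻¹ * snd G G)
  hom_inv_id := by
    apply CartesianMonoidalCategory.hom_ext <;> simp [MonObj.comp_mul, GrpObj.comp_inv]
  inv_hom_id := by
    apply CartesianMonoidalCategory.hom_ext <;> simp [MonObj.comp_mul]

theorem shear_hom_snd (G : C) [GrpObj G] : (shear G).hom ≫ snd G G = μ[G] := by
  simp [shear, Hom.mul_def]

end cat

/-- The multiplication map of a group scheme over a field is an open map of topological spaces. -/
theorem result (K : Type u) [Field K] (G : Over (Spec (CommRingCat.of K))) [GrpObj G] : IsOpenMap (μ[G].left : (G ⊗ G).left ⟶ G.left) := by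
  have h1 : μ[G].left = (shear G).hom.left ≫ Limits.pullback.snd G.hom G.hom := by
    rw [← shear_hom_snd G]; rfl
  rw [h1]
  have : UniversallyOpen G.hom := inferInstance
  have h2 : IsOpenMap (Limits.pullback.snd G.hom G.hom) :=
    Scheme.Hom.isOpenMap (Limits.pullback.snd G.hom G.hom)
  have : IsIso (shear G).hom.left :=
    inferInstanceAs (IsIso ((Over.forget _).map (shear G).hom))
  have h3 : IsOpenMap (shear G).hom.left := (shear G).hom.left.homeomorph.isOpenMap
  simpa using h2.comp h3

end Groth.Agent.S0347
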