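import Groth.Statements.S0349
import Groth.Agent.Lib.GrpTopMul45

set_option autoImplicit false
universe u v
open CategoryTheory MonoidalCategory CartesianMonoidalCategory MonObj GrpObj AlgebraicGeometry
open GrpSch

namespace Groth.Agent.S0349

/-- An irreducible group scheme over a field is quasi-compact. -/
theorem result (K : Type u) [Field K] (G : Over (Spec (CommRingCat.of K))) [GrpObj G] [IrreducibleSpace G.left] : CompactSpace G.left := by
  obtain ⟨x⟩ : Nonempty G.left := inferInstance
  obtain ⟨_, ⟨W, hW, rfl⟩, hxW, -⟩ := G.left.isBasis_affineOpens.exists_subset_of_mem_open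
    (Set.mem_univ x) isOpen_univ
  replace hW : IsAffineOpen W := hW
  have hd : Dense (W : Set G.left) :=
    W.isOpen.dense ⟨x, hxW⟩
  have h := Groth.Agent.Lib.GrpTopMul45.mul_image_dense_opens G W W hd hd
  have hc := Groth.Agent.Lib.GrpTopMul45.isCompact_box G G W W hW.isCompact hW.isCompact
  refine ⟨?_⟩
  rw [← h]
  exact hc.image (Scheme.Hom.continuous _)

end Groth.Agent.S0349
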