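import Groth.Statements.S0350
import Groth.Agent.Lib.GrpTopBC45
import Groth.Agent.Lib.UniqueCompStalk45

set_option autoImplicit false
universe u v
open CategoryTheory MonoidalCategory CartesianMonoidalCategory MonObj GrpObj AlgebraicGeometry
open GrpSch

namespace Groth.Agent.S0350

/-- Let G be a group scheme over a field K. Then for every point x of G the local ring O_{G,x} has at
most one (hence exactly one) minimal prime, and there is exactly one irreducible component of G
passing through the identity point. The published statement also asserts that this component is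
geometrically irreducible, which is not asserted here. -/
theorem result (K : Type u) [Field K] (G : Over (Spec (CommRingCat.of K))) [GrpObj G] : (∀ x : G.left, (minimalPrimes (G.left.presheaf.stalk x)).Subsingleton) ∧ ∃! Z : Set G.left, Z ∈ irreducibleComponents (G.left : Type u) ∧ η[G].left (IsLocalRing.closedPoint K) ∈ Z := by
  have hG : GrpObj (Over.mk G.hom) := ‹GrpObj G›
  have hU : ∀ y : G.left, Groth.Agent.Lib.UniqueComp45.UniqueComp y :=
    Groth.Agent.Lib.GrpTopBC45.uniqueComp G.hom
  refine ⟨fun x => Groth.Agent.Lib.UniqueCompStalk45.subsingleton_minimalPrimes_stalk (hU x), ?_⟩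
  refine ⟨irreducibleComponent (η[G].left (IsLocalRing.closedPoint K)),
    ⟨irreducibleComponent_mem_irreducibleComponents _, mem_irreducibleComponent⟩, ?_⟩
  rintro Z ⟨hZ, hZe⟩
  exact (hU _).eq_irreducibleComponent hZ hZe

end Groth.Agent.S0350
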