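import Groth.Statements.S0352
import Mathlib.CategoryTheory.Monoidal.Cartesian.Grp
import Mathlib.AlgebraicGeometry.Morphisms.UniversallyOpen
import Mathlib.AlgebraicGeometry.PullbackCarrier
import Mathlib.AlgebraicGeometry.ResidueField

set_option autoImplicit false
universe u v
open CategoryTheory MonoidalCategory CartesianMonoidalCategory MonObj GrpObj AlgebraicGeometry
open GrpSch

namespace Groth.Agent.S0352

section cat

variable {C : Type*} [Category C] [CartesianMonoidalCategory C]

/-- Base change of a morphism along a projection, in a cartesian monoidal category. -/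
theorem isPullback_whiskerLeft (P : C) {H G : C} (ψ : H ⟶ G) :
    IsPullback (P ◁ ψ) (snd P H) (snd P G) ψ := by
  refine ⟨⟨by simp⟩, ⟨Limits.PullbackCone.IsLimit.mk _
    (fun s => lift (s.fst ≫ fst P G) s.snd) ?_ ?_ ?_⟩⟩
  · intro s
    apply CartesianMonoidalCategory.hom_ext <;> simp [s.condition]
  · intro s; simp
  · intro s m h1 h2
    apply CartesianMonoidalCategory.hom_ext
    · simp [← h1]
    · simp [← h2]

/-- Left translation by a `P`-point `i` of a group object `G`, as an automorphism of `P ⊗ G`. -/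
@[simps]
def transl {P G : C} [GrpObj G] (i : P ⟶ G) : P ⊗ G ≅ P ⊗ G where
  hom := lift (fst P G) ((fst P G ≫ i) * snd P G)
  inv := lift (fst P G) ((fst P G ≫ i)⁻¹ * snd P G)
  hom_inv_id := by
    apply CartesianMonoidalCategory.hom_ext <;> simp [MonObj.comp_mul, GrpObj.comp_inv]
  inv_hom_id := by
    apply CartesianMonoidalCategory.hom_ext <;> simp [MonObj.comp_mul]

theorem whiskerLeft_transl_snd {P H G : C} [GrpObj G] (i : P ⟶ G) (ψ : H ⟶ G) :
    (P ◁ ψ) ≫ (transl i).hom ≫ snd P G = (fst P H ≫ i) * (snd P H ≫ ψ) := by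
  simp [transl, MonObj.comp_mul]

end cat

open Limits in
/-- If the image of a homomorphism of group schemes over a field is open, it is also closed. -/
theorem result (K : Type u) [Field K] (H G : Over (Spec (CommRingCat.of K))) [GrpObj H] [GrpObj G] (ψ : H ⟶ G) [IsMonHom ψ] (h : IsOpen (Set.range ψ.left)) : IsClosed (Set.range ψ.left) := by
  rw [← isOpen_compl_iff, isOpen_iff_forall_mem_open]
  intro g hg
  -- the point `g` as a morphism from the spectrum of its residue field
  let P : Over (Spec (CommRingCat.of K)) :=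
    Over.mk (G.left.fromSpecResidueField g ≫ G.hom)
  let i : P ⟶ G := Over.homMk (G.left.fromSpecResidueField g) rfl
  -- the orbit map `(p, h) ↦ g • ψ h`
  let a : P ⊗ H ⟶ G := (P ◁ ψ) ≫ (transl i).hom ≫ snd P G
  have ha : a = (fst P H ≫ i) * (snd P H ≫ ψ) := whiskerLeft_transl_snd i ψ
  -- its range is open
  have hpb := (isPullback_whiskerLeft P ψ).map (Over.forget (Spec (CommRingCat.of K)))
  simp only [Over.forget_obj, Over.forget_map] at hpb
  have hr1 : Set.range (P ◁ ψ).left = (snd P G).left ⁻¹' Set.range ψ.left := by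
    rw [← Scheme.Pullback.range_fst, ← hpb.isoPullback_hom_fst, Scheme.Hom.comp_base,
      TopCat.coe_comp, Set.range_comp, Set.range_eq_univ.mpr, Set.image_univ]
    exact (hpb.isoPullback.hom.homeomorph).surjective
  have ho1 : IsOpen (Set.range (P ◁ ψ).left) := by
    rw [hr1]; exact h.preimage (snd P G).left.continuous
  have : UniversallyOpen P.hom := inferInstance
  have hsnd : IsOpenMap (snd P G).left :=
    Scheme.Hom.isOpenMap (Limits.pullback.snd P.hom G.hom)
  have : IsIso (transl i).hom.left :=
    inferInstanceAs (IsIso ((Over.forget _).map (transl i).hom))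
  have htr : IsOpenMap (transl i).hom.left := (transl i).hom.left.homeomorph.isOpenMap
  have hrange : Set.range a.left =
      (snd P G).left '' ((transl i).hom.left '' Set.range (P ◁ ψ).left) := by
    change Set.range ((P ◁ ψ).left ≫ (transl i).hom.left ≫ (snd P G).left) = _
    rw [Scheme.Hom.comp_base, Scheme.Hom.comp_base, TopCat.coe_comp, TopCat.coe_comp,
      Set.range_comp, Set.image_comp]
  have hopen : IsOpen (Set.range a.left) := by
    rw [hrange]; exact hsnd _ (htr _ ho1)
  refine ⟨Set.range a.left, ?_, hopen, ?_⟩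
  · -- disjoint from the image of `ψ`
    rintro _ ⟨w, rfl⟩ ⟨h', hh'⟩
    apply hg
    obtain ⟨z, -, -⟩ := Scheme.Pullback.exists_preimage_pullback (f := a.left) (g := ψ.left)
      w h' hh'.symm
    let Q : Over (Spec (CommRingCat.of K)) :=
      Over.mk (pullback.fst a.left ψ.left ≫ (P ⊗ H).hom)
    let q₁ : Q ⟶ P ⊗ H := Over.homMk (pullback.fst a.left ψ.left) rfl
    let q₂ : Q ⟶ H := Over.homMk (pullback.snd a.left ψ.left) (by
      change pullback.snd a.left ψ.left ≫ H.hom = pullback.fst a.left ψ.left ≫ (P ⊗ H).hom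
      rw [← Over.w ψ, ← Over.w a, pullback.condition_assoc])
    have hq : q₁ ≫ a = q₂ ≫ ψ := by
      ext; exact pullback.condition
    rw [ha, MonObj.comp_mul] at hq
    have hq' : q₁ ≫ fst P H ≫ i = (q₂ * (q₁ ≫ snd P H)⁻¹) ≫ ψ := by
      have h1 : q₁ ≫ fst P H ≫ i = (q₂ ≫ ψ) * (q₁ ≫ snd P H ≫ ψ)⁻¹ :=
        eq_mul_inv_of_mul_eq hq
      rw [h1]
      have := (IsMonHom.monoidHom ψ Q).map_mul q₂ (q₁ ≫ snd P H)⁻¹
      rw [map_inv] at this
      simpa using this.symm
    have hz := congr(($hq').left z)
    have hz1 : (q₁ ≫ fst P H ≫ i).left z = g := by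
      change (G.left.fromSpecResidueField g) ((q₁ ≫ fst P H).left z) = g
      exact Scheme.fromSpecResidueField_apply _ _
    rw [hz1] at hz
    rw [hz]
    exact ⟨_, rfl⟩
  · -- contains `g`
    let e : P ⟶ P ⊗ H := lift (𝟙 P) (toUnit P ≫ η[H])
    have he : e ≫ a = i := by
      rw [ha, MonObj.comp_mul]
      simp only [e, lift_fst_assoc, lift_snd_assoc, Category.id_comp, Category.assoc]
      rw [IsMonHom.one_hom, ← Hom.one_def, _root_.mul_one]
    have : Nonempty P.left := inferInstanceAs (Nonempty (Spec (G.left.residueField g)))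
    refine ⟨e.left (Classical.arbitrary _), ?_⟩
    have := congr(($he).left (Classical.arbitrary _))
    rw [Over.comp_left, Scheme.Hom.comp_apply] at this
    rw [this]
    exact Scheme.fromSpecResidueField_apply _ _

end Groth.Agent.S0352
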