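import Groth.Statements.S0351
import Groth.Agent.S0352
import Mathlib.AlgebraicGeometry.Morphisms.Immersion
import Mathlib.AlgebraicGeometry.Morphisms.ClosedImmersion

set_option autoImplicit false
universe u v
open CategoryTheory MonoidalCategory CartesianMonoidalCategory MonObj GrpObj AlgebraicGeometry
open GrpSch

namespace Groth.Agent.S0351

open Groth.Agent.S0352 (isPullback_whiskerLeft transl whiskerLeft_transl_snd)

section cat

variable {C : Type*} [Category C] [CartesianMonoidalCategory C]

/-- Base change of a morphism along the first projection. -/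
theorem isPullback_whiskerRight (P : C) {H G : C} (ψ : H ⟶ G) :
    IsPullback (ψ ▷ P) (fst H P) (fst G P) ψ := by
  refine ⟨⟨by simp⟩, ⟨Limits.PullbackCone.IsLimit.mk _
    (fun s => lift s.snd (s.fst ≫ snd G P)) ?_ ?_ ?_⟩⟩
  · intro s
    apply CartesianMonoidalCategory.hom_ext <;> simp [s.condition]
  · intro s; simp
  · intro s m h1 h2
    apply CartesianMonoidalCategory.hom_ext
    · simp [← h2]
    · simp [← h1]

end cat

lemma range_eq_preimage_of_isPullback {W X Y Z : Scheme.{u}} {f' : W ⟶ X} {g' : W ⟶ Y}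
    {g : X ⟶ Z} {f : Y ⟶ Z} (h : IsPullback f' g' g f) :
    Set.range f' = g ⁻¹' Set.range f := by
  rw [← Scheme.Pullback.range_fst, ← h.isoPullback_hom_fst, Scheme.Hom.comp_base,
    TopCat.coe_comp, Set.range_comp, Set.range_eq_univ.mpr, Set.image_univ]
  exact (h.isoPullback.hom.homeomorph).surjective

section field

variable {K : Type u} [Field K]

local notation "𝒮" => Over (Spec (CommRingCat.of K))

lemma range_whiskerLeft (P : 𝒮) {H G : 𝒮} (ψ : H ⟶ G) :
    Set.range (P ◁ ψ).left = (snd P G).left ⁻¹' Set.range ψ.left := by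
  have hpb := (isPullback_whiskerLeft P ψ).map (Over.forget (Spec (CommRingCat.of K)))
  simp only [Over.forget_obj, Over.forget_map] at hpb
  exact range_eq_preimage_of_isPullback hpb

lemma range_whiskerRight (P : 𝒮) {H G : 𝒮} (ψ : H ⟶ G) :
    Set.range (ψ ▷ P).left = (fst G P).left ⁻¹' Set.range ψ.left := by
  have hpb := (isPullback_whiskerRight P ψ).map (Over.forget (Spec (CommRingCat.of K)))
  simp only [Over.forget_obj, Over.forget_map] at hpb
  exact range_eq_preimage_of_isPullback hpb

/-- The spectrum of the residue field at a point, as a scheme over `K`. -/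
noncomputable def pt {X : 𝒮} (x : X.left) : 𝒮 :=
  Over.mk (X.left.fromSpecResidueField x ≫ X.hom)

/-- The canonical morphism from the residue field point. -/
noncomputable def ptHom {X : 𝒮} (x : X.left) : pt x ⟶ X :=
  Over.homMk (X.left.fromSpecResidueField x) rfl

lemma ptHom_apply {X : 𝒮} (x : X.left) (p : (pt x).left) : (ptHom x).left p = x :=
  Scheme.fromSpecResidueField_apply _ _

lemma range_ptHom {X : 𝒮} (x : X.left) : Set.range (ptHom x).left = {x} := by
  have : Nonempty (pt x).left := inferInstanceAs (Nonempty (Spec (X.left.residueField x)))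
  ext y
  simp only [Set.mem_range, Set.mem_singleton_iff]
  constructor
  · rintro ⟨p, rfl⟩; exact ptHom_apply x p
  · rintro rfl; exact ⟨Classical.arbitrary _, ptHom_apply _ _⟩

lemma isOpenMap_snd (P Y : 𝒮) : IsOpenMap (snd P Y).left := by
  have : UniversallyOpen P.hom := inferInstance
  exact Scheme.Hom.isOpenMap (Limits.pullback.snd P.hom Y.hom)

lemma isOpenMap_fst (X P : 𝒮) : IsOpenMap (fst X P).left := by
  have : UniversallyOpen P.hom := inferInstance
  exact Scheme.Hom.isOpenMap (Limits.pullback.fst X.hom P.hom)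

/-- One-sided closure lemma in a product of schemes over a field. -/
lemma mem_closure_of_fst_mem {X Y : 𝒮} (S : Set X.left) (T : Set Y.left) (x : (X ⊗ Y).left)
    (h1 : (fst X Y).left x ∈ S) (h2 : (snd X Y).left x ∈ closure T) :
    x ∈ closure ((fst X Y).left ⁻¹' S ∩ (snd X Y).left ⁻¹' T) := by
  set s := (fst X Y).left x with hs
  set C := closure ((fst X Y).left ⁻¹' S ∩ (snd X Y).left ⁻¹' T) with hC
  have hx : x ∈ Set.range (ptHom s ▷ Y).left := by
    rw [range_whiskerRight, range_ptHom]; rfl
  obtain ⟨y, hyx⟩ := hx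
  have hcl : IsClosed ((ptHom s ▷ Y).left ⁻¹' C) :=
    isClosed_closure.preimage (ptHom s ▷ Y).left.continuous
  have hsnd : ∀ y', (snd X Y).left ((ptHom s ▷ Y).left y') = (snd (pt s) Y).left y' := by
    intro y'
    rw [← Scheme.Hom.comp_apply, ← Over.comp_left, whiskerRight_snd]
  have hfst : ∀ y', (fst X Y).left ((ptHom s ▷ Y).left y') = s := by
    intro y'
    rw [← Scheme.Hom.comp_apply, ← Over.comp_left, whiskerRight_fst, Over.comp_left,
      Scheme.Hom.comp_apply, ptHom_apply]
  have hsub : (snd (pt s) Y).left ⁻¹' T ⊆ (ptHom s ▷ Y).left ⁻¹' C := by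
    intro y' hy'
    apply subset_closure
    exact ⟨by rw [Set.mem_preimage, hfst]; exact h1, by rw [Set.mem_preimage, hsnd]; exact hy'⟩
  have hy : y ∈ (snd (pt s) Y).left ⁻¹' closure T := by
    rw [Set.mem_preimage, ← hsnd, hyx]; exact h2
  rw [(isOpenMap_snd (pt s) Y).preimage_closure_eq_closure_preimage
    (snd (pt s) Y).left.continuous] at hy
  have := closure_minimal hsub hcl hy
  rwa [Set.mem_preimage, hyx] at this

/-- One-sided closure lemma in a product of schemes over a field (mirrored). -/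
lemma mem_closure_of_snd_mem {X Y : 𝒮} (S : Set X.left) (T : Set Y.left) (x : (X ⊗ Y).left)
    (h1 : (fst X Y).left x ∈ closure S) (h2 : (snd X Y).left x ∈ T) :
    x ∈ closure ((fst X Y).left ⁻¹' S ∩ (snd X Y).left ⁻¹' T) := by
  set t := (snd X Y).left x with ht
  set C := closure ((fst X Y).left ⁻¹' S ∩ (snd X Y).left ⁻¹' T) with hC
  have hx : x ∈ Set.range (X ◁ ptHom t).left := by
    rw [range_whiskerLeft, range_ptHom]; rfl
  obtain ⟨y, hyx⟩ := hx
  have hcl : IsClosed ((X ◁ ptHom t).left ⁻¹' C) :=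
    isClosed_closure.preimage (X ◁ ptHom t).left.continuous
  have hfst : ∀ y', (fst X Y).left ((X ◁ ptHom t).left y') = (fst X (pt t)).left y' := by
    intro y'
    rw [← Scheme.Hom.comp_apply, ← Over.comp_left, whiskerLeft_fst]
  have hsnd : ∀ y', (snd X Y).left ((X ◁ ptHom t).left y') = t := by
    intro y'
    rw [← Scheme.Hom.comp_apply, ← Over.comp_left, whiskerLeft_snd, Over.comp_left,
      Scheme.Hom.comp_apply, ptHom_apply]
  have hsub : (fst X (pt t)).left ⁻¹' S ⊆ (X ◁ ptHom t).left ⁻¹' C := by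
    intro y' hy'
    apply subset_closure
    exact ⟨by rw [Set.mem_preimage, hfst]; exact hy', by rw [Set.mem_preimage, hsnd]; exact h2⟩
  have hy : y ∈ (fst X (pt t)).left ⁻¹' closure S := by
    rw [Set.mem_preimage, ← hfst, hyx]; exact h1
  rw [(isOpenMap_fst X (pt t)).preimage_closure_eq_closure_preimage
    (fst X (pt t)).left.continuous] at hy
  have := closure_minimal hsub hcl hy
  rwa [Set.mem_preimage, hyx] at this

/-- In a product of schemes over a field, the "rectangle" on the closures lies in the closure of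
the rectangle. -/
lemma mem_closure_rect {X Y : 𝒮} (S : Set X.left) (T : Set Y.left) (x : (X ⊗ Y).left)
    (h1 : (fst X Y).left x ∈ closure S) (h2 : (snd X Y).left x ∈ closure T) :
    x ∈ closure ((fst X Y).left ⁻¹' S ∩ (snd X Y).left ⁻¹' T) := by
  have h := mem_closure_of_snd_mem S (closure T) x h1 h2
  refine closure_minimal ?_ isClosed_closure h
  rintro y ⟨hy1, hy2⟩
  exact mem_closure_of_fst_mem S T y hy1 hy2



section group

variable {H G : Over (Spec (CommRingCat.of K))} [GrpObj H] [GrpObj G] (ψ : H ⟶ G) [IsMonHom ψ]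

lemma mul_mem_range (x : (G ⊗ G).left) (h1 : (fst G G).left x ∈ Set.range ψ.left)
    (h2 : (snd G G).left x ∈ Set.range ψ.left) : (μ[G]).left x ∈ Set.range ψ.left := by
  have hx : x ∈ Set.range (ψ ▷ G).left := by rw [range_whiskerRight G ψ]; exact h1
  obtain ⟨y, rfl⟩ := hx
  have hy : y ∈ Set.range (H ◁ ψ).left := by
    rw [range_whiskerLeft H ψ, Set.mem_preimage]
    rw [← Scheme.Hom.comp_apply, ← Over.comp_left, whiskerRight_snd] at h2
    exact h2
  obtain ⟨w, rfl⟩ := hy
  refine ⟨(μ[H]).left w, ?_⟩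
  rw [← Scheme.Hom.comp_apply, ← Over.comp_left, IsMonHom.mul_hom, tensorHom_def',
    Category.assoc, Over.comp_left, Over.comp_left, Scheme.Hom.comp_apply, Scheme.Hom.comp_apply]

lemma mul_mem_closure (x : (G ⊗ G).left) (h1 : (fst G G).left x ∈ closure (Set.range ψ.left))
    (h2 : (snd G G).left x ∈ closure (Set.range ψ.left)) :
    (μ[G]).left x ∈ closure (Set.range ψ.left) := by
  have hx := mem_closure_rect (X := G) (Y := G) (Set.range ψ.left) (Set.range ψ.left) x h1 h2
  have hmaps : Set.MapsTo (μ[G]).left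
      ((fst G G).left ⁻¹' Set.range ψ.left ∩ (snd G G).left ⁻¹' Set.range ψ.left)
      (Set.range ψ.left) := by
    rintro y ⟨hy1, hy2⟩
    exact mul_mem_range ψ y hy1 hy2
  exact map_mem_closure (μ[G]).left.continuous hx hmaps

lemma inv_mem_closure (g : G.left) (hg : g ∈ closure (Set.range ψ.left)) :
    (ι[G]).left g ∈ closure (Set.range ψ.left) := by
  refine map_mem_closure (ι[G]).left.continuous hg ?_
  rintro _ ⟨h, rfl⟩
  refine ⟨(ι[H]).left h, ?_⟩
  rw [← Scheme.Hom.comp_apply, ← Over.comp_left, GrpObj.inv_hom, Over.comp_left,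
    Scheme.Hom.comp_apply]

lemma mul_snd_mem_closure {P : 𝒮} (j : P ⟶ G)
    (hj : ∀ p, j.left p ∈ closure (Set.range ψ.left)) (w : (P ⊗ G).left)
    (hw : (snd P G).left w ∈ closure (Set.range ψ.left)) :
    ((fst P G ≫ j) * snd P G).left w ∈ closure (Set.range ψ.left) := by
  rw [Hom.mul_def, Over.comp_left, Scheme.Hom.comp_apply]
  apply mul_mem_closure
  · rw [← Scheme.Hom.comp_apply, ← Over.comp_left, lift_fst, Over.comp_left,
      Scheme.Hom.comp_apply]
    exact hj _
  · rw [← Scheme.Hom.comp_apply, ← Over.comp_left, lift_snd]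
    exact hw

open Limits in
/-- If the orbit of a `P`-point `i` of `G` under `H` meets the image of `H`, the point lies in
the image of `H` (extracted from the proof of `S0352`). -/
lemma exists_mem_range_of_orbit {P : Over (Spec (CommRingCat.of K))} (i : P ⟶ G)
    (h : (Set.range ((P ◁ ψ) ≫ (transl i).hom ≫ snd P G).left ∩ Set.range ψ.left).Nonempty) :
    ∃ p : P.left, i.left p ∈ Set.range ψ.left := by
  obtain ⟨_, ⟨w, rfl⟩, ⟨h', hh'⟩⟩ := h
  let a : P ⊗ H ⟶ G := (P ◁ ψ) ≫ (transl i).hom ≫ snd P G
  have ha : a = (fst P H ≫ i) * (snd P H ≫ ψ) := whiskerLeft_transl_snd i ψ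
  obtain ⟨z, -, -⟩ := Scheme.Pullback.exists_preimage_pullback (f := a.left) (g := ψ.left)
    w h' hh'.symm
  let Q : Over (Spec (CommRingCat.of K)) :=
    Over.mk (pullback.fst a.left ψ.left ≫ (P ⊗ H).hom)
  let q₁ : Q ⟶ P ⊗ H := Over.homMk (pullback.fst a.left ψ.left) rfl
  let q₂ : Q ⟶ H := Over.homMk (pullback.snd a.left ψ.left) (by
    change pullback.snd a.left ψ.left ≫ H.hom = pullback.fst a.left ψ.left ≫ (P ⊗ H).hom
    rw [← Over.w ψ, ← Over.w a, pullback.condition_assoc])
  have hq : q₁ ≫ a = q₂ ≫ ψ := by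
    ext; exact pullback.condition
  rw [ha, MonObj.comp_mul] at hq
  have hq' : q₁ ≫ fst P H ≫ i = (q₂ * (q₁ ≫ snd P H)⁻¹) ≫ ψ := by
    have h1 : q₁ ≫ fst P H ≫ i = (q₂ ≫ ψ) * (q₁ ≫ snd P H ≫ ψ)⁻¹ :=
      eq_mul_inv_of_mul_eq hq
    rw [h1]
    have := (IsMonHom.monoidHom ψ Q).map_mul q₂ (q₁ ≫ snd P H)⁻¹
    rw [map_inv] at this
    simpa using this.symm
  have hz := congr(($hq').left z)
  refine ⟨(q₁ ≫ fst P H).left z, ?_⟩
  have hz1 : (q₁ ≫ fst P H ≫ i).left z = i.left ((q₁ ≫ fst P H).left z) := by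
    rw [← Category.assoc, Over.comp_left, Scheme.Hom.comp_apply]
  rw [← hz1, hz]
  exact ⟨_, rfl⟩

/-- The image of a homomorphism of group schemes over a field is closed as soon as it is
locally closed. -/
theorem isClosed_range_of_isLocallyClosed (hT : IsLocallyClosed (Set.range ψ.left)) :
    IsClosed (Set.range ψ.left) := by
  rw [← closure_subset_iff_isClosed]
  intro g hg
  obtain ⟨U, Z, hU, hZ, hTUZ⟩ := hT
  have hTU : Set.range ψ.left ⊆ U := by rw [hTUZ]; exact Set.inter_subset_left
  have hTZ : Set.range ψ.left ⊆ Z := by rw [hTUZ]; exact Set.inter_subset_right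
  have hclZ : closure (Set.range ψ.left) ⊆ Z := closure_minimal hTZ hZ
  have hUT : ∀ x, x ∈ U → x ∈ closure (Set.range ψ.left) → x ∈ Set.range ψ.left := by
    intro x hxU hxT
    rw [hTUZ]
    exact ⟨hxU, hclZ hxT⟩
  -- the point `g` as a morphism from the spectrum of its residue field
  let P : Over (Spec (CommRingCat.of K)) := pt g
  let i : P ⟶ G := ptHom g
  have hi : ∀ p, i.left p = g := ptHom_apply g
  let a : P ⊗ H ⟶ G := (P ◁ ψ) ≫ (transl i).hom ≫ snd P G
  have ha : a = (fst P H ≫ i) * (snd P H ≫ ψ) := whiskerLeft_transl_snd i ψ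
  have : IsIso (transl i).hom.left :=
    inferInstanceAs (IsIso ((Over.forget _).map (transl i).hom))
  have htr : IsOpenMap (transl i).hom.left := (transl i).hom.left.homeomorph.isOpenMap
  -- an open neighbourhood of `g`
  let O : Set G.left := (snd P G).left '' ((transl i).hom.left '' ((snd P G).left ⁻¹' U))
  have hO : IsOpen O :=
    isOpenMap_snd P G _ (htr _ (hU.preimage (snd P G).left.continuous))
  have hgO : g ∈ O := by
    let e : P ⟶ P ⊗ H := lift (𝟙 P) (toUnit P ≫ η[H])
    have he : e ≫ a = i := by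
      rw [ha, MonObj.comp_mul]
      simp only [e, lift_fst_assoc, lift_snd_assoc, Category.id_comp, Category.assoc]
      rw [IsMonHom.one_hom, ← Hom.one_def, _root_.mul_one]
    have : Nonempty P.left := inferInstanceAs (Nonempty (Spec (G.left.residueField g)))
    let p : P.left := Classical.arbitrary _
    refine ⟨(transl i).hom.left ((P ◁ ψ).left (e.left p)), ⟨(P ◁ ψ).left (e.left p), ?_, rfl⟩, ?_⟩
    · apply hTU
      rw [← Scheme.Hom.comp_apply, ← Over.comp_left, whiskerLeft_snd, Over.comp_left,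
        Scheme.Hom.comp_apply]
      exact ⟨_, rfl⟩
    · have := congr(($he).left p)
      rw [hi] at this
      rw [← this]
      simp only [a, Over.comp_left, Scheme.Hom.comp_apply]
  obtain ⟨t, ⟨_, ⟨y, hyU, rfl⟩, rfl⟩, htT⟩ := mem_closure_iff.mp hg O hO hgO
  -- `y` lies over the closure of the image
  have hy : (snd P G).left y ∈ closure (Set.range ψ.left) := by
    have h1 : (snd P G).left y =
        ((fst P G ≫ (i ≫ ι[G])) * snd P G).left ((transl i).hom.left y) := by
      have h2 : (transl i).hom ≫ ((fst P G ≫ (i ≫ ι[G])) * snd P G) = snd P G := by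
        have h3 : (fst P G ≫ (i ≫ ι[G])) * snd P G = (transl i).inv ≫ snd P G := by
          rw [Groth.Agent.S0352.transl_inv, lift_snd, ← Category.assoc, ← Hom.inv_def]
        rw [h3, Iso.hom_inv_id_assoc]
      rw [← Scheme.Hom.comp_apply, ← Over.comp_left, h2]
    rw [h1]
    apply mul_snd_mem_closure ψ
    · intro p
      rw [Over.comp_left, Scheme.Hom.comp_apply, hi]
      exact inv_mem_closure ψ g hg
    · exact subset_closure htT
  have hyT : y ∈ Set.range (P ◁ ψ).left := by
    rw [range_whiskerLeft P ψ]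
    exact hUT _ hyU hy
  obtain ⟨y', rfl⟩ := hyT
  obtain ⟨p, hp⟩ := exists_mem_range_of_orbit ψ i ⟨_, ⟨y', rfl⟩, by
    simpa only [Over.comp_left, Scheme.Hom.comp_apply] using htT⟩
  rwa [hi] at hp

end group

end field

/-- A homomorphism of group schemes over a field which is an immersion is a closed immersion. -/
theorem result (K : Type u) [Field K] (H G : Over (Spec (CommRingCat.of K))) [GrpObj H] [GrpObj G] (i : H ⟶ G) [IsMonHom i] [IsImmersion i.left] : IsClosedImmersion i.left := by
  have hloc : IsLocallyClosed (Set.range i.left) := IsImmersion.isLocallyClosed_range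
  exact IsClosedImmersion.of_isPreimmersion _ (isClosed_range_of_isLocallyClosed i hloc)

end Groth.Agent.S0351
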