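import Groth.Statements.S0355
import Groth.Agent.Lib.GrpTopId45

set_option autoImplicit false
universe u v
open CategoryTheory MonoidalCategory CartesianMonoidalCategory MonObj GrpObj AlgebraicGeometry
open GrpSch

namespace Groth.Agent.S0355

/-- Let G be a group scheme over a field K. Then the connected component of the identity point of G, as
a subset of the underlying topological space of G, is irreducible and quasi-compact. The published
statement is stronger: it also makes this component a flat closed subgroup scheme and proves it
geometrically irreducible; only the topological part is asserted here. -/
theorem result (K : Type u) [Field K] (G : Over (Spec (CommRingCat.of K))) [GrpObj G] : IsIrreducible (connectedComponent (η[G].left (IsLocalRing.closedPoint K))) ∧ IsCompact (connectedComponent (η[G].left (IsLocalRing.closedPoint K))) := by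
  let hG : GrpObj (Over.mk G.hom) := ‹GrpObj G›
  exact ⟨Groth.Agent.Lib.GrpTopId45.isIrreducible_connectedComponent G.hom,
    Groth.Agent.Lib.GrpTopId45.isCompact_connectedComponent G.hom⟩

end Groth.Agent.S0355
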