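import Groth.Statements.S0356
import Groth.Agent.Lib.PuncturedCoh9

set_option autoImplicit false
universe u v
open CategoryTheory AlgebraicGeometry
open LocCoh

namespace Groth.Agent.S0356

open Groth.Agent.Lib.PuncturedCoh9 in


/-- Let R be a Noetherian ring, I an ideal, M an R-module and U = Spec R ∖ V(I) the punctured open. For
every p ≥ 1, the cohomology group H^p(U, M̃|_U) of the restriction to U of the quasi-coherent sheaf
associated with M is isomorphic to the local cohomology H^(p+1)_I(M). (The published statement also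
gives a four-term exact sequence in low degrees, which is not stated here; here R is Noetherian.) -/
theorem result (R : Type u) [CommRing R] [IsNoetherianRing R] (I : Ideal R) (M : Type u) [AddCommGroup M] [Module R M] (p : ℕ) (hp : 1 ≤ p) : Nonempty (Coh.HH (↑(LocCoh.puncturedOpen R I)) ((AlgebraicGeometry.tilde (R := CommRingCat.of R) (ModuleCat.of R M)).restrict (LocCoh.puncturedOpen R I).ι) p ≃+ LocCoh.H I (p + 1) M) := by
  obtain ⟨q, rfl⟩ := Nat.exists_eq_add_of_le' hp
  obtain ⟨s, hs⟩ := (IsNoetherian.noetherian I : I.FG)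
  have hset : {a : R | a ∈ s.toList} = (s : Set R) := by
    ext a
    simp
  have hI : Ideal.span {a : R | a ∈ s.toList} = I := by rw [hset]; exact hs
  have htop : (LocCoh.puncturedOpen R I).ι ''ᵁ ⊤ = LocCoh.puncturedOpen R I :=
    Scheme.Opens.ι_image_top _
  have hle : ∀ i : Fin s.toList.length, PrimeSpectrum.basicOpen (s.toList.get i) ≤
      (LocCoh.puncturedOpen R I).ι ''ᵁ ⊤ := by
    intro i
    rw [htop]
    intro x hx hx'
    have hmem : s.toList.get i ∈ s := Finset.mem_toList.mp (List.get_mem _ _)
    have : s.toList.get i ∈ I := by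
      rw [← hs]; exact Ideal.subset_span hmem
    exact hx (hx' this)
  have hcov : (LocCoh.puncturedOpen R I).ι ''ᵁ ⊤ ≤
      ⨆ i : Fin s.toList.length, PrimeSpectrum.basicOpen (s.toList.get i) := by
    rw [htop]
    intro x hx
    have h1 : ¬ ((I : Set R) ⊆ (PrimeSpectrum.asIdeal x : Set R)) := hx
    have h2 : ∃ f ∈ s, f ∉ PrimeSpectrum.asIdeal x := by
      by_contra hcon
      apply h1
      rw [← hs]
      exact (Submodule.span_le.mpr (fun f hf => by
        by_contra hfx
        exact hcon ⟨f, hf, hfx⟩))
    obtain ⟨f, hf, hfx⟩ := h2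
    obtain ⟨i, hi⟩ := List.mem_iff_get.mp (Finset.mem_toList.mpr hf)
    exact TopologicalSpace.Opens.mem_iSup.mpr ⟨i, by rw [hi]; exact hfx⟩
  have := main (LocCoh.puncturedOpen R I) s.toList hle hcov q M
  rw [hI] at this
  exact this

end Groth.Agent.S0356
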