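import Groth.Statements.S0358
import Groth.Agent.Lib.GradeFlat33

set_option autoImplicit false
universe u v
open LocCoh

namespace Groth.Agent.S0358

open Groth.Agent.Lib IsLocalRing TensorProduct in
/-- For a flat local homomorphism R → S of Noetherian local rings whose closed fibre S/m_R S is
Cohen–Macaulay, and a proper ideal I of S, the I-depth of S is at least dim(S/m_R S) − dim(S/(m_R S
+ I)); stated additively. -/
theorem result (R : Type u) [CommRing R] [IsLocalRing R] [IsNoetherianRing R] (S : Type u) [CommRing S] [IsLocalRing S] [IsNoetherianRing S] [Algebra R S] [IsLocalHom (algebraMap R S)] [Module.Flat R S] (hCM : LocCoh.IsCohenMacaulayLocalRing (S ⧸ (IsLocalRing.maximalIdeal R).map (algebraMap R S))) (I : Ideal S) (hI : I ≠ ⊤) : ringKrullDim (S ⧸ (IsLocalRing.maximalIdeal R).map (algebraMap R S)) ≤ ringKrullDim (S ⧸ ((IsLocalRing.maximalIdeal R).map (algebraMap R S) ⊔ I)) + ((LocCoh.idealDepth I S : ℕ∞) : WithBot ℕ∞) := by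
  have hNoeth : IsNoetherianRing (S ⧸ (maximalIdeal R).map (algebraMap R S)) := hCM.1
  have hLoc : IsLocalRing (S ⧸ (maximalIdeal R).map (algebraMap R S)) := hCM.2
  have hmS : (maximalIdeal R).map (algebraMap R S) ≤ maximalIdeal S :=
    le_maximalIdeal (map_maximalIdeal_lt_top (algebraMap R S)).ne
  have hJ : I.map (algebraMap S (S ⧸ (maximalIdeal R).map (algebraMap R S))) ≠ ⊤ := by
    intro h
    have h' := congrArg (Ideal.comap (algebraMap S (S ⧸ (maximalIdeal R).map (algebraMap R S)))) h
    rw [Ideal.comap_top, Ideal.Quotient.algebraMap_eq,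
      Ideal.comap_map_of_surjective _ Ideal.Quotient.mk_surjective, ← RingHom.ker_eq_comap_bot,
      Ideal.mk_ker] at h'
    have : I ⊔ (maximalIdeal R).map (algebraMap R S) ≤ maximalIdeal S :=
      sup_le (le_maximalIdeal hI) hmS
    rw [h'] at this
    exact (maximalIdeal.isMaximal S).ne_top (top_le_iff.mp this)
  -- (1) depth of the CM fibre against grade + dimension
  have h1 := DepthLoc33.depth_le_idealDepth_add_dim _ hJ (S ⧸ (maximalIdeal R).map (algebraMap R S))
  rw [← hCM.supportDim_eq_depth, Module.supportDim_self_eq_ringKrullDim] at h1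
  -- (2) the double quotient
  have h2 : ringKrullDim ((S ⧸ (maximalIdeal R).map (algebraMap R S)) ⧸
      I.map (algebraMap S (S ⧸ (maximalIdeal R).map (algebraMap R S)))) =
      ringKrullDim (S ⧸ ((maximalIdeal R).map (algebraMap R S) ⊔ I)) :=
    ringKrullDim_eq_of_ringEquiv
      (DoubleQuot.quotQuotEquivQuotSup ((maximalIdeal R).map (algebraMap R S)) I)
  -- (3) grade over the quotient ring vs grade over `S`
  have h3 := GradeFlat33.idealDepth_map_le_of_surjective (R := S)
    (S := S ⧸ (maximalIdeal R).map (algebraMap R S)) Ideal.Quotient.mk_surjective I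
    (S ⧸ (maximalIdeal R).map (algebraMap R S))
  -- (4) grade of the closed fibre vs grade of `S`
  have h4 : LocCoh.idealDepth I (S ⧸ (maximalIdeal R).map (algebraMap R S)) ≤
      LocCoh.idealDepth I S := by
    have hsm : (maximalIdeal R).map (algebraMap R S) • (⊤ : Submodule S S) =
        (maximalIdeal R).map (algebraMap R S) := by
      rw [smul_eq_mul, Ideal.mul_top]
    let e : (S ⊗[R] (R ⧸ maximalIdeal R)) ≃ₗ[S] S ⧸ (maximalIdeal R).map (algebraMap R S) :=
      (DepthFlat33.fibEquiv S (maximalIdeal R)).trans (Submodule.quotEquivOfEq _ _ hsm)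
    rw [← DepthFlat33.idealDepth_congr e I]
    refine ENat.forall_natCast_le_iff_le.mp fun n hn => ?_
    exact GradeFlat33.le_idealDepth_of_le_idealDepth_fibre (R := R) I hI n S hn
  rw [h2] at h1
  refine h1.trans ?_
  rw [add_comm]
  exact add_le_add_right (WithBot.coe_le_coe.mpr (h3.trans h4)) _

end Groth.Agent.S0358
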