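import Groth.Statements.S0359
import Groth.Agent.Lib.H8Lift2

set_option autoImplicit false
universe u v
open LocCoh

namespace Groth.Agent.S0359

open RingTheory.Sequence IsLocalRing Pointwise Module LocCoh Groth.Agent.Lib.H8CM
  Groth.Agent.Lib.H8LocTrans Groth.Agent.Lib.H8Lift

/-- For a finite module M over a Noetherian ring and a prime p with depth(M_p) = e finite, there is a
basic open neighbourhood of p in V(p) on which the depth of the localizations of M is at least e,
and it exceeds e at all but finitely many of those primes. -/
theorem result (R : Type u) [CommRing R] [IsNoetherianRing R] (M : Type u) [AddCommGroup M] [Module R M] [Module.Finite R M] (p : Ideal R) [p.IsPrime] (e : ℕ) (he : LocCoh.depth (Localization.AtPrime p) (LocalizedModule p.primeCompl M) = e) : ∃ f : R, f ∉ p ∧ (∀ (q : Ideal R) [q.IsPrime], p ≤ q → f ∉ q → (e : ℕ∞) ≤ LocCoh.depth (Localization.AtPrime q) (LocalizedModule q.primeCompl M)) ∧ {q : PrimeSpectrum R | p ≤ q.asIdeal ∧ f ∉ q.asIdeal ∧ LocCoh.depth (Localization.AtPrime q.asIdeal) (LocalizedModule q.asIdeal.primeCompl M) = e}.Finite := by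
  classical
  have hnt : Nontrivial (LocalizedModule p.primeCompl M) := by
    by_contra hnt
    rw [not_nontrivial_iff_subsingleton] at hnt
    rw [depth_eq_top_of_subsingleton] at he
    exact ENat.top_ne_natCast e he
  obtain ⟨rs, hlen, hmem, hreg⟩ := exists_list_of_le_depth p e (le_of_eq he.symm)
  obtain ⟨f, hf, hk⟩ := exists_kills p rs hreg
  refine ⟨f, hf, ?_, ?_⟩
  · intro q hq hpq hfq
    have hregq := isWeaklyRegular_atPrime_of_kills q rs f hfq hk
    rcases subsingleton_or_nontrivial (LocalizedModule q.primeCompl M) with hs | hn
    · rw [depth_eq_top_of_subsingleton]; exact le_top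
    · rw [Groth.Agent.Lib.DepthRees.natCast_le_depth_iff]
      exact ⟨rs.map (algebraMap R (Localization.AtPrime q)), by simp [hlen],
        map_mem_maximalIdeal q rs (fun r hr ↦ hpq (hmem r hr)), hregq⟩
  · refine Set.Finite.subset
      ((associatedPrimes.finite R (M ⧸ Ideal.ofList rs • (⊤ : Submodule R M))).preimage
        (f := PrimeSpectrum.asIdeal) (fun a _ b _ hab ↦ PrimeSpectrum.ext hab)) ?_
    rintro ⟨q, hq⟩ ⟨hpq, hfq, hd⟩
    simp only at hpq hfq hd
    rw [Set.mem_preimage]
    change q ∈ associatedPrimes R (M ⧸ Ideal.ofList rs • (⊤ : Submodule R M))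
    have hregq := isWeaklyRegular_atPrime_of_kills q rs f hfq hk
    have hntq : Nontrivial (LocalizedModule q.primeCompl M) := by
      by_contra hnt
      rw [not_nontrivial_iff_subsingleton] at hnt
      rw [depth_eq_top_of_subsingleton] at hd
      exact ENat.top_ne_natCast e hd
    have hmemq := map_mem_maximalIdeal q rs (fun r hr ↦ hpq (hmem r hr))
    have key := depth_quotient_ofList_add_length (R := Localization.AtPrime q)
      (rs.map (algebraMap R (Localization.AtPrime q))) (LocalizedModule q.primeCompl M)
      hmemq hregq
    rw [List.length_map, hlen, hd] at key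
    have hd0 : depth (Localization.AtPrime q) (LocalizedModule q.primeCompl M ⧸
        Ideal.ofList (rs.map (algebraMap R (Localization.AtPrime q))) •
        (⊤ : Submodule (Localization.AtPrime q) (LocalizedModule q.primeCompl M))) = 0 := by
      generalize depth (Localization.AtPrime q) (LocalizedModule q.primeCompl M ⧸
        Ideal.ofList (rs.map (algebraMap R (Localization.AtPrime q))) •
        (⊤ : Submodule (Localization.AtPrime q) (LocalizedModule q.primeCompl M))) = d at key
      induction d using ENat.recTopCoe with
      | top => simp at key
      | coe d =>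
        have : d + e = e := by exact_mod_cast key
        have : d = 0 := by omega
        simp [this]
    have hntQ : Nontrivial (LocalizedModule q.primeCompl M ⧸
        Ideal.ofList (rs.map (algebraMap R (Localization.AtPrime q))) •
        (⊤ : Submodule (Localization.AtPrime q) (LocalizedModule q.primeCompl M))) := by
      rw [Submodule.Quotient.nontrivial_iff]
      intro htop
      have hle : Ideal.ofList (rs.map (algebraMap R (Localization.AtPrime q))) ≤
          maximalIdeal (Localization.AtPrime q) := by
        rw [Ideal.ofList, Ideal.span_le]
        intro x hx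
        exact hmemq x hx
      have h2 : maximalIdeal (Localization.AtPrime q) •
          (⊤ : Submodule (Localization.AtPrime q) (LocalizedModule q.primeCompl M)) = ⊤ := by
        rw [eq_top_iff]
        exact htop.ge.trans (Submodule.smul_mono_left hle)
      exact Groth.Agent.Lib.DepthRees.maximalIdeal_smul_top_ne_top
        (R := Localization.AtPrime q) (LocalizedModule q.primeCompl M) h2
    have hass := (Groth.Agent.Lib.SerreSk.maximalIdeal_mem_associatedPrimes_iff
      (R := Localization.AtPrime q) (LocalizedModule q.primeCompl M ⧸
        Ideal.ofList (rs.map (algebraMap R (Localization.AtPrime q))) •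
        (⊤ : Submodule (Localization.AtPrime q) (LocalizedModule q.primeCompl M)))).mpr
      (by rw [hd0]; simp)
    obtain ⟨f', hf'⟩ := exists_isLocalizedModule_quotient (M := M) q.primeCompl rs
    have hass' := Module.associatedPrimes.comap_mem_associatedPrimes_of_mem_associatedPrimes_of_isLocalizedModule_of_fg
      q.primeCompl f' _ hass ((isNoetherianRing_iff_ideal_fg R).mp inferInstance _)
    have hc : Ideal.comap (algebraMap R (Localization.AtPrime q))
        (maximalIdeal (Localization.AtPrime q)) = q :=
      IsLocalization.AtPrime.comap_maximalIdeal (Localization.AtPrime q) q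
    rwa [hc] at hass'

end Groth.Agent.S0359
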