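import Groth.Statements.S0360
import Groth.Agent.Lib.DevTor
import Mathlib.RingTheory.Filtration
import Mathlib.LinearAlgebra.TensorProduct.Quotient
-- import your own Groth.Agent.* helpers here

set_option autoImplicit false
universe u v
open CategoryTheory
open LocCoh

namespace Groth.Agent.S0360

open TensorProduct MonoidalCategory Limits
open Groth.Agent.Lib Groth.Agent.Lib.TorLES Groth.Agent.Lib.TorNat

variable {R : Type u} [CommRing R] (I : Ideal R)

/-- `R/I^a` as an object. -/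
noncomputable abbrev Qa (a : ℕ) : ModuleCat.{u} R := ModuleCat.of R (R ⧸ I ^ a)

/-- the projection `R/I^a → R/I^b`. -/
noncomputable def pr (a b : ℕ) (h : b ≤ a) : Qa I a ⟶ Qa I b :=
  ModuleCat.ofHom (Submodule.mapQ (I ^ a) (I ^ b) LinearMap.id (Ideal.pow_le_pow_right h))

lemma pr_comp (a b c : ℕ) (h₁ : b ≤ a) (h₂ : c ≤ b) :
    pr I a b h₁ ≫ pr I b c h₂ = pr I a c (h₂.trans h₁) := by
  apply ModuleCat.hom_ext
  apply Submodule.linearMap_qext
  rfl

lemma pr_one (a b : ℕ) (h : b ≤ a) : (pr I a b h).hom (1 : R ⧸ I ^ a) = (1 : R ⧸ I ^ b) := rfl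

/-- vanishing of the transition maps on `Tor_i(X, -)` with shift `c`. -/
def Van (X : ModuleCat.{u} R) (i c : ℕ) : Prop :=
  ∀ a b (h : b + c ≤ a), ((Tor (ModuleCat.{u} R) i).obj X).map (pr I a b (by omega)) = 0

lemma Van.mono {X : ModuleCat.{u} R} {i c c' : ℕ} (h : Van I X i c) (hc : c ≤ c') :
    Van I X i c' := fun a b hab => h a b (by omega)

lemma Van.of_natIso {X X' : ModuleCat.{u} R} {i i' c : ℕ}
    (e : (Tor (ModuleCat.{u} R) i).obj X ≅ (Tor (ModuleCat.{u} R) i').obj X')
    (h : Van I X' i' c) : Van I X i c := by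
  intro a b hab
  have h1 := e.hom.naturality (pr I a b (by omega))
  have h2 := h a b hab
  rw [h2, comp_zero] at h1
  have : IsIso (e.hom.app (Qa I b)) := inferInstance
  exact (cancel_mono (e.hom.app (Qa I b))).1 (by rw [h1, zero_comp])

lemma exists_tmul_one (M : Type u) [AddCommGroup M] [Module R M] (J : Ideal R)
    (w : M ⊗[R] (R ⧸ J)) : ∃ x : M, w = x ⊗ₜ 1 := by
  obtain ⟨x, hx⟩ := Submodule.Quotient.mk_surjective _ (TensorProduct.tensorQuotEquivQuotSMul M J w)
  exact ⟨x, by rw [← TensorProduct.tensorQuotEquivQuotSMul_symm_mk, hx,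
    LinearEquiv.symm_apply_apply]⟩

lemma tmul_one_eq_zero_iff (M : Type u) [AddCommGroup M] [Module R M] (J : Ideal R) (x : M) :
    x ⊗ₜ[R] (1 : R ⧸ J) = 0 ↔ x ∈ J • (⊤ : Submodule R M) := by
  rw [← TensorProduct.tensorQuotEquivQuotSMul_symm_mk, LinearEquiv.map_eq_zero_iff,
    Submodule.Quotient.mk_eq_zero]

/-- key step for `Tor_1`. -/
lemma tor_one_map_eq_zero {S : ShortComplex (ModuleCat.{u} R)} (hS : S.ShortExact)
    [Module.Flat R S.X₂] (a b : ℕ) (hab : b ≤ a)
    (H : ∀ k : S.X₁, S.f.hom k ∈ I ^ a • (⊤ : Submodule R S.X₂) →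
      k ∈ I ^ b • (⊤ : Submodule R S.X₁)) :
    ((Tor (ModuleCat.{u} R) 1).obj S.X₃).map (pr I a b hab) = 0 := by
  have hnat := (ι₁ hS).naturality (pr I a b hab)
  have hmono := ι₁_mono hS (Qa I b)
  refine (cancel_mono ((ι₁ hS).app (Qa I b))).1 ?_
  rw [zero_comp]
  refine hnat.trans ?_
  apply ModuleCat.hom_ext
  apply LinearMap.ext
  intro z
  obtain ⟨k, hk⟩ := exists_tmul_one S.X₁ (I ^ a) (((ι₁ hS).app (Qa I a)).hom z)
  have h0 : (S.f ▷ Qa I a).hom (((ι₁ hS).app (Qa I a)).hom z) = 0 := by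
    have := ι₁_comp hS (Qa I a)
    rw [← ModuleCat.comp_apply, this]
    rfl
  rw [hk] at h0
  have h1 : S.f.hom k ⊗ₜ[R] (1 : R ⧸ I ^ a) = 0 := h0
  rw [tmul_one_eq_zero_iff] at h1
  have h2 := H k h1
  rw [← tmul_one_eq_zero_iff] at h2
  show ((tensorLeft S.X₁).map (pr I a b hab)).hom (((ι₁ hS).app (Qa I a)).hom z) = 0
  rw [hk]
  exact h2

section pres

variable {F X : Type u} [AddCommGroup F] [Module R F] [AddCommGroup X] [Module R X]
  (f : F →ₗ[R] X)

/-- the presentation `0 → ker f → F → X → 0`. -/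
noncomputable def presSC : ShortComplex (ModuleCat.{u} R) :=
  ShortComplex.mk (ModuleCat.ofHom (LinearMap.ker f).subtype) (ModuleCat.ofHom f) (by
    apply ModuleCat.hom_ext
    apply LinearMap.ext
    intro x
    exact x.2)

lemma presSC_shortExact (hf : Function.Surjective f) : (presSC f).ShortExact := by
  refine ModuleCat.shortComplex_shortExact _ ?_ ?_ hf
  · intro x
    constructor
    · intro hx
      exact ⟨⟨x, hx⟩, rfl⟩
    · rintro ⟨y, rfl⟩
      exact y.2
  · exact Subtype.val_injective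

lemma mem_smul_top_of_mem_smul (N : Submodule R F) (J : Ideal R) (x : N)
    (hx : (x : F) ∈ J • N) : x ∈ J • (⊤ : Submodule R N) := by
  have h1 : (J • (⊤ : Submodule R N)).map N.subtype = J • N := by
    rw [Submodule.map_smul'', Submodule.map_subtype_top]
  rw [← h1] at hx
  obtain ⟨y, hy, hyx⟩ := hx
  have : y = x := Subtype.val_injective hyx
  rwa [← this]

/-- `Tor_1` transition map vanishes given an Artin–Rees type inclusion. -/
lemma tor_one_pres_eq_zero (hf : Function.Surjective f) [Module.Flat R F] (a b : ℕ) (hab : b ≤ a)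
    (H : I ^ a • (⊤ : Submodule R F) ⊓ LinearMap.ker f ≤ I ^ b • LinearMap.ker f) :
    ((Tor (ModuleCat.{u} R) 1).obj (ModuleCat.of R X)).map (pr I a b hab) = 0 := by
  have hS := presSC_shortExact f hf
  have : Module.Flat R (presSC f).X₂ := inferInstanceAs (Module.Flat R F)
  refine tor_one_map_eq_zero I hS a b hab ?_
  intro k hk
  exact mem_smul_top_of_mem_smul (LinearMap.ker f) (I ^ b) k (H ⟨hk, k.2⟩)

end pres

/-- (B): `Tor_1` for modules killed by `I^m`. -/
lemma van_one_of_killed (m : ℕ) (M : Type u) [AddCommGroup M] [Module R M]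
    (hM : ∀ a ∈ I ^ m, ∀ x : M, a • x = 0) : Van I (ModuleCat.of R M) 1 m := by
  intro a b hab
  let f : (M →₀ R) →ₗ[R] M := Finsupp.linearCombination R id
  have hf : Function.Surjective f := Finsupp.linearCombination_id_surjective R M
  refine tor_one_pres_eq_zero I f hf a b (by omega) ?_
  have h1 : I ^ m • (⊤ : Submodule R (M →₀ R)) ≤ LinearMap.ker f := by
    rw [Submodule.smul_le]
    intro r hr n _
    rw [LinearMap.mem_ker, map_smul]
    exact hM r hr _
  have h2 : I ^ a = I ^ (a - m) * I ^ m := by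
    rw [← pow_add]
    congr 1
    omega
  calc I ^ a • (⊤ : Submodule R (M →₀ R)) ⊓ LinearMap.ker f
      ≤ I ^ a • (⊤ : Submodule R (M →₀ R)) := inf_le_left
    _ = I ^ (a - m) • (I ^ m • (⊤ : Submodule R (M →₀ R))) := by rw [h2, Submodule.mul_smul]
    _ ≤ I ^ (a - m) • LinearMap.ker f := Submodule.smul_mono le_rfl h1
    _ ≤ I ^ b • LinearMap.ker f :=
        Submodule.smul_mono_left (Ideal.pow_le_pow_right (by omega))

/-- (A), `i = 1`: Artin–Rees. -/
lemma van_one_of_finite [IsNoetherianRing R] (k : ℕ) (X : Type u) [AddCommGroup X] [Module R X]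
    (f : (Fin k → R) →ₗ[R] X) (hf : Function.Surjective f) :
    ∃ c, Van I (ModuleCat.of R X) 1 c := by
  obtain ⟨c, hc⟩ := Ideal.exists_pow_inf_eq_pow_smul I (LinearMap.ker f)
  refine ⟨c, ?_⟩
  intro a b hab
  refine tor_one_pres_eq_zero I f hf a b (by omega) ?_
  rw [hc a (by omega)]
  calc I ^ (a - c) • (I ^ c • (⊤ : Submodule R (Fin k → R)) ⊓ LinearMap.ker f)
      ≤ I ^ (a - c) • LinearMap.ker f := Submodule.smul_mono le_rfl inf_le_right
    _ ≤ I ^ b • LinearMap.ker f :=
        Submodule.smul_mono_left (Ideal.pow_le_pow_right (by omega))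

/-- (A): uniform vanishing for finite modules, all `i > 0`. -/
theorem van_of_finite [IsNoetherianRing R] : ∀ (j : ℕ) (X : Type u) [AddCommGroup X] [Module R X]
    [Module.Finite R X], ∃ c, Van I (ModuleCat.of R X) (j + 1) c := by
  intro j
  induction j with
  | zero =>
    intro X _ _ _
    obtain ⟨k, f, hf⟩ := Module.Finite.exists_fin' R X
    exact van_one_of_finite I k X f hf
  | succ j ih =>
    intro X _ _ _
    obtain ⟨k, f, hf⟩ := Module.Finite.exists_fin' R X
    have hS := presSC_shortExact f hf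
    have : Module.Flat R (presSC f).X₂ := inferInstanceAs (Module.Flat R (Fin k → R))
    obtain ⟨c, hc⟩ := ih (LinearMap.ker f)
    exact ⟨c, Van.of_natIso I (δNatIso hS j) hc⟩

/-- `Tor_i(-, N)` is additive. -/
lemma flip_additive (N : ModuleCat.{u} R) (i : ℕ) :
    ((Tor (ModuleCat.{u} R) i).flip.obj N).Additive := by
  let P := ProjectiveResolution.of N
  have : (H15TorFiltered.Φ P).Additive := inferInstanceAs (tensorCx P.complex).Additive
  exact Functor.additive_of_iso (H15TorFiltered.torIso P i).symm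

/-- (C): finite powers. -/
lemma van_pi (X : ModuleCat.{u} R) (i c k : ℕ) (h : Van I X i c) :
    Van I (ModuleCat.of R (Fin k → X)) i c := by
  intro a b hab
  have hX := h a b hab
  have := flip_additive (Qa I a) i
  let τ := (Tor (ModuleCat.{u} R) i).flip.map (pr I a b (by omega))
  show τ.app (ModuleCat.of R (Fin k → X)) = 0
  have hτX : τ.app X = 0 := hX
  have hid : 𝟙 (ModuleCat.of R (Fin k → X)) =
      ∑ j : Fin k, (ModuleCat.ofHom (LinearMap.proj (R := R) (φ := fun _ : Fin k => X) j) :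
          ModuleCat.of R (Fin k → X) ⟶ X) ≫
        (ModuleCat.ofHom (LinearMap.single R (fun _ : Fin k => X) j) :
          X ⟶ ModuleCat.of R (Fin k → X)) := by
    apply ModuleCat.hom_ext
    apply LinearMap.ext
    intro v
    rw [ModuleCat.hom_sum]
    simp only [ModuleCat.hom_id, LinearMap.id_coe, id_eq, LinearMap.sum_apply, ModuleCat.hom_comp,
      ModuleCat.hom_ofHom, LinearMap.coe_comp, Function.comp_apply, LinearMap.coe_proj,
      Function.eval, LinearMap.coe_single]
    exact (Finset.univ_sum_single v).symm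
  have h1 : τ.app (ModuleCat.of R (Fin k → X)) =
      ((Tor (ModuleCat.{u} R) i).flip.obj (Qa I a)).map (𝟙 _) ≫ τ.app _ := by
    rw [CategoryTheory.Functor.map_id, Category.id_comp]
  rw [h1, hid, CategoryTheory.Functor.map_sum, Preadditive.sum_comp]
  apply Finset.sum_eq_zero
  intro j _
  rw [CategoryTheory.Functor.map_comp, Category.assoc, τ.naturality, hτX, zero_comp, comp_zero]

/-- (D): a natural transformation out of a functor commuting with filtered colimits which
vanishes on finitely generated submodules vanishes. -/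
lemma eq_zero_of_fg (N : ModuleCat.{u} R) {T₁ T₂ : ModuleCat.{u} R ⥤ ModuleCat.{u} R}
    [PreservesColimitsOfShape (DevTor.FGSub N) T₁] (τ : T₁ ⟶ T₂)
    (h : ∀ N' : Submodule R N, N'.FG → τ.app (ModuleCat.of R N') = 0) : τ.app N = 0 := by
  have hc₁ := isColimitOfPreserves T₁ (DevTor.fgIsColimit N)
  have key : ∀ α : DevTor.FGSub N,
      T₁.map (ModuleCat.ofHom α.1.subtype : ModuleCat.of R α.1 ⟶ N) ≫ τ.app N =
      T₁.map (ModuleCat.ofHom α.1.subtype : ModuleCat.of R α.1 ⟶ N) ≫
        (0 : T₁.obj N ⟶ T₂.obj N) := by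
    intro α
    rw [comp_zero, τ.naturality, h α.1 α.2, zero_comp]
  exact hc₁.hom_ext key

lemma van_of_fg (M : ModuleCat.{u} R) (i c : ℕ)
    (h : ∀ N' : Submodule R M, N'.FG → Van I (ModuleCat.of R N') i c) : Van I M i c := by
  intro a b hab
  have := H15TorFiltered.tor_flip_preservesColimitsOfShape R i (Qa I a) (DevTor.FGSub M)
  exact eq_zero_of_fg M ((Tor (ModuleCat.{u} R) i).flip.map (pr I a b (by omega)))
    (fun N' hN' => h N' hN' a b hab)

/-- middle lemma from the long exact sequence. -/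
lemma van_of_shortExact {S : ShortComplex (ModuleCat.{u} R)} (hS : S.ShortExact) (j c₁ c₂ : ℕ)
    (h₁ : Van I S.X₁ j c₁) (h₂ : Van I S.X₂ (j + 1) c₂) : Van I S.X₃ (j + 1) (c₁ + c₂) := by
  intro a b hab
  have e : pr I a b (by omega) = pr I a (b + c₂) (by omega) ≫ pr I (b + c₂) b (by omega) :=
    (pr_comp I a (b + c₂) b (by omega) (by omega)).symm
  rw [e, CategoryTheory.Functor.map_comp]
  apply ModuleCat.hom_ext
  apply LinearMap.ext
  intro z
  have hy : ((δNat hS j).app (Qa I (b + c₂))).hom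
      ((((Tor (ModuleCat.{u} R) (j + 1)).obj S.X₃).map (pr I a (b + c₂) (by omega))).hom z) = 0 := by
    have hn := (δNat hS j).naturality (pr I a (b + c₂) (by omega))
    rw [h₁ a (b + c₂) (by omega), comp_zero] at hn
    rw [← ModuleCat.comp_apply, hn]
    rfl
  have hex := exact₃ (ProjectiveResolution.of (Qa I (b + c₂))) hS j
  obtain ⟨x, hx⟩ := (ShortComplex.moduleCat_exact_iff _).1 hex _ hy
  have hnat := ((Tor (ModuleCat.{u} R) (j + 1)).map S.g).naturality (pr I (b + c₂) b (by omega))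
  rw [h₂ (b + c₂) b (by omega), zero_comp] at hnat
  rw [ModuleCat.comp_apply]
  dsimp only at hx
  rw [← hx, ← ModuleCat.comp_apply, ← hnat]
  rfl

/-- a finite module killed by `I^m` is a quotient of `(R/I^m)^k`. -/
lemma exists_surj_of_killed (m : ℕ) (M : Type u) [AddCommGroup M] [Module R M] [Module.Finite R M]
    (hM : ∀ a ∈ I ^ m, ∀ x : M, a • x = 0) :
    ∃ (k : ℕ) (g : (Fin k → R ⧸ I ^ m) →ₗ[R] M), Function.Surjective g := by
  obtain ⟨k, f, hf⟩ := Module.Finite.exists_fin' R M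
  let ψ : Fin k → (R ⧸ I ^ m) →ₗ[R] M := fun j =>
    Submodule.liftQ (I ^ m)
      (LinearMap.toSpanSingleton R M (f (fun j' => if j = j' then 1 else 0))) (by
        intro r hr
        rw [LinearMap.mem_ker, LinearMap.toSpanSingleton_apply]
        exact hM r hr _)
  refine ⟨k, LinearMap.lsum R (fun _ => R ⧸ I ^ m) R ψ, ?_⟩
  intro x
  obtain ⟨v, rfl⟩ := hf x
  refine ⟨fun j => Submodule.Quotient.mk (v j), ?_⟩
  rw [LinearMap.pi_apply_eq_sum_univ f v, LinearMap.lsum_apply, LinearMap.sum_apply]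
  refine Finset.sum_congr rfl (fun j _ => ?_)
  rfl

theorem main [IsNoetherianRing R] (m : ℕ) : ∀ j : ℕ, ∃ c, ∀ (M : Type u) [AddCommGroup M]
    [Module R M], (∀ a ∈ I ^ m, ∀ x : M, a • x = 0) → Van I (ModuleCat.of R M) (j + 1) c := by
  intro j
  induction j with
  | zero => exact ⟨m, fun M _ _ hM => van_one_of_killed I m M hM⟩
  | succ j ih =>
    obtain ⟨c₁, h₁⟩ := ih
    obtain ⟨c₂, h₂⟩ := van_of_finite I (j + 1) (R ⧸ I ^ m)
    refine ⟨c₁ + c₂, ?_⟩
    intro M _ _ hM
    apply van_of_fg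
    intro N' hN'
    have : Module.Finite R N' := Module.Finite.iff_fg.2 hN'
    have hN'k : ∀ a ∈ I ^ m, ∀ x : N', a • x = 0 := fun a ha x => Subtype.ext (hM a ha x)
    obtain ⟨k, g, hg⟩ := exists_surj_of_killed I m N' hN'k
    have hS := presSC_shortExact g hg
    have hK : ∀ a ∈ I ^ m, ∀ x : LinearMap.ker g, a • x = 0 := by
      intro a ha x
      apply Subtype.ext
      funext j'
      show a • (x.1 j') = 0
      obtain ⟨r, hr⟩ := Submodule.Quotient.mk_surjective _ (x.1 j')
      rw [← hr, ← Submodule.Quotient.mk_smul, Submodule.Quotient.mk_eq_zero]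
      exact Ideal.mul_mem_right _ _ ha
    exact van_of_shortExact I hS (j + 1) c₁ c₂ (h₁ _ hK) (van_pi I (Qa I m) (j + 1 + 1) c₂ k h₂)


/-- For an ideal I of a Noetherian ring and integers m ≥ 0, i > 0 there is c ≥ 0 such that for every
module M killed by I^m and every n ≥ c the map Tor_i(M, R/I^n) → Tor_i(M, R/I^{n−c}) is zero. -/
theorem result (R : Type u) [CommRing R] [IsNoetherianRing R] (I : Ideal R) (m i : ℕ) (hi : 0 < i) : ∃ c : ℕ, ∀ (M : Type u) [AddCommGroup M] [Module R M], (∀ a ∈ I ^ m, ∀ x : M, a • x = 0) → ∀ n : ℕ, c ≤ n → (((Tor (ModuleCat.{u} R) i).obj (ModuleCat.of R M)).map (ModuleCat.ofHom (Submodule.mapQ (I ^ n) (I ^ (n - c)) LinearMap.id (Ideal.pow_le_pow_right (Nat.sub_le n c))))) = 0 := by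
  obtain ⟨j, rfl⟩ : ∃ j, i = j + 1 := ⟨i - 1, by omega⟩
  obtain ⟨c, hc⟩ := main I m j
  refine ⟨c, ?_⟩
  intro M _ _ hM n hn
  exact hc M hM n (n - c) (by omega)

end Groth.Agent.S0360
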