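import Groth.Statements.S0363
import Mathlib.Tactic
import Groth.Agent.Lib.H26TorExtDual
import Groth.Agent.Lib.H26GorDual
import Groth.Agent.S5170

set_option autoImplicit false
universe u v
open CategoryTheory
open Goren

namespace Groth.Agent.S0363

/-- `Tor_i(E, k) ≃ Hom(Ext^i(k, A), E)`. -/
theorem key (A : Type u) [CommRing A] [IsNoetherianRing A] [IsLocalRing A]
    (E : Type u) [AddCommGroup E] [Module A E] (hE : Module.Injective A E) (i : ℕ) :
    Nonempty (((Tor (ModuleCat.{u} A) i).obj (ModuleCat.of A E)).obj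
      (ModuleCat.of A (IsLocalRing.ResidueField A)) ≃ₗ[A]
      (Abelian.Ext.{u} (ModuleCat.of A (IsLocalRing.ResidueField A)) (ModuleCat.of A A) i
        →ₗ[A] E)) := by
  let iso0 : ModuleCat.of A E ≅ Groth.Agent.Lib.H26TorExtDual.DK (R := A) A E :=
    (LinearMap.ringLmapEquivSelf A A E).symm.toModuleIso
  let e1 := (((Tor (ModuleCat.{u} A) i).mapIso iso0).app
    (ModuleCat.of A (IsLocalRing.ResidueField A))).toLinearEquiv
  obtain ⟨e2⟩ := Groth.Agent.Lib.H26TorExtDual.torExtDual A E hE i (IsLocalRing.ResidueField A)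
  exact ⟨e1.trans e2⟩

/-- Over a Gorenstein local ring of dimension d with E an injective hull of the residue field κ,
Tor_i(E, κ) vanishes for i ≠ d and Tor_d(E, κ) is isomorphic to κ. -/
theorem result (A : Type u) [CommRing A] [LocCoh.IsGorensteinLocalRing A] (d : ℕ) (hd : ringKrullDim A = d) (E : Type u) [AddCommGroup E] [Module A E] (f : IsLocalRing.ResidueField A →ₗ[A] E) (hf : InjHull.IsInjectiveHull f) : (∀ i : ℕ, i ≠ d → Limits.IsZero (((Tor (ModuleCat.{u} A) i).obj (ModuleCat.of A E)).obj (ModuleCat.of A (IsLocalRing.ResidueField A)))) ∧ Nonempty ((((Tor (ModuleCat.{u} A) d).obj (ModuleCat.of A E)).obj (ModuleCat.of A (IsLocalRing.ResidueField A))) ≅ ModuleCat.of A (IsLocalRing.ResidueField A)) := by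
  have hfl : IsFiniteLength A (IsLocalRing.ResidueField A) :=
    Groth.Agent.Lib.H26GorDual.isFiniteLength_residue (A := A)
  refine ⟨?_, ?_⟩
  · intro i hi
    obtain ⟨e⟩ := key A E hf.isInjective i
    have hsub : Subsingleton (Abelian.Ext.{u} (ModuleCat.of A (IsLocalRing.ResidueField A))
        (ModuleCat.of A A) i) :=
      Groth.Agent.Lib.H26GorDual.gorenstein_hvan A d hd (IsLocalRing.ResidueField A) hfl i hi
    have hsub2 : Subsingleton (Abelian.Ext.{u} (ModuleCat.of A (IsLocalRing.ResidueField A))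
        (ModuleCat.of A A) i →ₗ[A] E) := by
      refine ⟨fun φ ψ => ?_⟩
      ext x
      rw [Subsingleton.elim x 0, map_zero, map_zero]
    have := e.toEquiv.subsingleton
    exact ModuleCat.isZero_of_subsingleton _
  · obtain ⟨e⟩ := key A E hf.isInjective d
    have hlen : Module.length A (Abelian.Ext.{u} (ModuleCat.of A (IsLocalRing.ResidueField A))
        (ModuleCat.of A A) d) = 1 := by
      rw [Groth.Agent.Lib.H26GorDual.gorenstein_length_ext A d hd (IsLocalRing.ResidueField A) hfl]
      exact Groth.Agent.Lib.H26GorDual.length_residue (A := A)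
    have hfl2 : IsFiniteLength A (Abelian.Ext.{u} (ModuleCat.of A (IsLocalRing.ResidueField A))
        (ModuleCat.of A A) d) := by
      rw [← Module.length_ne_top_iff, hlen]
      exact ENat.one_ne_top
    have hlen2 := Groth.Agent.S5170.result A E f hf _ hfl2
    rw [hlen, ← e.length_eq] at hlen2
    have hsimple := Module.length_eq_one_iff.mp hlen2
    obtain ⟨I, hI, ⟨e3⟩⟩ := isSimpleModule_iff_quot_maximal.mp hsimple
    have hIm : I = IsLocalRing.maximalIdeal A := IsLocalRing.eq_maximalIdeal hI
    subst hIm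
    exact ⟨e3.toModuleIso⟩


end Groth.Agent.S0363
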