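import Groth.Statements.S0370
import Groth.Agent.Lib.H29DualCM

set_option autoImplicit false
universe u v
open CategoryTheory
attribute [local instance] HasDerivedCategory.standard
open Dual

namespace Groth.Agent.S0370

/-- A Noetherian ring admitting a finite module which, placed in degree 0, is a dualizing complex, is
Cohen–Macaulay. -/
theorem result (A : Type u) [CommRing A] [IsNoetherianRing A] (W : Type u) [AddCommGroup W] [Module A W] [Module.Finite A W] (h : Dual.IsDualizing A (Dual.inD A W)) : LocCoh.IsCohenMacaulayRing A := by
  refine { isCohenMacaulayLocalRing_localization := fun p _ => ?_ }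
  haveI : IsNoetherianRing (Localization.AtPrime p) :=
    IsLocalization.isNoetherianRing p.primeCompl (Localization.AtPrime p) inferInstance
  have key := Groth.Agent.Lib.H29DualPrime.supportDim_eq_depth_of_dualizing_module
    (Localization.AtPrime p) (LocalizedModule p.primeCompl W)
    (Groth.Agent.Lib.H29DualPrime.isDualizing_inD_localization A p.primeCompl W h)
  exact { supportDim_eq_depth := key }

end Groth.Agent.S0370
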