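import Groth.Statements.S0372
import Groth.Agent.Lib.H29DualCMLocus
import Groth.Agent.Lib.H8CM

set_option autoImplicit false
universe u v
open CategoryTheory
attribute [local instance] HasDerivedCategory.standard
open Dual

namespace Groth.Agent.S0372

/-- If a Noetherian ring has a dualizing complex then the set of primes at which the localization is
Cohen–Macaulay is open and dense in the prime spectrum. -/
theorem result (A : Type u) [CommRing A] [IsNoetherianRing A] (ω : Dual.D A) (hω : Dual.IsDualizing A ω) : IsOpen {p : PrimeSpectrum A | LocCoh.IsCohenMacaulayLocalRing (Localization.AtPrime p.asIdeal)} ∧ Dense {p : PrimeSpectrum A | LocCoh.IsCohenMacaulayLocalRing (Localization.AtPrime p.asIdeal)} := by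
  have key : ∀ p : PrimeSpectrum A, LocCoh.IsCohenMacaulayLocalRing (Localization.AtPrime p.asIdeal) ↔
      LocCoh.IsCohenMacaulayModule (Localization.AtPrime p.asIdeal)
        (LocalizedModule p.asIdeal.primeCompl A) := by
    intro p
    let e1 := IsLocalizedModule.linearEquiv p.asIdeal.primeCompl
      (LocalizedModule.mkLinearMap p.asIdeal.primeCompl A)
      (Algebra.linearMap A (Localization p.asIdeal.primeCompl))
    let e : LocalizedModule p.asIdeal.primeCompl A ≃ₗ[Localization.AtPrime p.asIdeal]
        Localization.AtPrime p.asIdeal :=
      LinearEquiv.extendScalarsOfIsLocalization p.asIdeal.primeCompl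
        (Localization p.asIdeal.primeCompl) e1
    haveI : IsNoetherianRing (Localization.AtPrime p.asIdeal) :=
      IsLocalization.isNoetherianRing p.asIdeal.primeCompl _ inferInstance
    constructor
    · intro h
      exact Groth.Agent.Lib.H8CM.isCM_of_equiv e.symm h.supportDim_eq_depth
    · intro h
      exact { supportDim_eq_depth := Groth.Agent.Lib.H8CM.isCM_of_equiv e h }
  have hset : {p : PrimeSpectrum A | LocCoh.IsCohenMacaulayLocalRing (Localization.AtPrime p.asIdeal)} =
      {p : PrimeSpectrum A | LocCoh.IsCohenMacaulayModule (Localization.AtPrime p.asIdeal)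
        (LocalizedModule p.asIdeal.primeCompl A)} := by
    ext p
    exact key p
  have hset2 : {p : PrimeSpectrum A | LocCoh.IsCohenMacaulayModule (Localization.AtPrime p.asIdeal)
        (LocalizedModule p.asIdeal.primeCompl A)} =
      {p : PrimeSpectrum A | Subsingleton (LocalizedModule p.asIdeal.primeCompl A) ∨
        LocCoh.IsCohenMacaulayModule (Localization.AtPrime p.asIdeal)
        (LocalizedModule p.asIdeal.primeCompl A)} := by
    ext p
    simp only [Set.mem_setOf_eq]
    constructor
    · exact Or.inr
    · rintro (h | h)
      · exfalso
        haveI : Nontrivial (LocalizedModule p.asIdeal.primeCompl A) := by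
          let e1 := IsLocalizedModule.linearEquiv p.asIdeal.primeCompl
            (LocalizedModule.mkLinearMap p.asIdeal.primeCompl A)
            (Algebra.linearMap A (Localization p.asIdeal.primeCompl))
          exact e1.toEquiv.nontrivial
        exact not_subsingleton _ h
      · exact h
  have hsupp : Module.support A A = Set.univ := by
    ext p
    simp only [Set.mem_univ, iff_true]
    rw [Module.mem_support_iff]
    let e1 := IsLocalizedModule.linearEquiv p.asIdeal.primeCompl
      (LocalizedModule.mkLinearMap p.asIdeal.primeCompl A)
      (Algebra.linearMap A (Localization p.asIdeal.primeCompl))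
    exact e1.toEquiv.nontrivial
  refine ⟨?_, ?_⟩
  · rw [hset, hset2]
    exact Groth.Agent.Lib.H29DualPrime.isOpen_cm_locus A ω hω A
  · rw [hset, dense_iff_closure_eq]
    apply Set.eq_univ_of_univ_subset
    have := Groth.Agent.Lib.H29DualPrime.support_subset_closure_cm A A
    rw [hsupp, Set.inter_univ] at this
    exact this

end Groth.Agent.S0372
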