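import Groth.Statements.S0374
import Groth.Agent.Lib.H29LDMain
import Groth.Agent.Lib.H29MatlisDuality

set_option autoImplicit false
universe u v
open CategoryTheory
attribute [local instance] HasDerivedCategory.standard
open Dual

namespace Groth.Agent.S0374

/-- Grothendieck local duality, complete case: let A be a complete Noetherian local ring with maximal
ideal 𝔪, ω a normalized dualizing complex, and E an injective hull of the residue field. Then for
every finite A-module M and every i ≥ 0 the A-module of morphisms M → ω[−i] in D(A) is isomorphic to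
the E-dual Hom_A(H^i_𝔪(M), E) of the i-th local cohomology of M. (The published statement is for any
Noetherian local ring, with an 𝔪-adic completion on the left-hand side; for complete A and finite M
that completion changes nothing, and it is stated here for complete A.) -/
theorem result (A : Type u) [CommRing A] [IsLocalRing A] [IsNoetherianRing A] [IsAdicComplete (IsLocalRing.maximalIdeal A) A] (ω : Dual.D A) (hω : Dual.IsDualizing A ω) (hn : Dual.IsNormalized A ω) (E : Type u) [AddCommGroup E] [Module A E] (f : IsLocalRing.ResidueField A →ₗ[A] E) (hf : InjHull.IsInjectiveHull f) (M : Type u) [AddCommGroup M] [Module A M] [Module.Finite A M] (i : ℕ) : Nonempty ((Dual.inD A M ⟶ ω⟦(-(i : ℤ))⟧) ≃ₗ[A] (LocCoh.H (IsLocalRing.maximalIdeal A) i M →ₗ[A] E)) := by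
  have e := LinearEquiv.ofBijective
    (Groth.Agent.Lib.H29LDMain.PsiF A ω hω hn f hf i (-(i : ℤ)) (by simp) M)
    (Groth.Agent.Lib.H29LDMain.PsiF_bijective A ω hω hn f hf i (-(i : ℤ)) (by simp) M)
  haveI := Groth.Agent.Lib.H29DualLocal.finite_T A ω hω M (-(i : ℤ))
  haveI : Small.{u} (Dual.inD A M ⟶ ω⟦(-(i : ℤ))⟧) := Module.Finite.small.{u} A _
  -- small model of `X`
  let s : Shrink.{u} (Dual.inD A M ⟶ ω⟦(-(i : ℤ))⟧) ≃ₗ[A] (Dual.inD A M ⟶ ω⟦(-(i : ℤ))⟧) :=
    Shrink.linearEquiv A _
  haveI : Module.Finite A (Shrink.{u} (Dual.inD A M ⟶ ω⟦(-(i : ℤ))⟧)) :=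
    Module.Finite.equiv s.symm
  -- Matlis duality for the small model
  let m : Shrink.{u} (Dual.inD A M ⟶ ω⟦(-(i : ℤ))⟧) ≃ₗ[A]
      ((Shrink.{u} (Dual.inD A M ⟶ ω⟦(-(i : ℤ))⟧) →ₗ[A] E) →ₗ[A] E) :=
    LinearEquiv.ofBijective LinearMap.applyₗ
      ⟨Groth.Agent.Lib.H29Matlis.applyₗ_injective f hf _,
        Groth.Agent.Lib.H29MatlisDuality.applyₗ_surjective_of_finite f hf _⟩
  -- `Hom(Xs, E) ≃ Hom(X, E) ≃ H`
  let d : (Shrink.{u} (Dual.inD A M ⟶ ω⟦(-(i : ℤ))⟧) →ₗ[A] E) ≃ₗ[A]
      LocCoh.H (IsLocalRing.maximalIdeal A) i M :=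
    (LinearEquiv.arrowCongr s (LinearEquiv.refl A E)).trans e.symm
  exact ⟨s.symm.trans (m.trans (LinearEquiv.arrowCongr d (LinearEquiv.refl A E)))⟩

end Groth.Agent.S0374
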