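import Groth.Statements.S0389
import Groth.Agent.Lib.H77GenFPMod

set_option autoImplicit false
universe u
open FlatMor

namespace Groth.Agent.S0389

open TensorProduct in
/-- Generic freeness: over a domain, for a finite type algebra and a finite module over it, after
inverting one nonzero element of the base the algebra and the module become free over the base, the
algebra becomes finitely presented over the base and the module finitely presented over the algebra. -/
theorem result {R S M : Type u} [CommRing R] [IsDomain R] [CommRing S] [Algebra R S] [Algebra.FiniteType R S] [AddCommGroup M] [Module S M] [Module R M] [IsScalarTower R S M] [Module.Finite S M] :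
    ∃ f : R, f ≠ 0 ∧ Module.Free (Localization.Away f) (Localization.Away f ⊗[R] M) ∧
      Module.Free (Localization.Away f) (Localization.Away f ⊗[R] S) ∧
      Algebra.FinitePresentation (Localization.Away f) (Localization.Away f ⊗[R] S) ∧
      Module.FinitePresentation (Localization.Away (algebraMap R S f)) (LocalizedModule (Submonoid.powers (algebraMap R S f)) M) := by
  classical
  obtain ⟨f₁, hf₁, s₁, hs₁⟩ := Groth.Agent.Lib.H77GenFree.genFree_of_finiteType (R := R) S M
  obtain ⟨f₂, hf₂, s₂, hs₂⟩ := Groth.Agent.Lib.H77GenFree.genFree_of_finiteType (R := R) S S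
  obtain ⟨n, π, G, f₃, hf₃, hG⟩ := Groth.Agent.Lib.H77GenFree.exists_isGenPres (R := R) S
  obtain ⟨f₄, hf₄, h₄⟩ :=
    Groth.Agent.Lib.H77GenFree.exists_finitePresentation_localizedModule (R := R) S M
  have hh : f₁ * f₂ * f₃ ≠ 0 := mul_ne_zero (mul_ne_zero hf₁ hf₂) hf₃
  refine ⟨f₄ * (f₁ * f₂ * f₃), mul_ne_zero hf₄ hh, ?_, ?_, ?_, h₄ _ hh⟩
  · have e1 : f₄ * (f₁ * f₂ * f₃) = f₁ * (f₂ * f₃ * f₄) := by ring
    have hb := hs₁.mul_right (g := f₂ * f₃ * f₄) (mul_ne_zero (mul_ne_zero hf₂ hf₃) hf₄)
    rw [← e1] at hb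
    exact hb.free_of_isLocalizedModule (Localization.Away (f₄ * (f₁ * f₂ * f₃)))
      (TensorProduct.mk R (Localization.Away (f₄ * (f₁ * f₂ * f₃))) M 1)
  · have e2 : f₄ * (f₁ * f₂ * f₃) = f₂ * (f₁ * f₃ * f₄) := by ring
    have hb := hs₂.mul_right (g := f₁ * f₃ * f₄) (mul_ne_zero (mul_ne_zero hf₁ hf₃) hf₄)
    rw [← e2] at hb
    exact hb.free_of_isLocalizedModule (Localization.Away (f₄ * (f₁ * f₂ * f₃)))
      (TensorProduct.mk R (Localization.Away (f₄ * (f₁ * f₂ * f₃))) S 1)
  · have e3 : f₄ * (f₁ * f₂ * f₃) = f₃ * (f₁ * f₂ * f₄) := by ring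
    have hb := hG.mul_right (f₁ * f₂ * f₄)
    rw [← e3] at hb
    exact hb.finitePresentation_tensor (Localization.Away (f₄ * (f₁ * f₂ * f₃)))

end Groth.Agent.S0389
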