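import Groth.Statements.S0395
import Groth.Agent.S0393
import Mathlib.RingTheory.TensorProduct.Quotient

set_option autoImplicit false
universe u
open FlatMor

namespace Groth.Agent.S0395

open TensorProduct nonZeroDivisors in
/-- For a flat local homomorphism R → S of Noetherian local rings and an element f of S that is regular
on the fibre ring S/mS, the quotient of S by f is again R-flat and f is regular on S. -/
theorem result {R S : Type u} [CommRing R] [CommRing S] [IsLocalRing R] [IsLocalRing S] [IsNoetherianRing R] [IsNoetherianRing S] [Algebra R S] [IsLocalHom (algebraMap R S)] [Module.Flat R S]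
    (f : S) (hf : Ideal.Quotient.mk ((IsLocalRing.maximalIdeal R).map (algebraMap R S)) f ∈ nonZeroDivisors (S ⧸ ((IsLocalRing.maximalIdeal R).map (algebraMap R S)))) :
    Module.Flat R (S ⧸ Ideal.span {f}) ∧ f ∈ nonZeroDivisors S := by
  set u : S →ₗ[R] S := LinearMap.mulLeft R f with hu
  have hmul : ∀ x : (R ⧸ IsLocalRing.maximalIdeal R) ⊗[R] S,
      u.lTensor (R ⧸ IsLocalRing.maximalIdeal R) x = ((1 : R ⧸ IsLocalRing.maximalIdeal R) ⊗ₜ[R] f) * x := by
    intro x
    induction x with
    | zero => simp
    | add x y hx hy => rw [map_add, hx, hy, mul_add]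
    | tmul a s => simp [hu]
  have hinj : Function.Injective (u.lTensor (R ⧸ IsLocalRing.maximalIdeal R)) := by
    rw [injective_iff_map_eq_zero]
    intro x hx
    let e := Algebra.TensorProduct.quotIdealMapEquivQuotTensor S (IsLocalRing.maximalIdeal R)
    have hx' : ((1 : R ⧸ IsLocalRing.maximalIdeal R) ⊗ₜ[R] f) * x = 0 := by
      rw [← hmul]; exact hx
    have h1 : e (Ideal.Quotient.mk _ f) = (1 : R ⧸ IsLocalRing.maximalIdeal R) ⊗ₜ[R] f :=
      Algebra.TensorProduct.quotIdealMapEquivQuotTensor_mk S (IsLocalRing.maximalIdeal R) f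
    have h2 : Ideal.Quotient.mk _ f * e.symm x = 0 := by
      apply e.injective
      rw [map_mul, h1, e.apply_symm_apply, map_zero]
      exact hx'
    have h3 : e.symm x = 0 := (mem_nonZeroDivisors_iff_left.mp hf) _ h2
    simpa using congrArg e h3
  have hinj' : Function.Injective (u.lTensor (IsLocalRing.ResidueField R)) := hinj
  obtain ⟨h1, h2⟩ := Groth.Agent.S0393.result (S := S) u hinj'
  constructor
  · have hrange : LinearMap.range u = (Ideal.span {f}).restrictScalars R := by
      ext x
      simp only [LinearMap.mem_range, Submodule.restrictScalars_mem, Ideal.mem_span_singleton', hu,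
        LinearMap.mulLeft_apply]
      constructor
      · rintro ⟨y, rfl⟩; exact ⟨y, mul_comm _ _⟩
      · rintro ⟨y, rfl⟩; exact ⟨y, mul_comm _ _⟩
    exact Module.Flat.of_linearEquiv
      ((Submodule.Quotient.restrictScalarsEquiv R (Ideal.span {f})).symm ≪≫ₗ
        (Submodule.quotEquivOfEq _ _ hrange).symm)
  · rw [mem_nonZeroDivisors_iff_left]
    intro x hx
    apply h1
    rw [map_zero]
    exact hx

end Groth.Agent.S0395
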