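import Groth.Statements.S0396
import Groth.Agent.Lib.FlatCrit
import Mathlib.RingTheory.Localization.BaseChange

set_option autoImplicit false
universe u
open FlatMor

namespace Groth.Agent.S0396

open TensorProduct Function Groth.Agent.Lib.FlatCrit

/-- Injectivity of `M ⊗ f` passes to a localization of `M` (with respect to another ring). -/
theorem lTensor_injective_localizedModule {R S : Type*} [CommRing R] [CommRing S] [Algebra R S]
    (p : Submonoid S)
    {M M' : Type*} [AddCommGroup M] [Module R M] [Module S M] [IsScalarTower R S M]
    [AddCommGroup M'] [Module R M'] [Module S M'] [IsScalarTower R S M']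
    (g : M →ₗ[S] M') [IsLocalizedModule p g]
    {N P : Type*} [AddCommGroup N] [Module R N] [AddCommGroup P] [Module R P] (f : N →ₗ[R] P)
    (h : Injective (f.lTensor M)) : Injective (f.lTensor M') := by
  have := IsLocalizedModule.map_injective p (AlgebraTensorModule.rTensor R N g)
    (AlgebraTensorModule.rTensor R P g) (AlgebraTensorModule.lTensor S M f) h
  rw [IsLocalizedModule.map_lTensor] at this
  exact this

open TensorProduct in
/-- For a map of Noetherian rings R → S, an ideal I of R and a finite S-module M such that M/IⁿM is flat
over R/Iⁿ for every n ≥ 1, the localization of M at any prime of S containing IS is flat over R. -/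
theorem result {R S M : Type u} [CommRing R] [CommRing S] [IsNoetherianRing R] [IsNoetherianRing S] [Algebra R S]
    [AddCommGroup M] [Module R M] [Module S M] [IsScalarTower R S M] [Module.Finite S M] (I : Ideal R)
    (h : ∀ n : ℕ, 0 < n → Module.Flat (R ⧸ I ^ n) ((R ⧸ I ^ n) ⊗[R] M))
    (q : Ideal S) [q.IsPrime] (hq : I.map (algebraMap R S) ≤ q) :
    Module.Flat R (LocalizedModule q.primeCompl M) := by
  have hI : I.map (algebraMap R (Localization.AtPrime q)) ≤ Ideal.jacobson ⊥ := by
    rw [IsLocalRing.jacobson_eq_maximalIdeal ⊥ bot_ne_top,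
      IsScalarTower.algebraMap_eq R S (Localization.AtPrime q), ← Ideal.map_map,
      ← Localization.AtPrime.map_eq_maximalIdeal]
    exact Ideal.map_mono hq
  refine flat_of_flat_quotient_pow I
    (fun 𝔞 x hx => eq_zero_of_forall_mem_pow_smul_top (S := Localization.AtPrime q) I hI x hx) ?_
  intro n hn
  have := h n hn
  rw [Module.Flat.iff_rTensor_injective']
  intro 𝔟
  apply rTensor_injective_of_restrictScalars (R ⧸ I ^ n)
  rw [← LinearMap.lTensor_inj_iff_rTensor_inj]
  apply lTensor_injective_localizedModule q.primeCompl
    (LocalizedModule.mkLinearMap q.primeCompl M)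
  rw [LinearMap.lTensor_inj_iff_rTensor_inj]
  exact rTensor_injective_restrictScalars_of (R ⧸ I ^ n) 𝔟.subtype
    (Module.Flat.rTensor_preserves_injective_linearMap _ 𝔟.subtype_injective)

end Groth.Agent.S0396
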