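import Groth.Statements.S0397
import Mathlib.RingTheory.LocalRing.Module

set_option autoImplicit false
universe u
open FlatMor

namespace Groth.Agent.S0397

/-- Nakayama for a nilpotent ideal: no finiteness needed. -/
theorem eq_top_of_sup_smul_eq_top {R M : Type*} [CommRing R] [AddCommGroup M] [Module R M]
    (I : Ideal R) (hI : IsNilpotent I) (N : Submodule R M) (h : N ⊔ I • (⊤ : Submodule R M) = ⊤) :
    N = ⊤ := by
  obtain ⟨n, hn⟩ := hI
  have key : ∀ k : ℕ, N ⊔ (I ^ k) • (⊤ : Submodule R M) = ⊤ := by
    intro k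
    induction k with
    | zero => simp
    | succ k ih =>
      have h1 : (I ^ k) • (⊤ : Submodule R M) ≤ N ⊔ (I ^ (k + 1)) • (⊤ : Submodule R M) :=
        calc (I ^ k) • (⊤ : Submodule R M) = (I ^ k) • (N ⊔ I • (⊤ : Submodule R M)) := by rw [h]
        _ = (I ^ k) • N ⊔ (I ^ k) • (I • (⊤ : Submodule R M)) := Submodule.smul_sup _ _ _
        _ ≤ N ⊔ (I ^ (k + 1)) • (⊤ : Submodule R M) := by
          refine sup_le_sup Submodule.smul_le_right ?_
          rw [← Submodule.mul_smul, ← pow_succ]
      rw [eq_top_iff]
      calc (⊤ : Submodule R M) = N ⊔ (I ^ k) • (⊤ : Submodule R M) := ih.symm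
        _ ≤ N ⊔ (I ^ (k + 1)) • (⊤ : Submodule R M) := sup_le le_sup_left h1
  have := key n
  rwa [hn, Ideal.zero_eq_bot, Submodule.bot_smul, sup_bot_eq] at this

open TensorProduct in
/-- Over a local ring whose maximal ideal is nilpotent, every flat module (not necessarily finitely
generated) is free. -/
theorem result {R M : Type u} [CommRing R] [IsLocalRing R] (hR : IsNilpotent (IsLocalRing.maximalIdeal R))
    [AddCommGroup M] [Module R M] [Module.Flat R M] : Module.Free R M := by
  let w := Module.Free.chooseBasis (IsLocalRing.ResidueField R) (IsLocalRing.ResidueField R ⊗[R] M)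
  have ⟨v, eq⟩ := (TensorProduct.mk_surjective R M (IsLocalRing.ResidueField R)
    Ideal.Quotient.mk_surjective).comp_left w
  have eq' : ⇑(TensorProduct.mk R (IsLocalRing.ResidueField R) M 1) ∘ v = ⇑w := eq
  have hli : LinearIndependent R v :=
    Module.IsLocalRing.linearIndependent_of_flat _ (eq' ▸ w.linearIndependent)
  refine Module.Free.of_basis (Module.Basis.mk hli ?_)
  rw [top_le_iff]
  apply eq_top_of_sup_smul_eq_top _ hR
  have hmap : (Submodule.span R (Set.range v)).map
      (TensorProduct.mk R (IsLocalRing.ResidueField R) M 1) = ⊤ := by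
    rw [Submodule.map_span, ← Submodule.restrictScalars_span R (IsLocalRing.ResidueField R)
      Ideal.Quotient.mk_surjective, Submodule.restrictScalars_eq_top_iff, ← Set.range_comp, eq',
      w.span_eq]
  rw [eq_top_iff]
  intro m _
  have hm : (TensorProduct.mk R (IsLocalRing.ResidueField R) M 1 m) ∈
      (Submodule.span R (Set.range v)).map
        (TensorProduct.mk R (IsLocalRing.ResidueField R) M 1) := by
    rw [hmap]; trivial
  obtain ⟨n, hn, hnm⟩ := hm
  have hker : m - n ∈ LinearMap.ker (TensorProduct.mk R (R ⧸ IsLocalRing.maximalIdeal R) M 1) := by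
    rw [LinearMap.mem_ker, map_sub, sub_eq_zero]
    exact hnm.symm
  rw [LinearMap.ker_tensorProductMk] at hker
  have : m = n + (m - n) := by abel
  rw [this]
  exact Submodule.add_mem_sup hn hker

end Groth.Agent.S0397
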