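import Groth.Statements.S0398
import Groth.Agent.S0393
import Groth.Agent.S0397
import Mathlib.LinearAlgebra.DirectSum.Finsupp
import Mathlib.RingTheory.Localization.BaseChange
import Mathlib.RingTheory.Flat.Localization
import Mathlib.RingTheory.Flat.Stability

set_option autoImplicit false
universe u
open FlatMor

namespace Groth.Agent.S0398

open TensorProduct Function Groth.Agent.Lib.FlatCrit

section Local

variable {R : Type u} [CommRing R] [IsLocalRing R]
variable {M : Type u} [AddCommGroup M] [Module R M]

/-- Over a local ring with nilpotent maximal ideal, lift a basis of `k ⊗ M` to a spanning family. -/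
theorem exists_spanning_lift (hR : IsNilpotent (IsLocalRing.maximalIdeal R)) :
    ∃ (ι : Type u) (v : ι → M), Submodule.span R (Set.range v) = ⊤ ∧
      LinearIndependent (IsLocalRing.ResidueField R)
        (⇑(TensorProduct.mk R (IsLocalRing.ResidueField R) M 1) ∘ v) := by
  let w := Module.Free.chooseBasis (IsLocalRing.ResidueField R) (IsLocalRing.ResidueField R ⊗[R] M)
  have ⟨v, eq⟩ := (TensorProduct.mk_surjective R M (IsLocalRing.ResidueField R)
    Ideal.Quotient.mk_surjective).comp_left w
  have eq' : ⇑(TensorProduct.mk R (IsLocalRing.ResidueField R) M 1) ∘ v = ⇑w := eq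
  refine ⟨_, v, ?_, eq' ▸ w.linearIndependent⟩
  apply Groth.Agent.S0397.eq_top_of_sup_smul_eq_top _ hR
  have hmap : (Submodule.span R (Set.range v)).map
      (TensorProduct.mk R (IsLocalRing.ResidueField R) M 1) = ⊤ := by
    rw [Submodule.map_span, ← Submodule.restrictScalars_span R (IsLocalRing.ResidueField R)
      Ideal.Quotient.mk_surjective, Submodule.restrictScalars_eq_top_iff, ← Set.range_comp, eq',
      w.span_eq]
  rw [eq_top_iff]
  intro m _
  have hm : (TensorProduct.mk R (IsLocalRing.ResidueField R) M 1 m) ∈
      (Submodule.span R (Set.range v)).map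
        (TensorProduct.mk R (IsLocalRing.ResidueField R) M 1) := by
    rw [hmap]; trivial
  obtain ⟨n, hn, hnm⟩ := hm
  have hker : m - n ∈ LinearMap.ker (TensorProduct.mk R (R ⧸ IsLocalRing.maximalIdeal R) M 1) := by
    rw [LinearMap.mem_ker, map_sub, sub_eq_zero]
    exact hnm.symm
  rw [LinearMap.ker_tensorProductMk] at hker
  have : m = n + (m - n) := by abel
  rw [this]
  exact Submodule.add_mem_sup hn hker

/-- If `1 ⊗ v` is linearly independent over the residue field, then `k ⊗ linearCombination v` is
injective. -/
theorem lTensor_linearCombination_injective {ι : Type*} (v : ι → M)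
    (hv : LinearIndependent (IsLocalRing.ResidueField R)
      (⇑(TensorProduct.mk R (IsLocalRing.ResidueField R) M 1) ∘ v)) :
    Injective ((Finsupp.linearCombination R v).lTensor (IsLocalRing.ResidueField R)) := by
  classical
  let e := TensorProduct.finsuppScalarRight R (IsLocalRing.ResidueField R)
    (IsLocalRing.ResidueField R) ι
  have key : ∀ c : ι →₀ IsLocalRing.ResidueField R,
      (Finsupp.linearCombination R v).lTensor (IsLocalRing.ResidueField R) (e.symm c) =
        Finsupp.linearCombination (IsLocalRing.ResidueField R)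
          (⇑(TensorProduct.mk R (IsLocalRing.ResidueField R) M 1) ∘ v) c := by
    intro c
    induction c using Finsupp.induction_linear with
    | zero => simp
    | add x y hx hy => simp only [map_add, hx, hy]
    | single i a =>
      simp [e, TensorProduct.smul_tmul']
  intro x y hxy
  have hx := key (e x)
  have hy := key (e y)
  rw [e.symm_apply_apply] at hx hy
  rw [hx, hy] at hxy
  exact e.injective (hv hxy)

/-- Local case: over a local ring with nilpotent maximal ideal. -/
theorem flat_of_baseChange_flat_local (hR : IsNilpotent (IsLocalRing.maximalIdeal R))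
    {S : Type u} [CommRing S] [Algebra R S] (hinj : Injective (algebraMap R S))
    [Module.Flat S (S ⊗[R] M)] : Module.Flat R M := by
  obtain ⟨ι, v, hspan, hli⟩ := exists_spanning_lift (M := M) hR
  obtain ⟨φ, hφ⟩ : ∃ φ : (ι →₀ R) →ₗ[R] M, φ = Finsupp.linearCombination R v := ⟨_, rfl⟩
  have hφsurj : Surjective φ := by
    rw [← LinearMap.range_eq_top, hφ, Finsupp.range_linearCombination, hspan]
  have hk : Injective (φ.lTensor (IsLocalRing.ResidueField R)) := by
    rw [hφ]; exact lTensor_linearCombination_injective v hli
  obtain ⟨J, hJ⟩ : ∃ J : Ideal S, J = (IsLocalRing.maximalIdeal R).map (algebraMap R S) := ⟨_, rfl⟩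
  have hJnil : IsNilpotent J := by
    obtain ⟨n, hn⟩ := hR
    exact ⟨n, by rw [hJ, ← Ideal.map_pow, hn, Ideal.zero_eq_bot, Ideal.map_bot]; rfl⟩
  have hX : IsLocalRing.maximalIdeal R • (⊤ : Submodule R (S ⧸ J)) = ⊥ := by
    rw [eq_bot_iff]
    intro x hx
    refine Submodule.smul_induction_on hx ?_ ?_
    · intro r hr n _
      obtain ⟨n, rfl⟩ := Ideal.Quotient.mk_surjective n
      rw [Submodule.mem_bot, Algebra.smul_def, IsScalarTower.algebraMap_apply R S (S ⧸ J),
        Ideal.Quotient.algebraMap_eq, ← map_mul, Ideal.Quotient.eq_zero_iff_mem, hJ]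
      exact Ideal.mul_mem_right _ _ (Ideal.mem_map_of_mem _ hr)
    · intro x y hx hy
      exact Submodule.add_mem _ hx hy
  have hφX : Injective (φ.lTensor (S ⧸ J)) :=
    Groth.Agent.S0393.lTensor_injective_of_smul_eq_bot φ hk (S ⧸ J) hX
  have hd : Injective ((φ.baseChange S).lTensor (S ⧸ J)) :=
    lTensor_baseChange_injective_of S φ hφX
  have hsurjS : Surjective (φ.baseChange S) := LinearMap.lTensor_surjective S hφsurj
  have hb : Injective ((LinearMap.ker (φ.baseChange S)).subtype.lTensor (S ⧸ J)) := by
    have := @tor1Zero_iff_lTensor_injective S _ (S ⧸ J) (S ⊗[R] M) _ _ _ _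
      (LinearMap.ker (φ.baseChange S)) (S ⊗[R] (ι →₀ R)) _ _ _ _ _
    exact (@this (LinearMap.ker (φ.baseChange S)).subtype (φ.baseChange S)
      (Submodule.subtype_injective _) (LinearMap.exact_subtype_ker_map _) hsurjS).mp
      tor1Zero_of_flat_right
  have he : ∀ z : (S ⧸ J) ⊗[S] (LinearMap.ker (φ.baseChange S)), z = 0 := by
    intro z
    apply hb
    rw [map_zero]
    apply hd
    rw [map_zero, ← LinearMap.comp_apply, ← LinearMap.lTensor_comp]
    have : (φ.baseChange S) ∘ₗ (LinearMap.ker (φ.baseChange S)).subtype = 0 := by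
      ext x; exact x.2
    rw [this, LinearMap.lTensor_zero, LinearMap.zero_apply]
  have hf : J • (⊤ : Submodule S (LinearMap.ker (φ.baseChange S))) = ⊤ := by
    rw [eq_top_iff]
    intro x _
    have h1 := he ((TensorProduct.quotTensorEquivQuotSMul (LinearMap.ker (φ.baseChange S)) J).symm
      (Submodule.Quotient.mk x))
    rw [LinearEquiv.map_eq_zero_iff] at h1
    exact (Submodule.Quotient.mk_eq_zero _).mp h1
  have hK'bot : ∀ x : LinearMap.ker (φ.baseChange S), x = 0 := by
    have h0 := @Groth.Agent.S0397.eq_top_of_sup_smul_eq_top S (LinearMap.ker (φ.baseChange S))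
      _ _ _ J hJnil ⊥
    have h1 := h0 (by rw [bot_sup_eq, hf])
    intro x
    have : x ∈ (⊥ : Submodule S (LinearMap.ker (φ.baseChange S))) := by rw [h1]; trivial
    simpa using this
  have hφinj : Injective φ := by
    rw [injective_iff_map_eq_zero]
    intro x hx
    have h1 : (1 : S) ⊗ₜ[R] x ∈ LinearMap.ker (φ.baseChange S) := by
      rw [LinearMap.mem_ker, LinearMap.baseChange_tmul, hx, tmul_zero]
    have h2 := hK'bot ⟨_, h1⟩
    have h3 : (1 : S) ⊗ₜ[R] x = 0 := congrArg Subtype.val h2
    have : FaithfulSMul R S := (faithfulSMul_iff_algebraMap_injective R S).mpr hinj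
    exact Module.Flat.tensorProduct_mk_injective R (ι →₀ R) S (by simpa using h3)
  exact Module.Flat.of_linearEquiv (LinearEquiv.ofBijective φ ⟨hφinj, hφsurj⟩).symm

end Local

section Global

attribute [local instance] Algebra.TensorProduct.rightAlgebra

/-- flatness of the base change of `A ⊗ M` to `A ⊗ S` -/
theorem flat_tensor_tensor {R S M : Type u} [CommRing R] [CommRing S] [Algebra R S]
    [AddCommGroup M] [Module R M] (A : Type u) [CommRing A] [Algebra R A]
    [Module.Flat S (S ⊗[R] M)] :
    Module.Flat (A ⊗[R] S) ((A ⊗[R] S) ⊗[A] (A ⊗[R] M)) :=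
  Module.Flat.of_linearEquiv
    ((AlgebraTensorModule.cancelBaseChange R A (A ⊗[R] S) (A ⊗[R] S) M) ≪≫ₗ
      (AlgebraTensorModule.cancelBaseChange R S (A ⊗[R] S) (A ⊗[R] S) M).symm)

end Global

open TensorProduct in
/-- For an injective ring map R → S with R Artinian and an R-module M, if S ⊗ M is flat over S then M is
flat over R. -/
theorem result {R S M : Type u} [CommRing R] [CommRing S] [IsArtinianRing R] [Algebra R S] (hinj : Function.Injective (algebraMap R S))
    [AddCommGroup M] [Module R M] [Module.Flat S (S ⊗[R] M)] : Module.Flat R M := by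
  refine Module.flat_of_isLocalized_maximal (R := R) R M
    (fun P _ => (Localization.AtPrime P) ⊗[R] M)
    (fun P _ => TensorProduct.mk R (Localization.AtPrime P) M 1) ?_
  intro P hP
  have hAnil : IsNilpotent (IsLocalRing.maximalIdeal (Localization.AtPrime P)) := by
    rw [← IsLocalRing.jacobson_eq_maximalIdeal ⊥ bot_ne_top]
    exact IsArtinianRing.isNilpotent_jacobson_bot
  have hflatA : Module.Flat R (Localization.AtPrime P) := IsLocalization.flat _ P.primeCompl
  have hinj' : Function.Injective (algebraMap (Localization.AtPrime P)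
      ((Localization.AtPrime P) ⊗[R] S)) :=
    Algebra.TensorProduct.includeLeft_injective (S := Localization.AtPrime P) hinj
  have hflat := flat_tensor_tensor (R := R) (S := S) (M := M) (Localization.AtPrime P)
  have : Module.Flat (Localization.AtPrime P) ((Localization.AtPrime P) ⊗[R] M) :=
    flat_of_baseChange_flat_local hAnil hinj'
  exact Module.Flat.trans R (Localization.AtPrime P) _

end Groth.Agent.S0398
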