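import Groth.Statements.S0399
import Groth.Agent.Lib.FlatCrit
import Mathlib.RingTheory.Localization.BaseChange
import Mathlib.RingTheory.Flat.Localization
import Mathlib.RingTheory.Flat.Stability
import Mathlib.Algebra.Module.LocalizedModule.Exact
import Mathlib.Algebra.Module.LocalizedModule.Away

set_option autoImplicit false
universe u
open FlatMor

namespace Groth.Agent.S0399

open TensorProduct Function Groth.Agent.Lib.FlatCrit

section General

variable {B : Type*} [CommRing B]

/-- The kernel of a surjection from a flat module onto a flat module is flat. -/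
theorem flat_of_exact_of_flat {L' G' M' : Type*} [AddCommGroup L'] [Module B L']
    [AddCommGroup G'] [Module B G'] [AddCommGroup M'] [Module B M']
    (i : L' →ₗ[B] G') (p : G' →ₗ[B] M') (hi : Injective i) (hip : Exact i p) (hp : Surjective p)
    [Module.Flat B G'] [Module.Flat B M'] : Module.Flat B L' := by
  rw [Module.Flat.iff_lTensor_injective']
  intro 𝔟
  have h1 : Injective (i.rTensor 𝔟) := by
    rw [← LinearMap.lTensor_inj_iff_rTensor_inj]
    exact (tor1Zero_iff_lTensor_injective (N := 𝔟) hi hip hp).mp tor1Zero_of_flat_right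
  rw [injective_iff_map_eq_zero]
  intro x hx
  apply h1
  rw [map_zero]
  apply Module.Flat.lTensor_preserves_injective_linearMap (M := G') 𝔟.subtype 𝔟.subtype_injective
  rw [map_zero, ← LinearMap.comp_apply, LinearMap.lTensor_comp_rTensor,
    ← LinearMap.rTensor_comp_lTensor, LinearMap.comp_apply, hx, map_zero]

end General

section Main

variable {A : Type u} [CommRing A] (f : A)

/-- `Tor₁(A/f, X) = 0` when `f` is regular on `A` and on `X`. -/
theorem tor1Zero_span_singleton (hA : f ∈ nonZeroDivisors A) {X : Type*} [AddCommGroup X]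
    [Module A X] (hX : IsSMulRegular X f) : Tor1Zero A (A ⧸ Ideal.span {f}) X := by
  have hj : Injective (LinearMap.toSpanSingleton A A f) := by
    intro a b hab
    simp only [LinearMap.toSpanSingleton_apply, smul_eq_mul] at hab
    exact (mul_cancel_right_mem_nonZeroDivisors hA).mp hab
  have hex : Exact (LinearMap.toSpanSingleton A A f) (Ideal.span {f}).mkQ := by
    rw [LinearMap.exact_iff, Submodule.ker_mkQ, ← LinearMap.span_singleton_eq_range]
  rw [tor1Zero_iff_rTensor_injective hj hex (Submodule.mkQ_surjective _)]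
  have key : ∀ z : A ⊗[A] X, TensorProduct.lid A X ((LinearMap.toSpanSingleton A A f).rTensor X z) =
      f • TensorProduct.lid A X z := by
    intro z
    induction z with
    | zero => simp
    | add x y hx hy => simp only [map_add, hx, hy, smul_add]
    | tmul a x => simp [mul_smul, smul_comm f a x]
  intro x y hxy
  have := congrArg (TensorProduct.lid A X) hxy
  rw [key, key] at this
  exact (TensorProduct.lid A X).injective (hX this)

variable {M : Type u} [AddCommGroup M] [Module A M]

/-- `f` is regular on the syzygy module. -/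
theorem isSMulRegular_ker_pres (hA : f ∈ nonZeroDivisors A) :
    IsSMulRegular (LinearMap.ker (pres A M)) f := by
  intro x y hxy
  apply Subtype.ext
  have h1 : f • (x : M →₀ A) = f • (y : M →₀ A) := congrArg Subtype.val hxy
  ext m
  have h2 := DFunLike.congr_fun h1 m
  simp only [Finsupp.smul_apply, smul_eq_mul] at h2
  exact (mul_cancel_left_mem_nonZeroDivisors hA).mp h2

/-- The syzygy module is flat modulo `f`. -/
theorem flat_quotient_ker (hA : f ∈ nonZeroDivisors A) (hM : IsSMulRegular M f)
    [Module.Flat (A ⧸ Ideal.span {f}) ((A ⧸ Ideal.span {f}) ⊗[A] M)] :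
    Module.Flat (A ⧸ Ideal.span {f})
      ((A ⧸ Ideal.span {f}) ⊗[A] (LinearMap.ker (pres A M))) := by
  have hi : Injective ((LinearMap.ker (pres A M)).subtype.baseChange (A ⧸ Ideal.span {f})) :=
    tor1Zero_span_singleton f hA hM
  have hex : Exact ((LinearMap.ker (pres A M)).subtype.baseChange (A ⧸ Ideal.span {f}))
      ((pres A M).baseChange (A ⧸ Ideal.span {f})) := by
    have := @lTensor_exact A (LinearMap.ker (pres A M)) (M →₀ A) M _ _ _ _ _ _ _
      (LinearMap.ker (pres A M)).subtype (pres A M) (A ⧸ Ideal.span {f}) _ _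
    exact this (pres_exact A M) (pres_surjective A M)
  have hsurj : Surjective ((pres A M).baseChange (A ⧸ Ideal.span {f})) :=
    LinearMap.lTensor_surjective _ (pres_surjective A M)
  have := @flat_of_exact_of_flat (A ⧸ Ideal.span {f}) _
    ((A ⧸ Ideal.span {f}) ⊗[A] (LinearMap.ker (pres A M)))
    ((A ⧸ Ideal.span {f}) ⊗[A] (M →₀ A)) ((A ⧸ Ideal.span {f}) ⊗[A] M) _ _ _ _ _ _
  exact @this ((LinearMap.ker (pres A M)).subtype.baseChange (A ⧸ Ideal.span {f}))
    ((pres A M).baseChange (A ⧸ Ideal.span {f})) hi hex hsurj _ _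

/-- Modules killed by a power of `f` have vanishing `Tor₁` against `M`. -/
theorem tor1Zero_of_pow_smul (hA : f ∈ nonZeroDivisors A) (hM : IsSMulRegular M f)
    [Module.Flat (A ⧸ Ideal.span {f}) ((A ⧸ Ideal.span {f}) ⊗[A] M)] (n : ℕ)
    (N : Type u) [AddCommGroup N] [Module A N] (hN : ∀ z : N, f ^ n • z = 0) :
    Tor1Zero A N M := by
  apply tor1Zero_of_pow_smul_eq_bot (Ideal.span {f}) (tor1Zero_span_singleton f hA hM) n N
  rw [Ideal.span_singleton_pow, eq_bot_iff]
  intro x hx
  refine Submodule.smul_induction_on hx ?_ ?_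
  · intro r hr z _
    obtain ⟨a, rfl⟩ := Ideal.mem_span_singleton'.mp hr
    rw [Submodule.mem_bot, mul_smul, hN, smul_zero]
  · intro x y hx hy
    exact Submodule.add_mem _ hx hy

/-- Modules killed by `f` have vanishing `Tor₁` against the syzygy module. -/
theorem tor1Zero_ker_of_smul (hA : f ∈ nonZeroDivisors A) (hM : IsSMulRegular M f)
    [Module.Flat (A ⧸ Ideal.span {f}) ((A ⧸ Ideal.span {f}) ⊗[A] M)]
    (N : Type u) [AddCommGroup N] [Module A N] (hN : ∀ z : N, f • z = 0) :
    Tor1Zero A N (LinearMap.ker (pres A M)) := by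
  have := flat_quotient_ker f hA hM
  apply tor1Zero_of_smul_eq_bot (Ideal.span {f})
    (tor1Zero_span_singleton f hA (isSMulRegular_ker_pres f hA)) N
  rw [eq_bot_iff]
  intro x hx
  refine Submodule.smul_induction_on hx ?_ ?_
  · intro r hr z _
    obtain ⟨a, rfl⟩ := Ideal.mem_span_singleton'.mp hr
    rw [Submodule.mem_bot, mul_smul, hN, smul_zero]
  · intro x y hx hy
    exact Submodule.add_mem _ hx hy

/-- If `f` is regular on `N` then it is regular on `N ⊗ L` for the syzygy module `L`. -/
theorem smul_tensor_ker_injective (hA : f ∈ nonZeroDivisors A) (hM : IsSMulRegular M f)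
    [Module.Flat (A ⧸ Ideal.span {f}) ((A ⧸ Ideal.span {f}) ⊗[A] M)]
    (N : Type u) [AddCommGroup N] [Module A N] (hN : IsSMulRegular N f)
    (z : N ⊗[A] (LinearMap.ker (pres A M))) (hz : f • z = 0) : z = 0 := by
  have hC : ∀ c : N ⧸ LinearMap.range (LinearMap.lsmul A N f), f • c = 0 := by
    intro c
    obtain ⟨c, rfl⟩ := Submodule.mkQ_surjective _ c
    rw [← map_smul, Submodule.mkQ_apply, Submodule.Quotient.mk_eq_zero]
    exact ⟨c, rfl⟩
  have hT := tor1Zero_ker_of_smul f hA hM _ hC
  have hinj := rTensor_injective_of_tor1Zero (M := LinearMap.ker (pres A M))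
    (f := LinearMap.lsmul A N f) (g := (LinearMap.range (LinearMap.lsmul A N f)).mkQ)
    hN (LinearMap.exact_map_mkQ_range _) (Submodule.mkQ_surjective _) hT
  apply hinj
  rw [map_zero, ← hz]
  have : LinearMap.lsmul A N f = f • LinearMap.id := by ext; simp
  rw [this, LinearMap.rTensor_smul, LinearMap.rTensor_id, LinearMap.smul_apply, LinearMap.id_apply]

/-- Elements of `Tor₁(N, M)` are killed by a power of `f` when `M_f` is flat. -/
theorem exists_pow_smul_eq_zero
    [Module.Flat (Localization.Away f) (LocalizedModule (Submonoid.powers f) M)]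
    {L G : Type u} [AddCommGroup L] [Module A L] [AddCommGroup G] [Module A G] [Module.Flat A G]
    (i : L →ₗ[A] G) (p : G →ₗ[A] M) (hi : Injective i) (hip : Exact i p) (hp : Surjective p)
    (N : Type u) [AddCommGroup N] [Module A N]
    (x : N ⊗[A] L) (hx : i.lTensor N x = 0) : ∃ n : ℕ, f ^ n • x = 0 := by
  have hAf : Module.Flat A (Localization.Away f) :=
    IsLocalization.flat (Localization.Away f) (Submonoid.powers f)
  have hMf : Module.Flat A (LocalizedModule (Submonoid.powers f) M) :=
    Module.Flat.trans A (Localization.Away f) _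
  have hGf : Module.Flat A (LocalizedModule (Submonoid.powers f) G) :=
    Module.Flat.trans A (Localization (Submonoid.powers f)) _
  obtain ⟨mkL, hmkL⟩ : ∃ g : L →ₗ[A] LocalizedModule (Submonoid.powers f) L,
      g = LocalizedModule.mkLinearMap (Submonoid.powers f) L := ⟨_, rfl⟩
  have hlocL : IsLocalizedModule (Submonoid.powers f) mkL := by rw [hmkL]; infer_instance
  obtain ⟨mkG, hmkG⟩ : ∃ g : G →ₗ[A] LocalizedModule (Submonoid.powers f) G,
      g = LocalizedModule.mkLinearMap (Submonoid.powers f) G := ⟨_, rfl⟩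
  have hlocG : IsLocalizedModule (Submonoid.powers f) mkG := by rw [hmkG]; infer_instance
  obtain ⟨mkM, hmkM⟩ : ∃ g : M →ₗ[A] LocalizedModule (Submonoid.powers f) M,
      g = LocalizedModule.mkLinearMap (Submonoid.powers f) M := ⟨_, rfl⟩
  have hlocM : IsLocalizedModule (Submonoid.powers f) mkM := by rw [hmkM]; infer_instance
  have hex := IsLocalizedModule.map_exact (Submonoid.powers f) mkL mkG mkM i p hip
  have hinj := IsLocalizedModule.map_injective (Submonoid.powers f) mkL mkG i hi
  have hsurj := IsLocalizedModule.map_surjective (Submonoid.powers f) mkG mkM p hp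
  have hinjN : Injective ((IsLocalizedModule.map (Submonoid.powers f) mkL mkG i).lTensor N) :=
    (tor1Zero_iff_lTensor_injective (N := N) hinj hex hsurj).mp tor1Zero_of_flat_right
  have hcomm : (IsLocalizedModule.map (Submonoid.powers f) mkL mkG i) ∘ₗ mkL = mkG ∘ₗ i :=
    IsLocalizedModule.map_comp _ _ _ _
  have h1 : mkL.lTensor N x = 0 := by
    apply hinjN
    rw [map_zero, ← LinearMap.comp_apply, ← LinearMap.lTensor_comp, hcomm, LinearMap.lTensor_comp,
      LinearMap.comp_apply, hx, map_zero]
  have hnat : ∀ y : N ⊗[A] L,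
      (TensorProduct.AlgebraTensorModule.rTensor A N mkL) (TensorProduct.comm A N _ y) =
        TensorProduct.comm A N _ (mkL.lTensor N y) := by
    intro y
    induction y with
    | zero => simp
    | add a b ha hb => simp only [map_add, ha, hb]
    | tmul a b => simp
  have h2 : (TensorProduct.AlgebraTensorModule.rTensor A N mkL) (TensorProduct.comm A N _ x) = 0 := by
    rw [hnat, h1, map_zero]
  obtain ⟨⟨s, n, rfl⟩, hs⟩ := (IsLocalizedModule.eq_zero_iff (Submonoid.powers f)
    (TensorProduct.AlgebraTensorModule.rTensor A N mkL)).mp h2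
  refine ⟨n, ?_⟩
  have h3 : f ^ n • (TensorProduct.comm A N _ x) = 0 := hs
  rw [← map_smul] at h3
  exact (TensorProduct.comm A N L).injective (by rw [h3, map_zero])

/-- If `f` is regular on `N ⊗ L` then `N ⊗ L → N ⊗ G` is injective. -/
theorem lTensor_injective_of_forall_smul
    [Module.Flat (Localization.Away f) (LocalizedModule (Submonoid.powers f) M)]
    {L G : Type u} [AddCommGroup L] [Module A L] [AddCommGroup G] [Module A G] [Module.Flat A G]
    (i : L →ₗ[A] G) (p : G →ₗ[A] M) (hi : Injective i) (hip : Exact i p) (hp : Surjective p)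
    (N : Type u) [AddCommGroup N] [Module A N]
    (hreg : ∀ z : N ⊗[A] L, f • z = 0 → z = 0) : Injective (i.lTensor N) := by
  rw [injective_iff_map_eq_zero]
  intro x hx
  obtain ⟨n, hn⟩ := exists_pow_smul_eq_zero f i p hi hip hp N x hx
  clear hx
  induction n with
  | zero => simpa using hn
  | succ n ih =>
    apply ih
    apply hreg
    rw [← mul_smul, ← pow_succ']
    exact hn

/-- `f`-torsion-free modules have vanishing `Tor₁` against `M`. -/
theorem tor1Zero_of_isSMulRegular (hA : f ∈ nonZeroDivisors A) (hM : IsSMulRegular M f)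
    [Module.Flat (Localization.Away f) (LocalizedModule (Submonoid.powers f) M)]
    [Module.Flat (A ⧸ Ideal.span {f}) ((A ⧸ Ideal.span {f}) ⊗[A] M)]
    (N : Type u) [AddCommGroup N] [Module A N] (hN : IsSMulRegular N f) : Tor1Zero A N M := by
  have key := @lTensor_injective_of_forall_smul A _ f M _ _ _ (LinearMap.ker (pres A M))
    (M →₀ A) _ _ _ _ _
    (LinearMap.ker (pres A M)).subtype (pres A M) (Submodule.subtype_injective _)
    (pres_exact A M) (pres_surjective A M) N _ _ (smul_tensor_ker_injective f hA hM N hN)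
  exact key

/-- A finitely generated submodule of an `f`-power torsion module is killed by a power of `f`. -/
theorem exists_pow_smul_of_fg {N : Type*} [AddCommGroup N] [Module A N]
    (hN : ∀ z : N, ∃ n : ℕ, f ^ n • z = 0) (N' : Submodule A N) (hfg : N'.FG) :
    ∃ n : ℕ, ∀ z : N', f ^ n • z = 0 := by
  classical
  obtain ⟨s, hs⟩ := hfg
  choose e he using hN
  refine ⟨s.sup e, ?_⟩
  have key : ∀ z : N, z ∈ Submodule.span A (s : Set N) → f ^ (s.sup e) • z = 0 := by
    intro z hz
    refine Submodule.span_induction ?_ ?_ ?_ ?_ hz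
    · intro g hg
      have hle : e g ≤ s.sup e := Finset.le_sup hg
      obtain ⟨k, hk⟩ := Nat.exists_eq_add_of_le hle
      rw [hk, pow_add, mul_comm, mul_smul, he, smul_zero]
    · exact smul_zero _
    · intro a b _ _ ha hb
      rw [smul_add, ha, hb, add_zero]
    · intro r a _ ha
      rw [smul_comm, ha, smul_zero]
  rintro ⟨z, hz⟩
  apply Subtype.ext
  rw [Submodule.coe_smul, Submodule.coe_zero]
  exact key z (by rw [hs]; exact hz)

/-- `f`-power torsion modules have vanishing `Tor₁` against `M`. -/
theorem tor1Zero_of_powTorsion (hA : f ∈ nonZeroDivisors A) (hM : IsSMulRegular M f)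
    [Module.Flat (A ⧸ Ideal.span {f}) ((A ⧸ Ideal.span {f}) ⊗[A] M)]
    (N : Type u) [AddCommGroup N] [Module A N] (hN : ∀ z : N, ∃ n : ℕ, f ^ n • z = 0) :
    Tor1Zero A N M := by
  unfold Tor1Zero
  rw [injective_iff_map_eq_zero]
  intro x hx
  obtain ⟨N', hfg, y, rfl⟩ := Submodule.exists_fg_le_eq_rTensor_subtype x
  have hy : (LinearMap.ker (pres A M)).subtype.lTensor N' y = 0 := by
    apply Module.Flat.rTensor_preserves_injective_linearMap (M := (M →₀ A)) N'.subtype
      N'.subtype_injective
    rw [map_zero, ← LinearMap.comp_apply, LinearMap.rTensor_comp_lTensor,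
      ← LinearMap.lTensor_comp_rTensor, LinearMap.comp_apply, hx]
  obtain ⟨n, hn⟩ := exists_pow_smul_of_fg f hN N' hfg
  have hT : Tor1Zero A N' M := tor1Zero_of_pow_smul f hA hM n N' hn
  rw [(injective_iff_map_eq_zero _).mp hT y hy, map_zero]

/-- The `f`-power torsion submodule. -/
def powTorsion (N : Type*) [AddCommGroup N] [Module A N] : Submodule A N where
  carrier := {z | ∃ n : ℕ, f ^ n • z = 0}
  add_mem' := by
    rintro a b ⟨n, hn⟩ ⟨m, hm⟩
    refine ⟨n + m, ?_⟩
    have ha : f ^ (n + m) • a = 0 := by rw [pow_add, mul_comm, mul_smul, hn, smul_zero]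
    have hb : f ^ (n + m) • b = 0 := by rw [pow_add, mul_smul, hm, smul_zero]
    rw [smul_add, ha, hb, add_zero]
  zero_mem' := ⟨0, smul_zero _⟩
  smul_mem' := by
    rintro r a ⟨n, hn⟩
    exact ⟨n, by rw [smul_comm, hn, smul_zero]⟩

/-- All modules have vanishing `Tor₁` against `M`. -/
theorem tor1Zero_all (hA : f ∈ nonZeroDivisors A) (hM : IsSMulRegular M f)
    [Module.Flat (Localization.Away f) (LocalizedModule (Submonoid.powers f) M)]
    [Module.Flat (A ⧸ Ideal.span {f}) ((A ⧸ Ideal.span {f}) ⊗[A] M)]
    (N : Type u) [AddCommGroup N] [Module A N] : Tor1Zero A N M := by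
  have h1 : Tor1Zero A (powTorsion f N) M := by
    apply tor1Zero_of_powTorsion f hA hM
    rintro ⟨z, n, hn⟩
    exact ⟨n, Subtype.ext hn⟩
  have h2 : Tor1Zero A (N ⧸ powTorsion f N) M := by
    apply tor1Zero_of_isSMulRegular f hA hM
    intro a b hab
    obtain ⟨a, rfl⟩ := Submodule.mkQ_surjective _ a
    obtain ⟨b, rfl⟩ := Submodule.mkQ_surjective _ b
    have h3 : (powTorsion f N).mkQ (f • (a - b)) = 0 := by
      rw [smul_sub, map_sub, sub_eq_zero, map_smul, map_smul]
      exact hab
    rw [Submodule.mkQ_apply, Submodule.Quotient.mk_eq_zero] at h3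
    obtain ⟨n, hn⟩ := h3
    have h4 : a - b ∈ powTorsion f N := ⟨n + 1, by rw [pow_succ, mul_smul]; exact hn⟩
    rw [← sub_eq_zero, ← map_sub, Submodule.mkQ_apply, Submodule.Quotient.mk_eq_zero]
    exact h4
  exact tor1Zero_of_exact (powTorsion f N).subtype_injective
    (LinearMap.exact_subtype_mkQ _) (Submodule.mkQ_surjective _) h1 h2

end Main

open TensorProduct in
/-- For a ring A, a module M and an element f that is a nonzerodivisor on A and on M, if M_f is flat
over A_f and M/fM is flat over A/fA then M is flat over A (the source's companion statement for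
faithful flatness is not stated). -/
theorem result {A M : Type u} [CommRing A] [AddCommGroup M] [Module A M] (f : A) (hA : f ∈ nonZeroDivisors A) (hM : IsSMulRegular M f)
    [Module.Flat (Localization.Away f) (LocalizedModule (Submonoid.powers f) M)]
    [Module.Flat (A ⧸ Ideal.span {f}) ((A ⧸ Ideal.span {f}) ⊗[A] M)] : Module.Flat A M := by
  exact flat_of_forall_tor1Zero fun I _ => tor1Zero_all f hA hM (A ⧸ I)

end Groth.Agent.S0399
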