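import Groth.Statements.S0401
import Mathlib.RingTheory.Ideal.Height

set_option autoImplicit false
universe u
open FlatMor

namespace Groth.Agent.S0401

theorem height_le_aux {R S : Type u} [CommRing R] [CommRing S] [Algebra R S] :
    ∀ (n : ℕ) (q : Ideal S) [q.IsPrime] [Algebra.QuasiFiniteAt R q],
      (q.under R).height ≤ n → q.height ≤ n := by
  intro n
  induction n with
  | zero =>
    intro q _ _ h
    rw [Ideal.height_le_iff]
    intro q' hq' hlt
    exfalso
    have hqf : Algebra.QuasiFiniteAt R q' := Algebra.QuasiFiniteAt.of_le hlt.le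
    have hle : q'.under R ≤ q.under R := Ideal.comap_mono hlt.le
    have hne : q'.under R ≠ q.under R := fun h' =>
      hlt.ne (Algebra.QuasiFiniteAt.eq_of_le_of_under_eq hlt.le h')
    have h1 := Ideal.height_add_one_le_of_lt_of_isPrime (lt_of_le_of_ne hle hne)
    have : (q'.under R).height + 1 ≤ 0 := h1.trans h
    simp at this
  | succ n ih =>
    intro q _ _ h
    rw [Ideal.height_le_iff]
    intro q' hq' hlt
    have hqf : Algebra.QuasiFiniteAt R q' := Algebra.QuasiFiniteAt.of_le hlt.le
    have hle : q'.under R ≤ q.under R := Ideal.comap_mono hlt.le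
    have hne : q'.under R ≠ q.under R := fun h' =>
      hlt.ne (Algebra.QuasiFiniteAt.eq_of_le_of_under_eq hlt.le h')
    have h1 := Ideal.height_add_one_le_of_lt_of_isPrime (lt_of_le_of_ne hle hne)
    have h2 : (q'.under R).height + 1 ≤ (n : ℕ∞) + 1 := by
      refine h1.trans ?_
      simpa using h
    have h3 : (q'.under R).height ≤ n := by
      exact (ENat.add_le_add_iff_right (by simp)).mp h2
    have := ih q' h3
    calc q'.height ≤ n := this
      _ < ((n + 1 : ℕ) : ℕ∞) := by exact_mod_cast Nat.lt_succ_self n

/-- For a finite type ring map R → S quasi-finite at a prime q lying over p, the dimension of S_q is at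
most the dimension of R_p. -/
theorem result {R S : Type u} [CommRing R] [CommRing S] [Algebra R S] [Algebra.FiniteType R S] (q : Ideal S) [q.IsPrime] [Algebra.QuasiFiniteAt R q] :
    ringKrullDim (Localization.AtPrime q) ≤ ringKrullDim (Localization.AtPrime (q.under R)) := by
  rw [IsLocalization.AtPrime.ringKrullDim_eq_height q, IsLocalization.AtPrime.ringKrullDim_eq_height (q.under R)]
  norm_cast
  by_cases htop : (q.under R).height = ⊤
  · rw [htop]; exact le_top
  · obtain ⟨n, hn⟩ := ENat.ne_top_iff_exists.mp htop
    rw [← hn]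
    exact height_le_aux n q (by rw [← hn])

end Groth.Agent.S0401
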