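-- Statement S0403.
import Groth.Statements.S0403
import Groth.Agent.S0402
import Groth.Agent.Lib.H56FibDimSup
import Mathlib

set_option autoImplicit false
universe u
open FlatMor

namespace Groth.Agent.S0403

open AlgebraicGeometry CategoryTheory Limits
open Groth.Agent.Lib.H56LocDim

theorem main {X S : Scheme.{u}} (f : X ⟶ S) [IsProper f] (c : WithBot ℕ∞) :
    IsOpen {s : S | topologicalKrullDim (f.fiber s) ≤ c} := by
  have hclosed : IsClosedMap f.base := f.isClosedMap
  induction c with
  | bot =>
    have : {s : S | topologicalKrullDim (f.fiber s) ≤ ⊥} = (Set.range f.base)ᶜ := by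
      ext s
      simp only [Set.mem_ofPred_eq, Set.mem_compl_iff, Set.mem_range, not_exists]
      rw [dim_fiber_le_iff]
      constructor
      · intro h x hx
        have h1 := h x hx
        have h2 := fibreDimAt_nonneg f x
        have h3 := h2.trans h1
        simp at h3
      · intro h x hx
        exact absurd hx (h x)
    rw [this]
    exact hclosed.isClosed_range.isOpen_compl
  | coe c =>
    induction c with
    | top =>
      have : {s : S | topologicalKrullDim (f.fiber s) ≤ ((⊤ : ℕ∞) : WithBot ℕ∞)} = Set.univ := by
        ext s
        simp only [Set.mem_ofPred_eq, Set.mem_univ, iff_true]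
        exact le_top
      rw [this]
      exact isOpen_univ
    | coe n =>
      have hopen : IsOpen {x : X | FlatMor.fibreDimAt f x ≤ (n : WithBot ℕ∞)} :=
        Groth.Agent.S0402.result f n
      have : {s : S | topologicalKrullDim (f.fiber s) ≤ ((n : ℕ∞) : WithBot ℕ∞)} =
          (f.base '' {x : X | FlatMor.fibreDimAt f x ≤ (n : WithBot ℕ∞)}ᶜ)ᶜ := by
        ext s
        simp only [Set.mem_ofPred_eq, Set.mem_compl_iff, Set.mem_image, not_exists, not_and]
        rw [dim_fiber_le_iff]
        constructor
        · intro h x hx
          by_contra hne
          exact hx (h x hne)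
        · intro h x hx
          by_contra hne
          exact h x hne hx
      rw [this]
      exact (hclosed _ hopen.isClosed_compl).isOpen_compl

open AlgebraicGeometry CategoryTheory Limits in
/-- For a proper morphism the dimension of the fibre is an upper semicontinuous function on the target:
for every bound the set of points whose fibre has dimension at most that bound is open. -/
theorem result {X S : Scheme.{u}} (f : X ⟶ S) [IsProper f] (c : WithBot ℕ∞) :
    IsOpen {s : S | topologicalKrullDim (f.fiber s) ≤ c} := by
  exact main f c

end Groth.Agent.S0403
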