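import Groth.Statements.S0404
import Mathlib
import Groth.Agent.Lib.H79FlatGenDimOpen

set_option autoImplicit false
universe u
open FlatMor

namespace Groth.Agent.S0404

open AlgebraicGeometry CategoryTheory Limits in
/-- For a flat morphism of finite presentation (here: flat, quasi-compact, quasi-separated and locally
of finite presentation) the dimension of the fibre is a lower semicontinuous function on the target. -/
theorem result {X S : Scheme.{u}} (f : X ⟶ S) [Flat f] [LocallyOfFinitePresentation f] [QuasiCompact f] [QuasiSeparated f] (c : WithBot ℕ∞) :
    IsOpen {s : S | c < topologicalKrullDim (f.fiber s)} := by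
  exact Groth.Agent.Lib.H79FlatGenDimOpen.isOpen_setOf_lt_dim_fiber' f c

end Groth.Agent.S0404
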