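import Groth.Statements.S0411
import Mathlib.AlgebraicGeometry.ZariskisMainTheorem
import Mathlib.AlgebraicGeometry.QuasiAffine

set_option autoImplicit false
universe u
open FlatMor

namespace Groth.Agent.S0411

open AlgebraicGeometry CategoryTheory Limits

/-- In a quasi-affine scheme every finite set of points is contained in an affine basic open. -/
theorem exists_basicOpen_of_isQuasiAffine (X : Scheme.{u}) [X.IsQuasiAffine] (T : Finset ↑X) :
    ∃ r : Γ(X, ⊤), IsAffineOpen (X.basicOpen r) ∧ ∀ x ∈ T, x ∈ X.basicOpen r := by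
  classical
  rcases T.eq_empty_or_nonempty with rfl | ⟨x₀, hx₀⟩
  · refine ⟨0, ?_, by simp⟩
    rw [Scheme.basicOpen_zero]
    exact isAffineOpen_bot X
  obtain ⟨s, hs⟩ := (PrimeSpectrum.isOpen_iff _).mp X.toSpecΓ.opensRange.2
  have hmem : ∀ x : X, ¬ Ideal.span s ≤ (X.toSpecΓ x).asIdeal := by
    intro x hx
    have h1 : X.toSpecΓ x ∈ (X.toSpecΓ.opensRange : Set _) := ⟨x, rfl⟩
    have h2 : X.toSpecΓ x ∈ PrimeSpectrum.zeroLocus s :=
      (PrimeSpectrum.mem_zeroLocus _ _).mpr (Ideal.span_le.mp hx)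
    rw [← hs] at h2
    exact h2 h1
  have hnot : ¬ ((Ideal.span s : Set Γ(X, ⊤)) ⊆
      ⋃ x ∈ (T : Set X), ((X.toSpecΓ x).asIdeal : Set _)) := by
    rw [Ideal.subset_union_prime (f := fun x : X ↦ (X.toSpecΓ x).asIdeal) (s := T)
      x₀ x₀ (fun x _ _ _ ↦ (X.toSpecΓ x).isPrime)]
    rintro ⟨x, -, hx⟩
    exact hmem x hx
  obtain ⟨r, hrI, hr⟩ := Set.not_subset.mp hnot
  have hrU : ((PrimeSpectrum.basicOpen r : TopologicalSpace.Opens _) : Set (PrimeSpectrum _)) ⊆
      Set.range X.toSpecΓ := by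
    intro q hq
    by_contra hq'
    have : q ∈ PrimeSpectrum.zeroLocus s := by rw [← hs]; exact hq'
    exact hq (Ideal.span_le.mpr ((PrimeSpectrum.mem_zeroLocus _ _).mp this) hrI)
  refine ⟨r, ?_, fun x hx ↦ ?_⟩
  · rw [← Scheme.toSpecΓ_preimage_basicOpen]
    rw [← Scheme.Hom.isAffineOpen_iff_of_isOpenImmersion X.toSpecΓ]
    convert! IsAffineOpen.Spec_basicOpen r
    exact SetLike.coe_injective (Set.image_preimage_eq_of_subset hrU)
  · rw [← Scheme.toSpecΓ_preimage_basicOpen]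
    change X.toSpecΓ x ∈ PrimeSpectrum.basicOpen r
    intro h
    exact hr (Set.mem_biUnion (Finset.mem_coe.mpr hx) h)

open AlgebraicGeometry CategoryTheory Limits in
/-- For a separated, locally quasi-finite morphism (locally of finite type with discrete fibres) to an
affine scheme, every finite set of points of the source lies in an affine open. -/
theorem result {X Y : Scheme.{u}} (f : X ⟶ Y) [IsAffine Y] [IsSeparated f] [LocallyQuasiFinite f] [LocallyOfFiniteType f] (T : Finset ↑X) :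
    ∃ U : X.Opens, IsAffineOpen U ∧ ∀ x ∈ T, x ∈ U := by
  classical
  have hW : ∃ W : X.Opens, IsCompact (W : Set X) ∧ ∀ x ∈ T, x ∈ W := by
    have H : ∀ x : X, ∃ U : X.Opens, IsAffineOpen U ∧ x ∈ U := fun x ↦ by
      obtain ⟨_, ⟨U, hU, rfl⟩, hxU, -⟩ :=
        X.isBasis_affineOpens.exists_subset_of_mem_open (Set.mem_univ x) isOpen_univ
      exact ⟨U, hU, hxU⟩
    choose U hU hxU using H
    refine ⟨⨆ x ∈ T, U x, ?_, fun x hx ↦ ?_⟩
    · simp only [TopologicalSpace.Opens.coe_iSup]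
      exact T.finite_toSet.isCompact_biUnion fun x _ ↦ (hU x).isCompact
    · exact TopologicalSpace.Opens.mem_iSup.mpr ⟨x, TopologicalSpace.Opens.mem_iSup.mpr ⟨hx, hxU x⟩⟩
  obtain ⟨W, hWc, hTW⟩ := hW
  have : CompactSpace W := isCompact_iff_compactSpace.mp hWc
  let g : W.toScheme ⟶ Y := W.ι ≫ f
  have : QuasiCompact g := (quasiCompact_iff_compactSpace g).mpr inferInstance
  have : IsOpenImmersion g.toNormalization := inferInstance
  have : IsAffine g.normalization := isAffine_of_isAffineHom g.fromNormalization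
  have : W.toScheme.IsQuasiAffine := Scheme.IsQuasiAffine.of_isImmersion g.toNormalization
  obtain ⟨r, hr, hTr⟩ := exists_basicOpen_of_isQuasiAffine W.toScheme (T.subtype (· ∈ W))
  refine ⟨W.ι ''ᵁ (W.toScheme.basicOpen r), hr.image_of_isOpenImmersion W.ι, fun x hx ↦ ?_⟩
  exact ⟨⟨x, hTW x hx⟩, hTr _ (Finset.mem_subtype.mpr hx), rfl⟩

end Groth.Agent.S0411
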