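import Groth.Statements.S0416
import Groth.Agent.Lib.UnivHomeo

set_option autoImplicit false
universe u
open FlatMor

namespace Groth.Agent.S0416

open AlgebraicGeometry CategoryTheory Limits in
/-- When a composite of two morphisms is a universal homeomorphism and so is either factor, the
remaining factor is a universal homeomorphism as well. -/
theorem result {X Y Z : Scheme.{u}} (g : X ⟶ Y) (h : Y ⟶ Z) :
    (FlatMor.IsUnivHomeo (g ≫ h) → FlatMor.IsUnivHomeo g → FlatMor.IsUnivHomeo h) ∧
    (FlatMor.IsUnivHomeo (g ≫ h) → FlatMor.IsUnivHomeo h → FlatMor.IsUnivHomeo g) := by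
  exact ⟨fun hgh hg ↦ Groth.Agent.Lib.UnivHomeo.of_comp_left hgh hg,
    fun hgh hh ↦ Groth.Agent.Lib.UnivHomeo.of_comp_right hgh hh⟩

end Groth.Agent.S0416
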