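import Groth.Statements.S0418
-- import your own Groth.Agent.* helpers here
import Groth.Agent.Lib.UHPrimeH52

set_option autoImplicit false
universe u
open FlatMor

namespace Groth.Agent.S0418

open AlgebraicGeometry in
/-- For a prime number p and a ring map A → B that becomes an isomorphism after inverting p, Spec B →
Spec A is a universal homeomorphism if and only if the kernel consists of nilpotents and every
element of B has some p-power multiple and p-power power in the image. -/
theorem result {A B : Type u} [CommRing A] [CommRing B] (φ : A →+* B) (p : ℕ) (hp : p.Prime)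
    (h : Function.Bijective (Localization.awayMap φ (p : A))) :
    FlatMor.IsUnivHomeo (Spec.map (CommRingCat.ofHom φ)) ↔
      (∀ a ∈ RingHom.ker φ, IsNilpotent a) ∧ ∀ b : B, ∃ n : ℕ, (p ^ n : B) * b ∈ φ.range ∧ b ^ (p ^ n) ∈ φ.range := by
  rw [Groth.Agent.Lib.UHRingH52.isUnivHomeo_iff]
  have hpB : ∀ n : ℕ, ((p : B) ^ n) = φ ((p : A) ^ n) := fun n => by rw [map_pow, map_natCast]
  constructor
  · intro hU
    refine ⟨fun a ha => mem_nilradical.mp
      (Groth.Agent.Lib.UHCharPH52.ker_le_nilradical_of_isUH φ hU ha), ?_⟩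
    have h0 : ∀ b : B, ∃ k : ℕ, (p : B) ^ k * b ∈ φ.range := by
      intro b
      obtain ⟨a, m, ha⟩ := Localization.awayMap_surjective_iff.mp h.2 b
      exact ⟨m, a, by rw [ha, map_natCast]⟩
    have hUR : Groth.Agent.Lib.UHRingH52.IsUH φ.range.subtype := by
      have hcomp : φ = φ.range.subtype.comp φ.rangeRestrict := rfl
      exact Groth.Agent.Lib.UHFactorH52.IsUH.right φ.rangeRestrict _ Subtype.val_injective
        (hcomp ▸ hU)
    have htop := Groth.Agent.Lib.UHPrimeH52.powSub_eq_top φ.range p hp h0 hUR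
    intro b
    have hb : b ∈ Groth.Agent.Lib.UHPrimeH52.powSub φ.range p hp h0 := by
      rw [htop]; exact Subring.mem_top b
    obtain ⟨n, hn⟩ := hb
    obtain ⟨k, hk⟩ := h0 b
    refine ⟨n + k, ?_, ?_⟩
    · rw [pow_add, mul_assoc]
      exact φ.range.mul_mem ⟨(p : A) ^ n, (hpB n).symm⟩ hk
    · rw [pow_add, pow_mul]
      exact φ.range.pow_mem hn _
  · rintro ⟨hker, hpow⟩
    have hint : φ.IsIntegral := by
      intro b
      obtain ⟨n, -, a, ha⟩ := hpow b
      refine ⟨Polynomial.X ^ p ^ n - Polynomial.C a, ?_, ?_⟩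
      · exact Polynomial.monic_X_pow_sub_C a (pow_ne_zero n hp.ne_zero)
      · rw [Polynomial.eval₂_sub, Polynomial.eval₂_pow, Polynomial.eval₂_X, Polynomial.eval₂_C, ha,
          sub_self]
    let _ : Algebra A B := φ.toAlgebra
    refine ⟨hint, Groth.Agent.Lib.UHRelH52.comap_surjective_of_isIntegral_of_ker_le (A := A) (B := B)
      hint (fun a ha => mem_nilradical.mpr (hker a ha)), ?_⟩
    intro K _ g₁ g₂ hg
    ext b
    obtain ⟨n, ⟨a₁, ha₁⟩, a₂, ha₂⟩ := hpow b
    have hg' : ∀ a : A, g₁ (φ a) = g₂ (φ a) := fun a => congrArg (fun f : A →+* K => f a) hg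
    by_cases hp0 : (p : K) = 0
    · apply Groth.Agent.Lib.UHCharPH52.eq_of_pow_p_pow_eq hp hp0 n
      rw [← map_pow, ← map_pow, ← ha₂, hg']
    · have h1 : (p : K) ^ n * g₁ b = (p : K) ^ n * g₂ b := by
        have e1 : g₁ (φ a₁) = (p : K) ^ n * g₁ b := by rw [ha₁]; simp
        have e2 : g₂ (φ a₁) = (p : K) ^ n * g₂ b := by rw [ha₁]; simp
        rw [← e1, ← e2, hg']
      exact mul_left_cancel₀ (pow_ne_zero n hp0) h1

end Groth.Agent.S0418
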