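import Groth.Statements.S0419
import Groth.Agent.Lib.H77GeomIrrSch

set_option autoImplicit false
universe u
open FlatMor

namespace Groth.Agent.S0419

open AlgebraicGeometry CategoryTheory Limits in
/-- For a morphism of finite type to an irreducible scheme whose generic fibre is geometrically
irreducible, all fibres over some nonempty open of the target are geometrically irreducible. -/
theorem result {X Y : Scheme.{u}} (f : X ⟶ Y) [IrreducibleSpace ↑Y] [LocallyOfFiniteType f] [QuasiCompact f]
    (h : GeometricallyIrreducible (f.fiberToSpecResidueField (genericPoint ↑Y))) :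
    ∃ V : Y.Opens, (V : Set ↑Y).Nonempty ∧ GeometricallyIrreducible (f ∣_ V) := by
  obtain ⟨V, hηV, hV⟩ :=
    Groth.Agent.Lib.H77GeomIrrSch.exists_opens_forall_geomIrrFiber f h
  refine ⟨V, ⟨_, hηV⟩, ?_⟩
  rw [GeometricallyIrreducible.iff_geometricallyIrreducible_fiber]
  intro v
  exact (Groth.Agent.Lib.H77GeomIrrSch.geomIrrFiber_iff_of_isPullback f V.ι (f ∣_ V) (f ⁻¹ᵁ V).ι
    (isPullback_morphismRestrict f V).flip v).mpr (hV _ v.2)

end Groth.Agent.S0419
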