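import Groth.Statements.S0421
import Groth.Agent.Lib.H47DvrFibre

set_option autoImplicit false
universe u
open FlatMor

namespace Groth.Agent.S0421

open AlgebraicGeometry CategoryTheory Limits in
/-- For a flat morphism from a connected scheme to the spectrum of a discrete valuation ring with
reduced closed fibre, the generic fibre is connected. -/
theorem result {R : Type u} [CommRing R] [IsDomain R] [IsDiscreteValuationRing R] {X : Scheme.{u}}
    (f : X ⟶ Spec (CommRingCat.of R)) [Flat f] [ConnectedSpace ↑X]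
    (hred : IsReduced (f.fiber (IsLocalRing.closedPoint R))) :
    ConnectedSpace ↑(f.fiber (⟨⊥, Ideal.isPrime_bot⟩ : PrimeSpectrum R)) := by
  obtain ⟨π, hπirr⟩ := IsDiscreteValuationRing.exists_irreducible R
  have hπ : IsLocalRing.maximalIdeal R = Ideal.span {π} := hπirr.maximalIdeal_eq
  have hπ0 : π ≠ 0 := hπirr.ne_zero
  have hset := Groth.Agent.Lib.H47DvrFibre.preimage_generic_eq f π hπ hπ0
  have hpre := Groth.Agent.Lib.H47DvrFibre.isPreconnected_preimage_Dπ f π hπ hπ0 hred
  have hne : (f ⁻¹' {(⟨⊥, Ideal.isPrime_bot⟩ : PrimeSpectrum R)}).Nonempty := by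
    rw [hset]
    by_contra h
    have hW : f ⁻¹ᵁ Groth.Agent.Lib.H47DvrFibre.Dπ π = ⊥ := by
      apply TopologicalSpace.Opens.ext
      exact Set.not_nonempty_iff_eq_empty.mp h
    have htop : (⊤ : X.Opens) = ⊥ :=
      Groth.Agent.Lib.H47DvrFibre.dense_preimage_Dπ f π hπ0 ⊤ (by rw [hW, inf_bot_eq])
    obtain ⟨x⟩ : Nonempty X := inferInstance
    have : x ∈ (⊤ : X.Opens) := trivial
    rw [htop] at this
    exact this
  have hconn : ConnectedSpace (f ⁻¹' {(⟨⊥, Ideal.isPrime_bot⟩ : PrimeSpectrum R)}) :=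
    isConnected_iff_connectedSpace.mp ⟨hne, hset ▸ hpre⟩
  exact (f.fiberHomeo _).symm.surjective.connectedSpace (f.fiberHomeo _).symm.continuous

end Groth.Agent.S0421
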