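import Groth.Statements.S0423
import Groth.Agent.Lib.WeaklyEtale

set_option autoImplicit false
universe u
open FlatMor

namespace Groth.Agent.S0423

open AlgebraicGeometry CategoryTheory Limits in
/-- A weakly étale morphism of schemes (flat with flat diagonal) is formally unramified. -/
theorem result {X Y : Scheme.{u}} (f : X ⟶ Y) [WeaklyEtale f] : FormallyUnramified f := by
  wlog hY : ∃ R, Y = Spec R
  · rw [IsZariskiLocalAtTarget.iff_of_openCover (P := @FormallyUnramified) Y.affineCover]
    intro i
    exact this (pullback.snd _ _) ⟨_, rfl⟩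
  obtain ⟨R, rfl⟩ := hY
  wlog hX : ∃ S, X = Spec S generalizing X
  · rw [IsZariskiLocalAtSource.iff_of_openCover (P := @FormallyUnramified) X.affineCover]
    intro i
    exact this (_ ≫ _) ⟨_, rfl⟩
  obtain ⟨S, rfl⟩ := hX
  obtain ⟨φ, rfl : Spec.map φ = f⟩ := Spec.homEquiv.symm.surjective f
  rw [HasRingHomProperty.Spec_iff (P := @FormallyUnramified)]
  algebraize [φ.hom]
  have hfl : Flat (Spec.map φ) := inferInstance
  have hdiag : Flat (pullback.diagonal (Spec.map φ)) := inferInstance
  rw [HasRingHomProperty.Spec_iff (P := @Flat)] at hfl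
  rw [show φ = CommRingCat.ofHom (algebraMap R S) from rfl, diagonal_SpecMap R S,
    MorphismProperty.cancel_right_of_respectsIso (P := @Flat),
    HasRingHomProperty.Spec_iff (P := @Flat)] at hdiag
  have : Module.Flat R S := by
    rwa [← RingHom.flat_algebraMap_iff, RingHom.algebraMap_toAlgebra]
  have : Algebra.WeaklyEtale R S := ⟨this, hdiag⟩
  have := Groth.Agent.Lib.WeaklyEtale.formallyUnramified_of_weaklyEtale (R := R) (S := S)
  rwa [← RingHom.formallyUnramified_algebraMap, RingHom.algebraMap_toAlgebra] at this

end Groth.Agent.S0423
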