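import Groth.Statements.S0425
import Groth.Agent.Lib.UnivHomeo
import Mathlib.AlgebraicGeometry.Morphisms.FlatMono

set_option autoImplicit false
universe u
open FlatMor

namespace Groth.Agent.S0425

open AlgebraicGeometry CategoryTheory Limits in
/-- A weakly étale universal homeomorphism is an isomorphism. -/
theorem result {X Y : Scheme.{u}} (f : X ⟶ Y) [WeaklyEtale f] (h : FlatMor.IsUnivHomeo f) : IsIso f := by
  have hd := Groth.Agent.Lib.UnivHomeo.diagonal h
  have : Surjective (pullback.diagonal f) := Groth.Agent.Lib.UnivHomeo.surjective hd
  have : QuasiCompact (pullback.diagonal f) := Groth.Agent.Lib.UnivHomeo.quasiCompact hd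
  have : IsIso (pullback.diagonal f) := Flat.isIso_of_surjective_of_mono _
  have : Mono f := (pullback.isIso_diagonal_iff f).mp this
  have : Surjective f := Groth.Agent.Lib.UnivHomeo.surjective h
  have : QuasiCompact f := Groth.Agent.Lib.UnivHomeo.quasiCompact h
  exact Flat.isIso_of_surjective_of_mono f

end Groth.Agent.S0425
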