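import Groth.Statements.S0431
import Groth.Agent.Lib.Ferrand24e
import Groth.Agent.Lib.ThickAffineOpen

set_option autoImplicit false
universe u
open FlatMor

namespace Groth.Agent.S0431

open Groth.Agent.Lib.Ferrand24 in
open AlgebraicGeometry CategoryTheory Limits in
/-- For a thickening X → X' (a surjective closed immersion) and an affine morphism X → Y, the pushout Y'
of X' and Y along X exists in schemes, Y → Y' is again a thickening and X is the fibre product of Y
and X' over Y' (the source's description of the structure sheaf of the pushout as a fibre product of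
sheaves is not restated). -/
theorem result {X X' Y : Scheme.{u}} (t : X ⟶ X') [IsClosedImmersion t] (ht : Function.Surjective t) (f : X ⟶ Y) [IsAffineHom f] :
    ∃ (Y' : Scheme.{u}) (f' : X' ⟶ Y') (b : Y ⟶ Y'), IsPushout t f f' b ∧ IsPullback t f f' b ∧
      IsClosedImmersion b ∧ Function.Surjective b := by
  classical
  haveI : Surjective t := ⟨ht⟩
  have hinj : Function.Injective t := t.isClosedEmbedding.injective
  -- the chart attached to an affine open of `Y`
  have hchart : ∀ V : Y.Opens, IsAffineOpen V → ∃ k : Pair t f, IsAffineOpen k.G ∧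
      IsAffineOpen k.H ∧ k.H = V ∧ ∀ x : X, t x ∈ k.G ↔ f x ∈ V := by
    intro V hV
    have hN : IsAffineOpen (f ⁻¹ᵁ V) := hV.preimage f
    let U : X'.Opens := ⟨(t '' ((f ⁻¹ᵁ V : X.Opens) : Set X)ᶜ)ᶜ,
      (t.isClosedEmbedding.isClosedMap _ (f ⁻¹ᵁ V).2.isClosed_compl).isOpen_compl⟩
    have hU : ∀ x : X, t x ∈ U ↔ f x ∈ V := by
      intro x
      constructor
      · intro h
        by_contra hx
        exact h ⟨x, hx, rfl⟩
      · rintro h ⟨x₁, hx₁, hx₁'⟩
        rw [hinj hx₁'] at hx₁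
        exact hx₁ h
    have heq : t ⁻¹ᵁ U = f ⁻¹ᵁ V := by
      ext x
      exact hU x
    refine ⟨⟨U, V, heq⟩, ?_, hV, rfl, hU⟩
    exact Groth.Agent.Lib.ThickAffine.isAffineOpen_of_isAffineOpen_preimage t U (heq ▸ hN)
  have hT : ∀ y : Y, ∃ k : Pair t f, IsAffineOpen k.G ∧ IsAffineOpen k.H ∧ y ∈ k.H := by
    intro y
    obtain ⟨_, ⟨V, hV, rfl⟩, hyV, -⟩ :=
      Y.isBasis_affineOpens.exists_subset_of_mem_open (Set.mem_univ y) isOpen_univ
    obtain ⟨k, hG, hH, hkV, -⟩ := hchart V hV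
    exact ⟨k, hG, hH, hkV ▸ hyV⟩
  have hX : ∀ x' : X', ∃ k : Pair t f, IsAffineOpen k.G ∧ IsAffineOpen k.H ∧ x' ∈ k.G := by
    intro x'
    obtain ⟨x, rfl⟩ := ht x'
    obtain ⟨_, ⟨V, hV, rfl⟩, hyV, -⟩ :=
      Y.isBasis_affineOpens.exists_subset_of_mem_open (Set.mem_univ (f x)) isOpen_univ
    obtain ⟨k, hG, hH, -, hk⟩ := hchart V hV
    exact ⟨k, hG, hH, (hk x).mpr hyV⟩
  obtain ⟨P, a, b, hP, hpb, hb, hpt, -, -⟩ := ferrand hX hT
  refine ⟨P, a, b, hP, hpb, hb, ?_⟩
  intro p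
  rcases hpt p with ⟨x', rfl⟩ | ⟨y, rfl⟩
  · obtain ⟨x, rfl⟩ := ht x'
    exact ⟨f x, (congr($(hP.w) x)).symm⟩
  · exact ⟨y, rfl⟩

end Groth.Agent.S0431
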