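import Groth.Statements.S0432
import Groth.Agent.Lib.Ferrand24f

set_option autoImplicit false
universe u
open FlatMor

namespace Groth.Agent.S0432

open Groth.Agent.Lib.Ferrand24 in
open AlgebraicGeometry CategoryTheory Limits in
/-- The pushout of two closed immersions Z → X and Z → Y exists in schemes, both maps into it are closed
immersions and the square is cartesian. -/
theorem result {X Y Z : Scheme.{u}} (i : Z ⟶ X) (j : Z ⟶ Y) [IsClosedImmersion i] [IsClosedImmersion j] :
    ∃ (P : Scheme.{u}) (a : X ⟶ P) (b : Y ⟶ P), IsPushout i j a b ∧ IsPullback i j a b ∧ IsClosedImmersion a ∧ IsClosedImmersion b := by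
  have haff : ∀ y : Y, ∃ U : X.Opens, IsAffineOpen U ∧ j ⁻¹' {y} ⊆ i ⁻¹' (U : Set X) := by
    intro y
    by_cases hy : ∃ z, j z = y
    · obtain ⟨z, rfl⟩ := hy
      obtain ⟨_, ⟨U, hU, rfl⟩, hzU, -⟩ :=
        X.isBasis_affineOpens.exists_subset_of_mem_open (Set.mem_univ (i z)) isOpen_univ
      refine ⟨U, hU, ?_⟩
      intro z' hz'
      have : z' = z := j.isClosedEmbedding.injective hz'
      rw [this]
      exact hzU
    · refine ⟨⊥, isAffineOpen_bot X, ?_⟩
      intro z hz
      exact absurd ⟨z, hz⟩ hy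
  obtain ⟨hX, hT⟩ := exists_charts i j haff
  obtain ⟨P, a, b, hP, hpb, hb, -, ha, -⟩ := ferrand hX hT
  exact ⟨P, a, b, hP, hpb, ha inferInstance, hb⟩

end Groth.Agent.S0432
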