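import Groth.Statements.S0438
import Groth.Agent.Lib.ValRed76A
import Groth.Agent.S0436

set_option autoImplicit false
set_option linter.style.haveILetI false
universe u
open FlatMor

namespace Groth.Agent.S0438

open AlgebraicGeometry CategoryTheory Limits IsLocalRing TopologicalSpace Opposite
open Groth.Agent.Lib.H47DvrFibre

variable {R : Type u} [CommRing R] {X : Scheme.{u}} (f : X ⟶ Spec (CommRingCat.of R))

/-- `R → Γ(X, G)` is flat for affine `G`. -/
lemma flat_toΓG [Flat f] {G : X.Opens} (hG : IsAffineOpen G) : (toΓG f G).Flat := by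
  have h1 := Flat.flat_appLE f (U := ⊤) (isAffineOpen_top _) hG le_top
  have h2 : (Scheme.ΓSpecIso (CommRingCat.of R)).inv.hom.Flat := by
    apply RingHom.Flat.of_bijective
    exact ConcreteCategory.bijective_of_isIso (Scheme.ΓSpecIso (CommRingCat.of R)).inv
  have := h2.comp h1
  convert this using 1
  rw [toΓG, toΓ, ← RingHom.comp_assoc]
  rfl

/-- `R → Γ(X, G)` is of finite type for affine `G`. -/
lemma finiteType_toΓG [LocallyOfFiniteType f] {G : X.Opens} (hG : IsAffineOpen G) :
    (toΓG f G).FiniteType := by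
  have h1 := LocallyOfFiniteType.finiteType_appLE f (U := ⊤) (isAffineOpen_top _) hG le_top
  have h2 : (Scheme.ΓSpecIso (CommRingCat.of R)).inv.hom.FiniteType := by
    apply RingHom.FiniteType.of_surjective
    exact (ConcreteCategory.bijective_of_isIso (Scheme.ΓSpecIso (CommRingCat.of R)).inv).2
  have := h1.comp h2
  convert this using 1
  rw [toΓG, toΓ, ← RingHom.comp_assoc]
  rfl

/-- every point specializes to a point of the closed fibre. -/
lemma exists_specializes_closedFibre [IsLocalRing R] [IsProper f] (x : X) :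
    ∃ x' : X, x ⤳ x' ∧ f x' = closedPoint R := by
  have hclosed : IsClosed (f '' closure {x}) := f.isClosedMap _ isClosed_closure
  have hmem : closedPoint R ∈ f '' closure {x} := by
    have h1 : f x ∈ f '' closure {x} := ⟨x, subset_closure rfl, rfl⟩
    have h2 : (f x) ⤳ closedPoint R :=
      (PrimeSpectrum.le_iff_specializes _ _).mp (le_maximalIdeal (f x).isPrime.ne_top)
    exact h2.mem_closed hclosed h1
  obtain ⟨x', hx'cl, hx'⟩ := hmem
  exact ⟨x', specializes_iff_mem_closure.mpr hx'cl, hx'⟩

/-- The closed fibre ideal in the stalk at a point of the (reduced) closed fibre is radical. -/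
lemma isRadical_closedFibre [IsLocalRing R]
    (hred : IsReduced (f.fiber (closedPoint R))) (x : X) (hx : f x = closedPoint R) :
    (Ideal.map (toStalkX f x) (maximalIdeal R)).IsRadical := by
  have hred' : IsReduced (f.fiber (f x)) := by rw [hx]; exact hred
  have hI : Ideal.map (f.stalkMap x).hom
      (maximalIdeal ((Spec (CommRingCat.of R)).presheaf.stalk (f x))) =
      Ideal.map (toStalkX f x) (maximalIdeal R) := by
    rw [fibreIdeal_eq, hx]
    rfl
  have hRed : _root_.IsReduced (X.presheaf.stalk x ⧸ Ideal.map (f.stalkMap x).hom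
      (maximalIdeal ((Spec (CommRingCat.of R)).presheaf.stalk (f x)))) :=
    isReduced_of_injective (Groth.Agent.Lib.FibreStalk33.fibreStalkEquiv f x).toRingHom
      (Groth.Agent.Lib.FibreStalk33.fibreStalkEquiv f x).injective
  rw [← hI]
  exact (Ideal.isRadical_iff_quotient_reduced _).mpr hRed

set_option maxHeartbeats 800000 in
/-- **Key lemma.** For a proper flat `X` over a valuation ring with reduced closed fibre, the ideal
`p 𝒪_{X,x}` is radical for every point `x` and every prime `p` of `R`. -/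
lemma isRadical_map_toStalkX [IsDomain R] [ValuationRing R] [IsProper f] [Flat f]
    (hred : IsReduced (f.fiber (closedPoint R))) (x : X) (p : Ideal R) [p.IsPrime] :
    (Ideal.map (toStalkX f x) p).IsRadical := by
  obtain ⟨x', hsp, hx'⟩ := exists_specializes_closedFibre f x
  obtain ⟨_, ⟨G, hG, rfl⟩, hx'G, -⟩ :=
    X.isBasis_affineOpens.exists_subset_of_mem_open (Set.mem_univ x') isOpen_univ
  have hxG : x ∈ G := hsp.mem_open G.isOpen hx'G
  -- the algebra `R → Γ(X, G)`
  letI : Algebra R Γ(X, G) := (toΓG f G).toAlgebra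
  haveI : Module.Flat R Γ(X, G) := flat_toΓG f hG
  haveI : Algebra.FiniteType R Γ(X, G) := finiteType_toΓG f hG
  -- the stalks as localizations
  letI : Algebra Γ(X, G) (X.presheaf.stalk x) :=
    TopCat.Presheaf.algebra_section_stalk X.presheaf ⟨x, hxG⟩
  letI : Algebra Γ(X, G) (X.presheaf.stalk x') :=
    TopCat.Presheaf.algebra_section_stalk X.presheaf ⟨x', hx'G⟩
  haveI hloc : IsLocalization.AtPrime (X.presheaf.stalk x) (hG.primeIdealOf ⟨x, hxG⟩).asIdeal :=
    hG.isLocalization_stalk ⟨x, hxG⟩
  haveI hloc' : IsLocalization.AtPrime (X.presheaf.stalk x')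
      (hG.primeIdealOf ⟨x', hx'G⟩).asIdeal := hG.isLocalization_stalk ⟨x', hx'G⟩
  set 𝔫 : Ideal Γ(X, G) := (hG.primeIdealOf ⟨x', hx'G⟩).asIdeal with h𝔫def
  set 𝔮 : Ideal Γ(X, G) := (hG.primeIdealOf ⟨x, hxG⟩).asIdeal with h𝔮def
  have hgerm' : ∀ r : R, algebraMap Γ(X, G) (X.presheaf.stalk x') (algebraMap R Γ(X, G) r) =
      toStalkX f x' r := fun r => germ_toΓG f G x' hx'G r
  have hgerm : ∀ r : R, algebraMap Γ(X, G) (X.presheaf.stalk x) (algebraMap R Γ(X, G) r) =
      toStalkX f x r := fun r => germ_toΓG f G x hxG r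
  have hmapI : ∀ (I : Ideal R), Ideal.map (algebraMap Γ(X, G) (X.presheaf.stalk x'))
      (I.map (algebraMap R Γ(X, G))) = Ideal.map (toStalkX f x') I := by
    intro I
    rw [Ideal.map_map]
    congr 1
    ext r
    exact hgerm' r
  have hmapI' : ∀ (I : Ideal R), Ideal.map (algebraMap Γ(X, G) (X.presheaf.stalk x))
      (I.map (algebraMap R Γ(X, G))) = Ideal.map (toStalkX f x) I := by
    intro I
    rw [Ideal.map_map]
    congr 1
    ext r
    exact hgerm r
  -- the closed fibre ideal is contained in `𝔫`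
  have hrad' := isRadical_closedFibre f hred x' hx'
  have hne : Ideal.map (toStalkX f x') (maximalIdeal R) ≤ maximalIdeal (X.presheaf.stalk x') := by
    rw [Ideal.map_le_iff_le_comap]
    intro a ha
    rw [Ideal.mem_comap, IsLocalRing.mem_maximalIdeal, mem_nonunits_iff]
    intro hu
    have h1 : x' ∈ X.basicOpen (toΓ f a) := (Scheme.mem_basicOpen_top X _ x').mpr hu
    rw [← preimage_Dπ_eq] at h1
    have h2 : a ∉ (f x').asIdeal := (mem_Dπ a (f x')).mp h1
    apply h2
    rw [hx']
    exact ha
  have h𝔫 : (maximalIdeal R).map (algebraMap R Γ(X, G)) ≤ 𝔫 := by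
    rw [Ideal.map_le_iff_le_comap]
    intro a ha
    rw [Ideal.mem_comap]
    have h1 : toStalkX f x' a ∈ maximalIdeal (X.presheaf.stalk x') :=
      hne (Ideal.mem_map_of_mem _ ha)
    rw [← hgerm' a] at h1
    exact (IsLocalization.AtPrime.to_map_mem_maximal_iff (X.presheaf.stalk x') 𝔫 _).mp h1
  have hredB : ∀ b : Γ(X, G), b * b ∈ (maximalIdeal R).map (algebraMap R Γ(X, G)) →
      ∃ s, s ∉ 𝔫 ∧ s * b ∈ (maximalIdeal R).map (algebraMap R Γ(X, G)) := by
    intro b hb
    have h1 : algebraMap Γ(X, G) (X.presheaf.stalk x') b ∈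
        Ideal.map (toStalkX f x') (maximalIdeal R) := by
      apply hrad'
      refine ⟨2, ?_⟩
      rw [← hmapI, pow_two, ← map_mul]
      exact Ideal.mem_map_of_mem _ hb
    rw [← hmapI] at h1
    obtain ⟨s, hs, hsb⟩ := (IsLocalization.algebraMap_mem_map_algebraMap_iff 𝔫.primeCompl
      (X.presheaf.stalk x') _ b).mp h1
    exact ⟨s, hs, hsb⟩
  obtain ⟨d, hd𝔫, hd⟩ := Groth.Agent.Lib.ValRed76.exists_notMem_mul_mem p 𝔫 h𝔫 hredB
  -- `d` is a unit at `x`
  have hd𝔮 : d ∉ 𝔮 := by
    have hu' : IsUnit (X.presheaf.germ G x' hx'G d) :=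
      IsLocalization.map_units (X.presheaf.stalk x') (⟨d, hd𝔫⟩ : 𝔫.primeCompl)
    have hxt' : x' ∈ X.basicOpen d := (X.mem_basicOpen _ x' hx'G).mpr hu'
    have hxt : x ∈ X.basicOpen d := hsp.mem_open (X.basicOpen _).isOpen hxt'
    have hu : IsUnit (X.presheaf.germ G x hxG d) := (X.mem_basicOpen _ x hxG).mp hxt
    intro hmem
    have h1 : algebraMap Γ(X, G) (X.presheaf.stalk x) d ∈ maximalIdeal (X.presheaf.stalk x) :=
      (IsLocalization.AtPrime.to_map_mem_maximal_iff (X.presheaf.stalk x) 𝔮 _).mpr hmem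
    exact (IsLocalRing.mem_maximalIdeal _).mp h1 hu
  rw [← hmapI', Ideal.isRadical_iff_pow_one_lt 2 (by norm_num)]
  intro r hr
  obtain ⟨b, t, rfl⟩ := IsLocalization.exists_mk'_eq 𝔮.primeCompl r
  rw [← IsLocalization.mk'_pow, IsLocalization.mk'_mem_map_algebraMap_iff] at hr
  obtain ⟨s, hs, hsb⟩ := hr
  rw [IsLocalization.mk'_mem_map_algebraMap_iff]
  have h1 : (s * b) ^ 2 ∈ p.map (algebraMap R Γ(X, G)) := by
    have : (s * b) ^ 2 = s * (s * b ^ 2) := by ring
    rw [this]
    exact Ideal.mul_mem_left _ _ hsb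
  have h2 := hd (s * b) ⟨2, h1⟩
  refine ⟨d * s, 𝔮.primeCompl.mul_mem hd𝔮 hs, ?_⟩
  rw [mul_assoc]
  exact h2

open AlgebraicGeometry CategoryTheory Limits in
/-- For a proper flat morphism to the spectrum of a valuation ring whose special fibre is reduced, the
total space and every fibre are reduced. -/
theorem result {R : Type u} [CommRing R] [IsDomain R] [ValuationRing R] {X : Scheme.{u}}
    (f : X ⟶ Spec (CommRingCat.of R)) [IsProper f] [Flat f]
    (hred : IsReduced (f.fiber (IsLocalRing.closedPoint R))) :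
    IsReduced X ∧ ∀ s : ↑(Spec (CommRingCat.of R)), IsReduced (f.fiber s) := by
  constructor
  · have hstalk : ∀ x : X, _root_.IsReduced (X.presheaf.stalk x) := by
      intro x
      have h := isRadical_map_toStalkX f hred x (⊥ : Ideal R)
      rw [Ideal.map_bot] at h
      constructor
      intro a ha
      have : a ∈ (⊥ : Ideal (X.presheaf.stalk x)) := h ha
      exact this
    exact isReduced_of_isReduced_stalk X
  · intro s
    have hz : ∀ z : f.fiber s, _root_.IsReduced ((f.fiber s).presheaf.stalk z) := by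
      intro z
      have key : ∀ (x : X) (y : Spec (CommRingCat.of R)) (hx : f x = y),
          _root_.IsReduced ((f.fiber y).presheaf.stalk ((f.fiberHomeo y).symm ⟨x, hx⟩)) := by
        intro x y hx
        subst hx
        have e := Groth.Agent.Lib.FibreStalk33.fibreStalkEquiv f x
        haveI : (f x).asIdeal.IsPrime := (f x).isPrime
        have hrad := isRadical_map_toStalkX f hred x (f x).asIdeal
        rw [← fibreIdeal_eq] at hrad
        haveI := (Ideal.isRadical_iff_quotient_reduced _).mp hrad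
        exact isReduced_of_injective e.symm.toRingHom e.symm.injective
      have h := key ((f.fiberHomeo s z).1) s ((f.fiberHomeo s z).2)
      have hzz : (f.fiberHomeo s).symm ⟨(f.fiberHomeo s z).1, (f.fiberHomeo s z).2⟩ = z := by
        rw [Subtype.coe_eta, Homeomorph.symm_apply_apply]
      rw [hzz] at h
      exact h
    exact isReduced_of_isReduced_stalk _

end Groth.Agent.S0438
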