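import Groth.Statements.S0443
import Mathlib.RingTheory.Unramified.LocalRing

set_option autoImplicit false
universe u
open FlatMor

namespace Groth.Agent.S0443

open AlgebraicGeometry CategoryTheory Limits in
lemma aux_spec0 {R S : CommRingCat.{u}} (φ : R ⟶ S) (hφ : φ.hom.Finite) (x : PrimeSpectrum S)
    (hx : ∀ x' : PrimeSpectrum S, x'.comap φ.hom = x.comap φ.hom → x' = x) :
    ((Spec.map φ).stalkMap x).hom.Finite := by
  refine (RingHom.finite_respectsIso.arrow_mk_iso_iff (Scheme.arrowStalkMapSpecIso φ x)).mpr ?_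
  algebraize [φ.hom]
  have : (x.asIdeal.under R).IsPrime := Ideal.IsPrime.under R x.asIdeal
  have : x.asIdeal.LiesOver (x.asIdeal.under R) := ⟨rfl⟩
  let := Localization.AtPrime.algebraOfLiesOver (x.asIdeal.under R) x.asIdeal
  have hq : (x.asIdeal.under R).primesOver S = {x.asIdeal} := by
    ext Q
    simp only [Ideal.primesOver, Set.mem_ofPred_eq, Set.mem_singleton_iff]
    constructor
    · rintro ⟨hQ, hQ'⟩
      have := hx ⟨Q, hQ⟩ (PrimeSpectrum.ext hQ'.over.symm)
      exact congrArg PrimeSpectrum.asIdeal this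
    · rintro rfl
      exact ⟨x.isPrime, ⟨rfl⟩⟩
  have := Localization.finite_of_primesOver_eq_singleton hq
  exact RingHom.finite_algebraMap.mpr this

open AlgebraicGeometry CategoryTheory Limits in
lemma aux_spec {R S : CommRingCat.{u}} (φ : R ⟶ S) (hφ : φ.hom.Finite) (x : Spec S)
    (hx : ∀ x' : Spec S, Spec.map φ x' = Spec.map φ x → x' = x) :
    ((Spec.map φ).stalkMap x).hom.Finite :=
  aux_spec0 φ hφ x hx

open AlgebraicGeometry CategoryTheory Limits in
lemma aux_affine {X : Scheme.{u}} {R : CommRingCat.{u}} (π : X ⟶ Spec R) [IsFinite π] (x : X)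
    (hx : ∀ x' : ↑X, π x' = π x → x' = x) : (π.stalkMap x).hom.Finite := by
  have : IsAffine X := isAffine_of_isAffineHom π
  obtain ⟨φ, hφ⟩ := Spec.map_surjective (X.isoSpec.inv ≫ π)
  have hπ : π = X.isoSpec.hom ≫ Spec.map φ := by rw [hφ, Iso.hom_inv_id_assoc]
  have hfin : IsFinite (Spec.map φ) := by rw [hφ]; infer_instance
  rw [IsFinite.SpecMap_iff] at hfin
  have key := aux_spec φ hfin (X.isoSpec.hom x) (by
    intro x' hx'
    have := hx (X.isoSpec.inv x') (by
      rw [hπ, Scheme.Hom.comp_apply, Scheme.Hom.comp_apply, ← Scheme.Hom.comp_apply X.isoSpec.inv,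
        Iso.inv_hom_id]
      exact hx')
    rw [← this, ← Scheme.Hom.comp_apply, Iso.inv_hom_id]
    rfl)
  subst hπ
  rw [Scheme.Hom.stalkMap_comp]
  change ((Scheme.Hom.stalkMap X.isoSpec.hom x).hom.comp
    (Scheme.Hom.stalkMap (Spec.map φ) (X.isoSpec.hom x)).hom).Finite
  refine RingHom.Finite.comp ?_ key
  apply RingHom.Finite.of_surjective
  exact (ConcreteCategory.bijective_of_isIso (X.isoSpec.hom.stalkMap x)).surjective

open AlgebraicGeometry CategoryTheory Limits in
/-- For a finite morphism π : X → Y and a point x of X that is the only point of its fibre, the induced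
homomorphism of local rings O_{Y,π(x)} → O_{X,x} is finite. (The published lemma has further parts,
not stated here.) -/
theorem result {X Y : Scheme.{u}} (π : X ⟶ Y) [IsFinite π] (x : X) (hx : ∀ x' : ↑X, π x' = π x → x' = x) :
    (π.stalkMap x).hom.Finite := by
  wlog hY : ∃ R, Y = Spec R
  · obtain ⟨i, y, hy⟩ := Y.affineCover.exists_eq (π x)
    obtain ⟨x, rfl, rfl⟩ := Scheme.Pullback.exists_preimage_pullback _ _ hy.symm
    let ι := Y.affineCover.f i
    have key := this (π := pullback.snd π ι) (x := x) ?_ ⟨_, rfl⟩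
    · exact (RingHom.finite_respectsIso.arrow_mk_iso_iff
        (Scheme.stalkMapIsoOfIsPullback (.of_hasPullback π ι) x)).mpr key
    · intro x' hx'
      apply (pullback.fst π ι).isOpenEmbedding.injective
      apply hx
      rw [← Scheme.Hom.comp_apply, ← Scheme.Hom.comp_apply, pullback.condition,
        Scheme.Hom.comp_apply, Scheme.Hom.comp_apply, hx']
  obtain ⟨R, rfl⟩ := hY
  exact aux_affine π x hx

end Groth.Agent.S0443
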