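import Groth.Statements.S0444
import Mathlib
import Groth.Agent.Lib.H56ValFibRing

set_option autoImplicit false
universe u
open FlatMor

namespace Groth.Agent.S0444

open TensorProduct in
/-- Let R be a valuation ring with residue field κ and fraction field K, and S a domain of finite type
over R with R → S injective. If the special fibre κ ⊗_R S is nonzero, then its Krull dimension
equals the Krull dimension of the generic fibre K ⊗_R S. (The published statement also asserts that
the special fibre is equidimensional; that is not stated here.) -/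
theorem result {R S : Type u} [CommRing R] [IsDomain R] [ValuationRing R] [CommRing S] [IsDomain S] [Algebra R S]
    (hinj : Function.Injective (algebraMap R S)) [Algebra.FiniteType R S]
    [Nontrivial (IsLocalRing.ResidueField R ⊗[R] S)] :
    ringKrullDim (IsLocalRing.ResidueField R ⊗[R] S) = ringKrullDim (FractionRing R ⊗[R] S) := by
  have e1 := Groth.Agent.Lib.H56ValTrdeg.residueFieldTensorEquiv R S
  have e2 := Groth.Agent.Lib.H56ValTrdeg.fractionRingTensorEquiv R S
  rw [ringKrullDim_eq_of_ringEquiv e1.toRingEquiv, ringKrullDim_eq_of_ringEquiv e2.toRingEquiv]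
  have hn1 : Nontrivial ((IsLocalRing.maximalIdeal R).Fiber S) := e1.symm.toEquiv.nontrivial
  have hx : (⟨⊥, Ideal.isPrime_bot⟩ : PrimeSpectrum S) ∈
      PrimeSpectrum.comap (algebraMap R S) ⁻¹' {(⟨⊥, Ideal.isPrime_bot⟩ : PrimeSpectrum R)} := by
    apply PrimeSpectrum.ext
    exact Ideal.comap_bot_of_injective _ hinj
  let q := PrimeSpectrum.preimageHomeomorphFiber R S ⟨⊥, Ideal.isPrime_bot⟩ ⟨_, hx⟩
  have hn2 : Nontrivial ((⊥ : Ideal R).Fiber S) := by
    by_contra h
    rw [not_nontrivial_iff_subsingleton] at h
    exact q.isPrime.ne_top (Subsingleton.elim _ _)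
  exact Groth.Agent.Lib.H56ValTrdeg.ringKrullDim_fiber_eq_of_valuationRing
    (⟨IsLocalRing.maximalIdeal R, inferInstance⟩ : PrimeSpectrum R)
    (⟨⊥, Ideal.isPrime_bot⟩ : PrimeSpectrum R)

end Groth.Agent.S0444
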