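import Groth.Statements.S0445
-- import your own Groth.Agent.* helpers here

set_option autoImplicit false
universe u
open FlatMor

namespace Groth.Agent.S0445

open AlgebraicGeometry CategoryTheory Limits in
/-- Two morphisms over S into an S-scheme unramified over S which agree at a point and induce the same
map on residue fields there agree on an open neighbourhood of that point. -/
theorem result {X Y S : Scheme.{u}} (p : Y ⟶ S) [FormallyUnramified p] [LocallyOfFiniteType p] (f g : X ⟶ Y) (hfg : f ≫ p = g ≫ p)
    (x : X) (h1 : f x = g x) (h2 : f.residueFieldMap x = (Y.residueFieldCongr h1).hom ≫ g.residueFieldMap x) :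
    ∃ U : X.Opens, x ∈ U ∧ U.ι ≫ f = U.ι ≫ g := by
  have hk : X.fromSpecResidueField x ≫ f = X.fromSpecResidueField x ≫ g := by
    rw [← Scheme.Hom.SpecMap_residueFieldMap_fromSpecResidueField,
      ← Scheme.Hom.SpecMap_residueFieldMap_fromSpecResidueField, h2, Spec.map_comp, Category.assoc,
      Scheme.residueFieldCongr_fromSpecResidueField]
  let φ : X ⟶ pullback p p := pullback.lift f g hfg
  let U : X.Opens := φ ⁻¹ᵁ (pullback.diagonal p).opensRange
  have hφ : X.fromSpecResidueField x ≫ φ =
      (X.fromSpecResidueField x ≫ f) ≫ pullback.diagonal p := by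
    apply pullback.hom_ext
    · simp only [φ, Category.assoc, pullback.lift_fst, pullback.diagonal_fst, Category.comp_id]
    · simp only [φ, Category.assoc, pullback.lift_snd, pullback.diagonal_snd, Category.comp_id, hk]
  refine ⟨U, ?_, ?_⟩
  · change φ x ∈ Set.range (pullback.diagonal p)
    let pt : Spec (X.residueField x) := default
    have hx : X.fromSpecResidueField x pt = x := Scheme.fromSpecResidueField_apply x pt
    refine ⟨(X.fromSpecResidueField x ≫ f) pt, ?_⟩
    rw [← Scheme.Hom.comp_apply, ← hφ, Scheme.Hom.comp_apply, hx]
  · have hU : Set.range (U.ι ≫ φ) ⊆ Set.range (pullback.diagonal p) := by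
      rintro _ ⟨y, rfl⟩
      exact y.2
    let l : (U : Scheme) ⟶ Y := IsOpenImmersion.lift (pullback.diagonal p) (U.ι ≫ φ) hU
    have hl : l ≫ pullback.diagonal p = U.ι ≫ φ := IsOpenImmersion.lift_fac _ _ hU
    have e1 : U.ι ≫ f = l := by
      have := congrArg (· ≫ pullback.fst p p) hl
      simp only [φ, Category.assoc, pullback.lift_fst, pullback.diagonal_fst, Category.comp_id] at this
      exact this.symm
    have e2 : U.ι ≫ g = l := by
      have := congrArg (· ≫ pullback.snd p p) hl
      simp only [φ, Category.assoc, pullback.lift_snd, pullback.diagonal_snd, Category.comp_id] at this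
      exact this.symm
    rw [e1, e2]

end Groth.Agent.S0445
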