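import Groth.Statements.S0448
import Mathlib.LinearAlgebra.TensorProduct.Prod
import Mathlib.LinearAlgebra.TensorProduct.Vanishing
import Mathlib.RingTheory.LocalRing.Module

set_option autoImplicit false
universe u
open FlatMor

namespace Groth.Agent.S0448

open TensorProduct in
lemma flat_prod {R A B : Type u} [CommRing R] [AddCommGroup A] [Module R A] [AddCommGroup B]
    [Module R B] [Module.Flat R A] [Module.Flat R B] : Module.Flat R (A × B) := by
  rw [Module.Flat.iff_lTensor_preserves_injective_linearMap]
  intro P P' _ _ _ _ f hf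
  have key : (TensorProduct.prodLeft R R A B P').toLinearMap ∘ₗ (LinearMap.lTensor (A × B) f)
     = (LinearMap.prodMap (LinearMap.lTensor A f) (LinearMap.lTensor B f)) ∘ₗ
        (TensorProduct.prodLeft R R A B P).toLinearMap := by
    apply TensorProduct.ext'
    rintro ⟨a, b⟩ p
    simp
  have h1 : Function.Injective ((LinearMap.prodMap (LinearMap.lTensor A f) (LinearMap.lTensor B f)) ∘ₗ
        (TensorProduct.prodLeft R R A B P).toLinearMap) := by
    rw [LinearMap.coe_comp]
    refine Function.Injective.comp ?_ (TensorProduct.prodLeft R R A B P).injective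
    exact Function.Injective.prodMap (Module.Flat.lTensor_preserves_injective_linearMap f hf)
      (Module.Flat.lTensor_preserves_injective_linearMap f hf)
  rw [← key, LinearMap.coe_comp] at h1
  exact Function.Injective.of_comp h1


open TensorProduct in
lemma free_case {R M N : Type u} [CommRing R] [IsLocalRing R] [AddCommGroup M] [Module R M]
    [AddCommGroup N] [Module R N] [Module.Flat R N] {ι : Type u} (b : Module.Basis ι R M)
    (u : M →ₗ[R] N)
    (h : Function.Injective (LinearMap.lTensor (IsLocalRing.ResidueField R) u))
    (Q : Type u) [AddCommGroup Q] [Module R Q] : Function.Injective (LinearMap.rTensor Q u) := by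
  classical
  rw [injective_iff_map_eq_zero]
  intro z hz
  obtain ⟨c, rfl⟩ := TensorProduct.eq_repr_basis_left b z
  let S := c.support
  let m : S → Q := fun i => c i
  let n : S → N := fun i => u (b i)
  have hsum : ∑ i : S, m i ⊗ₜ[R] n i = (0 : Q ⊗[R] N) := by
    have := congrArg (TensorProduct.comm R N Q) hz
    simp only [Finsupp.sum, map_sum, LinearMap.rTensor_tmul, TensorProduct.comm_tmul,
      map_zero] at this
    rw [← Finset.sum_coe_sort] at this
    exact this
  have hinj : Function.Injective
      (LinearMap.rTensor N (Submodule.span R (Set.range m)).subtype) :=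
    Module.Flat.rTensor_preserves_injective_linearMap _ Subtype.val_injective
  obtain ⟨k, a, y, hy, ha⟩ :=
    TensorProduct.vanishesTrivially_of_sum_tmul_eq_zero_of_rTensor_injective R hinj hsum
  let β : (S → R) →ₗ[R] M := (Pi.basisFun R S).constr R (fun i => b i)
  let α : (S → R) →ₗ[R] (Fin k → R) := (Pi.basisFun R S).constr R a
  let Y : (Fin k → R) →ₗ[R] N := (Pi.basisFun R (Fin k)).constr R y
  let ρ : M →ₗ[R] (S → R) := LinearMap.pi (fun i => b.coord i)
  have hβ : ∀ i : S, β (Pi.single i 1) = b i := by
    intro i
    have := (Pi.basisFun R S).constr_basis R (fun i : S => b i) i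
    simpa [β] using this
  have hα0 : ∀ i : S, α (Pi.single i 1) = a i := by
    intro i
    have := (Pi.basisFun R S).constr_basis R a i
    simpa [α] using this
  have hY : ∀ v : Fin k → R, Y v = ∑ j, v j • y j := by
    intro v
    simp [Y, Module.Basis.constr_apply_fintype]
  have hρβ : ρ ∘ₗ β = LinearMap.id := by
    apply (Pi.basisFun R S).ext
    intro i
    ext j
    simp only [Pi.basisFun_apply, LinearMap.comp_apply, hβ, ρ, LinearMap.pi_apply,
      Module.Basis.coord_apply, Module.Basis.repr_self, LinearMap.id_apply]
    rw [Finsupp.single_apply, Pi.single_apply]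
    simp only [Subtype.coe_inj, eq_comm]
  have huβ : u ∘ₗ β = Y ∘ₗ α := by
    apply (Pi.basisFun R S).ext
    intro i
    simp only [Pi.basisFun_apply, LinearMap.comp_apply, hβ, hα0, hY]
    exact hy i
  have hα : Function.Injective (LinearMap.lTensor (IsLocalRing.ResidueField R) α) := by
    have h1 : Function.Injective (LinearMap.lTensor (IsLocalRing.ResidueField R) (u ∘ₗ β)) := by
      rw [LinearMap.lTensor_comp, LinearMap.coe_comp]
      refine h.comp ?_
      apply Function.LeftInverse.injective (g := LinearMap.lTensor _ ρ)
      intro w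
      rw [← LinearMap.comp_apply, ← LinearMap.lTensor_comp, hρβ, LinearMap.lTensor_id]
      rfl
    rw [huβ, LinearMap.lTensor_comp, LinearMap.coe_comp] at h1
    exact Function.Injective.of_comp h1
  obtain ⟨α', hα'⟩ := (IsLocalRing.split_injective_iff_lTensor_residueField_injective α).mpr hα
  let zS : (S → R) ⊗[R] Q := ∑ i : S, (Pi.single i (1 : R)) ⊗ₜ[R] m i
  have h1 : (LinearMap.rTensor Q β) zS = c.sum (fun i q => b i ⊗ₜ[R] q) := by
    simp only [zS, map_sum, LinearMap.rTensor_tmul, hβ, Finsupp.sum]
    rw [← Finset.sum_coe_sort c.support (fun i => b i ⊗ₜ[R] c i)]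
  have h2 : (LinearMap.rTensor Q α) zS = 0 := by
    simp only [zS, map_sum, LinearMap.rTensor_tmul, hα0]
    have e : ∀ i : S, a i = ∑ j, a i j • (Pi.single j (1 : R) : Fin k → R) := by
      intro i
      ext j'
      simp [Finset.sum_apply, Pi.single_apply]
    calc ∑ i : S, (a i) ⊗ₜ[R] m i
        = ∑ i : S, ∑ j, (Pi.single j (1 : R) : Fin k → R) ⊗ₜ[R] (a i j • m i) := by
          refine Finset.sum_congr rfl fun i _ => ?_
          conv_lhs => rw [e i]
          rw [TensorProduct.sum_tmul]
          refine Finset.sum_congr rfl fun j _ => ?_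
          rw [TensorProduct.smul_tmul]
      _ = ∑ j, (Pi.single j (1 : R) : Fin k → R) ⊗ₜ[R] ∑ i : S, (a i j • m i) := by
          rw [Finset.sum_comm]
          refine Finset.sum_congr rfl fun j _ => ?_
          rw [TensorProduct.tmul_sum]
      _ = 0 := by simp only [ha, TensorProduct.tmul_zero, Finset.sum_const_zero]
  have h3 : zS = 0 := by
    have := congrArg (LinearMap.rTensor Q α') h2
    rwa [← LinearMap.comp_apply, ← LinearMap.rTensor_comp, hα', LinearMap.rTensor_id, map_zero]
      at this
  rw [← h1, h3, map_zero]



open TensorProduct in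
/-- Over a local ring, a linear map from a projective module to a flat module which is injective modulo
the maximal ideal is universally injective (injective after tensoring with any module). -/
theorem result {R M N : Type u} [CommRing R] [IsLocalRing R] [AddCommGroup M] [Module R M] [Module.Projective R M]
    [AddCommGroup N] [Module R N] [Module.Flat R N] (u : M →ₗ[R] N)
    (h : Function.Injective (LinearMap.lTensor (IsLocalRing.ResidueField R) u)) :
    ∀ (Q : Type u) [AddCommGroup Q] [Module R Q], Function.Injective (LinearMap.rTensor Q u) := by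
  intro Q _ _
  obtain ⟨s, hs⟩ := Module.projective_def'.mp (inferInstance : Module.Projective R M)
  let π : (M →₀ R) →ₗ[R] M := Finsupp.linearCombination R id
  let u' : (M →₀ R) →ₗ[R] N × (M →₀ R) := (u ∘ₗ π).prod (LinearMap.id - s ∘ₗ π)
  have : Module.Flat R (N × (M →₀ R)) := flat_prod
  have e1 : LinearMap.fst R N _ ∘ₗ u' = u ∘ₗ π := by
    apply LinearMap.ext
    intro x
    simp [u']
  have e2 : LinearMap.snd R N _ ∘ₗ u' = LinearMap.id - s ∘ₗ π := by
    apply LinearMap.ext
    intro x
    simp [u']
  have hu' : Function.Injective (LinearMap.lTensor (IsLocalRing.ResidueField R) u') := by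
    rw [injective_iff_map_eq_zero]
    intro w hw
    have h1 : (LinearMap.lTensor (IsLocalRing.ResidueField R) (LinearMap.fst R N _ ∘ₗ u')) w = 0 := by
      rw [LinearMap.lTensor_comp, LinearMap.comp_apply, hw, map_zero]
    have h2 : (LinearMap.lTensor (IsLocalRing.ResidueField R) (LinearMap.snd R N _ ∘ₗ u')) w = 0 := by
      rw [LinearMap.lTensor_comp, LinearMap.comp_apply, hw, map_zero]
    rw [e1, LinearMap.lTensor_comp, LinearMap.comp_apply] at h1
    have h3 := h (h1.trans (map_zero _).symm)
    rw [e2, LinearMap.lTensor_sub, LinearMap.sub_apply, LinearMap.lTensor_id, LinearMap.id_apply,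
      LinearMap.lTensor_comp, LinearMap.comp_apply, h3, map_zero, sub_zero] at h2
    exact h2
  have key := free_case (Finsupp.basisSingleOne) u' hu' Q
  rw [injective_iff_map_eq_zero]
  intro z hz
  have e3 : u' ∘ₗ s = LinearMap.inl R N _ ∘ₗ u := by
    apply LinearMap.ext
    intro x
    have hx : π (s x) = x := LinearMap.congr_fun hs x
    simp [u', hx]
  have h4 : (LinearMap.rTensor Q u') ((LinearMap.rTensor Q s) z) = 0 := by
    rw [← LinearMap.comp_apply, ← LinearMap.rTensor_comp, e3, LinearMap.rTensor_comp,
      LinearMap.comp_apply, hz, map_zero]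
  have h5 := key (h4.trans (map_zero _).symm)
  have := congrArg (LinearMap.rTensor Q π) h5
  rwa [← LinearMap.comp_apply, ← LinearMap.rTensor_comp, hs, LinearMap.rTensor_id,
    LinearMap.id_apply, map_zero] at this

end Groth.Agent.S0448
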