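import Groth.Statements.S0449
import Groth.Agent.Lib.FlatUnramDense68
import Groth.Agent.Lib.SchDense68
import Groth.Agent.Lib.ModPairProd68
-- import your own Groth.Agent.* helpers here

set_option autoImplicit false
universe u
open FlatMor

namespace Groth.Agent.S0449

open AlgebraicGeometry CategoryTheory Limits

/-- Step A: the diagonal of `f` is an isomorphism. -/
theorem isIso_diagonal {X S : Scheme.{u}} (f : X ⟶ S) [IsSeparated f] [Flat f] (U : S.Opens)
    [QuasiCompact U.ι] [IsSchemeTheoreticallyDominant U.ι] [IsIso (f ∣_ U)] :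
    IsIso (pullback.diagonal f) := by
  let p : pullback f f ⟶ S := pullback.fst f f ≫ f
  have hp : Flat p := inferInstance
  let W : (pullback f f).Opens := p ⁻¹ᵁ U
  have hW : IsSchemeTheoreticallyDominant W.ι := .of_isPullback (isPullback_morphismRestrict p U)
  let V : X.Opens := f ⁻¹ᵁ U
  have hmono : Mono (V.ι ≫ f) := by
    have : V.ι ≫ f = (f ∣_ U) ≫ U.ι := (morphismRestrict_ι f U).symm
    rw [this]
    infer_instance
  have ha : Set.range (W.ι ≫ pullback.fst f f) ⊆ Set.range V.ι := by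
    rintro _ ⟨w, rfl⟩
    rw [Scheme.Opens.range_ι]
    exact w.2
  have hb : Set.range (W.ι ≫ pullback.snd f f) ⊆ Set.range V.ι := by
    rintro _ ⟨w, rfl⟩
    rw [Scheme.Opens.range_ι]
    have h := w.2
    change (W.ι ≫ pullback.snd f f ≫ f) w ∈ U
    rw [← pullback.condition]
    exact h
  have h1 : W.ι ≫ pullback.fst f f = W.ι ≫ pullback.snd f f := by
    rw [← IsOpenImmersion.lift_fac V.ι _ ha, ← IsOpenImmersion.lift_fac V.ι _ hb]
    congr 1
    rw [← cancel_mono (V.ι ≫ f), ← Category.assoc, ← Category.assoc, IsOpenImmersion.lift_fac,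
      IsOpenImmersion.lift_fac, Category.assoc, Category.assoc, pullback.condition]
  have hk : W.ι ≫ 𝟙 _ = (W.ι ≫ pullback.fst f f) ≫ pullback.diagonal f := by
    rw [Category.comp_id]
    apply pullback.hom_ext
    · simp
    · rw [Category.assoc, pullback.diagonal_snd, Category.comp_id, h1]
  have hker : (pullback.diagonal f).ker ≤ (𝟙 (pullback f f) : pullback f f ⟶ pullback f f).ker :=
    Groth.Agent.Lib.ModPairProd68.le_ker_of_dominant _ _ W.ι _ hk
  rw [IsSchemeTheoreticallyDominant.ker_eq_bot (𝟙 (pullback f f)), le_bot_iff] at hker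
  exact Groth.Agent.Lib.SchDense68.isIso_of_isClosedImmersion_of_ker_eq_bot _ hker

/-- Schematic density at the level of sections over an affine open. -/
theorem eq_zero_of_forall_pow_mul {S : Scheme.{u}} (U : S.Opens) [QuasiCompact U.ι]
    [IsSchemeTheoreticallyDominant U.ι] {V : S.Opens} (s : Set Γ(S, V))
    (hs : ∀ x : S, x ∈ U → x ∈ V → ∃ u ∈ s, x ∈ S.basicOpen u)
    (r : Γ(S, V)) (hr : ∀ u ∈ s, ∃ n : ℕ, u ^ n * r = 0) : r = 0 := by
  apply U.ι.app_injective V
  rw [map_zero]
  refine U.toScheme.IsSheaf.section_ext fun x hx ↦ ?_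
  obtain ⟨u, hu, hxu⟩ := hs (U.ι x) x.2 hx
  obtain ⟨n, hn⟩ := hr u hu
  refine ⟨U.ι ⁻¹ᵁ S.basicOpen u, U.ι.preimage_mono (S.basicOpen_le u), hxu, ?_⟩
  rw [map_zero]
  have hnat := U.ι.naturality (homOfLE (S.basicOpen_le u)).op
  have hunit : IsUnit (S.presheaf.map (homOfLE (S.basicOpen_le u)).op u) :=
    S.toRingedSpace.isUnit_res_basicOpen u
  have h0 : S.presheaf.map (homOfLE (S.basicOpen_le u)).op r = 0 := by
    have h1 : (S.presheaf.map (homOfLE (S.basicOpen_le u)).op u) ^ n *
        S.presheaf.map (homOfLE (S.basicOpen_le u)).op r = 0 := by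
      rw [← map_pow, ← map_mul, hn, map_zero]
    exact (hunit.pow n).mul_right_eq_zero.mp h1
  have h2 := congrArg (fun φ => φ.hom r) hnat
  simp only [CommRingCat.hom_comp, RingHom.comp_apply] at h2
  rw [h0, map_zero] at h2
  exact h2.symm

/-- A quasi-compact open meets an affine open in a finite union of basic opens. -/
theorem exists_finset_basicOpen {S : Scheme.{u}} (U : S.Opens) [QuasiCompact U.ι] {V : S.Opens}
    (hV : IsAffineOpen V) :
    ∃ s : Finset Γ(S, V), (∀ u ∈ s, S.basicOpen u ≤ U) ∧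
      ∀ x : S, x ∈ U → x ∈ V → ∃ u ∈ s, x ∈ S.basicOpen u := by
  classical
  have hc : IsCompact ((U ⊓ V : S.Opens) : Set S) := by
    have h1 : IsCompact ((U.ι ⁻¹ᵁ V : U.toScheme.Opens) : Set U.toScheme) :=
      U.ι.isCompact_preimage hV.isCompact
    have h2 := h1.image U.ι.continuous
    have h3 : U.ι '' ((U.ι ⁻¹ᵁ V : U.toScheme.Opens) : Set U.toScheme) =
        ((U ⊓ V : S.Opens) : Set S) := by
      change U.ι '' (U.ι ⁻¹' (V : Set S)) = _
      rw [Set.image_preimage_eq_inter_range, Scheme.Opens.range_ι, Set.inter_comm]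
      rfl
    rwa [h3] at h2
  have hex : ∀ x : S, x ∈ ((U ⊓ V : S.Opens) : Set S) →
      ∃ u : Γ(S, V), S.basicOpen u ≤ U ⊓ V ∧ x ∈ S.basicOpen u := fun x hx =>
    hV.exists_basicOpen_le (V := U ⊓ V) ⟨x, hx⟩ hx.2
  choose! u hu1 hu2 using hex
  obtain ⟨t, ht⟩ := hc.elim_nhds_subcover' (fun x _ => ((S.basicOpen (u x) : S.Opens) : Set S))
    (fun x hx => (S.basicOpen (u x)).isOpen.mem_nhds (hu2 x hx))
  refine ⟨t.image (fun x => u x.1), ?_, ?_⟩
  · intro v hv
    obtain ⟨x, _, rfl⟩ := Finset.mem_image.mp hv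
    exact (hu1 x.1 x.2).trans inf_le_left
  · intro x hxU hxV
    have hx : x ∈ ((U ⊓ V : S.Opens) : Set S) := ⟨hxU, hxV⟩
    obtain ⟨y, hy, hxy⟩ := Set.mem_iUnion₂.mp (ht hx)
    exact ⟨u y.1, Finset.mem_image.mpr ⟨y, hy, rfl⟩, hxy⟩

/-- Over the locus where `f` is an isomorphism, sections are finitely presented. -/
theorem finitePresentation_appLE_of_le {X S : Scheme.{u}} (f : X ⟶ S) (U : S.Opens)
    [IsIso (f ∣_ U)] {V : S.Opens} (hV : IsAffineOpen V) {O : X.Opens} (hO : IsAffineOpen O)
    (e : O ≤ f ⁻¹ᵁ V) (hOU : O ≤ f ⁻¹ᵁ U) : (f.appLE V O e).hom.FinitePresentation := by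
  have hOa : IsAffine O.toScheme := hO
  have hj : IsOpenImmersion (O.ι ≫ f) := by
    have : O.ι ≫ f = X.homOfLE hOU ≫ (f ∣_ U) ≫ U.ι := by
      rw [morphismRestrict_ι, Scheme.homOfLE_ι_assoc]
    rw [this]
    infer_instance
  have h1 : ((O.ι ≫ f).appLE V ⊤ (by
      rw [Scheme.Hom.comp_preimage]
      exact le_top.trans (O.ι_preimage_self.ge.trans (O.ι.preimage_mono e)))).hom.FinitePresentation :=
    (O.ι ≫ f).finitePresentation_appLE hV (isAffineOpen_top _) _
  rw [← Scheme.Hom.appLE_comp_appLE O.ι f V O ⊤ e O.ι_preimage_self.ge] at h1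
  exact (RingHom.finitePresentation_respectsIso.cancel_right_isIso _ _).mp h1

/-- Step B: `f` is locally of finite presentation. -/
theorem locallyOfFinitePresentation {X S : Scheme.{u}} (f : X ⟶ S) [LocallyOfFiniteType f] [Flat f]
    [FormallyUnramified f] (U : S.Opens) [QuasiCompact U.ι] [IsSchemeTheoreticallyDominant U.ι]
    [IsIso (f ∣_ U)] : LocallyOfFinitePresentation f := by
  refine ⟨fun {V} hV {W} hW e => ?_⟩
  obtain ⟨s, hsU, hs⟩ := exists_finset_basicOpen U hV
  have hinj : ∀ r : Γ(S, V), (∀ u ∈ s, ∃ n : ℕ, u ^ n * r = 0) → r = 0 := fun r hr =>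
    eq_zero_of_forall_pow_mul U (s : Set Γ(S, V)) hs r (by simpa using hr)
  have hft := f.finiteType_appLE hV hW e
  have hfl := f.flat_appLE hV hW e
  have hun := f.formallyUnramified_appLE hV hW e
  algebraize [(f.appLE V W e).hom]
  change Algebra.FinitePresentation Γ(S, V) Γ(X, W)
  refine Groth.Agent.Lib.FlatUnramDense68.finitePresentation_of_flat_of_formallyUnramified_of_dense
    s hinj ?_
  intro u hu g
  generalize hb : g * algebraMap Γ(S, V) Γ(X, W) u = b
  have hO : IsAffineOpen (X.basicOpen b) := hW.basicOpen b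
  have hOW : X.basicOpen b ≤ W := X.basicOpen_le b
  have hOU : X.basicOpen b ≤ f ⁻¹ᵁ U := by
    rw [← hb, Scheme.basicOpen_mul]
    refine inf_le_right.trans ?_
    change X.basicOpen (f.appLE V W e u) ≤ _
    rw [Scheme.basicOpen_appLE]
    exact inf_le_right.trans (f.preimage_mono (hsU u hu))
  have h1 := finitePresentation_appLE_of_le f U hV hO (hOW.trans e) hOU
  have hloc : IsLocalization.Away b Γ(X, X.basicOpen b) := hW.isLocalization_basicOpen b
  algebraize [(f.appLE V (X.basicOpen b) (hOW.trans e)).hom]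
  have htower : IsScalarTower Γ(S, V) Γ(X, W) Γ(X, X.basicOpen b) := by
    refine IsScalarTower.of_algebraMap_eq' ?_
    change (f.appLE V (X.basicOpen b) (hOW.trans e)).hom =
      (X.presheaf.map (homOfLE hOW).op).hom.comp (f.appLE V W e).hom
    rw [← CommRingCat.hom_comp, Scheme.Hom.appLE_map]
  let e' : Γ(X, X.basicOpen b) ≃ₐ[Γ(X, W)] Localization.Away b :=
    IsLocalization.algEquiv (Submonoid.powers b) _ _
  exact Algebra.FinitePresentation.equiv (e'.restrictScalars Γ(S, V))

open AlgebraicGeometry CategoryTheory Limits in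
/-- A separated, flat morphism locally of finite type that is an isomorphism over a quasi-compact,
scheme-theoretically dense open of the target is an open immersion. -/
theorem result {X S : Scheme.{u}} (f : X ⟶ S) [IsSeparated f] [LocallyOfFiniteType f] [Flat f] (U : S.Opens)
    [QuasiCompact U.ι] [IsSchemeTheoreticallyDominant U.ι] [IsIso (f ∣_ U)] : IsOpenImmersion f := by
  have h1 : IsIso (pullback.diagonal f) := isIso_diagonal f U
  have hmono : Mono f := (pullback.isIso_diagonal_iff f).mp h1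
  have hun : FormallyUnramified f := inferInstance
  have hfp : LocallyOfFinitePresentation f := locallyOfFinitePresentation f U
  exact IsOpenImmersion.of_flat_of_mono f

end Groth.Agent.S0449
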