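import Groth.Statements.S0450
import Mathlib
import Groth.Agent.Lib.H79FlatGenDimOpen
import Groth.Agent.Lib.H86RelDimZero
import Groth.Agent.Lib.H30FibBC

set_option autoImplicit false
universe u
open FlatMor

namespace Groth.Agent.S0450

open AlgebraicGeometry CategoryTheory Limits Topology
open Groth.Agent.Lib.H56LocDim

theorem main {X S : Scheme.{u}} (f : X ⟶ S) [Flat f] [IsProper f] [LocallyOfFinitePresentation f]
    (U : S.Opens) (hU : Dense (U : Set ↑S)) [IsFinite (f ∣_ U)] : IsFinite f := by
  -- fibres over `U` have local dimension `0`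
  have hU0 : ∀ x : X, f x ∈ U → FlatMor.fibreDimAt f x = 0 := by
    intro x hx
    have hsq : IsPullback (f ⁻¹ᵁ U).ι (f ∣_ U) f U.ι := (isPullback_morphismRestrict f U).flip
    have hx' : x ∈ f ⁻¹ᵁ U := hx
    let x' : ↥((f ⁻¹ᵁ U : X.Opens) : Scheme.{u}) := ⟨x, hx'⟩
    have h1 := Groth.Agent.Lib.H30FibBC.fibreDimAt_eq_of_isPullback f U.ι (f ⁻¹ᵁ U).ι (f ∣_ U) hsq x'
    have h2 : (f ⁻¹ᵁ U).ι x' = x := rfl
    rw [h2] at h1
    rw [← h1]
    exact (Groth.Agent.Lib.H86RelDimZero.fibreDimAt_eq_zero_iff (f ∣_ U) x').2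
      ((f ∣_ U).quasiFiniteAt x')
  -- the set where the fibre dimension is positive is open and misses `U`
  have hopen := Groth.Agent.Lib.H79FlatGenDimOpen.isOpen_setOf_lt_dim_fiber f 0
  have hempty : {s : S | ((0 : ℕ) : WithBot ℕ∞) < topologicalKrullDim (f.fiber s)} = ∅ := by
    by_contra hne
    obtain ⟨s, hs, hsU⟩ := hU.inter_open_nonempty _ hopen (Set.nonempty_iff_ne_empty.2 hne)
    have h1 : topologicalKrullDim (f.fiber s) ≤ ((0 : ℕ) : WithBot ℕ∞) := by
      rw [dim_fiber_le_iff]
      intro x hx
      rw [hU0 x (by rw [hx]; exact hsU)]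
      rfl
    exact absurd hs (not_lt.2 h1)
  have hall : ∀ x : X, FlatMor.fibreDimAt f x = 0 := by
    intro x
    have h1 : ¬ ((0 : ℕ) : WithBot ℕ∞) < topologicalKrullDim (f.fiber (f x)) := by
      intro h
      have : f x ∈ {s : S | ((0 : ℕ) : WithBot ℕ∞) < topologicalKrullDim (f.fiber s)} := h
      rw [hempty] at this
      exact this
    rw [not_lt, dim_fiber_le_iff] at h1
    exact le_antisymm (by exact_mod_cast h1 x rfl) (fibreDimAt_nonneg f x)
  have hlqf : LocallyQuasiFinite f := by
    rw [← Scheme.Hom.quasiFiniteLocus_eq_top_iff]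
    refine top_le_iff.mp fun x _ => ?_
    exact (Groth.Agent.Lib.H86RelDimZero.fibreDimAt_eq_zero_iff f x).1 (hall x)
  exact IsFinite.of_isProper_of_locallyQuasiFinite f


open AlgebraicGeometry CategoryTheory Limits in
/-- A flat proper morphism locally of finite presentation that is finite over a dense open subset of the
target is finite (the source alternatively allows the open to be retrocompact instead of assuming
finite presentation; only this alternative is stated). -/
theorem result {X S : Scheme.{u}} (f : X ⟶ S) [Flat f] [IsProper f] [LocallyOfFinitePresentation f] (U : S.Opens)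
    (hU : Dense (U : Set ↑S)) [IsFinite (f ∣_ U)] : IsFinite f := by
  exact main f U hU

end Groth.Agent.S0450
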