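import Groth.Statements.S0454

set_option autoImplicit false
universe u
open CohTop

namespace Groth.Agent.S0454

open CategoryTheory TopologicalSpace Opposite Limits

/-- Sections of an abelian sheaf over `U` are the maps out of the free abelian sheaf on `U`. -/
noncomputable def freeHomEquiv {X : TopCat.{u}} (F : CohTop.Ab X) (U : Opens X) :
    ((presheafToSheaf (Opens.grothendieckTopology X) AddCommGrpCat.{u}).obj
      (yoneda.obj U ⋙ AddCommGrpCat.free) ⟶ F) ≃ F.obj.obj (op U) :=
  ((sheafificationAdjunction (Opens.grothendieckTopology X) AddCommGrpCat.{u}).homEquiv _ _).trans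
    (((Adjunction.whiskerRight (Opens X)ᵒᵖ AddCommGrpCat.adj).homEquiv (yoneda.obj U) F.obj).trans
      yonedaEquiv)

lemma freeHomEquiv_naturality {X : TopCat.{u}} (F : CohTop.Ab X) {U V : Opens X} (h : V ⟶ U)
    (ψ : (presheafToSheaf (Opens.grothendieckTopology X) AddCommGrpCat.{u}).obj
      (yoneda.obj U ⋙ AddCommGrpCat.free) ⟶ F) :
    freeHomEquiv F V ((presheafToSheaf (Opens.grothendieckTopology X) AddCommGrpCat.{u}).map
      (Functor.whiskerRight (yoneda.map h) AddCommGrpCat.free) ≫ ψ) =
      F.obj.map h.op (freeHomEquiv F U ψ) := by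
  dsimp only [freeHomEquiv, Equiv.trans_apply]
  rw [Adjunction.homEquiv_naturality_left]
  have := (Adjunction.whiskerRight (Opens X)ᵒᵖ AddCommGrpCat.adj).homEquiv_naturality_left
    (yoneda.map h) (((sheafificationAdjunction (Opens.grothendieckTopology X)
      AddCommGrpCat.{u}).homEquiv _ _) ψ)
  dsimp only [Functor.whiskeringRight_obj_map] at this
  erw [this]
  erw [← yonedaEquiv_naturality]
  rfl

/-- An injective object of the category of abelian sheaves on a topological space is flasque, i.e. all
of its restriction maps are surjective. -/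
theorem result {X : TopCat.{u}} (F : CohTop.Ab X) [CategoryTheory.Injective F] :
    TopCat.Sheaf.IsFlasque F := by
  constructor
  intro U V i
  rw [AddCommGrpCat.epi_iff_surjective]
  intro s
  obtain ⟨U⟩ := U
  obtain ⟨V⟩ := V
  obtain ⟨h, rfl⟩ : ∃ h : V ⟶ U, i = h.op := ⟨i.unop, rfl⟩
  let m := (presheafToSheaf (Opens.grothendieckTopology X) AddCommGrpCat.{u}).map
      (Functor.whiskerRight (yoneda.map h) AddCommGrpCat.free)
  have hm : Mono m := by infer_instance
  let φ := (freeHomEquiv F V).symm s
  let ψ := Injective.factorThru φ m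
  refine ⟨freeHomEquiv F U ψ, ?_⟩
  rw [← freeHomEquiv_naturality]
  have : m ≫ ψ = φ := Injective.comp_factorThru φ m
  erw [this]
  exact (freeHomEquiv F V).apply_symm_apply s

end Groth.Agent.S0454
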