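import Groth.Statements.S0456
import Groth.Agent.Lib.AcyclicClass
import Groth.Agent.Lib.FlasqueAcyclic
import Groth.Agent.Lib.TowerLimSections

set_option autoImplicit false
universe u
open CategoryTheory
open CohTop

namespace Groth.Agent.S0456

open CategoryTheory.Limits TopologicalSpace Opposite in
/-- the class of flasque sheaves satisfies the hypotheses of the acyclicity criterion -/
lemma epi_push_of_flasque {X Y : TopCat.{u}} (f : X ⟶ Y) (S : ShortComplex (CohTop.Ab X))
    (hS : S.ShortExact) (h1 : TopCat.Sheaf.IsFlasque S.X₁) : Epi ((CohTop.push f).map S.g) := by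
  apply Groth.Agent.Lib.TowerLimSections.epi_of_sectionwise_surjective
  intro V
  have := TopCat.Sheaf.IsFlasque.epi_of_shortExact (U := (Opens.map f).obj V) hS
  exact (AddCommGrpCat.epi_iff_surjective _).1 this

open CategoryTheory.Limits in
/-- For a continuous map f and a flasque abelian sheaf F on the source, R^(q+1) f_* F = 0. -/
theorem result {X Y : TopCat.{u}} (f : X ⟶ Y) (F : CohTop.Ab X)
    [TopCat.Sheaf.IsFlasque F] (q : ℕ) : IsZero ((CohTop.Rpush f (q + 1)).obj F) := by
  have : PreservesFiniteLimits (CohTop.push f) := by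
    have : (CohTop.push f).IsRightAdjoint :=
      (TopCat.Sheaf.pullbackPushforwardAdjunction AddCommGrpCat.{u} f).isRightAdjoint
    infer_instance
  exact Groth.Agent.Lib.AcyclicClass.isZero_rightDerived_succ (CohTop.push f)
    (fun F : CohTop.Ab X => TopCat.Sheaf.IsFlasque F)
    (fun F G e hF => by
      constructor
      intro U V i
      have := hF.epi i
      have h1 : G.obj.map i = (e.inv.hom.app U) ≫ F.obj.map i ≫ (e.hom.hom.app V) := by
        rw [← Category.assoc, ← e.inv.hom.naturality i, Category.assoc]
        have : e.inv.hom.app V ≫ e.hom.hom.app V = 𝟙 _ := by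
          have h := congrArg (fun ψ => ψ.hom.app V) e.inv_hom_id
          exact h
        rw [this, Category.comp_id]
      rw [h1]
      have : IsIso (e.inv.hom.app U) :=
        ⟨e.hom.hom.app U, congrArg (fun ψ => ψ.hom.app U) e.inv_hom_id,
          congrArg (fun ψ => ψ.hom.app U) e.hom_inv_id⟩
      have : IsIso (e.hom.hom.app V) :=
        ⟨e.inv.hom.app V, congrArg (fun ψ => ψ.hom.app V) e.hom_inv_id,
          congrArg (fun ψ => ψ.hom.app V) e.inv_hom_id⟩
      infer_instance)
    (fun I _ => Groth.Agent.Lib.FlasqueAcyclic.isFlasque_of_injective I)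
    (fun S hS h1 h2 => by
      have : TopCat.Sheaf.IsFlasque S.X₁ := h1
      have : TopCat.Sheaf.IsFlasque S.X₂ := h2
      exact TopCat.Sheaf.IsFlasque.of_shortExact_of_isFlasque₁₂ hS)
    (fun S hS h1 => epi_push_of_flasque f S hS h1)
    F inferInstance q

end Groth.Agent.S0456
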