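import Groth.Statements.S0487
import Groth.Agent.Lib.CohPre4
import Groth.Agent.Lib.DerivedBaseChange

set_option autoImplicit false
universe u
open CategoryTheory
open CohSite

namespace Groth.Agent.S0487

section Helpers

open Limits

variable {C D : Type u} [SmallCategory C] [SmallCategory D]
    (J : GrothendieckTopology C) (K : GrothendieckTopology D) (u : D ⥤ C) [u.IsContinuous K J]

/-- restriction along `u` followed by sheafification -/
noncomputable abbrev E : (Cᵒᵖ ⥤ AddCommGrpCat.{u}) ⥤ Sheaf K AddCommGrpCat.{u} :=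
  (Functor.whiskeringLeft Dᵒᵖ Cᵒᵖ AddCommGrpCat.{u}).obj u.op ⋙ presheafToSheaf K AddCommGrpCat.{u}

instance : (E K u).Additive := Functor.additive_of_preserves_binary_products _

/-- `a (u^p (forget F)) ≅ u_* F` -/
noncomputable def eIso : sheafToPresheaf J AddCommGrpCat.{u} ⋙ E K u ≅
    𝟭 _ ⋙ CohSite.push J K u :=
  (Functor.isoWhiskerLeft (CohSite.push J K u) (sheafificationNatIso K AddCommGrpCat.{u})).symm ≪≫
    (Functor.rightUnitor _) ≪≫ (Functor.leftUnitor _).symm


end Helpers


/-- Let u : D ⥤ C be a continuous functor between small sites (e.g. underlying a morphism of sites f),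
with direct image f_* F = F ∘ u; only continuity is used. Then R^i f_* F is isomorphic to the
sheafification of the presheaf V ↦ H^i(u(V), F) (existence of an isomorphism of sheaves). -/
theorem result {C D : Type u} [SmallCategory C] [SmallCategory D]
    (J : GrothendieckTopology C) (K : GrothendieckTopology D) (u : D ⥤ C) [u.IsContinuous K J]
    (F : Sheaf J AddCommGrpCat.{u}) (i : ℕ) :
    Nonempty ((CohSite.Rpush J K u i).obj F ≅
      (presheafToSheaf K AddCommGrpCat.{u}).obj (u.op ⋙ F.cohomologyPresheaf i)) := by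
  obtain ⟨c⟩ := Groth.Agent.Lib.CohPresheafDerived.nonempty_rightDerived_sheafToPresheaf_iso J F i
  have b := Groth.Agent.Lib.DerivedBaseChange.rightDerivedBaseChangeIso
    (sheafToPresheaf J AddCommGrpCat.{u}) (CohSite.push J K u) (𝟭 _) (Groth.Agent.S0487.E K u)
    (Adjunction.id) (Groth.Agent.S0487.eIso J K u) F i
  exact ⟨b.symm ≪≫ (Groth.Agent.S0487.E K u).mapIso c⟩

end Groth.Agent.S0487
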