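import Groth.Statements.S0493
import Groth.Agent.Lib.CechTop
import Groth.Agent.S0861

set_option autoImplicit false
universe u
open CohTop

namespace Groth.Agent.S0493

open TopologicalSpace CategoryTheory.Limits in
/-- Let B be a basis of opens of X and Cov a class of families of opens such that (1) every family in
Cov has its union, its members and all finite intersections of members in B, (2) for U in B every
open covering of U is refined by a family in Cov with union U, and (3) the Cech cohomology of F in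
positive degrees vanishes for every family in Cov. Then H^(p+1)(U, F) = 0 for every U in B. -/
theorem result {X : TopCat.{u}} (F : CohTop.Ab X)
    (B : Set (Opens X)) (hB : Opens.IsBasis B) (Cov : ∀ (ι : Type u), (ι → Opens X) → Prop)
    (h1 : ∀ (ι : Type u) (V : ι → Opens X), Cov ι V →
      iSup V ∈ B ∧ ∀ (p : ℕ) (a : Fin (p + 1) → ι), (iInf fun k => V (a k)) ∈ B)
    (h2 : ∀ U ∈ B, ∀ (κ : Type u) (W : κ → Opens X), iSup W = U →
      ∃ (ι : Type u) (V : ι → Opens X), Cov ι V ∧ iSup V = U ∧ ∀ i, ∃ k, V i ≤ W k)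
    (h3 : ∀ (ι : Type u) (V : ι → Opens X), Cov ι V → ∀ p : ℕ, IsZero (CohTop.cechH F.obj V (p + 1)))
    (U : Opens X) (hU : U ∈ B) (p : ℕ) : Subsingleton (CohTop.HU F (p + 1) U) := by
  classical
  let Cov' : ∀ (U : Opens X) (ι : Type u), (ι → CategoryTheory.Over U) → Prop :=
    fun U ι Y => Cov ι (fun i => (Y i).left) ∧ iSup (fun i => (Y i).left) = U
  refine Groth.Agent.S0861.result (C := Opens X) (Opens.grothendieckTopology X) B Cov' ?_ ?_ F ?_
    U hU p
  · rintro U ι Y ⟨hY, hsup⟩
    refine ⟨hsup ▸ (h1 ι _ hY).1, ?_, ?_⟩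
    · intro x hx
      rw [← hsup] at hx
      obtain ⟨i, hi⟩ := Opens.mem_iSup.1 hx
      exact ⟨(Y i).left, (Y i).hom, CategoryTheory.Sieve.ofArrows_mk _ _ i, hi⟩
    · intro p a
      rw [Groth.Agent.Lib.CechTop.prod_left_eq_iInf]
      exact (h1 ι _ hY).2 p a
  · intro U hU T hT
    let κ : Type u := {W : Opens X // ∃ h : W ≤ U, T.arrows (CategoryTheory.homOfLE h)}
    have hκ : iSup (fun k : κ => k.1) = U := by
      apply le_antisymm
      · exact iSup_le fun k => k.2.1
      · intro x hx
        obtain ⟨V, f, hf, hxV⟩ := hT x hx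
        exact Opens.mem_iSup.2 ⟨⟨V, f.le, by
          have : f = CategoryTheory.homOfLE f.le := Subsingleton.elim _ _
          rwa [← this]⟩, hxV⟩
    obtain ⟨ι, V, hV, hVU, hVW⟩ := h2 U hU κ (fun k => k.1) hκ
    have hle : ∀ i, V i ≤ U := fun i => hVU ▸ le_iSup V i
    refine ⟨ι, fun i => CategoryTheory.Over.mk (CategoryTheory.homOfLE (hle i)), ⟨hV, hVU⟩, ?_⟩
    intro i
    obtain ⟨k, hk⟩ := hVW i
    have := T.downward_closed k.2.2 (CategoryTheory.homOfLE hk)
    have e : CategoryTheory.homOfLE (hle i) =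
        CategoryTheory.CategoryStruct.comp (CategoryTheory.homOfLE hk)
          (CategoryTheory.homOfLE k.2.1) := Subsingleton.elim _ _
    change T.arrows (CategoryTheory.homOfLE (hle i))
    rw [e]
    exact this
  · rintro U ι Y ⟨hY, hsup⟩ q
    exact (Groth.Agent.Lib.CechTop.isZero_cechH_iff F.obj U Y (q + 1)).1 (h3 ι _ hY q)

end Groth.Agent.S0493
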