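import Groth.Statements.S0466
import Groth.Agent.Lib.CechLow
import Groth.Agent.Lib.SiteGlue
import Mathlib.Topology.Sheaves.SheafCondition.UniqueGluing

set_option autoImplicit false
universe u
open CategoryTheory
open CohTop

namespace Groth.Agent.S0466

open TopologicalSpace Opposite CategoryTheory.Limits Groth.Agent.Lib

section

variable {X : TopCat.{u}}

/-- core gluing step on a space -/
theorem exists_lift_of_family (S : CategoryTheory.ShortComplex (CohTop.Ab X)) (hS : S.ShortExact)
    (U : Opens X) {κ : Type u} (W : κ → Opens X) (hW : iSup W = U)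
    (hH : IsZero (CohTop.cechH S.X₁.obj W 1))
    (s : S.X₃.obj.obj (op U)) (t : ∀ k, S.X₂.obj.obj (op (W k)))
    (ht : ∀ k, S.g.hom.app (op (W k)) (t k) =
      S.X₃.obj.map (homOfLE (hW ▸ le_iSup W k)).op s) :
    ∃ t' : S.X₂.obj.obj (op U), S.g.hom.app (op U) t' = s := by
  have hm := hS.mono_f
  have hf : ∀ V, Function.Injective (S.f.hom.app V) := fun V =>
    SiteCoh.injective_app_of_mono S.f V.unop
  have hzero : ∀ (V : Opens X) (x : S.X₁.obj.obj (op V)),
      S.g.hom.app (op V) (S.f.hom.app (op V) x) = 0 := by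
    intro V x
    have h1 : S.f.hom.app (op V) ≫ S.g.hom.app (op V) = 0 := by
      rw [← NatTrans.comp_app, ← ObjectProperty.FullSubcategory.comp_hom, S.zero]
      rfl
    rw [← ConcreteCategory.comp_apply, h1]
    rfl
  have key : ∀ a : Fin 2 → κ, ∃ e : S.X₁.obj.obj (op (∏ᶜ fun k => W (a k))),
      S.f.hom.app _ e = S.X₂.obj.map (Pi.π (fun k => W (a k)) 1).op (t (a 1)) -
        S.X₂.obj.map (Pi.π (fun k => W (a k)) 0).op (t (a 0)) := by
    intro a
    apply SiteGlue.exists_of_app_g_eq_zero hS
    rw [map_sub, sub_eq_zero]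
    have h1 : ∀ k : Fin 2,
        S.g.hom.app _ (S.X₂.obj.map (Pi.π (fun k => W (a k)) k).op (t (a k))) =
        S.X₃.obj.map (homOfLE (hW ▸ (leOfHom (Pi.π (fun k => W (a k)) 0)).trans
          (le_iSup W (a 0)))).op s := by
      intro k
      rw [NatTrans.naturality_apply, ht, ← ConcreteCategory.comp_apply, ← S.X₃.obj.map_comp]
      rfl
    exact (h1 1).trans (h1 0).symm
  obtain ⟨b, hb⟩ := CechLow.exists_correction_of_H1_zero W S.f.hom hf hH t key
  -- glue
  obtain ⟨t', ht', -⟩ := TopCat.Sheaf.existsUnique_gluing' (C := AddCommGrpCat.{u})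
    (X := X) S.X₂ W U (fun k => homOfLE (hW ▸ le_iSup W k)) (le_of_eq hW.symm)
    (fun k => t k - S.f.hom.app (op (W k)) (b k)) (by
      intro i j
      let a : Fin 2 → κ := Fin.cons i (fun _ => j)
      let φ : ∀ k : Fin 2, (W i ⊓ W j) ⟶ W (a k) :=
        Fin.cons (α := fun k => (W i ⊓ W j) ⟶ W (a k)) (homOfLE inf_le_left)
          (fun _ => homOfLE inf_le_right)
      have h2 := congrArg (S.X₂.obj.map (Pi.lift φ).op) (hb a)
      rw [← ConcreteCategory.comp_apply, ← ConcreteCategory.comp_apply, ← S.X₂.obj.map_comp,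
        ← S.X₂.obj.map_comp, ← op_comp, ← op_comp] at h2
      exact h2.symm)
  refine ⟨t', ?_⟩
  apply TopCat.Sheaf.eq_of_locally_eq' (C := AddCommGrpCat.{u}) (X := X) S.X₃ W U
    (fun k => homOfLE (hW ▸ le_iSup W k)) (le_of_eq hW.symm)
  intro k
  rw [← NatTrans.naturality_apply, ht', map_sub, hzero, sub_zero, ht]

end

open TopologicalSpace Opposite in
/-- Consider a short exact sequence of abelian sheaves with kernel F, middle term G and quotient H, and
an open U. If every open covering of U admits a refinement on which the first Cech cohomology of F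
vanishes, then sections of G over U map onto sections of H over U. -/
theorem result {X : TopCat.{u}}
    (S : CategoryTheory.ShortComplex (CohTop.Ab X)) (hS : S.ShortExact) (U : Opens X)
    (h : ∀ (ι : Type u) (V : ι → Opens X), iSup V = U →
      ∃ (κ : Type u) (W : κ → Opens X) (r : κ → ι), iSup W = U ∧ (∀ k, W k ≤ V (r k)) ∧
        CategoryTheory.Limits.IsZero (CohTop.cechH S.X₁.obj W 1)) :
    Function.Surjective (S.g.hom.app (op U)) := by
  intro s
  have hepi := hS.epi_g
  have hls : Sheaf.IsLocallySurjective S.g := (Sheaf.isLocallySurjective_iff_epi' (φ := S.g)).2 hepi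
  have hT := Presheaf.imageSieve_mem (Opens.grothendieckTopology X) S.g.hom s
  choose V i hi hxV using fun x : U => hT x.1 x.2
  choose tV htV using hi
  have hsup : iSup V = U := le_antisymm (iSup_le fun x => leOfHom (i x))
    (fun x hx => Opens.mem_iSup.2 ⟨⟨x, hx⟩, hxV ⟨x, hx⟩⟩)
  obtain ⟨κ, W, r, hW, hWV, hH⟩ := h U V hsup
  refine exists_lift_of_family S hS U W hW hH s
    (fun k => S.X₂.obj.map (homOfLE (hWV k)).op (tV (r k))) ?_
  intro k
  rw [NatTrans.naturality_apply, htV, ← ConcreteCategory.comp_apply, ← S.X₃.obj.map_comp]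
  rfl

end Groth.Agent.S0466
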