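import Groth.Statements.S0478
import Groth.Agent.Lib.KInjMain31
import Groth.Agent.Lib.DProd31

set_option autoImplicit false
universe v u
open CategoryTheory
open CohDer

namespace Groth.Agent.S0478

open CategoryTheory.Limits in
/-- For a Grothendieck abelian category A the derived category D(A) has all products indexed by small
types. The published statement also computes them as termwise products of K-injective
representatives, which is not asserted here. -/
theorem result {A : Type u} [Category.{v} A] [Abelian A] [IsGrothendieckAbelian.{v} A]
    [HasDerivedCategory.{v} A] : HasProducts.{v} (DerivedCategory A) := by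
  intro J
  refine ⟨fun F => ?_⟩
  have key : ∀ j : J, ∃ (L : CochainComplex A ℤ) (_ : L.IsKInjective),
      Nonempty (F.obj ⟨j⟩ ≅ DerivedCategory.Q.obj L) := by
    intro j
    obtain ⟨I, f, hI, hf, _, _⟩ :=
      Groth.Agent.KInjMain31.exists_kinjective_resolution
        (DerivedCategory.Q.objPreimage (F.obj ⟨j⟩))
    have : IsIso (DerivedCategory.Q.map f) := by
      rw [DerivedCategory.isIso_Q_map_iff_quasiIso]; exact hf
    exact ⟨I, hI, ⟨(DerivedCategory.Q.objObjPreimageIso (F.obj ⟨j⟩)).symm ≪≫
      asIso (DerivedCategory.Q.map f)⟩⟩
  choose I hI e using key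
  have := Groth.Agent.DProd31.hasProduct_Q_obj I
  exact Limits.hasLimit_of_iso
    (F := Discrete.functor fun i => (DerivedCategory.Q.obj (I i) : DerivedCategory A))
    (Discrete.natIso (fun i => (e i.as).some.symm))

end Groth.Agent.S0478
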