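import Groth.Statements.S0480
import Mathlib.Algebra.Homology.Double
import Mathlib.CategoryTheory.Limits.Yoneda
-- import your own Groth.Agent.* helpers here

set_option autoImplicit false
universe v u
open CategoryTheory
open CohDer

namespace Groth.Agent.S0480

open CategoryTheory.Limits Opposite in
/-- Evaluation in one degree preserves all limits of homological complexes, since
its composition with every corepresentable functor is corepresentable. -/
theorem preservesLimit_eval {A : Type u} [Category.{v} A] [Abelian A] {J : Type v}
    [Category.{v} J] (F : J ⥤ CochainComplex A ℤ) (j : ℤ) :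
    PreservesLimit F (HomologicalComplex.eval A (ComplexShape.up ℤ) j) where
  preserves {c} hc := by
    refine ⟨coyonedaJointlyReflectsLimits _ _ (fun X => ?_)⟩
    have : PreservesLimit F
        (HomologicalComplex.eval A (ComplexShape.up ℤ) j ⋙ coyoneda.obj (op X.unop)) :=
      inferInstance
    exact isLimitOfPreserves
      (HomologicalComplex.eval A (ComplexShape.up ℤ) j ⋙ coyoneda.obj (op X.unop)) hc

open CategoryTheory.Limits in
/-- In an abelian category, if the product of a family of K-injective cochain complexes exists (it is
then the termwise product), it is again K-injective. -/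
theorem result {A : Type u} [Category.{v} A] [Abelian A] {T : Type v} (I : T → CochainComplex A ℤ)
    [HasProduct I] (h : ∀ t, (I t).IsKInjective) : (∏ᶜ I).IsKInjective := by
  refine ⟨fun {K} f hK => ?_⟩
  have P : ∀ j, PreservesLimit (Discrete.functor I)
      (HomologicalComplex.eval A (ComplexShape.up ℤ) j) := fun j => preservesLimit_eval _ j
  have hl : ∀ j, IsLimit ((HomologicalComplex.eval A (ComplexShape.up ℤ) j).mapCone
      (limit.cone (Discrete.functor I))) := fun j => isLimitOfPreserves _ (limit.isLimit _)
  have hom_ext : ∀ (j : ℤ) {Z : A} (a b : Z ⟶ (∏ᶜ I).X j),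
      (∀ t, a ≫ (Pi.π I t).f j = b ≫ (Pi.π I t).f j) → a = b :=
    fun j Z a b hab => (hl j).hom_ext (fun ⟨t⟩ => hab t)
  have lift : ∀ (j : ℤ) {Z : A} (g : ∀ t, Z ⟶ (I t).X j),
      ∃ l : Z ⟶ (∏ᶜ I).X j, ∀ t, l ≫ (Pi.π I t).f j = g t := by
    intro j Z g
    let c : Cone (Discrete.functor I ⋙ HomologicalComplex.eval A (ComplexShape.up ℤ) j) :=
      { pt := Z
        π := Discrete.natTrans (fun ⟨t⟩ => g t) }
    exact ⟨(hl j).lift c, fun t => (hl j).fac c ⟨t⟩⟩
  let H : ∀ t, Homotopy (f ≫ Pi.π I t) 0 := fun t =>
    CochainComplex.IsKInjective.homotopyZero _ hK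
  choose l hl' using (fun (i j : ℤ) => lift j (fun t => (H t).hom i j))
  refine ⟨{ hom := l, zero := ?_, comm := ?_ }⟩
  · intro i j hij
    apply hom_ext
    intro t
    rw [hl', (H t).zero i j hij, zero_comp]
  · intro i
    apply hom_ext
    intro t
    have := (H t).comm i
    simp only [HomologicalComplex.comp_f, HomologicalComplex.zero_f, add_zero] at this
    simp only [HomologicalComplex.zero_f, add_zero, Preadditive.add_comp]
    rw [this]
    congr 1
    · simp [dNext, hl']
    · simp only [prevD, AddMonoidHom.mk'_apply, Category.assoc]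
      rw [← (Pi.π I t).comm, ← Category.assoc, hl']

end Groth.Agent.S0480
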