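import Groth.Statements.S0481
-- import your own Groth.Agent.* helpers here

set_option autoImplicit false
universe v u
open CategoryTheory
open CohDer

namespace Groth.Agent.S0481

theorem adj_aux {A : Type u} [Category.{v} A] {B : Type u} [Category.{v} B]
    (u : A ⥤ B) (w : B ⥤ A) (adj : w ⊣ u) {X : B} {Y : A} (a : X ⟶ u.obj Y) :
    a = adj.unit.app X ≫ u.map (w.map a ≫ adj.counit.app Y) := by
  have h1 := adj.unit.naturality a
  have h2 := adj.right_triangle_components Y
  simp only [Functor.id_obj, Functor.comp_obj, Functor.id_map, Functor.comp_map] at h1 h2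
  rw [Functor.map_comp, ← Category.assoc, ← h1, Category.assoc, h2, Category.comp_id]

open CategoryTheory.Limits in
/-- Let u : A ⥤ B be right adjoint to an exact additive functor w : B ⥤ A between abelian categories.
Then u applied termwise sends K-injective complexes to K-injective complexes. -/
theorem result {A : Type u} [Category.{v} A] [Abelian A]
    {B : Type u} [Category.{v} B] [Abelian B] (u : A ⥤ B) (w : B ⥤ A) (adj : w ⊣ u)
    [u.Additive] [w.Additive] [PreservesFiniteLimits w] [PreservesFiniteColimits w]
    (I : CochainComplex A ℤ) (h : I.IsKInjective) :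
    CochainComplex.IsKInjective ((u.mapHomologicalComplex (ComplexShape.up ℤ)).obj I) := by
  refine ⟨fun {K} f hK => ?_⟩
  have hwK : ((w.mapHomologicalComplex (ComplexShape.up ℤ)).obj K).Acyclic := by
    intro i
    have := hK i
    rw [HomologicalComplex.exactAt_iff] at this ⊢
    exact this.map w
  let ε : (w.mapHomologicalComplex (ComplexShape.up ℤ)).obj
      ((u.mapHomologicalComplex (ComplexShape.up ℤ)).obj I) ⟶ I :=
    { f := fun i => adj.counit.app (I.X i)
      comm' := fun i j _ => (adj.counit.naturality (I.d i j)).symm }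
  let η : K ⟶ (u.mapHomologicalComplex (ComplexShape.up ℤ)).obj
      ((w.mapHomologicalComplex (ComplexShape.up ℤ)).obj K) :=
    { f := fun i => adj.unit.app (K.X i)
      comm' := fun i j _ => (adj.unit.naturality (K.d i j)).symm }
  let g : (w.mapHomologicalComplex (ComplexShape.up ℤ)).obj K ⟶ I :=
    (w.mapHomologicalComplex (ComplexShape.up ℤ)).map f ≫ ε
  have hg : Homotopy g 0 := CochainComplex.IsKInjective.homotopyZero g hwK
  have hf : f = η ≫ (u.mapHomologicalComplex (ComplexShape.up ℤ)).map g := by
    ext i
    exact adj_aux u w adj (f.f i)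
  have h1 : Homotopy ((u.mapHomologicalComplex (ComplexShape.up ℤ)).map g) 0 :=
    ((u.mapHomotopy hg).trans (Homotopy.ofEq (by simp)))
  exact ⟨(Homotopy.ofEq hf).trans ((h1.compLeft η).trans (Homotopy.ofEq (by simp)))⟩

end Groth.Agent.S0481
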