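import Groth.Statements.S0483
import Groth.Agent.Lib.SiteCoh
import Groth.Agent.Lib.ExtEfface
-- import your own Groth.Agent.* helpers here

set_option autoImplicit false
universe u
open CategoryTheory
open CohSite

namespace Groth.Agent.S0483

open Opposite Abelian Groth.Agent.Lib.SiteCoh

section
variable {C : Type u} [SmallCategory C] {J : GrothendieckTopology C}

/-- The map of free abelian sheaves induced by a morphism of the site. -/
noncomputable abbrev zmap {U V : C} (a : V ⟶ U) : freeYoneda J V ⟶ freeYoneda J U :=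
  (presheafToSheaf J AddCommGrpCat.{u}).map (Functor.whiskerRight (yoneda.map a) AddCommGrpCat.free.{u})

theorem freeYonedaHomEquiv_zmap_comp {U V : C} (a : V ⟶ U) (G : Sheaf J AddCommGrpCat.{u})
    (f : freeYoneda J U ⟶ G) :
    freeYonedaHomEquiv V G (zmap a ≫ f) = G.obj.map a.op (freeYonedaHomEquiv U G f) := by
  simp only [freeYonedaHomEquiv, Equiv.trans_apply, zmap, Adjunction.homEquiv_naturality_left]
  erw [Adjunction.homEquiv_naturality_left]
  rw [← yonedaEquiv_naturality]
  rfl

end

/-- For an abelian sheaf F on a small site, an object U and a class ξ in H^(n+1)(U, F), there is a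
covering sieve of U such that ξ pulls back to zero along every arrow of the sieve. -/
theorem result {C : Type u} [SmallCategory C] (J : GrothendieckTopology C)
    (F : Sheaf J AddCommGrpCat.{u}) (U : C) (n : ℕ) (ξ : CohSite.HU F (n + 1) U) :
    ∃ (S : J.Cover U), ∀ (a : S.Arrow), CohSite.res F (n + 1) a.f ξ = 0 := by
  change Ext (freeYoneda J U) F (n + 1) at ξ
  obtain ⟨X', π, hπ, hz⟩ := Groth.Agent.Lib.ExtEfface.exists_epi_mk₀_comp_eq_zero ξ
  have hls : Sheaf.IsLocallySurjective π := (Sheaf.isLocallySurjective_iff_epi' AddCommGrpCat.{u} π).2 hπ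
  let s₁ := freeYonedaHomEquiv U (freeYoneda J U) (𝟙 _)
  have hmem := Presheaf.imageSieve_mem J π.hom (U := op U) s₁
  refine ⟨⟨Presheaf.imageSieve π.hom s₁, hmem⟩, fun a => ?_⟩
  obtain ⟨t, ht⟩ := a.hf
  let σ : freeYoneda J a.Y ⟶ X' := (freeYonedaHomEquiv a.Y X').symm t
  have hσ : σ ≫ π = zmap a.f := by
    apply (freeYonedaHomEquiv a.Y _).injective
    rw [freeYonedaHomEquiv_comp, Equiv.apply_symm_apply]
    have := freeYonedaHomEquiv_zmap_comp a.f (freeYoneda J U) (𝟙 _)
    rw [Category.comp_id] at this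
    rw [this]
    exact ht
  change (Ext.mk₀ (zmap a.f)).comp ξ (zero_add _) = 0
  rw [← hσ, ← Ext.mk₀_comp_mk₀, Ext.comp_assoc_of_second_deg_zero, hz, Ext.comp_zero]

end Groth.Agent.S0483
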