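import Groth.Statements.S0489
-- import your own Groth.Agent.* helpers here

set_option autoImplicit false
universe v u
open CategoryTheory
open CohDer

namespace Groth.Agent.S0489

open CategoryTheory.Limits Opposite CochainComplex HomComplex

section

variable {A : Type u} [Category.{v} A] [Abelian A]

/-- One step of the inductive construction of compatible homotopies. -/
lemma step {K I₁ I₂ : CochainComplex A ℤ} (hK : K.Acyclic) [I₁.IsKInjective] [I₂.IsKInjective]
    (p : I₂ ⟶ I₁) (hp : ∀ m : ℤ, IsSplitEpi (p.f m)) (f₂ : K ⟶ I₂)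
    (h₁ : Cochain K I₁ (-1)) (hh₁ : δ (-1) 0 h₁ = Cochain.ofHom (f₂ ≫ p)) :
    ∃ h₂ : Cochain K I₂ (-1), δ (-1) 0 h₂ = Cochain.ofHom f₂ ∧
      h₂.comp (Cochain.ofHom p) (add_zero (-1)) = h₁ := by
  obtain ⟨h', hh'⟩ := IsKInjective.eq_δ_of_cocycle (Cocycle.ofHom f₂) hK (-1) (by norm_num)
  have hh'' : δ (-1) 0 h' = Cochain.ofHom f₂ := hh'
  let c : Cochain K I₁ (-1) := h'.comp (Cochain.ofHom p) (add_zero (-1)) - h₁
  have hc : δ (-1) 0 c = 0 := by
    rw [δ_sub, δ_comp_ofHom, hh'', hh₁, ← Cochain.ofHom_comp, sub_self]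
  obtain ⟨u, hu⟩ := IsKInjective.eq_δ_of_cocycle (Cocycle.mk c 0 (by norm_num) hc) hK (-2)
    (by norm_num)
  have hu' : δ (-2) (-1) u = c := hu
  let ũ : Cochain K I₂ (-2) := Cochain.mk (fun a b hab =>
    have := hp b
    u.v a b hab ≫ section_ (p.f b))
  have hũ : ũ.comp (Cochain.ofHom p) (add_zero (-2)) = u := by
    ext a b hab
    have := hp b
    simp [ũ]
  refine ⟨h' - δ (-2) (-1) ũ, ?_, ?_⟩
  · rw [δ_sub, δ_δ, sub_zero, hh'']
  · rw [Cochain.sub_comp, ← δ_comp_ofHom, hũ, hu']
    simp [c]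

end

open CategoryTheory.Limits Opposite in
/-- Let … → I_3 → I_2 → I_1 be an inverse system of K-injective cochain complexes in an abelian category
with sequential limits, such that each transition map is a split epimorphism in each degree. Then
the (termwise) limit complex is K-injective. -/
theorem result {A : Type u} [Category.{v} A] [Abelian A] [HasLimitsOfShape ℕᵒᵖ A]
    (I : ℕᵒᵖ ⥤ CochainComplex A ℤ) (h1 : ∀ n : ℕ, (I.obj (op n)).IsKInjective)
    (h2 : ∀ (n : ℕ) (m : ℤ), IsSplitEpi ((I.map (homOfLE (Nat.le_succ n)).op).f m)) :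
    (limit I).IsKInjective := by
  refine ⟨fun {K} f hK => ?_⟩
  let p : ∀ n : ℕ, I.obj (op (n + 1)) ⟶ I.obj (op n) :=
    fun n => I.map (homOfLE (Nat.le_succ n)).op
  have hfp : ∀ n, (f ≫ limit.π I (op (n + 1))) ≫ p n = f ≫ limit.π I (op n) := by
    intro n
    rw [Category.assoc, limit.w]
  have h0 : ∃ h : Cochain K (I.obj (op 0)) (-1),
      δ (-1) 0 h = Cochain.ofHom (f ≫ limit.π I (op 0)) := by
    have := h1 0
    exact IsKInjective.eq_δ_of_cocycle (Cocycle.ofHom _) hK (-1) (by norm_num)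
  let H : ℕ → Type _ := fun n =>
    {h : Cochain K (I.obj (op n)) (-1) // δ (-1) 0 h = Cochain.ofHom (f ≫ limit.π I (op n))}
  have hstep : ∀ n (h : H n), ∃ h' : H (n + 1),
      h'.1.comp (Cochain.ofHom (p n)) (add_zero (-1)) = h.1 := by
    intro n h
    have := h1 n
    have := h1 (n + 1)
    obtain ⟨h₂, hh₂, hc⟩ := step hK (p n) (h2 n) (f ≫ limit.π I (op (n + 1))) h.1
      (by rw [h.2, hfp])
    exact ⟨⟨h₂, hh₂⟩, hc⟩
  let seq : ∀ n, H n := fun n =>
    Nat.rec (motive := H) ⟨h0.choose, h0.choose_spec⟩ (fun n h => (hstep n h).choose) n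
  obtain ⟨hs, hδ, hseq⟩ : ∃ hs : ∀ n, Cochain K (I.obj (op n)) (-1),
      (∀ n, δ (-1) 0 (hs n) = Cochain.ofHom (f ≫ limit.π I (op n))) ∧
      ∀ n, (hs (n + 1)).comp (Cochain.ofHom (p n)) (add_zero (-1)) = hs n :=
    ⟨fun n => (seq n).1, fun n => (seq n).2, fun n => (hstep n (seq n)).choose_spec⟩
  clear seq hstep H h0
  have hcompat : ∀ (m n : ℕ) (hmn : m ≤ n),
      (hs n).comp (Cochain.ofHom (I.map (homOfLE hmn).op)) (add_zero (-1)) = hs m := by
    intro m n hmn
    induction n, hmn using Nat.le_induction with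
    | base =>
      have : (homOfLE (le_refl m)).op = 𝟙 (op m) := rfl
      rw [this, I.map_id, Cochain.comp_id]
    | succ n hmn ih =>
      have : (homOfLE (Nat.le_succ_of_le hmn)).op =
          (homOfLE (Nat.le_succ n)).op ≫ (homOfLE hmn).op := rfl
      rw [this, I.map_comp, Cochain.ofHom_comp, ← Cochain.comp_assoc_of_third_is_zero_cochain]
      exact (congrArg (fun z => z.comp (Cochain.ofHom (I.map (homOfLE hmn).op)) (add_zero (-1))) (hseq n)).trans ih
  have hlim : ∀ b : ℤ, IsLimit ((HomologicalComplex.eval A (ComplexShape.up ℤ) b).mapCone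
      (limit.cone I)) := fun b => isLimitOfPreserves _ (limit.isLimit I)
  let cone : ∀ (a b : ℤ) (_ : a + (-1) = b),
      Cone (I ⋙ HomologicalComplex.eval A (ComplexShape.up ℤ) b) := fun a b hab =>
    { pt := K.X a
      π :=
        { app := fun n => (hs n.unop).v a b hab
          naturality := by
            intro n m g
            have hmn : m.unop ≤ n.unop := leOfHom g.unop
            have hg : g = (homOfLE hmn).op := rfl
            have := Cochain.congr_v (hcompat m.unop n.unop hmn) a b hab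
            rw [Cochain.comp_zero_cochain_v, Cochain.ofHom_v] at this
            simp only [Functor.const_obj_obj, Functor.const_obj_map, Category.id_comp,
              Functor.comp_map, HomologicalComplex.eval_map]
            rw [hg]
            exact this.symm } }
  let h : Cochain K (limit I) (-1) := Cochain.mk (fun a b hab => (hlim b).lift (cone a b hab))
  have hh : ∀ n : ℕ, h.comp (Cochain.ofHom (limit.π I (op n))) (add_zero (-1)) = hs n := by
    intro n
    ext a b hab
    rw [Cochain.comp_zero_cochain_v, Cochain.ofHom_v, Cochain.mk_v]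
    exact (hlim b).fac (cone a b hab) (op n)
  refine ⟨(Cochain.equivHomotopy f 0).symm ⟨h, ?_⟩⟩
  rw [Cochain.ofHom_zero, add_zero]
  ext a
  refine (hlim a).hom_ext (fun n => ?_)
  have e1 := Cochain.congr_v (hδ n.unop) a a (add_zero a)
  rw [← hh n.unop, δ_comp_ofHom] at e1
  rw [Cochain.comp_zero_cochain_v, Cochain.ofHom_v, Cochain.ofHom_v, HomologicalComplex.comp_f]
    at e1
  show (Cochain.ofHom f).v a a (add_zero a) ≫ (limit.π I n).f a =
    (δ (-1) 0 h).v a a (add_zero a) ≫ (limit.π I n).f a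
  rw [Cochain.ofHom_v]
  exact e1.symm


end Groth.Agent.S0489
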