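import Groth.Statements.S0490
import Mathlib.CategoryTheory.Triangulated.Orthogonal
import Mathlib.CategoryTheory.Adjunction.PartialAdjoint
-- import your own Groth.Agent.* helpers here

set_option autoImplicit false
universe v u
open CategoryTheory
open CohDer

namespace Groth.Agent.S0490

section
open CategoryTheory.Pretriangulated
variable {D : Type u} [Category.{v} D] [Preadditive D] [Limits.HasZeroObject D] [HasShift D ℤ]
    [∀ n : ℤ, (shiftFunctor D n).Additive] [Pretriangulated D]
    (P : ObjectProperty D) [P.IsTriangulated]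

/-- Given a triangle `A → X → B → A[1]` with `B` right orthogonal to `P`, composition with
`A → X` is bijective on maps from objects of `P`. -/
theorem comp_bijective_of_triangle {X A B : D} (f : A ⟶ X) (g : X ⟶ B)
    (h : B ⟶ (shiftFunctor D (1 : ℤ)).obj A)
    (hT : Triangle.mk f g h ∈ distinguishedTriangles) (hB : P.rightOrthogonal B)
    (Y : D) (hY : P Y) : Function.Bijective (fun u : Y ⟶ A => u ≫ f) := by
  constructor
  · intro u₁ u₂ hu
    have h0 : (u₁ - u₂) ≫ f = 0 := by
      simpa [sub_eq_zero, Preadditive.sub_comp] using hu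
    obtain ⟨β, hβ⟩ := Triangle.coyoneda_exact₂ _ (inv_rot_of_distTriang _ hT) (u₁ - u₂) h0
    have hB' : P.rightOrthogonal ((shiftFunctor D (-1 : ℤ)).obj B) :=
      P.rightOrthogonal.le_shift (-1 : ℤ) _ hB
    have hβ0 : β = 0 := hB' β hY
    have h3 : u₁ - u₂ = 0 := by
      rw [hβ, hβ0]
      exact Limits.zero_comp
    exact sub_eq_zero.mp h3
  · intro v
    have : v ≫ g = 0 := hB _ hY
    obtain ⟨u, hu⟩ := Triangle.coyoneda_exact₂ _ hT v this
    exact ⟨u, hu.symm⟩

end

open CategoryTheory.Pretriangulated in
/-- Let A be a full triangulated subcategory of a pretriangulated category D (an object property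
containing zero, stable under shifts and closed under extensions). The inclusion A → D is a left
adjoint (i.e. has a right adjoint) if and only if every object X of D fits in a distinguished
triangle A → X → B → A[1] with A in the subcategory and B right orthogonal to it. (The source's
further conclusions about saturation are not asserted.) -/
theorem result {D : Type u} [Category.{v} D] [Preadditive D] [Limits.HasZeroObject D] [HasShift D ℤ]
    [∀ n : ℤ, (shiftFunctor D n).Additive] [Pretriangulated D]
    (P : ObjectProperty D) [P.IsTriangulated] :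
    P.ι.IsLeftAdjoint ↔ ∀ X : D, ∃ (A B : D) (f : A ⟶ X) (g : X ⟶ B) (h : B ⟶ (shiftFunctor D (1 : ℤ)).obj A),
      Triangle.mk f g h ∈ distinguishedTriangles ∧ P A ∧ P.rightOrthogonal B := by
  constructor
  · intro hL X
    let G := P.ι.rightAdjoint
    let adj : P.ι ⊣ G := Adjunction.ofIsLeftAdjoint P.ι
    let f : P.ι.obj (G.obj X) ⟶ X := adj.counit.app X
    obtain ⟨B, g, h, hT⟩ := distinguished_cocone_triangle f
    -- composition with the counit is bijective on maps from objects of `P`
    have key : ∀ (Y : D) (hY : P Y), Function.Bijective (fun u : Y ⟶ P.ι.obj (G.obj X) => u ≫ f) := by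
      intro Y hY
      let Y' : P.FullSubcategory := ⟨Y, hY⟩
      have : (fun u : Y ⟶ P.ι.obj (G.obj X) => u ≫ f) =
          (adj.homEquiv Y' X).symm ∘ (P.fullyFaithfulι.homEquiv (X := Y') (Y := G.obj X)).symm := by
        funext u
        simp only [Function.comp_apply, Adjunction.homEquiv_counit]
        simp [f, Functor.FullyFaithful.homEquiv]
      rw [this]
      exact (adj.homEquiv Y' X).symm.bijective.comp
        (P.fullyFaithfulι.homEquiv (X := Y') (Y := G.obj X)).symm.bijective
    refine ⟨_, B, f, g, h, hT, (G.obj X).property, ?_⟩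
    intro Y u hY
    -- first `u ≫ h = 0`
    have hw : u ≫ h = 0 := by
      apply (shiftFunctor D (-1 : ℤ)).map_injective
      rw [Functor.map_zero]
      have hY' : P ((shiftFunctor D (-1 : ℤ)).obj Y) := P.le_shift (-1 : ℤ) _ hY
      let e := shiftFunctorCompIsoId D (1 : ℤ) (-1 : ℤ) (by simp)
      have h1 : ((shiftFunctor D (-1 : ℤ)).map (u ≫ h) ≫ e.hom.app _) ≫ f = 0 := by
        have nat := e.hom.naturality f
        simp only [Functor.comp_obj, Functor.id_obj, Functor.comp_map, Functor.id_map] at nat
        rw [Category.assoc, ← nat, ← Category.assoc, ← Functor.map_comp, Category.assoc]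
        have : h ≫ (shiftFunctor D (1 : ℤ)).map f = 0 :=
          comp_distTriang_mor_zero₃₁ _ hT
        rw [this, Limits.comp_zero, Functor.map_zero, Limits.zero_comp]
      have h2 := (key _ hY').1 (a₁ := (shiftFunctor D (-1 : ℤ)).map (u ≫ h) ≫ e.hom.app _)
        (a₂ := 0) (by simpa using h1)
      rw [← cancel_mono (e.hom.app _), Limits.zero_comp]
      exact h2
    obtain ⟨v, hv⟩ : ∃ v : Y ⟶ X, u = v ≫ g := Triangle.coyoneda_exact₃ _ hT u hw
    obtain ⟨w, hw'⟩ := (key Y hY).2 v
    have hw'' : w ≫ f = v := hw'
    rw [hv, ← hw'', Category.assoc]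
    have : f ≫ g = 0 := comp_distTriang_mor_zero₁₂ _ hT
    rw [this, Limits.comp_zero]
  · intro H
    apply Functor.isLeftAdjoint_of_rightAdjointObjIsDefined_eq_top
    ext X
    simp only [Pi.top_apply, Prop.top_eq_true, iff_true]
    obtain ⟨A, B, f, g, h, hT, hA, hB⟩ := H X
    let A' : P.FullSubcategory := ⟨A, hA⟩
    have key := comp_bijective_of_triangle P f g h hT hB
    refine Functor.RepresentableBy.isRepresentable (Y := A') ?_
    exact
      { homEquiv := fun {Y} =>
          (P.fullyFaithfulι.homEquiv (X := Y) (Y := A')).trans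
            (Equiv.ofBijective _ (key Y.obj Y.property))
        homEquiv_comp := fun {Y Y'} a b => by
          simp [Functor.FullyFaithful.homEquiv] }

end Groth.Agent.S0490
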