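import Groth.Statements.S0492
import Mathlib.CategoryTheory.Sites.Limits
import Mathlib.CategoryTheory.Sites.EpiMono
import Mathlib.CategoryTheory.Sites.LocallySurjective
import Mathlib.Algebra.Category.Grp.Limits
import Mathlib.CategoryTheory.Limits.Types.Limits
-- import your own Groth.Agent.* helpers here

set_option autoImplicit false
universe u
open CategoryTheory
open CohSite

namespace Groth.Agent.S0492

open CategoryTheory.Limits Opposite

section
variable {C : Type u} [SmallCategory C] (J : GrothendieckTopology C)

/-- Sections over `W`, as a set-valued functor on abelian sheaves. -/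
noncomputable abbrev secFunctor (W : C) : Sheaf J AddCommGrpCat.{u} ⥤ Type u :=
  sheafToPresheaf J AddCommGrpCat.{u} ⋙ (evaluation _ _).obj (op W) ⋙ forget AddCommGrpCat.{u}

/-- Over a weakly contractible object, an epimorphism of abelian sheaves is surjective on
sections. -/
theorem surjective_of_weaklyContractible {W : C} (hW : CohSite.IsWeaklyContractible J W)
    {F G : Sheaf J AddCommGrpCat.{u}} (ψ : F ⟶ G) [Epi ψ] :
    Function.Surjective (ψ.hom.app (op W)) := by
  have h1 : Sheaf.IsLocallySurjective ψ :=
    (Sheaf.isLocallySurjective_iff_epi' AddCommGrpCat.{u} ψ).2 inferInstance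
  let ψ' := (sheafCompose J (forget AddCommGrpCat.{u})).map ψ
  have h2 : Sheaf.IsLocallySurjective ψ' := by
    change Presheaf.IsLocallySurjective J (Functor.whiskerRight ψ.hom (forget AddCommGrpCat.{u}))
    infer_instance
  have h3 : Epi ψ' := (Sheaf.isLocallySurjective_iff_epi ψ').1 h2
  exact hW _ _ ψ' h3

end

open CategoryTheory.Limits in
/-- Part (4), for sheaves of abelian groups: let B be a set of weakly contractible objects of a small
site such that every object admits a covering family by members of B. Then products in the category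
of abelian sheaves are exact (Grothendieck's AB4*). -/
theorem result {C : Type u} [SmallCategory C] (J : GrothendieckTopology C)
    (B : Set C) (hB : ∀ U ∈ B, CohSite.IsWeaklyContractible J U)
    (hcov : ∀ V : C, ∃ (ι : Type u) (U : ι → C) (f : ∀ i, U i ⟶ V), (∀ i, U i ∈ B) ∧ Sieve.ofArrows U f ∈ J V) :
    AB4Star (Sheaf J AddCommGrpCat.{u}) := by
  refine ⟨fun α => ?_⟩
  have : (lim (J := Discrete α) (C := Sheaf J AddCommGrpCat.{u})).PreservesEpimorphisms := by
    refine ⟨fun {F G} φ hφ => ?_⟩
    have hφi : ∀ i, Epi (φ.app i) := fun i => inferInstance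
    rw [← Sheaf.isLocallySurjective_iff_epi' AddCommGrpCat.{u}]
    refine ⟨fun {V} s => ?_⟩
    obtain ⟨ι, U, f, hUB, hcov⟩ := hcov V
    refine J.superset_covering ?_ hcov
    rw [Sieve.ofArrows, Sieve.generate_le_iff]
    rintro W g ⟨k⟩
    -- the two limit cones of sections over `U k`
    have hF : IsLimit ((secFunctor J (U k)).mapCone (limit.cone F)) :=
      isLimitOfPreserves _ (limit.isLimit F)
    have hG : IsLimit ((secFunctor J (U k)).mapCone (limit.cone G)) :=
      isLimitOfPreserves _ (limit.isLimit G)
    let s' : ((limit G).obj.obj (op (U k)) : Type u) := (limit G).obj.map (f k).op s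
    have hsurj : ∀ i : Discrete α, ∃ t : ((F.obj i).obj.obj (op (U k)) : Type u),
        (φ.app i).hom.app (op (U k)) t = (limit.π G i).hom.app (op (U k)) s' := fun i =>
      surjective_of_weaklyContractible J (hB _ (hUB k)) (φ.app i) _
    choose t ht using hsurj
    -- assemble the `t i` into a section of the product
    have hsec : (fun i => t i) ∈ (F ⋙ secFunctor J (U k)).sections := by
      rintro ⟨i⟩ ⟨j⟩ g
      obtain rfl : i = j := Discrete.eq_of_hom g
      obtain rfl : g = 𝟙 _ := Subsingleton.elim _ _
      simp
    let T : ((limit F).obj.obj (op (U k)) : Type u) :=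
      (Types.isLimitEquivSections hF).symm ⟨_, hsec⟩
    have hT : ∀ i, (limit.π F i).hom.app (op (U k)) T = t i := fun i =>
      Types.isLimitEquivSections_symm_apply hF ⟨_, hsec⟩ i
    refine ⟨T, ?_⟩
    apply (Types.isLimitEquivSections hG).injective
    apply Subtype.ext
    funext i
    change (limit.π G i).hom.app (op (U k)) ((lim.map φ).hom.app (op (U k)) T) =
      (limit.π G i).hom.app (op (U k)) s'
    rw [← ht i, ← hT i]
    have h4 : lim.map φ ≫ limit.π G i = limit.π F i ≫ φ.app i := limMap_π φ i
    have h5 := congrArg (fun ψ => ψ.hom.app (op (U k)) T) h4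
    exact h5
  exact hasExactLimitsOfShape_of_preservesEpi _ _

end Groth.Agent.S0492
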