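import Groth.Statements.S0494
import Groth.Prelude.Def_CohPull
import Groth.Agent.Lib.LerayDegen31
import Groth.Agent.S0462

set_option autoImplicit false
universe u
open CohTop
open CategoryTheory

namespace Groth.Agent.S0494

open Opposite in
/-- If H^p(Y, R^q f_* F) = 0 for all q and all p > 0, then H^q(X, F) ≅ Γ(Y, R^q f_* F) for every q
(existence of a group isomorphism). -/
theorem result {X Y : TopCat.{u}} (f : X ⟶ Y) (F : CohTop.Ab X)
    (h : ∀ p q : ℕ, Subsingleton (CohTop.H ((CohTop.Rpush f q).obj F) (p + 1))) (q : ℕ) :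
    Nonempty (CohTop.H F q ≃+ ((CohTop.Rpush f q).obj F).obj.obj (op ⊤)) := by
  have : Limits.PreservesFiniteLimits (CohTop.pull f) := CohPull.preservesFiniteLimits_pull f
  have : (CohTop.pull f).PreservesMonomorphisms := inferInstance
  have hF : Groth.Agent.LerayDegen31.Acyc.{u} (CohTop.push f) (CohTop.const Y (ULift.{u} ℤ)) F :=
    fun p q => h p q
  obtain ⟨e⟩ := Groth.Agent.LerayDegen31.nonempty_ext_addEquiv_hom.{u}
    (L := CohTop.pull f) (G := CohTop.push f)
    (TopCat.Sheaf.pullbackPushforwardAdjunction AddCommGrpCat.{u} f)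
    (CohTop.const Y (ULift.{u} ℤ)) hF q
  exact ⟨(Groth.Agent.S0462.extPrecompIso
    ((Groth.Agent.S0462.pullConstIso f).app (AddCommGrpCat.of (ULift.{u} ℤ))) F q).trans
    (e.trans (Abelian.Ext.addEquiv₀.symm.trans
      (Sheaf.H.equiv₀ ((CohTop.Rpush f q).obj F) Limits.isTerminalTop)))⟩

end Groth.Agent.S0494
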