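import Groth.Statements.S0495
import Mathlib.RingTheory.KrullDimension.Zero
-- import your own Groth.Agent.* helpers here

set_option autoImplicit false
universe u
open Hensel

namespace Groth.Agent.S0495

/-- A ring is adically complete with respect to a nilpotent ideal. -/
theorem isAdicComplete_of_pow_eq_bot {R : Type u} [CommRing R] (I : Ideal R) (N : ℕ)
    (hN : I ^ N = ⊥) : IsAdicComplete I R where
  haus' x hx := by
    have := hx N
    rw [hN] at this
    simpa [SModEq.sub_mem] using this
  prec' f hf := by
    refine ⟨f N, fun n => ?_⟩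
    rcases le_total n N with hn | hn
    · exact hf hn
    · have h1 := hf hn
      rw [hN] at h1
      have : f N = f n := by simpa [SModEq.sub_mem, sub_eq_zero] using h1
      rw [this]

/-- A local ring whose Krull dimension is zero is henselian. -/
theorem result (R : Type u) [CommRing R] [IsLocalRing R]
    (h : ringKrullDim R = 0) : HenselianLocalRing R := by
  have hdim : Ring.KrullDimLE 0 R := ⟨by rw [← ringKrullDim, h]; exact le_refl _⟩
  refine ⟨fun f hf a₀ h₁ h₂ => ?_⟩
  have hnil : IsNilpotent (f.eval a₀) := by
    rw [← mem_nilradical, Ring.KrullDimLE.nilradical_eq_maximalIdeal]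
    exact h₁
  obtain ⟨N, hN⟩ := hnil
  let I : Ideal R := Ideal.span {f.eval a₀}
  have hI : I ^ N = ⊥ := by
    rw [Ideal.span_singleton_pow, hN]
    simp
  have hIle : I ≤ IsLocalRing.maximalIdeal R := by
    rw [Ideal.span_le, Set.singleton_subset_iff]
    exact h₁
  have := isAdicComplete_of_pow_eq_bot I N hI
  obtain ⟨a, ha, ha'⟩ := HenselianRing.is_henselian (I := I) f hf a₀
    (Ideal.subset_span rfl) (h₂.map _)
  exact ⟨a, ha, hIle ha'⟩

end Groth.Agent.S0495
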