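import Groth.Statements.S0496
import Groth.Agent.Lib.H56HenselCore
import Mathlib.RingTheory.PrincipalIdealDomain
import Mathlib.RingTheory.Jacobson.Ideal
import Mathlib.RingTheory.Ideal.GoingUp

set_option autoImplicit false
universe u
open Hensel

namespace Groth.Agent.S0496

open Polynomial IsLocalRing in
/-- A polynomial with coefficients in the maximal ideal lands in `m B` in `B = R[X]/(f)`. -/
lemma mk_mem_smul_top {R : Type u} [CommRing R] [IsLocalRing R] (f p : R[X])
    (hp : p.map (residue R) = 0) :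
    AdjoinRoot.mk f p ∈ (maximalIdeal R • ⊤ : Submodule R (AdjoinRoot f)) := by
  rw [← AdjoinRoot.aeval_eq, Polynomial.aeval_eq_sum_range]
  refine Submodule.sum_mem _ fun i _ => Submodule.smul_mem_smul ?_ Submodule.mem_top
  have := congrArg (fun q => Polynomial.coeff q i) hp
  simp only [Polynomial.coeff_map, Polynomial.coeff_zero] at this
  exact (residue_eq_zero_iff _).mp this

open Polynomial IsLocalRing in
theorem main (R : Type u) [CommRing R] [IsLocalRing R]
    (h : ∀ f : Polynomial R, f.Monic →
      ∀ g₀ h₀ : Polynomial (IsLocalRing.ResidueField R), IsCoprime g₀ h₀ →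
      Polynomial.map (IsLocalRing.residue R) f = g₀ * h₀ →
      ∃ g h : Polynomial R, f = g * h ∧ Polynomial.map (IsLocalRing.residue R) g = g₀ ∧
        Polynomial.map (IsLocalRing.residue R) h = h₀) :
    HenselianLocalRing R := by
  classical
  refine ⟨fun f hf a₀ h₁ h₂ => ?_⟩
  set ā₀ := residue R a₀ with hā₀
  have hroot : f.eval₂ (residue R) ā₀ = 0 := by
    rw [hā₀, Polynomial.eval₂_at_apply, residue_eq_zero_iff]; exact h₁
  have hroot' : (f.map (residue R)).IsRoot ā₀ := by
    rw [Polynomial.IsRoot, Polynomial.eval_map]; exact hroot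
  set h₀ := (f.map (residue R)) /ₘ (X - C ā₀) with hh₀
  have hfac : f.map (residue R) = (X - C ā₀) * h₀ :=
    (Polynomial.mul_divByMonic_eq_iff_isRoot.mpr hroot').symm
  have hh₀ne : h₀.eval ā₀ ≠ 0 := by
    have hder : (f.map (residue R)).derivative.eval ā₀ = h₀.eval ā₀ := by
      rw [hfac, Polynomial.derivative_mul]
      simp
    rw [← hder, Polynomial.derivative_map, Polynomial.eval_map, hā₀, Polynomial.eval₂_at_apply]
    exact (residue_ne_zero_iff_isUnit _).mpr h₂
  have hcop : IsCoprime (X - C ā₀) h₀ := by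
    rw [(Polynomial.irreducible_X_sub_C ā₀).coprime_iff_not_dvd, Polynomial.dvd_iff_isRoot]
    exact hh₀ne
  obtain ⟨g, hh, hfgh, hg, hhh⟩ := h f hf _ _ hcop hfac
  obtain ⟨ub, vb, hbez⟩ := hcop
  obtain ⟨u, rfl⟩ := Polynomial.map_surjective (residue R) residue_surjective ub
  obtain ⟨v, rfl⟩ := Polynomial.map_surjective (residue R) residue_surjective vb
  -- the ring `B` and the evaluation `χ`
  let χ : AdjoinRoot f →+* ResidueField R := AdjoinRoot.lift (residue R) ā₀ hroot
  have hχof : ∀ r, χ (AdjoinRoot.of f r) = residue R r := fun r => AdjoinRoot.lift_of hroot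
  have hχroot : χ (AdjoinRoot.root f) = residue R a₀ := AdjoinRoot.lift_root hroot
  have hχmk : ∀ p : R[X], χ (AdjoinRoot.mk f p) = (p.map (residue R)).eval ā₀ := fun p => by
    rw [Polynomial.eval_map]; exact AdjoinRoot.lift_mk hroot p
  have hfin : Module.Finite R (AdjoinRoot f) := (AdjoinRoot.powerBasis' hf).finite
  -- `m B` is in the Jacobson radical of `B`
  have hjac : ∀ z ∈ (maximalIdeal R • ⊤ : Submodule R (AdjoinRoot f)),
      z ∈ Ideal.jacobson (⊥ : Ideal (AdjoinRoot f)) := by
    intro z hz
    rw [Ideal.jacobson, Ideal.mem_sInf]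
    rintro M ⟨-, hM⟩
    have hMm : M.comap (algebraMap R (AdjoinRoot f)) = maximalIdeal R :=
      eq_maximalIdeal (Ideal.isMaximal_comap_of_isIntegral_of_isMaximal M)
    induction hz using Submodule.smul_induction_on' with
    | smul r hr b _ =>
      rw [Algebra.smul_def]
      refine Ideal.mul_mem_right _ _ ?_
      rw [← Ideal.mem_comap, hMm]; exact hr
    | add x _ y _ hx hy => exact Ideal.add_mem _ hx hy
  have hmulmem : ∀ (b : AdjoinRoot f), ∀ z ∈ (maximalIdeal R • ⊤ : Submodule R (AdjoinRoot f)),
      b * z ∈ (maximalIdeal R • ⊤ : Submodule R (AdjoinRoot f)) := by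
    intro b z hz
    induction hz using Submodule.smul_induction_on' with
    | smul r hr c _ =>
      rw [mul_smul_comm]
      exact Submodule.smul_mem_smul hr Submodule.mem_top
    | add x _ y _ hx hy => rw [mul_add]; exact Submodule.add_mem _ hx hy
  -- `t = 1 - (u g + v h)` has coefficients in `m`
  have ht : (1 - (u * g + v * hh)).map (residue R) = 0 := by
    rw [Polynomial.map_sub, Polynomial.map_one, Polynomial.map_add, Polynomial.map_mul,
      Polynomial.map_mul, hg, hhh, hbez, sub_self]
  have hT := mk_mem_smul_top f _ ht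
  have hunit : IsUnit (AdjoinRoot.mk f (u * g + v * hh)) := by
    have := Ideal.mem_jacobson_bot.mp (hjac _ hT) (-1)
    have h2 : AdjoinRoot.mk f (1 - (u * g + v * hh)) * -1 + 1 = AdjoinRoot.mk f (u * g + v * hh) := by
      rw [map_sub, map_one]; ring
    rwa [h2] at this
  obtain ⟨w, hw⟩ := hunit.exists_left_inv
  have hmkf : AdjoinRoot.mk f g * AdjoinRoot.mk f hh = 0 := by
    rw [← map_mul, ← hfgh, AdjoinRoot.mk_self]
  obtain ⟨e, hedef⟩ : ∃ e : AdjoinRoot f, e = w * AdjoinRoot.mk f (v * hh) := ⟨_, rfl⟩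
  have hone : e + w * AdjoinRoot.mk f (u * g) = 1 := by
    rw [hedef, ← hw, map_add]; ring
  have hezero : e * (w * AdjoinRoot.mk f (u * g)) = 0 := by
    rw [hedef, map_mul, map_mul]
    calc w * (AdjoinRoot.mk f v * AdjoinRoot.mk f hh) * (w * (AdjoinRoot.mk f u * AdjoinRoot.mk f g))
        = w * w * AdjoinRoot.mk f v * AdjoinRoot.mk f u *
          (AdjoinRoot.mk f g * AdjoinRoot.mk f hh) := by ring
      _ = 0 := by rw [hmkf, mul_zero]
  have he : IsIdempotentElem e := by
    change e * e = e
    have : e * e = e * (e + w * AdjoinRoot.mk f (u * g)) := by rw [mul_add, hezero, add_zero]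
    rw [this, hone, mul_one]
  have heg : e * AdjoinRoot.mk f g = 0 := by
    rw [hedef, map_mul]
    calc w * (AdjoinRoot.mk f v * AdjoinRoot.mk f hh) * AdjoinRoot.mk f g
        = w * AdjoinRoot.mk f v * (AdjoinRoot.mk f g * AdjoinRoot.mk f hh) := by ring
      _ = 0 := by rw [hmkf, mul_zero]
  have hχg : χ (AdjoinRoot.mk f g) = 0 := by rw [hχmk, hg]; simp
  have hχe : χ e ≠ 0 := by
    have h1 : χ e + χ (w * AdjoinRoot.mk f (u * g)) = 1 := by rw [← map_add, hone, map_one]
    rw [map_mul χ w, map_mul (AdjoinRoot.mk f) u g, map_mul χ, hχg, mul_zero, mul_zero,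
      add_zero] at h1
    rw [h1]; exact one_ne_zero
  have hy : e * (AdjoinRoot.root f - AdjoinRoot.of f a₀) ∈
      (maximalIdeal R • ⊤ : Submodule R (AdjoinRoot f)) := by
    have hd : (X - C a₀ - g).map (residue R) = 0 := by
      rw [Polynomial.map_sub, hg, Polynomial.map_sub, Polynomial.map_X, Polynomial.map_C,
        sub_self]
    have h3 : e * (AdjoinRoot.root f - AdjoinRoot.of f a₀) =
        e * AdjoinRoot.mk f (X - C a₀ - g) := by
      rw [map_sub, map_sub, AdjoinRoot.mk_X, AdjoinRoot.mk_C, mul_sub e _ (AdjoinRoot.mk f g),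
        heg, sub_zero]
    rw [h3]
    exact hmulmem e _ (mk_mem_smul_top f _ hd)
  exact Groth.Agent.Lib.H56HenselCore.exists_root_of_idem f hf a₀ χ hχof hχroot e he hχe hy

/-- If every factorization of the reduction of a monic polynomial into two coprime factors over the
residue field lifts to a factorization over the local ring, then the local ring is henselian. -/
theorem result (R : Type u) [CommRing R] [IsLocalRing R]
    (h : ∀ f : Polynomial R, f.Monic →
      ∀ g₀ h₀ : Polynomial (IsLocalRing.ResidueField R), IsCoprime g₀ h₀ →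
      Polynomial.map (IsLocalRing.residue R) f = g₀ * h₀ →
      ∃ g h : Polynomial R, f = g * h ∧ Polynomial.map (IsLocalRing.residue R) g = g₀ ∧
        Polynomial.map (IsLocalRing.residue R) h = h₀) :
    HenselianLocalRing R := by
  exact main R h

end Groth.Agent.S0496
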