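import Groth.Statements.S0498
import Groth.Agent.Lib.HenselQuot
-- import your own Groth.Agent.* helpers here

set_option autoImplicit false
universe u
open Hensel

namespace Groth.Agent.S0498

/-- Over a henselian local ring, a simple root in the residue field of the reduction of an arbitrary
polynomial (monic or not) lifts to a root in the ring. -/
theorem result (R : Type u) [CommRing R] [HenselianLocalRing R]
    (f : Polynomial R) (a₀ : IsLocalRing.ResidueField R)
    (h₁ : Polynomial.eval₂ (IsLocalRing.residue R) a₀ f = 0)
    (h₂ : Polynomial.eval₂ (IsLocalRing.residue R) a₀ (Polynomial.derivative f) ≠ 0) :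
    ∃ a : R, Polynomial.IsRoot f a ∧ IsLocalRing.residue R a = a₀ := by
  obtain ⟨b, rfl⟩ := IsLocalRing.residue_surjective a₀
  rw [Polynomial.eval₂_at_apply] at h₁ h₂
  have h0 : f.eval b ∈ IsLocalRing.maximalIdeal R := by
    rwa [← IsLocalRing.residue_eq_zero_iff]
  have h1 : IsUnit (Ideal.Quotient.mk (IsLocalRing.maximalIdeal R)
      ((Polynomial.derivative f).eval b)) := by
    have : IsUnit ((Polynomial.derivative f).eval b) := by
      by_contra hn
      exact h₂ ((IsLocalRing.residue_eq_zero_iff _).2 ((IsLocalRing.mem_maximalIdeal _).2 hn))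
    exact this.map _
  obtain ⟨a, ha, ha'⟩ := Groth.Agent.Lib.HenselQuot.exists_root
    (I := IsLocalRing.maximalIdeal R) f b h0 h1
  refine ⟨a, ha, ?_⟩
  rw [← sub_eq_zero, ← map_sub, IsLocalRing.residue_eq_zero_iff]
  exact ha'

end Groth.Agent.S0498
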