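import Groth.Statements.S0501
import Groth.Agent.Lib.EssEtaleLift


set_option autoImplicit false
universe u
open Hensel

namespace Groth.Agent.S0501

/-- Let `S` be a henselian local ring over a ring `R`, let `A` be an étale `R`-algebra with a prime `q`,
and let `τ` be a ring map from the residue field of `q` to the residue field of `S` compatible with
the two structure maps from `R`. Then there is exactly one `R`-algebra map from `A` to `S` pulling
the maximal ideal back to `q` and inducing `τ`. -/
theorem result (R : Type u) [CommRing R]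
    (S : Type u) [CommRing S] [HenselianLocalRing S] [Algebra R S]
    (A : Type u) [CommRing A] [Algebra R A] [Algebra.Etale R A] (q : Ideal A) [q.IsPrime]
    (τ : q.ResidueField →+* IsLocalRing.ResidueField S)
    (hτ : τ.comp (algebraMap R q.ResidueField) = (IsLocalRing.residue S).comp (algebraMap R S)) :
    ∃! f : A →ₐ[R] S, Ideal.comap f.toRingHom (IsLocalRing.maximalIdeal S) = q ∧
      ∀ a : A, IsLocalRing.residue S (f a) = τ (algebraMap A q.ResidueField a) := by
  classical
  have hcomm : ∀ r : R, τ (algebraMap A q.ResidueField (algebraMap R A r)) =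
      algebraMap R (IsLocalRing.ResidueField S) r := by
    intro r
    rw [← IsScalarTower.algebraMap_apply R A q.ResidueField]
    exact RingHom.congr_fun hτ r
  let χ : A →ₐ[R] IsLocalRing.ResidueField S :=
    { τ.comp (algebraMap A q.ResidueField) with commutes' := hcomm }
  have hχ_apply : ∀ a, χ a = τ (algebraMap A q.ResidueField a) := fun _ => rfl
  have hχ : ∀ x, χ x = 0 ↔ x ∈ q := by
    intro x
    rw [hχ_apply, map_eq_zero_iff τ τ.injective, Ideal.algebraMap_residueField_eq_zero]
  obtain ⟨σ, hσ⟩ := Groth.Agent.Lib.EssEtaleLift.exists_algHom_lift q χ (fun x hx => (hχ x).mp hx)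
  refine ⟨σ, ⟨?_, fun a => (hσ a).trans (hχ_apply a)⟩, ?_⟩
  · ext x
    rw [Ideal.mem_comap, ← IsLocalRing.residue_eq_zero_iff]
    change IsLocalRing.residue S (σ x) = 0 ↔ _
    rw [hσ, hχ]
  · rintro g ⟨-, hg⟩
    apply Groth.Agent.Lib.EssEtale.algHom_ext_of_residue_eq
    intro x
    rw [hg x, hσ x, hχ_apply]

end Groth.Agent.S0501
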