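import Groth.Statements.S0502
import Mathlib.RingTheory.Etale.StandardEtale
-- import your own Groth.Agent.* helpers here

set_option autoImplicit false
universe u
open Hensel

namespace Groth.Agent.S0502

/-- A local ring `R` is henselian as soon as every étale `R`-algebra having a prime over the maximal
ideal with trivial residue field extension admits an `R`-algebra retraction to `R`. -/
theorem result (R : Type u) [CommRing R] [IsLocalRing R]
    (h : ∀ (S : Type u) [CommRing S] [Algebra R S] [Algebra.Etale R S] (q : Ideal S) [q.IsPrime],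
      q.LiesOver (IsLocalRing.maximalIdeal R) → Function.Surjective (algebraMap R q.ResidueField) →
      Nonempty (S →ₐ[R] R)) :
    HenselianLocalRing R := by
  classical
  refine ⟨fun f hf a₀ h₁ h₂ => ?_⟩
  -- `f = (X - a₀) * q + f(a₀)`
  set q : Polynomial R := f /ₘ (Polynomial.X - Polynomial.C a₀) with hq
  have hfq : f = (Polynomial.X - Polynomial.C a₀) * q + Polynomial.C (f.eval a₀) := by
    have := Polynomial.modByMonic_add_div f (Polynomial.X - Polynomial.C a₀)
    rw [Polynomial.modByMonic_X_sub_C_eq_C_eval] at this
    rw [hq]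
    conv_lhs => rw [← this]
    ring
  have hder : (Polynomial.derivative f).eval a₀ = q.eval a₀ := by
    conv_lhs => rw [hfq]
    simp
  have hqu : IsUnit (q.eval a₀) := hder ▸ h₂
  let P : StandardEtalePair R :=
    { f := f
      monic_f := hf
      g := Polynomial.derivative f * q
      cond := ⟨q, 0, 1, by ring⟩ }
  -- the point of `P.Ring` with values in the residue field
  have hmap : P.HasMap (IsLocalRing.residue R a₀) := by
    refine ⟨?_, ?_⟩
    · change Polynomial.aeval (IsLocalRing.residue R a₀) f = 0
      rw [Polynomial.aeval_def, IsLocalRing.ResidueField.algebraMap_eq,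
        Polynomial.eval₂_at_apply, IsLocalRing.residue_eq_zero_iff]
      exact h₁
    · change IsUnit (Polynomial.aeval (IsLocalRing.residue R a₀) (Polynomial.derivative f * q))
      rw [Polynomial.aeval_def, IsLocalRing.ResidueField.algebraMap_eq,
        Polynomial.eval₂_at_apply, Polynomial.eval_mul]
      exact (h₂.mul hqu).map _
  let φ : P.Ring →ₐ[R] IsLocalRing.ResidueField R := P.lift _ hmap
  have hφsurj : Function.Surjective φ := fun y => by
    obtain ⟨r, rfl⟩ := IsLocalRing.residue_surjective y
    exact ⟨algebraMap R P.Ring r, by simp [IsLocalRing.ResidueField.algebraMap_eq]⟩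
  let Q : Ideal P.Ring := RingHom.ker φ.toRingHom
  have hQmax : Q.IsMaximal := RingHom.ker_isMaximal_of_surjective φ.toRingHom hφsurj
  have hQprime : Q.IsPrime := hQmax.isPrime
  have hQover : Q.LiesOver (IsLocalRing.maximalIdeal R) := by
    refine ⟨?_⟩
    ext r
    simp only [Ideal.under, Ideal.mem_comap, Q, RingHom.mem_ker, AlgHom.toRingHom_eq_coe,
      RingHom.coe_coe, AlgHom.commutes, IsLocalRing.ResidueField.algebraMap_eq,
      IsLocalRing.residue_eq_zero_iff]
  have hQsurj : Function.Surjective (algebraMap R Q.ResidueField) := by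
    intro y
    obtain ⟨s, rfl⟩ := Q.algebraMap_residueField_surjective y
    obtain ⟨r, hr⟩ := IsLocalRing.residue_surjective (φ s)
    refine ⟨r, ?_⟩
    have hmem : s - algebraMap R P.Ring r ∈ Q := by
      simp only [Q, RingHom.mem_ker, AlgHom.toRingHom_eq_coe, RingHom.coe_coe, map_sub,
        AlgHom.commutes, IsLocalRing.ResidueField.algebraMap_eq, hr, sub_self]
    have h0 : algebraMap P.Ring Q.ResidueField (s - algebraMap R P.Ring r) = 0 :=
      Ideal.algebraMap_residueField_eq_zero.mpr hmem
    rw [map_sub, sub_eq_zero] at h0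
    rw [h0, ← IsScalarTower.algebraMap_apply]
  obtain ⟨σ⟩ := h P.Ring Q hQover hQsurj
  have hσ : P.HasMap (σ P.X) := StandardEtalePair.hasMap_X.map σ
  obtain ⟨hroot, hunit⟩ := hσ
  set a := σ P.X with ha
  have hroot' : f.eval a = 0 := by
    have : Polynomial.aeval a f = 0 := hroot
    simpa [Polynomial.aeval_def] using this
  have hunit' : IsUnit (q.eval a) := by
    have : IsUnit (Polynomial.aeval a (Polynomial.derivative f * q)) := hunit
    rw [Polynomial.aeval_def, Algebra.algebraMap_self, Polynomial.eval₂_id, Polynomial.eval_mul] at this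
    exact isUnit_of_mul_isUnit_right this
  refine ⟨a, hroot', ?_⟩
  have h3 : (a - a₀) * q.eval a = - f.eval a₀ := by
    have := congrArg (Polynomial.eval a) hfq
    rw [hroot'] at this
    simp only [Polynomial.eval_add, Polynomial.eval_mul, Polynomial.eval_sub, Polynomial.eval_X,
      Polynomial.eval_C] at this
    linear_combination -this
  obtain ⟨u, hu⟩ := hunit'
  have h4 : a - a₀ = - f.eval a₀ * ↑u⁻¹ := by
    rw [← h3, ← hu, mul_assoc, Units.mul_inv, mul_one]
  rw [h4]
  exact Ideal.mul_mem_right _ _ (Ideal.neg_mem_iff _ |>.2 h₁)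

end Groth.Agent.S0502
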