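import Groth.Statements.S0503
import Groth.Agent.Lib.H56HenselQF

set_option autoImplicit false
universe u
open Hensel

namespace Groth.Agent.S0503

/-- A finite-type quasi-finite algebra `S` over a henselian local ring `R` contains an idempotent `e`
such that `S/(1-e)` is finitely generated as an `R`-module and the maximal ideal of `R` generates
the unit ideal of `S/(e)`; in other words `S` is a product of a module-finite algebra and an algebra
whose fibre over the closed point is empty. -/
theorem result (R : Type u) [CommRing R] [HenselianLocalRing R]
    (S : Type u) [CommRing S] [Algebra R S] [Algebra.FiniteType R S] [Algebra.QuasiFinite R S] :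
    ∃ e : S, IsIdempotentElem e ∧ Module.Finite R (S ⧸ Ideal.span ({1 - e} : Set S)) ∧
      Ideal.map (algebraMap R (S ⧸ Ideal.span ({e} : Set S))) (IsLocalRing.maximalIdeal R) = ⊤ := by
  obtain ⟨e, he, hfin, hq⟩ :=
    Groth.Agent.Lib.H56HenselQF.exists_idem_finite_and_not_quasiFiniteAt R S
  refine ⟨e, he, hfin, ?_⟩
  by_contra hne
  obtain ⟨M, hM, hle⟩ := Ideal.exists_le_maximal _ hne
  have hover : M.LiesOver (IsLocalRing.maximalIdeal R) := by
    constructor
    have h1 : IsLocalRing.maximalIdeal R ≤ M.under R := by
      rw [Ideal.under_def, ← Ideal.map_le_iff_le_comap]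
      exact hle
    have h2 : (M.under R).IsPrime := Ideal.comap_isPrime _ _
    exact ((IsLocalRing.maximalIdeal.isMaximal R).eq_of_le h2.ne_top h1)
  exact hq M hover inferInstance

end Groth.Agent.S0503
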