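import Groth.Statements.S0513
import Groth.Agent.Lib.HenselizationRegular

set_option autoImplicit false
universe u
open Hensel

namespace Groth.Agent.S0513

/-- A Noetherian local ring is regular exactly when its henselization is a regular local ring. -/
theorem result (R : Type u) [CommRing R] [IsLocalRing R] (S : Type u) [CommRing S] [IsLocalRing S]
    [Algebra R S] [IsLocalHom (algebraMap R S)] [Hensel.IsHenselization R S] [IsNoetherianRing R] :
    IsRegularLocalRing R ↔ IsRegularLocalRing S := by
  exact Groth.Agent.Lib.HenselizationRegular.isRegularLocalRing_iff_of_isHenselization R S

end Groth.Agent.S0513
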