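import Groth.Statements.S0514
import Groth.Agent.Lib.StepWeaklyEtale96
-- import your own Groth.Agent.* helpers here

set_option autoImplicit false
universe u
open Hensel

namespace Groth.Agent.S0514

/-- A local ring is reduced exactly when its henselization is reduced. -/
theorem result (R : Type u) [CommRing R] [IsLocalRing R] (S : Type u) [CommRing S] [IsLocalRing S]
    [Algebra R S] [IsLocalHom (algebraMap R S)] [Hensel.IsHenselization R S] :
    IsReduced R ↔ IsReduced S := by
  constructor
  · intro h
    exact Groth.Agent.Lib.StepWeaklyEtale96.isReduced_of_isHenselization R S
  · intro h
    have hff : Module.FaithfullyFlat R S :=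
      Groth.Agent.Lib.HenselizationFlat.faithfullyFlat_of_isHenselization R S
    exact isReduced_of_injective (algebraMap R S) (FaithfulSMul.algebraMap_injective R S)

end Groth.Agent.S0514
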