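import Groth.Statements.S0516
import Groth.Agent.Lib.StrictHenselUnram
import Groth.Agent.S0503
import Groth.Agent.S0499

set_option autoImplicit false
universe u
open Hensel

namespace Groth.Agent.S0516

/-- An unramified algebra `S` (formally unramified of finite type) over a strictly henselian local ring
`R` is isomorphic over `R` to a product of finitely many quotient rings of `R` and an `R`-algebra in
which the maximal ideal of `R` generates the unit ideal. -/
theorem result (R : Type u) [CommRing R]
    [HenselianLocalRing R] [IsSepClosed (IsLocalRing.ResidueField R)] (S : Type u) [CommRing S] [Algebra R S]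
    [Algebra.Unramified R S] :
    ∃ (ι : Type u) (_ : Fintype ι) (A : ι → Type u) (_ : ∀ i, CommRing (A i))
      (_ : ∀ i, Algebra R (A i)) (B : Type u) (_ : CommRing B) (_ : Algebra R B),
      (∀ i, Function.Surjective (algebraMap R (A i))) ∧
      Ideal.map (algebraMap R B) (IsLocalRing.maximalIdeal R) = ⊤ ∧
      Nonempty (S ≃ₐ[R] ((∀ i, A i) × B)) := by
  classical
  obtain ⟨e, he, hfin, htop⟩ := Groth.Agent.S0503.result R S
  obtain ⟨ι, hι, A, hA, hloc, ⟨ε⟩⟩ := Groth.Agent.S0499.main R (S ⧸ Ideal.span ({1 - e} : Set S))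
  let algI : ∀ i, Algebra R (A i) := fun i =>
    ((Pi.evalRingHom A i).comp ((ε : _ →+* (∀ i, A i)).comp
      (algebraMap R (S ⧸ Ideal.span ({1 - e} : Set S))))).toAlgebra
  let εa : (S ⧸ Ideal.span ({1 - e} : Set S)) ≃ₐ[R] (∀ i, A i) :=
    { ε with commutes' := fun r => by funext i; rfl }
  have hunr0 : Algebra.FormallyUnramified R (S ⧸ Ideal.span ({1 - e} : Set S)) :=
    Algebra.FormallyUnramified.comp R S _
  refine ⟨ι, hι, A, hA, algI, S ⧸ Ideal.span ({e} : Set S), inferInstance, inferInstance,
    fun i => ?_, htop, ⟨?_⟩⟩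
  · have hli : IsLocalRing (A i) := hloc i
    let pi : (S ⧸ Ideal.span ({1 - e} : Set S)) →ₐ[R] A i :=
      (Pi.evalAlgHom R A i).comp εa.toAlgHom
    have hpi : Function.Surjective pi := by
      intro z
      refine ⟨εa.symm (Pi.single i z), ?_⟩
      change (εa (εa.symm (Pi.single i z))) i = z
      rw [AlgEquiv.apply_symm_apply, Pi.single_eq_same]
    have hfi : Module.Finite R (A i) := Module.Finite.of_surjective pi.toLinearMap hpi
    have hui : Algebra.FormallyUnramified R (A i) :=
      Algebra.FormallyUnramified.of_surjective pi hpi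
    exact Groth.Agent.Lib.StrictHenselUnram.surjective_of_local_finite_unramified
  · exact (Groth.Agent.Lib.StrictHenselUnram.prodEquivOfIdem R e he).trans
      (AlgEquiv.prodCongr εa AlgEquiv.refl)

end Groth.Agent.S0516
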