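import Groth.Statements.S0522
import Groth.Agent.Lib.HenselIdem

set_option autoImplicit false
universe u
open Hensel

namespace Groth.Agent.S0522

/-- `A` is Henselian at `I` exactly when, for every integral `A`-algebra `B`, reduction modulo `IB` is a
bijection from the idempotents of `B` to the idempotents of `B/IB`. -/
theorem result (A : Type u) [CommRing A] (I : Ideal A) :
    HenselianRing A I ↔ ∀ (B : Type u) [CommRing B] [Algebra A B], Algebra.IsIntegral A B →
      Set.BijOn (Ideal.Quotient.mk (Ideal.map (algebraMap A B) I))
        {e : B | IsIdempotentElem e} {e | IsIdempotentElem e} := by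
  constructor
  · intro h B _ _ hint
    exact Groth.Agent.Lib.HenselIdem.bijOn_idempotents_of_isIntegral I
  · intro h
    refine Groth.Agent.Lib.HenselEtaleLift.henselianRing_of_isGabber I
      (Groth.Agent.Lib.HenselIdem.isGabber_of_surjOn I
        (Groth.Agent.Lib.HenselIdem.le_jacobson_of_injOn I fun K => ?_) fun g hg => ?_)
    · have hfin : Module.Finite A (A ⧸ K) :=
        Module.Finite.of_surjective (Ideal.Quotient.mkₐ A K).toLinearMap
          Ideal.Quotient.mk_surjective
      exact (h (A ⧸ K) (Algebra.IsIntegral.of_finite A (A ⧸ K))).injOn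
    · have : Module.Finite A (AdjoinRoot g) := hg.finite_adjoinRoot
      exact (h (AdjoinRoot g) (Algebra.IsIntegral.of_finite A (AdjoinRoot g))).surjOn

end Groth.Agent.S0522
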