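import Groth.Statements.S0527
import Mathlib.RingTheory.Nilpotent.Basic

set_option autoImplicit false
universe u
open Hensel

namespace Groth.Agent.S0527

theorem isAdicComplete_of_pow_eq_bot {A : Type u} [CommRing A] (I : Ideal A) (N : ℕ)
    (hN : I ^ N = ⊥) : IsAdicComplete I A where
  haus' x hx := by
    have := hx N
    rw [hN, Submodule.bot_smul, SModEq.bot] at this
    exact this
  prec' f hf := by
    refine ⟨f N, fun n => ?_⟩
    rcases le_total n N with h | h
    · exact hf h
    · have := hf h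
      rw [hN, Submodule.bot_smul, SModEq.bot] at this
      rw [this]

theorem result (A : Type u) [CommRing A] (I : Ideal A) (hI : ∀ x ∈ I, IsNilpotent x) :
    HenselianRing A I := by
  have hjac : I ≤ Ideal.jacobson ⊥ := by
    intro x hx
    rw [Ideal.mem_jacobson_bot]
    intro y
    exact ((Commute.all x y).isNilpotent_mul_right (hI x hx)).isUnit_add_one
  refine ⟨hjac, ?_⟩
  intro f hf a₀ h₁ h₂
  obtain ⟨N, hN⟩ := hI _ h₁
  set I₀ : Ideal A := Ideal.span {f.eval a₀} with hI₀
  have hI₀N : I₀ ^ N = ⊥ := by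
    rw [hI₀, Ideal.span_singleton_pow, hN]
    simp
  have hle : I₀ ≤ I := by
    rw [hI₀, Ideal.span_le]
    simpa using h₁
  have := isAdicComplete_of_pow_eq_bot I₀ N hI₀N
  have hloc := isLocalHom_of_le_jacobson_bot I hjac
  have hu : IsUnit (f.derivative.eval a₀) := IsUnit.of_map (Ideal.Quotient.mk I) _ h₂
  obtain ⟨a, ha, ha'⟩ := HenselianRing.is_henselian (I := I₀) f hf a₀
    (Ideal.subset_span rfl) (hu.map _)
  exact ⟨a, ha, hle ha'⟩

end Groth.Agent.S0527
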