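import Groth.Statements.S0529
import Groth.Agent.Lib.HenselPair
import Mathlib.Algebra.Group.Pi.Units
import Mathlib.Algebra.Polynomial.Derivative

set_option autoImplicit false
universe u
open Hensel

namespace Groth.Agent.S0529

open Polynomial in
theorem eval_pi_apply {J : Type u} {A : J → Type u} [∀ j, CommRing (A j)]
    (F : (∀ j, A j)[X]) (a : ∀ j, A j) (j : J) :
    (F.eval a) j = (F.map (Pi.evalRingHom A j)).eval (a j) := by
  rw [eval_map]
  exact (eval₂_at_apply (Pi.evalRingHom A j) a).symm

theorem mem_prod_iff {J : Type u} {A : J → Type u} [∀ j, CommRing (A j)]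
    (I : ∀ j, Ideal (A j)) (x : ∀ j, A j) :
    x ∈ (⨅ j, Ideal.comap (Pi.evalRingHom A j) (I j)) ↔ ∀ j, x j ∈ I j := by
  simp [Ideal.mem_comap]

open Polynomial in
/-- assemble a family of polynomials of bounded degree into a polynomial over the product -/
noncomputable def assemble {J : Type u} {A : J → Type u} [∀ j, CommRing (A j)]
    (n : ℕ) (p : ∀ j, (A j)[X]) : (∀ j, A j)[X] :=
  ∑ i ∈ Finset.range (n + 1), monomial i (fun j => (p j).coeff i)

open Polynomial in
theorem assemble_map {J : Type u} {A : J → Type u} [∀ j, CommRing (A j)]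
    (n : ℕ) (p : ∀ j, (A j)[X]) (hp : ∀ j, (p j).natDegree ≤ n) (j : J) :
    (assemble n p).map (Pi.evalRingHom A j) = p j := by
  ext i
  rw [coeff_map, assemble, finsetSum_coeff]
  simp only [coeff_monomial]
  rw [Finset.sum_ite_eq' (Finset.range (n + 1)) i]
  by_cases hi : i ∈ Finset.range (n + 1)
  · simp [hi]
  · simp only [hi, if_false, map_zero]
    rw [Finset.mem_range, not_lt] at hi
    exact (coeff_eq_zero_of_natDegree_lt (lt_of_le_of_lt (hp j) hi)).symm

open Polynomial in
theorem assemble_monic {J : Type u} {A : J → Type u} [∀ j, CommRing (A j)]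
    (n : ℕ) (p : ∀ j, (A j)[X]) (hm : ∀ j, (p j).coeff n = 1) :
    (assemble n p).Monic := by
  apply monic_of_natDegree_le_of_coeff_eq_one n
  · rw [assemble]
    apply natDegree_sum_le_of_forall_le
    intro i hi
    refine (natDegree_monomial_le _).trans ?_
    rw [Finset.mem_range] at hi
    omega
  · rw [assemble, finsetSum_coeff]
    simp only [coeff_monomial]
    rw [Finset.sum_ite_eq' (Finset.range (n + 1)) n]
    simp only [Finset.mem_range, Nat.lt_succ_self, if_true]
    funext j
    exact hm j

open Polynomial in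
theorem aux_poly (B : Type u) [CommRing B] (n : ℕ) (hn : 0 < n) :
    ((X : B[X]) ^ n - X ^ (n - 1)).coeff n = 1 ∧ ((X : B[X]) ^ n - X ^ (n - 1)).natDegree ≤ n ∧
    ((X : B[X]) ^ n - X ^ (n - 1)).eval 1 = 0 ∧
    ((X : B[X]) ^ n - X ^ (n - 1)).derivative.eval 1 = 1 := by
  obtain ⟨m, rfl⟩ : ∃ m, n = m + 1 := ⟨n - 1, by omega⟩
  simp only [Nat.add_sub_cancel]
  refine ⟨?_, ?_, ?_, ?_⟩
  · simp [coeff_X_pow]
  · refine (natDegree_sub_le _ _).trans ?_
    exact max_le (natDegree_X_pow_le _) ((natDegree_X_pow_le _).trans (Nat.le_succ m))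
  · simp
  · simp [derivative_X_pow]

open Polynomial in
/-- A product of rings, with the product ideal, is Henselian exactly when every factor is Henselian at
its ideal. -/
theorem result (J : Type u) (A : J → Type u) [∀ j, CommRing (A j)]
    (I : ∀ j, Ideal (A j)) :
    HenselianRing (∀ j, A j) (⨅ j, Ideal.comap (Pi.evalRingHom A j) (I j)) ↔
      ∀ j, HenselianRing (A j) (I j) := by
  classical
  constructor
  · intro h j₀
    have hjac : I j₀ ≤ Ideal.jacobson ⊥ := by
      intro x hx
      rw [Ideal.mem_jacobson_bot]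
      intro y
      have hX : Pi.single j₀ x ∈ (⨅ j, Ideal.comap (Pi.evalRingHom A j) (I j)) := by
        rw [mem_prod_iff]
        intro j
        by_cases hj : j = j₀
        · subst hj; simpa using hx
        · simp [Pi.single_eq_of_ne hj]
      have h1 := (Ideal.mem_jacobson_bot.1 (h.jac hX)) (Pi.single j₀ y)
      have h2 := h1.map (Pi.evalRingHom A j₀)
      simpa using h2
    refine ⟨hjac, ?_⟩
    intro f hf a₀ h₁ h₂
    have hu : IsUnit (f.derivative.eval a₀) :=
      Groth.Agent.Lib.HenselPair.isUnit_of_isUnit_mk hjac h₂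
    rcases Nat.eq_zero_or_pos f.natDegree with hn | hn
    · have hf1 : f = 1 := hf.natDegree_eq_zero.1 hn
      subst hf1
      simp only [eval_one] at h₁
      have h3 := (Ideal.mem_jacobson_bot.1 (hjac h₁)) (-1)
      have : Subsingleton (A j₀) := by
        have h4 : IsUnit (0 : A j₀) := by simpa using h3
        exact subsingleton_of_zero_eq_one (isUnit_zero_iff.1 h4)
      exact ⟨a₀, Subsingleton.elim _ _, by simp⟩
    · set n := f.natDegree with hn_def
      let p : ∀ j, (A j)[X] := Function.update (fun j => (X : (A j)[X]) ^ n - X ^ (n - 1)) j₀ f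
      have hp0 : p j₀ = f := Function.update_self ..
      have hpj : ∀ j, j ≠ j₀ → p j = (X : (A j)[X]) ^ n - X ^ (n - 1) := fun j hj =>
        Function.update_of_ne hj ..
      have hpdeg : ∀ j, (p j).natDegree ≤ n := by
        intro j
        by_cases hj : j = j₀
        · subst hj; rw [hp0]
        · rw [hpj j hj]; exact (aux_poly (A j) n hn).2.1
      have hpmonic : ∀ j, (p j).coeff n = 1 := by
        intro j
        by_cases hj : j = j₀
        · subst hj; rw [hp0]; exact hf
        · rw [hpj j hj]; exact (aux_poly (A j) n hn).1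
      let F := assemble n p
      have hFmap : ∀ j, F.map (Pi.evalRingHom A j) = p j :=
        assemble_map n p hpdeg
      have hFmonic : F.Monic := assemble_monic n p hpmonic
      let b₀ : ∀ j, A j := Function.update (fun _ => 1) j₀ a₀
      have hb0 : b₀ j₀ = a₀ := Function.update_self ..
      have hbj : ∀ j, j ≠ j₀ → b₀ j = 1 := fun j hj => Function.update_of_ne hj ..
      have hF1 : F.eval b₀ ∈ (⨅ j, Ideal.comap (Pi.evalRingHom A j) (I j)) := by
        rw [mem_prod_iff]
        intro j
        rw [eval_pi_apply, hFmap]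
        by_cases hj : j = j₀
        · subst hj; rw [hp0, hb0]; exact h₁
        · rw [hpj j hj, hbj j hj, (aux_poly (A j) n hn).2.2.1]; exact Ideal.zero_mem _
      have hF2 : IsUnit (F.derivative.eval b₀) := by
        rw [Pi.isUnit_iff]
        intro j
        rw [eval_pi_apply, ← derivative_map, hFmap]
        by_cases hj : j = j₀
        · subst hj; rw [hp0, hb0]; exact hu
        · rw [hpj j hj, hbj j hj, (aux_poly (A j) n hn).2.2.2]; exact isUnit_one
      obtain ⟨a, ha, ha'⟩ := h.is_henselian F hFmonic b₀ hF1 (hF2.map _)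
      refine ⟨a j₀, ?_, ?_⟩
      · have := congrFun ha j₀
        rw [eval_pi_apply, hFmap, hp0] at this
        exact this
      · rw [mem_prod_iff] at ha'
        have := ha' j₀
        rw [Pi.sub_apply, hb0] at this
        exact this
  · intro h
    have hjac : (⨅ j, Ideal.comap (Pi.evalRingHom A j) (I j)) ≤ Ideal.jacobson ⊥ := by
      intro x hx
      rw [mem_prod_iff] at hx
      rw [Ideal.mem_jacobson_bot]
      intro y
      rw [Pi.isUnit_iff]
      intro j
      exact (Ideal.mem_jacobson_bot.1 ((h j).jac (hx j))) (y j)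
    refine ⟨hjac, ?_⟩
    intro f hf a₀ h₁ h₂
    have hu : IsUnit (f.derivative.eval a₀) :=
      Groth.Agent.Lib.HenselPair.isUnit_of_isUnit_mk hjac h₂
    rw [mem_prod_iff] at h₁
    have key : ∀ j, ∃ a : A j, (f.map (Pi.evalRingHom A j)).IsRoot a ∧ a - a₀ j ∈ I j := by
      intro j
      apply (h j).is_henselian _ (hf.map _) (a₀ j)
      · rw [← eval_pi_apply]; exact h₁ j
      · rw [derivative_map, ← eval_pi_apply]
        exact ((Pi.isUnit_iff.1 hu) j).map _
    choose a ha ha' using key
    refine ⟨a, ?_, ?_⟩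
    · funext j
      rw [eval_pi_apply]
      exact ha j
    · rw [mem_prod_iff]
      exact ha'

end Groth.Agent.S0529
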