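import Groth.Statements.S0530
import Groth.Agent.Lib.HenselQuot

set_option autoImplicit false
universe u
open Hensel

namespace Groth.Agent.S0530

/-- If `A` is Henselian at `I` and `p` is a prime ideal of `A`, then the spectrum of `A/(p + I)` is
connected. -/
theorem result (A : Type u) [CommRing A] (I : Ideal A) [HenselianRing A I]
    (p : Ideal A) [p.IsPrime] : ConnectedSpace (PrimeSpectrum (A ⧸ p ⊔ I)) := by
  have hjac : I ≤ Ideal.jacobson ⊥ := HenselianRing.jac
  have hq : HenselianRing (A ⧸ p) (Ideal.map (Ideal.Quotient.mk p) I) :=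
    Groth.Agent.Lib.HenselQuot.henselian_quotient_general I p
  -- nontriviality
  have hne : p ⊔ I ≠ ⊤ := by
    obtain ⟨m, hm, hpm⟩ := Ideal.exists_le_maximal p (Ideal.IsPrime.ne_top inferInstance)
    have hIm : I ≤ m := by
      refine hjac.trans ?_
      exact sInf_le ⟨bot_le, hm⟩
    intro h
    exact hm.ne_top (top_le_iff.mp (h ▸ sup_le hpm hIm))
  have : Nontrivial (A ⧸ p ⊔ I) := Ideal.Quotient.nontrivial_iff.mpr hne
  rw [connectedSpace_iff_clopen]
  refine ⟨inferInstance, ?_⟩
  intro s hs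
  obtain ⟨eb, heb, rfl⟩ := PrimeSpectrum.isClopen_iff.mp hs
  obtain ⟨e, rfl⟩ := Ideal.Quotient.mk_surjective eb
  have he : e * e - e ∈ p ⊔ I := by
    rw [← Ideal.Quotient.eq_zero_iff_mem, map_sub, map_mul, heb.eq, sub_self]
  -- pass to A ⧸ p
  have key : ∀ x : A, x ∈ p ⊔ I ↔
      Ideal.Quotient.mk p x ∈ Ideal.map (Ideal.Quotient.mk p) I := by
    intro x
    constructor
    · intro hx
      obtain ⟨t, ht, i, hi, rfl⟩ := Submodule.mem_sup.1 hx
      rw [map_add, Ideal.Quotient.eq_zero_iff_mem.mpr ht, zero_add]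
      exact Ideal.mem_map_of_mem _ hi
    · intro hx
      obtain ⟨i, hi, hix⟩ :=
        (Ideal.mem_map_iff_of_surjective _ Ideal.Quotient.mk_surjective).1 hx
      have : x - i ∈ p := by
        rw [← Ideal.Quotient.eq_zero_iff_mem, map_sub, hix, sub_self]
      have h2 : x = (x - i) + i := by ring
      rw [h2]
      exact Submodule.add_mem_sup this hi
  have he' : Ideal.Quotient.mk p e * Ideal.Quotient.mk p e - Ideal.Quotient.mk p e ∈
      Ideal.map (Ideal.Quotient.mk p) I := by
    rw [← map_mul, ← map_sub]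
    exact (key _).1 he
  obtain ⟨e', he'idem, he'e⟩ := Groth.Agent.Lib.HenselQuot.exists_idempotent_lift
    (I := Ideal.map (Ideal.Quotient.mk p) I) (Ideal.Quotient.mk p e) he'
  rcases (IsIdempotentElem.iff_eq_zero_or_one.mp he'idem) with h0 | h1
  · left
    rw [h0, zero_sub, neg_mem_iff] at he'e
    have : Ideal.Quotient.mk (p ⊔ I) e = 0 :=
      Ideal.Quotient.eq_zero_iff_mem.mpr ((key e).2 he'e)
    rw [this, PrimeSpectrum.basicOpen_zero]
    rfl
  · right
    rw [h1, ← map_one (Ideal.Quotient.mk p), ← map_sub] at he'e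
    have h2 : Ideal.Quotient.mk (p ⊔ I) (1 - e) = 0 :=
      Ideal.Quotient.eq_zero_iff_mem.mpr ((key _).2 he'e)
    have : Ideal.Quotient.mk (p ⊔ I) e = 1 := by
      rw [map_sub, map_one, sub_eq_zero] at h2
      exact h2.symm
    rw [this, PrimeSpectrum.basicOpen_one]
    rfl

end Groth.Agent.S0530
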