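import Groth.Statements.S0532
import Groth.Agent.Lib.EtaleLiftSurj
import Groth.Agent.Lib.HenselQFDecomp

set_option autoImplicit false
universe u
open Hensel

namespace Groth.Agent.S0532

/-- If `A` is Henselian at `I`, every finite étale `A/I`-algebra is the base change of a finite étale
`A`-algebra. -/
theorem result (A : Type u) [CommRing A] (I : Ideal A) [HenselianRing A I]
    (C : Type u) [CommRing C] [Algebra (A ⧸ I) C] [Module.Finite (A ⧸ I) C] [Algebra.Etale (A ⧸ I) C] :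
    ∃ (B : Type u) (_ : CommRing B) (_ : Algebra A B), Module.Finite A B ∧ Algebra.Etale A B ∧
      Nonempty (TensorProduct A (A ⧸ I) B ≃ₐ[A ⧸ I] C) := by
  classical
  let _ : Algebra A C := ((algebraMap (A ⧸ I) C).comp (algebraMap A (A ⧸ I))).toAlgebra
  have tower : IsScalarTower A (A ⧸ I) C := IsScalarTower.of_algebraMap_eq (fun _ => rfl)
  obtain ⟨R, _, _, ψ, hRet, hψ, hkerψ⟩ :=
    Groth.Agent.Lib.EtaleLiftSurj.exists_etale_lift (R := A) (B := A ⧸ I) (B' := C)
      Ideal.Quotient.mk_surjective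
  have hker' : RingHom.ker ψ = I.map (algebraMap A R) := by
    rw [hkerψ, Ideal.Quotient.algebraMap_eq, Ideal.mk_ker]
  -- `R/IR` is finite over `A`
  have hfinC : Module.Finite A C := Module.Finite.trans (A ⧸ I) C
  have hfin : Module.Finite A (R ⧸ I.map (algebraMap A R)) := by
    have e0 := Ideal.quotientKerAlgEquivOfSurjective hψ
    have e1 : (R ⧸ I.map (algebraMap A R)) ≃ₐ[A] C :=
      (Ideal.quotientEquivAlgOfEq A hker'.symm).trans e0
    exact Module.Finite.equiv e1.symm.toLinearEquiv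
  obtain ⟨e, he, he1, heint⟩ :=
    Groth.Agent.Lib.HenselQFDecomp.exists_idempotent_of_finite_quotient I hfin
  -- the finite part
  have hloc : IsLocalization.Away e (R ⧸ Ideal.span {1 - e}) :=
    IsLocalization.away_of_isIdempotentElem he
      (by rw [Ideal.Quotient.algebraMap_eq, Ideal.mk_ker]) Ideal.Quotient.mk_surjective
  have hetRB : Algebra.Etale R (R ⧸ Ideal.span {1 - e}) := Algebra.Etale.of_isLocalizationAway e
  have hetB : Algebra.Etale A (R ⧸ Ideal.span {1 - e}) := Algebra.Etale.comp A R _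
  have hint : Algebra.IsIntegral A (R ⧸ Ideal.span {1 - e}) := ⟨fun b => by
    obtain ⟨y, rfl⟩ := Ideal.Quotient.mk_surjective b
    have h1 : Ideal.Quotient.mk (Ideal.span {1 - e}) y = Ideal.Quotient.mk _ (e * y) := by
      rw [Ideal.Quotient.eq]
      have : y - e * y = (1 - e) * y := by ring
      rw [this]
      exact Ideal.mul_mem_right _ _ (Ideal.mem_span_singleton_self _)
    rw [h1]
    exact (heint y).map (Ideal.Quotient.mkₐ A (Ideal.span {1 - e}))⟩
  have hfinB : Module.Finite A (R ⧸ Ideal.span {1 - e}) := Algebra.IsIntegral.finite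
  -- `ψ` factors through the finite part
  have h1e : ψ (1 - e) = 0 := by
    rw [← RingHom.mem_ker, hker']
    exact he1
  let ψ' : (R ⧸ Ideal.span {1 - e}) →ₐ[A] C := Ideal.Quotient.liftₐ (Ideal.span {1 - e}) ψ (by
    intro x hx
    obtain ⟨c, rfl⟩ := Ideal.mem_span_singleton'.1 hx
    rw [map_mul, h1e, mul_zero])
  have hψ' : ∀ r : R, ψ' (Ideal.Quotient.mk _ r) = ψ r := fun r => rfl
  let Φ : TensorProduct A (A ⧸ I) (R ⧸ Ideal.span {1 - e}) →ₐ[A ⧸ I] C :=
    Algebra.TensorProduct.lift (Algebra.ofId (A ⧸ I) C) ψ' (fun _ _ => Commute.all _ _)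
  have hΦ : ∀ b, Φ ((1 : A ⧸ I) ⊗ₜ[A] b) = ψ' b := by
    intro b
    simp [Φ]
  have hzero : ∀ r ∈ I.map (algebraMap A R),
      (1 : A ⧸ I) ⊗ₜ[A] (Ideal.Quotient.mk (Ideal.span {1 - e}) r) = 0 := by
    intro r hr
    refine Submodule.span_induction (p := fun r _ =>
      (1 : A ⧸ I) ⊗ₜ[A] (Ideal.Quotient.mk (Ideal.span {1 - e}) r) = 0) ?_ ?_ ?_ ?_ hr
    · rintro _ ⟨a, ha, rfl⟩
      have h1 : Ideal.Quotient.mk (Ideal.span {1 - e}) (algebraMap A R a) =
          a • (1 : R ⧸ Ideal.span {1 - e}) := by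
        rw [Algebra.smul_def, mul_one]
        rfl
      rw [h1, TensorProduct.tmul_smul, TensorProduct.smul_tmul', Algebra.smul_def, mul_one,
        Ideal.Quotient.algebraMap_eq, Ideal.Quotient.eq_zero_iff_mem.2 ha, TensorProduct.zero_tmul]
    · rw [map_zero, TensorProduct.tmul_zero]
    · intro x y _ _ hx hy
      rw [map_add, TensorProduct.tmul_add, hx, hy, add_zero]
    · intro a x _ hx
      rw [smul_eq_mul, map_mul]
      have : (1 : A ⧸ I) ⊗ₜ[A] (Ideal.Quotient.mk (Ideal.span {1 - e}) a *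
          Ideal.Quotient.mk (Ideal.span {1 - e}) x) =
          ((1 : A ⧸ I) ⊗ₜ[A] Ideal.Quotient.mk (Ideal.span {1 - e}) a) *
            ((1 : A ⧸ I) ⊗ₜ[A] Ideal.Quotient.mk (Ideal.span {1 - e}) x) := by
        rw [Algebra.TensorProduct.tmul_mul_tmul, mul_one]
      rw [this, hx, mul_zero]
  refine ⟨R ⧸ Ideal.span {1 - e}, inferInstance, inferInstance, hfinB, hetB,
    ⟨AlgEquiv.ofBijective Φ ⟨?_, ?_⟩⟩⟩
  · rw [injective_iff_map_eq_zero]
    intro z hz
    obtain ⟨b, rfl⟩ := Algebra.TensorProduct.includeRight_surjective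
      (R := A) (S := A ⧸ I) (R ⧸ Ideal.span {1 - e}) Ideal.Quotient.mk_surjective z
    obtain ⟨r, rfl⟩ := Ideal.Quotient.mk_surjective b
    change Φ ((1 : A ⧸ I) ⊗ₜ[A] _) = 0 at hz
    rw [hΦ, hψ'] at hz
    have hr : r ∈ I.map (algebraMap A R) := by
      rw [← hker']
      exact hz
    exact hzero r hr
  · intro c
    obtain ⟨r, rfl⟩ := hψ c
    exact ⟨(1 : A ⧸ I) ⊗ₜ[A] (Ideal.Quotient.mk _ r), by rw [hΦ, hψ']⟩

end Groth.Agent.S0532
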