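import Groth.Statements.S0533
import Groth.Agent.Lib.HenselIdem
import Mathlib.RingTheory.TensorProduct.Quotient

set_option autoImplicit false
universe u
open Hensel

namespace Groth.Agent.S0533

/-- If `A` is Henselian at `I`, base change to `A/I` gives a bijection between `A`-algebra maps of two
finite étale `A`-algebras and `A/I`-algebra maps of their reductions. -/
theorem result (A : Type u) [CommRing A] (I : Ideal A) [HenselianRing A I]
    (B₁ B₂ : Type u) [CommRing B₁] [CommRing B₂] [Algebra A B₁] [Algebra A B₂]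
    [Module.Finite A B₁] [Algebra.Etale A B₁] [Module.Finite A B₂] [Algebra.Etale A B₂] :
    Function.Bijective (fun φ : B₁ →ₐ[A] B₂ =>
      Algebra.TensorProduct.map (AlgHom.id (A ⧸ I) (A ⧸ I)) φ) := by
  classical
  have hint : Algebra.IsIntegral A B₂ := Algebra.IsIntegral.of_finite A B₂
  have hJ : I.map (algebraMap A B₂) ≤ Ideal.jacobson ⊥ :=
    Groth.Agent.Lib.HenselIdem.map_le_jacobson_of_isIntegral I HenselianRing.jac
  let e₂ := Algebra.TensorProduct.quotIdealMapEquivQuotTensor B₂ I
  constructor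
  · intro φ ψ h
    refine Groth.Agent.Lib.HenselEtaleLift.algHom_ext_of_sub_mem _ hJ φ ψ fun x => ?_
    have h0 := congrArg (fun f : TensorProduct A (A ⧸ I) B₁ →ₐ[A ⧸ I] TensorProduct A (A ⧸ I) B₂ =>
      f (1 ⊗ₜ x)) h
    simp only [Algebra.TensorProduct.map_tmul, AlgHom.coe_id, id_eq] at h0
    have h1 : e₂ (Ideal.Quotient.mk _ (φ x)) = e₂ (Ideal.Quotient.mk _ (ψ x)) := by
      rw [Algebra.TensorProduct.quotIdealMapEquivQuotTensor_mk,
        Algebra.TensorProduct.quotIdealMapEquivQuotTensor_mk]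
      exact h0
    exact Ideal.Quotient.eq.1 (e₂.injective h1)
  · intro χ
    have hH : HenselianRing B₂ (I.map (algebraMap A B₂)) :=
      Groth.Agent.Lib.HenselIdem.henselianRing_of_isIntegral I
    let σ₀ : B₁ →ₐ[A] B₂ ⧸ I.map (algebraMap A B₂) :=
      { toRingHom := (e₂.symm.toAlgHom.toRingHom).comp (χ.toRingHom.comp
          (Algebra.TensorProduct.includeRight : B₁ →ₐ[A] TensorProduct A (A ⧸ I) B₁).toRingHom)
        commutes' := fun a => by
          change e₂.symm (χ (1 ⊗ₜ algebraMap A B₁ a)) = _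
          have h1 : (1 : A ⧸ I) ⊗ₜ[A] algebraMap A B₁ a =
              algebraMap (A ⧸ I) (TensorProduct A (A ⧸ I) B₁) (Ideal.Quotient.mk I a) := by
            rw [Algebra.TensorProduct.algebraMap_apply, Algebra.algebraMap_self, RingHom.id_apply,
              Algebra.algebraMap_eq_smul_one, TensorProduct.tmul_smul, TensorProduct.smul_tmul']
            congr 1
            rw [← Algebra.algebraMap_eq_smul_one]
            rfl
          rw [h1, χ.commutes, e₂.symm.commutes]
          exact Ideal.Quotient.algebraMap_quotient_map_quotient a }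
    obtain ⟨φ, hφ⟩ := Groth.Agent.Lib.HenselEtaleLift.exists_lift_of_algebra
      (I.map (algebraMap A B₂)) σ₀
    refine ⟨φ, ?_⟩
    have hkey : ∀ b : B₁, (1 : A ⧸ I) ⊗ₜ[A] φ b = χ (1 ⊗ₜ b) := by
      intro b
      have h1 : Ideal.Quotient.mk _ (φ b) = e₂.symm (χ (1 ⊗ₜ b)) :=
        congrArg (fun g : B₁ →ₐ[A] B₂ ⧸ I.map (algebraMap A B₂) => g b) hφ
      have h2 := congrArg e₂ h1
      rw [AlgEquiv.apply_symm_apply, Algebra.TensorProduct.quotIdealMapEquivQuotTensor_mk] at h2
      exact h2
    apply Algebra.TensorProduct.ext'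
    intro a b
    have h1 : a ⊗ₜ[A] b = a • ((1 : A ⧸ I) ⊗ₜ[A] b) := by
      rw [TensorProduct.smul_tmul', smul_eq_mul, mul_one]
    rw [h1, map_smul, map_smul, Algebra.TensorProduct.map_tmul, AlgHom.coe_id, id_eq, hkey]

end Groth.Agent.S0533
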