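import Groth.Statements.S0534
import Groth.Agent.Lib.ProjLift
import Groth.Agent.Lib.HenselIdem

set_option autoImplicit false
universe u
open Hensel

namespace Groth.Agent.S0534

/-- If `R` is Henselian at `I`, every finitely generated projective `R/I`-module is the base change of a
finitely generated projective `R`-module. -/
theorem result (R : Type u) [CommRing R] (I : Ideal R)
    [HenselianRing R I] (Q : Type u) [AddCommGroup Q] [Module (R ⧸ I) Q] [Module.Finite (R ⧸ I) Q]
    [Module.Projective (R ⧸ I) Q] :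
    ∃ (P : Type u) (_ : AddCommGroup P) (_ : Module R P), Module.Finite R P ∧ Module.Projective R P ∧
      Nonempty (TensorProduct R (R ⧸ I) P ≃ₗ[R ⧸ I] Q) := by
  classical
  refine Groth.Agent.Lib.ProjLift.exists_lift_of_factorization I Q ?_
  intro F d hFm hFmap
  have hcop : IsCoprime ((Polynomial.X : Polynomial (R ⧸ I)) ^ (d + 1))
      ((Polynomial.X - 1 : Polynomial (R ⧸ I)) ^ (d + 1)) := by
    apply IsCoprime.pow
    exact ⟨1, -1, by ring⟩
  obtain ⟨A', _, _, hEt, hbij, G', H', hGm, hHm, hFGH, ⟨U', V', hUV⟩, hG, hH⟩ :=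
    Groth.Agent.Lib.EtaleFactor.exists_etale_lift_factorization I F hFm
      (Polynomial.X ^ (d + 1)) ((Polynomial.X - 1) ^ (d + 1))
      (Polynomial.monic_X_pow _) ((Polynomial.monic_X_sub_C (1 : R ⧸ I)).pow _) hcop hFmap
  obtain ⟨ρ, hρ⟩ := Groth.Agent.Lib.HenselIdem.exists_retraction' I hbij
  have hcoefG : ∀ i, (G' - Polynomial.X ^ (d + 1)).coeff i ∈ I.map (algebraMap R A') := by
    intro i
    have := congrArg (fun p => Polynomial.coeff p i) hG
    simp only [Polynomial.coeff_map, Polynomial.map_pow, Polynomial.map_X] at this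
    rw [← Ideal.Quotient.eq_zero_iff_mem, Polynomial.coeff_sub, map_sub, this, sub_eq_zero]
    rw [← Polynomial.coeff_map, Polynomial.map_pow, Polynomial.map_X]
  have hcoefH : ∀ i, (H' - (Polynomial.X - 1) ^ (d + 1)).coeff i ∈ I.map (algebraMap R A') := by
    intro i
    have := congrArg (fun p => Polynomial.coeff p i) hH
    simp only [Polynomial.coeff_map, Polynomial.map_pow, Polynomial.map_X, Polynomial.map_sub,
      Polynomial.map_one] at this
    rw [← Ideal.Quotient.eq_zero_iff_mem, Polynomial.coeff_sub, map_sub, this, sub_eq_zero]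
    rw [← Polynomial.coeff_map, Polynomial.map_pow, Polynomial.map_sub, Polynomial.map_X,
      Polynomial.map_one]
  have hρI : ∀ x ∈ I.map (algebraMap R A'), ρ x ∈ I := by
    have : I.map (algebraMap R A') ≤ I.comap (ρ : A' →+* R) := by
      rw [Ideal.map_le_iff_le_comap]
      intro a ha
      rw [Ideal.mem_comap, Ideal.mem_comap]
      have : (ρ : A' →+* R) (algebraMap R A' a) = a := ρ.commutes a
      rw [this]
      exact ha
    intro x hx
    exact this hx
  have hid : (ρ : A' →+* R).comp (algebraMap R A') = RingHom.id R := by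
    ext a
    exact ρ.commutes a
  refine ⟨G'.map (ρ : A' →+* R), H'.map (ρ : A' →+* R), U'.map (ρ : A' →+* R),
    V'.map (ρ : A' →+* R), ?_, ?_, ?_, ?_⟩
  · rw [← Polynomial.map_mul, ← hFGH, Polynomial.map_map, hid, Polynomial.map_id]
  · rw [← Polynomial.map_mul, ← Polynomial.map_mul, ← Polynomial.map_add, hUV, Polynomial.map_one]
  · intro i
    have h1 : (G'.map (ρ : A' →+* R) - Polynomial.X ^ (d + 1)) =
        (G' - Polynomial.X ^ (d + 1)).map (ρ : A' →+* R) := by
      rw [Polynomial.map_sub, Polynomial.map_pow, Polynomial.map_X]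
    rw [h1, Polynomial.coeff_map]
    exact hρI _ (hcoefG i)
  · intro i
    have h1 : (H'.map (ρ : A' →+* R) - (Polynomial.X - 1) ^ (d + 1)) =
        (H' - (Polynomial.X - 1) ^ (d + 1)).map (ρ : A' →+* R) := by
      rw [Polynomial.map_sub, Polynomial.map_pow, Polynomial.map_sub, Polynomial.map_X,
        Polynomial.map_one]
    rw [h1, Polynomial.coeff_map]
    exact hρI _ (hcoefH i)

end Groth.Agent.S0534
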