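import Groth.Statements.S0535
import Mathlib.RingTheory.Nakayama
import Mathlib.LinearAlgebra.TensorProduct.Quotient

set_option autoImplicit false
universe u
open Hensel

namespace Groth.Agent.S0535

section aux

variable {R : Type u} [CommRing R] (I : Ideal R)

/-- the canonical map `P → (R/I) ⊗ P`. -/
noncomputable def redMap (P : Type u) [AddCommGroup P] [Module R P] :
    P →ₗ[R] TensorProduct R (R ⧸ I) P :=
  TensorProduct.mk R (R ⧸ I) P 1

lemma redMap_surjective (P : Type u) [AddCommGroup P] [Module R P] :
    Function.Surjective (redMap I P) := by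
  have h : (TensorProduct.quotTensorEquivQuotSMul P I).toLinearMap ∘ₗ redMap I P
      = Submodule.mkQ (I • ⊤) := TensorProduct.quotTensorEquivQuotSMul_comp_mk I
  intro x
  obtain ⟨p, hp⟩ := Submodule.mkQ_surjective (I • ⊤ : Submodule R P)
    (TensorProduct.quotTensorEquivQuotSMul P I x)
  refine ⟨p, ?_⟩
  apply (TensorProduct.quotTensorEquivQuotSMul P I).injective
  rw [← hp, ← h]
  rfl

lemma ker_redMap (P : Type u) [AddCommGroup P] [Module R P] :
    LinearMap.ker (redMap I P) = I • ⊤ := by
  have h : (TensorProduct.quotTensorEquivQuotSMul P I).toLinearMap ∘ₗ redMap I P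
      = Submodule.mkQ (I • ⊤) := TensorProduct.quotTensorEquivQuotSMul_comp_mk I
  have := congrArg LinearMap.ker h
  rw [LinearMap.ker_comp, Submodule.ker_mkQ, LinearEquiv.ker, Submodule.comap_bot] at this
  exact this

end aux

/-- If `R` is Henselian at `I` and two finitely generated projective `R`-modules become isomorphic after
base change to `R/I`, then they are isomorphic. -/
theorem result (R : Type u) [CommRing R] (I : Ideal R)
    [HenselianRing R I] (P₁ P₂ : Type u) [AddCommGroup P₁] [Module R P₁] [AddCommGroup P₂]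
    [Module R P₂] [Module.Finite R P₁] [Module.Projective R P₁] [Module.Finite R P₂]
    [Module.Projective R P₂]
    (e : TensorProduct R (R ⧸ I) P₁ ≃ₗ[R ⧸ I] TensorProduct R (R ⧸ I) P₂) :
    Nonempty (P₁ ≃ₗ[R] P₂) := by
  have hjac : I ≤ Ideal.jacobson ⊥ := HenselianRing.jac
  -- the R-linear version of e
  let eR : TensorProduct R (R ⧸ I) P₁ →ₗ[R] TensorProduct R (R ⧸ I) P₂ :=
    (e.toLinearMap).restrictScalars R
  have heR : ∀ x, eR x = e x := fun x => rfl
  -- lift
  obtain ⟨φ, hφ⟩ := Module.projective_lifting_property (redMap I P₂) (eR ∘ₗ redMap I P₁)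
    (redMap_surjective I P₂)
  have hφ' : ∀ p, redMap I P₂ (φ p) = e (redMap I P₁ p) := fun p => by
    have := LinearMap.congr_fun hφ p
    simp only [LinearMap.comp_apply] at this
    rw [this, heR]
  -- surjectivity of φ
  have hsurj : Function.Surjective φ := by
    rw [← LinearMap.range_eq_top]
    apply top_le_iff.mp
    apply Submodule.le_of_le_smul_of_le_jacobson_bot (Module.Finite.fg_top) hjac
    intro p₂ _
    obtain ⟨p₁, hp₁⟩ := redMap_surjective I P₁ (e.symm (redMap I P₂ p₂))
    have : p₂ - φ p₁ ∈ LinearMap.ker (redMap I P₂) := by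
      rw [LinearMap.mem_ker, map_sub, hφ', hp₁]
      simp
    rw [ker_redMap] at this
    have h2 : p₂ = φ p₁ + (p₂ - φ p₁) := by abel
    rw [h2]
    exact Submodule.add_mem_sup (LinearMap.mem_range_self φ p₁) this
  -- a section
  obtain ⟨s, hs⟩ := Module.projective_lifting_property φ LinearMap.id hsurj
  have hs' : ∀ p, φ (s p) = p := fun p => LinearMap.congr_fun hs p
  -- projection to the kernel
  let q : P₁ →ₗ[R] P₁ := LinearMap.id - s ∘ₗ φ
  have hq_ker : ∀ k ∈ LinearMap.ker φ, q k = k := by
    intro k hk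
    simp only [q, LinearMap.sub_apply, LinearMap.id_apply, LinearMap.comp_apply]
    rw [LinearMap.mem_ker.mp hk, map_zero, sub_zero]
  have hq_mem : ∀ p, q p ∈ LinearMap.ker φ := by
    intro p
    simp only [q, LinearMap.mem_ker, LinearMap.sub_apply, LinearMap.id_apply,
      LinearMap.comp_apply, map_sub, hs', sub_self]
  have hrange : LinearMap.range q = LinearMap.ker φ := by
    apply le_antisymm
    · rintro _ ⟨p, rfl⟩
      exact hq_mem p
    · intro k hk
      exact ⟨k, hq_ker k hk⟩
  have hKfg : (LinearMap.ker φ).FG := by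
    rw [← hrange, LinearMap.range_eq_map]
    exact Submodule.FG.map q Module.Finite.fg_top
  have hKle : LinearMap.ker φ ≤ I • LinearMap.ker φ := by
    intro k hk
    have h1 : k ∈ LinearMap.ker (redMap I P₁) := by
      rw [LinearMap.mem_ker]
      apply e.injective
      rw [← hφ', LinearMap.mem_ker.mp hk]
      simp
    rw [ker_redMap] at h1
    have h2 : q k ∈ Submodule.map q (I • ⊤) := Submodule.mem_map_of_mem h1
    rw [Submodule.map_smul'', ← LinearMap.range_eq_map, hrange, hq_ker k hk] at h2
    exact h2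
  have hK : LinearMap.ker φ = ⊥ :=
    Submodule.eq_bot_of_le_smul_of_le_jacobson_bot I _ hKfg hKle hjac
  exact ⟨LinearEquiv.ofBijective φ ⟨LinearMap.ker_eq_bot.mp hK, hsurj⟩⟩

end Groth.Agent.S0535
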