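import Groth.Statements.S0536
import Groth.Agent.Lib.SmoothLift22b

set_option autoImplicit false
universe u
open Hensel

namespace Groth.Agent.S0536

/-- Let `S` be a smooth `R`-algebra and `A` an `R`-algebra Henselian at an ideal `I`. Every `R`-algebra
map `S → A/I` lifts to an `R`-algebra map `S → A`. -/
theorem result (R : Type u) [CommRing R] (S : Type u) [CommRing S]
    [Algebra R S] [Algebra.Smooth R S] (A : Type u) [CommRing A] [Algebra R A] (I : Ideal A)
    [HenselianRing A I] (σ : S →ₐ[R] A ⧸ I) :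
    ∃ τ : S →ₐ[R] A, (Ideal.Quotient.mkₐ R I).comp τ = σ := by
  classical
  let σA : TensorProduct R A S →ₐ[A] A ⧸ I :=
    Algebra.TensorProduct.lift (Algebra.ofId A (A ⧸ I)) σ (fun _ _ => Commute.all _ _)
  obtain ⟨τA, hτA⟩ := Groth.Agent.Lib.SmoothLift22.exists_lift_of_smooth (A := A)
    (B := TensorProduct R A S) I σA
  refine ⟨(τA.restrictScalars R).comp Algebra.TensorProduct.includeRight, ?_⟩
  ext s
  have h1 := congrArg (fun f : TensorProduct R A S →ₐ[A] A ⧸ I => f ((1 : A) ⊗ₜ[R] s)) hτA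
  simp only [AlgHom.comp_apply] at h1
  simp only [AlgHom.comp_apply, AlgHom.restrictScalars_apply,
    Algebra.TensorProduct.includeRight_apply]
  change (Ideal.Quotient.mkₐ A I) (τA ((1 : A) ⊗ₜ[R] s)) = σ s
  rw [h1]
  simp [σA]

end Groth.Agent.S0536
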