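import Groth.Statements.S17537
-- import your own Groth.Agent.* helpers here

set_option autoImplicit false
universe u v
open CAlg

namespace Groth.Agent.S17537

/-- For a commutative ring A, an ideal I and an A-module M, the I-adic completion M^ of M is itself
I-adically complete if and only if, for every n, every element of M^ is congruent modulo I^n M^ to
the image of an element of M (the maps M/I^n M → M^/I^n M^ are surjective). -/
theorem result {A : Type u} [CommRing A] (I : Ideal A)
    (M : Type v) [AddCommGroup M] [Module A M] :
    IsAdicComplete I (AdicCompletion I M) ↔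
      ∀ (n : ℕ) (x : AdicCompletion I M), ∃ y : M,
        x - AdicCompletion.of I M y ∈ (I ^ n • ⊤ : Submodule A (AdicCompletion I M)) := by
  have hof : ∀ (n : ℕ) (y : M), y ∈ (I ^ n • ⊤ : Submodule A M) →
      AdicCompletion.of I M y ∈ (I ^ n • ⊤ : Submodule A (AdicCompletion I M)) := by
    intro n y hy
    have h2 : AdicCompletion.of I M y ∈ Submodule.map (AdicCompletion.of I M) (I ^ n • ⊤) :=
      Submodule.mem_map_of_mem hy
    rw [Submodule.map_smul''] at h2
    exact Submodule.smul_mono le_rfl le_top h2
  have hker : ∀ (n : ℕ) (z : AdicCompletion I M),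
      z ∈ (I ^ n • ⊤ : Submodule A (AdicCompletion I M)) → z.val n = 0 := by
    intro n z hz
    have := AdicCompletion.pow_smul_top_le_ker_eval (M := M) I n hz
    simpa [LinearMap.mem_ker, AdicCompletion.eval_apply] using this
  constructor
  · intro hc n x
    have hp : IsPrecomplete I (AdicCompletion I M) := hc.toIsPrecomplete
    choose lift hlift using fun k => Submodule.mkQ_surjective (I ^ k • ⊤ : Submodule A M) (x.val k)
    have hcauchy : ∀ {m k : ℕ}, m ≤ k →
        AdicCompletion.of I M (lift m) ≡ AdicCompletion.of I M (lift k)
          [SMOD (I ^ m • ⊤ : Submodule A (AdicCompletion I M))] := by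
      intro m k hmk
      rw [SModEq.sub_mem, ← map_sub]
      apply hof
      rw [← Submodule.Quotient.mk_eq_zero, Submodule.Quotient.mk_sub]
      have h1 : Submodule.Quotient.mk (p := (I ^ m • ⊤ : Submodule A M)) (lift m) = x.val m :=
        hlift m
      have h2 : Submodule.Quotient.mk (p := (I ^ m • ⊤ : Submodule A M)) (lift k) = x.val m := by
        rw [← x.prop hmk, ← hlift k]
        rfl
      rw [h1, h2, sub_self]
    obtain ⟨L, hL⟩ := hp.prec hcauchy
    have hLx : L = x := by
      apply AdicCompletion.ext
      intro k
      have := hker k _ (SModEq.sub_mem.1 (hL k))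
      rw [AdicCompletion.val_sub_apply, AdicCompletion.of_apply, sub_eq_zero] at this
      rw [← this]
      exact hlift k
    refine ⟨lift n, ?_⟩
    have := SModEq.sub_mem.1 (hL n)
    rw [hLx] at this
    rw [← neg_sub]
    exact Submodule.neg_mem _ this
  · intro h
    have key : ∀ (n : ℕ) (z : AdicCompletion I M), z.val n = 0 →
        z ∈ (I ^ n • ⊤ : Submodule A (AdicCompletion I M)) := by
      intro n z hz
      obtain ⟨y, hy⟩ := h n z
      have h1 := hker n _ hy
      rw [AdicCompletion.val_sub_apply, AdicCompletion.of_apply, hz, zero_sub, neg_eq_zero] at h1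
      have h2 : y ∈ (I ^ n • ⊤ : Submodule A M) := (Submodule.Quotient.mk_eq_zero _).1 h1
      have h3 := Submodule.add_mem _ hy (hof n y h2)
      simpa using h3
    refine { toIsHausdorff := inferInstance, toIsPrecomplete := ⟨fun f hf => ?_⟩ }
    have hcoh : ∀ {m n : ℕ}, m ≤ n → (f n).val m = (f m).val m := by
      intro m n hmn
      have := hker m _ (SModEq.sub_mem.1 (hf hmn))
      rw [AdicCompletion.val_sub_apply, sub_eq_zero] at this
      exact this.symm
    let L : AdicCompletion I M := ⟨fun n => (f n).val n, by
      intro m n hmn
      rw [(f n).prop hmn]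
      exact hcoh hmn⟩
    refine ⟨L, fun n => ?_⟩
    rw [SModEq.sub_mem]
    apply key
    rw [AdicCompletion.val_sub_apply]
    exact sub_self _

end Groth.Agent.S17537
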