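import Groth.Statements.S17539
import Groth.Agent.S17537
import Mathlib.RingTheory.AdicCompletion.Functoriality

set_option autoImplicit false
universe u v w
open W4c5adicflatcompl
open CAlg

namespace Groth.Agent.S17539

theorem mem_smul_top_finsupp {A : Type u} [CommRing A] {Z : Type v} {M : Type w}
    [AddCommGroup M] [Module A M] (J : Ideal A) (f : Z →₀ M) :
    f ∈ (J • ⊤ : Submodule A (Z →₀ M)) ↔ ∀ z, f z ∈ (J • ⊤ : Submodule A M) := by
  classical
  constructor
  · intro hf z
    have h2 : Finsupp.lapply (R := A) z f ∈
        Submodule.map (Finsupp.lapply (R := A) (M := M) z) (J • ⊤) :=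
      Submodule.mem_map_of_mem hf
    rw [Submodule.map_smul''] at h2
    exact Submodule.smul_mono le_rfl le_top h2
  · intro hf
    rw [← Finsupp.sum_single f]
    apply Submodule.sum_mem
    intro z _
    have h2 : Finsupp.lsingle (R := A) z (f z) ∈
        Submodule.map (Finsupp.lsingle (R := A) (M := M) z) (J • ⊤) :=
      Submodule.mem_map_of_mem (hf z)
    rw [Submodule.map_smul''] at h2
    exact Submodule.smul_mono le_rfl le_top h2

theorem val_eq_zero_of_mem {A : Type u} [CommRing A] (I : Ideal A) {M : Type w}
    [AddCommGroup M] [Module A M] (n : ℕ) (z : AdicCompletion I M)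
    (hz : z ∈ (I ^ n • ⊤ : Submodule A (AdicCompletion I M))) : z.val n = 0 := by
  have := AdicCompletion.pow_smul_top_le_ker_eval (M := M) I n hz
  simpa [LinearMap.mem_ker, AdicCompletion.eval_apply] using this

theorem mem_of_val_eq_zero {A : Type u} [CommRing A] (I : Ideal A) {M : Type w}
    [AddCommGroup M] [Module A M] [IsAdicComplete I (AdicCompletion I M)]
    (n : ℕ) (z : AdicCompletion I M) (hz : z.val n = 0) :
    z ∈ (I ^ n • ⊤ : Submodule A (AdicCompletion I M)) := by
  obtain ⟨y, hy⟩ := (Groth.Agent.S17537.result I M).1 inferInstance n z
  have h1 := val_eq_zero_of_mem I n _ hy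
  rw [AdicCompletion.val_sub_apply, AdicCompletion.of_apply, hz, zero_sub, neg_eq_zero] at h1
  have h2 : y ∈ (I ^ n • ⊤ : Submodule A M) := (Submodule.Quotient.mk_eq_zero _).1 h1
  have h3 : AdicCompletion.of I M y ∈ (I ^ n • ⊤ : Submodule A (AdicCompletion I M)) := by
    have h4 : AdicCompletion.of I M y ∈ Submodule.map (AdicCompletion.of I M) (I ^ n • ⊤) :=
      Submodule.mem_map_of_mem h2
    rw [Submodule.map_smul''] at h4
    exact Submodule.smul_mono le_rfl le_top h4
  have h5 := Submodule.add_mem _ hy h3
  simpa using h5

/-- For a commutative ring A, an ideal I, a set Z and an A-module M whose I-adic completion M^ is itself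
I-adically complete, the canonical map from the I-adic completion of Z →₀ M to the functions Z → M^,
whose z-th coordinate is the completion of evaluation at z, is injective with image the I-adically
decaying functions Z → M^. (The source states bijectivity of the inverse map, from decaying
functions to the limit of the finitely supported functions Z → M/I^n M, induced by the projections
M^ → M/I^n M; the two formulations are equivalent.) -/
theorem result {A : Type u} [CommRing A] (I : Ideal A) (Z : Type v)
    (M : Type w) [AddCommGroup M] [Module A M] [IsAdicComplete I (AdicCompletion I M)] :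
    Function.Injective
        (LinearMap.pi fun z : Z =>
          (AdicCompletion.map I (Finsupp.lapply (M := M) (R := A) z)).restrictScalars A) ∧
      LinearMap.range
        (LinearMap.pi fun z : Z =>
          (AdicCompletion.map I (Finsupp.lapply (M := M) (R := A) z)).restrictScalars A) =
        decaying I Z (AdicCompletion I M) := by
  classical
  have hval : ∀ (x : AdicCompletion I (Z →₀ M)) (z : Z) (n : ℕ) (g : Z →₀ M),
      Submodule.Quotient.mk (p := (I ^ n • ⊤ : Submodule A (Z →₀ M))) g = x.val n →
      ((LinearMap.pi fun z : Z =>
          (AdicCompletion.map I (Finsupp.lapply (M := M) (R := A) z)).restrictScalars A) x z).val n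
        = Submodule.Quotient.mk (p := (I ^ n • ⊤ : Submodule A M)) (g z) := by
    intro x z n g hg
    simp only [LinearMap.pi_apply, LinearMap.coe_restrictScalars, AdicCompletion.map_val_apply]
    rw [← hg]
    rfl
  constructor
  · rw [injective_iff_map_eq_zero]
    intro x hx
    apply AdicCompletion.ext
    intro n
    obtain ⟨g, hg⟩ := Submodule.mkQ_surjective _ (x.val n)
    rw [Submodule.mkQ_apply] at hg
    rw [AdicCompletion.val_zero_apply, ← hg, Submodule.Quotient.mk_eq_zero, mem_smul_top_finsupp]
    intro z
    have := hval x z n g hg
    rw [hx] at this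
    rw [← Submodule.Quotient.mk_eq_zero, ← this]
    rfl
  · ext f
    constructor
    · rintro ⟨x, rfl⟩ n
      obtain ⟨g, hg⟩ := Submodule.mkQ_surjective _ (x.val n)
      rw [Submodule.mkQ_apply] at hg
      refine g.support.finite_toSet.subset ?_
      intro z hz
      by_contra hzs
      apply hz
      apply mem_of_val_eq_zero
      rw [hval x z n g hg]
      have : g z = 0 := by simpa using hzs
      rw [this]
      rfl
    · intro hf
      rw [mem_decaying_iff] at hf
      choose lift hlift using fun (n : ℕ) (z : Z) =>
        Submodule.mkQ_surjective (I ^ n • ⊤ : Submodule A M) ((f z).val n)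
      let g : ℕ → (Z →₀ M) := fun n =>
        Finsupp.onFinset (hf n).toFinset
          (fun z => if f z ∈ (I ^ n • ⊤ : Submodule A (AdicCompletion I M)) then 0 else lift n z)
          (by
            intro z hz
            rw [Set.Finite.mem_toFinset]
            intro hmem
            exact hz (if_pos hmem))
      have hg : ∀ n z, Submodule.Quotient.mk (p := (I ^ n • ⊤ : Submodule A M)) (g n z) =
          (f z).val n := by
        intro n z
        simp only [g, Finsupp.onFinset_apply]
        split_ifs with hmem
        · rw [val_eq_zero_of_mem I n _ hmem]; rfl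
        · exact hlift n z
      let x : AdicCompletion I (Z →₀ M) :=
        ⟨fun n => Submodule.Quotient.mk (g n), by
          intro m n hmn
          change Submodule.Quotient.mk (p := (I ^ m • ⊤ : Submodule A (Z →₀ M))) (g n) =
            Submodule.Quotient.mk (g m)
          rw [Submodule.Quotient.eq, mem_smul_top_finsupp]
          intro z
          rw [Finsupp.sub_apply, ← Submodule.Quotient.eq, hg m z, ← (f z).prop hmn, ← hg n z]
          rfl⟩
      refine ⟨x, ?_⟩
      funext z
      apply AdicCompletion.ext
      intro n
      rw [hval x z n (g n) rfl]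
      exact hg n z

end Groth.Agent.S17539
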