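import Groth.Statements.S0550
import Groth.Agent.S17539
import Groth.Agent.Lib.AdicDecaying
import Groth.Agent.Lib.AdicNoeth
import Mathlib.RingTheory.AdicCompletion.AsTensorProduct
import Mathlib.RingTheory.Flat.Stability

set_option autoImplicit false
universe u
open CAlg

namespace Groth.Agent.S0550

/-- Over a Noetherian ring `R` with an ideal `I`, the `I`-adic completion of a free module (on any index
set) is a flat `R`-module. -/
theorem result (R : Type u) [CommRing R] [IsNoetherianRing R]
    (I : Ideal R) (α : Type u) : Module.Flat R (AdicCompletion I (α →₀ R)) := by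
  classical
  have hI : I.FG := IsNoetherian.noetherian I
  have hc : IsAdicComplete I (AdicCompletion I R) := AdicCompletion.isAdicComplete hI
  -- step 1: the completion is the module of decaying functions with values in the completion
  obtain ⟨hinj, hrange⟩ := Groth.Agent.S17539.result I α R
  let e1 : AdicCompletion I (α →₀ R) ≃ₗ[R]
      W4c5adicflatcompl.decaying I α (AdicCompletion I R) :=
    (LinearEquiv.ofInjective _ hinj).trans (LinearEquiv.ofEq _ _ hrange)
  -- step 2: flatness over the completed ring, then over `R`
  have hNoeth : IsNoetherianRing (AdicCompletion I R) :=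
    Groth.Agent.Lib.AdicNoeth.isNoetherianRing_adicCompletion I
  have hch : IsAdicComplete (I.map (algebraMap R (AdicCompletion I R))) (AdicCompletion I R) :=
    AdicCompletion.isAdicComplete_self I hI
  have hjac : I.map (algebraMap R (AdicCompletion I R)) ≤ Ideal.jacobson ⊥ :=
    IsAdicComplete.le_jacobson_bot _
  have hflat1 : Module.Flat (AdicCompletion I R)
      (W4c5adicflatcompl.decaying (I.map (algebraMap R (AdicCompletion I R))) α
        (AdicCompletion I R)) :=
    Groth.Agent.Lib.AdicDecaying.flat_decaying _ hjac
  have hflat2 : Module.Flat R
      (W4c5adicflatcompl.decaying (I.map (algebraMap R (AdicCompletion I R))) α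
        (AdicCompletion I R)) :=
    Module.Flat.trans R (AdicCompletion I R) _
  -- step 3: the two modules of decaying functions coincide
  have hcarrier : ∀ (n : ℕ) (x : AdicCompletion I R),
      x ∈ ((I.map (algebraMap R (AdicCompletion I R))) ^ n • ⊤ :
        Submodule (AdicCompletion I R) (AdicCompletion I R)) ↔
      x ∈ (I ^ n • ⊤ : Submodule R (AdicCompletion I R)) := by
    intro n x
    have h := Submodule.restrictScalars_map_smul_eq (R := AdicCompletion I R) (I ^ n)
      (⊤ : Submodule (AdicCompletion I R) (AdicCompletion I R))
    rw [Submodule.restrictScalars_top, Ideal.map_pow] at h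
    rw [← h]
    exact Iff.rfl
  let e2 : W4c5adicflatcompl.decaying I α (AdicCompletion I R) ≃ₗ[R]
      W4c5adicflatcompl.decaying (I.map (algebraMap R (AdicCompletion I R))) α
        (AdicCompletion I R) :=
    { toFun := fun f => ⟨f.1, fun n => (f.2 n).subset fun z hz hcon => hz
        ((hcarrier n _).mpr hcon)⟩
      invFun := fun f => ⟨f.1, fun n => (f.2 n).subset fun z hz hcon => hz
        ((hcarrier n _).mp hcon)⟩
      map_add' := fun f g => rfl
      map_smul' := fun a f => by
        apply Subtype.ext
        funext z
        rfl
      left_inv := fun f => rfl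
      right_inv := fun f => rfl }
  exact Module.Flat.of_linearEquiv (e1.trans e2)

end Groth.Agent.S0550
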