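import Groth.Statements.S0551
import Groth.Agent.Lib.CompleteFlat89b

set_option autoImplicit false
universe u
open CAlg
open TensorProduct

namespace Groth.Agent.S0551

/-- Let `R` be a ring, `I` a finitely generated ideal with `R/I` Noetherian, and `M` an `R`-module such
that `M/IM` is flat over `R/I` and the multiplication map `I ⊗ M → M` is injective (the vanishing of
the first Tor of `M` against `R/I`). Then the `I`-adic completion of `M` is flat over the `I`-adic
completion of `R`. (The published statement also records that the completed ring is Noetherian; that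
is stated separately.) -/
theorem result (R : Type u) [CommRing R] (I : Ideal R) (hI : I.FG)
    [IsNoetherianRing (R ⧸ I)] (M : Type u) [AddCommGroup M] [Module R M]
    [Module.Flat (R ⧸ I) (M ⧸ (I • ⊤ : Submodule R M))]
    (hT : Function.Injective (TensorProduct.lift ((LinearMap.lsmul R M).comp (Submodule.subtype I)))) :
    Module.Flat (AdicCompletion I R) (AdicCompletion I M) := by
  classical
  -- `Tor₁(R/I, M) = 0`
  have h1' : Function.Injective (I.subtype.rTensor M) := by
    have hcomp : ∀ t : I ⊗[R] M,
        TensorProduct.lift ((LinearMap.lsmul R M).comp (Submodule.subtype I)) t =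
          TensorProduct.lid R M (I.subtype.rTensor M t) := by
      intro t
      induction t with
      | zero => simp
      | tmul a m => simp
      | add x y hx hy => simp only [map_add, hx, hy]
    intro x y hxy
    apply hT
    rw [hcomp, hcomp, hxy]
  have h1 : Groth.Agent.Lib.FlatCrit.Tor1Zero R (R ⧸ I) M :=
    (Groth.Agent.Lib.FlatCrit.tor1Zero_quotient_iff I).mpr h1'
  -- `M/IM` flat in tensor form
  have hfl : Module.Flat (R ⧸ I) ((R ⧸ I) ⊗[R] M) :=
    Module.Flat.of_linearEquiv
      ((TensorProduct.quotTensorEquivQuotSMul M I).extendScalarsOfSurjective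
        Ideal.Quotient.mk_surjective)
  exact Groth.Agent.Lib.CompleteFlat89.flat_adicCompletion I hI M fun n _ =>
    Groth.Agent.Lib.FlatCrit.flat_quotient_pow_of_tor1Zero I h1 n

end Groth.Agent.S0551
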