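import Groth.Statements.S0556
import Groth.Agent.Lib.KrullAkizuki

set_option autoImplicit false
universe u
open CAlg

namespace Groth.Agent.S0556

/-- Any domain `A` sandwiched between a one-dimensional Noetherian domain `R` and a field `L` of finite
degree over the fraction field of `R` is itself Noetherian. -/
theorem result (R : Type u) [CommRing R]
    [IsDomain R] [IsNoetherianRing R] (hdim : ringKrullDim R = 1) (K L : Type u) [Field K] [Field L]
    [Algebra R K] [IsFractionRing R K] [Algebra K L] [FiniteDimensional K L] [Algebra R L]
    [IsScalarTower R K L] (A : Type u) [CommRing A] [Algebra R A] [Algebra A L]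
    [IsScalarTower R A L] (hA : Function.Injective (algebraMap A L)) :
    IsNoetherianRing A := by
  have : Ring.KrullDimLE 1 R := by
    rw [Ring.krullDimLE_iff, hdim]
    rfl
  exact Groth.Agent.Lib.KrullAkizuki.isNoetherianRing_of_between (R := R) (K := K) (L := L) hA

end Groth.Agent.S0556

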