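import Groth.Statements.S0563
import Groth.Agent.Lib.H87GlDim
import Groth.Agent.Lib.RegularLocal

set_option autoImplicit false
universe u
open CategoryTheory
open CAlg

namespace Groth.Agent.S0563

/-- Over a regular local ring R of Krull dimension d, every R-module has projective dimension at most d
(encoded as `HasProjectiveDimensionLT _ (d + 1)`). -/
theorem hasProjectiveDimensionLT_residueField (R : Type u) [CommRing R]
    [IsRegularLocalRing R] (d : ℕ) (hd : ringKrullDim R = d) :
    HasProjectiveDimensionLT (ModuleCat.of R (IsLocalRing.ResidueField R)) (d + 1) := by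
  have : IsRegularLocalRing (R ⧸ IsLocalRing.maximalIdeal R) := by
    change IsRegularLocalRing (IsLocalRing.ResidueField R)
    infer_instance
  obtain ⟨x, c, hc, hx, -⟩ := Groth.Agent.Lib.RegularLocal.exists_generators R d hd
    (IsLocalRing.maximalIdeal R)
  have hreg := Groth.Agent.Lib.RegularLocal.isRegular_ofFn R d hd x hx
  have hpd := ModuleCat.projectiveDimension_quotient_eq_length.{u} (List.ofFn x) hreg
  have hlist : Ideal.ofList (List.ofFn x) = IsLocalRing.maximalIdeal R := by
    rw [← hx, Ideal.ofList]
    congr 1
    ext r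
    simp [List.mem_ofFn]
  have hle : HasProjectiveDimensionLE
      (ModuleCat.of R (Shrink.{u} (R ⧸ Ideal.ofList (List.ofFn x)))) d := by
    rw [← projectiveDimension_le_iff, hpd]
    simp
  let e : Shrink.{u} (R ⧸ Ideal.ofList (List.ofFn x)) ≃ₗ[R] IsLocalRing.ResidueField R :=
    (Shrink.linearEquiv R _).trans (Submodule.quotEquivOfEq _ _ hlist)
  exact hasProjectiveDimensionLT_of_iso e.toModuleIso (d + 1)

theorem result (R : Type u) [CommRing R]
    [IsRegularLocalRing R] (d : ℕ) (hd : ringKrullDim R = d) (M : Type u) [AddCommGroup M]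
    [Module R M] : HasProjectiveDimensionLT (ModuleCat.of R M) (d + 1) := by
  exact Groth.Agent.Lib.H87GlDim.hasProjectiveDimensionLT_of_residueField d
    (hasProjectiveDimensionLT_residueField R d hd) (ModuleCat.of R M)

end Groth.Agent.S0563
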