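import Groth.Statements.S0577
import Groth.Agent.Lib.NagataAnalytic98

set_option autoImplicit false
universe u
open CAlg

namespace Groth.Agent.S0577

open IsLocalRing TensorProduct Polynomial

set_option maxHeartbeats 800000

/-- Let `A` be a Noetherian local domain of prime characteristic `p` which is a Nagata ring. If `a ∈ A`
has a `p`-th root in the completion of `A`, then it has a `p`-th root in `A`. -/
theorem result (A : Type u) [CommRing A] [IsDomain A]
    [IsLocalRing A] (hA : CAlg.IsNagata A) (p : ℕ) [Fact p.Prime] [CharP A p] (a : A)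
    (h : ∃ α : AdicCompletion (IsLocalRing.maximalIdeal A) A,
      α ^ p = algebraMap A (AdicCompletion (IsLocalRing.maximalIdeal A) A) a) :
    ∃ b : A, b ^ p = a := by
  classical
  haveI : IsNoetherianRing A := hA.1
  obtain ⟨α, hα⟩ := h
  have hp : p.Prime := Fact.out
  haveI hflat : Module.Flat A (AdicCompletion (maximalIdeal A) A) :=
    AdicCompletion.flat_of_isNoetherian _
  haveI hff : Module.FaithfullyFlat A (AdicCompletion (maximalIdeal A) A) :=
    Module.FaithfullyFlat.of_flat_of_isLocalHom
  have hιinj : Function.Injective (algebraMap A (AdicCompletion (maximalIdeal A) A)) :=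
    FaithfulSMul.algebraMap_injective A _
  haveI : CharP (AdicCompletion (maximalIdeal A) A) p := charP_of_injective_algebraMap hιinj p
  have hred : IsReduced (AdicCompletion (maximalIdeal A) A) :=
    Groth.Agent.Lib.NagataAnalytic98.isReduced_completion A hA
  by_cases hK : ∃ β : FractionRing A, β ^ p = algebraMap A (FractionRing A) a
  · obtain ⟨β, hβ⟩ := hK
    obtain ⟨c, d, hd, rfl⟩ := IsFractionRing.div_surjective (A := A) β
    have hd0 : d ≠ 0 := nonZeroDivisors.ne_zero hd
    have hdK : algebraMap A (FractionRing A) d ≠ 0 :=
      IsFractionRing.to_map_ne_zero_of_mem_nonZeroDivisors hd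
    have h1 : c ^ p = a * d ^ p := by
      apply IsFractionRing.injective A (FractionRing A)
      rw [map_mul, map_pow, map_pow, ← hβ, div_pow, div_mul_cancel₀ _ (pow_ne_zero p hdK)]
    have h2 : (algebraMap A (AdicCompletion (maximalIdeal A) A) c
        - α * algebraMap A (AdicCompletion (maximalIdeal A) A) d) ^ p = 0 := by
      rw [sub_pow_char, mul_pow, hα, ← map_pow, ← map_pow, ← map_mul, h1, sub_self]
    have h3 : algebraMap A (AdicCompletion (maximalIdeal A) A) c
        = α * algebraMap A (AdicCompletion (maximalIdeal A) A) d :=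
      sub_eq_zero.mp (IsReduced.eq_zero _ ⟨p, h2⟩)
    have h4 : c ∈ Ideal.span {d} := by
      rw [← Ideal.comap_map_eq_self_of_faithfullyFlat (B := AdicCompletion (maximalIdeal A) A)
        (Ideal.span {d}), Ideal.mem_comap, h3, Ideal.map_span, Set.image_singleton]
      exact Ideal.mul_mem_left _ _ (Ideal.mem_span_singleton_self _)
    obtain ⟨b, hb⟩ := Ideal.mem_span_singleton'.mp h4
    refine ⟨b, ?_⟩
    have : b ^ p * d ^ p = a * d ^ p := by rw [← mul_pow, hb, h1]
    exact mul_right_cancel₀ (pow_ne_zero p hd0) this
  · exfalso
    push Not at hK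
    have hirr : Irreducible (X ^ p - C (algebraMap A (FractionRing A) a) :
        Polynomial (FractionRing A)) := X_pow_sub_C_irreducible_of_prime hp hK
    haveI : Fact (Irreducible (X ^ p - C (algebraMap A (FractionRing A) a) :
        Polynomial (FractionRing A))) := ⟨hirr⟩
    have hf0 : (X ^ p - C (algebraMap A (FractionRing A) a) : Polynomial (FractionRing A)) ≠ 0 :=
      hirr.ne_zero
    have hxp : (AdjoinRoot.root (X ^ p - C (algebraMap A (FractionRing A) a) :
        Polynomial (FractionRing A))) ^ p = algebraMap A (AdjoinRoot (X ^ p -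
          C (algebraMap A (FractionRing A) a) : Polynomial (FractionRing A))) a := by
      have h0 := AdjoinRoot.eval₂_root (X ^ p - C (algebraMap A (FractionRing A) a) :
        Polynomial (FractionRing A))
      rw [eval₂_sub, eval₂_pow, eval₂_X, eval₂_C, sub_eq_zero] at h0
      rw [h0, IsScalarTower.algebraMap_apply A (FractionRing A) (AdjoinRoot _),
        AdjoinRoot.algebraMap_eq]
    haveI : IsDomain (AdjoinRoot (X ^ p - C (algebraMap A (FractionRing A) a) :
        Polynomial (FractionRing A))) := AdjoinRoot.isDomain_of_prime hirr.prime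
    have hxint : IsIntegral A (AdjoinRoot.root (X ^ p - C (algebraMap A (FractionRing A) a) :
        Polynomial (FractionRing A))) := by
      refine ⟨X ^ p - C a, monic_X_pow_sub_C a hp.ne_zero, ?_⟩
      rw [eval₂_sub, eval₂_pow, eval₂_X, eval₂_C, hxp, sub_self]
    haveI hfinC : Module.Finite A (Algebra.adjoin A {AdjoinRoot.root (X ^ p -
        C (algebraMap A (FractionRing A) a) : Polynomial (FractionRing A))}) :=
      Algebra.finite_adjoin_simple_of_isIntegral hxint
    have hCT := Groth.Agent.Lib.NagataAnalytic98.isReduced_tensor_of_isDomain A hA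
      (Algebra.adjoin A {AdjoinRoot.root (X ^ p -
        C (algebraMap A (FractionRing A) a) : Polynomial (FractionRing A))})
    -- abbreviations
    set L := AdjoinRoot (X ^ p - C (algebraMap A (FractionRing A) a) :
        Polynomial (FractionRing A)) with hL
    set x : L := AdjoinRoot.root (X ^ p - C (algebraMap A (FractionRing A) a) :
        Polynomial (FractionRing A)) with hx
    set Cx : Subalgebra A L := Algebra.adjoin A {x} with hCx
    let xC : Cx := ⟨x, Algebra.subset_adjoin (Set.mem_singleton x)⟩
    have hxCp : xC ^ p = algebraMap A Cx a := Subtype.ext (by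
      show x ^ p = algebraMap A L a
      exact hxp)
    have hALinj : Function.Injective (algebraMap A L) := by
      rw [IsScalarTower.algebraMap_eq A (FractionRing A) L]
      exact (algebraMap (FractionRing A) L).injective.comp (IsFractionRing.injective A _)
    have hACinj : Function.Injective (algebraMap A Cx) := by
      intro r s hrs
      apply hALinj
      exact congrArg Subtype.val hrs
    have hinjT : Function.Injective (algebraMap A (Cx ⊗[A] AdicCompletion (maximalIdeal A) A)) := by
      have h1 : Function.Injective (Algebra.TensorProduct.includeRight :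
          AdicCompletion (maximalIdeal A) A →ₐ[A] Cx ⊗[A] AdicCompletion (maximalIdeal A) A) :=
        Algebra.TensorProduct.includeRight_injective hACinj
      have h2 : ⇑(algebraMap A (Cx ⊗[A] AdicCompletion (maximalIdeal A) A)) =
          (Algebra.TensorProduct.includeRight :
            AdicCompletion (maximalIdeal A) A →ₐ[A] Cx ⊗[A] AdicCompletion (maximalIdeal A) A) ∘
            (algebraMap A (AdicCompletion (maximalIdeal A) A)) :=
        funext fun r => (AlgHom.commutes _ r).symm
      rw [h2]; exact h1.comp hιinj
    haveI : CharP (Cx ⊗[A] AdicCompletion (maximalIdeal A) A) p :=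
      charP_of_injective_algebraMap hinjT p
    have hsm : (algebraMap A Cx a) ⊗ₜ[A] (1 : AdicCompletion (maximalIdeal A) A)
        = (1 : Cx) ⊗ₜ[A] (algebraMap A (AdicCompletion (maximalIdeal A) A) a) := by
      rw [Algebra.algebraMap_eq_smul_one (R := A) (A := Cx) a,
        Algebra.algebraMap_eq_smul_one (R := A) (A := AdicCompletion (maximalIdeal A) A) a,
        TensorProduct.smul_tmul]
    have hz : (xC ⊗ₜ[A] (1 : AdicCompletion (maximalIdeal A) A) - (1 : Cx) ⊗ₜ[A] α) ^ p = 0 := by
      rw [sub_pow_char, Algebra.TensorProduct.tmul_pow, Algebra.TensorProduct.tmul_pow, one_pow,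
        one_pow, hxCp, hα, hsm, sub_self]
    have hz0 : xC ⊗ₜ[A] (1 : AdicCompletion (maximalIdeal A) A) = (1 : Cx) ⊗ₜ[A] α :=
      sub_eq_zero.mp (IsReduced.eq_zero _ ⟨p, hz⟩)
    -- the coordinate functional
    let pb := AdjoinRoot.powerBasis hf0
    have hdim : pb.dim = p := by
      show (X ^ p - C (algebraMap A (FractionRing A) a) : Polynomial (FractionRing A)).natDegree = p
      exact natDegree_X_pow_sub_C
    have hgen : pb.gen = x := rfl
    let i0 : Fin pb.dim := ⟨0, by rw [hdim]; exact hp.pos⟩
    let i1 : Fin pb.dim := ⟨1, by rw [hdim]; exact hp.one_lt⟩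
    have hb1 : pb.basis i1 = x := by rw [pb.basis_eq_pow i1, hgen]; exact pow_one x
    have hb0 : pb.basis i0 = 1 := by rw [pb.basis_eq_pow i0]; exact pow_zero _
    have hne : i0 ≠ i1 := by
      intro h; have := congrArg Fin.val h; simp [i0, i1] at this
    let lK : L →ₗ[FractionRing A] FractionRing A := pb.basis.coord i1
    have hlx : lK x = 1 := by
      show pb.basis.coord i1 x = 1
      rw [← hb1, Module.Basis.coord_apply, Module.Basis.repr_self, Finsupp.single_eq_same]
    have hl1 : lK 1 = 0 := by
      show pb.basis.coord i1 1 = 0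
      rw [← hb0, Module.Basis.coord_apply, Module.Basis.repr_self]
      exact Finsupp.single_eq_of_ne hne.symm
    let l : Cx →ₗ[A] FractionRing A := (lK.restrictScalars A).comp Cx.val.toLinearMap
    have hlxC : l xC = 1 := hlx
    have hl1C : l 1 = 0 := hl1
    have h10 : (1 : FractionRing A) ⊗ₜ[A] (1 : AdicCompletion (maximalIdeal A) A) = 0 := by
      have := congrArg (LinearMap.rTensor (AdicCompletion (maximalIdeal A) A) l) hz0
      rw [LinearMap.rTensor_tmul, LinearMap.rTensor_tmul, hlxC, hl1C, TensorProduct.zero_tmul]
        at this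
      exact this
    have hinjK : Function.Injective (Algebra.TensorProduct.includeRight :
        AdicCompletion (maximalIdeal A) A →ₐ[A]
          FractionRing A ⊗[A] AdicCompletion (maximalIdeal A) A) :=
      Algebra.TensorProduct.includeRight_injective (IsFractionRing.injective A (FractionRing A))
    have : (1 : AdicCompletion (maximalIdeal A) A) = 0 := by
      apply hinjK
      rw [map_zero]
      exact h10
    exact one_ne_zero this

end Groth.Agent.S0577
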