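import Groth.Statements.S0586
import Mathlib.LinearAlgebra.TensorProduct.Vanishing
import Mathlib.LinearAlgebra.TensorProduct.Finiteness
import Mathlib.Algebra.Colimit.TensorProduct
import Mathlib.RingTheory.Flat.FaithfullyFlat.Algebra
import Mathlib.LinearAlgebra.TensorProduct.Tower

set_option autoImplicit false
universe u
open CAlg

namespace Groth.Agent.S0586

open TensorProduct

section Pure

variable {R : Type*} [CommRing R]

/-- A linear map `g : A → B` lifts solutions of finite linear systems: whenever a finite system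
`g (x j) = ∑ t, a j t • y t` is solvable in `B`, the system `x j = ∑ t, a j t • y' t` is solvable in `A`. -/
def LiftsSystems {A B : Type*} [AddCommGroup A] [Module R A] [AddCommGroup B] [Module R B]
    (g : A →ₗ[R] B) : Prop :=
  ∀ (J : Type) [Fintype J] (l : ℕ) (a : J → Fin l → R) (x : J → A),
    (∃ y : Fin l → B, ∀ j, g (x j) = ∑ t, a j t • y t) →
      ∃ y' : Fin l → A, ∀ j, x j = ∑ t, a j t • y' t

lemma LiftsSystems.pi {ι : Type*} {A B : ι → Type*} [∀ i, AddCommGroup (A i)] [∀ i, Module R (A i)]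
    [∀ i, AddCommGroup (B i)] [∀ i, Module R (B i)] (g : ∀ i, A i →ₗ[R] B i)
    (hg : ∀ i, LiftsSystems (g i)) :
    LiftsSystems (LinearMap.pi fun i => (g i).comp (LinearMap.proj i) :
      (∀ i, A i) →ₗ[R] (∀ i, B i)) := by
  intro J _ l a x ⟨y, hy⟩
  have : ∀ i, ∃ y' : Fin l → A i, ∀ j, x j i = ∑ t, a j t • y' t := by
    intro i
    apply hg i J l a (fun j => x j i)
    refine ⟨fun t => y t i, fun j => ?_⟩
    have := congrFun (hy j) i
    simpa using this
  choose y' hy' using this
  refine ⟨fun t i => y' i t, fun j => ?_⟩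
  funext i
  simp [hy' i j]

lemma LiftsSystems.lTensor_injective {A B : Type*} [AddCommGroup A] [Module R A]
    [AddCommGroup B] [Module R B] (g : A →ₗ[R] B) (hg : LiftsSystems g)
    (N : Type*) [AddCommGroup N] [Module R N] :
    Function.Injective (g.lTensor N) := by
  rw [injective_iff_map_eq_zero]
  intro z hz
  obtain ⟨k, n, x, rfl⟩ := exists_sum_tmul_eq z
  simp only [map_sum, LinearMap.lTensor_tmul] at hz
  set N₀ : Submodule R N := Submodule.span R (Set.range n) with hN₀
  have hN₀fg : N₀.FG := Submodule.fg_span (Set.finite_range n)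
  have hmem₀ : ∀ j, n j ∈ N₀ := fun j => Submodule.subset_span ⟨j, rfl⟩
  have h0 : N₀.subtype.rTensor B (∑ j, (⟨n j, hmem₀ j⟩ : N₀) ⊗ₜ[R] g (x j)) =
      N₀.subtype.rTensor B 0 := by
    simp only [map_sum, LinearMap.rTensor_tmul, Submodule.subtype_apply, map_zero]
    exact hz
  obtain ⟨N', hN'fg, hle, h1⟩ := hN₀fg.exists_rTensor_fg_inclusion_eq h0
  simp only [map_sum, LinearMap.rTensor_tmul, map_zero] at h1
  obtain ⟨l, u, hu⟩ := Submodule.fg_iff_exists_fin_generating_family.1 hN'fg
  have hmemu : ∀ s, u s ∈ N' := fun s => hu ▸ Submodule.subset_span ⟨s, rfl⟩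
  let m' : Fin k ⊕ Fin l → N' :=
    Sum.elim (fun j => N₀.inclusion hle ⟨n j, hmem₀ j⟩) (fun s => ⟨u s, hmemu s⟩)
  let x' : Fin k ⊕ Fin l → A := Sum.elim x 0
  have hm' : Submodule.span R (Set.range m') = ⊤ := by
    rw [eq_top_iff]
    apply (Submodule.map_le_map_iff_of_injective N'.injective_subtype _ _).1
    rw [Submodule.map_top, Submodule.range_subtype, Submodule.map_span]
    refine hu.ge.trans (Submodule.span_mono ?_)
    rintro _ ⟨s, rfl⟩
    exact ⟨m' (Sum.inr s), ⟨_, rfl⟩, rfl⟩
  have hsum : ∑ i, m' i ⊗ₜ[R] g (x' i) = 0 := by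
    rw [Fintype.sum_sum_type]
    simp only [m', x', Sum.elim_inl, Sum.elim_inr, Pi.zero_apply, map_zero, tmul_zero,
      Finset.sum_const_zero, add_zero]
    exact h1
  obtain ⟨k', a, y, hy1, hy2⟩ := vanishesTrivially_of_sum_tmul_eq_zero R hm' hsum
  obtain ⟨y', hy'⟩ := hg (Fin k ⊕ Fin l) k' a x' ⟨y, hy1⟩
  have hvan : ∑ i, m' i ⊗ₜ[R] x' i = 0 :=
    sum_tmul_eq_zero_of_vanishesTrivially R ⟨k', a, y', hy', hy2⟩
  have := congrArg (N'.subtype.rTensor A) hvan
  rw [Fintype.sum_sum_type] at this
  simpa [m', x'] using this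

lemma liftsSystems_mk (S : Type*) [CommRing S] [Algebra R S]
    [Module.FaithfullyFlat R S] (Q : Type*) [AddCommGroup Q] [Module R Q] :
    LiftsSystems (TensorProduct.mk R S Q 1) := by
  classical
  intro J _ l a x ⟨y, hy⟩
  let φ : (Fin l → Q) →ₗ[R] (J → Q) := LinearMap.pi fun j => ∑ t, a j t • LinearMap.proj t
  have hφ : ∀ v j, φ v j = ∑ t, a j t • v t := by
    intro v j
    simp [φ]
  suffices hx : x ∈ LinearMap.range φ by
    obtain ⟨y', hy'⟩ := hx
    exact ⟨y', fun j => by rw [← hy', hφ]⟩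
  let π : (J → Q) →ₗ[R] ((J → Q) ⧸ LinearMap.range φ) := (LinearMap.range φ).mkQ
  have hπφ : π ∘ₗ φ = 0 := LinearMap.range_mkQ_comp φ
  rw [← Submodule.ker_mkQ (LinearMap.range φ), LinearMap.mem_ker]
  apply Module.FaithfullyFlat.tensorProduct_mk_injective (A := R) (B := S)
    ((J → Q) ⧸ LinearMap.range φ)
  rw [map_zero]
  show (1 : S) ⊗ₜ[R] (π x) = 0
  let Y : S ⊗[R] (Fin l → Q) := ∑ t, (LinearMap.single R (fun _ => Q) t).lTensor S (y t)
  have hcomp : ∀ t, φ ∘ₗ (LinearMap.single R (fun _ : Fin l => Q) t) =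
      ∑ j, a j t • LinearMap.single R (fun _ : J => Q) j := by
    intro t
    ext q j
    simp [hφ, Pi.single_apply]
  have hY : (φ.lTensor S) Y = (1 : S) ⊗ₜ[R] x := by
    simp only [Y, map_sum, ← LinearMap.lTensor_comp_apply, hcomp]
    have h1 : ∀ t, (LinearMap.lTensor S (∑ j, a j t • LinearMap.single R (fun _ : J => Q) j)) (y t) =
        ∑ j, a j t • (LinearMap.single R (fun _ : J => Q) j).lTensor S (y t) := by
      intro t
      have : LinearMap.lTensor S (∑ j, a j t • LinearMap.single R (fun _ : J => Q) j) =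
          ∑ j, a j t • (LinearMap.single R (fun _ : J => Q) j).lTensor S := by
        rw [← LinearMap.coe_lTensorHom, map_sum]
        simp
      rw [this]
      simp
    simp only [h1]
    rw [Finset.sum_comm]
    have h2 : ∀ j, ∑ t, a j t • (LinearMap.single R (fun _ : J => Q) j).lTensor S (y t) =
        (1 : S) ⊗ₜ[R] (Pi.single j (x j) : J → Q) := by
      intro j
      have := hy j
      simp only [TensorProduct.mk_apply] at this
      have h4 : (1 : S) ⊗ₜ[R] (Pi.single j (x j) : J → Q) =
          (LinearMap.single R (fun _ : J => Q) j).lTensor S ((1 : S) ⊗ₜ[R] x j) := by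
        rw [LinearMap.lTensor_tmul, LinearMap.single_apply]
      rw [h4, this]
      simp
    simp only [h2]
    rw [← tmul_sum, Finset.univ_sum_single]
  have h3 : (1 : S) ⊗ₜ[R] (π x) = (π.lTensor S) ((1 : S) ⊗ₜ[R] x) := rfl
  rw [h3, ← hY, ← LinearMap.lTensor_comp_apply, hπφ, LinearMap.lTensor_zero, LinearMap.zero_apply]

end Pure

section Main

variable (R : Type u) [CommRing R] (S : Type u) [CommRing S] [Algebra R S]
  (M : Type u) [AddCommGroup M] [Module R M]

/-- The additive map `M ⊗[R] N' → (S ⊗[R] M) ⊗[S] N'` sending `m ⊗ n` to `(1 ⊗ m) ⊗ n`. -/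
noncomputable def toBC (N' : Type u) [AddCommGroup N'] [Module R N'] [Module S N']
    [IsScalarTower R S N'] : M ⊗[R] N' →+ (S ⊗[R] M) ⊗[S] N' :=
  TensorProduct.liftAddHom
    { toFun := fun m =>
        { toFun := fun n => ((1 : S) ⊗ₜ[R] m) ⊗ₜ[S] n
          map_zero' := by simp
          map_add' := by intros; simp [tmul_add] }
      map_zero' := by ext; simp
      map_add' := by intros; ext; simp [tmul_add, add_tmul] }
    (by
      intro r m n
      show ((1 : S) ⊗ₜ[R] (r • m)) ⊗ₜ[S] n = ((1 : S) ⊗ₜ[R] m) ⊗ₜ[S] (r • n)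
      rw [tmul_smul, ← algebraMap_smul S r ((1 : S) ⊗ₜ[R] m), smul_tmul, algebraMap_smul])

@[simp]
lemma toBC_tmul (N' : Type u) [AddCommGroup N'] [Module R N'] [Module S N']
    [IsScalarTower R S N'] (m : M) (n : N') :
    toBC R S M N' (m ⊗ₜ[R] n) = ((1 : S) ⊗ₜ[R] m) ⊗ₜ[S] n := rfl

lemma toBC_injective (N' : Type u) [AddCommGroup N'] [Module R N'] [Module S N']
    [IsScalarTower R S N'] : Function.Injective (toBC R S M N') := by
  let e : (S ⊗[R] M) ⊗[S] N' → M ⊗[R] N' := fun z =>
    TensorProduct.comm R N' M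
      (AlgebraTensorModule.cancelBaseChange R S S N' M (TensorProduct.comm S (S ⊗[R] M) N' z))
  have he : ∀ z, e (toBC R S M N' z) = z := by
    intro z
    induction z with
    | zero => simp [e]
    | tmul m n => simp [e]
    | add z w hz hw =>
      rw [map_add]
      simp only [e, map_add] at hz hw ⊢
      rw [hz, hw]
  exact Function.LeftInverse.injective he

end Main

/-- Let `R → S` be faithfully flat and `M` an `R`-module. If `S ⊗ M` is a Mittag-Leffler `S`-module then
`M` is a Mittag-Leffler `R`-module. -/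
theorem result (R : Type u) [CommRing R] (S : Type u)
    [CommRing S] [Algebra R S] [Module.FaithfullyFlat R S] (M : Type u) [AddCommGroup M] [Module R M]
    (h : CAlg.IsMittagLeffler S (TensorProduct R S M)) : CAlg.IsMittagLeffler R M := by
  intro ι Q _ _
  have key : ∀ (Q' : ι → Type u) [∀ i, AddCommGroup (Q' i)] [∀ i, Module R (Q' i)]
      [∀ i, Module S (Q' i)] [∀ i, IsScalarTower R S (Q' i)],
      Function.Injective (piRightHom R R M Q') := by
    intro Q' _ _ _ _
    rw [injective_iff_map_eq_zero]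
    intro z hz
    apply toBC_injective R S M (∀ i, Q' i)
    rw [map_zero]
    apply h ι Q'
    rw [map_zero]
    funext i
    have comm : ∀ z : M ⊗[R] (∀ i, Q' i),
        piRightHom S S (S ⊗[R] M) Q' (toBC R S M _ z) i =
          toBC R S M (Q' i) (piRightHom R R M Q' z i) := by
      intro z
      induction z with
      | zero => simp
      | tmul m f => simp
      | add z w hz hw => simp only [map_add, Pi.add_apply, hz, hw]
    rw [comm, hz]
    simp
  let G : (∀ i, Q i) →ₗ[R] (∀ i, S ⊗[R] Q i) :=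
    LinearMap.pi fun i => (TensorProduct.mk R S (Q i) 1).comp (LinearMap.proj i)
  have hG : LiftsSystems G := LiftsSystems.pi _ (fun i => liftsSystems_mk S (Q i))
  have hGinj := hG.lTensor_injective G M
  rw [injective_iff_map_eq_zero]
  intro z hz
  apply hGinj
  rw [map_zero]
  apply key (fun i => S ⊗[R] Q i)
  rw [map_zero]
  funext i
  have nat : ∀ z : M ⊗[R] (∀ i, Q i),
      piRightHom R R M (fun i => S ⊗[R] Q i) (G.lTensor M z) i =
        (TensorProduct.mk R S (Q i) 1).lTensor M (piRightHom R R M Q z i) := by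
    intro z
    induction z with
    | zero => simp
    | tmul m f => simp [G]
    | add z w hz hw => simp only [map_add, Pi.add_apply, hz, hw]
  rw [nat, hz]
  simp


end Groth.Agent.S0586
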