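import Groth.Statements.S6269
-- import your own Groth.Agent.* helpers here

set_option autoImplicit false
universe u
open CAlg

namespace Groth.Agent.S6269

/-- Let 0 → M₁ → M₂ → M₃ → 0 be a universally exact sequence of R-modules (a short exact sequence whose
first map is universally injective) with M₂ flat. Then M₁ and M₃ are flat. -/
theorem result {R : Type u} [CommRing R] {M₁ M₂ M₃ : Type u} [AddCommGroup M₁] [Module R M₁] [AddCommGroup M₂] [Module R M₂] [AddCommGroup M₃] [Module R M₃] (f : M₁ →ₗ[R] M₂) (g : M₂ →ₗ[R] M₃) (hexact : Function.Exact f g) (hg : Function.Surjective g) (hf : CAlgX.UniversallyInjective R f) [Module.Flat R M₂] : Module.Flat R M₁ ∧ Module.Flat R M₃ := by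
  have hcomm₁₂ : ∀ {A B : Type u} [AddCommGroup A] [Module R A] [AddCommGroup B] [Module R B]
      (h : A →ₗ[R] B) (x : TensorProduct R M₁ A), (f.rTensor B) (h.lTensor M₁ x) = h.lTensor M₂ (f.rTensor A x) := by
    intro A B _ _ _ _ h x
    rw [← LinearMap.comp_apply, ← LinearMap.comp_apply, LinearMap.rTensor_comp_lTensor,
      LinearMap.lTensor_comp_rTensor]
  have hcomm₂₃ : ∀ {A B : Type u} [AddCommGroup A] [Module R A] [AddCommGroup B] [Module R B]
      (h : A →ₗ[R] B) (x : TensorProduct R M₂ A), (g.rTensor B) (h.lTensor M₂ x) = h.lTensor M₃ (g.rTensor A x) := by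
    intro A B _ _ _ _ h x
    rw [← LinearMap.comp_apply, ← LinearMap.comp_apply, LinearMap.rTensor_comp_lTensor,
      LinearMap.lTensor_comp_rTensor]
  constructor
  · rw [Module.Flat.iff_lTensor_preserves_injective_linearMap'.{u, u, u}]
    intro A B _ _ _ _ h hh
    have h2 : Function.Injective ((h.lTensor M₂) ∘ (f.rTensor A)) :=
      (Module.Flat.lTensor_preserves_injective_linearMap _ hh).comp (hf A)
    have h3 : (h.lTensor M₂) ∘ (f.rTensor A) = (f.rTensor B) ∘ (h.lTensor M₁) := by
      funext x
      exact (hcomm₁₂ h x).symm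
    rw [h3] at h2
    exact Function.Injective.of_comp h2
  · rw [Module.Flat.iff_lTensor_preserves_injective_linearMap'.{u, u, u}]
    intro A B _ _ _ _ h hh
    rw [injective_iff_map_eq_zero]
    intro z hz
    obtain ⟨y, rfl⟩ := LinearMap.rTensor_surjective A hg z
    have hy' : (g.rTensor B) (h.lTensor M₂ y) = 0 := by
      rw [hcomm₂₃, hz]
    obtain ⟨x', hx'⟩ := (rTensor_exact B hexact hg _).mp hy'
    have hx'0 : ((LinearMap.range h).mkQ.lTensor M₁) x' = 0 := by
      apply hf (B ⧸ LinearMap.range h)
      rw [map_zero, hcomm₁₂, hx', ← LinearMap.comp_apply, ← LinearMap.lTensor_comp]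
      have : (LinearMap.range h).mkQ ∘ₗ h = 0 := by
        ext n
        simp
      rw [this, LinearMap.lTensor_zero, LinearMap.zero_apply]
    obtain ⟨x, hx⟩ := (lTensor_exact M₁ (LinearMap.exact_map_mkQ_range h)
      (Submodule.mkQ_surjective _) _).mp hx'0
    have hxy : f.rTensor A x = y := by
      apply Module.Flat.lTensor_preserves_injective_linearMap (M := M₂) _ hh
      rw [← hcomm₁₂, hx, hx']
    rw [← hxy]
    exact (rTensor_exact A hexact hg _).mpr ⟨x, rfl⟩

end Groth.Agent.S6269
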