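import Groth.Statements.S6305
import Mathlib.RingTheory.Flat.Equalizer
import Mathlib.RingTheory.Flat.Basic

set_option autoImplicit false
universe u
open CAlg

namespace Groth.Agent.S6305

open TensorProduct in
/-- If the kernel of a surjection from a free module onto `M` is universally injective in the
free module, then `M` is flat. -/
theorem flat_of_free_presentation {R : Type u} [CommRing R] (M : Type u) [AddCommGroup M]
    [Module R M] (h : ∀ (Q : Type u) [AddCommGroup Q] [Module R Q],
      Function.Injective ((LinearMap.ker (Finsupp.linearCombination R (fun a : M => a))).subtype.rTensor Q)) :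
    Module.Flat R M := by
  set π : (M →₀ R) →ₗ[R] M := Finsupp.linearCombination R (fun a : M => a) with hπdef
  have hπ : Function.Surjective π :=
    Finsupp.linearCombination_surjective _ Function.surjective_id
  set K := LinearMap.ker π with hK
  rw [Module.Flat.iff_lTensor_preserves_injective_linearMap]
  intro N' N _ _ _ _ i hi x₁ x₂ hx
  rw [← sub_eq_zero]
  have hx0 : (i.lTensor M) (x₁ - x₂) = 0 := by rw [map_sub, hx, sub_self]
  generalize x₁ - x₂ = x at hx0
  obtain ⟨y, rfl⟩ := LinearMap.rTensor_surjective N' hπ x
  have h1 : (π.rTensor N) ((i.lTensor (M →₀ R)) y) = 0 := by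
    rw [← LinearMap.comp_apply, LinearMap.rTensor_comp_lTensor, ← LinearMap.lTensor_comp_rTensor,
      LinearMap.comp_apply, hx0]
  obtain ⟨z, hz⟩ := (rTensor_exact (R := R) (M := K) (f := K.subtype) N (LinearMap.exact_subtype_ker_map π) hπ _).mp h1
  let q := (LinearMap.range i).mkQ
  have hq : Function.Surjective q := Submodule.mkQ_surjective _
  have hiq : Function.Exact i q := LinearMap.exact_map_mkQ_range i
  have h2 : (K.subtype.rTensor (N ⧸ LinearMap.range i)) ((q.lTensor K) z) = 0 := by
    rw [← LinearMap.comp_apply, LinearMap.rTensor_comp_lTensor, ← LinearMap.lTensor_comp_rTensor,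
      LinearMap.comp_apply, hz, ← LinearMap.comp_apply, ← LinearMap.lTensor_comp]
    have : q ∘ₗ i = 0 := by
      ext n
      exact (hiq (i n)).mpr ⟨n, rfl⟩
    rw [this, LinearMap.lTensor_zero, LinearMap.zero_apply]
  have h3 : (q.lTensor K) z = 0 := by
    apply h (N ⧸ LinearMap.range i)
    rw [h2, map_zero]
  obtain ⟨w, rfl⟩ := (lTensor_exact K hiq hq _).mp h3
  have h4 : (i.lTensor (M →₀ R)) ((K.subtype.rTensor N') w) = (i.lTensor (M →₀ R)) y := by
    rw [← hz, ← LinearMap.comp_apply, LinearMap.lTensor_comp_rTensor,
      ← LinearMap.rTensor_comp_lTensor, LinearMap.comp_apply]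
  have h5 := Module.Flat.lTensor_preserves_injective_linearMap (M := (M →₀ R)) i hi h4
  rw [← h5, ← LinearMap.comp_apply, ← LinearMap.rTensor_comp]
  have : π ∘ₗ K.subtype = 0 := by
    ext k
    exact k.2
  rw [this, LinearMap.rTensor_zero, LinearMap.zero_apply]

/-- An R-module M is flat exactly when every short exact sequence 0 → M₁ → M₂ → M → 0 of R-modules is
universally exact, i.e. its first map M₁ → M₂ is universally injective. -/
theorem result {R : Type u} [CommRing R] (M : Type u) [AddCommGroup M] [Module R M] : Module.Flat R M ↔ ∀ (M₁ M₂ : Type u) [AddCommGroup M₁] [Module R M₁] [AddCommGroup M₂] [Module R M₂] (f : M₁ →ₗ[R] M₂) (g : M₂ →ₗ[R] M), Function.Injective f → Function.Exact f g → Function.Surjective g → CAlgX.UniversallyInjective R f := by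
  constructor
  · intro hM M₁ M₂ _ _ _ _ f g hf hfg hg Q _ _
    rw [← LinearMap.lTensor_inj_iff_rTensor_inj]
    exact LinearMap.lTensor_injective_of_exact_of_flat g hg f hf hfg Q
  · intro h
    apply flat_of_free_presentation
    intro Q _ _
    exact h _ _ _ _ (LinearMap.ker (Finsupp.linearCombination R (fun a : M => a))).subtype_injective
      (LinearMap.exact_subtype_ker_map _)
      (Finsupp.linearCombination_surjective _ Function.surjective_id) Q

end Groth.Agent.S6305
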