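import Groth.Statements.S6383
import Mathlib.LinearAlgebra.Finsupp.Span
import Mathlib.Data.Set.Countable
import Mathlib.LinearAlgebra.TensorProduct.Tower

set_option autoImplicit false
universe u
open scoped TensorProduct
open CAlg

namespace Groth.Agent.S6383

section
variable {R S : Type u} [CommRing R] [CommRing S] [Algebra R S]
variable {M : Type u} [AddCommGroup M] [Module R M]

/-- the `S`-span of `1 ⊗ X` -/
def bcs (R S : Type u) [CommRing R] [CommRing S] [Algebra R S] {M : Type u} [AddCommGroup M]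
    [Module R M] (X : Set M) : Submodule S (S ⊗[R] M) :=
  Submodule.span S ((TensorProduct.mk R S M 1) '' X)

lemma bcs_mono {X Y : Set M} (h : X ⊆ Y) : bcs R S X ≤ bcs R S Y :=
  Submodule.span_mono (Set.image_mono h)

lemma bcs_span (X : Set M) : bcs R S ((Submodule.span R X : Submodule R M) : Set M) = bcs R S X := by
  apply le_antisymm
  · rw [bcs, Submodule.span_le]
    rintro _ ⟨x, hx, rfl⟩
    have : Submodule.span R X ≤
        ((bcs R S X).restrictScalars R).comap (TensorProduct.mk R S M 1) := by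
      rw [Submodule.span_le]
      intro y hy
      exact Submodule.subset_span ⟨y, hy, rfl⟩
    exact this hx
  · exact bcs_mono Submodule.subset_span

lemma bcs_iUnion {ι : Type*} (X : ι → Set M) : bcs R S (⋃ k, X k) = ⨆ k, bcs R S (X k) := by
  simp only [bcs, Set.image_iUnion, Submodule.span_iUnion]

lemma exists_finset_mem_bcs (q : S ⊗[R] M) : ∃ G : Finset M, q ∈ bcs R S (G : Set M) := by
  classical
  induction q using TensorProduct.induction_on with
  | zero => exact ⟨∅, Submodule.zero_mem _⟩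
  | tmul s m =>
    refine ⟨{m}, ?_⟩
    have : s ⊗ₜ[R] m = s • ((1 : S) ⊗ₜ[R] m) := by
      rw [TensorProduct.smul_tmul', smul_eq_mul, mul_one]
    rw [this]
    apply Submodule.smul_mem
    apply Submodule.subset_span
    exact ⟨m, by simp, rfl⟩
  | add x y hx hy =>
    obtain ⟨G1, h1⟩ := hx
    obtain ⟨G2, h2⟩ := hy
    refine ⟨G1 ∪ G2, ?_⟩
    apply Submodule.add_mem
    · exact bcs_mono (by simp) h1
    · exact bcs_mono (by simp) h2

end

/-- For a ring map R → S and an R-module M whose base change S ⊗_R M is an internal direct sum of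
countably generated S-submodules Q_i (i ∈ I), every countably generated submodule N ≤ M can be
enlarged to a countably generated submodule N' ≤ M, together with a subset I' ⊆ I, so that the
S-span of the image 1 ⊗ N' inside S ⊗_R M equals the sum of the Q_i over i ∈ I'. -/
theorem result (R S : Type u) [CommRing R] [CommRing S] [Algebra R S]
    (M : Type u) [AddCommGroup M] [Module R M] {I : Type u} [DecidableEq I] (Q : I → Submodule S (S ⊗[R] M))
    (hQ : DirectSum.IsInternal Q) (hQc : ∀ i, ∃ t : Set (S ⊗[R] M), t.Countable ∧ Submodule.span S t = Q i)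
    (N : Submodule R M) (hN : ∃ s : Set M, s.Countable ∧ Submodule.span R s = N) :
    ∃ (N' : Submodule R M) (I' : Set I), N ≤ N' ∧ (∃ s : Set M, s.Countable ∧ Submodule.span R s = N') ∧
      Submodule.span S ((TensorProduct.mk R S M 1) '' (N' : Set M)) = ⨆ i ∈ I', Q i := by
  have htop : iSup Q = ⊤ := hQ.submodule_iSup_eq_top
  obtain ⟨A₀, hA₀c, hA₀⟩ := hN
  choose t htc ht using hQc
  have hF : ∀ a : M, ∃ F : Finset I, (1 : S) ⊗ₜ[R] a ∈ ⨆ i ∈ F, Q i := by
    intro a
    apply Submodule.mem_iSup_iff_exists_finset.mp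
    rw [htop]; exact Submodule.mem_top
  choose F hF using hF
  choose G hG using fun q : S ⊗[R] M => exists_finset_mem_bcs (R := R) (S := S) q
  let sq : ℕ → Set M × Set I := fun k => Nat.rec (A₀, ∅)
    (fun _ p => (p.1 ∪ ⋃ i ∈ p.2, ⋃ q ∈ t i, (G q : Set M), p.2 ∪ ⋃ a ∈ p.1, (F a : Set I))) k
  have hsq : ∀ k, sq (k+1) = ((sq k).1 ∪ ⋃ i ∈ (sq k).2, ⋃ q ∈ t i, (G q : Set M),
      (sq k).2 ∪ ⋃ a ∈ (sq k).1, (F a : Set I)) := fun k => rfl
  have hcount : ∀ k, (sq k).1.Countable ∧ (sq k).2.Countable := by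
    intro k
    induction k with
    | zero => exact ⟨hA₀c, Set.countable_empty⟩
    | succ k ih =>
      rw [hsq]
      refine ⟨ih.1.union ?_, ih.2.union ?_⟩
      · exact ih.2.biUnion fun i _ => (htc i).biUnion fun q _ => Finset.countable_toSet _
      · exact ih.1.biUnion fun a _ => Finset.countable_toSet _
  let A : Set M := ⋃ k, (sq k).1
  let J : Set I := ⋃ k, (sq k).2
  have hAF : ∀ a ∈ A, (F a : Set I) ⊆ J := by
    intro a ha
    obtain ⟨k, hk⟩ := Set.mem_iUnion.mp ha
    intro i hi
    apply Set.mem_iUnion.mpr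
    refine ⟨k+1, ?_⟩
    rw [hsq]
    exact Or.inr (Set.mem_biUnion hk hi)
  have hJG : ∀ i ∈ J, ∀ q ∈ t i, (G q : Set M) ⊆ A := by
    intro i hi q hq
    obtain ⟨k, hk⟩ := Set.mem_iUnion.mp hi
    intro m hm
    apply Set.mem_iUnion.mpr
    refine ⟨k+1, ?_⟩
    rw [hsq]
    exact Or.inr (Set.mem_biUnion hk (Set.mem_biUnion hq hm))
  refine ⟨Submodule.span R A, J, ?_, ⟨A, Set.countable_iUnion fun k => (hcount k).1, rfl⟩, ?_⟩
  · rw [← hA₀]
    apply Submodule.span_mono
    exact Set.subset_iUnion (fun k => (sq k).1) 0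
  · show bcs R S ((Submodule.span R A : Submodule R M) : Set M) = _
    rw [bcs_span]
    apply le_antisymm
    · rw [bcs, Submodule.span_le]
      rintro _ ⟨a, ha, rfl⟩
      have h1 := hF a
      have h2 : (⨆ i ∈ F a, Q i) ≤ ⨆ i ∈ J, Q i := by
        refine iSup_le fun i => iSup_le fun hi => ?_
        exact le_iSup_of_le i (le_iSup_of_le (hAF a ha hi) le_rfl)
      exact h2 h1
    · refine iSup_le fun i => iSup_le fun hi => ?_
      rw [← ht i, Submodule.span_le]
      intro q hq
      exact bcs_mono (hJG i hi q hq) (hG q)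

end Groth.Agent.S6383
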