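import Groth.Statements.S0585
import Groth.Agent.S0584
import Groth.Agent.S0586
import Groth.Agent.S6383
import Groth.Agent.S6305
import Groth.Agent.S6269
import Mathlib.RingTheory.Flat.FaithfullyFlat.Basic
import Mathlib.LinearAlgebra.TensorProduct.RightExactness
import Mathlib.LinearAlgebra.TensorProduct.Tower

set_option autoImplicit false
universe u
open CAlg

namespace Groth.Agent.S0585

open TensorProduct Groth.Agent.S0583

section general
variable {R : Type u} [CommRing R] {M : Type u} [AddCommGroup M] [Module R M]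

/-- the subquotient `N'/N` -/
abbrev SubQuot (N N' : Submodule R M) : Type u := ↥N' ⧸ Submodule.comap N'.subtype N

/-- `N'/N → M/N` -/
def subQuotToQuot (N N' : Submodule R M) : SubQuot N N' →ₗ[R] M ⧸ N :=
  (Submodule.comap N'.subtype N).mapQ N N'.subtype le_rfl

lemma subQuotToQuot_mk (N N' : Submodule R M) (y : N') :
    subQuotToQuot N N' (Submodule.Quotient.mk y) = Submodule.Quotient.mk (y : M) := rfl

lemma subQuotToQuot_injective (N N' : Submodule R M) :
    Function.Injective (subQuotToQuot N N') := by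
  rw [← LinearMap.ker_eq_bot, eq_bot_iff]
  intro w hw
  obtain ⟨y, rfl⟩ := Submodule.Quotient.mk_surjective _ w
  rw [LinearMap.mem_ker, subQuotToQuot_mk, Submodule.Quotient.mk_eq_zero] at hw
  rw [Submodule.mem_bot, Submodule.Quotient.mk_eq_zero]
  exact hw

lemma exact_subQuotToQuot (N N' : Submodule R M) (h : N ≤ N') :
    Function.Exact (subQuotToQuot N N') (Submodule.factor h) := by
  intro z
  constructor
  · intro hz
    obtain ⟨m, rfl⟩ := Submodule.Quotient.mk_surjective _ z
    have hm : m ∈ N' := by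
      have : Submodule.factor h (N.mkQ m) = 0 := hz
      rw [Submodule.factor_mk, Submodule.mkQ_apply, Submodule.Quotient.mk_eq_zero] at this
      exact this
    exact ⟨Submodule.Quotient.mk ⟨m, hm⟩, rfl⟩
  · rintro ⟨w, rfl⟩
    obtain ⟨y, rfl⟩ := Submodule.Quotient.mk_surjective _ w
    rw [subQuotToQuot_mk]
    show Submodule.factor h (N.mkQ (y : M)) = 0
    rw [Submodule.factor_mk, Submodule.mkQ_apply, Submodule.Quotient.mk_eq_zero]
    exact y.2

/-- If `M/N` is flat and Mittag-Leffler and `M/N'` is flat, then `N'/N` is flat and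
Mittag-Leffler. -/
lemma flat_ml_subQuot (N N' : Submodule R M) (h : N ≤ N') [Module.Flat R (M ⧸ N)]
    (hML : CAlg.IsMittagLeffler R (M ⧸ N)) [hflat' : Module.Flat R (M ⧸ N')] :
    Module.Flat R (SubQuot N N') ∧ CAlg.IsMittagLeffler R (SubQuot N N') := by
  have hui : CAlgX.UniversallyInjective R (subQuotToQuot N N') :=
    (Groth.Agent.S6305.result (R := R) (M ⧸ N')).mp hflat' (SubQuot N N') (M ⧸ N)
      (subQuotToQuot N N') (Submodule.factor h) (subQuotToQuot_injective N N')
      (exact_subQuotToQuot N N' h) (Submodule.factor_surjective h)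
  refine ⟨?_, Groth.Agent.S6338.result R (subQuotToQuot N N') hui hML⟩
  exact (Groth.Agent.S6269.result (subQuotToQuot N N') (Submodule.factor h)
    (exact_subQuotToQuot N N' h) (Submodule.factor_surjective h) hui).1

/-- splitting off a projective subquotient -/
lemma exists_compl_of_projective (N N' : Submodule R M) (h : N ≤ N')
    [Module.Projective R (SubQuot N N')] :
    ∃ (C : Submodule R M) (f : SubQuot N N' →ₗ[R] M), Disjoint N C ∧ N ⊔ C = N' ∧
      LinearMap.range f = C := by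
  let π : ↥N' →ₗ[R] SubQuot N N' := (Submodule.comap N'.subtype N).mkQ
  obtain ⟨σ, hσ⟩ := Module.projective_lifting_property π LinearMap.id
    (Submodule.mkQ_surjective _)
  have hσ' : ∀ w, π (σ w) = w := fun w => LinearMap.congr_fun hσ w
  have hπ0 : ∀ y : N', π y = 0 ↔ (y : M) ∈ N := by
    intro y
    simp only [π, Submodule.mkQ_apply, Submodule.Quotient.mk_eq_zero, Submodule.mem_comap,
      Submodule.subtype_apply]
  refine ⟨LinearMap.range (N'.subtype ∘ₗ σ), N'.subtype ∘ₗ σ, ?_, ?_, rfl⟩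
  · rw [Submodule.disjoint_def]
    rintro x hxN ⟨w, rfl⟩
    have h0 : π (σ w) = 0 := (hπ0 (σ w)).mpr hxN
    rw [hσ'] at h0
    rw [h0, map_zero]
  · apply le_antisymm
    · apply sup_le h
      rintro _ ⟨w, rfl⟩
      exact (σ w).2
    · intro y hy
      rw [Submodule.mem_sup]
      let y' : N' := ⟨y, hy⟩
      refine ⟨((y' - σ (π y') : N') : M), ?_, ((σ (π y') : N') : M), ⟨π y', rfl⟩, ?_⟩
      · rw [← hπ0, map_sub, hσ', sub_self]
      · simp [y']

/-- `(N ⊔ N₁)/N` is countably generated when `N₁` is. -/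
lemma isCountablyGenerated_subQuot_sup (N N₁ : Submodule R M) (h₁ : SubCG N₁) :
    CAlg.IsCountablyGenerated R (SubQuot N (N ⊔ N₁)) := by
  obtain ⟨s, hs, rfl⟩ := h₁
  let g : ↥(Submodule.span R s) →ₗ[R] SubQuot N (N ⊔ Submodule.span R s) :=
    (Submodule.comap (N ⊔ Submodule.span R s).subtype N).mkQ ∘ₗ
      Submodule.inclusion (le_sup_right : Submodule.span R s ≤ N ⊔ Submodule.span R s)
  have hg : Function.Surjective g := by
    intro w
    obtain ⟨y, rfl⟩ := Submodule.Quotient.mk_surjective _ w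
    obtain ⟨a, ha, b, hb, hab⟩ := Submodule.mem_sup.mp y.2
    refine ⟨⟨b, hb⟩, ?_⟩
    simp only [g, LinearMap.comp_apply, Submodule.mkQ_apply]
    rw [Submodule.Quotient.eq]
    simp only [Submodule.mem_comap, Submodule.subtype_apply, Submodule.coe_sub,
      Submodule.coe_inclusion]
    have : b - (y : M) = -a := by rw [← hab]; abel
    rw [this]
    exact Submodule.neg_mem _ ha
  have hcg : CAlg.IsCountablyGenerated R ↥(Submodule.span R s) :=
    isCountablyGenerated_of_subCG _ ⟨s, hs, rfl⟩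
  obtain ⟨t, ht, htspan⟩ := hcg
  refine ⟨g '' t, ht.image g, ?_⟩
  rw [← Submodule.map_span, htspan, Submodule.map_top, LinearMap.range_eq_top]
  exact hg

end general

section bc
variable {R : Type u} [CommRing R] {M : Type u} [AddCommGroup M] [Module R M]
variable (S : Type u) [CommRing S] [Algebra R S]

lemma baseChange_iSup {ι : Sort*} (N : ι → Submodule R M) :
    (⨆ k, N k).baseChange S = ⨆ k, (N k).baseChange S := by
  rw [Submodule.iSup_eq_span, Submodule.baseChange_span, Set.image_iUnion, Submodule.span_iUnion]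
  congr 1
  funext k
  conv_rhs => rw [← Submodule.span_eq (N k), Submodule.baseChange_span]

lemma baseChange_sup (N N' : Submodule R M) :
    (N ⊔ N').baseChange S = N.baseChange S ⊔ N'.baseChange S := by
  rw [sup_eq_iSup, baseChange_iSup, sup_eq_iSup]
  congr 1
  funext b
  cases b <;> rfl

lemma baseChange_sSup (𝒩 : Set (Submodule R M)) :
    (sSup 𝒩).baseChange S = ⨆ N ∈ 𝒩, N.baseChange S := by
  rw [sSup_eq_iSup, baseChange_iSup]
  congr 1
  funext N
  rw [baseChange_iSup]

/-- `S ⊗ (M/N)` is projective when `S ⊗ M` is and `N.baseChange S` is a direct summand. -/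
lemma projective_baseChange_quotient [Module.Projective S (S ⊗[R] M)] (N : Submodule R M)
    (K : Submodule S (S ⊗[R] M)) (hK : IsCompl (N.baseChange S) K) :
    Module.Projective S (S ⊗[R] (M ⧸ N)) := by
  let g : S ⊗[R] M →ₗ[S] S ⊗[R] (M ⧸ N) := N.mkQ.baseChange S
  have hg : Function.Surjective g := LinearMap.baseChange_surjective S N.mkQ_surjective
  have hker : LinearMap.ker g = N.baseChange S := by
    ext x
    have hex := lTensor_exact S (LinearMap.exact_subtype_mkQ N) N.mkQ_surjective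
    rw [LinearMap.mem_ker]
    show (N.mkQ.baseChange S) x = 0 ↔ x ∈ LinearMap.range (N.subtype.baseChange S)
    rw [LinearMap.baseChange_eq_ltensor, hex x]
    constructor
    · rintro ⟨y, rfl⟩
      exact ⟨y, by rw [LinearMap.baseChange_eq_ltensor]⟩
    · rintro ⟨y, rfl⟩
      exact ⟨y, by rw [LinearMap.baseChange_eq_ltensor]⟩
  have hKproj : Module.Projective S K :=
    Module.Projective.of_split K.subtype (Submodule.projectionOnto K _ hK.symm)
      (Submodule.projectionOnto_comp_subtype hK.symm)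
  let e1 : ((S ⊗[R] M) ⧸ LinearMap.ker g) ≃ₗ[S] S ⊗[R] (M ⧸ N) :=
    g.quotKerEquivOfSurjective hg
  let e2 : ((S ⊗[R] M) ⧸ N.baseChange S) ≃ₗ[S] K := Submodule.quotientEquivOfIsCompl _ _ hK
  let e3 : ((S ⊗[R] M) ⧸ LinearMap.ker g) ≃ₗ[S] ((S ⊗[R] M) ⧸ N.baseChange S) :=
    Submodule.quotEquivOfEq _ _ hker
  exact Module.Projective.of_equiv' (e2.symm ≪≫ₗ e3.symm ≪≫ₗ e1)

lemma flat_ml_quotient [Module.FaithfullyFlat R S] [Module.Projective S (S ⊗[R] M)]
    (N : Submodule R M) (K : Submodule S (S ⊗[R] M)) (hK : IsCompl (N.baseChange S) K) :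
    Module.Flat R (M ⧸ N) ∧ CAlg.IsMittagLeffler R (M ⧸ N) := by
  have hproj := projective_baseChange_quotient S N K hK
  have hflat : Module.Flat S (S ⊗[R] (M ⧸ N)) := inferInstance
  refine ⟨Module.Flat.of_flat_tensorProduct R (M ⧸ N) S, ?_⟩
  apply Groth.Agent.S0586.result R S (M ⧸ N)
  exact ((Groth.Agent.S0584.result S (S ⊗[R] (M ⧸ N))).mp hproj).2.1

end bc

section zorn
variable {R : Type u} [CommRing R] {M : Type u} [AddCommGroup M] [Module R M]
variable (S : Type u) [CommRing S] [Algebra R S]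
variable {I : Type u} (Q : I → Submodule S (S ⊗[R] M))

/-- partial sums of the decomposition -/
def QJ (J : Set I) : Submodule S (S ⊗[R] M) := ⨆ i ∈ J, Q i

lemma QJ_union (J J' : Set I) : QJ S Q (J ∪ J') = QJ S Q J ⊔ QJ S Q J' := by
  simp only [QJ]
  rw [iSup_union]

lemma QJ_iUnion {κ : Type*} (J : κ → Set I) : QJ S Q (⋃ k, J k) = ⨆ k, QJ S Q (J k) := by
  simp only [QJ]
  rw [iSup_iUnion]

lemma QJ_empty : QJ S Q (∅ : Set I) = ⊥ := by simp [QJ]

lemma isCompl_QJ (hindep : iSupIndep Q) (htop : iSup Q = ⊤) (J : Set I) :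
    IsCompl (QJ S Q J) (QJ S Q Jᶜ) := by
  constructor
  · exact hindep.disjoint_biSup_biSup disjoint_compl_right
  · rw [codisjoint_iff, ← QJ_union, Set.union_compl_self, QJ, ← htop]
    simp

/-- the Zorn predicate -/
def Good (p : Set I × Set (Submodule R M)) : Prop :=
  sSupIndep p.2 ∧ (∀ L ∈ p.2, SubCG L) ∧ (sSup p.2).baseChange S = QJ S Q p.1

lemma good_chain_ub (c : Set (Set I × Set (Submodule R M)))
    (hc : c ⊆ {p | Good S Q p}) (hchain : IsChain (· ≤ ·) c) :
    ∃ ub ∈ {p | Good S Q p}, ∀ z ∈ c, z ≤ ub := by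
  rcases c.eq_empty_or_nonempty with rfl | hne
  · refine ⟨(∅, ∅), ⟨sSupIndep_empty, ?_, ?_⟩, fun z hz => absurd hz (Set.notMem_empty z)⟩
    · intro L hL
      exact absurd hL (Set.notMem_empty L)
    · simp only [sSup_empty, QJ_empty, Submodule.baseChange_bot]
  · have hne' : Nonempty c := hne.to_subtype
    refine ⟨(⋃ z : c, z.1.1, ⋃ z : c, z.1.2), ⟨?_, ?_, ?_⟩, ?_⟩
    · apply sSupIndep_iUnion_of_directed
      · intro a b
        rcases hchain.total a.2 b.2 with h | h
        · exact ⟨b, h.2, le_rfl⟩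
        · exact ⟨a, le_rfl, h.2⟩
      · intro z
        exact (hc z.2).1
    · intro L hL
      obtain ⟨_, ⟨z, rfl⟩, hz⟩ := hL
      exact (hc z.2).2.1 L hz
    · show (sSup (⋃ z : c, z.1.2)).baseChange S = QJ S Q (⋃ z : c, z.1.1)
      rw [sSup_iUnion, baseChange_iSup, QJ_iUnion]
      congr 1
      funext z
      exact (hc z.2).2.2
    · intro z hz
      exact ⟨Set.subset_iUnion (fun z : c => z.1.1) ⟨z, hz⟩,
        Set.subset_iUnion (fun z : c => z.1.2) ⟨z, hz⟩⟩

lemma extend_good [Module.FaithfullyFlat R S] [Module.Projective S (S ⊗[R] M)]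
    (hindep : iSupIndep Q) (htop : iSup Q = ⊤) (hQc : ∀ i, SubCG (Q i))
    (p : Set I × Set (Submodule R M)) (hp : Good S Q p) (x : M) :
    ∃ q, Good S Q q ∧ p ≤ q ∧ x ∈ sSup q.2 := by
  classical
  obtain ⟨J, 𝓛⟩ := p
  obtain ⟨h𝓛, hcg, hbc⟩ := hp
  simp only at h𝓛 hcg hbc
  set N : Submodule R M := sSup 𝓛 with hN
  have hQint : DirectSum.IsInternal Q :=
    DirectSum.isInternal_submodule_of_iSupIndep_of_iSup_eq_top hindep htop
  obtain ⟨N₁, J₁, hle, hcg₁, hbc₁⟩ := Groth.Agent.S6383.result R S M Q hQint hQc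
    (Submodule.span R {x}) ⟨{x}, Set.countable_singleton x, rfl⟩
  have hbc₁' : N₁.baseChange S = QJ S Q J₁ := by
    rw [Submodule.baseChange_eq_span, Submodule.map_coe]
    exact hbc₁
  set N' : Submodule R M := N ⊔ N₁ with hN'
  have hbc' : N'.baseChange S = QJ S Q (J ∪ J₁) := by
    rw [hN', baseChange_sup, hbc, hbc₁', QJ_union]
  have hNN' : N ≤ N' := le_sup_left
  -- flatness and Mittag-Leffler
  obtain ⟨hf1, hml1⟩ := flat_ml_quotient S N (QJ S Q Jᶜ) (hbc ▸ isCompl_QJ S Q hindep htop J)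
  obtain ⟨hf2, _⟩ := flat_ml_quotient S N' (QJ S Q (J ∪ J₁)ᶜ)
    (hbc' ▸ isCompl_QJ S Q hindep htop (J ∪ J₁))
  obtain ⟨hfW, hmlW⟩ := flat_ml_subQuot N N' hNN' hml1
  have hcW : CAlg.IsCountablyGenerated R (SubQuot N N') :=
    isCountablyGenerated_subQuot_sup N N₁ hcg₁
  have hprojW : Module.Projective R (SubQuot N N') :=
    Groth.Agent.Lib.CtblProjective.projective_of_countablyGenerated hmlW hcW
  obtain ⟨C, f, hdisj, hsup, hrange⟩ := exists_compl_of_projective N N' hNN'
  have hCcg : SubCG C := by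
    obtain ⟨t, ht, htspan⟩ := hcW
    refine ⟨f '' t, ht.image f, ?_⟩
    rw [← Submodule.map_span, htspan, Submodule.map_top, hrange]
  refine ⟨(J ∪ J₁, insert C 𝓛), ⟨?_, ?_, ?_⟩, ⟨Set.subset_union_left, Set.subset_insert C 𝓛⟩, ?_⟩
  · exact sSupIndep_insert 𝓛 C h𝓛 hdisj.symm
  · intro L hL
    rcases hL with rfl | hL
    · exact hCcg
    · exact hcg L hL
  · show (sSup (insert C 𝓛)).baseChange S = QJ S Q (J ∪ J₁)
    rw [sSup_insert, sup_comm, ← hN, hsup, hbc']
  · show x ∈ sSup (insert C 𝓛)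
    rw [sSup_insert, sup_comm, ← hN, hsup]
    exact le_sup_right (α := Submodule R M) (hle (Submodule.mem_span_singleton_self x))

end zorn

/-- Let `R → S` be faithfully flat and `M` an `R`-module. If `S ⊗ M` is a projective `S`-module then `M`
is a projective `R`-module. -/
theorem result (R : Type u) [CommRing R] (S : Type u) [CommRing S]
    [Algebra R S] [Module.FaithfullyFlat R S] (M : Type u) [AddCommGroup M] [Module R M]
    [Module.Projective S (TensorProduct R S M)] : Module.Projective R M := by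
  classical
  obtain ⟨_, hTML, I, Q, hQ, hQc⟩ :=
    (Groth.Agent.S0584.result S (TensorProduct R S M)).mp inferInstance
  have hindep : iSupIndep Q := hQ.submodule_iSupIndep
  have htop : iSup Q = ⊤ := hQ.submodule_iSup_eq_top
  have hQc' : ∀ i, SubCG (Q i) := fun i => subCG_of_isCountablyGenerated _ (hQc i)
  obtain ⟨m, hm⟩ := zorn_le₀ {p | Good S Q p} (good_chain_ub S Q)
  obtain ⟨J, 𝓛⟩ := m
  have hgood : Good S Q (J, 𝓛) := hm.prop
  have htop𝓛 : sSup 𝓛 = ⊤ := by
    rw [eq_top_iff]
    intro x _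
    obtain ⟨q, hq, hle, hxq⟩ := extend_good S Q hindep htop hQc' (J, 𝓛) hgood x
    have hqle := hm.le_of_ge hq hle
    exact sSup_le_sSup hqle.2 hxq
  have hflat : Module.Flat R M := Module.Flat.of_flat_tensorProduct R M S
  have hML : CAlg.IsMittagLeffler R M := Groth.Agent.S0586.result R S M hTML
  refine (Groth.Agent.S0584.result R M).mpr ⟨hflat, hML, 𝓛, fun L => L.1, ?_, ?_⟩
  · refine @DirectSum.isInternal_submodule_of_iSupIndep_of_iSup_eq_top R _ _
      (fun a b => Classical.propDecidable (a = b)) _ _ _ _ ?_ ?_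
    · exact (sSupIndep_iff 𝓛).mp hgood.1
    · rw [← sSup_eq_iSup', htop𝓛]
  · intro L
    exact isCountablyGenerated_of_subCG _ (hgood.2.1 L.1 L.2)

end Groth.Agent.S0585
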