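import Groth.Statements.S0587
import Mathlib.LinearAlgebra.TensorProduct.Finiteness
import Mathlib.RingTheory.Finiteness.Basic

set_option autoImplicit false
universe u
open CAlg

namespace Groth.Agent.S0587

open TensorProduct

lemma exists_sum_of_span {R : Type u} [CommRing R] {M : Type u} [AddCommGroup M] [Module R M]
    {Q : Type u} [AddCommGroup Q] [Module R Q] {n : ℕ} (x : Fin n → M)
    (hx : Submodule.span R (Set.range x) = ⊤) (z : M ⊗[R] Q) :
    ∃ q : Fin n → Q, z = ∑ j, x j ⊗ₜ[R] q j := by
  induction z with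
  | zero => exact ⟨0, by simp⟩
  | tmul m q =>
    have hm : m ∈ Submodule.span R (Set.range x) := by rw [hx]; trivial
    obtain ⟨c, rfl⟩ := (Submodule.mem_span_range_iff_exists_fun R).1 hm
    refine ⟨fun j => c j • q, ?_⟩
    simp [sum_tmul, smul_tmul]
  | add z w hz hw =>
    obtain ⟨q, rfl⟩ := hz
    obtain ⟨q', rfl⟩ := hw
    exact ⟨q + q', by simp [tmul_add, Finset.sum_add_distrib]⟩

/-- A module `M` is finitely generated exactly when for every family of modules `(Qᵢ)` the natural map
from `M ⊗ ∏ Qᵢ` to `∏ (M ⊗ Qᵢ)` is surjective. -/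
theorem result (R : Type u) [CommRing R] (M : Type u)
    [AddCommGroup M] [Module R M] :
    Module.Finite R M ↔ ∀ (ι : Type u) (Q : ι → Type u) [∀ i, AddCommGroup (Q i)]
      [∀ i, Module R (Q i)], Function.Surjective (TensorProduct.piRightHom R R M Q) := by
  constructor
  · intro hM ι Q _ _ y
    obtain ⟨n, x, hx⟩ := Module.Finite.exists_fin (R := R) (M := M)
    choose q hq using fun i => exists_sum_of_span x hx (y i)
    refine ⟨∑ j, x j ⊗ₜ[R] (fun i => q i j), ?_⟩
    ext i
    simp [hq i]
  · intro h
    obtain ⟨z, hz⟩ := h M (fun _ => R) (fun m => m ⊗ₜ[R] (1 : R))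
    obtain ⟨k, m, f, rfl⟩ := exists_sum_tmul_eq z
    have key : ∀ m₀ : M, m₀ = ∑ j, f j m₀ • m j := by
      intro m₀
      have h1 := congrFun hz m₀
      simp only [map_sum, piRightHom_tmul, Finset.sum_apply] at h1
      have h2 := congrArg (TensorProduct.rid R M) h1
      simp only [map_sum, TensorProduct.rid_tmul, one_smul] at h2
      exact h2.symm
    rw [Module.finite_def]
    have : (⊤ : Submodule R M) = Submodule.span R (Set.range m) := by
      refine le_antisymm ?_ le_top
      intro m₀ _
      rw [key m₀]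
      exact Submodule.sum_mem _ fun j _ =>
        Submodule.smul_mem _ _ (Submodule.subset_span ⟨j, rfl⟩)
    rw [this]
    exact Submodule.fg_span (Set.finite_range m)

end Groth.Agent.S0587
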