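import Groth.Statements.S0588
import Groth.Agent.S0587
import Mathlib.LinearAlgebra.TensorProduct.Vanishing
import Mathlib.Algebra.Module.FinitePresentation

set_option autoImplicit false
universe u
open CAlg

namespace Groth.Agent.S0588

open TensorProduct

/-- A module `M` is finitely presented exactly when for every family of modules `(Qᵢ)` the natural map
from `M ⊗ ∏ Qᵢ` to `∏ (M ⊗ Qᵢ)` is bijective. -/
theorem result (R : Type u) [CommRing R] (M : Type u)
    [AddCommGroup M] [Module R M] :
    Module.FinitePresentation R M ↔ ∀ (ι : Type u) (Q : ι → Type u) [∀ i, AddCommGroup (Q i)]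
      [∀ i, Module R (Q i)], Function.Bijective (TensorProduct.piRightHom R R M Q) := by
  constructor
  · intro hM ι Q _ _
    refine ⟨?_, (Groth.Agent.S0587.result R M).1 inferInstance ι Q⟩
    obtain ⟨n, m, f, g, hf, hfg⟩ := Module.FinitePresentation.exists_fin' R M
    set x : Fin n → M := fun j => f (fun j' => if j = j' then 1 else 0) with hxdef
    have hfx : ∀ v : Fin n → R, f v = ∑ j, v j • x j := fun v => f.pi_apply_eq_sum_univ v
    have hx : Submodule.span R (Set.range x) = ⊤ := by
      rw [eq_top_iff]
      intro y _
      obtain ⟨v, rfl⟩ := hf y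
      rw [hfx v]
      exact Submodule.sum_mem _ fun j _ =>
        Submodule.smul_mem _ _ (Submodule.subset_span ⟨j, rfl⟩)
    rw [injective_iff_map_eq_zero]
    intro z hz
    obtain ⟨p, rfl⟩ := Groth.Agent.S0587.exists_sum_of_span x hx z
    have hz' : ∀ i, ∑ j, x j ⊗ₜ[R] p j i = 0 := fun i => by
      have := congrFun hz i
      simpa using this
    have hv := fun i => vanishesTrivially_of_sum_tmul_eq_zero R hx (hz' i)
    choose k a y h1 h2 using hv
    have hcol : ∀ i t, ∃ b : Fin m → R, g b = fun j => a i j t := by
      intro i t
      apply (hfg _).1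
      rw [hfx]
      exact h2 i t
    choose b hb using hcol
    set c : Fin m → Fin n → R := fun s => g (fun s' => if s = s' then 1 else 0) with hcdef
    have hgc : ∀ v : Fin m → R, g v = ∑ s, v s • c s := fun v => g.pi_apply_eq_sum_univ v
    have ha : ∀ i j t, a i j t = ∑ s, b i t s * c s j := by
      intro i j t
      have := congrFun (hb i t) j
      rw [hgc] at this
      simp only [Finset.sum_apply, Pi.smul_apply, smul_eq_mul] at this
      exact this.symm
    apply sum_tmul_eq_zero_of_vanishesTrivially
    refine ⟨m, fun j s => c s j, fun s i => ∑ t, b i t s • y i t, ?_, ?_⟩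
    · intro j
      funext i
      have h1' : p j i = ∑ t, a i j t • y i t := h1 i j
      rw [h1']
      simp only [Finset.sum_apply, Pi.smul_apply, Finset.smul_sum, smul_smul]
      rw [Finset.sum_comm]
      refine Finset.sum_congr rfl fun t _ => ?_
      rw [ha i j t, Finset.sum_smul]
      refine Finset.sum_congr rfl fun s _ => ?_
      rw [mul_comm]
    · intro s
      rw [← hfx (c s)]
      exact (hfg _).2 ⟨_, rfl⟩
  · intro h
    have hfin : Module.Finite R M :=
      (Groth.Agent.S0587.result R M).2 fun ι Q _ _ => (h ι Q).2
    obtain ⟨n, x, hx⟩ := Module.Finite.exists_fin (R := R) (M := M)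
    set f : (Fin n → R) →ₗ[R] M := Fintype.linearCombination R x with hfdef
    have hf : Function.Surjective f :=
      (span_range_eq_top_iff_surjective_fintypeLinearCombination R x).1 hx
    set K := LinearMap.ker f with hK
    have hinj := (h K (fun _ => R)).1
    have hzero : ∑ j, x j ⊗ₜ[R] (fun κ : K => (κ : Fin n → R) j) = 0 := by
      apply hinj
      rw [map_zero]
      funext κ
      simp only [map_sum, piRightHom_tmul, Finset.sum_apply, Pi.zero_apply]
      have h3 : ∀ j, x j ⊗ₜ[R] ((κ : Fin n → R) j) = ((κ : Fin n → R) j • x j) ⊗ₜ[R] (1 : R) := by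
        intro j
        rw [smul_tmul, smul_eq_mul, mul_one]
      simp only [h3]
      rw [← sum_tmul]
      have : ∑ j, (κ : Fin n → R) j • x j = 0 := κ.2
      rw [this, zero_tmul]
    obtain ⟨k, a, y, h1, h2⟩ := vanishesTrivially_of_sum_tmul_eq_zero R hx hzero
    have hmem : ∀ t, (fun j => a j t) ∈ K := by
      intro t
      show f _ = 0
      exact h2 t
    have hKfg : K.FG := by
      have : K = Submodule.span R (Set.range fun t : Fin k => (fun j => a j t)) := by
        refine le_antisymm ?_ (Submodule.span_le.2 ?_)
        · intro κ hκ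
          have : κ = ∑ t, y t ⟨κ, hκ⟩ • (fun j => a j t) := by
            funext j
            have := congrFun (h1 j) ⟨κ, hκ⟩
            simp only [Finset.sum_apply, Pi.smul_apply, smul_eq_mul] at this ⊢
            rw [this]
            refine Finset.sum_congr rfl fun t _ => ?_
            rw [mul_comm]
          rw [this]
          exact Submodule.sum_mem _ fun t _ =>
            Submodule.smul_mem _ _ (Submodule.subset_span ⟨t, rfl⟩)
        · rintro _ ⟨t, rfl⟩
          exact hmem t
      rw [this]
      exact Submodule.fg_span (Set.finite_range _)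
    exact Module.finitePresentation_of_surjective f hf hKfg

end Groth.Agent.S0588
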