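import Groth.Statements.S0600
import Groth.Agent.Lib.H14AdicLocal2

set_option autoImplicit false
universe u
open CAlg

namespace Groth.Agent.S0600

/-- If `A` is a G-ring and `I` any ideal, then the map from `A` to its `I`-adic completion is regular. -/
theorem result (A : Type u) [CommRing A] (hA : CAlg.IsGRing A)
    (I : Ideal A) : CAlg.IsRegularHom A (AdicCompletion I A) := by
  haveI : IsNoetherianRing A := hA.1
  haveI : IsNoetherianRing (AdicCompletion I A) :=
    Groth.Agent.Lib.AdicNoeth.isNoetherianRing_adicCompletion I
  refine (Groth.Agent.S9259.result A (AdicCompletion I A)).2.2 (fun n hn => ?_)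
  letI := (Localization.localRingHom (Ideal.comap (algebraMap A (AdicCompletion I A)) n) n
      (algebraMap A (AdicCompletion I A)) rfl).toAlgebra
  haveI := Groth.Agent.Lib.H14AdicLocal.isLocalHom_localRingHom A (AdicCompletion I A) n
  exact Groth.Agent.Lib.H14AdicLocal.isRegularHom_of_cplMap_bijective _ _
    (Groth.Agent.Lib.H14AdicLocal.cplMap_bijective_adic A I n)
    (hA.2 (Ideal.comap (algebraMap A (AdicCompletion I A)) n))

end Groth.Agent.S0600
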