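import Groth.Statements.S0608
import Mathlib.RingTheory.MvPolynomial.Homogeneous
import Mathlib.RingTheory.Polynomial.Basic
import Mathlib.RingTheory.Regular.IsSMulRegular
import Mathlib.Tactic.LinearCombination

set_option autoImplicit false
universe u
open RRAlg

namespace Groth.Agent.S0608

open MvPolynomial

section aux
variable {A : Type u} [CommRing A] {n : ℕ}

/-- The ideal of `A` generated by the first `m` elements of the sequence. -/
def I (a : Fin n → A) (m : ℕ) : Ideal A := Ideal.span {x | ∃ j : Fin n, j.val < m ∧ x = a j}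

/-- The ideal generated by the `2 × 2` minors involving the first `m` variables. -/
noncomputable def J (a : Fin n → A) (m : ℕ) : Ideal (MvPolynomial (Fin n) A) :=
  Ideal.span {q | ∃ i j : Fin n, i.val < m ∧ j.val < m ∧ q = C (a i) * X j - C (a j) * X i}

/-- Exponent vectors of degree `d` in the first `m` variables. -/
def Good (m d : ℕ) (e : Fin n →₀ ℕ) : Prop := e.degree = d ∧ ∀ i, e i ≠ 0 → i.val < m

/-- Homogeneous polynomials of degree `d` in the first `m` variables. -/
def H (A : Type u) [CommRing A] {n : ℕ} (m d : ℕ) : Submodule A (MvPolynomial (Fin n) A) where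
  carrier := {P | ∀ e, coeff e P ≠ 0 → Good m d e}
  zero_mem' := by intro e he; simp at he
  add_mem' := by
    intro p q hp hq e he
    by_cases h : coeff e p = 0
    · apply hq; rw [coeff_add, h, zero_add] at he; exact he
    · exact hp e h
  smul_mem' := by
    intro c p hp e he
    apply hp
    intro h; apply he; rw [coeff_smul, h, smul_zero]

lemma mem_H {m d : ℕ} {P : MvPolynomial (Fin n) A} :
    P ∈ H A m d ↔ ∀ e, coeff e P ≠ 0 → Good m d e := Iff.rfl

lemma Good.mono {m d : ℕ} {e : Fin n →₀ ℕ} (h : Good m d e) : Good (m + 1) d e :=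
  ⟨h.1, fun i hi => Nat.lt_succ_of_lt (h.2 i hi)⟩

lemma H_mono {m d : ℕ} : H A (n := n) m d ≤ H A (m + 1) d :=
  fun _ hP e he => (hP e he).mono

lemma monomial_mem_H {m d : ℕ} {e : Fin n →₀ ℕ} (he : Good m d e) (c : A) :
    monomial e c ∈ H A m d := by
  classical
  intro e' he'
  rw [coeff_monomial] at he'
  split_ifs at he' with h
  · subst h; exact he
  · exact absurd rfl he'

lemma C_mul_mem_H {m d : ℕ} {P : MvPolynomial (Fin n) A} (hP : P ∈ H A m d) (c : A) :
    C c * P ∈ H A m d := by
  rw [C_mul']; exact Submodule.smul_mem _ _ hP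

lemma H_induction {m d : ℕ} (K : Ideal A) (Q : MvPolynomial (Fin n) A → Prop) (h0 : Q 0)
    (hadd : ∀ p q, Q p → Q q → Q (p + q))
    (hmon : ∀ e c, Good m d e → c ∈ K → Q (monomial e c))
    (P : MvPolynomial (Fin n) A) (hP : P ∈ H A m d) (hK : ∀ e, coeff e P ∈ K) : Q P := by
  rw [← P.support_sum_monomial_coeff]
  apply Finset.sum_induction _ Q hadd h0
  intro e he
  exact hmon e _ (hP e (mem_support_iff.mp he)) (hK e)

lemma good_sub {m d : ℕ} {e : Fin n →₀ ℕ} (he : Good m (d + 1) e) {i : Fin n} (hi : e i ≠ 0) :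
    Good m d (e - Finsupp.single i 1) := by
  constructor
  · have h := Finsupp.sub_add_single_one_cancel hi
    have h2 : (e - Finsupp.single i 1 + Finsupp.single i 1).degree = d + 1 := by rw [h]; exact he.1
    rw [map_add, Finsupp.degree_single] at h2
    exact Nat.succ_injective h2
  · intro k hk
    apply he.2 k
    intro h0
    apply hk
    rw [Finsupp.tsub_apply, h0, Nat.zero_sub]

lemma good_add {m d : ℕ} {e : Fin n →₀ ℕ} (he : Good m d e) {i : Fin n} (hi : i.val < m) :
    Good m (d + 1) (e + Finsupp.single i 1) := by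
  classical
  constructor
  · rw [map_add, Finsupp.degree_single, he.1]
  · intro k hk
    by_cases hki : k = i
    · subst hki; exact hi
    · apply he.2 k
      intro h0
      apply hk
      rw [Finsupp.add_apply, h0, Finsupp.single_apply, if_neg (Ne.symm hki), add_zero]

lemma X_mul_monomial_sub {e : Fin n →₀ ℕ} {i : Fin n} (hi : e i ≠ 0) (c : A) :
    X i * monomial (e - Finsupp.single i 1) c = monomial e c := by
  have h := Finsupp.sub_add_single_one_cancel hi
  conv_rhs => rw [← h, monomial_add_single, pow_one]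
  ring

/-- Decomposition along the variables. -/
lemma D1 {m d : ℕ} (Q : MvPolynomial (Fin n) A) (hQ : Q ∈ H A m (d + 1)) :
    ∃ q : Fin n → MvPolynomial (Fin n) A, (∀ i, q i ∈ H A m d) ∧ (∀ i, m ≤ i.val → q i = 0) ∧
      Q = ∑ i, X i * q i := by
  classical
  refine H_induction (m := m) (d := d + 1) ⊤ (fun Q => ∃ q : Fin n → MvPolynomial (Fin n) A,
    (∀ i, q i ∈ H A m d) ∧ (∀ i, m ≤ i.val → q i = 0) ∧ Q = ∑ i, X i * q i) ?_ ?_ ?_ Q hQ
    (fun _ => Submodule.mem_top)
  · exact ⟨fun _ => 0, fun _ => zero_mem _, fun _ _ => rfl, by simp⟩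
  · rintro p q ⟨p', hp1, hp2, rfl⟩ ⟨q', hq1, hq2, rfl⟩
    refine ⟨fun i => p' i + q' i, fun i => add_mem (hp1 i) (hq1 i), fun i hi => ?_, ?_⟩
    · simp [hp2 i hi, hq2 i hi]
    · rw [← Finset.sum_add_distrib]
      exact Finset.sum_congr rfl (fun i _ => by ring)
  · intro e c he _
    have hne : e ≠ 0 := by
      intro h
      have := he.1
      rw [h, map_zero] at this
      exact absurd this (Nat.succ_ne_zero d).symm
    obtain ⟨i, hi⟩ : ∃ i, e i ≠ 0 := by
      by_contra hcon
      push Not at hcon
      exact hne (Finsupp.ext hcon)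
    refine ⟨fun k => if k = i then monomial (e - Finsupp.single i 1) c else 0, fun k => ?_,
      fun k hk => ?_, ?_⟩
    · show (if k = i then monomial (e - Finsupp.single i 1) c else 0) ∈ H A m d
      split_ifs
      · exact monomial_mem_H (good_sub he hi) c
      · exact zero_mem _
    · have : k ≠ i := by
        rintro rfl
        exact absurd (he.2 k hi) (not_lt.mpr hk)
      simp [this]
    · simp [X_mul_monomial_sub hi]

/-- Decomposition with respect to the last variable. -/
lemma D2 {m d : ℕ} (j : Fin n) (hj : j.val = m) (F : MvPolynomial (Fin n) A)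
    (hF : F ∈ H A (m + 1) (d + 1)) :
    ∃ G ∈ H A (n := n) (m + 1) d, ∃ H' ∈ H A (n := n) m (d + 1), F = X j * G + H' := by
  classical
  refine H_induction (m := m + 1) (d := d + 1) ⊤ (fun F => ∃ G ∈ H A (n := n) (m + 1) d,
    ∃ H' ∈ H A (n := n) m (d + 1), F = X j * G + H') ?_ ?_ ?_ F hF (fun _ => Submodule.mem_top)
  · exact ⟨0, zero_mem _, 0, zero_mem _, by simp⟩
  · rintro p q ⟨G1, hG1, H1, hH1, rfl⟩ ⟨G2, hG2, H2, hH2, rfl⟩
    exact ⟨G1 + G2, add_mem hG1 hG2, H1 + H2, add_mem hH1 hH2, by ring⟩
  · intro e c he _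
    by_cases hej : e j = 0
    · refine ⟨0, zero_mem _, monomial e c, monomial_mem_H ⟨he.1, fun i hi => ?_⟩ c, by simp⟩
      have h1 := he.2 i hi
      have h2 : i ≠ j := by rintro rfl; exact hi hej
      have h3 : i.val ≠ j.val := fun h => h2 (Fin.ext h)
      omega
    · exact ⟨monomial (e - Finsupp.single j 1) c, monomial_mem_H (good_sub he hej) c, 0,
        zero_mem _, by rw [X_mul_monomial_sub hej, add_zero]⟩

lemma ofList_take (a : Fin n → A) (m : ℕ) : Ideal.ofList ((List.ofFn a).take m) = I a m := by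
  unfold Ideal.ofList I
  congr 1
  ext x
  simp only [Set.mem_ofPred_eq, List.mem_take_iff_getElem, List.getElem_ofFn, List.length_ofFn]
  constructor
  · rintro ⟨i, hi, rfl⟩
    exact ⟨⟨i, (lt_min_iff.mp hi).2⟩, (lt_min_iff.mp hi).1, rfl⟩
  · rintro ⟨j, hj, rfl⟩
    exact ⟨j.val, lt_min_iff.mpr ⟨hj, j.isLt⟩, rfl⟩

lemma regular_mod (a : Fin n → A) (ha : RingTheory.Sequence.IsWeaklyRegular A (List.ofFn a))
    (j : Fin n) (x : A) (hx : a j * x ∈ I a j.val) : x ∈ I a j.val := by
  have h := ha.regular_mod_prev j.val (by simp [j.isLt])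
  rw [ofList_take, isSMulRegular_quotient_iff_mem_of_smul_mem] at h
  have h' := h x
  simp only [List.getElem_ofFn, Fin.eta, smul_eq_mul, Ideal.mul_top] at h'
  exact h' hx

lemma J_mono (a : Fin n → A) {m : ℕ} : J a m ≤ J a (m + 1) := by
  apply Ideal.span_mono
  rintro q ⟨i, j, hi, hj, rfl⟩
  exact ⟨i, j, Nat.lt_succ_of_lt hi, Nat.lt_succ_of_lt hj, rfl⟩

lemma J_le_map (a : Fin n → A) (m : ℕ) : J a m ≤ Ideal.map (C : A →+* MvPolynomial (Fin n) A) (I a m) := by
  apply Ideal.span_le.mpr
  rintro q ⟨i, j, hi, hj, rfl⟩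
  refine Ideal.sub_mem _ (Ideal.mul_mem_right _ _ (Ideal.mem_map_of_mem _ (Ideal.subset_span ?_)))
    (Ideal.mul_mem_right _ _ (Ideal.mem_map_of_mem _ (Ideal.subset_span ?_)))
  · exact ⟨i, hi, rfl⟩
  · exact ⟨j, hj, rfl⟩

/-- A polynomial with coefficients in `I m` has the same value as one of higher degree. -/
lemma D3 (a : Fin n → A) {m d : ℕ} (P : MvPolynomial (Fin n) A) (hP : P ∈ H A m d)
    (hK : ∀ e, coeff e P ∈ I a m) :
    ∃ P' ∈ H A (n := n) m (d + 1), aeval a P' = aeval a P := by
  refine H_induction (m := m) (d := d) (I a m) (fun P => ∃ P' ∈ H A (n := n) m (d + 1),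
    aeval a P' = aeval a P) ?_ ?_ ?_ P hP hK
  · exact ⟨0, zero_mem _, rfl⟩
  · rintro p q ⟨p', hp1, hp2⟩ ⟨q', hq1, hq2⟩
    exact ⟨p' + q', add_mem hp1 hq1, by rw [map_add, map_add, hp2, hq2]⟩
  · intro e c he hc
    unfold I at hc
    induction hc using Submodule.span_induction with
    | mem x hx =>
      obtain ⟨j, hj, rfl⟩ := hx
      refine ⟨monomial (e + Finsupp.single j 1) 1, monomial_mem_H (good_add he hj) 1, ?_⟩
      rw [monomial_add_single, pow_one, map_mul, aeval_X, aeval_monomial, aeval_monomial]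
      simp only [map_one, one_mul, Algebra.algebraMap_self, RingHom.id_apply]
      ring
    | zero => exact ⟨0, zero_mem _, by simp⟩
    | add x y _ _ hx hy =>
      obtain ⟨p', hp1, hp2⟩ := hx
      obtain ⟨q', hq1, hq2⟩ := hy
      exact ⟨p' + q', add_mem hp1 hq1, by rw [map_add, hp2, hq2, ← map_add, ← map_add]⟩
    | smul r x _ hx =>
      obtain ⟨p', hp1, hp2⟩ := hx
      refine ⟨r • p', Submodule.smul_mem _ _ hp1, ?_⟩
      rw [map_smul, hp2, ← map_smul, smul_monomial]

lemma eq_C_of (F : MvPolynomial (Fin n) A) (h : ∀ e, coeff e F ≠ 0 → e = 0) :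
    F = C (coeff 0 F) := by
  classical
  ext e
  rw [coeff_C]
  split_ifs with he
  · rw [← he]
  · by_contra hne
    exact he (h e hne).symm

lemma eq_zero_of_aeval (a : Fin n → A) (F : MvPolynomial (Fin n) A)
    (h : ∀ e, coeff e F ≠ 0 → e = 0) (hev : aeval a F = 0) : F = 0 := by
  rw [eq_C_of F h] at hev ⊢
  rw [aeval_C] at hev
  simp only [Algebra.algebraMap_self, RingHom.id_apply] at hev
  rw [hev, map_zero]

/-- The key auxiliary statement: `a j` is a non-zero-divisor modulo the `d`-th power of
`(a_0, …, a_{j-1})`, phrased via values of homogeneous polynomials. -/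
lemma star (a : Fin n → A) (ha : RingTheory.Sequence.IsWeaklyRegular A (List.ofFn a)) (j : Fin n)
    (hP : ∀ d, ∀ F ∈ H A (n := n) j.val d, aeval a F = 0 → F ∈ J a j.val) :
    ∀ d (x : A) (Q : MvPolynomial (Fin n) A), Q ∈ H A j.val d → a j * x = aeval a Q →
      ∃ P ∈ H A (n := n) j.val d, x = aeval a P := by
  intro d
  induction d with
  | zero =>
    intro x Q _ _
    refine ⟨C x, ?_, by simp⟩
    rw [← monomial_zero']  -- C x = monomial 0 x
    exact monomial_mem_H ⟨map_zero _, fun i hi => absurd rfl hi⟩ x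
  | succ d ih =>
    intro x Q hQ hx
    obtain ⟨q, hq, hq0, rfl⟩ := D1 Q hQ
    have hQ' : ∑ i, C (a i) * q i ∈ H A (n := n) j.val d :=
      sum_mem fun i _ => C_mul_mem_H (hq i) _
    have hev : aeval a (∑ i, C (a i) * q i) = a j * x := by
      rw [hx]
      simp only [map_sum, map_mul, aeval_X, aeval_C, Algebra.algebraMap_self, RingHom.id_apply]
    obtain ⟨P', hP', hxP'⟩ := ih x _ hQ' hev.symm
    have h1 : C (a j) * P' - ∑ i, C (a i) * q i ∈ J a j.val := by
      apply hP d _ (sub_mem (C_mul_mem_H hP' _) hQ')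
      rw [map_sub, hev, map_mul, aeval_C, ← hxP']
      simp
    have h2 : ∑ i, C (a i) * q i ∈ Ideal.map (C : A →+* MvPolynomial (Fin n) A) (I a j.val) := by
      refine sum_mem fun i _ => ?_
      by_cases hi : i.val < j.val
      · exact Ideal.mul_mem_right _ _ (Ideal.mem_map_of_mem _ (Ideal.subset_span ⟨i, hi, rfl⟩))
      · rw [hq0 i (not_lt.mp hi), mul_zero]; exact zero_mem _
    have h3 : C (a j) * P' ∈ Ideal.map (C : A →+* MvPolynomial (Fin n) A) (I a j.val) := by
      have := Ideal.add_mem _ (J_le_map a _ h1) h2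
      rwa [sub_add_cancel] at this
    rw [mem_map_C_iff] at h3
    have h4 : ∀ e, coeff e P' ∈ I a j.val := by
      intro e
      apply regular_mod a ha j
      have := h3 e
      rwa [coeff_C_mul] at this
    obtain ⟨P, hP1, hP2⟩ := D3 a P' hP' h4
    exact ⟨P, hP1, by rw [hP2, hxP']⟩

theorem main (a : Fin n → A) (ha : RingTheory.Sequence.IsWeaklyRegular A (List.ofFn a)) :
    ∀ m, m ≤ n → ∀ d, ∀ F ∈ H A (n := n) m d, aeval a F = 0 → F ∈ J a m := by
  intro m
  induction m with
  | zero =>
    intro _ d F hF hev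
    rw [eq_zero_of_aeval a F (fun e he => ?_) hev]
    · exact zero_mem _
    · ext i
      by_contra hi
      exact absurd ((hF e he).2 i hi) (Nat.not_lt_zero _)
  | succ m ih =>
    intro hm
    have ih' := ih (Nat.le_of_succ_le hm)
    have st := star a ha ⟨m, hm⟩ ih'
    intro d
    induction d with
    | zero =>
      intro F hF hev
      rw [eq_zero_of_aeval a F (fun e he => ?_) hev]
      · exact zero_mem _
      · exact (Finsupp.degree_eq_zero_iff e).mp (hF e he).1
    | succ d ihd =>
      intro F hF hev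
      set j : Fin n := ⟨m, hm⟩ with hj
      obtain ⟨G, hG, H', hH', rfl⟩ := D2 j rfl F hF
      have h1 : a j * aeval a G = aeval a (-H') := by
        simp only [map_add, map_mul, aeval_X, map_neg] at hev ⊢
        linear_combination hev
      obtain ⟨H'', hH'', hGH⟩ := st (d + 1) (aeval a G) (-H') (neg_mem hH') h1
      obtain ⟨q, hq, hq0, rfl⟩ := D1 H'' hH''
      have hsum : aeval a (∑ i, C (a i) * q i) = aeval a (∑ i, X i * q i) := by
        simp only [map_sum, map_mul, aeval_X, aeval_C, Algebra.algebraMap_self, RingHom.id_apply]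
      have h2 : G - ∑ i, C (a i) * q i ∈ J a (m + 1) := by
        apply ihd
        · exact sub_mem hG (sum_mem fun i _ => C_mul_mem_H (H_mono (hq i)) _)
        · rw [map_sub, hsum, ← hGH, sub_self]
      have h3 : C (a j) * (∑ i, X i * q i) + H' ∈ J a m := by
        apply ih' (d + 1)
        · exact add_mem (C_mul_mem_H hH'' _) hH'
        · rw [map_add, map_mul, aeval_C, ← hGH]
          simp only [Algebra.algebraMap_self, RingHom.id_apply]
          rw [h1, map_neg, neg_add_cancel]
      have h4 : ∑ i, (C (a i) * X j - C (a j) * X i) * q i ∈ J a (m + 1) := by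
        refine sum_mem fun i _ => ?_
        by_cases hi : i.val < m
        · exact Ideal.mul_mem_right _ _
            (Ideal.subset_span ⟨i, j, Nat.lt_succ_of_lt hi, Nat.lt_succ_self m, rfl⟩)
        · rw [hq0 i (not_lt.mp hi), mul_zero]; exact zero_mem _
      have e : X j * ∑ i, C (a i) * q i =
          ∑ i, (C (a i) * X j - C (a j) * X i) * q i + C (a j) * ∑ i, X i * q i := by
        rw [Finset.mul_sum, Finset.mul_sum, ← Finset.sum_add_distrib]
        exact Finset.sum_congr rfl (fun i _ => by ring)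
      have : X j * G + H' = X j * (G - ∑ i, C (a i) * q i) +
          ∑ i, (C (a i) * X j - C (a j) * X i) * q i + (C (a j) * (∑ i, X i * q i) + H') := by
        linear_combination e
      rw [this]
      exact add_mem (add_mem (Ideal.mul_mem_left _ _ h2) h4) (J_mono a h3)

lemma prod_eq (a : Fin n → A) (e : Fin n →₀ ℕ) :
    (e.prod fun i k => (Polynomial.C (a i) * (Polynomial.X : Polynomial A)) ^ k) =
      Polynomial.C (e.prod fun i k => a i ^ k) * Polynomial.X ^ e.degree := by
  unfold Finsupp.prod
  rw [Finsupp.degree_apply, map_prod, ← Finset.prod_pow_eq_pow_sum, ← Finset.prod_mul_distrib]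
  refine Finset.prod_congr rfl fun i _ => ?_
  show (Polynomial.C (a i) * Polynomial.X) ^ (e i) = Polynomial.C (a i ^ e i) * Polynomial.X ^ e i
  rw [mul_pow, map_pow]

lemma key (a : Fin n → A) (F : MvPolynomial (Fin n) A) (d : ℕ) :
    (aeval (R := A) (fun i : Fin n => Polynomial.C (a i) * (Polynomial.X : Polynomial A)) F).coeff d
      = aeval a (homogeneousComponent d F) := by
  induction F using MvPolynomial.induction_on' with
  | monomial e c =>
    rw [aeval_monomial, prod_eq, Polynomial.algebraMap_eq, ← mul_assoc, ← map_mul,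
      Polynomial.coeff_C_mul_X_pow,
      homogeneousComponent_of_mem (isHomogeneous_monomial c (rfl : e.degree = e.degree))]
    split_ifs
    · rw [aeval_monomial]; rfl
    · rw [map_zero]
  | add p q hp hq =>
    rw [map_add, Polynomial.coeff_add, hp, hq, map_add, map_add]

end aux

/-- Let a_1, …, a_n be a weakly regular sequence in a commutative ring A (each a_i is a non-zero-divisor
modulo (a_1, …, a_(i−1)); the a_i are allowed to generate the unit ideal). Then the kernel of the
A-algebra map A[X_1, …, X_n] → A[T] sending X_i to a_i·T, whose image is the Rees algebra of the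
ideal (a_1, …, a_n), is the ideal generated by the elements a_i X_j − a_j X_i. (The published
statement assumes a regular sequence; only weak regularity is assumed here.) -/
theorem result {A : Type u} [CommRing A] {n : ℕ} (a : Fin n → A)
    (ha : RingTheory.Sequence.IsWeaklyRegular A (List.ofFn a)) :
    RingHom.ker (MvPolynomial.aeval (R := A)
      (fun i : Fin n => Polynomial.C (a i) * (Polynomial.X : Polynomial A))) =
      Ideal.span {q : MvPolynomial (Fin n) A | ∃ i j : Fin n,
        q = MvPolynomial.C (a i) * MvPolynomial.X j - MvPolynomial.C (a j) * MvPolynomial.X i} := by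
  have hJ : Ideal.span {q : MvPolynomial (Fin n) A | ∃ i j : Fin n,
        q = MvPolynomial.C (a i) * MvPolynomial.X j - MvPolynomial.C (a j) * MvPolynomial.X i} =
      J a n := by
    unfold J
    congr 1
    ext q
    constructor
    · rintro ⟨i, j, rfl⟩
      exact ⟨i, j, i.isLt, j.isLt, rfl⟩
    · rintro ⟨i, j, -, -, rfl⟩
      exact ⟨i, j, rfl⟩
  rw [hJ]
  apply le_antisymm
  · intro F hF
    rw [RingHom.mem_ker] at hF
    rw [← sum_homogeneousComponent F]
    refine sum_mem fun d _ => ?_
    apply main a ha n le_rfl d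
    · intro e he
      rw [coeff_homogeneousComponent] at he
      split_ifs at he with h
      · exact ⟨h, fun i _ => i.isLt⟩
      · exact absurd rfl he
    · rw [← key, hF, Polynomial.coeff_zero]
  · apply Ideal.span_le.mpr
    rintro q ⟨i, j, -, -, rfl⟩
    simp only [SetLike.mem_coe, RingHom.mem_ker, map_sub, map_mul, aeval_C, aeval_X,
      Polynomial.algebraMap_eq]
    ring

end Groth.Agent.S0608
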