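import Groth.Statements.S0611
import Mathlib.RingTheory.Regular.RegularSequence
import Mathlib.RingTheory.KrullDimension.Regular
import Mathlib.RingTheory.Ideal.KrullsHeightTheorem
import Mathlib.RingTheory.Nakayama

set_option autoImplicit false
universe u
open RRAlg

namespace Groth.Agent.S0611

open RingTheory.Sequence IsLocalRing
open scoped Pointwise

section
variable {A : Type u} [CommRing A] [IsLocalRing A]

lemma exchange (as : List A) (b₀ : A) (hb : b₀ ∈ Ideal.ofList as)
    (hnb : b₀ ∉ maximalIdeal A * Ideal.ofList as) :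
    ∃ (x : A) (as' : List A) (c : A), as.Perm (x :: as') ∧ IsUnit c ∧
      b₀ - c * x ∈ Ideal.ofList as' := by
  induction as generalizing b₀ with
  | nil =>
    rw [Ideal.ofList_nil, Ideal.mem_bot] at hb
    subst hb
    exact absurd (zero_mem _) hnb
  | cons r rs ih =>
    rw [Ideal.ofList_cons, Submodule.mem_sup] at hb
    obtain ⟨y, hy, z, hz, rfl⟩ := hb
    obtain ⟨c, rfl⟩ := Ideal.mem_span_singleton'.1 hy
    by_cases hc : IsUnit c
    · exact ⟨r, rs, c, List.Perm.refl _, hc, by simpa using hz⟩
    · have hcm : c ∈ maximalIdeal A := (mem_maximalIdeal c).2 hc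
      have hz' : z ∉ maximalIdeal A * Ideal.ofList rs := by
        intro hzz
        apply hnb
        refine add_mem (Ideal.mul_mem_mul hcm (Ideal.subset_span List.mem_cons_self)) ?_
        exact Ideal.mul_mono_right (by rw [Ideal.ofList_cons]; exact le_sup_right) hzz
      obtain ⟨x, rs', c', hperm, hc', hx⟩ := ih z hz hz'
      refine ⟨x, r :: rs', c', ?_, hc', ?_⟩
      · exact (List.Perm.cons r hperm).trans (List.Perm.swap x r rs')
      · rw [Ideal.ofList_cons]
        have : c * r + z - c' * x = c * r + (z - c' * x) := by ring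
        rw [this]
        exact add_mem (Ideal.mem_sup_left (Ideal.mem_span_singleton'.2 ⟨c, rfl⟩))
          (Ideal.mem_sup_right hx)

variable [IsNoetherianRing A]

lemma not_mem_mul (as : List A) (b₀ : A) (bs' : List A) (hlen : as.length = bs'.length + 1)
    (hreg : IsRegular A as) (hI : Ideal.ofList as = Ideal.ofList (b₀ :: bs')) :
    b₀ ∉ maximalIdeal A * Ideal.ofList as := by
  classical
  intro hb
  have hItop : Ideal.ofList as ≠ ⊤ := by
    have := hreg.top_ne_smul
    intro h
    apply this
    rw [h]
    simp
  have hle : Ideal.ofList as ≤ Ideal.ofList bs' := by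
    apply Submodule.le_of_le_smul_of_le_jacobson_bot (I := maximalIdeal A)
      (IsNoetherian.noetherian _) (maximalIdeal_le_jacobson _)
    conv_lhs => rw [hI, Ideal.ofList_cons]
    apply sup_le
    · rw [Ideal.span_singleton_le_iff_mem]
      exact Ideal.mem_sup_right hb
    · exact le_sup_left
  have hIeq : Ideal.ofList as = Ideal.span ((bs'.toFinset : Finset A) : Set A) := by
    apply le_antisymm
    · refine hle.trans (Ideal.span_mono ?_)
      intro x hx
      simpa using hx
    · rw [hI]
      apply Ideal.span_mono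
      intro x hx
      have : x ∈ bs' := by simpa using hx
      exact List.mem_cons_of_mem _ this
  have h1 := ringKrullDim_add_length_eq_ringKrullDim_of_isRegular as hreg
  have h2 := ringKrullDim_le_ringKrullDim_quotient_add_card (R := A) bs'.toFinset (by
    intro x hx
    have hx' : x ∈ bs' := by simpa using hx
    rw [IsLocalRing.ringJacobson_eq_maximalIdeal]
    exact le_maximalIdeal hItop (hI ▸ Ideal.subset_span (List.mem_cons_of_mem _ hx')))
  rw [← hIeq] at h2
  haveI : Nontrivial (A ⧸ Ideal.ofList as) := Ideal.Quotient.nontrivial_iff.2 hItop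
  haveI : IsLocalRing (A ⧸ Ideal.ofList as) :=
    IsLocalRing.of_surjective' (Ideal.Quotient.mk _) Ideal.Quotient.mk_surjective
  have hne_bot : ringKrullDim (A ⧸ Ideal.ofList as) ≠ ⊥ := ringKrullDim_ne_bot
  have hne_top : ringKrullDim (A ⧸ Ideal.ofList as) ≠ ⊤ := ringKrullDim_ne_top
  obtain ⟨k, hk⟩ : ∃ k : ℕ, ringKrullDim (A ⧸ Ideal.ofList as) = k := by
    have := (WithBot.ne_bot_iff_exists.1 hne_bot)
    obtain ⟨d, hd⟩ := this
    have hd' : d ≠ ⊤ := by
      intro h; apply hne_top; rw [← hd, h]; rfl
    obtain ⟨k, hk⟩ := (ENat.ne_top_iff_exists.1 hd')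
    exact ⟨k, by rw [← hd, ← hk]; rfl⟩
  rw [← h1, hk, hlen] at h2
  have hcard : bs'.toFinset.card ≤ bs'.length := List.toFinset_card_le bs'
  have h3 : ((k + (bs'.length + 1) : ℕ) : WithBot ℕ∞) ≤ ((k + bs'.toFinset.card : ℕ) : WithBot ℕ∞) := by
    push_cast
    exact h2
  have h4 : k + (bs'.length + 1) ≤ k + bs'.toFinset.card := by exact_mod_cast h3
  omega

end

theorem main : ∀ (n : ℕ) (A : Type u) [CommRing A] [IsLocalRing A] [IsNoetherianRing A]
    (as bs : List A), as.length = n → bs.length = n → IsRegular A as →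
    Ideal.ofList as = Ideal.ofList bs → IsRegular A bs := by
  intro n
  induction n with
  | zero =>
    intro A _ _ _ as bs has hbs hreg _
    rw [List.length_eq_zero_iff] at has hbs
    subst has; subst hbs
    exact hreg
  | succ n ih =>
    intro A _ _ _ as bs has hbs hreg hI
    obtain ⟨b₀, bs', rfl⟩ := List.exists_cons_of_length_eq_add_one hbs
    have hbs' : bs'.length = n := by simpa using hbs
    have hItop : Ideal.ofList as ≠ ⊤ := by
      have := hreg.top_ne_smul
      intro h
      apply this
      rw [h]
      simp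
    have hb₀I : b₀ ∈ Ideal.ofList as := by
      rw [hI]; exact Ideal.subset_span List.mem_cons_self
    have hnb := not_mem_mul as b₀ bs' (by omega) hreg hI
    obtain ⟨x, as', c, hperm, hc, hx⟩ := exchange as b₀ hb₀I hnb
    have has' : as'.length = n := by
      have := hperm.length_eq
      simp only [List.length_cons] at this
      omega
    have hreg1 : IsRegular A (x :: as') := IsLocalRing.isRegular_of_perm hreg hperm
    have hreg2 : IsRegular A (as' ++ [x]) :=
      IsLocalRing.isRegular_of_perm hreg1 (List.perm_append_singleton x as').symm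
    have hw2 := (isWeaklyRegular_append_iff A as' [x]).1 hreg2.toIsWeaklyRegular
    have hx_reg : IsSMulRegular (A ⧸ (Ideal.ofList as' • ⊤ : Submodule A A)) x :=
      (isWeaklyRegular_singleton_iff _ x).1 hw2.2
    have hsm : ∀ q : A ⧸ (Ideal.ofList as' • ⊤ : Submodule A A), b₀ • q = c • x • q := by
      intro q
      obtain ⟨a, rfl⟩ := Submodule.Quotient.mk_surjective _ q
      rw [← Submodule.Quotient.mk_smul, ← Submodule.Quotient.mk_smul,
        ← Submodule.Quotient.mk_smul, Submodule.Quotient.eq]
      have : b₀ • a - c • x • a = (b₀ - c * x) • a := by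
        simp only [smul_eq_mul]; ring
      rw [this]
      exact Submodule.smul_mem_smul hx Submodule.mem_top
    have hb₀_reg : IsSMulRegular (A ⧸ (Ideal.ofList as' • ⊤ : Submodule A A)) b₀ := by
      intro q q' h
      simp only [hsm] at h
      exact hx_reg (hc.smul_left_cancel.1 h)
    have hw3 : IsWeaklyRegular A (as' ++ [b₀]) :=
      (isWeaklyRegular_append_iff A as' [b₀]).2
        ⟨hw2.1, (isWeaklyRegular_singleton_iff _ b₀).2 hb₀_reg⟩
    have hmem : ∀ r ∈ as' ++ [b₀], r ∈ maximalIdeal A := by
      intro r hr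
      apply le_maximalIdeal hItop
      rw [List.mem_append, List.mem_singleton] at hr
      rcases hr with hr | rfl
      · exact Ideal.subset_span (hperm.mem_iff.2 (List.mem_cons_of_mem _ hr))
      · exact hb₀I
    have hreg3 : IsRegular A (as' ++ [b₀]) :=
      IsRegular.of_isWeaklyRegular_of_mem_maximalIdeal A hmem hw3
    have hreg4 : IsRegular A (b₀ :: as') :=
      IsLocalRing.isRegular_of_perm hreg3 (List.perm_append_singleton b₀ as')
    obtain ⟨hb₀reg, hreg5⟩ := (isRegular_cons_iff A b₀ as').1 hreg4
    -- the ideals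
    have hIas : Ideal.ofList as = Ideal.span {b₀} ⊔ Ideal.ofList as' := by
      have h1 : Ideal.ofList as = Ideal.ofList (x :: as') := by
        unfold Ideal.ofList
        congr 1
        ext r
        exact hperm.mem_iff
      rw [h1, Ideal.ofList_cons]
      apply le_antisymm
      · apply sup_le _ le_sup_right
        rw [Ideal.span_singleton_le_iff_mem]
        obtain ⟨c', hc'⟩ := hc.exists_left_inv
        have : x = c' * b₀ - c' * (b₀ - c * x) := by
          have : c' * (b₀ - c * x) = c' * b₀ - (c' * c) * x := by ring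
          rw [this, hc']; ring
        rw [this]
        exact sub_mem (Ideal.mem_sup_left (Ideal.mul_mem_left _ _ (Ideal.mem_span_singleton_self _)))
          (Ideal.mem_sup_right (Ideal.mul_mem_left _ _ hx))
      · apply sup_le _ le_sup_right
        rw [Ideal.span_singleton_le_iff_mem]
        have : b₀ = c * x + (b₀ - c * x) := by ring
        rw [this]
        exact add_mem (Ideal.mem_sup_left (Ideal.mul_mem_left _ _ (Ideal.mem_span_singleton_self _)))
          (Ideal.mem_sup_right hx)
    have hb₀m : b₀ ∈ maximalIdeal A := le_maximalIdeal hItop hb₀I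
    have hspan_ne : Ideal.span {b₀} ≠ ⊤ := by
      intro h
      rw [Ideal.span_singleton_eq_top] at h
      exact (mem_maximalIdeal b₀).1 hb₀m h
    haveI : Nontrivial (A ⧸ Ideal.span {b₀}) := Ideal.Quotient.nontrivial_iff.2 hspan_ne
    haveI : IsLocalRing (A ⧸ Ideal.span {b₀}) :=
      IsLocalRing.of_surjective' (Ideal.Quotient.mk _) Ideal.Quotient.mk_surjective
    have heq : (b₀ • ⊤ : Submodule A A) = Ideal.span {b₀} := by
      simp [← Submodule.ideal_span_singleton_smul]
    let e : QuotSMulTop b₀ A ≃+ (A ⧸ Ideal.span {b₀}) :=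
      (Submodule.quotEquivOfEq _ _ heq).toAddEquiv
    have hcompat : ∀ (l : List A), List.Forall₂
        (fun (r : A) (s : A ⧸ Ideal.span {b₀}) => ∀ y, e (r • y) = s • e y) l
        (l.map (Ideal.Quotient.mk (Ideal.span {b₀}))) := by
      intro l
      refine List.forall₂_map_right_iff.mpr <| List.forall₂_same.mpr fun r _ y => ?_
      obtain ⟨a, rfl⟩ := Submodule.Quotient.mk_surjective _ y
      rw [← Submodule.Quotient.mk_smul]
      change Submodule.quotEquivOfEq _ _ heq (Submodule.Quotient.mk (r • a)) =
        Ideal.Quotient.mk (Ideal.span {b₀}) r •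
          Submodule.quotEquivOfEq _ _ heq (Submodule.Quotient.mk a)
      rw [Submodule.quotEquivOfEq_mk, Submodule.quotEquivOfEq_mk]
      rfl
    have hreg6 : IsRegular (A ⧸ Ideal.span {b₀})
        (as'.map (Ideal.Quotient.mk (Ideal.span {b₀}))) :=
      (AddEquiv.isRegular_congr (hcompat as')).1 hreg5
    have hI' : Ideal.ofList (as'.map (Ideal.Quotient.mk (Ideal.span {b₀}))) =
        Ideal.ofList (bs'.map (Ideal.Quotient.mk (Ideal.span {b₀}))) := by
      rw [← Ideal.map_ofList, ← Ideal.map_ofList]
      have h1 : Ideal.span {b₀} ⊔ Ideal.ofList as' = Ideal.span {b₀} ⊔ Ideal.ofList bs' := by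
        rw [← hIas, hI, Ideal.ofList_cons]
      have h2 : ∀ J : Ideal A, Ideal.map (Ideal.Quotient.mk (Ideal.span {b₀})) J =
          Ideal.map (Ideal.Quotient.mk (Ideal.span {b₀})) (Ideal.span {b₀} ⊔ J) := by
        intro J
        rw [Ideal.map_sup, Ideal.map_quotient_self, bot_sup_eq]
      rw [h2 (Ideal.ofList as'), h2 (Ideal.ofList bs'), h1]
    have hreg7 : IsRegular (A ⧸ Ideal.span {b₀})
        (bs'.map (Ideal.Quotient.mk (Ideal.span {b₀}))) :=
      ih (A ⧸ Ideal.span {b₀}) _ _ (by simp [has']) (by simp [hbs']) hreg6 hI'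
    have hreg8 : IsRegular (QuotSMulTop b₀ A) bs' :=
      (AddEquiv.isRegular_congr (hcompat bs')).2 hreg7
    exact (isRegular_cons_iff A b₀ bs').2 ⟨hb₀reg, hreg8⟩


/-- In a Noetherian local ring, any minimal generating set of an ideal generated by a regular sequence
is again a regular sequence: if a₁, …, aₙ is a regular sequence and b₁, …, bₙ are n elements
generating the same ideal, then b₁, …, bₙ is a regular sequence. (A regular sequence of length n
generating an ideal I is a minimal generating set of I, so "minimal" amounts to "of length n".) -/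
theorem result {A : Type u} [CommRing A] [IsLocalRing A] [IsNoetherianRing A]
    {n : ℕ} (a b : Fin n → A) (ha : RingTheory.Sequence.IsRegular A (List.ofFn a))
    (hab : Ideal.span (Set.range a) = Ideal.span (Set.range b)) :
    RingTheory.Sequence.IsRegular A (List.ofFn b) := by
  apply main n A (List.ofFn a) (List.ofFn b) (by simp) (by simp) ha
  unfold Ideal.ofList
  have h : ∀ f : Fin n → A, {r | r ∈ List.ofFn f} = Set.range f := by
    intro f
    ext r
    simp [List.mem_ofFn]
  rw [h a, h b]
  exact hab

end Groth.Agent.S0611
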