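import Groth.Statements.S0615
import Mathlib.RingTheory.Polynomial.Basic
import Mathlib.RingTheory.Regular.IsSMulRegular
import Mathlib.Tactic.LinearCombination

set_option autoImplicit false
universe u
open RRAlg

namespace Groth.Agent.S0615

open MvPolynomial

section aux
variable {A : Type u} [CommRing A] {n : ℕ} (a : Fin (n + 1) → A)

/-- The `i`-th generator `a₀ Tᵢ - aᵢ`. -/
noncomputable def gen (i : Fin n) : MvPolynomial (Fin n) A :=
  C (a 0) * X i - C (a i.succ)

/-- The ideal generated by the first `m` generators. -/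
noncomputable def J (m : ℕ) : Ideal (MvPolynomial (Fin n) A) :=
  Ideal.span {q | ∃ i : Fin n, i.val < m ∧ q = gen a i}

/-- The ideal of `A` generated by the first `m` elements of the sequence. -/
def I (m : ℕ) : Ideal A := Ideal.span {x | ∃ j : Fin (n + 1), j.val < m ∧ x = a j}

lemma ofList_take (m : ℕ) : Ideal.ofList ((List.ofFn a).take m) = I a m := by
  unfold Ideal.ofList I
  congr 1
  ext x
  simp only [Set.mem_ofPred_eq, List.mem_take_iff_getElem, List.getElem_ofFn, List.length_ofFn]
  constructor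
  · rintro ⟨i, hi, rfl⟩
    exact ⟨⟨i, (lt_min_iff.mp hi).2⟩, (lt_min_iff.mp hi).1, rfl⟩
  · rintro ⟨j, hj, rfl⟩
    exact ⟨j.val, lt_min_iff.mpr ⟨hj, j.isLt⟩, rfl⟩

lemma regular_mod (ha : RingTheory.Sequence.IsWeaklyRegular A (List.ofFn a)) (j : Fin (n + 1))
    (x : A) (hx : a j * x ∈ I a j.val) : x ∈ I a j.val := by
  have h := ha.regular_mod_prev j.val (by simp [j.isLt])
  rw [ofList_take, isSMulRegular_quotient_iff_mem_of_smul_mem] at h
  have h' := h x
  simp only [List.getElem_ofFn, Fin.eta, smul_eq_mul, Ideal.mul_top] at h'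
  exact h' hx


lemma J_mono {m m' : ℕ} (h : m ≤ m') : J a m ≤ J a m' := by
  apply Ideal.span_mono
  rintro q ⟨i, hi, rfl⟩
  exact ⟨i, lt_of_lt_of_le hi h, rfl⟩

lemma gen_mem_J {m : ℕ} (i : Fin n) (hi : i.val < m) : gen a i ∈ J a m :=
  Ideal.subset_span ⟨i, hi, rfl⟩

lemma J_succ (i : Fin n) :
    J a (i.val + 1) = J a i.val ⊔ Ideal.span {gen a i} := by
  apply le_antisymm
  · apply Ideal.span_le.mpr
    rintro q ⟨i', hi, rfl⟩
    rcases Nat.lt_succ_iff_lt_or_eq.mp hi with h | h
    · exact Ideal.mem_sup_left (gen_mem_J a i' h)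
    · have : i' = i := Fin.ext h
      subst this
      exact Ideal.mem_sup_right (Ideal.subset_span rfl)
  · apply sup_le (J_mono a (Nat.le_succ _))
    rw [Ideal.span_singleton_le_iff_mem]
    exact gen_mem_J a _ (Nat.lt_succ_self _)

lemma map_C_I (m : ℕ) :
    Ideal.map (C : A →+* MvPolynomial (Fin n) A) (I a (m + 1)) =
      Ideal.span {C (a 0)} ⊔ J a m := by
  unfold I
  rw [Ideal.map_span]
  apply le_antisymm
  · apply Ideal.span_le.mpr
    rintro _ ⟨x, ⟨j, hj, rfl⟩, rfl⟩
    revert hj
    refine Fin.cases ?_ (fun i => ?_) j <;> intro hj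
    · exact Ideal.mem_sup_left (Ideal.subset_span rfl)
    · have hi : i.val < m := by simpa using hj
      have : (C (a i.succ) : MvPolynomial (Fin n) A) = C (a 0) * X i - gen a i := by
        unfold gen; ring
      rw [this]
      exact Ideal.sub_mem _ (Ideal.mem_sup_left (Ideal.mul_mem_right _ _ (Ideal.subset_span rfl)))
        (Ideal.mem_sup_right (gen_mem_J a i hi))
  · apply sup_le
    · rw [Ideal.span_singleton_le_iff_mem]
      exact Ideal.subset_span ⟨a 0, ⟨0, Nat.succ_pos m, rfl⟩, rfl⟩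
    · apply Ideal.span_le.mpr
      rintro q ⟨i, hi, rfl⟩
      refine Ideal.sub_mem _ (Ideal.mul_mem_right _ _ (Ideal.subset_span ?_)) (Ideal.subset_span ?_)
      · exact ⟨a 0, ⟨0, Nat.succ_pos m, rfl⟩, rfl⟩
      · exact ⟨a i.succ, ⟨i.succ, by simpa using hi, rfl⟩, rfl⟩


lemma regular_zero (ha : RingTheory.Sequence.IsWeaklyRegular A (List.ofFn a))
    (g : MvPolynomial (Fin n) A) (hg : C (a 0) * g = 0) : g = 0 := by
  have hI : I a 0 = ⊥ := by
    unfold I
    rw [Ideal.span_eq_bot]
    rintro x ⟨j, hj, rfl⟩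
    exact absurd hj (Nat.not_lt_zero _)
  ext d
  have h1 : a 0 * coeff d g = 0 := by
    rw [← coeff_C_mul, hg, coeff_zero]
  have h2 := regular_mod a ha 0 (coeff d g) (by
    change a 0 * coeff d g ∈ I a 0
    rw [h1]; exact Ideal.zero_mem _)
  change coeff d g ∈ I a 0 at h2
  rw [hI, Ideal.mem_bot] at h2
  simpa using h2

lemma claim (ha : RingTheory.Sequence.IsWeaklyRegular A (List.ofFn a)) :
    ∀ m, m ≤ n → ∀ g : MvPolynomial (Fin n) A, C (a 0) * g ∈ J a m → g ∈ J a m := by
  intro m
  induction m with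
  | zero =>
    intro _ g hg
    have hJ : J a 0 = (⊥ : Ideal (MvPolynomial (Fin n) A)) := by
      unfold J
      rw [Ideal.span_eq_bot]
      rintro x ⟨j, hj, rfl⟩
      exact absurd hj (Nat.not_lt_zero _)
    rw [hJ, Ideal.mem_bot] at hg ⊢
    exact regular_zero a ha g hg
  | succ m ih =>
    intro hm g hg
    have hm' : m < n := hm
    obtain ⟨i, rfl⟩ : ∃ i : Fin n, i.val = m := ⟨⟨m, hm'⟩, rfl⟩
    rw [J_succ a i, Submodule.mem_sup] at hg
    obtain ⟨j, hj, y, hy, hjy⟩ := hg
    obtain ⟨h, rfl⟩ := Ideal.mem_span_singleton'.mp hy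
    -- `a (i.succ) * h` lies in `(a₀) + J m`
    have h1 : C (a i.succ) * h ∈ Ideal.map (C : A →+* MvPolynomial (Fin n) A) (I a (i.val + 1)) := by
      rw [map_C_I]
      have : C (a i.succ) * h = C (a 0) * (X i * h - g) + j := by
        have e := hjy
        simp only [gen] at e
        linear_combination (-1 : MvPolynomial (Fin n) A) * e
      rw [this]
      exact Ideal.add_mem _ (Ideal.mem_sup_left (Ideal.mul_mem_right _ _ (Ideal.subset_span rfl)))
        (Ideal.mem_sup_right hj)
    have h2 : h ∈ Ideal.map (C : A →+* MvPolynomial (Fin n) A) (I a (i.val + 1)) := by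
      rw [mem_map_C_iff] at h1 ⊢
      intro d
      have := h1 d
      rw [coeff_C_mul] at this
      exact regular_mod a ha i.succ (coeff d h) (by simpa using this)
    rw [map_C_I, Submodule.mem_sup] at h2
    obtain ⟨y, hy, j', hj', hh⟩ := h2
    obtain ⟨h', rfl⟩ := Ideal.mem_span_singleton'.mp hy
    have h3 : C (a 0) * (g - gen a i * h') ∈ J a i.val := by
      have : C (a 0) * (g - gen a i * h') = j + j' * gen a i := by
        rw [← hh] at hjy
        linear_combination (-1 : MvPolynomial (Fin n) A) * hjy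
      rw [this]
      exact Ideal.add_mem _ hj (Ideal.mul_mem_right _ _ hj')
    have h4 := ih (Nat.le_of_succ_le hm) _ h3
    have : g = (g - gen a i * h') + gen a i * h' := by ring
    rw [this, J_succ a i]
    exact Ideal.add_mem _ (Ideal.mem_sup_left h4)
      (Ideal.mem_sup_right (Ideal.mul_mem_right _ _ (Ideal.subset_span rfl)))


lemma claim_pow (ha : RingTheory.Sequence.IsWeaklyRegular A (List.ofFn a)) (k : ℕ)
    (g : MvPolynomial (Fin n) A) (h : C (a 0) ^ k * g ∈ J a n) : g ∈ J a n := by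
  induction k with
  | zero => simpa using h
  | succ k ih =>
    apply ih
    apply claim a ha n le_rfl
    rw [← mul_assoc, ← pow_succ']
    exact h

lemma exists_const (g : MvPolynomial (Fin n) A) :
    ∃ (N : ℕ) (c : A), C (a 0) ^ N * g - C c ∈ J a n := by
  induction g using MvPolynomial.induction_on with
  | C r => exact ⟨0, r, by simp⟩
  | add p q hp hq =>
    obtain ⟨N1, c1, h1⟩ := hp
    obtain ⟨N2, c2, h2⟩ := hq
    refine ⟨N1 + N2, a 0 ^ N2 * c1 + a 0 ^ N1 * c2, ?_⟩
    have : C (a 0) ^ (N1 + N2) * (p + q) - C (a 0 ^ N2 * c1 + a 0 ^ N1 * c2) =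
        C (a 0) ^ N2 * (C (a 0) ^ N1 * p - C c1) + C (a 0) ^ N1 * (C (a 0) ^ N2 * q - C c2) := by
      simp only [map_add, map_mul, map_pow]; ring
    rw [this]
    exact Ideal.add_mem _ (Ideal.mul_mem_left _ _ h1) (Ideal.mul_mem_left _ _ h2)
  | mul_X p i hp =>
    obtain ⟨N, c, h⟩ := hp
    refine ⟨N + 1, c * a i.succ, ?_⟩
    have : C (a 0) ^ (N + 1) * (p * X i) - C (c * a i.succ) =
        (C (a 0) ^ N * p) * gen a i + C (a i.succ) * (C (a 0) ^ N * p - C c) := by
      simp only [gen, map_mul]; ring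
    rw [this]
    exact Ideal.add_mem _ (Ideal.mul_mem_left _ _ (gen_mem_J a i i.isLt))
      (Ideal.mul_mem_left _ _ h)

end aux

/-- Let A be a commutative ring and a_0, a_1, …, a_n a weakly regular sequence in A (for each i, a_i is
a non-zero-divisor on A/(a_0, …, a_{i−1}); the sequence is indexed here by Fin (n+1)). Then the
kernel of the A-algebra homomorphism A[T_1, …, T_n] → A[1/a_0] sending T_i to a_i/a_0 is the ideal
generated by the elements a_0 T_i − a_i for 1 ≤ i ≤ n (a presentation of the affine blow-up algebra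
A[a_1/a_0, …, a_n/a_0]). -/
theorem result {A : Type u} [CommRing A] {n : ℕ}
    (a : Fin (n + 1) → A) (ha : RingTheory.Sequence.IsWeaklyRegular A (List.ofFn a)) :
    RingHom.ker (MvPolynomial.aeval (R := A) (S₁ := Localization.Away (a 0))
      (fun i : Fin n => IsLocalization.mk' (Localization.Away (a 0)) (a i.succ)
        (⟨a 0, Submonoid.mem_powers (a 0)⟩ : Submonoid.powers (a 0)))) =
      Ideal.span (Set.range fun i : Fin n =>
        MvPolynomial.C (a 0) * MvPolynomial.X i - MvPolynomial.C (a i.succ)) := by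
  have hJ : Ideal.span (Set.range fun i : Fin n =>
      MvPolynomial.C (a 0) * MvPolynomial.X i - MvPolynomial.C (a i.succ)) = J a n := by
    unfold J
    congr 1
    ext q
    constructor
    · rintro ⟨i, rfl⟩
      exact ⟨i, i.isLt, rfl⟩
    · rintro ⟨i, -, rfl⟩
      exact ⟨i, rfl⟩
  rw [hJ]
  have hle : J a n ≤ RingHom.ker (MvPolynomial.aeval (R := A) (S₁ := Localization.Away (a 0))
      (fun i : Fin n => IsLocalization.mk' (Localization.Away (a 0)) (a i.succ)
        (⟨a 0, Submonoid.mem_powers (a 0)⟩ : Submonoid.powers (a 0)))) := by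
    apply Ideal.span_le.mpr
    rintro q ⟨i, -, rfl⟩
    simp only [SetLike.mem_coe, RingHom.mem_ker, gen, map_sub, map_mul, aeval_C, aeval_X]
    rw [sub_eq_zero]
    exact IsLocalization.mk'_spec' (Localization.Away (a 0)) (a i.succ)
      (⟨a 0, Submonoid.mem_powers (a 0)⟩ : Submonoid.powers (a 0))
  apply le_antisymm
  · intro g hg
    rw [RingHom.mem_ker] at hg
    obtain ⟨N, c, h⟩ := exists_const a g
    have h0 := hle h
    rw [RingHom.mem_ker, map_sub, map_mul, hg, mul_zero, zero_sub, neg_eq_zero, aeval_C] at h0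
    obtain ⟨⟨_, k, rfl⟩, hk⟩ :=
      (IsLocalization.map_eq_zero_iff (Submonoid.powers (a 0)) _ c).mp h0
    apply claim_pow a ha (k + N)
    have : C (a 0) ^ (k + N) * g = C (a 0) ^ k * (C (a 0) ^ N * g - C c) := by
      have e : (C (a 0) ^ k * C c : MvPolynomial (Fin n) A) = 0 := by
        rw [← map_pow, ← map_mul, hk, map_zero]
      rw [mul_sub, e, sub_zero, pow_add, mul_assoc]
    rw [this]
    exact Ideal.mul_mem_left _ _ h
  · exact hle

end Groth.Agent.S0615
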