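import Groth.Statements.S0628
import Groth.Agent.Lib.EtSepClosedPush39
import Groth.Agent.Lib.EtConstPushNormal
import Groth.Agent.Lib.DerivedCompExact
import Groth.Agent.S0101

set_option autoImplicit false
open CategoryTheory CategoryTheory.Limits AlgebraicGeometry Opposite
universe u
open EtCore

namespace Groth.Agent.S0628

/-- Let f : X -> Y be a morphism of schemes with X integral and normal and with separably closed
function field. Then the higher direct images R^q f_* of a constant sheaf vanish for q > 0. -/
theorem result {X Y : Scheme.{u}} (f : X ⟶ Y) [IsIntegral X]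
    (hN : ∀ x : X, IsIntegrallyClosed (X.presheaf.stalk x)) [IsSepClosed X.functionField]
    (M : Type) [AddCommGroup M] (q : ℕ) (hq : 1 ≤ q) :
    IsZero ((EtCoh.Rpush f q).obj (EtCoh.const X M)) := by
  obtain ⟨q, rfl⟩ : ∃ k, q = k + 1 := ⟨q - 1, by omega⟩
  let K : Type u := X.functionField
  let g : Spec (CommRingCat.of K) ⟶ X := X.fromSpecStalk (genericPoint X)
  have hgen : genericPoint X ∈ Set.range g := by
    show genericPoint X ∈ Set.range (X.fromSpecStalk (genericPoint X))
    rw [Scheme.range_fromSpecStalk]
    exact specializes_rfl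
  have hBg : BigSite.PropB g := Groth.Agent.Lib.EtSepClosedPush39.propB_of_isSepClosed K g
  have hBgf : BigSite.PropB (g ≫ f) :=
    Groth.Agent.Lib.EtSepClosedPush39.propB_of_isSepClosed K (g ≫ f)
  have hpre : IsPreimmersion g := inferInstanceAs (IsPreimmersion (X.fromSpecStalk (genericPoint X)))
  -- the constant sheaf is a direct image from the generic point
  let M' : AddCommGrpCat.{u+1} := AddCommGrpCat.of (ULift.{u+1} M)
  have hphi : IsIso (Groth.Agent.Lib.EtConstPush.phi g M') :=
    Groth.Agent.Lib.EtConstPushNormal.isIso_phi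
      (Groth.Agent.Lib.EtConstPushNormal.isGeomUnibranch_of_normal hN) g hgen M'
  let e1 : EtCoh.const X M ≅ (EtCoh.push g).obj (Groth.Agent.Lib.EtConst.constSh _ M') :=
    asIso (Groth.Agent.Lib.EtConstPush.phi g M')
  -- exactness of the direct images
  have hcg : PreservesFiniteColimits (EtCoh.push g) :=
    Groth.Agent.Lib.EtPushEpi39.push_preservesFiniteColimits_of_propB g hBg
  have hcgf : PreservesFiniteColimits (EtCoh.push (g ≫ f)) :=
    Groth.Agent.Lib.EtPushEpi39.push_preservesFiniteColimits_of_propB (g ≫ f) hBgf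
  have hcomp : PreservesFiniteColimits (EtCoh.push g ⋙ EtCoh.push f) :=
    preservesFiniteColimits_of_natIso (EtCoh.pushComp f g).symm
  have hpl : PreservesFiniteLimits (EtCoh.pull g) := Groth.Agent.S0101.result g
  have hmono : (EtCoh.pull g).PreservesMonomorphisms := inferInstance
  let e2 := Groth.Agent.Lib.DerivedCompExact.rightDerivedCompIso (EtCoh.push g) (EtCoh.push f)
    (EtCoh.pullPushAdj g) (q + 1)
  have hz : IsZero (((EtCoh.push g ⋙ EtCoh.push f).rightDerived (q + 1)).obj
      (Groth.Agent.Lib.EtConst.constSh _ M')) :=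
    Groth.Agent.Lib.DerivedBaseChange.isZero_rightDerived_succ_of_exact _ _ q
  have hz2 : IsZero ((EtCoh.Rpush f (q + 1)).obj ((EtCoh.push g).obj (Groth.Agent.Lib.EtConst.constSh _ M'))) :=
    hz.of_iso (e2.app _).symm
  exact hz2.of_iso ((EtCoh.Rpush f (q + 1)).mapIso e1)

end Groth.Agent.S0628
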