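import Groth.Statements.S0631
import Groth.Agent.Lib.EtIntStalk34
import Groth.Agent.Lib.EtAbStalk2
import Groth.Agent.Lib.EtAbStalk3

set_option autoImplicit false
open CategoryTheory CategoryTheory.Limits AlgebraicGeometry Opposite
universe u
open EtCore

namespace Groth.Agent.S0631


open Groth.Agent.Lib.EtGerm Groth.Agent.Lib.EtStalkPull Groth.Agent.Lib.EtStalkPullGerm
  Groth.Agent.Lib.EtStalkConservative Groth.Agent.Lib.EtAbStalk in
/-- the stalk of a direct image at a geometric point outside the (closed) image vanishes -/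
theorem isZero_stalk_push {X Y : Scheme.{u}} (f : X ⟶ Y) (hcl : IsClosed (Set.range f))
    (F : EtCoh.Ab X) {Ω : Type u} [Field Ω] [IsSepClosed Ω] (ξ : Spec (CommRingCat.of Ω) ⟶ Y)
    (hξ : ξ default ∉ Set.range f) : IsZero ((EtCoh.stalk ξ).obj ((EtCoh.push f).obj F)) := by
  apply isZero_stalk_of_forall_germ
  intro U n s
  let O₀ : Y.Opens := ⟨(Set.range f)ᶜ, hcl.isOpen_compl⟩
  let O : U.left.Opens := U.hom ⁻¹ᵁ O₀
  have hO : Nbhd.pt ξ n ∈ O := by
    change U.hom (Nbhd.pt ξ n) ∈ O₀
    rw [Nbhd.hom_pt]
    exact hξ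
  have hE : IsEmpty ((EtCoh.bc f).obj (openSub U O)).left := by
    refine ⟨fun z => ?_⟩
    have h1 := congr($(pullback.condition (f := (openSub U O).hom) (g := f)) z)
    simp only [Scheme.Hom.comp_apply] at h1
    have h2 : (openSub U O).hom (pullback.fst (openSub U O).hom f z) ∈ O₀ :=
      (pullback.fst (openSub U O).hom f z).2
    exact h2 ⟨_, h1.symm⟩
  have hS : Subsingleton (EtCoh.sect ((EtCoh.push f).obj F) (openSub U O)) :=
    subsingleton_sect_of_isEmpty F ((EtCoh.bc f).obj (openSub U O))
  exact germ_eq_zero_of_subsingleton ξ ((EtCoh.push f).obj F) O n hO s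

/-- For a morphism f : X -> Y that is integral and universally injective, the direct image f_* on
abelian etale sheaves is full and faithful, an abelian sheaf on Y lies in its essential image
exactly when its support is contained in the image of f, and the counit f^{-1} f_* F -> F is an
isomorphism for every F. -/
theorem result {X Y : Scheme.{u}} (f : X ⟶ Y)
    [IsIntegralHom f] [UniversallyInjective f] :
    (EtCoh.push f).Full ∧ (EtCoh.push f).Faithful ∧
    (∀ G : EtCoh.Ab Y, (EtCoh.push f).essImage G ↔ EtPBC.supp G ⊆ Set.range f.base) ∧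
    ∀ F : EtCoh.Ab X, IsIso ((EtCoh.pullPushAdj f).counit.app F) := by
  have hL := Groth.Agent.Lib.EtIntStalk34.hasLift_of_integral f f.injective
  have hI := Groth.Agent.Lib.EtIntStalk34.hasInd_of_integral f
  have hcounit : ∀ F : EtCoh.Ab X, IsIso ((EtCoh.pullPushAdj f).counit.app F) :=
    Groth.Agent.Lib.EtIntStalk34.isIso_counit_app f hL hI
  have hcl : IsClosed (Set.range f) := f.isClosedMap.isClosed_range
  refine ⟨(Groth.Agent.Lib.EtIntStalk34.fullyFaithfulPush f hL hI).full,
    (Groth.Agent.Lib.EtIntStalk34.fullyFaithfulPush f hL hI).faithful, ?_, hcounit⟩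
  intro G
  constructor
  · rintro ⟨F, ⟨e⟩⟩ y ⟨Ω, _, _, ξ, hξ, hnz⟩
    by_contra hy
    apply hnz
    have hy' : ξ default ∉ Set.range f := by
      have : ξ default ∈ Set.range ξ := ⟨default, rfl⟩
      rw [hξ] at this
      rwa [Set.mem_singleton_iff.1 this]
    exact (isZero_stalk_push f hcl F ξ hy').of_iso ((EtCoh.stalk ξ).mapIso e.symm)
  · intro hsupp
    have hunit : IsIso ((EtCoh.pullPushAdj f).unit.app G) := by
      apply Groth.Agent.Lib.EtAbStalk2.isIso_of_forall_exists_geomPt
      intro y
      by_cases hy : y ∈ Set.range f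
      · obtain ⟨x, rfl⟩ := hy
        let ζ := Groth.Agent.Lib.EtStalkConservative.stdPt x
        refine ⟨_, inferInstance, inferInstance, ζ ≫ f, ?_, ?_⟩
        · change f (ζ default) = f x
          rw [Groth.Agent.Lib.EtGerm.stdPt_default]
        · have htri := (EtCoh.pullPushAdj f).left_triangle_components G
          have hpi : IsIso ((EtCoh.pull f).map ((EtCoh.pullPushAdj f).unit.app G)) := by
            have := hcounit ((EtCoh.pull f).obj G)
            have h3 : IsIso ((EtCoh.pull f).map ((EtCoh.pullPushAdj f).unit.app G) ≫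
                (EtCoh.pullPushAdj f).counit.app ((EtCoh.pull f).obj G)) := by
              rw [htri]; exact IsIso.id _
            exact IsIso.of_isIso_comp_right _
              ((EtCoh.pullPushAdj f).counit.app ((EtCoh.pull f).obj G))
          have hnat := (Groth.Agent.Lib.EtStalkPull.stalkPullIso f ζ).hom.naturality
            ((EtCoh.pullPushAdj f).unit.app G)
          have hiso : IsIso ((EtCoh.stalk (ζ ≫ f)).map ((EtCoh.pullPushAdj f).unit.app G)) := by
            have h1 : IsIso ((EtCoh.pull f ⋙ EtCoh.stalk ζ).map ((EtCoh.pullPushAdj f).unit.app G)) := by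
              change IsIso ((EtCoh.stalk ζ).map ((EtCoh.pull f).map _))
              infer_instance
            have h2 : (EtCoh.stalk (ζ ≫ f)).map ((EtCoh.pullPushAdj f).unit.app G) =
                inv ((Groth.Agent.Lib.EtStalkPull.stalkPullIso f ζ).hom.app _) ≫
                  (EtCoh.pull f ⋙ EtCoh.stalk ζ).map ((EtCoh.pullPushAdj f).unit.app G) ≫
                  (Groth.Agent.Lib.EtStalkPull.stalkPullIso f ζ).hom.app _ := by
              rw [hnat, IsIso.inv_hom_id_assoc]
            rw [h2]
            infer_instance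
          exact ConcreteCategory.bijective_of_isIso _
      · let ξ := Groth.Agent.Lib.EtStalkConservative.stdPt y
        have hd : ξ default = y := Groth.Agent.Lib.EtGerm.stdPt_default y
        refine ⟨_, inferInstance, inferInstance, ξ, hd, ?_⟩
        apply Groth.Agent.Lib.EtAbStalk3.bijective_of_isZero
        · by_contra hnz
          exact hy (hsupp ⟨_, inferInstance, inferInstance, ξ,
            Groth.Agent.Lib.EtGerm.range_stdPt y, hnz⟩)
        · exact isZero_stalk_push f hcl _ ξ (by rw [hd]; exact hy)
    exact ⟨(EtCoh.pull f).obj G, ⟨(asIso ((EtCoh.pullPushAdj f).unit.app G)).symm⟩⟩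

end Groth.Agent.S0631
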