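import Groth.Statements.S0632
import Groth.Agent.Lib.EtLiftClosed

set_option autoImplicit false
open CategoryTheory CategoryTheory.Limits AlgebraicGeometry Opposite
universe u
open EtCore

namespace Groth.Agent.S0632

open Groth.Agent.Lib.EtLiftClosed

/-- Let X -> Y be a closed immersion and U_i -> X (i in ι) a jointly surjective family of etale
morphisms. Then one can find a jointly surjective family of etale Y-schemes V_j each of which either
has empty preimage over X or, after base change to X, maps into one of the U_i over X. -/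
theorem result {X Y : Scheme.{u}} (f : X ⟶ Y) [IsClosedImmersion f]
    {ι : Type u} (U : ι → X.Etale) (hU : EtCoh.Covers U) :
    ∃ (κ : Type u) (V : κ → Y.Etale), EtCoh.Covers V ∧
      ∀ j, IsEmpty ↥(pullback (V j).hom f) ∨
        ∃ (i : ι) (h : pullback (V j).hom f ⟶ (U i).left), h ≫ (U i).hom = pullback.snd (V j).hom f := by
  classical
  -- the open complement of the closed subscheme
  let W : Y.Opens := ⟨(Set.range f)ᶜ, (Scheme.Hom.isClosedEmbedding f).isClosed_range.isOpen_compl⟩
  have key : ∀ y : Y, ∃ V : Y.Etale, (∃ v : V.left, V.hom v = y) ∧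
      (IsEmpty ↥(pullback V.hom f) ∨
        ∃ (i : ι) (h : pullback V.hom f ⟶ (U i).left), h ≫ (U i).hom = pullback.snd V.hom f) := by
    intro y
    by_cases hy : y ∈ Set.range f
    · obtain ⟨x, rfl⟩ := hy
      obtain ⟨i, u, hu⟩ := hU x
      obtain ⟨V, h, p, hp⟩ := exists_lift_etale_nbhd f (U i) u
      refine ⟨V, ⟨(pullback.fst V.hom f) p, ?_⟩, Or.inr ⟨i, h.left, Over.w h.hom⟩⟩
      have h1 : V.hom ((pullback.fst V.hom f) p) = f ((pullback.snd V.hom f) p) :=
        congrArg (fun k : pullback V.hom f ⟶ Y => k p) (pullback.condition (f := V.hom) (g := f))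
      rw [h1]
      have h2 : (pullback.snd V.hom f) p = (U i).hom (h.left p) :=
        (congrArg (fun k : pullback V.hom f ⟶ X => k p) (Over.w h.hom)).symm
      rw [h2, hp]
      exact congrArg f hu
    · refine ⟨Scheme.Etale.mk W.ι, ⟨⟨y, hy⟩, rfl⟩, Or.inl ⟨fun p => ?_⟩⟩
      have h1 : W.ι ((pullback.fst W.ι f) p) = f ((pullback.snd W.ι f) p) :=
        congrArg (fun k : pullback W.ι f ⟶ Y => k p) (pullback.condition (f := W.ι) (g := f))
      have h2 : W.ι ((pullback.fst W.ι f) p) ∈ W := ((pullback.fst W.ι f) p).2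
      exact h2 ⟨_, h1.symm⟩
  choose V hV1 hV2 using key
  exact ⟨Y, V, fun y => ⟨y, hV1 y⟩, hV2⟩

end Groth.Agent.S0632
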