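import Groth.Statements.S0671
import Groth.Agent.Lib.EtGerm
import Mathlib.AlgebraicGeometry.Morphisms.UniversallyOpen
import Mathlib.AlgebraicGeometry.Morphisms.Flat

set_option autoImplicit false
open CategoryTheory CategoryTheory.Limits AlgebraicGeometry Opposite
universe u
open EtCore

namespace Groth.Agent.S0671

open Groth.Agent.Lib.EtGerm Groth.Agent.Lib.EtStalkConservative

/-- For an abelian sheaf F on the small etale site of S and a section σ over an etale S-scheme U, the
support of σ is a closed subset of U; and a point of S has a nonzero geometric stalk exactly when it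
is the image of a point lying in the support of some section over some etale S-scheme. -/
theorem result {S : Scheme.{u}} (F : EtCoh.Ab S) :
    (∀ (U : S.Etale) (σ : EtCoh.sect F U), IsClosed (EtShriek.sectSupp F U σ)) ∧
    EtPBC.supp F = ⋃ (U : S.Etale) (σ : EtCoh.sect F U), U.hom.base '' EtShriek.sectSupp F U σ := by
  constructor
  · intro U σ
    rw [← isOpen_compl_iff]
    have : (EtShriek.sectSupp F U σ)ᶜ =
        ⋃ (W : S.Etale) (g : W ⟶ U) (_ : F.obj.map g.op σ = 0), Set.range g.left := by
      ext x
      simp only [EtShriek.sectSupp, Set.mem_compl_iff, Set.mem_ofPred_eq, Set.mem_iUnion,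
        Set.mem_range, exists_prop]
      push Not
      constructor
      · rintro ⟨W, g, ⟨w, hw⟩, h0⟩
        exact ⟨W, g, h0, w, hw⟩
      · rintro ⟨W, g, h0, w, hw⟩
        exact ⟨W, g, ⟨w, hw⟩, h0⟩
    rw [this]
    refine isOpen_iUnion fun W => isOpen_iUnion fun g => isOpen_iUnion fun _ => ?_
    exact g.left.isOpenMap.isOpen_range
  · ext x
    simp only [EtPBC.supp, Set.mem_ofPred_eq, Set.mem_iUnion, Set.mem_image]
    constructor
    · rintro ⟨Ω, _, _, ξ, hξ, hne⟩
      have hx : ξ default = x := by
        have : ξ default ∈ Set.range ξ := ⟨default, rfl⟩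
        rw [hξ] at this
        exact this
      obtain ⟨t, ht⟩ : ∃ t : (EtCoh.stalk ξ).obj F, t ≠ 0 := by
        by_contra hcon
        push Not at hcon
        apply hne
        have : Subsingleton ((EtCoh.stalk ξ).obj F) := ⟨fun a b => (hcon a).trans (hcon b).symm⟩
        exact AddCommGrpCat.isZero_of_subsingleton _
      obtain ⟨U, y, s, rfl⟩ := germ_jointly_surjective ξ F t
      refine ⟨U, s, Nbhd.pt ξ y, ?_, (Nbhd.hom_pt ξ y).trans hx⟩
      intro W g ⟨w, hw⟩ h0
      obtain ⟨z, hz, -⟩ := exists_nbhd_lift ξ g y w hw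
      apply ht
      rw [← hz, ← germ_res, h0, map_zero]
    · rintro ⟨U, σ, u, hu, rfl⟩
      obtain ⟨y, hy⟩ := exists_stdPt_nbhd U u
      refine ⟨_, inferInstance, inferInstance, stdPt (U.hom u), range_stdPt _, ?_⟩
      intro hz
      have h0 : germ (stdPt (U.hom u)) F y σ = 0 :=
        (AddCommGrpCat.subsingleton_of_isZero hz).elim _ _
      rw [germ_eq_zero_iff] at h0
      obtain ⟨V, g, z, hz, hg⟩ := h0
      refine hu V g ⟨Nbhd.pt _ z, ?_⟩ hg
      exact ((Nbhd.pt_map _ g z).symm.trans (congrArg (Nbhd.pt _) hz)).trans hy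

end Groth.Agent.S0671
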