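import Groth.Statements.S0634
import Groth.Agent.Lib.EtStalkPullGerm
import Groth.Agent.S0671

set_option autoImplicit false
open CategoryTheory CategoryTheory.Limits AlgebraicGeometry Opposite
universe u
open EtCore

namespace Groth.Agent.S0634

open Groth.Agent.Lib.EtGerm Groth.Agent.Lib.EtStalkConservative Groth.Agent.Lib.EtStalkPullGerm

/-- For an abelian sheaf F on the small etale site of S and two global sections s, t there is an open W
of S such that a morphism f : T -> S has image inside W if and only if the pullbacks of s and t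
along f (images under the adjunction unit, as sections of the pullback sheaf over T) coincide. -/
theorem result {S : Scheme.{u}} (F : EtCoh.Ab S) (s t : EtCoh.sect F (EtCoh.top S)) :
    ∃ W : S.Opens, ∀ (T : Scheme.{u}) (f : T ⟶ S),
      Set.range f.base ⊆ (W : Set S) ↔
        ((EtCoh.pullPushAdj f).unit.app F).hom.app (op (EtCoh.top S)) s =
          ((EtCoh.pullPushAdj f).unit.app F).hom.app (op (EtCoh.top S)) t := by
  have hcl : IsClosed (EtShriek.sectSupp F (EtCoh.top S) (s - t)) :=
    (Groth.Agent.S0671.result F).1 (EtCoh.top S) (s - t)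
  refine ⟨⟨(EtShriek.sectSupp F (EtCoh.top S) (s - t))ᶜ, hcl.isOpen_compl⟩, ?_⟩
  intro T f
  -- reduce to the vanishing of the image of `s - t`
  have hsub : ((EtCoh.pullPushAdj f).unit.app F).hom.app (op (EtCoh.top S)) s =
      ((EtCoh.pullPushAdj f).unit.app F).hom.app (op (EtCoh.top S)) t ↔
      ((EtCoh.pullPushAdj f).unit.app F).hom.app (op (EtCoh.top S)) (s - t) = 0 := by
    rw [map_sub, sub_eq_zero]
  rw [hsub]
  -- key: at a geometric point `τ` of `T`, with a neighbourhood `y` of `τ ≫ f` in `S`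
  have key : ∀ (p : T) (y : Nbhd (stdPt p ≫ f) (EtCoh.top S)),
      germ (stdPt p ≫ f) F y (s - t) = 0 ↔
        f p ∈ (EtShriek.sectSupp F (EtCoh.top S) (s - t))ᶜ := by
    intro p y
    have hy : Nbhd.pt (stdPt p ≫ f) y = f p := by
      have h1 := Nbhd.hom_pt (stdPt p ≫ f) y
      have h2 : (stdPt p ≫ f) default = f p := congrArg f (stdPt_default p)
      exact h1.trans h2
    constructor
    · intro h0 hmem
      obtain ⟨V, g, z, hz, hg⟩ := (germ_eq_zero_iff _ F y (s - t)).1 h0
      refine hmem V g ⟨Nbhd.pt _ z, ?_⟩ hg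
      exact ((Nbhd.pt_map _ g z).symm.trans (congrArg (Nbhd.pt _) hz)).trans hy
    · intro hmem
      have : ¬ ∀ (W : S.Etale) (g : W ⟶ EtCoh.top S), (∃ w : W.left, g.left.base w = f p) →
          F.obj.map g.op (s - t) ≠ 0 := hmem
      push Not at this
      obtain ⟨V, g, ⟨v, hv⟩, hg⟩ := this
      obtain ⟨z, hz, -⟩ := exists_nbhd_lift (stdPt p ≫ f) g y v (hv.trans hy.symm)
      rw [← hz, ← germ_res, hg, map_zero]
  constructor
  · intro hrange
    refine section_eq_zero_of_forall_germ ((EtCoh.pull f).obj F)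
      (U := (EtCoh.bc f).obj (EtCoh.top S)) _ ?_
    intro u
    let p : T := ((EtCoh.bc f).obj (EtCoh.top S)).hom u
    obtain ⟨y', hy'⟩ := exists_stdPt_nbhd ((EtCoh.bc f).obj (EtCoh.top S)) u
    refine ⟨_, inferInstance, inferInstance, stdPt p, y', hy', ?_⟩
    have h1 := (key p (pushNbhd f (stdPt p) y')).2 (hrange ⟨p, rfl⟩)
    have h2 := (germ_unit_eq_zero_iff f (stdPt p) F (pushNbhd f (stdPt p) y') (s - t)).2 h1
    rw [pullNbhd_pushNbhd] at h2
    exact h2
  · intro h0
    rintro _ ⟨p, rfl⟩
    obtain ⟨y, -⟩ := exists_nbhd_of_pt (stdPt p ≫ f) (EtCoh.top S) (f p)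
      (congrArg f (stdPt_default p)).symm
    refine (key p y).1 ?_
    refine (germ_unit_eq_zero_iff f (stdPt p) F y (s - t)).1 ?_
    exact (congrArg (germ (stdPt p) ((EtCoh.pull f).obj F) (pullNbhd f (stdPt p) y)) h0).trans
      (map_zero _)

end Groth.Agent.S0634
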