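import Groth.Statements.S0642
import Groth.Agent.S0631

set_option autoImplicit false
open CategoryTheory CategoryTheory.Limits AlgebraicGeometry Opposite
universe u
open EtCore

namespace Groth.Agent.S0642

/-- Let X_0 -> X be integral, universally injective and surjective (a universal homeomorphism). Then for
every abelian sheaf F on the small etale site of X and every q the pullback map from H^q(X, F) to
H^q(X_0, F|_{X_0}) is bijective. (Exactness of pullback of abelian sheaves, which always holds, is
carried as an instance hypothesis.) -/
theorem result {X₀ X : Scheme.{u}} (i : X₀ ⟶ X) [IsIntegralHom i]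
    [UniversallyInjective i] [Surjective i] [PreservesFiniteLimits (EtCoh.pull i)] (F : EtCoh.Ab X) (q : ℕ) :
    Function.Bijective (EtCore.Hpull i F q) := by
  obtain ⟨hfull, hfaith, hess, -⟩ := Groth.Agent.S0631.result i
  haveI : (EtCoh.push i).Full := hfull
  haveI : (EtCoh.push i).Faithful := hfaith
  haveI : (EtCoh.push i).EssSurj := ⟨fun G => (hess G).2 (fun y _ => i.surjective y)⟩
  haveI : (EtCoh.push i).IsEquivalence := {}
  haveI : (EtCoh.pull i).IsEquivalence := (EtCoh.pullPushAdj i).isEquivalence_left_of_isEquivalence_right
  haveI : (EtCoh.pull i).PreservesInjectiveObjects :=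
    Functor.preservesInjectiveObjects_of_adjunction_of_preservesMonomorphisms
      (EtCoh.pull i).asEquivalence.symm.toAdjunction
  have h1 : Function.Bijective ((EtCoh.pull i).mapExtAddHom
      (EtCoh.const X ℤ) F q) :=
    Functor.mapExt_bijective_of_preservesInjectiveObjects (EtCoh.pull i) _ _ q
  have h2 : Function.Bijective (fun e : Abelian.Ext ((EtCoh.pull i).obj (EtCoh.const X ℤ))
      ((EtCoh.pull i).obj F) q =>
      (Abelian.Ext.mk₀ (EtCore.pullConst i ℤ).inv).comp e (zero_add q)) := by
    refine Function.bijective_iff_has_inverse.2
      ⟨fun e => (Abelian.Ext.mk₀ (EtCore.pullConst i ℤ).hom).comp e (zero_add q), ?_, ?_⟩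
    · intro e
      simp
    · intro e
      simp
  exact h2.comp h1

end Groth.Agent.S0642
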