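import Groth.Statements.S0643
import Mathlib.Algebra.Polynomial.Div
import Mathlib.Algebra.Polynomial.Monic

set_option autoImplicit false
universe u
open EtCore

namespace Groth.Agent.S0643

open Polynomial in
/-- Let A be a ring, assumed nonzero here (the published statement does not say so; over the zero ring
no polynomial has positive degree in Lean's sense), and a, b elements generating the unit ideal such
that some positive power of a is congruent to 1 modulo b. Then there is a monic polynomial P of
positive degree over A such that in B = A[y]/(P) the element a - b y is a unit. -/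
theorem result (A : Type u) [CommRing A] [Nontrivial A] (a b : A) (hab : IsCoprime a b)
    (hroot : ∃ n : ℕ, 0 < n ∧ a ^ n - 1 ∈ Ideal.span ({b} : Set A)) :
    ∃ P : A[X], P.Monic ∧ 0 < P.natDegree ∧
      IsUnit (algebraMap A (AdjoinRoot P) a - algebraMap A (AdjoinRoot P) b * AdjoinRoot.root P) := by
  obtain ⟨n, hn, hmem⟩ := hroot
  obtain ⟨c, hc⟩ := Ideal.mem_span_singleton'.1 hmem
  obtain ⟨r, s, hrs⟩ := hab
  obtain ⟨m, rfl⟩ : ∃ m, n = m + 1 := ⟨n - 1, by omega⟩
  set G : A[X] := C c * (C r * X + C s) ^ m with hG
  have hGdeg : G.natDegree ≤ m := by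
    refine (natDegree_C_mul_le _ _).trans ?_
    refine natDegree_pow_le.trans ?_
    have : (C r * X + C s : A[X]).natDegree ≤ 1 := by
      refine (natDegree_add_le _ _).trans ?_
      simp only [natDegree_C, max_le_iff, zero_le, and_true]
      exact (natDegree_C_mul_le _ _).trans (by simp)
    calc m * (C r * X + C s : A[X]).natDegree ≤ m * 1 := Nat.mul_le_mul_left _ this
      _ = m := by simp
  have hGdeg' : G.degree < ((m + 1 : ℕ) : WithBot ℕ) := by
    refine lt_of_le_of_lt degree_le_natDegree ?_
    exact_mod_cast Nat.lt_succ_of_le hGdeg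
  set P : A[X] := X ^ (m + 1) - G with hP
  have hPm : P.Monic := monic_X_pow_sub hGdeg'
  have hPdeg : P.natDegree = m + 1 := by
    rw [hP, natDegree_sub_eq_left_of_natDegree_lt]
    · simp
    · simpa using Nat.lt_succ_of_le hGdeg
  refine ⟨P, hPm, by omega, ?_⟩
  set B := AdjoinRoot P
  set y : B := AdjoinRoot.root P
  set α : B := algebraMap A B a
  set β : B := algebraMap A B b
  set γ : B := algebraMap A B c
  set ρ : B := algebraMap A B r
  set σ : B := algebraMap A B s
  have h1 : ρ * α + σ * β = 1 := by
    simp only [ρ, α, σ, β, ← map_mul, ← map_add, hrs, map_one]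
  have h2 : γ * β = α ^ (m + 1) - 1 := by
    simp only [γ, β, α, ← map_mul, ← map_pow, hc, map_sub, map_one]
  have h3 : y ^ (m + 1) = γ * (ρ * y + σ) ^ m := by
    have key : eval₂ (AdjoinRoot.of P) y (X ^ (m + 1) - C c * (C r * X + C s) ^ m) = 0 :=
      AdjoinRoot.eval₂_root P
    simp only [eval₂_sub, eval₂_pow, eval₂_X, eval₂_mul, eval₂_C, eval₂_add] at key
    exact sub_eq_zero.1 key
  let q : B[X] := X ^ (m + 1) - C (β * γ) * (C ρ * X + C (σ * β)) ^ m
  have hqa : q.eval α = 1 := by
    simp only [q, eval_sub, eval_pow, eval_X, eval_mul, eval_C, eval_add, h1, one_pow, mul_one]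
    rw [mul_comm β γ, h2]; ring
  have hqt : q.eval (β * y) = 0 := by
    simp only [q, eval_sub, eval_pow, eval_X, eval_mul, eval_C, eval_add]
    have : ρ * (β * y) + σ * β = β * (ρ * y + σ) := by ring
    rw [this, mul_pow, mul_pow, h3]; ring
  have hdvd := sub_dvd_eval_sub α (β * y) q
  rw [hqa, hqt, sub_zero] at hdvd
  exact isUnit_of_dvd_one hdvd

end Groth.Agent.S0643
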