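import Groth.Statements.S0644
import Mathlib.AlgebraicGeometry.Morphisms.UniversallyOpen
import Mathlib.AlgebraicGeometry.Morphisms.Etale

set_option autoImplicit false
open CategoryTheory CategoryTheory.Limits AlgebraicGeometry Opposite
universe u
open EtCore

namespace Groth.Agent.S0644

variable {S : Scheme.{u}}

/-- The union of the images of those etale `U` over which `F` has a section. -/
def theOpen (F : S.Etaleᵒᵖ ⥤ Type u) : S.Opens :=
  ⟨⋃ (U : S.Etale) (_ : Nonempty (F.obj (op U))), Set.range U.hom.base,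
    isOpen_iUnion fun U => isOpen_iUnion fun _ => U.hom.isOpenMap.isOpen_range⟩

theorem range_subset_theOpen (F : S.Etaleᵒᵖ ⥤ Type u) (U : S.Etale)
    (h : Nonempty (F.obj (op U))) : Set.range U.hom.base ⊆ (theOpen F : Set S) := by
  intro x hx
  exact Set.mem_iUnion.2 ⟨U, Set.mem_iUnion.2 ⟨h, hx⟩⟩

/-- The sieve of maps whose source carries a section. -/
def secSieve (F : S.Etaleᵒᵖ ⥤ Type u) (U : S.Etale) : Sieve U where
  arrows T _ := Nonempty (F.obj (op T))
  downward_closed := by
    rintro T T' g ⟨s⟩ h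
    exact ⟨F.map h.op s⟩

theorem secSieve_mem (F : S.Etaleᵒᵖ ⥤ Type u) (U : S.Etale)
    (h : Set.range U.hom.base ⊆ (theOpen F : Set S)) :
    secSieve F U ∈ S.smallEtaleTopology U := by
  have eX : S.smallEtaleTopology =
      (S.smallPretopology (P := EtCoh.etaleMP) (Q := EtCoh.etaleMP)).toGrothendieck :=
    Scheme.smallGrothendieckTopology_eq_toGrothendieck_smallPretopology S le_rfl
  rw [eX]
  refine (Scheme.mem_toGrothendieck_smallPretopology U _).2 ?_
  intro x
  have hx : U.hom.base x ∈ (theOpen F : Set S) := h ⟨x, rfl⟩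
  obtain ⟨V, hV⟩ := Set.mem_iUnion.1 hx
  obtain ⟨hV, v, hv⟩ := Set.mem_iUnion.1 hV
  obtain ⟨z, hz1, hz2⟩ := Scheme.Pullback.exists_preimage_pullback (f := U.hom) (g := V.hom) x v
    hv.symm
  let T : S.Etale := Scheme.Etale.mk (pullback.fst U.hom V.hom ≫ U.hom)
  let p1 : T ⟶ U := MorphismProperty.Over.homMk (pullback.fst U.hom V.hom) rfl
  let p2 : T ⟶ V := MorphismProperty.Over.homMk (pullback.snd U.hom V.hom) pullback.condition.symm
  obtain ⟨s⟩ := hV
  exact ⟨T, p1, z, ⟨F.map p2.op s⟩, inferInstance, hz1⟩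

theorem nonempty_of_range_subset (F : Sheaf S.smallEtaleTopology (Type u))
    (hF : ∀ U : S.Etale, Subsingleton (F.obj.obj (op U))) (U : S.Etale)
    (h : Set.range U.hom.base ⊆ (theOpen F.obj : Set S)) : Nonempty (F.obj.obj (op U)) := by
  have hs : Presieve.IsSheaf S.smallEtaleTopology F.obj := (isSheaf_iff_isSheaf_of_type _ _).1 F.property
  have hR := secSieve_mem F.obj U h
  let x : Presieve.FamilyOfElements F.obj (secSieve F.obj U).arrows :=
    fun T g hg => Classical.choice hg
  have hx : x.Compatible := by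
    intro T₁ T₂ Z g₁ g₂ f₁ f₂ h₁ h₂ _
    exact (hF Z).elim _ _
  obtain ⟨t, -⟩ := (hs _ hR x hx).exists
  exact ⟨t⟩

theorem subsingleton_hom (W : S.Opens) (U : S.Etale) :
    Subsingleton (U ⟶ Scheme.Etale.mk W.ι) := by
  constructor
  intro a b
  apply MorphismProperty.Over.Hom.ext
  have ha : a.left ≫ W.ι = U.hom := MorphismProperty.Over.w a
  have hb : b.left ≫ W.ι = U.hom := MorphismProperty.Over.w b
  exact (cancel_mono W.ι).1 (ha.trans hb.symm)

theorem range_subset_of_hom (W : S.Opens) (U : S.Etale) (a : U ⟶ Scheme.Etale.mk W.ι) :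
    Set.range U.hom.base ⊆ (W : Set S) := by
  have ha : a.left ≫ W.ι = U.hom := MorphismProperty.Over.w a
  rintro _ ⟨x, rfl⟩
  rw [← ha]
  exact (a.left.base x).2

theorem range_subset_of_hom' (W : S.Opens) (U : S.Etale) (a : U ⟶ Scheme.Etale.mk W.ι) :
    Set.range U.hom.base ⊆ Set.range W.ι.base := by
  have ha : a.left ≫ W.ι = U.hom := MorphismProperty.Over.w a
  rintro _ ⟨x, rfl⟩
  rw [← ha]
  exact ⟨a.left.base x, rfl⟩

theorem lift_exists (W : S.Opens) {T : Scheme.{u}} (g : T ⟶ S)
    (h : Set.range g.base ⊆ (W : Set S)) : ∃ l : T ⟶ W.toScheme, l ≫ W.ι = g := by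
  have hg : Set.range g.base ⊆ Set.range W.ι.base := by
    rw [Scheme.Opens.range_ι]; exact h
  exact ⟨IsOpenImmersion.lift W.ι g hg, IsOpenImmersion.lift_fac _ _ _⟩

/-- a map to the open from a range inclusion -/
noncomputable def homOfRangeSubset (W : S.Opens) (U : S.Etale)
    (h : Set.range U.hom.base ⊆ (W : Set S)) : U ⟶ Scheme.Etale.mk W.ι :=
  MorphismProperty.Over.homMk (lift_exists W U.hom h).choose (lift_exists W U.hom h).choose_spec

/-- Let F be a sheaf of sets on the small etale site of S which is a subsheaf of the final sheaf, i.e.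
every set of sections has at most one element. Then there is exactly one open W of S such that F is
isomorphic to the sheaf represented by W (viewed as a scheme etale over S). -/
theorem result (S : Scheme.{u}) (F : Sheaf S.smallEtaleTopology (Type u))
    (hF : ∀ U : S.Etale, Subsingleton (F.obj.obj (op U))) :
    ∃! W : S.Opens, Nonempty (F.obj ≅ yoneda.obj (Scheme.Etale.mk W.ι)) := by
  refine ⟨theOpen F.obj, ⟨?_⟩, ?_⟩
  · refine NatIso.ofComponents (fun U => ?_) ?_
    · have := hF U.unop
      have := subsingleton_hom (theOpen F.obj) U.unop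
      refine Equiv.toIso (equivOfSubsingletonOfSubsingleton (fun s => ?_) (fun a => ?_))
      · exact homOfRangeSubset _ _ (range_subset_theOpen F.obj U.unop ⟨s⟩)
      · exact Classical.choice (nonempty_of_range_subset F hF U.unop
          (range_subset_of_hom _ _ a))
    · intro U V g
      have := subsingleton_hom (theOpen F.obj) V.unop
      ext s
      exact Subsingleton.elim _ _
  · rintro W' ⟨e⟩
    have hW' : ∀ U : S.Etale, Nonempty (F.obj.obj (op U)) ↔ Set.range U.hom.base ⊆ (W' : Set S) := by
      intro U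
      constructor
      · rintro ⟨s⟩
        exact range_subset_of_hom _ _ (e.hom.app (op U) s)
      · intro h
        exact ⟨e.inv.app (op U) (homOfRangeSubset _ _ h)⟩
    apply le_antisymm
    · intro x hx
      have hx' : x ∈ Set.range W'.ι := by rw [Scheme.Opens.range_ι]; exact hx
      have := range_subset_theOpen F.obj (Scheme.Etale.mk W'.ι)
        ((hW' _).2 (by
          show Set.range W'.ι ⊆ (W' : Set S)
          rw [Scheme.Opens.range_ι]))
      exact this hx'
    · intro x hx
      obtain ⟨V, hV⟩ := Set.mem_iUnion.1 hx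
      obtain ⟨hV, hv⟩ := Set.mem_iUnion.1 hV
      exact (hW' V).1 hV hv

end Groth.Agent.S0644
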