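import Groth.Statements.S0648
import Groth.Agent.Lib.LanExact

set_option autoImplicit false
open CategoryTheory CategoryTheory.Limits AlgebraicGeometry Opposite
universe u
open EtCore

namespace Groth.Agent.S0648

variable {U X : Scheme.{u}} (j : U ⟶ X) [hj : AlgebraicGeometry.Etale j]

/-- Lifts of the structure map of `W` through `j`. -/
def Lifts (W : X.Etale) : Type u := {φ : W.left ⟶ U // φ ≫ j = W.hom}

/-- The object of the small etale site of `U` attached to a lift. -/
noncomputable def liftObj (W : X.Etale) (φ : Lifts j W) : U.Etale :=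
  MorphismProperty.Over.mk ⊤ φ.1
    (EtCoh.etaleMP.of_postcomp (W' := EtCoh.etaleMP) φ.1 j hj (by rw [φ.2]; exact W.prop))

@[simp] theorem liftObj_left (W : X.Etale) (φ : Lifts j W) : (liftObj j W φ).left = W.left := rfl
@[simp] theorem liftObj_hom (W : X.Etale) (φ : Lifts j W) : (liftObj j W φ).hom = φ.1 := rfl

/-- `W` maps (isomorphically) to the composite of its lift. -/
noncomputable def toComp (W : X.Etale) (φ : Lifts j W) :
    W ⟶ (EtShriek.compEtale j).obj (liftObj j W φ) :=
  MorphismProperty.Over.homMk (𝟙 W.left) (by simp [φ.2])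

@[simp] theorem toComp_left (W : X.Etale) (φ : Lifts j W) : (toComp j W φ).left = 𝟙 _ := rfl

/-- The functor from the discrete category of lifts to costructured arrows. -/
noncomputable def ιW (W : X.Etale) :
    Discrete (Lifts j W) ⥤ CostructuredArrow (EtShriek.compEtale j).op (op W) :=
  Discrete.functor (fun φ => CostructuredArrow.mk (Y := op (liftObj j W φ)) (toComp j W φ).op)

/-- the lift attached to a costructured arrow -/
noncomputable def liftOf (W : X.Etale) (d : CostructuredArrow (EtShriek.compEtale j).op (op W)) :
    Lifts j W :=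
  ⟨d.hom.unop.left ≫ d.left.unop.hom, by
    have := MorphismProperty.Over.w d.hom.unop
    simpa using this⟩

/-- the map in the etale site of `U` underlying `toLift` -/
noncomputable def toLiftAux (W : X.Etale)
    (d : CostructuredArrow (EtShriek.compEtale j).op (op W)) :
    liftObj j W (liftOf j W d) ⟶ d.left.unop :=
  MorphismProperty.Over.homMk (A := liftObj j W (liftOf j W d)) (B := d.left.unop)
    d.hom.unop.left rfl

@[simp] theorem toLiftAux_left (W : X.Etale)
    (d : CostructuredArrow (EtShriek.compEtale j).op (op W)) :
    (toLiftAux j W d).left = d.hom.unop.left := rfl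

/-- the canonical map from a costructured arrow to the image of its lift -/
noncomputable def toLift (W : X.Etale) (d : CostructuredArrow (EtShriek.compEtale j).op (op W)) :
    d ⟶ (ιW j W).obj ⟨liftOf j W d⟩ :=
  CostructuredArrow.homMk (toLiftAux j W d).op
    (by
      apply Quiver.Hom.unop_inj
      apply MorphismProperty.Over.Hom.ext
      simp only [ιW, Discrete.functor_obj_eq_as, CostructuredArrow.mk_left, Functor.op_obj,
        Functor.op_map, Quiver.Hom.unop_op, CostructuredArrow.mk_hom_eq_self, unop_comp]
      exact Category.id_comp _)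

theorem left_eq_of_hom (W : X.Etale) (d : CostructuredArrow (EtShriek.compEtale j).op (op W))
    (φ : Lifts j W) (m : d ⟶ (ιW j W).obj ⟨φ⟩) :
    m.left.unop.left = d.hom.unop.left := by
  have h := CostructuredArrow.w m
  have h' := congrArg (fun k => k.unop.left) h
  simp only [ιW, Discrete.functor_obj_eq_as, CostructuredArrow.mk_left, Functor.op_obj,
    Functor.op_map, Quiver.Hom.unop_op, CostructuredArrow.mk_hom_eq_self, unop_comp] at h'
  refine Eq.trans ?_ h'
  exact (Category.id_comp _).symm

theorem lift_eq_of_hom (W : X.Etale) (d : CostructuredArrow (EtShriek.compEtale j).op (op W))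
    (φ : Lifts j W) (m : d ⟶ (ιW j W).obj ⟨φ⟩) : φ = liftOf j W d := by
  apply Subtype.ext
  have h1 := left_eq_of_hom j W d φ m
  have h2 : m.left.unop.left ≫ d.left.unop.hom = φ.1 := MorphismProperty.Over.w m.left.unop
  rw [h1] at h2
  exact h2.symm

theorem hom_eq_toLift (W : X.Etale) (d : CostructuredArrow (EtShriek.compEtale j).op (op W))
    (m : d ⟶ (ιW j W).obj ⟨liftOf j W d⟩) : m = toLift j W d := by
  apply CostructuredArrow.hom_ext
  apply Quiver.Hom.unop_inj
  apply MorphismProperty.Over.Hom.ext
  exact left_eq_of_hom j W d _ m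

instance final_ιW (W : X.Etale) : (ιW j W).Final := by
  constructor
  intro d
  have : Nonempty (StructuredArrow d (ιW j W)) := ⟨StructuredArrow.mk (toLift j W d)⟩
  apply zigzag_isConnected
  suffices ∀ a : StructuredArrow d (ιW j W), Zigzag (StructuredArrow.mk (toLift j W d)) a from
    fun a b => (this a).symm.trans (this b)
  rintro ⟨⟨⟩, ⟨φ⟩, m⟩
  obtain rfl : φ = liftOf j W d := lift_eq_of_hom j W d φ m
  obtain rfl : m = toLift j W d := hom_eq_toLift j W d m
  exact Zigzag.refl _

instance ab4 : AB4OfSize.{u} AddCommGrpCat.{u + 1} := AB4OfSize_shrink.{u, u + 1} _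

instance hasExact (W : (X.Etale)ᵒᵖ) :
    HasExactColimitsOfShape (CostructuredArrow (EtShriek.compEtale j).op W)
      AddCommGrpCat.{u + 1} :=
  hasExactColimitsOfShape_of_final _ (ιW j W.unop)

instance lanPres : PreservesFiniteLimits ((EtShriek.compEtale j).op.lan :
    (U.Etaleᵒᵖ ⥤ AddCommGrpCat.{u + 1}) ⥤ (X.Etaleᵒᵖ ⥤ AddCommGrpCat.{u + 1})) :=
  Groth.Agent.Lib.LanExact.preservesFiniteLimits_lan _

/-- For an etale morphism j : U -> X the extension by zero functor j_! on abelian sheaves preserves
finite limits (it is a left adjoint, so it is then exact). (Continuity of the composition functor of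
etale sites, which always holds, is carried as an instance hypothesis.) -/
theorem result {U X : Scheme.{u}} (j : U ⟶ X) [AlgebraicGeometry.Etale j] [EtShriek.JCont j] :
    PreservesFiniteLimits (EtShriek.extZero j) := by
  have h1 : PreservesFiniteLimits ((EtShriek.compEtale j).op.lan ⋙
      presheafToSheaf X.smallEtaleTopology AddCommGrpCat.{u + 1}) :=
    comp_preservesFiniteLimits _ _
  have h2 : PreservesFiniteLimits (Functor.sheafPullbackConstruction.sheafPullback
      (EtShriek.compEtale j) AddCommGrpCat.{u + 1} U.smallEtaleTopology X.smallEtaleTopology) := by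
    apply comp_preservesFiniteLimits
  exact preservesFiniteLimits_of_natIso (Functor.sheafPullbackConstruction.sheafPullbackIso
    (EtShriek.compEtale j) AddCommGrpCat.{u + 1} U.smallEtaleTopology X.smallEtaleTopology).symm

end Groth.Agent.S0648
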