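import Groth.Statements.S0649

set_option autoImplicit false
open CategoryTheory CategoryTheory.Limits AlgebraicGeometry Opposite
universe u
open EtCore

namespace Groth.Agent.S0649

theorem isPullback_aux {V' V Y X : Scheme.{u}} (j : V ⟶ X) [AlgebraicGeometry.Etale j]
    (f : Y ⟶ X) (j' : V' ⟶ Y) [AlgebraicGeometry.Etale j'] (f' : V' ⟶ V)
    (h : IsPullback j' f' f j) (W : V.Etale) :
    IsPullback (pullback.fst W.hom f') (pullback.snd W.hom f' ≫ j') (W.hom ≫ j) f :=
  IsPullback.paste_vert (IsPullback.of_hasPullback W.hom f') h.flip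

/-- Beck-Chevalley for the site functors: base change then compose equals compose then base
change, for a cartesian square. -/
noncomputable def siteIso {V' V Y X : Scheme.{u}} (j : V ⟶ X) [AlgebraicGeometry.Etale j]
    (f : Y ⟶ X) (j' : V' ⟶ Y) [AlgebraicGeometry.Etale j'] (f' : V' ⟶ V)
    (h : IsPullback j' f' f j) :
    EtCoh.bc f' ⋙ EtShriek.compEtale j' ≅ EtShriek.compEtale j ⋙ EtCoh.bc f :=
  NatIso.ofComponents
    (fun W => MorphismProperty.Over.isoMk (isPullback_aux j f j' f' h W).isoPullback
      ((isPullback_aux j f j' f' h W).isoPullback_hom_snd))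
    (by
      intro W W' g
      apply MorphismProperty.Over.Hom.ext
      have e1 : ((EtShriek.compEtale j ⋙ EtCoh.bc f).map g).left ≫
          pullback.fst (W'.hom ≫ j) f = pullback.fst (W.hom ≫ j) f ≫ g.left := by
        dsimp [EtCoh.bc]
        exact pullback.lift_fst _ _ _
      have e2 : ((EtShriek.compEtale j ⋙ EtCoh.bc f).map g).left ≫
          pullback.snd (W'.hom ≫ j) f = pullback.snd (W.hom ≫ j) f := by
        dsimp [EtCoh.bc]
        exact pullback.lift_snd _ _ _
      have e3 : ((EtCoh.bc f').map g).left ≫
          pullback.fst W'.hom f' = pullback.fst W.hom f' ≫ g.left := by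
        dsimp [EtCoh.bc]
        exact pullback.lift_fst _ _ _
      have e4 : ((EtCoh.bc f').map g).left ≫
          pullback.snd W'.hom f' = pullback.snd W.hom f' := by
        dsimp [EtCoh.bc]
        exact pullback.lift_snd _ _ _
      refine pullback.hom_ext (f := W'.hom ≫ j) (g := f) ?_ ?_
      · refine (Category.assoc _ _ _).trans ?_
        refine (whisker_eq _ (isPullback_aux j f j' f' h W').isoPullback_hom_fst).trans ?_
        refine e3.trans ?_
        refine Eq.trans ?_ (Category.assoc _ _ _).symm
        refine Eq.trans ?_ (whisker_eq _ e1.symm)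
        refine Eq.trans ?_ (Category.assoc _ _ _)
        exact (eq_whisker (isPullback_aux j f j' f' h W).isoPullback_hom_fst _).symm
      · refine (Category.assoc _ _ _).trans ?_
        refine (whisker_eq _ (isPullback_aux j f j' f' h W').isoPullback_hom_snd).trans ?_
        refine (Category.assoc _ _ _).symm.trans ?_
        refine (eq_whisker e4 _).trans ?_
        refine Eq.trans ?_ (Category.assoc _ _ _).symm
        refine Eq.trans ?_ (whisker_eq _ e2.symm)
        exact (isPullback_aux j f j' f' h W).isoPullback_hom_snd.symm)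

/-- Extension by zero commutes with pullback, for abelian sheaves. Let f : Y → X be a morphism of
schemes and j : V → X étale, and let V' = Y ×_X V with projections j' : V' → Y and f' : V' → V. Then
the functors j'_! ∘ f'^(-1) and f^(-1) ∘ j_! from abelian sheaves on V_ét to abelian sheaves on Y_ét
are isomorphic. Only the existence of an isomorphism of functors is asserted; the published
statement gives the canonical one. (Continuity of the composition functor of étale sites, which
always holds, is carried as an instance hypothesis.) -/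
theorem result {V' V Y X : Scheme.{u}} (j : V ⟶ X) [AlgebraicGeometry.Etale j] [EtShriek.JCont j]
    (f : Y ⟶ X) (j' : V' ⟶ Y) [AlgebraicGeometry.Etale j'] [EtShriek.JCont j'] (f' : V' ⟶ V)
    (h : IsPullback j' f' f j) :
    Nonempty (EtCoh.pull f' ⋙ EtShriek.extZero j' ≅ EtShriek.extZero j ⋙ EtCoh.pull f) := by
  have c1 : (EtCoh.bc f' ⋙ EtShriek.compEtale j').IsContinuous V.smallEtaleTopology
      Y.smallEtaleTopology :=
    Functor.isContinuous_comp _ _ _ V'.smallEtaleTopology _
  have c2 : (EtShriek.compEtale j ⋙ EtCoh.bc f).IsContinuous V.smallEtaleTopology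
      Y.smallEtaleTopology :=
    Functor.isContinuous_comp _ _ _ X.smallEtaleTopology _
  let e : EtShriek.restrAlong j' ⋙ EtCoh.push f' ≅ EtCoh.push f ⋙ EtShriek.restrAlong j :=
    Functor.sheafPushforwardContinuousComp (EtCoh.bc f') (EtShriek.compEtale j')
        AddCommGrpCat.{u + 1} V.smallEtaleTopology V'.smallEtaleTopology Y.smallEtaleTopology ≪≫
      Functor.sheafPushforwardContinuousIso (siteIso j f j' f' h) AddCommGrpCat.{u + 1}
        V.smallEtaleTopology Y.smallEtaleTopology ≪≫
      (Functor.sheafPushforwardContinuousComp (EtShriek.compEtale j) (EtCoh.bc f)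
        AddCommGrpCat.{u + 1} V.smallEtaleTopology X.smallEtaleTopology Y.smallEtaleTopology).symm
  let adj1 : EtCoh.pull f' ⋙ EtShriek.extZero j' ⊣ EtShriek.restrAlong j' ⋙ EtCoh.push f' :=
    (EtCoh.pullPushAdj f').comp (EtShriek.extZeroAdj j')
  let adj2 : EtShriek.extZero j ⋙ EtCoh.pull f ⊣ EtCoh.push f ⋙ EtShriek.restrAlong j :=
    (EtShriek.extZeroAdj j).comp (EtCoh.pullPushAdj f)
  exact ⟨Adjunction.leftAdjointUniq (adj1.ofNatIsoRight e) adj2⟩

end Groth.Agent.S0649
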