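import Groth.Statements.S0651
import Groth.Agent.Lib.EtRestr

set_option autoImplicit false
open CategoryTheory CategoryTheory.Limits AlgebraicGeometry Opposite
universe u
open EtCore

namespace Groth.Agent.S0651

open Groth.Agent.Lib.EtRestr

/-- For an open immersion j : U -> X and an abelian sheaf F on the small etale site of U, the counit
j^{-1} j_* F -> F of the pullback/direct image adjunction and the unit F -> j^{-1} j_! F of the
extension-by-zero/restriction adjunction are isomorphisms. (Continuity of the composition functor of
etale sites, which always holds, is carried as an instance hypothesis.) -/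
theorem result {U X : Scheme.{u}} (j : U ⟶ X) [IsOpenImmersion j]
    [AlgebraicGeometry.Etale j] [EtShriek.JCont j] (F : EtCoh.Ab U) :
    IsIso ((EtCoh.pullPushAdj j).counit.app F) ∧ IsIso ((EtShriek.extZeroAdj j).unit.app F) := by
  have hff : (EtCoh.push j).FullyFaithful := (restrPushAdj j).fullyFaithfulROfIsIsoCounit
  have := hff.full
  have := hff.faithful
  let t : Adjunction.Triple (EtShriek.extZero j) (EtShriek.restrAlong j) (EtCoh.push j) :=
    ⟨EtShriek.extZeroAdj j, restrPushAdj j⟩
  have h2 : IsIso (EtShriek.extZeroAdj j).unit :=
    t.isIso_unit_iff_isIso_counit.2 (isIso_counit_restrPushAdj j)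
  exact ⟨inferInstance, inferInstance⟩

end Groth.Agent.S0651
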