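import Groth.Statements.S0652
import Groth.Agent.Lib.EtExtZero2

set_option autoImplicit false
open CategoryTheory CategoryTheory.Limits AlgebraicGeometry Opposite
universe u
open EtCore

namespace Groth.Agent.S0652

open Groth.Agent.Lib.EtGerm Groth.Agent.Lib.EtStalkPull Groth.Agent.Lib.EtStalkPullGerm
  Groth.Agent.Lib.EtClosedStalk Groth.Agent.Lib.EtStalkConservative Groth.Agent.Lib.EtAbStalk
  Groth.Agent.Lib.EtAbStalk2 Groth.Agent.Lib.EtAbStalk3 Groth.Agent.Lib.EtExtZero

/-- For an open immersion j : U -> X and an abelian sheaf F on the small etale site of U, an abelian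
sheaf G on X is isomorphic to j_! F as soon as G restricts to a sheaf isomorphic to F on U and has
vanishing stalks at every geometric point of X not in U. (Continuity of the composition functor of
etale sites, which always holds, is carried as an instance hypothesis.) -/
theorem result {U X : Scheme.{u}} (j : U ⟶ X) [IsOpenImmersion j]
    [AlgebraicGeometry.Etale j] [EtShriek.JCont j] (F : EtCoh.Ab U) (G : EtCoh.Ab X)
    (hres : Nonempty ((EtShriek.restrAlong j).obj G ≅ F))
    (hzero : ∀ (Ω : Type u) [Field Ω] [IsSepClosed Ω] (ξ : Spec (CommRingCat.of Ω) ⟶ X),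
      Set.range ξ.base ⊆ (Set.range j.base)ᶜ → IsZero ((EtCoh.stalk ξ).obj G)) :
    Nonempty (G ≅ (EtShriek.extZero j).obj F) := by
  obtain ⟨e⟩ := hres
  -- the morphism `j_! F ⟶ G` adjoint to `e.inv`
  let φ : (EtShriek.extZero j).obj F ⟶ G := ((EtShriek.extZeroAdj j).homEquiv F G).symm e.inv
  have hφ : (EtShriek.extZeroAdj j).unit.app F ≫ (EtShriek.restrAlong j).map φ = e.inv := by
    refine ((EtShriek.extZeroAdj j).homEquiv_unit (f := φ)).symm.trans ?_
    exact Equiv.apply_symm_apply _ _
  have hrestr : IsIso ((EtShriek.restrAlong j).map φ) := by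
    have hη : IsIso ((EtShriek.extZeroAdj j).unit.app F) := inferInstance
    have he : IsIso e.inv := inferInstance
    exact @IsIso.of_isIso_fac_left _ _ _ _ _ _ _ _ hη he hφ
  have hiso : IsIso φ := by
    apply isIso_of_forall_exists_geomPt
    intro x
    by_cases hx : x ∈ Set.range j
    · obtain ⟨y, rfl⟩ := hx
      refine ⟨_, inferInstance, inferInstance, stdPt y ≫ j, ?_, ?_⟩
      · show j (stdPt y default) = j y
        rw [stdPt_default]
      · have := isIso_stalk_map_of_isIso_restr j φ hrestr (stdPt y)
        exact ConcreteCategory.bijective_of_isIso _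
    · refine ⟨_, inferInstance, inferInstance, stdPt x, stdPt_default x, ?_⟩
      apply bijective_of_isZero
      · apply isZero_stalk_extZero
        apply isEmpty_lifts
        rw [stdPt_default]
        exact hx
      · apply hzero
        rintro _ ⟨a, rfl⟩
        have : (stdPt x) a ∈ Set.range (stdPt x) := ⟨a, rfl⟩
        rw [range_stdPt, Set.mem_singleton_iff] at this
        show (stdPt x) a ∈ (Set.range j)ᶜ
        rw [this]
        exact hx
  exact ⟨(asIso φ).symm⟩

end Groth.Agent.S0652
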