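import Groth.Statements.S0653
import Groth.Agent.S0652
import Groth.Agent.Lib.EtExtZeroBC39
import Groth.Agent.Lib.EtStalkFieldExt39
import Groth.Agent.Lib.EtFinStalk39A

set_option autoImplicit false
open CategoryTheory CategoryTheory.Limits AlgebraicGeometry Opposite
universe u
open EtCore

namespace Groth.Agent.S0653

/-- Consider a cartesian square U = X x_Y V with f : X -> Y finite, j : V -> Y an open immersion, j' : U
-> X and g : U -> V the projections. Then for every abelian sheaf F on the small etale site of U,
f_* j'_! F is isomorphic to j_! g_* F. (The source also asserts functoriality in F; only the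
objectwise isomorphism is stated.) (Continuity of the composition functor of etale sites, which
always holds, is carried as an instance hypothesis.) -/
theorem result {U X V Y : Scheme.{u}} (f : X ⟶ Y) [IsFinite f] (j : V ⟶ Y)
    [IsOpenImmersion j] [AlgebraicGeometry.Etale j] [EtShriek.JCont j] (j' : U ⟶ X) [IsOpenImmersion j']
    [AlgebraicGeometry.Etale j'] [EtShriek.JCont j'] (g : U ⟶ V) (h : IsPullback j' g f j) (F : EtCoh.Ab U) :
    Nonempty ((EtCoh.push f).obj ((EtShriek.extZero j').obj F) ≅ (EtShriek.extZero j).obj ((EtCoh.push g).obj F)) := by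
  apply Groth.Agent.S0652.result j ((EtCoh.push g).obj F)
    ((EtCoh.push f).obj ((EtShriek.extZero j').obj F))
  · have : IsIso ((EtShriek.extZeroAdj j').unit.app F) := inferInstance
    exact ⟨(Groth.Agent.Lib.EtExtZeroBC39.pushRestrIso f j j' g h).app _ ≪≫
      (EtCoh.push g).mapIso (asIso ((EtShriek.extZeroAdj j').unit.app F)).symm⟩
  · intro Ω _ _ ξ hξ
    let c : Spec (CommRingCat.of (AlgebraicClosure Ω)) ⟶ Spec (CommRingCat.of Ω) :=
      Spec.map (CommRingCat.ofHom (algebraMap Ω (AlgebraicClosure Ω)))
    apply Groth.Agent.Lib.EtStalkFieldExt39.isZero_stalk_of_isZero_stalk_comp ξ c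
    have hsub : Subsingleton ((EtCoh.stalk (c ≫ ξ)).obj
        ((EtCoh.push f).obj ((EtShriek.extZero j').obj F))) := ⟨fun a b => by
      rw [← sub_eq_zero]
      apply Groth.Agent.Lib.EtFinStalk39.eq_zero_of_pushGermOf_eq_zero f (c ≫ ξ)
      intro ξ' hξ'
      have hz : IsZero ((EtCoh.stalk ξ').obj ((EtShriek.extZero j').obj F)) := by
        apply Groth.Agent.Lib.EtExtZero.isZero_stalk_extZero
        apply Groth.Agent.Lib.EtExtZero.isEmpty_lifts
        rintro ⟨u, hu⟩
        have h1 : (c ≫ ξ) default = f (ξ' default) :=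
          (congrArg (fun k : Spec (CommRingCat.of (AlgebraicClosure Ω)) ⟶ Y => k default) hξ').symm
        have h2 : f (j' u) = j (g u) :=
          congrArg (fun k : U ⟶ Y => k u) h.w
        have h3 : ξ (c default) ∈ (Set.range j)ᶜ := hξ ⟨c default, rfl⟩
        apply h3
        refine ⟨g u, ?_⟩
        rw [← h2, hu, ← h1]
        rfl
      have := AddCommGrpCat.subsingleton_of_isZero hz
      exact Subsingleton.elim _ _⟩
    exact AddCommGrpCat.isZero_of_subsingleton _

end Groth.Agent.S0653
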