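import Groth.Statements.S0654
import Groth.Agent.Lib.EtExtZero2

set_option autoImplicit false
open CategoryTheory CategoryTheory.Limits AlgebraicGeometry Opposite
universe u
open EtCore

namespace Groth.Agent.S0654

open Groth.Agent.Lib.EtGerm Groth.Agent.Lib.EtStalkPull Groth.Agent.Lib.EtStalkPullGerm
  Groth.Agent.Lib.EtClosedStalk Groth.Agent.Lib.EtStalkConservative Groth.Agent.Lib.EtAbStalk
  Groth.Agent.Lib.EtAbStalk2 Groth.Agent.Lib.EtAbStalk3 Groth.Agent.Lib.EtExtZero

lemma range_ι_eq {Z X : Scheme.{u}} (i : Z ⟶ X) (U : X.Opens)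
    (hU : (U : Set X) = (Set.range i.base)ᶜ) : Set.range U.ι = (Set.range i)ᶜ := by
  rw [Scheme.Opens.range_ι]
  exact hU

/-- Let i : Z -> X be a closed immersion and j : U -> X the open immersion of the complement of its
image. For every abelian sheaf F on the small etale site of X, the counit j_! (F|_U) -> F followed
by the unit F -> i_* i^{-1} F composes to zero and the resulting three-term sequence is short exact.
(Continuity of the composition functor of etale sites, which always holds, is carried as an instance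
hypothesis.) -/
theorem result {Z X : Scheme.{u}} (i : Z ⟶ X) [IsClosedImmersion i]
    (U : X.Opens) (hU : (U : Set X) = (Set.range i.base)ᶜ) [AlgebraicGeometry.Etale U.ι] [EtShriek.JCont U.ι]
    (F : EtCoh.Ab X) :
    ∃ w : (EtShriek.extZeroAdj U.ι).counit.app F ≫ (EtCoh.pullPushAdj i).unit.app F = 0,
      (ShortComplex.mk _ _ w).ShortExact := by
  have hr := range_ι_eq i U hU
  have hd : Disjoint (Set.range U.ι) (Set.range i) := by
    rw [hr]
    exact disjoint_compl_left
  have hz : IsZero ((EtShriek.restrAlong U.ι).obj ((EtCoh.push i).obj ((EtCoh.pull i).obj F))) :=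
    isZero_restr_push i U.ι _ hd
  have w : (EtShriek.extZeroAdj U.ι).counit.app F ≫ (EtCoh.pullPushAdj i).unit.app F = 0 :=
    ((EtShriek.extZeroAdj U.ι).homEquiv _ _).injective (hz.eq_of_tgt _ _)
  refine ⟨w, ?_⟩
  apply shortExact_of_forall_exists_geomPt
  intro x
  by_cases hx : x ∈ Set.range i
  · obtain ⟨z, rfl⟩ := hx
    refine ⟨_, inferInstance, inferInstance, stdPt z ≫ i, ?_, Or.inl ⟨?_, ?_⟩⟩
    · show i (stdPt z default) = i z
      rw [stdPt_default]
    · apply isZero_stalk_extZero
      apply isEmpty_lifts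
      rw [hr]
      intro hc
      exact hc ⟨stdPt z default, rfl⟩
    · exact isIso_stalk_unit_closed i F (stdPt z)
  · have hxU : x ∈ Set.range U.ι := by
      rw [hr]
      exact hx
    obtain ⟨y, rfl⟩ := hxU
    refine ⟨_, inferInstance, inferInstance, stdPt y ≫ U.ι, ?_, Or.inr ⟨?_, ?_⟩⟩
    · show U.ι (stdPt y default) = U.ι y
      rw [stdPt_default]
    · apply Groth.Agent.S0069.result i _ (stdPt y ≫ U.ι)
      rw [Set.disjoint_left]
      rintro _ ⟨a, rfl⟩ hb
      refine Set.disjoint_left.1 hd ⟨(stdPt y) a, ?_⟩ hb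
      rfl
    · exact isIso_stalk_counit U.ι F (stdPt y)

end Groth.Agent.S0654
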