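import Groth.Statements.S0658
import Mathlib

set_option autoImplicit false
open CategoryTheory CategoryTheory.Limits AlgebraicGeometry Opposite
universe u
open EtCore

namespace Groth.Agent.S0658


/-- finite separable ⇒ étale morphism of spectra -/
theorem etale_spec_of_sep (k K : Type u) [Field k] [Field K] [Algebra k K]
    [FiniteDimensional k K] [Algebra.IsSeparable k K] :
    AlgebraicGeometry.Etale (Spec.map (CommRingCat.ofHom (algebraMap k K))) := by
  rw [HasRingHomProperty.Spec_iff (P := @AlgebraicGeometry.Etale)]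
  rw [CommRingCat.hom_ofHom, RingHom.etale_algebraMap]
  have : Algebra.FormallyEtale k K := Algebra.FormallyEtale.of_isSeparable k K
  have : Algebra.FinitePresentation k K := Algebra.FinitePresentation.of_finiteType.mp inferInstance
  exact ⟨inferInstance, inferInstance⟩

/-- an étale algebra over a field with one prime is a field -/
theorem isField_of_etale (k A : Type u) [Field k] [CommRing A] [Algebra k A] [Algebra.Etale k A]
    [Nonempty (PrimeSpectrum A)] [Subsingleton (PrimeSpectrum A)] : IsField A := by
  have hred : IsReduced A := Algebra.FormallyUnramified.isReduced_of_field k A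
  obtain ⟨p⟩ := ‹Nonempty (PrimeSpectrum A)›
  have : Nontrivial A := (PrimeSpectrum.nonempty_iff_nontrivial.mp ⟨p⟩)
  have hloc : IsLocalRing A := by
    refine IsLocalRing.of_unique_max_ideal ?_
    obtain ⟨m, hm⟩ := Ideal.exists_maximal A
    refine ⟨m, hm, fun m' hm' => ?_⟩
    exact congrArg PrimeSpectrum.asIdeal
      (Subsingleton.elim (⟨m', hm'.isPrime⟩ : PrimeSpectrum A) ⟨m, hm.isPrime⟩)
  rw [IsLocalRing.isField_iff_maximalIdeal_eq]
  have h1 : nilradical A = ⊥ := nilradical_eq_bot_iff.mpr hred
  rw [← h1, nilradical_eq_sInf]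
  refine le_antisymm (le_sInf fun J hJ => ?_) (sInf_le (IsLocalRing.maximalIdeal.isMaximal A).isPrime)
  have hJ' : J.IsPrime := hJ
  exact (congrArg PrimeSpectrum.asIdeal
      (Subsingleton.elim (⟨J, hJ'⟩ : PrimeSpectrum A)
        ⟨_, (IsLocalRing.maximalIdeal.isMaximal A).isPrime⟩)).ge

section
variable {k : Type u} [Field k] {U : Scheme.{u}} (φ : U ⟶ Spec (CommRingCat.of k))

/-- structure map of an affine open over `k`. -/
noncomputable def θ {W : U.Opens} (hW : IsAffineOpen W) : CommRingCat.of k ⟶ Γ(U, W) :=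
  Spec.preimage (hW.fromSpec ≫ φ)

lemma spec_θ {W : U.Opens} (hW : IsAffineOpen W) : Spec.map (θ φ hW) = hW.fromSpec ≫ φ :=
  Spec.map_preimage _

lemma θ_etale [Etale φ] {W : U.Opens} (hW : IsAffineOpen W) : (θ φ hW).hom.Etale := by
  rw [← HasRingHomProperty.Spec_iff (P := @Etale), spec_θ]; infer_instance

lemma discrete_affine [Etale φ] {W : U.Opens} (hW : IsAffineOpen W) :
    DiscreteTopology (PrimeSpectrum Γ(U, W)) := by
  have h := θ_etale φ hW
  algebraize [(θ φ hW).hom]
  have : Module.Finite k Γ(U, W) := Algebra.FormallyUnramified.finite_of_free k _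
  have : IsArtinianRing Γ(U, W) := IsArtinianRing.of_finite k _
  infer_instance

lemma isOpen_singleton [Etale φ] (x : U) : IsOpen ({x} : Set U) := by
  obtain ⟨_, ⟨V, hV, rfl⟩, hxV, -⟩ :=
    U.isBasis_affineOpens.exists_subset_of_mem_open (Set.mem_univ x) isOpen_univ
  have hV' : IsAffineOpen V := hV
  have : DiscreteTopology (Spec Γ(U, V)) := discrete_affine φ hV'
  have hx : x ∈ Set.range hV'.fromSpec := by rw [hV'.range_fromSpec]; exact hxV
  obtain ⟨y, rfl⟩ := hx
  have : ({hV'.fromSpec y} : Set U) = hV'.fromSpec '' {y} := by simp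
  rw [this]
  exact hV'.fromSpec.isOpenEmbedding.isOpenMap _ (isOpen_discrete _)

lemma exists_point_data [Etale φ] (x : U) :
    ∃ (K : Type u) (_ : Field K) (_ : Algebra k K) (_ : FiniteDimensional k K)
      (_ : Algebra.IsSeparable k K) (f : Spec (CommRingCat.of K) ⟶ U),
      IsOpenImmersion f ∧ Set.range f = {x} ∧
        f ≫ φ = Spec.map (CommRingCat.ofHom (algebraMap k K)) := by
  let W : U.Opens := ⟨{x}, isOpen_singleton φ x⟩
  have hW : IsAffineOpen W := by
    obtain ⟨_, ⟨V, hV, rfl⟩, hxV, hVW⟩ :=
      U.isBasis_affineOpens.exists_subset_of_mem_open (show x ∈ (W : Set U) from rfl) W.2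
    have : V = W := by
      refine le_antisymm hVW ?_
      intro y hy
      have : y = x := hy
      rw [this]; exact hxV
    exact this ▸ hV
  have h := θ_etale φ hW
  algebraize [(θ φ hW).hom]
  have hrange : Set.range hW.fromSpec = {x} := hW.range_fromSpec
  have hne : Nonempty (PrimeSpectrum Γ(U, W)) := by
    have : x ∈ Set.range hW.fromSpec := by rw [hrange]; rfl
    obtain ⟨y, -⟩ := this
    exact ⟨y⟩
  have hss : Subsingleton (PrimeSpectrum Γ(U, W)) := by
    refine ⟨fun a b => ?_⟩
    apply hW.fromSpec.isOpenEmbedding.injective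
    have ha : hW.fromSpec a ∈ Set.range hW.fromSpec := ⟨a, rfl⟩
    have hb : hW.fromSpec b ∈ Set.range hW.fromSpec := ⟨b, rfl⟩
    rw [hrange] at ha hb
    exact ha.trans hb.symm
  have hF : IsField Γ(U, W) := isField_of_etale k _
  let _ : Field Γ(U, W) := hF.toField
  have hfin : Module.Finite k Γ(U, W) := Algebra.FormallyUnramified.finite_of_free k _
  refine ⟨Γ(U, W), inferInstance, inferInstance, hfin, ?_, hW.fromSpec, ?_, hrange, ?_⟩
  · exact Algebra.FormallyUnramified.isSeparable k _
  · infer_instance
  · rw [← spec_θ]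
    rfl

end


/-- Let k be a field and φ : U → Spec k a morphism of schemes. Then φ is étale if and only if U is
isomorphic over k to a disjoint union ∐ Spec K_i with each K_i a finite separable field extension of
k. -/
theorem result (k : Type u) [Field k] (U : Scheme.{u}) (φ : U ⟶ Spec (CommRingCat.of k)) :
    AlgebraicGeometry.Etale φ ↔
      ∃ (ι : Type u) (K : ι → Type u) (_ : ∀ i, Field (K i)) (_ : ∀ i, Algebra k (K i))
        (_ : ∀ i, FiniteDimensional k (K i)) (_ : ∀ i, Algebra.IsSeparable k (K i))
        (e : (∐ fun i => Spec (CommRingCat.of (K i))) ≅ U),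
        ∀ i, Sigma.ι (fun i => Spec (CommRingCat.of (K i))) i ≫ e.hom ≫ φ =
          Spec.map (CommRingCat.ofHom (algebraMap k (K i))) := by
  constructor
  · intro hφ
    choose K hK1 hK2 hK3 hK4 f hf1 hf2 hf3 using exists_point_data φ
    have hcov : ⨆ i, (f i).opensRange = ⊤ := by
      rw [eq_top_iff]
      intro x _
      have : x ∈ (f x).opensRange := by
        change x ∈ Set.range (f x)
        rw [hf2]; rfl
      exact TopologicalSpace.Opens.mem_iSup.mpr ⟨x, this⟩
    have hdisj : Pairwise (Function.onFun Disjoint (fun i => (f i).opensRange)) := by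
      intro i j hij
      rw [Function.onFun, disjoint_iff]
      ext y
      simp only [TopologicalSpace.Opens.coe_inf, Scheme.Hom.coe_opensRange, hf2, TopologicalSpace.Opens.coe_bot,
        Set.mem_inter_iff, Set.mem_singleton_iff, Set.mem_empty_iff_false, iff_false, not_and]
      rintro rfl h
      exact hij h
    obtain ⟨hc⟩ := nonempty_isColimit_cofanMk_of f hcov hdisj
    refine ⟨U, K, hK1, hK2, hK3, hK4, (colimit.isColimit _).coconePointUniqueUpToIso hc,
      fun i => ?_⟩
    rw [← hf3 i, ← Category.assoc]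
    congr 1
    exact (colimit.isColimit _).comp_coconePointUniqueUpToIso_hom hc ⟨i⟩
  · rintro ⟨ι, K, hK1, hK2, hK3, hK4, e, he⟩
    have h1 : e.hom ≫ φ = Sigma.desc (fun i => Spec.map (CommRingCat.ofHom (algebraMap k (K i)))) := by
      refine Sigma.hom_ext _ _ fun i => ?_
      rw [he i]; simp
    have h2 : φ = e.inv ≫ Sigma.desc (fun i => Spec.map (CommRingCat.ofHom (algebraMap k (K i)))) := by
      rw [← h1]; simp
    rw [h2]
    have : AlgebraicGeometry.Etale
        (Sigma.desc (fun i => Spec.map (CommRingCat.ofHom (algebraMap k (K i))))) :=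
      IsZariskiLocalAtSource.sigmaDesc (fun i => etale_spec_of_sep k (K i))
    infer_instance

end Groth.Agent.S0658
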