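import Groth.Statements.S0659
import Groth.Agent.Lib.EtShriekConst
import Groth.Agent.Lib.ExtMV

set_option autoImplicit false
open CategoryTheory CategoryTheory.Limits AlgebraicGeometry Opposite
universe u
open EtCore

namespace Groth.Agent.S0659

open Groth.Agent.Lib.EtShriekConst Groth.Agent.Lib.ExtMV Groth.Agent.Lib.EtGerm
  Groth.Agent.Lib.EtStalkConservative CategoryTheory.Abelian

lemma isIso_of_isZero {C : Type*} [Category C] [HasZeroMorphisms C] {A B : C} (f : A ⟶ B)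
    (hA : IsZero A) (hB : IsZero B) : IsIso f :=
  ⟨⟨0, hA.eq_of_src _ _, hB.eq_of_src _ _⟩⟩

lemma exists_geomPt {Y : Scheme.{u}} (y : Y) :
    ∃ (Ω : Type u) (_ : Field Ω) (_ : IsSepClosed Ω) (w : Spec (CommRingCat.of Ω) ⟶ Y),
      w default = y :=
  ⟨_, inferInstance, inferInstance, stdPt y, stdPt_default y⟩

section

variable (X : Scheme.{u}) (U V : X.Opens)

/-- the map `j_{W!} ℤ ⟶ j_{U!} ℤ` -/
noncomputable abbrev iotaU : Zsh (U ⊓ V).ι ⟶ Zsh U.ι :=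
  iota (X.homOfLE (inf_le_left : U ⊓ V ≤ U)) U.ι (U ⊓ V).ι (X.homOfLE_ι inf_le_left)

/-- the map `j_{W!} ℤ ⟶ j_{V!} ℤ` -/
noncomputable abbrev iotaV : Zsh (U ⊓ V).ι ⟶ Zsh V.ι :=
  iota (X.homOfLE (inf_le_right : U ⊓ V ≤ V)) V.ι (U ⊓ V).ι (X.homOfLE_ι inf_le_right)

lemma sq : CommSq (iotaU X U V) (iotaV X U V) (eps U.ι) (eps V.ι) :=
  ⟨(iota_eps _ _ _ _).trans (iota_eps _ _ _ _).symm⟩

variable {Ω : Type u} [Field Ω] [IsSepClosed Ω]

lemma shortExact_inter (w : Spec (CommRingCat.of Ω) ⟶ ↑(U ⊓ V)) :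
    ((sq X U V).shortComplex'.map (EtCoh.stalk (w ≫ (U ⊓ V).ι))).ShortExact := by
  have e1 : (w ≫ X.homOfLE (inf_le_left : U ⊓ V ≤ U)) ≫ U.ι = w ≫ (U ⊓ V).ι := by
    rw [Category.assoc, X.homOfLE_ι]
  have e2 : (w ≫ X.homOfLE (inf_le_right : U ⊓ V ≤ V)) ≫ V.ι = w ≫ (U ⊓ V).ι := by
    rw [Category.assoc, X.homOfLE_ι]
  have h1 : IsIso ((EtCoh.stalk (w ≫ (U ⊓ V).ι)).map (eps U.ι)) :=
    isIso_stalk_eps U.ι (w ≫ (U ⊓ V).ι) (w ≫ X.homOfLE (inf_le_left : U ⊓ V ≤ U)) e1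
  have h2 : IsIso ((EtCoh.stalk (w ≫ (U ⊓ V).ι)).map (eps V.ι)) :=
    isIso_stalk_eps V.ι (w ≫ (U ⊓ V).ι) (w ≫ X.homOfLE (inf_le_right : U ⊓ V ≤ V)) e2
  have h3 : IsIso ((EtCoh.stalk (w ≫ (U ⊓ V).ι)).map (eps (U ⊓ V).ι)) :=
    isIso_stalk_eps (U ⊓ V).ι (w ≫ (U ⊓ V).ι) w rfl
  have h4 : IsIso ((EtCoh.stalk (w ≫ (U ⊓ V).ι)).map (iotaV X U V)) := by
    have e : (EtCoh.stalk (w ≫ (U ⊓ V).ι)).map (iotaV X U V) ≫
        (EtCoh.stalk (w ≫ (U ⊓ V).ι)).map (eps V.ι) =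
        (EtCoh.stalk (w ≫ (U ⊓ V).ι)).map (eps (U ⊓ V).ι) := by
      rw [← Functor.map_comp, iota_eps]
    have : IsIso ((EtCoh.stalk (w ≫ (U ⊓ V).ι)).map (iotaV X U V) ≫
        (EtCoh.stalk (w ≫ (U ⊓ V).ι)).map (eps V.ι)) := by rw [e]; exact h3
    exact IsIso.of_isIso_comp_right _ ((EtCoh.stalk (w ≫ (U ⊓ V).ι)).map (eps V.ι))
  exact shortExact_map_of_isIso _ (sq X U V) h1 h4

lemma shortExact_left (w : Spec (CommRingCat.of Ω) ⟶ ↑U) (hV : (w ≫ U.ι) default ∉ V) :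
    ((sq X U V).shortComplex'.map (EtCoh.stalk (w ≫ U.ι))).ShortExact := by
  have h1 : IsIso ((EtCoh.stalk (w ≫ U.ι)).map (eps U.ι)) :=
    isIso_stalk_eps U.ι (w ≫ U.ι) w rfl
  have hA : IsZero ((EtCoh.stalk (w ≫ U.ι)).obj (Zsh (U ⊓ V).ι)) := by
    apply isZero_stalk_Zsh
    rw [Scheme.Opens.range_ι]
    exact fun hc => hV hc.2
  have hC : IsZero ((EtCoh.stalk (w ≫ U.ι)).obj (Zsh V.ι)) := by
    apply isZero_stalk_Zsh
    rw [Scheme.Opens.range_ι]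
    exact hV
  exact shortExact_map_of_isIso _ (sq X U V) h1 (isIso_of_isZero _ hA hC)

lemma shortExact_right (w : Spec (CommRingCat.of Ω) ⟶ ↑V) (hU : (w ≫ V.ι) default ∉ U) :
    ((sq X U V).shortComplex'.map (EtCoh.stalk (w ≫ V.ι))).ShortExact := by
  have h1 : IsIso ((EtCoh.stalk (w ≫ V.ι)).map (eps V.ι)) :=
    isIso_stalk_eps V.ι (w ≫ V.ι) w rfl
  have hA : IsZero ((EtCoh.stalk (w ≫ V.ι)).obj (Zsh (U ⊓ V).ι)) := by
    apply isZero_stalk_Zsh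
    rw [Scheme.Opens.range_ι]
    exact fun hc => hU hc.1
  have hB : IsZero ((EtCoh.stalk (w ≫ V.ι)).obj (Zsh U.ι)) := by
    apply isZero_stalk_Zsh
    rw [Scheme.Opens.range_ι]
    exact hU
  exact shortExact_map_of_isIso' _ (sq X U V) (isIso_of_isZero _ hA hB) h1

omit [Field Ω] [IsSepClosed Ω] in
lemma shortExact (hUV : U ⊔ V = ⊤) : (sq X U V).shortComplex'.ShortExact := by
  apply shortExact_of_stalks
  intro x
  have hx : x ∈ U ⊔ V := by rw [hUV]; trivial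
  by_cases hxU : x ∈ U
  · by_cases hxV : x ∈ V
    · obtain ⟨Ω, iF, iS, w, hw⟩ := exists_geomPt (Y := (U ⊓ V).toScheme) ⟨x, hxU, hxV⟩
      refine ⟨Ω, iF, iS, w ≫ (U ⊓ V).ι, ?_, shortExact_inter X U V w⟩
      show (U ⊓ V).ι (w default) = x
      rw [hw]
      rfl
    · obtain ⟨Ω, iF, iS, w, hw⟩ := exists_geomPt (Y := U.toScheme) ⟨x, hxU⟩
      have hd : (w ≫ U.ι) default = x := by
        show U.ι (w default) = x
        rw [hw]
        rfl
      exact ⟨Ω, iF, iS, w ≫ U.ι, hd, shortExact_left X U V w (by rw [hd]; exact hxV)⟩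
  · have hxV : x ∈ V := by
      rcases (TopologicalSpace.Opens.mem_sup.1 hx) with h | h
      · exact absurd h hxU
      · exact h
    obtain ⟨Ω, iF, iS, w, hw⟩ := exists_geomPt (Y := V.toScheme) ⟨x, hxV⟩
    have hd : (w ≫ V.ι) default = x := by
      show V.ι (w default) = x
      rw [hw]
      rfl
    exact ⟨Ω, iF, iS, w ≫ V.ι, hd, shortExact_right X U V w (by rw [hd]; exact hxU)⟩

end

/-- Let X = U ∪ V be a union of two open subschemes and F an abelian sheaf on the small etale site of X.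
Writing r_U, r_V for the pullback maps H^n(X, F) -> H^n(U, F|_U), H^n(V, F|_V) and d for the
difference of the two further pullbacks to H^n(U ∩ V, F|_{U ∩ V}), there are connecting
homomorphisms δ_n : H^n(U ∩ V) -> H^{n+1}(X) making the Mayer-Vietoris sequence exact: (r_U, r_V) is
injective in degree 0 and has kernel the image of δ in positive degrees, d has kernel the image of
(r_U, r_V), and δ has kernel the image of d. (Functoriality in F is not stated.) (Exactness of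
pullback of abelian sheaves, which always holds, is carried as an instance hypothesis.) -/
theorem result (X : Scheme.{u}) (U V : X.Opens) (hUV : U ⊔ V = ⊤) (F : EtCoh.Ab X)
    [PreservesFiniteLimits (EtCoh.pull U.ι)] [PreservesFiniteLimits (EtCoh.pull V.ι)]
    [PreservesFiniteLimits (EtCoh.pull (X.homOfLE (inf_le_left : U ⊓ V ≤ U)))]
    [PreservesFiniteLimits (EtCoh.pull (X.homOfLE (inf_le_right : U ⊓ V ≤ V)))] :
    ∃ δ : ∀ n : ℕ, EtCoh.H ↑(U ⊓ V) ((EtCoh.pull (U ⊓ V).ι).obj F) n →+ EtCoh.H X F (n + 1),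
      (AddMonoidHom.prod (EtCore.Hpull U.ι F 0) (EtCore.Hpull V.ι F 0)).ker = ⊥ ∧
      (∀ n : ℕ, (AddMonoidHom.prod (EtCore.Hpull U.ι F (n + 1)) (EtCore.Hpull V.ι F (n + 1))).ker = (δ n).range) ∧
      (∀ n : ℕ, (((EtCore.HpullVia (X.homOfLE (inf_le_left : U ⊓ V ≤ U)) U.ι (U ⊓ V).ι (X.homOfLE_ι inf_le_left) F n)).comp (AddMonoidHom.fst _ _) - ((EtCore.HpullVia (X.homOfLE (inf_le_right : U ⊓ V ≤ V)) V.ι (U ⊓ V).ι (X.homOfLE_ι inf_le_right) F n)).comp (AddMonoidHom.snd _ _)).ker =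
        (AddMonoidHom.prod (EtCore.Hpull U.ι F n) (EtCore.Hpull V.ι F n)).range) ∧
      (∀ n : ℕ, (δ n).ker = (((EtCore.HpullVia (X.homOfLE (inf_le_left : U ⊓ V ≤ U)) U.ι (U ⊓ V).ι (X.homOfLE_ι inf_le_left) F n)).comp (AddMonoidHom.fst _ _) - ((EtCore.HpullVia (X.homOfLE (inf_le_right : U ⊓ V ≤ V)) V.ι (U ⊓ V).ι (X.homOfLE_ι inf_le_right) F n)).comp (AddMonoidHom.snd _ _)).range) := by
  have hW : PreservesFiniteLimits (EtCoh.pull (U ⊓ V).ι) :=
    preservesFiniteLimits_pull_of_etale _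
  have mv := isMV_of_shortExact (sq X U V) (shortExact X U V hUV) F
  exact mv.transport (fun n => theta U.ι F n) (fun n => theta V.ι F n)
    (fun n => theta (U ⊓ V).ι F n)
    (fun n => EtCore.Hpull U.ι F n) (fun n => EtCore.Hpull V.ι F n)
    (fun n => EtCore.HpullVia (X.homOfLE (inf_le_left : U ⊓ V ≤ U)) U.ι (U ⊓ V).ι
      (X.homOfLE_ι inf_le_left) F n)
    (fun n => EtCore.HpullVia (X.homOfLE (inf_le_right : U ⊓ V ≤ V)) V.ι (U ⊓ V).ι
      (X.homOfLE_ι inf_le_right) F n)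
    (fun n x => theta_eps U.ι F n x) (fun n x => theta_eps V.ι F n x)
    (fun n e => theta_iota _ _ _ _ F n e) (fun n e => theta_iota _ _ _ _ F n e)

end Groth.Agent.S0659
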