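import Groth.Statements.S0660
import Mathlib.AlgebraicGeometry.Morphisms.FlatMono
import Groth.Agent.Lib.EtClosedStalk

set_option autoImplicit false
open CategoryTheory CategoryTheory.Limits AlgebraicGeometry Opposite
universe u
open EtCore

namespace Groth.Agent.S0660

open Groth.Agent.Lib.EtGerm

/-- Let i : Z -> X be a closed immersion, U and U' schemes etale over X, and h a Z-morphism from U x_X Z
to U' x_X Z. Then there are an etale X-scheme W and X-morphisms a : W -> U, b : W -> U' such that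
the base change of a to Z is an isomorphism and h is the base change of b composed with the inverse
of the base change of a. -/
theorem result {Z X : Scheme.{u}} (i : Z ⟶ X) [IsClosedImmersion i] (U U' : X.Etale)
    (h : (EtCoh.bc i).obj U ⟶ (EtCoh.bc i).obj U') :
    ∃ (W : X.Etale) (a : W ⟶ U) (b : W ⟶ U'), IsIso ((EtCoh.bc i).map a) ∧ (EtCoh.bc i).map a ≫ h = (EtCoh.bc i).map b := by
  let P : X.Etale := U ⨯ U'
  let p1 : P ⟶ U := prod.fst
  let p2 : P ⟶ U' := prod.snd
  have hcmp : IsIso (prodComparison (EtCoh.bc i) U U') := inferInstance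
  let γ : (EtCoh.bc i).obj U ⟶ (EtCoh.bc i).obj P :=
    prod.lift (𝟙 _) h ≫ inv (prodComparison (EtCoh.bc i) U U')
  have hγ1 : γ ≫ (EtCoh.bc i).map p1 = 𝟙 _ := by
    show (prod.lift (𝟙 _) h ≫ inv (prodComparison (EtCoh.bc i) U U')) ≫
      (EtCoh.bc i).map prod.fst = _
    rw [Category.assoc, inv_prodComparison_map_fst, prod.lift_fst]
  have hγ2 : γ ≫ (EtCoh.bc i).map p2 = h := by
    show (prod.lift (𝟙 _) h ≫ inv (prodComparison (EtCoh.bc i) U U')) ≫
      (EtCoh.bc i).map prod.snd = _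
    rw [Category.assoc, inv_prodComparison_map_snd, prod.lift_snd]
  -- `γ.left` is an open immersion
  have hγl : γ.left ≫ ((EtCoh.bc i).map p1).left = 𝟙 _ :=
    congrArg (fun k => k.left) hγ1
  have hmono : Mono γ.left := mono_of_mono_fac hγl
  have hopen : IsOpenImmersion γ.left := IsOpenImmersion.of_flat_of_mono _
  -- the closed immersion `P_Z ⟶ P`
  let q : ((EtCoh.bc i).obj P).left ⟶ P.left := pullback.fst P.hom i
  have hq : IsClosedImmersion q :=
    (inferInstance : IsClosedImmersion (pullback.fst P.hom i))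
  have hqcl := Scheme.Hom.isClosedEmbedding q
  have hΓ : IsOpen (Set.range γ.left) := γ.left.isOpenEmbedding.isOpen_range
  let O : P.left.Opens := ⟨(q '' (Set.range γ.left)ᶜ)ᶜ,
    (hqcl.isClosedMap _ hΓ.isClosed_compl).isOpen_compl⟩
  have hO : ∀ y : ((EtCoh.bc i).obj P).left, q y ∈ O ↔ y ∈ Set.range γ.left := by
    intro y
    show q y ∉ q '' (Set.range γ.left)ᶜ ↔ _
    rw [hqcl.injective.mem_set_image]
    exact not_not
  let W : X.Etale := openSub P O
  let ι : W ⟶ P := openSubι P O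
  have hsq := EtCoh.isPullback_bc_map i ι
  have hι : IsOpenImmersion ι.left := (inferInstance : IsOpenImmersion O.ι)
  have hopen2 : IsOpenImmersion ((EtCoh.bc i).map ι).left :=
    MorphismProperty.of_isPullback hsq.flip hι
  have hrange : Set.range ((EtCoh.bc i).map ι).left = Set.range γ.left := by
    ext y
    constructor
    · rintro ⟨w, rfl⟩
      rw [← hO]
      have e := congrArg (fun k : ((EtCoh.bc i).obj W).left ⟶ P.left => k w) hsq.w
      refine (congrArg (· ∈ O) e).mpr ?_
      exact ((pullback.fst W.hom i) w).2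
    · intro hy
      have hyO : q y ∈ O := (hO y).2 hy
      obtain ⟨z, hz1, -⟩ := Scheme.Pullback.exists_preimage_pullback (f := q) (g := ι.left) y
        ⟨q y, hyO⟩ rfl
      refine ⟨hsq.isoPullback.inv z, ?_⟩
      rw [← hz1, ← Scheme.Hom.comp_apply, IsPullback.isoPullback_inv_fst]
  -- the isomorphism `U_Z ≅ W_Z`
  let k : ((EtCoh.bc i).obj U).left ≅ ((EtCoh.bc i).obj W).left :=
    IsOpenImmersion.isoOfRangeEq γ.left ((EtCoh.bc i).map ι).left hrange.symm
  have hk : k.hom ≫ ((EtCoh.bc i).map ι).left = γ.left :=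
    IsOpenImmersion.isoOfRangeEq_hom_fac _ _ _
  have hkw : k.hom ≫ ((EtCoh.bc i).obj W).hom = ((EtCoh.bc i).obj U).hom := by
    have e1 : ((EtCoh.bc i).map ι).left ≫ ((EtCoh.bc i).obj P).hom = ((EtCoh.bc i).obj W).hom :=
      Over.w ((EtCoh.bc i).map ι).hom
    have e2 : γ.left ≫ ((EtCoh.bc i).obj P).hom = ((EtCoh.bc i).obj U).hom := Over.w γ.hom
    rw [← e1, ← Category.assoc, hk, e2]
  let K : (EtCoh.bc i).obj U ≅ (EtCoh.bc i).obj W := MorphismProperty.Over.isoMk k hkw
  have hK : K.hom ≫ (EtCoh.bc i).map ι = γ := by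
    apply MorphismProperty.Over.Hom.ext
    exact hk
  refine ⟨W, ι ≫ p1, ι ≫ p2, ?_, ?_⟩
  · have e : K.hom ≫ (EtCoh.bc i).map (ι ≫ p1) = 𝟙 _ := by
      rw [Functor.map_comp, ← Category.assoc, hK, hγ1]
    have e' : (EtCoh.bc i).map (ι ≫ p1) = K.inv := by
      rw [← cancel_epi K.hom, e, Iso.hom_inv_id]
    rw [e']
    infer_instance
  · have e : K.hom ≫ (EtCoh.bc i).map (ι ≫ p1) = 𝟙 _ := by
      rw [Functor.map_comp, ← Category.assoc, hK, hγ1]
    have e' : (EtCoh.bc i).map (ι ≫ p1) = K.inv := by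
      rw [← cancel_epi K.hom, e, Iso.hom_inv_id]
    rw [e', ← cancel_epi K.hom, Iso.hom_inv_id_assoc, Functor.map_comp, ← Category.assoc, hK, hγ2]

end Groth.Agent.S0660
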