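import Groth.Statements.S0676
import Groth.Agent.S9436
import Mathlib.RingTheory.Etale.Pi
import Mathlib.RingTheory.Spectrum.Prime.Chevalley
import Mathlib.RingTheory.Flat.FaithfullyFlat.Algebra
-- import your own Groth.Agent.* helpers here

set_option autoImplicit false
open CategoryTheory CategoryTheory.Limits AlgebraicGeometry Opposite Topology
universe u
open ProEtW

namespace Groth.Agent.S0676

open TensorProduct

/-- A two-member family of types indexed by `Bool`. -/
def Fam (B C : Type u) : Bool → Type u
  | true => B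
  | false => C

instance famCommRing (B C : Type u) [CommRing B] [CommRing C] (i : Bool) : CommRing (Fam B C i) :=
  match i with
  | true => inferInstanceAs (CommRing B)
  | false => inferInstanceAs (CommRing C)

instance famAlgebra (A : Type u) [CommRing A] (B C : Type u) [CommRing B] [CommRing C]
    [Algebra A B] [Algebra A C] (i : Bool) : Algebra A (Fam B C i) :=
  match i with
  | true => inferInstanceAs (Algebra A B)
  | false => inferInstanceAs (Algebra A C)

instance famEtale (A : Type u) [CommRing A] (B C : Type u) [CommRing B] [CommRing C]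
    [Algebra A B] [Algebra A C] [Algebra.Etale A B] [Algebra.Etale A C] (i : Bool) :
    Algebra.Etale A (Fam B C i) :=
  match i with
  | true => inferInstanceAs (Algebra.Etale A B)
  | false => inferInstanceAs (Algebra.Etale A C)

section Core

variable {A : Type u} [CommRing A] (I : Ideal A)

/-- General two-member family version. -/
lemma core (F : Bool → Type u) [∀ i, CommRing (F i)] [∀ i, Algebra A (F i)]
    [∀ i, Algebra.Etale A (F i)] (h : ProEtW.HasEtaleRetractions A)
    (f : A) (hf : f ∈ I) (y : F false) (hy : algebraMap A (F false) f * y = 1)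
    (hsurj : ∀ p : PrimeSpectrum A,
      (∃ q : PrimeSpectrum (F true), PrimeSpectrum.comap (algebraMap A (F true)) q = p) ∨
      (∃ q : PrimeSpectrum (F false), PrimeSpectrum.comap (algebraMap A (F false)) q = p)) :
    Nonempty (F true →ₐ[A] A ⧸ I) := by
  classical
  let C := Π i : Bool, F i
  haveI : Algebra.Etale A C := inferInstance
  haveI : Module.Flat A C := inferInstance
  have hsurj' : Function.Surjective (PrimeSpectrum.comap (algebraMap A C)) := by
    intro p
    rcases hsurj p with ⟨q, rfl⟩ | ⟨q, rfl⟩
    · refine ⟨PrimeSpectrum.comap (Pi.evalRingHom F true) q, ?_⟩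
      rw [← PrimeSpectrum.comap_comp_apply]
      rfl
    · refine ⟨PrimeSpectrum.comap (Pi.evalRingHom F false) q, ?_⟩
      rw [← PrimeSpectrum.comap_comp_apply]
      rfl
  have hff : Module.FaithfullyFlat A C := Module.FaithfullyFlat.of_comap_surjective hsurj'
  obtain ⟨ρ⟩ := h C hff inferInstance
  -- `ρ` kills the second idempotent modulo `I`
  have hsingle : (Pi.single false (1 : F false) : C) = f • (Pi.single false y : C) := by
    ext i
    cases i
    · simp only [Pi.single_eq_same, Pi.smul_apply]
      rw [Algebra.smul_def, hy]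
    · simp only [Pi.smul_apply]
      rw [Pi.single_eq_of_ne (by decide), Pi.single_eq_of_ne (by decide), smul_zero]
  have hρ2 : ρ (Pi.single false (1 : F false) : C) ∈ I := by
    rw [hsingle, map_smul, smul_eq_mul]
    exact I.mul_mem_right _ hf
  have hone : (1 : C) = Pi.single true (1 : F true) + Pi.single false (1 : F false) := by
    ext i
    cases i
    · rw [Pi.add_apply, Pi.single_eq_same, Pi.single_eq_of_ne (by decide), zero_add]
      rfl
    · rw [Pi.add_apply, Pi.single_eq_same, Pi.single_eq_of_ne (by decide), add_zero]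
      rfl
  refine ⟨AlgHom.ofLinearMap
    ((Ideal.Quotient.mkₐ A I).toLinearMap ∘ₗ ρ.toLinearMap ∘ₗ
      (LinearMap.single A F true)) ?_ ?_⟩
  · -- map_one
    change (Ideal.Quotient.mkₐ A I) (ρ (Pi.single true (1 : F true) : C)) = 1
    have h1 : ρ (Pi.single true (1 : F true) : C) =
        1 - ρ (Pi.single false (1 : F false) : C) := by
      rw [eq_sub_iff_add_eq, ← map_add, ← hone, map_one]
    rw [h1, map_sub, map_one]
    have h2 : (Ideal.Quotient.mkₐ A I) (ρ (Pi.single false (1 : F false) : C)) = 0 :=
      Ideal.Quotient.eq_zero_iff_mem.mpr hρ2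
    rw [h2, sub_zero]
  · intro x y
    change (Ideal.Quotient.mkₐ A I) (ρ (Pi.single true (x * y) : C)) =
      (Ideal.Quotient.mkₐ A I) (ρ (Pi.single true x : C)) *
        (Ideal.Quotient.mkₐ A I) (ρ (Pi.single true y : C))
    rw [← map_mul, ← map_mul]
    congr 2
    exact Pi.single_mul _ _ _

variable (B : Type u) [CommRing B] [Algebra A B] [Algebra.Etale A B]

/-- Key construction: if `Spec B → Spec A` hits every prime containing `I`, and faithfully flat
étale `A`-algebras have retractions, then there is an `A`-algebra map `B → A ⧸ I`. -/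
lemma exists_algHom_quotient (h : ProEtW.HasEtaleRetractions A)
    (hcov : ∀ p : PrimeSpectrum A, I ≤ p.asIdeal →
      p ∈ Set.range (PrimeSpectrum.comap (algebraMap A B))) :
    Nonempty (B →ₐ[A] A ⧸ I) := by
  classical
  -- the image of `Spec B` is open
  have hopen : IsOpen (Set.range (PrimeSpectrum.comap (algebraMap A B))) :=
    (PrimeSpectrum.isOpenMap_comap_of_hasGoingDown_of_finitePresentation
      (R := A) (S := B)).isOpen_range
  set U := Set.range (PrimeSpectrum.comap (algebraMap A B)) with hU
  have hclosed : IsClosed Uᶜ := hopen.isClosed_compl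
  set J := PrimeSpectrum.vanishingIdeal Uᶜ with hJ
  have hZ : PrimeSpectrum.zeroLocus (J : Set A) = Uᶜ := by
    rw [hJ, PrimeSpectrum.zeroLocus_vanishingIdeal_eq_closure, hclosed.closure_eq]
  have hIJ : I ⊔ J = ⊤ := by
    by_contra hne
    obtain ⟨M, hM, hle⟩ := Ideal.exists_le_maximal _ hne
    have h1 : (⟨M, hM.isPrime⟩ : PrimeSpectrum A) ∈ U := hcov ⟨M, hM.isPrime⟩ (le_sup_left.trans hle)
    have h2 : (⟨M, hM.isPrime⟩ : PrimeSpectrum A) ∈ Uᶜ := by
      rw [← hZ]
      exact (le_sup_right.trans hle : J ≤ M)
    exact h2 h1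
  obtain ⟨f, hf, g, hg, hfg⟩ := Submodule.mem_sup.mp ((Ideal.eq_top_iff_one _).mp hIJ)
  have y : Localization.Away f := IsLocalization.Away.invSelf f
  have hy : algebraMap A (Localization.Away f) f * (IsLocalization.Away.invSelf f) = 1 :=
    IsLocalization.Away.mul_invSelf f
  refine core I (Fam B (Localization.Away f)) h f hf
    (IsLocalization.Away.invSelf (S := Localization.Away f) f) hy ?_
  intro p
  by_cases hp : p ∈ U
  · obtain ⟨q, hq⟩ := hp
    exact Or.inl ⟨q, hq⟩
  · right
    have hpJ : p ∈ PrimeSpectrum.zeroLocus (J : Set A) := by rw [hZ]; exact hp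
    have hfp : f ∉ p.asIdeal := by
      intro hfp
      have : (1 : A) ∈ p.asIdeal := by
        rw [← hfg]
        exact p.asIdeal.add_mem hfp (hpJ hg)
      exact p.isPrime.ne_top ((Ideal.eq_top_iff_one _).mpr this)
    have hdisj : Disjoint (Submonoid.powers f : Set A) (p.asIdeal : Set A) :=
      (Ideal.disjoint_powers_iff_notMem_of_isPrime _).mpr hfp
    have hprime : (p.asIdeal.map (algebraMap A (Localization.Away f))).IsPrime :=
      IsLocalization.isPrime_of_isPrime_disjoint (.powers f) _ _ p.isPrime hdisj
    have hc : (p.asIdeal.map (algebraMap A (Localization.Away f))).under A = p.asIdeal :=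
      IsLocalization.under_map_of_isPrime_disjoint (.powers f) _ p.isPrime hdisj
    exact ⟨(⟨p.asIdeal.map (algebraMap A (Localization.Away f)), hprime⟩ :
      PrimeSpectrum (Localization.Away f)), PrimeSpectrum.ext hc⟩

end Core

/-- If every faithfully flat etale A-algebra has an A-algebra retraction, then the same holds for the
quotient ring A/I for every ideal I. -/
theorem result (A : Type u) [CommRing A]
    (h : ProEtW.HasEtaleRetractions A) (I : Ideal A) :
    ProEtW.HasEtaleRetractions (A ⧸ I) := by
  intro B' _ _ hff hEt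
  obtain ⟨B, _, _, hEtB, ⟨e⟩⟩ := Groth.Agent.S9436.result A I B'
  -- the ring map `B → B'`
  let φ : B →+* B' := e.toAlgHom.toRingHom.comp
    (Algebra.TensorProduct.includeRight : B →ₐ[A] (A ⧸ I) ⊗[A] B).toRingHom
  have hφ : φ.comp (algebraMap A B) = (algebraMap (A ⧸ I) B').comp (Ideal.Quotient.mk I) := by
    ext a
    have h1 : (1 : A ⧸ I) ⊗ₜ[A] (algebraMap A B a) =
        algebraMap (A ⧸ I) ((A ⧸ I) ⊗[A] B) (Ideal.Quotient.mk I a) := by
      rw [Algebra.TensorProduct.algebraMap_apply, Algebra.algebraMap_eq_smul_one (A := B) a,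
        TensorProduct.tmul_smul, TensorProduct.smul_tmul', Algebra.smul_def, mul_one]
      rfl
    change e ((1 : A ⧸ I) ⊗ₜ[A] (algebraMap A B a)) =
      algebraMap (A ⧸ I) B' (Ideal.Quotient.mk I a)
    rw [h1, e.commutes]
  have hcov : ∀ p : PrimeSpectrum A, I ≤ p.asIdeal →
      p ∈ Set.range (PrimeSpectrum.comap (algebraMap A B)) := by
    intro p hp
    haveI := p.isPrime
    haveI : (p.asIdeal.map (Ideal.Quotient.mk I)).IsPrime :=
      Ideal.map_isPrime_of_surjective Ideal.Quotient.mk_surjective (by rwa [Ideal.mk_ker])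
    have hc : (p.asIdeal.map (Ideal.Quotient.mk I)).comap (Ideal.Quotient.mk I) = p.asIdeal := by
      rw [Ideal.comap_map_of_surjective _ Ideal.Quotient.mk_surjective, ← RingHom.ker_eq_comap_bot,
        Ideal.mk_ker, sup_eq_left.mpr hp]
    obtain ⟨q', hq'⟩ := PrimeSpectrum.comap_surjective_of_faithfullyFlat (A := A ⧸ I) (B := B')
      ⟨p.asIdeal.map (Ideal.Quotient.mk I), inferInstance⟩
    refine ⟨PrimeSpectrum.comap φ q', ?_⟩
    rw [← PrimeSpectrum.comap_comp_apply, hφ, PrimeSpectrum.comap_comp_apply, hq']
    exact PrimeSpectrum.ext hc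
  obtain ⟨ψ⟩ := exists_algHom_quotient I B h hcov
  exact ⟨(Algebra.TensorProduct.lift (AlgHom.id (A ⧸ I) (A ⧸ I)) ψ
    (fun _ _ => Commute.all _ _)).comp e.symm.toAlgHom⟩

end Groth.Agent.S0676
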