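import Groth.Statements.S0698
import Groth.Agent.Lib.H15IndZariski
import Mathlib.RingTheory.Spectrum.Prime.Topology
import Mathlib.RingTheory.Spectrum.Prime.RingHom
import Mathlib.Topology.Connected.Clopen

set_option autoImplicit false
open CategoryTheory CategoryTheory.Limits AlgebraicGeometry Opposite Topology
universe u
open ProEtW

namespace Groth.Agent.S0698

open PrimeSpectrum

section qc
variable {A : Type u} [CommRing A]

lemma one_sub_mem_of_notMem {e : A} (he : IsIdempotentElem e) (p : PrimeSpectrum A)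
    (h : e ∉ p.asIdeal) : 1 - e ∈ p.asIdeal := by
  have h0 : e * (1 - e) ∈ p.asIdeal := by
    have : e * (1 - e) = 0 := by
      have : e * e = e := he
      linear_combination -this
    rw [this]; exact zero_mem _
  exact (p.isPrime.mem_or_mem h0).resolve_left h

lemma notMem_of_one_sub_mem (e : A) (p : PrimeSpectrum A)
    (h : 1 - e ∈ p.asIdeal) : e ∉ p.asIdeal := by
  intro he
  apply p.isPrime.ne_top
  rw [Ideal.eq_top_iff_one]
  have := add_mem h he
  simpa using this

/-- the set of idempotents not in `y`. -/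
def Ey (y : PrimeSpectrum A) : Set A := {e | IsIdempotentElem e ∧ e ∉ y.asIdeal}

/-- ideal of the quasi-component of `y`. -/
def Iy (y : PrimeSpectrum A) : Ideal A := Ideal.span ((fun e => 1 - e) '' Ey y)

lemma Iy_le (y : PrimeSpectrum A) : Iy y ≤ y.asIdeal := by
  rw [Iy, Ideal.span_le]
  rintro _ ⟨e, ⟨he, hey⟩, rfl⟩
  exact one_sub_mem_of_notMem he y hey

lemma exists_of_mem_Iy (y : PrimeSpectrum A) {z : A} (hz : z ∈ Iy y) :
    ∃ e ∈ Ey y, z ∈ Ideal.span {1 - e} := by
  induction hz using Submodule.span_induction with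
  | mem z hz =>
    obtain ⟨e, he, rfl⟩ := hz
    exact ⟨e, he, Ideal.subset_span rfl⟩
  | zero => exact ⟨1, ⟨IsIdempotentElem.one, by
      intro h; exact y.isPrime.ne_top ((Ideal.eq_top_iff_one _).2 h)⟩, zero_mem _⟩
  | add z z' _ _ hz hz' =>
    obtain ⟨e, he, h⟩ := hz
    obtain ⟨e', he', h'⟩ := hz'
    refine ⟨e * e', ⟨he.1.mul he'.1, fun hm => ?_⟩, ?_⟩
    · rcases y.isPrime.mem_or_mem hm with h1 | h1
      · exact he.2 h1
      · exact he'.2 h1
    · refine add_mem (Groth.Agent.Lib.H15IndZariski.span_one_sub_le_span_one_sub_mul e e' he.1 h) ?_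
      have := Groth.Agent.Lib.H15IndZariski.span_one_sub_le_span_one_sub_mul e' e he'.1 h'
      rwa [mul_comm] at this
  | smul a z _ hz =>
    obtain ⟨e, he, h⟩ := hz
    exact ⟨e, he, Ideal.mul_mem_left _ a h⟩

lemma idem_quot_trivial (y : PrimeSpectrum A) (ebar : A ⧸ Iy y) (h : IsIdempotentElem ebar) :
    ebar = 0 ∨ ebar = 1 := by
  obtain ⟨a, rfl⟩ := Ideal.Quotient.mk_surjective ebar
  have h1 : a * a - a ∈ Iy y := by
    rw [← Ideal.Quotient.eq, map_mul]; exact h
  obtain ⟨e, he, hz⟩ := exists_of_mem_Iy y h1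
  obtain ⟨c, hc⟩ := Ideal.mem_span_singleton'.1 hz
  have hee : e * e = e := he.1
  have hf : IsIdempotentElem (e * a) := by
    change e * a * (e * a) = e * a
    linear_combination (a * a - c) * hee - e * hc
  have hmk : Ideal.Quotient.mk (Iy y) (e * a) = Ideal.Quotient.mk (Iy y) a := by
    rw [Ideal.Quotient.eq]
    have : e * a - a = -a * (1 - e) := by ring
    rw [this]
    exact Ideal.mul_mem_left _ _ (Ideal.subset_span ⟨e, he, rfl⟩)
  by_cases hy : e * a ∈ y.asIdeal
  · left
    have h2 : 1 - e * a ∉ y.asIdeal := by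
      intro h3
      apply y.isPrime.ne_top
      rw [Ideal.eq_top_iff_one]
      have := add_mem h3 hy
      simpa using this
    have h3 : (1 - e * a) ∈ Ey y := ⟨hf.one_sub, h2⟩
    rw [← hmk, Ideal.Quotient.eq_zero_iff_mem]
    have : e * a = 1 - (1 - e * a) := by ring
    rw [this]
    exact Ideal.subset_span ⟨_, h3, rfl⟩
  · right
    have h3 : e * a ∈ Ey y := ⟨hf, hy⟩
    rw [← hmk, ← sub_eq_zero, ← map_one (Ideal.Quotient.mk (Iy y)), ← map_sub,
      Ideal.Quotient.eq_zero_iff_mem]
    have : e * a - 1 = -(1 - e * a) := by ring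
    rw [this]
    exact neg_mem (Ideal.subset_span ⟨_, h3, rfl⟩)

lemma preconnected_quot (y : PrimeSpectrum A) : PreconnectedSpace (PrimeSpectrum (A ⧸ Iy y)) := by
  rw [preconnectedSpace_iff_clopen]
  intro s hs
  obtain ⟨e, he, rfl⟩ := PrimeSpectrum.isClopen_iff.1 hs
  rcases idem_quot_trivial y e he with rfl | rfl
  · left; simp
  · right; simp

lemma zeroLocus_Iy_subset (y : PrimeSpectrum A) :
    zeroLocus (Iy y : Set A) ⊆ connectedComponent y := by
  have := preconnected_quot y
  have hr : Set.range (PrimeSpectrum.comap (Ideal.Quotient.mk (Iy y))) = zeroLocus (Iy y : Set A) := by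
    rw [_root_.range_comap_of_surjective _ _ Ideal.Quotient.mk_surjective, Ideal.mk_ker]
  rw [← hr]
  refine IsPreconnected.subset_connectedComponent
    (isPreconnected_range (PrimeSpectrum.continuous_comap (Ideal.Quotient.mk (Iy y)))) ?_
  rw [hr]
  exact Iy_le y

/-- separation of points in different connected components by idempotents. -/
lemma exists_idem_sep (x y : PrimeSpectrum A)
    (h : (ConnectedComponents.mk x : ConnectedComponents (PrimeSpectrum A)) ≠ ConnectedComponents.mk y) :
    ∃ e : A, IsIdempotentElem e ∧ e ∉ y.asIdeal ∧ e ∈ x.asIdeal := by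
  have hx : x ∉ zeroLocus (Iy y : Set A) := by
    intro hx
    apply h
    rw [ConnectedComponents.coe_eq_coe']
    exact zeroLocus_Iy_subset y hx
  rw [mem_zeroLocus, SetLike.coe_subset_coe, Iy, Ideal.span_le] at hx
  obtain ⟨_, ⟨e, he, rfl⟩, hne⟩ := Set.not_subset.1 hx
  refine ⟨e, he.1, he.2, ?_⟩
  by_contra hex
  exact hne (one_sub_mem_of_notMem he.1 x hex)

lemma exists_idem_of_closed (T : Set (ConnectedComponents (PrimeSpectrum A))) (hT : IsClosed T)
    (x : PrimeSpectrum A) (hx : (ConnectedComponents.mk x : ConnectedComponents _) ∉ T) :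
    ∃ e : A, IsIdempotentElem e ∧
      ((ConnectedComponents.mk : PrimeSpectrum A → _) ⁻¹' T ⊆ (basicOpen e : Set (PrimeSpectrum A))) ∧
      e ∈ x.asIdeal := by
  set Z : Set (PrimeSpectrum A) := ConnectedComponents.mk ⁻¹' T with hZdef
  have hZc : IsClosed Z := hT.preimage ConnectedComponents.continuous_coe
  have hZ : IsCompact Z := hZc.isCompact
  have key : ∀ y ∈ Z, ∃ e : A, IsIdempotentElem e ∧ e ∉ y.asIdeal ∧ e ∈ x.asIdeal :=
    fun y hy => exists_idem_sep x y (by
      intro h
      apply hx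
      rw [h]
      exact hy)
  choose! e he using key
  obtain ⟨t, htZ, htfin, hcover⟩ := hZ.elim_finite_subcover_image (b := Z)
    (c := fun y => (basicOpen (e y) : Set (PrimeSpectrum A)))
    (fun y _ => (basicOpen (e y)).isOpen) (fun y hy => Set.mem_biUnion hy (he y hy).2.1)
  have hU : IsClopen (⋃ y ∈ t, (basicOpen (e y) : Set (PrimeSpectrum A))) :=
    htfin.isClopen_biUnion (fun y hy => PrimeSpectrum.isClopen_iff.2 ⟨e y, (he y (htZ hy)).1, rfl⟩)
  obtain ⟨f, hf, hUf⟩ := PrimeSpectrum.isClopen_iff.1 hU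
  refine ⟨f, hf, hUf ▸ hcover, ?_⟩
  by_contra hfx
  have hxU : x ∈ (basicOpen f : Set (PrimeSpectrum A)) := hfx
  rw [← hUf] at hxU
  simp only [Set.mem_iUnion] at hxU
  obtain ⟨y, hy, hxy⟩ := hxU
  exact hxy (he y (htZ hy)).2.2

end qc

/-- Let A be a ring, X = Spec A and T a closed subset of pi_0(X). Then A has an ind-Zariski quotient
ring B (the map A -> B is surjective) whose spectrum maps homeomorphically onto the preimage of T in
X. -/
theorem result (A : Type u) [CommRing A]
    (T : Set (_root_.ConnectedComponents (PrimeSpectrum A))) (hT : IsClosed T) :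
    ∃ (B : Type u) (_ : CommRing B) (_ : Algebra A B),
      EtPBC.IsIndZariski A B ∧ Function.Surjective (algebraMap A B) ∧
      Topology.IsEmbedding (PrimeSpectrum.comap (algebraMap A B)) ∧
      Set.range (PrimeSpectrum.comap (algebraMap A B)) = _root_.ConnectedComponents.mk ⁻¹' T := by
  classical
  let Z : Set (PrimeSpectrum A) := ConnectedComponents.mk ⁻¹' T
  let E : Set A := {e | IsIdempotentElem e ∧ Z ⊆ (basicOpen e : Set (PrimeSpectrum A))}
  let I : Ideal A := Ideal.span ((fun e => 1 - e) '' E)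
  have hsurj : Function.Surjective (algebraMap A (A ⧸ I)) := Ideal.Quotient.mk_surjective
  refine ⟨A ⧸ I, inferInstance, inferInstance, ?_, hsurj, ?_, ?_⟩
  · refine Groth.Agent.Lib.H15IndZariski.isIndZariski_quotient_idempotents E (fun e he => he.1) ?_ ?_
    · exact ⟨IsIdempotentElem.one, by simp⟩
    · intro e he e' he'
      refine ⟨he.1.mul he'.1, ?_⟩
      rw [basicOpen_mul]
      exact Set.subset_inter he.2 he'.2
  · exact (PrimeSpectrum.isClosedEmbedding_comap_of_surjective _ _ hsurj).isEmbedding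
  · rw [_root_.range_comap_of_surjective _ _ hsurj]
    have hker : RingHom.ker (algebraMap A (A ⧸ I)) = I := Ideal.mk_ker
    rw [hker]
    ext x
    constructor
    · intro hx
      by_contra hxZ
      obtain ⟨e, he, hZe, hex⟩ := exists_idem_of_closed T hT x hxZ
      have h1 : 1 - e ∈ x.asIdeal := hx (Ideal.subset_span ⟨e, ⟨he, hZe⟩, rfl⟩)
      exact notMem_of_one_sub_mem e x h1 hex
    · intro hx
      rw [mem_zeroLocus, SetLike.coe_subset_coe, Ideal.span_le]
      rintro _ ⟨e, he, rfl⟩
      exact one_sub_mem_of_notMem he.1 x (he.2 hx)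

end Groth.Agent.S0698
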