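import Groth.Statements.S0702
import Groth.Agent.S0701

set_option autoImplicit false
open CategoryTheory CategoryTheory.Limits AlgebraicGeometry Opposite Topology
universe u
open ProEtW

namespace Groth.Agent.S0702

/-- Let Spec A be profinite and A -> B induce algebraic extensions of residue fields at all primes. Then
Spec B is profinite. -/
theorem result (A B : Type u) [CommRing A] [CommRing B]
    [Algebra A B] [T2Space (PrimeSpectrum A)] [TotallyDisconnectedSpace (PrimeSpectrum A)]
    (h : ProEtW.AlgebraicResidueExtensions A B) :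
    ProEtW.IsProfinite (PrimeSpectrum B) := by
  apply Groth.Agent.S0701.result A B
  intro q q' hcomap hle
  by_contra hne
  have hnle : ¬ q'.asIdeal ≤ q.asIdeal :=
    fun h' => hne (PrimeSpectrum.ext (le_antisymm hle h'))
  obtain ⟨x, hxq', hxq⟩ := SetLike.not_le_iff_exists.mp hnle
  have := h q.asIdeal
  have hx0 : Ideal.Quotient.mk q.asIdeal x ≠ 0 := by
    rwa [Ne, Ideal.Quotient.eq_zero_iff_mem]
  have hxP : Ideal.Quotient.mk q.asIdeal x ∈ q'.asIdeal.map (Ideal.Quotient.mk q.asIdeal) :=
    Ideal.mem_map_of_mem _ hxq'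
  have halg : IsAlgebraic (A ⧸ q.asIdeal.comap (algebraMap A B))
      (Ideal.Quotient.mk q.asIdeal x) := Algebra.IsAlgebraic.isAlgebraic _
  have hne' := Ideal.comap_ne_bot_of_algebraic_mem hx0 hxP halg
  apply hne'
  rw [eq_bot_iff]
  intro y hy
  obtain ⟨a, rfl⟩ := Ideal.Quotient.mk_surjective y
  have hy' : Ideal.Quotient.mk q.asIdeal (algebraMap A B a) ∈
      q'.asIdeal.map (Ideal.Quotient.mk q.asIdeal) := hy
  rw [Ideal.mem_quotient_iff_mem hle] at hy'
  have ha : a ∈ q.asIdeal.comap (algebraMap A B) := by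
    rw [hcomap]; exact hy'
  rw [Ideal.mem_bot, Ideal.Quotient.eq_zero_iff_mem]
  exact ha

end Groth.Agent.S0702
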