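import Groth.Statements.S0706
-- import your own Groth.Agent.* helpers here

set_option autoImplicit false
open CategoryTheory CategoryTheory.Limits AlgebraicGeometry Opposite Topology
universe u
open ProEtW

namespace Groth.Agent.S0706

/-- Let f be an element and I an ideal of A, and Z the intersection of D(f) and V(I) in Spec A. There is
a multiplicative subset S of A for which the image of Spec(S^{-1}A) in Spec A consists precisely of
the points having a specialization in Z. -/
theorem result (A : Type u) [CommRing A] (f : A) (I : Ideal A) :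
    ∃ S : Submonoid A,
      Set.range (PrimeSpectrum.comap (algebraMap A (Localization S))) =
        {x | ∃ z : PrimeSpectrum A,
          z ∈ (PrimeSpectrum.basicOpen f : Set (PrimeSpectrum A)) ∩ PrimeSpectrum.zeroLocus I ∧ x ⤳ z} := by
  classical
  let S : Submonoid A :=
    { carrier := {s | ∃ n : ℕ, ∃ i ∈ I, s = f ^ n + i}
      one_mem' := ⟨0, 0, I.zero_mem, by simp⟩
      mul_mem' := by
        rintro a b ⟨n, i, hi, rfl⟩ ⟨m, j, hj, rfl⟩
        refine ⟨n + m, f ^ n * j + i * f ^ m + i * j, ?_, by ring⟩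
        exact I.add_mem (I.add_mem (I.mul_mem_left _ hj) (I.mul_mem_right _ hi))
          (I.mul_mem_left _ hj) }
  refine ⟨S, ?_⟩
  rw [PrimeSpectrum.localization_comap_range (Localization S) S]
  ext x
  simp only [Set.mem_ofPred_eq, Set.mem_inter_iff, SetLike.mem_coe, PrimeSpectrum.mem_basicOpen,
    PrimeSpectrum.mem_zeroLocus]
  constructor
  · intro hdisj
    have hJ : Disjoint ((x.asIdeal ⊔ I : Ideal A) : Set A) (Submonoid.powers f) := by
      rw [Set.disjoint_left]
      rintro a ha ⟨n, rfl⟩
      obtain ⟨b, hb, c, hc, hbc⟩ := Submodule.mem_sup.mp ha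
      have hbS : b ∈ (S : Set A) := ⟨n, -c, I.neg_mem hc, by
        have hbc' : b + c = f ^ n := hbc
        rw [← hbc']; ring⟩
      exact Set.disjoint_left.mp hdisj hbS hb
    obtain ⟨q, hq, hle, hqd⟩ := Ideal.exists_le_prime_disjoint _ _ hJ
    refine ⟨⟨q, hq⟩, ⟨?_, ?_⟩, ?_⟩
    · intro hfq
      exact Set.disjoint_left.mp hqd hfq (Submonoid.mem_powers f)
    · exact fun a ha => hle (Ideal.mem_sup_right ha)
    · rw [← PrimeSpectrum.le_iff_specializes]
      exact fun a ha => hle (Ideal.mem_sup_left ha)
  · rintro ⟨z, ⟨hfz, hIz⟩, hxz⟩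
    rw [← PrimeSpectrum.le_iff_specializes] at hxz
    rw [Set.disjoint_left]
    rintro s ⟨n, i, hi, rfl⟩ hsx
    have h1 : f ^ n + i ∈ z.asIdeal := hxz hsx
    have h2 : i ∈ z.asIdeal := hIz hi
    have h3 : f ^ n ∈ z.asIdeal := by
      have := z.asIdeal.sub_mem h1 h2
      simpa using this
    exact hfz (z.2.mem_of_pow_mem n h3)

end Groth.Agent.S0706
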