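import Groth.Statements.S0708
import Groth.Agent.S9436
import Groth.Agent.Lib.EtaleRetract6
import Mathlib.RingTheory.MvPolynomial.Localization
-- import your own Groth.Agent.* helpers here

set_option autoImplicit false
open CategoryTheory CategoryTheory.Limits AlgebraicGeometry Opposite Topology
universe u
open ProEtW

namespace Groth.Agent.S0708

open MvPolynomial Algebra TensorProduct Groth.Agent.S9436 Groth.Agent.Lib.EtaleRetract6

section Helpers

variable {R S : Type u} [CommRing R] [CommRing S] [Algebra R S] {ι σ : Type} [Finite σ]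

/-- Multiply the relations of a submersive presentation by units of the base ring. -/
noncomputable def scaleRel (P : SubmersivePresentation R S ι σ) (u : σ → R) (hu : ∀ j, IsUnit (u j)) :
    SubmersivePresentation R S ι σ where
  toGenerators := P.toGenerators
  relation j := C (u j) * P.relation j
  span_range_relation_eq_ker := by
    rw [← P.span_range_relation_eq_ker]
    apply le_antisymm
    · rw [Ideal.span_le]
      rintro _ ⟨j, rfl⟩
      exact Ideal.mul_mem_left _ _ (Ideal.subset_span ⟨j, rfl⟩)
    · rw [Ideal.span_le]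
      rintro _ ⟨j, rfl⟩
      obtain ⟨v, hv⟩ := hu j
      have : P.relation j = C (↑v⁻¹ : R) * (C (u j) * P.relation j) := by
        rw [← mul_assoc, ← C_mul, ← hv, Units.inv_mul, C_1, one_mul]
      rw [this]
      exact Ideal.mul_mem_left _ _ (Ideal.subset_span ⟨j, rfl⟩)
  map := P.map
  map_inj := P.map_inj
  jacobian_isUnit := by
    classical
    cases nonempty_fintype σ
    have h1 := P.jacobian_isUnit
    rw [PreSubmersivePresentation.jacobian_eq_jacobiMatrix_det] at h1 ⊢
    set P' : PreSubmersivePresentation R S ι σ :=
      { toGenerators := P.toGenerators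
        relation := fun j => C (u j) * P.relation j
        span_range_relation_eq_ker := _
        map := P.map
        map_inj := P.map_inj } with hP'
    have hmat : P'.jacobiMatrix =
        P.toPreSubmersivePresentation.jacobiMatrix * Matrix.diagonal (fun j => C (u j)) := by
      refine Matrix.ext (fun i j => ?_)
      rw [PreSubmersivePresentation.jacobiMatrix_apply, Matrix.mul_diagonal,
        PreSubmersivePresentation.jacobiMatrix_apply]
      change pderiv (P.map i) (C (u j) * P.relation j) = _
      rw [Derivation.leibniz, pderiv_C, smul_zero, add_zero, smul_eq_mul, mul_comm]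
    rw [hmat, Matrix.det_mul, Matrix.det_diagonal, map_mul, map_prod]
    refine h1.mul ?_
    refine IsUnit.prod_univ_iff.mpr (fun j => ?_)
    have : algebraMap P.Ring S (C (u j)) = algebraMap R S (u j) := by
      rw [Generators.algebraMap_apply, aeval_C]
    rw [this]
    exact (hu j).map _


attribute [local instance] MvPolynomial.algebraMvPolynomial in
/-- Étale algebras over a localization `B = M⁻¹A` descend to étale `A`-algebras. -/
theorem exists_etale_descent_localization (A : Type u) [CommRing A] (M : Submonoid A)
    (B : Type u) [CommRing B] [Algebra A B] [IsLocalization M B]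
    (C' : Type u) [CommRing C'] [Algebra B C'] [Algebra.Etale B C'] :
    ∃ (D : Type u) (_ : CommRing D) (_ : Algebra A D), Algebra.Etale A D ∧
      Nonempty ((B ⊗[A] D) ≃ₐ[B] C') := by
  classical
  letI : Algebra A C' := ((algebraMap B C').comp (algebraMap A B)).toAlgebra
  haveI : IsScalarTower A B C' := IsScalarTower.of_algebraMap_eq (fun _ => rfl)
  obtain ⟨ι, σ, _, _, Pb, h0⟩ :=
    (Etale.iff_isStandardSmoothOfRelativeDimension_zero.mp
      (inferInstance : Algebra.Etale B C')).out
  have hloc : ∀ j, ∃ (s : M) (q : MvPolynomial ι A),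
      MvPolynomial.map (algebraMap A B) q = C (algebraMap A B s) * Pb.relation j := by
    intro j
    obtain ⟨⟨q, t⟩, h⟩ := IsLocalization.surj (M.map (C : A →+* MvPolynomial ι A))
      (S := MvPolynomial ι B) (Pb.relation j)
    obtain ⟨s, hs, hst⟩ := t.2
    refine ⟨⟨s, hs⟩, q, ?_⟩
    rw [MvPolynomial.algebraMap_def] at h
    simp only at h
    rw [← h, ← hst, MvPolynomial.map_C, mul_comm]
  choose s rel hrel using hloc
  let Pb' := scaleRel Pb (fun j => algebraMap A B (s j)) (fun j => IsLocalization.map_units B (s j))
  have h0' : Pb'.dimension = 0 := h0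
  exact ⟨SS Pb' rel, inferInstance, inferInstance, etale_SS Pb' rel h0', nonempty_equiv Pb' rel hrel⟩


end Helpers


/-- Let A be a ring all of whose faithfully flat etale algebras have retractions, I an ideal with zero
set Z, and B a localization of A at a multiplicative subset such that the image of Spec B → Spec A
is precisely the set of points of Spec A specializing to some point of Z. Then every faithfully flat
etale B-algebra has a retraction. -/
theorem result (A B : Type u) [CommRing A] [CommRing B]
    [Algebra A B] (S : Submonoid A) [IsLocalization S B] (I : Ideal A)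
    (hB : Set.range (PrimeSpectrum.comap (algebraMap A B)) =
      {x | ∃ z : PrimeSpectrum A, z ∈ PrimeSpectrum.zeroLocus (R := A) I ∧ x ⤳ z})
    (hA : ProEtW.HasEtaleRetractions A) : ProEtW.HasEtaleRetractions B := by
  intro C _ _ hff hEt
  obtain ⟨D, _, _, hEtD, ⟨e⟩⟩ := exists_etale_descent_localization A S B C
  -- the ring map `D → C`
  let φ : D →+* C := e.toAlgHom.toRingHom.comp
    (Algebra.TensorProduct.includeRight : D →ₐ[A] B ⊗[A] D).toRingHom
  have hφ : φ.comp (algebraMap A D) = (algebraMap B C).comp (algebraMap A B) := by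
    ext a
    have h1 : (1 : B) ⊗ₜ[A] (algebraMap A D a) =
        algebraMap B (B ⊗[A] D) (algebraMap A B a) := by
      rw [Algebra.TensorProduct.algebraMap_apply, Algebra.algebraMap_eq_smul_one (A := D) a,
        TensorProduct.tmul_smul, TensorProduct.smul_tmul', Algebra.smul_def, mul_one]
      rfl
    change e ((1 : B) ⊗ₜ[A] (algebraMap A D a)) = algebraMap B C (algebraMap A B a)
    rw [h1, e.commutes]
  have hcov : ∀ p : PrimeSpectrum A, I ≤ p.asIdeal →
      p ∈ Set.range (PrimeSpectrum.comap (algebraMap A D)) := by
    intro p hp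
    have hpB : p ∈ Set.range (PrimeSpectrum.comap (algebraMap A B)) := by
      rw [hB]
      exact ⟨p, hp, specializes_rfl⟩
    obtain ⟨qB, hqB⟩ := hpB
    obtain ⟨qC, hqC⟩ := PrimeSpectrum.comap_surjective_of_faithfullyFlat (A := B) (B := C) qB
    refine ⟨PrimeSpectrum.comap φ qC, ?_⟩
    rw [← PrimeSpectrum.comap_comp_apply, hφ, PrimeSpectrum.comap_comp_apply, hqC, hqB]
  have hT : ∀ ε ∈ I, IsIdempotentElem ε → algebraMap A B ε = 0 := by
    intro ε hε hidem
    have hnil : IsNilpotent (algebraMap A B ε) := by
      rw [nilpotent_iff_mem_prime]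
      intro q hq
      have hx : PrimeSpectrum.comap (algebraMap A B) ⟨q, hq⟩ ∈
          {x | ∃ z : PrimeSpectrum A, z ∈ PrimeSpectrum.zeroLocus (R := A) I ∧ x ⤳ z} := by
        rw [← hB]
        exact ⟨_, rfl⟩
      obtain ⟨z, hz, hxz⟩ := hx
      have hle : (PrimeSpectrum.comap (algebraMap A B) ⟨q, hq⟩).asIdeal ≤ z.asIdeal :=
        (PrimeSpectrum.le_iff_specializes _ _).mpr hxz
      by_contra hnot
      have h1 : (1 - ε) * ε = 0 := by rw [sub_mul, one_mul, hidem.eq, sub_self]
      have h2 : (1 - ε) ∈ (PrimeSpectrum.comap (algebraMap A B) ⟨q, hq⟩).asIdeal := by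
        have h3 : (1 - ε) * ε ∈ (PrimeSpectrum.comap (algebraMap A B) ⟨q, hq⟩).asIdeal := by
          rw [h1]
          exact Ideal.zero_mem _
        exact ((PrimeSpectrum.comap (algebraMap A B) ⟨q, hq⟩).isPrime.mem_or_mem h3).resolve_right
          hnot
      have h4 : (1 : A) ∈ z.asIdeal := by
        have := z.asIdeal.add_mem (hle h2) (hz hε)
        rwa [sub_add_cancel] at this
      exact z.isPrime.ne_top ((Ideal.eq_top_iff_one _).mpr h4)
    exact (hidem.map (algebraMap A B)).eq_zero_of_isNilpotent hnil
  obtain ⟨ψ⟩ := exists_algHom I D hA hcov B hT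
  exact ⟨(Algebra.TensorProduct.lift (AlgHom.id B B) ψ
    (fun _ _ => Commute.all _ _)).comp e.symm.toAlgHom⟩

end Groth.Agent.S0708
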