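import Groth.Statements.S0724
import Groth.Agent.Lib.ProEtQcqs95
import Groth.Agent.Lib.CoprodFinFilt95

set_option autoImplicit false
open CategoryTheory CategoryTheory.Limits AlgebraicGeometry Opposite
universe u
open ProEtS

namespace Groth.Agent.S0724

/-- Applied to abelian sheaves (complexes in degree 0) and read on cohomology groups: for X
quasi-compact and quasi-separated and every n, the functor F |-> H^n(X_proet, F) commutes with
direct sums indexed by any small type. -/
theorem result (X : Scheme.{u}) [CompactSpace ↥X]
    [QuasiSeparatedSpace ↥X] (n : ℕ) (ι : Type u) :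
    PreservesColimitsOfShape (Discrete ι) (ProEtS.HPF X n) := by
  have h1 : PreservesColimitsOfShape (Finset (Discrete ι)) (ProEtS.HPF X n) :=
    Groth.Agent.Lib.ProEtQcqs95.preservesColimitsOfShape_HPF' X n _
  have h2 : (ProEtS.HPF X n).Additive := by
    unfold ProEtS.HPF
    infer_instance
  have h3 : PreservesFiniteCoproducts (ProEtS.HPF X n) := inferInstance
  exact Groth.Agent.Lib.CoprodFinFilt95.preservesColimitsOfShape_discrete _

end Groth.Agent.S0724
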