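import Groth.Statements.S0728
import Groth.Agent.Lib.EtSuppGlue

set_option autoImplicit false
open CategoryTheory CategoryTheory.Limits AlgebraicGeometry Opposite
universe u
open EtShriek

namespace Groth.Agent.S0728

open Groth.Agent.Lib.EtGerm Groth.Agent.Lib.EtStalkConservative Groth.Agent.Lib.EtStalkPullGerm
  Groth.Agent.Lib.EtSuppGlue

/-- two morphisms into `U'` agreeing after `φ`, and at the point of a geometric neighbourhood at
which `φ` induces an isomorphism of residue fields, agree on that neighbourhood -/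
lemma nbhd_map_eq {X : Scheme.{u}} {Ω : Type u} [Field Ω] [IsSepClosed Ω]
    (ξ : Spec (CommRingCat.of Ω) ⟶ X) {W U' U : X.Etale} (g h : W ⟶ U') (φ : U' ⟶ U)
    (hgh : g ≫ φ = h ≫ φ) (n : Nbhd ξ W)
    (hpt : g.left (Nbhd.pt ξ n) = h.left (Nbhd.pt ξ n))
    (hres : Function.Bijective (φ.left.residueFieldMap (g.left (Nbhd.pt ξ n)))) :
    Nbhd.map ξ g n = Nbhd.map ξ h n := by
  apply Over.OverMorphism.ext
  show (CommaMorphism.left n : Spec (CommRingCat.of Ω) ⟶ W.left) ≫ g.left =
    (CommaMorphism.left n : Spec (CommRingCat.of Ω) ⟶ W.left) ≫ h.left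
  refine eq_of_comp_eq_of_bijective_residueFieldMap φ.left _ _ ?_ default hpt hres
  rw [Category.assoc, Category.assoc]
  congr 1
  exact congrArg (fun k => k.left) hgh

/-- In the case where the inverse image of Z is Z' (so that the bijection is restriction): let phi : U'
-> U be a morphism of the small etale site of X and Z a closed subset of U such that phi restricted
to the inverse image Z' of Z is a bijection onto Z inducing isomorphisms of residue fields (so Z' ->
U is a closed immersion with image Z, for the reduced structures). Then restriction along phi is a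
bijection from the sections of F over U supported in Z to the sections of F over U' supported in Z'. -/
theorem result {X : Scheme.{u}} (F : EtCoh.Ab X) {U U' : X.Etale}
    (φ : U' ⟶ U) (Z : Set ↥U.left) (hZ : IsClosed Z)
    (hbij : Set.BijOn φ.left.base (φ.left.base ⁻¹' Z) Z)
    (hres : ∀ x ∈ φ.left.base ⁻¹' Z, Function.Bijective (φ.left.residueFieldMap x)) :
    Set.BijOn (F.obj.map φ.op) {s | EtShriek.sectSupp F U s ⊆ Z}
      {s' | EtShriek.sectSupp F U' s' ⊆ φ.left.base ⁻¹' Z} := by
  refine ⟨?_, ?_, ?_⟩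
  · -- MapsTo
    intro s hs
    exact (sectSupp_res_subset F φ s).trans (Set.preimage_mono hs)
  · -- InjOn
    intro s₁ hs₁ s₂ hs₂ h12
    have hd : F.obj.map φ.op (s₁ - s₂) = 0 := by
      rw [map_sub, sub_eq_zero]
      exact h12
    have : s₁ - s₂ = 0 := by
      apply section_eq_zero_of_forall_germ
      intro x
      obtain ⟨y, hy⟩ := exists_stdPt_nbhd U x
      refine ⟨_, inferInstance, inferInstance, _, y, hy, ?_⟩
      by_cases hx : x ∈ Z
      · obtain ⟨x', -, hx'⟩ := hbij.surjOn hx
        obtain ⟨z, hz, -⟩ := exists_nbhd_lift _ φ y x' (hx'.trans hy.symm)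
        rw [← hz, ← germ_res, hd, map_zero]
      · rw [map_sub, germ_eq_zero_of_notMem_sectSupp F _ s₁ y (by rw [hy]; exact fun h => hx (hs₁ h)),
          germ_eq_zero_of_notMem_sectSupp F _ s₂ y (by rw [hy]; exact fun h => hx (hs₂ h)), sub_zero]
    exact sub_eq_zero.1 this
  · -- SurjOn
    intro s' hs'
    let Zc : U.left.Opens := ⟨Zᶜ, hZ.isOpen_compl⟩
    have hcov : ∀ p : U.left, p ∈ Set.range φ.left ∨ p ∈ Set.range (openSubι U Zc).left := by
      intro p
      by_cases hp : p ∈ Z
      · obtain ⟨x', -, hx'⟩ := hbij.surjOn hp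
        exact Or.inl ⟨x', hx'⟩
      · exact Or.inr ⟨⟨p, hp⟩, rfl⟩
    have hAA : ∀ (W : X.Etale) (g h : W ⟶ U'), g ≫ φ = h ≫ φ →
        F.obj.map g.op s' = F.obj.map h.op s' := by
      intro W g h hgh
      have : F.obj.map g.op s' - F.obj.map h.op s' = 0 := by
        apply section_eq_zero_of_forall_germ
        intro w
        obtain ⟨n, hn⟩ := exists_stdPt_nbhd W w
        refine ⟨_, inferInstance, inferInstance, _, n, hn, ?_⟩
        rw [map_sub, germ_res, germ_res]
        have hφ : φ.left (g.left w) = φ.left (h.left w) :=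
          congrArg (fun k : W ⟶ U => k.left w) hgh
        by_cases hw : φ.left (g.left w) ∈ Z
        · have hw2 : φ.left (h.left w) ∈ Z := hφ ▸ hw
          have hpt : g.left w = h.left w := hbij.injOn hw hw2 hφ
          rw [nbhd_map_eq _ g h φ hgh n (by rw [hn]; exact hpt) (by rw [hn]; exact hres _ hw),
            sub_self]
        · have hw2 : φ.left (h.left w) ∉ Z := hφ ▸ hw
          rw [germ_eq_zero_of_notMem_sectSupp F _ s' _
              (by rw [Nbhd.pt_map, hn]; exact fun h' => hw (hs' h')),
            germ_eq_zero_of_notMem_sectSupp F _ s' _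
              (by rw [Nbhd.pt_map, hn]; exact fun h' => hw2 (hs' h')), sub_zero]
      exact sub_eq_zero.1 this
    have hAB : ∀ (W : X.Etale) (g : W ⟶ U') (h : W ⟶ openSub U Zc), g ≫ φ = h ≫ openSubι U Zc →
        F.obj.map g.op s' = F.obj.map h.op (0 : EtCoh.sect F (openSub U Zc)) := by
      intro W g h hgh
      rw [map_zero]
      apply res_eq_zero_of_forall_notMem_sectSupp
      intro w hw
      have h1 : φ.left (g.left w) ∈ Z := hs' hw
      have h2 : φ.left (g.left w) = (openSubι U Zc).left (h.left w) :=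
        congrArg (fun k : W ⟶ U => k.left w) hgh
      rw [h2] at h1
      exact (h.left w).2 h1
    have hBB : ∀ (W : X.Etale) (g h : W ⟶ openSub U Zc), g ≫ openSubι U Zc = h ≫ openSubι U Zc →
        F.obj.map g.op (0 : EtCoh.sect F (openSub U Zc)) = F.obj.map h.op 0 := by
      intro W g h _
      rw [map_zero, map_zero]
    obtain ⟨r, hr1, hr2⟩ := exists_section_of_cover_two F φ (openSubι U Zc) hcov s' 0 hAA hAB hBB
    refine ⟨r, ?_, hr1⟩
    intro x hx
    by_contra hxZ
    exact (notMem_sectSupp_iff F r x).2 ⟨openSub U Zc, openSubι U Zc, ⟨⟨x, hxZ⟩, rfl⟩, hr2⟩ hx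

end Groth.Agent.S0728
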