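import Groth.Statements.S0729

set_option autoImplicit false
open CategoryTheory CategoryTheory.Limits AlgebraicGeometry Opposite
universe u
open ProEtS

namespace Groth.Agent.S0729

noncomputable instance epsPFL (X : Scheme.{u}) : PreservesFiniteLimits (eps X) := by
  have h1 : PreservesFiniteLimits (eps X ⋙ Scheme.ProEt.forget X) :=
    inferInstanceAs <| PreservesFiniteLimits (MorphismProperty.Over.forget @Etale ⊤ X)
  constructor
  intro J _ _
  exact preservesLimitsOfShape_of_reflects_of_preserves (eps X) (Scheme.ProEt.forget X)

/-- Every étale covering of a scheme X is a pro-étale covering, in the form used to define the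
comparison morphism of sites ε : X_proét → X_ét: the inclusion functor from the small étale site of
X to the small pro-étale site of X is continuous. -/
theorem result (X : Scheme.{u}) : ProEtS.EpsCont X := by
  have : RepresentablyFlat (eps X) := flat_of_preservesFiniteLimits _
  rw [EpsCont, Functor.isContinuous_iff_coverPreserving]
  constructor
  intro W R hR
  have hR' := (Scheme.mem_smallGrothendieckTopology (P := @Etale) W R).1 hR
  obtain ⟨𝒰, h𝒰, hP, hle⟩ := hR'
  refine GrothendieckTopology.superset_covering _ ?_
    (Precoverage.generate_mem_toGrothendieck (R := Presieve.ofArrows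
      (fun i => (eps X).obj ((𝒰.X i).asOverProp X (hP i)))
      (fun i => (eps X).map ((𝒰.f i).asOverProp X))) ?_)
  · refine (Sieve.generate_le_iff _ _).2 ?_
    rintro - - ⟨i⟩
    exact ⟨_, (𝒰.f i).asOverProp X, 𝟙 _, hle _ _ ⟨i⟩, (Category.id_comp _).symm⟩
  · rw [Scheme.ProEt.precoverage, Precoverage.mem_comap_iff, Presieve.map_ofArrows]
    apply Scheme.etalePrecoverage_le_proetalePrecoverage
    exact 𝒰.mem₀

end Groth.Agent.S0729
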