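import Groth.Statements.S0730

set_option autoImplicit false
open CategoryTheory CategoryTheory.Limits AlgebraicGeometry Opposite
universe u
open ProEtS

namespace Groth.Agent.S0730

noncomputable instance bcPPFL {X Y : Scheme.{u}} (f : X ⟶ Y) : PreservesFiniteLimits (bcP f) := by
  have h1 : PreservesFiniteLimits (bcP f ⋙ Scheme.ProEt.forget X) :=
    inferInstanceAs <| PreservesFiniteLimits (Scheme.ProEt.forget Y ⋙ CategoryTheory.Over.pullback f)
  constructor
  intro J _ _
  exact preservesLimitsOfShape_of_reflects_of_preserves (bcP f) (Scheme.ProEt.forget X)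


/-- Base changes of pro-étale coverings are pro-étale coverings, in the form used to define the morphism
of sites f_proét : X_proét → Y_proét for a morphism of schemes f : X → Y: the base change functor
from the small pro-étale site of Y to that of X is continuous. -/
theorem result {X Y : Scheme.{u}} (f : X ⟶ Y) : ProEtS.PCont f := by
  have : (Scheme.ProEt.precoverage Y).IsStableUnderBaseChange := by
    unfold Scheme.ProEt.precoverage
    infer_instance
  have : (Scheme.ProEt.precoverage X).IsStableUnderBaseChange := by
    unfold Scheme.ProEt.precoverage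
    infer_instance
  apply Functor.isContinuous_toGrothendieck_of_pullbacksPreservedBy
  intro W R hR
  obtain ⟨ι, Z, g, rfl⟩ := R.exists_eq_ofArrows
  rw [Scheme.ProEt.precoverage, Precoverage.mem_comap_iff, Presieve.map_ofArrows] at hR
  rw [Precoverage.mem_comap_iff, Scheme.ProEt.precoverage, Precoverage.mem_comap_iff,
    Presieve.map_ofArrows, Presieve.map_ofArrows]
  refine Precoverage.mem_coverings_of_isPullback _ hR (pullback.fst W.hom f) _
    (fun i => pullback.fst (Z i).hom f) (fun i => ?_)
  have e1 : ((bcP f).map (g i)).left ≫ pullback.snd W.hom f = pullback.snd (Z i).hom f :=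
    pullback.lift_snd _ _ _
  have e2 : (g i).left ≫ W.hom = (Z i).hom := MorphismProperty.Over.w (g i)
  have hbig : IsPullback (((bcP f).map (g i)).left ≫ pullback.snd W.hom f)
      (pullback.fst (Z i).hom f) f ((g i).left ≫ W.hom) := by
    rw [e1, e2]
    exact (IsPullback.of_hasPullback _ _).flip
  have hright : IsPullback (pullback.snd W.hom f) (pullback.fst W.hom f) f W.hom :=
    (IsPullback.of_hasPullback W.hom f).flip
  show IsPullback ((bcP f).map (g i)).left (pullback.fst (Z i).hom f) (pullback.fst W.hom f)
    (g i).left
  exact IsPullback.of_right hbig (pullback.lift_fst _ _ _) hright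

end Groth.Agent.S0730
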