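import Groth.Statements.S0742
import Mathlib.CategoryTheory.Adjunction.Triple

set_option autoImplicit false
open CategoryTheory CategoryTheory.Limits AlgebraicGeometry Opposite
universe u
open ProEtS

namespace Groth.Agent.S0742

set_option backward.isDefEq.respectTransparency.types false in
/-- The adjunction of site functors `compP j ⊣ bcP j`. -/
noncomputable def siteAdj {U X : Scheme.{u}} (j : U ⟶ X) [hj : WeaklyEtale j] :
    ProEtS.compP j ⊣ ProEtS.bcP j :=
  MorphismProperty.Over.mapPullbackAdj (@WeaklyEtale.{u}) ⊤ j hj trivial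

set_option backward.isDefEq.respectTransparency.types false in
instance isIso_siteAdj_unit_app {U X : Scheme.{u}} (j : U ⟶ X) [hj : WeaklyEtale j] [Mono j]
    (V : U.ProEt) : IsIso ((siteAdj j).unit.app V) := by
  have h : IsIso ((siteAdj j).unit.app V).left := by
    have h1 : ((siteAdj j).unit.app V).left ≫ pullback.fst (V.hom ≫ j) j = 𝟙 _ := by
      simp only [siteAdj, MorphismProperty.Over.mapPullbackAdj_unit_app]
      exact pullback.lift_fst _ _ _
    have hfst : IsIso (pullback.fst (V.hom ≫ j) j) := by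
      have hm : Mono (pullback.fst (V.hom ≫ j) j) := inferInstance
      have : IsSplitEpi (pullback.fst (V.hom ≫ j) j) := IsSplitEpi.mk' ⟨_, h1⟩
      exact isIso_of_mono_of_isSplitEpi _
    have h2 : IsIso (((siteAdj j).unit.app V).left ≫ pullback.fst (V.hom ≫ j) j) := by
      rw [h1]; infer_instance
    exact @IsIso.of_isIso_comp_right _ _ _ _ _ _ _ hfst h2
  have : (MorphismProperty.Over.forget (@WeaklyEtale.{u}) ⊤ U ⋙
      CategoryTheory.Over.forget U).ReflectsIsomorphisms := inferInstance
  have h3 : IsIso ((MorphismProperty.Over.forget (@WeaklyEtale.{u}) ⊤ U ⋙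
      CategoryTheory.Over.forget U).map ((siteAdj j).unit.app V)) := h
  exact @isIso_of_reflects_iso _ _ _ _ _ _ _ (MorphismProperty.Over.forget (@WeaklyEtale.{u}) ⊤ U ⋙
      CategoryTheory.Over.forget U) h3 this

/-- The adjunction `j⁻¹ ⊣ j_*` on abelian pro-etale sheaves obtained from the adjunction of
sites. -/
noncomputable def restrPushAdj {U X : Scheme.{u}} (j : U ⟶ X) [hj : WeaklyEtale j]
    [ProEtS.JPCont j] [ProEtS.PCont j] : ProEtS.restrP j ⊣ ProEtS.pushP j :=
  (siteAdj j).sheafPushforwardContinuous (Scheme.ProEt.topology U) (Scheme.ProEt.topology X)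

instance isIso_restrPushAdj_counit {U X : Scheme.{u}} (j : U ⟶ X) [hj : WeaklyEtale j] [Mono j]
    [ProEtS.JPCont j] [ProEtS.PCont j] : IsIso (restrPushAdj j).counit := by
  refine @NatIso.isIso_of_isIso_app _ _ _ _ _ _ _ (fun P => ?_)
  have : IsIso ((sheafToPresheaf _ _).map ((restrPushAdj j).counit.app P)) := by
    refine @NatIso.isIso_of_isIso_app _ _ _ _ _ _ _ (fun V => ?_)
    have e := Adjunction.sheafPushforwardContinuous_counit_app_hom_app (E := AddCommGrpCat.{u + 1})
      (siteAdj j) (Scheme.ProEt.topology U) (Scheme.ProEt.topology X) P V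
    change IsIso (((restrPushAdj j).counit.app P).hom.app V)
    rw [restrPushAdj, e]
    have h4 : IsIso ((siteAdj j).unit.app (unop V)) := isIso_siteAdj_unit_app j (unop V)
    have h5 : IsIso ((siteAdj j).unit.app (unop V)).op := @isIso_op _ _ _ _ _ h4
    exact @Functor.map_isIso _ _ _ _ _ _ P.obj _ h5
  exact isIso_of_reflects_iso _ (sheafToPresheaf _ _)

theorem main {U X : Scheme.{u}} (j : U ⟶ X) [hj : WeaklyEtale j] [Mono j]
    [ProEtS.JPCont j] [ProEtS.PCont j] (F G : ProEtS.AbP U) :
    IsIso ((ProEtS.extZeroPAdj j).unit.app F) ∧ IsIso ((ProEtS.pullPushAdjP j).counit.app G) := by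
  let t : Adjunction.Triple (ProEtS.extZeroP j) (ProEtS.restrP j) (ProEtS.pushP j) :=
    ⟨ProEtS.extZeroPAdj j, restrPushAdj j⟩
  have h2 : IsIso t.adj₂.counit := isIso_restrPushAdj_counit j
  have h1 : IsIso t.adj₁.unit := t.isIso_unit_iff_isIso_counit.2 h2
  refine ⟨inferInstance, ?_⟩
  let ff := t.adj₂.fullyFaithfulROfIsIsoCounit
  have := ff.full
  have := ff.faithful
  infer_instance

/-- For an open immersion j : U -> X, the unit F -> j^{-1} j_! F and the counit j^{-1} j_* G -> G are
isomorphisms on abelian pro-etale sheaves (so j_! and j_* are fully faithful; continuity binders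
assumed). -/
theorem result {U X : Scheme.{u}} (j : U ⟶ X) [IsOpenImmersion j]
    [ProEtS.JPCont j] [ProEtS.PCont j] (F G : ProEtS.AbP U) :
    IsIso ((ProEtS.extZeroPAdj j).unit.app F) ∧ IsIso ((ProEtS.pullPushAdjP j).counit.app G) := by
  exact main j F G

end Groth.Agent.S0742
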