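import Groth.Statements.S0743

set_option autoImplicit false
open CategoryTheory CategoryTheory.Limits AlgebraicGeometry Opposite
universe u
open ProEtS

namespace Groth.Agent.S0743

/-- The square of site functors `U.Etale → X.Etale → X.ProEt` and `U.Etale → U.ProEt → X.ProEt`
commutes. -/
noncomputable def squareIso {U X : Scheme.{u}} (j : U ⟶ X) [Etale j] :
    EtShriek.compEtale j ⋙ ProEtS.eps X ≅ ProEtS.eps U ⋙ ProEtS.compP j :=
  NatIso.ofComponents (fun V => MorphismProperty.Over.isoMk (Iso.refl _))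

/-- For an etale morphism j : U -> X and an abelian sheaf G on U_et, eps^{-1} (j_! G) and j_! (eps^{-1}
G) are isomorphic as abelian sheaves on X_proet (existence of an isomorphism; continuity binders
assumed). -/
theorem result {U X : Scheme.{u}} (j : U ⟶ X) [Etale j] [EtShriek.JCont j]
    [ProEtS.JPCont j] [ProEtS.EpsCont U] [ProEtS.EpsCont X] (G : EtCoh.Ab U) :
    Nonempty ((ProEtS.epsPull X).obj ((EtShriek.extZero j).obj G) ≅
      (ProEtS.extZeroP j).obj ((ProEtS.epsPull U).obj G)) := by
  let A1 := (EtShriek.extZeroAdj j).comp (ProEtS.epsAdj X)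
  let A2 := (ProEtS.epsAdj U).comp (ProEtS.extZeroPAdj j)
  have : (ProEtS.eps U ⋙ ProEtS.compP j).IsContinuous U.smallEtaleTopology
      (Scheme.ProEt.topology X) :=
    Functor.isContinuous_comp _ _ _ (Scheme.ProEt.topology U) _
  let e1 : ProEtS.epsPush X ⋙ EtShriek.restrAlong j ≅
      (ProEtS.eps U ⋙ ProEtS.compP j).sheafPushforwardContinuous AddCommGrpCat.{u + 1}
        U.smallEtaleTopology (Scheme.ProEt.topology X) :=
    Functor.sheafPushforwardContinuousComp' (squareIso j) _ _ _ _
  let e2 : ProEtS.restrP j ⋙ ProEtS.epsPush U ≅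
      (ProEtS.eps U ⋙ ProEtS.compP j).sheafPushforwardContinuous AddCommGrpCat.{u + 1}
        U.smallEtaleTopology (Scheme.ProEt.topology X) :=
    Functor.sheafPushforwardContinuousComp _ _ _ _ _ _
  let e : ProEtS.epsPush X ⋙ EtShriek.restrAlong j ≅ ProEtS.restrP j ⋙ ProEtS.epsPush U :=
    e1 ≪≫ e2.symm
  exact ⟨(((conjugateIsoEquiv A1 A2).symm e).symm).app G⟩

end Groth.Agent.S0743
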