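import Groth.Statements.S0754
import Groth.Agent.Lib.HznWeaklyEtale96
import Mathlib.AlgebraicGeometry.Morphisms.Preimmersion
import Mathlib.AlgebraicGeometry.Morphisms.Flat
-- import your own Groth.Agent.* helpers here

set_option autoImplicit false
open CategoryTheory CategoryTheory.Limits AlgebraicGeometry Opposite
universe u
open ProEtS

namespace Groth.Agent.S0754


/-- (copied from helper59's S7178) -/
lemma weaklyEtale_SpecMap_iff {R S : Type u} [CommRing R] [CommRing S] [Algebra R S] :
    WeaklyEtale (Spec.map (CommRingCat.ofHom (algebraMap R S))) ↔ Algebra.WeaklyEtale R S := by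
  rw [weaklyEtale_iff, Algebra.weaklyEtale_iff, Flat.SpecMap_iff, diagonal_SpecMap R S,
    MorphismProperty.cancel_right_of_respectsIso (P := @Flat), Flat.SpecMap_iff]
  simp only [autoParam, CommRingCat.hom_ofHom, RingHom.flat_algebraMap_iff]

/-- (as in S4366) -/
theorem flat_fromSpecStalk (Y : Scheme.{u}) (y : Y) : Flat (Y.fromSpecStalk y) := by
  obtain ⟨_, ⟨U, hU, rfl⟩, hyU, -⟩ :=
    Y.isBasis_affineOpens.exists_subset_of_mem_open (Set.mem_univ y) isOpen_univ
  rw [← hU.fromSpecStalk_eq_fromSpecStalk hyU, IsAffineOpen.fromSpecStalk]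
  have : Flat (Spec.map (Y.presheaf.germ U y hyU)) := by
    rw [HasRingHomProperty.Spec_iff (P := @Flat)]
    let : Algebra Γ(Y, U) (Y.presheaf.stalk y) := (Y.presheaf.germ U y hyU).hom.toAlgebra
    have := hU.isLocalization_stalk ⟨y, hyU⟩
    exact (RingHom.flat_algebraMap_iff).mpr
      (IsLocalization.flat _ (hU.primeIdealOf ⟨y, hyU⟩).asIdeal.primeCompl)
  infer_instance

theorem weaklyEtale_fromSpecStalk (Y : Scheme.{u}) (y : Y) : WeaklyEtale (Y.fromSpecStalk y) :=
  { flat := flat_fromSpecStalk Y y
    flat_diagonal := inferInstance }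


/-- For a point x of a scheme X and a strict henselization R of the local ring of X at x, the canonical
morphism Spec R -> X is weakly etale, so that Spec R is an object of the small pro-etale site of X. -/
theorem result (X : Scheme.{u}) (x : ↥X) (R : Type u) [CommRing R]
    [IsLocalRing R] [Algebra (X.presheaf.stalk x) R] [IsLocalHom (algebraMap (X.presheaf.stalk x) R)]
    [Hensel.IsStrictHenselization (X.presheaf.stalk x) R] :
    WeaklyEtale (Hens2.specOf X x R) := by
  have h1 : Algebra.WeaklyEtale (X.presheaf.stalk x) R :=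
    Groth.Agent.Lib.HznWeaklyEtale96.weaklyEtale_of_isStrictHenselization _ R
  have h2 : WeaklyEtale (Spec.map (CommRingCat.ofHom (algebraMap (X.presheaf.stalk x) R))) :=
    weaklyEtale_SpecMap_iff.mpr h1
  have h4 : WeaklyEtale (X.fromSpecStalk x) := weaklyEtale_fromSpecStalk X x
  exact MorphismProperty.comp_mem _ _ _ h2 h4

end Groth.Agent.S0754
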