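import Groth.Statements.S0781
import Mathlib.AlgebraicGeometry.Morphisms.FormallyUnramified

set_option autoImplicit false
open CategoryTheory CategoryTheory.Limits AlgebraicGeometry Opposite
universe u
open Desc

namespace Groth.Agent.S0781

set_option backward.isDefEq.respectTransparency false in
theorem isOpenImmersion_equalizer_ι_left {S : Scheme.{u}} {X Y : Over S}
    [IsOpenImmersion (pullback.diagonal Y.hom)]
    (f g : X ⟶ Y) : IsOpenImmersion (equalizer.ι f g).left := by
  refine MorphismProperty.of_isPullback
    ((Limits.isPullback_equalizer_prod f g).map (Over.forget _)).flip ?_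
  rw [← MorphismProperty.cancel_right_of_respectsIso @IsOpenImmersion _
    (Over.prodLeftIsoPullback Y Y).hom]
  convert! (inferInstance : IsOpenImmersion (pullback.diagonal Y.hom))
  ext1 <;> simp [← Over.comp_left]

theorem ext_of_surjective_of_diag {S : Scheme.{u}} {X Y : Over S}
    [IsOpenImmersion (pullback.diagonal Y.hom)]
    (f g : X ⟶ Y) {W : Scheme.{u}} (ι : W ⟶ X.left) [Surjective ι]
    (hU : ι ≫ f.left = ι ≫ g.left) : f = g := by
  let U' : Over S := Over.mk (ι ≫ X.hom)
  let ι' : U' ⟶ X := Over.homMk ι
  have h1 : IsOpenImmersion (equalizer.ι f g).left := isOpenImmersion_equalizer_ι_left f g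
  have hι : ι' ≫ f = ι' ≫ g := by
    ext1; exact hU
  have : Surjective (equalizer.ι f g).left := by
    have h2 : (equalizer.lift ι' hι).left ≫ (equalizer.ι f g).left = ι := by
      rw [← Over.comp_left, equalizer.lift_ι]; rfl
    have : Surjective ((equalizer.lift ι' hι).left ≫ (equalizer.ι f g).left) := by
      rw [h2]; infer_instance
    exact Surjective.of_comp (equalizer.lift ι' hι).left (equalizer.ι f g).left
  have : IsIso (equalizer.ι f g).left := by
    rw [isIso_iff_isOpenImmersion_and_epi_base]
    refine ⟨h1, ?_⟩
    rw [TopCat.epi_iff_surjective]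
    exact (equalizer.ι f g).left.surjective
  have : IsIso ((Over.forget S).map (equalizer.ι f g)) := this
  have : IsIso (equalizer.ι f g) := isIso_of_reflects_iso _ (Over.forget S)
  rw [← cancel_epi (equalizer.ι f g)]
  exact equalizer.condition f g

/-- If p : X → S is a surjective morphism of schemes, then for schemes U₁, U₂ étale over S, two
S-morphisms U₁ → U₂ whose base changes to X agree, as morphisms of canonical descent data relative
to p, are equal; that is, the canonical-descent-datum functor is faithful on schemes étale over S.
(Descent data are taken in functor-of-points form, equivalent by the Yoneda lemma to an isomorphism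
over X ×_S X satisfying the cocycle condition.) -/
theorem result {X S : Scheme.{u}} (p : X ⟶ S) [Surjective p] (U₁ U₂ : Over S)
    [Etale U₁.hom] [Etale U₂.hom] : Function.Injective ((Desc.toDD p).map : (U₁ ⟶ U₂) → _) := by
  intro f g hfg
  have h1 : ((Desc.toDD p).map f).hom.left = ((Desc.toDD p).map g).hom.left := by rw [hfg]
  have h2 : pullback.snd p U₁.hom ≫ f.left = pullback.snd p U₁.hom ≫ g.left := by
    have := congr($h1 ≫ pullback.snd p U₂.hom)
    change pullback.map p U₁.hom p U₂.hom (𝟙 X) f.left (𝟙 S) (by simp) (by simp) ≫
        pullback.snd p U₂.hom =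
      pullback.map p U₁.hom p U₂.hom (𝟙 X) g.left (𝟙 S) (by simp) (by simp) ≫
        pullback.snd p U₂.hom at this
    rw [pullback.lift_snd, pullback.lift_snd] at this
    exact this
  exact ext_of_surjective_of_diag f g (pullback.snd p U₁.hom) h2

end Groth.Agent.S0781
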