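import Groth.Statements.S0782
-- import your own Groth.Agent.* helpers here
import Groth.Agent.Lib.EtDescH52

set_option autoImplicit false
open CategoryTheory CategoryTheory.Limits AlgebraicGeometry Opposite
universe u
open Desc

namespace Groth.Agent.S0782

/-- Let p : X ⟶ S be a morphism such that for every scheme U étale over S the projection X ×_S U ⟶ U is
a quotient map of topological spaces (submersive; U = S is allowed). Then for U₁, U₂ étale over S,
every morphism between their canonical descent data relative to p comes from an S-morphism U₁ ⟶ U₂: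
the canonical-descent-datum functor is full on schemes étale over S (injectivity of this assignment
is a companion statement). (Descent data are taken in functor-of-points form, equivalent by the
Yoneda lemma to the usual form of an isomorphism over X ×_S X satisfying the cocycle condition.) -/
theorem result {X S : Scheme.{u}} (p : X ⟶ S)
    (hp : ∀ U : Over S, Etale U.hom → Topology.IsQuotientMap (pullback.snd p U.hom).base) (U₁ U₂ : Over S)
    [Etale U₁.hom] [Etale U₂.hom] : Function.Surjective ((Desc.toDD p).map : (U₁ ⟶ U₂) → _) := by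
  intro F
  obtain ⟨Fl, hFl⟩ : ∃ Fl : pullback p U₁.hom ⟶ pullback p U₂.hom, Fl = F.hom.left := ⟨_, rfl⟩
  let π : pullback p U₁.hom ⟶ U₁.left := pullback.snd p U₁.hom
  have hπq : Topology.IsQuotientMap π := hp U₁ inferInstance
  have hπs : Surjective π := ⟨hπq.surjective⟩
  let h : pullback p U₁.hom ⟶ U₂.left := Fl ≫ pullback.snd p U₂.hom
  have hFw : Fl ≫ pullback.fst p U₂.hom = pullback.fst p U₁.hom := by
    rw [hFl]; exact Over.w F.hom
  have hq : h ≫ U₂.hom = π ≫ U₁.hom := by
    show (Fl ≫ pullback.snd p U₂.hom) ≫ U₂.hom = pullback.snd p U₁.hom ≫ U₁.hom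
    rw [Category.assoc, ← pullback.condition, ← Category.assoc, hFw, pullback.condition]
  -- the quotient property
  have hquot : Topology.IsQuotientMap (pullback.snd π (pullback.fst U₁.hom U₂.hom)) := by
    let prX : pullback U₁.hom U₂.hom ⟶ U₁.left := pullback.fst U₁.hom U₂.hom
    have het : Etale (prX ≫ U₁.hom) := inferInstance
    have h1 : Topology.IsQuotientMap (pullback.snd p (prX ≫ U₁.hom)) :=
      hp (Over.mk (prX ≫ U₁.hom)) het
    let e := pullbackLeftPullbackSndIso p U₁.hom prX
    have he : e.hom ≫ pullback.snd p (prX ≫ U₁.hom) = pullback.snd π prX :=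
      pullbackLeftPullbackSndIso_hom_snd p U₁.hom prX
    have h2 : Topology.IsQuotientMap e.hom := (Scheme.homeoOfIso e).isQuotientMap
    have h3 := h1.comp h2
    have h4 : (pullback.snd p (prX ≫ U₁.hom)) ∘ e.hom = pullback.snd π prX := by
      ext x
      exact congrArg (fun ψ : pullback π prX ⟶ pullback U₁.hom U₂.hom => ψ x) he
    rw [h4] at h3
    exact h3
  -- the cocycle condition
  have hcoc : pullback.fst π π ≫ h = pullback.snd π π ≫ h := by
    let x₀ : pullback π π ⟶ X := pullback.fst π π ≫ pullback.fst p U₁.hom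
    let x₁ : pullback π π ⟶ X := pullback.snd π π ≫ pullback.fst p U₁.hom
    have hx : x₀ ≫ p = x₁ ≫ p := by
      show (pullback.fst π π ≫ pullback.fst p U₁.hom) ≫ p = (pullback.snd π π ≫ pullback.fst p U₁.hom) ≫ p
      rw [Category.assoc, Category.assoc, pullback.condition (f := p)]
      show pullback.fst π π ≫ π ≫ U₁.hom = pullback.snd π π ≫ π ≫ U₁.hom
      rw [← Category.assoc, pullback.condition, Category.assoc]
    let v : Desc.Lifts ((Desc.toDD p).obj U₁).obj x₀ := ⟨pullback.fst π π, rfl⟩
    let w : Desc.Lifts ((Desc.toDD p).obj U₂).obj x₀ := ⟨pullback.fst π π ≫ Fl, by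
      show (pullback.fst π π ≫ Fl) ≫ pullback.fst p U₂.hom = x₀
      rw [Category.assoc, hFw]⟩
    have hc := F.comm x₀ x₁ hx v w (congrArg (fun z : pullback p U₁.hom ⟶ pullback p U₂.hom => pullback.fst π π ≫ z) hFl)
    have hc' : (Desc.canMap p U₂ x₀ x₁ hx w).1 = (Desc.canMap p U₁ x₀ x₁ hx v).1 ≫ Fl := by
      rw [hFl]; exact hc
    have hc2 := congrArg (· ≫ pullback.snd p U₂.hom) hc'
    have l1 : (Desc.canMap p U₂ x₀ x₁ hx w).1 ≫ pullback.snd p U₂.hom =
        pullback.fst π π ≫ h := by
      rw [Desc.canMap_val, pullback.lift_snd]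
      show (pullback.fst π π ≫ Fl) ≫ pullback.snd p U₂.hom = _
      rw [Category.assoc]
    have l2 : (Desc.canMap p U₁ x₀ x₁ hx v).1 = pullback.snd π π := by
      rw [Desc.canMap_val]
      apply pullback.hom_ext
      · rw [pullback.lift_fst]
      · rw [pullback.lift_snd]
        exact pullback.condition
    have : pullback.fst π π ≫ h = (pullback.snd π π ≫ Fl) ≫ pullback.snd p U₂.hom := by
      rw [← l1, ← l2]; exact hc2
    rw [this, Category.assoc]
  obtain ⟨u, hu1, hu2⟩ :=
    Groth.Agent.Lib.EtDescH52.exists_desc_of_isQuotientMap U₁.hom U₂.hom π hquot h hq hcoc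
  refine ⟨Over.homMk u hu1, ?_⟩
  apply Desc.SchDD.hom_ext
  apply Over.OverMorphism.ext
  have key : pullback.map p U₁.hom p U₂.hom (𝟙 X) u (𝟙 S) (by simp) (by simp [hu1]) = Fl := by
    apply pullback.hom_ext
    · rw [pullback.lift_fst, Category.comp_id, hFw]
    · rw [pullback.lift_snd]
      exact hu2
  rw [hFl] at key
  exact key

end Groth.Agent.S0782
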