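import Groth.Statements.S0792
import Groth.Agent.Lib.ProperSupport23
import Groth.Agent.Lib.ModStalk
import Groth.Agent.Lib.PushStalk

set_option autoImplicit false
universe u
open Coherent

namespace Groth.Agent.S0792

open CategoryTheory AlgebraicGeometry in
theorem support_subset_range {Z X : Scheme.{u}} (i : Z ⟶ X) [IsClosedImmersion i]
    (G : Z.Modules) (F : X.Modules) (e : (Scheme.Modules.pushforward i).obj G ≅ F) :
    CohB1.support F ⊆ Set.range i := by
  intro x hx
  by_contra hxr
  apply hx
  have hcl : closure (Set.range i) = Set.range i :=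
    i.isClosedEmbedding.isClosed_range.closure_eq
  have h1 : Subsingleton (((Scheme.Modules.pushforward i).obj G).presheaf.stalk x) :=
    Groth.Agent.Lib.PushStalk.subsingleton_stalk_push_of_notMem_closure_range i G x
      (by rw [hcl]; exact hxr)
  have h0 : Limits.IsZero (((Scheme.Modules.pushforward i).obj G).presheaf.stalk x) :=
    AddCommGrpCat.isZero_of_subsingleton _
  exact AddCommGrpCat.subsingleton_of_isZero
    (h0.of_iso ((Groth.Agent.Lib.ModStalk.stalkFunctor x).mapIso e.symm))

open CategoryTheory AlgebraicGeometry in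
theorem main {X S : Scheme.{u}} (f : X ⟶ S) [LocallyOfFiniteType f]
    (F : X.Modules) (hq : Coh.IsQCoh F) (hft : CohB1.IsFT F) :
    ClSub.IsProperOver f (CohB1.support F) ↔
      ∃ (Z : Scheme.{u}) (i : Z ⟶ X), IsClosedImmersion i ∧ IsProper (i ≫ f) ∧
        ∃ G : Z.Modules, Coh.IsQCoh G ∧ CohB1.IsFT G ∧
          Nonempty ((Scheme.Modules.pushforward i).obj G ≅ F) := by
  constructor
  · intro hs
    obtain ⟨K, hproper, -, hiso, hN⟩ :=
      Groth.Agent.Lib.ProperSupport23.exists_ideal_of_isProperOver f F ⟨hq, hft⟩ hs
    exact ⟨K.subscheme, K.subschemeι, inferInstance, hproper,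
      (Scheme.Modules.pullback K.subschemeι).obj F, hN.1, hN.2,
      ⟨(asIso ((Scheme.Modules.pullbackPushforwardAdjunction K.subschemeι).unit.app F)).symm⟩⟩
  · rintro ⟨Z, i, hi, hp, G, -, -, ⟨e⟩⟩
    exact Groth.Agent.Lib.ProperOver.isProperOver_of_subset f
      (Groth.Agent.Lib.ProperOver.isProperOver_range f i hp)
      (Groth.Agent.Lib.ModStalk.isClosed_support_of_isFT F hft)
      (support_subset_range i G F e)

open CategoryTheory AlgebraicGeometry in
/-- Let f : X → S be locally of finite type and F a quasi-coherent O_X-module of finite type. The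
support of F is proper over S if and only if there are a closed subscheme i : Z → X with Z proper
over S and a quasi-coherent O_Z-module G of finite type with i_* G isomorphic to F. (The published
statement also gives a further equivalent condition, that the scheme-theoretic support of F is
proper over S; it is not used here.) -/
theorem result {X S : Scheme.{u}} (f : X ⟶ S) [LocallyOfFiniteType f]
    (F : X.Modules) (hq : Coh.IsQCoh F) (hft : CohB1.IsFT F) :
    ClSub.IsProperOver f (CohB1.support F) ↔
      ∃ (Z : Scheme.{u}) (i : Z ⟶ X), IsClosedImmersion i ∧ IsProper (i ≫ f) ∧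
        ∃ G : Z.Modules, Coh.IsQCoh G ∧ CohB1.IsFT G ∧
          Nonempty ((Scheme.Modules.pushforward i).obj G ≅ F) := by
  exact main f F hq hft

end Groth.Agent.S0792
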