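import Groth.Statements.S0797
import Mathlib.RingTheory.Nakayama
import Mathlib.RingTheory.Ideal.Operations
import Mathlib.RingTheory.Finiteness.Cardinality

set_option autoImplicit false
universe u
open Formal2

namespace Groth.Agent.S0797

/-- A point at level `n` of a surjective inverse system over `ℕ` extends to a compatible family. -/
theorem exists_compatible : ∀ (n : ℕ) {M : ℕ → Type u} (f : ∀ n, M (n + 1) → M n)
    (_ : ∀ n, Function.Surjective (f n)) (y : M n),
    ∃ x : ∀ k, M k, (∀ k, f k (x (k + 1)) = x k) ∧ x n = y := by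
  intro n
  induction n with
  | zero =>
    intro M f hf y
    refine ⟨fun k => Nat.rec (motive := M) y (fun k xk => (hf k xk).choose) k, fun k => ?_, rfl⟩
    exact (hf k _).choose_spec
  | succ n ih =>
    intro M f hf y
    obtain ⟨x', hx', hy⟩ := ih (M := fun k => M (k + 1)) (fun k => f (k + 1)) (fun k => hf (k + 1)) y
    refine ⟨fun k => match k with
      | 0 => f 0 (x' 0)
      | k + 1 => x' k, fun k => ?_, hy⟩
    cases k with
    | zero => rfl
    | succ k => exact hx' k

section

variable {A : Type u} [CommRing A] (I : Ideal A)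
  {M : ℕ → Type u} [∀ n, AddCommGroup (M n)] [∀ n, Module A (M n)]
  (f : ∀ n, M (n + 1) →ₗ[A] M n)

theorem smul_eq_zero_of_mem (hk : ∀ n, I ^ (n + 1) • (⊤ : Submodule A (M n)) = ⊥)
    {k j : ℕ} (hjk : j < k) {a : A} (ha : a ∈ I ^ k) (m : M j) : a • m = 0 := by
  have h1 : a ∈ I ^ (j + 1) := Ideal.pow_le_pow_right hjk ha
  have : a • m ∈ I ^ (j + 1) • (⊤ : Submodule A (M j)) :=
    Submodule.smul_mem_smul h1 Submodule.mem_top
  rw [hk j] at this
  simpa using this

/-- Generators at level `0` generate at every level. -/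
theorem span_eq_top_of_zero [IsNoetherianRing A] [IsAdicComplete I A] [∀ n, Module.Finite A (M n)]
    (hker : ∀ n, LinearMap.ker (f n) = I ^ (n + 1) • (⊤ : Submodule A (M (n + 1))))
    {r : ℕ} (e : Fin r → ∀ n, M n) (he : ∀ i n, f n (e i (n + 1)) = e i n)
    (h0 : Submodule.span A (Set.range fun i => e i 0) = ⊤) (n : ℕ) :
    Submodule.span A (Set.range fun i => e i n) = ⊤ := by
  induction n with
  | zero => exact h0
  | succ n ih =>
    set N := Submodule.span A (Set.range fun i => e i (n + 1)) with hN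
    have hmap : N.map (f n) = ⊤ := by
      rw [hN, Submodule.map_span, ← Set.range_comp, ← ih]
      congr 2
      funext i
      exact he i n
    have h1 : (⊤ : Submodule A (M (n + 1))) ≤ N ⊔ LinearMap.ker (f n) := by
      rw [← Submodule.comap_map_eq, hmap, Submodule.comap_top]
    have h2 : (⊤ : Submodule A (M (n + 1))) ≤ N ⊔ I • (⊤ : Submodule A (M (n + 1))) := by
      refine h1.trans (sup_le_sup_left ?_ _)
      rw [hker n]
      exact Submodule.smul_mono_left (Ideal.pow_le_self (Nat.succ_ne_zero n))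
    exact top_le_iff.mp (Submodule.le_of_le_smul_of_le_jacobson_bot
      (Module.Finite.fg_top) (IsAdicComplete.le_jacobson_bot I) h2)

/-- Elements of `I^m M_k` are combinations of generators with coefficients in `I^m`. -/
theorem exists_coeff {r : ℕ} (e : Fin r → ∀ n, M n) (k m : ℕ)
    (hspan : Submodule.span A (Set.range fun i => e i k) = ⊤)
    {y : M k} (hy : y ∈ I ^ m • (⊤ : Submodule A (M k))) :
    ∃ d : Fin r → A, (∀ i, d i ∈ I ^ m) ∧ ∑ i, d i • e i k = y := by
  rw [← hspan, Submodule.mem_ideal_smul_span_iff_exists_sum] at hy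
  obtain ⟨a, ha, hsum⟩ := hy
  refine ⟨a, ha, ?_⟩
  rw [← hsum, Finsupp.sum_fintype]
  simp

/-- One step of the successive approximation. -/
theorem step (hk : ∀ n, I ^ (n + 1) • (⊤ : Submodule A (M n)) = ⊥)
    (hker : ∀ n, LinearMap.ker (f n) = I ^ (n + 1) • (⊤ : Submodule A (M (n + 1))))
    {r : ℕ} (e : Fin r → ∀ n, M n) (he : ∀ i n, f n (e i (n + 1)) = e i n)
    (hspan : ∀ n, Submodule.span A (Set.range fun i => e i n) = ⊤)
    (x : ∀ n, M n) (hx : ∀ n, f n (x (n + 1)) = x n) (N : ℕ) (hN : ∀ k < N, x k = 0)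
    (k : ℕ) (c : Fin r → A) (hc : ∀ i, c i ∈ I ^ N)
    (hcx : ∀ j < k, ∑ i, c i • e i j = x j) :
    ∃ c' : Fin r → A, (∀ i, c' i ∈ I ^ N) ∧ (∀ j < k + 1, ∑ i, c' i • e i j = x j) ∧
      ∀ i, c' i - c i ∈ I ^ k := by
  have hy : x k - ∑ i, c i • e i k ∈ I ^ (max k N) • (⊤ : Submodule A (M k)) := by
    rcases lt_or_ge k N with hkN | hkN
    · have h0 : ∑ i, c i • e i k = 0 :=
        Finset.sum_eq_zero fun i _ => smul_eq_zero_of_mem I hk hkN (hc i) _
      rw [hN k hkN, h0, sub_zero]
      exact Submodule.zero_mem _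
    · rw [max_eq_left hkN]
      cases k with
      | zero => simp
      | succ k' =>
        rw [← hker k', LinearMap.mem_ker, map_sub, hx k', map_sum]
        simp only [map_smul, he]
        rw [hcx k' (Nat.lt_succ_self k'), sub_self]
  obtain ⟨d, hd, hsum⟩ := exists_coeff I e k (max k N) (hspan k) hy
  refine ⟨c + d, fun i => ?_, fun j hj => ?_, fun i => ?_⟩
  · exact Ideal.add_mem _ (hc i) (Ideal.pow_le_pow_right (le_max_right k N) (hd i))
  · simp only [Pi.add_apply, add_smul, Finset.sum_add_distrib]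
    rcases Nat.lt_succ_iff_lt_or_eq.mp hj with hjk | rfl
    · rw [hcx j hjk]
      have h0 : ∑ i, d i • e i j = 0 :=
        Finset.sum_eq_zero fun i _ => smul_eq_zero_of_mem I hk hjk
          (Ideal.pow_le_pow_right (le_max_left k N) (hd i)) _
      rw [h0, add_zero]
    · rw [hsum]; abel
  · simp only [Pi.add_apply, add_sub_cancel_left]
    exact Ideal.pow_le_pow_right (le_max_left k N) (hd i)

/-- Successive approximation: a compatible family vanishing below level `N` is a combination of
the generators with coefficients in `I^N`. -/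
theorem exists_combination [IsPrecomplete I A]
    (hk : ∀ n, I ^ (n + 1) • (⊤ : Submodule A (M n)) = ⊥)
    (hker : ∀ n, LinearMap.ker (f n) = I ^ (n + 1) • (⊤ : Submodule A (M (n + 1))))
    {r : ℕ} (e : Fin r → ∀ n, M n) (he : ∀ i n, f n (e i (n + 1)) = e i n)
    (hspan : ∀ n, Submodule.span A (Set.range fun i => e i n) = ⊤)
    (x : ∀ n, M n) (hx : ∀ n, f n (x (n + 1)) = x n) (N : ℕ) (hN : ∀ k < N, x k = 0) :
    ∃ a : Fin r → A, (∀ i, a i ∈ I ^ N) ∧ ∀ j, ∑ i, a i • e i j = x j := by
  classical
  let P : ℕ → (Fin r → A) → Prop := fun k c =>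
    (∀ i, c i ∈ I ^ N) ∧ ∀ j < k, ∑ i, c i • e i j = x j
  have hstep : ∀ k (c : {c // P k c}), ∃ c' : {c' // P (k + 1) c'},
      ∀ i, c'.1 i - c.1 i ∈ I ^ k := by
    rintro k ⟨c, hc, hcx⟩
    obtain ⟨c', h1, h2, h3⟩ := step I f hk hker e he hspan x hx N hN k c hc hcx
    exact ⟨⟨c', h1, h2⟩, h3⟩
  let seq : ∀ k, {c // P k c} := fun k =>
    Nat.rec (motive := fun k => {c // P k c})
      ⟨0, fun _ => Ideal.zero_mem _, fun j hj => absurd hj (Nat.not_lt_zero j)⟩
      (fun k c => (hstep k c).choose) k
  have hseq : ∀ k i, (seq (k + 1)).1 i - (seq k).1 i ∈ I ^ k := fun k =>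
    (hstep k (seq k)).choose_spec
  have hcauchy : ∀ i {m n : ℕ}, m ≤ n → (seq m).1 i ≡ (seq n).1 i
      [SMOD (I ^ m • ⊤ : Submodule A A)] := by
    intro i m n hmn
    induction n, hmn using Nat.le_induction with
    | base => rfl
    | succ n hmn ih =>
      refine ih.trans ?_
      rw [SModEq.sub_mem, smul_eq_mul, Ideal.mul_top]
      have := hseq n i
      rw [← neg_sub] 
      exact Ideal.neg_mem_iff _ |>.mpr (Ideal.pow_le_pow_right hmn this)
  have hlim : ∀ i, ∃ a : A, ∀ n, (seq n).1 i ≡ a [SMOD (I ^ n • ⊤ : Submodule A A)] := fun i =>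
    IsPrecomplete.prec' (fun n => (seq n).1 i) (hcauchy i)
  choose a ha using hlim
  have ha' : ∀ i n, a i - (seq n).1 i ∈ I ^ n := by
    intro i n
    have := ha i n
    rw [SModEq.sub_mem, smul_eq_mul, Ideal.mul_top] at this
    rw [← neg_sub]
    exact (Ideal.neg_mem_iff _).mpr this
  refine ⟨a, fun i => ?_, fun j => ?_⟩
  · have := Ideal.add_mem _ (ha' i N) ((seq N).2.1 i)
    simpa using this
  · have h1 := (seq (j + 1)).2.2 j (Nat.lt_succ_self j)
    rw [← h1, ← sub_eq_zero, ← Finset.sum_sub_distrib]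
    refine Finset.sum_eq_zero fun i _ => ?_
    rw [← sub_smul]
    exact smul_eq_zero_of_mem I hk (Nat.lt_succ_self j) (ha' i (j + 1)) _

end

/-- The module-theoretic heart, over a base that is already complete (so that the completion of A is A).
Let A be Noetherian and I-adically complete, and let (M_n, f_n : M_{n+1} → M_n) be an inverse system
of finite A-modules with M_n annihilated by I^(n+1) and f_n surjective with kernel I^(n+1) M_{n+1}
(indices shifted by one). Then the A-module of compatible sequences is finitely generated, each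
projection to M_n is surjective, and its kernel is I^(n+1) times the module of compatible sequences. -/
theorem result (A : Type u) [CommRing A] [IsNoetherianRing A] (I : Ideal A)
    [IsAdicComplete I A] (M : ℕ → Type u) [∀ n, AddCommGroup (M n)] [∀ n, Module A (M n)]
    [∀ n, Module.Finite A (M n)] (f : ∀ n, M (n + 1) →ₗ[A] M n) (hf : ∀ n, Function.Surjective (f n))
    (hk : ∀ n, I ^ (n + 1) • (⊤ : Submodule A (M n)) = ⊥)
    (hker : ∀ n, LinearMap.ker (f n) = I ^ (n + 1) • (⊤ : Submodule A (M (n + 1))))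
    (L : Submodule A (∀ n, M n)) (hL : ∀ x : ∀ n, M n, x ∈ L ↔ ∀ n, f n (x (n + 1)) = x n) :
    Module.Finite A L ∧ ∀ n, Function.Surjective ((LinearMap.proj n).comp L.subtype : L →ₗ[A] M n) ∧
      LinearMap.ker ((LinearMap.proj n).comp L.subtype : L →ₗ[A] M n) = I ^ (n + 1) • (⊤ : Submodule A L) := by
  classical
  -- generators of `M 0`, lifted to `L`
  obtain ⟨r, s, hs⟩ := Module.Finite.exists_fin (R := A) (M := M 0)
  have hlift : ∀ i, ∃ x : ∀ k, M k, (∀ k, f k (x (k + 1)) = x k) ∧ x 0 = s i := fun i =>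
    exists_compatible 0 (fun n => f n) hf (s i)
  choose e he he0 using hlift
  have he' : ∀ i n, f n (e i (n + 1)) = e i n := he
  have h0 : Submodule.span A (Set.range fun i => e i 0) = ⊤ := by
    rw [← hs]; congr 2; funext i; exact he0 i
  have hspan := span_eq_top_of_zero I f hker e he' h0
  have heL : ∀ i, e i ∈ L := fun i => (hL _).mpr (he i)
  -- every element of `L` vanishing below level `N` is a combination with coefficients in `I ^ N`
  have key : ∀ (x : L) (N : ℕ), (∀ k < N, x.1 k = 0) →
      ∃ a : Fin r → A, (∀ i, a i ∈ I ^ N) ∧ x = ∑ i, a i • (⟨e i, heL i⟩ : L) := by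
    intro x N hN
    obtain ⟨a, ha, hax⟩ := exists_combination I f hk hker e he' hspan x.1 ((hL _).mp x.2) N hN
    refine ⟨a, ha, Subtype.ext (funext fun j => ?_)⟩
    rw [← hax j]
    simp [Finset.sum_apply]
  refine ⟨?_, fun n => ⟨?_, ?_⟩⟩
  · refine Module.Finite.of_surjective (Fintype.linearCombination A fun i => (⟨e i, heL i⟩ : L)) ?_
    intro x
    obtain ⟨a, -, hax⟩ := key x 0 (fun k hk => absurd hk (Nat.not_lt_zero k))
    exact ⟨a, by rw [hax, Fintype.linearCombination_apply]⟩
  · intro y
    obtain ⟨x, hx, hxy⟩ := exists_compatible n (fun n => f n) hf y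
    exact ⟨⟨x, (hL _).mpr hx⟩, hxy⟩
  · apply le_antisymm
    · intro x hx
      have hxn : x.1 n = 0 := hx
      have hN : ∀ k < n + 1, x.1 k = 0 := by
        have hdown : ∀ d k, k + d = n → x.1 k = 0 := by
          intro d
          induction d with
          | zero => intro k hk; rw [Nat.add_zero] at hk; rw [hk]; exact hxn
          | succ d ih =>
            intro k hk
            have := ih (k + 1) (by omega)
            rw [← (hL _).mp x.2 k, this, map_zero]
        intro k hk
        exact hdown (n - k) k (by omega)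
      obtain ⟨a, ha, hax⟩ := key x (n + 1) hN
      rw [hax]
      exact Submodule.sum_mem _ fun i _ => Submodule.smul_mem_smul (ha i) Submodule.mem_top
    · rw [Submodule.smul_le]
      intro a ha y _
      rw [LinearMap.mem_ker, map_smul]
      exact smul_eq_zero_of_mem I hk (Nat.lt_succ_self n) ha _

end Groth.Agent.S0797
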