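import Groth.Statements.S0882
import Groth.Agent.Lib.CohPre5
import Groth.Agent.Lib.LocalColimit

set_option autoImplicit false
universe u
open CategoryTheory
open CohSite

namespace Groth.Agent.S0882

open Opposite CategoryTheory.Limits in
/-- Let u : D -> C be a continuous functor underlying a morphism of sites f : C -> D, (F_i) a diagram of
abelian sheaves on C indexed by a small category and p >= 0. Let B be the class of objects V of D
such that colim_i H^p(u(V), F_i) -> H^p(u(V), colim F_i) is an isomorphism. If every object of D has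
a covering by members of B, then colim_i R^p f_* F_i -> R^p f_* (colim F_i) is an isomorphism (both
phrased as preservation of the colimit). -/
theorem result {C D : Type u} [SmallCategory C]
    [SmallCategory D] (J : GrothendieckTopology C) (K : GrothendieckTopology D) (u : D ⥤ C)
    [u.IsContinuous K J]
    {ι : Type u} [SmallCategory ι] (F : ι ⥤ Sheaf J AddCommGrpCat.{u})
    (p : ℕ)
    (h : ∀ V : D, ∃ (κ : Type u) (Y : κ → D) (g : ∀ k, Y k ⟶ V), Sieve.ofArrows Y g ∈ K V ∧
      ∀ k, PreservesColimit F ((Sheaf.cohomologyPresheafFunctor J p).flip.obj (op (u.obj (Y k))))) :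
    PreservesColimit F (CohSite.Rpush J K u p) := by
  obtain ⟨e⟩ := Groth.Agent.Lib.CohPresheafDerived.nonempty_Rpush_natIso J K u p
  let G : Sheaf J AddCommGrpCat.{u} ⥤ (Dᵒᵖ ⥤ AddCommGrpCat.{u}) :=
    Sheaf.cohomologyPresheafFunctor.{u} J p ⋙
      (Functor.whiskeringLeft Dᵒᵖ Cᵒᵖ AddCommGrpCat.{u}).obj u.op
  have hG : PreservesColimit F (G ⋙ presheafToSheaf K AddCommGrpCat.{u}) := by
    apply Groth.Agent.Lib.LocalColimit.preservesColimit_comp_presheafToSheaf K F G
    intro V
    obtain ⟨κ, Y, g, hcov, hpres⟩ := h V
    refine ⟨κ, Y, g, hcov, fun k => ?_⟩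
    have := hpres k
    exact preservesColimit_of_natIso F
      (NatIso.ofComponents (fun _ => Iso.refl _) (fun f => (Category.comp_id _).trans (Category.id_comp _).symm) :
        (Sheaf.cohomologyPresheafFunctor.{u} J p).flip.obj (op (u.obj (Y k))) ≅
          G ⋙ (evaluation Dᵒᵖ AddCommGrpCat.{u}).obj (op (Y k)))
  exact preservesColimit_of_natIso F (e ≪≫ (Functor.associator _ _ _).symm).symm

end Groth.Agent.S0882
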