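import Groth.Statements.S0800
import Groth.Agent.Lib.FiltColimQS
import Groth.Agent.S0855

set_option autoImplicit false
universe u
open Coherent

namespace Groth.Agent.S0800

section Helpers

open CategoryTheory CategoryTheory.Limits AlgebraicGeometry TopologicalSpace Opposite
open Groth.Agent.Lib.FiltColimTop Groth.Agent.Lib.FiltColimQS

/-- the quasi-compact opens of a scheme form a basis -/
lemma isBasis_qc (X : Scheme.{u}) : Opens.IsBasis (qc X.toTopCat) := by
  rw [Opens.isBasis_iff_nbhd]
  intro U x hx
  obtain ⟨W, hW, hxW, hWU⟩ := (Opens.isBasis_iff_nbhd.1 X.isBasis_affineOpens) hx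
  exact ⟨W, IsAffineOpen.isCompact hW, hxW, hWU⟩

lemma preservesColimit_preimage {X S : Scheme.{u}} (f : X ⟶ S) [QuasiCompact f] [QuasiSeparated f]
    (p : ℕ) {J : Type u} [SmallCategory J] [IsFiltered J]
    (F : J ⥤ Sheaf (Opens.grothendieckTopology X) AddCommGrpCat.{u}) (V : S.Opens) (hV : IsAffineOpen V) :
    PreservesColimit F
      ((Sheaf.cohomologyPresheafFunctor (Opens.grothendieckTopology X) p).flip.obj
        (op ((Opens.map f.base).obj V))) :=
  preservesColimit_qcqs (isBasis_qc X) F (f ⁻¹ᵁ V) (f.isCompact_preimage hV.isCompact)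
    (f.isQuasiSeparated_preimage hV.isQuasiSeparated) p

end Helpers

open CategoryTheory CategoryTheory.Limits AlgebraicGeometry in
/-- Let f : X → S be quasi-compact and quasi-separated. Then for every p the higher direct image functor
R^p f_* on abelian sheaves (on the underlying spaces) preserves filtered colimits. -/
theorem result {X S : Scheme.{u}} (f : X ⟶ S) [QuasiCompact f]
    [QuasiSeparated f] (p : ℕ) (J : Type u) [SmallCategory J] [IsFiltered J] :
    PreservesColimitsOfShape J (Coh.RpushAb f p) := by
  refine ⟨fun {F} => ?_⟩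
  refine Groth.Agent.S0855.result f.base F p ?_
  rw [TopologicalSpace.Opens.isBasis_iff_nbhd]
  intro U x hx
  obtain ⟨W, hW, hxW, hWU⟩ :=
    (TopologicalSpace.Opens.isBasis_iff_nbhd.1 S.isBasis_affineOpens) hx
  exact ⟨W, preservesColimit_preimage f p F W hW, hxW, hWU⟩

end Groth.Agent.S0800
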