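import Groth.Statements.S0813
import Groth.Agent.Lib.PicDescent
import Groth.Agent.Lib.HartogsO
import Groth.Agent.Lib.H90ParaF
import Groth.Agent.S0258

set_option autoImplicit false
set_option linter.style.haveILetI false
universe u
open Formal2

namespace Groth.Agent.S0813

open CategoryTheory AlgebraicGeometry in
/-- Let (A, 𝔪) be a Noetherian local ring of depth at least 2, A^ its 𝔪-adic completion, U the punctured
spectrum of A and U^ its preimage in Spec A^ (the punctured spectrum of A^). Then an invertible
O_U-module whose pullback to U^ is trivial is trivial. -/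
theorem result (A : Type u) [CommRing A] [IsNoetherianRing A]
    [IsLocalRing A] (hdepth : (2 : ℕ∞) ≤ LocCoh.depth A A) :
    Formal2.PicPullbackInjective
      (Spec.map (CommRingCat.ofHom (algebraMap A (AdicCompletion (IsLocalRing.maximalIdeal A) A))) ∣_
        FEt.puncturedSpec A) := by
  intro L hL ⟨θ⟩
  haveI : IsNoetherianRing (CommRingCat.of A) := ‹IsNoetherianRing A›
  let g := Spec.map (CommRingCat.ofHom (algebraMap A (AdicCompletion (IsLocalRing.maximalIdeal A) A)))
  let U := FEt.puncturedSpec A
  have hsq : IsPullback (g ∣_ U) (g ⁻¹ᵁ U).ι U.ι g := isPullback_morphismRestrict g U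
  haveI : Module.Flat A (AdicCompletion (IsLocalRing.maximalIdeal A) A) :=
    AdicCompletion.flat_of_isNoetherian (IsLocalRing.maximalIdeal A)
  haveI : Module.FaithfullyFlat A (AdicCompletion (IsLocalRing.maximalIdeal A) A) :=
    Module.FaithfullyFlat.of_flat_of_isLocalHom
  have hfs : Flat g ∧ Surjective g := by
    rw [flat_and_surjective_SpecMap_iff]
    exact RingHom.faithfullyFlat_algebraMap_iff.mpr inferInstance
  haveI := hfs.1
  haveI := hfs.2
  have hd : ∀ x : Spec (CommRingCat.of A), x ∉ U →
      (2 : ℕ∞) ≤ LocCoh.depth ((Spec (CommRingCat.of A)).presheaf.stalk x)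
        ((Spec (CommRingCat.of A)).presheaf.stalk x) := by
    intro x hx
    have hx' : x = IsLocalRing.closedPoint A := by
      by_contra hne
      exact hx hne
    subst hx'
    rw [Groth.Agent.S0258.depth_stalk_closedPoint]
    exact hdepth
  have hf : ∀ V : (Spec (CommRingCat.of A)).Opens, Function.Bijective (U.ι.app V) := by
    intro V
    rw [Scheme.Opens.ι_app]
    refine Groth.Agent.Lib.Hartogs.resO_bijective U hd _ ?_
    rw [Scheme.Hom.image_preimage_eq_opensRange_inf, Scheme.Opens.opensRange_ι, inf_comm]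
  obtain ⟨hN, hc⟩ := Groth.Agent.Lib.PicDescent.isInvertible_pushforward_and_isIso_counit
    U.ι g (g ∣_ U) (g ⁻¹ᵁ U).ι hsq hf hL θ
  obtain ⟨t⟩ := Groth.Agent.Lib.H90ParaF.nonempty_iso_of_isInvertible_of_isLocalRing A _ hN
  exact ⟨(asIso ((Scheme.Modules.pullbackPushforwardAdjunction U.ι).counit.app L)).symm ≪≫
    (Scheme.Modules.pullback U.ι).mapIso t ≪≫ Groth.Agent.Lib.H78PullSec.unitIso U.ι⟩


end Groth.Agent.S0813
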