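import Groth.Statements.S0816
import Mathlib
import Groth.Agent.Lib.H90PrimDec4
import Groth.Agent.Lib.H90GraphExt
import Groth.Agent.Lib.H90ArtinRees

set_option autoImplicit false
universe u
open Coherent

namespace Groth.Agent.S0816

open CategoryTheory AlgebraicGeometry in
/-- Let X be locally Noetherian, F and G coherent O_X-modules, U ⊆ X open and φ : F|_U → G|_U a map of
O_U-modules. Then there are a coherent submodule F' ⊆ F whose inclusion is an isomorphism over U and
a map φ' : F' → G whose restriction to U is φ (composed with that isomorphism). -/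
theorem result (X : Scheme.{u}) [IsLocallyNoetherian X] (F G : X.Modules)
    (hF : Coh.IsCoh F) (hG : Coh.IsCoh G) (U : X.Opens)
    (φ : (Scheme.Modules.restrictFunctor U.ι).obj F ⟶ (Scheme.Modules.restrictFunctor U.ι).obj G) :
    ∃ (F' : X.Modules) (ι : F' ⟶ F) (φ' : F' ⟶ G), Mono ι ∧ Coh.IsCoh F' ∧
      IsIso ((Scheme.Modules.restrictFunctor U.ι).map ι) ∧
      (Scheme.Modules.restrictFunctor U.ι).map φ' = (Scheme.Modules.restrictFunctor U.ι).map ι ≫ φ := by
  have hX : ∀ x : X, ∃ V : X.Opens, x ∈ V ∧ TopologicalSpace.NoetherianSpace (V : Set X) := by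
    intro x
    obtain ⟨_, ⟨V, hV, rfl⟩, hxV, -⟩ :=
      X.isBasis_affineOpens.exists_subset_of_mem_open (Set.mem_univ x) isOpen_univ
    haveI : IsNoetherianRing Γ(X, V) := IsLocallyNoetherian.component_noetherian ⟨V, hV⟩
    exact ⟨V, hxV, noetherianSpace_of_isAffineOpen V hV⟩
  obtain ⟨E, a, b, hE, -, haiso, hb⟩ :=
    Groth.Agent.Lib.H90GraphExt.exists_graph_extension hX F G hF hG U φ
  obtain ⟨E', j, hj, hE', hjiso, htf⟩ :=
    Groth.Agent.Lib.H90PrimDec.exists_torsionFree_sub_locNoeth E hE U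
  haveI := haiso
  haveI := hjiso
  haveI := hj
  have hiso : IsIso ((Scheme.Modules.restrictFunctor U.ι).map (j ≫ a)) := by
    rw [Functor.map_comp]
    infer_instance
  refine ⟨E', j ≫ a, j ≫ b, ?_, hE', hiso, ?_⟩
  · -- `j ≫ a` is a monomorphism
    rw [Groth.Agent.Lib.H90OXModExact.mono_iff_forall_affine]
    intro V
    rw [injective_iff_map_eq_zero]
    intro s hs
    apply htf V.1 s
    -- the restriction of `s` to `V ⊓ U` is killed by `j ≫ a`, which is injective there
    have hsupp := ((Groth.Agent.Lib.H90QCohLocalization.isIso_restrict_map_iff (j ≫ a) U).mp hiso).1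
    have h1 : (j ≫ a).app (V.1 ⊓ U) (Groth.Agent.Lib.QCohStalk.res E' (inf_le_left : V.1 ⊓ U ≤ V.1) s) = 0 := by
      rw [Groth.Agent.Lib.H90OXModExt.app_res, hs]
      exact Groth.Agent.Lib.QCohStalk.res_zero _ _
    obtain ⟨t, ht⟩ := ((Groth.Agent.Lib.IdealMod.kernel_sections (j ≫ a) (V.1 ⊓ U)).2 _).mp h1
    have ht0 : t = 0 := Groth.Agent.Lib.H90ArtinRees.eq_zero_of_support_subset_compl hsupp
      (inf_le_right : V.1 ⊓ U ≤ U) t
    rw [← ht, ht0]
    exact map_zero ((Limits.kernel.ι (j ≫ a)).app (V.1 ⊓ U)).hom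
  · rw [Functor.map_comp, Functor.map_comp, Category.assoc, hb]

end Groth.Agent.S0816
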