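import Groth.Statements.S0824
import Groth.Agent.Lib.CohSigmaNeg
import Groth.Agent.S0009
-- import your own Groth.Agent.* helpers here

set_option autoImplicit false
universe u
open Coherent

namespace Groth.Agent.S0824

open CategoryTheory AlgebraicGeometry in
/-- Let X be a scheme with an ample invertible module L, and let L' be an inverse of L (L ⊗ L' ≅ O_X).
If there is n₀ such that H^p(X, L'^n) = 0 for all n ≥ n₀ and all p > 0, then X is affine. -/
theorem result (X : Scheme.{u}) (L L' : X.Modules)
    (hL : CohB1.IsAmple L) (hinv : Nonempty (CohB1.tensorMod L L' ≅ Coh.structureModule X)) (n₀ : ℕ)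
    (h : ∀ n : ℕ, n₀ ≤ n → ∀ p : ℕ, 0 < p → Subsingleton (Coh.HH X (CohB1.tensorPow L' n) p)) :
    IsAffine X := by
  obtain ⟨e⟩ := hinv
  haveI : CompactSpace X := hL.2.1
  exact Groth.Agent.S0009.result X (fun I _ _ hI =>
    Groth.Agent.Lib.CohSigmaNeg.subsingleton_HH_of_ample_qcoh hL e n₀ h I hI 1 one_pos)

end Groth.Agent.S0824
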