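import Groth.Statements.S0828
import Groth.Agent.Lib.H87AB
import Groth.Agent.Lib.SerreSk
import Groth.Agent.Lib.H8LocTrans
import Groth.Agent.Lib.AssPoints
import Groth.Agent.Lib.LocFreeFP
import Groth.Agent.Lib.LocFreeRank
import Groth.Agent.Lib.FreeModStalk
import Groth.Agent.Lib.CohFinite
import Groth.Agent.Lib.H90OXModFP

set_option autoImplicit false
universe u
open Coherent

namespace Groth.Agent.S0828

open Groth.Agent.Lib CategoryTheory AlgebraicGeometry

/-- A module with full support has support dimension equal to the dimension of the ring. -/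
theorem supportDim_eq_of_support_eq_univ {R : Type*} [CommRing R] {M : Type*} [AddCommGroup M]
    [Module R M] (h : Module.support R M = Set.univ) : Module.supportDim R M = ringKrullDim R := by
  apply le_antisymm (Module.supportDim_le_ringKrullDim R M)
  unfold Module.supportDim ringKrullDim
  exact Order.krullDim_le_of_strictMono (fun a => ⟨a, h ▸ Set.mem_univ a⟩) (fun a b hab => hab)

/-- Full support localizes. -/
theorem support_localization_eq_univ {A : Type*} [CommRing A] {N : Type*} [AddCommGroup N]
    [Module A N] (h : Module.support A N = Set.univ) (p : Ideal A) [p.IsPrime] :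
    Module.support (Localization.AtPrime p) (LocalizedModule p.primeCompl N) = Set.univ := by
  rw [Set.eq_univ_iff_forall]
  intro q'
  have hqp : (PrimeSpectrum.comap (algebraMap A (Localization.AtPrime p)) q').asIdeal ≤ p := by
    intro a ha
    by_contra hap
    have hu : IsUnit (algebraMap A (Localization.AtPrime p) a) :=
      IsLocalization.map_units (Localization.AtPrime p) (⟨a, hap⟩ : p.primeCompl)
    exact q'.2.ne_top (Ideal.eq_top_of_isUnit_mem _ ha hu)
  obtain ⟨q'', hq'', hcomap⟩ := SerreSk.exists_mem_support_localization p N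
    (PrimeSpectrum.comap (algebraMap A (Localization.AtPrime p)) q') (h ▸ Set.mem_univ _) hqp
  have : q'' = q' :=
    PrimeSpectrum.localization_comap_injective (Localization.AtPrime p) p.primeCompl hcomap
  rw [← this]
  exact hq''

variable {X : Scheme.{u}}

/-- On a locally Noetherian scheme, coherent modules are finitely presented. -/
theorem isFP_of_isCoh [IsLocallyNoetherian X] (F : X.Modules)
    (hF : Coh.IsCoh F) : CohB1.IsFP F := by
  rw [H90OXModFP.isFP_iff_forall_affine]
  refine ⟨hF.1, fun U => ?_⟩
  have hN : IsNoetherianRing Γ(X, U.1) := IsLocallyNoetherian.component_noetherian U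
  have hfin : Module.Finite Γ(X, U.1) Γ(F, U.1) := CohFinite.finite_sections_of_isCoh F hF U.2
  exact Module.finitePresentation_of_finite _ _

open Groth.Agent.Lib.QCohStalk in
/-- If a quasi-coherent module has full support, its stalks have full support dimension. -/
theorem supportDim_stalk_of_support_eq_univ (F : X.Modules) [F.IsQuasicoherent]
    (hsupp : CohB1.support F = Set.univ) (x : X) :
    Module.supportDim (X.presheaf.stalk x) (F.presheaf.stalk x) =
      ringKrullDim (X.presheaf.stalk x) := by
  obtain ⟨_, ⟨V, hV, rfl⟩, hxV, -⟩ :=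
    X.isBasis_affineOpens.exists_subset_of_mem_open (Set.mem_univ x) isOpen_univ
  have hN : Module.support Γ(X, V) Γ(F, V) = Set.univ := by
    rw [Set.eq_univ_iff_forall]
    intro q
    let y : V := ⟨hV.fromSpec q, AssPoints.fromSpec_mem hV q⟩
    have hy : hV.primeIdealOf y = q := AssPoints.primeIdealOf_fromSpec hV q
    letI := moduleSectionStalk F y
    haveI : IsLocalizedModule (hV.primeIdealOf y).asIdeal.primeCompl (germLinear F y) :=
      isLocalizedModule_germ F hV y
    have hnt : ¬ Subsingleton (F.presheaf.stalk (y : X)) := by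
      have : (y : X) ∈ CohB1.support F := hsupp ▸ Set.mem_univ _
      exact this
    rw [← hy, Module.mem_support_iff]
    by_contra hcon
    rw [not_nontrivial_iff_subsingleton] at hcon
    exact hnt ((IsLocalizedModule.iso (hV.primeIdealOf y).asIdeal.primeCompl
      (germLinear F y)).symm.toEquiv.subsingleton)
  obtain ⟨xV, rfl⟩ : ∃ xV : V, (xV : X) = x := ⟨⟨x, hxV⟩, rfl⟩
  let _ := moduleSectionStalk F xV
  haveI := isScalarTower_sectionStalk F xV
  haveI : IsLocalizedModule (hV.primeIdealOf xV).asIdeal.primeCompl (germLinear F xV) :=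
    isLocalizedModule_germ F hV xV
  haveI := hV.isLocalization_stalk xV
  have h1 := H8LocTrans.supportDim_eq_of_isLocalizedModule (hV.primeIdealOf xV).asIdeal
    (X.presheaf.stalk (xV : X)) (germLinear F xV)
  have h2 := supportDim_eq_of_support_eq_univ
    (support_localization_eq_univ hN (hV.primeIdealOf xV).asIdeal)
  have h3 := IsLocalization.AtPrime.ringKrullDim_eq_height (hV.primeIdealOf xV).asIdeal
    (X.presheaf.stalk (xV : X))
  have h4 := IsLocalization.AtPrime.ringKrullDim_eq_height (hV.primeIdealOf xV).asIdeal
    (Localization.AtPrime (hV.primeIdealOf xV).asIdeal)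
  rw [h1, h2, h3, h4]

/-- The rank of the stalk of a module which is free of rank `n` on the open `U`. -/
theorem finrank_stalk_of_restrict_iso (F : X.Modules) (U : X.Opens) (n : ℕ)
    (e : F.restrict U.ι ≅ FlatMod.freeMod (↑U) n) (x : X) (hxU : x ∈ U) :
    Module.finrank (X.presheaf.stalk x) (F.presheaf.stalk x) = n := by
  have h1 := LocFreeRank.finrank_restrict_eq U.ι F ⟨x, hxU⟩
  have h2 := LinearEquiv.finrank_eq (ModStalkLin.stalkLinEquiv e ⟨x, hxU⟩)
  have h3 : Module.finrank (U.toScheme.presheaf.stalk ⟨x, hxU⟩)
      ((FlatMod.freeMod (↑U) n).presheaf.stalk ⟨x, hxU⟩) = n := by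
    rw [Module.finrank_eq_card_basis
      (FreeModStalk.stalkBasis (X := U.toScheme) (n := n) ⟨x, hxU⟩)]
    simp
  rw [h2, h3] at h1
  exact h1.symm

open CategoryTheory AlgebraicGeometry in
/-- Let X be a regular scheme (locally Noetherian with regular local rings) and F a coherent O_X-module.
Then F has support all of X and Cohen–Macaulay stalks if and only if F is finite locally free of
positive rank near every point. -/
theorem result (X : Scheme.{u}) [IsLocallyNoetherian X]
    (hreg : ∀ x : X, IsRegularLocalRing (X.presheaf.stalk x)) (F : X.Modules) (hF : Coh.IsCoh F) :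
    (CohB1.support F = Set.univ ∧
        ∀ x : X, LocCoh.IsCohenMacaulayModule (X.presheaf.stalk x) ↑(F.presheaf.stalk x)) ↔
      ∀ x : X, ∃ (U : X.Opens) (n : ℕ), x ∈ U ∧ 0 < n ∧
        Nonempty (F.restrict U.ι ≅ FlatMod.freeMod (↑U) n) := by
  have hqc : F.IsQuasicoherent := hF.1
  constructor
  · rintro ⟨hsupp, hCM⟩
    have hfree : ∀ x : X, Module.Free (X.presheaf.stalk x) (F.presheaf.stalk x) := by
      intro x
      have hregx := hreg x
      have hfin : Module.Finite (X.presheaf.stalk x) (F.presheaf.stalk x) :=
        CohFinite.finite_stalk_of_isCoh F hF x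
      apply H87AB.free_of_isRegularLocalRing_of_depth_eq
      rw [← supportDim_stalk_of_support_eq_univ F hsupp x]
      exact (hCM x).symm
    have hlf := LocFreeFP.isFinLocFree_of_isFP_of_free F (isFP_of_isCoh F hF) hfree
    intro x
    obtain ⟨U, n, hxU, ⟨e⟩⟩ := hlf x
    refine ⟨U, n, hxU, ?_, ⟨e⟩⟩
    have hregx := hreg x
    have hfin : Module.Finite (X.presheaf.stalk x) (F.presheaf.stalk x) :=
      CohFinite.finite_stalk_of_isCoh F hF x
    have hfx := hfree x
    rw [← finrank_stalk_of_restrict_iso F U n e x hxU, Module.finrank_pos_iff_of_free,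
      ← not_subsingleton_iff_nontrivial]
    have : x ∈ CohB1.support F := hsupp ▸ Set.mem_univ _
    exact this
  · intro h
    have hlf : FlatMod.IsFinLocFree F := fun x => by
      obtain ⟨U, n, hxU, -, e⟩ := h x
      exact ⟨U, n, hxU, e⟩
    have hnt : ∀ x : X, Nontrivial (F.presheaf.stalk x) := by
      intro x
      obtain ⟨U, n, hxU, hn, ⟨e⟩⟩ := h x
      have hregx := hreg x
      have hfin : Module.Finite (X.presheaf.stalk x) (F.presheaf.stalk x) :=
        CohFinite.finite_stalk_of_isCoh F hF x
      have hfx := LocFreeFP.free_stalk_of_isFinLocFree hlf x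
      rw [← Module.finrank_pos_iff_of_free (R := X.presheaf.stalk x),
        finrank_stalk_of_restrict_iso F U n e x hxU]
      exact hn
    have hsupp : CohB1.support F = Set.univ := by
      rw [Set.eq_univ_iff_forall]
      intro x
      have := hnt x
      exact not_subsingleton _
    refine ⟨hsupp, fun x => ?_⟩
    have hregx := hreg x
    have hfin : Module.Finite (X.presheaf.stalk x) (F.presheaf.stalk x) :=
      CohFinite.finite_stalk_of_isCoh F hF x
    have hfx := LocFreeFP.free_stalk_of_isFinLocFree hlf x
    have hntx := hnt x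
    unfold LocCoh.IsCohenMacaulayModule
    rw [supportDim_stalk_of_support_eq_univ F hsupp x]
    have h1 : HasProjectiveDimensionLT
        (ModuleCat.of (X.presheaf.stalk x) (F.presheaf.stalk x)) (0 + 1) := by
      have : Module.Projective (X.presheaf.stalk x) (F.presheaf.stalk x) := inferInstance
      have : Projective (ModuleCat.of (X.presheaf.stalk x) (F.presheaf.stalk x)) :=
        (IsProjective.iff_projective _).mp this
      rw [zero_add]
      infer_instance
    have h2 : ¬ HasProjectiveDimensionLT
        (ModuleCat.of (X.presheaf.stalk x) (F.presheaf.stalk x)) 0 := by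
      intro h0
      have := isZero_of_hasProjectiveDimensionLT_zero
        (ModuleCat.of (X.presheaf.stalk x) (F.presheaf.stalk x))
      exact not_subsingleton _ (ModuleCat.subsingleton_of_isZero this)
    have hAB := H87AB.auslander_buchsbaum' (F.presheaf.stalk x) 0 h1 h2
    rw [Nat.cast_zero, zero_add] at hAB
    rw [← hAB]
    exact (H87AB.depth_self_of_isRegularLocalRing _).symm

end Groth.Agent.S0828
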