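import Groth.Statements.S0829
import Groth.Agent.Lib.FormalEasyLeftC20

set_option autoImplicit false
universe u
open Formal2

namespace Groth.Agent.S0829

open CategoryTheory in
theorem aux {C : Type*} [Category C] {M0 M1 M1' F1 G0 G1 G1' : C} (πM : M0 ⟶ M1) (πM' : M0 ⟶ M1')
    (πG : G0 ⟶ G1) (πG' : G0 ⟶ G1') (eMh : M1 ⟶ M1') (eGh : G1 ⟶ G1') (bi : M1' ⟶ F1) (αn : F1 ⟶ G1)
    (a : M0 ⟶ G0) (h1 : πM ≫ eMh = πM') (h3 : πG ≫ eGh = πG') [Mono eGh]
    (h : πM' ≫ bi ≫ αn ≫ eGh = a ≫ πG') : πM ≫ (eMh ≫ bi) ≫ αn = a ≫ πG := by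
  rw [← cancel_mono eGh, Category.assoc, Category.assoc, Category.assoc, Category.assoc, h3, ← h,
    ← h1, Category.assoc]

open CategoryTheory CategoryTheory.Limits AlgebraicGeometry Opposite in
/-- Let A be a ring, I ⊆ A an ideal and X a Noetherian scheme over Spec A; inverse systems are indexed
so that position n holds the quotient by I^(n+1). Let G be a coherent O_X-module, (F_n) a coherent
formal module for I (every F_n coherent and killed by I^(n+1), with transition maps inducing
isomorphisms F_{n+1}/I^(n+1)F_{n+1} ≅ F_n), and α : (F_n) → (G/I^(n+1)G) a map of inverse systems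
such that one fixed power of I kills the kernel and the cokernel of every component α_n. Then there
are a coherent O_X-module F, a map a : F → G whose kernel and cokernel are killed by a power of I,
and an isomorphism of systems β : (F_n) ≅ (F/I^(n+1)F) under which α becomes the map of systems
induced by a: for every n, the projection F → F/I^(n+1)F followed by β_n⁻¹ and then α_n equals a
followed by the projection G → G/I^(n+1)G. (The published statement also asserts uniqueness of (F,
a, β) and has a further part; only existence is stated here.) -/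
theorem result (A : Type u) [CommRing A] (I : Ideal A) (X : Scheme.{u})
    [X.Over (Spec (CommRingCat.of A))] [IsNoetherian X] (G : X.Modules) (hG : Coh.IsCoh G)
    (F : ℕᵒᵖ ⥤ X.Modules) (hF : Formal.IsCohFormal I F) (α : F ⟶ Formal.completion I G)
    (hα : Formal2.KerCokerKilledByIPow I α) :
    ∃ (F' : X.Modules) (a : F' ⟶ G) (β : F ≅ Formal.completion I F'), Coh.IsCoh F' ∧
      Formal2.KerCokerKilledByIPowHom I a ∧
      ∀ n : ℕ, Formal.modPowπ I (n + 1) F' ≫ β.inv.app (op n) ≫ α.app (op n) = a ≫ Formal.modPowπ I (n + 1) G := by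
  obtain ⟨I', hle, hfg, hred⟩ := Groth.Agent.Lib.FormalFGRed20.exists_fg_le (X := X) I
  obtain ⟨eG, heG⟩ := Groth.Agent.Lib.FormalFGRed20.exists_completion_iso_of_red hle hred G
  obtain ⟨t, ht⟩ := hα
  have hF' := (Groth.Agent.Lib.FormalFGRed20.isCohFormal_iff hle hred F).1 hF
  have hmono : ∀ n, Mono (eG.hom.app (op n)) := fun n => by
    have : IsIso (eG.hom.app (op n)) := inferInstance
    infer_instance
  have hα' : ∀ n, Formal.KilledBy (I' ^ (t + 1)) (Limits.kernel ((α ≫ eG.hom).app (op n))) ∧
      Formal.KilledBy (I' ^ (t + 1)) (Limits.cokernel ((α ≫ eG.hom).app (op n))) := by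
    intro n
    have := hmono n
    have : IsIso (eG.hom.app (op n)) := inferInstance
    constructor
    · rw [← Groth.Agent.Lib.FormalFGRed20.killedBy_iff hle hred]
      rw [NatTrans.comp_app]
      have h0 : Limits.kernel.ι (α.app (op n) ≫ eG.hom.app (op n)) ≫ α.app (op n) = 0 := by
        rw [← cancel_mono (eG.hom.app (op n)), Limits.zero_comp, Category.assoc, Limits.kernel.condition]
      have : Mono (Limits.kernel.lift (α.app (op n)) _ h0) :=
        mono_of_mono_fac (Limits.kernel.lift_ι (α.app (op n)) _ h0)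
      exact Groth.Agent.Lib.FormalEasyLeftC20.killedBy_of_mono _ (Limits.kernel.lift (α.app (op n)) _ h0) (ht n).1
    · rw [← Groth.Agent.Lib.FormalFGRed20.killedBy_iff hle hred]
      rw [NatTrans.comp_app]
      exact Groth.Agent.Lib.FormalEasyLeftC20.killedBy_cokernel_comp_iso _ _ _ (ht n).2
  obtain ⟨M, a, β', hM, hk, hc, hcompat⟩ :=
    Groth.Agent.Lib.FormalEasyLeftC20.exists_of_fg hfg hG hF' (α ≫ eG.hom) t hα'
  obtain ⟨eM, heM⟩ := Groth.Agent.Lib.FormalFGRed20.exists_completion_iso_of_red hle hred M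
  refine ⟨M, a, β' ≪≫ eM.symm, hM, ⟨t, (Groth.Agent.Lib.FormalFGRed20.killedBy_iff hle hred _ _).2 hk,
    (Groth.Agent.Lib.FormalFGRed20.killedBy_iff hle hred _ _).2 hc⟩, fun n => ?_⟩
  have := hmono n
  exact @aux _ _ _ _ _ _ _ _ _ (Formal.modPowπ I (n + 1) M) (Formal.modPowπ I' (n + 1) M)
    (Formal.modPowπ I (n + 1) G) (Formal.modPowπ I' (n + 1) G) (eM.hom.app (op n)) (eG.hom.app (op n))
    (β'.inv.app (op n)) (α.app (op n)) a (heM n) (heG n) (hmono n) (hcompat n)

end Groth.Agent.S0829
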