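import Groth.Statements.S0833
import Groth.Agent.Lib.FormalFFTors20

set_option autoImplicit false
universe u
open Formal2

namespace Groth.Agent.S0833

open CategoryTheory in
theorem aux {C : Type*} [Category C] {F0 F1 F1' G0 G1 G1' : C} (πF : F0 ⟶ F1) (πF' : F0 ⟶ F1')
    (πG : G0 ⟶ G1) (πG' : G0 ⟶ G1') (eFh : F1 ⟶ F1') (eFi : F1' ⟶ F1) (eGh : G1 ⟶ G1') (ψn : F1 ⟶ G1)
    (φ : F0 ⟶ G0) (h1 : πF ≫ eFh = πF') (h2 : eFh ≫ eFi = 𝟙 _) (h3 : πG ≫ eGh = πG') [Mono eGh] :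
    πF ≫ ψn = φ ≫ πG ↔ πF' ≫ (eFi ≫ ψn ≫ eGh) = φ ≫ πG' := by
  have h4 : πF' ≫ eFi = πF := by rw [← h1, Category.assoc, h2, Category.comp_id]
  rw [← Category.assoc, h4, ← h3, ← Category.assoc, ← Category.assoc, cancel_mono]

open CategoryTheory AlgebraicGeometry Opposite in
/-- The assertion on homomorphisms, for the ideal sheaf I·O_X of an ideal I of a base ring A. Let X be a
Noetherian scheme over Spec A and F, G coherent O_X-modules one of which is annihilated by a power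
of I. Then every map of systems (F/I^nF) → (G/I^nG) is induced by exactly one map F → G. (The
assertion on Ext groups is not stated.) -/
theorem result (A : Type u) [CommRing A] (I : Ideal A) (X : Scheme.{u})
    [X.Over (Spec (CommRingCat.of A))] [IsNoetherian X] (F G : X.Modules) (hF : Coh.IsCoh F) (hG : Coh.IsCoh G)
    (hc : ∃ c : ℕ, Formal.KilledBy (I ^ c) F ∨ Formal.KilledBy (I ^ c) G)
    (ψ : Formal.completion I F ⟶ Formal.completion I G) :
    ∃! φ : F ⟶ G, ∀ n : ℕ, Formal.modPowπ I (n + 1) F ≫ ψ.app (op n) = φ ≫ Formal.modPowπ I (n + 1) G := by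
  obtain ⟨I', hle, hfg, hred⟩ := Groth.Agent.Lib.FormalFGRed20.exists_fg_le (X := X) I
  obtain ⟨eF, heF⟩ := Groth.Agent.Lib.FormalFGRed20.exists_completion_iso_of_red hle hred F
  obtain ⟨eG, heG⟩ := Groth.Agent.Lib.FormalFGRed20.exists_completion_iso_of_red hle hred G
  have hmain : ∃! φ : F ⟶ G, ∀ n : ℕ,
      Formal.modPowπ I' (n + 1) F ≫ (eF.inv ≫ ψ ≫ eG.hom).app (op n) =
        φ ≫ Formal.modPowπ I' (n + 1) G := by
    obtain ⟨c, hc | hc⟩ := hc
    · exact Groth.Agent.Lib.FormalFFTors20.existsUnique_of_killedBy_source hfg hF hG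
        ((Groth.Agent.Lib.FormalFGRed20.killedBy_iff hle hred c F).1 hc) (eF.inv ≫ ψ ≫ eG.hom)
    · exact Groth.Agent.Lib.FormalFFTors20.existsUnique_of_killedBy_target
        ((Groth.Agent.Lib.FormalFGRed20.killedBy_iff hle hred c G).1 hc) (eF.inv ≫ ψ ≫ eG.hom)
  have hiff : ∀ (φ : F ⟶ G) (n : ℕ),
      (Formal.modPowπ I (n + 1) F ≫ ψ.app (op n) = φ ≫ Formal.modPowπ I (n + 1) G) ↔
      (Formal.modPowπ I' (n + 1) F ≫ (eF.inv ≫ ψ ≫ eG.hom).app (op n) =
        φ ≫ Formal.modPowπ I' (n + 1) G) := by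
    intro φ n
    have hm : Mono (eG.hom.app (op n)) := by
      haveI : IsIso (eG.hom.app (op n)) := inferInstance
      infer_instance
    have hid : eF.hom.app (op n) ≫ eF.inv.app (op n) = 𝟙 _ := by
      rw [← NatTrans.comp_app, eF.hom_inv_id]
      rfl
    exact @aux _ _ _ _ _ _ _ _ (Formal.modPowπ I (n + 1) F) (Formal.modPowπ I' (n + 1) F)
      (Formal.modPowπ I (n + 1) G)
      (Formal.modPowπ I' (n + 1) G) (eF.hom.app (op n)) (eF.inv.app (op n)) (eG.hom.app (op n))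
      (ψ.app (op n)) φ (heF n) hid (heG n) hm
  obtain ⟨φ, hφ, hφu⟩ := hmain
  exact ⟨φ, fun n => (hiff φ n).2 (hφ n), fun φ' hφ' => hφu φ' (fun n => (hiff φ' n).1 (hφ' n))⟩

end Groth.Agent.S0833
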