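import Groth.Statements.S0834
import Groth.Agent.Lib.FormalKernel20
import Groth.Agent.Lib.FormalFGRed20

set_option autoImplicit false
universe u
open Formal2

namespace Groth.Agent.S0834

open CategoryTheory CategoryTheory.Limits AlgebraicGeometry in
/-- Let A be a ring, I ⊆ A an ideal and X a Noetherian scheme over Spec A. Then the full subcategory of
inverse systems of 𝒪_X-modules formed by the coherent formal modules for the ideal sheaf I·𝒪_X has
kernels. (This is the kernel half of the statement that this category is abelian; cokernels are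
componentwise, and abelianness itself is not asserted here.) -/
theorem result (A : Type u) [CommRing A] (I : Ideal A) (X : Scheme.{u})
    [X.Over (Spec (CommRingCat.of A))] [IsNoetherian X] : HasKernels (Formal2.CohFormalCat I X) := by
  obtain ⟨I', hle, hfg, hred⟩ := Groth.Agent.Lib.FormalFGRed20.exists_fg_le (X := X) I
  have hP : (fun G : ℕᵒᵖ ⥤ X.Modules => Formal.IsCohFormal I G) =
      (fun G : ℕᵒᵖ ⥤ X.Modules => Formal.IsCohFormal I' G) :=
    funext fun G => propext (Groth.Agent.Lib.FormalFGRed20.isCohFormal_iff hle hred G)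
  change HasKernels (ObjectProperty.FullSubcategory
    (fun G : ℕᵒᵖ ⥤ X.Modules => Formal.IsCohFormal I G))
  rw [hP]
  refine ⟨fun {F G} ρ => ?_⟩
  obtain ⟨K, κ, hK, hκ, huniv⟩ :=
    Groth.Agent.Lib.FormalKernel20.exists_formal_kernel_general hfg F.property G.property ρ.hom
  let K' : ObjectProperty.FullSubcategory (fun G : ℕᵒᵖ ⥤ X.Modules => Formal.IsCohFormal I' G) :=
    ⟨K, hK⟩
  let κ' : K' ⟶ F := ObjectProperty.homMk κ
  have w : κ' ≫ ρ = 0 := by
    ext : 1
    exact hκ
  have hT : ∀ (s : KernelFork ρ), ∃! l : s.pt ⟶ K', l ≫ κ' = s.ι := by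
    intro s
    have hs : s.ι.hom ≫ ρ.hom = 0 := by
      have := congrArg (fun φ => φ.hom) s.condition
      exact this
    obtain ⟨l, hl, hlu⟩ := huniv s.pt.obj s.pt.property s.ι.hom hs
    refine ⟨ObjectProperty.homMk l, ?_, fun l' hl' => ?_⟩
    · ext : 1
      exact hl
    · ext : 1
      exact hlu l'.hom (congrArg (fun φ => φ.hom) hl')
  exact ⟨⟨⟨KernelFork.ofι κ' w, KernelFork.IsLimit.ofι κ' w
    (fun {T} g hg => (hT (KernelFork.ofι g hg)).choose)
    (fun {T} g hg => (hT (KernelFork.ofι g hg)).choose_spec.1)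
    (fun {T} g hg m hm => (hT (KernelFork.ofι g hg)).choose_spec.2 m hm)⟩⟩⟩

end Groth.Agent.S0834
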