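import Groth.Statements.S0847
import Groth.Agent.Lib.H78SerreVan
import Groth.Agent.Lib.H4TwistAdjoin
import Groth.Agent.Lib.H4TwistMul
import Groth.Agent.Lib.ProjQuotTwist
import Groth.Agent.Lib.GradedNoetherian
import Groth.Agent.Lib.GrModFTn
import Groth.Agent.Lib.GrTwistTilde
import Groth.Agent.Lib.CohFinAmple

set_option autoImplicit false
universe u
open Coherent

namespace Groth.Agent.S0847

section Helpers

open AlgebraicGeometry CategoryTheory CategoryTheory.Limits Groth.Agent.Lib.OXModTensor Twist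
  Groth.Agent.Lib.H4Twist

variable {R A : Type u} [CommRing R] [CommRing A] [Algebra R A]
    (𝒜 : ℕ → Submodule R A) [GradedAlgebra 𝒜]

/-- every twisting sheaf on `Proj` of a Noetherian graded ring is coherent (via helper28's `GrMod.tilde` finiteness;
the frozen `Twist.twist` and `GrTwist.twist` agree definitionally for gradings by submodules) -/
theorem isCoh_twist [IsNoetherianRing A] (n : ℤ) : Coh.IsCoh (twist 𝒜 n) := by
  have e : GrTwist.twist 𝒜 n ≅ GrMod.tilde 𝒜 𝒜 n := Groth.Agent.Lib.GrTwistTilde.twistTildeIso 𝒜 n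
  have h1 : Coh.IsCoh (GrMod.tilde 𝒜 𝒜 n) :=
    ⟨Groth.Agent.Lib.GrModQCoh.isQCoh_tilde (𝒜 := 𝒜) (ℳ := 𝒜) n,
      Groth.Agent.Lib.GrModFTn.isFT_tilde_of_noetherian (𝒜 := 𝒜) (ℳ := 𝒜) n⟩
  exact Groth.Agent.Lib.CohFinAmple.isCoh_of_iso e.symm h1

/-- `O(D)^{⊗ q} ≅ O(q D)` when `Proj 𝒜` is covered in degree `D` -/
theorem nonempty_powIso (D : ℕ)
    (hcov : ∀ x : ProjectiveSpectrum 𝒜, ∃ f ∈ 𝒜 D, f ∉ x.asHomogeneousIdeal) (q : ℕ) :
    Nonempty (CohB1.tensorPow (twist 𝒜 (D : ℤ)) q ≅ twist 𝒜 ((q : ℤ) * (D : ℤ))) := by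
  induction q with
  | zero =>
    obtain ⟨e⟩ := nonempty_twistZeroIso 𝒜
    exact ⟨e.symm ≪≫ eqToIso (congrArg (twist 𝒜) (by simp))⟩
  | succ q ih =>
    obtain ⟨e⟩ := ih
    exact ⟨tensorModIso e (Iso.refl _) ≪≫ twistMulIsoLeft 𝒜 D hcov (q : ℤ) (D : ℤ) ≪≫
      eqToIso (congrArg (twist 𝒜) (by push_cast; ring))⟩

/-- `(F ⊗ O(r)) ⊗ O(D)^{⊗ q} ≅ F ⊗ O(q D + r)` -/
theorem nonempty_twistBy_iso (D : ℕ)
    (hcov : ∀ x : ProjectiveSpectrum 𝒜, ∃ f ∈ 𝒜 D, f ∉ x.asHomogeneousIdeal)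
    (F : (Proj 𝒜).Modules) (q : ℕ) (r : ℤ) :
    Nonempty (CohB1.tensorMod (CohB1.tensorMod F (twist 𝒜 r)) (CohB1.tensorPow (twist 𝒜 (D : ℤ)) q) ≅
      CohB1.tensorMod F (twist 𝒜 ((q : ℤ) * (D : ℤ) + r))) := by
  obtain ⟨e⟩ := nonempty_powIso 𝒜 D hcov q
  exact ⟨tensorModIso (Iso.refl _) e ≪≫ associator _ _ _ ≪≫
    tensorModIso (Iso.refl F) (braiding _ _ ≪≫ twistMulIsoLeft 𝒜 D hcov (q : ℤ) r)⟩

end Helpers


open CategoryTheory AlgebraicGeometry in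
/-- Let A be a Noetherian graded ring (graded by ℕ as an R-algebra), X = Proj A, F a coherent O_X-module
and p > 0. Then the twists F(d) = F ⊗ O_X(d) have vanishing H^p for every sufficiently large d. -/
theorem result {R A : Type u} [CommRing R] [CommRing A] [Algebra R A]
    (𝒜 : ℕ → Submodule R A) [GradedAlgebra 𝒜] [IsNoetherianRing A] (F : (Proj 𝒜).Modules) (hF : Coh.IsCoh F)
    (p : ℕ) (hp : 0 < p) :
    ∃ d₀ : ℤ, ∀ d : ℤ, d₀ ≤ d → Subsingleton (Coh.HH (Proj 𝒜) (Twist.twistBy 𝒜 F d) p) := by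
  classical
  obtain ⟨D, hD, hcov⟩ := Groth.Agent.Lib.ProjQuotTwist.exists_deg_cover 𝒜
  haveI : Algebra.FiniteType (𝒜 0) A := Groth.Agent.Lib.GradedNoetherian.finiteType_of_isNoetherianRing 𝒜
  haveI : CompactSpace (Proj 𝒜) := QuasiCompact.compactSpace_of_compactSpace (Proj.toSpecZero 𝒜)
  have hL : CohB1.IsAmple (Twist.twist 𝒜 (D : ℤ)) :=
    Groth.Agent.Lib.H4Twist.isAmple_twist_of_cover_deg 𝒜 D hD hcov
  have key : ∀ r : Fin D, ∃ n₀ : ℕ, ∀ n, n₀ ≤ n → ∀ p : ℕ, 0 < p →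
      Subsingleton (Coh.HH (Proj 𝒜) (CohB1.tensorMod (CohB1.tensorMod F (Twist.twist 𝒜 ((r : ℕ) : ℤ)))
        (CohB1.tensorPow (Twist.twist 𝒜 (D : ℤ)) n)) p) := fun r =>
    Groth.Agent.Lib.H78SerreVan.serre_vanishing_of_isAmple (R := 𝒜 0) (Proj.toSpecZero 𝒜) hL _
      (Groth.Agent.Lib.CohFinAmple.isCoh_tensorMod hF (isCoh_twist 𝒜 _))
  choose n₀ hn₀ using key
  refine ⟨((Finset.univ.sup n₀ : ℕ) : ℤ) * (D : ℤ), fun d hd => ?_⟩
  have hDpos : (0 : ℤ) < (D : ℤ) := by exact_mod_cast hD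
  -- division with remainder
  have hq0 : ((Finset.univ.sup n₀ : ℕ) : ℤ) ≤ d / (D : ℤ) := by
    rw [Int.le_ediv_iff_mul_le hDpos]
    exact hd
  have hr0 : 0 ≤ d % (D : ℤ) := Int.emod_nonneg d hDpos.ne'
  have hr1 : d % (D : ℤ) < (D : ℤ) := Int.emod_lt_of_pos d hDpos
  obtain ⟨q, hq⟩ : ∃ q : ℕ, d / (D : ℤ) = (q : ℤ) :=
    ⟨(d / (D : ℤ)).toNat, by
      have : 0 ≤ d / (D : ℤ) := le_trans (by positivity) hq0
      omega⟩
  obtain ⟨r, hr⟩ : ∃ r : Fin D, d % (D : ℤ) = ((r : ℕ) : ℤ) :=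
    ⟨⟨(d % (D : ℤ)).toNat, by omega⟩, by simp; omega⟩
  have hd' : d = (q : ℤ) * (D : ℤ) + ((r : ℕ) : ℤ) := by
    rw [← hq, ← hr, mul_comm]
    exact (Int.mul_ediv_add_emod d D).symm
  have hqn : n₀ r ≤ q := by
    have h1 : n₀ r ≤ Finset.univ.sup n₀ := Finset.le_sup (Finset.mem_univ r)
    have h2 : ((Finset.univ.sup n₀ : ℕ) : ℤ) ≤ (q : ℤ) := by rw [← hq]; exact hq0
    exact le_trans h1 (by exact_mod_cast h2)
  haveI := hn₀ r q hqn p hp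
  obtain ⟨e⟩ := nonempty_twistBy_iso 𝒜 D hcov F q ((r : ℕ) : ℤ)
  rw [hd']
  exact Groth.Agent.Lib.CohLES.subsingleton_of_iso e.symm p

end Groth.Agent.S0847
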