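import Groth.Statements.S0856
import Mathlib.Algebra.Category.ModuleCat.Presheaf.Generator
import Mathlib.Algebra.Category.ModuleCat.Presheaf.Sheafification
import Mathlib.CategoryTheory.Preadditive.Injective.Basic

set_option autoImplicit false
universe u
open CategoryTheory
open CohSite

namespace Groth.Agent.S0856

open Opposite in
/-- Let (C, O) be a ringed site, a : U' -> U a monomorphism of C and I an injective sheaf of O-modules.
Then the restriction map I(U) -> I(U') is surjective. -/
theorem result {C : Type u} [SmallCategory C]
    {J : GrothendieckTopology C} (O : Sheaf J RingCat.{u}) (I : SheafOfModules.{u} O) [Injective I]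
    {U U' : C} (a : U' ⟶ U) [Mono a] : Function.Surjective (I.val.map a.op) := by
  intro x
  let R := (SheafOfModules.forget O ⋙ PresheafOfModules.restrictScalars (𝟙 O.obj)).obj I
  have : Injective R :=
    Injective.injective_of_adjoint (PresheafOfModules.sheafificationAdjunction (𝟙 O.obj)) I
  let m : (PresheafOfModules.free O.obj).obj (yoneda.obj U') ⟶
      (PresheafOfModules.free O.obj).obj (yoneda.obj U) :=
    (PresheafOfModules.free O.obj).map (yoneda.map a)
  have : Mono m := by
    apply PresheafOfModules.mono_of_injective
    intro X
    have hinj : Function.Injective ((yoneda.map a).app X) := by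
      intro f₁ f₂ hf
      exact (cancel_mono a).1 hf
    exact Finsupp.mapDomain_injective hinj
  let g : (PresheafOfModules.free O.obj).obj (yoneda.obj U') ⟶ R :=
    PresheafOfModules.freeYonedaEquiv.symm x
  let h := Injective.factorThru g m
  have hfac : m ≫ h = g := Injective.comp_factorThru g m
  refine ⟨PresheafOfModules.freeYonedaEquiv h, ?_⟩
  have hx : PresheafOfModules.freeYonedaEquiv g = x := Equiv.apply_symm_apply _ _
  rw [← hx, ← hfac]
  have h1 : PresheafOfModules.freeYonedaEquiv (m ≫ h) =
      h.app (op U') (ModuleCat.freeMk (show (yoneda.obj U).obj (op U') from a)) := by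
    have : m.app (op U') (ModuleCat.freeMk (𝟙 U')) =
        ModuleCat.freeMk (show (yoneda.obj U).obj (op U') from a) := by
      have := ModuleCat.free_map_apply (R := O.obj.obj (op U')) ((yoneda.map a).app (op U')) (𝟙 U')
      rw [show ((yoneda.map a).app (op U')) (𝟙 U') = a from Category.id_comp a] at this
      exact this
    change h.app (op U') (m.app (op U') (ModuleCat.freeMk (𝟙 U'))) = _
    rw [this]
  rw [h1]
  have h2 := PresheafOfModules.naturality_apply h a.op (ModuleCat.freeMk (𝟙 U))
  have h3 : (((PresheafOfModules.free O.obj).obj (yoneda.obj U)).map a.op) (ModuleCat.freeMk (𝟙 U)) =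
      ModuleCat.freeMk (show (yoneda.obj U).obj (op U') from a) := by
    have := ModuleCat.freeDesc_apply (R := O.obj.obj (op U))
      (M := (ModuleCat.restrictScalars (O.obj.map a.op).hom).obj
        ((ModuleCat.free (O.obj.obj (op U'))).obj ((yoneda.obj U).obj (op U'))))
      (↾fun x ↦ ModuleCat.freeMk ((yoneda.obj U).map a.op x)) (𝟙 U)
    refine this.trans ?_
    change ModuleCat.freeMk (a ≫ 𝟙 U) = _
    rw [Category.comp_id]
  rw [h3] at h2
  exact h2.symm

end Groth.Agent.S0856
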