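import Groth.Statements.S0857
import Mathlib.Algebra.Homology.DerivedCategory.Ext.ExactSequences
import Mathlib.Algebra.Homology.DerivedCategory.Ext.EnoughInjectives
import Mathlib.CategoryTheory.Abelian.GrothendieckCategory.EnoughInjectives

set_option autoImplicit false
universe u
open CategoryTheory
open CohSite

namespace Groth.Agent.S0857

open Opposite CategoryTheory.Limits Abelian

universe w v' u'

section General

variable {A : Type u'} [Category.{v'} A] [Abelian A] [EnoughInjectives A]
  {I : Type w} (F : I → A)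

/-- The short complex `F i ⟶ J i ⟶ Q i` for a chosen injective embedding. -/
noncomputable def sc (i : I) : ShortComplex A :=
  ShortComplex.mk (Injective.ι (F i)) (cokernel.π (Injective.ι (F i))) (cokernel.condition _)

instance (i : I) : Mono (sc F i).f := by dsimp [sc]; infer_instance

lemma sc_shortExact (i : I) : (sc F i).ShortExact where
  exact := ShortComplex.exact_cokernel _
  mono_f := by dsimp [sc]; infer_instance
  epi_g := by dsimp [sc]; infer_instance

variable [HasProductsOfShape I A]

/-- The product of the chosen injective embeddings. -/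
noncomputable def ιP : ∏ᶜ F ⟶ ∏ᶜ (fun i => Injective.under (F i)) :=
  Limits.Pi.map (fun i => Injective.ι (F i))

instance : Mono (ιP F) := by
  unfold ιP
  infer_instance

/-- The short complex `∏ F ⟶ ∏ J ⟶ Q`. -/
noncomputable def scP : ShortComplex A :=
  ShortComplex.mk (ιP F) (cokernel.π (ιP F)) (cokernel.condition _)

lemma scP_shortExact : (scP F).ShortExact where
  exact := ShortComplex.exact_cokernel _
  mono_f := by dsimp [scP]; infer_instance
  epi_g := by dsimp [scP]; infer_instance

/-- The projection from the product short complex to the `i`-th one. -/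
noncomputable def scMap (i : I) : scP F ⟶ sc F i where
  τ₁ := Pi.π _ i
  τ₂ := Pi.π _ i
  τ₃ := cokernel.map _ _ (Pi.π _ i) (Pi.π _ i) (by simp [ιP])
  comm₁₂ := by simp [scP, sc, ιP]
  comm₂₃ := by simp [scP, sc]

lemma eq_zero_of_comp_τ₃ {X : A} (d : X ⟶ (scP F).X₃) (hd : ∀ i, d ≫ (scMap F i).τ₃ = 0) :
    d = 0 := by
  have hp1 : Epi (pullback.fst d (scP F).g) := by
    have : Epi (scP F).g := (scP_shortExact F).epi_g
    exact Abelian.epi_pullback_of_epi_g d (scP F).g
  rw [← cancel_epi (pullback.fst d (scP F).g), comp_zero, pullback.condition]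
  have hr : ∀ i, (pullback.snd d (scP F).g ≫ (scMap F i).τ₂) ≫ (sc F i).g = 0 := by
    intro i
    rw [Category.assoc, (scMap F i).comm₂₃, ← Category.assoc, ← pullback.condition,
      Category.assoc, hd i, comp_zero]
  let r : pullback d (scP F).g ⟶ (scP F).X₁ :=
    Pi.lift (fun i => (sc_shortExact F i).exact.lift _ (hr i))
  have hr1 : ∀ i, r ≫ (scMap F i).τ₁ = (sc_shortExact F i).exact.lift _ (hr i) := by
    intro i
    exact Pi.lift_π _ i
  have hr2 : r ≫ (scP F).f = pullback.snd d (scP F).g := by
    refine Pi.hom_ext (f := fun i => Injective.under (F i)) _ _ (fun i => ?_)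
    change (r ≫ (scP F).f) ≫ (scMap F i).τ₂ = pullback.snd d (scP F).g ≫ (scMap F i).τ₂
    rw [Category.assoc, ← (scMap F i).comm₁₂, ← Category.assoc, hr1]
    exact (sc_shortExact F i).exact.lift_f _ (hr i)
  rw [← hr2, Category.assoc, (scP F).zero, comp_zero]

variable [HasExt.{w} A]

lemma ext_pi_eq_zero (X : A) (x : Ext X (scP F).X₁ 1)
    (hx : ∀ i, x.comp (Ext.mk₀ (scMap F i).τ₁) (add_zero 1) = 0) : x = 0 := by
  have : Injective (scP F).X₂ := by
    dsimp [scP]
    infer_instance
  have h1 : x.comp (Ext.mk₀ (scP F).f) (add_zero 1) = 0 := Ext.eq_zero_of_injective _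
  obtain ⟨y, rfl⟩ := Ext.covariant_sequence_exact₁ X (scP_shortExact F) x h1 (zero_add 1)
  obtain ⟨g, rfl⟩ := (Ext.mk₀_bijective _ _).surjective y
  have h2 : ∀ i, ∃ hi : X ⟶ (sc F i).X₂, hi ≫ (sc F i).g = g ≫ (scMap F i).τ₃ := by
    intro i
    have h3 := hx i
    rw [Ext.comp_assoc_of_third_deg_zero,
      ShortComplex.ShortExact.extClass_naturality (scP_shortExact F) (sc_shortExact F i)
        (scMap F i), Ext.mk₀_comp_mk₀_assoc] at h3
    obtain ⟨z, hz⟩ := Ext.covariant_sequence_exact₃ X (sc_shortExact F i) _ (zero_add 1) h3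
    obtain ⟨hi, rfl⟩ := (Ext.mk₀_bijective _ _).surjective z
    refine ⟨hi, ?_⟩
    rw [Ext.mk₀_comp_mk₀] at hz
    exact (Ext.mk₀_bijective _ _).injective hz
  choose hi hhi using h2
  let l : X ⟶ (scP F).X₂ := Pi.lift hi
  have hl : ∀ i, l ≫ (scMap F i).τ₂ = hi i := fun i => Pi.lift_π _ i
  have h4 : l ≫ (scP F).g = g := by
    rw [← sub_eq_zero]
    apply eq_zero_of_comp_τ₃
    intro i
    rw [Preadditive.sub_comp, Category.assoc, ← (scMap F i).comm₂₃, ← Category.assoc, hl, hhi,
      sub_self]
  rw [← h4, ← Ext.mk₀_comp_mk₀, Ext.comp_assoc_of_second_deg_zero,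
    ShortComplex.ShortExact.comp_extClass, Ext.comp_zero]

lemma ext_pi_injective (X : A) :
    Function.Injective (fun (x : Ext X (∏ᶜ F) 1) (i : I) =>
      x.comp (Ext.mk₀ (Pi.π F i)) (add_zero 1)) := by
  intro x y hxy
  rw [← sub_eq_zero]
  refine ext_pi_eq_zero F X (x - y) (fun i => ?_)
  have h := congrFun hxy i
  dsimp only at h
  change (x - y).comp (Ext.mk₀ (Pi.π F i)) (add_zero 1) = 0
  rw [sub_eq_add_neg, Ext.add_comp, Ext.neg_comp, h, add_neg_cancel]

end General

open Opposite CategoryTheory.Limits in
/-- For a family of abelian sheaves F_i on a site and an object U, the map H^1(U, ∏ F_i) -> ∏ H^1(U,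
F_i) induced by the projections is injective. (The degree-zero part of the published statement, that
sections of a product are the product of sections, is not restated.) -/
theorem result {C : Type u} [SmallCategory C] {J : GrothendieckTopology C}
    {I : Type u} (F : I → Sheaf J AddCommGrpCat.{u}) (U : C) :
    Function.Injective (fun (x : CohSite.HU (∏ᶜ F) 1 U) (i : I) =>
      (((Sheaf.cohomologyPresheafFunctor J 1).map (Pi.π F i)).app (op U)).hom x) := by
  exact ext_pi_injective F _

end Groth.Agent.S0857
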