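import Groth.Statements.S0860
import Groth.Agent.Lib.CechTransfer
import Groth.Agent.Lib.OverPostProducts
import Groth.Agent.S0858
import Groth.Agent.S0861

set_option autoImplicit false
universe u
open CategoryTheory
open CohSite

namespace Groth.Agent.S0860

open CategoryTheory.Limits in
/-- Let u : C -> D be a functor between sites with fibre products which sends coverings to coverings,
commutes with fibre products, and is continuous and cocontinuous, and let I be an injective abelian
sheaf on D. Then the sheaf V ↦ I(u(V)) on C (which is the pullback of I along the morphism of topoi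
attached to u) has H^p(U, -) = 0 for all p > 0 and all objects U of C. -/
theorem result {C D : Type u} [SmallCategory C]
    [SmallCategory D] [HasPullbacks C] [HasPullbacks D]
    (J : GrothendieckTopology C) (K : GrothendieckTopology D) (u : C ⥤ D)
    (hu : CoverPreserving J K u) [PreservesLimitsOfShape WalkingCospan u]
    [u.IsContinuous J K] [u.IsCocontinuous J K]
    (I : Sheaf K AddCommGrpCat.{u}) [Injective I] (U : C) (p : ℕ) :
    Subsingleton (CohSite.HU ((CohSite.push K J u).obj I) (p + 1) U) := by
  refine Groth.Agent.S0861.result J Set.univ
    (fun U ι Y => Sieve.ofArrows (fun i => (Y i).left) (fun i => (Y i).hom) ∈ J U) ?_ ?_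
    ((CohSite.push K J u).obj I) ?_ U trivial p
  · exact fun U ι Y hY => ⟨trivial, hY, fun _ _ => trivial⟩
  · intro U _ T hT
    refine ⟨Σ V : C, {f : V ⟶ U // T.arrows f}, fun x => Over.mk x.2.1, ?_, fun x => x.2.2⟩
    refine J.superset_covering ?_ hT
    intro V f hf
    exact Sieve.ofArrows_mk _ _ (⟨V, f, hf⟩ : Σ V : C, {f : V ⟶ U // T.arrows f})
  · intro U ι Y hY q
    have hcov : Sieve.ofArrows (fun i => ((Over.post u).obj (Y i)).left)
        (fun i => ((Over.post u).obj (Y i)).hom) ∈ K (u.obj U) := by
      have := hu.cover_preserve hY
      rwa [Sieve.functorPushforward_ofArrows] at this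
    have key := (Groth.Agent.Lib.CechTransfer.isZero_homology_iff (Over.post u) Y
      ((Over.forget (u.obj U)).op ⋙ I.obj)
      (fun n a => Groth.Agent.Lib.OverPostProducts.isIso_piComparison u _) (q + 1)).1
      (Groth.Agent.S0858.result K I (fun i => (Over.post u).obj (Y i)) hcov q)
    exact key

end Groth.Agent.S0860
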