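import Groth.Statements.S0863
import Groth.Agent.Lib.ModAcyc
import Groth.Agent.Lib.CechAcyc5
import Mathlib.CategoryTheory.Functor.Flat

set_option autoImplicit false
universe u
open CategoryTheory
open CohSite

namespace Groth.Agent.S0863

open CategoryTheory.Limits in
/-- Let C and D be small sites, D having finite limits, and u : D → C a continuous functor that
preserves finite limits and sends coverings to coverings, so that u defines a morphism of sites f :
C → D. Let O_C be a sheaf of rings on C and I an injective object of the category of sheaves of
O_C-modules. Then the abelian sheaf on D underlying f_* I, namely V ↦ I(u(V)), is totally acyclic: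
its cohomology with respect to every sheaf of sets on D vanishes in positive degrees. The published
statement is for a morphism of ringed sites (C, O_C) → (D, O_D); stated here in the case O_D = f_*
O_C, where only the underlying abelian sheaf of f_* I matters. -/
theorem result {C D : Type u} [SmallCategory C] [SmallCategory D]
    [HasFiniteLimits D] (J : GrothendieckTopology C) (K : GrothendieckTopology D) (u : D ⥤ C)
    (hu : CoverPreserving K J u) [PreservesFiniteLimits u] [u.IsContinuous K J]
    (R : Sheaf J RingCat.{u}) (I : SheafOfModules.{u} R) [Injective I] :
    CohCx.IsTotallyAcyclic ((CohSite.push J K u).obj ((SheafOfModules.toSheaf R).obj I)) := by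
  have : RepresentablyFlat u := flat_of_preservesFiniteLimits u
  have : Limits.PreservesFiniteLimits (Groth.Agent.Lib.CechAcyc5.us J K u) := by
    apply Functor.sheafPullbackConstruction.preservesFiniteLimits
  exact Groth.Agent.Lib.CechAcyc5.isTotallyAcyclic_push J K u _
    (Groth.Agent.Lib.ModAcyc.isTotallyAcyclic_of_injective R I)

end Groth.Agent.S0863
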