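import Groth.Statements.S0866
import Mathlib.Topology.Sheaves.SheafOfFunctions

set_option autoImplicit false
universe u
open CategoryTheory
open CohTop

namespace Groth.Agent.S0866

open TopologicalSpace Opposite TopCat

lemma eq_of_bot {Y : TopCat.{u}} (G : TopCat.Sheaf AddCommGrpCat.{u} Y) (W : Opens Y) (hW : W = ⊥)
    (s t : G.obj.obj (op W)) : s = t := by
  subst hW
  exact TopCat.Sheaf.eq_of_locally_eq' G (fun i : PEmpty.{1} => i.elim) ⊥ (fun i => i.elim)
    (by simp) s t (fun i => i.elim)

lemma isFlasque_of_discrete {Y : TopCat.{u}} [DiscreteTopology Y]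
    (G : TopCat.Sheaf AddCommGrpCat.{u} Y) : TopCat.Sheaf.IsFlasque G where
  epi {U V} i := by
    rw [AddCommGrpCat.epi_iff_surjective]
    intro s
    have hVU : V.unop ≤ U.unop := leOfHom i.unop
    let W : Opens Y := ⟨(U.unop : Set Y) \ (V.unop : Set Y), isOpen_discrete _⟩
    have hWU : W ≤ U.unop := fun x hx => hx.1
    let cov : Bool → Opens Y := fun b => cond b V.unop W
    let sf : ∀ b : Bool, G.obj.obj (op (cov b)) := fun b =>
      match b with
      | true => s
      | false => 0
    have hbot : V.unop ⊓ W = ⊥ := by
      ext x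
      simp only [Opens.coe_inf, Opens.coe_bot, Set.mem_inter_iff, Set.mem_empty_iff_false,
        iff_false, not_and]
      intro hx hx'
      exact hx'.2 hx
    have hbot' : W ⊓ V.unop = ⊥ := by rw [inf_comm]; exact hbot
    have hcompat : TopCat.Presheaf.IsCompatible G.obj cov sf := by
      rintro (_ | _) (_ | _)
      · rfl
      · exact eq_of_bot G _ hbot' _ _
      · exact eq_of_bot G _ hbot _ _
      · rfl
    obtain ⟨gl, hgl, -⟩ := TopCat.Sheaf.existsUnique_gluing' G cov U.unop
      (fun b => match b with
        | true => homOfLE hVU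
        | false => homOfLE hWU)
      (by
        intro x hx
        rw [Opens.mem_iSup]
        by_cases hxV : x ∈ V.unop
        · exact ⟨true, hxV⟩
        · exact ⟨false, ⟨hx, hxV⟩⟩) sf hcompat
    refine ⟨gl, ?_⟩
    exact hgl true

lemma mono_unit_of_mono {C D : Type*} [Category C] [Category D] {L : C ⥤ D} {R : D ⥤ C}
    (adj : L ⊣ R) {G : C} {H : D} (φ : G ⟶ R.obj H) (hφ : Mono φ) : Mono (adj.unit.app G) := by
  have h : adj.unit.app G ≫ R.map ((adj.homEquiv G H).symm φ) = φ :=
    (adj.homEquiv_unit (X := G) (Y := H) (f := (adj.homEquiv G H).symm φ)).symm.trans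
      ((adj.homEquiv G H).apply_symm_apply φ)
  have : Mono (adj.unit.app G ≫ R.map ((adj.homEquiv G H).symm φ)) := by rw [h]; exact hφ
  exact mono_of_mono _ (R.map ((adj.homEquiv G H).symm φ))

section

variable {X : TopCat.{u}} (F : CohTop.Ab X)

/-- `X` with the discrete topology -/
abbrev Xd (X : TopCat.{u}) : TopCat.{u} := TopCat.discrete.obj ((forget TopCat).obj X)

/-- the identity map from the discrete space -/
abbrev fd (X : TopCat.{u}) : Xd X ⟶ X := TopCat.adj₁.counit.app X

/-- the family of stalks -/
abbrev stalkFam (x : Xd X) : Type u :=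
  (TopCat.Presheaf.stalk (C := AddCommGrpCat.{u}) F.obj (fd X x) : AddCommGrpCat.{u})

/-- the presheaf of families of germs on the discrete space -/
noncomputable def germsPresheaf : (Opens (Xd X))ᵒᵖ ⥤ AddCommGrpCat.{u} where
  obj V := AddCommGrpCat.of (∀ x : V.unop, stalkFam F x.1)
  map {V W} i := AddCommGrpCat.ofHom
    { toFun := fun s x => s ⟨x.1, leOfHom i.unop x.2⟩
      map_zero' := rfl
      map_add' := fun _ _ => rfl }

lemma germsPresheaf_isSheaf : TopCat.Presheaf.IsSheaf (germsPresheaf F) := by
  rw [TopCat.Presheaf.isSheaf_iff_isSheaf_comp (forget AddCommGrpCat.{u})]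
  exact TopCat.Presheaf.toTypes_isSheaf (Xd X) (fun x => stalkFam F x)

/-- the sheaf of families of germs on the discrete space -/
noncomputable def germsSheaf : CohTop.Ab (Xd X) := ⟨germsPresheaf F, germsPresheaf_isSheaf F⟩

/-- the map sending a section to the family of its germs -/
noncomputable def toGerms : F ⟶ (CohTop.push (fd X)).obj (germsSheaf F) :=
  ⟨{ app := fun U => AddCommGrpCat.ofHom
        { toFun := fun s x => TopCat.Presheaf.germ (C := AddCommGrpCat.{u}) F.obj U.unop (fd X x.1) x.2 s
          map_zero' := by funext x; exact map_zero _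
          map_add' := fun a b => by funext x; exact map_add _ a b }
     naturality := fun U V i => by
        ext s
        funext x
        exact (TopCat.Presheaf.germ_res_apply' (C := AddCommGrpCat.{u}) F.obj
          (U := V.unop) (V := U.unop) i (fd X x.1) x.2 s) }⟩

lemma toGerms_app_injective (U : Opens X) : Function.Injective ((toGerms F).hom.app (op U)) := by
  intro s t hst
  apply TopCat.Presheaf.section_ext F U s t
  intro x hx
  exact congrFun hst ⟨x, hx⟩

instance mono_toGerms : Mono (toGerms F) := by
  have : Mono (toGerms F).hom := by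
    apply (config := { allowSynthFailures := true }) NatTrans.mono_of_mono_app
    intro U
    rw [AddCommGrpCat.mono_iff_injective]
    exact toGerms_app_injective F U.unop
  exact Sheaf.Hom.mono_of_presheaf_mono _ _ _

end

/-- The first step of the Godement resolution, for abelian sheaves: let f : X_disc -> X be the identity
map from X with the discrete topology. For an abelian sheaf F on X, the adjunction unit F -> f_*
f^{-1} F is a monomorphism and f_* f^{-1} F is a flasque sheaf. (The source builds the whole
functorial flasque resolution by iterating f_* f^{-1} and proves it is a stalkwise homotopy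
equivalence; only this first step is asserted here.) -/
theorem result {X : TopCat.{u}} (F : CohTop.Ab X) :
    Mono ((TopCat.Sheaf.pullbackPushforwardAdjunction AddCommGrpCat.{u}
      (TopCat.adj₁.counit.app X)).unit.app F) ∧
    TopCat.Sheaf.IsFlasque ((CohTop.push (TopCat.adj₁.counit.app X)).obj
      ((CohTop.pull (TopCat.adj₁.counit.app X)).obj F)) := by
  constructor
  · exact mono_unit_of_mono
      (TopCat.Sheaf.pullbackPushforwardAdjunction AddCommGrpCat.{u} (fd X))
      (G := F) (H := germsSheaf F) (toGerms F) (mono_toGerms F)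
  · have := isFlasque_of_discrete ((CohTop.pull (fd X)).obj F)
    exact TopCat.Sheaf.IsFlasque.pushforward_isFlasque _ _

end Groth.Agent.S0866
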