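import Groth.Statements.S0871
import Groth.Agent.Lib.DerivedAdjunction
import Groth.Agent.Lib.OpenShriek
import Groth.Agent.Lib.FlasqueAcyclic
import Groth.Agent.S0463

set_option autoImplicit false
universe u
open CategoryTheory
open CohTop

namespace Groth.Agent.S0871

section Helpers

open Limits Opposite TopologicalSpace Groth.Agent.Lib.OpenShriek Groth.Agent.Lib.FlasqueAcyclic

variable {X : TopCat.{u}} (U : Opens X)

/-- maps out of `j_! ℤ[h_⊤]` are sections over `U` -/
noncomputable def e3 (M : CohTop.Ab X) :
    ((shriek U).obj (freeSh (⊤ : Opens (TopCat.of U))) ⟶ M) ≃ M.obj.obj (op U) :=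
  ((shriekAdj U).homEquiv _ M).trans
    ((homEquiv (⊤ : Opens (TopCat.of U)) ((CohTop.restrFunctor U).obj M)).trans
      (M.obj.mapIso (eqToIso (Groth.Agent.S0463.jF_top U)).op).addCommGroupIsoToAddEquiv.toEquiv)

lemma e3_comp {M M' : CohTop.Ab X} (f : (shriek U).obj (freeSh (⊤ : Opens (TopCat.of U))) ⟶ M)
    (g : M ⟶ M') : e3 U M' (f ≫ g) = g.hom.app (op U) (e3 U M f) := by
  simp only [e3, Equiv.trans_apply]
  rw [Adjunction.homEquiv_naturality_right, homEquiv_comp]
  exact (ConcreteCategory.congr_hom (g.hom.naturality (eqToHom (Groth.Agent.S0463.jF_top U)).op) _).symm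

/-- `j_! ℤ[h_⊤] ≅ ℤ[h_U]` -/
noncomputable def shriekFreeIso : (shriek U).obj (freeSh (⊤ : Opens (TopCat.of U))) ≅ freeSh U :=
  Groth.Agent.S0463.isoOfHomEquiv (fun M => (e3 U M).trans (homEquiv U M).symm) (by
    intro M M' f g
    simp only [Equiv.trans_apply]
    apply (homEquiv U M').injective
    rw [Equiv.apply_symm_apply, homEquiv_comp, Equiv.apply_symm_apply, e3_comp])

end Helpers


open TopologicalSpace CategoryTheory.Limits in
/-- For an object K of the derived category of abelian sheaves on X and an open U, H^p(U, K) is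
isomorphic to H^p(U, K|_U), where K|_U is the image of K under the functor on derived categories
induced by the (exact) restriction to U. Exactness of restriction is assumed through instance
arguments (true, but not recorded by Mathlib in this generality). -/
theorem result {X : TopCat.{u}} (U : Opens X)
    [HasDerivedCategory.{u} (CohTop.Ab X)] [HasDerivedCategory.{u} (CohTop.Ab (TopCat.of U))]
    [PreservesFiniteLimits (CohTop.restrFunctor U)] [PreservesFiniteColimits (CohTop.restrFunctor U)]
    (K : DerivedCategory (CohTop.Ab X)) (p : ℤ) :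
    Nonempty (CohCx.HDU K p U ≃+ CohCx.HDU ((CohTop.restrFunctor U).mapDerivedCategory.obj K) p ⊤) := by
  have e := Groth.Agent.Lib.DerivedAdjunction.homShiftAddEquiv
    (Groth.Agent.Lib.OpenShriek.shriekAdj U) (Groth.Agent.Lib.FlasqueAcyclic.freeSh (⊤ : Opens (TopCat.of U))) K p
  exact ⟨(Groth.Agent.Lib.DerivedAdjunction.precompAddEquiv
    ((DerivedCategory.singleFunctor (CohTop.Ab X) 0).mapIso (shriekFreeIso U)) _).trans e⟩

end Groth.Agent.S0871
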