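import Groth.Statements.S0876

set_option autoImplicit false
universe u
open CategoryTheory
open CohSite

namespace Groth.Agent.S0876

open CategoryTheory.Limits CategoryTheory.Pretriangulated

lemma exact_mk₂_ab {X₁ X₂ X₃ : AddCommGrpCat.{u}} (f : X₁ ⟶ X₂) (g : X₂ ⟶ X₃)
    (w : ∀ x, g (f x) = 0) (h : ∀ y, g y = 0 → ∃ x, f x = y) :
    (ComposableArrows.mk₂ f g).Exact := by
  have w' : f ≫ g = 0 := by ext x; exact w x
  exact (ShortComplex.Exact.exact_toComposableArrows (S := ShortComplex.mk f g w')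
    ((ShortComplex.ab_exact_iff _).2 h))

section

variable {C : Type u} [SmallCategory C] {J : GrothendieckTopology C}
    [HasWeakSheafify J (Type u)] [HasDerivedCategory.{u} (Sheaf J AddCommGrpCat.{u})]
    (S : J.MayerVietorisSquare) (K : DerivedCategory (Sheaf J AddCommGrpCat.{u}))

/-- the single functor in degree zero -/
noncomputable abbrev Q (J : GrothendieckTopology C)
    [HasDerivedCategory.{u} (Sheaf J AddCommGrpCat.{u})] :
    Sheaf J AddCommGrpCat.{u} ⥤ DerivedCategory (Sheaf J AddCommGrpCat.{u}) :=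
  DerivedCategory.singleFunctor (Sheaf J AddCommGrpCat.{u}) 0

/-- the left map of the short exact sequence -/
noncomputable abbrev mf : CohCx.freeSheaf J S.X₁ ⟶ CohCx.freeSheaf J S.X₂ ⊞ CohCx.freeSheaf J S.X₃ :=
  biprod.lift (CohCx.freeSheafMap J S.f₁₂) (-CohCx.freeSheafMap J S.f₁₃)

/-- the right map of the short exact sequence -/
noncomputable abbrev mg : CohCx.freeSheaf J S.X₂ ⊞ CohCx.freeSheaf J S.X₃ ⟶ CohCx.freeSheaf J S.X₄ :=
  biprod.desc (CohCx.freeSheafMap J S.f₂₄) (CohCx.freeSheafMap J S.f₃₄)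

/-- the connecting map of the triangle -/
noncomputable def mh : (Q J).obj (CohCx.freeSheaf J S.X₄) ⟶
    ((Q J).obj (CohCx.freeSheaf J S.X₁))⟦(1 : ℤ)⟧ :=
  S.shortComplex_shortExact.singleδ

/-- the triangle -/
noncomputable abbrev tri : Triangle (DerivedCategory (Sheaf J AddCommGrpCat.{u})) :=
  Triangle.mk ((Q J).map (mf S)) ((Q J).map (mg S)) (mh S)

lemma tri_dist : tri S ∈ distTriang (DerivedCategory (Sheaf J AddCommGrpCat.{u})) :=
  S.shortComplex_shortExact.singleTriangle_distinguished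

variable {S} in
lemma map_m₂₄ : (Q J).map (CohCx.freeSheafMap J S.f₂₄) = (Q J).map biprod.inl ≫ (Q J).map (mg S) := by
  rw [← Functor.map_comp, biprod.inl_desc]

variable {S} in
lemma map_m₃₄ : (Q J).map (CohCx.freeSheafMap J S.f₃₄) = (Q J).map biprod.inr ≫ (Q J).map (mg S) := by
  rw [← Functor.map_comp, biprod.inr_desc]

variable {S} in
lemma map_mf_comp {M : DerivedCategory (Sheaf J AddCommGrpCat.{u})}
    (φ : (Q J).obj (CohCx.freeSheaf J S.X₂ ⊞ CohCx.freeSheaf J S.X₃) ⟶ M) :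
    (Q J).map (mf S) ≫ φ = (Q J).map (CohCx.freeSheafMap J S.f₁₂) ≫ (Q J).map biprod.inl ≫ φ +
      -((Q J).map (CohCx.freeSheafMap J S.f₁₃) ≫ (Q J).map biprod.inr ≫ φ) := by
  have : mf S = CohCx.freeSheafMap J S.f₁₂ ≫ biprod.inl + -(CohCx.freeSheafMap J S.f₁₃ ≫ biprod.inr) := by
    apply biprod.hom_ext <;> simp
  rw [this]
  simp [Functor.map_add, Functor.map_neg]

variable {S} in
lemma lemmaA {M : DerivedCategory (Sheaf J AddCommGrpCat.{u})}
    (a : (Q J).obj (CohCx.freeSheaf J S.X₂) ⟶ M) (b : (Q J).obj (CohCx.freeSheaf J S.X₃) ⟶ M)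
    (h : (Q J).map (CohCx.freeSheafMap J S.f₁₂) ≫ a +
      -((Q J).map (CohCx.freeSheafMap J S.f₁₃) ≫ b) = 0) :
    ∃ g : (Q J).obj (CohCx.freeSheaf J S.X₄) ⟶ M,
      (Q J).map (CohCx.freeSheafMap J S.f₂₄) ≫ g = a ∧
      (Q J).map (CohCx.freeSheafMap J S.f₃₄) ≫ g = b := by
  let φ : (Q J).obj (CohCx.freeSheaf J S.X₂ ⊞ CohCx.freeSheaf J S.X₃) ⟶ M :=
    (Q J).map biprod.fst ≫ a + (Q J).map biprod.snd ≫ b
  have h1 : (Q J).map biprod.inl ≫ φ = a := by
    simp only [φ, Preadditive.comp_add, ← Functor.map_comp_assoc]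
    simp
  have h2 : (Q J).map biprod.inr ≫ φ = b := by
    simp only [φ, Preadditive.comp_add, ← Functor.map_comp_assoc]
    simp
  have hφ : (tri S).mor₁ ≫ φ = 0 := by
    change (Q J).map (mf S) ≫ φ = 0
    rw [map_mf_comp, h1, h2, h]
  obtain ⟨g, hg⟩ := Triangle.yoneda_exact₂ _ (tri_dist S) φ hφ
  change (Q J).obj (CohCx.freeSheaf J S.X₄) ⟶ M at g
  change φ = (Q J).map (mg S) ≫ g at hg
  refine ⟨g, ?_, ?_⟩
  · rw [map_m₂₄, Category.assoc, ← hg, h1]
  · rw [map_m₃₄, Category.assoc, ← hg, h2]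

variable {S} in
lemma lemmaB {M : DerivedCategory (Sheaf J AddCommGrpCat.{u})}
    (g : (Q J).obj (CohCx.freeSheaf J S.X₁) ⟶ M) (h : mh S ≫ g⟦(1 : ℤ)⟧' = 0) :
    ∃ (a : (Q J).obj (CohCx.freeSheaf J S.X₂) ⟶ M) (b : (Q J).obj (CohCx.freeSheaf J S.X₃) ⟶ M),
      (Q J).map (CohCx.freeSheafMap J S.f₁₂) ≫ a +
        -((Q J).map (CohCx.freeSheafMap J S.f₁₃) ≫ b) = g := by
  have hT2 := rot_of_distTriang _ (rot_of_distTriang _ (tri_dist S))
  obtain ⟨c, hc⟩ := Triangle.yoneda_exact₂ _ hT2 (g⟦(1 : ℤ)⟧') h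
  change ((Q J).obj (CohCx.freeSheaf J S.X₂ ⊞ CohCx.freeSheaf J S.X₃))⟦(1 : ℤ)⟧ ⟶ M⟦(1 : ℤ)⟧ at c
  change g⟦(1 : ℤ)⟧' = (-((Q J).map (mf S))⟦(1 : ℤ)⟧') ≫ c at hc
  obtain ⟨c', rfl⟩ := (shiftFunctor (DerivedCategory (Sheaf J AddCommGrpCat.{u})) (1 : ℤ)).map_surjective c
  have hg : g = (Q J).map (mf S) ≫ (-c') := by
    apply (shiftFunctor (DerivedCategory (Sheaf J AddCommGrpCat.{u})) (1 : ℤ)).map_injective
    rw [hc]
    simp
  refine ⟨(Q J).map biprod.inl ≫ (-c'), (Q J).map biprod.inr ≫ (-c'), ?_⟩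
  rw [hg, map_mf_comp]

variable {S} in
lemma lemmaC {N : DerivedCategory (Sheaf J AddCommGrpCat.{u})}
    (g : (Q J).obj (CohCx.freeSheaf J S.X₄) ⟶ N)
    (h₂ : (Q J).map (CohCx.freeSheafMap J S.f₂₄) ≫ g = 0)
    (h₃ : (Q J).map (CohCx.freeSheafMap J S.f₃₄) ≫ g = 0) :
    ∃ h : ((Q J).obj (CohCx.freeSheaf J S.X₁))⟦(1 : ℤ)⟧ ⟶ N, g = mh S ≫ h := by
  have h0 : (tri S).mor₂ ≫ g = 0 := by
    change (Q J).map (mg S) ≫ g = 0
    have : mg S = biprod.fst ≫ CohCx.freeSheafMap J S.f₂₄ + biprod.snd ≫ CohCx.freeSheafMap J S.f₃₄ := by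
      apply biprod.hom_ext' <;> simp
    rw [this]
    simp [Functor.map_add, h₂, h₃]
  exact Triangle.yoneda_exact₃ _ (tri_dist S) g h0

variable {S} in
lemma zeroB {M : DerivedCategory (Sheaf J AddCommGrpCat.{u})}
    (a : (Q J).obj (CohCx.freeSheaf J S.X₂) ⟶ M) (b : (Q J).obj (CohCx.freeSheaf J S.X₃) ⟶ M) :
    mh S ≫ ((Q J).map (CohCx.freeSheafMap J S.f₁₂) ≫ a +
      -((Q J).map (CohCx.freeSheafMap J S.f₁₃) ≫ b))⟦(1 : ℤ)⟧' = 0 := by
  let φ : (Q J).obj (CohCx.freeSheaf J S.X₂ ⊞ CohCx.freeSheaf J S.X₃) ⟶ M :=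
    (Q J).map biprod.fst ≫ a + (Q J).map biprod.snd ≫ b
  have h1 : (Q J).map biprod.inl ≫ φ = a := by
    simp only [φ, Preadditive.comp_add, ← Functor.map_comp_assoc]
    simp
  have h2 : (Q J).map biprod.inr ≫ φ = b := by
    simp only [φ, Preadditive.comp_add, ← Functor.map_comp_assoc]
    simp
  have h3 : (Q J).map (CohCx.freeSheafMap J S.f₁₂) ≫ a +
      -((Q J).map (CohCx.freeSheafMap J S.f₁₃) ≫ b) = (Q J).map (mf S) ≫ φ := by
    rw [map_mf_comp, h1, h2]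
  rw [h3, Functor.map_comp]
  have := comp_distTriang_mor_zero₃₁ _ (tri_dist S)
  change mh S ≫ ((Q J).map (mf S))⟦(1 : ℤ)⟧' = 0 at this
  rw [reassoc_of% this, zero_comp]

variable {S} in
lemma zeroC₂ : (Q J).map (CohCx.freeSheafMap J S.f₂₄) ≫ mh S = 0 := by
  have := comp_distTriang_mor_zero₂₃ _ (tri_dist S)
  change (Q J).map (mg S) ≫ mh S = 0 at this
  rw [map_m₂₄, Category.assoc, this, comp_zero]

variable {S} in
lemma zeroC₃ : (Q J).map (CohCx.freeSheafMap J S.f₃₄) ≫ mh S = 0 := by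
  have := comp_distTriang_mor_zero₂₃ _ (tri_dist S)
  change (Q J).map (mg S) ≫ mh S = 0 at this
  rw [map_m₃₄, Category.assoc, this, comp_zero]

variable {S} in
lemma zeroA {M : DerivedCategory (Sheaf J AddCommGrpCat.{u})}
    (g : (Q J).obj (CohCx.freeSheaf J S.X₄) ⟶ M) :
    (Q J).map (CohCx.freeSheafMap J S.f₁₂) ≫ (Q J).map (CohCx.freeSheafMap J S.f₂₄) ≫ g +
      -((Q J).map (CohCx.freeSheafMap J S.f₁₃) ≫ (Q J).map (CohCx.freeSheafMap J S.f₃₄) ≫ g) = 0 := by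
  have h := comp_distTriang_mor_zero₁₂ _ (tri_dist S)
  change (Q J).map (mf S) ≫ (Q J).map (mg S) = 0 at h
  have h2 := map_mf_comp (S := S) ((Q J).map (mg S) ≫ g)
  rw [reassoc_of% h, zero_comp] at h2
  rw [h2, map_m₂₄ (S := S), map_m₃₄ (S := S)]
  simp only [Category.assoc]

/-- The connecting homomorphism. -/
noncomputable def delta (n : ℤ) : CohCx.HDU K n S.X₁ →+ CohCx.HDU K (n + 1) S.X₄ where
  toFun g := mh S ≫ g⟦(1 : ℤ)⟧' ≫
    (shiftFunctorAdd' (DerivedCategory (Sheaf J AddCommGrpCat.{u})) n 1 (n + 1) rfl).inv.app K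
  map_zero' := by simp
  map_add' a b := by simp

lemma delta_apply (n : ℤ) (g : CohCx.HDU K n S.X₁) :
    delta S K n g = mh S ≫ g⟦(1 : ℤ)⟧' ≫
      (shiftFunctorAdd' (DerivedCategory (Sheaf J AddCommGrpCat.{u})) n 1 (n + 1) rfl).inv.app K :=
  rfl

end

open CategoryTheory.Limits in
/-- As a long exact sequence of cohomology groups rather than a triangle of complexes: let S be a
Mayer-Vietoris square of a site, with corners X₁ (playing the role of the intersection), X₂, X₃ and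
X₄ (the union). For every object K of the derived category of abelian sheaves there are connecting
homomorphisms H^n(X₁, K) -> H^{n+1}(X₄, K) which together with the restriction maps (sum into
H^n(X₂, K) ⊕ H^n(X₃, K), difference out of it) form a long exact sequence ... -> H^n(X₄, K) ->
H^n(X₂, K) ⊕ H^n(X₃, K) -> H^n(X₁, K) -> H^{n+1}(X₄, K) -> .... Here H^n(U, K) is the group of maps
from the free abelian sheaf on U to K[n]. -/
theorem result {C : Type u} [SmallCategory C] {J : GrothendieckTopology C}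
    [HasWeakSheafify J (Type u)] [HasDerivedCategory.{u} (Sheaf J AddCommGrpCat.{u})]
    (S : J.MayerVietorisSquare) (K : DerivedCategory (Sheaf J AddCommGrpCat.{u})) :
    ∃ δ : ∀ n : ℤ, CohCx.HDU K n S.X₁ →+ CohCx.HDU K (n + 1) S.X₄,
      ∀ n : ℤ,
        (ComposableArrows.mk₂
          (AddCommGrpCat.ofHom ((CohCx.HDUres K n S.f₂₄).prod (CohCx.HDUres K n S.f₃₄)))
          (AddCommGrpCat.ofHom ((CohCx.HDUres K n S.f₁₂).coprod (-(CohCx.HDUres K n S.f₁₃))))).Exact ∧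
        (ComposableArrows.mk₂
          (AddCommGrpCat.ofHom ((CohCx.HDUres K n S.f₁₂).coprod (-(CohCx.HDUres K n S.f₁₃))))
          (AddCommGrpCat.ofHom (δ n))).Exact ∧
        (ComposableArrows.mk₂ (AddCommGrpCat.ofHom (δ n))
          (AddCommGrpCat.ofHom ((CohCx.HDUres K (n + 1) S.f₂₄).prod (CohCx.HDUres K (n + 1) S.f₃₄)))).Exact := by
  refine ⟨delta S K, fun n => ⟨?_, ?_, ?_⟩⟩
  · apply exact_mk₂_ab
    · intro g
      exact zeroA g
    · rintro ⟨a, b⟩ hab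
      obtain ⟨g, hg₁, hg₂⟩ := lemmaA a b hab
      exact ⟨g, Prod.ext hg₁ hg₂⟩
  · apply exact_mk₂_ab
    · rintro ⟨a, b⟩
      change delta S K n _ = 0
      rw [delta_apply]
      have := zeroB a b
      exact ((reassoc_of% this) _).trans zero_comp
    · intro g hg
      change delta S K n g = 0 at hg
      rw [delta_apply] at hg
      have hg' : mh S ≫ g⟦(1 : ℤ)⟧' = 0 := by
        have := hg =≫ (shiftFunctorAdd' (DerivedCategory (Sheaf J AddCommGrpCat.{u})) n 1 (n + 1) rfl).hom.app K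
        simpa using this
      obtain ⟨a, b, hab⟩ := lemmaB g hg'
      exact ⟨(a, b), hab⟩
  · apply exact_mk₂_ab
    · intro g
      change ((Q J).map (CohCx.freeSheafMap J S.f₂₄) ≫ delta S K n g,
        (Q J).map (CohCx.freeSheafMap J S.f₃₄) ≫ delta S K n g) = 0
      rw [delta_apply, reassoc_of% (zeroC₂ (S := S)), reassoc_of% (zeroC₃ (S := S))]
      simp
    · intro g hg
      have h₂ : (Q J).map (CohCx.freeSheafMap J S.f₂₄) ≫ g = 0 := congrArg Prod.fst hg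
      have h₃ : (Q J).map (CohCx.freeSheafMap J S.f₃₄) ≫ g = 0 := congrArg Prod.snd hg
      obtain ⟨h, hh⟩ := lemmaC g h₂ h₃
      obtain ⟨h', hh'⟩ := (shiftFunctor (DerivedCategory (Sheaf J AddCommGrpCat.{u})) (1 : ℤ)).map_surjective
        (h ≫ (shiftFunctorAdd' (DerivedCategory (Sheaf J AddCommGrpCat.{u})) n 1 (n + 1) rfl).hom.app K)
      refine ⟨h', ?_⟩
      change delta S K n h' = g
      rw [delta_apply, hh', hh]
      simp

end Groth.Agent.S0876
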