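import Groth.Statements.S0885
import Groth.Agent.Lib.CoExtraDeg

set_option autoImplicit false
universe u
open CategoryTheory
open CohTop

namespace Groth.Agent.S0885

section helpers

open TopologicalSpace Opposite CategoryTheory.Limits Simplicial

variable {X : TopCat.{u}} {ι : Type u} (U : ι → Opens X)

lemma fc_hom_ext {K L : FormalCoproduct.{u} (Opens X)} {f g : K ⟶ L} (h : f.f = g.f) : f = g :=
  FormalCoproduct.hom_ext h (fun _ => Subsingleton.elim _ _)

/-- the Cech object -/
noncomputable abbrev E : SimplicialObject (FormalCoproduct.{u} (Opens X)) :=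
  (FormalCoproduct.mk ι U).cech

lemma prod_le (n : ℕ) (j : Fin (n + 1) → ι) (a : Fin (n + 1)) :
    (∏ᶜ (U ∘ j) : Opens X) ≤ U (j a) := (Pi.π (U ∘ j) a).le

noncomputable def aug : (E U).obj (op ⦋0⦌) ⟶ (FormalCoproduct.incl (Opens X)).obj (iSup U) where
  f _ := PUnit.unit
  φ j := homOfLE ((prod_le U 0 j 0).trans (le_iSup U (j 0)))

variable (i₀ : ι) (hi : U i₀ = iSup U)

noncomputable def s' : (FormalCoproduct.incl (Opens X)).obj (iSup U) ⟶ (E U).obj (op ⦋0⦌) where
  f _ := fun _ => i₀
  φ _ := Pi.lift (fun _ => homOfLE hi.ge)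

include hi in
lemma s_le (n : ℕ) (j : Fin (n + 1) → ι) (a : Fin (n + 2)) :
    (∏ᶜ (U ∘ j) : Opens X) ≤ U ((Fin.cons i₀ j : Fin (n + 2) → ι) a) := by
  cases a using Fin.cases with
  | zero =>
    rw [Fin.cons_zero, hi]
    exact (prod_le U n j 0).trans (le_iSup U (j 0))
  | succ b =>
    rw [Fin.cons_succ]
    exact prod_le U n j b

noncomputable def s (n : ℕ) : (E U).obj (op ⦋n⦌) ⟶ (E U).obj (op ⦋n + 1⦌) where
  f j := (Fin.cons i₀ j : Fin (n + 2) → ι)
  φ j := Pi.lift (fun a => homOfLE (s_le U i₀ hi n j a))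


lemma rel_a : s' U i₀ hi ≫ aug U = 𝟙 _ := fc_hom_ext rfl

lemma rel_e : (E U).δ (0 : Fin 2) ≫ aug U = (E U).δ (1 : Fin 2) ≫ aug U := fc_hom_ext rfl

lemma rel_c (n : ℕ) : s U i₀ hi n ≫ (E U).δ (0 : Fin (n + 2)) = 𝟙 _ := by
  apply fc_hom_ext
  funext j
  funext a
  rfl

lemma rel_b : s U i₀ hi 0 ≫ (E U).δ (1 : Fin 2) = aug U ≫ s' U i₀ hi := by
  apply fc_hom_ext
  funext j
  funext a
  fin_cases a
  rfl

lemma rel_d (n : ℕ) (i : Fin (n + 2)) :
    s U i₀ hi (n + 1) ≫ (E U).δ i.succ = (E U).δ i ≫ s U i₀ hi n := by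
  apply fc_hom_ext
  funext j
  funext a
  change (Fin.cons i₀ j : Fin (n + 3) → ι) (Fin.succAbove i.succ a) =
    (Fin.cons i₀ (j ∘ Fin.succAbove i) : Fin (n + 2) → ι) a
  cases a using Fin.cases with
  | zero => simp
  | succ b => simp


variable (F : (Opens X)ᵒᵖ ⥤ AddCommGrpCat.{u})

noncomputable abbrev G : (FormalCoproduct.{u} (Opens X))ᵒᵖ ⥤ AddCommGrpCat.{u} :=
  (FormalCoproduct.evalOp (Opens X) AddCommGrpCat.{u}).obj F

noncomputable abbrev Y : CosimplicialObject AddCommGrpCat.{u} :=
  (FormalCoproduct.cosimplicialObjectFunctor (E U)).obj F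

lemma Y_δ (n : ℕ) (i : Fin (n + 2)) : (Y U F).δ i = (G F).map ((E U).δ i).op := rfl

set_option backward.isDefEq.respectTransparency false in
noncomputable def data : Groth.Agent.Lib.CoExtraDeg.Data (Y U F)
    ((G F).obj (op ((FormalCoproduct.incl (Opens X)).obj (iSup U)))) where
  ε := (G F).map (aug U).op
  hε := by
    rw [Y_δ, Y_δ, ← Functor.map_comp, ← Functor.map_comp, ← op_comp, ← op_comp, rel_e]
  t' := (G F).map (s' U i₀ hi).op
  t n := (G F).map (s U i₀ hi n).op
  ε_t' := by
    rw [← Functor.map_comp, ← op_comp, rel_a, op_id, CategoryTheory.Functor.map_id]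
  δ₁_t₀ := by
    rw [Y_δ, ← Functor.map_comp, ← Functor.map_comp, ← op_comp, ← op_comp, rel_b]
  δ₀_t n := by
    rw [Y_δ, ← Functor.map_comp, ← op_comp, rel_c, op_id, CategoryTheory.Functor.map_id]
    rfl
  δ_t n i := by
    rw [Y_δ, Y_δ, ← Functor.map_comp, ← Functor.map_comp, ← op_comp, ← op_comp, rel_d]


noncomputable def pIso : (G F).obj (op ((FormalCoproduct.incl (Opens X)).obj (iSup U))) ≅
    F.obj (op (iSup U)) :=
  ((FormalCoproduct.evalOpCompInlIsoId (Opens X) AddCommGrpCat.{u}).app F).app (op (iSup U))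

noncomputable def homotopyEquiv :
    HomotopyEquiv ((CochainComplex.single₀ AddCommGrpCat.{u}).obj (F.obj (op (iSup U))))
      ((cechComplexFunctor U).obj F) :=
  (HomotopyEquiv.ofIso ((CochainComplex.single₀ AddCommGrpCat.{u}).mapIso (pIso U F).symm)).trans
    (data U i₀ hi F).homotopyEquiv


end helpers


open TopologicalSpace Opposite CategoryTheory.Limits in
/-- Let F be a presheaf of abelian groups on a topological space X and (U_i)_{i ∈ ι} a family of open
subsets with union U such that U_i = U for some index i. Then the Čech complex of F with respect to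
the family (formed with all ordered tuples of indices) is homotopy equivalent to the complex
consisting of F(U) placed in degree 0. (The published statement phrases this as contractibility of
the extended Čech complex; stated here as a homotopy equivalence with F(U) in degree zero.) -/
theorem result {X : TopCat.{u}} (F : (Opens X)ᵒᵖ ⥤ AddCommGrpCat.{u})
    {ι : Type u} (U : ι → Opens X) (i : ι) (hi : U i = iSup U) :
    Nonempty (HomotopyEquiv ((CochainComplex.single₀ AddCommGrpCat.{u}).obj (F.obj (op (iSup U))))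
      ((cechComplexFunctor U).obj F)) := by
  exact ⟨homotopyEquiv U i hi F⟩

end Groth.Agent.S0885
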