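import Groth.Statements.S0894
-- import your own Groth.Agent.* helpers here

set_option autoImplicit false
universe u
open CategoryTheory
open Hyper

namespace Groth.Agent.S0894

section Aux
open Opposite Limits FormalCoproduct Simplicial

lemma isSRCovering_of_section {D : Type u} [SmallCategory D] (JD : GrothendieckTopology D)
    {A B : FormalCoproduct.{u} D} (g : A ⟶ B) (s : B ⟶ A) (h : s ≫ g = 𝟙 B) :
    Hyper.IsSRCovering JD g := by
  intro j
  obtain ⟨h1, h2⟩ := (FormalCoproduct.hom_ext_iff _ _).1 h
  have hj : g.f (s.f j) = j := congrFun h1 j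
  apply JD.covering_of_eq_top
  rw [← Sieve.id_mem_iff_eq_top]
  have key : 𝟙 (B.obj j) = s.φ j ≫ (g.φ (s.f j) ≫ eqToHom (congrArg B.obj hj)) := by
    have := h2 j
    simp only [category_comp_φ, category_id_φ] at this
    rw [← this, Category.assoc]
  rw [key]
  apply Sieve.downward_closed
  exact Sieve.ofArrows_mk _ _ (⟨s.f j, hj⟩ : {i : A.I // g.f i = j})

theorem result_aux {C : Type u} [SmallCategory C] [Limits.HasPullbacks C]
    (J : GrothendieckTopology C) (X : C) (K : SimplicialObject (Limits.FormalCoproduct.{u} (Over X)))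
    [∀ (n : ℕ) (F : (SimplexCategory.Truncated n)ᵒᵖ ⥤ Limits.FormalCoproduct.{u} (Over X)),
      (SimplexCategory.Truncated.inclusion n).op.HasRightKanExtension F]
    (hK : Hyper.IsHypercovering J X K) :
    (∀ n : ℕ, Sieve.ofArrows (fun i => ((K.obj (op (SimplexCategory.mk n))).obj i).left)
      (fun i => ((K.obj (op (SimplexCategory.mk n))).obj i).hom) ∈ J X) ∧
    ∀ (n : ℕ) (i : Fin (n + 2)), Hyper.IsSRCovering (J.over X) (K.δ i) := by
  refine ⟨fun n => ?_, fun n i => ?_⟩
  · let s : K.obj (op ⦋0⦌) ⟶ K.obj (op ⦋n⦌) := K.map (SimplexCategory.const ⦋n⦌ ⦋0⦌ 0).op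
    refine J.superset_covering ?_ hK.1
    rintro W g ⟨Y, a, b, ⟨j⟩, rfl⟩
    refine ⟨_, a ≫ (s.φ j).left, ((K.obj (op ⦋n⦌)).obj (s.f j)).hom, ⟨s.f j⟩, ?_⟩
    rw [Category.assoc, Over.w]
  · cases i using Fin.cases with
    | zero =>
      exact isSRCovering_of_section _ _ (K.σ 0) (K.δ_comp_σ_self (i := 0))
    | succ j =>
      exact isSRCovering_of_section _ _ (K.σ j) (K.δ_comp_σ_succ (i := j))

end Aux

open Opposite in
/-- For a hypercovering K of an object X of a site with fibre products (a simplicial semi-representable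
object over X; coskeleta are assumed to exist): (1) for each n the family K_n is a covering of X,
and (2) every face map d_i : K_{n+1} -> K_n is a covering morphism of semi-representable objects. -/
theorem result {C : Type u} [SmallCategory C] [Limits.HasPullbacks C]
    (J : GrothendieckTopology C) (X : C) (K : SimplicialObject (Limits.FormalCoproduct.{u} (Over X)))
    [∀ (n : ℕ) (F : (SimplexCategory.Truncated n)ᵒᵖ ⥤ Limits.FormalCoproduct.{u} (Over X)),
      (SimplexCategory.Truncated.inclusion n).op.HasRightKanExtension F]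
    (hK : Hyper.IsHypercovering J X K) :
    (∀ n : ℕ, Sieve.ofArrows (fun i => ((K.obj (op (SimplexCategory.mk n))).obj i).left)
      (fun i => ((K.obj (op (SimplexCategory.mk n))).obj i).hom) ∈ J X) ∧
    ∀ (n : ℕ) (i : Fin (n + 2)), Hyper.IsSRCovering (J.over X) (K.δ i) := by
  exact result_aux J X K hK

end Groth.Agent.S0894
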