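import Groth.Statements.S0898
-- import your own Groth.Agent.* helpers here

set_option autoImplicit false
universe u
open CategoryTheory
open Hyper

namespace Groth.Agent.S0898

section helpers

open CategoryTheory.Limits

variable {C : Type u} [SmallCategory C] (J : GrothendieckTopology C)

lemma comp_cov {K L M : FormalCoproduct.{u} C} (f : K ⟶ L) (g : L ⟶ M)
    (hf : Hyper.IsSRCovering J f) (hg : Hyper.IsSRCovering J g) :
    Hyper.IsSRCovering J (f ≫ g) := by
  intro j
  refine J.transitive (hg j) _ ?_
  rintro Y h ⟨Z, a, b, ⟨⟨l, rfl⟩⟩, rfl⟩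
  rw [Sieve.pullback_comp]
  apply J.pullback_stable
  refine J.superset_covering ?_ (hf l)
  rw [Sieve.ofArrows, Sieve.generate_le_iff]
  rintro W c ⟨⟨i, rfl⟩⟩
  simp only [eqToHom_refl, Category.comp_id, Sieve.pullback_apply]
  have := Sieve.ofArrows_mk (fun k : {k : K.I // (f ≫ g).f k = g.f (f.f i)} => K.obj k.1)
    (fun k => (f ≫ g).φ k.1 ≫ eqToHom (congrArg M.obj k.2)) ⟨i, rfl⟩
  simpa using this

lemma bc_cov [HasPullbacks C] {K L L' : FormalCoproduct.{u} C} (f : K ⟶ L) (g : L' ⟶ L)
    (hf : Hyper.IsSRCovering J f) [HasPullback g f] :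
    Hyper.IsSRCovering J (pullback.fst g f) := by
  intro j
  refine J.superset_covering ?_ (J.pullback_stable (g.φ j) (hf (g.f j)))
  rintro W h ⟨Z, a, b, ⟨⟨i, hi⟩⟩, hab⟩
  have hcond : FormalCoproduct.Hom.fromIncl j h ≫ g = FormalCoproduct.Hom.fromIncl i a ≫ f := by
    refine FormalCoproduct.hom_ext ?_ ?_
    · funext x
      simp [hi]
    · intro x
      change (h ≫ g.φ j) ≫ eqToHom _ = a ≫ f.φ i
      rw [← hab]
      simp
  let m := pullback.lift (FormalCoproduct.Hom.fromIncl j h) (FormalCoproduct.Hom.fromIncl i a) hcond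
  have hm : m ≫ pullback.fst g f = FormalCoproduct.Hom.fromIncl j h := pullback.lift_fst _ _ _
  rw [FormalCoproduct.hom_ext_iff] at hm
  obtain ⟨h1, h2⟩ := hm
  have h1' := congrFun h1 PUnit.unit
  have h2' := h2 PUnit.unit
  simp at h1' h2'
  rw [← h2']
  apply Sieve.downward_closed
  exact Sieve.ofArrows_mk (fun k : {k : (pullback g f).I // (pullback.fst g f).f k = j} =>
      (pullback g f).obj k.1)
    (fun k => (pullback.fst g f).φ k.1 ≫ eqToHom (congrArg L'.obj k.2)) ⟨m.f PUnit.unit, h1'⟩

end helpers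

open CategoryTheory.Limits in
/-- Parts (1) and (2), about covering morphisms between semi-representable objects (formal coproducts)
of a site: (1) the composite of two covering morphisms is a covering, and (2) for a site with fibre
products, the base change of a covering K -> L along any L' -> L (which exists) is a covering L' x_L
K -> L'. -/
theorem result {C : Type u} [SmallCategory C] (J : GrothendieckTopology C) :
    (∀ {K L M : FormalCoproduct.{u} C} (f : K ⟶ L) (g : L ⟶ M),
      Hyper.IsSRCovering J f → Hyper.IsSRCovering J g → Hyper.IsSRCovering J (f ≫ g)) ∧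
    (∀ [HasPullbacks C] {K L L' : FormalCoproduct.{u} C} (f : K ⟶ L) (g : L' ⟶ L),
      Hyper.IsSRCovering J f → HasPullback g f ∧ ∀ [HasPullback g f], Hyper.IsSRCovering J (pullback.fst g f)) := by
  refine ⟨fun f g hf hg => comp_cov J f g hf hg, ?_⟩
  intro _ K L L' f g hf
  exact ⟨inferInstance, bc_cov J f g hf⟩

end Groth.Agent.S0898
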