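import Groth.Statements.S0904
import Mathlib.CategoryTheory.Sites.Pullback
import Mathlib.Topology.Sheaves.SheafCondition.Sites

set_option autoImplicit false
universe u
open CategoryTheory
open CohTop

namespace Groth.Agent.S0904

/-- Abelian sheaves, for which every continuous map is flat: for a continuous map f : X -> Y and an
injective abelian sheaf I on X, the direct image f_* I is an injective abelian sheaf on Y. -/
theorem result {X Y : TopCat.{u}} (f : X ⟶ Y) (I : CohTop.Ab X) [Injective I] :
    Injective ((CohTop.push f).obj I) := by
  have h1 : Limits.PreservesFiniteLimits ((TopologicalSpace.Opens.map f).op.lan :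
      ((TopologicalSpace.Opens Y)ᵒᵖ ⥤ AddCommGrpCat.{u}) ⥤ _) := inferInstance
  have h2 : Limits.PreservesFiniteLimits
      ((TopologicalSpace.Opens.map f).sheafPullback AddCommGrpCat.{u}
        (Opens.grothendieckTopology ↑Y) (Opens.grothendieckTopology ↑X)) :=
    Functor.sheafPullbackConstruction.preservesFiniteLimits _ _ _ _
  have h3 : ((TopologicalSpace.Opens.map f).sheafPullback AddCommGrpCat.{u}
      (Opens.grothendieckTopology ↑Y) (Opens.grothendieckTopology ↑X)).PreservesMonomorphisms :=
    inferInstance
  exact @Injective.injective_of_adjoint _ _ _ _ _ _ h3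
    ((TopologicalSpace.Opens.map f).sheafAdjunctionContinuous AddCommGrpCat.{u}
      (Opens.grothendieckTopology ↑Y) (Opens.grothendieckTopology ↑X)) I inferInstance

end Groth.Agent.S0904
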