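import Groth.Statements.S0905
import Mathlib.CategoryTheory.Sites.EpiMono
import Mathlib.Algebra.Homology.ShortComplex.ExactFunctor
import Mathlib.Algebra.Homology.DerivedCategory.Ext.EnoughProjectives
import Mathlib.CategoryTheory.Adjunction.Whiskering

set_option autoImplicit false
universe u
open CategoryTheory
open CohSite

namespace Groth.Agent.S0905

section helpers

open Opposite CategoryTheory.Limits

variable {C : Type u} [SmallCategory C] (J : GrothendieckTopology C)

abbrev secFunctor (U : C) : Sheaf J AddCommGrpCat.{u} ⥤ AddCommGrpCat.{u} :=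
  sheafToPresheaf J AddCommGrpCat.{u} ⋙ (evaluation Cᵒᵖ AddCommGrpCat.{u}).obj (op U)

instance secFunctor_additive (U : C) : (secFunctor J U).Additive := by
  unfold secFunctor
  infer_instance

instance secFunctor_preservesFiniteLimits (U : C) : PreservesFiniteLimits (secFunctor J U) := by
  unfold secFunctor
  infer_instance

lemma surj_of_epi (U : C) (hU : CohSite.IsWeaklyContractible J U)
    {F G : Sheaf J AddCommGrpCat.{u}} (φ : F ⟶ G) [Epi φ] :
    Function.Surjective (φ.hom.app (op U)) := by
  have h1 : Sheaf.IsLocallySurjective φ :=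
    (Sheaf.isLocallySurjective_iff_epi' _ φ).2 inferInstance
  have h2 : Epi ((sheafCompose J (forget AddCommGrpCat.{u})).map φ) := inferInstance
  exact hU _ _ _ h2

lemma part1 (U : C) (hU : CohSite.IsWeaklyContractible J U) :
    PreservesFiniteColimits (secFunctor J U) := by
  rw [Functor.preservesFiniteColimits_iff_forall_exact_map_and_epi]
  intro S hS
  refine ⟨((Functor.preservesFiniteLimits_iff_forall_exact_map_and_mono _).1
    inferInstance S hS).1, ?_⟩
  have := hS.epi_g
  rw [AddCommGrpCat.epi_iff_surjective]
  exact surj_of_epi J U hU S.g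

/-- The composite adjunction between presheaves of sets and abelian sheaves. -/
noncomputable abbrev bigAdj :
    ((Functor.whiskeringRight Cᵒᵖ _ _).obj AddCommGrpCat.free.{u} ⋙
      presheafToSheaf J AddCommGrpCat.{u}) ⊣
    (sheafToPresheaf J AddCommGrpCat.{u} ⋙
      (Functor.whiskeringRight Cᵒᵖ _ _).obj (forget AddCommGrpCat.{u})) :=
  (AddCommGrpCat.adj.{u}.whiskerRight Cᵒᵖ).comp (sheafificationAdjunction J AddCommGrpCat.{u})

lemma projective_free (U : C) (hU : CohSite.IsWeaklyContractible J U) :
    Projective ((presheafToSheaf J AddCommGrpCat.{u}).obj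
      ((yoneda ⋙ (Functor.whiskeringRight _ _ _).obj AddCommGrpCat.free.{u}).obj U)) := by
  constructor
  intro E X f e he
  let adj := bigAdj J
  let f1 : yoneda.obj U ⟶ _ := adj.homEquiv (yoneda.obj U) X f
  obtain ⟨y, hy⟩ := surj_of_epi J U hU e (yonedaEquiv f1)
  let g1 : yoneda.obj U ⟶ (sheafToPresheaf J AddCommGrpCat.{u} ⋙
    (Functor.whiskeringRight Cᵒᵖ _ _).obj (forget AddCommGrpCat.{u})).obj E := yonedaEquiv.symm y
  refine ⟨(adj.homEquiv (yoneda.obj U) E).symm g1, ?_⟩
  apply (adj.homEquiv (yoneda.obj U) X).injective
  rw [Adjunction.homEquiv_naturality_right]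
  simp only [Equiv.apply_symm_apply]
  apply yonedaEquiv.injective
  rw [yonedaEquiv_comp]
  simp only [g1, Equiv.apply_symm_apply]
  exact hy

end helpers

open Opposite CategoryTheory.Limits in
/-- Parts (1) and (2), for a weakly contractible object U of a site (one over which every epimorphism of
sheaves of sets is surjective on sections): (1) the functor F ↦ F(U) from abelian sheaves to abelian
groups preserves finite colimits (it is exact, finite limits being automatic), and (2) H^p(U, F) = 0
for every abelian sheaf F and every p > 0. (Part (3) about torsors is not included.) -/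
theorem result {C : Type u} [SmallCategory C] (J : GrothendieckTopology C)
    (U : C) (hU : CohSite.IsWeaklyContractible J U) :
    PreservesFiniteColimits (sheafToPresheaf J AddCommGrpCat.{u} ⋙ (evaluation Cᵒᵖ AddCommGrpCat.{u}).obj (op U)) ∧
    ∀ (F : Sheaf J AddCommGrpCat.{u}) (p : ℕ), Subsingleton (CohSite.HU F (p + 1) U) := by
  refine ⟨part1 J U hU, fun F p => ?_⟩
  have hP := projective_free J U hU
  change Subsingleton (Abelian.Ext ((presheafToSheaf J AddCommGrpCat.{u}).obj
      ((yoneda ⋙ (Functor.whiskeringRight _ _ _).obj AddCommGrpCat.free.{u}).obj U)) F (p + 1))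
  exact subsingleton_of_forall_eq 0 (fun x => Abelian.Ext.eq_zero_of_projective x)

end Groth.Agent.S0905
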