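import Groth.Statements.S0917
import Mathlib.CategoryTheory.Abelian.GrothendieckAxioms.Colim
import Mathlib.Algebra.Homology.GrothendieckAbelian
import Mathlib.Algebra.Homology.HomotopyCategory.Acyclic

set_option autoImplicit false
universe w v u
open CategoryTheory CategoryTheory.Limits
open CohDer

namespace Groth.Agent.S0917


section
variable {A : Type u} [Category.{v} A] [Abelian A]

set_option maxHeartbeats 400000 in
/-- Exactness in a functor category can be checked pointwise. -/
lemma exact_of_evaluation_exact {J : Type*} [Category J] (S : ShortComplex (J ⥤ A))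
    (hS : ∀ j : J, (S.map ((evaluation J A).obj j)).Exact) : S.Exact := by
  simp only [ShortComplex.exact_iff_isZero_homology] at hS ⊢
  rw [IsZero.iff_id_eq_zero]
  ext j
  apply (IsZero.of_iso (hS j) (S.mapHomologyIso ((evaluation J A).obj j)).symm).eq_of_src

open HomologicalComplex in
set_option maxHeartbeats 400000 in
lemma exactAt_of_isColimit {J : Type w} [HasColimitsOfShape (Discrete J) A]
    [HasExactColimitsOfShape (Discrete J) A]
    (F : Discrete J ⥤ CochainComplex A ℤ) (hF : ∀ a n, (F.obj a).ExactAt n)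
    (c : Cocone F) (hc : IsColimit c) (n : ℤ) : c.pt.ExactAt n := by
  rw [exactAt_iff' _ (n - 1) n (n + 1) (by simp) (by simp)]
  let S : ShortComplex (Discrete J ⥤ A) :=
    ShortComplex.mk (X₁ := F ⋙ eval A _ (n - 1)) (X₂ := F ⋙ eval A _ n)
      (X₃ := F ⋙ eval A _ (n + 1))
      { app := fun a => (F.obj a).d (n - 1) n
        naturality := fun _ _ f => ((F.map f).comm (n - 1) n) }
      { app := fun a => (F.obj a).d n (n + 1)
        naturality := fun _ _ f => ((F.map f).comm n (n + 1)) } (by ext a; exact (F.obj a).d_comp_d _ _ _)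
  have hS : S.Exact := exact_of_evaluation_exact S (fun a => by
    have := (exactAt_iff' _ (n - 1) n (n + 1) (by simp) (by simp)).1 (hF a n)
    exact this)
  exact colim.exact_mapShortComplex hS
    (hc₁ := isColimitOfPreserves (eval A _ (n - 1)) hc)
    (hc₂ := isColimitOfPreserves (eval A _ n) hc)
    (hc₃ := isColimitOfPreserves (eval A _ (n + 1)) hc)
    (f := c.pt.d (n - 1) n) (g := c.pt.d n (n + 1))
    (hf := fun a => (c.ι.app a).comm (n - 1) n) (hg := fun a => (c.ι.app a).comm n (n + 1))


open CochainComplex HomotopyCategory in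
set_option maxHeartbeats 400000 in
lemma quasiIso_inr_of_acyclic {K M : CochainComplex A ℤ} (φ : K ⟶ M)
    (hK : ∀ n, K.ExactAt n) : QuasiIso (mappingCone.inr φ) := by
  rw [← HomologicalComplex.mem_quasiIso_iff, ← HomotopyCategory.quotient_map_mem_quasiIso_iff,
    quasiIso_eq_trW_subcategoryAcyclic]
  exact ObjectProperty.trW.mk' _ (mappingCone_triangleh_distinguished φ)
    ((quotient_obj_mem_subcategoryAcyclic_iff_exactAt K).2 hK)


end

section Main
variable {A : Type u} [Category.{v} A] [Abelian A] [IsGrothendieckAbelian.{v} A]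
  {ι : Type v} (K : ι → CochainComplex A ℤ)

/-- The index type of all morphisms from some `K i` to `M`. -/
abbrev Idx (M : CochainComplex A ℤ) : Type v := Σ i : ι, (K i ⟶ M)

/-- The family of sources of all morphisms `K i ⟶ M`. -/
abbrev fam (M : CochainComplex A ℤ) : Idx K M → CochainComplex A ℤ := fun p => K p.1

/-- The coproduct of the sources of all morphisms `K i ⟶ M`. -/
noncomputable abbrev P (M : CochainComplex A ℤ) : CochainComplex A ℤ := ∐ (fam K M)

/-- The tautological morphism `P K M ⟶ M`. -/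
noncomputable def φ (M : CochainComplex A ℤ) : P K M ⟶ M :=
  Sigma.desc (fun p => p.2)

/-- Functoriality of `P`. -/
noncomputable def Pmap {M M' : CochainComplex A ℤ} (f : M ⟶ M') : P K M ⟶ P K M' :=
  Sigma.map' (f := fam K M) (g := fam K M')
    (fun p => ⟨p.1, p.2 ≫ f⟩) (fun _ => 𝟙 _)

@[reassoc]
lemma ι_Pmap {M M' : CochainComplex A ℤ} (f : M ⟶ M') (p : Idx K M) :
    Sigma.ι (fam K M) p ≫ Pmap K f = Sigma.ι (fam K M') ⟨p.1, p.2 ≫ f⟩ := by
  dsimp only [Pmap]
  rw [Sigma.ι_comp_map']
  exact Category.id_comp _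

@[reassoc]
lemma ι_φ (M : CochainComplex A ℤ) (p : Idx K M) :
    Sigma.ι (fam K M) p ≫ φ K M = p.2 := by
  simp [φ]

lemma Pmap_φ {M M' : CochainComplex A ℤ} (f : M ⟶ M') :
    Pmap K f ≫ φ K M' = φ K M ≫ f := by
  apply Sigma.hom_ext
  intro p
  rw [ι_Pmap_assoc, ι_φ, ι_φ_assoc]

lemma Pmap_id (M : CochainComplex A ℤ) : Pmap K (𝟙 M) = 𝟙 _ := by
  apply Sigma.hom_ext
  intro p
  rw [ι_Pmap, Category.comp_id]
  obtain ⟨i, w⟩ := p
  dsimp only
  rw [Category.comp_id]

lemma Pmap_comp {M M' M'' : CochainComplex A ℤ} (f : M ⟶ M') (g : M' ⟶ M'') :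
    Pmap K (f ≫ g) = Pmap K f ≫ Pmap K g := by
  apply Sigma.hom_ext
  intro p
  rw [ι_Pmap, ι_Pmap_assoc, ι_Pmap]
  dsimp only
  rw [Category.assoc]


open CochainComplex in
/-- The functor `M ↦ cone (⨁_{(i, w : K i ⟶ M)} K i ⟶ M)`. -/
noncomputable def N : CochainComplex A ℤ ⥤ CochainComplex A ℤ where
  obj M := mappingCone (φ K M)
  map {M M'} f := mappingCone.map (φ K M) (φ K M') (Pmap K f) f (Pmap_φ K f).symm
  map_id M := by
    simp only [Pmap_id]
    exact mappingCone.map_id _
  map_comp {M M' M''} f g := by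
    simp only [Pmap_comp]
    exact mappingCone.map_comp _ _ _ _ _ _ _ _ _

open CochainComplex in
/-- The natural transformation `M ⟶ N M`. -/
noncomputable def jN : 𝟭 _ ⟶ N K where
  app M := mappingCone.inr (φ K M)
  naturality {M M'} f :=
    ((mappingCone.triangleMap (φ K M) (φ K M') (Pmap K f) f (Pmap_φ K f).symm).comm₂).symm

end Main

open CochainComplex in
set_option maxHeartbeats 1000000 in
/-- In a Grothendieck abelian category A, given a small family (K_i) of acyclic cochain complexes, there
are an endofunctor N of the category of cochain complexes and a natural transformation j from the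
identity to N such that for every complex M: each component of j_M is a monomorphism, j_M is a
quasi-isomorphism, and for every i and every morphism w : K_i -> M the composite w ≫ j_M is
homotopic to zero. -/
theorem result {A : Type u} [Category.{v} A] [Abelian A]
    [IsGrothendieckAbelian.{v} A] {ι : Type v} (K : ι → CochainComplex A ℤ)
    (hK : ∀ i (n : ℤ), Limits.IsZero ((K i).homology n)) :
    ∃ (N : CochainComplex A ℤ ⥤ CochainComplex A ℤ) (j : 𝟭 _ ⟶ N),
      ∀ M : CochainComplex A ℤ, (∀ n : ℤ, Mono ((j.app M).f n)) ∧ QuasiIso (j.app M) ∧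
        ∀ (i : ι) (w : K i ⟶ M), Nonempty (Homotopy (w ≫ j.app M) 0) := by
  refine ⟨N K, jN K, fun M => ⟨fun n => ?_, ?_, fun i w => ?_⟩⟩
  · have h : ((jN K).app M).f n ≫ (mappingCone.snd (φ K M)).v n n (add_zero n) = 𝟙 _ :=
      mappingCone.inr_f_snd_v (φ K M) n
    exact mono_of_mono_fac h
  · apply quasiIso_inr_of_acyclic
    intro n
    exact exactAt_of_isColimit (Discrete.functor (fam K M))
      (fun a n => (HomologicalComplex.exactAt_iff_isZero_homology _ _).2 (hK a.as.1 n))
      _ (colimit.isColimit _) n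
  · have h := HomologicalComplex.homotopyCofiber.inrCompHomotopy (φ K M) (fun j => ⟨j - 1, by simp⟩)
    have e : w ≫ (jN K).app M =
        Sigma.ι (fam K M) ⟨i, w⟩ ≫ (φ K M ≫ HomologicalComplex.homotopyCofiber.inr (φ K M)) := by
      rw [ι_φ_assoc]
      rfl
    exact ⟨(Homotopy.ofEq e).trans ((h.compLeft _).trans (Homotopy.ofEq Limits.comp_zero))⟩

end Groth.Agent.S0917
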