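import Groth.Statements.S1123
import Mathlib.Algebra.Homology.HomologySequenceLemmas
import Mathlib.Algebra.Homology.Factorizations.CM5a

set_option autoImplicit false
universe v u
open CategoryTheory CategoryTheory.Limits
open CohDer

namespace Groth.Agent.S1123

section
variable {C : Type u} [Category.{v} C] [Abelian C]

open HomologicalComplex HomologicalComplex.HomologySequence ComposableArrows Abelian in
set_option maxHeartbeats 400000 in
theorem quasiIso_τ₁
    {S₁ S₂ : ShortComplex (CochainComplex C ℤ)} (φ : S₁ ⟶ S₂)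
    (hS₁ : S₁.ShortExact) (hS₂ : S₂.ShortExact)
    (h₂ : QuasiIso φ.τ₂) (h₃ : QuasiIso φ.τ₃) : QuasiIso φ.τ₁ := by
  rw [quasiIso_iff]
  intro i
  rw [quasiIsoAt_iff_isIso_homologyMap]
  have hrel : (ComplexShape.up ℤ).Rel (i - 1) i := by simp
  have iso₂ : ∀ j, IsIso (homologyMap φ.τ₂ j) := fun j => by
    rw [← quasiIsoAt_iff_isIso_homologyMap]; infer_instance
  have iso₃ : ∀ j, IsIso (homologyMap φ.τ₃ j) := fun j => by
    rw [← quasiIsoAt_iff_isIso_homologyMap]; infer_instance
  have e1 : Epi (app' (mapComposableArrows₅ φ hS₁ hS₂ (i - 1) i hrel) 1) := by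
    have := iso₂ (i - 1)
    change Epi (homologyMap φ.τ₂ (i - 1))
    infer_instance
  have e2 : IsIso (app' (mapComposableArrows₅ φ hS₁ hS₂ (i - 1) i hrel) 2) := iso₃ (i - 1)
  have e4 : IsIso (app' (mapComposableArrows₅ φ hS₁ hS₂ (i - 1) i hrel) 4) := iso₂ i
  have e5 : Mono (app' (mapComposableArrows₅ φ hS₁ hS₂ (i - 1) i hrel) 5) := by
    have := iso₃ i
    change Mono (homologyMap φ.τ₃ i)
    infer_instance
  exact isIso_of_epi_of_isIso_of_isIso_of_mono' (k := 1) (n := 5) (by norm_num)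
    (composableArrows₅_exact hS₁ (i - 1) i hrel) (composableArrows₅_exact hS₂ (i - 1) i hrel)
    (mapComposableArrows₅ φ hS₁ hS₂ (i - 1) i hrel) 1 2 3 4 5 rfl rfl rfl rfl rfl
    e1 e2 e4 e5


open HomologicalComplex ComplexShape in
set_option maxHeartbeats 400000 in
lemma hc_truncGEMap_f_eq_opcyclesMap {ι ι' : Type*} {c : ComplexShape ι} {c' : ComplexShape ι'}
    (e : c.Embedding c') [e.IsTruncGE] {K L : HomologicalComplex C c'} (φ : K ⟶ L)
    {i : ι} (hi : e.BoundaryGE i) {i' : ι'} (h : e.f i = i') :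
    (HomologicalComplex.truncGEMap φ e).f i' =
      (K.truncGEXIsoOpcycles e h hi).hom ≫ opcyclesMap φ i' ≫
        (L.truncGEXIsoOpcycles e h hi).inv := by
  change (extendMap (truncGE'Map φ e) e).f i' = _
  rw [extendMap_f _ e h, truncGE'Map_f_eq_opcyclesMap φ e hi h]
  change _ = (_ ≫ _) ≫ _ ≫ (_ ≫ _)
  simp only [Category.assoc]

open HomologicalComplex ComplexShape in
set_option maxHeartbeats 400000 in
lemma hc_truncGEMap_f_eq {ι ι' : Type*} {c : ComplexShape ι} {c' : ComplexShape ι'}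
    (e : c.Embedding c') [e.IsTruncGE] {K L : HomologicalComplex C c'} (φ : K ⟶ L)
    {i : ι} (hi : ¬ e.BoundaryGE i) {i' : ι'} (h : e.f i = i') :
    (HomologicalComplex.truncGEMap φ e).f i' =
      (K.truncGEXIso e h hi).hom ≫ φ.f i' ≫ (L.truncGEXIso e h hi).inv := by
  change (extendMap (truncGE'Map φ e) e).f i' = _
  rw [extendMap_f _ e h, truncGE'Map_f_eq φ e hi h]
  change _ = (_ ≫ _) ≫ _ ≫ (_ ≫ _)
  simp only [Category.assoc]

open HomologicalComplex ComplexShape in
set_option maxHeartbeats 400000 in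
lemma truncGEMap_f_eq_opcyclesMap {K L : CochainComplex C ℤ} (φ : K ⟶ L) (n : ℤ) :
    (CochainComplex.truncGEMap φ n).f n =
      (K.truncGEXIsoOpcycles n).hom ≫ opcyclesMap φ n ≫ (L.truncGEXIsoOpcycles n).inv :=
  hc_truncGEMap_f_eq_opcyclesMap _ φ _ _

open HomologicalComplex ComplexShape in
set_option maxHeartbeats 400000 in
lemma truncGEMap_f_eq {K L : CochainComplex C ℤ} (φ : K ⟶ L) (n k : ℤ) (hk : n < k) :
    (CochainComplex.truncGEMap φ n).f k =
      (K.truncGEXIso n k hk).hom ≫ φ.f k ≫ (L.truncGEXIso n k hk).inv :=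
  hc_truncGEMap_f_eq _ φ _ _


open HomologicalComplex in
set_option maxHeartbeats 400000 in
lemma opcyclesMap_comp_fromOpcycles {K L : CochainComplex C ℤ} (φ : K ⟶ L) (i j : ℤ) :
    opcyclesMap φ i ≫ L.fromOpcycles i j = K.fromOpcycles i j ≫ φ.f j := by
  rw [← cancel_epi (K.pOpcycles i)]
  simp

open HomologicalComplex in
set_option maxHeartbeats 400000 in
lemma mono_opcyclesMap (S : ShortComplex (CochainComplex C ℤ)) (hS : S.ShortExact) (n : ℤ)
    (h : S.X₃.ExactAt (n - 1)) : Mono (opcyclesMap S.f n) := by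
  have hmono : Mono (homologyMap S.f n) :=
    (hS.homology_exact₁ (n - 1) n (by simp)).mono_g ((h.isZero_homology).eq_of_src _ _)
  have := hS.mono_f
  have : Mono (S.f.f (n + 1)) := inferInstance
  refine Preadditive.mono_of_cancel_zero _ (fun {W} a ha => ?_)
  have h1 : a ≫ S.X₁.fromOpcycles n (n + 1) = 0 := by
    rw [← cancel_mono (S.f.f (n + 1)), Category.assoc, zero_comp,
      ← opcyclesMap_comp_fromOpcycles, reassoc_of% ha, zero_comp]
  obtain ⟨b, hb⟩ := KernelFork.IsLimit.lift' (S.X₁.homologyIsKernel n (n + 1) (by simp)) a h1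
  dsimp at hb
  have h2 : b ≫ homologyMap S.f n = 0 := by
    rw [← cancel_mono (S.X₂.homologyι n), Category.assoc, homologyι_naturality,
      reassoc_of% hb, ha, zero_comp]
  have h3 : b = 0 := by
    rw [← cancel_mono (homologyMap S.f n), h2, zero_comp]
  rw [← hb, h3, zero_comp]

/-- The truncation `≥ n` of a short complex of cochain complexes. -/
noncomputable def truncSC (S : ShortComplex (CochainComplex C ℤ)) (n : ℤ) :
    ShortComplex (CochainComplex C ℤ) :=
  ShortComplex.mk (CochainComplex.truncGEMap S.f n) (CochainComplex.truncGEMap S.g n) (by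
    have : Epi (S.X₁.πTruncGE n) := by dsimp [CochainComplex.πTruncGE]; infer_instance
    rw [← cancel_epi (S.X₁.πTruncGE n), CochainComplex.πTruncGE_naturality_assoc,
      CochainComplex.πTruncGE_naturality, S.zero_assoc, zero_comp, comp_zero])

open HomologicalComplex in
set_option maxHeartbeats 400000 in
lemma truncSC_shortExact (S : ShortComplex (CochainComplex C ℤ)) (hS : S.ShortExact) (n : ℤ)
    (h : S.X₃.ExactAt (n - 1)) : (truncSC S n).ShortExact := by
  have := hS.mono_f
  have := hS.epi_g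
  apply shortExact_of_degreewise_shortExact
  intro k
  obtain hk | rfl | hk := lt_trichotomy k n
  · have h₁ : IsZero ((S.X₁.truncGE n).X k) := CochainComplex.isZero_of_isStrictlyGE _ n k hk
    have h₂ : IsZero ((S.X₂.truncGE n).X k) := CochainComplex.isZero_of_isStrictlyGE _ n k hk
    have h₃ : IsZero ((S.X₃.truncGE n).X k) := CochainComplex.isZero_of_isStrictlyGE _ n k hk
    exact
      { exact := ShortComplex.exact_of_isZero_X₂ _ h₂
        mono_f := ⟨fun _ _ _ => h₁.eq_of_tgt _ _⟩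
        epi_g := ⟨fun _ _ _ => h₃.eq_of_src _ _⟩ }
  · let T : ShortComplex C := ShortComplex.mk (opcyclesMap S.f k) (opcyclesMap S.g k)
      (by rw [← opcyclesMap_comp, S.zero, opcyclesMap_zero])
    have hT : T.ShortExact :=
      { exact := opcycles_right_exact S hS.exact k
        mono_f := mono_opcyclesMap S hS k h
        epi_g := by dsimp [T]; infer_instance }
    refine ShortComplex.shortExact_of_iso (ShortComplex.isoMk
      (S.X₁.truncGEXIsoOpcycles k).symm (S.X₂.truncGEXIsoOpcycles k).symm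
      (S.X₃.truncGEXIsoOpcycles k).symm ?_ ?_) hT
    · change _ ≫ (CochainComplex.truncGEMap S.f k).f k = opcyclesMap S.f k ≫ _
      rw [truncGEMap_f_eq_opcyclesMap S.f k]
      simp
    · change _ ≫ (CochainComplex.truncGEMap S.g k).f k = opcyclesMap S.g k ≫ _
      rw [truncGEMap_f_eq_opcyclesMap S.g k]
      simp
  · have hT : (S.map (eval C _ k)).ShortExact := hS.map (eval C _ k)
    refine ShortComplex.shortExact_of_iso (ShortComplex.isoMk
      (S.X₁.truncGEXIso n k hk).symm (S.X₂.truncGEXIso n k hk).symm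
      (S.X₃.truncGEXIso n k hk).symm ?_ ?_) hT
    · change _ ≫ (CochainComplex.truncGEMap S.f n).f k = S.f.f k ≫ _
      rw [truncGEMap_f_eq S.f _ _ hk]
      simp
    · change _ ≫ (CochainComplex.truncGEMap S.g n).f k = S.g.f k ≫ _
      rw [truncGEMap_f_eq S.g _ _ hk]
      simp


open HomologicalComplex in
set_option maxHeartbeats 400000 in
lemma injective_truncGE_X (K : CochainComplex C ℤ) (n : ℤ) [K.IsStrictlyGE (n - 1)]
    (hinj : ∀ k, Injective (K.X k)) (hK : K.ExactAt (n - 1)) (q : ℤ) :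
    Injective ((K.truncGE n).X q) := by
  obtain h | rfl | h := lt_trichotomy q n
  · exact (CochainComplex.isZero_of_isStrictlyGE _ n _ h).injective
  · have := hinj (q - 1)
    have := hinj q
    have : Injective (K.opcycles q) := K.injective_opcycles (q - 1) q hK
    exact Injective.of_iso (K.truncGEXIsoOpcycles q).symm inferInstance
  · exact Injective.of_iso (K.truncGEXIso n q h).symm (hinj q)

open HomologicalComplex in
lemma isGE_of_quasiIso {K L : CochainComplex C ℤ} (f : K ⟶ L) [QuasiIso f] (n : ℤ) [K.IsGE n] :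
    L.IsGE n := by
  rw [CochainComplex.isGE_iff]
  intro i hi
  exact (exactAt_iff_of_quasiIsoAt f i).1 (K.exactAt_of_isGE n i hi)

/-- The canonical morphism from a short complex of cochain complexes to its truncation. -/
noncomputable def toTruncSC (S : ShortComplex (CochainComplex C ℤ)) (n : ℤ) :
    S ⟶ truncSC S n where
  τ₁ := S.X₁.πTruncGE n
  τ₂ := S.X₂.πTruncGE n
  τ₃ := S.X₃.πTruncGE n
  comm₁₂ := by simp [truncSC]
  comm₂₃ := by simp [truncSC]

end

open CochainComplex.Plus.modelCategoryQuillen HomologicalComplex in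
set_option maxHeartbeats 1000000 in
/-- Let A be an abelian category with enough injectives and S : 0 → A• → B• → C• → 0 a short exact
sequence of cochain complexes all vanishing below degree n. Then there are a short exact sequence T
: 0 → I₁ → I₂ → I₃ → 0 of complexes of injective objects vanishing below degree n and a morphism of
short exact sequences S ⟶ T whose three components are quasi-isomorphisms. -/
theorem result {A : Type u} [Category.{v} A] [Abelian A] [EnoughInjectives A]
    (S : ShortComplex (CochainComplex A ℤ)) (hS : S.ShortExact) (n : ℤ)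
    [S.X₁.IsStrictlyGE n] [S.X₂.IsStrictlyGE n] [S.X₃.IsStrictlyGE n] :
    ∃ (T : ShortComplex (CochainComplex A ℤ)) (φ : S ⟶ T), T.ShortExact ∧
      T.X₁.IsStrictlyGE n ∧ T.X₂.IsStrictlyGE n ∧ T.X₃.IsStrictlyGE n ∧
      (∀ k : ℤ, Injective (T.X₁.X k) ∧ Injective (T.X₂.X k) ∧ Injective (T.X₃.X k)) ∧
      QuasiIso φ.τ₁ ∧ QuasiIso φ.τ₂ ∧ QuasiIso φ.τ₃ := by
  obtain ⟨I₃, i₃, hi₃, hI₃, hI₃'⟩ := exists_quasiIso_injective S.X₃ n
  have : S.X₂.IsStrictlyGE (n - 1 + 1) := by
    have e : n - 1 + 1 = n := by lia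
    rw [e]; infer_instance
  have : I₃.IsStrictlyGE (n - 1) := I₃.isStrictlyGE_of_ge (n - 1) n (by lia)
  obtain ⟨I₂, hI₂, ι, π, hι, hι', hπ, fac⟩ := cm5a (S.g ≫ i₃) (n - 1)
  have := hπ.epi
  let T' : ShortComplex (CochainComplex A ℤ) := ShortComplex.mk (kernel.ι π) π (kernel.condition π)
  have hT' : T'.ShortExact :=
    { exact := ShortComplex.exact_of_f_is_kernel _ (kernelIsKernel π)
      mono_f := by dsimp [T']; infer_instance
      epi_g := by dsimp [T']; infer_instance }
  let φ' : S ⟶ T' :=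
    { τ₁ := kernel.lift π (S.f ≫ ι) (by rw [Category.assoc, fac, S.zero_assoc, zero_comp])
      τ₂ := ι
      τ₃ := i₃
      comm₁₂ := by simp [T']
      comm₂₃ := by simp [T', fac] }
  have hq₁ : QuasiIso φ'.τ₁ := quasiIso_τ₁ φ' hS hT' hι' hi₃
  have hq₂ : QuasiIso φ'.τ₂ := hι'
  have hq₃ : QuasiIso φ'.τ₃ := hi₃
  -- cohomological bounds
  have ge₁ : T'.X₁.IsGE n := isGE_of_quasiIso φ'.τ₁ n
  have ge₂ : T'.X₂.IsGE n := isGE_of_quasiIso φ'.τ₂ n
  have ge₃ : T'.X₃.IsGE n := isGE_of_quasiIso φ'.τ₃ n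
  have ex₁ : T'.X₁.ExactAt (n - 1) := T'.X₁.exactAt_of_isGE n (n - 1)
  have ex₂ : T'.X₂.ExactAt (n - 1) := T'.X₂.exactAt_of_isGE n (n - 1)
  have ex₃ : T'.X₃.ExactAt (n - 1) := T'.X₃.exactAt_of_isGE n (n - 1)
  -- injectivity of the terms
  have hdeg : ∀ k : ℤ, (T'.map (eval A (ComplexShape.up ℤ) k)).ShortExact := fun k =>
    hT'.map (eval A (ComplexShape.up ℤ) k)
  have inj₁ : ∀ k : ℤ, Injective (T'.X₁.X k) := fun k => by
    have e : T'.X₁.X k ≅ kernel (π.f k) :=
      IsLimit.conePointUniqueUpToIso (hdeg k).fIsKernel (limit.isLimit _)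
    exact Injective.of_iso e.symm (hπ k).2
  have inj₃ : ∀ k : ℤ, Injective (T'.X₃.X k) := hI₃
  have inj₂ : ∀ k : ℤ, Injective (T'.X₂.X k) := fun k => by
    have : Injective (T'.map (eval A (ComplexShape.up ℤ) k)).X₁ := inj₁ k
    have : Injective ((T'.map (eval A (ComplexShape.up ℤ) k)).X₁ ⊞
        (T'.map (eval A (ComplexShape.up ℤ) k)).X₃) := by
      have : Injective (T'.map (eval A (ComplexShape.up ℤ) k)).X₃ := inj₃ k
      infer_instance
    exact Injective.of_iso ((hdeg k).splittingOfInjective.isoBinaryBiproduct).symm this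
  -- strict bounds
  have sge₁ : T'.X₁.IsStrictlyGE (n - 1) := by
    rw [CochainComplex.isStrictlyGE_iff]
    intro i hi
    have : Mono ((kernel.ι π).f i) := inferInstance
    exact IsZero.of_mono ((kernel.ι π).f i) (I₂.isZero_of_isStrictlyGE (n - 1) i hi)
  have sge₂ : T'.X₂.IsStrictlyGE (n - 1) := hI₂
  have sge₃ : T'.X₃.IsStrictlyGE (n - 1) := inferInstance
  refine ⟨truncSC T' n, φ' ≫ toTruncSC T' n, truncSC_shortExact T' hT' n ex₃,
    ?_, ?_, ?_, fun k => ⟨?_, ?_, ?_⟩, ?_, ?_, ?_⟩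
  · dsimp [truncSC]; infer_instance
  · dsimp [truncSC]; infer_instance
  · dsimp [truncSC]; infer_instance
  · exact injective_truncGE_X T'.X₁ n inj₁ ex₁ k
  · exact injective_truncGE_X T'.X₂ n inj₂ ex₂ k
  · exact injective_truncGE_X T'.X₃ n inj₃ ex₃ k
  · change QuasiIso (φ'.τ₁ ≫ T'.X₁.πTruncGE n)
    infer_instance
  · change QuasiIso (φ'.τ₂ ≫ T'.X₂.πTruncGE n)
    infer_instance
  · change QuasiIso (φ'.τ₃ ≫ T'.X₃.πTruncGE n)
    infer_instance

end Groth.Agent.S1123
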