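import Groth.Statements.S0918
import Groth.Agent.S1123
import Groth.Agent.Lib.FunctorialInjective
import Mathlib.Algebra.Homology.GrothendieckAbelian
import Mathlib.Algebra.Homology.HomotopyCategory.Pretriangulated
import Mathlib.Algebra.Homology.Factorizations.CM5b

set_option autoImplicit false
universe v u
open CategoryTheory CategoryTheory.Limits
open CohDer

namespace Groth.Agent.S0918

section
variable {A : Type u} [Category.{v} A] [Abelian A]

open CochainComplex

/-- The functor `K ↦ cone (𝟙 K)`. -/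
noncomputable def coneId : CochainComplex A ℤ ⥤ CochainComplex A ℤ where
  obj K := mappingCone (𝟙 K)
  map {K L} f := mappingCone.map (𝟙 K) (𝟙 L) f f (by simp)
  map_id K := mappingCone.map_id _
  map_comp f g := mappingCone.map_comp _ _ _ _ _ _ _ _ _

/-- The natural transformation `cone (𝟙 K) ⟶ K⟦1⟧`. -/
noncomputable def coneδ :
    coneId (A := A) ⟶ CategoryTheory.shiftFunctor (CochainComplex A ℤ) (1 : ℤ) where
  app K := (mappingCone.triangle (𝟙 K)).mor₃
  naturality {K L} f := ((mappingCone.triangleMap (𝟙 K) (𝟙 L) f f (by simp)).comm₃).symm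

/-- The natural transformation `K ⟶ cone (𝟙 K)`. -/
noncomputable def coneInr : 𝟭 _ ⟶ coneId (A := A) where
  app K := mappingCone.inr (𝟙 K)
  naturality {K L} f := ((mappingCone.triangleMap (𝟙 K) (𝟙 L) f f (by simp)).comm₂).symm

/-- `cone (𝟙 K)` is contractible. -/
noncomputable def coneIdHomotopy (K : CochainComplex A ℤ) :
    Homotopy (𝟙 (mappingCone (𝟙 K))) 0 :=
  mappingCone.liftHomotopy _ _ _ (mappingCone.snd _) 0 (by simp) (by simp)

lemma coneId_exactAt (K : CochainComplex A ℤ) (n : ℤ) : (coneId.obj K).ExactAt n := by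
  change (mappingCone (𝟙 K)).ExactAt n
  rw [HomologicalComplex.exactAt_iff_isZero_homology, IsZero.iff_id_eq_zero,
    ← HomologicalComplex.homologyMap_id, (coneIdHomotopy K).homologyMap_eq,
    HomologicalComplex.homologyMap_zero]

set_option backward.isDefEq.respectTransparency false in
lemma coneδ_section (K : CochainComplex A ℤ) (n : ℤ) :
    (-(mappingCone.inl (𝟙 K)).v (n + 1) n (by lia)) ≫ (mappingCone.triangle (𝟙 K)).mor₃.f n =
      𝟙 (K.X (n + 1)) := by
  rw [Preadditive.neg_comp, mappingCone.inl_v_triangle_mor₃_f]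
  simp [shiftFunctorObjXIso]

instance (K : CochainComplex A ℤ) (n : ℤ) : IsSplitEpi ((coneδ.app K).f n) :=
  IsSplitEpi.mk' ⟨_, coneδ_section K n⟩

section mapLemmas

variable {K₁ L₁ K₂ L₂ : CochainComplex A ℤ} (φ₁ : K₁ ⟶ L₁) (φ₂ : K₂ ⟶ L₂)
  (a : K₁ ⟶ K₂) (b : L₁ ⟶ L₂) (comm : φ₁ ≫ b = a ≫ φ₂)

set_option backward.isDefEq.respectTransparency false in
@[reassoc]
lemma map_f_fst_v (p q : ℤ) (hpq : p + 1 = q) :
    (mappingCone.map φ₁ φ₂ a b comm).f p ≫ (mappingCone.fst φ₂).1.v p q hpq =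
      (mappingCone.fst φ₁).1.v p q hpq ≫ a.f q := by
  subst hpq
  simp [mappingCone.map, mappingCone.ext_from_iff _ (p + 1) p rfl]

set_option backward.isDefEq.respectTransparency false in
@[reassoc]
lemma map_f_snd_v (p : ℤ) :
    (mappingCone.map φ₁ φ₂ a b comm).f p ≫ (mappingCone.snd φ₂).v p p (add_zero p) =
      (mappingCone.snd φ₁).v p p (add_zero p) ≫ b.f p := by
  simp [mappingCone.map, mappingCone.ext_from_iff _ (p + 1) p rfl]

end mapLemmas

section IJ

variable (Jf : A ⥤ A) (ι : 𝟭 A ⟶ Jf)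

/-- The functor sending `M` to the complex with zero differentials and terms `Jf (M^n)`. -/
noncomputable def IJ : CochainComplex A ℤ ⥤ CochainComplex A ℤ where
  obj M :=
    { X := fun n => Jf.obj (M.X n)
      d := fun _ _ => 0 }
  map f :=
    { f := fun n => Jf.map (f.f n)
      comm' := fun _ _ _ => comp_zero.trans zero_comp.symm }

@[simp] lemma IJ_obj_X (M : CochainComplex A ℤ) (n : ℤ) :
    ((IJ Jf).obj M).X n = Jf.obj (M.X n) := rfl

@[simp] lemma IJ_obj_d (M : CochainComplex A ℤ) (n m : ℤ) :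
    ((IJ Jf).obj M).d n m = 0 := rfl

@[simp] lemma IJ_map_f {M M' : CochainComplex A ℤ} (f : M ⟶ M') (n : ℤ) :
    ((IJ Jf).map f).f n = Jf.map (f.f n) := rfl

/-- The functorial contractible complex containing `M`. -/
noncomputable def Cf : CochainComplex A ℤ ⥤ CochainComplex A ℤ := IJ Jf ⋙ coneId

set_option backward.isDefEq.respectTransparency false in
/-- The embedding `M ⟶ Cf M`. -/
noncomputable def uApp (M : CochainComplex A ℤ) : M ⟶ mappingCone (𝟙 ((IJ Jf).obj M)) :=
  mappingCone.lift _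
    (HomComplex.Cocycle.mk (HomComplex.Cochain.mk (fun p q _ => M.d p q ≫ ι.app (M.X q))) 2
      (by lia) (by
        ext p q hpq
        simp [HomComplex.δ_v 1 2 (by lia) _ p q hpq (p + 1) (p + 1) (by lia) rfl]))
    (HomComplex.Cochain.ofHoms (fun n => ι.app (M.X n))) (by cat_disch)

set_option backward.isDefEq.respectTransparency false in
@[reassoc]
lemma uApp_f_snd_v (M : CochainComplex A ℤ) (n : ℤ) :
    (uApp Jf ι M).f n ≫ (mappingCone.snd (𝟙 ((IJ Jf).obj M))).v n n (add_zero n) =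
      ι.app (M.X n) := by
  simp [uApp]

set_option backward.isDefEq.respectTransparency false in
@[reassoc]
lemma uApp_f_fst_v (M : CochainComplex A ℤ) (n m : ℤ) (h : n + 1 = m) :
    (uApp Jf ι M).f n ≫ (mappingCone.fst (𝟙 ((IJ Jf).obj M))).1.v n m h =
      M.d n m ≫ ι.app (M.X m) := by
  simp [uApp]

set_option backward.isDefEq.respectTransparency false in
lemma uApp_naturality {M M' : CochainComplex A ℤ} (f : M ⟶ M') :
    f ≫ uApp Jf ι M' = uApp Jf ι M ≫ (Cf Jf).map f := by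
  ext n
  rw [mappingCone.ext_to_iff _ n (n + 1) rfl]
  constructor
  · have h1 := ι.naturality (f.f (n + 1))
    dsimp at h1
    simp only [HomologicalComplex.comp_f, Category.assoc, Cf, Functor.comp_map, coneId]
    rw [uApp_f_fst_v, map_f_fst_v, uApp_f_fst_v_assoc]
    simp [h1]
  · have h1 := ι.naturality (f.f n)
    dsimp at h1
    simp only [HomologicalComplex.comp_f, Category.assoc, Cf, Functor.comp_map, coneId]
    rw [uApp_f_snd_v, map_f_snd_v, uApp_f_snd_v_assoc]
    simp [h1]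

/-- The natural embedding `M ⟶ Cf M`. -/
noncomputable def uN : 𝟭 (CochainComplex A ℤ) ⟶ Cf Jf where
  app M := uApp Jf ι M
  naturality _ _ f := uApp_naturality Jf ι f

lemma mono_uN_f [∀ X, Mono (ι.app X)] (M : CochainComplex A ℤ) (n : ℤ) :
    Mono (((uN Jf ι).app M).f n) := by
  have hm : Mono (ι.app (M.X n)) := inferInstance
  exact @mono_of_mono_fac _ _ _ _ _ _ _ _ hm (uApp_f_snd_v Jf ι M n)

set_option backward.isDefEq.respectTransparency false in
lemma injective_Cf_X [∀ X, Injective (Jf.obj X)] (M : CochainComplex A ℤ) (n : ℤ) :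
    Injective (((Cf Jf).obj M).X n) := by
  have : ∀ k, Injective (((IJ Jf).obj M).X k) := fun k => by dsimp; infer_instance
  exact Injective.of_iso
    (HomologicalComplex.homotopyCofiber.XIsoBiprod (𝟙 ((IJ Jf).obj M)) n (n + 1) rfl).symm
    inferInstance

/-- The cokernel of `uN`, as a functor. -/
noncomputable def Qf : CochainComplex A ℤ ⥤ CochainComplex A ℤ where
  obj M := cokernel ((uN Jf ι).app M)
  map {M M'} f := cokernel.map _ _ f ((Cf Jf).map f) ((uN Jf ι).naturality f).symm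
  map_id M := by
    apply coequalizer.hom_ext
    simp
  map_comp f g := by
    apply coequalizer.hom_ext
    simp

/-- The projection `Cf ⟶ Qf`. -/
noncomputable def pN : Cf Jf ⟶ Qf Jf ι where
  app M := cokernel.π ((uN Jf ι).app M)
  naturality {M M'} f := by simp [Qf]

@[reassoc (attr := simp)]
lemma uN_pN (M : CochainComplex A ℤ) : (uN Jf ι).app M ≫ (pN Jf ι).app M = 0 :=
  cokernel.condition _

/-- The functorial acyclic complex mapping onto `Qf`. -/
noncomputable def Wf : CochainComplex A ℤ ⥤ CochainComplex A ℤ :=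
  Qf Jf ι ⋙ CategoryTheory.shiftFunctor (CochainComplex A ℤ) (-1 : ℤ) ⋙ coneId

/-- The projection `Wf ⟶ Qf`. -/
noncomputable def πW : Wf Jf ι ⟶ Qf Jf ι where
  app M := coneδ.app (((Qf Jf ι).obj M)⟦(-1 : ℤ)⟧) ≫
    (shiftFunctorCompIsoId (CochainComplex A ℤ) (-1 : ℤ) 1 (by lia)).hom.app ((Qf Jf ι).obj M)
  naturality {M M'} f := by
    have h1 := coneδ.naturality (((Qf Jf ι).map f)⟦(-1 : ℤ)⟧')
    have h2 := (shiftFunctorCompIsoId (CochainComplex A ℤ) (-1 : ℤ) 1 (by lia)).hom.naturality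
      ((Qf Jf ι).map f)
    dsimp at h1 h2
    dsimp [Wf]
    rw [reassoc_of% h1, Category.assoc, h2]

/-- The epimorphism `Cf M ⊞ Wf M ⟶ Qf M`. -/
noncomputable def gApp (M : CochainComplex A ℤ) :
    (Cf Jf).obj M ⊞ (Wf Jf ι).obj M ⟶ (Qf Jf ι).obj M :=
  biprod.desc ((pN Jf ι).app M) ((πW Jf ι).app M)

@[reassoc (attr := simp)]
lemma inl_gApp (M : CochainComplex A ℤ) : biprod.inl ≫ gApp Jf ι M = (pN Jf ι).app M := by
  simp [gApp]

@[reassoc (attr := simp)]
lemma inr_gApp (M : CochainComplex A ℤ) : biprod.inr ≫ gApp Jf ι M = (πW Jf ι).app M := by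
  simp [gApp]

/-- Functoriality of `Cf M ⊞ Wf M`. -/
noncomputable def bmap {M M' : CochainComplex A ℤ} (f : M ⟶ M') :
    (Cf Jf).obj M ⊞ (Wf Jf ι).obj M ⟶ (Cf Jf).obj M' ⊞ (Wf Jf ι).obj M' :=
  biprod.map ((Cf Jf).map f) ((Wf Jf ι).map f)

lemma bmap_id (M : CochainComplex A ℤ) : bmap Jf ι (𝟙 M) = 𝟙 _ := by
  apply biprod.hom_ext' <;> simp [bmap]

lemma bmap_comp {M M' M'' : CochainComplex A ℤ} (f : M ⟶ M') (g : M' ⟶ M'') :
    bmap Jf ι (f ≫ g) = bmap Jf ι f ≫ bmap Jf ι g := by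
  apply biprod.hom_ext' <;> simp [bmap]

@[reassoc (attr := simp)]
lemma inl_bmap {M M' : CochainComplex A ℤ} (f : M ⟶ M') :
    biprod.inl ≫ bmap Jf ι f = (Cf Jf).map f ≫ biprod.inl := by
  simp [bmap]

lemma bmap_gApp {M M' : CochainComplex A ℤ} (f : M ⟶ M') :
    bmap Jf ι f ≫ gApp Jf ι M' = gApp Jf ι M ≫ (Qf Jf ι).map f := by
  apply biprod.hom_ext'
  · simp [bmap]
  · simp [bmap]

/-- The functor `N`. -/
noncomputable def Nf : CochainComplex A ℤ ⥤ CochainComplex A ℤ where
  obj M := kernel (gApp Jf ι M)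
  map {M M'} f := kernel.map _ _ (bmap Jf ι f) ((Qf Jf ι).map f) (bmap_gApp Jf ι f).symm
  map_id M := by
    apply equalizer.hom_ext
    simp [bmap_id]
  map_comp f g := by
    apply equalizer.hom_ext
    simp [bmap_comp]

/-- The natural transformation `j`. -/
noncomputable def jN : 𝟭 (CochainComplex A ℤ) ⟶ Nf Jf ι where
  app M := kernel.lift (gApp Jf ι M) ((uN Jf ι).app M ≫ biprod.inl) (by simp)
  naturality {M M'} f := by
    apply equalizer.hom_ext
    have := (uN Jf ι).naturality f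
    dsimp at this
    dsimp [Nf]
    simp [reassoc_of% this]

lemma exactAt_biprod {K L : CochainComplex A ℤ} (n : ℤ) (hK : K.ExactAt n) (hL : L.ExactAt n) :
    (K ⊞ L).ExactAt n := by
  rw [HomologicalComplex.exactAt_iff_isZero_homology] at hK hL ⊢
  rw [IsZero.iff_id_eq_zero, ← HomologicalComplex.homologyMap_id, ← biprod.total,
    HomologicalComplex.homologyMap_add, HomologicalComplex.homologyMap_comp,
    HomologicalComplex.homologyMap_comp,
    hK.eq_of_tgt (HomologicalComplex.homologyMap biprod.fst n) 0,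
    hL.eq_of_tgt (HomologicalComplex.homologyMap biprod.snd n) 0]
  simp

lemma isSplitEpi_comp_iso_f {K L L' : CochainComplex A ℤ} (a : K ⟶ L) (e : L ≅ L') (n : ℤ)
    [IsSplitEpi (a.f n)] : IsSplitEpi ((a ≫ e.hom).f n) := by
  rw [HomologicalComplex.comp_f]
  have : IsIso (e.hom.f n) :=
    inferInstanceAs (IsIso ((HomologicalComplex.eval A (ComplexShape.up ℤ) n).map e.hom))
  infer_instance

instance (M : CochainComplex A ℤ) (n : ℤ) : IsSplitEpi (((πW Jf ι).app M).f n) :=
  isSplitEpi_comp_iso_f (coneδ.app (((Qf Jf ι).obj M)⟦(-1 : ℤ)⟧))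
    ((shiftFunctorCompIsoId (CochainComplex A ℤ) (-1 : ℤ) 1 (by lia)).app ((Qf Jf ι).obj M)) n

end IJ

end

open CochainComplex HomologicalComplex in
set_option maxHeartbeats 1000000 in
/-- Let A be a Grothendieck abelian category. There are an endofunctor N of the category of cochain
complexes and a natural transformation j from the identity to N such that for every complex M: j_M
is a termwise monomorphism and a quasi-isomorphism, and for every n the map M^n -> N(M)^n factors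
through a monomorphism I -> N(M)^n from an injective object I. -/
theorem result {A : Type u} [Category.{v} A] [Abelian A]
    [IsGrothendieckAbelian.{v} A] :
    ∃ (N : CochainComplex A ℤ ⥤ CochainComplex A ℤ) (j : 𝟭 _ ⟶ N),
      ∀ M : CochainComplex A ℤ, (∀ n : ℤ, Mono ((j.app M).f n)) ∧ QuasiIso (j.app M) ∧
        ∀ n : ℤ, ∃ (I : A) (_ : Injective I) (a : M.X n ⟶ I) (b : I ⟶ (N.obj M).X n),
          Mono b ∧ a ≫ b = (j.app M).f n := by
  obtain ⟨Jf, ι, h⟩ :=
    Groth.Agent.Lib.FunctorialInjective.exists_functorial_injective_embedding.{v} (A := A)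
  have hinj : ∀ X, Injective (Jf.obj X) := fun X => (h X).1
  have hmono : ∀ X, Mono (ι.app X) := fun X => (h X).2
  refine ⟨Nf Jf ι, jN Jf ι, fun M => ?_⟩
  have hu : ∀ n, Mono (((uN Jf ι).app M).f n) := mono_uN_f Jf ι M
  have : Mono ((uN Jf ι).app M) := HomologicalComplex.mono_of_mono_f _ hu
  have : Epi ((pN Jf ι).app M) := by
    change Epi (cokernel.π ((uN Jf ι).app M))
    infer_instance
  let S : ShortComplex (CochainComplex A ℤ) := ShortComplex.mk _ _ (uN_pN Jf ι M)
  have hS : S.ShortExact :=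
    { exact := ShortComplex.exact_of_g_is_cokernel _ (cokernelIsCokernel _)
      mono_f := by dsimp [S]; infer_instance
      epi_g := by dsimp [S]; infer_instance }
  have : Epi (gApp Jf ι M) := epi_of_epi_fac (inl_gApp Jf ι M)
  let S' : ShortComplex (CochainComplex A ℤ) :=
    ShortComplex.mk (kernel.ι (gApp Jf ι M)) (gApp Jf ι M) (kernel.condition _)
  have hS' : S'.ShortExact :=
    { exact := ShortComplex.exact_of_f_is_kernel _ (kernelIsKernel _)
      mono_f := by dsimp [S']; infer_instance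
      epi_g := by dsimp [S']; infer_instance }
  have hjι : (jN Jf ι).app M ≫ kernel.ι (gApp Jf ι M) = (uN Jf ι).app M ≫ biprod.inl :=
    kernel.lift_ι _ _ _
  let φ : S ⟶ S' :=
    { τ₁ := (jN Jf ι).app M
      τ₂ := biprod.inl
      τ₃ := 𝟙 _
      comm₁₂ := hjι
      comm₂₃ := by simp [S, S'] }
  have q₂ : QuasiIso φ.τ₂ := by
    rw [quasiIso_iff]
    intro n
    exact (quasiIsoAt_iff_exactAt φ.τ₂ n (coneId_exactAt _ n)).2
      (exactAt_biprod n (coneId_exactAt _ n) (coneId_exactAt _ n))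
  have q₃ : QuasiIso φ.τ₃ := by dsimp [φ]; infer_instance
  have q₁ : QuasiIso ((jN Jf ι).app M) := Groth.Agent.S1123.quasiIso_τ₁ φ hS hS' q₂ q₃
  -- degreewise facts
  have hjιf : ∀ n, ((jN Jf ι).app M).f n ≫ (kernel.ι (gApp Jf ι M)).f n =
      ((uN Jf ι).app M).f n ≫
        (biprod.inl : (Cf Jf).obj M ⟶ (Cf Jf).obj M ⊞ (Wf Jf ι).obj M).f n := fun n => by
    rw [← HomologicalComplex.comp_f, hjι, HomologicalComplex.comp_f]
  have inl_fst : ∀ n, (biprod.inl : (Cf Jf).obj M ⟶ (Cf Jf).obj M ⊞ (Wf Jf ι).obj M).f n ≫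
      (biprod.fst : (Cf Jf).obj M ⊞ (Wf Jf ι).obj M ⟶ (Cf Jf).obj M).f n = 𝟙 _ := fun n => by
    rw [← HomologicalComplex.comp_f, biprod.inl_fst, HomologicalComplex.id_f]
  have inr_fst : ∀ n, (biprod.inr : (Wf Jf ι).obj M ⟶ (Cf Jf).obj M ⊞ (Wf Jf ι).obj M).f n ≫
      (biprod.fst : (Cf Jf).obj M ⊞ (Wf Jf ι).obj M ⟶ (Cf Jf).obj M).f n = 0 := fun n => by
    rw [← HomologicalComplex.comp_f, biprod.inr_fst, HomologicalComplex.zero_f]
  have inl_g : ∀ n, (biprod.inl : (Cf Jf).obj M ⟶ (Cf Jf).obj M ⊞ (Wf Jf ι).obj M).f n ≫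
      (gApp Jf ι M).f n = ((pN Jf ι).app M).f n := fun n => by
    rw [← HomologicalComplex.comp_f, inl_gApp]
  have inr_g : ∀ n, (biprod.inr : (Wf Jf ι).obj M ⟶ (Cf Jf).obj M ⊞ (Wf Jf ι).obj M).f n ≫
      (gApp Jf ι M).f n = ((πW Jf ι).app M).f n := fun n => by
    rw [← HomologicalComplex.comp_f, inr_gApp]
  have up : ∀ n, ((uN Jf ι).app M).f n ≫ ((pN Jf ι).app M).f n = 0 := fun n => by
    rw [← HomologicalComplex.comp_f, uN_pN, HomologicalComplex.zero_f]
  have mono_inl : ∀ n, Mono ((biprod.inl :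
      (Cf Jf).obj M ⟶ (Cf Jf).obj M ⊞ (Wf Jf ι).obj M).f n) := fun n =>
    mono_of_mono_fac (inl_fst n)
  refine ⟨fun n => ?_, q₁, fun n => ?_⟩
  · have := hu n
    have := mono_inl n
    have : Mono (((uN Jf ι).app M).f n ≫
        (biprod.inl : (Cf Jf).obj M ⟶ (Cf Jf).obj M ⊞ (Wf Jf ι).obj M).f n) := mono_comp _ _
    exact mono_of_mono_fac (hjιf n)
  · let s := section_ (((πW Jf ι).app M).f n)
    have hs : s ≫ ((πW Jf ι).app M).f n = 𝟙 _ := IsSplitEpi.id _
    let t : ((Cf Jf).obj M).X n ⟶ ((Cf Jf).obj M ⊞ (Wf Jf ι).obj M).X n :=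
      (biprod.inl : (Cf Jf).obj M ⟶ (Cf Jf).obj M ⊞ (Wf Jf ι).obj M).f n -
        ((pN Jf ι).app M).f n ≫ s ≫
          (biprod.inr : (Wf Jf ι).obj M ⟶ (Cf Jf).obj M ⊞ (Wf Jf ι).obj M).f n
    have ht : t ≫ (gApp Jf ι M).f n = 0 := by
      simp only [t, Preadditive.sub_comp, Category.assoc, inl_g, inr_g, hs, Category.comp_id,
        sub_self]
    have ht' : t ≫ (biprod.fst : (Cf Jf).obj M ⊞ (Wf Jf ι).obj M ⟶ (Cf Jf).obj M).f n = 𝟙 _ := by
      simp only [t, Preadditive.sub_comp, Category.assoc, inl_fst, inr_fst, comp_zero, sub_zero]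
    have hker := (hS'.map (HomologicalComplex.eval A (ComplexShape.up ℤ) n)).fIsKernel
    obtain ⟨b', hb'⟩ := KernelFork.IsLimit.lift' hker t ht
    let b : ((Cf Jf).obj M).X n ⟶ (kernel (gApp Jf ι M)).X n := b'
    have hb : b ≫ (kernel.ι (gApp Jf ι M)).f n = t := hb'
    have : Mono t := mono_of_mono_fac ht'
    have : Mono (b ≫ (kernel.ι (gApp Jf ι M)).f n) := by rw [hb]; infer_instance
    have : Mono ((kernel.ι (gApp Jf ι M)).f n) := inferInstance
    refine ⟨_, injective_Cf_X Jf M n, ((uN Jf ι).app M).f n, b,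
      mono_of_mono b ((kernel.ι (gApp Jf ι M)).f n), ?_⟩
    apply (cancel_mono ((kernel.ι (gApp Jf ι M)).f n)).1
    change (((uN Jf ι).app M).f n ≫ b) ≫ (kernel.ι (gApp Jf ι M)).f n =
      ((jN Jf ι).app M).f n ≫ (kernel.ι (gApp Jf ι M)).f n
    rw [Category.assoc, hb, hjιf n]
    simp only [t, Preadditive.comp_sub, reassoc_of% (up n), zero_comp, sub_zero]

end Groth.Agent.S0918
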