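import Groth.Statements.S0919
import Mathlib.CategoryTheory.Adjunction.AdjointFunctorTheorems
import Mathlib.CategoryTheory.Abelian.GrothendieckCategory.Coseparator

set_option autoImplicit false
universe v u
open CategoryTheory
open CohDer

namespace Groth.Agent.S0919

open CategoryTheory.Limits in
/-- Let A be a Grothendieck abelian category and F a contravariant functor from A to sets (a functor on
the opposite category). Then F is representable if and only if F turns all small colimits of A into
limits, i.e. preserves small limits as a functor on the opposite category. -/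
theorem result {A : Type u} [Category.{v} A] [Abelian A]
    [IsGrothendieckAbelian.{v} A] (F : Aᵒᵖ ⥤ Type v) :
    F.IsRepresentable ↔ PreservesLimitsOfSize.{v, v} F := by
  constructor
  · intro h
    exact preservesLimits_of_natIso F.reprW
  · intro h
    obtain ⟨G, hG⟩ := HasCoseparator.hasCoseparator (C := Aᵒᵖ)
    have hF : F.IsRightAdjoint :=
      isRightAdjoint_of_preservesLimits_of_isCoseparating (P := ObjectProperty.singleton G) hG F
    let L := F.leftAdjoint
    let adj : L ⊣ F := Adjunction.ofIsRightAdjoint F
    have e1 := adj.corepresentableBy PUnit.{v+1}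
    have e2 : F.CorepresentableBy (L.obj PUnit.{v+1}) :=
      e1.ofIso (Functor.isoWhiskerLeft F Coyoneda.punitIso ≪≫ F.rightUnitor)
    refine ⟨(L.obj PUnit.{v+1}).unop, ⟨?_⟩⟩
    exact
      { homEquiv := fun {X} => (opEquiv _ _).symm.trans (e2.homEquiv (Y := Opposite.op X))
        homEquiv_comp := fun {X X'} f g => e2.homEquiv_comp f.op g.op }

end Groth.Agent.S0919
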