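import Groth.Statements.S0930
import Groth.Agent.Lib.RDPlusComp31
import Mathlib.CategoryTheory.Sites.Pullback
import Mathlib.Topology.Sheaves.SheafCondition.Sites

set_option autoImplicit false
universe u
open CategoryTheory
attribute [local instance] HasDerivedCategory.standard
open CohTop

namespace Groth.Agent.S0930

/-- For continuous maps f : X -> Y and g : Y -> Z, the composite of the right derived functors Rf_* :
D^+(X) -> D^+(Y) and Rg_* : D^+(Y) -> D^+(Z) is isomorphic to R(g ∘ f)_* (existence of an
isomorphism of functors between bounded below derived categories). -/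
theorem result {X Y Z : TopCat.{u}} (f : X ⟶ Y) (g : Y ⟶ Z) :
    Nonempty ((CohTop.push f).rightDerivedFunctorPlus ⋙ (CohTop.push g).rightDerivedFunctorPlus ≅
      (CohTop.push (f ≫ g)).rightDerivedFunctorPlus) := by
  have hpull : Limits.PreservesFiniteLimits (CohTop.pull f) :=
    Functor.SmallCategories.instPreservesFiniteLimitsSheafSheafPullbackOfRepresentablyFlat _ _ _ _
  have : (CohTop.push f).PreservesInjectiveObjects :=
    Functor.preservesInjectiveObjects_of_adjunction_of_preservesMonomorphisms
      (TopCat.Sheaf.pullbackPushforwardAdjunction AddCommGrpCat.{u} f)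
  have e : CohTop.push f ⋙ CohTop.push g ≅ CohTop.push (f ≫ g) := Iso.refl _
  exact Groth.Agent.RDPlus31.nonempty_comp_iso_of_preservesInjectiveObjects
    (CohTop.push f) (CohTop.push g) e

end Groth.Agent.S0930
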