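import Groth.Statements.S0935
import Groth.Agent.Lib.PushLocalF31

set_option autoImplicit false
universe u
open CategoryTheory
attribute [local instance] HasDerivedCategory.standard
open DCoh

namespace Groth.Agent.S0935

open AlgebraicGeometry CategoryTheory.Limits in
/-- Let f : X → Y be a morphism of schemes and (K_n)_{n ≥ 0} an inverse system in D(O_X) with derived
limit L. Then Rf_*L is a derived limit of the system (Rf_*K_n). Here Rf_* is the total right derived
functor of f_* under its existence binder, and the two countable products ∏ K_n and ∏ Rf_*K_n are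
assumed to exist. (The published statement is for morphisms of ringed spaces; stated here for
schemes.) -/
theorem result {X Y : Scheme.{u}} (f : X ⟶ Y) [DCoh.HasRpush f]
    (K : ℕ → DCoh.D X) (t : ∀ n, K (n + 1) ⟶ K n) [HasProduct K] [HasProduct fun n => (DCoh.Rpush f).obj (K n)]
    (L : DCoh.D X) (hL : DCoh.IsRlim K t L) :
    DCoh.IsRlim (fun n => (DCoh.Rpush f).obj (K n)) (fun n => (DCoh.Rpush f).map (t n)) ((DCoh.Rpush f).obj L) := by
  have inst : DCoh.HasRpush f := inferInstance
  haveI : ((ModSite.RMor.ofScheme f).push.mapHomotopyCategory (ComplexShape.up ℤ) ⋙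
      DerivedCategory.Qh).HasRightDerivedFunctor
      (HomotopyCategory.quasiIso (ModSite.Mod X.sheaf) (ComplexShape.up ℤ)) := inst
  let K' : ℕ → DerivedCategory (ModSite.Mod X.sheaf) := K
  let t' : ∀ n, K' (n + 1) ⟶ K' n := t
  haveI hK : HasProduct K' := ‹HasProduct K›
  haveI hK2 : HasProduct fun n =>
      (Groth.Agent.RlimRFVia31.RF (ModSite.RMor.ofScheme f).push).obj (K' n) :=
    ‹HasProduct fun n => (DCoh.Rpush f).obj (K n)›
  exact Groth.Agent.PushLocalF31.isRlim_RpushD (ModSite.RMor.ofScheme f) K' t' L hL

end Groth.Agent.S0935
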