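import Groth.Statements.S0943
import Mathlib.CategoryTheory.Triangulated.Yoneda
import Mathlib.CategoryTheory.Limits.Preserves.Shapes.Products

set_option autoImplicit false
universe u
open CohSite

namespace Groth.Agent.S0943

open CategoryTheory CategoryTheory.Limits Pretriangulated Opposite

section General

set_option linter.unusedSectionVars false

variable {T : Type*} [Category T] [Preadditive T] [HasZeroObject T] [HasShift T ℤ]
  [∀ n : ℤ, (shiftFunctor T n).Additive] [Pretriangulated T]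

/-- The shift of a product is a product of the shifts (the shift is an equivalence). -/
noncomputable def shiftFanIsLimit (K : ℕ → T) [HasProduct K] (m : ℤ) :
    IsLimit (Fan.mk ((shiftFunctor T m).obj (∏ᶜ K))
      (fun n => (shiftFunctor T m).map (Pi.π K n)) : Fan fun n => (shiftFunctor T m).obj (K n)) :=
  isLimitFanMkObjOfIsLimit (shiftFunctor T m) K _ (productIsProduct K)

lemma exists_lift (K : ℕ → T) [HasProduct K] (m : ℤ) {A : T}
    (x : ∀ n, A ⟶ (shiftFunctor T m).obj (K n)) :
    ∃ X : A ⟶ (shiftFunctor T m).obj (∏ᶜ K), ∀ n, X ≫ (shiftFunctor T m).map (Pi.π K n) = x n :=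
  ⟨Fan.IsLimit.lift (shiftFanIsLimit K m) x, fun n => Fan.IsLimit.fac (shiftFanIsLimit K m) x n⟩

lemma shift_hom_ext (K : ℕ → T) [HasProduct K] (m : ℤ) {A : T}
    (X Y : A ⟶ (shiftFunctor T m).obj (∏ᶜ K))
    (h : ∀ n, X ≫ (shiftFunctor T m).map (Pi.π K n) = Y ≫ (shiftFunctor T m).map (Pi.π K n)) :
    X = Y :=
  Fan.IsLimit.hom_ext (shiftFanIsLimit K m) X Y h

/-- The "identity minus shift" endomorphism of the product. -/
noncomputable abbrev phi (K : ℕ → T) (t : ∀ n, K (n + 1) ⟶ K n) [HasProduct K] : ∏ᶜ K ⟶ ∏ᶜ K :=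
  Pi.lift fun n => Pi.π K n - Pi.π K (n + 1) ≫ t n

lemma comp_shift_phi (K : ℕ → T) (t : ∀ n, K (n + 1) ⟶ K n) [HasProduct K] (m : ℤ) {A : T}
    (X : A ⟶ (shiftFunctor T m).obj (∏ᶜ K)) (n : ℕ) :
    (X ≫ (shiftFunctor T m).map (phi K t)) ≫ (shiftFunctor T m).map (Pi.π K n) =
      X ≫ (shiftFunctor T m).map (Pi.π K n) -
        (X ≫ (shiftFunctor T m).map (Pi.π K (n + 1))) ≫ (shiftFunctor T m).map (t n) := by
  rw [Category.assoc, ← Functor.map_comp, Pi.lift_π, Functor.map_sub, Functor.map_comp,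
    Preadditive.comp_sub, Category.assoc]

theorem milnor (K : ℕ → T) (t : ∀ n, K (n + 1) ⟶ K n) [HasProduct K]
    (L : T) (a : ∀ n, L ⟶ K n) (c : ∏ᶜ K ⟶ L⟦(1 : ℤ)⟧)
    (hT : Triangle.mk (Pi.lift a) (phi K t) c ∈ distTriang T) (A : T) (m : ℤ) :
    (∀ x : ∀ n, A ⟶ (shiftFunctor T m).obj (K n),
      (∀ n, x (n + 1) ≫ (shiftFunctor T m).map (t n) = x n) →
      ∃ y : A ⟶ (shiftFunctor T m).obj L, ∀ n, y ≫ (shiftFunctor T m).map (a n) = x n) ∧
    (Function.Surjective (fun (v : ∀ n, A ⟶ (shiftFunctor T (m - 1)).obj (K n)) (n : ℕ) =>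
        v n - v (n + 1) ≫ (shiftFunctor T (m - 1)).map (t n)) →
      ∀ y : A ⟶ (shiftFunctor T m).obj L, (∀ n, y ≫ (shiftFunctor T m).map (a n) = 0) → y = 0) := by
  constructor
  · intro x hx
    obtain ⟨X, hX⟩ := exists_lift K m x
    have hXphi : X ≫ (shiftFunctor T m).map (phi K t) = 0 := by
      apply shift_hom_ext K m
      intro n
      rw [comp_shift_phi, hX, hX, hx, sub_self, zero_comp]
    have hex := (preadditiveCoyoneda.obj (op A)).homologySequence_exact₂ _ hT m
    rw [ShortComplex.ab_exact_iff] at hex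
    obtain ⟨(y : A ⟶ (shiftFunctor T m).obj L), hy⟩ := hex X hXphi
    replace hy : y ≫ (shiftFunctor T m).map (Pi.lift a) = X := hy
    refine ⟨y, fun n => ?_⟩
    rw [← hX n, ← hy, Category.assoc, ← Functor.map_comp, Pi.lift_π]
  · intro hsurj y hy
    have hy0 : y ≫ (shiftFunctor T m).map (Pi.lift a) = 0 := by
      apply shift_hom_ext K m
      intro n
      rw [Category.assoc, ← Functor.map_comp, Pi.lift_π, hy, zero_comp]
    have hex := (preadditiveCoyoneda.obj (op A)).homologySequence_exact₁ _ hT (m - 1) m (by omega)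
    rw [ShortComplex.ab_exact_iff] at hex
    obtain ⟨(w : A ⟶ (shiftFunctor T (m - 1)).obj (∏ᶜ K)), hw⟩ := hex y hy0
    obtain ⟨v, hv⟩ := hsurj (fun n => w ≫ (shiftFunctor T (m - 1)).map (Pi.π K n))
    obtain ⟨V, hV⟩ := exists_lift K (m - 1) v
    have hVw : V ≫ (shiftFunctor T (m - 1)).map (phi K t) = w := by
      apply shift_hom_ext K (m - 1)
      intro n
      rw [comp_shift_phi, hV, hV]
      exact congr_fun hv n
    have hzero := (preadditiveCoyoneda.obj (op A)).comp_homologySequenceδ _ hT (m - 1) m (by omega)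
    have : (preadditiveCoyoneda.obj (op A)).homologySequenceδ
        (Triangle.mk (Pi.lift a) (phi K t) c) (m - 1) m (by omega) w = y := hw
    rw [← this, ← hVw]
    exact ConcreteCategory.congr_hom hzero V

end General

open CategoryTheory.Limits in
/-- Abelian sheaves; the short exact sequence 0 -> R^1 lim H^{m-1}(U, K_n) -> H^m(U, R lim K_n) -> lim
H^m(U, K_n) -> 0 rendered by two consequences: let (K_n) be an inverse system in the derived
category of abelian sheaves on a site with a derived limit L through maps a_n : L -> K_n, U an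
object and m an integer. Then every compatible family of classes in the H^m(U, K_n) lifts to H^m(U,
L), and if the system H^{m-1}(U, K_n) has vanishing R^1 lim the lift is unique (a class with zero
images is zero). -/
theorem result {C : Type u} [SmallCategory C] {J : GrothendieckTopology C}
    [HasDerivedCategory.{u} (Sheaf J AddCommGrpCat.{u})]
    (K : ℕ → DerivedCategory (Sheaf J AddCommGrpCat.{u})) (t : ∀ n, K (n + 1) ⟶ K n) [HasProduct K]
    (L : DerivedCategory (Sheaf J AddCommGrpCat.{u})) (a : ∀ n, L ⟶ K n) (hL : CohCx.IsRlimVia K t L a)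
    (U : C) (m : ℤ) :
    (∀ x : ∀ n, CohCx.HDU (K n) m U,
      (∀ n, x (n + 1) ≫ (shiftFunctor _ m).map (t n) = x n) →
      ∃ y : CohCx.HDU L m U, ∀ n, y ≫ (shiftFunctor _ m).map (a n) = x n) ∧
    (CohCx.LimOneIsZero (fun n => CohCx.HDU (K n) (m - 1) U)
        (fun n => Preadditive.rightComp _ ((shiftFunctor _ (m - 1)).map (t n))) →
      ∀ y : CohCx.HDU L m U, (∀ n, y ≫ (shiftFunctor _ m).map (a n) = 0) → y = 0) := by
  obtain ⟨c, hc⟩ := hL
  exact milnor K t L a c hc _ m

end Groth.Agent.S0943
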