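import Groth.Statements.S0949
import Groth.Agent.Lib.BifunctorCone66
import Groth.Agent.Lib.ConeQuasiIso

set_option autoImplicit false
universe u
open CategoryTheory
attribute [local instance] HasDerivedCategory.standard
open DCoh

namespace Groth.Agent.S0949

open AlgebraicGeometry in
/-- Let K be a K-flat complex of O_X-modules. Then for every quasi-isomorphism f : F -> G of complexes
of O_X-modules the induced map F ⊗ K -> G ⊗ K of total tensor complexes is a quasi-isomorphism. -/
theorem result {X : Scheme.{u}} (K : CochainComplex X.Modules ℤ) (hK : DCoh.IsKFlat K)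
    {F G : CochainComplex X.Modules ℤ} (f : F ⟶ G) [QuasiIso f] :
    QuasiIso ((DCoh.tensorCx.map f).app K) := by
  show QuasiIso (HomologicalComplex.mapBifunctorMap f (𝟙 K) (DCoh.tensorBi (X := X))
    (ComplexShape.up ℤ))
  rw [Groth.Agent.Lib.ConeQuasiIso.quasiIso_iff_acyclic_mappingCone]
  have h1 : (CochainComplex.mappingCone f).Acyclic :=
    (Groth.Agent.Lib.ConeQuasiIso.quasiIso_iff_acyclic_mappingCone f).1 inferInstance
  have h2 := hK (CochainComplex.mappingCone f)
    (fun i => (HomologicalComplex.exactAt_iff_isZero_homology _ _).1 (h1 i))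
  intro i
  have h3 : (HomologicalComplex.mapBifunctor (CochainComplex.mappingCone f) K
      (DCoh.tensorBi (X := X)) (ComplexShape.up ℤ)).ExactAt i :=
    (HomologicalComplex.exactAt_iff_isZero_homology _ _).2 (h2 i)
  exact h3.of_iso (Groth.Agent.Lib.BifunctorCone66.coneIso₁ (DCoh.tensorBi (X := X)) f K)

end Groth.Agent.S0949
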