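import Groth.Statements.S0960
import Groth.Agent.Lib.PullTensor81E
import Groth.Agent.Lib.RHomTensor66
import Groth.Agent.Lib.LpullHyp35
import Groth.Agent.Lib.TorAmpTri21

set_option autoImplicit false
universe u
open CategoryTheory
attribute [local instance] HasDerivedCategory.standard
open DCoh

namespace Groth.Agent.S0960

set_option linter.style.haveILetI false

open Groth.Agent.Lib.LTensorKFlat66 Groth.Agent.Lib.RHomTensor66 Groth.Agent.Lib.ModSiteTensorAssoc66
  Groth.Agent.Lib.LpullKFlat35 Groth.Agent.Lib.LpullHyp35 Groth.Agent.Lib.ModSiteKFlatQis66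
  Groth.Agent.Lib.ModSiteKFlatBdd66

section Site

variable {C : Type u} [SmallCategory C] {J : GrothendieckTopology C} {O : Sheaf J CommRingCat.{u}}

/-- `(- ⊗^L L)(Q P) ≅ Q(P ⊗ L)` for K-flat `L` -/
noncomputable def lTensorObjIso' (L : Cx O) (hL : ModSite.IsKFlat L)
    [ModSite.HasLTensorCx L] (P : Cx O) :
    (ModSite.LTensorCx L).obj (DerivedCategory.Q.obj P) ≅ DerivedCategory.Q.obj (T P L) :=
  (lTensorIso (𝟙 L) hL).app (DerivedCategory.Q.obj P) ≪≫
    (Localization.Lifting.iso DerivedCategory.Q (Wq O) (ModSite.tensorCxQ L) (tensD L hL)).app P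

end Site

open AlgebraicGeometry in
/-- `(- ⊗^L L)(Q P) ≅ Q(P ⊗ L)` for K-flat `L` -/
noncomputable def lTensorObjIso {X : Scheme.{u}} (L : CochainComplex X.Modules ℤ) (hL : DCoh.IsKFlat L)
    [DCoh.HasLTensorCx L] (P : CochainComplex X.Modules ℤ) :
    (DCoh.LTensorCx L).obj (DCoh.toD X P) ≅ DCoh.toD X ((DCoh.tensorCx.obj P).obj L) :=
  @lTensorObjIso' _ _ _ X.sheaf L hL ‹_› P

open AlgebraicGeometry in
/-- Schemes; second factor given by a K-flat complex L, so that Lf^* L is the plain pullback f^* L: for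
f : X -> Y, K in D(O_Y) and a K-flat complex L of O_Y-modules there is an isomorphism Lf^*(K ⊗^L L)
≅ (Lf^* K) ⊗^L (f^* L). The derived functors are taken under their existence binders; the assertion
is the existence of an isomorphism for each K. -/
theorem result {X Y : Scheme.{u}} (f : X ⟶ Y) [DCoh.HasLpull f] (L : CochainComplex Y.Modules ℤ)
    (hL : DCoh.IsKFlat L) [DCoh.HasLTensorCx L] [DCoh.HasLTensorCx (((Scheme.Modules.pullback f).mapHomologicalComplex (ComplexShape.up ℤ)).obj L)] (K : DCoh.D Y) :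
    Nonempty ((DCoh.Lpull f).obj ((DCoh.LTensorCx L).obj K) ≅
      (DCoh.LTensorCx (((Scheme.Modules.pullback f).mapHomologicalComplex (ComplexShape.up ℤ)).obj L)).obj ((DCoh.Lpull f).obj K)) := by
  obtain ⟨P, p, hP, -, hp⟩ := Groth.Agent.Lib.TorAmpTri21.exists_resolution (DerivedCategory.Q.objPreimage K)
  let eP : DCoh.toD Y P ≅ K := asIso (DerivedCategory.Q.map p) ≪≫ DerivedCategory.Q.objObjPreimageIso K
  have hPL : ModSite.IsKFlat (O := Y.sheaf) ((DCoh.tensorCx.obj P).obj L) :=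
    @isKFlat_tensor _ _ _ Y.sheaf P L hP hL
  have hfL : DCoh.IsKFlat ((pullCx f).obj L) := kflatHyp f L hL
  let i1 := lTensorObjIso L hL P
  let i2 := lpullIso (acycHyp f) _ hPL
  let i3 := DerivedCategory.Q.mapIso (Groth.Agent.Lib.PullTensor81.pullTensorCxIso f P L)
  let i4 := lpullIso (acycHyp f) P hP
  let i5 := lTensorObjIso ((pullCx f).obj L) hfL ((pullCx f).obj P)
  exact ⟨(DCoh.Lpull f).mapIso ((DCoh.LTensorCx L).mapIso eP.symm ≪≫ i1) ≪≫ i2 ≪≫ i3 ≪≫ i5.symm ≪≫
    (DCoh.LTensorCx ((pullCx f).obj L)).mapIso (i4.symm ≪≫ (DCoh.Lpull f).mapIso eP)⟩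

end Groth.Agent.S0960
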