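import Groth.Statements.S0963
import Groth.Agent.Lib.TorAmpTri21

set_option autoImplicit false
universe u
open CategoryTheory
attribute [local instance] HasDerivedCategory.standard
open DCoh

namespace Groth.Agent.S0963

open AlgebraicGeometry CategoryTheory.Pretriangulated in
/-- Schemes; hypotheses in the flat-representative form of tor-amplitude, conclusions in the
derived-tensor form: for a distinguished triangle K -> L -> M -> K[1] in D(O_X) and integers a, b:
(1) tor-amplitude of K in [a+1, b+1] and of L in [a, b] give tor-amplitude of M in [a, b]; (2)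
tor-amplitude of K and of M in [a, b] give the same for L; (3) tor-amplitude of L in [a+1, b+1] and
of M in [a, b] give tor-amplitude of K in [a+1, b+1]. -/
theorem result {X : Scheme.{u}} (T : Triangle (DCoh.D X)) (hT : T ∈ distinguishedTriangles)
    (a b : ℤ) :
    (DCoh.HasFlatAmplitudeIn (a + 1) (b + 1) T.obj₁ → DCoh.HasFlatAmplitudeIn a b T.obj₂ →
      DCoh.HasTorAmplitudeIn a b T.obj₃) ∧
    (DCoh.HasFlatAmplitudeIn a b T.obj₁ → DCoh.HasFlatAmplitudeIn a b T.obj₃ → DCoh.HasTorAmplitudeIn a b T.obj₂) ∧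
    (DCoh.HasFlatAmplitudeIn (a + 1) (b + 1) T.obj₂ → DCoh.HasFlatAmplitudeIn a b T.obj₃ →
      DCoh.HasTorAmplitudeIn (a + 1) (b + 1) T.obj₁) := by
  refine ⟨fun h1 h2 => ?_, fun h1 h3 => ?_, fun h2 h3 => ?_⟩
  · intro F _ i hi
    obtain ⟨T', hT', ⟨e1⟩, ⟨e2⟩, ⟨e3⟩⟩ :=
      Groth.Agent.Lib.TorAmpTri21.exists_distinguished_lTensor T hT F
    have t1 := Groth.Agent.Lib.TorAmp21.hasTorAmplitudeIn_of_hasFlatAmplitudeIn _ _ _ h1 F (i + 1)
      (by omega)
    have t2 := Groth.Agent.Lib.TorAmp21.hasTorAmplitudeIn_of_hasFlatAmplitudeIn _ _ _ h2 F i hi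
    exact (Groth.Agent.Lib.TorAmpTri21.isZero_H_obj₃ T' hT' i
      (t2.of_iso ((DerivedCategory.homologyFunctor X.Modules i).mapIso e2.symm))
      (t1.of_iso ((DerivedCategory.homologyFunctor X.Modules (i + 1)).mapIso e1.symm))).of_iso
      ((DerivedCategory.homologyFunctor X.Modules i).mapIso e3)
  · intro F _ i hi
    obtain ⟨T', hT', ⟨e1⟩, ⟨e2⟩, ⟨e3⟩⟩ :=
      Groth.Agent.Lib.TorAmpTri21.exists_distinguished_lTensor T hT F
    have t1 := Groth.Agent.Lib.TorAmp21.hasTorAmplitudeIn_of_hasFlatAmplitudeIn _ _ _ h1 F i hi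
    have t3 := Groth.Agent.Lib.TorAmp21.hasTorAmplitudeIn_of_hasFlatAmplitudeIn _ _ _ h3 F i hi
    exact (Groth.Agent.Lib.TorAmpTri21.isZero_H_obj₂ T' hT' i
      (t1.of_iso ((DerivedCategory.homologyFunctor X.Modules i).mapIso e1.symm))
      (t3.of_iso ((DerivedCategory.homologyFunctor X.Modules i).mapIso e3.symm))).of_iso
      ((DerivedCategory.homologyFunctor X.Modules i).mapIso e2)
  · intro F _ i hi
    obtain ⟨T', hT', ⟨e1⟩, ⟨e2⟩, ⟨e3⟩⟩ :=
      Groth.Agent.Lib.TorAmpTri21.exists_distinguished_lTensor T hT F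
    have t2 := Groth.Agent.Lib.TorAmp21.hasTorAmplitudeIn_of_hasFlatAmplitudeIn _ _ _ h2 F i hi
    have t3 := Groth.Agent.Lib.TorAmp21.hasTorAmplitudeIn_of_hasFlatAmplitudeIn _ _ _ h3 F (i - 1)
      (by omega)
    exact (Groth.Agent.Lib.TorAmpTri21.isZero_H_obj₁ T' hT' (i - 1) i (by omega)
      (t3.of_iso ((DerivedCategory.homologyFunctor X.Modules (i - 1)).mapIso e3.symm))
      (t2.of_iso ((DerivedCategory.homologyFunctor X.Modules i).mapIso e2.symm))).of_iso
      ((DerivedCategory.homologyFunctor X.Modules i).mapIso e1)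

end Groth.Agent.S0963
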