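import Groth.Statements.S0966
import Groth.Agent.Lib.ProjFormula81D
import Groth.Agent.S0960

set_option autoImplicit false
universe u
open CategoryTheory
attribute [local instance] HasDerivedCategory.standard
open DCoh

namespace Groth.Agent.S0966

open AlgebraicGeometry in
/-- Schemes, f a closed immersion; K given by a K-flat complex P so that Lf^*K is f^*P: for E in D(O_X)
there is an isomorphism Rf_* E ⊗^L P ≅ Rf_*(E ⊗^L f^* P), with no perfectness assumption on P. The
derived functors are taken under their existence binders. -/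
theorem result {X Y : Scheme.{u}} (f : X ⟶ Y) [IsClosedImmersion f] [DCoh.HasRpush f]
    (P : CochainComplex Y.Modules ℤ) (hP : DCoh.IsKFlat P)
    [DCoh.HasLTensorCx P] [DCoh.HasLTensorCx (((Scheme.Modules.pullback f).mapHomologicalComplex (ComplexShape.up ℤ)).obj P)] (E : DCoh.D X) :
    Nonempty ((DCoh.LTensorCx P).obj ((DCoh.Rpush f).obj E) ≅
      (DCoh.Rpush f).obj ((DCoh.LTensorCx (((Scheme.Modules.pullback f).mapHomologicalComplex (ComplexShape.up ℤ)).obj P)).obj E)) := by
  have hf : Topology.IsClosedEmbedding f := f.isClosedEmbedding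
  let E₀ := DerivedCategory.Q.objPreimage E
  let eE : DCoh.toD X E₀ ≅ E := DerivedCategory.Q.objObjPreimageIso E
  have hfP : DCoh.IsKFlat ((Groth.Agent.Lib.LpullKFlat35.pullCx f).obj P) :=
    Groth.Agent.Lib.LpullHyp35.kflatHyp f P hP
  let i1 := Groth.Agent.Lib.ProjFormula81.rpushIso f hf E₀
  let i2 := Groth.Agent.S0960.lTensorObjIso P hP ((Groth.Agent.Lib.ProjFormula81.pushCx f).obj E₀)
  let i3 := DerivedCategory.Q.mapIso (Groth.Agent.Lib.ProjFormula81.projCxIso f hf E₀ P)
  let i4 := Groth.Agent.S0960.lTensorObjIso ((Groth.Agent.Lib.LpullKFlat35.pullCx f).obj P) hfP E₀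
  let i5 := Groth.Agent.Lib.ProjFormula81.rpushIso f hf
    ((DCoh.tensorCx.obj E₀).obj ((Groth.Agent.Lib.LpullKFlat35.pullCx f).obj P))
  exact ⟨(DCoh.LTensorCx P).mapIso ((DCoh.Rpush f).mapIso eE.symm ≪≫ i1) ≪≫ i2 ≪≫ i3 ≪≫ i5.symm ≪≫
    (DCoh.Rpush f).mapIso (i4.symm ≪≫
      (DCoh.LTensorCx ((Groth.Agent.Lib.LpullKFlat35.pullCx f).obj P)).mapIso eE)⟩

end Groth.Agent.S0966
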