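import Groth.Statements.S0976
import Mathlib.CategoryTheory.Triangulated.Orthogonal

set_option autoImplicit false
universe v u
open CategoryTheory
open CohDer

namespace Groth.Agent.S0976

open CategoryTheory.Pretriangulated in
/-- Let P be a triangulated subcategory of a triangulated category D (an object property containing
zero, stable under shifts, closed under extensions). Consider the class of objects X sitting in a
distinguished triangle A → X → B → A[1] with P A and B right orthogonal to P. This class is again
stable under shifts and closed under extensions, i.e. satisfies two-out-of-three in distinguished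
triangles. -/
theorem result {D : Type u} [Category.{v} D] [Preadditive D] [Limits.HasZeroObject D] [HasShift D ℤ]
    [∀ n : ℤ, (shiftFunctor D n).Additive] [Pretriangulated D] [IsTriangulated D]
    (P : ObjectProperty D) [P.IsTriangulated] :
    ObjectProperty.IsTriangulated (fun X : D => ∃ (A B : D) (f : A ⟶ X) (g : X ⟶ B) (h : B ⟶ (shiftFunctor D (1 : ℤ)).obj A),
      Triangle.mk f g h ∈ distinguishedTriangles ∧ P A ∧ P.rightOrthogonal B) := by
  change (ObjectProperty.extensionProduct P P.rightOrthogonal).IsTriangulated
  have hswap : ObjectProperty.extensionProduct P.rightOrthogonal P ≤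
      ObjectProperty.extensionProduct P P.rightOrthogonal := by
    intro X ⟨B, A, f, g, h, hT, hB, hA⟩
    have hh : h = 0 := by
      have : P.rightOrthogonal ((shiftFunctor D (1 : ℤ)).obj B) :=
        ObjectProperty.le_shift P.rightOrthogonal (1 : ℤ) _ hB
      exact this h hA
    obtain ⟨e, -, -⟩ := exists_iso_binaryBiproduct_of_distTriang _ hT hh
    have hmem : ObjectProperty.extensionProduct P P.rightOrthogonal (A ⊞ B) :=
      ⟨A, B, _, _, _, binaryBiproductTriangle_distinguished A B, hA, hB⟩
    exact ObjectProperty.prop_of_iso _ ((Limits.biprod.braiding A B) ≪≫ e.symm) hmem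
  have hPP : ObjectProperty.extensionProduct P P ≤ P.isoClosure :=
    ObjectProperty.extensionProduct_le_of_isTriangulatedClosed₂' le_rfl le_rfl
  have hQQ : ObjectProperty.extensionProduct P.rightOrthogonal P.rightOrthogonal ≤
      P.rightOrthogonal :=
    ObjectProperty.extensionProduct_le_of_isTriangulatedClosed₂ le_rfl le_rfl
  have hCC : ObjectProperty.extensionProduct
      (ObjectProperty.extensionProduct P P.rightOrthogonal)
      (ObjectProperty.extensionProduct P P.rightOrthogonal) ≤
      ObjectProperty.extensionProduct P P.rightOrthogonal := by
    rw [ObjectProperty.extensionProduct_assoc, ← ObjectProperty.extensionProduct_assoc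
      P.rightOrthogonal P P.rightOrthogonal]
    refine le_trans (ObjectProperty.monotone_extensionProduct_right P
      (ObjectProperty.monotone_extensionProduct_left P.rightOrthogonal hswap)) ?_
    rw [ObjectProperty.extensionProduct_assoc, ← ObjectProperty.extensionProduct_assoc]
    refine le_trans (ObjectProperty.monotone_extensionProduct_left _ hPP) ?_
    rw [ObjectProperty.extensionProduct_isoClosure_left]
    exact ObjectProperty.monotone_extensionProduct_right P hQQ
  have hzero : (ObjectProperty.extensionProduct P P.rightOrthogonal).ContainsZero := by
    obtain ⟨Z, hZ, hP⟩ := P.exists_prop_of_containsZero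
    exact ⟨Z, hZ, ObjectProperty.le_extensionProduct_left P.rightOrthogonal _ hP⟩
  exact
    { toContainsZero := hzero
      toIsStableUnderShift := inferInstance
      ext₂' := fun T hT h₁ h₃ =>
        ObjectProperty.le_isoClosure _ _ (hCC _ ⟨_, _, _, _, _, hT, h₁, h₃⟩) }

end Groth.Agent.S0976
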