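import Groth.Statements.S0978
import Groth.Agent.Lib.CompactEnv31
import Groth.Agent.Lib.BrownTower31

set_option autoImplicit false
universe v u
open CategoryTheory
open CohDer

namespace Groth.Agent.S0978

open CategoryTheory.Limits in
/-- Let D be a triangulated category with all small direct sums and E a compact object. Then E generates
D (an object admitting only zero maps from all shifts of E is zero) if and only if D is compactly
generated and every compact object lies in the triangulated envelope of E (objects reachable from E
by shifts, finite sums, direct summands and extensions). -/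
theorem result {D : Type u} [Category.{v} D] [Preadditive D] [Limits.HasZeroObject D] [HasShift D ℤ]
    [∀ n : ℤ, (shiftFunctor D n).Additive] [Pretriangulated D] [IsTriangulated D] [HasCoproducts.{v} D]
    [HasColimitsOfShape (Discrete ℕ) D]
    (E : D) (hE : CohDer.IsCompactObject E) :
    CohDer.Generates (fun _ : Unit => E) ↔
      (CohDer.IsCompactlyGenerated D ∧ ∀ X : D, CohDer.IsCompactObject X → ObjectProperty.triangEnvelope (fun Y : D => Y = E) X) := by
  constructor
  · intro hgen
    let E' : PUnit.{v + 1} → D := fun _ => E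
    have hgen' : CohDer.Generates E' := fun K hK => hgen K (fun _ n f => hK PUnit.unit n f)
    refine ⟨⟨PUnit.{v + 1}, E', fun _ => hE, hgen'⟩, fun X hX => ?_⟩
    obtain ⟨K, f, i, hL, h0, hstep⟩ :=
      Groth.Agent.Lib.BrownTower31.exists_cellular_tower E' (fun _ => hE) hgen' X
    obtain ⟨n, φ', hφ'⟩ := Groth.Agent.Lib.Hocolim31.exists_factor_stage hL hX (𝟙 X)
    obtain ⟨s, F, g, h, hF, hgh⟩ :=
      Groth.Agent.Lib.CompactEnv31.fac_tower E' (fun _ => hE) K f h0 hstep n X hX φ'
    have r : Retract X F := ⟨g, h ≫ i n, by rw [← Category.assoc, hgh, hφ']⟩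
    have hX' : Groth.Agent.Lib.CompactEnv31.Env E' s X :=
      (Groth.Agent.Lib.CompactEnv31.Env E' s).prop_of_retract r hF
    exact ObjectProperty.monotone_triangEnvelope
      (P := Groth.Agent.Lib.CompactEnv31.famProp E' s) (Q := fun Y : D => Y = E)
      (fun Y ⟨_, _, hY⟩ => hY) X hX'
  · rintro ⟨⟨ι, G, hGc, hGg⟩, henv⟩ K hK
    apply hGg K
    intro i n f
    have h1 : (fun Y : D => Y = E) ≤ Groth.Agent.Lib.CompactEnv31.leftOrth K := by
      rintro Y rfl
      exact fun n f => hK () n f
    have h2 := (ObjectProperty.triangEnvelope_le_iff (P := fun Y : D => Y = E)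
      (Q := Groth.Agent.Lib.CompactEnv31.leftOrth K)).2 h1 _ (henv (G i) (hGc i))
    exact h2 n f

end Groth.Agent.S0978
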