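-- S0981: f_*O_X = O_S for proper flat lfp f with geometrically reduced+connected fibres (helper5; Lib/H0Univ5A–H)
import Groth.Statements.S0981
import Groth.Agent.Lib.H0Univ5H
import Groth.Agent.S0002
import Groth.Agent.S0057

set_option autoImplicit false
universe u
open CategoryTheory AlgebraicGeometry
open Perf

namespace Groth.Agent.S0981

open CategoryTheory.Limits in
/-- Let f : X ⟶ S be proper, flat and of finite presentation, and assume that for every algebraically
closed field K and every point Spec K ⟶ S the fibre X ×_S Spec K is a reduced, connected (in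
particular nonempty) scheme. Then O_S ⟶ f_*O_X is an isomorphism: for every open V of S the map
O_S(V) ⟶ O_X(f⁻¹V) is an isomorphism. (The source adds that this persists after any base change.) -/
theorem result {X S : Scheme.{u}} (f : X ⟶ S)
    [IsProper f] [Flat f] [LocallyOfFinitePresentation f]
    (h : ∀ (K : Type u) [Field K] [IsAlgClosed K] (g : Spec (CommRingCat.of K) ⟶ S),
      IsReduced (pullback f g) ∧ ConnectedSpace ↥(pullback f g))
    (V : S.Opens) : IsIso (f.app V) := by
  exact Groth.Agent.Lib.H0Univ5.isIso_app_of_fieldPoints
    (fun A _ _ X _ _ M hM n => Groth.Agent.S0002.result A X M hM n)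
    (fun A _ _ I X _ _ M hM p => Groth.Agent.S0057.result A I X M hM p) f
    (Groth.Agent.Lib.H0Univ5.surjective_of_geomFibres f h)
    (Groth.Agent.Lib.H0Univ5.fieldPoints_of_geomFibres f h) V

end Groth.Agent.S0981
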