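import Groth.Statements.S0985
import Groth.Agent.Lib.Telescope
import Mathlib.Algebra.Homology.GrothendieckAbelian
import Mathlib.Algebra.Homology.DerivedCategory.ShortExact
import Mathlib.CategoryTheory.Limits.Preserves.Shapes.Products

set_option autoImplicit false
universe w v u
open CategoryTheory CategoryTheory.Limits
open DerLim

namespace Groth.Agent.S0985

/-- Let A be an abelian category in which colimits of sequences ℕ ⥤ A exist and are exact, and let L : ℕ
⥤ CochainComplex A ℤ be a sequence of complexes. Then the image in the derived category of the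
termwise colimit of L, with the canonical maps from the Lₙ, is a homotopy colimit of the images of
the Lₙ — assuming the termwise direct sum of the Lₙ exists and is preserved by the localization
functor to D(A) (a known result, carried here as a hypothesis rather than proved), and that the
direct sum of the images exists in D(A). -/
theorem result {A : Type u} [Category.{v} A] [Abelian A] [HasDerivedCategory.{w} A]
    [HasColimitsOfShape ℕ A] [HasExactColimitsOfShape ℕ A]
    (L : ℕ ⥤ CochainComplex A ℤ) [HasCoproduct L.obj] [PreservesColimit (Discrete.functor L.obj) (DerivedCategory.Q (C := A))]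
    [HasCoproduct (fun n => DerivedCategory.Q.obj (L.obj n))] :
    DerLim.IsHocolim (fun n => DerivedCategory.Q.obj (L.obj n)) (fun n => DerivedCategory.Q.map (L.map (homOfLE (Nat.le_succ n))))
      (DerivedCategory.Q.obj (colimit L)) (fun n => DerivedCategory.Q.map (colimit.ι L n)) := by
  classical
  have hS := Groth.Agent.Lib.Telescope.shortExact L
  have hdist := DerivedCategory.triangleOfSES_distinguished hS
  let θ : (∐ fun n => DerivedCategory.Q.obj (L.obj n)) ≅ DerivedCategory.Q.obj (∐ L.obj) :=
    (PreservesCoproduct.iso DerivedCategory.Q L.obj).symm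
  have hθ : ∀ n, Sigma.ι (fun n => DerivedCategory.Q.obj (L.obj n)) n ≫ θ.hom =
      DerivedCategory.Q.map (Sigma.ι L.obj n) := fun n =>
    ι_comp_sigmaComparison DerivedCategory.Q L.obj n
  refine ⟨DerivedCategory.triangleOfSESδ hS ≫ (θ.inv)⟦(1 : ℤ)⟧', ?_⟩
  refine Pretriangulated.isomorphic_distinguished _ hdist _ ?_
  refine Pretriangulated.Triangle.isoMk _ _ θ θ (Iso.refl _) ?_ ?_ ?_
  · apply Sigma.hom_ext
    intro n
    change Sigma.ι _ n ≫ (𝟙 _ - shiftMap _ _) ≫ θ.hom =
      Sigma.ι _ n ≫ θ.hom ≫ DerivedCategory.Q.map (Groth.Agent.Lib.Telescope.T L)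
    rw [Preadditive.sub_comp, Preadditive.comp_sub, Category.id_comp, hθ, DerLim.shiftMap,
      Sigma.ι_desc_assoc, Category.assoc, hθ, reassoc_of% hθ, ← Functor.map_comp,
      ← Functor.map_comp, Groth.Agent.Lib.Telescope.ι_T, Functor.map_sub, Functor.map_comp]
  · apply Sigma.hom_ext
    intro n
    change Sigma.ι (fun n => DerivedCategory.Q.obj (L.obj n)) n ≫
        Sigma.desc (fun n => DerivedCategory.Q.map (colimit.ι L n)) ≫ 𝟙 _ =
      Sigma.ι (fun n => DerivedCategory.Q.obj (L.obj n)) n ≫ θ.hom ≫
        DerivedCategory.Q.map (Sigma.desc fun n => colimit.ι L n)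
    rw [Category.comp_id, Sigma.ι_desc, reassoc_of% hθ, ← Functor.map_comp, Sigma.ι_desc]
  · change (DerivedCategory.triangleOfSESδ hS ≫ (θ.inv)⟦(1 : ℤ)⟧') ≫ (θ.hom)⟦(1 : ℤ)⟧' =
      𝟙 _ ≫ DerivedCategory.triangleOfSESδ hS
    rw [Category.assoc, ← Functor.map_comp, Iso.inv_hom_id, CategoryTheory.Functor.map_id, Category.comp_id,
      Category.id_comp]

end Groth.Agent.S0985
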