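import Groth.Statements.S0987
import Groth.Agent.Lib.H43K0Db

set_option autoImplicit false
universe w v u
open CategoryTheory CategoryTheory.Limits
open KZero

namespace Groth.Agent.S0987

open Groth.Agent.Lib.KZeroSub Groth.Agent.Lib.H43K0Db
open ZeroObject

/-- The class of all objects. -/
abbrev allP (A : Type u) [Category.{v} A] : ObjectProperty A := fun _ => True

instance (A : Type u) [Category.{v} A] : (allP A).IsClosedUnderIsomorphisms := ⟨fun _ _ => trivial⟩

instance (A : Type u) [Category.{v} A] [Abelian A] : (allP A).ContainsZero :=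
  ⟨⟨(0 : A), isZero_zero A, trivial⟩⟩

instance (A : Type u) [Category.{v} A] [Abelian A] : (allP A).IsClosedUnderKernels :=
  ⟨fun _ _ => trivial⟩

theorem cl_shortExact {A : Type u} [Category.{v} A] [Abelian A] (S : ShortComplex A)
    (hS : S.ShortExact) : KZero.cl S.X₂ = KZero.cl S.X₁ + KZero.cl S.X₃ := by
  have hmem : (FreeAbelianGroup.of S.X₂ - FreeAbelianGroup.of S.X₁ - FreeAbelianGroup.of S.X₃ :
      FreeAbelianGroup A) ∈ KZero.relAb A :=
    AddSubgroup.subset_closure ⟨S, hS, rfl⟩
  have h0 := (QuotientAddGroup.eq_zero_iff _).mpr hmem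
  rw [QuotientAddGroup.mk_sub, QuotientAddGroup.mk_sub, sub_sub, sub_eq_zero] at h0
  exact h0

/-- `K₀(A)` is `K₀` of the class of all objects. -/
theorem exists_equiv_all (A : Type u) [Category.{v} A] [Abelian A] :
    ∃ e : KZero.K0 A ≃+ KZero.K0sub (allP A), ∀ X : A, e (KZero.cl X) = KZero.clSub (allP A) X := by
  have hα : KZero.relAb A ≤ (FreeAbelianGroup.lift
      (fun X : A => KZero.clSub (allP A) X)).ker := by
    rw [KZero.relAb, AddSubgroup.closure_le]
    rintro x ⟨S, hS, rfl⟩
    rw [SetLike.mem_coe, AddMonoidHom.mem_ker, map_sub, map_sub, FreeAbelianGroup.lift_apply_of,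
      FreeAbelianGroup.lift_apply_of, FreeAbelianGroup.lift_apply_of,
      clSub_shortExact (allP A) S hS trivial trivial trivial]
    abel
  have hβ : KZero.relSub (allP A) ≤ (FreeAbelianGroup.lift
      (fun X : Subtype (allP A) => KZero.cl X.1)).ker := by
    rw [KZero.relSub, AddSubgroup.closure_le]
    rintro x ⟨S, h₁, h₂, h₃, hS, rfl⟩
    rw [SetLike.mem_coe, AddMonoidHom.mem_ker, map_sub, map_sub, FreeAbelianGroup.lift_apply_of,
      FreeAbelianGroup.lift_apply_of, FreeAbelianGroup.lift_apply_of]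
    dsimp only
    rw [cl_shortExact S hS]
    abel
  let α : KZero.K0 A →+ KZero.K0sub (allP A) := QuotientAddGroup.lift (KZero.relAb A) _ hα
  let β : KZero.K0sub (allP A) →+ KZero.K0 A := QuotientAddGroup.lift (KZero.relSub (allP A)) _ hβ
  have hαcl : ∀ X : A, α (KZero.cl X) = KZero.clSub (allP A) X := by
    intro X
    change (FreeAbelianGroup.lift _) (FreeAbelianGroup.of X) = _
    rw [FreeAbelianGroup.lift_apply_of]
  have hβcl : ∀ X : A, β (KZero.clSub (allP A) X) = KZero.cl X := by
    intro X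
    rw [clSub_of_mem (allP A) (X := X) trivial]
    change (FreeAbelianGroup.lift _) (FreeAbelianGroup.of (⟨X, trivial⟩ : Subtype (allP A))) = _
    rw [FreeAbelianGroup.lift_apply_of]
  have h1 : ∀ x, β (α x) = x := by
    intro x
    obtain ⟨y, rfl⟩ := QuotientAddGroup.mk_surjective x
    induction y using FreeAbelianGroup.induction_on with
    | zero => simp
    | of X => exact (congrArg β (hαcl X)).trans (hβcl X)
    | neg X h =>
      rw [QuotientAddGroup.mk_neg, map_neg, map_neg]
      exact congrArg Neg.neg ((congrArg β (hαcl X)).trans (hβcl X))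
    | add y z hy hz => rw [QuotientAddGroup.mk_add, map_add, map_add, hy, hz]
  have h2 : ∀ y, α (β y) = y := by
    intro y
    refine K0sub_induction (allP A) (motive := fun y => α (β y) = y) y ?_ ?_ ?_ ?_
    · simp
    · intro X _
      rw [hβcl, hαcl]
    · intro y hy
      rw [map_neg, map_neg, hy]
    · intro y z hy hz
      rw [map_add, map_add, hy, hz]
  exact ⟨{ toFun := α, invFun := β, left_inv := h1, right_inv := h2, map_add' := map_add α }, hαcl⟩

theorem exists_equiv_of_eq {D : Type u} [Category.{v} D] [Preadditive D] [HasZeroObject D]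
    [HasShift D ℤ] [∀ n : ℤ, (shiftFunctor D n).Additive] [Pretriangulated D]
    (Q₁ Q₂ : ObjectProperty D) (h : Q₁ = Q₂) :
    ∃ e : KZero.K0tr Q₁ ≃+ KZero.K0tr Q₂, ∀ X : D, e (KZero.clTr Q₁ X) = KZero.clTr Q₂ X := by
  subst h
  exact ⟨AddEquiv.refl _, fun _ => rfl⟩


/-- For an abelian category A there is an isomorphism between K₀(A) and K₀ of the bounded derived
category D^b(A) (objects of D(A) with bounded cohomology, with the distinguished triangles of D(A))
which sends the class of an object X to the class of X placed in degree 0. -/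
theorem result (A : Type u) [Category.{v} A] [Abelian A] [HasDerivedCategory.{w} A] :
    ∃ φ : KZero.K0 A ≃+ KZero.K0tr (fun X : DerivedCategory A => ∃ a b : ℤ, X.IsGE a ∧ X.IsLE b),
      ∀ X : A, φ (KZero.cl X) =
        KZero.clTr (fun X : DerivedCategory A => ∃ a b : ℤ, X.IsGE a ∧ X.IsLE b) ((DerivedCategory.singleFunctor A 0).obj X) := by
  obtain ⟨e₁, h₁⟩ := exists_equiv_all A
  obtain ⟨e₂, h₂⟩ := Groth.Agent.Lib.H43K0Db.exists_addEquiv (C := A) (allP A)
  have hQ : Groth.Agent.Lib.H43K0Db.QD (C := A) (allP A) =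
      (fun X : DerivedCategory A => ∃ a b : ℤ, X.IsGE a ∧ X.IsLE b) := by
    funext K
    exact propext ⟨fun h => h.2, fun h => ⟨fun _ => trivial, h⟩⟩
  obtain ⟨e₃, h₃⟩ := exists_equiv_of_eq _ _ hQ
  refine ⟨e₁.trans (e₂.trans e₃), fun X => ?_⟩
  change e₃ (e₂ (e₁ (KZero.cl X))) = _
  rw [h₁, h₂ X trivial, h₃]

end Groth.Agent.S0987
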