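import Groth.Statements.S0989

set_option autoImplicit false
universe w v u
open CategoryTheory CategoryTheory.Limits
open CohDer
open ZeroObject

namespace Groth.Agent.S0989

section

variable {A : Type u} [Category.{v} A] [Abelian A]

omit [Abelian A] in
/-- A weak Serre class holds for every zero object. -/
lemma prop_of_isZero (P : ObjectProperty A) [P.IsClosedUnderIsomorphisms]
    (h0 : ∃ Z : A, IsZero Z ∧ P Z) {X : A} (hX : IsZero X) : P X := by
  obtain ⟨Z, hZ, hPZ⟩ := h0
  exact P.prop_of_iso (hZ.iso hX) hPZ

/-- A weak Serre class is closed under retracts. -/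
lemma prop_of_retract (P : ObjectProperty A) [P.IsClosedUnderIsomorphisms]
    (h0 : ∃ Z : A, IsZero Z ∧ P Z)
    (hP : ∀ S : ComposableArrows A 4, S.Exact → P (S.obj 0) → P (S.obj 1) → P (S.obj 3) →
      P (S.obj 4) → P (S.obj 2))
    {X Y : A} (i : Y ⟶ X) (r : X ⟶ Y) (hir : i ≫ r = 𝟙 Y) (hX : P X) : P Y := by
  have w : (𝟙 X - r ≫ i) ≫ r = 0 := by
    rw [Preadditive.sub_comp, Category.assoc, hir, Category.comp_id, Category.id_comp, sub_self]
  have h1 : (ShortComplex.mk (𝟙 X - r ≫ i) r w).Exact := by
    rw [ShortComplex.exact_iff_exact_up_to_refinements]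
    intro T x hx
    dsimp at x hx
    refine ⟨T, 𝟙 T, inferInstance, x, ?_⟩
    dsimp
    rw [Category.id_comp, Preadditive.comp_sub, Category.comp_id, ← Category.assoc, hx,
      zero_comp, sub_zero]
  have : Epi r := ⟨fun {Z} g h hgh => by
    have := congrArg (fun t => i ≫ t) hgh
    simpa [← Category.assoc, hir] using this⟩
  have h2 : (ShortComplex.mk r (0 : Y ⟶ (0 : A)) comp_zero).Exact :=
    (ShortComplex.exact_iff_epi _ rfl).2 this
  have h3 : (ShortComplex.mk (0 : Y ⟶ (0 : A)) (0 : (0 : A) ⟶ (0 : A)) comp_zero).Exact :=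
    ShortComplex.exact_of_isZero_X₂ _ (isZero_zero A)
  have hex : (ComposableArrows.mk₄ (𝟙 X - r ≫ i) r (0 : Y ⟶ (0 : A))
      (0 : (0 : A) ⟶ (0 : A))).Exact :=
    ComposableArrows.exact_of_δ₀ h1.exact_toComposableArrows
      (ComposableArrows.exact_of_δ₀ h2.exact_toComposableArrows h3.exact_toComposableArrows)
  exact hP _ hex hX hX (prop_of_isZero P h0 (isZero_zero A)) (prop_of_isZero P h0 (isZero_zero A))

end

theorem result {A : Type u} [Category.{v} A] [Abelian A] [HasDerivedCategory.{w} A]
    (P : ObjectProperty A) [P.IsClosedUnderIsomorphisms] (h0 : ∃ Z : A, IsZero Z ∧ P Z)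
    (hP : ∀ S : ComposableArrows A 4, S.Exact → P (S.obj 0) → P (S.obj 1) → P (S.obj 3) → P (S.obj 4) → P (S.obj 2)) :
    ObjectProperty.IsTriangulated (fun X : DerivedCategory A => ∀ n : ℤ, P ((DerivedCategory.homologyFunctor A n).obj X)) ∧
    ObjectProperty.IsStableUnderRetracts (fun X : DerivedCategory A => ∀ n : ℤ, P ((DerivedCategory.homologyFunctor A n).obj X)) := by
  have hz : ∀ {X : A}, IsZero X → P X := fun hX => prop_of_isZero P h0 hX
  refine ⟨?_, ?_⟩
  · have : ObjectProperty.IsClosedUnderIsomorphisms
        (fun X : DerivedCategory A => ∀ n : ℤ, P ((DerivedCategory.homologyFunctor A n).obj X)) :=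
      ⟨fun e h n => P.prop_of_iso ((DerivedCategory.homologyFunctor A n).mapIso e) (h n)⟩
    have : ObjectProperty.ContainsZero
        (fun X : DerivedCategory A => ∀ n : ℤ, P ((DerivedCategory.homologyFunctor A n).obj X)) :=
      ⟨⟨0, isZero_zero _, fun n => hz (Functor.map_isZero _ (isZero_zero _))⟩⟩
    have : ObjectProperty.IsStableUnderShift
        (fun X : DerivedCategory A => ∀ n : ℤ, P ((DerivedCategory.homologyFunctor A n).obj X)) ℤ :=
      { isStableUnderShiftBy := fun a => ⟨fun X hX n =>
          P.prop_of_iso (((DerivedCategory.homologyFunctor A 0).shiftIso a n (a + n) rfl).app X).symm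
            (hX (a + n))⟩ }
    have : ObjectProperty.IsTriangulatedClosed₂
        (fun X : DerivedCategory A => ∀ n : ℤ, P ((DerivedCategory.homologyFunctor A n).obj X)) :=
      ObjectProperty.IsTriangulatedClosed₂.mk' (fun T hT h₁ h₃ n => by
        have e1 := DerivedCategory.HomologySequence.exact₁ T hT (n - 1) n (by lia)
        have e2 := DerivedCategory.HomologySequence.exact₂ T hT n
        have e3 := DerivedCategory.HomologySequence.exact₃ T hT n (n + 1) rfl
        have hex : (ComposableArrows.mk₄
            (DerivedCategory.HomologySequence.δ T (n - 1) n (by lia))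
            ((DerivedCategory.homologyFunctor A n).map T.mor₁)
            ((DerivedCategory.homologyFunctor A n).map T.mor₂)
            (DerivedCategory.HomologySequence.δ T n (n + 1) rfl)).Exact :=
          ComposableArrows.exact_of_δ₀ e1.exact_toComposableArrows
            (ComposableArrows.exact_of_δ₀ e2.exact_toComposableArrows e3.exact_toComposableArrows)
        exact hP _ hex (h₃ (n - 1)) (h₁ n) (h₃ n) (h₁ (n + 1)))
    exact {}
  · refine ⟨fun {X Y} h hY n => ?_⟩
    exact prop_of_retract P h0 hP ((DerivedCategory.homologyFunctor A n).map h.i)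
      ((DerivedCategory.homologyFunctor A n).map h.r)
      (by rw [← Functor.map_comp, h.retract, CategoryTheory.Functor.map_id]) (hY n)

end Groth.Agent.S0989
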