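import Groth.Statements.S0991
import Mathlib
import Groth.Agent.Lib.LocInverseImage66

set_option autoImplicit false
universe w w' v v' u u'
open CategoryTheory CategoryTheory.Limits
open CohDer

namespace Groth.Agent.S0991

open DerivedCategory Pretriangulated

section

variable {C : Type u} [Category.{v} C] [Abelian C] [HasDerivedCategory.{w} C]

lemma isZero_iff_homology (Y : DerivedCategory C) :
    IsZero Y ↔ ∀ n : ℤ, IsZero ((homologyFunctor C n).obj Y) := by
  constructor
  · intro h n
    exact (homologyFunctor C n).map_isZero h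
  · intro h
    have : Y.IsLE (-1) := (isLE_iff Y (-1)).2 (fun i _ => h i)
    have : Y.IsGE 0 := (isGE_iff Y 0).2 (fun i _ => h i)
    exact TStructure.t.isZero Y (-1) 0

lemma trW_isZero_iff {X Y : DerivedCategory C} (g : X ⟶ Y) :
    ObjectProperty.trW (IsZero (C := DerivedCategory C)) g ↔ IsIso g := by
  constructor
  · rintro ⟨Z, a, b, hT, hZ⟩
    exact (Triangle.isZero₃_iff_isIso₁ _ hT).1 hZ
  · intro hg
    obtain ⟨Z, a, b, hT⟩ := distinguished_cocone_triangle g
    exact ⟨Z, a, b, hT, (Triangle.isZero₃_iff_isIso₁ _ hT).2 hg⟩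

end

section

variable {A : Type u} [Category.{v} A] [Abelian A] [HasDerivedCategory.{w} A]
    {B : Type u'} [Category.{v'} B] [Abelian B] [HasDerivedCategory.{w'} B]
    (F : A ⥤ B) [F.Additive] [PreservesFiniteLimits F] [PreservesFiniteColimits F]

/-- An exact functor commutes with homology on derived categories (objectwise). -/
lemma nonempty_homology_map_iso (X : DerivedCategory A) (n : ℤ) :
    Nonempty ((homologyFunctor B n).obj (F.mapDerivedCategory.obj X) ≅
      F.obj ((homologyFunctor A n).obj X)) := by
  let K := Q.objPreimage X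
  let e : Q.obj K ≅ X := Q.objObjPreimageIso X
  exact ⟨(homologyFunctor B n).mapIso (F.mapDerivedCategory.mapIso e.symm) ≪≫
    (homologyFunctor B n).mapIso (F.mapDerivedCategoryFactors.app K) ≪≫
    (homologyFunctorFactors B n).app _ ≪≫ (K.sc n).mapHomologyIso F ≪≫
    F.mapIso ((homologyFunctorFactors A n).app K).symm ≪≫
    F.mapIso ((homologyFunctor A n).mapIso e)⟩

end

section

variable {A : Type u} [Category.{v} A] [Abelian A] [HasDerivedCategory.{w} A]
    (P : ObjectProperty A) [P.IsSerreClass]
    {B : Type u'} [Category.{v'} B] [Abelian B] [HasDerivedCategory.{w'} B]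
    (v : A ⥤ B) [v.IsLocalization P.isoModSerre] [v.Additive] [PreservesFiniteLimits v]
    [PreservesFiniteColimits v]

lemma isZero_map_iff (X : DerivedCategory A) :
    IsZero (v.mapDerivedCategory.obj X) ↔ ∀ n : ℤ, P ((homologyFunctor A n).obj X) := by
  rw [isZero_iff_homology]
  refine forall_congr' (fun n => ?_)
  obtain ⟨e⟩ := nonempty_homology_map_iso v X n
  rw [e.isZero_iff, ObjectProperty.SerreClassLocalization.isZero_obj_iff v P]

lemma trW_eq :
    ObjectProperty.trW (fun X : DerivedCategory A => ∀ n : ℤ, P ((homologyFunctor A n).obj X)) =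
      (MorphismProperty.isomorphisms _).inverseImage v.mapDerivedCategory := by
  have h1 : (fun X : DerivedCategory A => ∀ n : ℤ, P ((homologyFunctor A n).obj X)) =
      ObjectProperty.inverseImage (IsZero (C := DerivedCategory B)) v.mapDerivedCategory := by
    ext X; exact (isZero_map_iff P v X).symm
  rw [h1]
  ext X Y s
  rw [ObjectProperty.inverseImage_trW_iff, trW_isZero_iff]
  rfl

end

section

variable {A : Type u} [Category.{v} A] [Abelian A] [HasDerivedCategory.{w} A]

/-- Every arrow of the derived category is isomorphic to the image of a morphism of complexes. -/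
lemma exists_arrow_iso {X Y : DerivedCategory A} (φ : X ⟶ Y) :
    ∃ (K K' : CochainComplex A ℤ) (g : K ⟶ K'), Nonempty (Arrow.mk (Q.map g) ≅ Arrow.mk φ) := by
  let eX : Q.obj (Q.objPreimage X) ≅ X := Q.objObjPreimageIso X
  let eY : Q.obj (Q.objPreimage Y) ≅ Y := Q.objObjPreimageIso Y
  obtain ⟨K', g, s, hs, hfac⟩ := left_fac (eX.hom ≫ φ ≫ eY.inv)
  refine ⟨_, K', g, ⟨Arrow.isoMk eX ((asIso (Q.map s)).symm ≪≫ eY) ?_⟩⟩
  have : Q.map g = (eX.hom ≫ φ ≫ eY.inv) ≫ Q.map s := by rw [hfac]; simp
  simp [this]

end

section

variable {A : Type u} [Category.{v} A] [Abelian A] [HasDerivedCategory.{w} A]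
    (P : ObjectProperty A) [P.IsSerreClass]
    {B : Type u'} [Category.{v'} B] [Abelian B] [HasDerivedCategory.{w'} B]
    (v : A ⥤ B) [v.IsLocalization P.isoModSerre] [v.Additive] [PreservesFiniteLimits v]
    [PreservesFiniteColimits v] (u : B ⥤ A) (adj : u ⊣ v) [IsIso adj.unit]

open Groth.Agent.Lib.LocInverseImage66

include adj in
lemma isLocalization_inverseImage :
    v.mapDerivedCategory.IsLocalization
      ((MorphismProperty.isomorphisms _).inverseImage v.mapDerivedCategory) := by
  have : u.Additive := adj.left_adjoint_additive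
  let adjC := mapHomologicalComplexAdj (ComplexShape.up ℤ) adj
  have hff := adjC.fullyFaithfulLOfIsIsoUnit
  have := hff.full
  have := hff.faithful
  have h1 := adjC.isLocalization'
  -- the composite `C(A) ⥤ C(B) ⥤ D(B)` is a localization
  have h2 : (v.mapHomologicalComplex (ComplexShape.up ℤ) ⋙ Q).IsLocalization
      ((MorphismProperty.isomorphisms _).inverseImage
        (v.mapHomologicalComplex (ComplexShape.up ℤ) ⋙ Q)) := by
    refine Functor.IsLocalization.comp (v.mapHomologicalComplex (ComplexShape.up ℤ)) Q
      ((MorphismProperty.isomorphisms _).inverseImage (v.mapHomologicalComplex (ComplexShape.up ℤ)))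
      (HomologicalComplex.quasiIso B (ComplexShape.up ℤ)) _ (fun _ _ _ h => h) ?_ ?_
    · intro K K' f hf
      simp only [MorphismProperty.inverseImage_iff, MorphismProperty.isomorphisms.iff,
        Functor.comp_map] at hf ⊢
      infer_instance
    · intro K K' g hg
      have hg' : IsIso (Q.map g) := by rwa [isIso_Q_map_iff_quasiIso]
      let e : Arrow.mk ((v.mapHomologicalComplex (ComplexShape.up ℤ)).map
          ((u.mapHomologicalComplex (ComplexShape.up ℤ)).map g)) ≅ Arrow.mk g :=
        (Arrow.isoMk (asIso (adjC.unit.app K)) (asIso (adjC.unit.app K'))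
          (adjC.unit.naturality g).symm).symm
      refine ⟨_, _, (u.mapHomologicalComplex (ComplexShape.up ℤ)).map g, ?_, ⟨e⟩⟩
      simp only [MorphismProperty.inverseImage_iff, MorphismProperty.isomorphisms.iff,
        Functor.comp_map]
      exact ((MorphismProperty.isomorphisms _).arrow_mk_iso_iff (Q.mapArrow.mapIso e)).2 hg'
  -- transport along `Q ⋙ V ≅ Φ_v ⋙ Q`
  have h3 : (Q ⋙ v.mapDerivedCategory).IsLocalization
      ((MorphismProperty.isomorphisms _).inverseImage (Q ⋙ v.mapDerivedCategory)) := by
    have h4 : (MorphismProperty.isomorphisms _).inverseImage (Q ⋙ v.mapDerivedCategory) =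
        (MorphismProperty.isomorphisms _).inverseImage
          (v.mapHomologicalComplex (ComplexShape.up ℤ) ⋙ Q) := by
      ext K K' f
      simp only [MorphismProperty.inverseImage_iff, MorphismProperty.isomorphisms.iff]
      exact NatIso.isIso_map_iff v.mapDerivedCategoryFactors f
    rw [h4]
    exact Functor.IsLocalization.of_iso _ v.mapDerivedCategoryFactors.symm
  exact isLocalization_inverseImage_of_comp Q v.mapDerivedCategory
    (HomologicalComplex.quasiIso A (ComplexShape.up ℤ)) exists_arrow_iso

end

/-- Let P be a Serre class in an abelian category A and v : A ⥤ Q an exact localization at the morphisms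
with kernel and cokernel in P (a model of A/P). Suppose v has a left adjoint u whose unit 𝟭 ⟶ u ⋙ v
is an isomorphism. Then the induced functor D(A) ⥤ D(Q) is a localization at the class of morphisms
whose cone has all cohomology objects in P; that is, D(Q) is the Verdier quotient D(A)/D_P(A). -/
theorem result {A : Type u} [Category.{v} A] [Abelian A] [HasDerivedCategory.{w} A]
    (P : ObjectProperty A) [P.IsSerreClass]
    {Q : Type u'} [Category.{v'} Q] [Abelian Q] [HasDerivedCategory.{w'} Q]
    (v : A ⥤ Q) [v.IsLocalization P.isoModSerre] [v.Additive] [PreservesFiniteLimits v] [PreservesFiniteColimits v]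
    (u : Q ⥤ A) (adj : u ⊣ v) [IsIso adj.unit] :
    v.mapDerivedCategory.IsLocalization
      (ObjectProperty.trW (fun X : DerivedCategory A => ∀ n : ℤ, P ((DerivedCategory.homologyFunctor A n).obj X))) := by
  rw [trW_eq P v]
  exact isLocalization_inverseImage v u adj

end Groth.Agent.S0991
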