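import Groth.Statements.S0992
import Mathlib.Algebra.Homology.ShortComplex.Ab
import Mathlib.CategoryTheory.Limits.ConcreteCategory.Basic
-- import your own Groth.Agent.* helpers here

set_option autoImplicit false
universe w
open CategoryTheory CategoryTheory.Limits Opposite
open CohDer

namespace Groth.Agent.S0992

section core

variable {I : Type w} [LinearOrder I] (K : Iᵒᵖ ⥤ CochainComplex AddCommGrpCat.{w} ℤ)

/-- The groups of the system. -/
abbrev X (β : I) (n : ℤ) : Type w := ((K.obj (op β)).X n : Type w)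

/-- The differentials. -/
noncomputable abbrev dK (β : I) (m n : ℤ) : X K β m →+ X K β n := ((K.obj (op β)).d m n).hom

/-- The transition maps. -/
noncomputable abbrev rK {γ β : I} (h : γ ≤ β) (n : ℤ) : X K β n →+ X K γ n :=
  ((K.map (homOfLE h).op).f n).hom

theorem dK_dK (β : I) (a b c : ℤ) (x : X K β a) : dK K β b c (dK K β a b x) = 0 := by
  have := (K.obj (op β)).d_comp_d a b c
  exact congrArg (fun f => f.hom x) this

theorem rK_dK {γ β : I} (h : γ ≤ β) (m n : ℤ) (x : X K β m) :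
    rK K h n (dK K β m n x) = dK K γ m n (rK K h m x) := by
  have := (K.map (homOfLE h).op).comm m n
  exact (congrArg (fun f => f.hom x) this).symm

theorem rK_refl (β : I) (n : ℤ) (x : X K β n) : rK K (le_refl β) n x = x := by
  have h1 : (homOfLE (le_refl β)).op = 𝟙 (op β) := rfl
  have : K.map (homOfLE (le_refl β)).op = 𝟙 _ := by rw [h1, K.map_id]
  change ((K.map (homOfLE (le_refl β)).op).f n).hom x = x
  rw [this]
  rfl

theorem rK_rK {γ γ' β : I} (h₁ : γ ≤ γ') (h₂ : γ' ≤ β) (n : ℤ) (x : X K β n) :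
    rK K h₁ n (rK K h₂ n x) = rK K (h₁.trans h₂) n x := by
  have h1 : (homOfLE (h₁.trans h₂)).op = (homOfLE h₂).op ≫ (homOfLE h₁).op := rfl
  have : K.map (homOfLE (h₁.trans h₂)).op = K.map (homOfLE h₂).op ≫ K.map (homOfLE h₁).op := by
    rw [h1, K.map_comp]
  change _ = ((K.map (homOfLE (h₁.trans h₂)).op).f n).hom x
  rw [this]
  rfl

variable (hac : ∀ (β : I) (n : ℤ), (K.obj (op β)).ExactAt n)
  (hsurj : ∀ (β : I) (n : ℤ) (x : ∀ γ : {γ : I // γ < β}, (K.obj (op γ.1)).X n),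
      (∀ (γ γ' : {γ : I // γ < β}) (h : γ.1 ≤ γ'.1), ((K.map (homOfLE h).op).f n).hom (x γ') = x γ) →
      ∃ y : (K.obj (op β)).X n, ∀ γ : {γ : I // γ < β}, ((K.map (homOfLE γ.2.le).op).f n).hom y = x γ)

include hac in
theorem exact_elem (β : I) (a b c : ℤ) (hab : a + 1 = b) (hbc : b + 1 = c) (z : X K β b)
    (hz : dK K β b c z = 0) : ∃ u : X K β a, dK K β a b u = z := by
  have h1 := (HomologicalComplex.exactAt_iff' (K.obj (op β)) a b c (by simp; omega) (by simp; omega)).mp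
    (hac β b)
  rw [ShortComplex.ab_exact_iff] at h1
  exact h1 z hz

/-- Compatibility of a family on a set of indices. -/
def Compat (S : Set I) (n : ℤ) (x : ∀ β, X K β n) : Prop :=
  ∀ (γ β : I), β ∈ S → ∀ h : γ ≤ β, rK K h n (x β) = x γ

/-- Acyclicity of the limit over a set of indices, elementwise. -/
def Acyc (S : Set I) : Prop :=
  ∀ (a b c : ℤ), a + 1 = b → b + 1 = c → ∀ x : ∀ β, X K β b, Compat K S b x →
    (∀ β ∈ S, dK K β b c (x β) = 0) →
    ∃ y : ∀ β, X K β a, Compat K S a y ∧ ∀ β ∈ S, dK K β a b (y β) = x β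

include hac hsurj in
theorem kernel_acyclic (β : I) (hP : Acyc K (Set.Iio β)) (a b c : ℤ) (hab : a + 1 = b)
    (hbc : b + 1 = c) (z : X K β b) (hz : dK K β b c z = 0)
    (hz0 : ∀ γ (h : γ < β), rK K h.le b z = 0) :
    ∃ w : X K β a, dK K β a b w = z ∧ ∀ γ (h : γ < β), rK K h.le a w = 0 := by
  classical
  obtain ⟨u, hu⟩ := exact_elem K hac β a b c hab hbc z hz
  let ũ : ∀ γ, X K γ a := fun γ => if h : γ < β then rK K h.le a u else 0
  have hũ : ∀ γ (h : γ < β), ũ γ = rK K h.le a u := fun γ h => dif_pos h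
  have hcomp : Compat K (Set.Iio β) a ũ := by
    intro γ γ' hγ' h
    have hγ'β : γ' < β := hγ'
    rw [hũ γ' hγ'β, hũ γ (lt_of_le_of_lt h hγ'β), rK_rK]
  have hcoc : ∀ γ ∈ Set.Iio β, dK K γ a b (ũ γ) = 0 := by
    intro γ hγ
    have hγβ : γ < β := hγ
    rw [hũ γ hγβ, ← rK_dK, hu, hz0 γ hγβ]
  obtain ⟨v, hv1, hv2⟩ := hP (a - 1) a b (by omega) hab ũ hcomp hcoc
  obtain ⟨v', hv'⟩ := hsurj β (a - 1) (fun γ => v γ.1) (fun γ γ' h => hv1 γ.1 γ'.1 γ'.2 h)
  refine ⟨u - dK K β (a - 1) a v', ?_, ?_⟩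
  · rw [map_sub, dK_dK, sub_zero, hu]
  · intro γ h
    rw [map_sub, rK_dK]
    have h1 : rK K h.le (a - 1) v' = v γ := hv' ⟨γ, h⟩
    rw [h1, hv2 γ h, hũ γ h, sub_self]

include hac hsurj in
theorem extension (β : I) (hP : Acyc K (Set.Iio β)) (a b c : ℤ) (hab : a + 1 = b)
    (hbc : b + 1 = c) (x : ∀ γ, X K γ b) (hxc : ∀ γ (h : γ ≤ β), rK K h b (x β) = x γ)
    (hxd : dK K β b c (x β) = 0) (y : ∀ γ, γ < β → X K γ a)
    (hyc : ∀ γ γ' (hγ' : γ' < β) (h : γ ≤ γ'), rK K h a (y γ' hγ') = y γ (lt_of_le_of_lt h hγ'))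
    (hyd : ∀ γ (hγ : γ < β), dK K γ a b (y γ hγ) = x γ) :
    ∃ w : X K β a, dK K β a b w = x β ∧ ∀ γ (hγ : γ < β), rK K hγ.le a w = y γ hγ := by
  obtain ⟨y', hy'⟩ := hsurj β a (fun γ => y γ.1 γ.2) (fun γ γ' h => hyc γ.1 γ'.1 γ'.2 h)
  have hz : dK K β b c (x β - dK K β a b y') = 0 := by
    rw [map_sub, hxd, dK_dK, sub_zero]
  have hz0 : ∀ γ (h : γ < β), rK K h.le b (x β - dK K β a b y') = 0 := by
    intro γ h
    have h1 : rK K h.le a y' = y γ h := hy' ⟨γ, h⟩
    rw [map_sub, hxc γ h.le, rK_dK, h1, hyd γ h, sub_self]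
  obtain ⟨w₀, hw1, hw2⟩ := kernel_acyclic K hac hsurj β hP a b c hab hbc _ hz hz0
  refine ⟨y' + w₀, ?_, ?_⟩
  · rw [map_add, hw1]; abel
  · intro γ h
    have h1 : rK K h.le a y' = y γ h := hy' ⟨γ, h⟩
    rw [map_add, hw2 γ h, add_zero, h1]

variable [WellFoundedLT I]

include hac hsurj in
theorem acyc_of_lower (S : Set I) (hS : IsLowerSet S) (hP : ∀ β ∈ S, Acyc K (Set.Iio β)) :
    Acyc K S := by
  classical
  intro a b c hab hbc x hxc hxd
  -- the recursion step
  let F : ∀ β : I, (∀ γ : I, γ < β → X K γ a) → X K β a := fun β prev =>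
    if h : ∃ w : X K β a, dK K β a b w = x β ∧ ∀ γ (hγ : γ < β), rK K hγ.le a w = prev γ hγ
    then h.choose else 0
  let y : ∀ β, X K β a := WellFounded.fix (wellFounded_lt (α := I)) F
  have hy : ∀ β, y β = F β (fun γ _ => y γ) := fun β =>
    WellFounded.fix_eq (wellFounded_lt (α := I)) F β
  have inv : ∀ β, β ∈ S → dK K β a b (y β) = x β ∧ ∀ γ (hγ : γ < β), rK K hγ.le a (y β) = y γ := by
    intro β
    induction β using WellFoundedLT.induction with
    | ind β ih =>
      intro hβ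
      have hex : ∃ w : X K β a, dK K β a b w = x β ∧
          ∀ γ (hγ : γ < β), rK K hγ.le a w = (fun γ _ => y γ : ∀ γ : I, γ < β → X K γ a) γ hγ := by
        apply extension K hac hsurj β (hP β hβ) a b c hab hbc x (fun γ h => hxc γ β hβ h)
          (hxd β hβ) (fun γ _ => y γ)
        · intro γ γ' hγ' h
          rcases eq_or_lt_of_le h with rfl | hlt
          · exact rK_refl K γ a (y γ)
          · exact (ih γ' hγ' (hS hγ'.le hβ)).2 γ hlt
        · intro γ hγ
          exact (ih γ hγ (hS hγ.le hβ)).1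
      have hyβ : y β = hex.choose := by
        rw [hy β]
        exact dif_pos hex
      rw [hyβ]
      exact hex.choose_spec
  refine ⟨y, ?_, fun β hβ => (inv β hβ).1⟩
  intro γ β hβ h
  rcases eq_or_lt_of_le h with rfl | hlt
  · exact rK_refl K γ a (y γ)
  · exact (inv β hβ).2 γ hlt

include hac hsurj in
theorem acyc_Iio (β : I) : Acyc K (Set.Iio β) := by
  induction β using WellFoundedLT.induction with
  | ind β ih =>
    exact acyc_of_lower K hac hsurj (Set.Iio β) (isLowerSet_Iio β) (fun γ hγ => ih γ hγ)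

include hac hsurj in
theorem acyc_univ : Acyc K Set.univ :=
  acyc_of_lower K hac hsurj Set.univ isLowerSet_univ (fun β _ => acyc_Iio K hac hsurj β)

end core

section final

variable {J : Type w} [SmallCategory J]

theorem exists_of_isLimit_ab (F : J ⥤ AddCommGrpCat.{w}) {D : Cone F} (hD : IsLimit D)
    (s : ∀ j, F.obj j) (hs : ∀ {j j' : J} (f : j ⟶ j'), (F.map f).hom (s j) = s j') :
    ∃ x : D.pt, ∀ j, (D.π.app j).hom x = s j := by
  let sec : (F ⋙ forget AddCommGrpCat).sections := ⟨s, fun f => hs f⟩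
  refine ⟨(Types.isLimitEquivSections (isLimitOfPreserves (forget AddCommGrpCat) hD)).symm sec,
    fun j => ?_⟩
  exact Types.isLimitEquivSections_symm_apply
    (isLimitOfPreserves (forget AddCommGrpCat) hD) sec j

end final

theorem result' {I : Type w} [LinearOrder I] [WellFoundedLT I]
    (K : Iᵒᵖ ⥤ CochainComplex AddCommGrpCat.{w} ℤ)
    (hac : ∀ (β : I) (n : ℤ), (K.obj (op β)).ExactAt n)
    (hsurj : ∀ (β : I) (n : ℤ) (x : ∀ γ : {γ : I // γ < β}, (K.obj (op γ.1)).X n),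
      (∀ (γ γ' : {γ : I // γ < β}) (h : γ.1 ≤ γ'.1), ((K.map (homOfLE h).op).f n).hom (x γ') = x γ) →
      ∃ y : (K.obj (op β)).X n, ∀ γ : {γ : I // γ < β}, ((K.map (homOfLE γ.2.le).op).f n).hom y = x γ)
    (n : ℤ) : (limit K).ExactAt n := by
  rw [HomologicalComplex.exactAt_iff' (limit K) (n - 1) n (n + 1) (by simp) (by simp),
    ShortComplex.ab_exact_iff]
  intro x₂ hx₂
  have hlim : ∀ m : ℤ, IsLimit ((HomologicalComplex.eval _ _ m).mapCone (limit.cone K)) :=
    fun m => isLimitOfPreserves _ (limit.isLimit K)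
  let x : ∀ β, X K β n := fun β => ((limit.π K (op β)).f n).hom x₂
  have hxc : Compat K Set.univ n x := by
    intro γ β _ h
    have := limit.w K (homOfLE h).op
    exact congrArg (fun f => (f.f n).hom x₂) this
  have hxd : ∀ β ∈ Set.univ, dK K β n (n + 1) (x β) = 0 := by
    intro β _
    have h1 := (limit.π K (op β)).comm n (n + 1)
    have h2 := congrArg (fun f => f.hom x₂) h1
    change ((K.obj (op β)).d n (n + 1)).hom (((limit.π K (op β)).f n).hom x₂) =
      ((limit.π K (op β)).f (n + 1)).hom (((limit K).d n (n + 1)).hom x₂) at h2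
    change ((K.obj (op β)).d n (n + 1)).hom (((limit.π K (op β)).f n).hom x₂) = 0
    rw [h2]
    have h3 : ((limit K).d n (n + 1)).hom x₂ = 0 := hx₂
    rw [h3, map_zero]
  obtain ⟨y, hyc, hyd⟩ := acyc_univ K hac hsurj (n - 1) n (n + 1) (by omega) rfl x hxc hxd
  obtain ⟨x₁, hx₁⟩ := exists_of_isLimit_ab (K ⋙ HomologicalComplex.eval _ _ (n - 1))
    (hlim (n - 1)) (fun j => y j.unop) (by
      intro j j' f
      have h1 := hyc j'.unop j.unop trivial (leOfHom f.unop)
      have h2 : f = (homOfLE (leOfHom f.unop)).op := Subsingleton.elim _ _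
      change ((K.map f).f (n - 1)).hom (y j.unop) = y j'.unop
      rw [h2]
      exact h1)
  refine ⟨x₁, ?_⟩
  apply Concrete.isLimit_ext (K ⋙ HomologicalComplex.eval _ _ n) (hlim n)
  intro j
  change ((limit.π K j).f n).hom (((limit K).d (n - 1) n).hom x₁) = ((limit.π K j).f n).hom x₂
  have h1 := (limit.π K j).comm (n - 1) n
  have h2 := congrArg (fun f => f.hom x₁) h1
  change ((K.obj j).d (n - 1) n).hom (((limit.π K j).f (n - 1)).hom x₁) =
    ((limit.π K j).f n).hom (((limit K).d (n - 1) n).hom x₁) at h2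
  rw [← h2]
  have h3 : ((limit.π K j).f (n - 1)).hom x₁ = y j.unop := hx₁ j
  rw [h3]
  exact hyd j.unop trivial



/-- Let I be a well-ordered type and K : Iᵒᵖ ⥤ CochainComplex Ab an inverse system of acyclic complexes
of abelian groups such that for every β and every degree n, each family of elements of the Kⁿ_γ (γ <
β) compatible under the transition maps lifts to an element of Kⁿ_β (i.e. Kⁿ_β → lim_{γ<β} Kⁿ_γ is
surjective). Then the limit complex lim K is acyclic. -/
theorem result {I : Type w} [LinearOrder I] [WellFoundedLT I]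
    (K : Iᵒᵖ ⥤ CochainComplex AddCommGrpCat.{w} ℤ)
    (hac : ∀ (β : I) (n : ℤ), (K.obj (op β)).ExactAt n)
    (hsurj : ∀ (β : I) (n : ℤ) (x : ∀ γ : {γ : I // γ < β}, (K.obj (op γ.1)).X n),
      (∀ (γ γ' : {γ : I // γ < β}) (h : γ.1 ≤ γ'.1), ((K.map (homOfLE h).op).f n).hom (x γ') = x γ) →
      ∃ y : (K.obj (op β)).X n, ∀ γ : {γ : I // γ < β}, ((K.map (homOfLE γ.2.le).op).f n).hom y = x γ)
    (n : ℤ) : (limit K).ExactAt n := by
  exact result' K hac hsurj n

end Groth.Agent.S0992
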