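import Groth.Statements.S10053
-- import your own Groth.Agent.* helpers here
import Groth.Agent.Lib.AlgSpAffineSpace

set_option autoImplicit false
universe u
open CategoryTheory CategoryTheory.Limits AlgebraicGeometry
open AlgSp

namespace Groth.Agent.S10053

/-- For a quasi-compact morphism `f : X ⟶ Y` of algebraic spaces over `S` these conditions are
equivalent: (1) `f` is universally closed; (2) for every `Z ⟶ Y` locally of finite presentation,
with `Z` an algebraic space, the map `|X ×_Y Z| → |Z|` is closed; (3) for some scheme `V` with a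
surjective etale morphism `V ⟶ Y`, the maps `|X ×_Y 𝐀^n_V| → |𝐀^n_V|` are closed for all `n`. Stated
as (1) ↔ (2) and (1) ↔ (3). -/
theorem result (S : Scheme.{u}) {X Y : AlgSp.Space S} (f : X ⟶ Y)
    (hqc : AlgSp.IsQuasiCompactMor f.hom) :
    (AlgSp.IsUnivClosedMor f.hom ↔
      ∀ (Z : AlgSp.Space S) (g : Z ⟶ Y), AlgSp.LocP @LocallyOfFinitePresentation g.hom →
        ∀ (P : AlgSp.Sp S) (fst : P ⟶ X.obj) (snd : P ⟶ Z.obj), IsPullback fst snd f.hom g.hom →
          IsClosedMap (AlgSp.Points.map snd)) ∧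
    (AlgSp.IsUnivClosedMor f.hom ↔
      ∃ (V : Over S) (p : (AlgSp.yon S).obj V ⟶ Y.obj), AlgSp.RepWith @Etale p ∧ AlgSp.RepWith @Surjective p ∧
        ∀ (n : ℕ) (P : AlgSp.Sp S) (fst : P ⟶ X.obj)
          (snd : P ⟶ (AlgSp.yon S).obj (Over.mk ((𝔸(ULift.{u} (Fin n); V.left) ↘ V.left) ≫ V.hom))),
          IsPullback fst snd f.hom ((AlgSp.yon S).map (Over.homMk (𝔸(ULift.{u} (Fin n); V.left) ↘ V.left)) ≫ p) →
            IsClosedMap (AlgSp.Points.map snd)) := by
  open Groth.Agent.Lib.AlgSpAffineSpace Groth.Agent.Lib.AlgSpLocP Groth.Agent.Lib.AlgSpBasic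
    Groth.Agent.Lib.H69AlgSp in
  have hX := X.property
  have hY := Y.property
  -- (3) ⇒ (1)
  have hCA : (∃ (V : Over S) (p : (AlgSp.yon S).obj V ⟶ Y.obj), AlgSp.RepWith @Etale p ∧
      AlgSp.RepWith @Surjective p ∧
        ∀ (n : ℕ) (P : AlgSp.Sp S) (fst : P ⟶ X.obj)
          (snd : P ⟶ (AlgSp.yon S).obj (Over.mk ((𝔸(ULift.{u} (Fin n); V.left) ↘ V.left) ≫ V.hom))),
          IsPullback fst snd f.hom
            ((AlgSp.yon S).map (Over.homMk (𝔸(ULift.{u} (Fin n); V.left) ↘ V.left)) ≫ p) →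
            IsClosedMap (AlgSp.Points.map snd)) → AlgSp.IsUnivClosedMor f.hom := by
    rintro ⟨V, p, hpe, hps, H⟩
    exact isUnivClosedMor_of_forall_isClosedMap_affineSpace hX hY f.hom hqc p hpe hps H
  -- (1) ⇒ (3)
  have hAC : AlgSp.IsUnivClosedMor f.hom → (∃ (V : Over S) (p : (AlgSp.yon S).obj V ⟶ Y.obj),
      AlgSp.RepWith @Etale p ∧ AlgSp.RepWith @Surjective p ∧
        ∀ (n : ℕ) (P : AlgSp.Sp S) (fst : P ⟶ X.obj)
          (snd : P ⟶ (AlgSp.yon S).obj (Over.mk ((𝔸(ULift.{u} (Fin n); V.left) ↘ V.left) ≫ V.hom))),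
          IsPullback fst snd f.hom
            ((AlgSp.yon S).map (Over.homMk (𝔸(ULift.{u} (Fin n); V.left) ↘ V.left)) ≫ p) →
            IsClosedMap (AlgSp.Points.map snd)) := by
    intro h
    obtain ⟨V, p, hpe, hps⟩ := hY.atlas
    exact ⟨V, p, hpe, hps, fun n P fst snd sq => h (IsAlgSpace.yon_obj _) _ fst snd sq⟩
  refine ⟨⟨fun h Z g _ P fst snd sq => h Z.property g.hom fst snd sq, fun h => ?_⟩, ⟨hAC, hCA⟩⟩
  -- (2) ⇒ (3) ⇒ (1)
  apply hCA
  obtain ⟨V, p, hpe, hps⟩ := hY.atlas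
  refine ⟨V, p, hpe, hps, fun n P fst snd sq => ?_⟩
  have hp : AlgSp.LocP @LocallyOfFinitePresentation p :=
    locP_of_repWith @LocallyOfFinitePresentation etLocalClass_lfp.pre
      (fun U a => (IsAlgSpace.yon_obj V).representable_from_yon a)
      (Groth.Agent.Lib.AlgSpBasic.repWith_mono
        (fun _ _ g (hg : Etale g) => (inferInstance : LocallyOfFinitePresentation g)) hpe)
  have hproj : AlgSp.LocP @LocallyOfFinitePresentation
      ((AlgSp.yon S).map (AS.proj (ULift.{u} (Fin n)) V)) :=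
    locP_of_repWith @LocallyOfFinitePresentation etLocalClass_lfp.pre
      (fun U a => (IsAlgSpace.yon_obj _).representable_from_yon a)
      ((repWith_yon_map_iff _ _).2
        (inferInstance : LocallyOfFinitePresentation (𝔸(ULift.{u} (Fin n); V.left) ↘ V.left)))
  have hg : AlgSp.LocP @LocallyOfFinitePresentation
      ((AlgSp.yon S).map (AS.proj (ULift.{u} (Fin n)) V) ≫ p) :=
    locP_comp etLocalClass_lfp (IsAlgSpace.yon_obj _) (IsAlgSpace.yon_obj V) hY hproj hp
  exact h ⟨(AlgSp.yon S).obj (AS (ULift.{u} (Fin n)) V), IsAlgSpace.yon_obj _⟩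
    (ObjectProperty.homMk ((AlgSp.yon S).map (AS.proj (ULift.{u} (Fin n)) V) ≫ p)) hg P fst snd sq

end Groth.Agent.S10053
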