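import Groth.Statements.S10290
import Mathlib.AlgebraicGeometry.Morphisms.ClosedImmersion

set_option autoImplicit false
set_option linter.style.haveILetI false
universe u
open CategoryTheory CategoryTheory.Limits AlgebraicGeometry
open AlgSp

namespace Groth.Agent.S10290

/-- A separated morphism of algebraic spaces satisfies the uniqueness part of the valuative criterion. -/
theorem result {S : Scheme.{u}} {X Y : AlgSp.Space S} (f : X ⟶ Y)
    (hf : AlgSp.IsSeparatedMor f.hom) : AlgSp.UniqVC f.hom := by
  intro sq l l' h1 h2 h1' h2'
  let g : (yon S).obj sq.ptA ⟶ pullback f.hom f.hom := pullback.lift l l' (h2.trans h2'.symm)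
  obtain ⟨V, snd, fst, hpb⟩ := hf.1 g
  haveI hcl : IsClosedImmersion snd.left := hf.2 g fst snd hpb
  have hcond : sq.top ≫ pullback.diagonal f.hom = (yon S).map sq.j ≫ g := by
    apply pullback.hom_ext
    · simp only [Category.assoc, pullback.diagonal_fst, Category.comp_id, g, pullback.lift_fst, h1]
    · simp only [Category.assoc, pullback.diagonal_snd, Category.comp_id, g, pullback.lift_snd, h1']
  obtain ⟨k, hk⟩ := (yon S).map_surjective (hpb.lift sq.top ((yon S).map sq.j) hcond)
  have hks : k ≫ snd = sq.j := by
    apply (yon S).map_injective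
    rw [Functor.map_comp, hk, hpb.lift_snd]
  have hksl : k.left ≫ snd.left = Spec.map (CommRingCat.ofHom (algebraMap sq.A sq.K)) := by
    have := congrArg (fun m => m.left) hks
    simpa using this
  haveI : IsAffine sq.ptA.left := inferInstanceAs (IsAffine (Spec (.of sq.A)))
  haveI : IsIso snd.left := by
    apply IsClosedImmersion.isIso_of_injective_of_isAffine
    have hinj : Function.Injective (k.left ≫ snd.left).appTop := by
      rw [hksl]
      have hnat := Scheme.ΓSpecIso_naturality (CommRingCat.ofHom (algebraMap sq.A sq.K))
      have h3 : Function.Injective ((Spec.map (CommRingCat.ofHom (algebraMap sq.A sq.K))).appTop ≫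
          (Scheme.ΓSpecIso (.of sq.K)).hom) := by
        rw [hnat]
        exact (IsFractionRing.injective sq.A sq.K).comp
          (ConcreteCategory.bijective_of_isIso (Scheme.ΓSpecIso (.of sq.A)).hom).1
      exact Function.Injective.of_comp h3
    rw [Scheme.Hom.comp_appTop] at hinj
    exact Function.Injective.of_comp hinj
  haveI : IsIso ((Over.forget S).map snd) := ‹IsIso snd.left›
  haveI : IsIso snd := isIso_of_reflects_iso snd (Over.forget S)
  have e1 : fst = (yon S).map snd ≫ l := by
    have := congrArg (fun m => m ≫ pullback.fst f.hom f.hom) hpb.w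
    simpa [g, pullback.lift_fst] using this
  have e2 : fst = (yon S).map snd ≫ l' := by
    have := congrArg (fun m => m ≫ pullback.snd f.hom f.hom) hpb.w
    simpa [g, pullback.lift_snd] using this
  exact (cancel_epi ((yon S).map snd)).1 (e1.symm.trans e2)

end Groth.Agent.S10290
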