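import Groth.Statements.S10284
import Groth.Agent.Lib.H69ValSep2

set_option autoImplicit false
universe u
open CategoryTheory CategoryTheory.Limits AlgebraicGeometry
open AlgSp

namespace Groth.Agent.S10284

/-- For a separated morphism of algebraic spaces, a valuative square that has a lift after a dominating
extension of the valuation ring already has a lift. -/
theorem result {S : Scheme.{u}} {X Y : AlgSp.Space S} (f : X ⟶ Y)
    (hf : AlgSp.IsSeparatedMor f.hom) (sq : AlgSp.ValSq f.hom) (e : sq.DomExt) (he : e.HasLift) :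
    sq.HasLift := by
  obtain ⟨l', hl'1, hl'2⟩ := he
  have sqP := IsPullback.of_hasPullback f.hom sq.bot
  have hXa : AlgSp.IsAlgSpace (pullback f.hom sq.bot) :=
    Groth.Agent.Lib.AlgSpFibre.isAlgSpace_of_isPullback Y.property.diag X.property
      (AlgSp.IsAlgSpace.yon_obj _) sqP
  have hπ : AlgSp.IsSeparatedMor (pullback.snd f.hom sq.bot) :=
    Groth.Agent.Lib.AlgSpProper.isSeparatedMor_of_isPullback sqP hf
  let σ : (AlgSp.yon S).obj sq.ptK ⟶ pullback f.hom sq.bot :=
    pullback.lift sq.top ((AlgSp.yon S).map sq.j) sq.comm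
  have hσ : σ ≫ pullback.snd f.hom sq.bot = (AlgSp.yon S).map sq.j := pullback.lift_snd _ _ _
  let jA' : e.ptA' ⟶ sq.ptA := Over.homMk (Spec.map (CommRingCat.ofHom e.φ)) rfl
  let j' : e.ptK' ⟶ e.ptA' := Over.homMk (Spec.map (CommRingCat.ofHom (algebraMap e.A' e.K'))) rfl
  let k' : e.ptK' ⟶ sq.ptK := Over.homMk (Spec.map (CommRingCat.ofHom e.ψ)) (by
    change Spec.map _ ≫ Spec.map _ ≫ _ = Spec.map _ ≫ Spec.map _ ≫ _
    rw [← Spec.map_comp_assoc, ← Spec.map_comp_assoc, ← CommRingCat.ofHom_comp,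
      ← CommRingCat.ofHom_comp, e.comm])
  have hjk : j' ≫ jA' = k' ≫ sq.j := by
    ext
    change Spec.map _ ≫ Spec.map _ = Spec.map _ ≫ Spec.map _
    rw [← Spec.map_comp, ← Spec.map_comp, ← CommRingCat.ofHom_comp, ← CommRingCat.ofHom_comp, e.comm]
  have hdom : IsSchemeTheoreticallyDominant j'.left :=
    Groth.Agent.Lib.StDominant27.isSchemeTheoreticallyDominant_SpecMap _
      (IsFractionRing.injective e.A' e.K')
  have hloc : IsLocalHom e.φ := e.isLocalHom
  have hcl : jA'.left (IsLocalRing.closedPoint e.A') = IsLocalRing.closedPoint sq.A :=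
    IsLocalRing.comap_closedPoint e.φ
  let lA : (AlgSp.yon S).obj e.ptA' ⟶ pullback f.hom sq.bot :=
    pullback.lift l' ((AlgSp.yon S).map jA') hl'2
  have hlA : lA ≫ pullback.snd f.hom sq.bot = (AlgSp.yon S).map jA' := pullback.lift_snd _ _ _
  have hlAK : (AlgSp.yon S).map j' ≫ lA = (AlgSp.yon S).map k' ≫ σ := by
    apply pullback.hom_ext
    · rw [Category.assoc, Category.assoc, pullback.lift_fst, pullback.lift_fst]
      exact hl'1
    · rw [Category.assoc, Category.assoc, pullback.lift_snd, pullback.lift_snd, ← Functor.map_comp,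
        ← Functor.map_comp, hjk]
  obtain ⟨l, hl1, hl2⟩ := Groth.Agent.Lib.H69ValSep.exists_section_of_separated (A := sq.A) (K := sq.K)
    sq.str hXa (pullback.snd f.hom sq.bot) hπ σ hσ jA' j' k' (IsLocalRing.closedPoint e.A') hcl lA hlA hlAK
  refine ⟨l ≫ pullback.fst f.hom sq.bot, ?_, ?_⟩
  · rw [← Category.assoc]
    change ((AlgSp.yon S).map sq.j ≫ l) ≫ _ = _
    rw [hl2]
    exact pullback.lift_fst _ _ _
  · rw [Category.assoc, pullback.condition, ← Category.assoc, hl1, Category.id_comp]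

end Groth.Agent.S10284
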