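import Groth.Statements.S10306
import Groth.Agent.Lib.H69RefVal5
import Groth.Agent.Lib.AlgSpValuative

set_option autoImplicit false
universe u
open CategoryTheory CategoryTheory.Limits AlgebraicGeometry
open AlgSp

namespace Groth.Agent.S10306

/-- A refined valuative criterion: if f and h : U -> X are quasi-compact with |U| dense in |X|, and
valuative squares whose top arrow factors through U have at most one lift and a lift after a
dominating extension, then f is universally closed, and separated if it is quasi-separated. -/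
theorem result {S : Scheme.{u}} {U X Y : AlgSp.Space S} (f : X ⟶ Y) (h : U ⟶ X)
    (hf : AlgSp.IsQuasiCompactMor f.hom) (hh : AlgSp.IsQuasiCompactMor h.hom)
    (hd : DenseRange (AlgSp.Points.map h.hom))
    (hv : ∀ sq : AlgSp.ValSq f.hom, (∃ t : (AlgSp.yon S).obj sq.ptK ⟶ U.obj, t ≫ h.hom = sq.top) →
      sq.HasUniq ∧ sq.HasLiftExt) :
    AlgSp.IsUnivClosedMor f.hom ∧ (AlgSp.IsQuasiSeparatedMor f.hom → AlgSp.IsSeparatedMor f.hom) := by
  have hU := U.property
  have hX := X.property
  have hY := Y.property
  refine ⟨Groth.Agent.Lib.AlgSpValuative.isUnivClosedMor_of_quasiCompact_existVC hf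
    (Groth.Agent.Lib.H69RefVal.existVC_of_refined hU hX hY f.hom h.hom hh hd hv), ?_⟩
  intro hqs
  have hP : IsAlgSpace (pullback f.hom f.hom) :=
    Groth.Agent.Lib.AlgSpFibre.isAlgSpace_of_isPullback hY.diag hX hX (IsPullback.of_hasPullback f.hom f.hom)
  refine (Groth.Agent.Lib.AlgSpProper.isSeparatedMor_iff_isUnivClosedMor_diagonal hX hY f.hom).2
    (Groth.Agent.Lib.AlgSpValuative.isUnivClosedMor_of_quasiCompact_existVC
      (Groth.Agent.Lib.AlgSpQC.isQuasiCompactMor_of_repWith hqs)
      (Groth.Agent.Lib.H69RefVal.existVC_of_refined hU hX hP (pullback.diagonal f.hom) h.hom hh hd ?_))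
  rintro sq ⟨t, ht⟩
  constructor
  · -- uniqueness: the diagonal is a (split) monomorphism
    intro l l' h1 h2 h1' h2'
    have e1 : l = (l ≫ pullback.diagonal f.hom) ≫ pullback.fst f.hom f.hom := by
      rw [Category.assoc, pullback.diagonal_fst, Category.comp_id]
    have e2 : l' = (l' ≫ pullback.diagonal f.hom) ≫ pullback.fst f.hom f.hom := by
      rw [Category.assoc, pullback.diagonal_fst, Category.comp_id]
    rw [e1, e2, h2, h2']
  · apply Groth.Agent.Lib.AlgSpValuative.ValSq.hasLiftExt_of_hasLift
    have hc := sq.comm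
    have h1 : (yon S).map sq.j ≫ sq.bot ≫ pullback.fst f.hom f.hom = sq.top := by
      rw [← Category.assoc, ← hc, Category.assoc, pullback.diagonal_fst, Category.comp_id]
    have h2 : (yon S).map sq.j ≫ sq.bot ≫ pullback.snd f.hom f.hom = sq.top := by
      rw [← Category.assoc, ← hc, Category.assoc, pullback.diagonal_snd, Category.comp_id]
    let sqf : ValSq f.hom :=
      { A := sq.A, K := sq.K, str := sq.str, top := sq.top,
        bot := (sq.bot ≫ pullback.fst f.hom f.hom) ≫ f.hom,
        comm := by rw [← h1]; simp only [Category.assoc] }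
    have heq : sq.bot ≫ pullback.fst f.hom f.hom = sq.bot ≫ pullback.snd f.hom f.hom :=
      (hv sqf ⟨t, ht⟩).1 _ _ h1 rfl h2 (by
        change (sq.bot ≫ pullback.snd f.hom f.hom) ≫ f.hom = (sq.bot ≫ pullback.fst f.hom f.hom) ≫ f.hom
        rw [Category.assoc, Category.assoc, pullback.condition])
    refine ⟨sq.bot ≫ pullback.fst f.hom f.hom, h1, ?_⟩
    apply pullback.hom_ext
    · rw [Category.assoc, pullback.diagonal_fst, Category.comp_id]
    · rw [Category.assoc, pullback.diagonal_snd, Category.comp_id, heq]

end Groth.Agent.S10306
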