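import Groth.Statements.S10070
import Groth.Agent.Lib.H69DvrVC8
import Groth.Agent.Lib.H69RefVal5

set_option autoImplicit false
universe u
open CategoryTheory CategoryTheory.Limits AlgebraicGeometry
open AlgSp

namespace Groth.Agent.S10070

/-- Let `h : U ⟶ X`, `f : X ⟶ Y` be morphisms of algebraic spaces over `S` with `Y` locally Noetherian,
`f` locally of finite type and quasi-separated, `h` of finite type and `|h|` with dense image. If
every valuative test square for `h ≫ f` over a discrete valuation ring admits at most one dotted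
arrow `Spec A ⟶ X` (compatible with `Spec K ⟶ U ⟶ X` and with `Spec A ⟶ Y`), then `f` is separated. -/
theorem result (S : Scheme.{u}) {U X Y : AlgSp.Space S} (h : U ⟶ X) (f : X ⟶ Y) (hY : AlgSp.IsLocNoethSp Y.obj)
    (hflt : AlgSp.LocP @LocallyOfFiniteType f.hom) (hfqs : AlgSp.IsQuasiSeparatedMor f.hom) (hh : AlgSp.IsFiniteTypeMor h.hom) (hdense : Dense (Set.range (AlgSp.Points.map h.hom)))
    (hval : ∀ sq : AlgSp.ValSq (h.hom ≫ f.hom), IsDiscreteValuationRing sq.A →
      ∀ l l' : (AlgSp.yon S).obj sq.ptA ⟶ X.obj, (AlgSp.yon S).map sq.j ≫ l = sq.top ≫ h.hom ∧ l ≫ f.hom = sq.bot → (AlgSp.yon S).map sq.j ≫ l' = sq.top ≫ h.hom ∧ l' ≫ f.hom = sq.bot → l = l') :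
    AlgSp.IsSeparatedMor f.hom := by
  have hU := U.property
  have hX := X.property
  have hY' := Y.property
  have hP : IsAlgSpace (pullback f.hom f.hom) :=
    Groth.Agent.Lib.AlgSpFibre.isAlgSpace_of_isPullback hY'.diag hX hX (IsPullback.of_hasPullback f.hom f.hom)
  have hlft' := Groth.Agent.Lib.H86ZarGlue.descendsAlong_etCov_lft.{u}
  have hfst : LocP @LocallyOfFiniteType (pullback.fst f.hom f.hom) :=
    Groth.Agent.Lib.AlgSpLocP.locP_of_isPullback Groth.Agent.Lib.AlgSpLocP.etLocalClass_lft hX hY' hX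
      (IsPullback.of_hasPullback f.hom f.hom).flip hflt
  have hPN : IsLocNoethSp (pullback f.hom f.hom) :=
    Groth.Agent.Lib.H69DvrVC.isLocNoethSp_of_locP_lft hP (pullback.fst f.hom f.hom ≫ f.hom)
      (Groth.Agent.Lib.AlgSpLocP.locP_comp Groth.Agent.Lib.AlgSpLocP.etLocalClass_lft hP hX hY' hfst hflt) hY
  obtain ⟨hrep, hΔlft, -, -, -⟩ := Groth.Agent.Lib.H69AlgSpMor.diagonal_hom_properties f
  have hΔ : LocP @LocallyOfFiniteType (pullback.diagonal f.hom) :=
    Groth.Agent.Lib.AlgSpBasic.locP_of_repWith _ Groth.Agent.Lib.AlgSpLocP.etLocalClass_lft.pre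
      (fun _ c => hX.representable_from_yon c) hΔlft
  have hΔqc : IsQuasiCompactMor (pullback.diagonal f.hom) :=
    Groth.Agent.Lib.AlgSpQC.isQuasiCompactMor_of_repWith hfqs
  have hΔqs : IsQuasiSeparatedMor (pullback.diagonal f.hom) := by
    have hiso : IsIso (pullback.diagonal (pullback.diagonal f.hom)) :=
      (pullback.isIso_diagonal_iff (pullback.diagonal f.hom)).mpr inferInstance
    exact MorphismProperty.of_isIso (AlgSp.RepWith @QuasiCompact) (pullback.diagonal (pullback.diagonal f.hom))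
  -- discrete valuation squares of `h ≫ Δ` lift
  have hvalΔ : ∀ sq : ValSq (h.hom ≫ pullback.diagonal f.hom), IsDiscreteValuationRing sq.A →
      ∃ l : (yon S).obj sq.ptA ⟶ X.obj, (yon S).map sq.j ≫ l = sq.top ≫ h.hom ∧
        l ≫ pullback.diagonal f.hom = sq.bot := by
    intro sq hA
    have hc := sq.comm
    have h1 : (yon S).map sq.j ≫ sq.bot ≫ pullback.fst f.hom f.hom = sq.top ≫ h.hom := by
      rw [← Category.assoc, ← hc, Category.assoc, Category.assoc, pullback.diagonal_fst, Category.comp_id]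
    have h2 : (yon S).map sq.j ≫ sq.bot ≫ pullback.snd f.hom f.hom = sq.top ≫ h.hom := by
      rw [← Category.assoc, ← hc, Category.assoc, Category.assoc, pullback.diagonal_snd, Category.comp_id]
    let sqf : ValSq (h.hom ≫ f.hom) :=
      { A := sq.A, K := sq.K, str := sq.str, top := sq.top,
        bot := (sq.bot ≫ pullback.fst f.hom f.hom) ≫ f.hom,
        comm := by rw [← Category.assoc, ← h1]; simp only [Category.assoc] }
    have heq : sq.bot ≫ pullback.fst f.hom f.hom = sq.bot ≫ pullback.snd f.hom f.hom :=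
      hval sqf hA _ _ ⟨h1, rfl⟩ ⟨h2, by
        change (sq.bot ≫ pullback.snd f.hom f.hom) ≫ f.hom = (sq.bot ≫ pullback.fst f.hom f.hom) ≫ f.hom
        rw [Category.assoc, Category.assoc, pullback.condition]⟩
    refine ⟨sq.bot ≫ pullback.fst f.hom f.hom, h1, ?_⟩
    apply pullback.hom_ext
    · rw [Category.assoc, pullback.diagonal_fst, Category.comp_id]
    · rw [Category.assoc, pullback.diagonal_snd, Category.comp_id, heq]
  have hv : ∀ sq : ValSq (pullback.diagonal f.hom),
      (∃ t : (yon S).obj sq.ptK ⟶ U.obj, t ≫ h.hom = sq.top) → sq.HasUniq ∧ sq.HasLiftExt := by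
    rintro sq ⟨t, ht⟩
    refine ⟨?_, Groth.Agent.Lib.H69DvrVC.hasLiftExt_of_through hU hX hP h.hom (pullback.diagonal f.hom) hPN
      ⟨hΔ, hΔqc⟩ hΔqs hh.1 hvalΔ sq t ht⟩
    intro l l' _ h2 _ h2'
    have e1 : l = (l ≫ pullback.diagonal f.hom) ≫ pullback.fst f.hom f.hom := by
      rw [Category.assoc, pullback.diagonal_fst, Category.comp_id]
    have e2 : l' = (l' ≫ pullback.diagonal f.hom) ≫ pullback.fst f.hom f.hom := by
      rw [Category.assoc, pullback.diagonal_fst, Category.comp_id]
    rw [e1, e2, h2, h2']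
  exact (Groth.Agent.Lib.AlgSpProper.isSeparatedMor_iff_isUnivClosedMor_diagonal hX hY' f.hom).2
    (Groth.Agent.Lib.AlgSpValuative.isUnivClosedMor_of_quasiCompact_existVC hΔqc
      (Groth.Agent.Lib.H69RefVal.existVC_of_refined hU hX hP (pullback.diagonal f.hom) h.hom hh.2 hdense hv))

end Groth.Agent.S10070
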