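import Groth.Statements.S10096
import Groth.Agent.Lib.H69EpiFpqc
import Groth.Agent.Lib.H69InvSub
import Groth.Agent.Lib.AlgSpQC

set_option autoImplicit false
universe u
open CategoryTheory CategoryTheory.Limits AlgebraicGeometry
open AlgSp

namespace Groth.Agent.S10096

/-- Let `a : F ⟶ G` be a map of fppf sheaves of sets over `S` that is flat, surjective, locally of
finite presentation and representable by algebraic spaces (every base change `h_U ×_G F ⟶ h_U` to a
scheme is such a morphism of algebraic spaces). Then `a` is surjective as a map of sheaves (an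
epimorphism of fppf sheaves). -/
theorem result (S : Scheme.{u}) (F G : AlgSp.Sp S) (a : F ⟶ G)
    (ha : AlgSp.RepBySpWith (AlgSp.IsSurjectiveMor ⊓ AlgSp.LocP @Flat ⊓ AlgSp.LocP @LocallyOfFinitePresentation) a.hom) :
    Epi a := by
  rw [AlgSp.repBySpWith_hom_iff] at ha
  have hloc : Sheaf.IsLocallySurjective a := by
    refine Groth.Agent.Lib.H69InvSub.isLocallySurjective_of_sieve_lift a fun T z => ?_
    have sqP := IsPullback.of_hasPullback a z
    obtain ⟨hP, ⟨hsurj, hflat⟩, hlfp⟩ := ha z (pullback.fst a z) (pullback.snd a z) sqP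
    obtain ⟨W, q, hqe, hqs⟩ := hP.atlas
    obtain ⟨c, hc⟩ := (AlgSp.yon S).map_surjective (q ≫ pullback.snd a z)
    have hcflat : Flat c.left :=
      hflat q (𝟙 _) c hqe (Groth.Agent.Lib.AlgSpQC.repWith_id _ T) (by rw [hc, Category.comp_id])
    have hclfp : LocallyOfFinitePresentation c.left :=
      hlfp q (𝟙 _) c hqe (Groth.Agent.Lib.AlgSpQC.repWith_id _ T) (by rw [hc, Category.comp_id])
    have hcsurj : Surjective c.left := by
      refine ⟨(Groth.Agent.Lib.AlgSpPoints.surjective_map_yon_map_iff c).1 ?_⟩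
      rw [hc]
      intro x
      obtain ⟨y, hy⟩ := hsurj x
      obtain ⟨w, hw⟩ := Groth.Agent.Lib.AlgSpQC.surjective_map_of_repWith_surjective hqs y
      exact ⟨w, by rw [AlgSp.Points.map_comp, hw, hy]⟩
    refine ⟨Sieve.generate (Presieve.singleton c),
      Groth.Agent.Lib.H69AlgSp.mem_J_of_fppf c _ (Sieve.le_generate (Presieve.singleton c) _ _ (Presieve.singleton_self c)), ?_⟩
    rintro T₁ φ ⟨T₂, k, c', ⟨⟩, rfl⟩
    refine ⟨(AlgSp.yon S).map k ≫ q ≫ pullback.fst a z, ?_⟩
    rw [Category.assoc, Category.assoc, pullback.condition, ← Category.assoc q, ← hc, ← Category.assoc,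
      ← Functor.map_comp]
  exact (Sheaf.isLocallySurjective_iff_epi a).1 hloc

end Groth.Agent.S10096
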