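import Groth.Statements.S10107
import Groth.Agent.Lib.H69EpiFpqc

set_option autoImplicit false
universe u
open CategoryTheory CategoryTheory.Limits AlgebraicGeometry
open AlgSp

namespace Groth.Agent.S10107

/-- Let `F = U/R` be an algebraic space which is the fppf quotient of a groupoid in algebraic spaces
`(U, R, s, t, c)` over `S` with `s, t` flat and locally of finite presentation and `j = (t, s)` an
equivalence relation (equivalently, the composition being determined by it, of an equivalence
relation `s, t : R ⟶ U` of algebraic spaces with these properties). Then `U ⟶ F` is surjective, flat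
and locally of finite presentation. -/
theorem result (S : Scheme.{u}) (R U : AlgSp.Sp S)
    (hR : AlgSp.IsAlgSpace R) (hU : AlgSp.IsAlgSpace U) (s t : R ⟶ U) (hj : AlgSp.IsEqvRelSp s t)
    (hs : AlgSp.LocP @Flat s ∧ AlgSp.LocP @LocallyOfFinitePresentation s)
    (ht : AlgSp.LocP @Flat t ∧ AlgSp.LocP @LocallyOfFinitePresentation t)
    (hF : AlgSp.IsAlgSpace (AlgSp.quotSp s t)) :
    AlgSp.IsSurjectiveMor (AlgSp.quotSpπ s t) ∧ AlgSp.LocP @Flat (AlgSp.quotSpπ s t) ∧
      AlgSp.LocP @LocallyOfFinitePresentation (AlgSp.quotSpπ s t) := by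
  have hepi : Epi (AlgSp.quotSpπ s t) := by unfold AlgSp.quotSpπ; exact coequalizer.π_epi
  have hkp := Groth.Agent.Lib.H69EpiFpqc.isPullback_quotSpπ hj
  have href := Groth.Agent.Lib.H69EpiFpqc.hasFpqcRefinement_of_epi (AlgSp.quotSpπ s t)
  refine ⟨Groth.Agent.Lib.H69EpiFpqc.isSurjectiveMor_of_epi _, ?_, ?_⟩
  · exact Groth.Agent.Lib.AlgSpFpqc.locP_of_hasFpqcRefinement Groth.Agent.Lib.AlgSpLocP.etLocalClass_flat
      hU hF (fun _ => hU) href (fun _ => hR) (fun _ => hkp) (fun _ => hs.1)
  · exact Groth.Agent.Lib.AlgSpFpqc.locP_of_hasFpqcRefinement Groth.Agent.Lib.AlgSpLocP.etLocalClass_lfp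
      hU hF (fun _ => hU) href (fun _ => hR) (fun _ => hkp) (fun _ => hs.2)

end Groth.Agent.S10107
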