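import Groth.Statements.S10114
import Groth.Agent.Lib.H43SpQuot
-- import your own Groth.Agent.* helpers here

set_option autoImplicit false
universe u
open CategoryTheory CategoryTheory.Limits AlgebraicGeometry
open AlgSp

namespace Groth.Agent.S10114

set_option backward.isDefEq.respectTransparency false in
theorem hres_of_isPullback {S : Scheme.{u}} {R U R' U' : AlgSp.Sp S} (s t : R ⟶ U) (g : U' ⟶ U)
    (s' t' : R' ⟶ U') (r : R' ⟶ R)
    (hsq : IsPullback (prod.lift t' s') r (prod.map g g) (prod.lift t s)) :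
    ∀ (T : Over S) (a' b' : (AlgSp.yon S).obj T ⟶ U') (ρ : (AlgSp.yon S).obj T ⟶ R),
      ρ ≫ t = a' ≫ g → ρ ≫ s = b' ≫ g →
      ∃ r' : (AlgSp.yon S).obj T ⟶ R', r' ≫ t' = a' ∧ r' ≫ s' = b' := by
  intro T a' b' ρ h1 h2
  have hcomm : prod.lift a' b' ≫ prod.map g g = ρ ≫ prod.lift t s := by
    apply Limits.prod.hom_ext
    · simp [h1]
    · simp [h2]
  refine ⟨hsq.lift (prod.lift a' b') ρ hcomm, ?_, ?_⟩
  · have := hsq.lift_fst (prod.lift a' b') ρ hcomm
    have h3 := congrArg (· ≫ prod.fst) this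
    simpa using h3
  · have := hsq.lift_fst (prod.lift a' b') ρ hcomm
    have h3 := congrArg (· ≫ prod.snd) this
    simpa using h3

/-- Let `s, t : R ⟶ U` be a pre-equivalence relation of algebraic spaces, `g : U' ⟶ U` a morphism of
algebraic spaces and `s', t' : R' ⟶ U'` the restriction of the pre-relation along `g` (so `R' = (U'
× U') ×_{U × U} R`). Then the induced map of quotient sheaves `U'/R' ⟶ U/R` is injective, and it is
an isomorphism when `g` is a surjection of sheaves. -/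
theorem result (S : Scheme.{u}) (R U R' U' : AlgSp.Sp S)
    (hR : AlgSp.IsAlgSpace R) (hU : AlgSp.IsAlgSpace U) (hR' : AlgSp.IsAlgSpace R') (hU' : AlgSp.IsAlgSpace U')
    (s t : R ⟶ U) (hpre : AlgSp.IsPreEqvRelSp s t) (g : U' ⟶ U) (s' t' : R' ⟶ U') (r : R' ⟶ R)
    (hsq : IsPullback (prod.lift t' s') r (prod.map g g) (prod.lift t s))
    (ψ : AlgSp.quotSp s' t' ⟶ AlgSp.quotSp s t) (hψ : AlgSp.quotSpπ s' t' ≫ ψ = g ≫ AlgSp.quotSpπ s t) :
    Mono ψ ∧ (Epi g → IsIso ψ) := by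
  have hres := hres_of_isPullback s t g s' t' r hsq
  refine ⟨Groth.Agent.Lib.H43SpQuot.mono_quotMap hpre g s' t' hres ψ hψ, ?_⟩
  intro hg
  have hπ : Epi (AlgSp.quotSpπ s t) := by unfold AlgSp.quotSpπ; exact coequalizer.π_epi
  have : Epi (AlgSp.quotSpπ s' t' ≫ ψ) := by rw [hψ]; exact epi_comp _ _
  have : Epi ψ := epi_of_epi (AlgSp.quotSpπ s' t') ψ
  exact Groth.Agent.Lib.H43SpQuot.isIso_quotMap hpre g s' t' hres ψ hψ

end Groth.Agent.S10114
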