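import Groth.Statements.S10124
-- import your own Groth.Agent.* helpers here

set_option autoImplicit false
universe u
open CategoryTheory CategoryTheory.Limits AlgebraicGeometry
open AlgSp AlgSp.GroupoidSp

namespace Groth.Agent.S10124

variable {S : Scheme.{u}} {B : AlgSp.Sp S} (G : AlgSp.GroupoidSp B)

/-- Composition of composable `Z`-valued arrows of the groupoid. -/
noncomputable def cmp {Z : AlgSp.Sp S} (α β : Z ⟶ G.R) (h : α ≫ G.s = β ≫ G.t) : Z ⟶ G.R :=
  pullback.lift α β h ≫ G.c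

theorem cmp_congr {Z : AlgSp.Sp S} {α α' β β' : Z ⟶ G.R} (h : α ≫ G.s = β ≫ G.t)
    (hα : α = α') (hβ : β = β') :
    cmp G α β h = cmp G α' β' (by rw [← hα, ← hβ, h]) := by
  subst hα hβ; rfl

set_option backward.isDefEq.respectTransparency false in
theorem precomp_cmp {Z Z' : AlgSp.Sp S} (k : Z' ⟶ Z) (α β : Z ⟶ G.R) (h : α ≫ G.s = β ≫ G.t) :
    k ≫ cmp G α β h = cmp G (k ≫ α) (k ≫ β) (by rw [Category.assoc, Category.assoc, h]) := by
  unfold cmp
  rw [← Category.assoc]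
  congr 1
  apply pullback.hom_ext <;> simp

theorem cmp_s {Z : AlgSp.Sp S} (α β : Z ⟶ G.R) (h : α ≫ G.s = β ≫ G.t) :
    cmp G α β h ≫ G.s = β ≫ G.s := G.comp_s α β h

theorem cmp_t {Z : AlgSp.Sp S} (α β : Z ⟶ G.R) (h : α ≫ G.s = β ≫ G.t) :
    cmp G α β h ≫ G.t = α ≫ G.t := G.comp_t α β h

theorem cmp_assoc {Z : AlgSp.Sp S} (α β γ : Z ⟶ G.R) (h₁ : α ≫ G.s = β ≫ G.t)
    (h₂ : β ≫ G.s = γ ≫ G.t) :
    cmp G (cmp G α β h₁) γ ((cmp_s G α β h₁).trans h₂) =
      cmp G α (cmp G β γ h₂) (h₁.trans (cmp_t G β γ h₂).symm) :=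
  G.assoc α β γ h₁ h₂

theorem cmp_e {Z : AlgSp.Sp S} (α β : Z ⟶ G.R) (hβ : β = α ≫ G.s ≫ G.e) :
    cmp G α β (by rw [hβ, Category.assoc, Category.assoc, G.e_t, Category.comp_id]) = α := by
  subst hβ
  exact G.comp_e α

theorem cmp_i {Z : AlgSp.Sp S} (α : Z ⟶ G.R) :
    cmp G α (α ≫ G.i) (by rw [Category.assoc, G.i_t]) = α ≫ G.t ≫ G.e := G.comp_i α

theorem i_cmp {Z : AlgSp.Sp S} (α : Z ⟶ G.R) :
    cmp G (α ≫ G.i) α (by rw [Category.assoc, G.i_s]) = α ≫ G.s ≫ G.e := G.i_comp α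

/-- Right multiplication by `ρ`: arrows with source `t ρ` to arrows with source `s ρ`. -/
noncomputable def rmul {Z : AlgSp.Sp S} (ρ : Z ⟶ G.R) :
    pullback (ρ ≫ G.t) G.s ⟶ pullback (ρ ≫ G.s) G.s :=
  pullback.lift (pullback.fst _ _)
    (cmp G (pullback.snd _ _) (pullback.fst _ _ ≫ ρ)
      (by rw [Category.assoc, ← pullback.condition]))
    (by rw [cmp_s, Category.assoc])

/-- Right multiplication by the inverse of `ρ`. -/
noncomputable def rmulInv {Z : AlgSp.Sp S} (ρ : Z ⟶ G.R) :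
    pullback (ρ ≫ G.s) G.s ⟶ pullback (ρ ≫ G.t) G.s :=
  pullback.lift (pullback.fst _ _)
    (cmp G (pullback.snd _ _) (pullback.fst _ _ ≫ ρ ≫ G.i)
      (by rw [Category.assoc, Category.assoc, G.i_t, ← pullback.condition]))
    (by rw [cmp_s, Category.assoc, Category.assoc, G.i_s])

set_option backward.isDefEq.respectTransparency false in
theorem rmul_rmulInv {Z : AlgSp.Sp S} (ρ : Z ⟶ G.R) : rmul G ρ ≫ rmulInv G ρ = 𝟙 _ := by
  apply pullback.hom_ext
  · simp [rmul, rmulInv]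
  · rw [Category.assoc, Category.id_comp]
    unfold rmulInv
    rw [pullback.lift_snd, precomp_cmp]
    have h1 : rmul G ρ ≫ pullback.snd (ρ ≫ G.s) G.s =
        cmp G (pullback.snd _ _) (pullback.fst _ _ ≫ ρ)
          (by rw [Category.assoc, ← pullback.condition]) := by
      unfold rmul; rw [pullback.lift_snd]
    have h2 : rmul G ρ ≫ pullback.fst (ρ ≫ G.s) G.s ≫ ρ ≫ G.i =
        (pullback.fst (ρ ≫ G.t) G.s ≫ ρ) ≫ G.i := by
      unfold rmul; rw [pullback.lift_fst_assoc, Category.assoc]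
    rw [cmp_congr G _ h1 h2, cmp_assoc G _ _ _ _ (by simp only [Category.assoc, G.i_t])]
    rw [cmp_congr G _ rfl (cmp_i G _)]
    apply cmp_e
    rw [Category.assoc, ← pullback.condition_assoc]
    simp only [Category.assoc]
  
set_option backward.isDefEq.respectTransparency false in
theorem rmulInv_rmul {Z : AlgSp.Sp S} (ρ : Z ⟶ G.R) : rmulInv G ρ ≫ rmul G ρ = 𝟙 _ := by
  apply pullback.hom_ext
  · simp [rmul, rmulInv]
  · rw [Category.assoc, Category.id_comp]
    unfold rmul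
    rw [pullback.lift_snd, precomp_cmp]
    have h1 : rmulInv G ρ ≫ pullback.snd (ρ ≫ G.t) G.s =
        cmp G (pullback.snd _ _) (pullback.fst _ _ ≫ ρ ≫ G.i)
          (by rw [Category.assoc, Category.assoc, G.i_t, ← pullback.condition]) := by
      unfold rmulInv; rw [pullback.lift_snd]
    have h2 : rmulInv G ρ ≫ pullback.fst (ρ ≫ G.t) G.s ≫ ρ =
        (pullback.fst (ρ ≫ G.s) G.s ≫ ρ) := by
      unfold rmulInv; rw [pullback.lift_fst_assoc]
    have h3 : pullback.fst (ρ ≫ G.s) G.s ≫ ρ ≫ G.i = (pullback.fst (ρ ≫ G.s) G.s ≫ ρ) ≫ G.i := by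
      rw [Category.assoc]
    rw [cmp_congr G _ h1 h2]
    rw [cmp_congr G _ (cmp_congr G _ rfl h3) rfl]
    rw [cmp_assoc G _ _ _ _ (by simp only [Category.assoc, G.i_s])]
    rw [cmp_congr G _ rfl (i_cmp G _)]
    apply cmp_e
    rw [Category.assoc, ← pullback.condition_assoc]
    simp only [Category.assoc]

set_option backward.isDefEq.respectTransparency false in
/-- Right multiplication as an isomorphism over `Z`. -/
noncomputable def rmulIso {Z : AlgSp.Sp S} (ρ : Z ⟶ G.R) :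
    Over.mk (pullback.fst (ρ ≫ G.t) G.s) ≅ Over.mk (pullback.fst (ρ ≫ G.s) G.s) :=
  Over.isoMk ⟨rmul G ρ, rmulInv G ρ, rmul_rmulInv G ρ, rmulInv_rmul G ρ⟩
    (by simp [rmul])

set_option backward.isDefEq.respectTransparency false in
/-- Transport along an equality of the base point. -/
noncomputable def congrIso {Z : AlgSp.Sp S} {a b : Z ⟶ G.U} (h : a = b) :
    Over.mk (pullback.fst a G.s) ≅ Over.mk (pullback.fst b G.s) :=
  Over.isoMk (pullback.congrHom h rfl) (by simp)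

/-- Let `(U, R, s, t, c)` be a groupoid in algebraic spaces over `B`, `K` a field and `r, r' : Spec K ⟶
R` with `t ∘ r = t ∘ r'`; put `u = s ∘ r`, `u' = s ∘ r'`. Then the fibres `Spec K ×_{u, U, s} R` and
`Spec K ×_{u', U, s} R` are isomorphic as spaces over `Spec K` (existence of an isomorphism over
`Spec K`). -/
theorem result (S : Scheme.{u}) (B : AlgSp.Sp S) (hB : AlgSp.IsAlgSpace B)
    (G : AlgSp.GroupoidSp B) (hU : AlgSp.IsAlgSpace G.U) (hR : AlgSp.IsAlgSpace G.R)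
    (K : Type u) [Field K] (σ : Spec (CommRingCat.of K) ⟶ S)
    (r r' : (AlgSp.yon S).obj (Over.mk σ) ⟶ G.R) (h : r ≫ G.t = r' ≫ G.t) :
    Nonempty (Over.mk (pullback.fst (r ≫ G.s) G.s) ≅ Over.mk (pullback.fst (r' ≫ G.s) G.s)) := by
  have e : Over.mk (pullback.fst (r ≫ G.t) G.s) ≅ Over.mk (pullback.fst (r' ≫ G.t) G.s) :=
    congrIso G h
  exact ⟨(rmulIso G r).symm ≪≫ e ≪≫ rmulIso G r'⟩

end Groth.Agent.S10124
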