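import Groth.Statements.S10115
import Groth.Agent.Lib.H43SpQuot
import Groth.Agent.S10124
-- import your own Groth.Agent.* helpers here

set_option autoImplicit false
universe u
open CategoryTheory CategoryTheory.Limits AlgebraicGeometry
open AlgSp AlgSp.GroupoidSp

namespace Groth.Agent.S10115

open Groth.Agent.S10124 in
/-- The source and target maps of a groupoid form a pre-equivalence relation. -/
theorem isPreEqvRelSp_of_groupoid {S : Scheme.{u}} {B : AlgSp.Sp S} (G : AlgSp.GroupoidSp B) :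
    AlgSp.IsPreEqvRelSp G.s G.t := by
  intro T
  refine ⟨fun a => ⟨a ≫ G.e, ?_, ?_⟩, ?_, ?_⟩
  · rw [Category.assoc, G.e_t, Category.comp_id]
  · rw [Category.assoc, G.e_s, Category.comp_id]
  · rintro a b ⟨r, rfl, rfl⟩
    exact ⟨r ≫ G.i, by rw [Category.assoc, G.i_t], by rw [Category.assoc, G.i_s]⟩
  · rintro a b c ⟨r₁, rfl, rfl⟩ ⟨r₂, h, rfl⟩
    exact ⟨cmp G r₁ r₂ h.symm, cmp_t G _ _ _, cmp_s G _ _ _⟩

set_option backward.isDefEq.respectTransparency false in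
theorem hres_of_isRestriction {S : Scheme.{u}} {B : AlgSp.Sp S} {G G' : AlgSp.GroupoidSp B}
    (φ : AlgSp.GroupoidSp.Hom G' G) (hφ : φ.IsRestriction) :
    ∀ (T : Over S) (a' b' : (AlgSp.yon S).obj T ⟶ G'.U) (ρ : (AlgSp.yon S).obj T ⟶ G.R),
      ρ ≫ G.t = a' ≫ φ.fU → ρ ≫ G.s = b' ≫ φ.fU →
      ∃ r' : (AlgSp.yon S).obj T ⟶ G'.R, r' ≫ G'.t = a' ∧ r' ≫ G'.s = b' := by
  intro T a' b' ρ h1 h2
  have hab : a' ≫ G'.pU = b' ≫ G'.pU := by
    rw [← φ.fU_over, ← Category.assoc, ← Category.assoc, ← h1, ← h2, Category.assoc, Category.assoc,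
      G.t_over, G.s_over]
  have hcomm : ρ ≫ G.j = pullback.lift a' b' hab ≫ φ.prodMap := by
    apply pullback.hom_ext
    · simp [AlgSp.GroupoidSp.Hom.prodMap, h1]
    · simp [AlgSp.GroupoidSp.Hom.prodMap, h2]
  have hφ' : IsPullback φ.fR G'.j G.j φ.prodMap := hφ
  refine ⟨hφ'.lift ρ (pullback.lift a' b' hab) hcomm, ?_, ?_⟩
  · have := hφ'.lift_snd ρ (pullback.lift a' b' hab) hcomm
    calc hφ'.lift ρ (pullback.lift a' b' hab) hcomm ≫ G'.t
        = (hφ'.lift ρ (pullback.lift a' b' hab) hcomm ≫ G'.j) ≫ pullback.fst _ _ := by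
          rw [Category.assoc, G'.j_fst]
      _ = a' := by rw [this, pullback.lift_fst]
  · have := hφ'.lift_snd ρ (pullback.lift a' b' hab) hcomm
    calc hφ'.lift ρ (pullback.lift a' b' hab) hcomm ≫ G'.s
        = (hφ'.lift ρ (pullback.lift a' b' hab) hcomm ≫ G'.j) ≫ pullback.snd _ _ := by
          rw [Category.assoc, G'.j_snd]
      _ = b' := by rw [this, pullback.lift_snd]

theorem epi_quotMap {S : Scheme.{u}} {R U R' U' : AlgSp.Sp S} (s t : R ⟶ U) (s' t' : R' ⟶ U')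
    (g : U' ⟶ U) (ψ : AlgSp.quotSp s' t' ⟶ AlgSp.quotSp s t)
    (hψ : AlgSp.quotSpπ s' t' ≫ ψ = g ≫ AlgSp.quotSpπ s t)
    (hepi : Epi (pullback.snd g t ≫ s)) : Epi ψ := by
  have hπ : Epi (AlgSp.quotSpπ s t) := by unfold AlgSp.quotSpπ; exact coequalizer.π_epi
  have hcomp : (pullback.fst g t ≫ AlgSp.quotSpπ s' t') ≫ ψ =
      (pullback.snd g t ≫ s) ≫ AlgSp.quotSpπ s t := by
    rw [Category.assoc, hψ, ← Category.assoc, pullback.condition, Category.assoc, Category.assoc,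
      AlgSp.quotSp_condition]
  have : Epi ((pullback.fst g t ≫ AlgSp.quotSpπ s' t') ≫ ψ) := by
    rw [hcomp]; exact epi_comp _ _
  exact epi_of_epi (pullback.fst g t ≫ AlgSp.quotSpπ s' t') ψ

/-- For a groupoid `(U, R, s, t, c)` in algebraic spaces over `B`, let `(U', R', s', t', c')` be its
restriction along a morphism `g : U' ⟶ U` over `B`. Then `U'/R' ⟶ U/R` is injective; if the
composite `h : U' ×_{g, U, t} R ⟶ R ⟶ U` of the projection with `s` is a surjection of fppf sheaves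
(for instance if `g` is), then it is bijective. -/
theorem result (S : Scheme.{u}) (B : AlgSp.Sp S) (hB : AlgSp.IsAlgSpace B)
    (G G' : AlgSp.GroupoidSp B) (hU : AlgSp.IsAlgSpace G.U) (hR : AlgSp.IsAlgSpace G.R)
    (hU' : AlgSp.IsAlgSpace G'.U) (hR' : AlgSp.IsAlgSpace G'.R) (φ : AlgSp.GroupoidSp.Hom G' G)
    (hφ : φ.IsRestriction) (ψ : G'.quot ⟶ G.quot) (hψ : G'.quotπ ≫ ψ = φ.fU ≫ G.quotπ) :
    Mono ψ ∧ (Epi (pullback.snd φ.fU G.t ≫ G.s) → IsIso ψ) := by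
  have hpre := isPreEqvRelSp_of_groupoid G
  have hres := hres_of_isRestriction φ hφ
  have hψ' : AlgSp.quotSpπ G'.s G'.t ≫ ψ = φ.fU ≫ AlgSp.quotSpπ G.s G.t := hψ
  refine ⟨Groth.Agent.Lib.H43SpQuot.mono_quotMap hpre φ.fU G'.s G'.t hres ψ hψ', ?_⟩
  intro hepi
  have := epi_quotMap G.s G.t G'.s G'.t φ.fU ψ hψ' hepi
  exact Groth.Agent.Lib.H43SpQuot.isIso_quotMap hpre φ.fU G'.s G'.t hres ψ hψ'

end Groth.Agent.S10115
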