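import Groth.Statements.S10117
import Mathlib.CategoryTheory.Monoidal.Cartesian.Mod
import Mathlib.CategoryTheory.Monoidal.Cartesian.Grp
-- import your own Groth.Agent.* helpers here

set_option autoImplicit false
universe u
open CategoryTheory CategoryTheory.Limits AlgebraicGeometry MonoidalCategory MonObj
open AlgSp AlgSp.GAction

namespace Groth.Agent.S10117

open Opposite CartesianMonoidalCategory

variable {S : Scheme.{u}}

/-- The Yoneda bijection between morphisms `h_T ⟶ F` and sections of `F` over `T`. -/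
noncomputable abbrev yE {F : AlgSp.Sp S} {T : Over S} :
    ((AlgSp.yon S).obj T ⟶ F) ≃ F.obj.obj (op T) :=
  (AlgSp.J S).uliftYonedaEquiv.{u + 1}

theorem app_eq {F G : AlgSp.Sp S} {T : Over S} (y : F.obj.obj (op T)) (f : F ⟶ G) :
    f.hom.app (op T) y = yE (yE.symm y ≫ f) := by
  rw [(AlgSp.J S).uliftYonedaEquiv_comp, Equiv.apply_symm_apply]

/-- Morphisms of sheaves are determined by their effect on points with values in schemes. -/
theorem hom_ext_yon {Z F : AlgSp.Sp S} (g₁ g₂ : Z ⟶ F)
    (h : ∀ (T : Over S) (z : (AlgSp.yon S).obj T ⟶ Z), z ≫ g₁ = z ≫ g₂) : g₁ = g₂ := by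
  apply Sheaf.hom_ext
  ext T x
  induction T using Opposite.rec with
  | op T =>
    exact (app_eq x g₁).trans ((congrArg yE (h T _)).trans (app_eq x g₂).symm)

/-- A morphism of sheaves which is injective on points with values in schemes is a monomorphism. -/
theorem mono_of_yon {F F' : AlgSp.Sp S} (f : F ⟶ F')
    (h : ∀ (T : Over S) (a b : (AlgSp.yon S).obj T ⟶ F), a ≫ f = b ≫ f → a = b) : Mono f := by
  refine ⟨fun {Z} g₁ g₂ hg => ?_⟩
  apply hom_ext_yon
  intro T z
  apply h
  rw [Category.assoc, Category.assoc, hg]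

/-- If a group algebraic space `G` over `B` acts freely on an algebraic space `X` over `B`, then `G ×_B
X ⟶ X ×_B X`, `(g, x) ↦ (g x, x)`, is a monomorphism. (The published statement is an equivalence;
this row states only the direction from free to monomorphism.) -/
theorem result (S : Scheme.{u}) (B : AlgSp.Sp S) (hB : AlgSp.IsAlgSpace B)
    (G X : Over B) [GrpObj G] (hG : AlgSp.IsAlgSpace G.left) (hX : AlgSp.IsAlgSpace X.left)
    (a : AlgSp.GAction G X) (ha : a.IsFree) :
    Mono (CartesianMonoidalCategory.lift a.act (CartesianMonoidalCategory.snd G X)).left := by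
  let _ : ModObj G X := { smul := a.act, one_smul := a.one_act, mul_smul := a.mul_act }
  apply mono_of_yon
  intro T a₁ a₂ h
  -- the common structure map to `B`
  set sh := CartesianMonoidalCategory.lift a.act (CartesianMonoidalCategory.snd G X) with hsh
  have hover : sh.left ≫ (X ⊗ X).hom = (G ⊗ X).hom := Over.w sh
  set β : (AlgSp.yon S).obj T ⟶ B := a₁ ≫ (G ⊗ X).hom with hβ
  have hβ₂ : a₂ ≫ (G ⊗ X).hom = β := by
    rw [hβ, ← hover, ← Category.assoc, ← Category.assoc, h]
  let u₁ : Over.mk β ⟶ G ⊗ X := Over.homMk a₁ rfl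
  let u₂ : Over.mk β ⟶ G ⊗ X := Over.homMk a₂ hβ₂
  have hu : u₁ ≫ sh = u₂ ≫ sh := by
    apply Over.OverMorphism.ext
    exact h
  suffices hu' : u₁ = u₂ by
    have := congrArg CommaMorphism.left hu'
    exact this
  -- decompose
  have hx : u₁ ≫ snd G X = u₂ ≫ snd G X := by
    have := congrArg (· ≫ snd X X) hu
    simpa [hsh] using this
  have hact : u₁ ≫ a.act = u₂ ≫ a.act := by
    have := congrArg (· ≫ fst X X) hu
    simpa [hsh] using this
  have hsm : ∀ v : Over.mk β ⟶ G ⊗ X, (v ≫ fst G X) • (v ≫ snd G X) = v ≫ a.act := by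
    intro v
    rw [Hom.smul_def]
    congr 1
    apply CartesianMonoidalCategory.hom_ext <;> simp
  have hg : (u₁ ≫ fst G X) • (u₁ ≫ snd G X) = (u₂ ≫ fst G X) • (u₂ ≫ snd G X) := by
    rw [hsm, hsm, hact]
  set x := u₁ ≫ snd G X with hxdef
  set g₁ := u₁ ≫ fst G X with hg₁
  set g₂ := u₂ ≫ fst G X with hg₂
  rw [← hx] at hg
  have hfix : (g₂⁻¹ * g₁) • x = x := by
    rw [mul_smul, hg, ← mul_smul, inv_mul_cancel, one_smul]
  have h1 : g₂⁻¹ * g₁ = 1 := by
    have := ha β (g₂⁻¹ * g₁) x hfix
    rw [this, Hom.one_def]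
  have h12 : g₁ = g₂ := by
    have := congrArg (g₂ * ·) h1
    simpa using this
  apply CartesianMonoidalCategory.hom_ext
  · exact h12
  · exact hx

end Groth.Agent.S10117
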