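import Groth.Statements.S10121
-- import your own Groth.Agent.* helpers here

set_option autoImplicit false
universe u
open CategoryTheory CategoryTheory.Limits AlgebraicGeometry
open AlgSp

namespace Groth.Agent.S10121

open Opposite

variable {S : Scheme.{u}}

/-- Restricting a field-valued point along a morphism of spectra of fields does not change the point. -/
theorem mk_restrict {F : AlgSp.Sp S} (p : AlgSp.FieldPt F) (Ω : Type u) [Field Ω]
    (w : Spec (CommRingCat.of Ω) ⟶ S) (a : Over.mk w ⟶ p.pt) :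
    AlgSp.Points.mk (⟨Ω, w, F.obj.map a.op p.val⟩ : AlgSp.FieldPt F) = AlgSp.Points.mk p := by
  apply AlgSp.Points.sound
  refine ⟨Ω, inferInstance, w, 𝟙 _, a, ?_⟩
  change F.obj.map (𝟙 (Over.mk w)).op (F.obj.map a.op p.val) = F.obj.map a.op p.val
  rw [op_id, F.obj.map_id]
  rfl

/-- The Yoneda bijection between morphisms `h_T ⟶ F` and sections of `F` over `T`. -/
noncomputable abbrev yE {F : AlgSp.Sp S} {T : Over S} :
    ((AlgSp.yon S).obj T ⟶ F) ≃ F.obj.obj (op T) :=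
  (AlgSp.J S).uliftYonedaEquiv.{u + 1}

theorem app_equiv {F G : AlgSp.Sp S} {T : Over S} (r : (AlgSp.yon S).obj T ⟶ F) (f : F ⟶ G) :
    f.hom.app (op T) (yE r) = yE (r ≫ f) :=
  ((AlgSp.J S).uliftYonedaEquiv_comp r f).symm

theorem app_eq {F G : AlgSp.Sp S} {T : Over S} (y : F.obj.obj (op T)) (f : F ⟶ G) :
    f.hom.app (op T) y = yE (yE.symm y ≫ f) := by
  rw [← app_equiv, Equiv.apply_symm_apply]

/-- For a pre-equivalence relation `s, t : R ⟶ U` of algebraic spaces, the relation on points of `U`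
given by `x ∼ y` when some point `r` of `R` has `t(r) = x` and `s(r) = y` is an equivalence relation
on `|U|`. -/
theorem result (S : Scheme.{u}) (R U : AlgSp.Sp S)
    (hR : AlgSp.IsAlgSpace R) (hU : AlgSp.IsAlgSpace U) (s t : R ⟶ U) (h : AlgSp.IsPreEqvRelSp s t) :
    _root_.Equivalence (fun x y : AlgSp.Points U =>
      ∃ r : AlgSp.Points R, AlgSp.Points.map t r = x ∧ AlgSp.Points.map s r = y) := by
  refine ⟨?_, ?_, ?_⟩
  · -- reflexivity
    intro x
    induction x using AlgSp.Points.ind with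
    | h p =>
      obtain ⟨r, hr1, hr2⟩ := (h p.pt).refl (yE.symm p.val)
      refine ⟨AlgSp.Points.mk ⟨p.K, p.str, yE r⟩, ?_, ?_⟩
      · rw [AlgSp.Points.map_mk]
        congr 1
        change (⟨p.K, p.str, t.hom.app _ (yE r)⟩ : AlgSp.FieldPt U) = p
        rw [app_equiv, hr1, Equiv.apply_symm_apply]
        rfl
      · rw [AlgSp.Points.map_mk]
        congr 1
        change (⟨p.K, p.str, s.hom.app _ (yE r)⟩ : AlgSp.FieldPt U) = p
        rw [app_equiv, hr2, Equiv.apply_symm_apply]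
        rfl
  · -- symmetry
    rintro x y ⟨r, rfl, rfl⟩
    induction r using AlgSp.Points.ind with
    | h ρ =>
      obtain ⟨r', hr1, hr2⟩ := (h ρ.pt).symm
        ⟨yE.symm ρ.val, rfl, rfl⟩
      refine ⟨AlgSp.Points.mk ⟨ρ.K, ρ.str, yE r'⟩, ?_, ?_⟩
      · rw [AlgSp.Points.map_mk, AlgSp.Points.map_mk]
        congr 1
        change (⟨ρ.K, ρ.str, t.hom.app _ (yE r')⟩ : AlgSp.FieldPt U) =
          ⟨ρ.K, ρ.str, s.hom.app _ ρ.val⟩
        rw [app_equiv, hr1, ← app_eq]
      · rw [AlgSp.Points.map_mk, AlgSp.Points.map_mk]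
        congr 1
        change (⟨ρ.K, ρ.str, s.hom.app _ (yE r')⟩ : AlgSp.FieldPt U) =
          ⟨ρ.K, ρ.str, t.hom.app _ ρ.val⟩
        rw [app_equiv, hr2, ← app_eq]
  · -- transitivity
    rintro x y z ⟨r₁, rfl, rfl⟩ ⟨r₂, h₂, rfl⟩
    induction r₁ using AlgSp.Points.ind with
    | h ρ₁ =>
    induction r₂ using AlgSp.Points.ind with
    | h ρ₂ =>
      rw [AlgSp.Points.map_mk, AlgSp.Points.map_mk, AlgSp.Points.mk_eq_mk_iff] at h₂
      obtain ⟨Ω, _, w, b, a, hab⟩ := h₂
      change U.obj.map b.op (t.hom.app _ ρ₂.val) = U.obj.map a.op (s.hom.app _ ρ₁.val) at hab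
      -- restrictions to Ω
      set y₁ := R.obj.map a.op ρ₁.val with hy₁
      set y₂ := R.obj.map b.op ρ₂.val with hy₂
      have hst : s.hom.app _ y₁ = t.hom.app _ y₂ := by
        rw [hy₁, hy₂, NatTrans.naturality_apply, NatTrans.naturality_apply, hab]
      have hst' : yE.symm y₂ ≫ t =
          yE.symm y₁ ≫ s := by
        apply yE.injective
        rw [← app_eq, ← app_eq, hst]
      obtain ⟨r₃, hr1, hr2⟩ := (h (Over.mk w)).trans
        ⟨yE.symm y₁, rfl, rfl⟩
        ⟨yE.symm y₂, hst', rfl⟩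
      refine ⟨AlgSp.Points.mk ⟨Ω, w, yE r₃⟩, ?_, ?_⟩
      · rw [AlgSp.Points.map_mk, AlgSp.Points.map_mk, ← mk_restrict (ρ₁.map t) Ω w a]
        congr 1
        change (⟨Ω, w, t.hom.app _ (yE r₃)⟩ : AlgSp.FieldPt U) =
          ⟨Ω, w, U.obj.map a.op (t.hom.app _ ρ₁.val)⟩
        rw [app_equiv, hr1, ← app_eq, hy₁, NatTrans.naturality_apply]
      · rw [AlgSp.Points.map_mk, AlgSp.Points.map_mk, ← mk_restrict (ρ₂.map s) Ω w b]
        congr 1
        change (⟨Ω, w, s.hom.app _ (yE r₃)⟩ : AlgSp.FieldPt U) =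
          ⟨Ω, w, U.obj.map b.op (s.hom.app _ ρ₂.val)⟩
        rw [app_equiv, hr2, ← app_eq, hy₂, NatTrans.naturality_apply]

end Groth.Agent.S10121
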