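import Groth.Statements.S10123
-- import your own Groth.Agent.* helpers here
import Groth.Agent.Lib.AlgSpGpdRestr91

set_option autoImplicit false
universe u
open CategoryTheory CategoryTheory.Limits AlgebraicGeometry
open AlgSp AlgSp.GroupoidSp

namespace Groth.Agent.S10123

/-- Let `(U', R', s', t', c')` be the restriction of a groupoid in algebraic spaces `(U, R, s, t, c)`
over `B` along `g : U' ⟶ U`. If `s, t, g` are locally of finite type (resp. locally of finite
presentation, resp. flat) then so are `s', t'`. -/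
theorem result (S : Scheme.{u}) (B : AlgSp.Sp S) (hB : AlgSp.IsAlgSpace B)
    (G G' : AlgSp.GroupoidSp B) (hU : AlgSp.IsAlgSpace G.U) (hR : AlgSp.IsAlgSpace G.R)
    (hU' : AlgSp.IsAlgSpace G'.U) (hR' : AlgSp.IsAlgSpace G'.R) (φ : AlgSp.GroupoidSp.Hom G' G)
    (hφ : φ.IsRestriction) :
    (AlgSp.LocP @LocallyOfFiniteType G.s → AlgSp.LocP @LocallyOfFiniteType G.t →
        AlgSp.LocP @LocallyOfFiniteType φ.fU →
        AlgSp.LocP @LocallyOfFiniteType G'.s ∧ AlgSp.LocP @LocallyOfFiniteType G'.t) ∧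
      (AlgSp.LocP @LocallyOfFinitePresentation G.s → AlgSp.LocP @LocallyOfFinitePresentation G.t →
        AlgSp.LocP @LocallyOfFinitePresentation φ.fU →
        AlgSp.LocP @LocallyOfFinitePresentation G'.s ∧ AlgSp.LocP @LocallyOfFinitePresentation G'.t) ∧
      (AlgSp.LocP @Flat G.s → AlgSp.LocP @Flat G.t → AlgSp.LocP @Flat φ.fU →
        AlgSp.LocP @Flat G'.s ∧ AlgSp.LocP @Flat G'.t) := by
  have h1 := Groth.Agent.Lib.H86ZarGlue.descendsAlong_etCov_lft.{u}
  have h2 := Groth.Agent.Lib.H86ZarGlue.descendsAlong_etCov_lfp.{u}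
  have h3 := Groth.Agent.Lib.H86ZarGlue.descendsAlong_etCov_flat.{u}
  refine ⟨fun hs ht hg => ?_, fun hs ht hg => ?_, fun hs ht hg => ?_⟩
  · exact Groth.Agent.Lib.AlgSpGpdRestr91.locP_s_t φ Groth.Agent.Lib.AlgSpLocP.etLocalClass_lft hU hR hU' hR' hφ
      hs ht hg
  · exact Groth.Agent.Lib.AlgSpGpdRestr91.locP_s_t φ Groth.Agent.Lib.AlgSpLocP.etLocalClass_lfp hU hR hU' hR' hφ
      hs ht hg
  · exact Groth.Agent.Lib.AlgSpGpdRestr91.locP_s_t φ Groth.Agent.Lib.AlgSpLocP.etLocalClass_flat hU hR hU' hR' hφ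
      hs ht hg

end Groth.Agent.S10123
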