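import Groth.Statements.S10127
import Groth.Agent.Lib.GrpFieldSep46
import Groth.Agent.Lib.AlgSpGrpSep91

set_option autoImplicit false
universe u
open CategoryTheory CategoryTheory.Limits AlgebraicGeometry MonoidalCategory MonObj
open AlgSp

namespace Groth.Agent.S10127

/-- A group algebraic space over a field `k` which is a decent algebraic space is separated. (The
published situation allows any base scheme `S` with `k` a field over `S`; this row takes `S = Spec
k`.) -/
theorem result (k : Type u) [Field k]
    (G : Over ((AlgSp.yon (Spec (CommRingCat.of k))).obj (Over.mk (𝟙 _)))) [GrpObj G]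
    (hG : AlgSp.IsAlgSpace G.left) (hd : AlgSp.IsDecent G.left) : AlgSp.IsSeparatedSp G.left := by
  have hT := Groth.Agent.Lib.GrpFieldSep46.isTerminalYonId (Spec (CommRingCat.of k))
  rw [Groth.Agent.Lib.GrpFieldSep46.isSeparatedSp_iff_isSeparatedMor_of_isTerminal hT G.hom]
  change RepWith @IsClosedImmersion (pullback.diagonal G.hom)
  rw [Groth.Agent.Lib.AlgSpGrpSep91.repWith_diagonal_iff G]
  refine Groth.Agent.Lib.GrpFieldSep46.repWith_isClosedImmersion_of_section hG (𝟙 _) (η[G]).left G.hom
    (Over.w η[G]) ?_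
  let qpt : FieldPt G.left := Groth.Agent.Lib.H80DecentPt.ofHom (𝟙 _) (η[G]).left
  obtain ⟨p, hp, hm, hq⟩ := hd (Points.mk qpt)
  have h := Groth.Agent.Lib.AlgSpDecentPt91.repWith_quasiCompact_of_mk_eq hG qpt p hp.symm hq
  rwa [Groth.Agent.Lib.H80DecentPt.toHom_ofHom] at h

end Groth.Agent.S10127
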