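import Groth.Statements.S10141
import Groth.Agent.Lib.H69GrpdQuot

set_option autoImplicit false
universe u
open CategoryTheory CategoryTheory.Limits AlgebraicGeometry
open AlgSp

namespace Groth.Agent.S10141

/-- Let `(U, R, s, t, c)` be a groupoid scheme over `S` and `g : U' ⟶ U` a morphism such that the
composite `h : U' ×_{g, U, t} R ⟶ R ⟶ U` of the projection with `s` has open image `W ⊂ U` and `h :
U' ×_{g, U, t} R ⟶ W` is a surjection of fppf sheaves. Then for the restriction `R' = R|_{U'}` the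
map of fppf quotient sheaves `U'/R' ⟶ U/R` is representable and an open immersion. -/
theorem result (S : Scheme.{u}) (G : Grpd.GroupoidScheme S)
    (U' : Scheme.{u}) (g : U' ⟶ G.U) (W : G.U.Opens)
    (hW : (W : Set ↥G.U) = Set.range ⇑(pullback.snd g G.t ≫ G.s))
    (hlift : pullback g G.t ⟶ ↑W) (hh : hlift ≫ W.ι = pullback.snd g G.t ≫ G.s)
    (hsurj : Sheaf.IsLocallySurjective ((AlgSp.yon S).map
      (Over.homMk hlift ((Category.assoc _ _ _).symm.trans (congrArg (· ≫ G.pU) hh)) :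
        Over.mk ((pullback.snd g G.t ≫ G.s) ≫ G.pU) ⟶ Over.mk (W.ι ≫ G.pU))))
    (R' : Over S) (s' t' : R' ⟶ Over.mk (g ≫ G.pU)) (r : R' ⟶ Over.mk G.pR)
    (hsq : IsPullback (prod.lift t' s') r
      (prod.map (Over.homMk g rfl : Over.mk (g ≫ G.pU) ⟶ Over.mk G.pU) (Over.homMk g rfl : Over.mk (g ≫ G.pU) ⟶ Over.mk G.pU))
      (prod.lift (Over.homMk G.t G.t_over : Over.mk G.pR ⟶ Over.mk G.pU) (Over.homMk G.s G.s_over : Over.mk G.pR ⟶ Over.mk G.pU)))
    (ψ : QuotSh.quot Scheme.fppfPrecoverage s' t' ⟶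
      QuotSh.quot Scheme.fppfPrecoverage (Over.homMk G.s G.s_over : Over.mk G.pR ⟶ Over.mk G.pU) (Over.homMk G.t G.t_over : Over.mk G.pR ⟶ Over.mk G.pU))
    (hψ : QuotSh.quotπ Scheme.fppfPrecoverage s' t' ≫ ψ =
      QuotSh.repMap Scheme.fppfPrecoverage (Over.homMk g rfl : Over.mk (g ≫ G.pU) ⟶ Over.mk G.pU) ≫ QuotSh.quotπ Scheme.fppfPrecoverage _ _) :
    AlgSp.RepWith @IsOpenImmersion ψ := by
  let U'o : Over S := Over.mk (g ≫ G.pU)
  let go : U'o ⟶ Groth.Agent.Lib.H69GrpdQuot.Uo G := Over.homMk g rfl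
  let P : Over S := Over.mk ((pullback.snd g G.t ≫ G.s) ≫ G.pU)
  let Wo : Over S := Over.mk (W.ι ≫ G.pU)
  let w : Wo ⟶ Groth.Agent.Lib.H69GrpdQuot.Uo G := Over.homMk W.ι rfl
  let hl : P ⟶ Wo := Over.homMk hlift ((Category.assoc _ _ _).symm.trans (congrArg (· ≫ G.pU) hh))
  let pr1 : P ⟶ U'o := Over.homMk (pullback.fst g G.t) (by
    change pullback.fst g G.t ≫ g ≫ G.pU = (pullback.snd g G.t ≫ G.s) ≫ G.pU
    rw [← Category.assoc, pullback.condition, Category.assoc, G.t_over, Category.assoc, G.s_over])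
  let pr2 : P ⟶ Groth.Agent.Lib.H69GrpdQuot.Ro G := Over.homMk (pullback.snd g G.t) (by
    change pullback.snd g G.t ≫ G.pR = (pullback.snd g G.t ≫ G.s) ≫ G.pU
    rw [Category.assoc, G.s_over])
  have hP : pr1 ≫ go = pr2 ≫ Groth.Agent.Lib.H69GrpdQuot.tO G := by
    ext
    exact pullback.condition
  have hPlift : ∀ {T : Over S} (β : T ⟶ U'o) (ρ : T ⟶ Groth.Agent.Lib.H69GrpdQuot.Ro G),
      β ≫ go = ρ ≫ Groth.Agent.Lib.H69GrpdQuot.tO G → ∃ l : T ⟶ P, l ≫ pr1 = β ∧ l ≫ pr2 = ρ := by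
    intro T β ρ h
    have h' : β.left ≫ g = ρ.left ≫ G.t := congrArg (fun m => m.left) h
    refine ⟨Over.homMk (pullback.lift β.left ρ.left h') ?_, ?_, ?_⟩
    · change pullback.lift β.left ρ.left h' ≫ (pullback.snd g G.t ≫ G.s) ≫ G.pU = T.hom
      rw [Category.assoc, G.s_over, pullback.lift_snd_assoc]
      exact Over.w ρ
    · ext
      exact pullback.lift_fst _ _ _
    · ext
      exact pullback.lift_snd _ _ _
  have hwi : IsOpenImmersion w.left := (inferInstance : IsOpenImmersion W.ι)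
  have hhl : hl ≫ w = pr2 ≫ Groth.Agent.Lib.H69GrpdQuot.sO G := by
    ext
    exact hh
  have hrange : Set.range w.left = Set.range (pr2 ≫ Groth.Agent.Lib.H69GrpdQuot.sO G).left := by
    change Set.range W.ι = Set.range (pullback.snd g G.t ≫ G.s)
    rw [← hW]
    exact W.range_ι
  have hsurj' : Sheaf.IsLocallySurjective ((AlgSp.yon S).map hl) := hsurj
  have hφ : Groth.Agent.Lib.H69QuotPres.quotMap s' t' ≫ ψ =
      (AlgSp.yon S).map go ≫ Groth.Agent.Lib.H69QuotPres.quotMap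
        (Groth.Agent.Lib.H69GrpdQuot.sO G) (Groth.Agent.Lib.H69GrpdQuot.tO G) := by
    rw [Groth.Agent.Lib.H69QuotPres.quotMap, Category.assoc, hψ, ← Category.assoc,
      Groth.Agent.Lib.H69QuotPres.rIso_inv_naturality, Category.assoc]
  exact Groth.Agent.Lib.H69QuotOpen.repWith_isOpenImmersion_quot_map_of_local_rel
    (Groth.Agent.Lib.H69GrpdQuot.sO G) (Groth.Agent.Lib.H69GrpdQuot.tO G) go s' t' r hsq
    (Groth.Agent.Lib.H69QuotPres.quotMap _ _) (Groth.Agent.Lib.H69QuotPres.quotMap s' t')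
    (Groth.Agent.Lib.H69QuotPres.quotMap_condition _ _)
    (fun a b hab => Groth.Agent.Lib.H69GrpdQuot.exists_local_rel G a b hab)
    (Groth.Agent.Lib.H69QuotPres.quotMap_condition s' t') ψ hφ pr1 pr2 hP hPlift w hl hhl hrange

end Groth.Agent.S10141
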