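import Groth.Statements.S10142
import Groth.Agent.Lib.GpdSpPts
-- import your own Groth.Agent.* helpers here

set_option autoImplicit false
universe u
open CategoryTheory CategoryTheory.Limits AlgebraicGeometry
open AlgSp AlgSp.GroupoidSp

namespace Groth.Agent.S10142

/-- For a groupoid in algebraic spaces `(U, R, s, t, c, e, i)` over `B`: the square with sides `c : R
×_{s,U,t} R ⟶ R`, `pr_1 : R ×_{s,U,t} R ⟶ R`, `s` and `s` is cartesian, and the morphism `R
×_{t,U,t} R ⟶ R ×_{s,U,t} R`, `(α, β) ↦ (α, i(α) ∘ β)`, is an isomorphism whose composite with `c`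
is the second projection `pr_1 : R ×_{t,U,t} R ⟶ R`. (The published statement also lists the square
formed by `pr_0`, `pr_1`, `s`, `t`, which is cartesian by definition of the fibre product.) -/
theorem result (S : Scheme.{u}) (B : AlgSp.Sp S) (hB : AlgSp.IsAlgSpace B)
    (G : AlgSp.GroupoidSp B) (hU : AlgSp.IsAlgSpace G.U) (hR : AlgSp.IsAlgSpace G.R) :
    IsPullback G.c (pullback.snd G.s G.t) G.s G.s ∧
      ∀ φ : pullback G.t G.t ⟶ pullback G.s G.t,
        φ ≫ pullback.fst G.s G.t = pullback.fst G.t G.t →
        φ ≫ pullback.snd G.s G.t =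
          pullback.lift (pullback.fst G.t G.t ≫ G.i) (pullback.snd G.t G.t)
            ((Category.assoc _ _ _).trans ((congrArg (pullback.fst G.t G.t ≫ ·) G.i_s).trans pullback.condition)) ≫ G.c →
        IsIso φ ∧ φ ≫ G.c = pullback.snd G.t G.t := by
  classical
  have cs := Groth.Agent.Lib.GpdSpPts.c_s G
  have ct := Groth.Agent.Lib.GpdSpPts.c_t G
  refine ⟨?_, ?_⟩
  · refine IsPullback.mk ⟨cs⟩ ⟨PullbackCone.IsLimit.mk cs
      (fun s => pullback.lift
        (Groth.Agent.Lib.GpdSpPts.comp G s.fst (s.snd ≫ G.i)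
          (by rw [Category.assoc, G.i_t, s.condition]))
        s.snd (by rw [Groth.Agent.Lib.GpdSpPts.comp_s, Category.assoc, G.i_s])) ?_ ?_ ?_⟩
    · intro s
      rw [Groth.Agent.Lib.GpdSpPts.comp_def]
      exact Groth.Agent.Lib.GpdSpPts.comp_inv_comp_right G s.fst s.snd s.condition
    · intro s
      rw [pullback.lift_snd]
    · intro s m h1 h2
      apply pullback.hom_ext
      · rw [pullback.lift_fst]
        have h3 := Groth.Agent.Lib.GpdSpPts.eq_comp G m
        rw [h1] at h3
        have h4 := Groth.Agent.Lib.GpdSpPts.comp_comp_inv G (m ≫ pullback.fst G.s G.t)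
          (m ≫ pullback.snd G.s G.t)
          (by rw [Category.assoc, Category.assoc, pullback.condition])
        rw [← h4]
        exact (Groth.Agent.Lib.GpdSpPts.comp_congr G _ h3 (by rw [h2])).symm
      · rw [pullback.lift_snd, h2]
  · intro φ h1 h2
    rw [Groth.Agent.Lib.GpdSpPts.comp_def] at h2
    have hc : φ ≫ G.c = pullback.snd G.t G.t := by
      rw [Groth.Agent.Lib.GpdSpPts.eq_comp G φ]
      have h3 := Groth.Agent.Lib.GpdSpPts.comp_inv_comp G (pullback.fst G.t G.t)
        (pullback.snd G.t G.t) pullback.condition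
      rw [← h3]
      exact Groth.Agent.Lib.GpdSpPts.comp_congr G _ h1 h2
    refine ⟨⟨pullback.lift (pullback.fst G.s G.t) G.c ct.symm, ?_, ?_⟩, hc⟩
    · apply pullback.hom_ext
      · rw [Category.assoc, pullback.lift_fst, h1, Category.id_comp]
      · rw [Category.assoc, pullback.lift_snd, hc, Category.id_comp]
    · apply pullback.hom_ext
      · rw [Category.assoc, h1, pullback.lift_fst, Category.id_comp]
      · rw [Category.assoc, h2, Category.id_comp, Groth.Agent.Lib.GpdSpPts.precomp]
        have h3 := Groth.Agent.Lib.GpdSpPts.inv_comp_comp G (pullback.fst G.s G.t)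
          (pullback.snd G.s G.t) pullback.condition
        rw [← h3]
        refine Groth.Agent.Lib.GpdSpPts.comp_congr G _ ?_ ?_
        · rw [← Category.assoc, pullback.lift_fst]
        · rw [pullback.lift_snd]
          exact Groth.Agent.Lib.GpdSpPts.c_eq_comp G

end Groth.Agent.S10142
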