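import Groth.Statements.S10145
import Groth.Agent.Lib.GpdSpPts
-- import your own Groth.Agent.* helpers here

set_option autoImplicit false
universe u
open CategoryTheory CategoryTheory.Limits AlgebraicGeometry
open AlgSp AlgSp.GroupoidSp

namespace Groth.Agent.S10145

/-- Let `(U, R, s, t, c)` be a groupoid in algebraic spaces over `B` whose object space is `U = Spec k`,
and let `r : Spec k ⟶ R` be such that `s ∘ r` and `t ∘ r` are automorphisms of `Spec k`; write `a =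
r ∘ (s ∘ r)⁻¹`, so that `s ∘ a = id` and `t ∘ a` is an automorphism. Then `R ⟶ R`, `f ↦ c(a ∘ t ∘ f,
f)`, is an automorphism of `R` mapping `e` to `a` (the point `r`). -/
theorem result (S : Scheme.{u}) (B : AlgSp.Sp S) (hB : AlgSp.IsAlgSpace B)
    (G : AlgSp.GroupoidSp B) (hR : AlgSp.IsAlgSpace G.R) (k : Type u) [Field k]
    (σ : Spec (CommRingCat.of k) ⟶ S) (eU : G.U ≅ (AlgSp.yon S).obj (Over.mk σ))
    (a : G.U ⟶ G.R) (ha : a ≫ G.s = 𝟙 G.U) [IsIso (a ≫ G.t)] :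
    IsIso (pullback.lift (G.t ≫ a) (𝟙 G.R) (((Category.assoc _ _ _).trans (congrArg (G.t ≫ ·) ha)).trans ((Category.comp_id _).trans (Category.id_comp _).symm)) ≫ G.c) ∧
      G.e ≫ (pullback.lift (G.t ≫ a) (𝟙 G.R) (((Category.assoc _ _ _).trans (congrArg (G.t ≫ ·) ha)).trans ((Category.comp_id _).trans (Category.id_comp _).symm)) ≫ G.c) = a := by
  rw [Groth.Agent.Lib.GpdSpPts.comp_def]
  -- the inverse translation
  have hτ : inv (a ≫ G.t) ≫ a ≫ G.t = 𝟙 G.U := IsIso.inv_hom_id (a ≫ G.t)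
  have hτ' : (a ≫ G.t) ≫ inv (a ≫ G.t) = 𝟙 G.U := IsIso.hom_inv_id (a ≫ G.t)
  set α : G.R ⟶ G.R := G.t ≫ inv (a ≫ G.t) ≫ a with hα
  have hαt : α ≫ G.t = 𝟙 G.R ≫ G.t := by
    rw [hα, Category.assoc, Category.assoc, hτ, Category.comp_id, Category.id_comp]
  have hαs : α ≫ G.s = G.t ≫ inv (a ≫ G.t) := by
    rw [hα, Category.assoc, Category.assoc, ha, Category.comp_id]
  have hM : (α ≫ G.i) ≫ G.s = 𝟙 G.R ≫ G.t := by
    rw [Category.assoc, G.i_s, hαt]
  refine ⟨⟨Groth.Agent.Lib.GpdSpPts.comp G (α ≫ G.i) (𝟙 G.R) hM, ?_, ?_⟩, ?_⟩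
  · -- L ≫ M = 𝟙
    rw [Groth.Agent.Lib.GpdSpPts.precomp]
    have h3 := Groth.Agent.Lib.GpdSpPts.inv_comp_comp G (G.t ≫ a) (𝟙 G.R)
      (by rw [Category.assoc, ha, Category.comp_id, Category.id_comp])
    refine Eq.trans ?_ h3
    refine Groth.Agent.Lib.GpdSpPts.comp_congr G _ ?_ ?_
    · rw [hα]
      simp only [← Category.assoc]
      rw [Groth.Agent.Lib.GpdSpPts.comp_t]
      simp only [Category.assoc]
      have h4 : a ≫ G.t ≫ inv (a ≫ G.t) ≫ a ≫ G.i = a ≫ G.i := by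
        rw [← Category.assoc a G.t, IsIso.hom_inv_id_assoc]
      rw [h4]
    · rw [Category.comp_id]
  · -- M ≫ L = 𝟙
    rw [Groth.Agent.Lib.GpdSpPts.precomp]
    have h3 := Groth.Agent.Lib.GpdSpPts.comp_inv_comp G α (𝟙 G.R) hαt
    refine Eq.trans ?_ h3
    refine Groth.Agent.Lib.GpdSpPts.comp_congr G _ ?_ ?_
    · rw [← Category.assoc, Groth.Agent.Lib.GpdSpPts.comp_t, Category.assoc α G.i G.t, G.i_t, hαs,
        hα, Category.assoc]
    · rw [Category.comp_id]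
  · rw [Groth.Agent.Lib.GpdSpPts.precomp]
    have h3 := Groth.Agent.Lib.GpdSpPts.comp_unit G a G.e
      (by rw [← Category.assoc, ha, Category.id_comp])
    refine Eq.trans ?_ h3
    refine Groth.Agent.Lib.GpdSpPts.comp_congr G _ ?_ ?_
    · rw [← Category.assoc, G.e_t, Category.id_comp]
    · rw [Category.comp_id]

end Groth.Agent.S10145
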