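import Groth.Statements.S10147
-- import your own Groth.Agent.* helpers here

set_option autoImplicit false
universe u v w
open LinTop

namespace Groth.Agent.S10147

/-- Let M be a topological module over a ring R whose additive group is a topological group, and let
(M_i) be a family of submodules of M forming a fundamental system of neighbourhoods of 0. For every
submodule N of M, the closure of N is the intersection over i of the submodules N + M_i. -/
theorem result
    {R : Type u} [Ring R] {M : Type v} [AddCommGroup M] [Module R M] [TopologicalSpace M]
    [IsTopologicalAddGroup M] {ι : Type w} (B : ι → Submodule R M)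
    (hB : (nhds (0 : M)).HasBasis (fun _ => True) (fun i => (B i : Set M)))
    (N : Submodule R M) :
    closure (N : Set M) = ⋂ i, ((N ⊔ B i : Submodule R M) : Set M) := by
  ext x
  simp only [Set.mem_iInter, SetLike.mem_coe]
  constructor
  · intro hx i
    have hnx : (fun y : M => x - y) ⁻¹' (B i : Set M) ∈ nhds x := by
      have hc : Continuous (fun y : M => x - y) := continuous_const.sub continuous_id
      apply hc.continuousAt
      simp only [sub_self]
      exact hB.mem_of_mem trivial
    obtain ⟨n, hn1, hn2⟩ := mem_closure_iff_nhds.mp hx _ hnx
    have : x = n + (x - n) := by abel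
    rw [this]
    exact Submodule.add_mem_sup hn2 hn1
  · intro hx
    rw [mem_closure_iff_nhds]
    intro U hU
    have hU0 : (fun y : M => x + y) ⁻¹' U ∈ nhds (0 : M) := by
      have hc : Continuous (fun y : M => x + y) := continuous_const.add continuous_id
      apply hc.continuousAt
      simpa using hU
    obtain ⟨i, -, hi⟩ := hB.mem_iff.mp hU0
    obtain ⟨n, hn, b, hb, hnb⟩ := Submodule.mem_sup.mp (hx i)
    refine ⟨n, ?_, hn⟩
    have hmb : -b ∈ (B i : Set M) := (B i).neg_mem hb
    have := hi hmb
    simp only [Set.mem_preimage] at this
    have hxn : x + -b = n := by rw [← hnb]; abel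
    rwa [hxn] at this

end Groth.Agent.S10147
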