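import Groth.Statements.S10148
import Groth.Agent.Lib.AdmissibleUnits
import Groth.Agent.Lib.HenselRadical
import Groth.Agent.Lib.TautBasic
import Mathlib.Topology.Algebra.Polynomial
-- import your own Groth.Agent.* helpers here

set_option autoImplicit false
universe u
open LinTop

namespace Groth.Agent.S10148

open Polynomial Filter Topology

section Aux

variable {A : Type u} [CommRing A] [UniformSpace A] [IsUniformAddGroup A] [IsTopologicalRing A]

theorem isUnit_one_sub [IsLinearTopology A A] [T2Space A] [CompleteSpace A] {x : A}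
    (hx : IsTopologicallyNilpotent x) : IsUnit (1 - x) := by
  have := Groth.Agent.Lib.AdmissibleUnits.nonarchimedeanAddGroup A
  have hsum : Summable (fun n : ℕ => x ^ n) := by
    apply NonarchimedeanAddGroup.summable_of_tendsto_cofinite_zero
    rw [Nat.cofinite_eq_atTop]
    exact hx
  exact IsUnit.of_mul_eq_one _ hsum.one_sub_mul_tsum_pow

theorem le_jacobson_bot [IsLinearTopology A A] [T2Space A] [CompleteSpace A] (I : Ideal A)
    (hI : ∀ f ∈ I, IsTopologicallyNilpotent f) : I ≤ Ideal.jacobson (⊥ : Ideal A) := by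
  intro x hx
  rw [Ideal.mem_jacobson_bot]
  intro y
  have h : -(x * y) ∈ I := I.neg_mem (I.mul_mem_right y hx)
  have := isUnit_one_sub (hI _ h)
  simpa [sub_neg_eq_add, add_comm] using this

omit [IsUniformAddGroup A] [IsTopologicalRing A] in
theorem tendsto_of_mem_span_pow [IsLinearTopology A A] {c : A} (hc : IsTopologicallyNilpotent c)
    (g : ℕ → A) (hg : ∀ m, g m ∈ Ideal.span {c ^ (m + 1)}) : Tendsto g atTop (𝓝 0) := by
  simp only [atTop_basis.tendsto_iff IsLinearTopology.hasBasis_ideal, true_and]
  intro J hJ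
  obtain ⟨n, hn⟩ := hc.exists_pow_mem_of_mem_nhds hJ
  refine ⟨n, fun m hm => ?_⟩
  have h1 : c ^ (m + 1) ∈ J := by
    obtain ⟨d, rfl⟩ := Nat.exists_eq_add_of_le hm
    rw [add_assoc, pow_add]
    exact J.mul_mem_right _ hn
  have h2 : Ideal.span {c ^ (m + 1)} ≤ J := by
    rw [Ideal.span_singleton_le_iff_mem]; exact h1
  exact h2 (hg m)

end Aux

/-- Let A be a weakly admissible topological ring (linearly topologized, Hausdorff and complete, having
a weak ideal of definition) and let I be a weak ideal of definition of A, that is, an open ideal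
consisting of topologically nilpotent elements. Then (A, I) is a henselian pair. -/
theorem result
    (A : Type u) [CommRing A] [UniformSpace A] [IsUniformAddGroup A] [IsTopologicalRing A]
    (hA : LinTop.IsWeaklyAdmissible A) (I : Ideal A) (hI : LinTop.IsWeakIdealOfDefinition A I) :
    HenselianRing A I := by
  obtain ⟨⟨hlin, -⟩, hT2, hcomp⟩ := hA
  have hjac : I ≤ Ideal.jacobson (⊥ : Ideal A) := le_jacobson_bot I hI.2
  have hIclosed : IsClosed (I : Set A) := Groth.Agent.Lib.TautBasic.isClosed_of_isOpen hI.1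
  refine ⟨hjac, ?_⟩
  intro f _ a₀ h₁ h₂
  have hu : IsUnit (f.derivative.eval a₀) :=
    Groth.Agent.Lib.HenselRadical.isUnit_of_isUnit_mk hjac h₂
  set c : A := f.eval a₀ with hc
  have hctn : IsTopologicallyNilpotent c := hI.2 c h₁
  have hspan : Ideal.span {c} ≤ I := by
    rw [Ideal.span_singleton_le_iff_mem]; exact h₁
  have hex := Groth.Agent.Lib.HenselRadical.newton_iterate hjac f a₀ hu h₁
  choose b hb1 hb2 using hex
  -- consecutive differences
  have hdiff : ∀ m, b (m + 1) - b m ∈ Ideal.span {c ^ (m + 1)} := by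
    intro m
    set h : A := b (m + 1) - b m with hh
    have hhI : h ∈ I := by
      have : h = (b (m + 1) - a₀) - (b m - a₀) := by rw [hh]; ring
      rw [this]
      exact I.sub_mem (hspan (hb1 _)) (hspan (hb1 _))
    obtain ⟨k, hk⟩ := f.binomExpansion (b m) h
    have hbm : b m + h = b (m + 1) := by rw [hh]; ring
    rw [hbm] at hk
    have hunit : IsUnit (f.derivative.eval (b m) + k * h) := by
      apply Groth.Agent.Lib.HenselRadical.isUnit_of_sub_mem hjac hu
      have h3 : f.derivative.eval (b m) - f.derivative.eval a₀ ∈ I :=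
        Groth.Agent.Lib.HenselRadical.eval_sub_eval_mem f.derivative (hspan (hb1 m))
      have : f.derivative.eval (b m) + k * h - f.derivative.eval a₀ =
          (f.derivative.eval (b m) - f.derivative.eval a₀) + k * h := by ring
      rw [this]
      exact I.add_mem h3 (I.mul_mem_left k hhI)
    obtain ⟨u, hu'⟩ := hunit
    have h4 : h = ↑u⁻¹ * (f.eval (b (m + 1)) - f.eval (b m)) := by
      have h5 : f.eval (b (m + 1)) - f.eval (b m) = ↑u * h := by
        rw [hk, hu']; ring
      rw [h5, ← mul_assoc, Units.inv_mul, one_mul]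
    rw [h4]
    refine Ideal.mul_mem_left _ _ (Ideal.sub_mem _ ?_ (hb2 m))
    have h6 : Ideal.span {c ^ (m + 1 + 1)} ≤ Ideal.span {c ^ (m + 1)} := by
      rw [Ideal.span_singleton_le_iff_mem, pow_succ c (m + 1)]
      exact (Ideal.span {c ^ (m + 1)}).mul_mem_right c (Ideal.subset_span (Set.mem_singleton _))
    exact h6 (hb2 (m + 1))
  have := Groth.Agent.Lib.AdmissibleUnits.nonarchimedeanAddGroup A
  have hcauchy : CauchySeq b :=
    NonarchimedeanAddGroup.cauchySeq_of_tendsto_sub_nhds_zero
      (tendsto_of_mem_span_pow hctn _ hdiff)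
  obtain ⟨a, ha⟩ := cauchySeq_tendsto_of_complete hcauchy
  refine ⟨a, ?_, ?_⟩
  · have h1 : Tendsto (fun m => f.eval (b m)) atTop (𝓝 (f.eval a)) :=
      (f.continuous.tendsto a).comp ha
    have h2 : Tendsto (fun m => f.eval (b m)) atTop (𝓝 0) :=
      tendsto_of_mem_span_pow hctn _ hb2
    exact tendsto_nhds_unique h1 h2
  · have h1 : Tendsto (fun m => b m - a₀) atTop (𝓝 (a - a₀)) := ha.sub_const a₀
    exact hIclosed.mem_of_tendsto h1 (Eventually.of_forall fun m => hspan (hb1 m))

end Groth.Agent.S10148
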