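import Groth.Statements.S1015
import Groth.Agent.Lib.RpushRestrD31

set_option autoImplicit false
universe u
open CategoryTheory CategoryTheory.Limits AlgebraicGeometry
attribute [local instance] HasDerivedCategory.standard
open Perf

namespace Groth.Agent.S1015

/-- Let U ⊆ X be an open subscheme whose inclusion is quasi-compact. Every object F of D(O_U) with
quasi-coherent cohomology sheaves is the restriction of such an object on X: there is a complex G of
O_X-modules with quasi-coherent cohomology sheaves whose termwise restriction to U is isomorphic to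
F in D(O_U). -/
theorem result (X : Scheme.{u}) (U : X.Opens) [QuasiCompact U.ι]
    (F : DCoh.D (U : Scheme.{u})) (hF : DCoh.IsQCohD F) :
    ∃ G : CochainComplex X.Modules ℤ, DCoh.IsQCohD (DCoh.toD X G) ∧
      Nonempty (DerivedCategory.Q.obj ((DCoh.restrictCx U).obj G) ≅ F) := by
  have hKinj := Groth.Agent.Lib.SchKInj66.enoughKInj (U : Scheme.{u})
  haveI := Groth.Agent.RpushLocal31.hasRpush U.ι
  -- a K-injective model of `F`
  obtain ⟨I, s, hI, hs⟩ := hKinj (DerivedCategory.Q.objPreimage F)
  haveI := hI
  haveI : IsIso (DerivedCategory.Q.map s) := by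
    rw [DerivedCategory.isIso_Q_map_iff_quasiIso]; exact hs
  let eF : F ≅ DerivedCategory.Q.obj I :=
    (DerivedCategory.Q.objObjPreimageIso F).symm ≪≫ asIso (DerivedCategory.Q.map s)
  let G : CochainComplex X.Modules ℤ :=
    ((Scheme.Modules.pushforward U.ι).mapHomologicalComplex (ComplexShape.up ℤ)).obj I
  refine ⟨G, ?_, ?_⟩
  · -- `Q G ≅ Rj_* F`
    let e : (DCoh.Rpush U.ι).obj F ≅ DerivedCategory.Q.obj G :=
      (DCoh.Rpush U.ι).mapIso eF ≪≫
        Groth.Agent.Lib.RDFCrit66.RDObjIso hKinj (Scheme.Modules.pushforward U.ι) I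
    have h := Groth.Agent.RpushRestrD31.isQCohD_Rpush U.ι F hF
    intro i
    exact Groth.Agent.Lib.QCohWeakSerre11.QC_of_iso
      ((DerivedCategory.homologyFunctor X.Modules i).mapIso e) (h i)
  · let θ := NatIso.mapHomologicalComplex (Scheme.Modules.restrictFunctorAdjCounitIso U.ι)
      (ComplexShape.up ℤ)
    exact ⟨DerivedCategory.Q.mapIso (θ.app I) ≪≫
      DerivedCategory.Q.mapIso ((Functor.mapHomologicalComplexIdIso _ (ComplexShape.up ℤ)).app I) ≪≫
      eF.symm⟩

end Groth.Agent.S1015
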