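import Groth.Statements.S10151
import Groth.Agent.Lib.TautBasic
-- import your own Groth.Agent.* helpers here

set_option autoImplicit false
universe u v w
open LinTop

namespace Groth.Agent.S10151

/-- Given linearly topologized rings A, B, C and continuous ring maps ψ : B → C and φ : A → B, tautness
of the composite A → C implies that ψ is taut. -/
theorem result
    (A : Type u) [CommRing A] [TopologicalSpace A] [IsTopologicalRing A] [IsLinearTopology A A]
    (B : Type v) [CommRing B] [TopologicalSpace B] [IsTopologicalRing B] [IsLinearTopology B B]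
    (C : Type w) [CommRing C] [TopologicalSpace C] [IsTopologicalRing C] [IsLinearTopology C C]
    (φ : A →+* B) (ψ : B →+* C) (hφ : Continuous φ) (hψ : Continuous ψ)
    (h : LinTop.IsTaut (ψ.comp φ)) : LinTop.IsTaut ψ := by
  obtain ⟨-, h2, -⟩ := h
  refine ⟨hψ, ?_, ?_⟩
  · intro J hJ
    have hI : IsOpen ((J.comap φ : Ideal A) : Set A) :=
      Groth.Agent.Lib.TautBasic.isOpen_comap φ hφ hJ
    have h3 := h2 (J.comap φ) hI
    have hle : (J.comap φ).map (ψ.comp φ) ≤ J.map ψ := by
      rw [← Ideal.map_map]
      exact Ideal.map_mono Ideal.map_comap_le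
    have h4 : IsOpen ((((J.comap φ).map (ψ.comp φ)).closure : Ideal C) : Set C) := h3
    exact Groth.Agent.Lib.TautBasic.isOpen_mono
      (Groth.Agent.Lib.TautBasic.closure_mono' hle) h4
  · intro U hU
    exact Groth.Agent.Lib.TautBasic.exists_isOpen_closure_map_subset ψ hψ hU

end Groth.Agent.S10151
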