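import Groth.Statements.S10154
import Groth.Agent.Lib.TautBasic
-- import your own Groth.Agent.* helpers here

set_option autoImplicit false
universe u v
open LinTop

namespace Groth.Agent.S10154

/-- Let φ : A → B be a taut homomorphism of linearly topologized rings. If A is pre-admissible, then B
is pre-admissible. -/
theorem result
    (A : Type u) [CommRing A] [TopologicalSpace A] [IsTopologicalRing A] [IsLinearTopology A A]
    (B : Type v) [CommRing B] [TopologicalSpace B] [IsTopologicalRing B] [IsLinearTopology B B]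
    (φ : A →+* B) (hφ : LinTop.IsTaut φ) (hA : LinTop.IsPreadmissible A) :
    LinTop.IsPreadmissible B := by
  obtain ⟨-, I, hI1, hI2⟩ := hA
  refine ⟨inferInstance, (I.map φ).closure, hφ.2.1 I hI1, ?_⟩
  intro U hU
  obtain ⟨J, hJ, hJU⟩ := (IsLinearTopology.hasBasis_open_ideal (R := B)).mem_iff.mp hU
  have hJ' : ((J.comap φ : Ideal A) : Set A) ∈ nhds (0 : A) :=
    (Groth.Agent.Lib.TautBasic.isOpen_comap φ hφ.1 hJ).mem_nhds (J.comap φ).zero_mem
  obtain ⟨n, hn0, hn⟩ := hI2 _ hJ'
  refine ⟨n, hn0, subset_trans ?_ hJU⟩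
  have h1 : (I.map φ) ^ n ≤ J := by
    rw [← Ideal.map_pow, Ideal.map_le_iff_le_comap]
    exact hn
  have h2 : ((I.map φ).closure) ^ n ≤ J :=
    (Groth.Agent.Lib.TautBasic.closure_pow_le _ n).trans
      (Groth.Agent.Lib.TautBasic.closure_le_of_le_of_isOpen h1 hJ)
  exact h2

end Groth.Agent.S10154
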