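import Groth.Statements.S10155
import Groth.Agent.Lib.AdmissibleUnits
import Groth.Agent.Lib.TautBasic
import Groth.Agent.S10152
-- import your own Groth.Agent.* helpers here

set_option autoImplicit false
universe u v
open LinTop

namespace Groth.Agent.S10155

open Filter Topology

/-- Dependent choice along `ℕ`. -/
theorem exists_seq_of_step {α : Type*} (P : ℕ → α → Prop) (R : ℕ → α → α → Prop) (a₀ : α)
    (h₀ : P 0 a₀) (step : ∀ j a, P j a → ∃ a', R j a a' ∧ P (j + 1) a') :
    ∃ s : ℕ → α, s 0 = a₀ ∧ (∀ j, P j (s j)) ∧ ∀ j, R j (s j) (s (j + 1)) := by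
  classical
  let F : ∀ j, {a : α // P j a} := fun j => Nat.rec ⟨a₀, h₀⟩
    (fun j p => ⟨Classical.choose (step j p.1 p.2), (Classical.choose_spec (step j p.1 p.2)).2⟩) j
  refine ⟨fun j => (F j).1, rfl, fun j => (F j).2, fun j => ?_⟩
  exact (Classical.choose_spec (step j (F j).1 (F j).2)).1

section Aux

variable {A : Type u} [CommRing A] [UniformSpace A] [IsUniformAddGroup A] [IsTopologicalRing A]
  [IsLinearTopology A A] [T2Space A] [CompleteSpace A]
  {B : Type v} [CommRing B] [UniformSpace B] [IsUniformAddGroup B] [IsTopologicalRing B]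
  [IsLinearTopology B B] [T2Space B]

omit [IsUniformAddGroup A] [IsTopologicalRing A] [IsLinearTopology A A] [T2Space A]
  [CompleteSpace A] [IsUniformAddGroup B] [IsLinearTopology B B] [T2Space B] [UniformSpace A] in
/-- With dense range, the ideal generated by `φ(I)` lies in the closure of `φ(I)`. -/
theorem map_subset_closure_image (φ : A →+* B) (hd : DenseRange φ) (I : Ideal A) :
    ((I.map φ : Ideal B) : Set B) ⊆ closure (φ '' (I : Set A)) := by
  intro y hy
  refine Submodule.span_induction (p := fun y _ => y ∈ closure (φ '' (I : Set A)))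
    ?_ ?_ ?_ ?_ hy
  · intro y hy
    exact subset_closure hy
  · exact subset_closure ⟨0, I.zero_mem, map_zero φ⟩
  · intro y z _ _ hy hz
    refine map_mem_closure₂ (f := fun a b : B => a + b) continuous_add hy hz ?_
    rintro _ ⟨a', ha', rfl⟩ _ ⟨b', hb', rfl⟩
    exact ⟨a' + b', I.add_mem ha' hb', map_add φ _ _⟩
  · intro b y _ hy
    rw [smul_eq_mul]
    refine map_mem_closure₂ (f := fun a b : B => a * b) continuous_mul (hd b) hy ?_
    rintro _ ⟨a', rfl⟩ _ ⟨c', hc', rfl⟩
    exact ⟨a' * c', I.mul_mem_left _ hc', map_mul φ _ _⟩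

omit [IsUniformAddGroup A] [IsTopologicalRing A] [IsLinearTopology A A] [T2Space A]
  [CompleteSpace A] [IsUniformAddGroup B] [IsLinearTopology B B] [T2Space B] [UniformSpace A] in
theorem closure_map_eq_closure_image (φ : A →+* B) (hd : DenseRange φ) (I : Ideal A) :
    closure ((I.map φ : Ideal B) : Set B) = closure (φ '' (I : Set A)) := by
  apply subset_antisymm
  · exact closure_minimal (map_subset_closure_image φ hd I) isClosed_closure
  · apply closure_mono
    rintro _ ⟨a, ha, rfl⟩
    exact Ideal.mem_map_of_mem φ ha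

omit [T2Space A] [IsUniformAddGroup B] [IsLinearTopology B B] in
/-- The key successive approximation step. -/
theorem closure_image_subset (φ : A →+* B) (hφ : LinTop.IsTaut φ) (hd : DenseRange φ)
    (x : ℕ → Ideal A) (hx1 : ∀ n, IsOpen ((x n : Ideal A) : Set A))
    (hx2 : (𝓝 (0 : A)).HasAntitoneBasis (fun n => ((x n : Ideal A) : Set A))) (n : ℕ) :
    closure (φ '' ((x n : Ideal A) : Set A)) ⊆ φ '' ((x n : Ideal A) : Set A) := by
  intro y hy
  have hWopen : ∀ j, IsOpen (closure (φ '' ((x j : Ideal A) : Set A))) := by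
    intro j
    rw [← closure_map_eq_closure_image φ hd]
    exact hφ.2.1 (x j) (hx1 j)
  have hW0 : ∀ j, (0 : B) ∈ closure (φ '' ((x j : Ideal A) : Set A)) := fun j =>
    subset_closure ⟨0, (x j).zero_mem, map_zero φ⟩
  have hanti : ∀ {i j : ℕ}, i ≤ j → x j ≤ x i := fun h => hx2.antitone h
  obtain ⟨s, hs0, hsP, hsR⟩ := exists_seq_of_step
    (fun j (s : A) => y - φ s ∈ closure (φ '' ((x (n + j) : Ideal A) : Set A)))
    (fun j (s s' : A) => s' - s ∈ x (n + j)) 0 (by simpa using hy) (by
      intro j s hs
      have hnhd : (fun w : B => (y - φ s) - w) ⁻¹'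
          closure (φ '' ((x (n + (j + 1)) : Ideal A) : Set A)) ∈ 𝓝 (y - φ s) := by
        have hc : Continuous (fun w : B => (y - φ s) - w) := continuous_const.sub continuous_id
        apply hc.continuousAt
        simp only [sub_self]
        exact (hWopen _).mem_nhds (hW0 _)
      obtain ⟨w, hw1, ⟨a, ha, rfl⟩⟩ := mem_closure_iff_nhds.mp hs _ hnhd
      refine ⟨s + a, by simpa using ha, ?_⟩
      have : y - φ (s + a) = y - φ s - φ a := by rw [map_add]; ring
      rw [this]
      exact hw1)
  have hsmem : ∀ j, s j ∈ x n := by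
    intro j
    induction j with
    | zero => rw [hs0]; exact (x n).zero_mem
    | succ j ih =>
      have : s (j + 1) = s j + (s (j + 1) - s j) := by ring
      rw [this]
      exact (x n).add_mem ih (hanti (Nat.le_add_right n j) (hsR j))
  have := Groth.Agent.Lib.AdmissibleUnits.nonarchimedeanAddGroup A
  have hcauchy : CauchySeq s := by
    apply NonarchimedeanAddGroup.cauchySeq_of_tendsto_sub_nhds_zero
    exact hx2.tendsto (fun j => hanti (Nat.le_add_left j n) (hsR j))
  obtain ⟨a, ha⟩ := cauchySeq_tendsto_of_complete hcauchy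
  have haI : a ∈ x n :=
    (Groth.Agent.Lib.TautBasic.isClosed_of_isOpen (hx1 n)).mem_of_tendsto ha
      (Eventually.of_forall hsmem)
  refine ⟨a, haI, ?_⟩
  have h1 : Tendsto (fun j => y - φ (s j)) atTop (𝓝 (y - φ a)) :=
    ((hφ.1.tendsto a).comp ha).const_sub y
  have h2 : Tendsto (fun j => y - φ (s j)) atTop (𝓝 0) := by
    rw [tendsto_def]
    intro U hU
    obtain ⟨I, hI, hIU⟩ := hφ.2.2 U hU
    obtain ⟨N, -, hN⟩ := hx2.1.mem_iff.mp (hI.mem_nhds I.zero_mem)
    rw [mem_atTop_sets]
    refine ⟨N, fun j hj => ?_⟩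
    apply hIU
    have h3 : closure (φ '' ((x (n + j) : Ideal A) : Set A)) ⊆
        closure ((I.map φ : Ideal B) : Set B) := by
      apply closure_mono
      rintro _ ⟨a, ha, rfl⟩
      exact Ideal.mem_map_of_mem φ (hN (hanti (le_trans hj (Nat.le_add_left j n)) ha))
    exact h3 (hsP j)
  have h3 := tendsto_nhds_unique h1 h2
  exact (sub_eq_zero.mp h3).symm

end Aux

/-- Let φ : A → B be a taut homomorphism of linearly topologized rings with dense image. Assume A is
Hausdorff and complete with a countable fundamental system of open ideals and B is Hausdorff. Then φ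
is surjective and open, so that B is the quotient of A by the closed ideal ker φ with the quotient
topology, and B is complete. -/
theorem result
    (A : Type u) [CommRing A] [UniformSpace A] [IsUniformAddGroup A] [IsTopologicalRing A]
    [IsLinearTopology A A] [T2Space A] [CompleteSpace A] (hA : (nhds (0 : A)).IsCountablyGenerated)
    (B : Type v) [CommRing B] [UniformSpace B] [IsUniformAddGroup B] [IsTopologicalRing B]
    [IsLinearTopology B B] [T2Space B]
    (φ : A →+* B) (hφ : LinTop.IsTaut φ) (hd : DenseRange φ) :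
    Function.Surjective φ ∧ IsOpenQuotientMap φ ∧ CompleteSpace B := by
  have := hA
  obtain ⟨x, hx1, hx2⟩ :=
    (IsLinearTopology.hasBasis_open_ideal (R := A)).exists_antitone_subbasis
  have hanti : ∀ {i j : ℕ}, i ≤ j → x j ≤ x i := fun h => hx2.antitone h
  -- images of the basic open ideals are open
  have himg : ∀ n, IsOpen (φ '' ((x n : Ideal A) : Set A)) := by
    intro n
    have h1 : φ '' ((x n : Ideal A) : Set A) = closure (((x n).map φ : Ideal B) : Set B) := by
      rw [closure_map_eq_closure_image φ hd]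
      exact subset_antisymm subset_closure (closure_image_subset φ hφ hd x hx1 hx2 n)
    rw [h1]
    exact hφ.2.1 (x n) (hx1 n)
  have hopen : IsOpenMap φ := by
    rw [IsTopologicalAddGroup.isOpenMap_iff_nhds_zero]
    intro s hs
    rw [Filter.mem_map] at hs
    obtain ⟨n, -, hn⟩ := hx2.1.mem_iff.mp hs
    refine Filter.mem_of_superset ((himg n).mem_nhds ⟨0, (x n).zero_mem, map_zero φ⟩) ?_
    rintro _ ⟨a, ha, rfl⟩
    exact hn ha
  have hsurj : Function.Surjective φ := by
    have hr : IsOpen ((φ.toAddMonoidHom.range : AddSubgroup B) : Set B) := by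
      have := hopen.isOpen_range
      simpa using this
    have hcl : IsClosed (Set.range φ) := by
      have := AddSubgroup.isClosed_of_isOpen _ hr
      simpa using this
    have h2 : Set.range φ = Set.univ := by
      rw [← hcl.closure_eq]
      exact hd.closure_range
    exact Set.range_eq_univ.mp h2
  refine ⟨hsurj, ⟨hsurj, hφ.1, hopen⟩, ?_⟩
  -- completeness of `B`
  have : (nhds (0 : B)).IsCountablyGenerated := Groth.Agent.S10152.result A B φ hφ hA
  have : (uniformity B).IsCountablyGenerated := IsUniformAddGroup.uniformity_countably_generated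
  refine UniformSpace.complete_of_convergent_controlled_sequences
    (fun N => {p : B × B | p.2 - p.1 ∈ φ '' ((x N : Ideal A) : Set A)}) ?_ ?_
  · intro N
    rw [uniformity_eq_comap_nhds_zero B]
    exact Filter.preimage_mem_comap ((himg N).mem_nhds ⟨0, (x N).zero_mem, map_zero φ⟩)
  · intro u hu
    have hd' : ∀ j, ∃ d ∈ x j, φ d = u (j + 1) - u j := by
      intro j
      obtain ⟨d, hd1, hd2⟩ := hu j j (j + 1) le_rfl (Nat.le_succ j)
      exact ⟨d, hd1, hd2⟩
    choose d hd1 hd2 using hd'
    set t : ℕ → A := fun j => ∑ i ∈ Finset.range j, d i with ht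
    have htφ : ∀ j, φ (t j) = u j - u 0 := by
      intro j
      induction j with
      | zero => simp [ht]
      | succ j ih =>
        have : t (j + 1) = t j + d j := by simp [ht, Finset.sum_range_succ]
        rw [this, map_add, ih, hd2]
        ring
    have := Groth.Agent.Lib.AdmissibleUnits.nonarchimedeanAddGroup A
    have hcs : CauchySeq t := by
      apply NonarchimedeanAddGroup.cauchySeq_of_tendsto_sub_nhds_zero
      have : (fun j => t (j + 1) - t j) = d := by
        funext j
        simp [ht, Finset.sum_range_succ]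
      rw [this]
      exact hx2.tendsto hd1
    obtain ⟨t', ht'⟩ := cauchySeq_tendsto_of_complete hcs
    refine ⟨u 0 + φ t', ?_⟩
    have h4 : Tendsto (fun j => u 0 + φ (t j)) atTop (𝓝 (u 0 + φ t')) :=
      ((hφ.1.tendsto t').comp ht').const_add (u 0)
    refine h4.congr (fun j => ?_)
    rw [htφ]
    ring

end Groth.Agent.S10155
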