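import Groth.Statements.S10156
import Groth.Agent.Lib.TautBasic
-- import your own Groth.Agent.* helpers here

set_option autoImplicit false
universe u v w
open LinTop

namespace Groth.Agent.S10156

/-- Given pre-adic rings A, B, C and continuous ring maps ψ : B → C and φ : A → B, adicness of the
composite A → C implies that ψ is adic. -/
theorem result
    (A : Type u) [CommRing A] [TopologicalSpace A] [IsTopologicalRing A] (hA : LinTop.IsPreadic A)
    (B : Type v) [CommRing B] [TopologicalSpace B] [IsTopologicalRing B] (hB : LinTop.IsPreadic B)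
    (C : Type w) [CommRing C] [TopologicalSpace C] [IsTopologicalRing C] (hC : LinTop.IsPreadic C)
    (φ : A →+* B) (ψ : B →+* C) (hφ : Continuous φ) (hψ : Continuous ψ)
    (h : LinTop.IsAdicHom (ψ.comp φ)) : LinTop.IsAdicHom ψ := by
  obtain ⟨I, hI, hK⟩ := h
  obtain ⟨J₀, hJ₀⟩ := hB
  rw [isAdic_iff] at hJ₀ hK
  have hJ₀open : IsOpen ((J₀ : Ideal B) : Set B) := by simpa using hJ₀.1 1
  -- a power of `I B` lies in `J₀`
  obtain ⟨n, hn0, hn⟩ := hI.2 _
    ((Groth.Agent.Lib.TautBasic.isOpen_comap φ hφ hJ₀open).mem_nhds (J₀.comap φ).zero_mem)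
  have hn' : (I.map φ) ^ n ≤ J₀ := by
    rw [← Ideal.map_pow, Ideal.map_le_iff_le_comap]
    exact hn
  refine ⟨J₀ ⊔ I.map φ, ⟨?_, ?_⟩, ?_⟩
  · exact Groth.Agent.Lib.TautBasic.isOpen_mono le_sup_left hJ₀open
  · intro U hU
    obtain ⟨k, hk⟩ := hJ₀.2 U hU
    refine ⟨k + n * k + 1, Nat.succ_pos _, subset_trans ?_ hk⟩
    have h1 : (J₀ ⊔ I.map φ) ^ (k + n * k + 1) ≤ (J₀ ⊔ I.map φ) ^ (k + n * k) :=
      Ideal.pow_le_pow_right (Nat.le_succ _)
    have h2 : (J₀ ⊔ I.map φ) ^ (k + n * k) ≤ J₀ ^ k ⊔ (I.map φ) ^ (n * k) :=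
      Ideal.sup_pow_add_le_pow_sup_pow
    have h3 : (I.map φ) ^ (n * k) ≤ J₀ ^ k := by
      rw [pow_mul]
      exact Ideal.pow_right_mono hn' k
    exact h1.trans (h2.trans (sup_le le_rfl h3))
  · set K : Ideal C := I.map (ψ.comp φ) with hKdef
    have hKopen : IsOpen ((K : Ideal C) : Set C) := by simpa using hK.1 1
    have hmap : (J₀ ⊔ I.map φ).map ψ = J₀.map ψ ⊔ K := by
      rw [Ideal.map_sup, Ideal.map_map]
    rw [hmap, isAdic_iff]
    refine ⟨?_, ?_⟩
    · intro m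
      exact Groth.Agent.Lib.TautBasic.isOpen_mono (Ideal.pow_right_mono le_sup_right m) (hK.1 m)
    · intro s hs
      obtain ⟨m, hm⟩ := hK.2 s hs
      obtain ⟨k, hk⟩ := hJ₀.2 _
        ((Groth.Agent.Lib.TautBasic.isOpen_comap ψ hψ hKopen).mem_nhds (K.comap ψ).zero_mem)
      have hk' : (J₀.map ψ) ^ k ≤ K := by
        rw [← Ideal.map_pow, Ideal.map_le_iff_le_comap]
        exact hk
      have h1 : (J₀.map ψ ⊔ K) ^ (k + 1) ≤ K := by
        refine Ideal.sup_pow_add_le_pow_sup_pow.trans (sup_le hk' ?_)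
        simp
      refine ⟨(k + 1) * m, subset_trans ?_ hm⟩
      have h2 : (J₀.map ψ ⊔ K) ^ ((k + 1) * m) ≤ K ^ m := by
        rw [pow_mul]
        exact Ideal.pow_right_mono h1 m
      exact h2

end Groth.Agent.S10156
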