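import Groth.Statements.S10157

set_option autoImplicit false
universe u v

namespace Groth.Agent.S10157

theorem result
    (A : Type u) [CommRing A] [TopologicalSpace A] [IsTopologicalRing A] (hA : LinTop.IsPreadic A)
    (B : Type v) [CommRing B] [TopologicalSpace B] [IsTopologicalRing B] (hB : LinTop.IsPreadic B)
    (φ : A →+* B) (hφ : Continuous φ) (h : LinTop.IsAdicHom φ) : LinTop.IsTaut φ := by
  obtain ⟨I, ⟨hIopen, hIdef⟩, hJ⟩ := h
  rw [isAdic_iff] at hJ
  obtain ⟨hJopen, hJbasis⟩ := hJ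
  refine ⟨hφ, ?_, ?_⟩
  · intro K hK
    have hK0 : (K : Set A) ∈ nhds (0 : A) := hK.mem_nhds K.zero_mem
    obtain ⟨n, _, hnK⟩ := hIdef _ hK0
    have hle : (I.map φ) ^ n ≤ K.map φ := by
      rw [← Ideal.map_pow]; exact Ideal.map_mono hnK
    have hle' : ((I.map φ) ^ n).toAddSubgroup ≤ (K.map φ).closure.toAddSubgroup := by
      intro x hx
      have : x ∈ (K.map φ).closure := by
        change x ∈ ((K.map φ).closure : Set B)
        rw [Ideal.coe_closure]
        exact subset_closure (hle hx)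
      exact this
    have := AddSubgroup.isOpen_mono hle' (hJopen n)
    have e : ((K.map φ).closure : Set B) = closure ((K.map φ : Ideal B) : Set B) := Ideal.coe_closure _
    rw [← e]
    exact this
  · intro U hU
    obtain ⟨n, hn⟩ := hJbasis U hU
    refine ⟨I ^ n, ?_, ?_⟩
    · obtain ⟨I₀, hI₀⟩ := hA
      rw [isAdic_iff] at hI₀
      obtain ⟨m, hm⟩ := hI₀.2 I (hIopen.mem_nhds I.zero_mem)
      have hle : I₀ ^ (m * n) ≤ I ^ n := by
        rw [pow_mul]; exact Ideal.pow_right_mono hm n
      have hle' : (I₀ ^ (m * n)).toAddSubgroup ≤ (I ^ n).toAddSubgroup := hle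
      exact AddSubgroup.isOpen_mono hle' (hI₀.1 _)
    · rw [Ideal.map_pow]
      have hcl : IsClosed (((I.map φ) ^ n : Ideal B) : Set B) :=
        AddSubgroup.isClosed_of_isOpen ((I.map φ) ^ n).toAddSubgroup (hJopen n)
      rw [hcl.closure_eq]; exact hn

end Groth.Agent.S10157
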