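import Groth.Statements.S10163
import Mathlib.Topology.Algebra.InfiniteSum.Nonarchimedean
import Mathlib.RingTheory.Finiteness.Ideal

set_option autoImplicit false
universe u

namespace Groth.Agent.S10163

open Topology Filter

/-- Elements of `span (range g) * K` are combinations `∑ g i * c i` with `c i ∈ K`. -/
theorem exists_coeff_of_mem_mul {A : Type u} [CommRing A] {r : ℕ} (g : Fin r → A) (K : Ideal A)
    (s : A) (hs : s ∈ Ideal.span (Set.range g) * K) :
    ∃ c : Fin r → A, (∀ i, c i ∈ K) ∧ s = ∑ i, g i * c i := by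
  refine Submodule.smul_induction_on hs ?_ ?_
  · intro a ha b hb
    obtain ⟨a', rfl⟩ := (Ideal.mem_span_range_iff_exists_fun).1 ha
    refine ⟨fun i => a' i * b, fun i => K.mul_mem_left _ hb, ?_⟩
    rw [smul_eq_mul, Finset.sum_mul]
    exact Finset.sum_congr rfl fun i _ => by ring
  · rintro x y ⟨c, hc, rfl⟩ ⟨c', hc', rfl⟩
    refine ⟨fun i => c i + c' i, fun i => K.add_mem (hc i) (hc' i), ?_⟩
    rw [← Finset.sum_add_distrib]
    exact Finset.sum_congr rfl fun i _ => by ring

variable {A : Type u} [CommRing A] [UniformSpace A] [IsUniformAddGroup A] [IsTopologicalRing A]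
  [IsLinearTopology A A] [T2Space A] [CompleteSpace A]

theorem closure_pow_subset (I : Ideal A) (hfg : I.FG)
    (hopen : ∀ n : ℕ, IsOpen (closure ((I ^ n : Ideal A) : Set A)))
    (hbasis : ∀ U ∈ nhds (0 : A), ∃ n : ℕ, closure ((I ^ n : Ideal A) : Set A) ⊆ U) (n : ℕ) :
    closure ((I ^ n : Ideal A) : Set A) ⊆ ((I ^ n : Ideal A) : Set A) := by
  classical
  have : NonarchimedeanAddGroup A := ⟨fun U hU => by
    obtain ⟨L, hL, hLU⟩ := (IsLinearTopology.hasBasis_open_ideal (R := A)).mem_iff.1 hU
    exact ⟨⟨L.toAddSubgroup, hL⟩, hLU⟩⟩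
  obtain ⟨r, g, hg⟩ := Submodule.fg_iff_exists_fin_generating_family.1 (hfg.pow (n := n))
  have hgmem : ∀ i, g i ∈ I ^ n := fun i => hg ▸ Ideal.subset_span (Set.mem_range_self i)
  -- notation: J k = closure (I^k)
  have hJanti : ∀ {k m : ℕ}, k ≤ m →
      closure ((I ^ m : Ideal A) : Set A) ⊆ closure ((I ^ k : Ideal A) : Set A) :=
    fun h => closure_mono (Ideal.pow_le_pow_right h)
  have hJsub : ∀ k : ℕ, ∀ a b : A, a ∈ closure ((I ^ k : Ideal A) : Set A) →
      b ∈ closure ((I ^ k : Ideal A) : Set A) → a - b ∈ closure ((I ^ k : Ideal A) : Set A) := by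
    intro k a b ha hb
    rw [← Ideal.coe_closure] at ha hb ⊢
    exact (I ^ k).closure.sub_mem ha hb
  -- decomposition step
  have hstep : ∀ k : ℕ, ∀ x ∈ closure ((I ^ (n + k) : Ideal A) : Set A),
      ∃ c : Fin r → A, (∀ i, c i ∈ I ^ k) ∧
        x - ∑ i, g i * c i ∈ closure ((I ^ (n + k + 1) : Ideal A) : Set A) := by
    intro k x hx
    have hnhds : {y : A | x - y ∈ closure ((I ^ (n + k + 1) : Ideal A) : Set A)} ∈ 𝓝 x := by
      have hc : Continuous fun y : A => x - y := continuous_const.sub continuous_id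
      have : (fun y : A => x - y) ⁻¹' closure ((I ^ (n + k + 1) : Ideal A) : Set A) ∈ 𝓝 x := by
        apply hc.continuousAt
        change closure ((I ^ (n + k + 1) : Ideal A) : Set A) ∈ 𝓝 (x - x)
        rw [sub_self]
        exact (hopen (n + k + 1)).mem_nhds (subset_closure (Ideal.zero_mem _))
      exact this
    obtain ⟨s, hs1, hs2⟩ := mem_closure_iff_nhds.1 hx _ hnhds
    have hs2' : s ∈ Ideal.span (Set.range g) * I ^ k := by
      have hg' : Ideal.span (Set.range g) = I ^ n := hg
      rw [hg', ← pow_add]; exact hs2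
    obtain ⟨c, hc, rfl⟩ := exists_coeff_of_mem_mul g (I ^ k) s hs2'
    exact ⟨c, hc, hs1⟩
  intro x hx
  -- the recursive construction
  let stepc : ℕ → A → (Fin r → A) := fun k y =>
    if h : ∃ c : Fin r → A, (∀ i, c i ∈ I ^ k) ∧
        y - ∑ i, g i * c i ∈ closure ((I ^ (n + k + 1) : Ideal A) : Set A)
    then Classical.choose h else 0
  let X : ℕ → A := fun k => Nat.rec x (fun k xk => xk - ∑ i, g i * stepc k xk i) k
  have hX0 : X 0 = x := rfl
  have hXs : ∀ k, X (k + 1) = X k - ∑ i, g i * stepc k (X k) i := fun k => rfl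
  have hXmem : ∀ k, X k ∈ closure ((I ^ (n + k) : Ideal A) : Set A) := by
    intro k
    induction k with
    | zero => exact hx
    | succ k ih =>
      have hex := hstep k (X k) ih
      rw [hXs]
      have : stepc k (X k) = Classical.choose hex := dif_pos hex
      rw [this]
      exact (Classical.choose_spec hex).2
  have hCmem : ∀ k i, stepc k (X k) i ∈ I ^ k := by
    intro k i
    have hex := hstep k (X k) (hXmem k)
    have : stepc k (X k) = Classical.choose hex := dif_pos hex
    rw [this]
    exact (Classical.choose_spec hex).1 i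
  -- partial sums
  let S : ℕ → Fin r → A := fun K i => ∑ k ∈ Finset.range K, stepc k (X k) i
  have hident : ∀ K, x = ∑ i, g i * S K i + X K := by
    intro K
    induction K with
    | zero => simp [S, hX0]
    | succ K ih =>
      have hS : ∀ i, S (K + 1) i = S K i + stepc K (X K) i := fun i => Finset.sum_range_succ _ K
      rw [hXs K]
      simp only [hS, mul_add, Finset.sum_add_distrib]
      rw [ih]
      ring
  -- tends to zero helper
  have htend : ∀ f : ℕ → A, (∀ k, f k ∈ closure ((I ^ k : Ideal A) : Set A)) →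
      Tendsto f atTop (𝓝 0) := by
    intro f hf
    rw [tendsto_atTop']
    intro U hU
    obtain ⟨m, hm⟩ := hbasis U hU
    exact ⟨m, fun k hk => hm (hJanti hk (hf k))⟩
  have hXtend : Tendsto X atTop (𝓝 0) :=
    htend X fun k => hJanti (Nat.le_add_left k n) (hXmem k)
  have hCtend : ∀ i, Tendsto (fun k => stepc k (X k) i) atTop (𝓝 0) :=
    fun i => htend _ fun k => subset_closure (hCmem k i)
  have hScauchy : ∀ i, CauchySeq fun K => S K i := by
    intro i
    apply NonarchimedeanAddGroup.cauchySeq_of_tendsto_sub_nhds_zero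
    have : (fun K => S (K + 1) i - S K i) = fun k => stepc k (X k) i := by
      funext K
      change (∑ k ∈ Finset.range (K + 1), stepc k (X k) i) - ∑ k ∈ Finset.range K, stepc k (X k) i = _
      rw [Finset.sum_range_succ, add_sub_cancel_left]
    rw [this]
    exact hCtend i
  choose c hc using fun i => cauchySeq_tendsto_of_complete (hScauchy i)
  have hlim : Tendsto (fun K => ∑ i, g i * S K i + X K) atTop (𝓝 (∑ i, g i * c i + 0)) := by
    apply Tendsto.add _ hXtend
    apply tendsto_finsetSum
    intro i _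
    exact (hc i).const_mul (g i)
  have hconst : Tendsto (fun _ : ℕ => x) atTop (𝓝 x) := tendsto_const_nhds
  have hfun : (fun K => ∑ i, g i * S K i + X K) = fun _ : ℕ => x := by
    funext K; exact (hident K).symm
  rw [hfun] at hlim
  have hx_eq : x = ∑ i, g i * c i + 0 := tendsto_nhds_unique hconst hlim
  rw [add_zero] at hx_eq
  rw [hx_eq]
  exact Submodule.sum_mem _ fun i _ => Ideal.mul_mem_right _ _ (hgmem i)

theorem result
    (A : Type u) [CommRing A] [UniformSpace A] [IsUniformAddGroup A] [IsTopologicalRing A] [IsLinearTopology A A] [T2Space A] [CompleteSpace A]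
    (I : Ideal A) (hfg : I.FG) (hopen : ∀ n : ℕ, IsOpen (closure ((I ^ n : Ideal A) : Set A)))
    (hbasis : ∀ U ∈ nhds (0 : A), ∃ n : ℕ, closure ((I ^ n : Ideal A) : Set A) ⊆ U) :
    IsAdic I := by
  rw [isAdic_iff]
  refine ⟨fun n => ?_, fun s hs => ?_⟩
  · have h : ((I ^ n : Ideal A) : Set A) = closure ((I ^ n : Ideal A) : Set A) :=
      subset_antisymm subset_closure (closure_pow_subset I hfg hopen hbasis n)
    rw [h]
    exact hopen n
  · obtain ⟨n, hn⟩ := hbasis s hs
    exact ⟨n, subset_closure.trans hn⟩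

end Groth.Agent.S10163
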