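import Groth.Statements.S10158
import Groth.Agent.S10163

set_option autoImplicit false
universe u v

namespace Groth.Agent.S10158

open Topology

theorem result
    (A : Type u) [CommRing A] [TopologicalSpace A] [IsTopologicalRing A] (hA : LinTop.IsPreadic A)
    (I : Ideal A) (hI : LinTop.IsIdealOfDefinition A I) (hfg : I.FG)
    (B : Type v) [CommRing B] [UniformSpace B] [IsUniformAddGroup B] [IsTopologicalRing B]
    [IsLinearTopology B B] [T2Space B] [CompleteSpace B]
    (φ : A →+* B) (hφ : LinTop.IsTaut φ) :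
    IsAdic (I.map φ) := by
  obtain ⟨I', hI'⟩ := hA
  have hb := hI'.hasBasis_nhds_zero
  have hIopen : ∀ n : ℕ, IsOpen ((I ^ n : Ideal A) : Set A) := by
    intro n
    obtain ⟨m, _, hm⟩ := hb.mem_iff.1 (hI.1.mem_nhds I.zero_mem)
    have hle : I' ^ (m * n) ≤ I ^ n := by
      rw [pow_mul]
      exact Ideal.pow_right_mono hm n
    apply AddSubgroup.isOpen_of_mem_nhds (I ^ n).toAddSubgroup
    exact Filter.mem_of_superset (hb.mem_of_mem (i := m * n) trivial) hle
  apply Groth.Agent.S10163.result B (I.map φ) (hfg.map φ)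
  · intro n
    rw [← Ideal.map_pow]
    exact hφ.2.1 (I ^ n) (hIopen n)
  · intro U hU
    obtain ⟨L, hL, hLU⟩ := hφ.2.2 U hU
    obtain ⟨n, _, hn⟩ := hI.2 (L : Set A) (hL.mem_nhds L.zero_mem)
    refine ⟨n, subset_trans (closure_mono ?_) hLU⟩
    rw [← Ideal.map_pow]
    exact Ideal.map_mono hn

end Groth.Agent.S10158
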