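import Groth.Statements.S10160

set_option autoImplicit false
universe u

namespace Groth.Agent.S10160

theorem closure_mul_closure_le {A : Type u} [CommRing A] [TopologicalSpace A] [IsTopologicalRing A]
    (J K : Ideal A) : J.closure * K.closure ≤ (J * K).closure := by
  rw [Ideal.mul_le]
  intro a ha b hb
  change a * b ∈ ((J * K).closure : Set A)
  rw [Ideal.coe_closure]
  have ha' : a ∈ closure (J : Set A) := by rw [← Ideal.coe_closure]; exact ha
  have hb' : b ∈ closure (K : Set A) := by rw [← Ideal.coe_closure]; exact hb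
  exact map_mem_closure₂ continuous_mul ha' hb' (fun x hx y hy => Ideal.mul_mem_mul hx hy)

theorem closure_pow_le {A : Type u} [CommRing A] [TopologicalSpace A] [IsTopologicalRing A]
    (I : Ideal A) (k : ℕ) : I.closure ^ k ≤ (I ^ k).closure := by
  induction k with
  | zero =>
    rw [pow_zero, pow_zero]
    intro x _
    change x ∈ ((1 : Ideal A).closure : Set A)
    rw [Ideal.coe_closure]
    exact subset_closure (by rw [Ideal.one_eq_top]; trivial)
  | succ k ih =>
    rw [pow_succ, pow_succ]
    refine le_trans (Ideal.mul_mono_left ih) ?_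
    exact closure_mul_closure_le _ _

theorem result
    (A : Type u) [CommRing A] [UniformSpace A] [IsUniformAddGroup A] [IsTopologicalRing A] (hA : LinTop.IsWeaklyAdic A) :
    LinTop.IsAdmissible A ∧ (nhds (0 : A)).IsCountablyGenerated := by
  obtain ⟨⟨hlin, I, hIopen, hIbasis⟩, hT2, hC⟩ := hA
  refine ⟨⟨⟨hlin, I.closure, ?_, ?_⟩, hT2, hC⟩, ?_⟩
  · have := hIopen 1
    rw [pow_one] at this
    rw [Ideal.coe_closure]; exact this
  · intro U hU
    obtain ⟨n, hn⟩ := hIbasis U hU
    refine ⟨n + 1, Nat.succ_pos n, ?_⟩
    intro x hx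
    have h1 : x ∈ ((I ^ (n + 1)).closure : Set A) := closure_pow_le I (n + 1) hx
    rw [Ideal.coe_closure] at h1
    have h2 : closure ((I ^ (n + 1) : Ideal A) : Set A) ⊆ closure ((I ^ n : Ideal A) : Set A) :=
      closure_mono (Ideal.pow_le_pow_right (Nat.le_succ n))
    exact hn (h2 h1)
  · have hb : (nhds (0 : A)).HasBasis (fun _ : ℕ => True)
        (fun n => closure ((I ^ n : Ideal A) : Set A)) := by
      rw [Filter.hasBasis_iff]
      intro t
      constructor
      · intro ht
        obtain ⟨n, hn⟩ := hIbasis t ht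
        exact ⟨n, trivial, hn⟩
      · rintro ⟨n, _, hn⟩
        have h0 : (0 : A) ∈ closure ((I ^ n : Ideal A) : Set A) := subset_closure (Ideal.zero_mem _)
        exact Filter.mem_of_superset ((hIopen n).mem_nhds h0) hn
    exact hb.isCountablyGenerated

end Groth.Agent.S10160
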