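import Groth.Statements.S10165

set_option autoImplicit false
universe u v

namespace Groth.Agent.S10165

theorem result
    (A : Type u) [CommRing A] [TopologicalSpace A] [IsTopologicalRing A] [IsLinearTopology A A]
    (B : Type v) [CommRing B] [TopologicalSpace B] [IsTopologicalRing B] [IsLinearTopology B B]
    (φ : A →+* B) (hφ : LinTop.IsTaut φ) (hA : LinTop.IsWeaklyPreadic A) :
    LinTop.IsWeaklyPreadic B := by
  obtain ⟨hcont, hopen, hbasis⟩ := hφ
  obtain ⟨_, I, hIopen, hIbasis⟩ := hA
  refine ⟨inferInstance, I.map φ, ?_, ?_⟩
  · intro n
    -- K = closure (I^n) is an open ideal of A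
    have hK : IsOpen (((I ^ n).closure : Ideal A) : Set A) := by
      rw [Ideal.coe_closure]; exact hIopen n
    have h1 := hopen (I ^ n).closure hK
    -- closure (K B) = closure ((I^n) B)
    have hsub : (((I ^ n).closure).map φ : Ideal B) ≤ ((I ^ n).map φ).closure := by
      rw [Ideal.map_le_iff_le_comap]
      intro a ha
      rw [Ideal.mem_comap]
      change φ a ∈ (((I ^ n).map φ).closure : Set B)
      rw [Ideal.coe_closure]
      have ha' : a ∈ closure (((I ^ n : Ideal A)) : Set A) := by
        rw [← Ideal.coe_closure]; exact ha
      have := map_mem_closure hcont ha' (t := (((I ^ n).map φ : Ideal B) : Set B))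
        (fun x hx => Ideal.mem_map_of_mem φ hx)
      exact this
    have heq : closure ((((I ^ n).closure).map φ : Ideal B) : Set B) =
        closure (((I ^ n).map φ : Ideal B) : Set B) := by
      apply subset_antisymm
      · have : ((((I ^ n).closure).map φ : Ideal B) : Set B) ⊆
            closure (((I ^ n).map φ : Ideal B) : Set B) := by
          intro x hx
          have := hsub hx
          rwa [← Ideal.coe_closure]
        exact closure_minimal this isClosed_closure
      · apply closure_mono
        intro x hx
        exact Ideal.map_mono (fun y hy => by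
          change y ∈ ((I ^ n).closure : Set A)
          rw [Ideal.coe_closure]; exact subset_closure hy) hx
    rw [heq, Ideal.map_pow] at h1
    exact h1
  · intro U hU
    obtain ⟨K, hK, hKU⟩ := hbasis U hU
    obtain ⟨n, hn⟩ := hIbasis K (hK.mem_nhds K.zero_mem)
    refine ⟨n, subset_trans (closure_mono ?_) hKU⟩
    rw [← Ideal.map_pow]
    intro x hx
    exact Ideal.map_mono (fun y hy => hn (subset_closure hy)) hx

end Groth.Agent.S10165
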