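import Groth.Statements.S10159
import Groth.Agent.S10160
import Groth.Agent.S10165

set_option autoImplicit false
universe u

namespace Groth.Agent.S10159

open LinTop Topology

section Lemmas

variable {A : Type u} [CommRing A] [TopologicalSpace A] [IsTopologicalRing A]

theorem isOpen_closure_of_le {K L : Ideal A} (hKL : K ≤ L) (hK : IsOpen (closure (K : Set A))) :
    IsOpen (closure (L : Set A)) := by
  have h0 : closure (K : Set A) ∈ 𝓝 (0 : A) := hK.mem_nhds (subset_closure K.zero_mem)
  have h1 : closure (L : Set A) ∈ 𝓝 (0 : A) := Filter.mem_of_superset h0 (closure_mono hKL)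
  have h3 : ((L.closure.toAddSubgroup : Set A)) = closure (L : Set A) := Ideal.coe_closure L
  have h2 := AddSubgroup.isOpen_of_mem_nhds (L.closure.toAddSubgroup) (by rw [h3]; exact h1)
  rwa [h3] at h2

theorem closure_subset_of_isOpen {K L : Ideal A} (hKL : K ≤ L) (hL : IsOpen (L : Set A)) :
    closure (K : Set A) ⊆ L := by
  have : IsClosed (L : Set A) := AddSubgroup.isClosed_of_isOpen L.toAddSubgroup hL
  exact closure_minimal hKL this

end Lemmas

/-- A copy of the ring `A` carrying the `I`-adic topology. -/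
def Copy (A : Type u) [CommRing A] (_I : Ideal A) : Type u := A

instance (A : Type u) [CommRing A] (I : Ideal A) : CommRing (Copy A I) := inferInstanceAs (CommRing A)

instance (A : Type u) [CommRing A] (I : Ideal A) : WithIdeal (Copy A I) := ⟨I⟩

/-- the identity map from the copy -/
def copyHom (A : Type u) [CommRing A] (I : Ideal A) : Copy A I →+* A := RingHom.id A

theorem result
    (A : Type u) [CommRing A] [TopologicalSpace A] [IsTopologicalRing A] [IsLinearTopology A A] :
    List.TFAE [LinTop.IsWeaklyPreadic A,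
      ∃ (A' : Type u) (_ : CommRing A') (_ : TopologicalSpace A') (_ : IsTopologicalRing A')
        (φ : A' →+* A), LinTop.IsPreadic A' ∧ LinTop.IsTaut φ,
      LinTop.IsPreadmissible A ∧ ∃ I : Ideal A, LinTop.IsIdealOfDefinition A I ∧
        ∀ n : ℕ, 0 < n → IsOpen (closure ((I ^ n : Ideal A) : Set A)),
      LinTop.IsPreadmissible A ∧ ∀ I : Ideal A, LinTop.IsIdealOfDefinition A I →
        ∀ n : ℕ, 0 < n → IsOpen (closure ((I ^ n : Ideal A) : Set A))] := by
  tfae_have 1 → 3 := by
    rintro ⟨hlin, I, hopen, hbasis⟩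
    have hJdef : IsIdealOfDefinition A I.closure := by
      refine ⟨?_, fun U hU => ?_⟩
      · have := hopen 1
        rw [pow_one] at this
        rw [Ideal.coe_closure]; exact this
      · obtain ⟨n, hn⟩ := hbasis U hU
        refine ⟨n + 1, Nat.succ_pos n, ?_⟩
        intro x hx
        have h1 : x ∈ ((I ^ (n + 1)).closure : Set A) := Groth.Agent.S10160.closure_pow_le I (n + 1) hx
        rw [Ideal.coe_closure] at h1
        have h2 : closure ((I ^ (n + 1) : Ideal A) : Set A) ⊆ closure ((I ^ n : Ideal A) : Set A) :=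
          closure_mono (Ideal.pow_le_pow_right (Nat.le_succ n))
        exact hn (h2 h1)
    refine ⟨⟨hlin, I.closure, hJdef⟩, I.closure, hJdef, fun n _ => ?_⟩
    have hle : I ≤ I.closure := fun x hx => by
      change x ∈ (I.closure : Set A)
      rw [Ideal.coe_closure]; exact subset_closure hx
    exact isOpen_closure_of_le (Ideal.pow_right_mono hle n) (hopen n)
  tfae_have 3 → 4 := by
    rintro ⟨hpre, I, hI, hIopen⟩
    refine ⟨hpre, fun I' hI' n hn => ?_⟩
    obtain ⟨m, hm, hmI'⟩ := hI.2 (I' : Set A) (hI'.1.mem_nhds I'.zero_mem)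
    have hle : I ^ (m * n) ≤ I' ^ n := by
      rw [pow_mul]
      exact Ideal.pow_right_mono hmI' n
    exact isOpen_closure_of_le hle (hIopen (m * n) (Nat.mul_pos hm hn))
  tfae_have 4 → 3 := by
    rintro ⟨hpre, h4⟩
    obtain ⟨I, hI⟩ := hpre.2
    exact ⟨hpre, I, hI, h4 I hI⟩
  tfae_have 3 → 1 := by
    rintro ⟨⟨hlin, _⟩, I, hI, hIopen⟩
    refine ⟨hlin, I, fun n => ?_, fun U hU => ?_⟩
    · rcases Nat.eq_zero_or_pos n with rfl | hn
      · rw [pow_zero, Ideal.one_eq_top]
        simp
      · exact hIopen n hn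
    · obtain ⟨L, hL, hLU⟩ := (IsLinearTopology.hasBasis_open_ideal (R := A)).mem_iff.1 hU
      obtain ⟨n, _, hnL⟩ := hI.2 (L : Set A) (hL.mem_nhds L.zero_mem)
      exact ⟨n, (closure_subset_of_isOpen hnL hL).trans hLU⟩
  tfae_have 3 → 2 := by
    rintro ⟨hpre, I, hI, hIopen⟩
    refine ⟨Copy A I, inferInstance, inferInstance, inferInstance, copyHom A I, ⟨I, rfl⟩, ?_, ?_, ?_⟩
    · apply continuous_of_continuousAt_zero (copyHom A I)
      change Filter.Tendsto (copyHom A I) (𝓝 (0 : Copy A I)) (𝓝 (copyHom A I 0))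
      rw [map_zero]
      have hb : (𝓝 (0 : Copy A I)).HasBasis (fun _ : ℕ => True)
          (fun n => ((I ^ n : Ideal A) : Set A)) := Ideal.hasBasis_nhds_zero_adic I
      rw [hb.tendsto_left_iff]
      intro U hU
      obtain ⟨n, _, hn⟩ := hI.2 U hU
      exact ⟨n, trivial, fun x hx => hn hx⟩
    · intro K hK
      have hK0 : (K : Set (Copy A I)) ∈ 𝓝 (0 : Copy A I) := hK.mem_nhds K.zero_mem
      have hb : (𝓝 (0 : Copy A I)).HasBasis (fun _ : ℕ => True)
          (fun n => ((I ^ n : Ideal A) : Set A)) := Ideal.hasBasis_nhds_zero_adic I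
      obtain ⟨n, _, hn⟩ := hb.mem_iff.1 hK0
      have hle : I ^ (n + 1) ≤ K.map (copyHom A I) := by
        intro x hx
        have hx' : x ∈ I ^ n := Ideal.pow_le_pow_right (Nat.le_succ n) hx
        exact Ideal.mem_map_of_mem (copyHom A I) (hn hx')
      exact isOpen_closure_of_le hle (hIopen (n + 1) (Nat.succ_pos n))
    · intro U hU
      obtain ⟨L, hL, hLU⟩ := (IsLinearTopology.hasBasis_open_ideal (R := A)).mem_iff.1 hU
      obtain ⟨n, _, hnL⟩ := hI.2 (L : Set A) (hL.mem_nhds L.zero_mem)
      let K : Ideal (Copy A I) := (I ^ n : Ideal A)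
      have hKopen : IsOpen (K : Set (Copy A I)) := by
        apply AddSubgroup.isOpen_of_mem_nhds K.toAddSubgroup
        have hb : (𝓝 (0 : Copy A I)).HasBasis (fun _ : ℕ => True)
            (fun n => ((I ^ n : Ideal A) : Set A)) := Ideal.hasBasis_nhds_zero_adic I
        exact hb.mem_of_mem (i := n) trivial
      refine ⟨K, hKopen, ?_⟩
      have hle : K.map (copyHom A I) ≤ L := by
        rw [Ideal.map_le_iff_le_comap]
        intro x hx
        exact hnL hx
      exact (closure_subset_of_isOpen hle hL).trans hLU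
  tfae_have 2 → 1 := by
    rintro ⟨A', instR, instT, instTR, φ, ⟨J, hJ⟩, hφ⟩
    have hb := hJ.hasBasis_nhds_zero
    have hlin : IsLinearTopology A' A' := IsLinearTopology.mk_of_hasBasis _ hb
    have hopenJ : ∀ n : ℕ, IsOpen ((J ^ n : Ideal A') : Set A') := by
      intro n
      apply AddSubgroup.isOpen_of_mem_nhds (J ^ n).toAddSubgroup
      exact hb.mem_of_mem (i := n) trivial
    have hclosed : ∀ n : ℕ, closure ((J ^ n : Ideal A') : Set A') = ((J ^ n : Ideal A') : Set A') := by
      intro n
      exact (AddSubgroup.isClosed_of_isOpen (J ^ n).toAddSubgroup (hopenJ n)).closure_eq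
    have hA' : IsWeaklyPreadic A' := by
      refine ⟨hlin, J, fun n => ?_, fun U hU => ?_⟩
      · rw [hclosed n]
        exact hopenJ n
      · obtain ⟨n, _, hn⟩ := hb.mem_iff.1 hU
        exact ⟨n, by rw [hclosed n]; exact hn⟩
    exact Groth.Agent.S10165.result A' A φ hφ hA'
  tfae_finish

end Groth.Agent.S10159
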