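import Groth.Statements.S10162

set_option autoImplicit false
universe u

namespace Groth.Agent.S10162

open UniformSpace Topology

theorem result
    (A : Type u) [CommRing A] [UniformSpace A] [IsUniformAddGroup A] [IsTopologicalRing A] [IsLinearTopology A A] :
    LinTop.IsTaut (UniformSpace.Completion.coeRingHom : A →+* UniformSpace.Completion A) := by
  set ι : A →+* Completion A := Completion.coeRingHom with hι
  have hιc : Continuous ι := Completion.continuous_coe A
  have hdi : IsDenseInducing (ι : A → Completion A) := Completion.isDenseInducing_coe
  -- closure of the image of an ideal is stable under multiplication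
  have hmul : ∀ (I : Ideal A) (b x : Completion A), x ∈ closure (ι '' (I : Set A)) →
      b * x ∈ closure (ι '' (I : Set A)) := by
    intro I b x hx
    have h1 : ∀ a : A, ι a * x ∈ closure (ι '' (I : Set A)) := by
      intro a
      have hc : Continuous fun y : Completion A => ι a * y := continuous_const.mul continuous_id
      refine map_mem_closure hc hx ?_
      rintro _ ⟨i, hi, rfl⟩
      exact ⟨a * i, I.mul_mem_left a hi, map_mul ι a i⟩
    have hclosed : IsClosed {b : Completion A | b * x ∈ closure (ι '' (I : Set A))} :=
      isClosed_closure.preimage (continuous_id.mul continuous_const)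
    have hdense : Dense (Set.range (ι : A → Completion A)) := hdi.dense
    have : closure (Set.range (ι : A → Completion A)) ⊆
        {b : Completion A | b * x ∈ closure (ι '' (I : Set A))} :=
      hclosed.closure_subset_iff.2 (by rintro _ ⟨a, rfl⟩; exact h1 a)
    exact this (hdense b)
  -- the closure of the image of an ideal, as an ideal
  have hclos : ∀ I : Ideal A, closure ((I.map ι : Ideal (Completion A)) : Set (Completion A)) =
      closure (ι '' (I : Set A)) := by
    intro I
    apply subset_antisymm
    · let J : Ideal (Completion A) :=
        { carrier := closure (ι '' (I : Set A))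
          add_mem' := by
            intro x y hx hy
            exact (I.toAddSubgroup.map ι.toAddMonoidHom).topologicalClosure.add_mem hx hy
          zero_mem' := subset_closure ⟨0, I.zero_mem, map_zero _⟩
          smul_mem' := fun b x hx => hmul I b x hx }
      have hJ : I.map ι ≤ J := by
        rw [Ideal.map_le_iff_le_comap]
        intro a ha
        exact subset_closure ⟨a, ha, rfl⟩
      exact closure_minimal hJ isClosed_closure
    · apply closure_mono
      rintro _ ⟨a, ha, rfl⟩
      exact Ideal.mem_map_of_mem ι ha
  refine ⟨hιc, ?_, ?_⟩
  · intro I hI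
    have hnhds : closure (ι '' (I : Set A)) ∈ 𝓝 (ι 0) :=
      hdi.closure_image_mem_nhds (hI.mem_nhds I.zero_mem)
    rw [map_zero] at hnhds
    have h2 : ((I.map ι).closure : Set (Completion A)) ∈ 𝓝 (0 : Completion A) := by
      rw [Ideal.coe_closure, hclos I]
      exact hnhds
    have h3 := AddSubgroup.isOpen_of_mem_nhds ((I.map ι).closure.toAddSubgroup) h2
    have h4 : ((I.map ι).closure.toAddSubgroup : Set (Completion A)) =
        closure ((I.map ι : Ideal (Completion A)) : Set (Completion A)) := by
      rw [← Ideal.coe_closure]; rfl
    rwa [h4] at h3
  · intro U hU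
    obtain ⟨V, hV, hVclosed, hVU⟩ := exists_mem_nhds_isClosed_subset hU
    have hpre : (ι : A → Completion A) ⁻¹' V ∈ 𝓝 (0 : A) := by
      apply hιc.continuousAt
      rwa [map_zero]
    obtain ⟨I, hI, hIV⟩ := (IsLinearTopology.hasBasis_open_ideal (R := A)).mem_iff.1 hpre
    refine ⟨I, hI, ?_⟩
    rw [hclos I]
    apply (closure_minimal ?_ hVclosed).trans hVU
    rintro _ ⟨a, ha, rfl⟩
    exact hIV ha

end Groth.Agent.S10162
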