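import Groth.Statements.S10161
import Groth.Agent.S10162
import Groth.Agent.S10165

set_option autoImplicit false
universe u

namespace Groth.Agent.S10161

open UniformSpace Topology

/-- The completion of a linearly topologized ring is linearly topologized. -/
theorem isLinearTopology_completion
    (A : Type u) [CommRing A] [UniformSpace A] [IsUniformAddGroup A] [IsTopologicalRing A]
    [IsLinearTopology A A] : IsLinearTopology (Completion A) (Completion A) := by
  obtain ⟨_, hopen, hbasis⟩ := Groth.Agent.S10162.result A
  rw [isLinearTopology_iff_hasBasis_ideal]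
  refine ⟨fun U => ⟨fun hU => ?_, fun ⟨J, hJ, hJU⟩ => Filter.mem_of_superset hJ hJU⟩⟩
  obtain ⟨I, hI, hIU⟩ := hbasis U hU
  refine ⟨(I.map (Completion.coeRingHom : A →+* Completion A)).closure, ?_, ?_⟩
  · rw [Ideal.coe_closure]
    exact (hopen I hI).mem_nhds (subset_closure (Ideal.zero_mem _))
  · rw [Ideal.coe_closure]
    exact hIU

theorem result
    (A : Type u) [CommRing A] [UniformSpace A] [IsUniformAddGroup A] [IsTopologicalRing A] [IsLinearTopology A A] (hA : LinTop.IsWeaklyPreadic A) :
    LinTop.IsWeaklyAdic (UniformSpace.Completion A) := by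
  have hlin := isLinearTopology_completion A
  refine ⟨?_, inferInstance, inferInstance⟩
  exact Groth.Agent.S10165.result A (Completion A) Completion.coeRingHom
    (Groth.Agent.S10162.result A) hA

end Groth.Agent.S10161
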