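import Groth.Statements.S10164
import Groth.Agent.S10159
import Groth.Agent.S10160
import Groth.Agent.S10163

set_option autoImplicit false
universe u

namespace Groth.Agent.S10164

open Topology LinTop Groth.Agent.S10160

theorem result
    (A : Type u) [CommRing A] [UniformSpace A] [IsUniformAddGroup A] [IsTopologicalRing A] (hA : LinTop.IsWeaklyAdic A)
    (I : Ideal A) (hI : LinTop.IsIdealOfDefinition A I)
    (hfg : (I.map (Ideal.Quotient.mk ((I ^ 2).closure))).FG) :
    LinTop.IsAdicRing A ∧ ∃ J : Ideal A, LinTop.IsIdealOfDefinition A J ∧ J.FG := by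
  classical
  obtain ⟨hwp, hT2, hC⟩ := hA
  have hlin : IsLinearTopology A A := hwp.1
  -- closures of powers of I are open
  have h14 : LinTop.IsWeaklyPreadic A → (LinTop.IsPreadmissible A ∧ ∀ I : Ideal A,
      LinTop.IsIdealOfDefinition A I →
        ∀ n : ℕ, 0 < n → IsOpen (closure ((I ^ n : Ideal A) : Set A))) :=
    ((Groth.Agent.S10159.result A).out 0 3).1
  have hIn : ∀ n : ℕ, 0 < n → IsOpen (closure ((I ^ n : Ideal A) : Set A)) :=
    (h14 hwp).2 I hI
  have hInopen' : ∀ n : ℕ, 0 < n → IsOpen (((I ^ n).closure : Ideal A) : Set A) := by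
    intro n hn; rw [Ideal.coe_closure]; exact hIn n hn
  have hle_cl : ∀ P : Ideal A, P ≤ P.closure := fun P x hx => by
    change x ∈ (P.closure : Set A)
    rw [Ideal.coe_closure]; exact subset_closure hx
  have hcl_anti : ∀ {k m : ℕ}, k ≤ m → (I ^ m).closure ≤ (I ^ k).closure := by
    intro k m h x hx
    change x ∈ ((I ^ k).closure : Set A)
    have hx' : x ∈ ((I ^ m).closure : Set A) := hx
    rw [Ideal.coe_closure] at hx' ⊢
    exact closure_mono (Ideal.pow_le_pow_right h) hx'
  -- lift generators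
  set π := Ideal.Quotient.mk ((I ^ 2).closure) with hπ
  have hπsurj : Function.Surjective π := Ideal.Quotient.mk_surjective
  obtain ⟨s, hs⟩ := hfg
  have hsmem : ∀ y ∈ s, ∃ x ∈ I, π x = y := by
    intro y hy
    have : y ∈ I.map π := hs ▸ Ideal.subset_span hy
    exact (Ideal.mem_map_iff_of_surjective π hπsurj).1 this
  choose! lift hliftI hliftπ using hsmem
  set I' : Ideal A := Ideal.span ((s.image lift : Finset A) : Set A) with hI'def
  have hI'fg : I'.FG := ⟨s.image lift, rfl⟩
  have hI'le : I' ≤ I := by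
    rw [hI'def, Ideal.span_le]
    intro x hx
    obtain ⟨y, hy, rfl⟩ := Finset.mem_image.1 (Finset.mem_coe.1 hx)
    exact hliftI y hy
  have hmapeq : I.map π ≤ I'.map π := by
    rw [← hs, Ideal.span_le]
    intro y hy
    have : lift y ∈ I' := Ideal.subset_span (Finset.mem_coe.2 (Finset.mem_image_of_mem lift hy))
    have h2 := Ideal.mem_map_of_mem π this
    rwa [hliftπ y hy] at h2
  have hstep0 : I ≤ I' ⊔ (I ^ 2).closure := by
    intro x hx
    have h1 : π x ∈ I'.map π := hmapeq (Ideal.mem_map_of_mem π hx)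
    obtain ⟨y, hy, hyx⟩ := (Ideal.mem_map_iff_of_surjective π hπsurj).1 h1
    have h2 : x - y ∈ (I ^ 2).closure := by
      rw [← Ideal.Quotient.eq_zero_iff_mem, map_sub, hyx, sub_self]
    have : x = y + (x - y) := by ring
    rw [this]
    exact Ideal.add_mem _ (Ideal.mem_sup_left hy) (Ideal.mem_sup_right h2)
  -- (a) I^n ≤ I'^n ⊔ closure (I^(n+1))
  have hpow_cl : ∀ n : ℕ, I' ^ n ≤ (I ^ n).closure :=
    fun n => le_trans (Ideal.pow_right_mono hI'le n) (hle_cl _)
  have ha : ∀ n : ℕ, 0 < n → I ^ n ≤ I' ^ n ⊔ (I ^ (n + 1)).closure := by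
    intro n hn
    induction n, hn using Nat.le_induction with
    | base => simpa using hstep0
    | succ n hn ih =>
      calc I ^ (n + 1) = I ^ n * I := pow_succ I n
        _ ≤ (I' ^ n ⊔ (I ^ (n + 1)).closure) * (I' ⊔ (I ^ 2).closure) := Ideal.mul_mono ih hstep0
        _ ≤ I' ^ (n + 1) ⊔ (I ^ (n + 1 + 1)).closure := by
          rw [Ideal.sup_mul, Ideal.mul_sup, Ideal.mul_sup]
          refine sup_le (sup_le ?_ ?_) (sup_le ?_ ?_)
          · rw [← pow_succ]; exact le_sup_left
          · refine le_trans ?_ le_sup_right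
            refine le_trans (Ideal.mul_mono_left (hpow_cl n)) ?_
            refine le_trans (closure_mul_closure_le _ _) ?_
            rw [← pow_add]
          · refine le_trans ?_ le_sup_right
            refine le_trans (Ideal.mul_mono_right ((pow_one I') ▸ hpow_cl 1)) ?_
            refine le_trans (closure_mul_closure_le _ _) ?_
            rw [← pow_add]
          · refine le_trans ?_ le_sup_right
            refine le_trans (closure_mul_closure_le _ _) ?_
            rw [← pow_add]
            exact hcl_anti (by omega)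
  -- ideals containing an open ideal are open, hence closed
  have hsup_closed : ∀ (P : Ideal A) (n : ℕ), 0 < n →
      IsClosed (((P ⊔ (I ^ n).closure : Ideal A)) : Set A) := by
    intro P n hn
    apply AddSubgroup.isClosed_of_isOpen (P ⊔ (I ^ n).closure).toAddSubgroup
    apply AddSubgroup.isOpen_of_mem_nhds (P ⊔ (I ^ n).closure).toAddSubgroup
    exact Filter.mem_of_superset ((hInopen' n hn).mem_nhds (Ideal.zero_mem _))
      (fun x hx => (le_sup_right : (I ^ n).closure ≤ P ⊔ (I ^ n).closure) hx)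
  -- (b)
  have hb : ∀ n : ℕ, 0 < n → (I ^ n).closure ≤ I' ^ n ⊔ (I ^ (n + 1)).closure := by
    intro n hn x hx
    have hx' : x ∈ closure ((I ^ n : Ideal A) : Set A) := by
      rw [← Ideal.coe_closure]; exact hx
    exact closure_minimal (ha n hn) (hsup_closed _ (n + 1) (Nat.succ_pos n)) hx'
  -- (c)
  have hc : ∀ n : ℕ, 0 < n → ∀ k : ℕ, (I ^ n).closure ≤ I' ^ n ⊔ (I ^ (n + k)).closure := by
    intro n hn k
    induction k with
    | zero => exact le_sup_right
    | succ k ih =>
      refine le_trans ih (sup_le le_sup_left ?_)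
      refine le_trans (hb (n + k) (by omega)) (sup_le ?_ ?_)
      · exact le_trans (Ideal.pow_le_pow_right (Nat.le_add_right n k)) le_sup_left
      · exact le_sup_right
  -- basis property of closures of I^n
  have hbasisI : ∀ L : Ideal A, IsOpen (L : Set A) → ∃ m : ℕ, 0 < m ∧ (I ^ m).closure ≤ L := by
    intro L hL
    obtain ⟨m, hm, hmL⟩ := hI.2 (L : Set A) (hL.mem_nhds L.zero_mem)
    refine ⟨m, hm, fun x hx => ?_⟩
    have hx' : x ∈ closure ((I ^ m : Ideal A) : Set A) := by
      rw [← Ideal.coe_closure]; exact hx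
    exact closure_minimal hmL (AddSubgroup.isClosed_of_isOpen L.toAddSubgroup hL) hx'
  -- (d)
  have hd : ∀ n : ℕ, 0 < n → closure ((I ^ n : Ideal A) : Set A) ⊆ closure ((I' ^ n : Ideal A) : Set A) := by
    intro n hn x hx
    rw [mem_closure_iff_nhds]
    intro t ht
    have ht0 : (fun y : A => x + y) ⁻¹' t ∈ 𝓝 (0 : A) := by
      have hcont : Continuous fun y : A => x + y := continuous_const.add continuous_id
      apply hcont.continuousAt
      change t ∈ 𝓝 (x + 0)
      rwa [add_zero]
    obtain ⟨L, hL, hLt⟩ := (IsLinearTopology.hasBasis_open_ideal (R := A)).mem_iff.1 ht0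
    obtain ⟨m, _, hmL⟩ := hbasisI L hL
    have hx' : x ∈ (I ^ n).closure := by
      change x ∈ ((I ^ n).closure : Set A)
      rw [Ideal.coe_closure]; exact hx
    have := hc n hn m hx'
    obtain ⟨p, hp, q, hq, hpq⟩ := Submodule.mem_sup.1 this
    refine ⟨p, ?_, hp⟩
    have hqL : q ∈ L := hmL (hcl_anti (Nat.le_add_left m n) hq)
    have : p = x + (-q) := by rw [← hpq]; ring
    rw [this]
    exact hLt (L.neg_mem hqL)
  have heq : ∀ n : ℕ, 0 < n → closure ((I' ^ n : Ideal A) : Set A) = closure ((I ^ n : Ideal A) : Set A) :=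
    fun n hn => subset_antisymm (closure_mono (Ideal.pow_right_mono hI'le n)) (hd n hn)
  have hadic : IsAdic I' := by
    apply Groth.Agent.S10163.result A I' hI'fg
    · intro n
      rcases Nat.eq_zero_or_pos n with rfl | hn
      · rw [pow_zero, Ideal.one_eq_top]; simp
      · rw [heq n hn]; exact hIn n hn
    · intro U hU
      obtain ⟨L, hL, hLU⟩ := (IsLinearTopology.hasBasis_open_ideal (R := A)).mem_iff.1 hU
      obtain ⟨m, hm, hmL⟩ := hbasisI L hL
      refine ⟨m, ?_⟩
      rw [heq m hm]
      intro x hx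
      apply hLU
      apply hmL
      change x ∈ ((I ^ m).closure : Set A)
      rw [Ideal.coe_closure]; exact hx
  refine ⟨⟨⟨I', hadic⟩, hT2, hC⟩, I', ⟨?_, ?_⟩, hI'fg⟩
  · have := (isAdic_iff.1 hadic).1 1
    rwa [pow_one] at this
  · intro U hU
    obtain ⟨n, hn⟩ := (isAdic_iff.1 hadic).2 U hU
    exact ⟨n + 1, Nat.succ_pos n, subset_trans (Ideal.pow_le_pow_right (Nat.le_succ n)) hn⟩

end Groth.Agent.S10164
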