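import Groth.Statements.S10166
import Groth.Agent.Lib.LinTop66

set_option autoImplicit false
universe u v

namespace Groth.Agent.S10166

open Groth.Agent.Lib.LinTop66

theorem result
    (A : Type u) [CommRing A] [TopologicalSpace A] [IsTopologicalRing A] [IsLinearTopology A A]
    (B : Type v) [CommRing B] [TopologicalSpace B] [IsTopologicalRing B] [IsLinearTopology B B]
    (φ : A →+* B) (hφ : LinTop.IsTautFFlat φ) (hB : (nhds (0 : B)).IsCountablyGenerated) :
    (nhds (0 : A)).IsCountablyGenerated := by
  obtain ⟨V, hVopen, hV⟩ :=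
    (IsLinearTopology.hasBasis_open_ideal (R := B)).exists_antitone_subbasis
  have hK : ∀ m : ℕ, ∃ K : Ideal A, IsOpen (K : Set A) ∧
      closure ((K.map φ : Ideal B) : Set B) ⊆ (V m : Set B) :=
    fun m => hφ.1.2.2 _ ((hVopen m).mem_nhds (V m).zero_mem)
  choose K hKopen hKV using hK
  have hb : (nhds (0 : A)).HasBasis (fun _ : ℕ => True) (fun m => (K m : Set A)) := by
    rw [Filter.hasBasis_iff]
    intro t
    constructor
    · intro ht
      obtain ⟨K', hK', hK't⟩ := (IsLinearTopology.hasBasis_open_ideal (R := A)).mem_iff.1 ht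
      obtain ⟨m, _, hm⟩ := hV.toHasBasis.mem_iff.1 (closure_map_mem_nhds φ hφ.1 K' hK')
      refine ⟨m, trivial, fun a ha => hK't ?_⟩
      apply mem_of_map_mem_closure φ hφ K' hK'
      apply hm
      apply hKV m
      exact subset_closure (Ideal.mem_map_of_mem φ ha)
    · rintro ⟨m, _, hm⟩
      exact Filter.mem_of_superset ((hKopen m).mem_nhds (K m).zero_mem) hm
  exact hb.isCountablyGenerated

end Groth.Agent.S10166
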