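import Groth.Statements.S10167
import Groth.Agent.Lib.LinTop66

set_option autoImplicit false
universe u v

namespace Groth.Agent.S10167

open Groth.Agent.Lib.LinTop66

theorem result
    (A : Type u) [CommRing A] [TopologicalSpace A] [IsTopologicalRing A] [IsLinearTopology A A]
    (B : Type v) [CommRing B] [TopologicalSpace B] [IsTopologicalRing B] [IsLinearTopology B B]
    (φ : A →+* B) (hφ : LinTop.IsTautFFlat φ) (hB : LinTop.IsWeaklyPreadmissible B) :
    LinTop.IsWeaklyPreadmissible A := by
  obtain ⟨_, J, hJopen, hJnil⟩ := hB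
  obtain ⟨K, hK, hKJ⟩ := hφ.1.2.2 J (hJopen.mem_nhds J.zero_mem)
  refine ⟨inferInstance, K, hK, ?_⟩
  intro f hf
  -- φ f is topologically nilpotent
  have hφf : IsTopologicallyNilpotent (φ f) :=
    hJnil (φ f) (hKJ (subset_closure (Ideal.mem_map_of_mem φ hf)))
  rw [IsTopologicallyNilpotent, (IsLinearTopology.hasBasis_open_ideal (R := A)).tendsto_right_iff]
  intro K' hK'
  have hnhds := closure_map_mem_nhds φ hφ.1 K' hK'
  have hev := hφf hnhds
  rw [Filter.mem_map] at hev
  refine Filter.mem_of_superset hev ?_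
  intro n hn
  have : φ (f ^ n) ∈ closure ((K'.map φ : Ideal B) : Set B) := by
    rw [map_pow]; exact hn
  exact mem_of_map_mem_closure φ hφ K' hK' _ this

end Groth.Agent.S10167
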