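import Groth.Statements.S10168
import Groth.Agent.Lib.LinTop66

set_option autoImplicit false
universe u v

namespace Groth.Agent.S10168

open Groth.Agent.Lib.LinTop66

theorem result
    (A : Type u) [CommRing A] [TopologicalSpace A] [IsTopologicalRing A] [IsLinearTopology A A]
    (B : Type v) [CommRing B] [TopologicalSpace B] [IsTopologicalRing B] [IsLinearTopology B B]
    (φ : A →+* B) (hφ : LinTop.IsTautFFlat φ) (hB : LinTop.IsPreadmissible B) :
    LinTop.IsPreadmissible A := by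
  obtain ⟨_, J, hJopen, hJdef⟩ := hB
  obtain ⟨K, hK, hKJ⟩ := hφ.1.2.2 J (hJopen.mem_nhds J.zero_mem)
  refine ⟨inferInstance, K, hK, ?_⟩
  intro U hU
  obtain ⟨K', hK', hK'U⟩ := (IsLinearTopology.hasBasis_open_ideal (R := A)).mem_iff.1 hU
  obtain ⟨n, hn, hJn⟩ := hJdef _ (closure_map_mem_nhds φ hφ.1 K' hK')
  refine ⟨n, hn, ?_⟩
  intro a ha
  apply hK'U
  apply mem_of_map_mem_closure φ hφ K' hK'
  apply hJn
  have h1 : φ a ∈ (K ^ n).map φ := Ideal.mem_map_of_mem φ ha
  rw [Ideal.map_pow] at h1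
  have h2 : K.map φ ≤ J := fun x hx => hKJ (subset_closure hx)
  exact Ideal.pow_right_mono h2 n h1

end Groth.Agent.S10168
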