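import Groth.Statements.S10169
import Groth.Agent.Lib.LinTop66
import Groth.Agent.S10160

set_option autoImplicit false
universe u v

namespace Groth.Agent.S10169

open Topology LinTop Groth.Agent.Lib.LinTop66

theorem result
    (A : Type u) [CommRing A] [TopologicalSpace A] [IsTopologicalRing A] [IsLinearTopology A A]
    (B : Type v) [CommRing B] [TopologicalSpace B] [IsTopologicalRing B] [IsLinearTopology B B]
    (φ : A →+* B) (hφ : LinTop.IsTautFFlat φ) (hB : LinTop.IsWeaklyPreadic B) :
    LinTop.IsWeaklyPreadic A := by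
  obtain ⟨_, K, hKopen, hKbasis⟩ := hB
  have hcont : Continuous φ := hφ.1.1
  -- the open ideals I_n = φ⁻¹(closure K^n)
  have hInopen : ∀ n : ℕ, IsOpen (((K ^ n).closure.comap φ : Ideal A) : Set A) := by
    intro n
    have : IsOpen ((K ^ n).closure : Set B) := by rw [Ideal.coe_closure]; exact hKopen n
    exact this.preimage hcont
  -- Step 1: the I_n form a basis
  have hstep1 : ∀ L : Ideal A, IsOpen (L : Set A) → ∃ n : ℕ, (K ^ n).closure.comap φ ≤ L := by
    intro L hL
    obtain ⟨n, hn⟩ := hKbasis _ (closure_map_mem_nhds φ hφ.1 L hL)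
    refine ⟨n, fun a ha => ?_⟩
    apply mem_of_map_mem_closure φ hφ L hL a
    apply hn
    rw [← Ideal.coe_closure]
    exact ha
  set I : Ideal A := K.closure.comap φ with hIdef
  have hIpow : ∀ n : ℕ, I ^ n ≤ (K ^ n).closure.comap φ := by
    intro n
    refine le_trans (Ideal.le_comap_pow φ n) (Ideal.comap_mono ?_)
    exact Groth.Agent.S10160.closure_pow_le K n
  have hIopen : IsOpen (I : Set A) := by
    have := hInopen 1
    rwa [pow_one] at this
  refine ⟨inferInstance, I, fun n => ?_, fun U hU => ?_⟩
  · -- openness of closure (I^n)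
    -- closure (I B) contains some J m
    obtain ⟨m, hm⟩ := hKbasis _ (closure_map_mem_nhds φ hφ.1 I hIopen)
    have hm' : (K ^ m).closure ≤ (I.map φ).closure := by
      intro b hb
      change b ∈ ((I.map φ).closure : Set B)
      rw [Ideal.coe_closure]
      apply hm
      rw [← Ideal.coe_closure]
      exact hb
    have hKmn : (K ^ (m * n)).closure ≤ ((I ^ n).map φ).closure := by
      have h1 : K ^ (m * n) ≤ ((I ^ n).map φ).closure := by
        rw [pow_mul]
        have hle : K ^ m ≤ (I.map φ).closure := le_trans (fun x hx => by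
          change x ∈ ((K ^ m).closure : Set B)
          rw [Ideal.coe_closure]; exact subset_closure hx) hm'
        refine le_trans (Ideal.pow_right_mono hle n) ?_
        rw [Ideal.map_pow]
        exact Groth.Agent.S10160.closure_pow_le (I.map φ) n
      intro b hb
      have hb' : b ∈ closure ((K ^ (m * n) : Ideal B) : Set B) := by
        rw [← Ideal.coe_closure]; exact hb
      have hcl : IsClosed ((((I ^ n).map φ).closure : Ideal B) : Set B) := by
        rw [Ideal.coe_closure]; exact isClosed_closure
      exact closure_minimal h1 hcl hb'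
    have hsub : (((K ^ (m * n)).closure.comap φ : Ideal A) : Set A) ⊆
        closure ((I ^ n : Ideal A) : Set A) := by
      intro a ha
      rw [mem_closure_iff_nhds]
      intro t ht
      -- t contains a + L for an open ideal L
      have ht0 : (fun y : A => a + y) ⁻¹' t ∈ 𝓝 (0 : A) := by
        have hc : Continuous fun y : A => a + y := continuous_const.add continuous_id
        apply hc.continuousAt
        change t ∈ 𝓝 (a + 0)
        rwa [add_zero]
      obtain ⟨L, hL, hLt⟩ := (IsLinearTopology.hasBasis_open_ideal (R := A)).mem_iff.1 ht0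
      have hPopen : IsOpen (((I ^ n ⊔ L : Ideal A)) : Set A) := by
        apply AddSubgroup.isOpen_of_mem_nhds (I ^ n ⊔ L).toAddSubgroup
        exact Filter.mem_of_superset (hL.mem_nhds L.zero_mem) (fun x hx => (le_sup_right : L ≤ I ^ n ⊔ L) hx)
      have haP : a ∈ I ^ n ⊔ L := by
        apply mem_of_map_mem_closure φ hφ _ hPopen a
        have h1 : φ a ∈ ((I ^ n).map φ).closure := hKmn ha
        have h2 : φ a ∈ closure (((I ^ n).map φ : Ideal B) : Set B) := by
          rw [← Ideal.coe_closure]; exact h1
        exact closure_mono (Ideal.map_mono (le_sup_left : I ^ n ≤ I ^ n ⊔ L)) h2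
      obtain ⟨p, hp, l, hl, hpl⟩ := Submodule.mem_sup.1 haP
      refine ⟨p, ?_, hp⟩
      have : p = a + (-l) := by rw [← hpl]; ring
      rw [this]
      exact hLt (L.neg_mem hl)
    have h0 : closure ((I ^ n : Ideal A) : Set A) ∈ 𝓝 (0 : A) :=
      Filter.mem_of_superset ((hInopen (m * n)).mem_nhds (Ideal.zero_mem _)) hsub
    have h3 : (((I ^ n).closure.toAddSubgroup : Set A)) = closure ((I ^ n : Ideal A) : Set A) :=
      Ideal.coe_closure _
    have h2 := AddSubgroup.isOpen_of_mem_nhds ((I ^ n).closure.toAddSubgroup) (by rw [h3]; exact h0)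
    rwa [h3] at h2
  · obtain ⟨L, hL, hLU⟩ := (IsLinearTopology.hasBasis_open_ideal (R := A)).mem_iff.1 hU
    obtain ⟨n, hn⟩ := hstep1 L hL
    refine ⟨n, subset_trans ?_ hLU⟩
    have hcl : IsClosed (L : Set A) := AddSubgroup.isClosed_of_isOpen L.toAddSubgroup hL
    exact closure_minimal (le_trans (hIpow n) hn) hcl

end Groth.Agent.S10169
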