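import Groth.Statements.S10170
import Groth.Agent.S10160
import Groth.Agent.S10163
import Groth.Agent.Lib.LinTop66

set_option autoImplicit false
universe u v
open LinTop

namespace Groth.Agent.S10170

open Topology Filter

set_option maxHeartbeats 400000 in
/-- Let φ : A → B be a taut homomorphism of linearly topologized rings such that for every open ideal I
of A the induced ring map A/I → B/J, where J denotes the closure of φ(I)B, is faithfully flat.
Suppose A is Hausdorff and complete, and B is adic with some finitely generated ideal of definition.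
Then A is adic, and some finitely generated ideal of A is an ideal of definition. -/
theorem result
    (A : Type u) [CommRing A] [UniformSpace A] [IsUniformAddGroup A] [IsTopologicalRing A] [IsLinearTopology A A] [T2Space A] [CompleteSpace A]
    (B : Type v) [CommRing B] [UniformSpace B] [IsUniformAddGroup B] [IsTopologicalRing B] (hB : LinTop.IsAdicRing B)
    (hJ : ∃ J : Ideal B, LinTop.IsIdealOfDefinition B J ∧ J.FG)
    (φ : A →+* B) (hφ : LinTop.IsTautFFlat φ) :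
    LinTop.IsAdicRing A ∧ ∃ I : Ideal A, LinTop.IsIdealOfDefinition A I ∧ I.FG := by
  classical
  obtain ⟨J, ⟨hJopen, hJbasis⟩, hJfg⟩ := hJ
  obtain ⟨⟨K, hK⟩, -, -⟩ := hB
  have hφc : Continuous φ := hφ.1.1
  -- powers of J are open
  have hJpow_open : ∀ n : ℕ, IsOpen ((J ^ n : Ideal B) : Set B) := by
    intro n
    rw [isAdic_iff] at hK
    obtain ⟨m, hm⟩ := hK.2 J (hJopen.mem_nhds J.zero_mem)
    have hm' : K ^ m ≤ J := hm
    have h1 : K ^ (m * n) ≤ J ^ n := by rw [pow_mul]; exact Ideal.pow_right_mono hm' n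
    exact Ideal.isOpen_of_isOpen_subideal h1 (hK.1 (m * n))
  -- the ideal I = φ⁻¹(J)
  set I : Ideal A := J.comap φ with hI
  have hIopen : IsOpen (I : Set A) := hJopen.preimage hφc
  have hpowJ : ∀ K' : Ideal A, IsOpen (K' : Set A) → ∃ n : ℕ, 0 < n ∧
      ((J ^ n : Ideal B) : Set B) ⊆ closure ((K'.map φ : Ideal B) : Set B) := by
    intro K' hK'
    exact hJbasis _ (Groth.Agent.Lib.LinTop66.closure_map_mem_nhds φ hφ.1 K' hK')
  have hpowI : ∀ K' : Ideal A, IsOpen (K' : Set A) → ∃ n : ℕ, 0 < n ∧ I ^ n ≤ K' := by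
    intro K' hK'
    obtain ⟨n, hn0, hn⟩ := hpowJ K' hK'
    refine ⟨n, hn0, fun a ha => ?_⟩
    apply Groth.Agent.Lib.LinTop66.mem_of_map_mem_closure φ hφ K' hK' a
    apply hn
    have h1 : I ^ n ≤ (J ^ n).comap φ := Ideal.le_comap_pow φ n
    exact h1 ha
  obtain ⟨n₀, -, hn₀⟩ := hpowJ I hIopen
  -- closures are contained in thickenings
  have hcl : ∀ (Q : Ideal B) (m : ℕ), closure (Q : Set B) ⊆ ((Q ⊔ J ^ m : Ideal B) : Set B) := by
    intro Q m y hy
    have hnhd : {w : B | y - w ∈ J ^ m} ∈ 𝓝 y := by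
      have hcn : ContinuousAt (fun w : B => y - w) y :=
        (continuous_const.sub continuous_id).continuousAt
      have : ((J ^ m : Ideal B) : Set B) ∈ 𝓝 (y - y) := by
        rw [sub_self]; exact (hJpow_open m).mem_nhds (Ideal.zero_mem _)
      exact hcn this
    obtain ⟨w, hw1, hw2⟩ := mem_closure_iff_nhds.1 hy _ hnhd
    have : y = w + (y - w) := by ring
    rw [SetLike.mem_coe, this]
    exact Submodule.add_mem_sup hw2 hw1
  -- finitely generated approximations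
  have hfin : ∀ g ∈ (J ^ n₀ : Ideal B), ∃ 𝔞 : Ideal A, 𝔞 ≤ I ∧ 𝔞.FG ∧
      g ∈ 𝔞.map φ ⊔ J ^ (n₀ + 1) := by
    intro g hg
    have h1 : g ∈ (I.map φ ⊔ J ^ (n₀ + 1) : Ideal B) := hcl _ _ (hn₀ hg)
    obtain ⟨u, hu, h, hh, rfl⟩ := Submodule.mem_sup.1 h1
    obtain ⟨T, hT, huT⟩ := Submodule.mem_span_finite_of_mem_span hu
    obtain ⟨T', hT', rfl⟩ := Finset.subset_set_image_iff.1 hT
    refine ⟨Ideal.span (T' : Set A), Ideal.span_le.2 hT', ⟨T', rfl⟩, ?_⟩
    rw [Ideal.map_span]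
    refine Submodule.add_mem_sup ?_ hh
    rw [Finset.coe_image] at huT
    exact huT
  obtain ⟨S, hS⟩ := hJfg.pow (n := n₀)
  have hS' : ∀ g : S, ∃ 𝔞 : Ideal A, 𝔞 ≤ I ∧ 𝔞.FG ∧ (g : B) ∈ 𝔞.map φ ⊔ J ^ (n₀ + 1) :=
    fun g => hfin g (hS ▸ Submodule.subset_span g.2)
  choose 𝔞f h1 h2 h3 using hS'
  let 𝔞 : Ideal A := ⨆ g : S, 𝔞f g
  have h𝔞I : 𝔞 ≤ I := iSup_le h1
  have h𝔞fg : 𝔞.FG := Submodule.fg_iSup _ h2
  let Q : Ideal B := 𝔞.map φ
  have h𝔞 : J ^ n₀ ≤ Q ⊔ J ^ (n₀ + 1) := by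
    rw [← hS]
    refine Submodule.span_le.2 fun g hg => ?_
    have h4 : (𝔞f ⟨g, hg⟩).map φ ⊔ J ^ (n₀ + 1) ≤ Q ⊔ J ^ (n₀ + 1) :=
      sup_le_sup_right (Ideal.map_mono (le_iSup 𝔞f ⟨g, hg⟩)) _
    exact h4 (h3 ⟨g, hg⟩)
  have hPQ : ∀ m : ℕ, J ^ n₀ ≤ Q ⊔ J ^ m * J ^ n₀ := by
    intro m
    induction m with
    | zero => rw [pow_zero, one_mul]; exact le_sup_right
    | succ m ih =>
      refine ih.trans (sup_le le_sup_left ?_)
      calc J ^ m * J ^ n₀ ≤ J ^ m * (Q ⊔ J ^ (n₀ + 1)) := Ideal.mul_mono_right h𝔞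
        _ = J ^ m * Q ⊔ J ^ m * J ^ (n₀ + 1) := Ideal.mul_sup _ _ _
        _ ≤ Q ⊔ J ^ (m + 1) * J ^ n₀ := by
          refine sup_le_sup Ideal.mul_le_right ?_
          rw [pow_succ J m, pow_succ' J n₀, mul_assoc]
  have hPclQ : ((J ^ n₀ : Ideal B) : Set B) ⊆ closure (Q : Set B) := by
    intro y hy
    rw [mem_closure_iff_nhds]
    intro t ht
    have h0 : {w : B | y - w ∈ t} ∈ 𝓝 (0 : B) := by
      have hcn : ContinuousAt (fun w : B => y - w) 0 :=
        (continuous_const.sub continuous_id).continuousAt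
      have : t ∈ 𝓝 (y - 0) := by rwa [sub_zero]
      exact hcn this
    obtain ⟨m, -, hm⟩ := hJbasis _ h0
    obtain ⟨q, hq, j, hj, rfl⟩ := Submodule.mem_sup.1 (hPQ m hy)
    refine ⟨q, ?_, hq⟩
    have hj' : j ∈ J ^ m := Ideal.mul_le_left hj
    have := hm hj'
    simpa using this
  have hopenB : ∀ k : ℕ, closure (((𝔞 ^ k).map φ : Ideal B) : Set B) ∈ 𝓝 (0 : B) := by
    intro k
    have hle : J ^ n₀ ≤ Q.closure := by
      intro y hy
      change y ∈ (Q.closure : Set B)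
      rw [Ideal.coe_closure]
      exact hPclQ hy
    have h1 : (J ^ n₀) ^ k ≤ Q.closure ^ k := Ideal.pow_right_mono hle k
    have h2 : Q.closure ^ k ≤ (Q ^ k).closure := Groth.Agent.S10160.closure_pow_le Q k
    have h3 : Q ^ k = (𝔞 ^ k).map φ := (Ideal.map_pow φ 𝔞 k).symm
    refine Filter.mem_of_superset ((hJpow_open (n₀ * k)).mem_nhds (Ideal.zero_mem _)) ?_
    intro y hy
    rw [pow_mul] at hy
    have h4 := h2 (h1 hy)
    rw [h3] at h4
    rw [← Ideal.coe_closure]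
    exact h4
  -- descent of closures
  have hdesc : ∀ (𝔠 : Ideal A) (a : A), φ a ∈ closure ((𝔠.map φ : Ideal B) : Set B) →
      a ∈ closure (𝔠 : Set A) := by
    intro 𝔠 a ha
    rw [mem_closure_iff_nhds]
    intro t ht
    have h0 : {w : A | a - w ∈ t} ∈ 𝓝 (0 : A) := by
      have hcn : ContinuousAt (fun w : A => a - w) 0 :=
        (continuous_const.sub continuous_id).continuousAt
      have : t ∈ 𝓝 (a - 0) := by rwa [sub_zero]
      exact hcn this
    obtain ⟨K', hK', hK't⟩ := (IsLinearTopology.hasBasis_open_ideal (R := A)).mem_iff.1 h0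
    have hop : IsOpen ((𝔠 ⊔ K' : Ideal A) : Set A) :=
      Ideal.isOpen_of_isOpen_subideal le_sup_right hK'
    have hmem : a ∈ 𝔠 ⊔ K' := by
      apply Groth.Agent.Lib.LinTop66.mem_of_map_mem_closure φ hφ _ hop a
      have hmono : ((𝔠.map φ : Ideal B) : Set B) ⊆ (((𝔠 ⊔ K').map φ : Ideal B) : Set B) :=
        Ideal.map_mono le_sup_left
      exact closure_mono hmono ha
    obtain ⟨c, hc, k, hk, rfl⟩ := Submodule.mem_sup.1 hmem
    refine ⟨c, ?_, hc⟩
    have := hK't hk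
    simpa using this
  have hopenA : ∀ k : ℕ, IsOpen (closure ((𝔞 ^ k : Ideal A) : Set A)) := by
    intro k
    rw [← Ideal.coe_closure]
    apply AddSubgroup.isOpen_of_mem_nhds ((𝔞 ^ k).closure.toAddSubgroup)
    have h1 : φ ⁻¹' closure (((𝔞 ^ k).map φ : Ideal B) : Set B) ∈ 𝓝 (0 : A) := by
      apply hφc.continuousAt
      rw [map_zero]
      exact hopenB k
    refine Filter.mem_of_superset h1 ?_
    intro a ha
    change a ∈ ((𝔞 ^ k).closure : Set A)
    rw [Ideal.coe_closure]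
    exact hdesc _ a ha
  have hbasisA : ∀ U ∈ 𝓝 (0 : A), ∃ k : ℕ, closure ((𝔞 ^ k : Ideal A) : Set A) ⊆ U := by
    intro U hU
    obtain ⟨K', hK', hK'U⟩ := (IsLinearTopology.hasBasis_open_ideal (R := A)).mem_iff.1 hU
    obtain ⟨n, -, hn⟩ := hpowI K' hK'
    have hclosed : IsClosed (K' : Set A) := AddSubgroup.isClosed_of_isOpen K'.toAddSubgroup hK'
    refine ⟨n, (closure_minimal ?_ hclosed).trans hK'U⟩
    exact fun a ha => hn (Ideal.pow_right_mono h𝔞I n ha)
  have hadic : IsAdic 𝔞 := Groth.Agent.S10163.result A 𝔞 h𝔞fg hopenA hbasisA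
  refine ⟨⟨⟨𝔞, hadic⟩, inferInstance, inferInstance⟩, 𝔞, ⟨?_, ?_⟩, h𝔞fg⟩
  · have := (isAdic_iff.1 hadic).1 1
    rwa [pow_one] at this
  · intro U hU
    obtain ⟨n, hn⟩ := (isAdic_iff.1 hadic).2 U hU
    refine ⟨n + 1, Nat.succ_pos n, ?_⟩
    exact fun a ha => hn (Ideal.pow_le_pow_right (Nat.le_succ n) ha)

end Groth.Agent.S10170
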