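import Groth.Statements.S10171

set_option autoImplicit false
universe u v
open LinTop

namespace Groth.Agent.S10171

open UniformSpace Topology

/-- Let M be a linearly topologized module over a ring R and N a submodule. Write M^ for the separated
completion of M and (M/N)^ for that of M/N (quotient topology, additive uniform structure). Then the
kernel of the induced map M^ → (M/N)^ is the closure of the image of N in M^; that closure is the
completion of N, so this is the exactness of 0 → N^ → M^ → (M/N)^ at M^. -/
theorem result
    {R : Type u} [Ring R] {M : Type v} [AddCommGroup M] [Module R M] [UniformSpace M]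
    [IsUniformAddGroup M] [IsLinearTopology R M] (N : Submodule R M) :
    (@UniformSpace.Completion.map M _ (M ⧸ N.toAddSubgroup)
        (IsTopologicalAddGroup.rightUniformSpace (M ⧸ N.toAddSubgroup))
        (QuotientAddGroup.mk' N.toAddSubgroup)) ⁻¹' {0} =
      closure (Set.range (fun n : N => ((n : M) : UniformSpace.Completion M))) := by
  letI uQ : UniformSpace (M ⧸ N.toAddSubgroup) :=
    IsTopologicalAddGroup.rightUniformSpace (M ⧸ N.toAddSubgroup)
  haveI hQ : IsUniformAddGroup (M ⧸ N.toAddSubgroup) := isUniformAddGroup_of_addCommGroup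
  let π : M →+ M ⧸ N.toAddSubgroup := QuotientAddGroup.mk' N.toAddSubgroup
  have hπc : Continuous π := QuotientAddGroup.continuous_mk
  have hπu : UniformContinuous π := uniformContinuous_addMonoidHom_of_continuous hπc
  let πh : Completion M →+ Completion (M ⧸ N.toAddSubgroup) := π.completion hπc
  have hπhc : Continuous πh := π.continuous_completion hπc
  have hπh_coe : ∀ m : M, πh (m : Completion M) = ((π m : M ⧸ N.toAddSubgroup) :
      Completion (M ⧸ N.toAddSubgroup)) := fun m => π.completion_coe hπc m
  change (πh : Completion M → Completion (M ⧸ N.toAddSubgroup)) ⁻¹' {0} = _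
  apply Set.Subset.antisymm
  · intro x hx
    rw [Set.mem_preimage, Set.mem_singleton_iff] at hx
    rw [mem_closure_iff_nhds]
    intro t ht
    -- a neighbourhood W of 0 with x + W ⊆ t
    have hW : {y : Completion M | x + y ∈ t} ∈ 𝓝 (0 : Completion M) := by
      have hc : ContinuousAt (fun y : Completion M => x + y) 0 :=
        (continuous_const.add continuous_id).continuousAt
      have : t ∈ 𝓝 (x + 0) := by rwa [add_zero]
      exact hc this
    obtain ⟨W', ⟨hW'n, hW'c⟩, hW'W⟩ := (closed_nhds_basis (0 : Completion M)).mem_iff.1 hW
    have hpre : ((↑) : M → Completion M) ⁻¹' W' ∈ 𝓝 (0 : M) := by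
      have hc : ContinuousAt ((↑) : M → Completion M) 0 :=
        (Completion.continuous_coe M).continuousAt
      have : W' ∈ 𝓝 (((0 : M) : Completion M)) := by rwa [Completion.coe_zero]
      exact hc this
    obtain ⟨U', hU'o, hU'W⟩ := (IsLinearTopology.hasBasis_open_submodule R).mem_iff.1 hpre
    -- the closed subgroup V
    let Vg : AddSubgroup (Completion M) :=
      (U'.toAddSubgroup.map (Completion.toCompl : M →+ Completion M)).topologicalClosure
    have hVg_coe : (Vg : Set (Completion M)) = closure (((↑) : M → Completion M) '' (U' : Set M)) :=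
      rfl
    have hVg_nhds : (Vg : Set (Completion M)) ∈ 𝓝 (0 : Completion M) := by
      rw [hVg_coe, ← Completion.coe_zero]
      exact Completion.isDenseInducing_coe.closure_image_mem_nhds (hU'o.mem_nhds U'.zero_mem)
    have hVgW' : (Vg : Set (Completion M)) ⊆ W' := by
      rw [hVg_coe]
      apply closure_minimal _ hW'c
      rintro _ ⟨u, hu, rfl⟩
      exact hU'W hu
    -- density: some m with ι m - x ∈ V
    have hnx : {y : Completion M | y - x ∈ Vg} ∈ 𝓝 x := by
      have hc : ContinuousAt (fun y : Completion M => y - x) x :=
        (continuous_id.sub continuous_const).continuousAt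
      have : (Vg : Set (Completion M)) ∈ 𝓝 (x - x) := by rwa [sub_self]
      exact hc this
    obtain ⟨_, hy, ⟨m, rfl⟩⟩ :=
      mem_closure_iff_nhds.1 (Completion.denseRange_coe (α := M) x) _ hnx
    have hmx : (m : Completion M) - x ∈ Vg := hy
    -- push to the quotient
    have h1 : πh ((m : Completion M) - x) =
        ((π m : M ⧸ N.toAddSubgroup) : Completion (M ⧸ N.toAddSubgroup)) := by
      rw [map_sub, hx, sub_zero, hπh_coe]
    have h2 : πh ((m : Completion M) - x) ∈
        closure (((↑) : M ⧸ N.toAddSubgroup → Completion (M ⧸ N.toAddSubgroup)) ''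
          (π '' (U' : Set M))) := by
      have h3 : πh ((m : Completion M) - x) ∈ πh '' (Vg : Set (Completion M)) :=
        ⟨_, hmx, rfl⟩
      rw [hVg_coe] at h3
      have h4 := image_closure_subset_closure_image hπhc h3
      refine closure_mono ?_ h4
      rintro _ ⟨_, ⟨u, hu, rfl⟩, rfl⟩
      exact ⟨π u, ⟨u, hu, rfl⟩, (hπh_coe u).symm⟩
    rw [h1] at h2
    have hind : IsInducing ((↑) : M ⧸ N.toAddSubgroup → Completion (M ⧸ N.toAddSubgroup)) :=
      (Completion.isUniformInducing_coe (M ⧸ N.toAddSubgroup)).isInducing
    have h5 : π m ∈ closure (π '' (U' : Set M)) := by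
      rw [hind.closure_eq_preimage_closure_image]
      exact h2
    have hopen : IsOpen (π '' (U' : Set M)) := QuotientAddGroup.isOpenMap_coe _ hU'o
    have hclosed : IsClosed (π '' (U' : Set M)) := by
      have : (π '' (U' : Set M)) = ((U'.toAddSubgroup.map π : AddSubgroup _) : Set _) := rfl
      rw [this] at hopen ⊢
      exact AddSubgroup.isClosed_of_isOpen _ hopen
    rw [hclosed.closure_eq] at h5
    obtain ⟨u, hu, hum⟩ := h5
    have hn : m - u ∈ N := by
      have : π (m - u) = 0 := by rw [map_sub, hum, sub_self]
      exact (QuotientAddGroup.eq_zero_iff _).1 this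
    refine ⟨((m - u : M) : Completion M), ?_, ⟨⟨m - u, hn⟩, rfl⟩⟩
    have h6 : ((m - u : M) : Completion M) - x ∈ Vg := by
      have hu' : (u : Completion M) ∈ Vg := by
        change (u : Completion M) ∈ (Vg : Set (Completion M))
        rw [hVg_coe]
        exact subset_closure ⟨u, hu, rfl⟩
      have : ((m - u : M) : Completion M) - x = ((m : Completion M) - x) - (u : Completion M) := by
        rw [Completion.coe_sub]; abel
      rw [this]
      exact Vg.sub_mem hmx hu'
    have h7 : x + (((m - u : M) : Completion M) - x) ∈ t := hW'W (hVgW' h6)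
    rwa [add_sub_cancel] at h7
  · apply closure_minimal
    · rintro _ ⟨n, rfl⟩
      rw [Set.mem_preimage, Set.mem_singleton_iff, hπh_coe]
      have : π (n : M) = 0 := (QuotientAddGroup.eq_zero_iff _).2 n.2
      rw [this]
      exact Completion.coe_zero
    · exact isClosed_singleton.preimage hπhc

end Groth.Agent.S10171
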