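import Groth.Statements.S10172
import Mathlib.Topology.Algebra.Nonarchimedean.Completion
import Mathlib.Topology.Algebra.InfiniteSum.Nonarchimedean

set_option autoImplicit false
universe u v
open LinTop

namespace Groth.Agent.S10172

open UniformSpace Topology Filter

/-- Dependent choice along `ℕ`. -/
theorem exists_seq_of_step {α : Type*} (P : ℕ → α → Prop) (R : ℕ → α → α → Prop) (a₀ : α)
    (h₀ : P 0 a₀) (step : ∀ j a, P j a → ∃ a', R j a a' ∧ P (j + 1) a') :
    ∃ s : ℕ → α, s 0 = a₀ ∧ (∀ j, P j (s j)) ∧ ∀ j, R j (s j) (s (j + 1)) := by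
  classical
  let F : ∀ j, {a : α // P j a} := fun j => Nat.rec ⟨a₀, h₀⟩
    (fun j p => ⟨Classical.choose (step j p.1 p.2), (Classical.choose_spec (step j p.1 p.2)).2⟩) j
  refine ⟨fun j => (F j).1, rfl, fun j => (F j).2, fun j => ?_⟩
  exact (Classical.choose_spec (step j (F j).1 (F j).2)).1

/-- Closures of images of basic neighbourhoods of zero form a basis of neighbourhoods of zero in the
completion. -/
theorem exists_closure_image_subset {G : Type*} [AddCommGroup G] [UniformSpace G]
    [IsUniformAddGroup G] {ι' : Sort*} {p : ι' → Prop} {s : ι' → Set G}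
    (hb : (𝓝 (0 : G)).HasBasis p s) {U : Set (Completion G)} (hU : U ∈ 𝓝 (0 : Completion G)) :
    ∃ i, p i ∧ closure (((↑) : G → Completion G) '' s i) ⊆ U := by
  obtain ⟨U', ⟨hU'n, hU'c⟩, hU'U⟩ := (closed_nhds_basis (0 : Completion G)).mem_iff.1 hU
  have hpre : ((↑) : G → Completion G) ⁻¹' U' ∈ 𝓝 (0 : G) := by
    have hc : ContinuousAt ((↑) : G → Completion G) 0 :=
      (Completion.continuous_coe G).continuousAt
    have : U' ∈ 𝓝 (((0 : G) : Completion G)) := by rwa [Completion.coe_zero]
    exact hc this
  obtain ⟨i, hi, his⟩ := hb.mem_iff.1 hpre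
  refine ⟨i, hi, (closure_minimal ?_ hU'c).trans hU'U⟩
  rintro _ ⟨u, hu, rfl⟩
  exact his hu

/-- Let M be a linearly topologized module over a ring R having a countable fundamental system of
neighbourhoods of 0, and N a submodule. With M^ and (M/N)^ the separated completions of M and of M/N
(quotient topology, additive uniform structure), the induced map M^ → (M/N)^ is surjective and open
(so, its kernel being the completion of N, the sequence 0 → N^ → M^ → (M/N)^ → 0 is exact). -/
theorem result
    {R : Type u} [Ring R] {M : Type v} [AddCommGroup M] [Module R M] [UniformSpace M]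
    [IsUniformAddGroup M] [IsLinearTopology R M] (hc : (nhds (0 : M)).IsCountablyGenerated)
    (N : Submodule R M) :
    Function.Surjective (@UniformSpace.Completion.map M _ (M ⧸ N.toAddSubgroup)
        (IsTopologicalAddGroup.rightUniformSpace (M ⧸ N.toAddSubgroup))
        (QuotientAddGroup.mk' N.toAddSubgroup)) ∧
      IsOpenMap (@UniformSpace.Completion.map M _ (M ⧸ N.toAddSubgroup)
        (IsTopologicalAddGroup.rightUniformSpace (M ⧸ N.toAddSubgroup))
        (QuotientAddGroup.mk' N.toAddSubgroup)) := by
  letI uQ : UniformSpace (M ⧸ N.toAddSubgroup) :=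
    IsTopologicalAddGroup.rightUniformSpace (M ⧸ N.toAddSubgroup)
  haveI hQ : IsUniformAddGroup (M ⧸ N.toAddSubgroup) := isUniformAddGroup_of_addCommGroup
  let π : M →+ M ⧸ N.toAddSubgroup := QuotientAddGroup.mk' N.toAddSubgroup
  have hπc : Continuous π := QuotientAddGroup.continuous_mk
  let πh : Completion M →+ Completion (M ⧸ N.toAddSubgroup) := π.completion hπc
  have hπhc : Continuous πh := π.continuous_completion hπc
  have hπh_coe : ∀ m : M, πh (m : Completion M) = ((π m : M ⧸ N.toAddSubgroup) :
      Completion (M ⧸ N.toAddSubgroup)) := fun m => π.completion_coe hπc m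
  change Function.Surjective (πh : Completion M → Completion (M ⧸ N.toAddSubgroup)) ∧
    IsOpenMap (πh : Completion M → Completion (M ⧸ N.toAddSubgroup))
  have := hc
  obtain ⟨x, hx1, hx2⟩ :=
    (IsLinearTopology.hasBasis_open_submodule (M := M) R).exists_antitone_subbasis
  have hanti : ∀ {i j : ℕ}, i ≤ j → x j ≤ x i := fun h => hx2.antitone h
  -- basis of neighbourhoods of zero in the quotient
  have hbQ : (𝓝 (0 : M ⧸ N.toAddSubgroup)).HasBasis (fun _ : ℕ => True)
      (fun n => π '' (x n : Set M)) := by
    have h := QuotientAddGroup.nhds_eq N.toAddSubgroup (0 : M)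
    have h' : 𝓝 (0 : M ⧸ N.toAddSubgroup) = Filter.map π (𝓝 (0 : M)) := h
    rw [h']
    exact hx2.1.map π
  -- the neighbourhoods W j of zero in the completion of the quotient
  let W : ℕ → Set (Completion (M ⧸ N.toAddSubgroup)) := fun j =>
    closure (((↑) : M ⧸ N.toAddSubgroup → Completion (M ⧸ N.toAddSubgroup)) ''
      (π '' (x j : Set M)))
  have hWnhds : ∀ j, W j ∈ 𝓝 (0 : Completion (M ⧸ N.toAddSubgroup)) := by
    intro j
    have h0 : π '' (x j : Set M) ∈ 𝓝 (0 : M ⧸ N.toAddSubgroup) := hbQ.mem_of_mem trivial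
    have := Completion.isDenseInducing_coe.closure_image_mem_nhds h0
    rwa [Completion.coe_zero] at this
  have hWbasis : ∀ U ∈ 𝓝 (0 : Completion (M ⧸ N.toAddSubgroup)), ∃ j, W j ⊆ U := by
    intro U hU
    obtain ⟨j, -, hj⟩ := exists_closure_image_subset hbQ hU
    exact ⟨j, hj⟩
  have hWanti : ∀ {i j : ℕ}, i ≤ j → W j ⊆ W i := by
    intro i j hij
    exact closure_mono (Set.image_mono (Set.image_mono (hanti hij)))
  haveI : NonarchimedeanAddGroup M :=
    { is_nonarchimedean := by
        intro U hU
        obtain ⟨n, -, hn⟩ := hx2.1.mem_iff.1 hU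
        exact ⟨⟨(x n).toAddSubgroup, hx1 n⟩, hn⟩ }
  -- key successive approximation
  have key : ∀ n, ∀ y ∈ W n, ∃ a ∈ closure (((↑) : M → Completion M) '' (x n : Set M)),
      πh a = y := by
    intro n y hy
    obtain ⟨s, hs0, hsP, hsR⟩ := exists_seq_of_step
      (fun j (s : M) => y - ((π s : M ⧸ N.toAddSubgroup) :
        Completion (M ⧸ N.toAddSubgroup)) ∈ W (n + j))
      (fun j (s s' : M) => s' - s ∈ x (n + j)) 0
      (by
        change y - ((π 0 : M ⧸ N.toAddSubgroup) : Completion (M ⧸ N.toAddSubgroup)) ∈ W (n + 0)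
        rw [map_zero, Completion.coe_zero, sub_zero]
        exact hy)
      (by
        intro j s hs
        have hnhd : (fun w : Completion (M ⧸ N.toAddSubgroup) =>
            (y - ((π s : M ⧸ N.toAddSubgroup) : Completion (M ⧸ N.toAddSubgroup))) - w) ⁻¹'
            W (n + (j + 1)) ∈
            𝓝 (y - ((π s : M ⧸ N.toAddSubgroup) : Completion (M ⧸ N.toAddSubgroup))) := by
          have hcn : Continuous (fun w : Completion (M ⧸ N.toAddSubgroup) =>
            (y - ((π s : M ⧸ N.toAddSubgroup) : Completion (M ⧸ N.toAddSubgroup))) - w) :=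
            continuous_const.sub continuous_id
          apply hcn.continuousAt
          simp only [sub_self]
          exact hWnhds _
        obtain ⟨w, hw1, ⟨_, ⟨a, ha, rfl⟩, rfl⟩⟩ := mem_closure_iff_nhds.mp hs _ hnhd
        refine ⟨s + a, by simpa using ha, ?_⟩
        have : y - ((π (s + a) : M ⧸ N.toAddSubgroup) : Completion (M ⧸ N.toAddSubgroup)) =
            y - ((π s : M ⧸ N.toAddSubgroup) : Completion (M ⧸ N.toAddSubgroup)) -
              ((π a : M ⧸ N.toAddSubgroup) : Completion (M ⧸ N.toAddSubgroup)) := by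
          rw [map_add, Completion.coe_add]; abel
        rw [this]
        exact hw1)
    have hsmem : ∀ j, s j ∈ x n := by
      intro j
      induction j with
      | zero => rw [hs0]; exact (x n).zero_mem
      | succ j ih =>
        have : s (j + 1) = s j + (s (j + 1) - s j) := by abel
        rw [this]
        exact (x n).add_mem ih (hanti (Nat.le_add_right n j) (hsR j))
    have hcauchy : CauchySeq s := by
      apply NonarchimedeanAddGroup.cauchySeq_of_tendsto_sub_nhds_zero
      exact hx2.tendsto (fun j => hanti (Nat.le_add_left j n) (hsR j))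
    have hcauchy' : CauchySeq (fun j => ((s j : M) : Completion M)) :=
      (Completion.uniformContinuous_coe M).comp_cauchySeq hcauchy
    obtain ⟨a, ha⟩ := cauchySeq_tendsto_of_complete hcauchy'
    have haI : a ∈ closure (((↑) : M → Completion M) '' (x n : Set M)) :=
      isClosed_closure.mem_of_tendsto ha
        (Eventually.of_forall fun j => subset_closure ⟨s j, hsmem j, rfl⟩)
    refine ⟨a, haI, ?_⟩
    have h1 : Tendsto (fun j => y - ((π (s j) : M ⧸ N.toAddSubgroup) :
        Completion (M ⧸ N.toAddSubgroup))) atTop (𝓝 (y - πh a)) := by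
      have h := ((hπhc.tendsto a).comp ha).const_sub y
      refine h.congr fun j => ?_
      simp only [Function.comp]
      rw [hπh_coe]
    have h2 : Tendsto (fun j => y - ((π (s j) : M ⧸ N.toAddSubgroup) :
        Completion (M ⧸ N.toAddSubgroup))) atTop (𝓝 0) := by
      rw [tendsto_def]
      intro U hU
      obtain ⟨k, hk⟩ := hWbasis U hU
      rw [mem_atTop_sets]
      refine ⟨k, fun j hj => ?_⟩
      exact hk (hWanti (le_trans hj (Nat.le_add_left j n)) (hsP j))
    have h3 := tendsto_nhds_unique h1 h2
    exact (sub_eq_zero.mp h3).symm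
  have hopen : IsOpenMap (πh : Completion M → Completion (M ⧸ N.toAddSubgroup)) := by
    rw [IsTopologicalAddGroup.isOpenMap_iff_nhds_zero]
    intro t ht
    rw [Filter.mem_map] at ht
    obtain ⟨n, -, hn⟩ := exists_closure_image_subset hx2.1 ht
    refine Filter.mem_of_superset (hWnhds n) ?_
    intro y hy
    obtain ⟨a, ha, rfl⟩ := key n y hy
    exact hn ha
  refine ⟨?_, hopen⟩
  intro y
  -- density
  have hny : {w : Completion (M ⧸ N.toAddSubgroup) | y - w ∈ W 0} ∈ 𝓝 y := by
    have hcn : ContinuousAt (fun w : Completion (M ⧸ N.toAddSubgroup) => y - w) y :=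
      (continuous_const.sub continuous_id).continuousAt
    have : W 0 ∈ 𝓝 (y - y) := by rw [sub_self]; exact hWnhds 0
    exact hcn this
  obtain ⟨_, hw, ⟨q, rfl⟩⟩ :=
    mem_closure_iff_nhds.1 (Completion.denseRange_coe (α := M ⧸ N.toAddSubgroup) y) _ hny
  obtain ⟨m, rfl⟩ := QuotientAddGroup.mk'_surjective N.toAddSubgroup q
  obtain ⟨a, -, ha⟩ := key 0 _ hw
  refine ⟨(m : Completion M) + a, ?_⟩
  rw [map_add, ha, hπh_coe]
  abel

end Groth.Agent.S10172
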