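import Groth.Statements.S10173
import Groth.Agent.S10172
import Mathlib.Topology.Algebra.Nonarchimedean.Completion
import Mathlib.Topology.Algebra.InfiniteSum.Nonarchimedean

set_option autoImplicit false
universe u v
open LinTop

namespace Groth.Agent.S10173

open UniformSpace Topology Filter

section Algebra

variable {R : Type u} [CommRing R] {M : Type v} [AddCommGroup M] [Module R M]

theorem exists_sum_of_mem_span_smul {r : ℕ} (f : Fin r → R) (P : Submodule R M) {z : M}
    (hz : z ∈ Ideal.span (Set.range f) • P) :
    ∃ p : Fin r → M, (∀ i, p i ∈ P) ∧ z = ∑ i, f i • p i := by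
  refine Submodule.smul_induction_on hz ?_ ?_
  · intro a ha m hm
    obtain ⟨c, rfl⟩ := Ideal.mem_span_range_iff_exists_fun.1 ha
    refine ⟨fun i => c i • m, fun i => P.smul_mem _ hm, ?_⟩
    rw [Finset.sum_smul]
    refine Finset.sum_congr rfl fun i _ => ?_
    rw [mul_comm, mul_smul]
  · rintro x y ⟨p, hp, rfl⟩ ⟨q, hq, rfl⟩
    refine ⟨fun i => p i + q i, fun i => P.add_mem (hp i) (hq i), ?_⟩
    simp only [smul_add, Finset.sum_add_distrib]

end Algebra

section Main

variable {R : Type u} [CommRing R] (I : Ideal R)
    {M : Type v} [AddCommGroup M] [Module R M] [UniformSpace M] [IsUniformAddGroup M]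
    [UniformContinuousConstSMul R M] (M' : Submodule R M)

/-- closure of the image of a submodule, as a submodule of the completion -/
def clo (P : Submodule R M) : Submodule R (Completion M) where
  carrier := closure (((↑) : M → Completion M) '' (P : Set M))
  add_mem' := by
    intro a b ha hb
    refine map_mem_closure₂ (f := fun a b : Completion M => a + b) continuous_add ha hb ?_
    rintro _ ⟨a', ha', rfl⟩ _ ⟨b', hb', rfl⟩
    exact ⟨a' + b', P.add_mem ha' hb', Completion.coe_add a' b'⟩
  zero_mem' := subset_closure ⟨0, P.zero_mem, Completion.coe_zero⟩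
  smul_mem' := by
    intro c a ha
    refine map_mem_closure (continuous_const_smul c) ha ?_
    rintro _ ⟨a', ha', rfl⟩
    exact ⟨c • a', P.smul_mem c ha', Completion.coe_smul c a'⟩

theorem coe_clo (P : Submodule R M) :
    (clo P : Set (Completion M)) = closure (((↑) : M → Completion M) '' (P : Set M)) := rfl

theorem mem_clo (P : Submodule R M) (z : Completion M) :
    z ∈ clo P ↔ z ∈ closure (((↑) : M → Completion M) '' (P : Set M)) := Iff.rfl

theorem coe_mem_clo {P : Submodule R M} {m : M} (hm : m ∈ P) : (m : Completion M) ∈ clo P :=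
  subset_closure ⟨m, hm, rfl⟩

theorem clo_mono {P Q : Submodule R M} (h : P ≤ Q) : clo P ≤ clo Q :=
  closure_mono (Set.image_mono h)

theorem smul_clo_le (J : Ideal R) (P : Submodule R M) : J • clo P ≤ clo (J • P) := by
  rw [Submodule.smul_le]
  intro c hc a ha
  refine map_mem_closure (continuous_const_smul c) ha ?_
  rintro _ ⟨a', ha', rfl⟩
  exact ⟨c • a', Submodule.smul_mem_smul hc ha', Completion.coe_smul c a'⟩

theorem clo_mem_nhds {P : Submodule R M} (hP : IsOpen (P : Set M)) :
    (clo P : Set (Completion M)) ∈ 𝓝 (0 : Completion M) := by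
  have := Completion.isDenseInducing_coe.closure_image_mem_nhds (hP.mem_nhds P.zero_mem)
  rwa [Completion.coe_zero] at this

theorem isOpen_clo {P : Submodule R M} (hP : IsOpen (P : Set M)) :
    IsOpen (clo P : Set (Completion M)) :=
  AddSubgroup.isOpen_of_mem_nhds (clo P).toAddSubgroup (clo_mem_nhds hP)

/-- an open submodule contains every `m` whose image lies in its completed closure -/
theorem mem_of_coe_mem_clo {P : Submodule R M} (hP : IsOpen (P : Set M)) {m : M}
    (hm : (m : Completion M) ∈ clo P) : m ∈ P := by
  have hind : IsInducing ((↑) : M → Completion M) :=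
    (Completion.isUniformInducing_coe M).isInducing
  have h5 : m ∈ closure (P : Set M) := by
    rw [hind.closure_eq_preimage_closure_image]
    exact hm
  have hclosed : IsClosed (P : Set M) := AddSubgroup.isClosed_of_isOpen P.toAddSubgroup hP
  rwa [hclosed.closure_eq] at h5

/-- density: every point of the completion is congruent to a point of `M` modulo `clo P` -/
theorem exists_sub_mem_clo {P : Submodule R M} (hP : IsOpen (P : Set M)) (w : Completion M) :
    ∃ m : M, w - (m : Completion M) ∈ clo P := by
  have hny : {v : Completion M | w - v ∈ clo P} ∈ 𝓝 w := by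
    have hcn : ContinuousAt (fun v : Completion M => w - v) w :=
      (continuous_const.sub continuous_id).continuousAt
    have : (clo P : Set (Completion M)) ∈ 𝓝 (w - w) := by rw [sub_self]; exact clo_mem_nhds hP
    exact hcn this
  obtain ⟨_, hw, ⟨m, rfl⟩⟩ :=
    mem_closure_iff_nhds.1 (Completion.denseRange_coe (α := M) w) _ hny
  exact ⟨m, hw⟩

variable {I M'}

theorem hasBasis_pow_smul
    (hopen : ∀ n : ℕ, IsOpen ((I ^ n • M' : Submodule R M) : Set M))
    (hbasis : ∀ U ∈ nhds (0 : M), ∃ n : ℕ, ((I ^ n • M' : Submodule R M) : Set M) ⊆ U) :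
    (𝓝 (0 : M)).HasBasis (fun _ : ℕ => True) (fun k => ((I ^ k • M' : Submodule R M) : Set M)) := by
  refine ⟨fun U => ⟨fun hU => ?_, fun ⟨k, _, hk⟩ => ?_⟩⟩
  · obtain ⟨k, hk⟩ := hbasis U hU
    exact ⟨k, trivial, hk⟩
  · exact Filter.mem_of_superset ((hopen k).mem_nhds (Submodule.zero_mem _)) hk

theorem pow_smul_anti {i j : ℕ} (h : i ≤ j) : (I ^ j • M' : Submodule R M) ≤ I ^ i • M' :=
  Submodule.smul_mono_left (Ideal.pow_le_pow_right h)

theorem clo_smul_le (hI : I.FG)
    (hopen : ∀ n : ℕ, IsOpen ((I ^ n • M' : Submodule R M) : Set M))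
    (hbasis : ∀ U ∈ nhds (0 : M), ∃ n : ℕ, ((I ^ n • M' : Submodule R M) : Set M) ⊆ U) (n : ℕ) :
    clo (I ^ n • M') ≤ I ^ n • clo M' := by
  intro z hz
  obtain ⟨r, f, hf⟩ := Submodule.fg_iff_exists_fin_generating_family.1 (hI.pow (n := n))
  have hb := hasBasis_pow_smul hopen hbasis
  haveI : NonarchimedeanAddGroup M :=
    { is_nonarchimedean := by
        intro U hU
        obtain ⟨k, hk⟩ := hbasis U hU
        exact ⟨⟨(I ^ k • M' : Submodule R M).toAddSubgroup, hopen k⟩, hk⟩ }
  -- successive approximation
  obtain ⟨s, hs0, hsP, hsR⟩ := Groth.Agent.S10172.exists_seq_of_step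
    (fun j (s : M) => z - (s : Completion M) ∈ clo (I ^ (n + j) • M'))
    (fun j (s s' : M) => s' - s ∈ (I ^ (n + j) • M' : Submodule R M)) 0
    (by
      change z - ((0 : M) : Completion M) ∈ clo (I ^ (n + 0) • M')
      rw [Completion.coe_zero, sub_zero]
      exact hz)
    (by
      intro j s hs
      have hnhd : (fun w : Completion M => (z - (s : Completion M)) - w) ⁻¹'
          (clo (I ^ (n + (j + 1)) • M') : Set (Completion M)) ∈ 𝓝 (z - (s : Completion M)) := by
        have hcn : Continuous (fun w : Completion M => (z - (s : Completion M)) - w) :=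
          continuous_const.sub continuous_id
        apply hcn.continuousAt
        simp only [sub_self]
        exact clo_mem_nhds (hopen _)
      obtain ⟨w, hw1, ⟨a, ha, rfl⟩⟩ := mem_closure_iff_nhds.mp hs _ hnhd
      refine ⟨s + a, by simpa using ha, ?_⟩
      have : z - ((s + a : M) : Completion M) = z - (s : Completion M) - (a : Completion M) := by
        rw [Completion.coe_add]; abel
      rw [this]
      exact hw1)
  -- decompose the differences
  have hd : ∀ j, ∃ p : Fin r → M, (∀ i, p i ∈ (I ^ j • M' : Submodule R M)) ∧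
      s (j + 1) - s j = ∑ i, f i • p i := by
    intro j
    have h1 : s (j + 1) - s j ∈ (I ^ n • (I ^ j • M') : Submodule R M) := by
      have := hsR j
      rwa [pow_add, mul_smul] at this
    rw [← hf] at h1
    exact exists_sum_of_mem_span_smul f _ h1
  choose p hp1 hp2 using hd
  let t : Fin r → ℕ → M := fun i k => ∑ j ∈ Finset.range k, p j i
  have hst : ∀ k, s k = ∑ i, f i • t i k := by
    intro k
    induction k with
    | zero => simp [t, hs0]
    | succ k ih =>
      have h1 : s (k + 1) = s k + ∑ i, f i • p k i := by rw [← hp2 k]; abel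
      rw [h1, ih, ← Finset.sum_add_distrib]
      refine Finset.sum_congr rfl fun i _ => ?_
      simp only [t, Finset.sum_range_succ, smul_add]
  have htM' : ∀ i k, t i k ∈ M' := by
    intro i k
    exact Submodule.sum_mem _ fun j _ => Submodule.smul_le_right (hp1 j i)
  have hcauchy : ∀ i, CauchySeq (t i) := by
    intro i
    apply NonarchimedeanAddGroup.cauchySeq_of_tendsto_sub_nhds_zero
    have h1 : ∀ k, t i (k + 1) - t i k = p k i := by
      intro k
      simp only [t, Finset.sum_range_succ, add_sub_cancel_left]
    simp only [h1]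
    rw [hb.tendsto_right_iff]
    intro k _
    rw [eventually_atTop]
    exact ⟨k, fun j hj => pow_smul_anti hj (hp1 j i)⟩
  have hlim : ∀ i, ∃ μ : Completion M, Tendsto (fun k => ((t i k : M) : Completion M)) atTop (𝓝 μ) :=
    fun i => cauchySeq_tendsto_of_complete
      ((Completion.uniformContinuous_coe M).comp_cauchySeq (hcauchy i))
  choose μ hμ using hlim
  have hμM' : ∀ i, μ i ∈ clo M' := fun i =>
    isClosed_closure.mem_of_tendsto (hμ i) (Eventually.of_forall fun k => coe_mem_clo (htM' i k))
  have h1 : Tendsto (fun k => ((s k : M) : Completion M)) atTop (𝓝 (∑ i, f i • μ i)) := by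
    have h := tendsto_finsetSum (Finset.univ : Finset (Fin r))
      (fun i _ => (hμ i).const_smul (f i))
    refine h.congr fun k => ?_
    rw [hst k]
    change _ = ((Completion.toCompl : M →+ Completion M) (∑ i, f i • t i k))
    rw [map_sum]
    refine Finset.sum_congr rfl fun i _ => ?_
    exact (Completion.coe_smul (f i) (t i k)).symm
  have h2 : Tendsto (fun k => z - ((s k : M) : Completion M)) atTop (𝓝 0) := by
    rw [tendsto_def]
    intro U hU
    obtain ⟨k, -, hk⟩ := Groth.Agent.S10172.exists_closure_image_subset hb hU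
    rw [mem_atTop_sets]
    refine ⟨k, fun j hj => ?_⟩
    exact hk (clo_mono (pow_smul_anti (le_trans hj (Nat.le_add_left j n))) (hsP j))
  have h3 : Tendsto (fun k => z - ((s k : M) : Completion M)) atTop (𝓝 (z - ∑ i, f i • μ i)) :=
    h1.const_sub z
  have h4 := tendsto_nhds_unique h3 h2
  rw [sub_eq_zero] at h4
  rw [h4]
  refine Submodule.sum_mem _ fun i _ => Submodule.smul_mem_smul ?_ (hμM' i)
  rw [← hf]
  exact Submodule.subset_span ⟨i, rfl⟩

end Main

/-- Let R be a commutative ring, I a finitely generated ideal and M a topological R-module (additive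
uniform structure, each scalar acting uniformly continuously) having an open submodule M' whose
topology is the I-adic one, i.e. the I^n M' are open in M and form a fundamental system of
neighbourhoods of 0. Then the separated completion M^ has an open submodule whose topology is I-adic
in the same sense, and for every n ≥ 1 the map M → M^/I^n M^ is surjective with kernel I^n M,
identifying M^/I^n M^ with M/I^n M. -/
theorem result
    {R : Type u} [CommRing R] (I : Ideal R) (hI : I.FG)
    {M : Type v} [AddCommGroup M] [Module R M] [UniformSpace M] [IsUniformAddGroup M]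
    [UniformContinuousConstSMul R M]
    (M' : Submodule R M) (hopen : ∀ n : ℕ, IsOpen ((I ^ n • M' : Submodule R M) : Set M))
    (hbasis : ∀ U ∈ nhds (0 : M), ∃ n : ℕ, ((I ^ n • M' : Submodule R M) : Set M) ⊆ U) :
    (∃ M'' : Submodule R (UniformSpace.Completion M),
        (∀ n : ℕ, IsOpen ((I ^ n • M'' : Submodule R (UniformSpace.Completion M)) :
          Set (UniformSpace.Completion M))) ∧
        ∀ U ∈ nhds (0 : UniformSpace.Completion M), ∃ n : ℕ,
          ((I ^ n • M'' : Submodule R (UniformSpace.Completion M)) :
            Set (UniformSpace.Completion M)) ⊆ U) ∧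
      ∀ n : ℕ, 0 < n →
        Function.Surjective ((QuotientAddGroup.mk' (I ^ n • ⊤ : Submodule R (UniformSpace.Completion M)).toAddSubgroup).comp
          (UniformSpace.Completion.toCompl : M →+ UniformSpace.Completion M)) ∧
        ((QuotientAddGroup.mk' (I ^ n • ⊤ : Submodule R (UniformSpace.Completion M)).toAddSubgroup).comp
          (UniformSpace.Completion.toCompl : M →+ UniformSpace.Completion M)).ker = (I ^ n • ⊤ : Submodule R M).toAddSubgroup := by
  have heq : ∀ n : ℕ, I ^ n • clo M' = clo (I ^ n • M') := fun n =>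
    le_antisymm (smul_clo_le _ _) (clo_smul_le hI hopen hbasis n)
  have hb := hasBasis_pow_smul hopen hbasis
  have hM'open : IsOpen (M' : Set M) := by
    have := hopen 0
    rwa [pow_zero, Ideal.one_eq_top, Submodule.top_smul] at this
  refine ⟨⟨clo M', fun n => ?_, fun U hU => ?_⟩, fun n _ => ⟨?_, ?_⟩⟩
  · rw [heq]
    exact isOpen_clo (hopen n)
  · obtain ⟨k, -, hk⟩ := Groth.Agent.S10172.exists_closure_image_subset hb hU
    refine ⟨k, ?_⟩
    rw [heq]
    exact hk
  · intro y
    obtain ⟨w, rfl⟩ := QuotientAddGroup.mk'_surjective _ y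
    obtain ⟨m, hm⟩ := exists_sub_mem_clo (hopen n) w
    refine ⟨m, ?_⟩
    change QuotientAddGroup.mk' _ (m : Completion M) = QuotientAddGroup.mk' _ w
    rw [QuotientAddGroup.mk'_eq_mk']
    refine ⟨w - (m : Completion M), ?_, by abel⟩
    rw [← heq] at hm
    exact Submodule.smul_mono le_rfl le_top hm
  · ext m
    rw [AddMonoidHom.mem_ker]
    change QuotientAddGroup.mk' _ (m : Completion M) = 0 ↔ m ∈ (I ^ n • ⊤ : Submodule R M)
    rw [QuotientAddGroup.mk'_apply, QuotientAddGroup.eq_zero_iff]
    change (m : Completion M) ∈ (I ^ n • ⊤ : Submodule R (Completion M)) ↔ _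
    constructor
    · intro hm
      have key : ∀ w ∈ (I ^ n • ⊤ : Submodule R (Completion M)),
          ∃ m' ∈ (I ^ n • ⊤ : Submodule R M), w - (m' : Completion M) ∈ clo (I ^ n • M') := by
        intro w hw
        refine Submodule.smul_induction_on hw ?_ ?_
        · intro a ha v _
          obtain ⟨m0, hm0⟩ := exists_sub_mem_clo hM'open v
          refine ⟨a • m0, Submodule.smul_mem_smul ha Submodule.mem_top, ?_⟩
          rw [Completion.coe_smul, ← smul_sub]
          exact smul_clo_le _ _ (Submodule.smul_mem_smul ha hm0)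
        · rintro v1 v2 ⟨m1, hm1, h1⟩ ⟨m2, hm2, h2⟩
          refine ⟨m1 + m2, Submodule.add_mem _ hm1 hm2, ?_⟩
          have : v1 + v2 - ((m1 + m2 : M) : Completion M) =
              (v1 - (m1 : Completion M)) + (v2 - (m2 : Completion M)) := by
            rw [Completion.coe_add]; abel
          rw [this]
          exact Submodule.add_mem _ h1 h2
      obtain ⟨m', hm', h⟩ := key _ hm
      rw [← Completion.coe_sub] at h
      have h2 := mem_of_coe_mem_clo (hopen n) h
      have h3 : m = m' + (m - m') := by abel
      rw [h3]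
      exact Submodule.add_mem _ hm' (Submodule.smul_mono le_rfl le_top h2)
    · intro hm
      refine Submodule.smul_induction_on hm ?_ ?_
      · intro a ha v _
        rw [Completion.coe_smul]
        exact Submodule.smul_mem_smul ha Submodule.mem_top
      · intro v1 v2 h1 h2
        rw [Completion.coe_add]
        exact Submodule.add_mem _ h1 h2

end Groth.Agent.S10173
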