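import Groth.Statements.S10174
import Groth.Agent.Lib.AlgSpPts66

set_option autoImplicit false
universe u
open CategoryTheory CategoryTheory.Limits AlgebraicGeometry Topology TopologicalSpace

namespace Groth.Agent.S10174

theorem result {S : Scheme.{u}} (X : AlgSp.Space S) :
    AlgSp.IsQuasiCompactSp X.obj ↔ CompactSpace (AlgSp.Points X.obj) := by
  constructor
  · rintro ⟨U, p, hp, hs, hc⟩
    have hc' : CompactSpace U.left := hc
    constructor
    rw [← (Groth.Agent.Lib.AlgSpPts66.surjective_ofPt p hs).range_eq]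
    exact isCompact_range (AlgSp.Points.continuous_ofPt p)
  · intro hc
    obtain ⟨U, p, hp, hs⟩ := X.property.atlas
    obtain ⟨t, ht⟩ := isCompact_univ.elim_finite_subcover
      (fun V : U.left.affineOpens => AlgSp.Points.ofPt p '' ((V : U.left.Opens) : Set U.left))
      (fun V => Groth.Agent.Lib.AlgSpPts66.isOpenMap_ofPt p hp _ (V : U.left.Opens).isOpen)
      (by
        intro x _
        obtain ⟨u, rfl⟩ := Groth.Agent.Lib.AlgSpPts66.surjective_ofPt p hs x
        obtain ⟨_, ⟨V, hV, rfl⟩, huV, -⟩ :=
          (U.left.isBasis_affineOpens).exists_subset_of_mem_open (Set.mem_univ u) isOpen_univ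
        exact Set.mem_iUnion.2 ⟨⟨V, hV⟩, u, huV, rfl⟩)
    obtain ⟨U', p', hU', hp', hs'⟩ :=
      Groth.Agent.Lib.AlgSpPts66.exists_affine_chart_of_finite_cover p hp t (by
        intro x
        have hx := ht (Set.mem_univ x)
        simp only [Set.mem_iUnion] at hx
        obtain ⟨V, hV, u, hu, rfl⟩ := hx
        exact ⟨V, hV, u, hu, rfl⟩)
    exact ⟨U', p', hp', hs', inferInstance⟩

end Groth.Agent.S10174
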