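import Groth.Statements.S10175

set_option autoImplicit false
universe u
open CategoryTheory CategoryTheory.Limits AlgebraicGeometry Topology TopologicalSpace

namespace Groth.Agent.S10175

theorem result {S : Scheme.{u}} {X Y Z P : AlgSp.Space S} (f : X ⟶ Y) (g : Z ⟶ Y)
    (fst : P ⟶ Z) (snd : P ⟶ X) (h : IsPullback fst.hom snd.hom g.hom f.hom)
    (z : AlgSp.Points Z.obj) (x : AlgSp.Points X.obj)
    (e : AlgSp.Points.map g.hom z = AlgSp.Points.map f.hom x) :
    ∃ p : AlgSp.Points P.obj, AlgSp.Points.map fst.hom p = z ∧ AlgSp.Points.map snd.hom p = x := by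
  induction z using AlgSp.Points.ind with
  | h pz =>
  induction x using AlgSp.Points.ind with
  | h px =>
  rw [AlgSp.Points.map_mk, AlgSp.Points.map_mk, AlgSp.Points.mk_eq_mk_iff] at e
  obtain ⟨Ω, hΩ, w, a, b, hab⟩ := e
  have h1 := h.map (sheafToPresheaf _ _)
  have h2 := h1.map ((evaluation _ _).obj (Opposite.op (Over.mk w)))
  obtain ⟨q, hq1, hq2⟩ := Types.exists_of_isPullback h2 (Z.obj.obj.map a.op pz.val)
    (X.obj.obj.map b.op px.val) (by
      change g.hom.hom.app _ (Z.obj.obj.map a.op pz.val) = f.hom.hom.app _ (X.obj.obj.map b.op px.val)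
      rw [NatTrans.naturality_apply, NatTrans.naturality_apply]
      exact hab)
  refine ⟨AlgSp.Points.mk ⟨Ω, w, q⟩, ?_, ?_⟩
  · rw [AlgSp.Points.map_mk, AlgSp.Points.mk_eq_mk_iff]
    refine ⟨Ω, hΩ, w, 𝟙 _, a, ?_⟩
    change Z.obj.obj.map (𝟙 _).op (fst.hom.hom.app _ q) = _
    rw [op_id, Functor.map_id_apply]
    exact hq1
  · rw [AlgSp.Points.map_mk, AlgSp.Points.mk_eq_mk_iff]
    refine ⟨Ω, hΩ, w, 𝟙 _, b, ?_⟩
    change X.obj.obj.map (𝟙 _).op (snd.hom.hom.app _ q) = _
    rw [op_id, Functor.map_id_apply]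
    exact hq2

end Groth.Agent.S10175
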