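import Groth.Statements.S10176
import Groth.Agent.Lib.AlgSpPts66

set_option autoImplicit false
universe u
open CategoryTheory CategoryTheory.Limits AlgebraicGeometry Topology TopologicalSpace

namespace Groth.Agent.S10176

theorem result {S : Scheme.{u}} (X : AlgSp.Space S) {U : Over S}
    (a : (AlgSp.yon S).obj U ⟶ X.obj) (ha : AlgSp.RepWith @Etale a) :
    IsOpenMap (AlgSp.Points.ofPt a) :=
  Groth.Agent.Lib.AlgSpPts66.isOpenMap_ofPt a ha

end Groth.Agent.S10176
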