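import Groth.Statements.S10178
import Groth.Agent.Lib.AlgSpPts66

set_option autoImplicit false
universe u
open CategoryTheory CategoryTheory.Limits AlgebraicGeometry Topology TopologicalSpace

namespace Groth.Agent.S10178

theorem result {S : Scheme.{u}} (X : AlgSp.Space S) {R U : Over S}
    (s t : R ⟶ U) (p : (AlgSp.yon S).obj U ⟶ X.obj) (hp : AlgSp.IsPresentation s t p)
    (u u' : ↥U.left) :
    AlgSp.Points.ofPt p u = AlgSp.Points.ofPt p u' ↔ ∃ r : ↥R.left, t.left r = u ∧ s.left r = u' :=
  Groth.Agent.Lib.AlgSpPts66.ofPt_eq_ofPt_iff_of_isPresentation s t p hp u u'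

end Groth.Agent.S10178
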