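import Groth.Statements.S10179
import Groth.Agent.Lib.AlgSpPts66

set_option autoImplicit false
universe u
open CategoryTheory CategoryTheory.Limits AlgebraicGeometry Topology TopologicalSpace

namespace Groth.Agent.S10179

theorem result {S : Scheme.{u}} (X : AlgSp.Space S) (x : AlgSp.Points X.obj)
    (W : Set (AlgSp.Points X.obj)) (hW : IsOpen W) (hx : x ∈ W) :
    ∃ V : Set (AlgSp.Points X.obj), IsOpen V ∧ IsCompact V ∧ x ∈ V ∧ V ⊆ W := by
  obtain ⟨U, p, hp, hs⟩ := X.property.atlas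
  obtain ⟨u, rfl⟩ := Groth.Agent.Lib.AlgSpPts66.surjective_ofPt p hs x
  have hopen : IsOpen (AlgSp.Points.ofPt p ⁻¹' W) :=
    hW.preimage (AlgSp.Points.continuous_ofPt p)
  obtain ⟨_, ⟨U', hU', rfl⟩, huU', hsub⟩ :=
    (U.left.isBasis_affineOpens).exists_subset_of_mem_open (show u ∈ _ from hx) hopen
  refine ⟨AlgSp.Points.ofPt p '' (U' : Set U.left), ?_, ?_, ⟨u, huU', rfl⟩, ?_⟩
  · exact Groth.Agent.Lib.AlgSpPts66.isOpenMap_ofPt p hp _ U'.isOpen
  · exact (IsAffineOpen.isCompact hU').image (AlgSp.Points.continuous_ofPt p)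
  · rintro _ ⟨v, hv, rfl⟩
    exact hsub hv

end Groth.Agent.S10179
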