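import Groth.Statements.S10180
import Groth.Agent.Lib.AlgSpPts66

set_option autoImplicit false
universe u
open CategoryTheory CategoryTheory.Limits AlgebraicGeometry Topology TopologicalSpace

namespace Groth.Agent.S10180

theorem result {S : Scheme.{u}} (X : AlgSp.Space S) :
    AlgSp.IsQuasiCompactSp X.obj ↔
      ∃ (U : Over S) (p : (AlgSp.yon S).obj U ⟶ X.obj),
        IsAffine U.left ∧ AlgSp.RepWith @Etale p ∧ AlgSp.RepWith @Surjective p := by
  constructor
  · rintro ⟨U, p, hp, hs, hc⟩
    have hc' : CompactSpace U.left := hc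
    obtain ⟨s, hsfin, hsU⟩ :=
      (isCompact_and_isOpen_iff_finite_and_eq_biUnion_affineOpens (X := U.left)
        (U := Set.univ)).1 ⟨isCompact_univ, isOpen_univ⟩
    refine Groth.Agent.Lib.AlgSpPts66.exists_affine_chart_of_finite_cover p hp hsfin.toFinset ?_
    intro x
    obtain ⟨u, rfl⟩ := Groth.Agent.Lib.AlgSpPts66.surjective_ofPt p hs x
    have hu : u ∈ (Set.univ : Set U.left) := trivial
    rw [hsU] at hu
    simp only [Set.mem_iUnion] at hu
    obtain ⟨V, hV, huV⟩ := hu
    exact ⟨V, hsfin.mem_toFinset.2 hV, u, huV, rfl⟩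
  · rintro ⟨U, p, hU, hp, hs⟩
    exact ⟨U, p, hp, hs, inferInstance⟩

end Groth.Agent.S10180
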