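import Groth.Statements.S10181
import Groth.Agent.Lib.H69AlgSpMor

set_option autoImplicit false
set_option linter.style.haveILetI false
universe u
open CategoryTheory CategoryTheory.Limits AlgebraicGeometry Topology TopologicalSpace
open AlgSp

namespace Groth.Agent.S10181

open Groth.Agent.Lib.H69AlgSpMor

/-- The diagonal `U ⟶ R = U ×_X U` of a representable map from a separated scheme is a closed immersion. -/
theorem isClosedImmersion_diag {S : Scheme.{u}} {X : Sp S} {U R : Over S}
    (a : (AlgSp.yon S).obj U ⟶ X) (s t : R ⟶ U)
    (hpb : IsPullback ((AlgSp.yon S).map t) ((AlgSp.yon S).map s) a a) [U.left.IsSeparated]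
    (Δ : U ⟶ R) (h1 : Δ ≫ t = 𝟙 U) (h2 : Δ ≫ s = 𝟙 U) : IsClosedImmersion Δ.left := by
  let m : R ⟶ U ⨯ U := prod.lift t s
  haveI : Mono m := by
    constructor
    intro T p q hpq
    apply (yon S).map_injective
    apply hpb.hom_ext
    · rw [← Functor.map_comp, ← Functor.map_comp]
      have := congrArg (fun k => k ≫ prod.fst) hpq
      simp only [Category.assoc, m, prod.lift_fst] at this
      rw [this]
    · rw [← Functor.map_comp, ← Functor.map_comp]
      have := congrArg (fun k => k ≫ prod.snd) hpq
      simp only [Category.assoc, m, prod.lift_snd] at this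
      rw [this]
  have hΔm : Δ ≫ m = Limits.diag U := by
    apply prod.hom_ext
    · simp only [Category.assoc, m, prod.lift_fst, h1, Limits.diag]
    · simp only [Category.assoc, m, prod.lift_snd, h2, Limits.diag]
  haveI : IsClosedImmersion (Δ.left ≫ m.left) := by
    rw [← Over.comp_left, hΔm]
    rw [← MorphismProperty.cancel_right_of_respectsIso @IsClosedImmersion (Limits.diag U).left
      (Over.prodLeftIsoPullback U U).hom, diag_left_comp_prodLeftIsoPullback]
    infer_instance
  exact IsClosedImmersion.of_comp Δ.left m.left

/-- Let X be an algebraic space over a scheme S and a : h_U ⟶ X a representable etale map from a scheme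
U over S whose underlying scheme is separated. Then a is (representable and) separated, and the
scheme R = U ×_X U representing the fibre product h_U ×_X h_U is separated. -/
theorem result {S : Scheme.{u}} (X : AlgSp.Space S) {U : Over S}
    (a : (AlgSp.yon S).obj U ⟶ X.obj) (ha : AlgSp.RepWith @Etale a) [U.left.IsSeparated] :
    AlgSp.RepWith @IsSeparated a ∧
      ∀ (R : Over S) (s t : R ⟶ U), IsPullback ((AlgSp.yon S).map t) ((AlgSp.yon S).map s) a a →
        R.left.IsSeparated := by
  have hsep : AlgSp.RepWith @IsSeparated a := by
    obtain ⟨R, s, fst, hpb⟩ := ha.1 a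
    obtain ⟨t, rfl⟩ := (yon S).map_surjective fst
    obtain ⟨Δ, hΔ⟩ := (yon S).map_surjective (hpb.lift (𝟙 _) (𝟙 _) rfl)
    have h1 : Δ ≫ t = 𝟙 U := by
      apply (yon S).map_injective
      rw [Functor.map_comp, hΔ, hpb.lift_fst, CategoryTheory.Functor.map_id]
    have h2 : Δ ≫ s = 𝟙 U := by
      apply (yon S).map_injective
      rw [Functor.map_comp, hΔ, hpb.lift_snd, CategoryTheory.Functor.map_id]
    have hcl : IsClosedImmersion Δ.left := isClosedImmersion_diag a s t hpb Δ h1 h2
    let a' : (ofScheme S).obj U ⟶ X := ObjectProperty.homMk a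
    have hrep : Representable a'.hom := ha.1
    refine ((separation_iff_repWith_of_representable a' hrep).1).1 ?_
    show RepWith @IsClosedImmersion (pullback.diagonal a)
    have e : pullback.diagonal a = (yon S).map Δ ≫ hpb.isoPullback.hom := by
      apply pullback.hom_ext
      · simp only [pullback.diagonal_fst, Category.assoc, IsPullback.isoPullback_hom_fst, hΔ,
          hpb.lift_fst]
      · simp only [pullback.diagonal_snd, Category.assoc, IsPullback.isoPullback_hom_snd, hΔ,
          hpb.lift_snd]
    rw [e, MorphismProperty.cancel_right_of_respectsIso (RepWith (S := S) @IsClosedImmersion)]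
    exact (repWith_yon_map_iff _ Δ).2 hcl
  refine ⟨hsep, fun R s t hpb => ?_⟩
  haveI : IsSeparated s.left := hsep.2 a _ s hpb
  have : terminal.from R.left = s.left ≫ terminal.from U.left := (terminal.comp_from _).symm
  constructor
  rw [this]
  infer_instance

end Groth.Agent.S10181
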