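import Groth.Statements.S10182
import Groth.Agent.Lib.H69AlgSp
import Groth.Agent.Lib.H69FppfLocal

set_option autoImplicit false
set_option linter.style.haveILetI false
universe u
open CategoryTheory CategoryTheory.Limits AlgebraicGeometry Topology TopologicalSpace
open AlgSp

namespace Groth.Agent.S10182

/-- Let X be an algebraic space over a scheme S, U a scheme over S whose underlying scheme is
quasi-separated, p : h_U ⟶ X representable etale and surjective, and R a scheme over S with h_R =
h_U ×_X h_U. If one of the two projections R ⟶ U is quasi-compact, then X is quasi-separated over S.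
(The published statement concludes absolute quasi-separatedness, i.e. over the integers; this row
concludes quasi-separatedness of the diagonal over S, which the same argument gives and which the
absolute notion implies.) -/
theorem result {S : Scheme.{u}} (X : AlgSp.Space S) {R U : Over S}
    (p : (AlgSp.yon S).obj U ⟶ X.obj) (hp : AlgSp.RepWith @Etale p) (hs : AlgSp.RepWith @Surjective p)
    [QuasiSeparatedSpace ↥U.left] (s t : R ⟶ U)
    (hR : IsPullback ((AlgSp.yon S).map t) ((AlgSp.yon S).map s) p p) [QuasiCompact t.left] :
    AlgSp.IsQuasiSeparatedSp X.obj := by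
  have key := Lib.H69AlgSp.repWith_diag_iff_of_atlas X.property.diag p hp hs t s hR @QuasiCompact
  refine key.2 ?_
  -- `(t, s) : R ⟶ U × U` followed by the first projection is `t`
  haveI : QuasiSeparated U.hom := inferInstance
  haveI : QuasiSeparated (pullback.fst U.hom U.hom) := inferInstance
  haveI : QuasiSeparated (prod.fst : U ⨯ U ⟶ U).left := by
    rw [← Over.prodLeftIsoPullback_hom_fst]
    infer_instance
  haveI : QuasiCompact ((prod.lift t s : R ⟶ U ⨯ U).left ≫ (prod.fst : U ⨯ U ⟶ U).left) := by
    rw [← Over.comp_left, prod.lift_fst]
    infer_instance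
  exact QuasiCompact.of_comp (prod.lift t s : R ⟶ U ⨯ U).left (prod.fst : U ⨯ U ⟶ U).left

end Groth.Agent.S10182
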