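import Groth.Statements.S10183
import Groth.Agent.Lib.H86AlgSpOpen

set_option autoImplicit false
set_option linter.style.haveILetI false
universe u
open CategoryTheory CategoryTheory.Limits AlgebraicGeometry Topology TopologicalSpace
open AlgSp

namespace Groth.Agent.S10183

open Groth.Agent.Lib.H86AlgSpPoints Groth.Agent.Lib.H86AlgSpSub Groth.Agent.Lib.H86AlgSpOpen

/-- Let X be an algebraic space over a scheme S, a : h_U ⟶ X a representable etale map from a scheme U
over S, and R a scheme over S with h_R = h_U ×_X h_U whose two projections s, t : R ⟶ U are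
quasi-compact (for instance if a is quasi-compact). Then the maps |U| → |X| and |R| → |X| have
finite fibres. -/
theorem result {S : Scheme.{u}} (X : AlgSp.Space S) {R U : Over S}
    (a : (AlgSp.yon S).obj U ⟶ X.obj) (ha : AlgSp.RepWith @Etale a) (s t : R ⟶ U)
    (hR : IsPullback ((AlgSp.yon S).map t) ((AlgSp.yon S).map s) a a)
    [QuasiCompact s.left] [QuasiCompact t.left] (x : AlgSp.Points X.obj) :
    (AlgSp.Points.ofPt a ⁻¹' {x}).Finite ∧
      (AlgSp.Points.ofPt ((AlgSp.yon S).map t ≫ a) ⁻¹' {x}).Finite := by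
  haveI hse : Etale s.left := ha.2 a ((yon S).map t) s hR
  haveI hte : Etale t.left := ha.2 a ((yon S).map s) t hR.flip
  haveI : LocallyQuasiFinite s.left := Lib.AlgSpBasic.locallyQuasiFinite_of_etale s.left
  haveI : LocallyQuasiFinite t.left := Lib.AlgSpBasic.locallyQuasiFinite_of_etale t.left
  have h1 : (AlgSp.Points.ofPt a ⁻¹' {x}).Finite := by
    by_cases hne : (AlgSp.Points.ofPt a ⁻¹' {x}).Nonempty
    · obtain ⟨u₀, hu₀⟩ := hne
      refine (((s.left.finite_preimage_singleton u₀).image t.left)).subset ?_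
      intro u hu
      have hz : Points.map a (Points.ofScheme U u) = Points.ofPt a u₀ := by
        rw [← Points.ofPt_eq_map_ofScheme]
        exact hu.trans hu₀.symm
      obtain ⟨r, hr1, hr2⟩ := exists_of_isPullback_rep hR (Points.ofScheme U u) u₀ hz
      rw [ofPt_yon_map] at hr1
      exact ⟨r, hr2, (Points.schemeEquiv U).injective hr1⟩
    · rw [Set.not_nonempty_iff_eq_empty] at hne
      rw [hne]
      exact Set.finite_empty
  refine ⟨h1, ?_⟩
  have h2 : AlgSp.Points.ofPt ((AlgSp.yon S).map t ≫ a) ⁻¹' {x} =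
      t.left ⁻¹' (AlgSp.Points.ofPt a ⁻¹' {x}) := by
    ext r
    simp only [Set.mem_preimage, Set.mem_singleton_iff, ofPt_map_comp]
  rw [h2]
  exact t.left.finite_preimage h1

end Groth.Agent.S10183
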