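import Groth.Statements.S10184
import Groth.Agent.Lib.H69AlgSp
import Mathlib.AlgebraicGeometry.Morphisms.Separated

set_option autoImplicit false
set_option linter.style.haveILetI false
universe u
open CategoryTheory CategoryTheory.Limits AlgebraicGeometry Topology TopologicalSpace
open AlgSp

namespace Groth.Agent.S10184

/-- Let X be an algebraic space over a scheme S such that for all affine schemes U, V over S mapping to
X, every scheme P over S representing h_U ×_X h_V is quasi-compact. Then X is quasi-separated over
S. (The published statement is about absolute quasi-separatedness, over the integers, which this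
hypothesis also gives and which implies quasi-separatedness over S.) -/
theorem result {S : Scheme.{u}} (X : AlgSp.Space S)
    (h : ∀ (U V P : Over S) (a : (AlgSp.yon S).obj U ⟶ X.obj) (b : (AlgSp.yon S).obj V ⟶ X.obj)
      (fst : P ⟶ U) (snd : P ⟶ V),
      IsAffine U.left → IsAffine V.left →
      IsPullback ((AlgSp.yon S).map fst) ((AlgSp.yon S).map snd) a b → CompactSpace ↥P.left) :
    AlgSp.IsQuasiSeparatedSp X.obj := by
  apply Lib.H69AlgSp.repWith_of_forall_affine (Limits.diag X.obj) X.property.diag @QuasiCompact
  intro T hT z
  obtain ⟨V', snd', fst', sqV⟩ := X.property.diag z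
  refine ⟨(yon S).obj T, (yon S).obj V', z, fst', (yon S).map snd', sqV, 𝟙 _,
    Category.id_comp _, ?_⟩
  rw [repWith_yon_map_iff]
  obtain ⟨W, q, p', sqW⟩ := X.property.representable_from_yon (z ≫ prod.fst) (z ≫ prod.snd)
  obtain ⟨p, rfl⟩ := (yon S).map_surjective p'
  haveI : CompactSpace ↥W.left := h T T W _ _ p q hT hT sqW
  obtain ⟨k, sqk⟩ := Lib.H69AlgSp.exists_isPullback_diag z fst' snd' sqV p q sqW
  have sqk' := sqk.map (Over.forget S)
  haveI : IsAffine T.left := hT
  haveI : IsClosedImmersion (Limits.diag T).left := by
    have e := diag_left_comp_prodLeftIsoPullback T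
    have : (Limits.diag T).left = pullback.diagonal T.hom ≫ (Over.prodLeftIsoPullback T T).inv := by
      rw [← e, Category.assoc, Iso.hom_inv_id, Category.comp_id]
    rw [this]
    infer_instance
  haveI : IsClosedImmersion k.left :=
    MorphismProperty.of_isPullback (P := @IsClosedImmersion) sqk'.flip
      (inferInstance : IsClosedImmersion (Limits.diag T).left)
  haveI : CompactSpace ↥V'.left := QuasiCompact.compactSpace_of_compactSpace k.left
  change QuasiCompact snd'.left
  infer_instance

end Groth.Agent.S10184
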