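import Groth.Statements.S10186
import Groth.Agent.Lib.H69AlgSp
import Mathlib.AlgebraicGeometry.Morphisms.Separated

set_option autoImplicit false
set_option linter.style.haveILetI false
universe u
open CategoryTheory CategoryTheory.Limits AlgebraicGeometry Topology TopologicalSpace
open AlgSp

namespace Groth.Agent.S10186

/-- Let X be an algebraic space over a scheme S such that for all affine schemes U, V over S mapping to
X and every scheme P over S representing h_U ×_X h_V, the scheme P is affine and the ring map from
the tensor product over the integers of the global sections of U and V to the global sections of P,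
induced by the two projections, is surjective. Then X is separated over S. (The published statement
concerns absolute separatedness, over the integers, which this hypothesis also gives and which
implies separatedness over S.) -/
theorem result {S : Scheme.{u}} (X : AlgSp.Space S)
    (h : ∀ (U V P : Over S) (a : (AlgSp.yon S).obj U ⟶ X.obj) (b : (AlgSp.yon S).obj V ⟶ X.obj)
      (fst : P ⟶ U) (snd : P ⟶ V),
      IsAffine U.left → IsAffine V.left →
      IsPullback ((AlgSp.yon S).map fst) ((AlgSp.yon S).map snd) a b →
        IsAffine P.left ∧ Function.Surjective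
          (Algebra.TensorProduct.productMap fst.left.appTop.hom.toIntAlgHom snd.left.appTop.hom.toIntAlgHom)) :
    AlgSp.IsSeparatedSp X.obj := by
  apply Lib.H69AlgSp.repWith_of_forall_affine (Limits.diag X.obj) X.property.diag
    @IsClosedImmersion
  intro T hT z
  obtain ⟨V', snd', fst', sqV⟩ := X.property.diag z
  refine ⟨(yon S).obj T, (yon S).obj V', z, fst', (yon S).map snd', sqV, 𝟙 _,
    Category.id_comp _, ?_⟩
  rw [repWith_yon_map_iff]
  obtain ⟨W, q, p', sqW⟩ := X.property.representable_from_yon (z ≫ prod.fst) (z ≫ prod.snd)
  obtain ⟨p, rfl⟩ := (yon S).map_surjective p'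
  obtain ⟨hWaff, hsurj⟩ := h T T W _ _ p q hT hT sqW
  obtain ⟨k, sqk⟩ := Lib.H69AlgSp.exists_isPullback_diag z fst' snd' sqV p q sqW
  have sqk' := sqk.map (Over.forget S)
  haveI : IsAffine T.left := hT
  haveI : IsAffine W.left := hWaff
  haveI : IsClosedImmersion (Limits.diag T).left := by
    have e := diag_left_comp_prodLeftIsoPullback T
    have : (Limits.diag T).left = pullback.diagonal T.hom ≫ (Over.prodLeftIsoPullback T T).inv := by
      rw [← e, Category.assoc, Iso.hom_inv_id, Category.comp_id]
    rw [this]
    infer_instance
  haveI : IsClosedImmersion k.left :=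
    MorphismProperty.of_isPullback (P := @IsClosedImmersion) sqk'.flip
      (inferInstance : IsClosedImmersion (Limits.diag T).left)
  obtain ⟨hV'aff, hksurj⟩ := IsClosedImmersion.isAffine_surjective_of_isAffine (f := k.left)
  haveI := hV'aff
  have hkp : k ≫ p = snd' := by
    have := sqk.w =≫ prod.fst
    simpa [prod.lift_fst] using this
  have hkq : k ≫ q = snd' := by
    have := sqk.w =≫ prod.snd
    simpa [prod.lift_snd] using this
  have hkp' : ∀ a, k.left.appTop (p.left.appTop a) = snd'.left.appTop a := by
    intro a
    rw [← hkp, Over.comp_left, Scheme.Hom.comp_appTop]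
    rfl
  have hkq' : ∀ a, k.left.appTop (q.left.appTop a) = snd'.left.appTop a := by
    intro a
    rw [← hkq, Over.comp_left, Scheme.Hom.comp_appTop]
    rfl
  change IsClosedImmersion snd'.left
  apply IsClosedImmersion.of_surjective_of_isAffine
  intro x
  obtain ⟨w, rfl⟩ := hksurj x
  obtain ⟨y, rfl⟩ := hsurj w
  induction y using TensorProduct.induction_on with
  | zero => exact ⟨0, by simp⟩
  | tmul a b =>
    refine ⟨a * b, ?_⟩
    rw [Algebra.TensorProduct.productMap_apply_tmul, map_mul, map_mul]
    change _ = k.left.appTop (p.left.appTop a) * k.left.appTop (q.left.appTop b)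
    rw [hkp', hkq']
  | add y1 y2 h1 h2 =>
    obtain ⟨a1, h1⟩ := h1
    obtain ⟨a2, h2⟩ := h2
    exact ⟨a1 + a2, by rw [map_add, map_add, map_add, h1, h2]⟩

end Groth.Agent.S10186
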