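import Groth.Statements.S10188
-- import your own Groth.Agent.* helpers here

set_option autoImplicit false
set_option linter.style.haveILetI false
universe u
open CategoryTheory CategoryTheory.Limits AlgebraicGeometry Topology TopologicalSpace
open AlgSp

namespace Groth.Agent.S10188

/-- Let P be a property of schemes that is local in the etale topology (for every scheme V and every
etale covering family of V, V has P if and only if all members have P), and let X be an algebraic
space over a scheme S. Then X has P etale locally (some surjective etale chart from a scheme with P)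
if and only if every scheme admitting a representable etale map to X has P. -/
theorem result {S : Scheme.{u}} (P : Scheme.{u} → Prop)
    (hP : ∀ (V : Scheme.{u}) (𝒰 : Scheme.Cover.{u} (Scheme.precoverage @Etale) V), P V ↔ ∀ i, P (𝒰.X i))
    (X : AlgSp.Space S) :
    AlgSp.EtaleLocally P X.obj ↔
      ∀ (U : Over S) (a : (AlgSp.yon S).obj U ⟶ X.obj), AlgSp.RepWith @Etale a → P U.left := by
  constructor
  · rintro ⟨U, p, hpe, hps, hPU⟩ V a ha
    obtain ⟨W, snd, fst, hpb⟩ := hpe.1 a
    have h1 : Etale snd.left := hpe.2 a fst snd hpb
    have h2 : Surjective snd.left := hps.2 a fst snd hpb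
    obtain ⟨fst', rfl⟩ := (yon S).map_surjective fst
    have h3 : Etale fst'.left := ha.2 p ((yon S).map snd) fst' hpb.flip
    -- cover of U by W and U itself
    let 𝒰₁ : Scheme.Cover.{u} (Scheme.precoverage @Etale) U.left :=
      Scheme.Cover.mkOfCovers (Option PUnit.{u+1}) (fun o => o.elim U.left (fun _ => W.left))
        (fun o => match o with
          | none => 𝟙 U.left
          | some _ => fst'.left)
        (fun x => ⟨none, x, rfl⟩)
        (fun o => match o with
          | none => (inferInstance : Etale (𝟙 U.left))
          | some _ => h3)
    have hPW : P W.left := ((hP U.left 𝒰₁).1 hPU) (some PUnit.unit)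
    let 𝒰₂ : Scheme.Cover.{u} (Scheme.precoverage @Etale) V.left :=
      Scheme.Cover.mkOfCovers PUnit.{u+1} (fun _ => W.left) (fun _ => snd.left)
        (fun x => by
          obtain ⟨y, hy⟩ := h2.surj x
          exact ⟨PUnit.unit, y, hy⟩)
        (fun _ => h1)
    exact (hP V.left 𝒰₂).2 (fun _ => hPW)
  · intro h
    obtain ⟨U, p, h1, h2⟩ := X.property.atlas
    exact ⟨U, p, h1, h2, h U p h1⟩

end Groth.Agent.S10188
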