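import Groth.Statements.S10190
import Groth.Agent.Lib.H86AlgSpPoints
import Mathlib.RingTheory.Ideal.Height
import Mathlib.AlgebraicGeometry.AffineScheme

set_option autoImplicit false
set_option linter.style.haveILetI false
universe u
open CategoryTheory CategoryTheory.Limits AlgebraicGeometry Topology TopologicalSpace
open AlgSp

namespace Groth.Agent.S10190

open Groth.Agent.Lib.H86AlgSpPoints

/-- Every nonempty open of a scheme contains a point whose local ring has dimension `0`. -/
theorem exists_dim_zero_of_open {U : Scheme.{u}} (O : U.Opens) (u₀ : U) (h : u₀ ∈ O) :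
    ∃ u ∈ O, ringKrullDim (U.presheaf.stalk u) = 0 := by
  obtain ⟨V, hV, hu₀V, hVO⟩ := exists_isAffineOpen_mem_and_subset h
  haveI : Nonempty V := ⟨⟨u₀, hu₀V⟩⟩
  haveI : Nontrivial Γ(U, V) := inferInstance
  obtain ⟨⟨𝔭, h𝔭⟩⟩ := Ideal.nonempty_minimalPrimes (I := (⊥ : Ideal Γ(U, V))) bot_ne_top
  haveI : 𝔭.IsPrime := h𝔭.1.1
  let y : PrimeSpectrum Γ(U, V) := ⟨𝔭, inferInstance⟩
  have hy : hV.fromSpec y ∈ V := by
    have := hV.range_fromSpec
    rw [← SetLike.mem_coe, ← this]
    exact ⟨y, rfl⟩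
  refine ⟨hV.fromSpec y, hVO hy, ?_⟩
  have hloc := hV.isLocalization_stalk' y hy
  have h1 := @IsLocalization.AtPrime.ringKrullDim_eq_height _ _ y.asIdeal _ _ _ (_) hloc
  have h2 : y.asIdeal.height = 0 := Ideal.height_eq_zero_iff.2 h𝔭
  rw [h2] at h1
  exact h1

/-- For an algebraic space X over a scheme S, the set of codimension 0 points of X (points x of |X| such
that, for some representable etale h_U ⟶ X from a scheme U and some point u of U mapping to x, the
local ring of U at u has dimension 0) is dense in |X|. -/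
theorem result {S : Scheme.{u}} (X : AlgSp.Space S) :
    Dense {x : AlgSp.Points X.obj |
      AlgSp.HasAt (fun U u => ringKrullDim ↥(U.presheaf.stalk u) = 0) X.obj x} := by
  rw [dense_iff_inter_open]
  rintro W hW ⟨x₀, hx₀⟩
  obtain ⟨U, p, hpe, hps⟩ := X.property.atlas
  obtain ⟨u₀, rfl⟩ := ofPt_surjective hps x₀
  let O : U.left.Opens := ⟨Points.ofPt p ⁻¹' W, (Points.continuous_ofPt p).isOpen_preimage _ hW⟩
  obtain ⟨u, huO, hu⟩ := exists_dim_zero_of_open O u₀ hx₀
  exact ⟨Points.ofPt p u, huO, U, p, u, hpe, rfl, hu⟩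

end Groth.Agent.S10190
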