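import Groth.Statements.S10191
import Groth.Agent.Lib.H86AlgSpOpen

set_option autoImplicit false
set_option linter.style.haveILetI false
universe u
open CategoryTheory CategoryTheory.Limits AlgebraicGeometry Topology TopologicalSpace
open AlgSp

namespace Groth.Agent.S10191

open Groth.Agent.Lib.H86AlgSpPoints Groth.Agent.Lib.H86AlgSpSub Groth.Agent.Lib.H86AlgSpOpen

/-- Let i : Z ⟶ X be an immersion of algebraic spaces over a scheme S (a morphism representable by
immersions of schemes). Then |i| : |Z| → |X| is a homeomorphism onto its image, and this image is a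
locally closed subset of |X|. -/
theorem result {S : Scheme.{u}} {Z X : AlgSp.Space S} (i : Z ⟶ X)
    (hi : AlgSp.RepWith @IsImmersion i.hom) :
    IsEmbedding (AlgSp.Points.map i.hom) ∧ IsLocallyClosed (Set.range (AlgSp.Points.map i.hom)) := by
  haveI hm : Mono i.hom := Lib.AlgSpBasic.mono_of_repWith (P := @IsImmersion)
    (fun _ _ f (hf : IsImmersion f) => (inferInstance : Mono f)) hi
  obtain ⟨U, p, hpe, hps⟩ := X.property.atlas
  obtain ⟨V, snd, fst, hpb⟩ := hi.1 p
  have himm : IsImmersion snd.left := hi.2 p fst snd hpb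
  have hfs : RepWith @Surjective fst := Lib.AlgSpBasic.repWith_fst_of_isPullback _ hpb hps
  have hq : IsQuotientMap (Points.ofPt p) :=
    (isOpenMap_ofPt hpe).isQuotientMap (Points.continuous_ofPt p) (ofPt_surjective hps)
  refine ⟨⟨⟨le_antisymm (Points.continuous_map i.hom).le_induced ?_⟩,
    map_injective_of_mono i.hom⟩, ?_⟩
  · -- every open of `|Z|` is induced
    intro A hA
    rw [isOpen_induced_iff]
    have hA' : IsOpen (Points.ofPt fst ⁻¹' A) := (Points.continuous_ofPt fst).isOpen_preimage _ hA
    obtain ⟨B', hB', hB'A⟩ := snd.left.isEmbedding.isInducing.isOpen_iff.1 hA'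
    refine ⟨Points.ofPt p '' B', isOpenMap_ofPt hpe _ hB', ?_⟩
    ext z
    constructor
    · rintro ⟨u, hu, huz⟩
      obtain ⟨v, hv1, hv2⟩ := exists_of_isPullback_rep hpb z u huz.symm
      have : v ∈ snd.left ⁻¹' B' := by
        change snd.left v ∈ B'
        rw [hv2]; exact hu
      rw [hB'A] at this
      rw [← hv1]
      exact this
    · intro hz
      obtain ⟨v, rfl⟩ := ofPt_surjective hfs z
      have hv : v ∈ snd.left ⁻¹' B' := by
        rw [hB'A]; exact hz
      exact ⟨snd.left v, hv, (map_ofPt_fst hpb.w v).symm⟩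
  · rw [isLocallyClosed_iff_isOpen_coborder, ← hq.isOpen_preimage,
      ← coborder_preimage (isOpenMap_ofPt hpe) (Points.continuous_ofPt p),
      ← isLocallyClosed_iff_isOpen_coborder, ← range_left_eq_preimage hpb]
    exact snd.left.isLocallyClosed_range

end Groth.Agent.S10191
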