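import Groth.Statements.S10193
import Groth.Agent.Lib.H86AlgSpOpen
import Groth.Agent.Lib.H69AlgSp
import Groth.Agent.Lib.H69FppfLocal

set_option autoImplicit false
set_option linter.style.haveILetI false
universe u
open CategoryTheory CategoryTheory.Limits AlgebraicGeometry Topology TopologicalSpace
open AlgSp

namespace Groth.Agent.S10193

open Groth.Agent.Lib.H86AlgSpPoints Groth.Agent.Lib.H86AlgSpSub Groth.Agent.Lib.H86AlgSpOpen

/-- Let X, Y be algebraic spaces over a scheme S, i : Z ⟶ X a closed subspace (a morphism representable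
by closed immersions) and assume Y is reduced. Then a morphism f : Y ⟶ X factors through Z if and
only if |f|(|Y|) is contained in |Z|. -/
theorem result {S : Scheme.{u}} {X Y Z : AlgSp.Space S}
    (i : Z ⟶ X) (hi : AlgSp.RepWith @IsClosedImmersion i.hom) (hY : AlgSp.IsReducedSp Y.obj) (f : Y ⟶ X) :
    (∃ g : Y ⟶ Z, g ≫ i = f) ↔
      Set.range (AlgSp.Points.map f.hom) ⊆ Set.range (AlgSp.Points.map i.hom) := by
  constructor
  · rintro ⟨g, rfl⟩
    rintro _ ⟨y, rfl⟩
    exact ⟨Points.map g.hom y, by rw [← Points.map_comp]; rfl⟩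
  · intro h
    have sq := IsPullback.of_hasPullback f.hom i.hom
    have hfst : RepWith @IsClosedImmersion (pullback.fst f.hom i.hom) :=
      Lib.AlgSpBasic.repWith_fst_of_isPullback _ sq hi
    have hsurj : Function.Surjective (Points.map (pullback.fst f.hom i.hom)) := by
      rw [← Set.range_eq_univ, range_map_fst_of_isPullback sq, Set.eq_univ_iff_forall]
      intro y
      exact h ⟨y, rfl⟩
    obtain ⟨V, q, hqe, hqs, hVred⟩ := hY
    obtain ⟨V', g, fst', sqV⟩ := hfst.1 q
    haveI : IsClosedImmersion g.left := hfst.2 q fst' g sqV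
    haveI : Surjective g.left := ⟨fun t => by
      have := range_left_eq_preimage sqV
      rw [hsurj.range_eq, Set.preimage_univ] at this
      exact Set.range_eq_univ.1 this t⟩
    haveI : IsReduced V.left := hVred
    have hiso : IsIso g.left := isIso_of_isClosedImmersion_of_surjective g.left
    have hrep : RepWith (MorphismProperty.isomorphisms Scheme.{u}) (pullback.fst f.hom i.hom) :=
      (Lib.H69AlgSp.repWith_iff_of_chart (pullback.fst f.hom i.hom) hfst.1 q hqe hqs fst' g sqV
        (MorphismProperty.isomorphisms Scheme.{u})).2 hiso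
    haveI := isIso_of_repWith_iso hrep
    exact ⟨ObjectProperty.homMk (inv (pullback.fst f.hom i.hom) ≫ pullback.snd f.hom i.hom),
      ObjectProperty.hom_ext _ (by
        change (inv (pullback.fst f.hom i.hom) ≫ pullback.snd f.hom i.hom) ≫ i.hom = f.hom
        rw [Category.assoc, ← pullback.condition, IsIso.inv_hom_id_assoc])⟩

end Groth.Agent.S10193
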