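import Groth.Statements.S10197
import Groth.Agent.Lib.H86ZarGlue

set_option autoImplicit false
set_option linter.style.haveILetI false
universe u
open CategoryTheory CategoryTheory.Limits AlgebraicGeometry Topology TopologicalSpace
open AlgSp

namespace Groth.Agent.S10197

open Groth.Agent.Lib.H86AlgSpPoints Groth.Agent.Lib.H86AlgSpSub Groth.Agent.Lib.H86AlgSpOpen
open Groth.Agent.Lib.H86ZarGlue
open Groth.Agent.Lib

/-- An algebraic space X over a scheme S has a largest open subspace which is a scheme: there is an open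
subspace X' ⟶ X whose underlying sheaf is representable by a scheme over S, through which every open
subspace of X with representable underlying sheaf factors. -/
theorem result {S : Scheme.{u}} (X : AlgSp.Space S) :
    ∃ (X' : AlgSp.Space S) (j : X' ⟶ X), AlgSp.RepWith @IsOpenImmersion j.hom ∧ X'.obj.obj.IsRepresentable ∧
      ∀ (X'' : AlgSp.Space S) (j'' : X'' ⟶ X), AlgSp.RepWith @IsOpenImmersion j''.hom →
        X''.obj.obj.IsRepresentable → ∃ k : X'' ⟶ X', k ≫ j = j'' := by
  -- the union of the images of the representable open subspaces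
  let W : Set (Points X.obj) := {x | ∃ (X'' : AlgSp.Space S) (j'' : X'' ⟶ X),
    RepWith @IsOpenImmersion j''.hom ∧ X''.obj.obj.IsRepresentable ∧ x ∈ Set.range (Points.map j''.hom)}
  have hopen : ∀ {F G : Sp S} {g : F ⟶ G}, RepWith @IsOpenImmersion g → IsOpenMap (Points.map g) :=
    fun hg => isOpenMap_map_of_repWith (fun f (hf : IsOpenImmersion f) => f.isOpenEmbedding.isOpenMap) hg
  have hW : IsOpen W := by
    rw [isOpen_iff_forall_mem_open]
    rintro x ⟨X'', j'', hj'', hr, hx⟩
    exact ⟨Set.range (Points.map j''.hom), fun y hy => ⟨X'', j'', hj'', hr, hy⟩,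
      (hopen hj'').isOpen_range, hx⟩
  let X' : AlgSp.Space S := ⟨openSub X.obj W, isAlgSpace_openSub X.property hW⟩
  let j : X' ⟶ X := ObjectProperty.homMk (openSubι X.obj W)
  have hj : RepWith @IsOpenImmersion j.hom := openSubι_repWith hW
  have hjr : Set.range (Points.map j.hom) = W := range_map_openSubι
  have hfac : ∀ (X'' : AlgSp.Space S) (j'' : X'' ⟶ X), RepWith @IsOpenImmersion j''.hom →
      X''.obj.obj.IsRepresentable → ∃ k : X'' ⟶ X', k ≫ j = j'' := by
    intro X'' j'' hj'' hr
    obtain ⟨g, hg⟩ := exists_factor_of_range_subset hj j''.hom (by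
      rw [hjr]
      rintro _ ⟨y, rfl⟩
      exact ⟨X'', j'', hj'', hr, y, rfl⟩)
    exact ⟨ObjectProperty.homMk g, ObjectProperty.hom_ext _ hg⟩
  refine ⟨X', j, hj, ?_, hfac⟩
  -- representability: cover `X'` by the representable open subspaces through points of an atlas
  obtain ⟨U, p, hpe, hps⟩ := X.property.atlas
  let ι : Type u := {u : ↥U.left // Points.ofPt p u ∈ W}
  have hch : ∀ i : ι, ∃ (X'' : AlgSp.Space S) (j'' : X'' ⟶ X),
      RepWith @IsOpenImmersion j''.hom ∧ X''.obj.obj.IsRepresentable ∧
        Points.ofPt p i.1 ∈ Set.range (Points.map j''.hom) := fun i => i.2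
  choose X'' j'' hj'' hr hmem using hch
  have hV : ∀ i : ι, ∃ (V : Over S), Nonempty ((yon S).obj V ≅ (X'' i).obj) := fun i => by
    obtain ⟨V, ⟨e⟩⟩ := hr i
    exact ⟨V, ⟨isoOfRepresentableBy e⟩⟩
  choose V hVe using hV
  let e : ∀ i, (yon S).obj (V i) ≅ (X'' i).obj := fun i => (hVe i).some
  have hk : ∀ i, ∃ k : X'' i ⟶ X', k ≫ j = j'' i := fun i => hfac _ _ (hj'' i) (hr i)
  choose k hkj using hk
  let f : ∀ i, (yon S).obj (V i) ⟶ X'.obj := fun i => (e i).hom ≫ (k i).hom
  have hf : ∀ i, RepWith @IsOpenImmersion (f i) := by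
    intro i
    have h1 : RepWith @IsOpenImmersion (k i).hom := by
      apply repWith_of_comp_mono (openSubι X.obj W)
      have : (k i).hom ≫ openSubι X.obj W = (j'' i).hom := congrArg (fun m => m.hom) (hkj i)
      rw [this]
      exact hj'' i
    exact (MorphismProperty.cancel_left_of_respectsIso (RepWith (S := S) @IsOpenImmersion)
      (e i).hom (k i).hom).2 h1
  refine isRepresentable_of_openCover f hf fun x' => ?_
  have hx : Points.map j.hom x' ∈ W := hjr ▸ ⟨x', rfl⟩
  obtain ⟨u, hu⟩ := ofPt_surjective hps (Points.map j.hom x')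
  let i : ι := ⟨u, hu ▸ hx⟩
  obtain ⟨y, hy⟩ := hmem i
  refine ⟨i, Points.map (e i).inv y, ?_⟩
  apply map_injective_of_mono (openSubι X.obj W)
  have h2 : (f i) ≫ openSubι X.obj W = (e i).hom ≫ (j'' i).hom := by
    have : (k i).hom ≫ openSubι X.obj W = (j'' i).hom := congrArg (fun m => m.hom) (hkj i)
    rw [Category.assoc, this]
  rw [← Points.map_comp, h2, ← Points.map_comp, ← Category.assoc, Iso.inv_hom_id,
    Category.id_comp, hy]
  exact hu

end Groth.Agent.S10197
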