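import Groth.Statements.S10198
import Groth.Agent.S10182
import Groth.Agent.S10196
import Groth.Agent.Lib.H86AlgSpDiag
import Groth.Agent.Lib.H69AlgSp
import Groth.Agent.Lib.H69FppfLocal

set_option autoImplicit false
set_option linter.style.haveILetI false
universe u
open CategoryTheory CategoryTheory.Limits AlgebraicGeometry Topology TopologicalSpace
open AlgSp

namespace Groth.Agent.S10198

open Groth.Agent.Lib.H86AlgSpPoints Groth.Agent.Lib.H86AlgSpSub Groth.Agent.Lib.H86AlgSpOpen
open Groth.Agent.Lib.H86AlgSpDiag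
open Groth.Agent.Lib

/-- The product over `S` of an affine scheme mapping into an affine open of `S` with itself is
quasi-compact. -/
theorem compactSpace_prod {S : Scheme.{u}} (U : Over S) (V : U.left.Opens) (hV : IsAffineOpen V)
    (W : S.Opens) (hW : IsAffineOpen W) (hVW : V ≤ U.hom ⁻¹ᵁ W) :
    CompactSpace ↥((Over.mk (V.ι ≫ U.hom) : Over S) ⨯ (Over.mk (V.ι ≫ U.hom) : Over S)).left := by
  haveI : IsAffine (V : Scheme.{u}) := hV
  haveI : IsAffine (W : Scheme.{u}) := hW
  let v : (V : Scheme.{u}) ⟶ W := U.hom.resLE W V hVW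
  have hv : v ≫ W.ι = V.ι ≫ U.hom := Scheme.Hom.resLE_comp_ι _ _
  have h1 : IsPullback (pullback.fst (V.ι ≫ U.hom) (V.ι ≫ U.hom)) (pullback.snd _ _)
      (v ≫ W.ι) (v ≫ W.ι) := by
    rw [hv]
    exact IsPullback.of_hasPullback _ _
  have h2 := isPullback_of_comp_mono W.ι h1
  haveI : IsAffine (pullback (V.ι ≫ U.hom) (V.ι ≫ U.hom)) := IsAffine.of_isIso h2.isoPullback.hom
  haveI : IsAffine (pullback (Over.mk (V.ι ≫ U.hom) : Over S).hom
      (Over.mk (V.ι ≫ U.hom) : Over S).hom) :=
    ‹IsAffine (pullback (V.ι ≫ U.hom) (V.ι ≫ U.hom))›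
  haveI : IsAffine ((Over.mk (V.ι ≫ U.hom) : Over S) ⨯ (Over.mk (V.ι ≫ U.hom) : Over S)).left :=
    IsAffine.of_isIso (Over.prodLeftIsoPullback _ _).hom
  infer_instance

/-- (1) if and only if (3): for an algebraic space X over a scheme S, X is Zariski locally
quasi-separated over S (it has a Zariski covering by open subspaces whose diagonals over S are
quasi-compact) if and only if X has a Zariski covering by open subspaces each of which admits a
quasi-compact, etale, surjective map from an affine scheme. Since the second condition does not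
mention S, being Zariski locally quasi-separated does not depend on the base. -/
theorem result {S : Scheme.{u}} (X : AlgSp.Space S) :
    (∃ (ι : Type u) (Xi : ι → AlgSp.Space S) (j : ∀ i, Xi i ⟶ X),
        AlgSp.IsZarCover (fun i => (Xi i).obj) (fun i => (j i).hom) ∧ ∀ i, AlgSp.IsQuasiSeparatedSp (Xi i).obj) ↔
      (∃ (ι : Type u) (Xi : ι → AlgSp.Space S) (j : ∀ i, Xi i ⟶ X),
        AlgSp.IsZarCover (fun i => (Xi i).obj) (fun i => (j i).hom) ∧
          ∀ i, ∃ (U : Over S) (p : (AlgSp.yon S).obj U ⟶ (Xi i).obj), IsAffine U.left ∧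
            AlgSp.RepWith @QuasiCompact p ∧ AlgSp.RepWith @Etale p ∧ AlgSp.RepWith @Surjective p) := by
  constructor
  · rintro ⟨ι, Xi, j, ⟨hj, hcov⟩, hqs⟩
    choose U p hpe hps using fun i => (Xi i).property.atlas
    -- the new index type: affine opens of the atlases mapping into affine opens of `S`
    let ι' : Type u := Σ i : ι, {V : (U i).left.Opens // IsAffineOpen V ∧
      ∃ W : S.Opens, IsAffineOpen W ∧ V ≤ (U i).hom ⁻¹ᵁ W}
    let V' : ι' → Over S := fun k => Over.mk (k.2.1.ι ≫ (U k.1).hom)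
    let ιV : ∀ k : ι', V' k ⟶ U k.1 := fun k => Over.homMk k.2.1.ι rfl
    let a : ∀ k : ι', (yon S).obj (V' k) ⟶ (Xi k.1).obj := fun k => (yon S).map (ιV k) ≫ p k.1
    have ha : ∀ k, RepWith @Etale (a k) := fun k =>
      (RepWith (S := S) @Etale).comp_mem _ _
        ((repWith_yon_map_iff @Etale (ιV k)).2
          (show Etale k.2.1.ι from inferInstance)) (hpe k.1)
    have hWo : ∀ k, IsOpen (Set.range (Points.ofPt (a k))) := fun k =>
      (isOpenMap_ofPt (ha k)).isOpen_range
    let Xk : ι' → AlgSp.Space S := fun k =>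
      ⟨openSub (Xi k.1).obj (Set.range (Points.ofPt (a k))),
        isAlgSpace_openSub (Xi k.1).property (hWo k)⟩
    let jk' : ∀ k, Xk k ⟶ Xi k.1 := fun k => ObjectProperty.homMk (openSubι (Xi k.1).obj _)
    let jk : ∀ k, Xk k ⟶ X := fun k => jk' k ≫ j k.1
    have hjk' : ∀ k, RepWith @IsOpenImmersion (jk' k).hom := fun k => openSubι_repWith (hWo k)
    have hrange : ∀ k, Set.range (Points.map (jk' k).hom) = Set.range (Points.ofPt (a k)) :=
      fun k => range_map_openSubι
    refine ⟨ι', Xk, jk, ⟨fun k => ?_, fun x => ?_⟩, fun k => ?_⟩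
    · exact (RepWith (S := S) @IsOpenImmersion).comp_mem _ _ (hjk' k) (hj k.1)
    · obtain ⟨i, xi, rfl⟩ := hcov x
      obtain ⟨u, rfl⟩ := ofPt_surjective (hps i) xi
      obtain ⟨W, hW, huW, -⟩ := exists_isAffineOpen_mem_and_subset (X := S) (x := (U i).hom u)
        (U := ⊤) trivial
      obtain ⟨V, hV, huV, hVW⟩ := exists_isAffineOpen_mem_and_subset (X := (U i).left) (x := u)
        (U := (U i).hom ⁻¹ᵁ W) huW
      let k : ι' := ⟨i, V, hV, W, hW, hVW⟩
      have h1 : Points.ofPt (p i) u ∈ Set.range (Points.map (jk' k).hom) := by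
        rw [hrange k]
        refine ⟨⟨u, huV⟩, ?_⟩
        show Points.ofPt ((yon S).map (ιV k) ≫ p i) _ = _
        rw [ofPt_map_comp]
        rfl
      obtain ⟨y, hy⟩ := h1
      refine ⟨k, y, ?_⟩
      show Points.map ((jk' k).hom ≫ (j i).hom) y = _
      rw [Points.map_comp]
      exact congrArg _ hy
    · obtain ⟨a', ha'j, ha'e, ha's, ha'p⟩ :=
        Groth.Agent.S10196.result (a k) (ha k) (jk' k) (hjk' k) (hrange k)
      obtain ⟨i, V, hV, W, hW, hVW⟩ := k
      haveI : IsAffine (V : Scheme.{u}) := hV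
      refine ⟨V' ⟨i, V, hV, W, hW, hVW⟩, a', (show IsAffine (V : Scheme.{u}) from hV), ?_, ha'e,
        ha's⟩
      obtain ⟨R, s, fst, hpb⟩ := (ha ⟨i, V, hV, W, hW, hVW⟩).1 (a ⟨i, V, hV, W, hW, hVW⟩)
      obtain ⟨t, rfl⟩ := (yon S).map_surjective fst
      have hP := ha'p R s t hpb
      have hqc : QuasiCompact (prod.lift t s).left := (hqs i).2 _ _ _ (isPullback_diag_yon hpb)
      haveI := compactSpace_prod (U i) V hV W hW hVW
      haveI : CompactSpace ↥R.left := hqc.compactSpace_of_compactSpace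
      haveI : IsAffine (V' ⟨i, V, hV, W, hW, hVW⟩).left := (show IsAffine (V : Scheme.{u}) from hV)
      haveI : QuasiCompact s.left :=
        (HasAffineProperty.iff_of_isAffine (P := @QuasiCompact)).mpr
          (inferInstance : CompactSpace ↥R.left)
      exact (H69AlgSp.repWith_iff_of_chart a' ha'e.1 a' ha'e ha's _ s hP.isPullback
        @QuasiCompact).2 inferInstance
  · rintro ⟨ι, Xi, j, hcov, hch⟩
    refine ⟨ι, Xi, j, hcov, fun i => ?_⟩
    obtain ⟨U, p, hUaff, hq, he, hs⟩ := hch i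
    obtain ⟨R, s, fst, hpb⟩ := he.1 p
    obtain ⟨t, rfl⟩ := (yon S).map_surjective fst
    haveI : QuasiCompact t.left := hq.2 p _ t hpb.flip
    exact Groth.Agent.S10182.result (Xi i) p he hs s t hpb

end Groth.Agent.S10198
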