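import Groth.Statements.S10200
import Groth.Agent.Lib.CodimZeroNbhd46c

set_option autoImplicit false
universe u
open CategoryTheory CategoryTheory.Limits AlgebraicGeometry Topology TopologicalSpace
open AlgSp

namespace Groth.Agent.S10200

/-- Let X be an algebraic space over a scheme S that is Zariski locally quasi-separated over S (for
example quasi-separated over S). Then there is a dense open subspace of X which is a scheme; more
precisely there is an open subspace X' ⟶ X with representable underlying sheaf such that |X'| is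
dense in |X| and contains every codimension 0 point of X (every point under which some etale chart
has a zero-dimensional local ring). -/
theorem result {S : Scheme.{u}} (X : AlgSp.Space S)
    (hX : ∃ (ι : Type u) (Xi : ι → AlgSp.Space S) (j : ∀ i, Xi i ⟶ X),
        AlgSp.IsZarCover (fun i => (Xi i).obj) (fun i => (j i).hom) ∧ ∀ i, AlgSp.IsQuasiSeparatedSp (Xi i).obj) :
    ∃ (X' : AlgSp.Space S) (j : X' ⟶ X), AlgSp.RepWith @IsOpenImmersion j.hom ∧ X'.obj.obj.IsRepresentable ∧
      Dense (Set.range (AlgSp.Points.map j.hom)) ∧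
      ∀ x : AlgSp.Points X.obj, AlgSp.HasAt (fun U u => ringKrullDim ↥(U.presheaf.stalk u) = 0) X.obj x →
        x ∈ Set.range (AlgSp.Points.map j.hom) := by

  obtain ⟨ι, Xi, j, ⟨hjo, hcov⟩, hqs⟩ := hX
  obtain ⟨X', j', hj', hrep, hloc⟩ :=
    Groth.Agent.Lib.DenseOpenSch46.exists_open_subscheme_affine_locus X
  have hcomp : ∀ (i : ι) (y : Points (Xi i).obj),
      (∃ (M : Over S) (f : (yon S).obj M ⟶ (Xi i).obj), IsAffine M.left ∧
        RepWith @IsOpenImmersion f ∧ y ∈ Set.range (Points.map f)) →
      ∃ (M : Over S) (f : (yon S).obj M ⟶ X.obj), IsAffine M.left ∧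
        RepWith @IsOpenImmersion f ∧ Points.map (j i).hom y ∈ Set.range (Points.map f) := by
    rintro i y ⟨M, f, hM, hf, z, rfl⟩
    exact ⟨M, f ≫ (j i).hom, hM, MorphismProperty.comp_mem _ _ _ hf (hjo i), z,
      by rw [Points.map_comp]⟩
  refine ⟨X', j', hj', hrep, ?_, ?_⟩
  · rw [dense_iff_inter_open]
    rintro O hO ⟨x, hx⟩
    obtain ⟨i, xi, rfl⟩ := hcov x
    have hdec : IsDecent (Xi i).obj :=
      Groth.Agent.Lib.AlgSpDecentPt91.isDecent_of_isQuasiSeparatedSp (Xi i).property (hqs i)
    obtain ⟨y, hyO, hy⟩ :=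
      Groth.Agent.Lib.CodimZeroNbhd46.exists_mem_open_affine_nbhd_of_isDecent (Xi i) hdec
        (Points.map (j i).hom ⁻¹' O) ((Points.continuous_map _).isOpen_preimage _ hO) ⟨xi, hx⟩
    exact ⟨Points.map (j i).hom y, hyO, hloc _ (hcomp i y hy)⟩
  · intro x hx
    obtain ⟨i, xi, rfl⟩ := hcov x
    have het : IsEtaleMor (j i).hom := by
      intro U φ hφ
      have he : RepWith @Etale (j i).hom :=
        Groth.Agent.Lib.H69AlgSp.repWith_mono
          (fun _ _ g (_ : IsOpenImmersion g) => (inferInstance : Etale g)) (hjo i)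
      exact MorphismProperty.comp_mem _ _ _ hφ he
    have hxi : HasAt (fun U u => ringKrullDim ↥(U.presheaf.stalk u) = 0) (Xi i).obj xi :=
      (Groth.Agent.Lib.H86DimAt.hasAt_iff_of_isEtaleMor
        (Q := fun U u => ringKrullDim ↥(U.presheaf.stalk u) = 0)
        (fun s _ w => Groth.Agent.Lib.H86DimAt.ringKrullDim_stalk_iff_of_etale 0 s w)
        (Xi i).property (j i).hom het xi).2 hx
    exact hloc _ (hcomp i xi
      (Groth.Agent.Lib.CodimZeroNbhd46.exists_affine_open_nbhd_of_isQuasiSeparatedSp (Xi i) (hqs i)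
        xi hxi))

end Groth.Agent.S10200
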