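import Groth.Statements.S10202
import Groth.Agent.Lib.H86AlgSpPoints
import Mathlib.AlgebraicGeometry.Noetherian

set_option autoImplicit false
set_option linter.style.haveILetI false
universe u
open CategoryTheory CategoryTheory.Limits AlgebraicGeometry Topology TopologicalSpace
open AlgSp

namespace Groth.Agent.S10202

/-- If X is a locally Noetherian algebraic space over a scheme S, then the space |X| is locally
Noetherian: every point of |X| has an open neighbourhood which is a Noetherian topological space in
the induced topology. -/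
theorem result {S : Scheme.{u}} (X : AlgSp.Space S)
    (hX : AlgSp.IsLocNoethSp X.obj) (x : AlgSp.Points X.obj) :
    ∃ W : Set (AlgSp.Points X.obj), IsOpen W ∧ x ∈ W ∧ NoetherianSpace ↥W := by
  obtain ⟨U, p, hpe, hps, hN⟩ := hX
  obtain ⟨u, rfl⟩ := Lib.H86AlgSpPoints.ofPt_surjective hps x
  obtain ⟨V, hV, huV, -⟩ := exists_isAffineOpen_mem_and_subset (X := U.left) (x := u)
    (U := ⊤) (by simp)
  haveI : IsLocallyNoetherian U.left := hN
  haveI : IsNoetherianRing Γ(U.left, V) := IsLocallyNoetherian.component_noetherian ⟨V, hV⟩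
  haveI : NoetherianSpace V := noetherianSpace_of_isAffineOpen V hV
  refine ⟨Points.ofPt p '' V, Lib.H86AlgSpPoints.isOpenMap_ofPt hpe _ V.isOpen, ⟨u, huV, rfl⟩, ?_⟩
  rw [noetherianSpace_set_iff]
  intro t ht
  have h1 : t = Points.ofPt p '' (Points.ofPt p ⁻¹' t ∩ V) := by
    ext y
    constructor
    · intro hy
      obtain ⟨v, hv, rfl⟩ := ht hy
      exact ⟨v, ⟨hy, hv⟩, rfl⟩
    · rintro ⟨v, ⟨hv, -⟩, rfl⟩
      exact hv
  rw [h1]
  exact ((noetherianSpace_set_iff _).1 ‹NoetherianSpace V› _ Set.inter_subset_right).image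
    (Points.continuous_ofPt p)

end Groth.Agent.S10202
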