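import Groth.Statements.S10203
import Groth.Agent.Lib.H86AlgSpPoints
import Groth.Agent.S10202

set_option autoImplicit false
set_option linter.style.haveILetI false
universe u
open CategoryTheory CategoryTheory.Limits AlgebraicGeometry Topology TopologicalSpace
open AlgSp

namespace Groth.Agent.S10203

/-- If X is a quasi-compact, locally Noetherian algebraic space over a scheme S, then |X| is a
Noetherian topological space. -/
theorem result {S : Scheme.{u}} (X : AlgSp.Space S)
    (hqc : AlgSp.IsQuasiCompactSp X.obj) (hX : AlgSp.IsLocNoethSp X.obj) :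
    NoetherianSpace (AlgSp.Points X.obj) := by
  obtain ⟨U₁, p₁, hpe₁, hps₁, hc⟩ := hqc
  haveI : CompactSpace U₁.left := hc
  have hcomp : IsCompact (Set.univ : Set (Points X.obj)) := by
    rw [← (Lib.H86AlgSpPoints.ofPt_surjective hps₁).range_eq]
    exact isCompact_range (Points.continuous_ofPt p₁)
  choose W hWo hxW hWN using fun x => Groth.Agent.S10202.result X hX x
  obtain ⟨t, ht⟩ := hcomp.elim_finite_subcover W hWo (fun x _ => Set.mem_iUnion.2 ⟨x, hxW x⟩)
  rw [noetherianSpace_iff_isCompact]
  intro s
  have h1 : s = ⋃ i ∈ t, s ∩ W i := by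
    rw [← Set.inter_iUnion₂]
    exact (Set.inter_eq_left.2 ((Set.subset_univ s).trans ht)).symm
  rw [h1]
  exact t.isCompact_biUnion fun i _ => (noetherianSpace_set_iff _).1 (hWN i) _ Set.inter_subset_right

end Groth.Agent.S10203
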