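import Groth.Statements.S10204
import Groth.Agent.Lib.DenseOpenSch46c

set_option autoImplicit false
universe u
open CategoryTheory CategoryTheory.Limits AlgebraicGeometry Topology TopologicalSpace
open AlgSp

namespace Groth.Agent.S10204

/-- Let X be an algebraic space over a scheme S that admits a map h_U ⟶ X from a quasi-separated scheme
U which is representable finite, etale and surjective. Then X contains an open subspace X' ⟶ X that
is a scheme (its underlying sheaf is representable), whose points form a dense subset of |X| that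
includes every codimension 0 point of X (every point x of |X| such that some etale chart h_V ⟶ X and
some point v of V over x have a zero-dimensional local ring O_{V,v}). -/
theorem result {S : Scheme.{u}} (X : AlgSp.Space S) {U : Over S}
    (a : (AlgSp.yon S).obj U ⟶ X.obj) (hf : AlgSp.RepWith @IsFinite a) (he : AlgSp.RepWith @Etale a)
    (hs : AlgSp.RepWith @Surjective a) [QuasiSeparatedSpace ↥U.left] :
    ∃ (X' : AlgSp.Space S) (j : X' ⟶ X), AlgSp.RepWith @IsOpenImmersion j.hom ∧ X'.obj.obj.IsRepresentable ∧
      Dense (Set.range (AlgSp.Points.map j.hom)) ∧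
      ∀ x : AlgSp.Points X.obj, AlgSp.HasAt (fun U u => ringKrullDim ↥(U.presheaf.stalk u) = 0) X.obj x →
        x ∈ Set.range (AlgSp.Points.map j.hom) := by

  have sqR := he.rep.isPullback' a
  have hfs : IsFinite (he.rep.snd a).left := hf.property _ _ _ sqR
  have hsurj := Groth.Agent.Lib.AlgSpQC.surjective_ofPt_of_repWith_surjective hs
  obtain ⟨X', j, hj, hrep, hloc⟩ := Groth.Agent.Lib.DenseOpenSch46.exists_open_subscheme_affine_locus X
  refine ⟨X', j, hj, hrep, ?_, ?_⟩
  · rw [dense_iff_inter_open]
    rintro O hO ⟨x, hx⟩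
    obtain ⟨v₀, rfl⟩ := hsurj x
    obtain ⟨u, M, f, huV, hM, hf', hmem⟩ :=
      Groth.Agent.Lib.DenseOpenSch46.exists_affine_open_in X a he sqR
        ⟨Points.ofPt a ⁻¹' O, (Points.continuous_ofPt a).isOpen_preimage _ hO⟩ v₀ hx
    exact ⟨Points.ofPt a u, huV, hloc _ ⟨M, f, hM, hf', hmem⟩⟩
  · intro x hx
    obtain ⟨u, rfl⟩ := hsurj x
    exact hloc _ (Groth.Agent.Lib.DenseOpenSch46.exists_affine_open_of_codimZero X a he sqR u hx)

end Groth.Agent.S10204
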