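import Groth.Statements.S10211
import Groth.Agent.Lib.H86AlgSpPoints

set_option autoImplicit false
universe u
open CategoryTheory CategoryTheory.Limits AlgebraicGeometry Topology TopologicalSpace
open AlgSp

namespace Groth.Agent.S10211

/-- If f : X ⟶ Y is an etale morphism of algebraic spaces over a scheme S, then the induced map of
topological spaces |X| → |Y| is open. -/
theorem result {S : Scheme.{u}} {X Y : AlgSp.Space S} (f : X ⟶ Y)
    (hf : AlgSp.IsEtaleMor f.hom) :
    IsOpenMap (AlgSp.Points.map f.hom) := by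
  obtain ⟨U, a, ha, has⟩ := X.property.atlas
  have hsurj : Function.Surjective (AlgSp.Points.ofPt a) :=
    Groth.Agent.Lib.H86AlgSpPoints.ofPt_surjective has
  have hopen : IsOpenMap (AlgSp.Points.ofPt (a ≫ f.hom)) :=
    Groth.Agent.Lib.H86AlgSpPoints.isOpenMap_ofPt (hf a ha)
  intro W hW
  have key : AlgSp.Points.map f.hom '' W =
      AlgSp.Points.ofPt (a ≫ f.hom) '' (AlgSp.Points.ofPt a ⁻¹' W) := by
    ext y
    constructor
    · rintro ⟨x, hx, rfl⟩
      obtain ⟨t, rfl⟩ := hsurj x
      exact ⟨t, hx, (AlgSp.Points.map_ofPt a f.hom t).symm⟩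
    · rintro ⟨t, ht, rfl⟩
      exact ⟨AlgSp.Points.ofPt a t, ht, AlgSp.Points.map_ofPt a f.hom t⟩
  rw [key]
  exact hopen _ ((AlgSp.Points.continuous_ofPt a).isOpen_preimage _ hW)

end Groth.Agent.S10211
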