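import Groth.Statements.S10212
import Groth.Agent.Lib.AlgSpLocP

set_option autoImplicit false
universe u
open CategoryTheory CategoryTheory.Limits AlgebraicGeometry Topology TopologicalSpace
open AlgSp

namespace Groth.Agent.S10212

/-- Let X be an algebraic space over a scheme S, χ : U ⟶ U' a surjective etale morphism of schemes over
S and φ' : h_{U'} ⟶ X a map such that the composite h_χ ≫ φ' : h_U ⟶ X is (representable and) etale.
Then φ' is etale. -/
theorem result {S : Scheme.{u}} (X : AlgSp.Space S) {U U' : Over S}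
    (χ : U ⟶ U') [Etale χ.left] [Surjective χ.left] (φ' : (AlgSp.yon S).obj U' ⟶ X.obj)
    (h : AlgSp.RepWith @Etale ((AlgSp.yon S).map χ ≫ φ')) :
    AlgSp.RepWith @Etale φ' := by
  have hX : ∀ ⦃T : Over S⦄ (c : (AlgSp.yon S).obj T ⟶ (AlgSp.yon S).obj U),
      AlgSp.Representable c := fun T c => AlgSp.representable_of_yon c
  have h1 : AlgSp.LocP @Etale ((AlgSp.yon S).map χ ≫ φ') :=
    Groth.Agent.Lib.AlgSpBasic.locP_of_repWith @Etale
      (fun _ _ _ l w hl hw => by
        have : Etale l := hl
        have : Etale w := hw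
        exact (inferInstance : Etale (l ≫ w))) hX h
  have hχe : AlgSp.RepWith @Etale ((AlgSp.yon S).map χ) :=
    (AlgSp.repWith_yon_map_iff _ _).2 (inferInstance : Etale χ.left)
  have hχs : AlgSp.RepWith @Surjective ((AlgSp.yon S).map χ) :=
    (AlgSp.repWith_yon_map_iff _ _).2 (inferInstance : Surjective χ.left)
  have h2 : AlgSp.LocP @Etale φ' :=
    Groth.Agent.Lib.AlgSpLocP.locP_of_comp_chart Groth.Agent.Lib.AlgSpLocP.etLocalClass_etale
      X.property φ' ((AlgSp.yon S).map χ) hχe hχs h1
  exact Groth.Agent.Lib.AlgSpLocP.repWith_of_locP Groth.Agent.Lib.AlgSpLocP.etLocalClass_etale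
    X.property (X.property.representable_from_yon φ') h2

end Groth.Agent.S10212
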