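import Groth.Statements.S10213
import Groth.Agent.Lib.H86AlgSpOpen

set_option autoImplicit false
set_option linter.style.haveILetI false
universe u
open CategoryTheory CategoryTheory.Limits AlgebraicGeometry Topology TopologicalSpace
open AlgSp

namespace Groth.Agent.S10213

open Groth.Agent.Lib.H86AlgSpPoints Groth.Agent.Lib.H86AlgSpSub Groth.Agent.Lib.H86AlgSpOpen

/-- For an algebraic space X over a scheme S there is a surjective etale map h_U ⟶ X where U is a
disjoint union of affine schemes, each of which maps into an affine open of S. -/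
theorem result {S : Scheme.{u}} (X : AlgSp.Space S) :
    ∃ (ι : Type u) (V : ι → Scheme.{u}) (_ : ∀ i, IsAffine (V i)) (q : (∐ V) ⟶ S)
      (p : (AlgSp.yon S).obj (Over.mk q) ⟶ X.obj),
      AlgSp.RepWith @Etale p ∧ AlgSp.RepWith @Surjective p ∧
        ∀ i, ∃ W : S.Opens, IsAffineOpen W ∧ ∀ v : ↥(V i), (Sigma.ι V i ≫ q) v ∈ W := by
  obtain ⟨U, p₀, hpe, hps⟩ := X.property.atlas
  have hW : ∀ u : ↥U.left, ∃ W : S.Opens, IsAffineOpen W ∧ U.hom u ∈ W := fun u => by
    obtain ⟨W, hW, hu, -⟩ := exists_isAffineOpen_mem_and_subset (X := S) (x := U.hom u)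
      (U := ⊤) (by simp)
    exact ⟨W, hW, hu⟩
  choose W hWaff hWmem using hW
  have hV : ∀ u : ↥U.left, ∃ V : U.left.Opens, IsAffineOpen V ∧ u ∈ V ∧
      (V : Set ↥U.left) ⊆ U.hom ⁻¹ᵁ (W u) := fun u =>
    exists_isAffineOpen_mem_and_subset (X := U.left) (x := u) (U := U.hom ⁻¹ᵁ (W u)) (hWmem u)
  choose V hVaff hVmem hVsub using hV
  let Vs : ↥U.left → Scheme.{u} := fun u => (V u : Scheme.{u})
  let c : (∐ Vs) ⟶ U.left := Sigma.desc (fun u => (V u).ι)
  have hce : Etale c := IsZariskiLocalAtSource.sigmaDesc (fun u => (inferInstance : Etale (V u).ι))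
  have hcs : Surjective c := by
    apply Surjective.sigmaDesc_of_union_range_eq_univ
    rw [Set.eq_univ_iff_forall]
    intro u
    refine Set.mem_iUnion.2 ⟨u, ?_⟩
    rw [Scheme.Opens.range_ι]
    exact hVmem u
  let q : (∐ Vs) ⟶ S := c ≫ U.hom
  let cO : Over.mk q ⟶ U := Over.homMk c rfl
  refine ⟨↥U.left, Vs, hVaff, q, (yon S).map cO ≫ p₀, ?_, ?_, fun u => ?_⟩
  · exact (RepWith (S := S) @Etale).comp_mem _ _ ((repWith_yon_map_iff _ _).2 hce) hpe
  · exact (RepWith (S := S) @Surjective).comp_mem _ _ ((repWith_yon_map_iff _ _).2 hcs) hps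
  · refine ⟨W u, hWaff u, fun v => ?_⟩
    have h1 : Sigma.ι Vs u ≫ q = (V u).ι ≫ U.hom := by
      change Sigma.ι Vs u ≫ c ≫ U.hom = _
      rw [← Category.assoc, Sigma.ι_desc]
    rw [h1]
    change U.hom ((V u).ι v) ∈ W u
    have : (V u).ι v ∈ Set.range (V u).ι := ⟨v, rfl⟩
    rw [Scheme.Opens.range_ι] at this
    exact hVsub u this

end Groth.Agent.S10213
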