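import Groth.Statements.S10214
import Groth.Agent.Lib.H86AlgSpOpen
import Groth.Agent.S10196

set_option autoImplicit false
set_option linter.style.haveILetI false
universe u
open CategoryTheory CategoryTheory.Limits AlgebraicGeometry Topology TopologicalSpace
open AlgSp

namespace Groth.Agent.S10214

open Groth.Agent.Lib.H86AlgSpPoints Groth.Agent.Lib.H86AlgSpSub Groth.Agent.Lib.H86AlgSpOpen

/-- Every algebraic space X over a scheme S has a Zariski covering by open subspaces X_i such that each
X_i has a surjective etale map from an affine scheme; moreover the affine schemes may be taken to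
map into affine opens of S. -/
theorem result {S : Scheme.{u}} (X : AlgSp.Space S) :
    ∃ (ι : Type u) (Xi : ι → AlgSp.Space S) (j : ∀ i, Xi i ⟶ X),
      AlgSp.IsZarCover (fun i => (Xi i).obj) (fun i => (j i).hom) ∧
        ∀ i, ∃ (U : Over S) (p : (AlgSp.yon S).obj U ⟶ (Xi i).obj), IsAffine U.left ∧
          AlgSp.RepWith @Etale p ∧ AlgSp.RepWith @Surjective p ∧
          ∃ W : S.Opens, IsAffineOpen W ∧ ∀ v : ↥U.left, U.hom v ∈ W := by
  obtain ⟨U, p, hpe, hps⟩ := X.property.atlas
  have hW : ∀ u : ↥U.left, ∃ W : S.Opens, IsAffineOpen W ∧ U.hom u ∈ W := fun u => by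
    obtain ⟨W, hW, hu, -⟩ := exists_isAffineOpen_mem_and_subset (X := S) (x := U.hom u)
      (U := ⊤) (by simp)
    exact ⟨W, hW, hu⟩
  choose W hWaff hWmem using hW
  have hV : ∀ u : ↥U.left, ∃ V : U.left.Opens, IsAffineOpen V ∧ u ∈ V ∧
      (V : Set ↥U.left) ⊆ U.hom ⁻¹ᵁ (W u) := fun u =>
    exists_isAffineOpen_mem_and_subset (X := U.left) (x := u) (U := U.hom ⁻¹ᵁ (W u)) (hWmem u)
  choose V hVaff hVmem hVsub using hV
  have hopen : ∀ u, IsOpen (Points.ofPt p '' (V u : Set ↥U.left)) := fun u =>
    isOpenMap_ofPt hpe _ (V u).isOpen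
  refine ⟨↥U.left, fun u => ⟨openSub X.obj (Points.ofPt p '' (V u : Set ↥U.left)),
    isAlgSpace_openSub X.property (hopen u)⟩,
    fun u => ObjectProperty.homMk (openSubι X.obj _), ⟨fun u => openSubι_repWith (hopen u),
      fun x => ?_⟩, fun u => ?_⟩
  · obtain ⟨u, rfl⟩ := ofPt_surjective hps x
    refine ⟨u, ?_⟩
    change _ ∈ Set.range (Points.map (openSubι X.obj _))
    rw [range_map_openSubι]
    exact ⟨u, hVmem u, rfl⟩
  · let U' : Over S := Over.mk ((V u).ι ≫ U.hom)
    let ιV : U' ⟶ U := Over.homMk (V u).ι rfl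
    have hιV : Etale ιV.left := by
      change Etale (V u).ι
      infer_instance
    have ha : RepWith @Etale ((yon S).map ιV ≫ p) :=
      (RepWith (S := S) @Etale).comp_mem _ _ ((repWith_yon_map_iff _ _).2 hιV) hpe
    have himage : Set.range (Points.map (openSubι X.obj (Points.ofPt p '' (V u : Set ↥U.left)))) =
        Set.range (Points.ofPt ((yon S).map ιV ≫ p)) := by
      rw [range_map_openSubι]
      ext x
      constructor
      · rintro ⟨v, hv, rfl⟩
        have hv' : v ∈ Set.range (V u).ι := by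
          rw [Scheme.Opens.range_ι]; exact hv
        obtain ⟨w, rfl⟩ := hv'
        exact ⟨w, ofPt_map_comp ιV p w⟩
      · rintro ⟨w, rfl⟩
        refine ⟨(V u).ι w, ?_, (ofPt_map_comp ιV p w).symm⟩
        have : (V u).ι w ∈ Set.range (V u).ι := ⟨w, rfl⟩
        rw [Scheme.Opens.range_ι] at this
        exact this
    obtain ⟨a', -, he', hs', -⟩ := Groth.Agent.S10196.result (X := X)
      (X' := ⟨openSub X.obj (Points.ofPt p '' (V u : Set ↥U.left)),
        isAlgSpace_openSub X.property (hopen u)⟩) ((yon S).map ιV ≫ p) ha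
      (ObjectProperty.homMk (openSubι X.obj _)) (openSubι_repWith (hopen u)) himage
    refine ⟨U', a', hVaff u, he', hs', W u, hWaff u, fun v => ?_⟩
    change U.hom ((V u).ι v) ∈ W u
    have : (V u).ι v ∈ Set.range (V u).ι := ⟨v, rfl⟩
    rw [Scheme.Opens.range_ι] at this
    exact hVsub u this

end Groth.Agent.S10214
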