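import Groth.Statements.S10222
import Groth.Agent.Lib.H86ReducedAt

set_option linter.style.haveILetI false

set_option autoImplicit false
universe u
open CategoryTheory CategoryTheory.Limits AlgebraicGeometry Topology TopologicalSpace
open AlgSp

namespace Groth.Agent.S10222

/-- (1) if and only if (2): an algebraic space X over a scheme S is reduced if and only if at each x ∈
|X| the local ring of X is reduced, the latter meaning that for some scheme U, some representable
etale h_U ⟶ X and some point u of U mapping to x, the local ring of U at u is reduced. (The
assertions about global sections in the published statement are not part of this row.) -/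
theorem result {S : Scheme.{u}} (X : AlgSp.Space S) :
    AlgSp.IsReducedSp X.obj ↔
      ∀ x : AlgSp.Points X.obj, AlgSp.HasAt (fun U u => _root_.IsReduced ↥(U.presheaf.stalk u)) X.obj x := by
  constructor
  · rintro ⟨U, p, hpe, hps, hU⟩ x
    obtain ⟨u, hu⟩ := Groth.Agent.Lib.AlgSpQC.surjective_ofPt_of_repWith_surjective hps x
    haveI : IsReduced U.left := hU
    exact ⟨U, p, u, hpe, hu, inferInstance⟩
  · intro h
    obtain ⟨V, b, hbe, hbs⟩ := X.property.atlas
    refine ⟨V, b, hbe, hbs, ?_⟩
    apply +allowSynthFailures isReduced_of_isReduced_stalk
    intro v
    exact (Groth.Agent.Lib.H86DimAt.hasAt_iff_forall_chart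
      (Q := fun U u => _root_.IsReduced ↥(U.presheaf.stalk u))
      (fun s _ w => Groth.Agent.Lib.H86ReducedAt.isReduced_stalk_iff_of_etale s w) X.property
      (AlgSp.Points.ofPt b v)).1 (h _) V b v hbe rfl

end Groth.Agent.S10222
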