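import Groth.Statements.S10225
import Groth.Agent.Lib.H69EtStalkProps

set_option autoImplicit false
universe u
open CategoryTheory CategoryTheory.Limits AlgebraicGeometry Topology TopologicalSpace
open AlgSp

namespace Groth.Agent.S10225

/-- Let X be an algebraic space over a scheme S and x̄ a geometric point of X lying over x ∈ |X|. Then
the local ring of X at x is reduced (for some etale chart h_U ⟶ X and some point u of U over x, the
local ring of U at u is reduced) if and only if the etale local ring of X at x̄ is reduced; in
particular the latter does not depend on the choice of x̄ over x. -/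
theorem result {S : Scheme.{u}} (X : AlgSp.Space S) (p : AlgSp.FieldPt X.obj) (hp : p.IsGeometric) :
    AlgSp.HasAt (fun U u => _root_.IsReduced ↥(U.presheaf.stalk u)) X.obj (AlgSp.Points.mk p) ↔
      _root_.IsReduced ↥(AlgSp.OEtStalk p) := by
  obtain ⟨E₀, hE₀, l₀, -⟩ := Groth.Agent.Lib.H69EtStalkProps.exists_affine_lift p X.property hp
  have hred := Groth.Agent.Lib.H69EtStalkProps.isReduced_OEtStalk_iff p X.property hp l₀
  have hpt := Groth.Agent.Lib.H69EtStalkProps.lpt_over p l₀
  rw [hred]
  constructor
  · intro h
    exact (Groth.Agent.Lib.H86DimAt.hasAt_iff_forall_chart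
      (fun s _ w => Groth.Agent.Lib.H86ReducedAt.isReduced_stalk_iff_of_etale s w) X.property _).1 h
      E₀.obj.left E₀.obj.hom (Groth.Agent.Lib.H69EtLocalRing.lpt p l₀) E₀.property hpt
  · intro h
    exact ⟨E₀.obj.left, E₀.obj.hom, Groth.Agent.Lib.H69EtLocalRing.lpt p l₀, E₀.property, hpt, h⟩

end Groth.Agent.S10225
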