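import Groth.Statements.S10227
import Groth.Agent.Lib.H69EtStalkBranch

set_option autoImplicit false
universe u
open CategoryTheory CategoryTheory.Limits AlgebraicGeometry Topology TopologicalSpace
open AlgSp

namespace Groth.Agent.S10227

/-- (1) ⇔ (4) ⇔ (5): let X be an algebraic space over a scheme S and x ∈ |X|. The following are
equivalent: for every scheme U, every etale h_U ⟶ X and every point u of U over x, the local ring of
U at u has a unique minimal prime; for every such (U, u), the local ring of U at u is geometrically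
unibranch; for every geometric point x̄ over x, the etale local ring of X at x̄ has a unique minimal
prime. -/
theorem result {S : Scheme.{u}} (X : AlgSp.Space S) (x : AlgSp.Points X.obj) :
    ((∀ (U : Over S) (a : (AlgSp.yon S).obj U ⟶ X.obj) (u : ↥U.left),
        AlgSp.RepWith @Etale a → AlgSp.Points.ofPt a u = x → CAlgX.HasUniqueMinimalPrime ↥(U.left.presheaf.stalk u)) ↔
      (∀ (U : Over S) (a : (AlgSp.yon S).obj U ⟶ X.obj) (u : ↥U.left),
        AlgSp.RepWith @Etale a → AlgSp.Points.ofPt a u = x → CAlg2.IsGeomUnibranch ↥(U.left.presheaf.stalk u))) ∧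
    ((∀ (U : Over S) (a : (AlgSp.yon S).obj U ⟶ X.obj) (u : ↥U.left),
        AlgSp.RepWith @Etale a → AlgSp.Points.ofPt a u = x → CAlgX.HasUniqueMinimalPrime ↥(U.left.presheaf.stalk u)) ↔
      ∀ p : AlgSp.FieldPt X.obj, p.IsGeometric → AlgSp.Points.mk p = x →
        CAlgX.HasUniqueMinimalPrime ↥(AlgSp.OEtStalk p)) := by
  have hX := X.property
  -- geometrically unibranch implies unique minimal prime, chart by chart
  have h21 : (∀ (U : Over S) (a : (AlgSp.yon S).obj U ⟶ X.obj) (u : ↥U.left),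
        AlgSp.RepWith @Etale a → AlgSp.Points.ofPt a u = x → CAlg2.IsGeomUnibranch ↥(U.left.presheaf.stalk u)) →
      (∀ (U : Over S) (a : (AlgSp.yon S).obj U ⟶ X.obj) (u : ↥U.left),
        AlgSp.RepWith @Etale a → AlgSp.Points.ofPt a u = x → CAlgX.HasUniqueMinimalPrime ↥(U.left.presheaf.stalk u)) :=
    fun h U a u ha hu => Groth.Agent.Lib.H69MinPrimes.hasUniqueMinimalPrime_of_isGeomUnibranch (h U a u ha hu)
  -- unique minimal primes on all charts pass to the etale local rings
  have h13 : (∀ (U : Over S) (a : (AlgSp.yon S).obj U ⟶ X.obj) (u : ↥U.left),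
        AlgSp.RepWith @Etale a → AlgSp.Points.ofPt a u = x → CAlgX.HasUniqueMinimalPrime ↥(U.left.presheaf.stalk u)) →
      ∀ p : AlgSp.FieldPt X.obj, p.IsGeometric → AlgSp.Points.mk p = x →
        CAlgX.HasUniqueMinimalPrime ↥(AlgSp.OEtStalk p) := by
    intro h p hp hpx
    rw [Groth.Agent.Lib.H69MinPrimes.hasUniqueMinimalPrime_iff_isPrime_nilradical]
    refine Groth.Agent.Lib.H69EtStalkBranch.isPrime_nilradical_OEtStalk p hX hp (fun E _ l => ?_)
    rw [← Groth.Agent.Lib.H69MinPrimes.hasUniqueMinimalPrime_iff_isPrime_nilradical]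
    exact h E.obj.left E.obj.hom _ E.property ((Groth.Agent.Lib.H69EtStalkProps.lpt_over p l).trans hpx)
  -- unique minimal prime of the etale local rings gives geometrically unibranch charts
  have h32 : (∀ p : AlgSp.FieldPt X.obj, p.IsGeometric → AlgSp.Points.mk p = x →
        CAlgX.HasUniqueMinimalPrime ↥(AlgSp.OEtStalk p)) →
      (∀ (U : Over S) (a : (AlgSp.yon S).obj U ⟶ X.obj) (u : ↥U.left),
        AlgSp.RepWith @Etale a → AlgSp.Points.ofPt a u = x → CAlg2.IsGeomUnibranch ↥(U.left.presheaf.stalk u)) := by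
    intro h U a u ha hu
    have hp := Groth.Agent.Lib.H69EtStalkCons.geomPt_isGeometric (AlgSp.EtOver.mk a ha) u
    have hpx : AlgSp.Points.mk (Groth.Agent.Lib.H69EtStalkCons.geomPt (AlgSp.EtOver.mk a ha) u) = x :=
      (Groth.Agent.Lib.H69EtStalkCons.mk_geomPt (AlgSp.EtOver.mk a ha) u).trans hu
    have h1 := (Groth.Agent.Lib.H69EtStalkBranch.hasUniqueMinimalPrime_OEtStalk_iff _ hX hp
      (Groth.Agent.Lib.H69EtStalkCons.geomLift (AlgSp.EtOver.mk a ha) u)).1 (h _ hp hpx)
    have h2 : Groth.Agent.Lib.H69EtLocalRing.lpt (Groth.Agent.Lib.H69EtStalkCons.geomPt (AlgSp.EtOver.mk a ha) u)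
        (Groth.Agent.Lib.H69EtStalkCons.geomLift (AlgSp.EtOver.mk a ha) u) = u :=
      Groth.Agent.Lib.H69EtStalkCons.geomLift_apply (AlgSp.EtOver.mk a ha) u _
    rw [h2] at h1
    exact h1
  exact ⟨⟨fun h => h32 (h13 h), h21⟩, ⟨h13, fun h => h21 (h32 h)⟩⟩

end Groth.Agent.S10227
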