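import Groth.Statements.S1023
import Groth.Agent.Lib.PerfectBdd11

set_option autoImplicit false
universe u
open CategoryTheory CategoryTheory.Limits AlgebraicGeometry
attribute [local instance] HasDerivedCategory.standard
open Perf

namespace Groth.Agent.S1023

/-- Let the scheme X be quasi-compact and quasi-separated, P a perfect object of D(O_X), E ∈ D_QCoh(O_X)
and a ∈ ℤ. Then the morphisms P[-i] ⟶ E vanish for all sufficiently negative i if and only if the
morphisms P[-i] ⟶ τ_{≤ a}E vanish for all sufficiently negative i. -/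
theorem result (X : Scheme.{u}) [CompactSpace ↥X] [QuasiSeparatedSpace ↥X]
    (P : DCoh.D X) (hP : DCoh.IsPerfect P) (E : DCoh.D X) (hE : DCoh.IsQCohD E) (a : ℤ) :
    (∃ N : ℤ, ∀ i : ℤ, i ≤ N → ∀ φ : P⟦-i⟧ ⟶ E, φ = 0) ↔
    (∃ N : ℤ, ∀ i : ℤ, i ≤ N → ∀ φ : P⟦-i⟧ ⟶ ((DerivedCategory.TStructure.t : CategoryTheory.Triangulated.TStructure (DCoh.D X)).truncLE a).obj E, φ = 0) := by
  obtain ⟨_, b, _, hb⟩ := Groth.Agent.Lib.PerfectBdd11.bounded_of_isPerfect P hP
  constructor
  · rintro ⟨N, hN⟩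
    refine ⟨min N (a - b), fun i hi => ?_⟩
    exact (Groth.Agent.Lib.PerfectBdd11.hom_truncLE_zero_iff P E b a i
      (by have := min_le_right N (a - b); omega)).1 (hN i (le_trans hi (min_le_left _ _)))
  · rintro ⟨N, hN⟩
    refine ⟨min N (a - b), fun i hi => ?_⟩
    exact (Groth.Agent.Lib.PerfectBdd11.hom_truncLE_zero_iff P E b a i
      (by have := min_le_right N (a - b); omega)).2 (hN i (le_trans hi (min_le_left _ _)))

end Groth.Agent.S1023
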