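import Groth.Statements.S10230
import Groth.Agent.Lib.H69EtLocalRing
import Groth.Agent.Lib.H86CartierChart2
import Groth.Agent.Lib.AlgSpQC

set_option autoImplicit false
universe u
open CategoryTheory CategoryTheory.Limits AlgebraicGeometry Topology TopologicalSpace
open AlgSp

namespace Groth.Agent.S10230

open Groth.Agent.Lib.H69EtLocalRing

/-- A sheaf of subsingletons has a section over `E` as soon as it has sections over the members of a covering of `E`. -/
theorem nonempty_of_cover {S : Scheme.{u}} {X : Sp S}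
    (F : AlgSp.EtSh X (Type (u + 1))) (hF : ∀ E : AlgSp.EtOver X, Subsingleton (F.obj.obj (Opposite.op E)))
    {E : EtOver X} {ι : Type*} (Y : ι → EtOver X) (g : ∀ i, Y i ⟶ E)
    (hcov : ∀ x : ↥E.obj.left.left, ∃ i, x ∈ Set.range (g i).hom.left.left)
    (hne : ∀ i, Nonempty (F.obj.obj (Opposite.op (Y i)))) : Nonempty (F.obj.obj (Opposite.op E)) := by
  have hsh := (isSheaf_iff_isSheaf_of_type _ _).1 F.property
  have h1 := hsh _ (ofArrows_mem_etTop Y g hcov)
  let x : Presieve.FamilyOfElements F.obj (Sieve.ofArrows Y g).arrows := fun Z f hf =>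
    F.obj.map ((Sieve.mem_ofArrows_iff Y g f).1 hf).choose_spec.choose.op
      (hne ((Sieve.mem_ofArrows_iff Y g f).1 hf).choose).some
  have hx : x.Compatible := fun Y₁ Y₂ Z g₁ g₂ f₁ f₂ h₁ h₂ _ => (hF _).elim _ _
  obtain ⟨t, -⟩ := h1 x hx
  exact ⟨t⟩


/-- Let X be an algebraic space over a scheme S and F a subsheaf of the final object of the small etale
topos of X, i.e. a sheaf of sets all of whose section sets have at most one element. Then there is a
unique open W of |X| with F = h_W: for every U etale over X, F(U) is nonempty if and only if U ⟶ X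
maps |U| into W. -/
theorem result {S : Scheme.{u}} (X : AlgSp.Space S)
    (F : AlgSp.EtSh X.obj (Type (u + 1))) (hF : ∀ E : AlgSp.EtOver X.obj, Subsingleton (F.obj.obj (Opposite.op E))) :
    ∃! W : Set (AlgSp.Points X.obj), IsOpen W ∧
      ∀ E : AlgSp.EtOver X.obj, Nonempty (F.obj.obj (Opposite.op E)) ↔ Set.range (AlgSp.Points.ofPt E.obj.hom) ⊆ W := by
  classical
  have key : ∀ (W : Set (AlgSp.Points X.obj)), IsOpen W →
      (∀ E : AlgSp.EtOver X.obj, Nonempty (F.obj.obj (Opposite.op E)) ↔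
        Set.range (AlgSp.Points.ofPt E.obj.hom) ⊆ W) →
      W = {x | ∃ E : AlgSp.EtOver X.obj, Nonempty (F.obj.obj (Opposite.op E)) ∧
        x ∈ Set.range (AlgSp.Points.ofPt E.obj.hom)} := by
    intro W hW hiff
    ext x
    constructor
    · intro hx
      obtain ⟨U, a, hae, has⟩ := X.property.atlas
      obtain ⟨u₀, rfl⟩ := Groth.Agent.Lib.AlgSpQC.surjective_ofPt_of_repWith_surjective has x
      let E₀ : EtOver X.obj := EtOver.mk a hae
      have hV : IsOpen (AlgSp.Points.ofPt a ⁻¹' W) := (Points.continuous_ofPt a).isOpen_preimage _ hW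
      let V : U.left.Opens := ⟨_, hV⟩
      refine ⟨sub E₀ V.ι, (hiff _).2 ?_, ⟨⟨u₀, hx⟩, ?_⟩⟩
      · rintro _ ⟨v, rfl⟩
        have : Points.ofPt (sub E₀ V.ι).obj.hom v = Points.ofPt a (V.ι v) :=
          Groth.Agent.Lib.H86AlgSpPoints.ofPt_map_comp (subOverHom E₀ V.ι) a v
        rw [this]
        exact v.2
      · exact Groth.Agent.Lib.H86AlgSpPoints.ofPt_map_comp (subOverHom E₀ V.ι) a ⟨u₀, hx⟩
    · rintro ⟨E, hE, hx⟩
      exact (hiff E).1 hE hx
  have hopen : IsOpen {x | ∃ E : AlgSp.EtOver X.obj, Nonempty (F.obj.obj (Opposite.op E)) ∧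
        x ∈ Set.range (AlgSp.Points.ofPt E.obj.hom)} := by
    have : {x | ∃ E : AlgSp.EtOver X.obj, Nonempty (F.obj.obj (Opposite.op E)) ∧
        x ∈ Set.range (AlgSp.Points.ofPt E.obj.hom)} =
        ⋃ (E : AlgSp.EtOver X.obj) (_ : Nonempty (F.obj.obj (Opposite.op E))),
          Set.range (AlgSp.Points.ofPt E.obj.hom) := by
      ext x
      simp only [Set.mem_setOf_eq, Set.mem_iUnion, exists_prop]
    rw [this]
    exact isOpen_iUnion fun E => isOpen_iUnion fun _ =>
      (Groth.Agent.Lib.AlgSpQC.isOpenMap_ofPt_of_repWith_etale E.property).isOpen_range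
  refine ⟨_, ⟨hopen, fun E => ⟨fun hE x hx => ⟨E, hE, hx⟩, fun hsub => ?_⟩⟩, fun W' hW' => key W' hW'.1 hW'.2⟩
  -- gluing
  have hch : ∀ e : ↥E.obj.left.left, ∃ E' : AlgSp.EtOver X.obj, Nonempty (F.obj.obj (Opposite.op E')) ∧
      ∃ e' : ↥E'.obj.left.left, Points.ofPt E'.obj.hom e' = Points.ofPt E.obj.hom e := fun e =>
    hsub ⟨e, rfl⟩
  choose E' hE' e' he' using hch
  refine nonempty_of_cover F hF (fun e => EtOver.prodObj E (E' e)) (fun e => EtOver.prodFst E (E' e))
    (fun e => ⟨e, ?_⟩) (fun e => ?_)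
  · have sq := (E' e).property.1.isPullback E.obj.hom
    rw [← Functor.relativelyRepresentable.map_fst'] at sq
    obtain ⟨w, -, hw⟩ := Groth.Agent.Lib.H86CartierChart2.exists_scheme_point_of_isPullback sq (e' e) e (he' e)
    exact ⟨w, hw⟩
  · obtain ⟨s⟩ := hE' e
    exact ⟨F.obj.map (EtOver.prodSnd E (E' e)).op s⟩

end Groth.Agent.S10230
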