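import Groth.Statements.S10231
import Groth.Agent.Lib.H69EtStalkProps3

set_option autoImplicit false
universe u
open CategoryTheory CategoryTheory.Limits AlgebraicGeometry Topology TopologicalSpace
open AlgSp

namespace Groth.Agent.S10231

/-- Let X be a locally Noetherian algebraic space over a scheme S. Then X is regular (etale locally a
regular scheme: some surjective etale chart from a locally Noetherian scheme all of whose local
rings are regular) if and only if every etale local ring of X at a geometric point is a regular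
local ring. -/
theorem result {S : Scheme.{u}} (X : AlgSp.Space S) (hX : AlgSp.IsLocNoethSp X.obj) :
    AlgSp.EtaleLocally (fun U => IsLocallyNoetherian U ∧ ∀ u : ↥U, IsRegularLocalRing ↥(U.presheaf.stalk u)) X.obj ↔
      ∀ p : AlgSp.FieldPt X.obj, p.IsGeometric → IsRegularLocalRing ↥(AlgSp.OEtStalk p) := by
  have hXa := X.property
  constructor
  · rintro ⟨U, a, hae, has, -, hreg⟩ p hp
    obtain ⟨l⟩ := Groth.Agent.Lib.H69EtPoint.exists_lift_atlas p hp a hae has
    rw [Groth.Agent.Lib.H69EtStalkProps.isRegularLocalRing_OEtStalk_iff p hXa hp l]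
    exact hreg _
  · intro h
    obtain ⟨U, a, hae, has, hN⟩ := hX
    refine ⟨U, a, hae, has, hN, fun u => ?_⟩
    have h1 := (Groth.Agent.Lib.H69EtStalkProps.isRegularLocalRing_OEtStalk_iff
      (Groth.Agent.Lib.H69EtStalkCons.geomPt (AlgSp.EtOver.mk a hae) u) hXa
      (Groth.Agent.Lib.H69EtStalkCons.geomPt_isGeometric (AlgSp.EtOver.mk a hae) u)
      (Groth.Agent.Lib.H69EtStalkCons.geomLift (AlgSp.EtOver.mk a hae) u)).1
      (h _ (Groth.Agent.Lib.H69EtStalkCons.geomPt_isGeometric (AlgSp.EtOver.mk a hae) u))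
    have h2 : Groth.Agent.Lib.H69EtLocalRing.lpt (Groth.Agent.Lib.H69EtStalkCons.geomPt (AlgSp.EtOver.mk a hae) u)
        (Groth.Agent.Lib.H69EtStalkCons.geomLift (AlgSp.EtOver.mk a hae) u) = u :=
      Groth.Agent.Lib.H69EtStalkCons.geomLift_apply (AlgSp.EtOver.mk a hae) u _
    rw [h2] at h1
    exact h1

end Groth.Agent.S10231
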