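import Groth.Statements.S10232
import Groth.Agent.Lib.H69EtStalkProps3

set_option autoImplicit false
universe u
open CategoryTheory CategoryTheory.Limits AlgebraicGeometry Topology TopologicalSpace
open AlgSp

namespace Groth.Agent.S10232

/-- Let X be an algebraic space over a scheme S and x ∈ |X|. Then X is regular at x (for some etale
chart h_U ⟶ X and some point u of U over x, the local ring of U at u is regular) if and only if the
etale local ring of X at x̄ is regular for every geometric point x̄ lying over x, if and only if it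
is regular for some geometric point x̄ lying over x. -/
theorem result {S : Scheme.{u}} (X : AlgSp.Space S) (x : AlgSp.Points X.obj) :
    (AlgSp.HasAt (fun U u => IsRegularLocalRing ↥(U.presheaf.stalk u)) X.obj x ↔
      ∀ p : AlgSp.FieldPt X.obj, p.IsGeometric → AlgSp.Points.mk p = x → IsRegularLocalRing ↥(AlgSp.OEtStalk p)) ∧
    (AlgSp.HasAt (fun U u => IsRegularLocalRing ↥(U.presheaf.stalk u)) X.obj x ↔
      ∃ p : AlgSp.FieldPt X.obj, p.IsGeometric ∧ AlgSp.Points.mk p = x ∧ IsRegularLocalRing ↥(AlgSp.OEtStalk p)) := by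
  have hX := X.property
  refine ⟨⟨fun h p hp hpx => Groth.Agent.Lib.H69EtStalkProps.isRegularLocalRing_OEtStalk_of_hasAt hX x h p hp hpx,
    fun h => ?_⟩, ⟨fun h => ?_, ?_⟩⟩
  · obtain ⟨p, hp, rfl⟩ := Groth.Agent.Lib.H69EtStalkProps.exists_geometric_over hX x
    exact Groth.Agent.Lib.H69EtStalkProps.hasAt_of_isRegularLocalRing_OEtStalk hX p hp (h p hp rfl)
  · obtain ⟨p, hp, hpx⟩ := Groth.Agent.Lib.H69EtStalkProps.exists_geometric_over hX x
    exact ⟨p, hp, hpx, Groth.Agent.Lib.H69EtStalkProps.isRegularLocalRing_OEtStalk_of_hasAt hX x h p hp hpx⟩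
  · rintro ⟨p, hp, rfl, h⟩
    exact Groth.Agent.Lib.H69EtStalkProps.hasAt_of_isRegularLocalRing_OEtStalk hX p hp h

end Groth.Agent.S10232
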