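import Groth.Statements.S10233
import Groth.Agent.Lib.H69InvSub
import Groth.Agent.Lib.H69Immersion
import Groth.Agent.Lib.AlgSpFpqcOpen
import Groth.Agent.Lib.AlgSpFppfCover

set_option autoImplicit false
universe u
open CategoryTheory CategoryTheory.Limits AlgebraicGeometry Topology TopologicalSpace
open AlgSp

namespace Groth.Agent.S10233

/-- Let X be an algebraic space over a scheme S with a presentation (U, R, s, t, p), and let i' : Z' ⟶ U
be an immersion of schemes that is R-invariant, meaning that one locally closed subscheme R' of R is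
at the same time the inverse image of Z' under s and under t. Then Z' descends to a locally closed
subspace of X: there is a morphism of algebraic spaces i : Z ⟶ X representable by immersions
together with a map h_{Z'} ⟶ Z making h_{Z'} the fibre product Z ×_X h_U; moreover i is a closed
(resp. open) immersion when i' is. -/
theorem result {S : Scheme.{u}} (X : AlgSp.Space S) {R U : Over S} (s t : R ⟶ U)
    (p : (AlgSp.yon S).obj U ⟶ X.obj) (hp : AlgSp.IsPresentation s t p)
    {Z' R' : Scheme.{u}} (i' : Z' ⟶ U.left) [IsImmersion i'] (k : R' ⟶ R.left) (s' t' : R' ⟶ Z')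
    (hs : IsPullback k s' s.left i') (ht : IsPullback k t' t.left i') :
    ∃ (Z : AlgSp.Space S) (i : Z ⟶ X) (q : (AlgSp.yon S).obj (Over.mk (i' ≫ U.hom)) ⟶ Z.obj),
      AlgSp.RepWith @IsImmersion i.hom ∧
      IsPullback q ((AlgSp.yon S).map (Over.homMk i' rfl : Over.mk (i' ≫ U.hom) ⟶ U)) i.hom p ∧
      (IsClosedImmersion i' → AlgSp.RepWith @IsClosedImmersion i.hom) ∧
      (IsOpenImmersion i' → AlgSp.RepWith @IsOpenImmersion i.hom) := by
  -- the data as objects and morphisms over `S`
  let Z'o : Over S := Over.mk (i' ≫ U.hom)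
  let io : Z'o ⟶ U := Over.homMk i' rfl
  let R'o : Over S := Over.mk (k ≫ R.hom)
  let ko : R'o ⟶ R := Over.homMk k rfl
  have es : s' ≫ i' ≫ U.hom = k ≫ R.hom := by
    rw [← Category.assoc, ← hs.w, Category.assoc, Over.w s]
  have et : t' ≫ i' ≫ U.hom = k ≫ R.hom := by
    rw [← Category.assoc, ← ht.w, Category.assoc, Over.w t]
  let s'o : R'o ⟶ Z'o := Over.homMk s' es
  let t'o : R'o ⟶ Z'o := Over.homMk t' et
  have hso : IsPullback ko s'o s io := by
    apply IsPullback.of_map_of_faithful (Over.forget S)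
    exact hs
  have hto : ko ≫ t = t'o ≫ io := Over.OverMorphism.ext ht.w
  have hmono : Mono io := by
    have : Mono ((Over.forget S).map io) := (inferInstance : Mono i')
    exact (Over.forget S).mono_of_mono_map this
  have sq := Groth.Agent.Lib.H69InvSub.isPullback_toImage_of_invariant s t p hp.isPullback io ko s'o t'o
    hso hto
  -- the image sheaf is an algebraic space
  have hZ : AlgSp.IsAlgSpace (Sheaf.image ((AlgSp.yon S).map io ≫ p)) :=
    { diag := by
        apply Functor.relativelyRepresentable.diag_of_map_from_obj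
        intro T g' T' b
        obtain ⟨V, snd, fst, hpb⟩ := X.property.representable_from_yon
          (g' ≫ Sheaf.imageι ((AlgSp.yon S).map io ≫ p)) (b ≫ Sheaf.imageι ((AlgSp.yon S).map io ≫ p))
        exact ⟨V, snd, fst,
          Groth.Agent.Lib.H86AlgSpOpen.isPullback_of_comp_mono (Sheaf.imageι ((AlgSp.yon S).map io ≫ p)) hpb⟩
      atlas := ⟨Z'o, Sheaf.toImage ((AlgSp.yon S).map io ≫ p),
        Groth.Agent.Lib.AlgSpBasic.repWith_fst_of_isPullback _ sq hp.etale,
        Groth.Agent.Lib.AlgSpBasic.repWith_fst_of_isPullback _ sq hp.surjective⟩ }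
  refine ⟨⟨Sheaf.image ((AlgSp.yon S).map io ≫ p), hZ⟩,
    ObjectProperty.homMk (Sheaf.imageι ((AlgSp.yon S).map io ≫ p)),
    Sheaf.toImage ((AlgSp.yon S).map io ≫ p), ?_, sq, ?_, ?_⟩
  · exact Groth.Agent.Lib.H69Immersion.repWith_isImmersion_of_etale_cover _ p hp.etale hp.surjective _ _ sq
      ((AlgSp.repWith_yon_map_iff @IsImmersion io).2 (inferInstance : IsImmersion i'))
  · intro hc
    have := Groth.Agent.Lib.H69FppfLocal.isClosedImmersion.{u}
    exact Groth.Agent.Lib.H69DescentAffine.repWith_of_fppf_cover_of_le_isAffineHom @IsClosedImmersion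
      (fun _ _ g (hg : IsClosedImmersion g) => (inferInstance : IsAffineHom g)) _ p
      (Groth.Agent.Lib.H69AlgSp.repWith_flat_of_etale hp.etale)
      (Groth.Agent.Lib.H69AlgSp.repWith_lfp_of_etale hp.etale) hp.surjective _ _ sq
      ((AlgSp.repWith_yon_map_iff @IsClosedImmersion io).2 hc)
  · intro ho
    exact Groth.Agent.Lib.AlgSpFpqc.repWith_isOpenImmersion_of_hasFpqcRefinement
      (ι := PUnit.{u+1}) hZ X.property (Yi := fun _ => (AlgSp.yon S).obj U)
      (fun _ => AlgSp.IsAlgSpace.yon_obj U) (g := fun _ => p)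
      (Groth.Agent.Lib.AlgSpFpqc.isFpqcCover_of_etale_surjective_chart X.property hp.etale hp.surjective).2
      (Xi := fun _ => (AlgSp.yon S).obj Z'o) (p := fun _ => (AlgSp.yon S).map io)
      (q := fun _ => Sheaf.toImage ((AlgSp.yon S).map io ≫ p)) (fun _ => sq)
      (fun _ => (AlgSp.repWith_yon_map_iff @IsOpenImmersion io).2 ho)

end Groth.Agent.S10233
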