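import Groth.Statements.S10239
import Groth.Agent.Lib.H69EtStalkBranch2

set_option autoImplicit false
universe u
open CategoryTheory CategoryTheory.Limits AlgebraicGeometry Topology TopologicalSpace
open AlgSp

namespace Groth.Agent.S10239

/-- (1) ⇔ (4) ⇔ (5): let X be an algebraic space over a scheme S, x ∈ |X| and n ≥ 1 an integer. The
following are equivalent: (1) for every scheme U, etale h_U ⟶ X and u ∈ U over x the local ring of U
at u has at most n minimal primes, and for some such (U, u) exactly n; (4) for every such (U, u) the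
number of geometric branches of U at u is n; (5) for every geometric point x̄ over x the etale local
ring of X at x̄ has exactly n minimal primes. -/
theorem result {S : Scheme.{u}} (X : AlgSp.Space S) (x : AlgSp.Points X.obj)
    (n : ℕ) (hn : 1 ≤ n) :
    (((∀ (U : Over S) (a : (AlgSp.yon S).obj U ⟶ X.obj) (u : ↥U.left),
        AlgSp.RepWith @Etale a → AlgSp.Points.ofPt a u = x → (minimalPrimes ↥(U.left.presheaf.stalk u)).encard ≤ n) ∧
        AlgSp.HasAt (fun U u => (minimalPrimes ↥(U.presheaf.stalk u)).encard = n) X.obj x) ↔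
      (∀ (U : Over S) (a : (AlgSp.yon S).obj U ⟶ X.obj) (u : ↥U.left),
        AlgSp.RepWith @Etale a → AlgSp.Points.ofPt a u = x → Brnch.numGeomBranchesAt U.left u = n)) ∧
    ((∀ (U : Over S) (a : (AlgSp.yon S).obj U ⟶ X.obj) (u : ↥U.left),
        AlgSp.RepWith @Etale a → AlgSp.Points.ofPt a u = x → Brnch.numGeomBranchesAt U.left u = n) ↔
      ∀ p : AlgSp.FieldPt X.obj, p.IsGeometric → AlgSp.Points.mk p = x →
        (minimalPrimes ↥(AlgSp.OEtStalk p)).encard = n) := by
  have hX := X.property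
  have h23 : (∀ (U : Over S) (a : (AlgSp.yon S).obj U ⟶ X.obj) (u : ↥U.left),
        AlgSp.RepWith @Etale a → AlgSp.Points.ofPt a u = x → Brnch.numGeomBranchesAt U.left u = n) →
      ∀ p : AlgSp.FieldPt X.obj, p.IsGeometric → AlgSp.Points.mk p = x →
        (minimalPrimes ↥(AlgSp.OEtStalk p)).encard = n := by
    intro h p hp hpx
    obtain ⟨N⟩ := Groth.Agent.Lib.H69EtNbhd.nonempty_etNbhd p hX hp
    rw [Groth.Agent.Lib.H69EtStalkBranch.encard_minimalPrimes_OEtStalk p hX hp N.2]
    exact h N.1.obj.left N.1.obj.hom _ N.1.property ((Groth.Agent.Lib.H69EtStalkProps.lpt_over p N.2).trans hpx)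
  have h32 : (∀ p : AlgSp.FieldPt X.obj, p.IsGeometric → AlgSp.Points.mk p = x →
        (minimalPrimes ↥(AlgSp.OEtStalk p)).encard = n) →
      (∀ (U : Over S) (a : (AlgSp.yon S).obj U ⟶ X.obj) (u : ↥U.left),
        AlgSp.RepWith @Etale a → AlgSp.Points.ofPt a u = x → Brnch.numGeomBranchesAt U.left u = n) := by
    intro h U a u ha hu
    have hp := Groth.Agent.Lib.H69EtStalkCons.geomPt_isGeometric (AlgSp.EtOver.mk a ha) u
    have hpx : AlgSp.Points.mk (Groth.Agent.Lib.H69EtStalkCons.geomPt (AlgSp.EtOver.mk a ha) u) = x :=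
      (Groth.Agent.Lib.H69EtStalkCons.mk_geomPt (AlgSp.EtOver.mk a ha) u).trans hu
    have h1 := Groth.Agent.Lib.H69EtStalkBranch.encard_minimalPrimes_OEtStalk _ hX hp
      (Groth.Agent.Lib.H69EtStalkCons.geomLift (AlgSp.EtOver.mk a ha) u)
    have h2 : Groth.Agent.Lib.H69EtLocalRing.lpt (Groth.Agent.Lib.H69EtStalkCons.geomPt (AlgSp.EtOver.mk a ha) u)
        (Groth.Agent.Lib.H69EtStalkCons.geomLift (AlgSp.EtOver.mk a ha) u) = u :=
      Groth.Agent.Lib.H69EtStalkCons.geomLift_apply (AlgSp.EtOver.mk a ha) u _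
    rw [h2] at h1
    exact h1.symm.trans (h _ hp hpx)
  have h31 : (∀ p : AlgSp.FieldPt X.obj, p.IsGeometric → AlgSp.Points.mk p = x →
        (minimalPrimes ↥(AlgSp.OEtStalk p)).encard = n) →
      ((∀ (U : Over S) (a : (AlgSp.yon S).obj U ⟶ X.obj) (u : ↥U.left),
        AlgSp.RepWith @Etale a → AlgSp.Points.ofPt a u = x → (minimalPrimes ↥(U.left.presheaf.stalk u)).encard ≤ n) ∧
        AlgSp.HasAt (fun U u => (minimalPrimes ↥(U.presheaf.stalk u)).encard = n) X.obj x) := by
    intro h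
    constructor
    · intro U a u ha hu
      have hp := Groth.Agent.Lib.H69EtStalkCons.geomPt_isGeometric (AlgSp.EtOver.mk a ha) u
      have hpx : AlgSp.Points.mk (Groth.Agent.Lib.H69EtStalkCons.geomPt (AlgSp.EtOver.mk a ha) u) = x :=
        (Groth.Agent.Lib.H69EtStalkCons.mk_geomPt (AlgSp.EtOver.mk a ha) u).trans hu
      have h1 := Groth.Agent.Lib.H69EtStalkBranch.encard_minimalPrimes_le _ hX hp
        (Groth.Agent.Lib.H69EtStalkCons.geomLift (AlgSp.EtOver.mk a ha) u)
      have h2 : Groth.Agent.Lib.H69EtLocalRing.lpt (Groth.Agent.Lib.H69EtStalkCons.geomPt (AlgSp.EtOver.mk a ha) u)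
          (Groth.Agent.Lib.H69EtStalkCons.geomLift (AlgSp.EtOver.mk a ha) u) = u :=
        Groth.Agent.Lib.H69EtStalkCons.geomLift_apply (AlgSp.EtOver.mk a ha) u _
      rw [h2] at h1
      exact h1.trans_eq (h _ hp hpx)
    · obtain ⟨p, hp, hpx⟩ := Groth.Agent.Lib.H69EtStalkProps.exists_geometric_over hX x
      have hS := h p hp hpx
      obtain ⟨E, hE, l, hle⟩ := Groth.Agent.Lib.H69EtStalkBranch.exists_encard_le_of_finite p hX hp
        (minimalPrimes ↥(AlgSp.OEtStalk p)) (Set.finite_of_encard_eq_coe hS) subset_rfl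
      have hle' := Groth.Agent.Lib.H69EtStalkBranch.encard_minimalPrimes_le p hX hp l
      rw [hS] at hle hle'
      exact ⟨E.obj.left, E.obj.hom, Groth.Agent.Lib.H69EtLocalRing.lpt p l, E.property,
        (Groth.Agent.Lib.H69EtStalkProps.lpt_over p l).trans hpx, le_antisymm hle' hle⟩
  have h13 : ((∀ (U : Over S) (a : (AlgSp.yon S).obj U ⟶ X.obj) (u : ↥U.left),
        AlgSp.RepWith @Etale a → AlgSp.Points.ofPt a u = x → (minimalPrimes ↥(U.left.presheaf.stalk u)).encard ≤ n) ∧
        AlgSp.HasAt (fun U u => (minimalPrimes ↥(U.presheaf.stalk u)).encard = n) X.obj x) →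
      ∀ p : AlgSp.FieldPt X.obj, p.IsGeometric → AlgSp.Points.mk p = x →
        (minimalPrimes ↥(AlgSp.OEtStalk p)).encard = n := by
    rintro ⟨hle, U₀, a₀, u₀, ha₀, hu₀, hn₀⟩ p hp hpx
    apply le_antisymm
    · by_contra hlt
      rw [not_le] at hlt
      have h1 : ((n + 1 : ℕ) : ℕ∞) ≤ (minimalPrimes ↥(AlgSp.OEtStalk p)).encard := by
        rw [Nat.cast_add, Nat.cast_one]
        exact Order.add_one_le_of_lt hlt
      obtain ⟨F, hFs, hFc⟩ := Set.exists_subset_encard_eq h1
      obtain ⟨E, hE, l, h2⟩ := Groth.Agent.Lib.H69EtStalkBranch.exists_encard_le_of_finite p hX hp F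
        (Set.finite_of_encard_eq_coe hFc) hFs
      have h3 := hle E.obj.left E.obj.hom (Groth.Agent.Lib.H69EtLocalRing.lpt p l) E.property
        ((Groth.Agent.Lib.H69EtStalkProps.lpt_over p l).trans hpx)
      rw [hFc] at h2
      have h4 := h2.trans h3
      rw [Nat.cast_le] at h4
      omega
    · obtain ⟨l, hl⟩ := Groth.Agent.Lib.H69EtStalkProps.exists_lift_through p hp a₀ ha₀ u₀ (hu₀.trans hpx.symm)
      have h1 := Groth.Agent.Lib.H69EtStalkBranch.encard_minimalPrimes_le p hX hp l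
      rw [hl] at h1
      exact hn₀.symm.trans_le h1
  exact ⟨⟨fun h => h32 (h13 h), fun h => h31 (h23 h)⟩, ⟨h23, h32⟩⟩

end Groth.Agent.S10239
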