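import Groth.Statements.S10242
import Groth.Agent.Lib.H86LimitsRed

set_option linter.style.haveILetI false

set_option autoImplicit false
universe u
open CategoryTheory CategoryTheory.Limits AlgebraicGeometry Topology TopologicalSpace
open AlgSp

namespace Groth.Agent.S10242

/-- Let X be a reduced algebraic space over a scheme S. Then the ring of global sections of the
structure sheaf of X (on the small etale site) is reduced, and if a global section f satisfies X =
V(f), meaning that its restriction to every scheme U etale over X has empty non-vanishing locus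
D(f|_U), then f = 0. -/
theorem result {S : Scheme.{u}} (X : AlgSp.Space S) (hX : AlgSp.IsReducedSp X.obj) :
    _root_.IsReduced ↥(AlgSp.gsectEt (AlgSp.OEt X.obj)) ∧
      ∀ f : ↥(AlgSp.gsectEt (AlgSp.OEt X.obj)),
        (∀ E : AlgSp.EtOver X.obj,
            E.obj.left.left.basicOpen ((limit.π (AlgSp.OEt X.obj).obj (Opposite.op E)) f).down = ⊥) →
          f = 0 := by
  have hred : ∀ E : AlgSp.EtOver X.obj, _root_.IsReduced Γ(E.obj.left.left, ⊤) := by
    intro E
    haveI : AlgebraicGeometry.IsReduced E.obj.left.left :=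
      Groth.Agent.Lib.H86Limits.isReduced_of_repWith_etale hX E.obj.hom E.property
    infer_instance
  have hext : ∀ f g : ↥(AlgSp.gsectEt (AlgSp.OEt X.obj)),
      (∀ E : AlgSp.EtOver X.obj, (limit.π (AlgSp.OEt X.obj).obj (Opposite.op E)) f =
        (limit.π (AlgSp.OEt X.obj).obj (Opposite.op E)) g) → f = g := by
    intro f g h
    refine Concrete.limit_ext (AlgSp.OEt X.obj).obj f g fun j => ?_
    exact h j.unop
  have hzero : ∀ f : ↥(AlgSp.gsectEt (AlgSp.OEt X.obj)),
      (∀ E : AlgSp.EtOver X.obj,
        ((limit.π (AlgSp.OEt X.obj).obj (Opposite.op E)) f).down = 0) → f = 0 := by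
    intro f h
    refine hext f 0 fun E => ?_
    rw [map_zero]
    exact ULift.ext _ _ (h E)
  refine ⟨⟨fun f hf => ?_⟩, fun f hf => ?_⟩
  · obtain ⟨n, hn⟩ := hf
    refine hzero f fun E => ?_
    have hredE : _root_.IsReduced Γ(E.obj.left.left, ⊤) := hred E
    have h1 : ((limit.π (AlgSp.OEt X.obj).obj (Opposite.op E)) f) ^ n = 0 := by
      rw [← map_pow, hn, map_zero]
    have h2 : (((limit.π (AlgSp.OEt X.obj).obj (Opposite.op E)) f).down) ^ n = 0 :=
      congrArg ULift.down h1
    exact hredE.eq_zero _ ⟨n, h2⟩
  · refine hzero f fun E => ?_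
    haveI : AlgebraicGeometry.IsReduced E.obj.left.left :=
      Groth.Agent.Lib.H86Limits.isReduced_of_repWith_etale hX E.obj.hom E.property
    exact (AlgebraicGeometry.basicOpen_eq_bot_iff (X := E.obj.left.left)
      (((limit.π (AlgSp.OEt X.obj).obj (Opposite.op E)) f).down)).1 (hf E)

end Groth.Agent.S10242
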