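import Groth.Statements.S10246
import Groth.Agent.Lib.H69AlgSpColim

set_option autoImplicit false
universe u
open CategoryTheory CategoryTheory.Limits AlgebraicGeometry Topology TopologicalSpace
open AlgSp

namespace Groth.Agent.S10246

theorem exists_hom_affine {X Y : Scheme.{u}} [IsAffine Y] (ψ : Γ(Y, ⊤) ⟶ Γ(X, ⊤)) :
    ∃ m : X ⟶ Y, m.appTop = ψ := by
  refine ⟨X.toSpecΓ ≫ Spec.map ψ ≫ Y.isoSpec.inv, ?_⟩
  rw [Scheme.Hom.comp_appTop, Scheme.Hom.comp_appTop, Scheme.toSpecΓ_appTop, Category.assoc,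
    Scheme.ΓSpecIso_naturality]
  rw [← Category.assoc, ← Scheme.toSpecΓ_appTop, ← Scheme.Hom.comp_appTop]
  have : Y.toSpecΓ ≫ Y.isoSpec.inv = 𝟙 _ := Y.isoSpec.hom_inv_id
  rw [this]
  simp

section

variable {S : Scheme.{u}} (X : AlgSp.Space S) (T : Over S)
  (φ : Γ(T.left, ⊤) →+* ↥(AlgSp.gsectEt (AlgSp.OEt X.obj)))

/-- the ring map to the functions on an object of the small etale site -/
noncomputable def psi (E : AlgSp.EtOver X.obj) : Γ(T.left, ⊤) →+* Γ(E.obj.left.left, ⊤) :=
  ((ULift.ringEquiv : ULift.{u + 1} Γ(E.obj.left.left, ⊤) ≃+* Γ(E.obj.left.left, ⊤)).toRingHom.comp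
    (limit.π (AlgSp.OEt X.obj).obj (Opposite.op E)).hom).comp φ

theorem psi_apply (E : AlgSp.EtOver X.obj) (r : Γ(T.left, ⊤)) :
    psi X T φ E r = ((limit.π (AlgSp.OEt X.obj).obj (Opposite.op E)) (φ r)).down := rfl

theorem psi_comp {E' E : AlgSp.EtOver X.obj} (h : E' ⟶ E) (r : Γ(T.left, ⊤)) :
    psi X T φ E' r = h.hom.left.left.appTop.hom (psi X T φ E r) := by
  rw [psi_apply, psi_apply]
  have h' := limit.w (AlgSp.OEt X.obj).obj h.op
  rw [← h', CommRingCat.comp_apply, AlgSp.OEt_map]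

end


/-- Let X be an algebraic space over a terminal base scheme (so that morphisms over the base are all
morphisms) and T an affine scheme. Then f ↦ f♯ is a bijection from morphisms X ⟶ T to ring maps Γ(T,
O_T) ⟶ Γ(X, O_X), where Γ(X, O_X) is the ring of global sections of the structure sheaf on the small
etale site and f♯ is characterised by: for every scheme U etale over X, following f♯ by the
restriction Γ(X, O_X) ⟶ Γ(U, O_U) gives the map on global sections of the induced morphism U ⟶ T. -/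
theorem result {S : Scheme.{u}} (hS : IsTerminal S) (X : AlgSp.Space S)
    (T : Over S) [IsAffine T.left] (φ : Γ(T.left, ⊤) →+* ↥(AlgSp.gsectEt (AlgSp.OEt X.obj))) :
    ∃! f : X.obj ⟶ (AlgSp.yon S).obj T,
      ∀ (E : AlgSp.EtOver X.obj) (r : Γ(T.left, ⊤)),
        ((limit.π (AlgSp.OEt X.obj).obj (Opposite.op E)) (φ r)).down =
          ((AlgSp.yon S).preimage (E.obj.hom ≫ f)).left.appTop r := by
  classical
  have hm : ∀ E : AlgSp.EtOver X.obj, ∃ m : E.obj.left.left ⟶ T.left,
      m.appTop = CommRingCat.ofHom (psi X T φ E) := fun E => exists_hom_affine _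
  choose m hm using hm
  let mO : ∀ E : AlgSp.EtOver X.obj, E.obj.left ⟶ T := fun E => Over.homMk (m E) (hS.hom_ext _ _)
  have hnat : ∀ {E E' : AlgSp.EtOver X.obj} (h : E' ⟶ E),
      (AlgSp.yon S).map h.hom.left ≫ (AlgSp.yon S).map (mO E) = (AlgSp.yon S).map (mO E') := by
    intro E E' h
    rw [← Functor.map_comp]
    congr 1
    apply Over.OverMorphism.ext
    change h.hom.left.left ≫ m E = m E'
    apply ext_of_isAffine
    rw [Scheme.Hom.comp_appTop, hm, hm]
    ext r
    exact (psi_comp X T φ h r).symm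
  obtain ⟨f, hf, hfu⟩ := Groth.Agent.Lib.H69AlgSpColim.existsUnique_desc X.property ((AlgSp.yon S).obj T)
    (fun E => (AlgSp.yon S).map (mO E)) hnat
  have hiff : ∀ f' : X.obj ⟶ (AlgSp.yon S).obj T,
      (∀ (E : AlgSp.EtOver X.obj) (r : Γ(T.left, ⊤)),
        ((limit.π (AlgSp.OEt X.obj).obj (Opposite.op E)) (φ r)).down =
          ((AlgSp.yon S).preimage (E.obj.hom ≫ f')).left.appTop r) ↔
      ∀ E : AlgSp.EtOver X.obj, E.obj.hom ≫ f' = (AlgSp.yon S).map (mO E) := by
    intro f'
    constructor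
    · intro h E
      have h1 : ((AlgSp.yon S).preimage (E.obj.hom ≫ f')).left = m E := by
        apply ext_of_isAffine
        rw [hm]
        ext r
        exact (h E r).symm
      have h2 : (AlgSp.yon S).preimage (E.obj.hom ≫ f') = mO E := Over.OverMorphism.ext h1
      rw [← h2, Functor.map_preimage]
    · intro h E r
      rw [h E, Functor.preimage_map]
      change _ = (m E).appTop r
      rw [hm]
      rfl
  exact ⟨f, (hiff f).2 hf, fun f' hf' => hfu f' ((hiff f').1 hf')⟩

end Groth.Agent.S10246
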