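import Groth.Statements.S1025
import Groth.Agent.Lib.FibreOpenGen21
import Groth.Agent.Lib.TFunRank

set_option autoImplicit false
universe u
open CategoryTheory AlgebraicGeometry
open Perf

namespace Groth.Agent.S1025

/-- Let f : X ⟶ S be proper and of finite presentation and F an O_X-module of finite presentation which
is flat over S. For each i the function s ↦ dim_{κ(s)} Hⁱ(X_s, F_s) (cohomology of the pullback of F
to the scheme-theoretic fibre) is upper semicontinuous: for every n the set of points where it is <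
n is open. -/
theorem result {X S : Scheme.{u}} (f : X ⟶ S) [IsProper f] [LocallyOfFinitePresentation f]
    (F : X.Modules) (hF : CohB1.IsFP F) (hflat : FlatMod.IsFlatOver f F) (i n : ℕ) :
    IsOpen {s : S | PerfAux.betti f F s i < n} := by
  rw [isOpen_iff_forall_mem_open]
  intro y hy
  obtain ⟨V, hV, hz⟩ := Groth.Agent.Lib.FibreOpenGen21.exists_affine_nbhd y
  let _ := Groth.Agent.Lib.FibreOpen21.overV f hV
  obtain ⟨A₀, -, -, L₀, h1, -, -, -, h5⟩ :=
    Groth.Agent.Lib.FibreOpenGen21.exists_model_V_gen f F hF hflat hV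
  have husc : UpperSemicontinuous (CohIII.dRank L₀ (i : ℤ)) := by
    have := (h1 (i : ℤ)).1
    have := (h1 ((ComplexShape.up ℤ).next (i : ℤ))).1
    have := (h1 ((ComplexShape.up ℤ).next (i : ℤ))).2
    have : Module.FinitePresentation ↥A₀ (L₀.X ((ComplexShape.up ℤ).next (i : ℤ))) :=
      Module.finitePresentation_of_projective _ _
    exact Groth.Agent.Lib.TFunRank.upperSemicontinuous_dRank L₀ _
  have hU₀ : IsOpen {x : PrimeSpectrum ↥A₀ | CohIII.dRank L₀ (i : ℤ) x < n} := by
    rw [upperSemicontinuous_iff_isOpen_preimage] at husc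
    exact husc n
  have hU' : IsOpen {x : PrimeSpectrum (Groth.Agent.Lib.FibreOpen21.AV V) |
      CohIII.dRank L₀ (i : ℤ) (PrimeSpectrum.comap
        (algebraMap ↥A₀ (Groth.Agent.Lib.FibreOpen21.AV V)) x) < n} :=
    hU₀.preimage (PrimeSpectrum.continuous_comap (algebraMap ↥A₀ (Groth.Agent.Lib.FibreOpen21.AV V)))
  let O : S.Opens := (Groth.Agent.Lib.FibreOpen21.isAffineOpen_W hV).fromSpec ''ᵁ ⟨_, hU'⟩
  refine ⟨O, ?_, O.2, ?_⟩
  · rintro z ⟨x, hx, rfl⟩
    have h3 := h5 _ (Groth.Agent.Lib.FibreOpenGen21.fromSpec_mem hV x) i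
    rw [Groth.Agent.Lib.FibreOpenGen21.xV_fromSpec hV x] at h3
    exact lt_of_eq_of_lt h3 hx
  · refine ⟨Groth.Agent.Lib.FibreOpen21.xV hV y hz, ?_,
      (Groth.Agent.Lib.FibreOpen21.isAffineOpen_W hV).fromSpec_primeIdealOf ⟨y, hz⟩⟩
    change CohIII.dRank L₀ (i : ℤ) (PrimeSpectrum.comap
      (algebraMap ↥A₀ (Groth.Agent.Lib.FibreOpen21.AV V))
      (Groth.Agent.Lib.FibreOpen21.xV hV y hz)) < n
    rw [← h5 y hz i]
    exact hy

end Groth.Agent.S1025
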