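import Groth.Statements.S10250
import Groth.Agent.Lib.AlgSpDim91
import Groth.Agent.Lib.AlgSpQC

set_option linter.style.haveILetI false

set_option autoImplicit false
universe u
open CategoryTheory CategoryTheory.Limits AlgebraicGeometry Topology TopologicalSpace
open AlgSp

namespace Groth.Agent.S10250

set_option backward.isDefEq.respectTransparency false in
/-- Let f : X ⟶ Y be an etale and surjective morphism of algebraic spaces over a scheme S. Then X and Y
have the same dimension (the dimension of an algebraic space being the supremum of the Krull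
dimensions of the schemes etale over it). -/
theorem result {S : Scheme.{u}} {X Y : AlgSp.Space S} (f : X ⟶ Y)
    (hf : AlgSp.IsEtaleMor f.hom) (hs : AlgSp.IsSurjectiveMor f.hom) :
    AlgSp.dim X.obj = AlgSp.dim Y.obj := by
  apply le_antisymm
  · refine iSup_le fun U => iSup_le fun a => iSup_le fun ha => ?_
    exact Groth.Agent.Lib.AlgSpDim91.topologicalKrullDim_le_dim (a ≫ f.hom) (hf a ha)
  · refine iSup_le fun V => iSup_le fun b => iSup_le fun hb => ?_
    obtain ⟨U, a, hae, has⟩ := X.property.atlas
    have hafe : RepWith @Etale (a ≫ f.hom) := hf a hae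
    have hsurj : IsSurjectiveMor (a ≫ f.hom) := by
      change Function.Surjective (Points.map (a ≫ f.hom))
      have : Points.map (a ≫ f.hom) = Points.map f.hom ∘ Points.map a := by
        funext z; exact Points.map_comp a f.hom z
      rw [this]
      exact hs.comp (Groth.Agent.Lib.AlgSpQC.surjective_map_of_repWith_surjective has)
    have hafs : RepWith @Surjective (a ≫ f.hom) :=
      Groth.Agent.Lib.AlgSpQC.repWith_surjective_of_isSurjectiveMor hafe.rep hsurj
    have sq := hafe.rep.isPullback' b
    haveI h1 : Etale (hafe.rep.snd b).left := hafe.property_snd b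
    haveI h2 : Surjective (hafe.rep.snd b).left := hafs.property_snd b
    have h3 : RepWith @Etale ((yon S).map (hafe.rep.fst' b)) :=
      Groth.Agent.Lib.AlgSpBasic.repWith_fst_of_isPullback @Etale sq hb
    have h4 : RepWith @Etale ((yon S).map (hafe.rep.fst' b) ≫ a) :=
      MorphismProperty.comp_mem _ _ _ h3 hae
    calc topologicalKrullDim ↥V.left = topologicalKrullDim ↥(hafe.rep.pullback b).left :=
          (Groth.Agent.Lib.AlgSpDim91.topologicalKrullDim_eq_of_etale_surjective
            (hafe.rep.snd b).left).symm
      _ ≤ AlgSp.dim X.obj := Groth.Agent.Lib.AlgSpDim91.topologicalKrullDim_le_dim _ h4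

end Groth.Agent.S10250
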