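import Groth.Statements.S1026
import Groth.Agent.Lib.FibreOpenGen21
import Groth.Agent.Lib.EulerLocConst21
import Groth.Agent.Lib.LocalVanish21

set_option autoImplicit false
universe u
open CategoryTheory AlgebraicGeometry
open Perf

namespace Groth.Agent.S1026

open CategoryTheory CategoryTheory.Limits CohIII Groth.Agent.Lib.FibreAlg21 Groth.Agent.Lib.TFunRank
  Groth.Agent.Lib.TFun in
/-- `T^i_L(κ(x)) = 0 ⇒ d_i(x) = 0` -/
private theorem dRank_eq_zero_of_isZero_TFun {A : Type u} [CommRing A]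
    (L : CochainComplex (ModuleCat.{u} A) ℤ) (i : ℤ) (x : PrimeSpectrum A)
    (h : IsZero ((TFun L i).obj (ModuleCat.of A x.asIdeal.ResidueField))) : dRank L i x = 0 := by
  have h1 := h.of_iso (Groth.Agent.Lib.TFunCompare.homologyCompare x.asIdeal.ResidueField L i)
  have h0 : IsZero ((bcCx (algebraMap A x.asIdeal.ResidueField) L).homology i) :=
    (isZero_RB_iff (A := A) x.asIdeal.ResidueField _).mp h1
  have : Subsingleton ((bcCx (algebraMap A x.asIdeal.ResidueField) L).homology i) :=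
    ModuleCat.subsingleton_of_isZero h0
  unfold dRank
  exact Module.finrank_zero_of_subsingleton

/-- Let f : X ⟶ S be proper and of finite presentation and F an O_X-module of finite presentation which
is flat over S. Then the Euler characteristic s ↦ χ(X_s, F_s) = Σᵢ (-1)ⁱ dim_{κ(s)} Hⁱ(X_s, F_s) is
a locally constant function on S. (The source adds that its formation commutes with base change.) -/
theorem result {X S : Scheme.{u}} (f : X ⟶ S) [IsProper f] [LocallyOfFinitePresentation f]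
    (F : X.Modules) (hF : CohB1.IsFP F) (hflat : FlatMod.IsFlatOver f F) :
    IsLocallyConstant (fun s : S => PerfAux.eulerChar f F s) := by
  rw [IsLocallyConstant.iff_exists_open]
  intro y
  obtain ⟨V, hV, hz⟩ := Groth.Agent.Lib.FibreOpenGen21.exists_affine_nbhd y
  let _ := Groth.Agent.Lib.FibreOpen21.overV f hV
  obtain ⟨A₀, -, -, L₀, h1, ⟨b, hb⟩, h4, -, h5⟩ :=
    Groth.Agent.Lib.FibreOpenGen21.exists_model_V_gen f F hF hflat hV
  -- the Euler characteristic through the model
  set n : ℕ := (b + 1).toNat with hn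
  have hbn : b < (n : ℤ) := by
    rw [hn]
    omega
  have hneg : ∀ x : PrimeSpectrum ↥A₀, CohIII.dRank L₀ (-1) x = 0 := by
    intro x
    exact dRank_eq_zero_of_isZero_TFun L₀ (-1) x (h4 (-1) (by omega) _)
  have hlc := Groth.Agent.Lib.EulerLocConst21.isLocallyConstant_sum_dRank L₀ h1 b hb hneg n hbn
  have heuler : ∀ (z : S) (hz : z ∈ V.ι ''ᵁ ⊤), PerfAux.eulerChar f F z =
      (Finset.range n).sum (fun i : ℕ => (-1 : ℤ) ^ i *
        (CohIII.dRank L₀ (i : ℤ) (PrimeSpectrum.comap
          (algebraMap ↥A₀ (Groth.Agent.Lib.FibreOpen21.AV V))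
          (Groth.Agent.Lib.FibreOpen21.xV hV z hz)) : ℤ)) := by
    intro z hz
    unfold PerfAux.eulerChar
    have hbetti : ∀ i : ℕ, PerfAux.betti f F z i = CohIII.dRank L₀ (i : ℤ) (PrimeSpectrum.comap
        (algebraMap ↥A₀ (Groth.Agent.Lib.FibreOpen21.AV V))
        (Groth.Agent.Lib.FibreOpen21.xV hV z hz)) := fun i => h5 z hz i
    rw [finsum_eq_sum_of_support_subset (s := Finset.range n)]
    · exact Finset.sum_congr rfl (fun i _ => by rw [hbetti i])
    · intro i hi
      rw [Function.mem_support] at hi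
      rw [Finset.coe_range, Set.mem_Iio]
      by_contra hcon
      apply hi
      rw [hbetti i]
      have hzero : Limits.IsZero (L₀.X (i : ℤ)) := hb _ (by omega)
      have h2 : Limits.IsZero ((CohIII.bcCx (algebraMap ↥A₀ (PrimeSpectrum.comap
          (algebraMap ↥A₀ (Groth.Agent.Lib.FibreOpen21.AV V))
          (Groth.Agent.Lib.FibreOpen21.xV hV z hz)).asIdeal.ResidueField) L₀).X (i : ℤ)) :=
        Functor.map_isZero (ModuleCat.extendScalars _) hzero
      have h3 : Limits.IsZero ((CohIII.bcCx (algebraMap ↥A₀ (PrimeSpectrum.comap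
          (algebraMap ↥A₀ (Groth.Agent.Lib.FibreOpen21.AV V))
          (Groth.Agent.Lib.FibreOpen21.xV hV z hz)).asIdeal.ResidueField) L₀).homology (i : ℤ)) :=
        ShortComplex.isZero_homology_of_isZero_X₂ _ h2
      have : Subsingleton ((CohIII.bcCx (algebraMap ↥A₀ (PrimeSpectrum.comap
          (algebraMap ↥A₀ (Groth.Agent.Lib.FibreOpen21.AV V))
          (Groth.Agent.Lib.FibreOpen21.xV hV z hz)).asIdeal.ResidueField) L₀).homology (i : ℤ)) :=
        ModuleCat.subsingleton_of_isZero h3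
      unfold CohIII.dRank
      rw [Module.finrank_zero_of_subsingleton]
      simp
  -- the open neighbourhood
  obtain ⟨W₀, hW₀, hyW₀, hconst⟩ := (IsLocallyConstant.iff_exists_open _).mp hlc
    (PrimeSpectrum.comap (algebraMap ↥A₀ (Groth.Agent.Lib.FibreOpen21.AV V))
      (Groth.Agent.Lib.FibreOpen21.xV hV y hz))
  have hU' : IsOpen ((PrimeSpectrum.comap
      (algebraMap ↥A₀ (Groth.Agent.Lib.FibreOpen21.AV V))) ⁻¹' W₀) :=
    hW₀.preimage (PrimeSpectrum.continuous_comap (algebraMap ↥A₀ (Groth.Agent.Lib.FibreOpen21.AV V)))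
  let O : S.Opens := (Groth.Agent.Lib.FibreOpen21.isAffineOpen_W hV).fromSpec ''ᵁ ⟨_, hU'⟩
  refine ⟨O, O.2, ?_, ?_⟩
  · exact ⟨Groth.Agent.Lib.FibreOpen21.xV hV y hz, hyW₀,
      (Groth.Agent.Lib.FibreOpen21.isAffineOpen_W hV).fromSpec_primeIdealOf ⟨y, hz⟩⟩
  · rintro z ⟨x, hx, rfl⟩
    refine (heuler _ (Groth.Agent.Lib.FibreOpenGen21.fromSpec_mem hV x)).trans ?_
    rw [heuler y hz, Groth.Agent.Lib.FibreOpenGen21.xV_fromSpec hV x]
    exact hconst _ hx

end Groth.Agent.S1026
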