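import Groth.Statements.S10260
import Groth.Agent.Lib.SepLqfRep46c

set_option autoImplicit false
universe u
open CategoryTheory CategoryTheory.Limits AlgebraicGeometry
open AlgSp

namespace Groth.Agent.S10260

/-- A locally quasi-finite separated morphism of algebraic spaces is representable by schemes. -/
theorem result {S : Scheme.{u}} {X Y : AlgSp.Space S} (f : X ⟶ Y)
    (hqf : AlgSp.LocP (@LocallyQuasiFinite ⊓ @LocallyOfFiniteType) f.hom) (hsep : AlgSp.IsSeparatedMor f.hom) :
    AlgSp.Representable f.hom := by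

  intro Z z
  have hZ : IsAlgSpace ((yon S).obj Z) := IsAlgSpace.yon_obj _
  have sq := IsPullback.of_hasPullback f.hom z
  have hP : IsAlgSpace (pullback f.hom z) :=
    Groth.Agent.Lib.AlgSpBasic.isAlgSpace_of_isPullback X.property hZ
      (fun U a => Y.property.representable_from_yon a) sq
  have hsep' : IsSeparatedMor (pullback.snd f.hom z) :=
    Groth.Agent.Lib.AlgSpProper.isSeparatedMor_of_isPullback sq hsep
  have hqf' : LocP (@LocallyQuasiFinite ⊓ @LocallyOfFiniteType) (pullback.snd f.hom z) :=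
    Groth.Agent.Lib.AlgSpLocP.locP_of_isPullback Groth.Agent.Lib.AlgSpLocP.etLocalClass_lqf_lft
      X.property Y.property hZ sq hqf
  obtain ⟨W, ⟨r⟩⟩ := Groth.Agent.Lib.SepLqfRep46.isRepresentable_of_sep_lqf hP (pullback.snd f.hom z) hsep' hqf'
  let e := isoOfRepresentableBy r
  obtain ⟨w, hw⟩ := (yon S).map_surjective (e.hom ≫ pullback.snd f.hom z)
  refine ⟨W, w, e.hom ≫ pullback.fst f.hom z, ?_⟩
  have h1 : IsPullback e.hom ((yon S).map w) (pullback.snd f.hom z) (𝟙 _) :=
    IsPullback.of_horiz_isIso ⟨by rw [hw, Category.comp_id]⟩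
  have h2 := h1.paste_horiz sq
  rwa [Category.id_comp] at h2

end Groth.Agent.S10260
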