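import Groth.Statements.S10263
import Groth.Agent.Lib.AlgSpBasic

set_option autoImplicit false
universe u
open CategoryTheory CategoryTheory.Limits AlgebraicGeometry
open AlgSp

namespace Groth.Agent.S10263

/-- If the composite X -> Y -> Z is unramified then X -> Y is unramified. -/
theorem result {S : Scheme.{u}} {X Y Z : AlgSp.Space S} (f : X ⟶ Y) (g : Y ⟶ Z)
    (h : AlgSp.LocP (@LocallyOfFiniteType ⊓ @FormallyUnramified) (f ≫ g).hom) :
    AlgSp.LocP (@LocallyOfFiniteType ⊓ @FormallyUnramified) f.hom := by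
  have hcomp : (f ≫ g).hom = f.hom ≫ g.hom := rfl
  rw [hcomp] at h
  refine Groth.Agent.Lib.AlgSpBasic.locP_of_comp (@LocallyOfFiniteType ⊓ @FormallyUnramified)
    (fun _ _ _ f' g' hfg => ?_) Z.property f.hom g.hom h
  have h1 : LocallyOfFiniteType (f' ≫ g') := hfg.1
  have h2 : FormallyUnramified (f' ≫ g') := hfg.2
  exact ⟨locallyOfFiniteType_of_comp f' g', FormallyUnramified.of_comp f' g'⟩

end Groth.Agent.S10263
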