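import Groth.Statements.S10264
import Groth.Agent.Lib.AlgSpBasic

set_option autoImplicit false
universe u
open CategoryTheory CategoryTheory.Limits AlgebraicGeometry
open AlgSp

namespace Groth.Agent.S10264

/-- An immersion of algebraic spaces is unramified. -/
theorem result {S : Scheme.{u}} {X Y : AlgSp.Space S} (i : X ⟶ Y)
    (hi : AlgSp.RepWith @IsImmersion i.hom) :
    AlgSp.LocP (@LocallyOfFiniteType ⊓ @FormallyUnramified) i.hom := by
  refine Groth.Agent.Lib.AlgSpBasic.locP_of_repWith (@LocallyOfFiniteType ⊓ @FormallyUnramified)
    (fun _ _ _ l w hl hw => ?_) (fun U a => X.property.representable_from_yon a)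
    (Groth.Agent.Lib.AlgSpBasic.repWith_mono ?_ hi)
  · have : Etale l := hl
    have : LocallyOfFiniteType w := hw.1
    have : FormallyUnramified w := hw.2
    exact ⟨inferInstance, MorphismProperty.comp_mem @FormallyUnramified l w inferInstance inferInstance⟩
  · intro A B g (hg : IsImmersion g)
    exact ⟨inferInstance, inferInstance⟩

end Groth.Agent.S10264
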