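import Groth.Statements.S10265
import Groth.Agent.Lib.AlgSpBasic

set_option autoImplicit false
universe u
open CategoryTheory CategoryTheory.Limits AlgebraicGeometry
open AlgSp

namespace Groth.Agent.S10265

/-- Whenever a morphism of algebraic spaces is etale, it is, etale locally on both source and target,
smooth, flat, unramified, locally quasi-finite, locally of finite type and locally of finite
presentation. -/
theorem result {S : Scheme.{u}} {X Y : AlgSp.Space S} (f : X ⟶ Y) (hf : AlgSp.IsEtaleMor f.hom) :
    AlgSp.LocP (@LocallyQuasiFinite ⊓ @LocallyOfFiniteType) f.hom ∧ AlgSp.LocP @Smooth f.hom ∧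
    AlgSp.LocP @Flat f.hom ∧ AlgSp.LocP @LocallyOfFinitePresentation f.hom ∧
    AlgSp.LocP @LocallyOfFiniteType f.hom ∧ AlgSp.LocP (@LocallyOfFiniteType ⊓ @FormallyUnramified) f.hom := by
  have key : ∀ ⦃U V : Over S⦄ (a : (AlgSp.yon S).obj U ⟶ X.obj) (b : (AlgSp.yon S).obj V ⟶ Y.obj)
      (h : U ⟶ V), AlgSp.RepWith @Etale a → AlgSp.RepWith @Etale b →
      a ≫ f.hom = (AlgSp.yon S).map h ≫ b → Etale h.left := by
    intro U V a b h ha hb comm
    exact Groth.Agent.Lib.AlgSpBasic.etale_of_comp_chart
      (fun U a => Y.property.representable_from_yon a) (a ≫ f.hom) b (hf a ha) hb h comm.symm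
  refine ⟨?_, ?_, ?_, ?_, ?_, ?_⟩
  · intro U V a b h ha hb comm
    have := key a b h ha hb comm
    exact ⟨Groth.Agent.Lib.AlgSpBasic.locallyQuasiFinite_of_etale h.left, inferInstance⟩
  · intro U V a b h ha hb comm
    have := key a b h ha hb comm
    exact (inferInstance : Smooth h.left)
  · intro U V a b h ha hb comm
    have := key a b h ha hb comm
    exact (inferInstance : Flat h.left)
  · intro U V a b h ha hb comm
    have := key a b h ha hb comm
    exact (inferInstance : LocallyOfFinitePresentation h.left)
  · intro U V a b h ha hb comm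
    have := key a b h ha hb comm
    exact (inferInstance : LocallyOfFiniteType h.left)
  · intro U V a b h ha hb comm
    have := key a b h ha hb comm
    exact ⟨inferInstance, inferInstance⟩

end Groth.Agent.S10265
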