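import Groth.Statements.S10267
import Groth.Agent.Lib.H86ZarGlueRep
import Mathlib.AlgebraicGeometry.Morphisms.Integral
import Mathlib.AlgebraicGeometry.Morphisms.Finite

set_option autoImplicit false
set_option linter.style.haveILetI false
universe u
open CategoryTheory CategoryTheory.Limits AlgebraicGeometry
open AlgSp

namespace Groth.Agent.S10267

open Groth.Agent.Lib.H86ZarGlue

/-- (1) ⇔ (2): a morphism of algebraic spaces is integral (resp. finite), tested on affine schemes over
the target, if and only if it is representable with integral (resp. finite) base changes to all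
schemes. -/
theorem result {S : Scheme.{u}} {X Y : AlgSp.Space S} (f : X ⟶ Y) :
    (AlgSp.IsIntegralMor f.hom ↔ AlgSp.RepWith @IsIntegralHom f.hom) ∧
    (AlgSp.IsFiniteMor f.hom ↔ AlgSp.RepWith @IsFinite f.hom) := by
  refine ⟨⟨fun hf => ?_, fun hf Z hZ g => ?_⟩, ⟨fun hf => ?_, fun hf Z hZ g => ?_⟩⟩
  · refine repWith_of_forall_affine_isPullback f.hom @IsIntegralHom fun Z hZ g => ?_
    obtain ⟨W, i, fst, hpb, -, hi⟩ := hf hZ g
    exact ⟨W, i, fst, hpb, hi⟩
  · obtain ⟨W, snd, fst, hpb⟩ := hf.1 g
    haveI hi : IsIntegralHom snd.left := hf.2 g fst snd hpb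
    haveI := hZ
    exact ⟨W, snd, fst, hpb, isAffine_of_isAffineHom snd.left, hi⟩
  · refine repWith_of_forall_affine_isPullback f.hom @IsFinite fun Z hZ g => ?_
    obtain ⟨W, i, fst, hpb, -, hi⟩ := hf hZ g
    exact ⟨W, i, fst, hpb, hi⟩
  · obtain ⟨W, snd, fst, hpb⟩ := hf.1 g
    haveI hi : IsFinite snd.left := hf.2 g fst snd hpb
    haveI := hZ
    exact ⟨W, snd, fst, hpb, isAffine_of_isAffineHom snd.left, hi⟩

end Groth.Agent.S10267
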