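import Groth.Statements.S10269
import Groth.Agent.Lib.H86AffineMor
-- import your own Groth.Agent.* helpers here

set_option autoImplicit false
set_option linter.style.haveILetI false
universe u
open CategoryTheory CategoryTheory.Limits AlgebraicGeometry
open AlgSp

namespace Groth.Agent.S10269

open Groth.Agent.Lib.H86ZarGlue Groth.Agent.Lib

/-- A finite morphism of algebraic spaces is integral; an integral morphism locally of finite type is
finite. -/
theorem result {S : Scheme.{u}} {X Y : AlgSp.Space S} (f : X ⟶ Y) :
    (AlgSp.IsFiniteMor f.hom → AlgSp.IsIntegralMor f.hom) ∧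
    (AlgSp.IsIntegralMor f.hom → AlgSp.LocP @LocallyOfFiniteType f.hom → AlgSp.IsFiniteMor f.hom) := by
  rw [isIntegralMor_iff_repWith, isFiniteMor_iff_repWith, repWith_isFinite_iff]
  refine ⟨fun h => h.1, fun h1 h2 => ⟨h1, ?_⟩⟩
  exact (locP_lft_iff_repWith X.property Y.property h1.1).1 h2

end Groth.Agent.S10269
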