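import Groth.Statements.S10270
import Groth.Agent.Lib.H86AffineMor
-- import your own Groth.Agent.* helpers here

set_option autoImplicit false
set_option linter.style.haveILetI false
universe u
open CategoryTheory CategoryTheory.Limits AlgebraicGeometry
open AlgSp

namespace Groth.Agent.S10270

open Groth.Agent.Lib.H86ZarGlue

/-- A morphism of algebraic spaces is integral if and only if it is affine and universally closed. -/
theorem result {S : Scheme.{u}} {X Y : AlgSp.Space S} (f : X ⟶ Y) :
    AlgSp.IsIntegralMor f.hom ↔ (AlgSp.IsAffineMor f.hom ∧ AlgSp.IsUnivClosedMor f.hom) := by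
  rw [isIntegralMor_iff_repWith, isAffineMor_iff_repWith, repWith_isIntegralHom_iff]
  constructor
  · rintro ⟨h1, h2⟩
    exact ⟨h1, (isUnivClosedMor_iff_repWith _ h1.1).2 h2⟩
  · rintro ⟨h1, h2⟩
    exact ⟨h1, (isUnivClosedMor_iff_repWith _ h1.1).1 h2⟩

end Groth.Agent.S10270
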