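import Groth.Statements.S10272
import Groth.Agent.Lib.H86AffineMor
-- import your own Groth.Agent.* helpers here

set_option autoImplicit false
set_option linter.style.haveILetI false
universe u
open CategoryTheory CategoryTheory.Limits AlgebraicGeometry
open AlgSp

namespace Groth.Agent.S10272

open Groth.Agent.Lib.H86ZarGlue Groth.Agent.Lib

/-- If g is separated and the composite of f and g is finite (resp. integral) then f is finite (resp.
integral). -/
theorem result {S : Scheme.{u}} {X Y Z : AlgSp.Space S} (f : X ⟶ Y) (g : Y ⟶ Z)
    (hg : AlgSp.IsSeparatedMor g.hom) :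
    (AlgSp.IsFiniteMor (f ≫ g).hom → AlgSp.IsFiniteMor f.hom) ∧
    (AlgSp.IsIntegralMor (f ≫ g).hom → AlgSp.IsIntegralMor f.hom) := by
  rw [isFiniteMor_iff_repWith, isFiniteMor_iff_repWith, isIntegralMor_iff_repWith,
    isIntegralMor_iff_repWith]
  constructor
  · intro h
    have hd : RepWith @IsFinite (pullback.diagonal g.hom) :=
      H69AlgSp.repWith_mono (fun _ _ k (_ : IsClosedImmersion k) => (inferInstance : IsFinite k)) hg
    exact AlgSpBasic.repWith_of_comp @IsFinite f.hom g.hom hd h
  · intro h
    have hd : RepWith @IsIntegralHom (pullback.diagonal g.hom) :=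
      H69AlgSp.repWith_mono
        (fun _ _ k (_ : IsClosedImmersion k) => (inferInstance : IsIntegralHom k)) hg
    exact AlgSpBasic.repWith_of_comp @IsIntegralHom f.hom g.hom hd h

end Groth.Agent.S10272
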