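import Groth.Statements.S10279
import Groth.Agent.Lib.H78AlgSpPoints

set_option autoImplicit false
universe u
open CategoryTheory CategoryTheory.Limits AlgebraicGeometry
open AlgSp

namespace Groth.Agent.S10279

/-- The target of a surjective morphism over B from a space universally closed over B is universally
closed over B (hence proper over B as soon as it is also separated and of finite type over B, by
definition). -/
theorem result {S : Scheme.{u}} {X Y B : AlgSp.Space S} (f : X ⟶ Y) (p : X ⟶ B)
    (q : Y ⟶ B) (comm : f ≫ q = p) (hp : AlgSp.IsUnivClosedMor p.hom) (hf : AlgSp.IsSurjectiveMor f.hom) :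
    AlgSp.IsUnivClosedMor q.hom := by
  intro Z Z' hZ g fstY snd sq
  -- the pullback of `f` along `fstY`
  have sq' : IsPullback (pullback.fst f.hom fstY) (pullback.snd f.hom fstY) f.hom fstY :=
    IsPullback.of_hasPullback _ _
  have hcomm : f.hom ≫ q.hom = p.hom := by rw [← comm]; rfl
  have big : IsPullback (pullback.fst f.hom fstY) (pullback.snd f.hom fstY ≫ snd) p.hom g := by
    rw [← hcomm]
    exact sq'.paste_vert sq
  have hcl : IsClosedMap (Points.map (pullback.snd f.hom fstY ≫ snd)) := hp hZ g _ _ big
  have hsurj : Function.Surjective (Points.map (pullback.snd f.hom fstY)) :=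
    Groth.Agent.Lib.H78AlgSpPoints.isSurjectiveMor_of_isPullback sq' hf
  intro C hC
  have hpre : IsClosed (Points.map (pullback.snd f.hom fstY) ⁻¹' C) :=
    hC.preimage (Points.continuous_map _)
  have := hcl _ hpre
  have himg : Points.map (pullback.snd f.hom fstY ≫ snd) '' (Points.map (pullback.snd f.hom fstY) ⁻¹' C)
      = Points.map snd '' C := by
    ext z
    constructor
    · rintro ⟨w, hw, rfl⟩
      exact ⟨_, hw, (Points.map_comp _ _ w).symm⟩
    · rintro ⟨c, hc, rfl⟩
      obtain ⟨w, rfl⟩ := hsurj c
      exact ⟨w, hc, Points.map_comp _ _ w⟩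
  rwa [himg] at this

end Groth.Agent.S10279
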