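import Groth.Statements.S10282
import Groth.Agent.Lib.H69ValRep
import Groth.Agent.Lib.AlgSpValuative

set_option autoImplicit false
universe u
open CategoryTheory CategoryTheory.Limits AlgebraicGeometry
open AlgSp

namespace Groth.Agent.S10282

/-- For a representable morphism of algebraic spaces the existence part of the valuative criterion with
extensions allowed is equivalent to the one without extensions. -/
theorem result {S : Scheme.{u}} {X Y : AlgSp.Space S} (f : X ⟶ Y)
    (hf : AlgSp.Representable f.hom) : AlgSp.ExistVC f.hom ↔ AlgSp.ExistVCStrict f.hom := by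
  refine ⟨fun he sq => ?_, fun h => Groth.Agent.Lib.AlgSpValuative.existVC_of_existVCStrict h⟩
  obtain ⟨e, l', hl'1, hl'2⟩ := he sq
  obtain ⟨V, snd, fst, hpb⟩ := hf sq.bot
  let jA' : e.ptA' ⟶ sq.ptA := Over.homMk (Spec.map (CommRingCat.ofHom e.φ)) rfl
  let j' : e.ptK' ⟶ e.ptA' := Over.homMk (Spec.map (CommRingCat.ofHom (algebraMap e.A' e.K'))) rfl
  let k' : e.ptK' ⟶ sq.ptK := Over.homMk (Spec.map (CommRingCat.ofHom e.ψ)) (by
    change Spec.map _ ≫ Spec.map _ ≫ _ = Spec.map _ ≫ Spec.map _ ≫ _
    rw [← Spec.map_comp_assoc, ← Spec.map_comp_assoc, ← CommRingCat.ofHom_comp,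
      ← CommRingCat.ofHom_comp, e.comm])
  have hjk : j' ≫ jA' = k' ≫ sq.j := by
    ext
    change Spec.map _ ≫ Spec.map _ = Spec.map _ ≫ Spec.map _
    rw [← Spec.map_comp, ← Spec.map_comp, ← CommRingCat.ofHom_comp, ← CommRingCat.ofHom_comp, e.comm]
  obtain ⟨k, hk⟩ := (AlgSp.yon S).map_surjective (hpb.lift sq.top ((AlgSp.yon S).map sq.j) sq.comm)
  obtain ⟨m, hm⟩ := (AlgSp.yon S).map_surjective (hpb.lift l' ((AlgSp.yon S).map jA') hl'2)
  have hks : k ≫ snd = sq.j := by
    apply (AlgSp.yon S).map_injective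
    rw [Functor.map_comp, hk, hpb.lift_snd]
  have hms : m ≫ snd = jA' := by
    apply (AlgSp.yon S).map_injective
    rw [Functor.map_comp, hm, hpb.lift_snd]
  have hmk : j' ≫ m = k' ≫ k := by
    apply (AlgSp.yon S).map_injective
    rw [Functor.map_comp, Functor.map_comp, hm, hk]
    apply hpb.hom_ext
    · rw [Category.assoc, Category.assoc, hpb.lift_fst, hpb.lift_fst]
      exact hl'1
    · rw [Category.assoc, Category.assoc, hpb.lift_snd, hpb.lift_snd, ← Functor.map_comp,
        ← Functor.map_comp, hjk]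
  have hloc : IsLocalHom e.φ := e.isLocalHom
  have hcl : jA'.left (IsLocalRing.closedPoint e.A') = IsLocalRing.closedPoint sq.A :=
    IsLocalRing.comap_closedPoint e.φ
  have hksl : k.left ≫ snd.left = Spec.map (CommRingCat.ofHom (algebraMap sq.A sq.K)) := by
    have := congrArg (fun t => t.left) hks
    simpa using this
  have hmsl : m.left ≫ snd.left = jA'.left := by
    have := congrArg (fun t => t.left) hms
    simpa using this
  have hmkl : j'.left ≫ m.left = k'.left ≫ k.left := by
    have := congrArg (fun t => t.left) hmk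
    simpa using this
  let η' : ↥e.ptK'.left := (IsLocalRing.closedPoint e.K' : PrimeSpectrum e.K')
  have hspec : k.left (k'.left η') ⤳ m.left (IsLocalRing.closedPoint e.A' : PrimeSpectrum e.A') := by
    have h1 : k.left (k'.left η') = m.left (j'.left η') := by
      rw [← Scheme.Hom.comp_apply, ← Scheme.Hom.comp_apply, hmkl]
    rw [h1]
    exact (IsLocalRing.specializes_closedPoint (R := e.A') (j'.left η')).map m.left.continuous
  have hx : snd.left (m.left (IsLocalRing.closedPoint e.A' : PrimeSpectrum e.A')) =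
      IsLocalRing.closedPoint sq.A := by
    rw [← Scheme.Hom.comp_apply, hmsl]
    exact hcl
  obtain ⟨l₀, hl1, hl2⟩ := Groth.Agent.Lib.H69ValRep.exists_section_of_specializes (R := sq.A) (K := sq.K)
    snd.left k.left hksl _ (k'.left η') hspec hx
  let lO : sq.ptA ⟶ V := Over.homMk l₀ (by
    have hw : snd.left ≫ sq.ptA.hom = V.hom := Over.w snd
    rw [← hw, ← Category.assoc, hl2]
    exact Category.id_comp _)
  have hjl : sq.j ≫ lO = k := by
    ext
    exact hl1
  have hls : lO ≫ snd = 𝟙 _ := by
    ext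
    exact hl2
  refine ⟨(AlgSp.yon S).map lO ≫ fst, ?_, ?_⟩
  · rw [← Category.assoc, ← Functor.map_comp, hjl, hk, hpb.lift_fst]
  · rw [Category.assoc, hpb.w, ← Category.assoc, ← Functor.map_comp, hls, CategoryTheory.Functor.map_id,
      Category.id_comp]

end Groth.Agent.S10282
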