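import Groth.Statements.S10287
-- import your own Groth.Agent.* helpers here

set_option autoImplicit false
universe u
open CategoryTheory CategoryTheory.Limits AlgebraicGeometry
open AlgSp

namespace Groth.Agent.S10287

variable {S : Scheme.{u}}

theorem uniq_comp {F G H : AlgSp.Sp S} (f : F ⟶ G) (g : G ⟶ H)
    (hf : AlgSp.UniqVC f) (hg : AlgSp.UniqVC g) : AlgSp.UniqVC (f ≫ g) := by
  intro sq l l' h1 h2 h1' h2'
  -- the square for g
  let sqg : AlgSp.ValSq g :=
    { A := sq.A, K := sq.K, str := sq.str, top := sq.top ≫ f, bot := sq.bot,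
      comm := by rw [Category.assoc]; exact sq.comm }
  have e1 : l ≫ f = l' ≫ f := by
    apply hg sqg (l ≫ f) (l' ≫ f)
    · rw [← Category.assoc]; exact congrArg (· ≫ f) h1
    · rw [Category.assoc]; exact h2
    · rw [← Category.assoc]; exact congrArg (· ≫ f) h1'
    · rw [Category.assoc]; exact h2'
  let sqf : AlgSp.ValSq f :=
    { A := sq.A, K := sq.K, str := sq.str, top := sq.top, bot := l ≫ f,
      comm := by rw [← Category.assoc]; exact congrArg (· ≫ f) h1.symm }
  exact hf sqf l l' h1 rfl h1' e1.symm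

theorem exist_comp {F G H : AlgSp.Sp S} (f : F ⟶ G) (g : G ⟶ H)
    (hf : AlgSp.ExistVC f) (hg : AlgSp.ExistVC g) : AlgSp.ExistVC (f ≫ g) := by
  intro sq
  let sqg : AlgSp.ValSq g :=
    { A := sq.A, K := sq.K, str := sq.str, top := sq.top ≫ f, bot := sq.bot,
      comm := by rw [Category.assoc]; exact sq.comm }
  obtain ⟨e, l, hl1, hl2⟩ := hg sqg
  let sqf : AlgSp.ValSq f :=
    { A := e.A', K := e.K', str := Spec.map (CommRingCat.ofHom e.φ) ≫ sq.str,
      top := (yon S).map (Over.homMk (Spec.map (CommRingCat.ofHom e.ψ)) (by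
          change Spec.map _ ≫ Spec.map _ ≫ _ = Spec.map _ ≫ Spec.map _ ≫ _
          rw [← Spec.map_comp_assoc, ← Spec.map_comp_assoc, ← CommRingCat.ofHom_comp,
            ← CommRingCat.ofHom_comp, e.comm]) : e.ptK' ⟶ sq.ptK) ≫ sq.top
      bot := l
      comm := by
        rw [Category.assoc]
        exact hl1.symm }
  obtain ⟨e', l', hl1', hl2'⟩ := hf sqf
  have hloc1 : IsLocalHom e.φ := e.isLocalHom
  have hloc2 : IsLocalHom e'.φ := e'.isLocalHom
  let e'' : sq.DomExt :=
    { A' := e'.A', K' := e'.K', φ := e'.φ.comp e.φ, ψ := e'.ψ.comp e.ψ,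
      comm := by
        have h1 := e.comm
        have h2 := e'.comm
        change (algebraMap e'.A' e'.K').comp e'.φ = e'.ψ.comp (algebraMap e.A' e.K') at h2
        change (algebraMap e.A' e.K').comp e.φ = e.ψ.comp (algebraMap sq.A sq.K) at h1
        rw [← RingHom.comp_assoc, h2, RingHom.comp_assoc, h1, RingHom.comp_assoc]
      isLocalHom := RingHom.isLocalHom_comp _ _ }
  refine ⟨e'', ?_⟩
  -- transport along the identification of the two structure maps
  have hstr : Spec.map (CommRingCat.ofHom (e'.φ.comp e.φ)) ≫ sq.str =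
      Spec.map (CommRingCat.ofHom e'.φ) ≫ Spec.map (CommRingCat.ofHom e.φ) ≫ sq.str := by
    rw [CommRingCat.ofHom_comp, Spec.map_comp_assoc]
  let ι : e''.ptA' ⟶ e'.ptA' := Over.homMk (𝟙 _) (by rw [Category.id_comp]; exact hstr.symm)
  have hstrK : Spec.map (CommRingCat.ofHom (algebraMap e'.A' e'.K')) ≫
        Spec.map (CommRingCat.ofHom (e'.φ.comp e.φ)) ≫ sq.str =
      Spec.map (CommRingCat.ofHom (algebraMap e'.A' e'.K')) ≫
        Spec.map (CommRingCat.ofHom e'.φ) ≫ Spec.map (CommRingCat.ofHom e.φ) ≫ sq.str := by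
    rw [hstr]
  let ιK : e''.ptK' ⟶ e'.ptK' := Over.homMk (𝟙 _) (by rw [Category.id_comp]; exact hstrK.symm)
  refine ⟨(yon S).map ι ≫ l', ?_, ?_⟩
  · rw [← Category.assoc, ← Functor.map_comp]
    have h1 : (Over.homMk (Spec.map (CommRingCat.ofHom (algebraMap e''.A' e''.K'))) rfl :
        e''.ptK' ⟶ e''.ptA') ≫ ι = ιK ≫ (Over.homMk
          (Spec.map (CommRingCat.ofHom (algebraMap e'.A' e'.K'))) rfl : e'.ptK' ⟶ e'.ptA') := by
      ext
      simp [ι, ιK]
    rw [h1, Functor.map_comp, Category.assoc, hl1']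
    simp only [sqf]
    rw [← Category.assoc, ← Category.assoc, ← Functor.map_comp, ← Functor.map_comp]
    congr 2
    ext
    simp [ιK, e'']
  · rw [Category.assoc, reassoc_of% hl2']
    simp only [sqf]
    rw [hl2]
    simp only [sqg]
    rw [← Category.assoc, ← Category.assoc, ← Functor.map_comp, ← Functor.map_comp]
    congr 2
    ext
    simp [ι, e'']

/-- The existence and uniqueness parts of the valuative criterion are stable under composition. -/
theorem result {S : Scheme.{u}} {X Y Z : AlgSp.Space S} (f : X ⟶ Y) (g : Y ⟶ Z) :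
    (AlgSp.ExistVC f.hom → AlgSp.ExistVC g.hom → AlgSp.ExistVC (f ≫ g).hom) ∧
    (AlgSp.UniqVC f.hom → AlgSp.UniqVC g.hom → AlgSp.UniqVC (f ≫ g).hom) := by
  exact ⟨fun hf hg => exist_comp f.hom g.hom hf hg, fun hf hg => uniq_comp f.hom g.hom hf hg⟩

end Groth.Agent.S10287
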