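import Groth.Statements.S10292
import Groth.Agent.Lib.H69ValFlat
import Groth.Agent.Lib.AlgSpLocP
import Groth.Agent.Lib.AlgSpPts66
import Groth.Agent.Lib.AlgSpQC

set_option autoImplicit false
universe u
open CategoryTheory CategoryTheory.Limits AlgebraicGeometry
open AlgSp

namespace Groth.Agent.S10292

/-- Along a flat morphism of algebraic spaces, a morphism from the spectrum of a valuation ring to the
target whose closed point is hit lifts to the source after an extension of valuation rings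
(injective and local). -/
theorem result {S : Scheme.{u}} {X Y : AlgSp.Space S} (f : X ⟶ Y)
    (hf : AlgSp.LocP @Flat f.hom) (A : Type u) [CommRing A] [IsDomain A] [ValuationRing A]
    (str : Spec (.of A) ⟶ S) (b : (AlgSp.yon S).obj (Over.mk str) ⟶ Y.obj)
    (hb : AlgSp.Points.ofPt b (IsLocalRing.closedPoint A) ∈ Set.range (AlgSp.Points.map f.hom)) :
    ∃ (A' : Type u) (_ : CommRing A') (_ : IsDomain A') (_ : ValuationRing A') (φ : A →+* A'),
      Function.Injective φ ∧ IsLocalHom φ ∧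
      ∃ l : (AlgSp.yon S).obj (Over.mk (Spec.map (CommRingCat.ofHom φ) ≫ str)) ⟶ X.obj,
        l ≫ f.hom = (AlgSp.yon S).map (Over.homMk (Spec.map (CommRingCat.ofHom φ)) rfl :
          Over.mk (Spec.map (CommRingCat.ofHom φ) ≫ str) ⟶ Over.mk str) ≫ b := by
  obtain ⟨x, hx⟩ := hb
  obtain ⟨U, qU, hUe, hUs⟩ := X.property.atlas
  obtain ⟨u, rfl⟩ := Groth.Agent.Lib.AlgSpQC.surjective_ofPt_of_repWith_surjective hUs x
  have h1 : AlgSp.LocP @Flat (qU ≫ f.hom) :=
    Groth.Agent.Lib.AlgSpLocP.locP_comp_of_etale _ qU hUe f.hom hf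
  have hrep : AlgSp.Representable (qU ≫ f.hom) := Y.property.representable_from_yon (qU ≫ f.hom)
  have h2 : AlgSp.RepWith @Flat (qU ≫ f.hom) :=
    Groth.Agent.Lib.AlgSpLocP.repWith_of_locP Groth.Agent.Lib.AlgSpLocP.etLocalClass_flat Y.property hrep h1
  obtain ⟨W, g, fstW, sqW⟩ := hrep b
  have hg : Flat g.left := h2.2 b fstW g sqW
  have e : AlgSp.Points.ofPt (qU ≫ f.hom) u = AlgSp.Points.ofPt b (IsLocalRing.closedPoint A) := by
    rw [← AlgSp.Points.map_ofPt, hx]
  obtain ⟨w, -, hw2⟩ := Groth.Agent.Lib.AlgSpPts66.exists_of_isPullback_yon (qU ≫ f.hom) b fstW g sqW u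
    (IsLocalRing.closedPoint A) e
  obtain ⟨A', i1, i2, i3, φ, hinj, hloc, l, hl⟩ :=
    Groth.Agent.Lib.H69ValFlat.exists_valuationRing_lift_of_flat g.left w hw2
  have hlw : l ≫ W.hom = Spec.map (CommRingCat.ofHom φ) ≫ str := by
    rw [← Over.w g, ← Category.assoc, hl]
    rfl
  let lO : Over.mk (Spec.map (CommRingCat.ofHom φ) ≫ str) ⟶ W := Over.homMk l hlw
  have hlO : lO ≫ g = (Over.homMk (Spec.map (CommRingCat.ofHom φ)) rfl :
      Over.mk (Spec.map (CommRingCat.ofHom φ) ≫ str) ⟶ Over.mk str) := by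
    ext
    exact hl
  refine ⟨A', i1, i2, i3, φ, hinj, hloc, (AlgSp.yon S).map lO ≫ fstW ≫ qU, ?_⟩
  rw [Category.assoc, Category.assoc, sqW.w, ← Category.assoc, ← Functor.map_comp, hlO]

end Groth.Agent.S10292
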