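import Groth.Statements.S10294
import Groth.Agent.Lib.H86AffineMor
-- import your own Groth.Agent.* helpers here

set_option autoImplicit false
set_option linter.style.haveILetI false
universe u
open CategoryTheory CategoryTheory.Limits AlgebraicGeometry
open AlgSp

namespace Groth.Agent.S10294

open Groth.Agent.Lib.H86ZarGlue Groth.Agent.Lib

theorem finLocFree_iff {S : Scheme.{u}} {X Y : AlgSp.Sp S} (f : X ⟶ Y) :
    AlgSp.IsFinLocFreeMor f ↔
      (RepWith @IsFinite f ∧ RepWith @Flat f ∧ RepWith @LocallyOfFinitePresentation f) := by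
  have : AlgSp.finLocFree.{u} = Min.min (α := MorphismProperty Scheme.{u}) @IsFinite.{u}
      (Min.min (α := MorphismProperty Scheme.{u}) @Flat.{u} @LocallyOfFinitePresentation.{u}) := rfl
  rw [IsFinLocFreeMor, this]
  refine (AlgSpBasic.repWith_inf_iff _ _ f).trans ?_
  exact and_congr Iff.rfl (AlgSpBasic.repWith_inf_iff _ _ f)

/-- Finite locally free is the same as finite, flat and locally of finite presentation; over a locally
Noetherian target it is the same as finite and flat. -/
theorem result {S : Scheme.{u}} {X Y : AlgSp.Space S} (f : X ⟶ Y) :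
    (AlgSp.IsFinLocFreeMor f.hom ↔
      (AlgSp.IsFiniteMor f.hom ∧ AlgSp.LocP @Flat f.hom ∧ AlgSp.LocP @LocallyOfFinitePresentation f.hom)) ∧
    (AlgSp.IsLocNoethSp Y.obj →
      (AlgSp.IsFinLocFreeMor f.hom ↔ (AlgSp.IsFiniteMor f.hom ∧ AlgSp.LocP @Flat f.hom))) := by
  have key : AlgSp.IsFinLocFreeMor f.hom ↔
      (AlgSp.IsFiniteMor f.hom ∧ AlgSp.LocP @Flat f.hom ∧ AlgSp.LocP @LocallyOfFinitePresentation f.hom) := by
    rw [finLocFree_iff, isFiniteMor_iff_repWith]
    constructor
    · rintro ⟨h1, h2, h3⟩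
      exact ⟨h1, (locP_flat_iff_repWith X.property Y.property h1.1).2 h2,
        (locP_lfp_iff_repWith X.property Y.property h1.1).2 h3⟩
    · rintro ⟨h1, h2, h3⟩
      exact ⟨h1, (locP_flat_iff_repWith X.property Y.property h1.1).1 h2,
        (locP_lfp_iff_repWith X.property Y.property h1.1).1 h3⟩
  refine ⟨key, fun hY => ?_⟩
  rw [key]
  refine ⟨fun h => ⟨h.1, h.2.1⟩, fun h => ⟨h.1, h.2, ?_⟩⟩
  obtain ⟨hfin, -⟩ := h
  rw [isFiniteMor_iff_repWith] at hfin
  obtain ⟨V, b, hbe, hbs, hV⟩ := hY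
  have sq := hfin.1.isPullback b
  have hfe : RepWith @Etale (hfin.1.fst b) := AlgSpBasic.repWith_fst_of_isPullback _ sq hbe
  have hfs : RepWith @Surjective (hfin.1.fst b) := AlgSpBasic.repWith_fst_of_isPullback _ sq hbs
  have hh : IsFinite (hfin.1.snd b).left := hfin.2 b _ _ sq
  have : IsLocallyNoetherian V.left := hV
  have hlfp : LocallyOfFinitePresentation (hfin.1.snd b).left := inferInstance
  exact AlgSpLocP.locP_of_chart AlgSpLocP.etLocalClass_lfp f.hom (hfin.1.fst b) b (hfin.1.snd b)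
    hfe hfs hbe sq.w hlfp

end Groth.Agent.S10294
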