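import Groth.Statements.S10296
import Groth.Agent.Lib.H86AffineMor
import Groth.Agent.Lib.H69AlgSpMor
-- import your own Groth.Agent.* helpers here

set_option autoImplicit false
set_option linter.style.haveILetI false
universe u
open CategoryTheory CategoryTheory.Limits AlgebraicGeometry
open AlgSp

namespace Groth.Agent.S10296

open Groth.Agent.Lib.H86ZarGlue Groth.Agent.Lib

/-- The induced morphism from the normalization of X in Y to any integral Z -> X through which Y -> X
factors is the normalization of Z in Y. -/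
theorem result {S : Scheme.{u}} {Y X X' Z : AlgSp.Space S} (f : Y ⟶ X)
    (hqc : AlgSp.IsQuasiCompactMor f.hom) (hqs : AlgSp.IsQuasiSeparatedMor f.hom) (ν : X' ⟶ X) (f' : Y ⟶ X')
    (hn : AlgSp.IsRelNormalization f.hom ν.hom f'.hom) (π : Z ⟶ X) (hπ : AlgSp.IsIntegralMor π.hom) (g : Y ⟶ Z)
    (hg : g ≫ π = f) (h : X' ⟶ Z) (h1 : f' ≫ h = g) (h2 : h ≫ π = ν) :
    AlgSp.IsRelNormalization g.hom h.hom f'.hom := by
  obtain ⟨hn1, hn2, hn3⟩ := hn
  have h1' : f'.hom ≫ h.hom = g.hom := congrArg (·.hom) h1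
  have h2' : h.hom ≫ π.hom = ν.hom := congrArg (·.hom) h2
  have hg' : g.hom ≫ π.hom = f.hom := congrArg (·.hom) hg
  have hπr : RepWith @IsIntegralHom π.hom := (isIntegralMor_iff_repWith _).1 hπ
  have hπsep : IsSeparatedMor π.hom := by
    refine (H69AlgSpMor.separation_iff_repWith_of_representable π hπr.1).1.2 ?_
    exact H69AlgSp.repWith_mono
      (fun _ _ k (_ : IsIntegralHom k) => (inferInstance : IsSeparated k)) hπr
  have hhint : IsIntegralMor h.hom := by
    rw [isIntegralMor_iff_repWith]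
    have hd : RepWith @IsIntegralHom (pullback.diagonal π.hom) :=
      H69AlgSp.repWith_mono
        (fun _ _ k (_ : IsClosedImmersion k) => (inferInstance : IsIntegralHom k)) hπsep
    refine AlgSpBasic.repWith_of_comp @IsIntegralHom h.hom π.hom hd ?_
    rw [h2']
    exact (isIntegralMor_iff_repWith _).1 hn2
  refine ⟨h1', hhint, ?_⟩
  intro W hW ρ k hρ hk
  have hρπ : IsIntegralMor (ρ ≫ π.hom) := by
    rw [isIntegralMor_iff_repWith]
    have : (RepWith (S := S) @IsIntegralHom).IsMultiplicative := repWith_isMultiplicative @IsIntegralHom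
    exact (RepWith @IsIntegralHom).comp_mem _ _ ((isIntegralMor_iff_repWith _).1 hρ) hπr
  have hkf : k ≫ ρ ≫ π.hom = f.hom := by rw [← Category.assoc, hk, hg']
  obtain ⟨l, ⟨hl1, hl2⟩, hluniq⟩ := hn3 hW (ρ ≫ π.hom) k hρπ hkf
  obtain ⟨h₀, -, hh₀⟩ := hn3 Z.property π.hom g.hom hπ hg'
  have e1 : l ≫ ρ = h₀ := hh₀ _ ⟨by rw [← Category.assoc, hl1, hk], by rw [Category.assoc, hl2]⟩
  have e2 : h.hom = h₀ := hh₀ _ ⟨h1', h2'⟩
  refine ⟨l, ⟨hl1, e1.trans e2.symm⟩, ?_⟩
  rintro l' ⟨hl'1, hl'2⟩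
  exact hluniq l' ⟨hl'1, by rw [← Category.assoc, hl'2, h2']⟩

end Groth.Agent.S10296
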