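import Groth.Statements.S10298
import Groth.Agent.Lib.H86ZarLocBase
-- import your own Groth.Agent.* helpers here

set_option autoImplicit false
set_option linter.style.haveILetI false
universe u
open CategoryTheory CategoryTheory.Limits AlgebraicGeometry
open AlgSp

namespace Groth.Agent.S10298

open Groth.Agent.Lib.H86ZarGlue

/-- For a quasi-compact quasi-separated morphism of schemes, the relative normalization of schemes is
the normalization in the sense of algebraic spaces. -/
theorem result {S : Scheme.{u}} {V U N : Over S} (g : V ⟶ U)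
    [QuasiCompact g.left] [QuasiSeparated g.left] (f' : V ⟶ N) (ν : N ⟶ U)
    (e : N.left ≅ g.left.normalization) (he1 : f'.left ≫ e.hom = g.left.toNormalization)
    (he2 : e.hom ≫ g.left.fromNormalization = ν.left) :
    AlgSp.IsRelNormalization ((AlgSp.yon S).map g) ((AlgSp.yon S).map ν) ((AlgSp.yon S).map f') := by
  have hfac : f' ≫ ν = g := by
    ext
    simp only [Over.comp_left]
    rw [← he2, ← Category.assoc, he1, Scheme.Hom.toNormalization_fromNormalization]
  have hνint : IsIntegralHom ν.left := by rw [← he2]; infer_instance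
  refine ⟨by rw [← Functor.map_comp, hfac], ?_, ?_⟩
  · rw [isIntegralMor_iff_repWith]; exact (repWith_yon_map_iff @IsIntegralHom ν).2 hνint
  · intro Z hZ π k hπ hk
    rw [isIntegralMor_iff_repWith] at hπ
    obtain ⟨T, snd, fst, hpb⟩ := hπ.1 (𝟙 ((yon S).obj U))
    have hsnd : IsIntegralHom snd.left := hπ.2 _ _ _ hpb
    have hfst : IsIso fst := hpb.isIso_fst_of_isIso
    have hfstπ : fst ≫ π = (yon S).map snd := by rw [hpb.w, Category.comp_id]
    obtain ⟨k₀, hk₀⟩ := (yon S).map_surjective (k ≫ inv fst)
    have hk₀g : k₀ ≫ snd = g := by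
      apply (yon S).map_injective
      rw [Functor.map_comp, hk₀, Category.assoc, ← hfstπ, IsIso.inv_hom_id_assoc, hk]
    have H : g.left = k₀.left ≫ snd.left := by rw [← Over.comp_left, hk₀g]
    let d : g.left.normalization ⟶ T.left := g.left.normalizationDesc k₀.left snd.left H
    have hd1 : g.left.toNormalization ≫ d = k₀.left :=
      Scheme.Hom.toNormalization_normalizationDesc ..
    have hd2 : d ≫ snd.left = g.left.fromNormalization := Scheme.Hom.normalizationDesc_comp ..
    let h₀ : N ⟶ T := Over.homMk (e.hom ≫ d) (by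
      have : T.hom = snd.left ≫ U.hom := (Over.w snd).symm
      rw [this, Category.assoc, ← Category.assoc d, hd2, ← Category.assoc, he2, Over.w ν])
    have hh₀l : h₀.left = e.hom ≫ d := rfl
    refine ⟨(yon S).map h₀ ≫ fst, ⟨?_, ?_⟩, ?_⟩
    · have : f' ≫ h₀ = k₀ := by
        ext
        rw [Over.comp_left, hh₀l, ← Category.assoc, he1, hd1]
      rw [← Category.assoc, ← Functor.map_comp, this, hk₀, Category.assoc, IsIso.inv_hom_id,
        Category.comp_id]
    · have : h₀ ≫ snd = ν := by
        ext
        rw [Over.comp_left, hh₀l, Category.assoc, hd2, he2]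
      rw [Category.assoc, hfstπ, ← Functor.map_comp, this]
    · rintro h' ⟨hh1, hh2⟩
      obtain ⟨h'₀, hh'₀⟩ := (yon S).map_surjective (h' ≫ inv fst)
      have hh' : h' = (yon S).map h'₀ ≫ fst := by
        rw [hh'₀, Category.assoc, IsIso.inv_hom_id, Category.comp_id]
      have a1 : f' ≫ h'₀ = k₀ := by
        apply (yon S).map_injective
        rw [Functor.map_comp, hh'₀, hk₀, ← Category.assoc, hh1]
      have a2 : h'₀ ≫ snd = ν := by
        apply (yon S).map_injective
        rw [Functor.map_comp, hh'₀, Category.assoc, ← hfstπ, IsIso.inv_hom_id_assoc, hh2]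
      have key : e.inv ≫ h'₀.left = d := by
        apply Scheme.Hom.normalization.hom_ext g.left _ _ snd.left
        · rw [hd1, ← he1, Category.assoc, e.hom_inv_id_assoc, ← Over.comp_left, a1]
        · rw [Category.assoc, ← Over.comp_left, a2, ← he2, e.inv_hom_id_assoc]
        · exact hd2
      have : h'₀ = h₀ := by
        ext
        rw [hh₀l, ← key, e.hom_inv_id_assoc]
      rw [hh', this]

end Groth.Agent.S10298
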