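import Groth.Statements.S10301
-- import your own Groth.Agent.* helpers here
import Groth.Agent.Lib.AlgSpPoints

set_option autoImplicit false
universe u
open CategoryTheory CategoryTheory.Limits AlgebraicGeometry
open AlgSp

namespace Groth.Agent.S10301

/-- For a representable morphism of algebraic spaces, being a universal homeomorphism in the
representable sense agrees with inducing homeomorphisms on points after every base change. -/
theorem result {S : Scheme.{u}} {X Y : AlgSp.Space S} (f : X ⟶ Y)
    (hf : AlgSp.Representable f.hom) :
    AlgSp.RepWith FlatMor.IsUnivHomeo f.hom ↔ AlgSp.IsUnivHomeoMor f.hom := by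
  constructor
  · intro h
    refine Groth.Agent.Lib.AlgSpPoints.univSp_of_repWith
      (Q := fun _ _ f => IsHomeomorph (AlgSp.Points.map f))
      (P := FlatMor.IsUnivHomeo) (fun F G f hf => ?_) h
    refine Groth.Agent.Lib.AlgSpPoints.isHomeomorph_map_of_representable hf.rep fun T g => ?_
    have h1 : FlatMor.IsUnivHomeo (hf.rep.snd g).left := hf.property_snd g
    exact h1 _ _ _ IsPullback.of_id_snd
  · intro h
    exact Groth.Agent.Lib.AlgSpPoints.repWith_universally_of_univSp
      (Q := fun _ _ f => IsHomeomorph (AlgSp.Points.map f))
      (fun T T' φ hφ => (Groth.Agent.Lib.AlgSpPoints.isHomeomorph_map_yon_map_iff φ).1 hφ) hf h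

end Groth.Agent.S10301
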