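import Groth.Statements.S10302
-- import your own Groth.Agent.* helpers here
import Groth.Agent.Lib.AlgSpDim91

set_option autoImplicit false
universe u
open CategoryTheory CategoryTheory.Limits AlgebraicGeometry
open AlgSp

namespace Groth.Agent.S10302

/-- A flat morphism of algebraic spaces maps points of codimension 0 to points of codimension 0. -/
theorem result {S : Scheme.{u}} {X Y : AlgSp.Space S} (f : X ⟶ Y) (hf : AlgSp.LocP @Flat f.hom)
    (x : AlgSp.Points X.obj) (hx : AlgSp.HasAt (fun U u => ringKrullDim ↥(U.presheaf.stalk u) = 0) X.obj x) :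
    AlgSp.HasAt (fun U u => ringKrullDim ↥(U.presheaf.stalk u) = 0) Y.obj (AlgSp.Points.map f.hom x) := by
  obtain ⟨U, a, u, ha, hux, hd⟩ := hx
  obtain ⟨V, b, hbe, hbs⟩ := Y.property.atlas
  obtain ⟨v, hv⟩ := Groth.Agent.Lib.AlgSpQC.surjective_ofPt_of_repWith_surjective hbs
    (AlgSp.Points.map f.hom x)
  obtain ⟨W, s, t, w, hse, hae, hw, hsu, htv⟩ :=
    Groth.Agent.Lib.AlgSpDim91.exists_chart_through_points f.hom a ha b hbe u v (by rw [hv, hux])
  have hflat : Flat t.left := hf ((AlgSp.yon S).map s ≫ a) b t hae hbe hw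
  have : Etale s.left := hse
  have h1 := Groth.Agent.Lib.AlgSpDim91.ringKrullDim_stalk_eq_of_etale s.left w
  have h2 := Groth.Agent.Lib.AlgSpDim91.ringKrullDim_stalk_le_of_flat t.left w
  rw [hsu] at h1
  rw [htv] at h2
  refine ⟨V, b, v, hbe, hv, le_antisymm ?_ ?_⟩
  · rw [← hd, h1]; exact h2
  · exact ringKrullDim_nonneg_of_nontrivial

end Groth.Agent.S10302
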