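import Groth.Statements.S10303
import Groth.Agent.Lib.LocFinIrred46
import Groth.Agent.Lib.AlgSpBasic

set_option autoImplicit false
universe u
open CategoryTheory CategoryTheory.Limits AlgebraicGeometry
open AlgSp

namespace Groth.Agent.S10303

/-- If Y has an etale surjective chart whose quasi-compact opens have finitely many irreducible
components and f : X -> Y is flat and locally of finite type, then X has such a chart too. -/
theorem result {S : Scheme.{u}} {X Y : AlgSp.Space S} (f : X ⟶ Y)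
    (hf : AlgSp.LocP @Flat f.hom) (hf' : AlgSp.LocP @LocallyOfFiniteType f.hom)
    (hY : AlgSp.EtaleLocally (fun U => ∀ W : U.Opens, IsCompact (W : Set ↥U) → (irreducibleComponents ↥W).Finite) Y.obj) :
    AlgSp.EtaleLocally (fun U => ∀ W : U.Opens, IsCompact (W : Set ↥U) → (irreducibleComponents ↥W).Finite) X.obj := by
  obtain ⟨V, q, hqe, hqs, hV⟩ := hY
  obtain ⟨U₀, a₀, ha₀e, ha₀s⟩ := X.2.atlas
  have sq := hqe.rep.isPullback' (a₀ ≫ f.hom)
  have hse : Etale (hqe.rep.snd (a₀ ≫ f.hom)).left := hqe.property_snd (a₀ ≫ f.hom)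
  have hss : Surjective (hqe.rep.snd (a₀ ≫ f.hom)).left :=
    hqs.2 (a₀ ≫ f.hom) _ _ (hqe.rep.isPullback (a₀ ≫ f.hom))
  have hse' : RepWith @Etale ((yon S).map (hqe.rep.snd (a₀ ≫ f.hom))) :=
    (AlgSp.repWith_yon_map_iff _ _).2 hse
  have hss' : RepWith @Surjective ((yon S).map (hqe.rep.snd (a₀ ≫ f.hom))) :=
    (AlgSp.repWith_yon_map_iff _ _).2 hss
  have hae : RepWith @Etale ((yon S).map (hqe.rep.snd (a₀ ≫ f.hom)) ≫ a₀) :=
    MorphismProperty.comp_mem _ _ _ hse' ha₀e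
  have has : RepWith @Surjective ((yon S).map (hqe.rep.snd (a₀ ≫ f.hom)) ≫ a₀) :=
    MorphismProperty.comp_mem _ _ _ hss' ha₀s
  have comm : ((yon S).map (hqe.rep.snd (a₀ ≫ f.hom)) ≫ a₀) ≫ f.hom =
      (yon S).map (hqe.rep.fst' (a₀ ≫ f.hom)) ≫ q := by
    rw [Category.assoc]
    exact sq.w.symm
  have h1 : Flat (hqe.rep.fst' (a₀ ≫ f.hom)).left := hf _ q _ hae hqe comm
  have h2 : LocallyOfFiniteType (hqe.rep.fst' (a₀ ≫ f.hom)).left := hf' _ q _ hae hqe comm
  exact ⟨_, _, hae, has,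
    Groth.Agent.Lib.LocFinIrred46.LFI.of_flat_lft (hqe.rep.fst' (a₀ ≫ f.hom)).left hV⟩

end Groth.Agent.S10303
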