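import Groth.Statements.S10304
import Groth.Agent.Lib.AlgSpLFI46

set_option autoImplicit false
universe u
open CategoryTheory CategoryTheory.Limits AlgebraicGeometry
open AlgSp

namespace Groth.Agent.S10304

/-- Equivalent forms of the condition that the schemes etale over X have locally finitely many
irreducible components: one etale surjective chart, every etale chart, finiteness of codimension-0
points of quasi-compact spaces etale over X, finiteness of irreducible components of such spaces. -/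
theorem result {S : Scheme.{u}} (X : AlgSp.Space S) :
    (AlgSp.EtaleLocally (fun U => ∀ W : U.Opens, IsCompact (W : Set ↥U) → (irreducibleComponents ↥W).Finite) X.obj ↔
      ∀ (U : Over S) (a : (AlgSp.yon S).obj U ⟶ X.obj), AlgSp.RepWith @Etale a →
        ∀ W : U.left.Opens, IsCompact (W : Set ↥U.left) → (irreducibleComponents ↥W).Finite) ∧
    (AlgSp.EtaleLocally (fun U => ∀ W : U.Opens, IsCompact (W : Set ↥U) → (irreducibleComponents ↥W).Finite) X.obj ↔
      ∀ (Y : AlgSp.Space S) (g : Y ⟶ X), AlgSp.IsEtaleMor g.hom → AlgSp.IsQuasiCompactSp Y.obj →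
        {y : AlgSp.Points Y.obj |
          AlgSp.HasAt (fun U u => ringKrullDim ↥(U.presheaf.stalk u) = 0) Y.obj y}.Finite) ∧
    (AlgSp.EtaleLocally (fun U => ∀ W : U.Opens, IsCompact (W : Set ↥U) → (irreducibleComponents ↥W).Finite) X.obj ↔
      ∀ (Y : AlgSp.Space S) (g : Y ⟶ X), AlgSp.IsEtaleMor g.hom → AlgSp.IsQuasiCompactSp Y.obj →
        (irreducibleComponents (AlgSp.Points Y.obj)).Finite) := by
  have hid : ∀ T : Over S, RepWith @Etale (𝟙 ((yon S).obj T)) := fun T => by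
    rw [← (yon S).map_id]
    exact (AlgSp.repWith_yon_map_iff _ _).2 (by dsimp; infer_instance)
  refine ⟨⟨fun h U a ha => Groth.Agent.Lib.AlgSpLFI46.lfi_of_chart h a ha, fun h => ?_⟩,
    ⟨fun h Y g hg hY => ?_, fun h => ?_⟩, ⟨fun h Y g hg hY => ?_, fun h => ?_⟩⟩
  · obtain ⟨U₀, a₀, hae, has⟩ := X.2.atlas
    exact ⟨U₀, a₀, hae, has, h U₀ a₀ hae⟩
  · obtain ⟨T, c, hce, hcs, hT⟩ := hY
    have : CompactSpace ↥T.left := hT
    have hTl : Groth.Agent.Lib.LocFinIrred46.LFI T.left :=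
      Groth.Agent.Lib.AlgSpLFI46.lfi_of_chart h (c ≫ g.hom) (hg c hce)
    have hfin := (Groth.Agent.Lib.AlgSpLFI46.finite_irreducibleComponents_iff_finite_dim_zero T.left).1
      (Groth.Agent.Lib.AlgSpLFI46.LFI.finite_of_compactSpace hTl)
    refine (hfin.image (AlgSp.Points.ofPt c)).subset ?_
    intro y hy
    obtain ⟨t, rfl⟩ := Groth.Agent.Lib.AlgSpQC.surjective_ofPt_of_repWith_surjective hcs y
    exact ⟨t, (Groth.Agent.Lib.AlgSpQFAt.hasAt_dim_iff_of_chart c hce t 0).1 hy, rfl⟩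
  · obtain ⟨U₀, a₀, hae, has⟩ := X.2.atlas
    refine ⟨U₀, a₀, hae, has, fun W hW => ?_⟩
    have hfin := h (Groth.Agent.Lib.AlgSpLFI46.restrictSpace U₀ W)
      (Groth.Agent.Lib.AlgSpLFI46.restrictHom a₀ W)
      (Groth.Agent.Lib.AlgSpLFI46.isEtaleMor_restrictHom a₀ hae W)
      (Groth.Agent.Lib.AlgSpLFI46.isQuasiCompactSp_restrictSpace U₀ W hW)
    refine (Groth.Agent.Lib.AlgSpLFI46.finite_irreducibleComponents_iff_finite_dim_zero
      (W : Scheme.{u})).2 ?_
    refine (hfin.preimage ((AlgSp.Points.schemeHomeo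
      (Groth.Agent.Lib.AlgSpDecentSpec.restrictOver U₀ W)).injective.injOn)).subset ?_
    intro t ht
    exact (Groth.Agent.Lib.AlgSpQFAt.hasAt_dim_iff_of_chart (𝟙 _) (hid _) t 0).2 ht
  · obtain ⟨T, c, hce, hcs, hT⟩ := hY
    have : CompactSpace ↥T.left := hT
    have hTl : Groth.Agent.Lib.LocFinIrred46.LFI T.left :=
      Groth.Agent.Lib.AlgSpLFI46.lfi_of_chart h (c ≫ g.hom) (hg c hce)
    exact Groth.Agent.Lib.LocFinIrred46.finite_irreducibleComponents_of_surjective
      (AlgSp.Points.ofPt c) (AlgSp.Points.continuous_ofPt c)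
      (Groth.Agent.Lib.AlgSpQC.surjective_ofPt_of_repWith_surjective hcs)
      (Groth.Agent.Lib.AlgSpLFI46.LFI.finite_of_compactSpace hTl)
  · obtain ⟨U₀, a₀, hae, has⟩ := X.2.atlas
    refine ⟨U₀, a₀, hae, has, fun W hW => ?_⟩
    have hfin := h (Groth.Agent.Lib.AlgSpLFI46.restrictSpace U₀ W)
      (Groth.Agent.Lib.AlgSpLFI46.restrictHom a₀ W)
      (Groth.Agent.Lib.AlgSpLFI46.isEtaleMor_restrictHom a₀ hae W)
      (Groth.Agent.Lib.AlgSpLFI46.isQuasiCompactSp_restrictSpace U₀ W hW)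
    exact Groth.Agent.Lib.FiniteIrredCompH44.finite_irreducibleComponents_of_homeomorph
      (AlgSp.Points.schemeHomeo (Groth.Agent.Lib.AlgSpDecentSpec.restrictOver U₀ W)).symm hfin

end Groth.Agent.S10304
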