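import Groth.Statements.S10309
-- import your own Groth.Agent.* helpers here
import Groth.Agent.Lib.AlgSpRetro91
import Groth.Agent.S9355

set_option autoImplicit false
universe u
open CategoryTheory CategoryTheory.Limits AlgebraicGeometry
open AlgSp

namespace Groth.Agent.S10309

/-- For f locally of finite presentation, the locus where the relative dimension is at most n is
retrocompact in |X|. -/
theorem result {S : Scheme.{u}} {X Y : AlgSp.Space S} (f : X ⟶ Y)
    (hf : AlgSp.LocP @LocallyOfFinitePresentation f.hom) (n : ℕ) (V : Set (AlgSp.Points X.obj))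
    (hV : IsOpen V) (hVc : IsCompact V) :
    IsCompact (V ∩ {x : AlgSp.Points X.obj |
      AlgSp.HasAtMor (fun _ _ h u => FlatMor.fibreDimAt h u ≤ (n : WithBot ℕ∞)) f.hom x}) := by
  obtain ⟨U, V', a, c, h, ha, has, hc, -, hcomm⟩ :=
    Groth.Agent.Lib.AlgSpRetro91.exists_atlas_diagram X.property Y.property f.hom
  have hlfp : LocallyOfFinitePresentation h.left := hf a c h ha hc hcomm
  apply Groth.Agent.Lib.AlgSpRetro91.isCompact_inter_of_isRetrocompact_atlas a ha has _ ?_ V hV hVc
  have heq : AlgSp.Points.ofPt a ⁻¹' {x : AlgSp.Points X.obj |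
      AlgSp.HasAtMor (fun _ _ h u => FlatMor.fibreDimAt h u ≤ (n : WithBot ℕ∞)) f.hom x} =
      {u : ↥U.left | FlatMor.fibreDimAt h.left u ≤ (n : WithBot ℕ∞)} := by
    ext u
    exact Groth.Agent.Lib.AlgSpRetro91.mem_fibreDimAt_le_iff f.hom _ a c h ha hc hcomm u
  rw [heq]
  exact Groth.Agent.S9355.result h.left n

end Groth.Agent.S10309
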