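import Groth.Statements.S1031

set_option autoImplicit false
universe v u
open CategoryTheory
open CohDer

namespace Groth.Agent.S1031

section aux

open Limits ObjectProperty Pretriangulated

variable {C : Type u} [Category.{v} C] [HasZeroObject C] [HasShift C ℤ] [Preadditive C]
  [∀ (n : ℤ), (shiftFunctor C n).Additive] [Pretriangulated C]

lemma closedBinProd_of_prod (P : ObjectProperty C) [P.IsClosedUnderIsomorphisms]
    (h : ∀ X Y, P X → P Y → P (X ⨯ Y)) : P.IsClosedUnderBinaryProducts where
  limitsOfShape_le := by
    rintro X ⟨p⟩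
    refine P.prop_of_iso ?_ (h _ _ (p.prop_diag_obj (.mk .left)) (p.prop_diag_obj (.mk .right)))
    exact IsLimit.conePointUniqueUpToIso (prodIsProd _ _)
      ((IsLimit.postcomposeHomEquiv (diagramIsoPair p.diag) _).2 p.isLimit)

lemma extensionProduct_closedBinProd (P Q : ObjectProperty C)
    [P.IsClosedUnderBinaryProducts] [Q.IsClosedUnderBinaryProducts] :
    (extensionProduct P Q).IsClosedUnderBinaryProducts := by
  apply closedBinProd_of_prod
  rintro X₁ X₂ ⟨Y₁, Z₁, f₁, g₁, h₁, hT₁, hP₁, hQ₁⟩ ⟨Y₂, Z₂, f₂, g₂, h₂, hT₂, hP₂, hQ₂⟩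
  let T : WalkingPair → Triangle C := fun j =>
    WalkingPair.casesOn j (Triangle.mk f₁ g₁ h₁) (Triangle.mk f₂ g₂ h₂)
  have hT : ∀ j, T j ∈ distTriang C := by rintro (_ | _) <;> assumption
  have hd := productTriangle_distinguished T hT
  have e : (productTriangle T).obj₂ ≅ X₁ ⨯ X₂ :=
    IsLimit.conePointUniqueUpToIso (productIsProduct (fun j => (T j).obj₂))
      ((IsLimit.postcomposeHomEquiv (Discrete.natIso (fun ⟨j⟩ => by
        cases j <;> exact Iso.refl _)) _).symm (prodIsProd X₁ X₂))
  refine (extensionProduct P Q).prop_of_iso e ⟨_, _, _, _, _, hd, ?_, ?_⟩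
  · exact P.prop_pi _ (by rintro (_ | _) <;> assumption)
  · exact Q.prop_pi _ (by rintro (_ | _) <;> assumption)

lemma retractClosure_closedBinProd (P : ObjectProperty C) [P.IsClosedUnderBinaryProducts] :
    P.retractClosure.IsClosedUnderBinaryProducts := by
  apply closedBinProd_of_prod
  rintro X₁ X₂ ⟨Y₁, h₁, ⟨r₁⟩⟩ ⟨Y₂, h₂, ⟨r₂⟩⟩
  refine ⟨Y₁ ⨯ Y₂, P.prop_prod _ _ h₁ h₂, ⟨⟨prod.map r₁.i r₂.i, prod.map r₁.r r₂.r, ?_⟩⟩⟩
  simp

lemma extensionProductIter_closedBinProd (P : ObjectProperty C) [P.IsClosedUnderBinaryProducts]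
    (n : ℕ) : (P.extensionProductIter n).IsClosedUnderBinaryProducts := by
  induction n with
  | zero => rwa [extensionProductIter_zero]
  | succ n ih =>
    rw [extensionProductIter_succ]
    exact extensionProduct_closedBinProd _ _

lemma triangEnvelopeIter_closedBinProd (P : ObjectProperty C) (n : ℕ) :
    (P.triangEnvelopeIter n).IsClosedUnderBinaryProducts := by
  have h1 : (P.shiftClosure ℤ).binaryProductsClosure.IsClosedUnderBinaryProducts :=
    inferInstance
  have h2 := retractClosure_closedBinProd (P.shiftClosure ℤ).binaryProductsClosure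
  have h3 := extensionProductIter_closedBinProd
    (P.shiftClosure ℤ).binaryProductsClosure.retractClosure n
  exact retractClosure_closedBinProd _

lemma triangEnvelopeIter_zero_le (P Q : ObjectProperty C) [Q.Nonempty] (m : ℕ)
    (h : P ≤ Q.triangEnvelopeIter m) :
    (P.shiftClosure ℤ).binaryProductsClosure.retractClosure ≤ Q.triangEnvelopeIter m := by
  have := triangEnvelopeIter_closedBinProd Q m
  rwa [retractClosure_le_iff, binaryProductsClosure_le_iff, shiftClosure_le_iff]

lemma triangEnvelopeIter_le (P Q : ObjectProperty C) [IsTriangulated C] [Q.Nonempty] (m : ℕ)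
    (h : P ≤ Q.triangEnvelopeIter m) (k : ℕ) :
    P.triangEnvelopeIter k ≤ Q.triangEnvelopeIter (k * (m + 1) + m) := by
  induction k with
  | zero =>
    rw [triangEnvelopeIter_zero]
    simpa using triangEnvelopeIter_zero_le P Q m h
  | succ k ih =>
    rw [triangEnvelopeIter_succ]
    have e : (k + 1) * (m + 1) + m = (m + 1) + (k * (m + 1) + m) := by ring
    rw [e, triangEnvelopeIter_add Q (n' := m) rfl]
    apply monotone_retractClosure
    exact (monotone_extensionProduct_left _ (triangEnvelopeIter_zero_le P Q m h)).trans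
      (monotone_extensionProduct_right _ ih)

end aux

/-- Let D be a triangulated category admitting a strong generator G (every object is reached from G by
shifts, finite sums, summands and a uniformly bounded number of extensions). Then every classical
generator E of D (every object reached from E with some finite number of extensions) is itself a
strong generator. -/
theorem result {D : Type u} [Category.{v} D] [Preadditive D] [Limits.HasZeroObject D] [HasShift D ℤ]
    [∀ n : ℤ, (shiftFunctor D n).Additive] [Pretriangulated D] [IsTriangulated D]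
    (G E : D) (hG : ObjectProperty.IsStrongTriangulatedGenerator (fun X : D => X = G))
    (hE : ObjectProperty.IsClassicalTriangulatedGenerator (fun X : D => X = E)) :
    ObjectProperty.IsStrongTriangulatedGenerator (fun X : D => X = E) := by
  obtain ⟨n, hn⟩ := hG
  have hGE : ObjectProperty.triangEnvelope (fun X : D => X = E) G := by
    rw [ObjectProperty.isClassicalTriangulatedGenerator_iff] at hE
    rw [hE]; trivial
  obtain ⟨m, hm⟩ := (ObjectProperty.prop_triangEnvelope_iff _ _).1 hGE
  have : ObjectProperty.Nonempty (fun X : D => X = E) := ⟨E, rfl⟩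
  have h0 : (fun X : D => X = G) ≤ ObjectProperty.triangEnvelopeIter (fun X : D => X = E) m := by
    rintro X rfl
    exact hm
  refine ⟨n * (m + 1) + m, ?_⟩
  rw [eq_top_iff, ← hn]
  exact triangEnvelopeIter_le _ _ m h0 n

end Groth.Agent.S1031
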