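import Groth.Statements.S10311
-- import your own Groth.Agent.* helpers here
import Groth.Agent.Lib.AlgSpQFBC91
import Groth.Agent.Lib.H86FibDimChart

set_option autoImplicit false
universe u
open CategoryTheory CategoryTheory.Limits AlgebraicGeometry
open AlgSp

namespace Groth.Agent.S10311

/-- The relative dimension at a point of a morphism locally of finite type is preserved by base change. -/
theorem result {S : Scheme.{u}} {X Y Y' X' : AlgSp.Space S} (f : X ⟶ Y) (g : Y' ⟶ Y)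
    (g' : X' ⟶ X) (f' : X' ⟶ Y') (sq : IsPullback g'.hom f'.hom f.hom g.hom)
    (hf : AlgSp.LocP @LocallyOfFiniteType f.hom) (x' : AlgSp.Points X'.obj) (d : WithBot ℕ∞)
    (hd : AlgSp.HasAtMor (fun _ _ h u => FlatMor.fibreDimAt h u = d) f.hom (AlgSp.Points.map g'.hom x')) :
    AlgSp.HasAtMor (fun _ _ h u => FlatMor.fibreDimAt h u = d) f'.hom x' := by
  obtain ⟨U, V, U'', V'', a, c, a'', c'', h, h'', gU, gV, u'', ha, hc, ha'', hc'', hcf, hcf'', hab, -,
    sqA, rfl⟩ := Groth.Agent.Lib.AlgSpQFBC91.exists_baseChange_chart X.property Y.property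
      X'.property Y'.property sq x'
  have : LocallyOfFiniteType h.left := hf a c h ha hc hcf
  refine ⟨U'', V'', a'', c'', h'', u'', ha'', hc'', hcf'', rfl, ?_⟩
  show FlatMor.fibreDimAt h''.left u'' = d
  rw [Groth.Agent.Lib.H30FibBC.fibreDimAt_eq_of_isPullback h.left gV.left gU.left h''.left sqA u'']
  obtain ⟨U₁, V₁, a₁, c₁, h₁, u₁, ha₁, hc₁, hcf₁, hu₁, hd₁⟩ := hd
  have hpt : AlgSp.Points.ofPt a₁ u₁ = AlgSp.Points.ofPt a (gU.left u'') := by
    rw [hu₁, AlgSp.Points.map_ofPt, hab, Groth.Agent.Lib.AlgSpPoints.ofPt_yon_map_comp]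
  rw [← Groth.Agent.Lib.H86FibDimChart.fibreDimAt_chart_indep f.hom a₁ c₁ h₁ a c h ha₁ hc₁ ha hc hcf₁
    hcf u₁ (gU.left u'') hpt]
  exact hd₁

end Groth.Agent.S10311
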