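import Groth.Statements.S10312
-- import your own Groth.Agent.* helpers here
import Groth.Agent.Lib.AlgSpNear91

set_option autoImplicit false
universe u
open CategoryTheory CategoryTheory.Limits AlgebraicGeometry
open AlgSp

namespace Groth.Agent.S10312

/-- For X -> Y over Z with X -> Z locally of finite type, the locus where X -> Y is unramified is an
open subset of |X| whose formation commutes with base change along any Z' -> Z. -/
theorem result {S : Scheme.{u}} {X Y Z Z' Y' X' : AlgSp.Space S} (f : X ⟶ Y)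
    (p : X ⟶ Z) (q : Y ⟶ Z) (comm : f ≫ q = p) (hp : AlgSp.LocP @LocallyOfFiniteType p.hom) (g : Z' ⟶ Z)
    (a : Y' ⟶ Y) (q' : Y' ⟶ Z') (sq1 : IsPullback a.hom q'.hom q.hom g.hom)
    (b : X' ⟶ X) (f' : X' ⟶ Y') (sq2 : IsPullback b.hom f'.hom f.hom a.hom) :
    IsOpen {x : AlgSp.Points X.obj | AlgSp.HasAtMor (fun U _ h u => ∃ W : U.Opens, u ∈ W ∧ LocallyOfFiniteType (W.ι ≫ h) ∧ FormallyUnramified (W.ι ≫ h)) f.hom x} ∧
    {x' : AlgSp.Points X'.obj | AlgSp.HasAtMor (fun U _ h u => ∃ W : U.Opens, u ∈ W ∧ LocallyOfFiniteType (W.ι ≫ h) ∧ FormallyUnramified (W.ι ≫ h)) f'.hom x'} =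
      AlgSp.Points.map b.hom ⁻¹' {x : AlgSp.Points X.obj | AlgSp.HasAtMor (fun U _ h u => ∃ W : U.Opens, u ∈ W ∧ LocallyOfFiniteType (W.ι ≫ h) ∧ FormallyUnramified (W.ι ≫ h)) f.hom x} := by
  have hf : AlgSp.LocP @LocallyOfFiniteType f.hom := by
    apply Groth.Agent.Lib.AlgSpBasic.locP_of_comp @LocallyOfFiniteType
      (fun A B C k l (hkl : LocallyOfFiniteType (k ≫ l)) => locallyOfFiniteType_of_comp k l)
      Z.property f.hom q.hom
    have : f.hom ≫ q.hom = p.hom := by rw [← comm]; rfl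
    rw [this]; exact hp
  have hQ := Groth.Agent.Lib.AlgSpNear91.etLocalAt_near
    Groth.Agent.Lib.AlgSpLocP.etLocalClass_lft_unramified.{u}
  refine ⟨Groth.Agent.Lib.AlgSpNear91.isOpen_hasAtMor_near
    (@LocallyOfFiniteType ⊓ @FormallyUnramified) f.hom, ?_⟩
  ext x'
  exact Groth.Agent.Lib.AlgSpNear91.EtLocalAt.hasAtMor_baseChange hQ
    Groth.Agent.Lib.AlgSpNear91.unramified_near_baseChange X.property Y.property X'.property
    Y'.property sq2 hf x'

end Groth.Agent.S10312
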