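import Groth.Statements.S10313
-- import your own Groth.Agent.* helpers here
import Groth.Agent.Lib.AlgSpQFBC91

set_option autoImplicit false
universe u
open CategoryTheory CategoryTheory.Limits AlgebraicGeometry
open AlgSp

namespace Groth.Agent.S10313

/-- For f locally of finite type there is an open subspace of X on which f is locally quasi-finite,
outside of which the relative dimension is at least 1, and whose formation commutes with base
change. -/
theorem result {S : Scheme.{u}} {X Y : AlgSp.Space S} (f : X ⟶ Y)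
    (hf : AlgSp.LocP @LocallyOfFiniteType f.hom) :
    ∃ (X' : AlgSp.Space S) (j : X' ⟶ X), AlgSp.RepWith @IsOpenImmersion j.hom ∧
      AlgSp.LocP (@LocallyQuasiFinite ⊓ @LocallyOfFiniteType) (j ≫ f).hom ∧
      (∀ x : AlgSp.Points X.obj, x ∉ Set.range (AlgSp.Points.map j.hom) →
        AlgSp.HasAtMor (fun _ _ h u => 1 ≤ FlatMor.fibreDimAt h u) f.hom x) ∧
      ∀ (Y'' X'' : AlgSp.Space S) (g : Y'' ⟶ Y) (b : X'' ⟶ X) (f'' : X'' ⟶ Y''),
        IsPullback b.hom f''.hom f.hom g.hom → ∀ x'' : AlgSp.Points X''.obj,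
          AlgSp.Points.map b.hom x'' ∈ Set.range (AlgSp.Points.map j.hom) ↔ AlgSp.HasAtMor (fun U _ h u => ∃ W : U.Opens, u ∈ W ∧ LocallyQuasiFinite (W.ι ≫ h) ∧ LocallyOfFiniteType (W.ι ≫ h)) f''.hom x'' := by
  classical
  have hΩ := Groth.Agent.Lib.AlgSpQFBC91.isOpen_qfLocus f.hom hf
  have hr : Set.range (AlgSp.Points.map (Groth.Agent.Lib.H86AlgSpOpen.openSubι X.obj
      (Groth.Agent.Lib.AlgSpQFBC91.qfLocus f.hom))) = Groth.Agent.Lib.AlgSpQFBC91.qfLocus f.hom :=
    Groth.Agent.Lib.H86AlgSpOpen.range_map_openSubι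
  refine ⟨⟨Groth.Agent.Lib.H86AlgSpOpen.openSub X.obj (Groth.Agent.Lib.AlgSpQFBC91.qfLocus f.hom),
    Groth.Agent.Lib.H86AlgSpOpen.isAlgSpace_openSub X.property hΩ⟩,
    ObjectProperty.homMk (Groth.Agent.Lib.H86AlgSpOpen.openSubι X.obj
      (Groth.Agent.Lib.AlgSpQFBC91.qfLocus f.hom)),
    Groth.Agent.Lib.H86AlgSpOpen.openSubι_repWith hΩ, ?_, ?_, ?_⟩
  · exact Groth.Agent.Lib.AlgSpQFBC91.locP_lqf_openSubι_comp X.property Y.property f.hom hf hΩ
      (le_refl _)
  · intro x hx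
    apply Groth.Agent.Lib.AlgSpQFBC91.one_le_fibreDimAt_of_not_mem X.property Y.property f.hom hf x
    intro hx'
    apply hx
    show x ∈ Set.range (AlgSp.Points.map (Groth.Agent.Lib.H86AlgSpOpen.openSubι X.obj
      (Groth.Agent.Lib.AlgSpQFBC91.qfLocus f.hom)))
    rw [hr]; exact hx'
  · intro Y'' X'' g b f'' sq x''
    have hf'' : AlgSp.LocP @LocallyOfFiniteType f''.hom :=
      Groth.Agent.Lib.AlgSpLocP.locP_of_isPullback Groth.Agent.Lib.AlgSpLocP.etLocalClass_lft
        X.property Y.property Y''.property sq hf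
    rw [Groth.Agent.Lib.AlgSpQFBC91.hasAtMor_opens_iff f''.hom hf'' x'',
      ← Groth.Agent.Lib.AlgSpQFBC91.mem_qfLocus_baseChange X.property Y.property X''.property
        Y''.property sq hf x'']
    show AlgSp.Points.map b.hom x'' ∈ Set.range (AlgSp.Points.map
      (Groth.Agent.Lib.H86AlgSpOpen.openSubι X.obj (Groth.Agent.Lib.AlgSpQFBC91.qfLocus f.hom))) ↔ _
    rw [hr]

end Groth.Agent.S10313
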