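import Groth.Statements.S10314
-- import your own Groth.Agent.* helpers here
import Groth.Agent.Lib.AlgSpQFBC91
import Groth.Agent.Lib.H86FibDimChart
import Groth.Agent.Lib.H86DimAt
import Groth.Agent.S9359

set_option autoImplicit false
universe u
open CategoryTheory CategoryTheory.Limits AlgebraicGeometry
open AlgSp

namespace Groth.Agent.S10314

/-- For a flat morphism locally of finite type of relative dimension d between locally Noetherian
algebraic spaces, the dimension of X at a point equals the dimension of Y at the image point plus d. -/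
theorem result {S : Scheme.{u}} {X Y : AlgSp.Space S} (f : X ⟶ Y)
    (hX : AlgSp.IsLocNoethSp X.obj) (hY : AlgSp.IsLocNoethSp Y.obj) (hf : AlgSp.LocP @Flat f.hom)
    (hf' : AlgSp.LocP @LocallyOfFiniteType f.hom) (d : ℕ)
    (hd : ∀ x : AlgSp.Points X.obj, AlgSp.HasAtMor (fun _ _ h u => FlatMor.fibreDimAt h u = (d : WithBot ℕ∞)) f.hom x)
    (x : AlgSp.Points X.obj) (dX dY : WithBot ℕ∞) (hx : AlgSp.HasAt (fun U u => FlatMor.localDim ↥U u = dX) X.obj x)
    (hy : AlgSp.HasAt (fun U u => FlatMor.localDim ↥U u = dY) Y.obj (AlgSp.Points.map f.hom x)) :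
    dX = dY + (d : WithBot ℕ∞) := by
  obtain ⟨U, V, a, c, h, u, ha, hc, hcomm, rfl⟩ :=
    Groth.Agent.Lib.AlgSpQFAt91.exists_chart_diagram X.property Y.property f.hom x
  have hNU : IsLocallyNoetherian U.left :=
    Groth.Agent.Lib.AlgSpDecentSpec.isLocallyNoetherian_of_repWith_etale hX a ha
  have hNV : IsLocallyNoetherian V.left :=
    Groth.Agent.Lib.AlgSpDecentSpec.isLocallyNoetherian_of_repWith_etale hY c hc
  have hfl : Flat h.left := hf a c h ha hc hcomm
  have hlft : LocallyOfFiniteType h.left := hf' a c h ha hc hcomm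
  have hrel : Cyc.HasRelDim h.left d := by
    rw [Groth.Agent.Lib.H30FibBC.hasRelDim_iff]
    intro u'
    obtain ⟨U₁, V₁, a₁, c₁, h₁, u₁, ha₁, hc₁, hcomm₁, hu₁, hd₁⟩ := hd (AlgSp.Points.ofPt a u')
    rw [← Groth.Agent.Lib.H86FibDimChart.fibreDimAt_chart_indep f.hom a₁ c₁ h₁ a c h ha₁ hc₁ ha hc
      hcomm₁ hcomm u₁ u' hu₁]
    exact hd₁
  have key := Groth.Agent.S9359.result h.left d hrel u
  obtain ⟨U₂, a₂, u₂, ha₂, hu₂, hdX⟩ := hx
  obtain ⟨V₂, c₂, v₂, hc₂, hv₂, hdY⟩ := hy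
  have e1 : FlatMor.localDim ↥U.left u = dX :=
    (Groth.Agent.Lib.H86DimAt.chart_indep (Q := fun U u => FlatMor.localDim ↥U u = dX)
      (fun s _ w => Groth.Agent.Lib.H86DimAt.localDim_iff_of_etale dX s w) a₂ a ha₂ ha u₂ u hu₂).1 hdX
  have hpt : AlgSp.Points.ofPt c₂ v₂ = AlgSp.Points.ofPt c (h.left u) := by
    rw [hv₂, AlgSp.Points.map_ofPt, hcomm, Groth.Agent.Lib.AlgSpPoints.ofPt_yon_map_comp]
  have e2 : FlatMor.localDim ↥V.left (h.left u) = dY :=
    (Groth.Agent.Lib.H86DimAt.chart_indep (Q := fun U u => FlatMor.localDim ↥U u = dY)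
      (fun s _ w => Groth.Agent.Lib.H86DimAt.localDim_iff_of_etale dY s w) c₂ c hc₂ hc v₂ (h.left u)
      hpt).1 hdY
  rw [← e1, ← e2]
  exact key

end Groth.Agent.S10314
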