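import Groth.Statements.S10315
-- import your own Groth.Agent.* helpers here
import Groth.Agent.Lib.AlgSpQFBC91
import Groth.Agent.Lib.H86FibDimChart
import Groth.Agent.Lib.SmoothDim91

set_option autoImplicit false
universe u
open CategoryTheory CategoryTheory.Limits AlgebraicGeometry
open AlgSp

namespace Groth.Agent.S10315

/-- For a smooth morphism of locally Noetherian algebraic spaces, the dimension of X at x is the
dimension of Y at the image of x plus the relative dimension of f at x. -/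
theorem result {S : Scheme.{u}} {X Y : AlgSp.Space S} (f : X ⟶ Y)
    (hX : AlgSp.IsLocNoethSp X.obj) (hY : AlgSp.IsLocNoethSp Y.obj) (hf : AlgSp.LocP @Smooth f.hom)
    (x : AlgSp.Points X.obj) (d dX dY : WithBot ℕ∞)
    (hd : AlgSp.HasAtMor (fun _ _ h u => FlatMor.fibreDimAt h u = d) f.hom x)
    (hx : AlgSp.HasAt (fun U u => FlatMor.localDim ↥U u = dX) X.obj x)
    (hy : AlgSp.HasAt (fun U u => FlatMor.localDim ↥U u = dY) Y.obj (AlgSp.Points.map f.hom x)) :
    dX = dY + d := by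
  obtain ⟨U, V, a, c, h, u, ha, hc, hcomm, rfl⟩ :=
    Groth.Agent.Lib.AlgSpQFAt91.exists_chart_diagram X.property Y.property f.hom x
  have hNU : IsLocallyNoetherian U.left :=
    Groth.Agent.Lib.AlgSpDecentSpec.isLocallyNoetherian_of_repWith_etale hX a ha
  have hNV : IsLocallyNoetherian V.left :=
    Groth.Agent.Lib.AlgSpDecentSpec.isLocallyNoetherian_of_repWith_etale hY c hc
  have hsm : Smooth h.left := hf a c h ha hc hcomm
  have key := Groth.Agent.Lib.SmoothDim91.localDim_eq_add_of_smooth h.left u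
  obtain ⟨U₁, V₁, a₁, c₁, h₁, u₁, ha₁, hc₁, hcomm₁, hu₁, hd₁⟩ := hd
  have e0 : FlatMor.fibreDimAt h.left u = d := by
    rw [← Groth.Agent.Lib.H86FibDimChart.fibreDimAt_chart_indep f.hom a₁ c₁ h₁ a c h ha₁ hc₁ ha hc
      hcomm₁ hcomm u₁ u hu₁]
    exact hd₁
  obtain ⟨U₂, a₂, u₂, ha₂, hu₂, hdX⟩ := hx
  obtain ⟨V₂, c₂, v₂, hc₂, hv₂, hdY⟩ := hy
  have e1 : FlatMor.localDim ↥U.left u = dX :=
    (Groth.Agent.Lib.H86DimAt.chart_indep (Q := fun U u => FlatMor.localDim ↥U u = dX)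
      (fun s _ w => Groth.Agent.Lib.H86DimAt.localDim_iff_of_etale dX s w) a₂ a ha₂ ha u₂ u hu₂).1 hdX
  have hpt : AlgSp.Points.ofPt c₂ v₂ = AlgSp.Points.ofPt c (h.left u) := by
    rw [hv₂, AlgSp.Points.map_ofPt, hcomm, Groth.Agent.Lib.AlgSpPoints.ofPt_yon_map_comp]
  have e2 : FlatMor.localDim ↥V.left (h.left u) = dY :=
    (Groth.Agent.Lib.H86DimAt.chart_indep (Q := fun U u => FlatMor.localDim ↥U u = dY)
      (fun s _ w => Groth.Agent.Lib.H86DimAt.localDim_iff_of_etale dY s w) c₂ c hc₂ hc v₂ (h.left u)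
      hpt).1 hdY
  rw [← e1, ← e2, ← e0]
  exact key

end Groth.Agent.S10315
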