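import Groth.Statements.S10318
import Groth.Agent.Lib.AlgSpJacobson
import Groth.Agent.Lib.ResTrdegJacobson

set_option autoImplicit false
universe u
open CategoryTheory CategoryTheory.Limits AlgebraicGeometry
open AlgSp

namespace Groth.Agent.S10318

/-- Over a Jacobson algebraic space, a finite type point of a space locally of finite type over it has
transcendence degree 0 over its image. -/
theorem result {S : Scheme.{u}} {X Y : AlgSp.Space S} (f : X ⟶ Y)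
    (hf : AlgSp.LocP @LocallyOfFiniteType f.hom) (hY : AlgSp.EtaleLocally (fun U => JacobsonSpace ↥U) Y.obj)
    (x : AlgSp.Points X.obj) (hx : AlgSp.HasAt (fun U u => IsClosed ({u} : Set ↥U)) X.obj x) :
    AlgSp.HasAtMor (fun _ _ h u => Dual3.resTrdeg h u = 0) f.hom x := by
  classical
  obtain ⟨V, b, hbe, hbs, hV⟩ := hY
  obtain ⟨U₁, a₁, u₁, ha₁, rfl, hu₁⟩ := hx
  have hJV : JacobsonSpace ↥V.left := hV
  have sq := hbe.rep.isPullback' (a₁ ≫ f.hom)
  have hse : Etale (hbe.rep.snd (a₁ ≫ f.hom)).left := hbe.property_snd _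
  have hss : Surjective (hbe.rep.snd (a₁ ≫ f.hom)).left := hbs.property _ _ _ sq
  have hae : RepWith @Etale ((yon S).map (hbe.rep.snd (a₁ ≫ f.hom)) ≫ a₁) :=
    (RepWith @Etale).comp_mem _ _ ((repWith_yon_map_iff _ _).2 hse) ha₁
  have hcomm : ((yon S).map (hbe.rep.snd (a₁ ≫ f.hom)) ≫ a₁) ≫ f.hom =
      (yon S).map (hbe.rep.fst' (a₁ ≫ f.hom)) ≫ b := by
    rw [Category.assoc]; exact sq.w.symm
  have hlft : LocallyOfFiniteType (hbe.rep.fst' (a₁ ≫ f.hom)).left :=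
    hf _ b _ hae hbe hcomm
  have hWJ : JacobsonSpace ↥(hbe.rep.pullback (a₁ ≫ f.hom)).left :=
    LocallyOfFiniteType.jacobsonSpace (hbe.rep.fst' (a₁ ≫ f.hom)).left
  obtain ⟨w₀, hw₀⟩ := hss.surj u₁
  have hZc : IsClosed ((hbe.rep.snd (a₁ ≫ f.hom)).left ⁻¹' {u₁}) :=
    hu₁.preimage (hbe.rep.snd (a₁ ≫ f.hom)).left.continuous
  obtain ⟨w, hwZ, hwc⟩ := nonempty_inter_closedPoints ⟨w₀, hw₀⟩ hZc.isLocallyClosed
  refine ⟨_, V, _, b, hbe.rep.fst' (a₁ ≫ f.hom), w, hae, hbe, hcomm, ?_, ?_⟩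
  · rw [Groth.Agent.Lib.AlgSpPoints.ofPt_yon_map_comp]
    congr 1
  · exact Groth.Agent.Lib.ResTrdegJacobson.resTrdeg_eq_zero_of_isClosed _ w hwc

end Groth.Agent.S10318
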