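import Groth.Statements.S10320
import Groth.Agent.Lib.H86FibDimChart

set_option linter.style.haveILetI false

set_option autoImplicit false
universe u
open CategoryTheory CategoryTheory.Limits AlgebraicGeometry
open AlgSp

namespace Groth.Agent.S10320

/-- For f locally of finite type, the relative dimension of f at x equals the dimension of the local
ring of the fibre at x plus the transcendence degree of x over its image. -/
theorem result {S : Scheme.{u}} {X Y : AlgSp.Space S} (f : X ⟶ Y)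
    (hf : AlgSp.LocP @LocallyOfFiniteType f.hom) (x : AlgSp.Points X.obj) (d e : WithBot ℕ∞) (r : Cardinal.{u})
    (hd : AlgSp.HasAtMor (fun _ _ h u => FlatMor.fibreDimAt h u = d) f.hom x)
    (he : AlgSp.HasAtMor (fun _ _ h u => ringKrullDim ↥((h.fiber (h u)).presheaf.stalk (h.asFiber u)) = e) f.hom x)
    (hr : AlgSp.HasAtMor (fun _ _ h u => Dual3.resTrdeg h u = r) f.hom x) :
    d = e + ((Cardinal.toENat r : ℕ∞) : WithBot ℕ∞) := by
  obtain ⟨U₁, V₁, a₁, b₁, h₁, u₁, ha₁, hb₁, hc₁, hu₁, hd₁⟩ := hd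
  obtain ⟨U₂, V₂, a₂, b₂, h₂, u₂, ha₂, hb₂, hc₂, hu₂, he₂⟩ := he
  obtain ⟨U₃, V₃, a₃, b₃, h₃, u₃, ha₃, hb₃, hc₃, hu₃, hr₃⟩ := hr
  haveI : LocallyOfFiniteType h₂.left := hf a₂ b₂ h₂ ha₂ hb₂ hc₂
  have e1 := Groth.Agent.Lib.H86FibDimChart.fibreDimAt_chart_indep f.hom a₂ b₂ h₂ a₁ b₁ h₁
    ha₂ hb₂ ha₁ hb₁ hc₂ hc₁ u₂ u₁ (hu₂.trans hu₁.symm)
  have e2 := Groth.Agent.Lib.AlgSpTrdeg91.resTrdeg_chart_indep f.hom a₂ b₂ h₂ a₃ b₃ h₃
    ha₂ hb₂ ha₃ hb₃ hc₂ hc₃ u₂ u₃ (hu₂.trans hu₃.symm)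
  have key := Groth.Agent.Lib.H86FibDimChart.fibreDimAt_eq_add_resTrdeg h₂.left u₂
  rw [e1, hd₁, e2, hr₃, he₂] at key
  exact key

end Groth.Agent.S10320
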