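import Groth.Statements.S10321
import Groth.Agent.Lib.SepLqfImg46c

set_option autoImplicit false
universe u
open CategoryTheory CategoryTheory.Limits AlgebraicGeometry
open AlgSp

namespace Groth.Agent.S10321

/-- Let X be separated and locally quasi-finite over an affine scheme T, let T' -> T be etale with T'
affine, and let V' be an open subspace of T' ×_T X that is quasi-affine over T'. Then V' maps onto a
quasi-compact open subspace of X that is itself a scheme. -/
theorem result {S : Scheme.{u}} {T T' : Over S} [IsAffine T.left]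
    [IsAffine T'.left] (e : T' ⟶ T) [Etale e.left] {X P V' : AlgSp.Space S} (f : X ⟶ (AlgSp.ofScheme S).obj T)
    (hsep : AlgSp.IsSeparatedMor f.hom) (hqf : AlgSp.LocP (@LocallyQuasiFinite ⊓ @LocallyOfFiniteType) f.hom)
    (p1 : P ⟶ (AlgSp.ofScheme S).obj T') (p2 : P ⟶ X)
    (sq : IsPullback p2.hom p1.hom f.hom ((AlgSp.yon S).map e)) (j : V' ⟶ P)
    (hj : AlgSp.RepWith @IsOpenImmersion j.hom) (hqa : AlgSp.IsQuasiAffineMor (j ≫ p1).hom) :
    ∃ (W : Over S) (i : (AlgSp.yon S).obj W ⟶ X.obj), AlgSp.RepWith @IsOpenImmersion i ∧ CompactSpace ↥W.left ∧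
      Set.range (AlgSp.Points.map i) = Set.range (AlgSp.Points.map (j ≫ p2).hom) := by

  obtain ⟨W₀, i₀, fst₀, sq₀, hW₀⟩ := hqa (Z := T') inferInstance (𝟙 ((yon S).obj T'))
  have : IsIso fst₀ := sq₀.isIso_fst_of_isIso (IsIso.id _)
  have hfst₀ : RepWith @IsOpenImmersion fst₀ := MorphismProperty.of_isIso (RepWith (S := S) @IsOpenImmersion) _
  have hjM : RepWith @IsOpenImmersion (fst₀ ≫ j.hom) := (RepWith @IsOpenImmersion).comp_mem _ _ hfst₀ hj
  obtain ⟨W, i, c, hi, hc, hci⟩ := Groth.Agent.Lib.SepLqfImg46.imgRep_of_isAffine e X.obj X.property f.hom hsep hqf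
    P.obj p1.hom p2.hom sq W₀ (fst₀ ≫ j.hom) hjM
  have : Surjective c.left := hc
  have : CompactSpace ↥W₀.left := hW₀.toCompactSpace
  refine ⟨W, i, hi, Function.Surjective.compactSpace c.left.continuous c.left.surjective, ?_⟩
  have hsurj := Groth.Agent.Lib.SepLqfImg46.surjective_map_yon_of_surjective c
  have h1 : Set.range (Points.map i) = Set.range (Points.map ((yon S).map c ≫ i)) := by
    ext x
    constructor
    · rintro ⟨w, rfl⟩
      obtain ⟨μ, rfl⟩ := hsurj w
      exact ⟨μ, Points.map_comp _ _ _⟩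
    · rintro ⟨μ, rfl⟩
      exact ⟨_, (Points.map_comp _ _ _).symm⟩
  rw [h1, hci]
  change _ = Set.range (Points.map (j.hom ≫ p2.hom))
  ext x
  constructor
  · rintro ⟨μ, rfl⟩
    refine ⟨Points.map fst₀ μ, ?_⟩
    rw [← Points.map_comp, Category.assoc]
  · rintro ⟨v, rfl⟩
    refine ⟨Points.map (inv fst₀) v, ?_⟩
    rw [← Points.map_comp, ← Category.assoc, ← Category.assoc, IsIso.inv_hom_id, Category.id_comp]

end Groth.Agent.S10321
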