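import Groth.Statements.S10322
import Mathlib.RingTheory.Unramified.LocalStructure
import Mathlib.AlgebraicGeometry.Morphisms.QuasiFinite
import Mathlib.AlgebraicGeometry.Morphisms.FormallyUnramified
-- import your own Groth.Agent.* helpers here

set_option autoImplicit false
universe u
open CategoryTheory CategoryTheory.Limits AlgebraicGeometry
open AlgSp

namespace Groth.Agent.S10322

theorem lqf_of_lft_unram {X Y : Scheme.{u}} (g : X ⟶ Y) [LocallyOfFiniteType g]
    [FormallyUnramified g] : LocallyQuasiFinite g := by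
  constructor
  intro U hU V hV e
  have h1 : (g.appLE U V e).hom.FiniteType := LocallyOfFiniteType.finiteType_appLE g hU hV e
  have h2 : (g.appLE U V e).hom.FormallyUnramified := g.formallyUnramified_appLE hU hV e
  algebraize [(g.appLE U V e).hom]
  show Algebra.QuasiFinite _ _
  infer_instance


/-- Unramified at a point implies quasi-finite at that point; an unramified morphism of algebraic spaces
is locally quasi-finite. -/
theorem result {S : Scheme.{u}} {X Y : AlgSp.Space S} (f : X ⟶ Y) :
    (∀ x : AlgSp.Points X.obj, AlgSp.HasAtMor (fun U _ h u => ∃ W : U.Opens, u ∈ W ∧ LocallyOfFiniteType (W.ι ≫ h) ∧ FormallyUnramified (W.ι ≫ h)) f.hom x → AlgSp.HasAtMor (fun U _ h u => ∃ W : U.Opens, u ∈ W ∧ LocallyQuasiFinite (W.ι ≫ h) ∧ LocallyOfFiniteType (W.ι ≫ h)) f.hom x) ∧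
    (AlgSp.LocP (@LocallyOfFiniteType ⊓ @FormallyUnramified) f.hom →
      AlgSp.LocP (@LocallyQuasiFinite ⊓ @LocallyOfFiniteType) f.hom) := by
  refine ⟨?_, ?_⟩
  · rintro x ⟨U, V, a, b, h, u, ha, hb, hcomm, hx, W, huW, hlft, hfu⟩
    exact ⟨U, V, a, b, h, u, ha, hb, hcomm, hx, W, huW, lqf_of_lft_unram _, hlft⟩
  · intro hf U V a b h ha hb hcomm
    obtain ⟨hlft, hfu⟩ := hf a b h ha hb hcomm
    have : LocallyOfFiniteType h.left := hlft
    have : FormallyUnramified h.left := hfu
    exact ⟨lqf_of_lft_unram _, hlft⟩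

end Groth.Agent.S10322
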