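import Groth.Statements.S10323
import Groth.Agent.S9687
import Groth.Agent.Lib.H86FibDimChart
import Groth.Agent.Lib.H86DimAt
import Groth.Agent.Lib.AlgSpGenericPt

set_option linter.style.haveILetI false

set_option autoImplicit false
universe u
open CategoryTheory CategoryTheory.Limits AlgebraicGeometry
open AlgSp

namespace Groth.Agent.S10323

/-- For Y locally Noetherian and f locally of finite type, the dimension of the local ring of X at x is
at most the dimension of the local ring of Y at the image point plus E minus the transcendence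
degree of x over its image, where E bounds the transcendence degrees of the codimension-0 points
specializing to x. -/
theorem result {S : Scheme.{u}} {X Y : AlgSp.Space S} (f : X ⟶ Y)
    (hY : AlgSp.IsLocNoethSp Y.obj) (hf : AlgSp.LocP @LocallyOfFiniteType f.hom) (x : AlgSp.Points X.obj)
    (E : Cardinal.{u})
    (hE : ∀ ξ : AlgSp.Points X.obj, ξ ⤳ x → AlgSp.HasAt (fun U u => ringKrullDim ↥(U.presheaf.stalk u) = 0) X.obj ξ →
      ∀ s : Cardinal.{u}, AlgSp.HasAtMor (fun _ _ h u => Dual3.resTrdeg h u = s) f.hom ξ → s ≤ E)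
    (a b : WithBot ℕ∞) (r : Cardinal.{u})
    (ha : AlgSp.HasAt (fun U u => ringKrullDim ↥(U.presheaf.stalk u) = a) X.obj x)
    (hb : AlgSp.HasAt (fun U u => ringKrullDim ↥(U.presheaf.stalk u) = b) Y.obj (AlgSp.Points.map f.hom x))
    (hr : AlgSp.HasAtMor (fun _ _ h u => Dual3.resTrdeg h u = r) f.hom x) :
    a + ((Cardinal.toENat r : ℕ∞) : WithBot ℕ∞) ≤ b + ((Cardinal.toENat E : ℕ∞) : WithBot ℕ∞) := by
  obtain ⟨U, V, a', b', h, u, ha', hb', hc, hu, hr'⟩ := hr
  haveI : LocallyOfFiniteType h.left := hf a' b' h ha' hb' hc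
  haveI : IsLocallyNoetherian V.left :=
    Groth.Agent.Lib.AlgSpDecentSpec.isLocallyNoetherian_of_repWith_etale hY b' hb'
  have hpt : AlgSp.Points.ofPt b' (h.left u) = AlgSp.Points.map f.hom (AlgSp.Points.ofPt a' u) := by
    rw [AlgSp.Points.map_ofPt, hc, Groth.Agent.Lib.AlgSpPoints.ofPt_yon_map_comp]
  have hau : ringKrullDim ↥(U.left.presheaf.stalk u) = a :=
    (Groth.Agent.Lib.H86DimAt.hasAt_iff_forall_chart
      (Q := fun U u => ringKrullDim ↥(U.presheaf.stalk u) = a)
      (fun s _ w => Groth.Agent.Lib.H86DimAt.ringKrullDim_stalk_iff_of_etale a s w)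
      X.property x).1 ha U a' u ha' hu
  have hbv : ringKrullDim ↥(V.left.presheaf.stalk (h.left u)) = b :=
    (Groth.Agent.Lib.H86DimAt.hasAt_iff_forall_chart
      (Q := fun U u => ringKrullDim ↥(U.presheaf.stalk u) = b)
      (fun s _ w => Groth.Agent.Lib.H86DimAt.ringKrullDim_stalk_iff_of_etale b s w)
      Y.property _).1 hb V b' (h.left u) hb' (by rw [hpt, hu])
  obtain ⟨n, hn⟩ := Cardinal.lt_aleph0.1
    (Groth.Agent.Lib.H86FibDimChart.resTrdeg_lt_aleph0 h.left u)
  have hrn : r = n := hr'.symm.trans hn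
  by_cases hEfin : E < Cardinal.aleph0
  · obtain ⟨E', rfl⟩ := Cardinal.lt_aleph0.1 hEfin
    have key := Groth.Agent.S9687.result h.left u n E' hn (fun ξ hξ hξu => by
      show Dual3.resTrdeg h.left ξ ≤ _
      have h0 : ringKrullDim ↥(U.left.presheaf.stalk ξ) = 0 :=
        (Groth.Agent.Lib.AlgSpGenericPt.ringKrullDim_stalk_eq_zero_iff ξ).2
          ((Groth.Agent.Lib.AlgSpGenericPt.exists_component_generic_iff ξ).1
            ⟨_, hξ, rfl⟩)
      refine hE (AlgSp.Points.ofPt a' ξ) ?_ ⟨U, a', ξ, ha', rfl, h0⟩ _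
        ⟨U, V, a', b', h, ξ, ha', hb', hc, rfl, rfl⟩
      rw [← hu]
      exact hξu.map (AlgSp.Points.continuous_ofPt a'))
    rw [hau, hbv] at key
    rw [hrn]
    simpa using key
  · have htop : Cardinal.toENat E = ⊤ := Cardinal.toENat_eq_top.2 (not_lt.1 hEfin)
    rw [htop]
    have hb0 : (0 : WithBot ℕ∞) ≤ b := by
      rw [← hbv]; exact ringKrullDim_nonneg_of_nontrivial
    obtain ⟨b'', rfl⟩ : ∃ b'' : ℕ∞, (b'' : WithBot ℕ∞) = b :=
      WithBot.ne_bot_iff_exists.1 (fun hbot => by rw [hbot] at hb0; simp at hb0)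
    rw [← WithBot.coe_add, add_top]
    exact le_top

end Groth.Agent.S10323
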