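import Groth.Statements.S9686
import Groth.Agent.S0554
import Groth.Agent.Lib.DimIneqScheme
import Groth.Agent.Lib.RegularDimOne

set_option autoImplicit false
universe u
open CategoryTheory CategoryTheory.Limits AlgebraicGeometry
open Mor

namespace Groth.Agent.S9686

/-- Let Y be locally Noetherian and f : X ⟶ Y locally of finite type. If E bounds the transcendence
degree of κ(ξ) over κ(f ξ) for every generic point ξ of an irreducible component of X, then dim X ≤
dim Y + E. (The published bound is the supremum of these transcendence degrees; the statement with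
any upper bound E is equivalent.) -/
theorem result {X Y : Scheme.{u}} [IsLocallyNoetherian Y]
    (f : X ⟶ Y) [LocallyOfFiniteType f] (E : ℕ)
    (hE : ∀ ξ : X, closure {ξ} ∈ irreducibleComponents ↥X →
      letI := (f.residueFieldMap ξ).hom.toAlgebra
      Algebra.trdeg (Y.residueField (f.base ξ)) (X.residueField ξ) ≤ E) :
    topologicalKrullDim ↥X ≤ topologicalKrullDim ↥Y + E := by
  have H : Groth.Agent.Lib.DimIneqCore.DimIneq.{u} :=
    fun R _ _ _ S _ _ _ _ _ p _ q _ _ => Groth.Agent.S0554.result R S p q
  rw [Groth.Agent.Lib.SpecDim.topologicalKrullDim_eq_krullDim (A := X),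
    Order.krullDim_eq_iSup_coheight]
  apply iSup_le
  intro x
  rw [← ringKrullDim_stalk_eq_coheight]
  obtain ⟨a, b, ha, hb, hineq⟩ := Groth.Agent.Lib.DimIneqScheme.stalk_ineq f H x
    (E : Cardinal.{u}) (fun ξ h1 _ => hE ξ h1)
  have h1 : (a : Cardinal.{u}) ≤ b + E := le_trans (le_add_right le_rfl) hineq
  have h2 : a ≤ b + E := by exact_mod_cast h1
  have h3 : ringKrullDim (Y.presheaf.stalk (f.base x)) ≤ topologicalKrullDim ↥Y :=
    Groth.Agent.Lib.RegularDimOne.dim_stalk_le Y (f.base x)
  have hb' : ringKrullDim (Y.presheaf.stalk (f.base x)) = b := hb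
  rw [ha]
  calc ((a : ℕ) : WithBot ℕ∞) ≤ ((b + E : ℕ) : WithBot ℕ∞) := by exact_mod_cast h2
    _ = (b : WithBot ℕ∞) + E := by push_cast; rfl
    _ ≤ topologicalKrullDim ↥Y + E := by
        rw [← hb']
        gcongr

end Groth.Agent.S9686
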