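import Groth.Statements.S10324
import Groth.Agent.S9686
import Groth.Agent.Lib.H86FibDimChart
import Groth.Agent.Lib.H86DimAt
import Groth.Agent.Lib.AlgSpGenericPt
import Groth.Agent.Lib.H69AlgSpReduced
import Groth.Agent.Lib.TopKrullDim

set_option linter.style.haveILetI false

set_option autoImplicit false
universe u
open CategoryTheory CategoryTheory.Limits AlgebraicGeometry
open AlgSp

namespace Groth.Agent.S10324

set_option backward.isDefEq.respectTransparency false in
/-- For Y locally Noetherian and f : X -> Y locally of finite type, dim X ≤ dim Y + E where E bounds the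
transcendence degrees over Y of the codimension-0 points of X. -/
theorem result {S : Scheme.{u}} {X Y : AlgSp.Space S} (f : X ⟶ Y)
    (hY : AlgSp.IsLocNoethSp Y.obj) (hf : AlgSp.LocP @LocallyOfFiniteType f.hom) (E : Cardinal.{u})
    (hE : ∀ ξ : AlgSp.Points X.obj, AlgSp.HasAt (fun U u => ringKrullDim ↥(U.presheaf.stalk u) = 0) X.obj ξ → ∀ s : Cardinal.{u}, AlgSp.HasAtMor (fun _ _ h u => Dual3.resTrdeg h u = s) f.hom ξ → s ≤ E) :
    AlgSp.dim X.obj ≤ AlgSp.dim Y.obj + ((Cardinal.toENat E : ℕ∞) : WithBot ℕ∞) := by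
  refine iSup_le fun U => iSup_le fun a => iSup_le fun ha => ?_
  obtain ⟨V, b, hbe, hbs⟩ := Y.property.atlas
  haveI : IsLocallyNoetherian V.left :=
    Groth.Agent.Lib.AlgSpDecentSpec.isLocallyNoetherian_of_repWith_etale hY b hbe
  obtain ⟨W, s, t, hse, hss, sq⟩ := Groth.Agent.Lib.H69AlgSpReduced.exists_chart f.hom a b hbe hbs
  have hse' : AlgSp.RepWith @Etale ((AlgSp.yon S).map s) := (AlgSp.repWith_yon_map_iff _ _).2 hse
  have hae : AlgSp.RepWith @Etale ((AlgSp.yon S).map s ≫ a) :=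
    MorphismProperty.comp_mem _ _ _ hse' ha
  have hw : ((AlgSp.yon S).map s ≫ a) ≫ f.hom = (AlgSp.yon S).map t ≫ b := by
    rw [Category.assoc]; exact sq.w.symm
  haveI : LocallyOfFiniteType t.left := hf _ b t hae hbe hw
  haveI : Etale s.left := hse
  haveI : Surjective s.left := hss
  have hUW : topologicalKrullDim ↥U.left = topologicalKrullDim ↥W.left :=
    (Groth.Agent.Lib.AlgSpDim91.topologicalKrullDim_eq_of_etale_surjective s.left).symm
  have hVY : topologicalKrullDim ↥V.left ≤ AlgSp.dim Y.obj :=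
    Groth.Agent.Lib.AlgSpDim91.topologicalKrullDim_le_dim b hbe
  rw [hUW]
  by_cases hEfin : E < Cardinal.aleph0
  · obtain ⟨E', rfl⟩ := Cardinal.lt_aleph0.1 hEfin
    have key := Groth.Agent.S9686.result t.left E' (fun ξ hξ => by
      show Dual3.resTrdeg t.left ξ ≤ _
      have h0 : ringKrullDim ↥(W.left.presheaf.stalk ξ) = 0 :=
        (Groth.Agent.Lib.AlgSpGenericPt.ringKrullDim_stalk_eq_zero_iff ξ).2
          ((Groth.Agent.Lib.AlgSpGenericPt.exists_component_generic_iff ξ).1
            ⟨_, hξ, rfl⟩)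
      exact hE (AlgSp.Points.ofPt ((AlgSp.yon S).map s ≫ a) ξ) ⟨W, _, ξ, hae, rfl, h0⟩ _
        ⟨W, V, _, b, t, ξ, hae, hbe, hw, rfl, rfl⟩)
    refine key.trans ?_
    have : ((Cardinal.toENat ((E' : ℕ) : Cardinal.{u}) : ℕ∞) : WithBot ℕ∞) = (E' : WithBot ℕ∞) := by
      simp
    rw [this]
    exact add_le_add_left hVY _
  · have htop : Cardinal.toENat E = ⊤ := Cardinal.toENat_eq_top.2 (not_lt.1 hEfin)
    rw [htop]
    rcases isEmpty_or_nonempty ↥W.left with hW | hW
    · have : IsEmpty (TopologicalSpace.IrreducibleCloseds ↥W.left) :=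
        ⟨fun Z => by obtain ⟨x, _⟩ := Z.isIrreducible.nonempty; exact hW.false x⟩
      have hbot : topologicalKrullDim ↥W.left = ⊥ := Order.krullDim_eq_bot
      rw [hbot]
      exact bot_le
    · obtain ⟨w⟩ := hW
      haveI : Nonempty ↥V.left := ⟨t.left w⟩
      have hb0 : (0 : WithBot ℕ∞) ≤ AlgSp.dim Y.obj :=
        (Groth.Agent.Lib.TopKrullDim.dim_nonneg_of_nonempty (X := ↥V.left)).trans hVY
      obtain ⟨b'', hb''⟩ : ∃ b'' : ℕ∞, (b'' : WithBot ℕ∞) = AlgSp.dim Y.obj :=
        WithBot.ne_bot_iff_exists.1 (fun hbot => by rw [hbot] at hb0; simp at hb0)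
      rw [← hb'', ← WithBot.coe_add, add_top]
      exact le_top

end Groth.Agent.S10324
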