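import Groth.Statements.S10326
import Groth.Agent.Lib.H86AlgSpOpen
import Mathlib.AlgebraicGeometry.Noetherian

set_option autoImplicit false
set_option linter.style.haveILetI false
universe u
open CategoryTheory CategoryTheory.Limits AlgebraicGeometry
open AlgSp

namespace Groth.Agent.S10326

open Groth.Agent.Lib.H86AlgSpPoints Groth.Agent.Lib.H86AlgSpSub Groth.Agent.Lib.H86AlgSpOpen

/-- Every scheme etale over a locally Noetherian algebraic space has quasi-compact opens with finitely
many irreducible components. -/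
theorem result {S : Scheme.{u}} (X : AlgSp.Space S)
    (hX : AlgSp.IsLocNoethSp X.obj) (U : Over S) (a : (AlgSp.yon S).obj U ⟶ X.obj) (ha : AlgSp.RepWith @Etale a)
    (W : U.left.Opens) (hW : IsCompact (W : Set ↥U.left)) : (irreducibleComponents ↥W).Finite := by
  obtain ⟨U₀, p, hpe, hps, hN⟩ := hX
  haveI : IsLocallyNoetherian U₀.left := hN
  -- the fibre product `V = U ×_X U₀`
  obtain ⟨V, snd, fst, hpb⟩ := hpe.1 a
  have hse : Etale snd.left := hpe.2 a fst snd hpb
  have hss : Surjective snd.left := hps.2 a fst snd hpb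
  obtain ⟨fst', rfl⟩ := (yon S).map_surjective fst
  haveI hfe : Etale fst'.left := ha.2 p ((yon S).map snd) fst' hpb.flip
  -- `V` is locally Noetherian
  haveI : LocallyOfFiniteType fst'.left := inferInstance
  haveI : IsLocallyNoetherian V.left := LocallyOfFiniteType.isLocallyNoetherian fst'.left
  -- every point of `W` has a Noetherian neighbourhood inside `W` (image of an affine open of `V`)
  have key : ∀ w : ↥U.left, w ∈ W → ∃ N : Set ↥U.left, IsOpen N ∧ w ∈ N ∧ N ⊆ W ∧
      TopologicalSpace.NoetherianSpace ↥N := by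
    intro w hw
    obtain ⟨v, rfl⟩ := hss.surj w
    obtain ⟨O, hO, hvO, hOW⟩ := exists_isAffineOpen_mem_and_subset (X := V.left) (x := v)
      (U := snd.left ⁻¹ᵁ W) hw
    haveI : IsNoetherianRing Γ(V.left, O) := IsLocallyNoetherian.component_noetherian ⟨O, hO⟩
    haveI hON : TopologicalSpace.NoetherianSpace O := noetherianSpace_of_isAffineOpen O hO
    refine ⟨snd.left '' O, snd.left.isOpenMap _ O.isOpen, ⟨v, hvO, rfl⟩, ?_, ?_⟩
    · rintro _ ⟨y, hy, rfl⟩
      exact hOW hy
    · rw [TopologicalSpace.noetherianSpace_set_iff]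
      intro t ht
      have h1 : t = snd.left '' (snd.left ⁻¹' t ∩ O) := by
        ext y
        constructor
        · intro hy
          obtain ⟨z, hz, rfl⟩ := ht hy
          exact ⟨z, ⟨hy, hz⟩, rfl⟩
        · rintro ⟨z, ⟨hz, -⟩, rfl⟩
          exact hz
      rw [h1]
      exact ((TopologicalSpace.noetherianSpace_set_iff _).1 hON _
        Set.inter_subset_right).image snd.left.continuous
  choose! N hNo hwN hNW hNN using key
  obtain ⟨t, htW, htf, htc⟩ := hW.elim_finite_subcover_image (b := (W : Set ↥U.left)) (c := N)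
    (fun w hw => hNo w hw) (fun w hw => Set.mem_biUnion hw (hwN w hw))
  -- `W` is a Noetherian space
  have hWN : TopologicalSpace.NoetherianSpace (W : Set ↥U.left) := by
    rw [TopologicalSpace.noetherianSpace_set_iff]
    intro s hs
    have h1 : s = ⋃ i ∈ htf.toFinset, s ∩ N i := by
      rw [← Set.inter_iUnion₂]
      refine (Set.inter_eq_left.2 (hs.trans ?_)).symm
      intro x hx
      obtain ⟨i, hi, hxi⟩ := Set.mem_iUnion₂.1 (htc hx)
      exact Set.mem_iUnion₂.2 ⟨i, by simpa using hi, hxi⟩
    rw [h1]
    refine Finset.isCompact_biUnion _ fun i hi => ?_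
    have hiW : i ∈ (W : Set ↥U.left) := htW ?_
    · exact (TopologicalSpace.noetherianSpace_set_iff _).1 (hNN i hiW) _ Set.inter_subset_right
    · simpa using hi
  haveI := hWN
  exact TopologicalSpace.NoetherianSpace.finite_irreducibleComponents

end Groth.Agent.S10326
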