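import Groth.Statements.S10328
import Groth.Agent.S9354
import Groth.Agent.Lib.H86FibDimChart

set_option linter.style.haveILetI false

set_option autoImplicit false
universe u
open CategoryTheory CategoryTheory.Limits AlgebraicGeometry
open AlgSp

namespace Groth.Agent.S10328

/-- The relative dimension of a composite at a point is at most the sum of the relative dimensions, with
equality when the first morphism is flat at the point. (The published part (2) allows more generally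
flatness of a fibre of X -> Y over a field point of Z; only the case f flat at x is stated.) -/
theorem result {S : Scheme.{u}} {X Y Z : AlgSp.Space S} (f : X ⟶ Y) (g : Y ⟶ Z)
    (hf : AlgSp.LocP @LocallyOfFiniteType f.hom) (hg : AlgSp.LocP @LocallyOfFiniteType g.hom)
    (x : AlgSp.Points X.obj) (a b : WithBot ℕ∞)
    (ha : AlgSp.HasAtMor (fun _ _ h u => FlatMor.fibreDimAt h u = a) f.hom x)
    (hb : AlgSp.HasAtMor (fun _ _ h u => FlatMor.fibreDimAt h u = b) g.hom (AlgSp.Points.map f.hom x)) :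
    AlgSp.HasAtMor (fun _ _ h u => FlatMor.fibreDimAt h u ≤ a + b) (f ≫ g).hom x ∧
    (AlgSp.IsFlatAtMor f.hom x → AlgSp.HasAtMor (fun _ _ h u => FlatMor.fibreDimAt h u = a + b) (f ≫ g).hom x) := by
  obtain ⟨U₁, V₁, a₁, b₁, h₁, u₁, ha₁, hb₁, hc₁, hu₁, hd₁⟩ := ha
  obtain ⟨V₂, W₂, b₂, c₂, h₂, v₂, hb₂, hce₂, hc₂, hv₂, hd₂⟩ := hb
  obtain ⟨P, s, t, p, hs, hsa, hcomm, hsp, htp, hpt⟩ :=
    Groth.Agent.Lib.AlgSpTrdeg91.exists_chart_over f.hom a₁ ha₁ b₂ hb₂ u₁ v₂ (by rw [hv₂, hu₁])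
  haveI : LocallyOfFiniteType t.left := hf _ b₂ t hsa hb₂ hcomm
  haveI : LocallyOfFiniteType h₂.left := hg b₂ c₂ h₂ hb₂ hce₂ hc₂
  have hcomp : ((AlgSp.yon S).map s ≫ a₁) ≫ (f ≫ g).hom = (AlgSp.yon S).map (t ≫ h₂) ≫ c₂ := by
    change ((AlgSp.yon S).map s ≫ a₁) ≫ (f.hom ≫ g.hom) = _
    rw [← Category.assoc, hcomm, Category.assoc, hc₂, Functor.map_comp, Category.assoc]
  have hpx : AlgSp.Points.ofPt ((AlgSp.yon S).map s ≫ a₁) p = x := by rw [hpt, hu₁]
  have e1 : FlatMor.fibreDimAt t.left p = a := by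
    rw [Groth.Agent.Lib.H86FibDimChart.fibreDimAt_chart_indep f.hom _ b₂ t a₁ b₁ h₁ hsa hb₂ ha₁ hb₁
      hcomm hc₁ p u₁ hpt]
    exact hd₁
  have e2 : FlatMor.fibreDimAt h₂.left (t.left p) = b := by rw [htp]; exact hd₂
  have key := Groth.Agent.S9354.result t.left h₂.left p
  rw [e1, e2] at key
  refine ⟨⟨P, W₂, _, c₂, t ≫ h₂, p, hsa, hce₂, hcomp, hpx, ?_⟩, fun hflat =>
    ⟨P, W₂, _, c₂, t ≫ h₂, p, hsa, hce₂, hcomp, hpx, ?_⟩⟩
  · change FlatMor.fibreDimAt (t.left ≫ h₂.left) p ≤ a + b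
    exact key.1
  · change FlatMor.fibreDimAt (t.left ≫ h₂.left) p = a + b
    exact key.2 (hflat _ b₂ t p hsa hb₂ hcomm hpx)

end Groth.Agent.S10328
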