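import Groth.Statements.S10329
-- import your own Groth.Agent.* helpers here
import Groth.Agent.Lib.AlgSpQFBC91

set_option autoImplicit false
universe u
open CategoryTheory CategoryTheory.Limits AlgebraicGeometry
open AlgSp

namespace Groth.Agent.S10329

/-- If the fibre of a morphism locally of finite type has dimension 0 at a point, then the morphism is
locally quasi-finite on some open subspace containing the image of that point. -/
theorem result {S : Scheme.{u}} {X Y F : AlgSp.Space S} (f : X ⟶ Y)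
    (hf : AlgSp.LocP @LocallyOfFiniteType f.hom) (k : Type u) [Field k] (str : Spec (.of k) ⟶ S)
    (y : (AlgSp.yon S).obj (Over.mk str) ⟶ Y.obj) (p : F ⟶ X) (q : F.obj ⟶ (AlgSp.yon S).obj (Over.mk str))
    (sq : IsPullback p.hom q f.hom y) (z : AlgSp.Points F.obj)
    (hz : AlgSp.HasAt (fun U u => FlatMor.localDim ↥U u = 0) F.obj z) :
    ∃ (X' : AlgSp.Space S) (j : X' ⟶ X), AlgSp.RepWith @IsOpenImmersion j.hom ∧
      AlgSp.Points.map p.hom z ∈ Set.range (AlgSp.Points.map j.hom) ∧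
      AlgSp.LocP (@LocallyQuasiFinite ⊓ @LocallyOfFiniteType) (j ≫ f).hom := by
  classical
  have hΩ := Groth.Agent.Lib.AlgSpQFBC91.isOpen_qfLocus f.hom hf
  have hr : Set.range (AlgSp.Points.map (Groth.Agent.Lib.H86AlgSpOpen.openSubι X.obj
      (Groth.Agent.Lib.AlgSpQFBC91.qfLocus f.hom))) = Groth.Agent.Lib.AlgSpQFBC91.qfLocus f.hom :=
    Groth.Agent.Lib.H86AlgSpOpen.range_map_openSubι
  have hYk : AlgSp.IsAlgSpace ((AlgSp.yon S).obj (Over.mk str)) := AlgSp.IsAlgSpace.yon_obj _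
  have hq : AlgSp.LocP @LocallyOfFiniteType q :=
    Groth.Agent.Lib.AlgSpLocP.locP_of_isPullback Groth.Agent.Lib.AlgSpLocP.etLocalClass_lft
      X.property Y.property hYk sq hf
  -- `z` lies in the quasi-finite locus of `q`
  have hzq : z ∈ Groth.Agent.Lib.AlgSpQFBC91.qfLocus q := by
    obtain ⟨U, a, u, ha, rfl, hdim⟩ := hz
    obtain ⟨h, hh⟩ := (AlgSp.yon S).map_surjective (a ≫ q)
    have hc : AlgSp.RepWith @Etale (𝟙 ((AlgSp.yon S).obj (Over.mk str))) := AlgSp.repWith_id _ _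
    have hcomm : a ≫ q = (AlgSp.yon S).map h ≫ 𝟙 _ := by rw [Category.comp_id, hh]
    have hl : LocallyOfFiniteType h.left := hq a (𝟙 _) h ha hc hcomm
    have hNk : IsLocallyNoetherian (Over.mk str).left :=
      (inferInstance : IsLocallyNoetherian (Spec (.of k)))
    have hN : IsLocallyNoetherian U.left := LocallyOfFiniteType.isLocallyNoetherian h.left
    rw [Groth.Agent.Lib.AlgSpQFBC91.mem_qfLocus_iff q hq a (𝟙 _) h ha hc hcomm u,
      Groth.Agent.Lib.QFAt91.quasiFiniteAt_iff_isolated]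
    refine ⟨{u}, (Groth.Agent.Lib.SchFieldIso91.isOpen_singleton_iff_localDim_eq_zero _ u).2 hdim,
      rfl, ?_⟩
    intro x' hx' _
    exact hx'
  have hpz : AlgSp.Points.map p.hom z ∈ Groth.Agent.Lib.AlgSpQFBC91.qfLocus f.hom :=
    (Groth.Agent.Lib.AlgSpQFBC91.mem_qfLocus_baseChange X.property Y.property F.property hYk sq hf
      z).2 hzq
  refine ⟨⟨Groth.Agent.Lib.H86AlgSpOpen.openSub X.obj (Groth.Agent.Lib.AlgSpQFBC91.qfLocus f.hom),
    Groth.Agent.Lib.H86AlgSpOpen.isAlgSpace_openSub X.property hΩ⟩,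
    ObjectProperty.homMk (Groth.Agent.Lib.H86AlgSpOpen.openSubι X.obj
      (Groth.Agent.Lib.AlgSpQFBC91.qfLocus f.hom)),
    Groth.Agent.Lib.H86AlgSpOpen.openSubι_repWith hΩ, ?_, ?_⟩
  · show AlgSp.Points.map p.hom z ∈ Set.range (AlgSp.Points.map
      (Groth.Agent.Lib.H86AlgSpOpen.openSubι X.obj (Groth.Agent.Lib.AlgSpQFBC91.qfLocus f.hom)))
    rw [hr]; exact hpz
  · exact Groth.Agent.Lib.AlgSpQFBC91.locP_lqf_openSubι_comp X.property Y.property f.hom hf hΩ
      (le_refl _)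

end Groth.Agent.S10329
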