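import Groth.Statements.S10333
import Groth.Agent.Lib.AlgSpRedLift
import Groth.Agent.S10192

set_option autoImplicit false
universe u
open CategoryTheory CategoryTheory.Limits AlgebraicGeometry
open AlgSp

namespace Groth.Agent.S10333

/-- Let f : Y -> X be a morphism of algebraic spaces over S that is quasi-compact and quasi-separated,
and X' -> X the normalization of X in Y (an integral morphism through which f factors, initial among
such factorizations). If Y is reduced then X' is reduced. -/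
theorem result {S : Scheme.{u}} {Y X X' : AlgSp.Space S} (f : Y ⟶ X)
    (hqc : AlgSp.IsQuasiCompactMor f.hom) (hqs : AlgSp.IsQuasiSeparatedMor f.hom) (ν : X' ⟶ X) (f' : Y ⟶ X')
    (hn : AlgSp.IsRelNormalization f.hom ν.hom f'.hom) (hY : AlgSp.IsReducedSp Y.obj) :
    AlgSp.IsReducedSp X'.obj := by
  obtain ⟨hcomp, hνint, huniv⟩ := hn
  obtain ⟨Z, i, hici, hirange, hZred⟩ := Groth.Agent.S10192.result X' Set.univ isClosed_univ
  have hisurj : Function.Surjective (AlgSp.Points.map i.hom) := by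
    rw [← Set.range_eq_univ]; exact hirange
  obtain ⟨g, hg⟩ := Groth.Agent.Lib.AlgSpRedLift.exists_lift_of_reduced hY f'.hom i.hom hici hisurj
  have hπint : AlgSp.IsIntegralMor (i.hom ≫ ν.hom) :=
    Groth.Agent.Lib.AlgSpRedLift.isIntegralMor_comp_closedImmersion _ hici _ hνint
  obtain ⟨h, ⟨hh1, hh2⟩, -⟩ := huniv Z.property (i.hom ≫ ν.hom) g hπint
    (by rw [← Category.assoc, hg, hcomp])
  obtain ⟨h₀, -, huniq⟩ := huniv X'.property ν.hom f'.hom hνint hcomp
  have e1 : h ≫ i.hom = h₀ :=
    huniq _ ⟨by rw [← Category.assoc, hh1, hg], by rw [Category.assoc, hh2]⟩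
  have e2 : 𝟙 _ = h₀ := huniq _ ⟨Category.comp_id _, Category.id_comp _⟩
  have hsplit : h ≫ i.hom = 𝟙 _ := e1.trans e2.symm
  have hmono : Mono i.hom := Groth.Agent.Lib.AlgSpBasic.mono_of_repWith
    (fun _ _ g (hg : IsClosedImmersion g) => (inferInstance : Mono g)) hici
  have hse : IsSplitEpi i.hom := ⟨⟨⟨h, hsplit⟩⟩⟩
  have hiso : IsIso i.hom := isIso_of_mono_of_isSplitEpi i.hom
  obtain ⟨U, p, hpe, hps, hU⟩ := hZred
  exact ⟨U, p ≫ i.hom, (MorphismProperty.cancel_right_of_respectsIso _ p i.hom).2 hpe,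
    (MorphismProperty.cancel_right_of_respectsIso _ p i.hom).2 hps, hU⟩

end Groth.Agent.S10333
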