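import Groth.Statements.S10335
import Groth.Agent.Lib.H79FibStalkBC
import Groth.Agent.Lib.H86FibDimBC
import Groth.Agent.Lib.AlgSpLocP

set_option autoImplicit false
universe u
open CategoryTheory CategoryTheory.Limits AlgebraicGeometry
open AlgSp

namespace Groth.Agent.S10335

open Groth.Agent.Lib.AlgSpPoints Groth.Agent.Lib.H86FibDimChart in
/-- the dimension of the local ring of the fibre at a point is independent of the chart diagram
(for `f` locally of finite type). -/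
theorem stalkDim_chart_indep {S : Scheme.{u}} {X Y : Sp S} (f : X ⟶ Y)
    (hf : AlgSp.LocP @LocallyOfFiniteType f)
    {U V U' V' : Over S} (a : (yon S).obj U ⟶ X) (b : (yon S).obj V ⟶ Y) (h : U ⟶ V)
    (a' : (yon S).obj U' ⟶ X) (b' : (yon S).obj V' ⟶ Y) (h' : U' ⟶ V')
    (ha : RepWith @Etale a) (hb : RepWith @Etale b) (ha' : RepWith @Etale a')
    (hb' : RepWith @Etale b') (hc : a ≫ f = (yon S).map h ≫ b) (hc' : a' ≫ f = (yon S).map h' ≫ b')
    (u : ↥U.left) (u' : ↥U'.left) (hu : Points.ofPt a u = Points.ofPt a' u') :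
    ringKrullDim ↥((h.left.fiber (h.left u)).presheaf.stalk (h.left.asFiber u)) =
      ringKrullDim ↥((h'.left.fiber (h'.left u')).presheaf.stalk (h'.left.asFiber u')) := by
  haveI : LocallyOfFiniteType h.left := hf a b h ha hb hc
  haveI : LocallyOfFiniteType h'.left := hf a' b' h' ha' hb' hc'
  have e1 := fibreDimAt_eq_add_resTrdeg h.left u
  have e2 := fibreDimAt_eq_add_resTrdeg h'.left u'
  have e3 := fibreDimAt_chart_indep f a b h a' b' h' ha hb ha' hb' hc hc' u u' hu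
  have e4 := Groth.Agent.Lib.AlgSpTrdeg91.resTrdeg_chart_indep f a b h a' b' h' ha hb ha' hb' hc hc'
    u u' hu
  obtain ⟨n, hn⟩ := Cardinal.lt_aleph0.1 (resTrdeg_lt_aleph0 h.left u)
  rw [e1, e2, ← e4, hn] at e3
  simp only [Cardinal.toENat_nat] at e3
  generalize ringKrullDim ↥((h.left.fiber (h.left u)).presheaf.stalk (h.left.asFiber u)) = A at e3 ⊢
  generalize ringKrullDim ↥((h'.left.fiber (h'.left u')).presheaf.stalk (h'.left.asFiber u')) = B
    at e3 ⊢
  induction A with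
  | bot =>
    induction B with
    | bot => rfl
    | coe B =>
      rw [WithBot.bot_add] at e3
      exact absurd e3.symm (by rw [← WithBot.coe_add]; exact WithBot.coe_ne_bot)
  | coe A =>
    induction B with
    | bot => simp at e3
    | coe B =>
      have : A + (n : ℕ∞) = B + (n : ℕ∞) := by exact_mod_cast e3
      rw [(ENat.add_left_injective_of_ne_top (ENat.natCast_ne_top n)) this]

/-- In a base change square of algebraic spaces with f : X -> Y locally of finite type and f' : X' -> Y'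
its base change along g : Y' -> Y, take a point x' of X' over x. The fibre of f' has a local ring at
x' whose dimension exceeds the corresponding dimension for the fibre of f at x by exactly the
transcendence degree of x over f(x) minus that of x' over f'(x'), and this excess is never negative;
and for x in X and y' in Y' over the same point of Y some x' over both has excess zero. All four
quantities are read on some chart diagram through the point. -/
theorem result {S : Scheme.{u}} {X Y Y' X' : AlgSp.Space S} (f : X ⟶ Y) (g : Y' ⟶ Y)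
    (g' : X' ⟶ X) (f' : X' ⟶ Y') (sq : IsPullback g'.hom f'.hom f.hom g.hom)
    (hf : AlgSp.LocP @LocallyOfFiniteType f.hom) :
    (∀ (x' : AlgSp.Points X'.obj) (e e' : WithBot ℕ∞) (r r' : Cardinal.{u}),
      AlgSp.HasAtMor (fun _ _ h u => ringKrullDim ↥((h.fiber (h u)).presheaf.stalk (h.asFiber u)) = e) f.hom
          (AlgSp.Points.map g'.hom x') →
      AlgSp.HasAtMor (fun _ _ h u => Dual3.resTrdeg h u = r) f.hom (AlgSp.Points.map g'.hom x') →
      AlgSp.HasAtMor (fun _ _ h u => ringKrullDim ↥((h.fiber (h u)).presheaf.stalk (h.asFiber u)) = e') f'.hom x' →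
      AlgSp.HasAtMor (fun _ _ h u => Dual3.resTrdeg h u = r') f'.hom x' →
        e' + ((Cardinal.toENat r' : ℕ∞) : WithBot ℕ∞) = e + ((Cardinal.toENat r : ℕ∞) : WithBot ℕ∞) ∧ e ≤ e') ∧
    (∀ (x : AlgSp.Points X.obj) (y' : AlgSp.Points Y'.obj) (e : WithBot ℕ∞),
      AlgSp.Points.map f.hom x = AlgSp.Points.map g.hom y' →
      AlgSp.HasAtMor (fun _ _ h u => ringKrullDim ↥((h.fiber (h u)).presheaf.stalk (h.asFiber u)) = e) f.hom x →
        ∃ x' : AlgSp.Points X'.obj, AlgSp.Points.map g'.hom x' = x ∧ AlgSp.Points.map f'.hom x' = y' ∧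
          AlgSp.HasAtMor (fun _ _ h u => ringKrullDim ↥((h.fiber (h u)).presheaf.stalk (h.asFiber u)) = e)
            f'.hom x') := by
  have hX := X.property
  have hY := Y.property
  have hX' := X'.property
  have hY' := Y'.property
  have hf' : AlgSp.LocP @LocallyOfFiniteType f'.hom :=
    Groth.Agent.Lib.AlgSpLocP.locP_of_isPullback Groth.Agent.Lib.AlgSpLocP.etLocalClass_lft hX hY hY'
      sq hf
  refine ⟨?_, ?_⟩
  · rintro x' e e' r r' ⟨U1, V1, a1, b1, h1, u1, ha1, hb1, hc1, hu1, rfl⟩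
      ⟨U2, V2, a2, b2, h2, u2, ha2, hb2, hc2, hu2, rfl⟩
      ⟨U3, V3, a3, b3, h3, u3, ha3, hb3, hc3, hu3, rfl⟩
      ⟨U4, V4, a4, b4, h4, u4, ha4, hb4, hc4, hu4, rfl⟩
    obtain ⟨U₀, V₀, U₀'', V₀'', a₀, c₀, a₀'', c₀'', h₀, h₀'', gU, gV, u₀'', ha₀, hc₀, ha₀'', hc₀'', hcf,
      hcf'', hab, -, sqA, hu₀⟩ :=
      Groth.Agent.Lib.AlgSpQFBC91.exists_baseChange_chart hX hY hX' hY' sq x'
    haveI : LocallyOfFiniteType h₀.left := hf a₀ c₀ h₀ ha₀ hc₀ hcf
    haveI : LocallyOfFiniteType h₀''.left := hf' a₀'' c₀'' h₀'' ha₀'' hc₀'' hcf''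
    have hpt₀ : AlgSp.Points.map g'.hom x' = AlgSp.Points.ofPt a₀ (gU.left u₀'') := by
      rw [← hu₀, AlgSp.Points.map_ofPt, hab, Groth.Agent.Lib.AlgSpPoints.ofPt_yon_map_comp]
    rw [stalkDim_chart_indep f.hom hf a1 b1 h1 a₀ c₀ h₀ ha1 hb1 ha₀ hc₀ hc1 hcf u1 (gU.left u₀'')
        (hu1.trans hpt₀),
      Groth.Agent.Lib.AlgSpTrdeg91.resTrdeg_chart_indep f.hom a2 b2 h2 a₀ c₀ h₀ ha2 hb2 ha₀ hc₀ hc2 hcf
        u2 (gU.left u₀'') (hu2.trans hpt₀),
      stalkDim_chart_indep f'.hom hf' a3 b3 h3 a₀'' c₀'' h₀'' ha3 hb3 ha₀'' hc₀'' hc3 hcf'' u3 u₀''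
        (hu3.trans hu₀.symm),
      Groth.Agent.Lib.AlgSpTrdeg91.resTrdeg_chart_indep f'.hom a4 b4 h4 a₀'' c₀'' h₀'' ha4 hb4 ha₀''
        hc₀'' hc4 hcf'' u4 u₀'' (hu4.trans hu₀.symm)]
    refine ⟨?_, ?_⟩
    · rw [← Groth.Agent.Lib.H86FibDimChart.fibreDimAt_eq_add_resTrdeg h₀''.left u₀'',
        ← Groth.Agent.Lib.H86FibDimChart.fibreDimAt_eq_add_resTrdeg h₀.left (gU.left u₀'')]
      exact Groth.Agent.Lib.H30FibBC.fibreDimAt_eq_of_isPullback h₀.left gV.left gU.left h₀''.left sqA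
        u₀''
    · exact Groth.Agent.Lib.H79FibStalkBC.stalk_fiber_le_of_isPullback h₀.left gV.left gU.left
        h₀''.left sqA u₀''
  · rintro x y' e hxy ⟨U1, V1, a1, b1, h1, u1, ha1, hb1, hc1, hu1, rfl⟩
    obtain ⟨x'', hx''1, hx''2⟩ :=
      Groth.Agent.Lib.H86AlgSpPoints.exists_of_isPullback sq x y' hxy
    obtain ⟨U₀, V₀, U₀'', V₀'', a₀, c₀, a₀'', c₀'', h₀, h₀'', gU, gV, u₀'', ha₀, hc₀, ha₀'', hc₀'', hcf,
      hcf'', hab, -, sqA, hu₀⟩ :=
      Groth.Agent.Lib.AlgSpQFBC91.exists_baseChange_chart hX hY hX' hY' sq x''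
    haveI : LocallyOfFiniteType h₀.left := hf a₀ c₀ h₀ ha₀ hc₀ hcf
    have hpt₀ : AlgSp.Points.map g'.hom x'' = AlgSp.Points.ofPt a₀ (gU.left u₀'') := by
      rw [← hu₀, AlgSp.Points.map_ofPt, hab, Groth.Agent.Lib.AlgSpPoints.ofPt_yon_map_comp]
    have hw : h₀.left (gU.left u₀'') = gV.left (h₀''.left u₀'') := by
      have := congrArg (fun φ : U₀''.left ⟶ V₀.left => φ u₀'') sqA.w
      exact this
    obtain ⟨u3, hu3a, hu3b, hu3c⟩ :=
      Groth.Agent.Lib.H79FibStalkBC.exists_stalk_fiber_eq_of_isPullback h₀.left gV.left gU.left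
        h₀''.left sqA (gU.left u₀'') (h₀''.left u₀'') hw
    refine ⟨AlgSp.Points.ofPt a₀'' u3, ?_, ?_, ?_⟩
    · rw [AlgSp.Points.map_ofPt, hab, Groth.Agent.Lib.AlgSpPoints.ofPt_yon_map_comp, hu3a, ← hpt₀,
        hx''1]
    · rw [AlgSp.Points.map_ofPt, hcf'', Groth.Agent.Lib.AlgSpPoints.ofPt_yon_map_comp, hu3b,
        ← Groth.Agent.Lib.AlgSpPoints.ofPt_yon_map_comp, ← hcf'', ← AlgSp.Points.map_ofPt, hu₀, hx''2]
    · refine ⟨U₀'', V₀'', a₀'', c₀'', h₀'', u3, ha₀'', hc₀'', hcf'', rfl, hu3c.trans ?_⟩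
      exact (stalkDim_chart_indep f.hom hf a1 b1 h1 a₀ c₀ h₀ ha1 hb1 ha₀ hc₀ hc1 hcf u1
        (gU.left u₀'') (hu1.trans (hx''1.symm.trans hpt₀))).symm

end Groth.Agent.S10335
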