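import Groth.Statements.S10337
import Groth.Agent.Lib.DenseOpenSch46b
import Groth.Agent.Lib.AlgSpDecentPt91c

set_option autoImplicit false
universe u
open CategoryTheory CategoryTheory.Limits AlgebraicGeometry Topology TopologicalSpace
open AlgSp

namespace Groth.Agent.S10337

/-- For a scheme S, a decent algebraic space X over S contains a dense open subspace that is a scheme:
there is an open subspace X' ⟶ X whose underlying sheaf is representable by a scheme and whose set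
of points is dense in |X|. -/
theorem result {S : Scheme.{u}} (X : AlgSp.Space S)
    (hX : AlgSp.IsDecent X.obj) :
    ∃ (X' : AlgSp.Space S) (j : X' ⟶ X), AlgSp.RepWith @IsOpenImmersion j.hom ∧ X'.obj.obj.IsRepresentable ∧
      Dense (Set.range (AlgSp.Points.map j.hom)) := by

  obtain ⟨U₀, a₀, ha₀e, ha₀s⟩ := X.property.atlas
  have sqR := ha₀e.rep.isPullback' a₀
  refine Groth.Agent.Lib.DenseOpenSch46.exists_dense_open_subscheme X a₀
    (Groth.Agent.Lib.AlgSpQC.surjective_ofPt_of_repWith_surjective ha₀s) ?_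
  intro V₀ v₀ hv₀
  obtain ⟨V, hVaff, hv₀V, hVV₀⟩ : ∃ V : U₀.left.Opens, IsAffineOpen V ∧ v₀ ∈ V ∧ V ≤ V₀ := by
    obtain ⟨V, h1, h2, h3⟩ :=
      (TopologicalSpace.Opens.isBasis_iff_nbhd.1 U₀.left.isBasis_affineOpens) hv₀
    exact ⟨V, h1, h2, h3⟩
  have hR₁ := Groth.Agent.Lib.RelRestrict46.isPullback_restrict sqR V
  have ha₁ : RepWith @Etale
      ((yon S).map (Groth.Agent.Lib.AlgSpDecentSpec.restrictOverι U₀ V) ≫ a₀) :=
    Groth.Agent.Lib.AlgSpDecentSpec.repWith_etale_restrict a₀ ha₀e V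
  have hVaff' : IsAffine (Groth.Agent.Lib.AlgSpDecentSpec.restrictOver U₀ V).left := hVaff
  have hfin : ∀ v : ↥(Groth.Agent.Lib.AlgSpDecentSpec.restrictOver U₀ V).left,
      ((Groth.Agent.Lib.RelRestrict46.sW (ha₀e.rep.snd a₀) (ha₀e.rep.fst' a₀) V).left ⁻¹' {v}).Finite := by
    intro v
    obtain ⟨p, hp, hm, hq⟩ :=
      hX (Points.ofPt ((yon S).map (Groth.Agent.Lib.AlgSpDecentSpec.restrictOverι U₀ V) ≫ a₀) v)
    have hc : CompactSpace ↥(Groth.Agent.Lib.AlgSpDecentSpec.restrictOver U₀ V).left := inferInstance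
    have h2 := (Groth.Agent.Lib.AlgSpDecentPt91.finite_fibres_of_mono_point X.property p hq _ ha₁
      _ _ hR₁).2
    refine h2.subset ?_
    intro r hr
    have hr' : (Groth.Agent.Lib.RelRestrict46.sW (ha₀e.rep.snd a₀) (ha₀e.rep.fst' a₀) V).left r = v := hr
    simp only [Set.mem_preimage, Set.mem_singleton_iff]
    rw [hR₁.w, Groth.Agent.Lib.AlgSpPoints.ofPt_yon_map_comp, hr', hp]
  obtain ⟨u, M, f, hM, hf, hmem⟩ :=
    Groth.Agent.Lib.DenseOpenSch46.exists_affine_open_of_finite_fibres X _ ha₁ hR₁ hfin ⟨v₀, hv₀V⟩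
  refine ⟨V.ι u, M, f, hVV₀ u.2, hM, hf, ?_⟩
  rw [Groth.Agent.Lib.AlgSpPoints.ofPt_yon_map_comp] at hmem
  exact hmem

end Groth.Agent.S10337
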