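import Groth.Statements.S10348
-- import your own Groth.Agent.* helpers here
import Groth.Agent.Lib.AlgSpDim91

set_option autoImplicit false
universe u
open CategoryTheory CategoryTheory.Limits AlgebraicGeometry Topology TopologicalSpace
open AlgSp

namespace Groth.Agent.S10348

/-- Let S be a scheme, X and Y algebraic spaces over S, and f : X ⟶ Y a morphism which is locally
quasi-finite; let x ∈ |X| have image y ∈ |Y|. Then the local ring of X at x has dimension at most
that of the local ring of Y at the point y (both dimensions read on etale charts through the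
points). -/
theorem result {S : Scheme.{u}} {X Y : AlgSp.Space S} (f : X ⟶ Y)
    (hf : AlgSp.LocP (@LocallyQuasiFinite ⊓ @LocallyOfFiniteType) f.hom) (x : AlgSp.Points X.obj)
    (d e : WithBot ℕ∞)
    (hx : AlgSp.HasAt (fun U u => ringKrullDim ↥(U.presheaf.stalk u) = d) X.obj x)
    (hy : AlgSp.HasAt (fun V v => ringKrullDim ↥(V.presheaf.stalk v) = e) Y.obj (AlgSp.Points.map f.hom x)) :
    d ≤ e := by
  obtain ⟨U, a, u, ha, hux, hd⟩ := hx
  obtain ⟨V, b, v, hb, hvy, he⟩ := hy
  obtain ⟨W, s, t, w, hse, hae, hw, hsu, htv⟩ :=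
    Groth.Agent.Lib.AlgSpDim91.exists_chart_through_points f.hom a ha b hb u v (by rw [hvy, hux])
  have hlqf : LocallyQuasiFinite t.left := (hf ((AlgSp.yon S).map s ≫ a) b t hae hb hw).1
  have : Etale s.left := hse
  have h1 := Groth.Agent.Lib.AlgSpDim91.ringKrullDim_stalk_eq_of_etale s.left w
  have h2 := Groth.Agent.Lib.AlgSpDim91.ringKrullDim_stalk_le_of_locallyQuasiFinite t.left w
  rw [hsu] at h1
  rw [htv] at h2
  rw [← hd, ← he, h1]
  exact h2

end Groth.Agent.S10348
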