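import Groth.Statements.S10353
import Groth.Agent.Lib.DenseOpenSch46

set_option autoImplicit false
universe u
open CategoryTheory CategoryTheory.Limits AlgebraicGeometry Topology TopologicalSpace
open AlgSp

namespace Groth.Agent.S10353

/-- Let X be an algebraic space over a scheme S and suppose there is a finite, etale, surjective map h_U
⟶ X from a scheme U. Then some dense open subspace of X is a scheme: an open subspace X' ⟶ X with
representable underlying sheaf and |X'| dense in |X|. -/
theorem result {S : Scheme.{u}} (X : AlgSp.Space S)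
    {U : Over S} (a : (AlgSp.yon S).obj U ⟶ X.obj) (hf : AlgSp.RepWith @IsFinite a) (he : AlgSp.RepWith @Etale a)
    (hs : AlgSp.RepWith @Surjective a) :
    ∃ (X' : AlgSp.Space S) (j : X' ⟶ X), AlgSp.RepWith @IsOpenImmersion j.hom ∧ X'.obj.obj.IsRepresentable ∧
      Dense (Set.range (AlgSp.Points.map j.hom)) := by

  have sqR := he.rep.isPullback' a
  have hfs : IsFinite (he.rep.snd a).left := hf.property _ _ _ sqR
  refine Groth.Agent.Lib.DenseOpenSch46.exists_dense_open_subscheme X a
    (Groth.Agent.Lib.AlgSpQC.surjective_ofPt_of_repWith_surjective hs) ?_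
  intro V₀ v₀ hv₀
  exact Groth.Agent.Lib.DenseOpenSch46.exists_affine_open_in X a he sqR V₀ v₀ hv₀

end Groth.Agent.S10353
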