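import Groth.Statements.S10355
import Groth.Agent.Lib.FinEtQuot46
import Groth.Agent.Lib.FinEtQuot46b
import Groth.Agent.Lib.AlgSpFibreEmb46
import Groth.Agent.Lib.AlgSpDecentPt91c
import Groth.Agent.Lib.AlgSpPts66

set_option autoImplicit false
universe u
open CategoryTheory CategoryTheory.Limits AlgebraicGeometry Topology TopologicalSpace
open AlgSp

namespace Groth.Agent.S10355

/-- A decent algebraic space X over a scheme S whose space of points is a single point is a scheme (the
underlying sheaf of X is representable). -/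
theorem result {S : Scheme.{u}} (X : AlgSp.Space S)
    (hX : AlgSp.IsDecent X.obj) [Nonempty (AlgSp.Points X.obj)] [Subsingleton (AlgSp.Points X.obj)] :
    X.obj.obj.IsRepresentable := by
  obtain ⟨x⟩ := ‹Nonempty (AlgSp.Points X.obj)›
  obtain ⟨p, hp, hm, hq⟩ := hX x
  obtain ⟨V, b, v, hbe, hVaff, hv, huniq⟩ :=
    Groth.Agent.Lib.AlgSpFibreEmb46.exists_affine_chart_unique X p hq
  have hsubV : Subsingleton ↥V.left :=
    ⟨fun v1 v2 => (huniq v1 (Subsingleton.elim _ _)).trans (huniq v2 (Subsingleton.elim _ _)).symm⟩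
  have hsurj : Function.Surjective (AlgSp.Points.ofPt b) := fun y => ⟨v, Subsingleton.elim _ _⟩
  have hbs : AlgSp.RepWith @Surjective b :=
    Groth.Agent.Lib.AlgSpPts66.repWith_surjective_of_surjective_ofPt b hbe.1 hsurj
  have sqR := hbe.rep.isPullback' b
  have hcomp : CompactSpace ↥V.left := inferInstance
  have hfinR : Finite ↥(hbe.rep.pullback b).left := by
    have h2 := (Groth.Agent.Lib.AlgSpDecentPt91.finite_fibres_of_mono_point X.property p hq b hbe
      (hbe.rep.snd b) (hbe.rep.fst' b) sqR).2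
    have h3 : AlgSp.Points.ofPt ((AlgSp.yon S).map (hbe.rep.fst' b) ≫ b) ⁻¹' {AlgSp.Points.mk p} =
        Set.univ := Set.eq_univ_of_forall fun r => Subsingleton.elim _ _
    rw [h3] at h2
    exact Set.finite_univ_iff.mp h2
  have hse : Etale (hbe.rep.snd b).left := hbe.property _ _ _ sqR
  have hlqf : LocallyQuasiFinite (hbe.rep.snd b).left :=
    Groth.Agent.Lib.AlgSpBasic.locallyQuasiFinite_of_etale _
  have hne : Nonempty ↥(hbe.rep.pullback b).left := by
    obtain ⟨e, -, -⟩ := Groth.Agent.Lib.FinEtQuot46.exists_refl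
      (Groth.Agent.Lib.FinEtQuot46.isEqvRel_of_isPullback sqR)
    exact ⟨e v⟩
  have hfin : IsFinite (hbe.rep.snd b).left :=
    Groth.Agent.Lib.FinEtQuot46b.isFinite_of_finite_of_subsingleton _
  obtain ⟨M, e, q, -⟩ := Groth.Agent.Lib.FinEtQuot46.exists_iso_of_chart b hbe hbs sqR
  exact ⟨M, ⟨AlgSp.representableByOfIso e⟩⟩

end Groth.Agent.S10355
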