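import Groth.Statements.S10357
import Groth.Agent.Lib.AlgSpDecentFibre3
import Groth.Agent.Lib.H80DecentPt
import Groth.Agent.Lib.ClosedPtIntegral
open Groth.Agent.Lib.AlgSpBasic Groth.Agent.Lib.AlgSpPoints Groth.Agent.Lib.H80DecentPt
  Groth.Agent.Lib.AlgSpQC Groth.Agent.Lib.AlgSpDecentFibre Groth.Agent.Lib.ClosedPtIntegral

set_option autoImplicit false
universe u
open CategoryTheory CategoryTheory.Limits AlgebraicGeometry Topology TopologicalSpace
open AlgSp

namespace Groth.Agent.S10357

/-- Let S be a scheme, X a decent algebraic space over S, and Spec k ⟶ X a morphism over S from the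
spectrum of a field whose image in S is a closed point s with k algebraic over κ(s). Then the image
point of |X| is closed. Here Spec k ⟶ S is written as Spec k ⟶ Spec κ(s) ⟶ S for a ring map φ : κ(s)
→ k, integral since k is algebraic over κ(s). -/
theorem result {S : Scheme.{u}} (X : AlgSp.Space S)
    (hX : AlgSp.IsDecent X.obj) (s : ↥S) (hs : IsClosed ({s} : Set ↥S)) (k : Type u) [Field k]
    (φ : S.residueField s ⟶ CommRingCat.of k) (hφ : φ.hom.IsIntegral)
    (p : (AlgSp.yon S).obj (Over.mk (Spec.map φ ≫ S.fromSpecResidueField s)) ⟶ X.obj)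
    (t : ↥(Spec (CommRingCat.of k))) :
    IsClosed ({AlgSp.Points.ofPt p t} : Set (AlgSp.Points X.obj)) := by
  have hci : IsClosedImmersion (S.fromSpecResidueField s) :=
    isClosed_singleton_iff_isClosedImmersion.1 hs
  have hint1 : IsIntegralHom (Spec.map φ) := (IsIntegralHom.SpecMap_iff).2 hφ
  have hint : IsIntegralHom (Spec.map φ ≫ S.fromSpecResidueField s) := inferInstance
  rw [← closure_subset_iff_isClosed]
  intro x' hx'
  rw [← specializes_iff_mem_closure] at hx'
  obtain ⟨U, a, hae, has⟩ := X.property.atlas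
  obtain ⟨u', hu'⟩ := surjective_ofPt_of_repWith_surjective has x'
  obtain ⟨pt, hpt, -, hq⟩ := hX (Points.ofPt p t)
  obtain ⟨u, huu', hu⟩ := Groth.Agent.Lib.AlgSpDecentFibre.exists_generization_of_quasiCompact
    x' (Points.ofPt p t) hx' pt hpt hq a hae u' hu'
  have hrep : Representable p := X.property.representable_from_yon p
  have sq := hrep.isPullback' a
  have hfe : Etale (hrep.fst' a).left := hae.property _ _ _ sq.flip
  obtain ⟨w, hw1, -⟩ := exists_of_isPullback_yon sq (Points.ofScheme _ t) u
    (by rw [← Points.ofPt_eq_map_ofScheme, hu])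
  have hlqf : LocallyQuasiFinite (hrep.fst' a).left := locallyQuasiFinite_of_etale _
  have hdisc : DiscreteTopology ↥(hrep.pullback a).left := by
    have h1 := (hrep.fst' a).left.isDiscrete_preimage_singleton t
    have h2 : (hrep.fst' a).left ⁻¹' {t} = Set.univ := by
      ext z
      simp only [Set.mem_preimage, Set.mem_singleton_iff, Set.mem_univ, iff_true]
      exact Subsingleton.elim (α := ↥(Spec (CommRingCat.of k))) _ _
    rw [h2, isDiscrete_univ_iff] at h1
    exact h1
  let W₀ : (hrep.pullback a).left.Opens := ⟨{w}, isOpen_discrete _⟩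
  have hsub : Subsingleton ↥W₀.toScheme := by
    refine ⟨fun z z' => ?_⟩
    apply Subtype.ext
    exact z.2.trans z'.2.symm
  have hne : Nonempty ↥W₀.toScheme := ⟨⟨w, rfl⟩⟩
  have haff : IsAffine W₀.toScheme := isAffine_of_subsingleton _
  have h0 : IsAffine (Spec (CommRingCat.of k)) := inferInstance
  have hqc : QuasiCompact (W₀.ι ≫ (hrep.fst' a).left) :=
    @quasiCompact_of_finite_source _ _ _ (Finite.of_subsingleton)
  have hart : IsLocallyArtinian (Over.mk (Spec.map φ ≫ S.fromSpecResidueField s)).left := by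
    change IsLocallyArtinian (Spec (CommRingCat.of k))
    rw [Scheme.isLocallyArtinianScheme_Spec]
    change IsArtinianRing k
    infer_instance
  have hfin : IsFinite (W₀.ι ≫ (hrep.fst' a).left) := IsFinite.of_locallyQuasiFinite _
  have hcomp : (W₀.ι ≫ (hrep.snd a).left) ≫ U.hom =
      (W₀.ι ≫ (hrep.fst' a).left) ≫ (Spec.map φ ≫ S.fromSpecResidueField s) := by
    have e1 := Over.w (hrep.snd a)
    have e2 := Over.w (hrep.fst' a)
    rw [Category.assoc, Category.assoc, e1, ← e2]
    rfl
  have hint2 : IsIntegralHom ((W₀.ι ≫ (hrep.snd a).left) ≫ U.hom) := by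
    rw [hcomp]; infer_instance
  have hcl := isClosed_singleton_of_integral (W₀.ι ≫ (hrep.snd a).left) U.hom ⟨w, rfl⟩
  have hcw : (W₀.ι ≫ (hrep.snd a).left) ⟨w, rfl⟩ = u := hw1
  rw [hcw] at hcl
  have hmem : u' ∈ closure {u} := specializes_iff_mem_closure.1 huu'
  rw [hcl.closure_eq, Set.mem_singleton_iff] at hmem
  rw [Set.mem_singleton_iff, ← hu', hmem, hu]

end Groth.Agent.S10357
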