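import Groth.Statements.S10358
import Groth.Agent.S10357
import Groth.Agent.Lib.AlgSpDecentClosed
import Groth.Agent.Lib.H80DecentPt
import Groth.Agent.Lib.H69AlgSp
open Groth.Agent.Lib.H80DecentPt

set_option autoImplicit false
universe u
open CategoryTheory CategoryTheory.Limits AlgebraicGeometry Topology TopologicalSpace
open AlgSp

namespace Groth.Agent.S10358

/-- Let S be a scheme, X a decent algebraic space over S, and Spec k ⟶ X a morphism over S from the
spectrum of a field whose image in S is a closed point s with k finite over κ(s) (Spec k ⟶ S written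
through a ring map φ : κ(s) → k). Then Spec k ⟶ X is finite; if moreover φ is bijective (k = κ(s))
it is a closed immersion. -/
theorem result {S : Scheme.{u}} (X : AlgSp.Space S)
    (hX : AlgSp.IsDecent X.obj) (s : ↥S) (hs : IsClosed ({s} : Set ↥S)) (k : Type u) [Field k]
    (φ : S.residueField s ⟶ CommRingCat.of k) (hφ : φ.hom.Finite)
    (p : (AlgSp.yon S).obj (Over.mk (Spec.map φ ≫ S.fromSpecResidueField s)) ⟶ X.obj) :
    AlgSp.RepWith @IsFinite p ∧
      (Function.Bijective φ.hom → AlgSp.RepWith @IsClosedImmersion p) := by
  have hci : IsClosedImmersion (S.fromSpecResidueField s) :=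
    isClosed_singleton_iff_isClosedImmersion.1 hs
  have hcl := Groth.Agent.S10357.result X hX s hs k φ hφ.to_isIntegral p (IsLocalRing.closedPoint k)
  obtain ⟨P, hP, hPci⟩ := Groth.Agent.Lib.AlgSpDecentClosed.exists_closedImmersion_fieldPt_of_isClosed
    X.property hX _ hcl
  have hPm : Mono P.toHom := Groth.Agent.Lib.H69AlgSp.mono_of_repWith_isClosedImmersion hPci
  -- the field point defined by `p`
  obtain ⟨m₀, hm₀⟩ := exists_factor_of_mk_eq P
    (ofHom (Spec.map φ ≫ S.fromSpecResidueField s) p) hPm hPci.rep
    (by
      have h1 := Points.ofPt_toHom (ofHom (Spec.map φ ≫ S.fromSpecResidueField s) p)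
        (IsLocalRing.closedPoint k)
      rw [toHom_ofHom] at h1
      exact h1.symm.trans hP.symm)
  rw [toHom_ofHom] at hm₀
  let m : Over.mk (Spec.map φ ≫ S.fromSpecResidueField s) ⟶ P.pt := m₀
  have hm : p = (yon S).map m ≫ P.toHom := hm₀
  have hw : m.left ≫ P.str = Spec.map φ ≫ S.fromSpecResidueField s := Over.w m
  have hPaff : IsAffine P.pt.left := by change IsAffine (Spec _); infer_instance
  have hsep : IsSeparated P.str := inferInstance
  constructor
  · have h1 : IsFinite (Spec.map φ) := (IsFinite.SpecMap_iff _).2 hφ
    have h2 : IsFinite (m.left ≫ P.str) := by rw [hw]; infer_instance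
    have h3 : IsFinite m.left := IsFinite.of_comp m.left P.str
    rw [hm]
    exact MorphismProperty.comp_mem _ _ _ ((repWith_yon_map_iff _ _).2 h3)
      (Groth.Agent.Lib.H69AlgSp.repWith_mono (fun _ _ f hf => by have := hf; infer_instance) hPci)
  · intro hbij
    have h1 : IsIso φ := by
      have : IsIso ((forget CommRingCat).map φ) := (isIso_iff_bijective _).2 hbij
      exact isIso_of_reflects_iso φ (forget CommRingCat)
    have h2 : IsClosedImmersion (m.left ≫ P.str) := by rw [hw]; infer_instance
    have h3 : IsClosedImmersion m.left := IsClosedImmersion.of_comp m.left P.str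
    rw [hm]
    exact MorphismProperty.comp_mem _ _ _ ((repWith_yon_map_iff _ _).2 h3) hPci

end Groth.Agent.S10358
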