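import Groth.Statements.S10362
import Groth.Agent.Lib.H80DecentPt

set_option autoImplicit false
universe u
open CategoryTheory CategoryTheory.Limits AlgebraicGeometry Topology TopologicalSpace
open AlgSp

namespace Groth.Agent.S10362

/-- (4) ⇒ (6): let X be an algebraic space over a scheme S and x ∈ |X| a point represented by a
monomorphism Spec k ⟶ X which is representable quasi-compact. Then every morphism Spec k' ⟶ X in the
class of x, where k' is a field, is representable quasi-compact. -/
theorem result {S : Scheme.{u}} (X : AlgSp.Space S)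
    (p q : AlgSp.FieldPt X.obj) (hm : Mono p.toHom) (hp : AlgSp.RepWith @QuasiCompact p.toHom)
    (h : AlgSp.Points.mk q = AlgSp.Points.mk p) : AlgSp.RepWith @QuasiCompact q.toHom := by
  obtain ⟨m, hmq⟩ := Groth.Agent.Lib.H80DecentPt.exists_factor_of_mk_eq p q hm hp.1 h
  rw [hmq]
  have hqc : QuasiCompact m.left := by
    change QuasiCompact (X := Spec (CommRingCat.of q.K)) (Y := Spec (CommRingCat.of p.K)) m.left
    infer_instance
  exact (AlgSp.RepWith @QuasiCompact).comp_mem _ _ ((AlgSp.repWith_yon_map_iff _ m).2 hqc) hp

end Groth.Agent.S10362
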