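import Groth.Statements.S10363
import Groth.Agent.Lib.H86AlgSpOpen
import Groth.Agent.Lib.AlgSpBasic
import Mathlib.AlgebraicGeometry.Morphisms.QuasiFinite

set_option autoImplicit false
set_option linter.style.haveILetI false
universe u
open CategoryTheory CategoryTheory.Limits AlgebraicGeometry Topology TopologicalSpace
open AlgSp

namespace Groth.Agent.S10363

open Groth.Agent.Lib.H86AlgSpPoints Groth.Agent.Lib.H86AlgSpSub Groth.Agent.Lib.H86AlgSpOpen

/-- For an etale morphism `f : W ⟶ U`, an affine open `O` of `W` mapping into an affine open `O'` of `U`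
meets the preimage of a finite set in a finite set. -/
theorem finite_inter_preimage {W U : Scheme.{u}} (f : W ⟶ U) [Etale f] (O : W.Opens) (hO : IsAffineOpen O)
    (O' : U.Opens) (hO' : IsAffineOpen O') (e : O ≤ f ⁻¹ᵁ O') {F : Set ↥U} (hF : F.Finite) :
    ((O : Set ↥W) ∩ f ⁻¹' F).Finite := by
  haveI : IsAffine (O : Scheme.{u}) := hO
  haveI : IsAffine (O' : Scheme.{u}) := hO'
  let g : (O : Scheme.{u}) ⟶ O' := f.resLE O' O e
  haveI : LocallyQuasiFinite f := Groth.Agent.Lib.AlgSpBasic.locallyQuasiFinite_of_etale f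
  haveI : LocallyQuasiFinite g := inferInstance
  haveI : QuasiCompact g :=
    (HasAffineProperty.iff_of_isAffine (P := @QuasiCompact)).mpr
      (inferInstance : CompactSpace (O : Scheme.{u}))
  have hs : ((Subtype.val : ↥O' → ↥U) ⁻¹' F).Finite := hF.preimage Subtype.val_injective.injOn
  have h1 := g.finite_preimage hs
  refine (h1.image (Subtype.val : ↥O → ↥W)).subset ?_
  rintro w ⟨hwO, hwF⟩
  refine ⟨⟨w, hwO⟩, ?_, rfl⟩
  show (g ⟨w, hwO⟩).1 ∈ F
  rw [Scheme.Hom.coe_resLE_apply]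
  exact hwF

/-- Let X be an algebraic space over a scheme S and x ∈ |X|. If there is a family of etale maps U_i ⟶ X
from schemes, jointly surjective on points, each with finite fibre of |U_i| → |X| over x, then every
etale V ⟶ X with V an affine scheme has finite fibre of |V| → |X| over x. (The converse implication
is immediate.) -/
theorem result {S : Scheme.{u}} (X : AlgSp.Space S)
    (x : AlgSp.Points X.obj) {ι : Type u} (U : ι → Over S) (φ : ∀ i, (AlgSp.yon S).obj (U i) ⟶ X.obj)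
    (hφ : ∀ i, AlgSp.RepWith @Etale (φ i))
    (hsurj : ∀ y : AlgSp.Points X.obj, ∃ (i : ι) (v : ↥(U i).left), AlgSp.Points.ofPt (φ i) v = y)
    (hfin : ∀ i, (AlgSp.Points.ofPt (φ i) ⁻¹' {x}).Finite)
    {V : Over S} [IsAffine V.left] (ψ : (AlgSp.yon S).obj V ⟶ X.obj) (hψ : AlgSp.RepWith @Etale ψ) :
    (AlgSp.Points.ofPt ψ ⁻¹' {x}).Finite := by
  have key : ∀ v : ↥V.left, ∃ N : Set ↥V.left, IsOpen N ∧ v ∈ N ∧
      (N ∩ AlgSp.Points.ofPt ψ ⁻¹' {x}).Finite := by
    intro v
    obtain ⟨i, u, hu⟩ := hsurj (Points.ofPt ψ v)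
    obtain ⟨P, snd, fst, hpb⟩ := (hφ i).1 ψ
    haveI hse : Etale snd.left := (hφ i).2 ψ fst snd hpb
    obtain ⟨fst', rfl⟩ := (yon S).map_surjective fst
    haveI hfe : Etale fst'.left := hψ.2 (φ i) ((yon S).map snd) fst' hpb.flip
    obtain ⟨w, hw1, hw2⟩ := exists_of_isPullback_rep hpb (Points.ofScheme _ u) v
      (by rw [← Points.ofPt_eq_map_ofScheme, hu])
    have hw1' : fst'.left w = u := by
      rw [ofPt_yon_map] at hw1
      exact (Points.schemeEquiv (U i)).injective hw1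
    obtain ⟨O', hO', huO', -⟩ := exists_isAffineOpen_mem_and_subset (X := (U i).left) (x := u)
      (U := ⊤) trivial
    obtain ⟨O, hO, hwO, hOO'⟩ := exists_isAffineOpen_mem_and_subset (X := P.left) (x := w)
      (U := fst'.left ⁻¹ᵁ O') (by show fst'.left w ∈ O'; rw [hw1']; exact huO')
    refine ⟨snd.left '' (O : Set ↥P.left), snd.left.isOpenMap _ O.isOpen, ⟨w, hwO, hw2⟩, ?_⟩
    have hfinO := finite_inter_preimage fst'.left O hO O' hO' hOO' (hfin i)
    refine (hfinO.image snd.left).subset ?_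
    rintro _ ⟨⟨z, hzO, rfl⟩, hzx⟩
    refine ⟨z, ⟨hzO, ?_⟩, rfl⟩
    show Points.ofPt (φ i) (fst'.left z) = x
    rw [← ofPt_map_comp, hpb.w, ofPt_map_comp]
    exact hzx
  choose N hNo hvN hNfin using key
  haveI : CompactSpace ↥V.left := inferInstance
  obtain ⟨t, ht⟩ := isCompact_univ.elim_finite_subcover N hNo
    (fun v _ => Set.mem_iUnion.2 ⟨v, hvN v⟩)
  have : AlgSp.Points.ofPt ψ ⁻¹' {x} ⊆ ⋃ v ∈ t, (N v ∩ AlgSp.Points.ofPt ψ ⁻¹' {x}) := by
    intro v hv
    obtain ⟨v', hv't, hvN'⟩ := Set.mem_iUnion₂.1 (ht (Set.mem_univ v))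
    exact Set.mem_iUnion₂.2 ⟨v', hv't, hvN', hv⟩
  exact (t.finite_toSet.biUnion fun v _ => hNfin v).subset this

end Groth.Agent.S10363
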