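import Groth.Statements.S10365
import Groth.Agent.Lib.AlgSpFlatPt

set_option autoImplicit false
universe u
open CategoryTheory CategoryTheory.Limits AlgebraicGeometry Topology TopologicalSpace
open AlgSp

namespace Groth.Agent.S10365

/-- Let Z be an algebraic space over a scheme S admitting a surjective flat morphism Spec k ⟶ Z from the
spectrum of a field. Then every morphism Spec k' ⟶ Z from the spectrum of a field is surjective and
flat. -/
theorem result {S : Scheme.{u}} (Z : AlgSp.Space S)
    (k : Type u) [Field k] (str : Spec (CommRingCat.of k) ⟶ S) (p : (AlgSp.yon S).obj (Over.mk str) ⟶ Z.obj)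
    (hpf : AlgSp.LocP @Flat p) (hps : AlgSp.IsSurjectiveMor p)
    (k' : Type u) [Field k'] (str' : Spec (CommRingCat.of k') ⟶ S) (q : (AlgSp.yon S).obj (Over.mk str') ⟶ Z.obj) :
    AlgSp.LocP @Flat q ∧ AlgSp.IsSurjectiveMor q := by
  have := Groth.Agent.Lib.AlgSpFlatPt.subsingleton_points_of_surjective k str p hps
  exact ⟨Groth.Agent.Lib.AlgSpFlatPt.locP_flat_of_flat_field_point k k' str str' p q hpf,
    Groth.Agent.Lib.AlgSpFlatPt.isSurjectiveMor_of_subsingleton k' str' q⟩

end Groth.Agent.S10365
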