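import Groth.Statements.S10367
import Groth.Agent.Lib.AlgSpFlatPt2

set_option autoImplicit false
universe u
open CategoryTheory CategoryTheory.Limits AlgebraicGeometry Topology TopologicalSpace
open AlgSp

namespace Groth.Agent.S10367

/-- (2) ⇒ (3): if an algebraic space Z over a scheme S admits a surjective flat morphism Spec k ⟶ Z with
k a field, then it also admits such a morphism which is moreover locally of finite type. -/
theorem result {S : Scheme.{u}} (Z : AlgSp.Space S)
    (k : Type u) [Field k] (str : Spec (CommRingCat.of k) ⟶ S) (p : (AlgSp.yon S).obj (Over.mk str) ⟶ Z.obj)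
    (hpf : AlgSp.LocP @Flat p) (hps : AlgSp.IsSurjectiveMor p) :
    ∃ (k' : Type u) (_ : Field k') (str' : Spec (CommRingCat.of k') ⟶ S) (q : (AlgSp.yon S).obj (Over.mk str') ⟶ Z.obj),
      AlgSp.LocP @LocallyOfFiniteType q ∧ AlgSp.LocP @Flat q ∧ AlgSp.IsSurjectiveMor q := by
  have hsub := Groth.Agent.Lib.AlgSpFlatPt.subsingleton_points_of_surjective k str p hps
  have hne : Nonempty (AlgSp.Points Z.obj) :=
    ⟨AlgSp.Points.map p (AlgSp.Points.ofScheme _ (IsLocalRing.closedPoint k))⟩
  obtain ⟨P, hP⟩ := Groth.Agent.Lib.AlgSpFlatPt.exists_lft_fieldPt Z.property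
  exact ⟨P.K, P.field, P.str, P.toHom, hP,
    Groth.Agent.Lib.AlgSpFlatPt.locP_flat_of_flat_field_point k P.K str P.str p P.toHom hpf,
    Groth.Agent.Lib.AlgSpFlatPt.isSurjectiveMor_of_subsingleton P.K P.str P.toHom⟩

end Groth.Agent.S10367
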