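import Groth.Statements.S10368
import Groth.Agent.Lib.AlgSpFlatPt3
import Groth.Agent.Lib.AlgSpDecentSpec
import Groth.Agent.Lib.H69AlgSpDescProp

set_option autoImplicit false
universe u
open CategoryTheory CategoryTheory.Limits AlgebraicGeometry Topology TopologicalSpace
open AlgSp

namespace Groth.Agent.S10368

/-- An algebraic space Z over a scheme S is reduced, locally Noetherian and has |Z| a single point if
and only if there is a locally finitely presented, flat, surjective morphism Spec k ⟶ Z from the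
spectrum of a field. -/
theorem result {S : Scheme.{u}} (Z : AlgSp.Space S) :
    (AlgSp.EtaleLocally (fun U => IsReduced U) Z.obj ∧ AlgSp.IsLocNoethSp Z.obj ∧ Nonempty (AlgSp.Points Z.obj) ∧ Subsingleton (AlgSp.Points Z.obj)) ↔
      ∃ (k : Type u) (_ : Field k) (str : Spec (CommRingCat.of k) ⟶ S) (p : (AlgSp.yon S).obj (Over.mk str) ⟶ Z.obj),
        AlgSp.LocP @LocallyOfFinitePresentation p ∧ AlgSp.LocP @Flat p ∧ AlgSp.IsSurjectiveMor p := by
  constructor
  · rintro ⟨hr, hN, hne, hsub⟩
    obtain ⟨P₀, hP₀⟩ := Groth.Agent.Lib.AlgSpFlatPt.exists_flat_fieldPt_of_reduced Z.property hr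
    obtain ⟨P, hP⟩ := Groth.Agent.Lib.AlgSpFlatPt.exists_lft_fieldPt Z.property
    refine ⟨P.K, P.field, P.str, P.toHom, ?_,
      Groth.Agent.Lib.AlgSpFlatPt.locP_flat_of_flat_field_point P₀.K P.K P₀.str P.str P₀.toHom P.toHom hP₀,
      Groth.Agent.Lib.AlgSpFlatPt.isSurjectiveMor_of_subsingleton P.K P.str P.toHom⟩
    intro U V a b h ha hb comm
    have : IsLocallyNoetherian V.left :=
      Groth.Agent.Lib.AlgSpDecentSpec.isLocallyNoetherian_of_repWith_etale hN b hb
    have : LocallyOfFiniteType h.left := hP a b h ha hb comm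
    infer_instance
  · rintro ⟨k, _, str, p, hfp, hfl, hs⟩
    refine ⟨Groth.Agent.Lib.AlgSpFlatPt.isReducedSp_of_flat_surjective_fieldPt Z.property k str p hfl hs,
      ?_, ⟨AlgSp.Points.map p (AlgSp.Points.ofScheme _ (IsLocalRing.closedPoint k))⟩,
      Groth.Agent.Lib.AlgSpFlatPt.subsingleton_points_of_surjective k str p hs⟩
    exact Groth.Agent.Lib.H69AlgSpDescProp.isLocNoethSp_of_fppf Z.property p hfp hfl hs
      ⟨Over.mk str, 𝟙 _, AlgSp.repWith_id _ _, AlgSp.repWith_id _ _,
        inferInstanceAs (IsLocallyNoetherian (Spec (CommRingCat.of k)))⟩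

end Groth.Agent.S10368
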