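import Groth.Statements.S10378
-- import your own Groth.Agent.* helpers here
import Groth.Agent.Lib.AlgSpLocSep91

set_option autoImplicit false
universe u
open CategoryTheory CategoryTheory.Limits AlgebraicGeometry Topology TopologicalSpace
open AlgSp

namespace Groth.Agent.S10378

/-- A locally separated algebraic space is decent. Stated for X locally separated over the base scheme S
(diagonal over S representable by immersions), which agrees with the absolute notion because the
diagonal of any scheme is an immersion. -/
theorem result {S : Scheme.{u}} (X : AlgSp.Space S)
    (hX : AlgSp.IsLocallySeparatedSp X.obj) : AlgSp.IsDecent X.obj := by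
  exact Groth.Agent.Lib.AlgSpLocSep91.isDecent_of_isLocallySeparatedSp X.property hX

end Groth.Agent.S10378
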