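import Groth.Statements.S10385
import Groth.Agent.Lib.AlgSpFieldQuot
import Groth.Agent.Lib.AlgSpLocP
import Groth.Agent.Lib.AlgSpFibre
import Groth.Agent.Lib.AlgSpQC
import Groth.Agent.Lib.H86AlgSpOpen
import Groth.Agent.Lib.SrcLocal2
import Groth.Agent.Lib.FiniteEtaleField
import Groth.Agent.Lib.EtaleFieldMono
open Groth.Agent.Lib.AlgSpBasic Groth.Agent.Lib.AlgSpPoints Groth.Agent.Lib.H80DecentPt
  Groth.Agent.Lib.AlgSpQC Groth.Agent.Lib.AlgSpLocP Groth.Agent.Lib.FiniteEtaleField
  Groth.Agent.Lib.EtaleFieldMono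

set_option autoImplicit false
universe u
open CategoryTheory CategoryTheory.Limits AlgebraicGeometry Topology TopologicalSpace
open AlgSp

namespace Groth.Agent.S10385

/-- Let S be a scheme, X and Y algebraic spaces over S, and f : X ⟶ Y a quasi-compact, etale and
surjective morphism. If each point of X can be represented by a monomorphism whose source is the
spectrum of a field, then so can each point of Y. -/
theorem result {S : Scheme.{u}} {X Y : AlgSp.Space S} (f : X ⟶ Y)
    (hq : AlgSp.IsQuasiCompactMor f.hom) (he : AlgSp.IsEtaleMor f.hom) (hs : AlgSp.IsSurjectiveMor f.hom)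
    (hX : ∀ x : AlgSp.Points X.obj, ∃ p : AlgSp.FieldPt X.obj, AlgSp.Points.mk p = x ∧ Mono p.toHom)
    (y : AlgSp.Points Y.obj) : ∃ q : AlgSp.FieldPt Y.obj, AlgSp.Points.mk q = y ∧ Mono q.toHom := by
  obtain ⟨x, rfl⟩ := hs y
  obtain ⟨p, rfl, hpm⟩ := hX x
  have hrep : Representable (p.toHom ≫ f.hom) := Y.property.representable_from_yon _
  have sqW := hrep.isPullback' (p.toHom ≫ f.hom)
  -- the fibre product `E = Spec k ×_Y X`
  have sqE := IsPullback.of_hasPullback (p.toHom ≫ f.hom) f.hom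
  have hE : IsAlgSpace (pullback (p.toHom ≫ f.hom) f.hom) :=
    Groth.Agent.Lib.AlgSpFibre.isAlgSpace_of_isPullback Y.property.diag (IsAlgSpace.yon_obj p.pt)
      X.property sqE
  have hkc : CompactSpace ↥p.pt.left := by
    change CompactSpace ↥(Spec (CommRingCat.of p.K)); infer_instance
  obtain ⟨V, v, hve, hvs, hVc⟩ := hq (IsAlgSpace.yon_obj p.pt) ((isQuasiCompactSp_yon_iff p.pt).2 hkc)
    (p.toHom ≫ f.hom) _ _ sqE.flip
  have hloc : LocP @Etale f.hom := (isEtaleMor_iff_locP Y.property f.hom).1 he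
  have hloc₁ : LocP @Etale (pullback.fst (p.toHom ≫ f.hom) f.hom) :=
    locP_of_isPullback etLocalClass_etale X.property Y.property (IsAlgSpace.yon_obj p.pt) sqE.flip hloc
  let ν : V ⟶ p.pt := (yon S).preimage (v ≫ pullback.fst (p.toHom ≫ f.hom) f.hom)
  have hν : (yon S).map ν = v ≫ pullback.fst (p.toHom ≫ f.hom) f.hom := (yon S).map_preimage _
  have hνe : Etale ν.left := hloc₁ v (𝟙 _) ν hve (AlgSp.repWith_id _ _) (by rw [hν, Category.comp_id])
  -- `V` and `|E|` are finite
  have hVc' : CompactSpace ↥V.left := hVc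
  have hqs : QuasiSeparatedSpace ↥p.pt.left := by
    change QuasiSeparatedSpace ↥(Spec (CommRingCat.of p.K)); infer_instance
  have hνqc : QuasiCompact ν.left := inferInstance
  have hVfin : Finite ↥V.left := @finite_of_etale_field p.K _ _ ν.left hνe hνqc
  have hEfin : Finite (Points (pullback (p.toHom ≫ f.hom) f.hom)) :=
    Finite.of_surjective (Points.ofPt v) (surjective_ofPt_of_repWith_surjective hvs)
  -- the map `W ⟶ E`
  have hwc : (yon S).map (hrep.fst' (p.toHom ≫ f.hom)) ≫ (p.toHom ≫ f.hom) =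
      ((yon S).map (hrep.snd (p.toHom ≫ f.hom)) ≫ p.toHom) ≫ f.hom := by
    rw [Category.assoc]; exact sqW.w
  let w := sqE.lift _ _ hwc
  have hw₁ : w ≫ pullback.fst (p.toHom ≫ f.hom) f.hom = (yon S).map (hrep.fst' (p.toHom ≫ f.hom)) :=
    sqE.lift_fst _ _ _
  have hw₂ : w ≫ pullback.snd (p.toHom ≫ f.hom) f.hom =
      (yon S).map (hrep.snd (p.toHom ≫ f.hom)) ≫ p.toHom := sqE.lift_snd _ _ _
  have sqA : IsPullback ((yon S).map (hrep.snd (p.toHom ≫ f.hom))) w p.toHom
      (pullback.snd (p.toHom ≫ f.hom) f.hom) := by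
    refine IsPullback.of_bot ?_ hw₂.symm sqE.flip
    rw [hw₁]
    exact sqW.flip
  have hwm : Mono w := sqA.mono_snd_of_mono
  have hWfin : Finite ↥(hrep.pullback (p.toHom ≫ f.hom)).left := by
    have hinj := Groth.Agent.Lib.H86AlgSpOpen.map_injective_of_mono w
    have : Finite (Points ((yon S).obj (hrep.pullback (p.toHom ≫ f.hom)))) := Finite.of_injective _ hinj
    exact Finite.of_equiv _ (Points.schemeEquiv (hrep.pullback (p.toHom ≫ f.hom))).symm
  -- the projection `W ⟶ Spec k` is etale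
  have sqV' := hve.rep.isPullback' w
  have h1 : Etale (hve.rep.snd w).left := hve.property_snd w
  have h1s : Surjective (hve.rep.snd w).left := hvs.property _ _ _ sqV'
  have h2a : Mono ((yon S).map (hve.rep.fst' w)) := sqV'.mono_fst_of_mono
  have h2b : Mono (hve.rep.fst' w) := (yon S).mono_of_mono_map h2a
  have h2 : Mono (hve.rep.fst' w).left := inferInstance
  have h3 : Etale (hve.rep.fst' w).left :=
    @etale_of_mono_of_etale_field p.K _ _ _ ν.left hνe (hve.rep.fst' w).left h2
  have h4 : hve.rep.snd w ≫ hrep.fst' (p.toHom ≫ f.hom) = hve.rep.fst' w ≫ ν := by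
    apply (yon S).map_injective
    rw [Functor.map_comp, Functor.map_comp, hν, ← hw₁, ← Category.assoc, ← sqV'.w, Category.assoc]
  have h5 : Etale ((hve.rep.snd w).left ≫ (hrep.fst' (p.toHom ≫ f.hom)).left) := by
    have e : (hve.rep.snd w).left ≫ (hrep.fst' (p.toHom ≫ f.hom)).left =
        (hve.rep.fst' w).left ≫ ν.left := congrArg (fun q => q.left) h4
    rw [e]
    infer_instance
  have hse : Etale (hrep.fst' (p.toHom ≫ f.hom)).left :=
    Groth.Agent.Lib.SrcLocal.sourceEtLocal_etale _ _ h1 h1s h5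
  -- hence finite
  have hslqf : LocallyQuasiFinite (hrep.fst' (p.toHom ≫ f.hom)).left := locallyQuasiFinite_of_etale _
  have hsqc : QuasiCompact (hrep.fst' (p.toHom ≫ f.hom)).left := quasiCompact_of_finite_source _
  have hart : IsLocallyArtinian p.pt.left := by
    change IsLocallyArtinian (Spec (CommRingCat.of p.K))
    rw [Scheme.isLocallyArtinianScheme_Spec]
    change IsArtinianRing p.K
    infer_instance
  have hfin : IsFinite (hrep.fst' (p.toHom ≫ f.hom)).left := IsFinite.of_locallyQuasiFinite _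
  obtain ⟨k₀, _, str₀, c, m, hcm, hm, -, -, -⟩ :=
    Groth.Agent.Lib.AlgSpFieldQuot.exists_mono_factor p.str (p.toHom ≫ f.hom) _ _ sqW hfin
  refine ⟨ofHom str₀ m, ?_, by rw [toHom_ofHom]; exact hm⟩
  have e1 : Points.mk (ofHom str₀ m) = Points.mk (ofHom p.str (p.toHom ≫ f.hom)) :=
    (mk_eq_of_toHom_eq (ofHom str₀ m) (ofHom p.str (p.toHom ≫ f.hom)) c
      (by rw [toHom_ofHom, toHom_ofHom]; exact hcm.symm)).symm
  rw [e1, ← map_eq_ofHom, Points.map_mk]

end Groth.Agent.S10385
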