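import Groth.Statements.S10386
import Groth.Agent.Lib.H80DecentPt
import Groth.Agent.Lib.H86AlgSpPoints
import Groth.Agent.Lib.AlgSpBasic

set_option autoImplicit false
set_option linter.style.haveILetI false
universe u
open CategoryTheory CategoryTheory.Limits AlgebraicGeometry Topology TopologicalSpace
open AlgSp

namespace Groth.Agent.S10386

open Groth.Agent.Lib.H86AlgSpPoints
open Groth.Agent.Lib

/-- (3) ⇒ (1): let S be a scheme, X and Y algebraic spaces over S, and f : X ⟶ Y a morphism such that Z
×_Y X is decent for every affine scheme Z and every Z ⟶ Y. Then f is decent, i.e. T ×_Y X is decent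
for every scheme T over Y. -/
theorem result {S : Scheme.{u}} {X Y : AlgSp.Space S} (f : X ⟶ Y)
    (h : ∀ (Z : Over S) (g : (AlgSp.yon S).obj Z ⟶ Y.obj) (P : AlgSp.Sp S) (fst : P ⟶ X.obj)
      (snd : P ⟶ (AlgSp.yon S).obj Z), IsAffine Z.left → IsPullback fst snd f.hom g → AlgSp.IsDecent P) :
    AlgSp.IsDecentMor f.hom := by
  intro T F' g fst snd hpb x
  -- the image point `t` of `x` in `T` and its residue field
  let t : ↥T.left := Points.toScheme T (Points.map snd x)
  let Z : Over S := Over.mk (T.left.fromSpecResidueField t ≫ T.hom)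
  let κ : Z ⟶ T := Over.homMk (T.left.fromSpecResidueField t) rfl
  haveI hκm : Mono ((yon S).map κ) := H80DecentPt.mono_yon_map_fromSpecResidueField T t
  have hκq : RepWith @QuasiCompact ((yon S).map κ) :=
    H80DecentPt.repWith_quasiCompact_yon_map_fromSpecResidueField T t
  have sq := IsPullback.of_hasPullback snd ((yon S).map κ)
  have big : IsPullback (pullback.fst snd ((yon S).map κ) ≫ fst) (pullback.snd snd ((yon S).map κ))
      f.hom ((yon S).map κ ≫ g) := sq.paste_horiz hpb
  haveI : IsAffine Z.left := inferInstanceAs (IsAffine (Spec (T.left.residueField t)))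
  have hP : IsDecent (pullback snd ((yon S).map κ)) := h Z _ _ _ _ inferInstance big
  -- lift `x` to the fibre
  let z0 : ↥Z.left := (IsLocalRing.closedPoint (T.left.residueField t) : PrimeSpectrum _)
  have hz : Points.map snd x = Points.map ((yon S).map κ) (Points.ofScheme Z z0) := by
    rw [← Points.ofPt_eq_map_ofScheme, ofPt_yon_map]
    have : κ.left z0 = t := Scheme.fromSpecResidueField_apply _ _
    rw [this]
    exact (Points.ofScheme_toScheme T _).symm
  obtain ⟨x', hx'1, -⟩ := exists_of_isPullback sq x _ hz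
  obtain ⟨p', hp'x, hp'm, hp'q⟩ := hP x'
  refine ⟨p'.map (pullback.fst snd ((yon S).map κ)), ?_, ?_, ?_⟩
  · rw [← Points.map_mk, hp'x, hx'1]
  · rw [FieldPt.toHom_map]
    exact @mono_comp _ _ _ _ _ _ hp'm _ inferInstance
  · rw [FieldPt.toHom_map]
    exact (RepWith (S := S) @QuasiCompact).comp_mem _ _ hp'q
      (AlgSpBasic.repWith_fst_of_isPullback _ sq hκq)

end Groth.Agent.S10386
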