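import Groth.Statements.S10392
-- import your own Groth.Agent.* helpers here
import Groth.Agent.Lib.AlgSpFieldDim91b

set_option autoImplicit false
universe u
open CategoryTheory CategoryTheory.Limits AlgebraicGeometry Topology TopologicalSpace
open AlgSp

namespace Groth.Agent.S10392

/-- Let k be a field and X a nonempty algebraic space over k which is locally of finite type. Then (2)
|X| is discrete if and only if (4) dim X = 0, and these imply (3) dim |X| = 0; if X is decent then
(3) implies (2) and (1) |X| finite implies (4). (The published statement asserts (2) ⇔ (3) ⇔ (4) for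
every such X and does not exclude the empty space; for the quotient of the affine line over a field
of characteristic zero by the translation action of the integers, |X| is an infinite set with the
indiscrete topology, so (3) holds while (2) and (4) fail, and for the empty space (2) holds while
dim X = ⊥. The equivalence with local quasi-finiteness of X → Spec k is not part of this row.) -/
theorem result (k : Type u) [Field k] (X : AlgSp.Space (Spec (CommRingCat.of k)))
    (p : X.obj ⟶ (AlgSp.yon (Spec (CommRingCat.of k))).obj (Over.mk (𝟙 _))) (hp : AlgSp.LocP @LocallyOfFiniteType p) [Nonempty (AlgSp.Points X.obj)] :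
    (DiscreteTopology (AlgSp.Points X.obj) ↔ AlgSp.dim X.obj = 0) ∧
      (DiscreteTopology (AlgSp.Points X.obj) → topologicalKrullDim (AlgSp.Points X.obj) = 0) ∧
      (AlgSp.IsDecent X.obj → topologicalKrullDim (AlgSp.Points X.obj) = 0 → DiscreteTopology (AlgSp.Points X.obj)) ∧
      (AlgSp.IsDecent X.obj → Finite (AlgSp.Points X.obj) → AlgSp.dim X.obj = 0) := by
  refine ⟨Groth.Agent.Lib.AlgSpFieldDim91.discreteTopology_iff_dim_eq_zero p hp X.property,
    fun hd => ?_, fun hdec h0 => ?_, fun hdec hfin => ?_⟩
  · exact le_antisymm (topologicalKrullDim_zero_of_discreteTopology _)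
      Groth.Agent.Lib.TopKrullDim.dim_nonneg_of_nonempty
  · haveI : T0Space (AlgSp.Points X.obj) := Groth.Agent.S10338.result X hdec
    exact Groth.Agent.Lib.AlgSpFieldDim91.discreteTopology_of_forall_specializes_eq p hp X.property
      (fun y y' hs => Groth.Agent.Lib.AlgSpFieldDim91.eq_of_specializes_of_dim_le_zero h0.le hs)
  · exact Groth.Agent.Lib.AlgSpFieldDim91.dim_eq_zero_of_finite p hp X.property hdec

end Groth.Agent.S10392
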