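import Groth.Statements.S10393
import Groth.Agent.Lib.MonoOnePt46
import Groth.Agent.Lib.H86ZarGlue
import Groth.Agent.Lib.AlgSpFibre
import Groth.Agent.Lib.AlgSpPoints

set_option autoImplicit false
universe u
open CategoryTheory CategoryTheory.Limits AlgebraicGeometry Topology TopologicalSpace
open AlgSp

namespace Groth.Agent.S10393

open Groth.Agent.Lib.AlgSpDecentSpec

/-- Let S be a scheme, Y a scheme over S whose underlying topological space is discrete (equivalently, Y
is a disjoint union of spectra of local rings of dimension zero), and X an algebraic space over S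
with a monomorphism X ⟶ Y over S. Then X is a scheme. -/
theorem result {S : Scheme.{u}} (Y : Over S) [DiscreteTopology ↥Y.left]
    (X : AlgSp.Space S) (f : X ⟶ (AlgSp.ofScheme S).obj Y) [Mono f.hom] : X.obj.obj.IsRepresentable := by
  obtain ⟨f', hf'⟩ : ∃ f' : X.obj ⟶ (AlgSp.yon S).obj Y, f' = f.hom := ⟨f.hom, rfl⟩
  have hfm : Mono f' := hf' ▸ ‹Mono f.hom›
  clear hf'
  -- the one-point open subschemes of `Y`
  let O : ↥Y.left → Y.left.Opens := fun y => ⟨{y}, isOpen_discrete _⟩
  have key : ∀ y : ↥Y.left, ∃ (M : Over S)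
      (_ : (AlgSp.yon S).obj M ≅
        pullback f' ((AlgSp.yon S).map (restrictOverι Y (O y)))),
      IsAffine M.left := by
    intro y
    have sq := IsPullback.of_hasPullback f'
      ((AlgSp.yon S).map (restrictOverι Y (O y)))
    have hA : AlgSp.IsAlgSpace (pullback f'
        ((AlgSp.yon S).map (restrictOverι Y (O y)))) :=
      Groth.Agent.Lib.AlgSpFibre.isAlgSpace_of_isPullback (AlgSp.IsAlgSpace.yon_obj Y).diag X.property
        (AlgSp.IsAlgSpace.yon_obj _) sq
    have hsub : Subsingleton ↥(restrictOver Y (O y)).left :=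
      ⟨fun a b => Subtype.ext (a.2.trans b.2.symm)⟩
    have hm : Mono (pullback.snd f'
        ((AlgSp.yon S).map (restrictOverι Y (O y)))) := inferInstance
    exact Groth.Agent.Lib.MonoOnePt46.exists_iso_of_mono_onePoint ⟨_, hA⟩ (restrictOver Y (O y))
      (pullback.snd f'
        ((AlgSp.yon S).map (restrictOverι Y (O y))))
  choose M e hM using key
  refine Groth.Agent.Lib.H86ZarGlue.isRepresentable_of_openCover (ι := ↥Y.left) (U := M)
    (fun y => (e y).hom ≫ pullback.fst f'
      ((AlgSp.yon S).map (restrictOverι Y (O y)))) (fun y => ?_) (fun x => ?_)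
  · have sq := IsPullback.of_hasPullback f'
      ((AlgSp.yon S).map (restrictOverι Y (O y)))
    have h1 : AlgSp.RepWith @IsOpenImmersion ((AlgSp.yon S).map (restrictOverι Y (O y))) :=
      (AlgSp.repWith_yon_map_iff _ _).2 (inferInstance : IsOpenImmersion (O y).ι)
    have h2 : AlgSp.RepWith @IsOpenImmersion (pullback.fst f'
        ((AlgSp.yon S).map (restrictOverι Y (O y)))) :=
      (AlgSp.RepWith @IsOpenImmersion).of_isPullback sq.flip h1
    exact MorphismProperty.RespectsIso.precomp _ _ _ h2
  · have sq := IsPullback.of_hasPullback f'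
      ((AlgSp.yon S).map (restrictOverι Y
        (O (AlgSp.Points.toScheme Y (AlgSp.Points.map f' x)))))
    set y := AlgSp.Points.toScheme Y (AlgSp.Points.map f' x) with hy
    obtain ⟨y', hy'⟩ : ∃ y' : ↥(restrictOver Y (O y)).left, (restrictOverι Y (O y)).left y' = y :=
      ⟨(⟨y, rfl⟩ : ↥(O y)), rfl⟩
    have h1 : AlgSp.Points.map f' x =
        AlgSp.Points.map ((AlgSp.yon S).map (restrictOverι Y (O y)))
          (AlgSp.Points.ofScheme (restrictOver Y (O y)) y') := by
      have h0 : AlgSp.Points.map ((AlgSp.yon S).map (restrictOverι Y (O y)))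
          (AlgSp.Points.ofScheme (restrictOver Y (O y)) y') =
          AlgSp.Points.ofScheme Y ((restrictOverι Y (O y)).left y') :=
        AlgSp.Points.map_yon_map_apply _ _
      rw [h0, hy', hy, AlgSp.Points.ofScheme_toScheme]
    obtain ⟨p, hp1, -⟩ := Groth.Agent.Lib.AlgSpPoints.exists_point_of_isPullback sq x _ h1
    refine ⟨y, AlgSp.Points.map (e y).inv p, ?_⟩
    rw [← AlgSp.Points.map_comp, ← Category.assoc, (e y).inv_hom_id, Category.id_comp, hp1]

end Groth.Agent.S10393
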