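import Groth.Statements.S10398
import Groth.Agent.Lib.AlgSpGenFin36

set_option autoImplicit false
universe u
open CategoryTheory CategoryTheory.Limits AlgebraicGeometry Topology TopologicalSpace
open AlgSp

namespace Groth.Agent.S10398

/-- (2) ⇒ (3): let S be a scheme, X and Y algebraic spaces over S, and f : X ⟶ Y a quasi-separated
morphism of finite type, and let y ∈ |Y| be a codimension 0 point of Y. Suppose that at every point
of |X| lying over y the morphism f is quasi-finite. Then there is an open subspace Y' ⊆ Y containing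
y for which the morphism Y' ×_Y X ⟶ Y' is finite. -/
theorem result {S : Scheme.{u}} {X Y : AlgSp.Space S} (f : X ⟶ Y)
    (hqs : AlgSp.IsQuasiSeparatedMor f.hom) (hft : AlgSp.IsFiniteTypeMor f.hom) (y : AlgSp.Points Y.obj)
    (hy : AlgSp.HasAt (fun U u => ringKrullDim ↥(U.presheaf.stalk u) = 0) Y.obj y)
    (hqf : ∀ x : AlgSp.Points X.obj, AlgSp.Points.map f.hom x = y → AlgSp.HasAtMor (fun U _ h u => ∃ W : U.Opens, u ∈ W ∧ LocallyQuasiFinite (W.ι ≫ h) ∧ LocallyOfFiniteType (W.ι ≫ h)) f.hom x) :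
    ∃ (Y' X' : AlgSp.Space S) (j : Y' ⟶ Y) (fst : X' ⟶ Y') (snd : X' ⟶ X), AlgSp.RepWith @IsOpenImmersion j.hom ∧
      y ∈ Set.range (AlgSp.Points.map j.hom) ∧ IsPullback fst.hom snd.hom j.hom f.hom ∧
      AlgSp.IsFiniteMor fst.hom := by
  obtain ⟨W, hWo, hyW, hfin⟩ := Groth.Agent.Lib.AlgSpGenFin36.exists_open_finite_codimZero
    X.property Y.property f.hom hqs hft.1 hft.2 y hy
    (fun x hx => (Groth.Agent.Lib.AlgSpQFBC91.hasAtMor_opens_iff f.hom hft.1 x).1 (hqf x hx))
  let Y' : AlgSp.Space S := ⟨Groth.Agent.Lib.H86AlgSpOpen.openSub Y.obj W,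
    Groth.Agent.Lib.H86AlgSpOpen.isAlgSpace_openSub Y.property hWo⟩
  let j : Y' ⟶ Y := ObjectProperty.homMk (Groth.Agent.Lib.H86AlgSpOpen.openSubι Y.obj W)
  have sq := IsPullback.of_hasPullback (Groth.Agent.Lib.H86AlgSpOpen.openSubι Y.obj W) f.hom
  let X' : AlgSp.Space S := ⟨pullback (Groth.Agent.Lib.H86AlgSpOpen.openSubι Y.obj W) f.hom,
    Groth.Agent.Lib.AlgSpBasic.isAlgSpace_of_isPullback Y'.property X.property
      (fun U a => Y.property.representable_from_yon a) sq⟩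
  let fst : X' ⟶ Y' := ObjectProperty.homMk (pullback.fst _ _)
  let snd : X' ⟶ X := ObjectProperty.homMk (pullback.snd _ _)
  refine ⟨Y', X', j, fst, snd, Groth.Agent.Lib.H86AlgSpOpen.openSubι_repWith hWo, ?_, sq,
    hfin _ _ _ sq⟩
  change y ∈ Set.range (AlgSp.Points.map (Groth.Agent.Lib.H86AlgSpOpen.openSubι Y.obj W))
  rw [Groth.Agent.Lib.H86AlgSpOpen.range_map_openSubι]
  exact hyW

end Groth.Agent.S10398
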