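import Groth.Statements.S10399
import Groth.Agent.Lib.AlgSpQFAt

set_option autoImplicit false
universe u
open CategoryTheory CategoryTheory.Limits AlgebraicGeometry Topology TopologicalSpace
open AlgSp

namespace Groth.Agent.S10399

/-- Let f : X ⟶ Y be a morphism locally of finite type of algebraic spaces over a scheme S and y a
codimension 0 point of Y. The following are equivalent: (1) every point of |X| over y has
codimension 0 on X; (2) f is quasi-finite at all points over y; (3) f is quasi-finite at all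
codimension 0 points of X over y. Stated as (1) ⇔ (2) together with (3) ⇒ (1). -/
theorem result {S : Scheme.{u}} {X Y : AlgSp.Space S} (f : X ⟶ Y)
    (hf : AlgSp.LocP @LocallyOfFiniteType f.hom) (y : AlgSp.Points Y.obj) (hy : AlgSp.HasAt (fun U u => ringKrullDim ↥(U.presheaf.stalk u) = 0) Y.obj y) :
    ((∀ x : AlgSp.Points X.obj, AlgSp.Points.map f.hom x = y → AlgSp.HasAt (fun U u => ringKrullDim ↥(U.presheaf.stalk u) = 0) X.obj x) ↔
        (∀ x : AlgSp.Points X.obj, AlgSp.Points.map f.hom x = y → AlgSp.HasAtMor (fun U _ h u => ∃ W : U.Opens, u ∈ W ∧ LocallyQuasiFinite (W.ι ≫ h) ∧ LocallyOfFiniteType (W.ι ≫ h)) f.hom x)) ∧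
      ((∀ x : AlgSp.Points X.obj, AlgSp.Points.map f.hom x = y → AlgSp.HasAt (fun U u => ringKrullDim ↥(U.presheaf.stalk u) = 0) X.obj x → AlgSp.HasAtMor (fun U _ h u => ∃ W : U.Opens, u ∈ W ∧ LocallyQuasiFinite (W.ι ≫ h) ∧ LocallyOfFiniteType (W.ι ≫ h)) f.hom x) →
        ∀ x : AlgSp.Points X.obj, AlgSp.Points.map f.hom x = y → AlgSp.HasAt (fun U u => ringKrullDim ↥(U.presheaf.stalk u) = 0) X.obj x) := by
  obtain ⟨V, b, v, hb, hv, hdv⟩ := hy
  have hvmax : ∀ v' : ↥V.left, v' ⤳ v → v' = v :=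
    (Groth.Agent.Lib.AlgSpGenericPt.ringKrullDim_stalk_eq_zero_iff v).1 hdv
  -- points of a chart diagram over `v` lie over `y`
  have hover : ∀ {U : Over S} (a : (AlgSp.yon S).obj U ⟶ X.obj) (h : U ⟶ V)
      (_ : a ≫ f.hom = (AlgSp.yon S).map h ≫ b) (w : ↥U.left), h.left w = v →
      AlgSp.Points.map f.hom (AlgSp.Points.ofPt a w) = y := by
    intro U a h comm w hw
    rw [AlgSp.Points.map_ofPt, comm, Groth.Agent.Lib.AlgSpPoints.ofPt_yon_map_comp, hw, hv]
  refine ⟨⟨fun h1 x hx => ?_, fun h2 x hx => ?_⟩, fun h3 x hx => ?_⟩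
  · -- (1) ⇒ (2)
    obtain ⟨U, a, h, u, ha, comm, rfl, hu⟩ :=
      Groth.Agent.Lib.AlgSpQFAt.exists_diagram f x b hb v (hv.trans hx.symm)
    rw [Groth.Agent.Lib.AlgSpQFAt.hasAtMor_qf_iff_of_diagram f.hom hf a b h ha hb comm u]
    have : LocallyOfFiniteType h.left := hf a b h ha hb comm
    refine Groth.Agent.Lib.AlgSpQFAt.isolatedInFibre_of_forall_specializes_eq h.left u
      fun w w' hw _ hww' => ?_
    have h4 := h1 _ (hover a h comm w (hw.trans hu))
    rw [Groth.Agent.Lib.AlgSpQFAt.hasAt_dim_iff_of_chart a ha w 0,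
      Groth.Agent.Lib.AlgSpGenericPt.ringKrullDim_stalk_eq_zero_iff] at h4
    exact h4 w' hww'
  · -- (2) ⇒ (1)
    obtain ⟨U, V', a, b', h, u, ha, hb', comm, rfl, W, huW, hqf, hft⟩ := h2 x hx
    rw [Groth.Agent.Lib.AlgSpQFAt.hasAt_dim_iff_of_chart a ha u 0]
    have hyv : AlgSp.Points.ofPt b' (h.left u) = AlgSp.Points.ofPt b v := by
      rw [hv, ← hx, AlgSp.Points.map_ofPt, comm, Groth.Agent.Lib.AlgSpPoints.ofPt_yon_map_comp]
    have hd' : ringKrullDim ↥(V'.left.presheaf.stalk (h.left u)) = 0 := by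
      rw [Groth.Agent.Lib.AlgSpQFAt.ringKrullDim_stalk_eq_of_charts b' hb' b hb _ v hyv, hdv]
    have h5 := Groth.Agent.Lib.AlgSpDim91.ringKrullDim_stalk_eq_of_etale W.ι ⟨u, huW⟩
    have h6 := Groth.Agent.Lib.AlgSpDim91.ringKrullDim_stalk_le_of_locallyQuasiFinite
      (W.ι ≫ h.left) ⟨u, huW⟩
    have h7 : (W.ι ≫ h.left) ⟨u, huW⟩ = h.left u := rfl
    rw [h7, hd'] at h6
    have h8 : W.ι ⟨u, huW⟩ = u := rfl
    rw [h8] at h5
    rw [h5]
    exact le_antisymm h6 ringKrullDim_nonneg_of_nontrivial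
  · -- (3) ⇒ (1)
    obtain ⟨U, a, h, u, ha, comm, rfl, hu⟩ :=
      Groth.Agent.Lib.AlgSpQFAt.exists_diagram f x b hb v (hv.trans hx.symm)
    have : LocallyOfFiniteType h.left := hf a b h ha hb comm
    rw [Groth.Agent.Lib.AlgSpQFAt.hasAt_dim_iff_of_chart a ha u 0,
      Groth.Agent.Lib.AlgSpGenericPt.ringKrullDim_stalk_eq_zero_iff]
    intro u' hu'
    obtain ⟨T, hT, hsub⟩ := exists_mem_irreducibleComponents_subset_of_isIrreducible (closure {u'})
      isIrreducible_singleton.closure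
    obtain ⟨η, hη⟩ := QuasiSober.sober hT.prop (isClosed_of_mem_irreducibleComponents T hT)
    have hηu' : η ⤳ u' := by
      rw [specializes_iff_mem_closure, hη.def]; exact hsub (subset_closure rfl)
    have hηmax : ∀ w : ↥U.left, w ⤳ η → w = η :=
      (Groth.Agent.Lib.AlgSpGenericPt.exists_component_generic_iff η).1 ⟨T, hT, hη⟩
    have hηu : η ⤳ u := hηu'.trans hu'
    have hhη : h.left η = v := by
      refine hvmax _ ?_
      rw [← hu]
      exact hηu.map h.left.continuous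
    have hdη : AlgSp.HasAt (fun U u => ringKrullDim ↥(U.presheaf.stalk u) = 0) X.obj
        (AlgSp.Points.ofPt a η) :=
      ⟨U, a, η, ha, rfl, (Groth.Agent.Lib.AlgSpGenericPt.ringKrullDim_stalk_eq_zero_iff η).2 hηmax⟩
    have hqf := h3 _ (hover a h comm η hhη) hdη
    rw [Groth.Agent.Lib.AlgSpQFAt.hasAtMor_qf_iff_of_diagram f.hom hf a b h ha hb comm η] at hqf
    have huη : u = η := Groth.Agent.Lib.AlgSpQFAt.eq_of_isolatedInFibre_of_specializes h.left η u hqf
      (hu.trans hhη.symm) hηu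
    rw [huη] at hu' ⊢
    exact (hu'.antisymm hηu').eq

end Groth.Agent.S10399
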