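import Groth.Statements.S10401
import Groth.Agent.Lib.AlgSpLocP

set_option autoImplicit false
universe u
open CategoryTheory CategoryTheory.Limits AlgebraicGeometry Topology TopologicalSpace
open AlgSp

namespace Groth.Agent.S10401

/-- If Y is a Jacobson algebraic space and X is an algebraic space that is locally of finite type over
Y, then X is Jacobson. -/
theorem result {S : Scheme.{u}} {X Y : AlgSp.Space S} (hX : AlgSp.EtaleLocally (fun U => JacobsonSpace ↥U) X.obj)
    (f : Y ⟶ X) (hf : AlgSp.LocP @LocallyOfFiniteType f.hom) : AlgSp.EtaleLocally (fun U => JacobsonSpace ↥U) Y.obj := by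
  obtain ⟨U, p, hpe, hps, hJ⟩ := hX
  obtain ⟨V, a, hae, has⟩ := Y.property.atlas
  have h1 : AlgSp.LocP @LocallyOfFiniteType (a ≫ f.hom) :=
    Groth.Agent.Lib.AlgSpLocP.locP_comp_of_etale _ a hae f.hom hf
  have h2 : AlgSp.RepWith @LocallyOfFiniteType (a ≫ f.hom) :=
    Groth.Agent.Lib.AlgSpLocP.repWith_of_locP Groth.Agent.Lib.AlgSpLocP.etLocalClass_lft X.property
      (X.property.representable_from_yon (a ≫ f.hom)) h1
  have sq := h2.rep.isPullback' p
  have hsnd : LocallyOfFiniteType (h2.rep.snd p).left := h2.property_snd p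
  have hfe : Etale (h2.rep.fst' p).left := hpe.property _ _ _ sq.flip
  have hfs : Surjective (h2.rep.fst' p).left := hps.property _ _ _ sq.flip
  have : JacobsonSpace ↥U.left := hJ
  have hW : JacobsonSpace ↥(h2.rep.pullback p).left :=
    LocallyOfFiniteType.jacobsonSpace (h2.rep.snd p).left
  exact ⟨h2.rep.pullback p, (AlgSp.yon S).map (h2.rep.fst' p) ≫ a,
    (AlgSp.RepWith @Etale).comp_mem _ _ ((AlgSp.repWith_yon_map_iff _ _).2 hfe) hae,
    (AlgSp.RepWith @Surjective).comp_mem _ _ ((AlgSp.repWith_yon_map_iff _ _).2 hfs) has, hW⟩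

end Groth.Agent.S10401
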