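import Groth.Statements.S10411
import Groth.Agent.Lib.FinLocFreeQuot46b

set_option autoImplicit false
universe u
open CategoryTheory CategoryTheory.Limits AlgebraicGeometry Topology TopologicalSpace
open AlgSp

namespace Groth.Agent.S10411

/-- Let S be a scheme, X and Y algebraic spaces over S, X ⟶ Y a surjective finite locally free morphism,
and y ∈ |Y|. Then y lies in the schematic locus of Y (some open subspace of Y containing y is a
scheme) if and only if there is an affine open subscheme U ⊆ X containing the preimage of y. -/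
theorem result {S : Scheme.{u}} {X Y : AlgSp.Space S} (f : X ⟶ Y)
    (hf : AlgSp.IsFinLocFreeMor f.hom) (hs : AlgSp.RepWith @Surjective f.hom) (y : AlgSp.Points Y.obj) :
    (∃ (Y' : AlgSp.Space S) (j : Y' ⟶ Y), AlgSp.RepWith @IsOpenImmersion j.hom ∧ Y'.obj.obj.IsRepresentable ∧
        y ∈ Set.range (AlgSp.Points.map j.hom)) ↔
      ∃ (U : Over S) (a : (AlgSp.yon S).obj U ⟶ X.obj), IsAffine U.left ∧ AlgSp.RepWith @IsOpenImmersion a ∧
        AlgSp.Points.map f.hom ⁻¹' {y} ⊆ Set.range (AlgSp.Points.ofPt a) := by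

  constructor
  · rintro ⟨Y', j, hj, hrep, y', rfl⟩
    obtain ⟨T, ⟨r⟩⟩ := hrep
    let e : (yon S).obj T ≅ Y'.obj := isoOfRepresentableBy r
    obtain ⟨τ, hτ⟩ : ∃ τ : ↥T.left, Points.ofPt e.hom τ = y' := by
      refine ⟨Points.toScheme T (Points.map e.inv y'), ?_⟩
      rw [Points.ofPt_eq_map_ofScheme, Points.ofScheme_toScheme, ← Points.map_comp, e.inv_hom_id,
        Points.map_id]
    obtain ⟨V, hV, hτV⟩ : ∃ V : T.left.Opens, IsAffineOpen V ∧ τ ∈ V := by
      obtain ⟨V, h1, h2, -⟩ :=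
        (TopologicalSpace.Opens.isBasis_iff_nbhd.1 T.left.isBasis_affineOpens)
          (show τ ∈ (⊤ : T.left.Opens) from trivial)
      exact ⟨V, h1, h2⟩
    have hb0 : RepWith @IsOpenImmersion ((yon S).map
        (Groth.Agent.Lib.AlgSpDecentSpec.restrictOverι T V)) :=
      (AlgSp.repWith_yon_map_iff _ _).2 (inferInstance : IsOpenImmersion V.ι)
    have hb1 : RepWith @IsOpenImmersion (e.hom ≫ j.hom) :=
      MorphismProperty.RespectsIso.precomp _ e.hom _ hj
    have hb : RepWith @IsOpenImmersion ((yon S).map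
        (Groth.Agent.Lib.AlgSpDecentSpec.restrictOverι T V) ≫ e.hom ≫ j.hom) :=
      MorphismProperty.comp_mem _ _ _ hb0 hb1
    have sq := hf.rep.isPullback ((yon S).map
        (Groth.Agent.Lib.AlgSpDecentSpec.restrictOverι T V) ≫ e.hom ≫ j.hom)
    have hfin : IsFinite (hf.rep.snd ((yon S).map
        (Groth.Agent.Lib.AlgSpDecentSpec.restrictOverι T V) ≫ e.hom ≫ j.hom)).left :=
      (hf.property_snd _).1
    have hVaff : IsAffine (Groth.Agent.Lib.AlgSpDecentSpec.restrictOver T V).left := hV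
    refine ⟨hf.rep.pullback ((yon S).map
        (Groth.Agent.Lib.AlgSpDecentSpec.restrictOverι T V) ≫ e.hom ≫ j.hom),
      hf.rep.fst _, isAffine_of_isAffineHom (hf.rep.snd ((yon S).map
        (Groth.Agent.Lib.AlgSpDecentSpec.restrictOverι T V) ≫ e.hom ≫ j.hom)).left,
      Groth.Agent.Lib.AlgSpBasic.repWith_fst_of_isPullback @IsOpenImmersion sq hb, ?_⟩
    intro x hx
    have hx' : Points.map f.hom x = Points.map j.hom y' := hx
    have h : Points.map f.hom x = Points.ofPt ((yon S).map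
        (Groth.Agent.Lib.AlgSpDecentSpec.restrictOverι T V) ≫ e.hom ≫ j.hom)
        ((⟨τ, hτV⟩ : ↥V) : ↥(Groth.Agent.Lib.AlgSpDecentSpec.restrictOver T V).left) := by
      rw [hx', Groth.Agent.Lib.AlgSpPoints.ofPt_yon_map_comp, ← Points.map_ofPt, ← hτ]
      rfl
    obtain ⟨t', -, ht'⟩ := Groth.Agent.Lib.AlgSpPoints.exists_of_isPullback_yon sq x _ h
    exact ⟨t', ht'⟩
  · rintro ⟨U, a, hU, ha, hfib⟩
    obtain ⟨M, g, hM, hg, hmem⟩ :=
      Groth.Agent.Lib.FinEtQuot46.exists_affine_open_of_affine_containing_fibre f hf hs y a hU ha hfib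
    exact ⟨⟨(yon S).obj M, IsAlgSpace.yon_obj M⟩, ObjectProperty.homMk g, hg,
      ⟨M, ⟨representableByOfIso (Iso.refl _)⟩⟩, hmem⟩

end Groth.Agent.S10411
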