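import Groth.Statements.S10412
import Groth.Agent.S10196
import Groth.Agent.Lib.H86AlgSpOpen
import Groth.Agent.Lib.H69AlgSp
import Groth.Agent.Lib.H69FppfLocal

set_option autoImplicit false
set_option linter.style.haveILetI false
universe u
open CategoryTheory CategoryTheory.Limits AlgebraicGeometry Topology TopologicalSpace
open AlgSp

namespace Groth.Agent.S10412

open Groth.Agent.Lib.H86AlgSpPoints Groth.Agent.Lib.H86AlgSpSub Groth.Agent.Lib.H86AlgSpOpen
open Groth.Agent.Lib

/-- For an algebraic space X over a scheme S the following are equivalent: (1) X has a Zariski covering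
by open subspaces X_i, each X_i admitting a surjective, etale and quasi-compact morphism U_i ⟶ X_i
with U_i a scheme; (2) there are etale morphisms U_i ⟶ X from schemes, jointly surjective, such that
for each i both projection morphisms from U_i ×_X U_i to U_i are quasi-compact. -/
theorem result {S : Scheme.{u}} (X : AlgSp.Space S) :
    (∃ (ι : Type u) (Xi : ι → AlgSp.Space S) (j : ∀ i, Xi i ⟶ X) (U : ι → Over S)
        (a : ∀ i, (AlgSp.yon S).obj (U i) ⟶ (Xi i).obj),
        AlgSp.IsZarCover (fun i => (Xi i).obj) (fun i => (j i).hom) ∧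
          ∀ i, AlgSp.RepWith @Etale (a i) ∧ AlgSp.RepWith @Surjective (a i) ∧ AlgSp.RepWith @QuasiCompact (a i)) ↔
      ∃ (ι : Type u) (U : ι → Over S) (φ : ∀ i, (AlgSp.yon S).obj (U i) ⟶ X.obj),
        (∀ i, AlgSp.RepWith @Etale (φ i)) ∧
          (∀ x : AlgSp.Points X.obj, ∃ (i : ι) (v : ↥(U i).left), AlgSp.Points.ofPt (φ i) v = x) ∧
          ∀ (i : ι) (R : Over S) (s t : R ⟶ U i), IsPullback ((AlgSp.yon S).map t) ((AlgSp.yon S).map s) (φ i) (φ i) →
            QuasiCompact s.left ∧ QuasiCompact t.left := by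
  constructor
  · rintro ⟨ι, Xi, j, U, a, ⟨hj, hcov⟩, ha⟩
    have hmono : ∀ i, Mono (j i).hom := fun i =>
      AlgSpBasic.mono_of_repWith (P := @IsOpenImmersion)
        (fun _ _ f (hf : IsOpenImmersion f) => (inferInstance : Mono f)) (hj i)
    refine ⟨ι, U, fun i => a i ≫ (j i).hom, fun i => ?_, fun x => ?_, fun i R s t hpb => ?_⟩
    · exact (RepWith (S := S) @Etale).comp_mem _ _ (ha i).1
        (H69AlgSp.repWith_mono (fun _ _ g (_ : IsOpenImmersion g) => (inferInstance : Etale g)) (hj i))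
    · obtain ⟨i, xi, rfl⟩ := hcov x
      obtain ⟨v, rfl⟩ := ofPt_surjective (ha i).2.1 xi
      exact ⟨i, v, (Points.map_ofPt _ _ _).symm⟩
    · haveI := hmono i
      have hpb' : IsPullback ((yon S).map t) ((yon S).map s) (a i) (a i) :=
        isPullback_of_comp_mono (j i).hom hpb
      exact ⟨(ha i).2.2.2 (a i) _ s hpb', (ha i).2.2.2 (a i) _ t hpb'.flip⟩
  · rintro ⟨ι, U, φ, hφ, hcov, hqc⟩
    have hW : ∀ i, IsOpen (Set.range (Points.ofPt (φ i))) := fun i =>
      (isOpenMap_ofPt (hφ i)).isOpen_range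
    let Xi : ι → AlgSp.Space S := fun i =>
      ⟨openSub X.obj (Set.range (Points.ofPt (φ i))), isAlgSpace_openSub X.property (hW i)⟩
    let j : ∀ i, Xi i ⟶ X := fun i => ObjectProperty.homMk (openSubι X.obj _)
    have hjrep : ∀ i, RepWith @IsOpenImmersion (j i).hom := fun i => openSubι_repWith (hW i)
    have hjrange : ∀ i, Set.range (Points.map (j i).hom) = Set.range (Points.ofPt (φ i)) :=
      fun i => range_map_openSubι
    have key : ∀ i, ∃ a' : (yon S).obj (U i) ⟶ (Xi i).obj, RepWith @Etale a' ∧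
        RepWith @Surjective a' ∧ RepWith @QuasiCompact a' := by
      intro i
      obtain ⟨a', ha'j, ha'e, ha's, ha'p⟩ :=
        Groth.Agent.S10196.result (φ i) (hφ i) (j i) (hjrep i) (hjrange i)
      refine ⟨a', ha'e, ha's, ?_⟩
      obtain ⟨R, s, fst, hpb⟩ := (hφ i).1 (φ i)
      obtain ⟨t, rfl⟩ := (yon S).map_surjective fst
      have hP := ha'p R s t hpb
      haveI : QuasiCompact s.left := (hqc i R s t hpb).1
      exact (H69AlgSp.repWith_iff_of_chart a' ha'e.1 a' ha'e ha's _ s hP.isPullback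
        @QuasiCompact).2 inferInstance
    choose a' ha'e ha's ha'q using key
    refine ⟨ι, Xi, j, U, a', ⟨hjrep, fun x => ?_⟩, fun i => ⟨ha'e i, ha's i, ha'q i⟩⟩
    obtain ⟨i, v, rfl⟩ := hcov x
    refine ⟨i, ?_⟩
    rw [hjrange i]
    exact ⟨v, rfl⟩

end Groth.Agent.S10412
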