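import Groth.Statements.S10414
import Groth.Agent.Lib.AlgSpFppfSingle3
import Groth.Agent.Lib.H80DecentPt
import Groth.Agent.Lib.H69AlgSpLocST
import Groth.Agent.Lib.AlgSpMonoPt
open Groth.Agent.Lib.H80DecentPt Groth.Agent.Lib.AlgSpMonoPt

set_option autoImplicit false
universe u
open CategoryTheory CategoryTheory.Limits AlgebraicGeometry Topology TopologicalSpace
open AlgSp

namespace Groth.Agent.S10414

/-- Let S be a scheme, X an algebraic space over S, x ∈ |X|, and Z_x ⟶ X the residual space of x (a
monomorphism with image {x} from a space which admits a locally finitely presented, flat, surjective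
morphism whose source is the spectrum of a field). Then Z_x is isomorphic to Spec k' for some field
k' if and only if the point x is represented by some monomorphism Spec k ⟶ X. (The decent case, in
which the right side holds at every point, is not part of this row.) -/
theorem result {S : Scheme.{u}} (X : AlgSp.Space S) (x : AlgSp.Points X.obj)
    {Z : AlgSp.Space S} (i : Z ⟶ X) [Mono i.hom] (hi : Set.range (AlgSp.Points.map i.hom) = {x})
    (hZ : ∃ (k : Type u) (_ : Field k) (str : Spec (CommRingCat.of k) ⟶ S) (p : (AlgSp.yon S).obj (Over.mk str) ⟶ Z.obj),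
        AlgSp.LocP @LocallyOfFinitePresentation p ∧ AlgSp.LocP @Flat p ∧ AlgSp.IsSurjectiveMor p) :
    (∃ (k : Type u) (_ : Field k) (str : Spec (CommRingCat.of k) ⟶ S), Nonempty (Z.obj ≅ (AlgSp.yon S).obj (Over.mk str))) ↔
      ∃ p : AlgSp.FieldPt X.obj, AlgSp.Points.mk p = x ∧ Mono p.toHom := by
  constructor
  · rintro ⟨k, _, str, ⟨e⟩⟩
    refine ⟨ofHom str (e.inv ≫ i.hom), ?_, ?_⟩
    · have h1 := Points.ofPt_toHom (ofHom str (e.inv ≫ i.hom)) (IsLocalRing.closedPoint k)
      rw [← h1, toHom_ofHom]
      have h2 : Points.ofPt (e.inv ≫ i.hom) (IsLocalRing.closedPoint k) ∈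
          Set.range (Points.map i.hom) := ⟨Points.ofPt e.inv (IsLocalRing.closedPoint k), rfl⟩
      rw [hi] at h2
      exact h2
    · rw [toHom_ofHom]
      exact mono_comp _ _
  · rintro ⟨p, hpx, hmono⟩
    subst hpx
    obtain ⟨e, -⟩ := Groth.Agent.Lib.AlgSpFppfSingle.exists_iso_of_mono_same_image X.property
      Z.property (IsAlgSpace.yon_obj p.pt) i.hom p.toHom (Points.mk p) hi (range_map_toHom p) hZ
      ⟨p.K, inferInstance, p.str, 𝟙 _,
        Groth.Agent.Lib.H69AlgSpLocST.locP_id (fun _ _ l hl => by have := hl; infer_instance)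
          (IsAlgSpace.yon_obj p.pt),
        Groth.Agent.Lib.H69AlgSpLocST.locP_id (fun _ _ l hl => by have := hl; infer_instance)
          (IsAlgSpace.yon_obj p.pt),
        fun y => ⟨y, Points.map_id y⟩⟩
    exact ⟨p.K, inferInstance, p.str, ⟨e.symm⟩⟩

end Groth.Agent.S10414
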