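import Groth.Statements.S10416
import Groth.Agent.S10192
import Groth.Agent.S10368
import Groth.Agent.Lib.AlgSpFppfSingle3
import Groth.Agent.Lib.H69AlgSp
import Groth.Agent.Lib.H86AlgSpOpen
import Groth.Agent.Lib.AlgSpPoints
import Groth.Agent.Lib.AlgSpLocNoeth46
open Groth.Agent.Lib.AlgSpBasic Groth.Agent.Lib.AlgSpPoints Groth.Agent.Lib.AlgSpLocNoeth46

set_option autoImplicit false
universe u
open CategoryTheory CategoryTheory.Limits AlgebraicGeometry Topology TopologicalSpace
open AlgSp

namespace Groth.Agent.S10416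

/-- Let S be a scheme, X a locally Noetherian algebraic space over S, x ∈ |X|, and i : Z_x ⟶ X the
residual space at x. Then x is closed in |X| if and only if i is a closed immersion. -/
theorem result {S : Scheme.{u}} {X Z : AlgSp.Space S}
    (hX : AlgSp.IsLocNoethSp X.obj) (x : AlgSp.Points X.obj) (i : Z ⟶ X) [Mono i.hom]
    (hi : Set.range (AlgSp.Points.map i.hom) = {x}) (hZ : ∃ (k : Type u) (_ : Field k) (str : Spec (CommRingCat.of k) ⟶ S) (p : (AlgSp.yon S).obj (Over.mk str) ⟶ Z.obj),
        AlgSp.LocP @LocallyOfFinitePresentation p ∧ AlgSp.LocP @Flat p ∧ AlgSp.IsSurjectiveMor p) :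
    IsClosed ({x} : Set (AlgSp.Points X.obj)) ↔ AlgSp.RepWith @IsClosedImmersion i.hom := by
  constructor
  · intro hx
    obtain ⟨Z', i', hci, hrange, hred⟩ := Groth.Agent.S10192.result X {x} hx
    have hm' : Mono i'.hom := Groth.Agent.Lib.H69AlgSp.mono_of_repWith_isClosedImmersion hci
    have hinj := Groth.Agent.Lib.H86AlgSpOpen.map_injective_of_mono i'.hom
    have hN : IsLocNoethSp Z'.obj := isLocNoethSp_of_repWith_lft i'.hom
      (repWith_mono (fun _ _ f hf => by have := hf; infer_instance) hci) hX
    have hne : Nonempty (Points Z'.obj) := by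
      have : x ∈ Set.range (Points.map i'.hom) := by rw [hrange]; rfl
      obtain ⟨z, -⟩ := this
      exact ⟨z⟩
    have hsub : Subsingleton (Points Z'.obj) := by
      refine ⟨fun z z' => hinj ?_⟩
      have h1 : Points.map i'.hom z ∈ Set.range (Points.map i'.hom) := ⟨z, rfl⟩
      have h2 : Points.map i'.hom z' ∈ Set.range (Points.map i'.hom) := ⟨z', rfl⟩
      rw [hrange, Set.mem_singleton_iff] at h1 h2
      rw [h1, h2]
    have hZ' := (Groth.Agent.S10368.result Z').1 ⟨hred, hN, hne, hsub⟩
    obtain ⟨e, he⟩ := Groth.Agent.Lib.AlgSpFppfSingle.exists_iso_of_mono_same_image X.property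
      Z'.property Z.property i'.hom i.hom x hrange hi hZ' hZ
    rw [← he]
    exact (MorphismProperty.cancel_left_of_respectsIso (RepWith @IsClosedImmersion) e.hom i'.hom).2 hci
  · intro hci
    have hcm : IsClosedMap (Points.map i.hom) :=
      isClosedMap_map_of_representable hci.rep (fun T g => by
        have : IsClosedImmersion (hci.rep.snd g).left := hci.property_snd g
        exact (hci.rep.snd g).left.isClosedEmbedding.isClosedMap)
    rw [← hi]
    exact hcm.isClosed_range

end Groth.Agent.S10416
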