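import Groth.Statements.S10417
import Groth.Agent.Lib.H86QFFibre

set_option linter.style.haveILetI false

set_option autoImplicit false
universe u
open CategoryTheory CategoryTheory.Limits AlgebraicGeometry Topology TopologicalSpace
open AlgSp

namespace Groth.Agent.S10417

/-- Let W = X ×_Y Z be a fibre product of algebraic spaces over a scheme S with projections p, q and let
x ∈ |X|, z ∈ |Z| lie over the same point of |Y|. If f : X ⟶ Y is of finite type and quasi-finite at
x, then the set of points of |W| mapping to x and to z is finite. -/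
theorem result {S : Scheme.{u}} {X Y Z W : AlgSp.Space S} (f : X ⟶ Y)
    (g : Z ⟶ Y) (p : W ⟶ X) (q : W ⟶ Z) (hW : IsPullback p.hom q.hom f.hom g.hom) (x : AlgSp.Points X.obj)
    (z : AlgSp.Points Z.obj) (hxz : AlgSp.Points.map f.hom x = AlgSp.Points.map g.hom z)
    (hft : AlgSp.IsFiniteTypeMor f.hom) (hf : AlgSp.HasAtMor (fun U _ h u => ∃ W : U.Opens, u ∈ W ∧ LocallyQuasiFinite (W.ι ≫ h) ∧ LocallyOfFiniteType (W.ι ≫ h)) f.hom x) :
    {w : AlgSp.Points W.obj | AlgSp.Points.map p.hom w = x ∧ AlgSp.Points.map q.hom w = z}.Finite := by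
  induction z using Points.ind with | h ζ => ?_
  have s1 := IsPullback.of_hasPullback q.hom ζ.toHom
  have sq := s1.paste_horiz hW
  have hfin := Groth.Agent.Lib.H86QFFibre.finite_fibre_core X.property Y.property f.hom hft x hf
    ζ.str (ζ.toHom ≫ g.hom) (pullback.fst q.hom ζ.toHom ≫ p.hom) (pullback.snd q.hom ζ.toHom) sq
  refine (hfin.image (Points.map (pullback.fst q.hom ζ.toHom))).subset ?_
  rintro w ⟨hw1, hw2⟩
  let pt₀ : ↥ζ.pt.left := (IsLocalRing.closedPoint ζ.K : ↥(Spec (CommRingCat.of ζ.K)))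
  have hζ : Points.mk ζ = Points.map ζ.toHom (Points.ofScheme ζ.pt pt₀) :=
    (Points.ofPt_toHom ζ pt₀).symm.trans (Points.ofPt_eq_map_ofScheme _ _)
  obtain ⟨w', hw'1, -⟩ := Groth.Agent.Lib.AlgSpPoints.exists_point_of_isPullback s1 w
    (Points.ofScheme ζ.pt pt₀) (by rw [hw2, hζ])
  refine ⟨w', ?_, hw'1⟩
  change Points.map (pullback.fst q.hom ζ.toHom ≫ p.hom) w' = x
  rw [Points.map_comp, hw'1, hw1]

end Groth.Agent.S10417
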