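import Groth.Statements.S10422
import Mathlib
-- import your own Groth.Agent.* helpers here

set_option autoImplicit false
universe u
open Topology TopologicalSpace TensorProduct
open AlgSp

namespace Groth.Agent.S10422

open TensorProduct

/-- Finitely many field extensions of `k` embed in a common field. -/
theorem exists_common_field (k : Type u) [Field k] (K : ℕ → Type u) [∀ n, Field (K n)]
    [∀ n, Algebra k (K n)] (F : Finset ℕ) :
    ∃ (Ω : Type u) (_ : Field Ω) (_ : Algebra k Ω), ∀ n ∈ F, Nonempty (K n →ₐ[k] Ω) := by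
  classical
  induction F using Finset.induction_on with
  | empty => exact ⟨k, inferInstance, inferInstance, by simp⟩
  | insert n F hn ih =>
    obtain ⟨Ω, _, _, h⟩ := ih
    have hnt : Nontrivial (Ω ⊗[k] K n) :=
      Algebra.TensorProduct.nontrivial_of_algebraMap_injective_of_isDomain k Ω (K n)
        (algebraMap k Ω).injective (algebraMap k (K n)).injective
    obtain ⟨m, hm⟩ := Ideal.exists_maximal (Ω ⊗[k] K n)
    letI := Ideal.Quotient.field m
    refine ⟨(Ω ⊗[k] K n) ⧸ m, inferInstance, inferInstance, ?_⟩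
    intro j hj
    rcases Finset.mem_insert.mp hj with rfl | hj
    · exact ⟨(Ideal.Quotient.mkₐ k m).comp Algebra.TensorProduct.includeRight⟩
    · obtain ⟨f⟩ := h j hj
      exact ⟨((Ideal.Quotient.mkₐ k m).comp Algebra.TensorProduct.includeLeft).comp f⟩

theorem key {A k : Type u} [CommRing A] [Field k] (p : ℕ → PrimeSpectrum A) (K : ℕ → Type u)
    [∀ n, Field (K n)] [∀ n, Algebra A (K n)] [∀ n, Algebra k (K n)]
    (hker : ∀ n, RingHom.ker (algebraMap A (K n)) = (p n).asIdeal)
    (φ : ∀ n m, (A ⊗[ℤ] A) →+* (K n ⊗[k] K m))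
    (hφ : ∀ n m a b, φ n m (a ⊗ₜ b) = algebraMap A (K n) a ⊗ₜ algebraMap A (K m) b) :
    (closure (⋃ (n : ℕ) (m : ℕ) (_ : n ≠ m), Set.range (PrimeSpectrum.comap (φ n m))) ∩
      Set.range (PrimeSpectrum.comap
        (Algebra.TensorProduct.lmul' (S := A) ℤ).toRingHom)).Nonempty := by
  classical
  let 𝒰 : Ultrafilter ℕ := Filter.hyperfilter ℕ
  let q : Ideal A :=
    { carrier := {a | ∀ᶠ n in (𝒰 : Filter ℕ), a ∈ (p n).asIdeal}
      add_mem' := fun {a b} ha hb => by
        have ha' : ∀ᶠ n in (𝒰 : Filter ℕ), a ∈ (p n).asIdeal := ha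
        have hb' : ∀ᶠ n in (𝒰 : Filter ℕ), b ∈ (p n).asIdeal := hb
        show ∀ᶠ n in (𝒰 : Filter ℕ), a + b ∈ (p n).asIdeal
        filter_upwards [ha', hb'] with n h1 h2 using Ideal.add_mem _ h1 h2
      zero_mem' := Filter.Eventually.of_forall fun n => Ideal.zero_mem _
      smul_mem' := fun c a ha => by
        have ha' : ∀ᶠ n in (𝒰 : Filter ℕ), a ∈ (p n).asIdeal := ha
        show ∀ᶠ n in (𝒰 : Filter ℕ), c • a ∈ (p n).asIdeal
        filter_upwards [ha'] with n h1 using Ideal.mul_mem_left _ c h1 }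
  have hqmem : ∀ a, a ∈ q ↔ ∀ᶠ n in (𝒰 : Filter ℕ), a ∈ (p n).asIdeal := fun a => Iff.rfl
  have hq : q.IsPrime := by
    constructor
    · rw [Ideal.ne_top_iff_one]
      intro h1
      obtain ⟨n, hn⟩ := ((hqmem 1).mp h1).exists
      exact (p n).isPrime.ne_top ((Ideal.eq_top_iff_one _).mpr hn)
    · intro a b hab
      have : ∀ᶠ n in (𝒰 : Filter ℕ), a ∈ (p n).asIdeal ∨ b ∈ (p n).asIdeal := by
        filter_upwards [(hqmem _).mp hab] with n h using (p n).isPrime.mem_or_mem h
      rcases Ultrafilter.eventually_or.mp this with h | h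
      · exact Or.inl ((hqmem a).mpr h)
      · exact Or.inr ((hqmem b).mpr h)
  refine ⟨PrimeSpectrum.comap (Algebra.TensorProduct.lmul' (S := A) ℤ).toRingHom ⟨q, hq⟩, ?_,
    ⟨_, rfl⟩⟩
  rw [← PrimeSpectrum.zeroLocus_vanishingIdeal_eq_closure, PrimeSpectrum.mem_zeroLocus]
  intro h hh
  rw [SetLike.mem_coe, PrimeSpectrum.mem_vanishingIdeal] at hh
  show (Algebra.TensorProduct.lmul' (S := A) ℤ) h ∈ q
  by_contra hcon
  have hS : ∀ᶠ n in (𝒰 : Filter ℕ),
      (Algebra.TensorProduct.lmul' (S := A) ℤ) h ∉ (p n).asIdeal :=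
    Ultrafilter.eventually_not.mpr (fun hc => hcon ((hqmem _).mpr hc))
  obtain ⟨S, hSum⟩ := TensorProduct.exists_finset h
  -- the infinite set of good indices
  have hinf : Set.Infinite {n | (Algebra.TensorProduct.lmul' (S := A) ℤ) h ∉ (p n).asIdeal} := by
    intro hfin
    exact Filter.notMem_hyperfilter_of_finite hfin hS
  obtain ⟨F, hFsub, hFcard⟩ := hinf.exists_subset_card_eq (S.card + 1)
  obtain ⟨Ω, _, _, hΩ⟩ := exists_common_field k K F
  have hΩ' : ∀ n : F, Nonempty (K n.1 →ₐ[k] Ω) := fun n => hΩ n.1 n.2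
  let u : ∀ n : F, K n.1 →ₐ[k] Ω := fun n => (hΩ' n).some
  -- the vectors
  let α : F → (S → Ω) := fun n i => u n (algebraMap A (K n.1) i.1.1)
  let β : F → (S → Ω) := fun n i => u n (algebraMap A (K n.1) i.1.2)
  have hlmul : (Algebra.TensorProduct.lmul' (S := A) ℤ) h = ∑ i ∈ S, i.1 * i.2 := by
    rw [hSum, map_sum]
    refine Finset.sum_congr rfl fun i _ => ?_
    simp
  have hD : ∀ n : F, ∑ i : S, α n i * β n i ≠ 0 := by
    intro n
    have h1 : ∑ i : S, α n i * β n i =
        u n (algebraMap A (K n.1) ((Algebra.TensorProduct.lmul' (S := A) ℤ) h)) := by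
      rw [hlmul, map_sum, map_sum, ← Finset.sum_coe_sort S]
      refine Finset.sum_congr rfl fun i _ => ?_
      simp [α, β]
    rw [h1]
    intro h0
    have h2 : algebraMap A (K n.1) ((Algebra.TensorProduct.lmul' (S := A) ℤ) h) = 0 :=
      (u n).toRingHom.injective (by simpa using h0)
    have h3 : (Algebra.TensorProduct.lmul' (S := A) ℤ) h ∈ (p n.1).asIdeal := by
      rw [← hker, RingHom.mem_ker]; exact h2
    exact hFsub n.2 h3
  have hO : ∀ n m : F, n ≠ m → ∑ i : S, α n i * β m i = 0 := by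
    intro n m hnm
    let ψ : K n.1 ⊗[k] K m.1 →ₐ[k] Ω := Algebra.TensorProduct.productMap (u n) (u m)
    have hprime : (RingHom.ker ψ.toRingHom).IsPrime := RingHom.ker_isPrime _
    have hx : PrimeSpectrum.comap (φ n.1 m.1) ⟨RingHom.ker ψ.toRingHom, hprime⟩ ∈
        ⋃ (n : ℕ) (m : ℕ) (_ : n ≠ m), Set.range (PrimeSpectrum.comap (φ n m)) := by
      simp only [Set.mem_iUnion]
      exact ⟨n.1, m.1, fun hc => hnm (Subtype.ext hc), ⟨_, rfl⟩⟩
    have h1 := hh _ hx
    have h2 : ψ (φ n.1 m.1 h) = 0 := h1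
    rw [hSum, map_sum, map_sum] at h2
    rw [← h2, ← Finset.sum_coe_sort S]
    refine Finset.sum_congr rfl fun i _ => ?_
    rw [hφ]
    simp [α, β, ψ]
  -- linear independence
  have hli : LinearIndependent Ω β := by
    rw [Fintype.linearIndependent_iff]
    intro g hg n
    have h1 : ∑ i : S, α n i * (∑ m : F, g m • β m) i = 0 := by
      rw [hg]; simp
    have h2 : ∑ i : S, α n i * (∑ m : F, g m • β m) i = ∑ m : F, g m * ∑ i : S, α n i * β m i := by
      simp only [Finset.sum_apply, Pi.smul_apply, smul_eq_mul, Finset.mul_sum]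
      rw [Finset.sum_comm]
      refine Finset.sum_congr rfl fun m _ => Finset.sum_congr rfl fun i _ => ?_
      ring
    rw [h2, Finset.sum_eq_single n] at h1
    · exact (mul_eq_zero.mp h1).resolve_right (hD n)
    · intro m _ hmn
      rw [hO n m (Ne.symm hmn), mul_zero]
    · intro hn; exact absurd (Finset.mem_univ n) hn
  have hcard := hli.fintype_card_le_finrank
  rw [Module.finrank_pi, Fintype.card_coe, Fintype.card_coe, hFcard] at hcard
  omega

/-- Let A be a ring, k a field, (p_n) a sequence of primes of A which are pairwise distinct, and k →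
κ(p_n) field embeddings. Then the closure in Spec(A ⊗ A) of the image of ∐_{n ≠ m} Spec(κ(p_n) ⊗_k
κ(p_m)) meets the diagonal. Here κ(p_n) is any A-algebra K_n which is a field whose structure map
has kernel p_n and whose elements are quotients of images of elements of A. -/
theorem result (A : Type u) [CommRing A] (k : Type u) [Field k]
    (p : ℕ → PrimeSpectrum A) (hp : Function.Injective p) (K : ℕ → Type u) [∀ n, Field (K n)]
    [∀ n, Algebra A (K n)] [∀ n, Algebra k (K n)]
    (hker : ∀ n, RingHom.ker (algebraMap A (K n)) = (p n).asIdeal)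
    (hfrac : ∀ n (x : K n), ∃ a b : A, algebraMap A (K n) b ≠ 0 ∧ x * algebraMap A (K n) b = algebraMap A (K n) a) :
    (closure (⋃ (n : ℕ) (m : ℕ) (_ : n ≠ m),
        Set.range (PrimeSpectrum.comap
          (Algebra.TensorProduct.lift
            ((Algebra.TensorProduct.includeLeft (R := k) (S := ℤ) (A := K n) (B := K m)).toRingHom.toIntAlgHom.comp
              (Algebra.ofId A (K n)).toRingHom.toIntAlgHom)
            ((Algebra.TensorProduct.includeRight (R := k) (A := K n) (B := K m)).toRingHom.toIntAlgHom.comp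
              (Algebra.ofId A (K m)).toRingHom.toIntAlgHom)
            (fun _ _ => Commute.all _ _)).toRingHom)) ∩
      Set.range (PrimeSpectrum.comap (Algebra.TensorProduct.lmul' (S := A) ℤ).toRingHom)).Nonempty := by
  refine key p K hker _ ?_
  intro n m a b
  simp
  

end Groth.Agent.S10422
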