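import Groth.Statements.S10424
import Groth.Agent.Lib.H86AlgSpPoints
import Groth.Agent.Lib.H86FinDeg3
set_option linter.style.haveILetI false

set_option autoImplicit false
universe u
open CategoryTheory CategoryTheory.Limits AlgebraicGeometry Topology TopologicalSpace
open AlgSp

namespace Groth.Agent.S10424

open Groth.Agent.Lib.H86AlgSpPoints Groth.Agent.Lib.H86FinDeg

/-- Let X be an algebraic space over a scheme S, V ⟶ U a morphism of schemes over S and U ⟶ X a
morphism. Suppose that the fibres of V ⟶ U and of U ⟶ X are universally bounded. Then V ⟶ X also has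
universally bounded fibres. -/
theorem result {S : Scheme.{u}} (X : AlgSp.Space S) {U V : Over S} (f : V ⟶ U)
    (g : (AlgSp.yon S).obj U ⟶ X.obj) (hf : W4dec.HasUnivBddFibres ((AlgSp.yon S).map f)) (hg : W4dec.HasUnivBddFibres g) :
    W4dec.HasUnivBddFibres ((AlgSp.yon S).map f ≫ g) := by
  obtain ⟨m, hm⟩ := hf
  obtain ⟨n, hn⟩ := hg
  refine ⟨m * n, ?_⟩
  intro q T c snd hsq
  obtain ⟨sndl, rfl⟩ := (AlgSp.yon S).map_surjective snd
  obtain ⟨T₁, c₁, fst₁, hpb₁⟩ := X.property.representable_from_yon g q.toHom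
  obtain ⟨u₁, rfl⟩ := (AlgSp.yon S).map_surjective fst₁
  have hdeg₁ : FinDegLE n c₁.left := hn q T₁ c₁ _ hpb₁.flip
  have hw : ((AlgSp.yon S).map sndl ≫ (AlgSp.yon S).map f) ≫ g = (AlgSp.yon S).map c ≫ q.toHom := by
    rw [Category.assoc]; exact hsq.w.symm
  obtain ⟨r, hr⟩ := (AlgSp.yon S).map_surjective (hpb₁.lift _ _ hw)
  have hr1 : (AlgSp.yon S).map r ≫ (AlgSp.yon S).map u₁ = (AlgSp.yon S).map sndl ≫ (AlgSp.yon S).map f := by
    rw [hr]; exact hpb₁.lift_fst _ _ _
  have hr2 : (AlgSp.yon S).map r ≫ (AlgSp.yon S).map c₁ = (AlgSp.yon S).map c := by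
    rw [hr]; exact hpb₁.lift_snd _ _ _
  have hrc : r ≫ c₁ = c := (AlgSp.yon S).map_injective (by rw [Functor.map_comp, hr2])
  have sqT : IsPullback ((AlgSp.yon S).map r) ((AlgSp.yon S).map sndl) ((AlgSp.yon S).map u₁)
      ((AlgSp.yon S).map f) := by
    refine IsPullback.of_right ?_ hr1 hpb₁.flip
    rw [hr2]
    exact hsq
  have hcl : c.left = r.left ≫ c₁.left := by rw [← hrc]; rfl
  rw [hcl]
  refine finDegLE_comp (K := q.K) r.left c₁.left hdeg₁ ?_
  intro L _ z P a b hpb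
  -- the field point of `U`
  let pL : AlgSp.FieldPt ((AlgSp.yon S).obj U) :=
    ⟨L, z ≫ T₁.hom, ⟨Over.homMk (z ≫ u₁.left) (by rw [Category.assoc, Over.w u₁]; rfl)⟩⟩
  let zO : pL.pt ⟶ T₁ := Over.homMk z rfl
  have hpL : pL.toHom = (AlgSp.yon S).map zO ≫ (AlgSp.yon S).map u₁ := by
    rw [← Functor.map_comp]
    have : pL.toHom = yE.symm pL.val := rfl
    rw [this, Equiv.symm_apply_eq, yE_yon_map]
    rfl
  have hwP : a ≫ T.hom = b ≫ z ≫ T₁.hom := by
    rw [← Over.w r, ← Category.assoc, hpb.w, Category.assoc]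
  let PO : Over S := Over.mk (b ≫ z ≫ T₁.hom)
  let bO : PO ⟶ pL.pt := Over.homMk b rfl
  let aO : PO ⟶ T := Over.homMk a hwP
  have sqO : IsPullback aO bO r zO := by
    apply IsPullback.of_map_of_faithful (Over.forget S)
    exact hpb
  have sqY := (sqO.map (AlgSp.yon S)).flip
  have sqP := sqY.paste_vert sqT
  rw [← hpL] at sqP
  exact hm pL PO bO _ sqP

end Groth.Agent.S10424
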