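import Groth.Statements.S10426
import Groth.Agent.Lib.H86AlgSpPoints
import Groth.Agent.Lib.H86FinDeg2
set_option linter.style.haveILetI false

set_option autoImplicit false
universe u
open CategoryTheory CategoryTheory.Limits AlgebraicGeometry Topology TopologicalSpace
open AlgSp

namespace Groth.Agent.S10426

open Groth.Agent.Lib.H86AlgSpPoints Groth.Agent.Lib.H86FinDeg

/-- Let S be a scheme, X and Y algebraic spaces over S, and g : Y ⟶ X a representable morphism; let U be
a scheme, f : U ⟶ X a morphism, and f′ : U ×_X Y ⟶ Y its base change. Assume the image of |U| → |X|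
is contained in the image of |Y| → |X| and that f′ has universally bounded fibres. Then the morphism
f also has universally bounded fibres. -/
theorem result {S : Scheme.{u}} {X Y : AlgSp.Space S} (g : Y ⟶ X)
    (hg : AlgSp.Representable g.hom) {U V : Over S} (f : (AlgSp.yon S).obj U ⟶ X.obj)
    (fst : (AlgSp.yon S).obj V ⟶ (AlgSp.yon S).obj U) (f' : (AlgSp.yon S).obj V ⟶ Y.obj) (h : IsPullback fst f' f g.hom)
    (him : Set.range (AlgSp.Points.ofPt f) ⊆ Set.range (AlgSp.Points.map g.hom)) (hf' : W4dec.HasUnivBddFibres f') :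
    W4dec.HasUnivBddFibres f := by
  obtain ⟨n, hn⟩ := hf'
  refine ⟨n, ?_⟩
  intro q T c snd hsq
  obtain ⟨sndl, rfl⟩ := (AlgSp.yon S).map_surjective snd
  by_cases hT : IsEmpty ↥T.left
  · exact finDegLE_of_isEmpty (K := q.K) c.left n
  rw [not_isEmpty_iff] at hT
  obtain ⟨t⟩ := hT
  -- the point `mk q` is in the image of `|U|`, hence of `|Y|`
  have hq : AlgSp.Points.ofPt f (sndl.left t) = AlgSp.Points.mk q := by
    rw [← ofPt_map_comp sndl f t, ← hsq.w, ofPt_map_comp, AlgSp.Points.ofPt_toHom]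
  obtain ⟨y, hy⟩ := him ⟨_, hq⟩
  induction y using AlgSp.Points.ind with
  | h q' =>
  rw [AlgSp.Points.map_mk, AlgSp.Points.mk_eq_mk_iff] at hy
  obtain ⟨Ω, _, w, a, b, hab⟩ := hy
  -- the common extension as a field point of `Y`
  let q'' : AlgSp.FieldPt Y.obj := ⟨Ω, w, Y.obj.obj.map a.op q'.val⟩
  have hq'' : q''.toHom ≫ g.hom = (AlgSp.yon S).map b ≫ q.toHom := by
    rw [← AlgSp.FieldPt.toHom_map]
    have e1 : (AlgSp.yon S).map b ≫ q.toHom = yE.symm (X.obj.obj.map b.op q.val) :=
      yon_map_comp_yE_symm b q.val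
    rw [e1, ← hab]
    show yE.symm (g.hom.hom.app _ (Y.obj.obj.map a.op q'.val)) = _
    congr 1
    exact NatTrans.naturality_apply g.hom.hom a.op q'.val
  -- base change of `T` to `Ω`
  have sq0 : IsPullback (pullback.fst c b) (pullback.snd c b) c b := IsPullback.of_hasPullback _ _
  have sq1 := sq0.map (AlgSp.yon S)
  have sq2 : IsPullback (pullback.fst c b).left (pullback.snd c b).left c.left b.left :=
    sq0.map (Over.forget S)
  -- outer rectangle
  have sq3 : IsPullback ((AlgSp.yon S).map (pullback.fst c b) ≫ (AlgSp.yon S).map sndl)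
      ((AlgSp.yon S).map (pullback.snd c b)) f ((AlgSp.yon S).map b ≫ q.toHom) :=
    (sq1.flip.paste_vert hsq).flip
  have hcomm : ((AlgSp.yon S).map (pullback.fst c b) ≫ (AlgSp.yon S).map sndl) ≫ f =
      ((AlgSp.yon S).map (pullback.snd c b) ≫ q''.toHom) ≫ g.hom := by
    rw [Category.assoc _ _ g.hom, hq'']
    exact sq3.w
  let l : (AlgSp.yon S).obj (pullback c b) ⟶ (AlgSp.yon S).obj V := h.lift _ _ hcomm
  have hl1 : l ≫ fst = (AlgSp.yon S).map (pullback.fst c b) ≫ (AlgSp.yon S).map sndl := h.lift_fst _ _ _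
  have hl2 : l ≫ f' = (AlgSp.yon S).map (pullback.snd c b) ≫ q''.toHom := h.lift_snd _ _ _
  have sq4 : IsPullback ((AlgSp.yon S).map (pullback.snd c b)) l q''.toHom f' := by
    refine IsPullback.of_bot ?_ hl2.symm h.flip
    rw [hl1, hq'']
    exact sq3.flip
  have h5 : FinDegLE n (pullback.snd c b).left := hn q'' _ _ l sq4
  exact finDegLE_of_isPullback_field (K := q.K) (Ω := Ω) sq2 h5

end Groth.Agent.S10426
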