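import Groth.Statements.S10427
import Groth.Agent.Lib.H86FinDeg
set_option linter.style.haveILetI false

set_option autoImplicit false
universe u
open CategoryTheory CategoryTheory.Limits AlgebraicGeometry Topology TopologicalSpace
open AlgSp

namespace Groth.Agent.S10427

open Groth.Agent.Lib.H86FinDeg

/-- Let X be an algebraic space over a scheme S and U ⟶ V ⟶ X with U, V schemes, U ⟶ V surjective and
flat. If U ⟶ X has universally bounded fibres, then so does V ⟶ X. -/
theorem result {S : Scheme.{u}} (X : AlgSp.Space S) {U V : Over S} (f : U ⟶ V)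
    [Surjective f.left] [Flat f.left] (h : (AlgSp.yon S).obj V ⟶ X.obj) (hg : W4dec.HasUnivBddFibres ((AlgSp.yon S).map f ≫ h)) :
    W4dec.HasUnivBddFibres h := by
  obtain ⟨n, hn⟩ := hg
  refine ⟨n, ?_⟩
  intro q T' c' snd' hsq
  obtain ⟨s', rfl⟩ := (AlgSp.yon S).map_surjective snd'
  have sq0 : IsPullback (pullback.fst s' f) (pullback.snd s' f) s' f := IsPullback.of_hasPullback _ _
  have sq1 : IsPullback ((AlgSp.yon S).map (pullback.fst s' f)) ((AlgSp.yon S).map (pullback.snd s' f))
      ((AlgSp.yon S).map s') ((AlgSp.yon S).map f) := sq0.map (AlgSp.yon S)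
  have sq2 : IsPullback (pullback.fst s' f).left (pullback.snd s' f).left s'.left f.left :=
    sq0.map (Over.forget S)
  haveI : Flat (pullback.fst s' f).left := MorphismProperty.of_isPullback (P := @Flat) sq2.flip inferInstance
  haveI : Surjective (pullback.fst s' f).left :=
    MorphismProperty.of_isPullback (P := @Surjective) sq2.flip inferInstance
  have sq3 : IsPullback ((AlgSp.yon S).map (pullback.fst s' f ≫ c')) ((AlgSp.yon S).map (pullback.snd s' f))
      q.toHom ((AlgSp.yon S).map f ≫ h) := by
    rw [Functor.map_comp]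
    exact sq1.paste_horiz hsq
  have h1 : FinDegLE n (pullback.fst s' f ≫ c').left := hn q _ _ _ sq3
  exact finDegLE_of_flat_surjective_comp (K := q.K) (pullback.fst s' f).left c'.left h1

end Groth.Agent.S10427
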