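import Groth.Statements.S10428
import Groth.Agent.Lib.H86AlgSpPoints
import Groth.Agent.Lib.H86FinDeg
set_option linter.style.haveILetI false

set_option autoImplicit false
universe u
open CategoryTheory CategoryTheory.Limits AlgebraicGeometry Topology TopologicalSpace
open AlgSp

namespace Groth.Agent.S10428

open Groth.Agent.Lib.H86AlgSpPoints Groth.Agent.Lib.H86FinDeg

/-- Let X be an algebraic space over a scheme S and φ : U ⟶ X a morphism from a scheme with universally
bounded fibres. Then for some integer n, every fibre of |U| → |X| contains at most n elements. -/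
theorem result {S : Scheme.{u}} (X : AlgSp.Space S) {U : Over S}
    (φ : (AlgSp.yon S).obj U ⟶ X.obj) (hφ : W4dec.HasUnivBddFibres φ) :
    ∃ n : ℕ, ∀ x : AlgSp.Points X.obj, (AlgSp.Points.ofPt φ ⁻¹' {x}).encard ≤ n := by
  obtain ⟨n, hn⟩ := hφ
  refine ⟨n, fun x => ?_⟩
  induction x using AlgSp.Points.ind with
  | h q =>
  obtain ⟨T, c, fst, hpb⟩ := X.property.representable_from_yon φ q.toHom
  have hdeg : FinDegLE n c.left := hn q T c fst hpb.flip
  obtain ⟨fst', rfl⟩ := (AlgSp.yon S).map_surjective fst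
  obtain ⟨hT, hfin, hle⟩ := (finDegLE_iff (K := q.K) c.left n).1 hdeg
  letI := (gammaHom (K := q.K) c.left).toAlgebra
  haveI := hT
  haveI := hfin
  obtain ⟨hF, hcard⟩ := card_primeSpectrum_le_finrank q.K Γ(T.left, ⊤)
  have hTfin : Finite ↥T.left := by
    haveI : Finite ↥(Spec Γ(T.left, ⊤)) := hF
    exact Finite.of_equiv _ T.left.isoSpec.hom.homeomorph.symm.toEquiv
  have hTcard : Nat.card ↥T.left ≤ n := by
    rw [Nat.card_congr T.left.isoSpec.hom.homeomorph.toEquiv]
    exact hcard.trans hle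
  have hsub : AlgSp.Points.ofPt φ ⁻¹' {AlgSp.Points.mk q} ⊆ Set.range fst'.left := by
    intro v hv
    have hv' : AlgSp.Points.ofPt φ v = AlgSp.Points.mk q := hv
    haveI : Nonempty ↥q.pt.left :=
      inferInstanceAs (Nonempty (PrimeSpectrum q.K))
    let s : ↥q.pt.left := Classical.arbitrary _
    have h1 : AlgSp.Points.map φ (AlgSp.Points.ofPt (𝟙 _) v) =
        AlgSp.Points.map q.toHom (AlgSp.Points.ofPt (𝟙 _) s) := by
      rw [AlgSp.Points.map_ofPt, AlgSp.Points.map_ofPt, Category.id_comp, Category.id_comp, hv',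
        AlgSp.Points.ofPt_toHom]
    obtain ⟨p, hp1, -⟩ := exists_of_isPullback hpb _ _ h1
    obtain ⟨t, rfl⟩ := (AlgSp.Points.schemeEquiv T).surjective p
    refine ⟨t, ?_⟩
    apply (AlgSp.Points.schemeEquiv U).injective
    show AlgSp.Points.ofPt (𝟙 _) (fst'.left t) = AlgSp.Points.ofPt (𝟙 _) v
    rw [← hp1, ← ofPt_map_comp fst' (𝟙 _) t, Category.comp_id]
    show _ = AlgSp.Points.map _ (AlgSp.Points.ofPt (𝟙 _) t)
    rw [AlgSp.Points.map_ofPt, Category.id_comp]
  calc (AlgSp.Points.ofPt φ ⁻¹' {AlgSp.Points.mk q}).encard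
      ≤ (Set.range fst'.left).encard := Set.encard_le_encard hsub
    _ ≤ (Set.univ : Set ↥T.left).encard := by
        rw [← Set.image_univ]
        exact Set.encard_image_le _ _
    _ = (Nat.card ↥T.left : ℕ∞) := by
        rw [Set.encard_univ, ENat.card_eq_coe_natCard]
    _ ≤ n := by exact_mod_cast hTcard

end Groth.Agent.S10428
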