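import Groth.Statements.S10429
import Groth.Agent.Lib.H86UnivBdd
import Groth.Agent.Lib.AlgSpBasic
import Groth.Agent.S10424
import Groth.Agent.S10427
import Mathlib.AlgebraicGeometry.Morphisms.UniversallyOpen
set_option linter.style.haveILetI false

set_option autoImplicit false
universe u
open CategoryTheory CategoryTheory.Limits AlgebraicGeometry Topology TopologicalSpace
open AlgSp

namespace Groth.Agent.S10429

open Groth.Agent.Lib.H86AlgSpPoints Groth.Agent.Lib.H86FinDeg Groth.Agent.Lib.H86UnivBdd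

/-- For an algebraic space X over a scheme S, if there are etale morphisms U_i ⟶ X from schemes with ∐
U_i ⟶ X surjective and each U_i ⟶ X with universally bounded fibres, then every etale morphism U ⟶ X
from an affine scheme has universally bounded fibres (the converse implication is immediate). -/
theorem result {S : Scheme.{u}} (X : AlgSp.Space S) {ι : Type u} (U : ι → Over S)
    (φ : ∀ i, (AlgSp.yon S).obj (U i) ⟶ X.obj) (hφ : ∀ i, AlgSp.RepWith @Etale (φ i))
    (hsurj : ∀ x : AlgSp.Points X.obj, ∃ (i : ι) (v : ↥(U i).left), AlgSp.Points.ofPt (φ i) v = x)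
    (hb : ∀ i, W4dec.HasUnivBddFibres (φ i)) {V : Over S} [IsAffine V.left] (ψ : (AlgSp.yon S).obj V ⟶ X.obj)
    (hψ : AlgSp.RepWith @Etale ψ) : W4dec.HasUnivBddFibres ψ := by
  have key : ∀ v : ↥V.left, ∃ N : V.left.Opens, v ∈ N ∧ W4dec.HasUnivBddFibres
      ((AlgSp.yon S).map (Over.homMk N.ι rfl : Over.mk (N.ι ≫ V.hom) ⟶ V) ≫ ψ) := by
    intro v
    obtain ⟨i, u, hu⟩ := hsurj (AlgSp.Points.ofPt ψ v)
    obtain ⟨Wi, prU, fst, hpb⟩ := hψ.1 (φ i)
    haveI hprU : Etale prU.left := hψ.2 _ fst prU hpb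
    obtain ⟨prV, rfl⟩ := (AlgSp.yon S).map_surjective fst
    haveI hprV : Etale prV.left := (hφ i).2 ψ _ prV hpb.flip
    -- a point of `Wi` over `v`
    have h1 : AlgSp.Points.map ψ (AlgSp.Points.ofPt (𝟙 _) v) =
        AlgSp.Points.map (φ i) (AlgSp.Points.ofPt (𝟙 _) u) := by
      rw [AlgSp.Points.map_ofPt, AlgSp.Points.map_ofPt, Category.id_comp, Category.id_comp, hu]
    obtain ⟨p, hp1, -⟩ := exists_of_isPullback hpb _ _ h1
    obtain ⟨ω, rfl⟩ := (AlgSp.Points.schemeEquiv Wi).surjective p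
    have hω : prV.left ω = v := by
      apply (AlgSp.Points.schemeEquiv V).injective
      show AlgSp.Points.ofPt (𝟙 _) (prV.left ω) = AlgSp.Points.ofPt (𝟙 _) v
      rw [← hp1, ← ofPt_map_comp prV (𝟙 _) ω, Category.comp_id]
      show _ = AlgSp.Points.map _ (AlgSp.Points.ofPt (𝟙 _) ω)
      rw [AlgSp.Points.map_ofPt, Category.id_comp]
    haveI : LocallyQuasiFinite prU.left := Groth.Agent.Lib.AlgSpBasic.locallyQuasiFinite_of_etale _
    obtain ⟨D, hωD, e, hD⟩ := exists_open_bddFib prU.left ω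
    let N : V.left.Opens := ⟨prV.left '' (D : Set ↥Wi.left), prV.left.isOpenMap _ D.isOpen⟩
    have hle : D ≤ prV.left ⁻¹ᵁ N := fun d hd => ⟨d, hd, rfl⟩
    refine ⟨N, ⟨ω, hωD, hω⟩, ?_⟩
    let DO : Over S := Over.mk (D.ι ≫ Wi.hom)
    let ιD : DO ⟶ Wi := Over.homMk D.ι rfl
    let dU : DO ⟶ U i := ιD ≫ prU
    have hdU : BddFib e dU.left := hD
    have h2 : W4dec.HasUnivBddFibres ((AlgSp.yon S).map dU) :=
      ⟨e, degFibresLE_yon_map_of_bddFib dU hdU⟩
    have h3 : W4dec.HasUnivBddFibres ((AlgSp.yon S).map dU ≫ φ i) :=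
      Groth.Agent.S10424.result X dU (φ i) h2 (hb i)
    let NO : Over S := Over.mk (N.ι ≫ V.hom)
    let nV : NO ⟶ V := Over.homMk N.ι rfl
    have hw : prV.left.resLE N D hle ≫ NO.hom = DO.hom := by
      show prV.left.resLE N D hle ≫ N.ι ≫ V.hom = D.ι ≫ Wi.hom
      rw [← Category.assoc, Scheme.Hom.resLE_comp_ι, Category.assoc, Over.w prV]
    let dN : DO ⟶ NO := Over.homMk (prV.left.resLE N D hle) hw
    haveI : Flat dN.left := by
      show Flat (prV.left.resLE N D hle)
      infer_instance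
    haveI : Surjective dN.left := by
      refine ⟨fun n => ?_⟩
      obtain ⟨d, hd, hdn⟩ := n.2
      refine ⟨⟨d, hd⟩, Subtype.ext ?_⟩
      show ((prV.left.resLE N D hle) ⟨d, hd⟩ : ↥N).1 = n.1
      rw [Scheme.Hom.coe_resLE_apply]
      exact hdn
    have hcomm : (AlgSp.yon S).map dU ≫ φ i = (AlgSp.yon S).map dN ≫ ((AlgSp.yon S).map nV ≫ ψ) := by
      have e1 : dN ≫ nV = ιD ≫ prV := by
        apply Over.OverMorphism.ext
        show prV.left.resLE N D hle ≫ N.ι = D.ι ≫ prV.left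
        exact Scheme.Hom.resLE_comp_ι _ _
      rw [← Category.assoc, ← Functor.map_comp, e1, Functor.map_comp, Functor.map_comp,
        Category.assoc, Category.assoc, hpb.w]
    rw [hcomm] at h3
    exact Groth.Agent.S10427.result X dN _ h3
  choose N hvN hN using key
  obtain ⟨t, ht⟩ := isCompact_univ.elim_finite_subcover (fun v : ↥V.left => (N v : Set ↥V.left))
    (fun v => (N v).isOpen) (fun v _ => Set.mem_iUnion.2 ⟨v, hvN v⟩)
  refine hasUnivBddFibres_of_openCover ψ (ι := ↥t) (fun j => N j.1) ?_ (fun j => hN j.1)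
  intro v
  have := ht (Set.mem_univ v)
  simp only [Set.mem_iUnion] at this
  obtain ⟨j, hj, hvj⟩ := this
  exact ⟨⟨j, hj⟩, hvj⟩

end Groth.Agent.S10429
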