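import Groth.Statements.S10431
import Groth.Agent.Lib.H86UnivBdd
import Groth.Agent.S10429
import Groth.Agent.S10425
set_option linter.style.haveILetI false

set_option autoImplicit false
universe u
open CategoryTheory CategoryTheory.Limits AlgebraicGeometry Topology TopologicalSpace
open AlgSp

namespace Groth.Agent.S10431

open Groth.Agent.Lib.H86AlgSpPoints Groth.Agent.Lib.H86FinDeg Groth.Agent.Lib.H86UnivBdd

set_option backward.isDefEq.respectTransparency false in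
/-- Let S be a scheme, X and Y algebraic spaces over S, and X ⟶ Y a representable morphism. If every
etale morphism from an affine scheme to Y has universally bounded fibres, then so does every etale
morphism from an affine scheme to X. -/
theorem result {S : Scheme.{u}} {X Y : AlgSp.Space S} (f : X ⟶ Y)
    (hf : AlgSp.Representable f.hom)
    (hY : ∀ (V : Over S) (ψ : (AlgSp.yon S).obj V ⟶ Y.obj), IsAffine V.left → AlgSp.RepWith @Etale ψ → W4dec.HasUnivBddFibres ψ)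
    (U : Over S) (φ : (AlgSp.yon S).obj U ⟶ X.obj) (hU : IsAffine U.left) (hφ : AlgSp.RepWith @Etale φ) :
    W4dec.HasUnivBddFibres φ := by
  haveI := hU
  obtain ⟨Y₀, p, hpe, hps⟩ := Y.property.atlas
  -- affine open neighbourhoods in the atlas
  have hO : ∀ y₀ : ↥Y₀.left, ∃ O : Y₀.left.Opens, IsAffineOpen O ∧ y₀ ∈ O := by
    intro y₀
    obtain ⟨O, hO, hy, -⟩ := exists_isAffineOpen_mem_and_subset (X := Y₀.left) (x := y₀)
      (U := ⊤) trivial
    exact ⟨O, hO, hy⟩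
  choose O hOaff hOmem using hO
  let YO : ↥Y₀.left → Over S := fun y₀ => Over.mk ((O y₀).ι ≫ Y₀.hom)
  let ιO : ∀ y₀, YO y₀ ⟶ Y₀ := fun y₀ => Over.homMk (O y₀).ι rfl
  let ψ : ∀ y₀, (AlgSp.yon S).obj (YO y₀) ⟶ Y.obj := fun y₀ => (AlgSp.yon S).map (ιO y₀) ≫ p
  have hψ : ∀ y₀, AlgSp.RepWith (S := S) @Etale (ψ y₀) := fun y₀ =>
    (AlgSp.RepWith (S := S) @Etale).comp_mem _ _
      ((AlgSp.repWith_yon_map_iff @Etale (ιO y₀)).2 (by
        show Etale (O y₀).ι
        infer_instance)) hpe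
  have hψb : ∀ y₀, W4dec.HasUnivBddFibres (ψ y₀) := fun y₀ =>
    hY (YO y₀) (ψ y₀) (hOaff y₀) (hψ y₀)
  -- base change to `X`
  have hrep : ∀ y₀, ∃ (Xy : Over S) (a : Xy ⟶ YO y₀) (b : (AlgSp.yon S).obj Xy ⟶ X.obj),
      IsPullback b ((AlgSp.yon S).map a) f.hom (ψ y₀) := fun y₀ => hf (ψ y₀)
  choose Xy a b hpb using hrep
  have hbe : ∀ y₀, AlgSp.RepWith (S := S) @Etale (b y₀) := fun y₀ =>
    (AlgSp.RepWith (S := S) @Etale).of_isPullback (hpb y₀).flip (hψ y₀)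
  have hbb : ∀ y₀, W4dec.HasUnivBddFibres (b y₀) := fun y₀ =>
    Groth.Agent.S10425.result f hf (ψ y₀) (hψb y₀) _ (b y₀) (hpb y₀).flip
  have hsurj : ∀ x : AlgSp.Points X.obj, ∃ (y₀ : ↥Y₀.left) (v : ↥(Xy y₀).left),
      AlgSp.Points.ofPt (b y₀) v = x := by
    intro x
    obtain ⟨y₀, hy₀⟩ := Groth.Agent.Lib.AlgSpQC.surjective_ofPt_of_repWith_surjective hps
      (AlgSp.Points.map f.hom x)
    obtain ⟨v₀, hv₀⟩ : ∃ v₀ : ↥(YO y₀).left, (ιO y₀).left v₀ = y₀ :=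
      ⟨(⟨y₀, hOmem y₀⟩ : ↥((O y₀ : Y₀.left.Opens) : Scheme.{u})), rfl⟩
    have h1 : AlgSp.Points.map f.hom x =
        AlgSp.Points.map (ψ y₀) (AlgSp.Points.ofPt (𝟙 _) v₀) := by
      rw [AlgSp.Points.map_ofPt, Category.id_comp, ← hy₀]
      have h2 := ofPt_map_comp (ιO y₀) p v₀
      rw [hv₀] at h2
      exact h2.symm
    obtain ⟨w, hw1, -⟩ := exists_of_isPullback (hpb y₀) x _ h1
    obtain ⟨v, rfl⟩ := (AlgSp.Points.schemeEquiv (Xy y₀)).surjective w
    refine ⟨y₀, v, ?_⟩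
    rw [← hw1]
    show _ = AlgSp.Points.map _ (AlgSp.Points.ofPt (𝟙 _) v)
    rw [AlgSp.Points.map_ofPt, Category.id_comp]
  exact Groth.Agent.S10429.result X Xy b hbe hsurj hbb φ hφ

end Groth.Agent.S10431
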