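import Groth.Statements.S10432
import Groth.Agent.Lib.H86UnivBdd
import Groth.Agent.Lib.AlgSpBasic
import Groth.Agent.S10429
set_option linter.style.haveILetI false

set_option autoImplicit false
universe u
open CategoryTheory CategoryTheory.Limits AlgebraicGeometry Topology TopologicalSpace
open AlgSp

namespace Groth.Agent.S10432

open Groth.Agent.Lib.H86AlgSpPoints Groth.Agent.Lib.H86FinDeg Groth.Agent.Lib.H86UnivBdd

set_option backward.isDefEq.respectTransparency false in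
/-- Let X be an algebraic space over a scheme S with a Zariski covering by open subspaces X_i ⟶ X such
that every etale morphism from an affine scheme to X_i has universally bounded fibres. Then every
etale morphism from an affine scheme to X has universally bounded fibres. -/
theorem result {S : Scheme.{u}} (X : AlgSp.Space S) {ι : Type u}
    (Xi : ι → AlgSp.Space S) (j : ∀ i, Xi i ⟶ X) (hj : AlgSp.IsZarCover (fun i => (Xi i).obj) (fun i => (j i).hom))
    (h : ∀ (i : ι) (V : Over S) (ψ : (AlgSp.yon S).obj V ⟶ (Xi i).obj), IsAffine V.left → AlgSp.RepWith @Etale ψ → W4dec.HasUnivBddFibres ψ)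
    (U : Over S) (φ : (AlgSp.yon S).obj U ⟶ X.obj) (hU : IsAffine U.left) (hφ : AlgSp.RepWith @Etale φ) :
    W4dec.HasUnivBddFibres φ := by
  haveI := hU
  obtain ⟨hjo, hjs⟩ := hj
  -- atlases of the `X_i`
  have hat : ∀ i, ∃ (A : Over S) (p : (AlgSp.yon S).obj A ⟶ (Xi i).obj),
      AlgSp.RepWith @Etale p ∧ AlgSp.RepWith @Surjective p := fun i => (Xi i).property.atlas
  choose A p hpe hps using hat
  have hO : ∀ (k : Σ i, ↥(A i).left), ∃ O : (A k.1).left.Opens, IsAffineOpen O ∧ k.2 ∈ O := by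
    intro k
    obtain ⟨O, hO, hy, -⟩ := exists_isAffineOpen_mem_and_subset (X := (A k.1).left) (x := k.2)
      (U := ⊤) trivial
    exact ⟨O, hO, hy⟩
  choose O hOaff hOmem using hO
  let AO : (Σ i, ↥(A i).left) → Over S := fun k => Over.mk ((O k).ι ≫ (A k.1).hom)
  let ιO : ∀ k, AO k ⟶ A k.1 := fun k => Over.homMk (O k).ι rfl
  let χ : ∀ k, (AlgSp.yon S).obj (AO k) ⟶ (Xi k.1).obj := fun k => (AlgSp.yon S).map (ιO k) ≫ p k.1
  have hχ : ∀ k, AlgSp.RepWith (S := S) @Etale (χ k) := fun k =>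
    (AlgSp.RepWith (S := S) @Etale).comp_mem _ _
      ((AlgSp.repWith_yon_map_iff @Etale (ιO k)).2 (by
        show Etale (O k).ι
        infer_instance)) (hpe k.1)
  have hχb : ∀ k, W4dec.HasUnivBddFibres (χ k) := fun k =>
    h k.1 (AO k) (χ k) (hOaff k) (hχ k)
  have hje : ∀ i, AlgSp.RepWith (S := S) @Etale (j i).hom := fun i =>
    Groth.Agent.Lib.AlgSpBasic.repWith_mono (fun _ _ g (_ : IsOpenImmersion g) => (inferInstance : Etale g))
      (hjo i)
  have hbe : ∀ k, AlgSp.RepWith (S := S) @Etale (χ k ≫ (j k.1).hom) := fun k =>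
    (AlgSp.RepWith (S := S) @Etale).comp_mem _ _ (hχ k) (hje k.1)
  have hbb : ∀ k, W4dec.HasUnivBddFibres (χ k ≫ (j k.1).hom) := fun k =>
    hasUnivBddFibres_comp_openImmersion (χ k) (hχb k) (j k.1).hom (hjo k.1)
  have hsurj : ∀ x : AlgSp.Points X.obj, ∃ (k : Σ i, ↥(A i).left) (v : ↥(AO k).left),
      AlgSp.Points.ofPt (χ k ≫ (j k.1).hom) v = x := by
    intro x
    obtain ⟨i, xi, rfl⟩ := hjs x
    obtain ⟨a₀, ha₀⟩ := Groth.Agent.Lib.AlgSpQC.surjective_ofPt_of_repWith_surjective (hps i) xi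
    obtain ⟨v₀, hv₀⟩ : ∃ v₀ : ↥(AO ⟨i, a₀⟩).left, (ιO ⟨i, a₀⟩).left v₀ = a₀ :=
      ⟨(⟨a₀, hOmem ⟨i, a₀⟩⟩ : ↥((O ⟨i, a₀⟩ : (A i).left.Opens) : Scheme.{u})), rfl⟩
    refine ⟨⟨i, a₀⟩, v₀, ?_⟩
    rw [← AlgSp.Points.map_ofPt, ← ha₀]
    congr 1
    have h2 := ofPt_map_comp (ιO ⟨i, a₀⟩) (p i) v₀
    rw [hv₀] at h2
    exact h2
  exact Groth.Agent.S10429.result X AO (fun k => χ k ≫ (j k.1).hom) hbe hsurj hbb φ hφ

end Groth.Agent.S10432
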