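import Groth.Statements.S10441
import Groth.Agent.Lib.H69ElemNbhdBranch
import Groth.Agent.S9235

set_option autoImplicit false
universe u
open CategoryTheory CategoryTheory.Limits AlgebraicGeometry Topology TopologicalSpace
open AlgSp

namespace Groth.Agent.S10441

/-- For a decent algebraic space X over a scheme S and x ∈ |X|, fix an elementary etale neighbourhood
(U₀, u₀) of (X, x) and a henselization R of O_{U₀, u₀} (a model of the henselian local ring at x).
The following are equivalent: (1) O_{U, u} has exactly one minimal prime whenever (U, u) is an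
elementary etale neighbourhood of (X, x); (2) a unique irreducible component of U passes through u
for all such (U, u); (3) O_{U, u} is unibranch for all such (U, u); (4) R has exactly one minimal
prime. -/
theorem result {S : Scheme.{u}} (X : AlgSp.Space S)
    (hX : AlgSp.IsDecent X.obj) (x : AlgSp.Points X.obj) {U₀ : Over S}
    (a₀ : (AlgSp.yon S).obj U₀ ⟶ X.obj) (u₀ : ↥U₀.left) (h₀ : AlgSp.IsElemEtaleNbhd a₀ u₀ x)
    (R : Type u) [CommRing R] [IsLocalRing R] [Algebra ↥(U₀.left.presheaf.stalk u₀) R]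
    [IsLocalHom (algebraMap ↥(U₀.left.presheaf.stalk u₀) R)] [Hensel.IsHenselization ↥(U₀.left.presheaf.stalk u₀) R] :
    ((∀ (U : Over S) (a : (AlgSp.yon S).obj U ⟶ X.obj) (u : ↥U.left), AlgSp.IsElemEtaleNbhd a u x →
        CAlgX.HasUniqueMinimalPrime ↥(U.left.presheaf.stalk u)) ↔
      (∀ (U : Over S) (a : (AlgSp.yon S).obj U ⟶ X.obj) (u : ↥U.left), AlgSp.IsElemEtaleNbhd a u x →
        {Z : Set ↥U.left | Z ∈ irreducibleComponents ↥U.left ∧ u ∈ Z}.encard = 1)) ∧
    ((∀ (U : Over S) (a : (AlgSp.yon S).obj U ⟶ X.obj) (u : ↥U.left), AlgSp.IsElemEtaleNbhd a u x →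
        {Z : Set ↥U.left | Z ∈ irreducibleComponents ↥U.left ∧ u ∈ Z}.encard = 1) ↔
      (∀ (U : Over S) (a : (AlgSp.yon S).obj U ⟶ X.obj) (u : ↥U.left), AlgSp.IsElemEtaleNbhd a u x →
        CAlg2.IsUnibranch ↥(U.left.presheaf.stalk u))) ∧
    ((∀ (U : Over S) (a : (AlgSp.yon S).obj U ⟶ X.obj) (u : ↥U.left), AlgSp.IsElemEtaleNbhd a u x →
        CAlg2.IsUnibranch ↥(U.left.presheaf.stalk u)) ↔ CAlgX.HasUniqueMinimalPrime R) := by
  have hR : (minimalPrimes R).encard = Brnch.numBranchesAt U₀.left u₀ :=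
    Groth.Agent.S9237.result ↥(U₀.left.presheaf.stalk u₀) R
  obtain ⟨h1, h2, h3⟩ := Groth.Agent.Lib.H69ElemNbhdBranch.counts X.property a₀ u₀ h₀ 1
  have hcm := fun (U : Over S) (u : ↥U.left) =>
    Groth.Agent.Lib.H69ElemNbhdBranch.comps_le_minimalPrimes U.left u
  have h1c := fun (U : Over S) (u : ↥U.left) =>
    Groth.Agent.Lib.H69ElemNbhdBranch.one_le_comps U.left u
  -- (1) ↔ N = 1
  have k1 : (∀ (U : Over S) (a : (AlgSp.yon S).obj U ⟶ X.obj) (u : ↥U.left), AlgSp.IsElemEtaleNbhd a u x →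
        CAlgX.HasUniqueMinimalPrime ↥(U.left.presheaf.stalk u)) ↔ Brnch.numBranchesAt U₀.left u₀ = (1 : ℕ) := by
    rw [← h1]
    constructor
    · intro h
      refine ⟨fun U a u hU => ?_, U₀, a₀, u₀, h₀, ?_⟩
      · exact ((Groth.Agent.Lib.H69ElemNbhdBranch.hasUniqueMinimalPrime_iff_encard _).1 (h U a u hU)).le
      · exact (Groth.Agent.Lib.H69ElemNbhdBranch.hasUniqueMinimalPrime_iff_encard _).1 (h U₀ a₀ u₀ h₀)
    · rintro ⟨hle, -⟩ U a u hU
      rw [Groth.Agent.Lib.H69ElemNbhdBranch.hasUniqueMinimalPrime_iff_encard]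
      exact le_antisymm (hle U a u hU) ((h1c U u).trans (hcm U u))
  -- (2) ↔ N = 1
  have k2 : (∀ (U : Over S) (a : (AlgSp.yon S).obj U ⟶ X.obj) (u : ↥U.left), AlgSp.IsElemEtaleNbhd a u x →
        {Z : Set ↥U.left | Z ∈ irreducibleComponents ↥U.left ∧ u ∈ Z}.encard = 1) ↔
      Brnch.numBranchesAt U₀.left u₀ = (1 : ℕ) := by
    rw [← h2]
    constructor
    · intro h
      exact ⟨fun U a u hU => (h U a u hU).le, U₀, a₀, u₀, h₀, h U₀ a₀ u₀ h₀⟩
    · rintro ⟨hle, -⟩ U a u hU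
      exact le_antisymm (hle U a u hU) (h1c U u)
  -- (3) ↔ N = 1
  have k3 : (∀ (U : Over S) (a : (AlgSp.yon S).obj U ⟶ X.obj) (u : ↥U.left), AlgSp.IsElemEtaleNbhd a u x →
        CAlg2.IsUnibranch ↥(U.left.presheaf.stalk u)) ↔ Brnch.numBranchesAt U₀.left u₀ = (1 : ℕ) := by
    rw [← h3]
    constructor
    · intro h
      have e : ∀ (U : Over S) (a : (AlgSp.yon S).obj U ⟶ X.obj) (u : ↥U.left), AlgSp.IsElemEtaleNbhd a u x →
          Brnch.numBranchesAt U.left u = 1 :=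
        fun U a u hU => (Groth.Agent.S9235.result ↥(U.left.presheaf.stalk u)).2 (h U a u hU)
      exact ⟨fun U a u hU => (e U a u hU).le, U₀, a₀, u₀, h₀, e U₀ a₀ u₀ h₀⟩
    · rintro ⟨hle, U₁, a₁, u₁, hU₁, hb⟩ U a u hU
      rw [← Groth.Agent.S9235.result]
      have e1 := Groth.Agent.Lib.H69ElemNbhdBranch.numBranchesAt_eq X.property a a₁ u u₁ hU hU₁
      exact e1.trans hb
  have k4 : CAlgX.HasUniqueMinimalPrime R ↔ Brnch.numBranchesAt U₀.left u₀ = (1 : ℕ) := by
    rw [Groth.Agent.Lib.H69ElemNbhdBranch.hasUniqueMinimalPrime_iff_encard, hR]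
    rfl
  exact ⟨k1.trans k2.symm, k2.trans k3.symm, k3.trans k4.symm⟩

end Groth.Agent.S10441
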