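import Groth.Statements.S10443
import Groth.Agent.Lib.H86DecentDim
import Groth.Agent.S9684

set_option linter.style.haveILetI false

set_option autoImplicit false
universe u
open CategoryTheory CategoryTheory.Limits AlgebraicGeometry Topology TopologicalSpace
open AlgSp

namespace Groth.Agent.S10443

/-- Let S be a locally Noetherian, universally catenary scheme carrying a dimension function δ, and X a
decent algebraic space over S that is locally of finite type over S. Define δ_X : |X| → ℤ by δ_X(x)
= δ(s) + (transcendence degree of x over s), s the image of x in S; concretely, for an etale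
surjective chart U ⟶ X with U locally of finite type over S, the composite of δ_X with |U| → |X| is
the function induced from δ along U ⟶ S. Then δ_X is a dimension function: strictly decreasing along
nontrivial specializations, and dropping by one along immediate ones. -/
theorem result {S : Scheme.{u}} (δ : ↥S → ℤ) (hS : Cyc.IsSetup S δ)
    (X : AlgSp.Space S) (hX : AlgSp.IsDecent X.obj) {U : Over S} (a : (AlgSp.yon S).obj U ⟶ X.obj)
    (ha : AlgSp.RepWith @Etale a) (hs : AlgSp.RepWith @Surjective a) [LocallyOfFiniteType U.hom]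
    (δX : AlgSp.Points X.obj → ℤ) (hδ : Cyc.DeltaCompat U.hom (δX ∘ AlgSp.Points.ofPt a) δ) :
    ∀ x y : AlgSp.Points X.obj, x ⤳ y → x ≠ y →
      δX y < δX x ∧ ((∀ z : AlgSp.Points X.obj, x ⤳ z → z ⤳ y → z = x ∨ z = y) → δX x = δX y + 1) := by
  have hU : Cyc.IsDimFun U.left (δX ∘ AlgSp.Points.ofPt a) :=
    Groth.Agent.S9684.result U.hom δ hS (δX ∘ AlgSp.Points.ofPt a) hδ
  intro x y hxy hne
  obtain ⟨v, hv⟩ := Groth.Agent.Lib.AlgSpQC.surjective_ofPt_of_repWith_surjective hs y
  obtain ⟨u, huv, hu⟩ := Groth.Agent.Lib.H86DecentDim.generalizingMap_ofPt hX a ha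
    (show x ⤳ AlgSp.Points.ofPt a v by rw [hv]; exact hxy)
  have hne' : u ≠ v := by
    rintro rfl
    exact hne (hu.symm.trans hv)
  obtain ⟨h1, h2⟩ := hU u v huv hne'
  simp only [Function.comp_apply, hu, hv] at h1 h2
  refine ⟨h1, fun himm => h2 fun w huw hwv => ?_⟩
  have hz1 : x ⤳ AlgSp.Points.ofPt a w := by
    rw [← hu]; exact huw.map (AlgSp.Points.continuous_ofPt a)
  have hz2 : AlgSp.Points.ofPt a w ⤳ y := by
    rw [← hv]; exact hwv.map (AlgSp.Points.continuous_ofPt a)
  rcases himm _ hz1 hz2 with h | h
  · left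
    exact (Groth.Agent.Lib.H86DecentDim.eq_of_specializes_of_ofPt_eq hX a ha u w huw
      (hu.trans h.symm)).symm
  · right
    exact Groth.Agent.Lib.H86DecentDim.eq_of_specializes_of_ofPt_eq hX a ha w v hwv
      (h.trans hv.symm)

end Groth.Agent.S10443
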