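import Groth.Statements.S10444
-- import your own Groth.Agent.* helpers here
import Groth.Agent.Lib.AlgSpFibreRel91

set_option autoImplicit false
universe u
open CategoryTheory CategoryTheory.Limits AlgebraicGeometry Topology TopologicalSpace
open AlgSp

namespace Groth.Agent.S10444

/-- Take f : X ⟶ Y locally of finite type between algebraic spaces over a scheme S, a field-valued point
Spec k ⟶ Y whose class y ∈ |Y| lies in the image of |f|, the fibre product X_k = Spec k ×_Y X, and
the fibre F = |f|⁻¹(y) ⊆ |X| with the induced topology. Numbering the conditions (1) F finite, (2) F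
discrete, (3) dim F = 0, (4) |X_k| finite, (5) |X_k| discrete, (6) dim |X_k| = 0, (7) dim X_k = 0,
(8) f quasi-finite at all points over y: (5) ⇔ (7) ⇔ (8); (5) ⇒ (6), with the converse when X_k is
decent; (4) ⇒ (5) when X_k is decent; (4) ⇒ (1); (2) ⇒ (3); if Y is decent then (2) ⇔ (5); if X and
Y are decent then (3) ⇒ (2) and (1) ⇒ (2). (The published statement asserts (5) ⇔ (6) for every f
and (2) ⇔ (3) whenever Y is decent, and does not exclude an empty fibre; for the quotient of the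
affine line over a field of characteristic zero by an infinite cyclic group of translations, mapping
to the point, the space of points is infinite and indiscrete, so (3) and (6) hold while (2) and (5)
fail, and for y outside the image (5) holds while (6) and (7) fail; hence the decency hypotheses on
those two converses and the hypothesis that y is in the image. Finiteness of |X_k| for an arbitrary
field k in the class of y is not derived here from (1).) -/
theorem result {S : Scheme.{u}} {X Y : AlgSp.Space S} (f : X ⟶ Y)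
    (hf : AlgSp.LocP @LocallyOfFiniteType f.hom) (r : AlgSp.FieldPt Y.obj)
    (hy : AlgSp.Points.mk r ∈ Set.range (AlgSp.Points.map f.hom)) (Xk : AlgSp.Space S) (fst : Xk ⟶ X)
    (snd : Xk.obj ⟶ (AlgSp.yon S).obj r.pt) (hsq : IsPullback fst.hom snd f.hom r.toHom) :
    (DiscreteTopology (AlgSp.Points Xk.obj) ↔ AlgSp.dim Xk.obj = 0) ∧
    (AlgSp.dim Xk.obj = 0 ↔
      ∀ x : AlgSp.Points X.obj, AlgSp.Points.map f.hom x = AlgSp.Points.mk r → AlgSp.HasAtMor (fun U _ h u => ∃ W : U.Opens, u ∈ W ∧ LocallyQuasiFinite (W.ι ≫ h) ∧ LocallyOfFiniteType (W.ι ≫ h)) f.hom x) ∧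
    (DiscreteTopology (AlgSp.Points Xk.obj) → topologicalKrullDim (AlgSp.Points Xk.obj) = 0) ∧
    (AlgSp.IsDecent Xk.obj → topologicalKrullDim (AlgSp.Points Xk.obj) = 0 →
      DiscreteTopology (AlgSp.Points Xk.obj)) ∧
    (AlgSp.IsDecent Xk.obj → Finite (AlgSp.Points Xk.obj) → DiscreteTopology (AlgSp.Points Xk.obj)) ∧
    (Finite (AlgSp.Points Xk.obj) → (AlgSp.Points.map f.hom ⁻¹' {AlgSp.Points.mk r}).Finite) ∧
    (DiscreteTopology ↥(AlgSp.Points.map f.hom ⁻¹' {AlgSp.Points.mk r}) → topologicalKrullDim ↥(AlgSp.Points.map f.hom ⁻¹' {AlgSp.Points.mk r}) = 0) ∧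
    (AlgSp.IsDecent Y.obj → (DiscreteTopology ↥(AlgSp.Points.map f.hom ⁻¹' {AlgSp.Points.mk r}) ↔ DiscreteTopology (AlgSp.Points Xk.obj))) ∧
    (AlgSp.IsDecent Y.obj → AlgSp.IsDecent X.obj →
      (topologicalKrullDim ↥(AlgSp.Points.map f.hom ⁻¹' {AlgSp.Points.mk r}) = 0 → DiscreteTopology ↥(AlgSp.Points.map f.hom ⁻¹' {AlgSp.Points.mk r})) ∧
        ((AlgSp.Points.map f.hom ⁻¹' {AlgSp.Points.mk r}).Finite → DiscreteTopology ↥(AlgSp.Points.map f.hom ⁻¹' {AlgSp.Points.mk r}))) := by
  have hsnd := Groth.Agent.Lib.AlgSpFibreRel91.locP_snd f hf r fst.hom snd hsq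
  have hXk := Xk.property
  haveI hne : Nonempty (AlgSp.Points Xk.obj) :=
    Groth.Agent.Lib.AlgSpFibreRel91.nonempty_points f r fst.hom snd hsq hy
  have c1 := Groth.Agent.Lib.AlgSpFieldRel91.discreteTopology_iff_dim_eq_zero snd hsnd hXk
  have c2 := Groth.Agent.Lib.AlgSpFibreRel91.discreteTopology_iff_forall_hasAtMor f hf r hXk fst.hom snd hsq
  obtain ⟨x₀, hx₀⟩ := hy
  haveI hneF : Nonempty ↥(AlgSp.Points.map f.hom ⁻¹' {AlgSp.Points.mk r}) := ⟨⟨x₀, hx₀⟩⟩
  refine ⟨c1, c1.symm.trans c2, fun hd => ?_, fun hdec h0 => ?_, fun hdec hfin => ?_, fun hfin => ?_,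
    fun hd => ?_, fun hdY => ?_, fun hdY hdX => ?_⟩
  · exact le_antisymm (topologicalKrullDim_zero_of_discreteTopology _)
      Groth.Agent.Lib.TopKrullDim.dim_nonneg_of_nonempty
  · haveI : T0Space (AlgSp.Points Xk.obj) := Groth.Agent.S10338.result Xk hdec
    exact Groth.Agent.Lib.AlgSpFieldRel91.discreteTopology_of_forall_specializes_eq snd hsnd hXk
      (fun y y' hs => Groth.Agent.Lib.AlgSpFieldDim91.eq_of_specializes_of_dim_le_zero h0.le hs)
  · haveI := hfin
    exact c1.2 (Groth.Agent.Lib.AlgSpFieldRel91.dim_eq_zero_of_finite snd hsnd hXk hdec)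
  · haveI := hfin
    refine (Set.finite_range (AlgSp.Points.map fst.hom)).subset ?_
    intro x hx
    obtain ⟨xt, h⟩ := Groth.Agent.Lib.AlgSpFibreRel91.exists_point_over f r fst.hom snd hsq x hx
    exact ⟨xt, h⟩
  · exact le_antisymm (topologicalKrullDim_zero_of_discreteTopology _)
      Groth.Agent.Lib.TopKrullDim.dim_nonneg_of_nonempty
  · obtain ⟨r₀, P, fstκ, sndκ, e, hr₀, hP, sqκ, -, he⟩ :=
      Groth.Agent.Lib.AlgSpFibreRel91.exists_fibre_homeomorph f r hdY
    have c2κ := Groth.Agent.Lib.AlgSpFibreRel91.discreteTopology_iff_forall_hasAtMor f hf r₀ hP fstκ sndκ sqκ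
    rw [hr₀] at c2κ
    exact (Groth.Agent.Lib.AlgSpFibreRel91.discreteTopology_homeomorph_iff e).trans (c2κ.trans c2.symm)
  · obtain ⟨r₀, P, fstκ, sndκ, e, hr₀, hP, sqκ, hdP, he⟩ :=
      Groth.Agent.Lib.AlgSpFibreRel91.exists_fibre_homeomorph f r hdY
    have hsndκ := Groth.Agent.Lib.AlgSpFibreRel91.locP_snd f hf r₀ fstκ sndκ sqκ
    haveI : T0Space (AlgSp.Points P) :=
      Groth.Agent.Lib.AlgSpDecentSpec.t0Space_points_of_isDecent hP (hdP hdX)
    haveI : Nonempty (AlgSp.Points P) := ⟨e.symm ⟨x₀, hx₀⟩⟩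
    have hdim : topologicalKrullDim (AlgSp.Points P) =
        topologicalKrullDim ↥(AlgSp.Points.map f.hom ⁻¹' {AlgSp.Points.mk r}) :=
      IsHomeomorph.topologicalKrullDim_eq e e.isHomeomorph
    constructor
    · intro h0
      rw [← hdim] at h0
      rw [Groth.Agent.Lib.AlgSpFibreRel91.discreteTopology_homeomorph_iff e]
      exact Groth.Agent.Lib.AlgSpFieldRel91.discreteTopology_of_forall_specializes_eq sndκ hsndκ hP
        (fun y y' hs => Groth.Agent.Lib.AlgSpFieldDim91.eq_of_specializes_of_dim_le_zero h0.le hs)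
    · intro hfin
      haveI : Finite ↥(AlgSp.Points.map f.hom ⁻¹' {AlgSp.Points.mk r}) := hfin
      haveI : Finite (AlgSp.Points P) := Finite.of_equiv _ e.symm.toEquiv
      rw [Groth.Agent.Lib.AlgSpFibreRel91.discreteTopology_homeomorph_iff e]
      exact (Groth.Agent.Lib.AlgSpFieldRel91.discreteTopology_iff_dim_eq_zero sndκ hsndκ hP).2
        (Groth.Agent.Lib.AlgSpFieldRel91.dim_eq_zero_of_finite sndκ hsndκ hP (hdP hdX))

end Groth.Agent.S10444
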