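import Groth.Statements.S10445
-- import your own Groth.Agent.* helpers here
import Groth.Agent.Lib.AlgSpFibreRel91
import Groth.Agent.Lib.H56LocDim

set_option autoImplicit false
universe u
open CategoryTheory CategoryTheory.Limits AlgebraicGeometry Topology TopologicalSpace
open AlgSp

namespace Groth.Agent.S10445

/-- Take f : X ⟶ Y locally of finite type between algebraic spaces over a scheme S, a field-valued point
Spec k ⟶ Y with class y, the fibre product X_k = Spec k ×_Y X, x ∈ |X| over y, x̃ ∈ |X_k| over x,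
and F = |f|⁻¹(y) with the induced topology. Numbering the conditions (1) dim_x F = 0, (2) x isolated
in F, (3) x closed in F with no proper generization in F, (4) dim_{x̃} |X_k| = 0, (5) x̃ isolated in
|X_k|, (6) x̃ closed in |X_k| with no proper generization, (7) dim_{x̃}(X_k) = 0 (local dimension of
an etale chart), (8) f quasi-finite at x: (5) ⇔ (6) ⇔ (7) ⇔ (8); (4) ⇔ (5) when X_k is decent; (2) ⇔
(5) and (3) ⇔ (6) when Y is decent; (1) ⇔ (2) when X and Y are decent. -/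
theorem result {S : Scheme.{u}} {X Y : AlgSp.Space S} (f : X ⟶ Y)
    (hf : AlgSp.LocP @LocallyOfFiniteType f.hom) (r : AlgSp.FieldPt Y.obj) (Xk : AlgSp.Space S) (fst : Xk ⟶ X)
    (snd : Xk.obj ⟶ (AlgSp.yon S).obj r.pt) (hsq : IsPullback fst.hom snd f.hom r.toHom)
    (x : AlgSp.Points X.obj) (hx : x ∈ (AlgSp.Points.map f.hom ⁻¹' {AlgSp.Points.mk r})) (xt : AlgSp.Points Xk.obj)
    (hxt : AlgSp.Points.map fst.hom xt = x) :
    ((IsOpen ({xt} : Set (AlgSp.Points Xk.obj)) ↔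
      IsClosed ({xt} : Set (AlgSp.Points Xk.obj)) ∧ ∀ x' : AlgSp.Points Xk.obj, x' ⤳ xt → x' = xt) ∧
    (IsOpen ({xt} : Set (AlgSp.Points Xk.obj)) ↔ AlgSp.HasAt (fun U u => FlatMor.localDim ↥U u = 0) Xk.obj xt) ∧
    (AlgSp.HasAt (fun U u => FlatMor.localDim ↥U u = 0) Xk.obj xt ↔ AlgSp.HasAtMor (fun U _ h u => ∃ W : U.Opens, u ∈ W ∧ LocallyQuasiFinite (W.ι ≫ h) ∧ LocallyOfFiniteType (W.ι ≫ h)) f.hom x) ∧
    (AlgSp.IsDecent Xk.obj →
      (FlatMor.localDim (AlgSp.Points Xk.obj) xt = 0 ↔ IsOpen ({xt} : Set (AlgSp.Points Xk.obj)))) ∧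
    (AlgSp.IsDecent Y.obj →
      (IsOpen ({(⟨x, hx⟩ : ↥(AlgSp.Points.map f.hom ⁻¹' {AlgSp.Points.mk r}))} : Set ↥(AlgSp.Points.map f.hom ⁻¹' {AlgSp.Points.mk r})) ↔ IsOpen ({xt} : Set (AlgSp.Points Xk.obj))) ∧
      ((IsClosed ({(⟨x, hx⟩ : ↥(AlgSp.Points.map f.hom ⁻¹' {AlgSp.Points.mk r}))} : Set ↥(AlgSp.Points.map f.hom ⁻¹' {AlgSp.Points.mk r})) ∧ ∀ x' : ↥(AlgSp.Points.map f.hom ⁻¹' {AlgSp.Points.mk r}), x' ⤳ (⟨x, hx⟩ : ↥(AlgSp.Points.map f.hom ⁻¹' {AlgSp.Points.mk r})) → x' = (⟨x, hx⟩ : ↥(AlgSp.Points.map f.hom ⁻¹' {AlgSp.Points.mk r}))) ↔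
        IsClosed ({xt} : Set (AlgSp.Points Xk.obj)) ∧ ∀ x' : AlgSp.Points Xk.obj, x' ⤳ xt → x' = xt)) ∧
    (AlgSp.IsDecent Y.obj → AlgSp.IsDecent X.obj →
      (FlatMor.localDim ↥(AlgSp.Points.map f.hom ⁻¹' {AlgSp.Points.mk r}) (⟨x, hx⟩ : ↥(AlgSp.Points.map f.hom ⁻¹' {AlgSp.Points.mk r})) = 0 ↔ IsOpen ({(⟨x, hx⟩ : ↥(AlgSp.Points.map f.hom ⁻¹' {AlgSp.Points.mk r}))} : Set ↥(AlgSp.Points.map f.hom ⁻¹' {AlgSp.Points.mk r}))))) := by
  subst hxt
  have hsnd := Groth.Agent.Lib.AlgSpFibreRel91.locP_snd f hf r fst.hom snd hsq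
  have hXk := Xk.property
  have h1 := Groth.Agent.Lib.AlgSpFieldRel91.isOpen_singleton_iff_isClosed_and snd hsnd hXk xt
  have h2 := Groth.Agent.Lib.AlgSpFieldRel91.isOpen_singleton_iff_hasAt snd hsnd hXk xt
  have h3 := Groth.Agent.Lib.AlgSpFibreRel91.isOpen_singleton_iff_hasAtMor f hf r hXk fst.hom snd hsq xt
  refine ⟨h1, h2, h2.symm.trans h3, fun hd => ?_, fun hdY => ?_, fun hdY hdX => ?_⟩
  · haveI : T0Space (AlgSp.Points Xk.obj) := Groth.Agent.S10338.result Xk hd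
    exact Groth.Agent.Lib.AlgSpFieldRel91.localDim_points_eq_zero_iff snd hsnd hXk xt
  · obtain ⟨r₀, P, fstκ, sndκ, e, hr₀, hP, sqκ, -, he⟩ :=
      Groth.Agent.Lib.AlgSpFibreRel91.exists_fibre_homeomorph f r hdY
    obtain ⟨z, hz⟩ := Groth.Agent.Lib.AlgSpFibreRel91.exists_point_over f r₀ fstκ sndκ sqκ
      (AlgSp.Points.map fst.hom xt) (by rw [hr₀]; exact hx)
    have hez : e z = ⟨AlgSp.Points.map fst.hom xt, hx⟩ := Subtype.ext ((he z).trans hz)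
    have hsndκ := Groth.Agent.Lib.AlgSpFibreRel91.locP_snd f hf r₀ fstκ sndκ sqκ
    have k1 := Groth.Agent.Lib.AlgSpFieldRel91.isOpen_singleton_iff_isClosed_and sndκ hsndκ hP z
    have k3 := Groth.Agent.Lib.AlgSpFibreRel91.isOpen_singleton_iff_hasAtMor f hf r₀ hP fstκ sndκ sqκ z
    rw [hz] at k3
    rw [← hez]
    exact ⟨(Groth.Agent.Lib.AlgSpFibreRel91.isOpen_singleton_homeomorph_iff e z).trans (k3.trans h3.symm),
      (Groth.Agent.Lib.AlgSpFibreRel91.isClosed_and_homeomorph_iff e z).trans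
        (k1.symm.trans (k3.trans (h3.symm.trans h1)))⟩
  · obtain ⟨r₀, P, fstκ, sndκ, e, hr₀, hP, sqκ, hdP, he⟩ :=
      Groth.Agent.Lib.AlgSpFibreRel91.exists_fibre_homeomorph f r hdY
    obtain ⟨z, hz⟩ := Groth.Agent.Lib.AlgSpFibreRel91.exists_point_over f r₀ fstκ sndκ sqκ
      (AlgSp.Points.map fst.hom xt) (by rw [hr₀]; exact hx)
    have hez : e z = ⟨AlgSp.Points.map fst.hom xt, hx⟩ := Subtype.ext ((he z).trans hz)
    have hsndκ := Groth.Agent.Lib.AlgSpFibreRel91.locP_snd f hf r₀ fstκ sndκ sqκ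
    haveI : T0Space (AlgSp.Points P) :=
      Groth.Agent.Lib.AlgSpDecentSpec.t0Space_points_of_isDecent hP (hdP hdX)
    have k4 := Groth.Agent.Lib.AlgSpFieldRel91.localDim_points_eq_zero_iff sndκ hsndκ hP z
    rw [← hez, ← Groth.Agent.Lib.H56LocDim.localDim_eq_of_homeomorph e z]
    exact k4.trans (Groth.Agent.Lib.AlgSpFibreRel91.isOpen_singleton_homeomorph_iff e z).symm

end Groth.Agent.S10445
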