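import Groth.Statements.S10446
import Groth.Agent.Lib.AlgSpGenFin36b

set_option autoImplicit false
universe u
open CategoryTheory CategoryTheory.Limits AlgebraicGeometry Topology TopologicalSpace
open AlgSp

namespace Groth.Agent.S10446

/-- (1) ⇔ (3): let S be a scheme with quasi-separated underlying space, f : X ⟶ Y a quasi-separated
morphism of algebraic spaces over S that is locally of finite type, with Y quasi-separated over S,
and y ∈ |Y| a point of codimension 0. Then |f|⁻¹(y) is finite if and only if f restricts to a finite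
morphism X' ⟶ Y' between an open subspace X' of X containing the whole fibre |f|⁻¹(y) and an open
subspace Y' of Y through y. (The published statement assumes Y quasi-separated in the absolute
sense; this row assumes S has quasi-separated underlying space and Y quasi-separated over S. Its
condition on the finiteness of |Spec k ×_Y X| is not part of this row.) -/
theorem result {S : Scheme.{u}} [QuasiSeparatedSpace ↥S] {X Y : AlgSp.Space S}
    (f : X ⟶ Y) (hqs : AlgSp.IsQuasiSeparatedMor f.hom) (hft : AlgSp.LocP @LocallyOfFiniteType f.hom)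
    (hY : AlgSp.IsQuasiSeparatedSp Y.obj) (y : AlgSp.Points Y.obj)
    (hy : AlgSp.HasAt (fun U u => ringKrullDim ↥(U.presheaf.stalk u) = 0) Y.obj y) :
    (AlgSp.Points.map f.hom ⁻¹' {y}).Finite ↔
      ∃ (X' Y' : AlgSp.Space S) (i : X' ⟶ X) (j : Y' ⟶ Y) (f' : X' ⟶ Y'), AlgSp.RepWith @IsOpenImmersion i.hom ∧
        AlgSp.RepWith @IsOpenImmersion j.hom ∧ f' ≫ j = i ≫ f ∧ y ∈ Set.range (AlgSp.Points.map j.hom) ∧
          AlgSp.Points.map f.hom ⁻¹' {y} ⊆ Set.range (AlgSp.Points.map i.hom) ∧ AlgSp.IsFiniteMor f'.hom := by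
  constructor
  · -- (1) ⇒ (3)
    intro hfin
    obtain ⟨W₀, W, hW₀o, hWo, hyW, hFW₀, hfinW⟩ :=
      Groth.Agent.Lib.AlgSpGenFin36b.exists_open_finite_of_finite_fibre X.property Y.property f.hom
        hqs hft hY y hy hfin
    let X'' : AlgSp.Space S := ⟨Groth.Agent.Lib.H86AlgSpOpen.openSub X.obj W₀,
      Groth.Agent.Lib.H86AlgSpOpen.isAlgSpace_openSub X.property hW₀o⟩
    let Y' : AlgSp.Space S := ⟨Groth.Agent.Lib.H86AlgSpOpen.openSub Y.obj W,
      Groth.Agent.Lib.H86AlgSpOpen.isAlgSpace_openSub Y.property hWo⟩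
    let j : Y' ⟶ Y := ObjectProperty.homMk (Groth.Agent.Lib.H86AlgSpOpen.openSubι Y.obj W)
    have hj : AlgSp.RepWith @IsOpenImmersion (Groth.Agent.Lib.H86AlgSpOpen.openSubι Y.obj W) :=
      Groth.Agent.Lib.H86AlgSpOpen.openSubι_repWith hWo
    have hι : AlgSp.RepWith @IsOpenImmersion (Groth.Agent.Lib.H86AlgSpOpen.openSubι X.obj W₀) :=
      Groth.Agent.Lib.H86AlgSpOpen.openSubι_repWith hW₀o
    have sq := IsPullback.of_hasPullback (Groth.Agent.Lib.H86AlgSpOpen.openSubι Y.obj W)
      (Groth.Agent.Lib.H86AlgSpOpen.openSubι X.obj W₀ ≫ f.hom)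
    let X' : AlgSp.Space S := ⟨pullback (Groth.Agent.Lib.H86AlgSpOpen.openSubι Y.obj W)
        (Groth.Agent.Lib.H86AlgSpOpen.openSubι X.obj W₀ ≫ f.hom),
      Groth.Agent.Lib.AlgSpBasic.isAlgSpace_of_isPullback Y'.property X''.property
        (fun U a => Y.property.representable_from_yon a) sq⟩
    let f' : X' ⟶ Y' := ObjectProperty.homMk (pullback.fst _ _)
    let i : X' ⟶ X := ObjectProperty.homMk (pullback.snd _ _ ≫
      Groth.Agent.Lib.H86AlgSpOpen.openSubι X.obj W₀)
    have hsnd : AlgSp.RepWith @IsOpenImmersion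
        (pullback.snd (Groth.Agent.Lib.H86AlgSpOpen.openSubι Y.obj W)
          (Groth.Agent.Lib.H86AlgSpOpen.openSubι X.obj W₀ ≫ f.hom)) :=
      Groth.Agent.Lib.AlgSpBasic.repWith_snd_of_isPullback _ sq hj
    refine ⟨X', Y', i, j, f', MorphismProperty.comp_mem _ _ _ hsnd hι, hj, ?_, ?_, ?_,
      hfinW _ _ _ sq⟩
    · apply ObjectProperty.hom_ext
      change pullback.fst _ _ ≫ Groth.Agent.Lib.H86AlgSpOpen.openSubι Y.obj W =
        (pullback.snd _ _ ≫ Groth.Agent.Lib.H86AlgSpOpen.openSubι X.obj W₀) ≫ f.hom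
      rw [Category.assoc]; exact sq.w
    · change y ∈ Set.range (AlgSp.Points.map (Groth.Agent.Lib.H86AlgSpOpen.openSubι Y.obj W))
      rw [Groth.Agent.Lib.H86AlgSpOpen.range_map_openSubι]
      exact hyW
    · intro x hx
      have hxW₀ : x ∈ Set.range (AlgSp.Points.map (Groth.Agent.Lib.H86AlgSpOpen.openSubι X.obj W₀)) := by
        rw [Groth.Agent.Lib.H86AlgSpOpen.range_map_openSubι]; exact hFW₀ hx
      obtain ⟨x'', rfl⟩ := hxW₀
      have hyW' : y ∈ Set.range (AlgSp.Points.map (Groth.Agent.Lib.H86AlgSpOpen.openSubι Y.obj W)) := by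
        rw [Groth.Agent.Lib.H86AlgSpOpen.range_map_openSubι]; exact hyW
      obtain ⟨y', rfl⟩ := hyW'
      obtain ⟨p, -, hp2⟩ := Groth.Agent.Lib.AlgSpPoints.exists_point_of_isPullback sq y' x'' (by
        rw [AlgSp.Points.map_comp]; exact hx.symm)
      refine ⟨p, ?_⟩
      change AlgSp.Points.map (pullback.snd _ _ ≫ Groth.Agent.Lib.H86AlgSpOpen.openSubι X.obj W₀) p = _
      rw [AlgSp.Points.map_comp, hp2]
  · -- (3) ⇒ (1)
    rintro ⟨X', Y', i, j, f', hi, hj, hcomm, ⟨y', rfl⟩, hFi, hfin⟩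
    have hmono : Mono j.hom := Groth.Agent.Lib.AlgSpBasic.mono_of_repWith (P := @IsOpenImmersion)
      (fun _ _ k hk => by
        have : IsOpenImmersion k := hk
        exact MorphismProperty.monomorphisms.infer_property k) hj
    have h1 := Groth.Agent.Lib.AlgSpGenFin36b.finite_fibre_of_isFiniteMor f'.hom hfin y'
    refine (h1.image (AlgSp.Points.map i.hom)).subset ?_
    intro x hx
    obtain ⟨x', rfl⟩ := hFi hx
    refine ⟨x', ?_, rfl⟩
    apply Groth.Agent.Lib.H86AlgSpOpen.map_injective_of_mono j.hom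
    have h2 : f'.hom ≫ j.hom = i.hom ≫ f.hom := congrArg (·.hom) hcomm
    rw [← AlgSp.Points.map_comp, h2, AlgSp.Points.map_comp]
    exact hx

end Groth.Agent.S10446
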