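import Groth.Statements.S9795
import Mathlib.AlgebraicGeometry.ValuativeCriterion

set_option autoImplicit false
universe u
open CategoryTheory AlgebraicGeometry TopologicalSpace
open Props

namespace Groth.Agent.S9795

theorem eq_of_specializes_of_dim_le_zero {X : Type*} [TopologicalSpace X] [T0Space X]
    (h : topologicalKrullDim X ≤ 0) {x y : X} (hxy : x ⤳ y) : x = y := by
  have hmax := Order.krullDim_nonpos_iff_forall_isMax.mp h
  let cx : IrreducibleCloseds X := ⟨closure {x}, isIrreducible_singleton.closure, isClosed_closure⟩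
  let cy : IrreducibleCloseds X := ⟨closure {y}, isIrreducible_singleton.closure, isClosed_closure⟩
  have hle : cy ≤ cx := by
    change closure {y} ⊆ closure {x}
    exact closure_minimal (Set.singleton_subset_iff.mpr hxy.mem_closure) isClosed_closure
  have hge : cx ≤ cy := hmax cy hle
  have hyx : y ⤳ x := by
    rw [specializes_iff_mem_closure]
    exact hge (subset_closure rfl)
  exact (hxy.antisymm hyx).eq


/-- A quasi-separated scheme of dimension at most zero is separated. -/
theorem result (X : Scheme.{u}) [QuasiSeparatedSpace X]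
    (h : topologicalKrullDim X ≤ 0) : X.IsSeparated := by
  refine ⟨IsSeparated.of_valuativeCriterion _ ?_⟩
  intro Sq
  refine ⟨fun l₁ l₂ => ?_⟩
  ext1
  -- the generic point of Spec R
  let η : Spec (.of Sq.R) := ⟨⊥, Ideal.isPrime_bot⟩
  have hη : ∀ z : Spec (.of Sq.R), η ⤳ z := fun z =>
    (PrimeSpectrum.le_iff_specializes η z).mp bot_le
  have himg : ∀ (l : Spec (.of Sq.R) ⟶ X) (z : Spec (.of Sq.R)), l.base z = l.base η := fun l z =>
    (eq_of_specializes_of_dim_le_zero h ((hη z).map l.base.hom.continuous)).symm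
  have hi : l₁.l.base η = l₂.l.base η := by
    let pt : Spec (.of Sq.K) := ⟨⊥, Ideal.isPrime_bot⟩
    have hpt : (Spec.map (CommRingCat.ofHom (algebraMap Sq.R Sq.K))).base pt = η := by
      apply PrimeSpectrum.ext
      change Ideal.comap (algebraMap Sq.R Sq.K) ⊥ = ⊥
      rw [← RingHom.ker_eq_comap_bot]
      exact (RingHom.injective_iff_ker_eq_bot _).mp (IsFractionRing.injective Sq.R Sq.K)
    rw [← hpt, ← Scheme.Hom.comp_apply, ← Scheme.Hom.comp_apply, l₁.fac_left, l₂.fac_left]
  obtain ⟨U, hU, hxU⟩ : ∃ U : X.Opens, IsAffineOpen U ∧ l₁.l.base η ∈ U := by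
    obtain ⟨_, ⟨U, hU, rfl⟩, hxU, -⟩ :=
      (X.isBasis_affineOpens).exists_subset_of_mem_open (Set.mem_univ (l₁.l.base η)) isOpen_univ
    exact ⟨U, hU, hxU⟩
  have hr₁ : Set.range l₁.l.base ⊆ Set.range U.ι.base := by
    rintro _ ⟨z, rfl⟩
    rw [Scheme.Opens.range_ι, himg l₁.l z]
    exact hxU
  have hr₂ : Set.range l₂.l.base ⊆ Set.range U.ι.base := by
    rintro _ ⟨z, rfl⟩
    rw [Scheme.Opens.range_ι, himg l₂.l z, ← hi]
    exact hxU
  have : IsAffine U.toScheme := hU
  have hlift : IsOpenImmersion.lift U.ι l₁.l hr₁ = IsOpenImmersion.lift U.ι l₂.l hr₂ := by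
    have hdom : IsDominant (Spec.map (CommRingCat.ofHom (algebraMap Sq.R Sq.K))) := by
      refine ⟨?_⟩
      change DenseRange (PrimeSpectrum.comap (algebraMap Sq.R Sq.K))
      rw [PrimeSpectrum.denseRange_comap_iff_ker_le_nilRadical,
        (RingHom.injective_iff_ker_eq_bot _).mp (IsFractionRing.injective Sq.R Sq.K)]
      exact bot_le
    refine ext_of_isDominant (Spec.map (CommRingCat.ofHom (algebraMap Sq.R Sq.K))) ?_
    rw [← cancel_mono U.ι, Category.assoc, Category.assoc, IsOpenImmersion.lift_fac,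
      IsOpenImmersion.lift_fac, l₁.fac_left, l₂.fac_left]
  rw [← IsOpenImmersion.lift_fac U.ι l₁.l hr₁, ← IsOpenImmersion.lift_fac U.ι l₂.l hr₂, hlift]

end Groth.Agent.S9795
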