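import Groth.Statements.S9797
import Groth.Agent.S9796

set_option autoImplicit false
universe u
open CategoryTheory AlgebraicGeometry TopologicalSpace
open Props

namespace Groth.Agent.S9797

/-- An open subset of an affine open which is closed in the ambient space is affine. -/
theorem isAffineOpen_of_le_of_isClosed {X : Scheme.{u}} {W W' : X.Opens} (hW : IsAffineOpen W)
    (hle : W' ≤ W) (hcl : IsClosed (W' : Set X)) : IsAffineOpen W' := by
  have : IsAffine W.toScheme := hW
  have hci : IsClosedImmersion (X.homOfLE hle) := by
    apply IsClosedImmersion.of_isPreimmersion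
    have hr : Set.range (X.homOfLE hle).base = (W.ι.base) ⁻¹' (W' : Set X) := by
      ext w
      constructor
      · rintro ⟨w', rfl⟩
        have := congrArg (fun f => f.base w') (X.homOfLE_ι hle)
        simp only [Scheme.Hom.comp_base, TopCat.comp_app] at this
        change W.ι.base ((X.homOfLE hle).base w') ∈ (W' : Set X)
        rw [this]
        exact w'.2
      · intro hw
        refine ⟨⟨W.ι.base w, hw⟩, ?_⟩
        apply W.ι.isOpenEmbedding.injective
        have := congrArg (fun f => f.base ⟨W.ι.base w, hw⟩) (X.homOfLE_ι hle)
        simp only [Scheme.Hom.comp_base, TopCat.comp_app] at this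
        exact this
    rw [hr]
    exact hcl.preimage W.ι.continuous
  exact isAffine_of_isAffineHom (X.homOfLE hle)

theorem isAffineOpen_sup {X : Scheme.{u}} [T2Space X] {V W : X.Opens} (hV : IsAffineOpen V)
    (hW : IsAffineOpen W) : IsAffineOpen (V ⊔ W) := by
  have hVcl : IsClosed (V : Set X) := hV.isCompact.isClosed
  have hWcl : IsClosed (W : Set X) := hW.isCompact.isClosed
  let W' : X.Opens := ⟨(W : Set X) \ (V : Set X), W.2.sdiff hVcl⟩
  have hW'le : W' ≤ W := fun x hx => hx.1
  have hW'cl : IsClosed (W' : Set X) := by
    change IsClosed ((W : Set X) \ (V : Set X))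
    rw [Set.sdiff_eq]
    exact hWcl.inter V.2.isClosed_compl
  have hW' : IsAffineOpen W' := isAffineOpen_of_le_of_isClosed hW hW'le hW'cl
  have hdisj : Disjoint V W' := by
    rw [← Opens.coe_disjoint]
    exact Set.disjoint_sdiff_right
  have heq : V ⊔ W = V ⊔ W' := by
    apply SetLike.coe_injective
    change (V : Set X) ∪ W = (V : Set X) ∪ ((W : Set X) \ V)
    rw [Set.union_sdiff_self]
  rw [heq]
  exact hV.sup_of_disjoint hW' hdisj


/-- In a separated scheme of dimension at most zero, every quasi-compact open is affine. -/
theorem result (X : Scheme.{u}) [X.IsSeparated]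
    (h : topologicalKrullDim X ≤ 0) (U : X.Opens) (hU : IsCompact (U : Set X)) :
    IsAffineOpen U := by
  have hT2 : T2Space X := (Groth.Agent.S9796.result X h).1
  obtain ⟨s, hs, rfl⟩ := isCompact_iff_finite_and_eq_biUnion_affineOpens.mp hU
  clear hU
  induction s, hs using Set.Finite.induction_on with
  | empty =>
    simp only [Set.mem_empty_iff_false, not_false_eq_true, iSup_neg, iSup_bot]
    exact isAffineOpen_bot X
  | insert ha hs ih =>
    rw [iSup_insert]
    exact isAffineOpen_sup (Subtype.property _) ih

end Groth.Agent.S9797
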