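import Groth.Statements.S10450
import Groth.Agent.Lib.CodimZeroNbhd46b
import Groth.Agent.Lib.H86AlgSpDiag
import Groth.Agent.S9795
import Groth.Agent.S9797

set_option autoImplicit false
universe u
open CategoryTheory CategoryTheory.Limits AlgebraicGeometry Topology TopologicalSpace
open AlgSp

namespace Groth.Agent.S10450

/-- Let X be a quasi-separated algebraic space of dimension 0 over a quasi-separated scheme S. Then X is
a separated scheme and every quasi-compact open of X is affine. (The published statement allows any
base scheme S and takes X quasi-separated in the absolute sense; this row asks S to be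
quasi-separated and X quasi-separated over S, which together imply absolute quasi-separatedness.) -/
theorem result {S : Scheme.{u}} [QuasiSeparatedSpace S]
    (X : AlgSp.Space S) (hqs : AlgSp.IsQuasiSeparatedSp X.obj) (hd : AlgSp.dim X.obj = 0) :
    ∃ (U : Over S) (_ : (AlgSp.yon S).obj U ≅ X.obj), U.left.IsSeparated ∧
      ∀ V : U.left.Opens, IsCompact (V : Set ↥U.left) → IsAffineOpen V := by

  obtain ⟨Y, e, -⟩ := Groth.Agent.Lib.CodimZeroNbhd46.exists_iso_yon_of_dim_eq_zero X hqs hd
  have he : RepWith @Etale e.hom := by
    have h1 := MorphismProperty.RespectsIso.postcomp (RepWith (S := S) @Etale) e.hom (𝟙 _)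
      (repWith_id @Etale Y)
    rwa [Category.id_comp] at h1
  have hdim : topologicalKrullDim ↥Y.left ≤ 0 := by
    rw [← hd]
    exact Groth.Agent.Lib.AlgSpDim91.topologicalKrullDim_le_dim e.hom he
  have hqsY : QuasiSeparatedSpace ↥Y.left := by
    have sq : IsPullback ((yon S).map (𝟙 Y)) ((yon S).map (𝟙 Y)) e.hom e.hom := by
      rw [CategoryTheory.Functor.map_id]
      exact IsKernelPair.id_of_mono e.hom
    have H := Groth.Agent.Lib.H86AlgSpDiag.isPullback_diag_yon sq
    have h1 : QuasiCompact (prod.lift (𝟙 Y) (𝟙 Y)).left := hqs.2 _ _ _ H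
    have h2 : (prod.lift (𝟙 Y) (𝟙 Y)).left ≫ (Over.prodLeftIsoPullback Y Y).hom =
        pullback.diagonal Y.hom := by
      apply pullback.hom_ext
      · rw [Category.assoc, Over.prodLeftIsoPullback_hom_fst, ← Over.comp_left, prod.lift_fst,
          pullback.diagonal_fst]
        rfl
      · rw [Category.assoc, Over.prodLeftIsoPullback_hom_snd, ← Over.comp_left, prod.lift_snd,
          pullback.diagonal_snd]
        rfl
    have h3 : QuasiCompact (pullback.diagonal Y.hom) := by
      rw [← h2]
      infer_instance
    have h4 : QuasiSeparated Y.hom := ⟨h3⟩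
    exact quasiSeparatedSpace_of_quasiSeparated Y.hom
  have hsep : Y.left.IsSeparated := Groth.Agent.S9795.result Y.left hdim
  exact ⟨Y, e, hsep, fun V hV => Groth.Agent.S9797.result Y.left hdim V hV⟩

end Groth.Agent.S10450
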