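import Groth.Statements.S10451
import Groth.Agent.Lib.LqfField46
import Groth.Agent.Lib.AlgSpDim91
import Groth.Agent.S9795
import Groth.Agent.S9797

set_option autoImplicit false
universe u
open CategoryTheory CategoryTheory.Limits AlgebraicGeometry Topology TopologicalSpace
open AlgSp

namespace Groth.Agent.S10451

/-- Let k be a field and X an algebraic space locally of finite type over k with dim X = 0. Then X is a
separated scheme and every quasi-compact open of X is affine. -/
theorem result (k : Type u) [Field k]
    (X : AlgSp.Space (Spec (CommRingCat.of k))) (p : X.obj ⟶ (AlgSp.yon (Spec (CommRingCat.of k))).obj (Over.mk (𝟙 _)))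
    (hp : AlgSp.LocP @LocallyOfFiniteType p) (hd : AlgSp.dim X.obj = 0) :
    ∃ (U : Over (Spec (CommRingCat.of k))) (_ : (AlgSp.yon (Spec (CommRingCat.of k))).obj U ≅ X.obj), U.left.IsSeparated ∧
      ∀ V : U.left.Opens, IsCompact (V : Set ↥U.left) → IsAffineOpen V := by

  have hp' : AlgSp.LocP (@LocallyQuasiFinite ⊓ @LocallyOfFiniteType : MorphismProperty Scheme.{u}) p := by
    intro U V a b h ha hb hcomm
    have hlft : LocallyOfFiniteType h.left := hp a b h ha hb hcomm
    refine ⟨?_, hlft⟩
    obtain ⟨b₀, rfl⟩ := (yon (Spec (CommRingCat.of k))).map_surjective b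
    have hb₀ : Etale b₀.left := (AlgSp.repWith_yon_map_iff _ _).1 hb
    have hV : Etale V.hom := by
      have e : b₀.left = V.hom := by
        have := Over.w b₀
        simpa using this
      rw [← e]
      exact hb₀
    have hU : LocallyOfFiniteType U.hom := by
      rw [← Over.w h]
      infer_instance
    have hLN : IsLocallyNoetherian U.left := LocallyOfFiniteType.isLocallyNoetherian U.hom
    have hdim : topologicalKrullDim ↥U.left ≤ 0 := by
      rw [← hd]
      exact Groth.Agent.Lib.AlgSpDim91.topologicalKrullDim_le_dim a ha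
    have hLA : IsLocallyArtinian U.left := IsLocallyArtinian.of_topologicalKrullDim_le_zero hdim
    have hD : DiscreteTopology ↥U.left := inferInstance
    rw [locallyQuasiFinite_iff_isDiscrete_preimage_singleton]
    intro v
    exact ⟨inferInstance⟩
  obtain ⟨Z, ⟨e⟩⟩ := Groth.Agent.Lib.LqfField46.exists_iso_yon_of_lqf X p hp'
  have he : RepWith @Etale e.hom := by
    have h1 := MorphismProperty.RespectsIso.postcomp
      (RepWith (S := Spec (CommRingCat.of k)) @Etale) e.hom (𝟙 _) (repWith_id @Etale Z)
    rwa [Category.id_comp] at h1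
  have hdim : topologicalKrullDim ↥Z.left ≤ 0 := by
    rw [← hd]
    exact Groth.Agent.Lib.AlgSpDim91.topologicalKrullDim_le_dim e.hom he
  obtain ⟨hq, hl⟩ := Groth.Agent.Lib.LqfField46.lqf_lft_chart p hp' e.hom he
  have hdisc : DiscreteTopology ↥Z.left :=
    Groth.Agent.Lib.EtaleFieldMono.discreteTopology_of_lqf_field Z.hom
  have hqsZ : QuasiSeparatedSpace ↥Z.left := inferInstance
  have hsep : Z.left.IsSeparated := Groth.Agent.S9795.result Z.left hdim
  exact ⟨Z, e, hsep, fun V hV => Groth.Agent.S9797.result Z.left hdim V hV⟩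

end Groth.Agent.S10451
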