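import Groth.Statements.S10453
import Groth.Agent.Lib.CodimZeroNbhd46
import Groth.Agent.Lib.AlgSpFibreEmb46
import Groth.Agent.Lib.AlgSpGenericPt
import Groth.Agent.Lib.AlgSpDecentPt91b
import Groth.Agent.Lib.H86AlgSpOpen
import Groth.Agent.Lib.AlgSpQC
import Groth.Agent.S10196

set_option autoImplicit false
universe u
open CategoryTheory CategoryTheory.Limits AlgebraicGeometry Topology TopologicalSpace
open AlgSp

namespace Groth.Agent.S10453

/-- Let X be a quasi-separated algebraic space over a quasi-separated scheme S and x a point of X of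
codimension 0 (the local ring of X at x has dimension 0). Then some open subspace of X containing x
is a scheme. (The published statement allows any base scheme S and takes X quasi-separated in the
absolute sense; this row asks S to be quasi-separated and X quasi-separated over S, which together
imply absolute quasi-separatedness.) -/
theorem result {S : Scheme.{u}} [QuasiSeparatedSpace S]
    (X : AlgSp.Space S) (hqs : AlgSp.IsQuasiSeparatedSp X.obj) (x : AlgSp.Points X.obj)
    (hx : AlgSp.HasAt (fun U u => ringKrullDim ↥(U.presheaf.stalk u) = 0) X.obj x) :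
    ∃ (X' : AlgSp.Space S) (j : X' ⟶ X), AlgSp.RepWith @IsOpenImmersion j.hom ∧
      X'.obj.obj.IsRepresentable ∧ x ∈ Set.range (AlgSp.Points.map j.hom) := by

  have hdec : IsDecent X.obj :=
    Groth.Agent.Lib.AlgSpDecentPt91.isDecent_of_isQuasiSeparatedSp X.property hqs
  obtain ⟨p, hp, hm, hq⟩ := hdec x
  obtain ⟨U, a, u, ha, hUaff, hu, huniq⟩ :=
    Groth.Agent.Lib.AlgSpFibreEmb46.exists_affine_chart_unique X p hq
  have hxu : Points.ofPt a u = x := hu.trans hp
  -- codimension zero at `u`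
  obtain ⟨U₀, a₀, u₀, ha₀, hu₀, hdim⟩ := hx
  have h0 : ∀ u' : ↥U₀.left, u' ⤳ u₀ → u' = u₀ :=
    (Groth.Agent.Lib.AlgSpGenericPt.ringKrullDim_stalk_eq_zero_iff u₀).1 hdim
  have h1 : ∀ x' : Points X.obj, x' ⤳ x → x' = x := by
    rw [← hu₀]
    exact (Groth.Agent.Lib.AlgSpGenericPt.forall_generization_eq_iff_chart X hdec a₀ ha₀ u₀).2 h0
  have h2 : ∀ u' : ↥U.left, u' ⤳ u → u' = u :=
    (Groth.Agent.Lib.AlgSpGenericPt.forall_generization_eq_iff_chart X hdec a ha u).1
      (by rw [hxu]; exact h1)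
  have hu0 : closure {u} ∈ irreducibleComponents ↥U.left := by
    obtain ⟨T, hT, hgen⟩ := (Groth.Agent.Lib.AlgSpGenericPt.exists_component_generic_iff u).2 h2
    rw [hgen.def]
    exact hT
  -- the chart is quasi-compact
  have hqc : RepWith @QuasiCompact a :=
    Groth.Agent.Lib.AlgSpDecentPt91.repWith_quasiCompact_of_isQuasiSeparatedSp hqs
      (inferInstance : QuasiCompact U.hom) a ha.1
  have sqR := ha.rep.isPullback' a
  obtain ⟨W, j, R', s', t', w, hj, hWaff, hjw, hR', hfin⟩ :=
    Groth.Agent.Lib.CodimZeroNbhd46.exists_affine_invariant a ha hqc sqR u hu0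
      (fun u' hu' => huniq u' (hu'.trans hu))
  have hb : RepWith @Etale ((yon S).map j ≫ a) := by
    have hj' : RepWith @Etale ((yon S).map j) :=
      (AlgSp.repWith_yon_map_iff _ _).2 (inferInstance : Etale j.left)
    exact MorphismProperty.comp_mem _ _ _ hj' ha
  have hopen : IsOpen (Set.range (Points.ofPt ((yon S).map j ≫ a))) :=
    (Groth.Agent.Lib.AlgSpQC.isOpenMap_ofPt_of_repWith_etale hb).isOpen_range
  let X' : AlgSp.Space S :=
    ⟨Groth.Agent.Lib.H86AlgSpOpen.openSub X.obj (Set.range (Points.ofPt ((yon S).map j ≫ a))),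
      Groth.Agent.Lib.H86AlgSpOpen.isAlgSpace_openSub X.property hopen⟩
  let jj : X' ⟶ X := ObjectProperty.homMk (Groth.Agent.Lib.H86AlgSpOpen.openSubι X.obj _)
  have hjj : RepWith @IsOpenImmersion jj.hom := Groth.Agent.Lib.H86AlgSpOpen.openSubι_repWith hopen
  have hrange : Set.range (Points.map jj.hom) = Set.range (Points.ofPt ((yon S).map j ≫ a)) :=
    Groth.Agent.Lib.H86AlgSpOpen.range_map_openSubι
  obtain ⟨b', hb'j, hb'e, hb's, hpres⟩ :=
    Groth.Agent.S10196.result ((yon S).map j ≫ a) hb jj hjj hrange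
  have hP := (hpres R' s' t' hR').isPullback
  obtain ⟨M, e, q, -⟩ := Groth.Agent.Lib.FinEtQuot46.exists_iso_of_chart b' hb'e hb's hP
  refine ⟨X', jj, hjj, ⟨M, ⟨AlgSp.representableByOfIso e⟩⟩, ?_⟩
  rw [hrange]
  exact ⟨w, by rw [Groth.Agent.Lib.AlgSpPoints.ofPt_yon_map_comp, hjw, hxu]⟩

end Groth.Agent.S10453
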