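import Groth.Statements.S10459
import Groth.Agent.S10324

set_option linter.style.haveILetI false

set_option autoImplicit false
universe u
open CategoryTheory CategoryTheory.Limits AlgebraicGeometry Topology TopologicalSpace
open AlgSp

namespace Groth.Agent.S10459

/-- Let f : X ⟶ Y be a dominant morphism locally of finite type between integral algebraic spaces over a
scheme S, with Y locally Noetherian, and let r be the transcendence degree of the generic point of X
over its image (the generic point of Y). Then dim X ≤ dim Y + r. -/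
theorem result {S : Scheme.{u}} {X Y : AlgSp.Space S} (f : X ⟶ Y)
    (hY : AlgSp.IsLocNoethSp Y.obj) (hXi : AlgSp.IsIntegralSp X.obj) (hYi : AlgSp.IsIntegralSp Y.obj)
    (hd : AlgSp.IsDominantMor f.hom) (hft : AlgSp.LocP @LocallyOfFiniteType f.hom)
    (x : AlgSp.Points X.obj) (hx : IsGenericPoint x (Set.univ : Set (AlgSp.Points X.obj))) (r : ℕ)
    (hr : AlgSp.HasAtMor (fun _ _ h u => Dual3.resTrdeg h u = (r : Cardinal.{u})) f.hom x) :
    AlgSp.dim X.obj ≤ AlgSp.dim Y.obj + ((r : ℕ∞) : WithBot ℕ∞) := by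
  have hX : AlgSp.IsDecent X.obj := hXi.2.1
  haveI : IrreducibleSpace (AlgSp.Points X.obj) := hXi.2.2
  haveI : T0Space (AlgSp.Points X.obj) := Groth.Agent.S10338.result X hX
  have key := Groth.Agent.S10324.result f hY hft (r : Cardinal.{u}) (fun ξ hξ s hs => by
    obtain ⟨T, hT, hgen⟩ :=
      (Groth.Agent.Lib.AlgSpGenericPt.exists_component_generic_iff_hasAt X hX ξ).2 hξ
    rw [irreducibleComponents_eq_singleton, Set.mem_singleton_iff] at hT
    subst hT
    have hξx : ξ = x := hgen.eq hx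
    subst hξx
    obtain ⟨U₁, V₁, a₁, b₁, h₁, u₁, ha₁, hb₁, hc₁, hu₁, hs₁⟩ := hs
    obtain ⟨U₂, V₂, a₂, b₂, h₂, u₂, ha₂, hb₂, hc₂, hu₂, hr₂⟩ := hr
    have := Groth.Agent.Lib.AlgSpTrdeg91.resTrdeg_chart_indep f.hom a₁ b₁ h₁ a₂ b₂ h₂
      ha₁ hb₁ ha₂ hb₂ hc₁ hc₂ u₁ u₂ (hu₁.trans hu₂.symm)
    rw [← hs₁, this, hr₂])
  simpa using key

end Groth.Agent.S10459
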