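import Groth.Statements.S6030
import Groth.Agent.Lib.LocCohModShift92
import Groth.Agent.Lib.RpushQCoh
import Groth.Agent.Lib.H90OXModExact

set_option autoImplicit false
universe u
open CategoryTheory CategoryTheory.Limits TopologicalSpace AlgebraicGeometry
open LocCohZ

namespace Groth.Agent.S6030

/-- Let Y be a scheme, j : U → Y a quasi-compact open immersion with closed complement Z, and M a
quasi-coherent O_Y-module. Then the local cohomology sheaves ℋ^q_Z(M) (right derived functors of Γ_Z
on O_Y-modules) are quasi-coherent for every q. -/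
theorem result {U Y : Scheme.{u}} (j : U ⟶ Y) [IsOpenImmersion j] [QuasiCompact j]
    [HasInjectiveResolutions Y.Modules] (M : Y.Modules) (hM : Coh.IsQCoh M) (q : ℕ) :
    Coh.IsQCoh ((LocCohZ.HZshM j q).obj M) := by
  let W := j.opensRange
  have hW : HasInjectiveResolutions (W : Scheme.{u}).Modules :=
    Groth.Agent.Lib.RpushRestrict.hasInjectiveResolutions _
  -- reduce to the inclusion of the open subscheme `W`
  have hrange : j.opensRange = W.ι.opensRange := (Scheme.Opens.opensRange_ι W).symm
  let e0 := Groth.Agent.Lib.LocCohModShift92.gammaZIso j W.ι hrange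
  have e1 : (LocCohZ.HZshM j q).obj M ≅ (LocCohZ.HZshM W.ι q).obj M :=
    (Groth.Agent.Lib.RightDerivedPostComp.rightDerivedIsoOfIso e0 q).app M
  suffices h : Coh.IsQCoh ((LocCohZ.HZshM W.ι q).obj M) from
    (SheafOfModules.isQuasicoherent Y.ringCatSheaf).prop_of_iso e1.symm h
  -- quasi-compactness of the inclusion
  have hqc : QuasiCompact W.ι := by
    rw [← Scheme.Hom.isoOpensRange_inv_comp j]
    infer_instance
  have hMq : M.IsQuasicoherent := hM
  have hMq' : ((𝟭 Y.Modules).obj M).IsQuasicoherent := hM
  have hres : Coh.IsQCoh ((Scheme.Modules.restrictFunctor W.ι).obj M) :=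
    Scheme.Modules.isQuasicoherent_restrictFunctor _ _
  -- `j_* j^* M` is quasi-coherent
  have hG : ((Groth.Agent.Lib.LocCohModShift92.G W).obj M).IsQuasicoherent := by
    have h0 := Groth.Agent.Lib.RpushQCoh.isQuasicoherent_Rpush W.ι
      ((Scheme.Modules.restrictFunctor W.ι).obj M) 0 hres
    exact (SheafOfModules.isQuasicoherent Y.ringCatSheaf).prop_of_iso
      ((Functor.rightDerivedZeroIsoSelf (Scheme.Modules.pushforward W.ι)).app _) h0
  rcases q with _ | _ | n
  · -- degree 0: the kernel of the unit
    have h1 : (kernel ((Groth.Agent.Lib.LocCohModShift92.β W).app M)).IsQuasicoherent :=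
      Groth.Agent.Lib.H90OXModExact.isQuasicoherent_kernel _
    exact (SheafOfModules.isQuasicoherent Y.ringCatSheaf).prop_of_iso
      ((Functor.rightDerivedZeroIsoSelf (DCoh.gammaZ W.ι)).app M).symm h1
  · -- degree 1: the cokernel of the unit
    obtain ⟨e⟩ := Groth.Agent.Lib.LocCohModShift92.nonempty_HZshM_one_iso W
    have h1 : (cokernel ((Groth.Agent.Lib.LocCohModShift92.β W).app M)).IsQuasicoherent :=
      Groth.Agent.Lib.H90OXModExact.isQuasicoherent_cokernel _
    have e2 : (cokernel (Groth.Agent.Lib.LocCohModShift92.β W)).obj M ≅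
        cokernel ((Groth.Agent.Lib.LocCohModShift92.β W).app M) :=
      PreservesCokernel.iso ((evaluation Y.Modules Y.Modules).obj M)
        (Groth.Agent.Lib.LocCohModShift92.β W)
    exact (SheafOfModules.isQuasicoherent Y.ringCatSheaf).prop_of_iso
      (e.app M ≪≫ e2).symm h1
  · -- degree `n + 2`: a higher direct image
    obtain ⟨e⟩ := Groth.Agent.Lib.LocCohModShift92.nonempty_HZshM_succ_iso W n
    obtain ⟨e'⟩ := Groth.Agent.Lib.LocCohModShift92.nonempty_G_rightDerived_iso W (n + 1)
    have h1 := Groth.Agent.Lib.RpushQCoh.isQuasicoherent_Rpush W.ι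
      ((Scheme.Modules.restrictFunctor W.ι).obj M) (n + 1) hres
    exact (SheafOfModules.isQuasicoherent Y.ringCatSheaf).prop_of_iso
      (e.app M ≪≫ e'.app M).symm h1

end Groth.Agent.S6030
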