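import Groth.Statements.S1046
import Groth.Agent.Lib.RFPlusSerre92
import Groth.Agent.Lib.RgammaZPlusSupp92
import Groth.Agent.Lib.QCohWeakSerre11
import Groth.Agent.S6030

set_option autoImplicit false
universe u
open CategoryTheory CategoryTheory.Limits AlgebraicGeometry
attribute [local instance] HasDerivedCategory.standard
open Perf

namespace Groth.Agent.S1046

/-- Let U ⊆ X be an open subscheme with quasi-compact inclusion and T = X ∖ U. Assuming O_X-modules have
enough injectives (true, not recorded), for every bounded below E ∈ D(O_X) with quasi-coherent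
cohomology sheaves, the derived sections with support RΓ_T(E) (right derived functor of F ↦ ker(F →
j_*(F|_U))) has quasi-coherent cohomology sheaves, all supported on T. -/
theorem result (X : Scheme.{u}) (U : X.Opens) [QuasiCompact U.ι] [EnoughInjectives X.Modules]
    (E : DerivedCategory.Plus X.Modules) (hE : DCoh.IsQCohD E.obj) :
    DCoh.IsQCohD ((DCoh.RgammaZPlus U.ι).obj E).obj ∧
    ∀ i : ℤ, CohB1.support (DCoh.HD ((DCoh.RgammaZPlus U.ι).obj E).obj i) ⊆ (U : Set X)ᶜ := by
  have key1 := Groth.Agent.Lib.RFPlusSerre92.prop_homology (DCoh.gammaZ U.ι)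
    (fun M : X.Modules => Coh.IsQCoh M)
    (fun e h => Groth.Agent.Lib.QCohWeakSerre11.QC_of_iso e h)
    (Groth.Agent.Lib.QCohWeakSerre11.QC X)
    (fun M hM p => Groth.Agent.S6030.result U.ι M hM p) E (fun q => hE q)
  have key2 := Groth.Agent.Lib.RFPlusSerre92.prop_homology (DCoh.gammaZ U.ι)
    (fun _ : X.Modules => True) (fun _ _ => trivial)
    (Groth.Agent.Lib.RgammaZPlusSupp92.restrictZero U.ι)
    (fun M _ p => Groth.Agent.Lib.RgammaZPlusSupp92.isZero_restrict_rightDerived_gammaZ U.ι M p)
    E (fun _ => trivial)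
  exact ⟨fun i => key1 i,
    fun i => Groth.Agent.Lib.RgammaZPlusSupp92.support_subset_compl U _ (key2 i)⟩

end Groth.Agent.S1046
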