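import Groth.Statements.S10460
import Groth.Agent.S10459
import Groth.Agent.Lib.GenericFibrePoint
import Groth.Agent.Lib.H86DecentDim

set_option linter.style.haveILetI false

set_option autoImplicit false
universe u
open CategoryTheory CategoryTheory.Limits AlgebraicGeometry Topology TopologicalSpace
open AlgSp

namespace Groth.Agent.S10460

/-- Let f : X ⟶ Y be a proper dominant morphism between integral algebraic spaces over a scheme S, with
Y locally Noetherian, and let r be the transcendence degree of the generic point of X over the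
generic point of Y. Then dim X = dim Y + r. -/
theorem result {S : Scheme.{u}} {X Y : AlgSp.Space S} (f : X ⟶ Y)
    (hY : AlgSp.IsLocNoethSp Y.obj) (hXi : AlgSp.IsIntegralSp X.obj) (hYi : AlgSp.IsIntegralSp Y.obj)
    (hd : AlgSp.IsDominantMor f.hom) (hp : AlgSp.IsProperMor f.hom)
    (x : AlgSp.Points X.obj) (hx : IsGenericPoint x (Set.univ : Set (AlgSp.Points X.obj))) (r : ℕ)
    (hr : AlgSp.HasAtMor (fun _ _ h u => Dual3.resTrdeg h u = (r : Cardinal.{u})) f.hom x) :
    AlgSp.dim X.obj = AlgSp.dim Y.obj + ((r : ℕ∞) : WithBot ℕ∞) := by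
  have hX : AlgSp.IsDecent X.obj := hXi.2.1
  have hYd : AlgSp.IsDecent Y.obj := hYi.2.1
  haveI : QuasiSober (AlgSp.Points X.obj) := Groth.Agent.Lib.AlgSpSober.quasiSober_of_isDecent X hX
  haveI : T0Space (AlgSp.Points X.obj) :=
    Groth.Agent.Lib.AlgSpDecentSpec.t0Space_points_of_isDecent X.property hX
  haveI : QuasiSober (AlgSp.Points Y.obj) := Groth.Agent.Lib.AlgSpSober.quasiSober_of_isDecent Y hYd
  haveI : T0Space (AlgSp.Points Y.obj) :=
    Groth.Agent.Lib.AlgSpDecentSpec.t0Space_points_of_isDecent Y.property hYd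
  have hle := Groth.Agent.S10459.result f hY hXi hYi hd hp.2.1.1 x hx r hr
  refine le_antisymm hle ?_
  obtain ⟨U, V, a, c, h, u, ha, hc, hcomm, hu, hr'⟩ := hr
  haveI : LocallyOfFiniteType h.left := hp.2.1.1 a c h ha hc hcomm
  obtain ⟨z, huz, hfz, hdim⟩ :=
    Groth.Agent.Lib.GenericFibrePoint.exists_point_stalk_dim_ge h.left u r hr'
  have hcl : IsClosedMap (AlgSp.Points.map f.hom) :=
    hp.2.2 Y.property (𝟙 Y.obj) (𝟙 X.obj) f.hom IsPullback.of_id_fst
  have hmap : AlgSp.Points.map f.hom (AlgSp.Points.ofPt a z) = AlgSp.Points.map f.hom x := by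
    rw [← hu, AlgSp.Points.map_ofPt, AlgSp.Points.map_ofPt, hcomm,
      Groth.Agent.Lib.AlgSpPoints.ofPt_yon_map_comp, Groth.Agent.Lib.AlgSpPoints.ofPt_yon_map_comp, hfz]
  have hy₀ : ∀ y : AlgSp.Points Y.obj, AlgSp.Points.map f.hom x ⤳ y := by
    intro y
    rw [specializes_iff_mem_closure]
    have h1 : Set.range (AlgSp.Points.map f.hom) ⊆ closure {AlgSp.Points.map f.hom x} := by
      rintro _ ⟨x', rfl⟩
      have : x ⤳ x' := hx.specializes (Set.mem_univ x')
      exact (this.map (AlgSp.Points.continuous_map f.hom)).mem_closure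
    have h2 : closure (Set.range (AlgSp.Points.map f.hom)) = Set.univ := hd.closure_range
    exact closure_minimal h1 isClosed_closure (h2 ▸ Set.mem_univ y)
  rw [← Groth.Agent.Lib.H86DecentDim.topologicalKrullDim_points_eq_dim X hX,
    ← Groth.Agent.Lib.H86DecentDim.topologicalKrullDim_points_eq_dim Y hYd]
  letI := specializationOrder (AlgSp.Points X.obj)
  letI := specializationOrder (AlgSp.Points Y.obj)
  rw [Groth.Agent.Lib.DimLift.topDim_eq_krullDim, Groth.Agent.Lib.DimLift.topDim_eq_krullDim]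
  have h1 : Order.height (AlgSp.Points.map f.hom (AlgSp.Points.ofPt a z)) ≤
      Order.height (AlgSp.Points.ofPt a z) :=
    Groth.Agent.Lib.GenericFibrePoint.height_le_height_of_isClosedMap _
      (AlgSp.Points.continuous_map f.hom) hcl _
  have h2 : Order.krullDim (AlgSp.Points Y.obj) ≤
      Order.height (AlgSp.Points.map f.hom (AlgSp.Points.ofPt a z)) := by
    rw [hmap, Order.krullDim_eq_iSup_height]
    apply iSup_le
    intro y
    have : y ≤ AlgSp.Points.map f.hom x := hy₀ y
    exact_mod_cast Order.height_mono this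
  have h3 : (r : WithBot ℕ∞) ≤ Order.coheight (AlgSp.Points.ofPt a z) := by
    have := Groth.Agent.Lib.H86DecentDim.coheight_eq_of_generalizingMap
      (fun _ _ => Scheme.le_iff_specializes) (fun _ _ => Iff.rfl)
      (AlgSp.Points.ofPt a) (AlgSp.Points.continuous_ofPt a)
      (Groth.Agent.Lib.H86DecentDim.generalizingMap_ofPt hX a ha)
      (Groth.Agent.Lib.H86DecentDim.eq_of_specializes_of_ofPt_eq hX a ha) z
    rw [this, ← ringKrullDim_stalk_eq_coheight]
    exact hdim
  have h4 : ((Order.height (AlgSp.Points.ofPt a z) + Order.coheight (AlgSp.Points.ofPt a z) : ℕ∞) :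
      WithBot ℕ∞) ≤ Order.krullDim (AlgSp.Points X.obj) := by
    haveI : Nonempty (AlgSp.Points X.obj) := ⟨x⟩
    rw [Order.krullDim_eq_iSup_height_add_coheight_of_nonempty]
    exact_mod_cast le_iSup (fun p : AlgSp.Points X.obj => Order.height p + Order.coheight p)
      (AlgSp.Points.ofPt a z)
  calc Order.krullDim (AlgSp.Points Y.obj) + ((r : ℕ∞) : WithBot ℕ∞)
      ≤ (Order.height (AlgSp.Points.map f.hom (AlgSp.Points.ofPt a z)) : WithBot ℕ∞) +
          (Order.coheight (AlgSp.Points.ofPt a z) : WithBot ℕ∞) := by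
        gcongr
        exact h3
    _ ≤ (Order.height (AlgSp.Points.ofPt a z) : WithBot ℕ∞) +
          (Order.coheight (AlgSp.Points.ofPt a z) : WithBot ℕ∞) := by
        have h5 : (Order.height (AlgSp.Points.map f.hom (AlgSp.Points.ofPt a z)) : WithBot ℕ∞) ≤
            (Order.height (AlgSp.Points.ofPt a z) : WithBot ℕ∞) := by
          exact_mod_cast h1
        gcongr
    _ ≤ Order.krullDim (AlgSp.Points X.obj) := by exact_mod_cast h4

end Groth.Agent.S10460
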