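import Groth.Statements.S10465
-- import your own Groth.Agent.* helpers here
import Groth.Agent.Lib.AlgSpFieldExt91

set_option autoImplicit false
universe u
open CategoryTheory CategoryTheory.Limits AlgebraicGeometry Topology TopologicalSpace
open AlgSp

namespace Groth.Agent.S10465

/-- For a field extension k'/k and an algebraic space X over k, geometric connectedness of X over k is
equivalent to geometric connectedness of its base change X_{k'} over k' (the base changes of X_{k'}
to extensions K of k' being the base changes X_K of X, geometric connectedness of X_{k'} over k'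
reads: |X_K| is connected for every field K over k'). -/
theorem result (k : Type u) [Field k] (X : AlgSp.Space (Spec (CommRingCat.of k))) (k' : Type u) [Field k'] [Algebra k k'] :
    (∀ (K : Type u) [Field K] [Algebra k K], ConnectedSpace (AlgSp.Points (X.obj ⨯ (AlgSp.yon (Spec (CommRingCat.of k))).obj (Over.mk (Spec.map (CommRingCat.ofHom (algebraMap k K))))))) ↔
      ∀ (K : Type u) [Field K] [Algebra k K] [Algebra k' K] [IsScalarTower k k' K],
        ConnectedSpace (AlgSp.Points (X.obj ⨯ (AlgSp.yon (Spec (CommRingCat.of k))).obj (Over.mk (Spec.map (CommRingCat.ofHom (algebraMap k K)))))) := by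
  constructor
  · intro h K _ _ _ _
    exact h K
  · intro h K _ _
    obtain ⟨Ω, hΩ1, hΩ2, hΩ3, hΩ4, ⟨φ⟩⟩ :=
      Groth.Agent.Lib.AlgSpFieldExt91.exists_common_field_ext k K k'
    have hc := @h Ω hΩ1 hΩ2 hΩ3 hΩ4
    let g₀ : (Over.mk (Spec.map (CommRingCat.ofHom (algebraMap k Ω))) :
        Over (Spec (CommRingCat.of k))) ⟶
        Over.mk (Spec.map (CommRingCat.ofHom (algebraMap k K))) :=
      Over.homMk (Spec.map (CommRingCat.ofHom φ.toRingHom)) (by
        dsimp
        rw [← Spec.map_comp, ← CommRingCat.ofHom_comp]
        congr 2
        exact φ.comp_algebraMap)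
    have sq := (Groth.Agent.Lib.UEE.isPullback_prod_snd_with_id
      ((AlgSp.yon (Spec (CommRingCat.of k))).map g₀) X.obj).flip
    have hsub : Subsingleton (AlgSp.Points ((AlgSp.yon (Spec (CommRingCat.of k))).obj
        (Over.mk (Spec.map (CommRingCat.ofHom (algebraMap k K)))))) := by
      have : Subsingleton ↥(Over.mk (Spec.map (CommRingCat.ofHom (algebraMap k K))) :
          Over (Spec (CommRingCat.of k))).left :=
        (inferInstance : Subsingleton (PrimeSpectrum K))
      exact (AlgSp.Points.schemeHomeo _).symm.injective.subsingleton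
    have hsurj : Function.Surjective (AlgSp.Points.map
        (Limits.prod.map (𝟙 X.obj) ((AlgSp.yon (Spec (CommRingCat.of k))).map g₀))) := by
      intro p
      obtain ⟨q, hq1, -⟩ := Groth.Agent.Lib.AlgSpPoints.exists_point_of_isPullback sq p
        (AlgSp.Points.schemeHomeo _ (default : PrimeSpectrum Ω)) (Subsingleton.elim _ _)
      exact ⟨q, hq1⟩
    exact hsurj.connectedSpace (AlgSp.Points.continuous_map _)

end Groth.Agent.S10465
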