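import Groth.Statements.S1047
import Groth.Agent.Lib.PCohFFRing
import Groth.Agent.Lib.PCohRestrict
import Groth.Agent.S4295
import Mathlib.RingTheory.AlgebraTower

set_option autoImplicit false
universe u
open CategoryTheory CategoryTheory.Limits
attribute [local instance] HasDerivedCategory.standard
open Perf

namespace Groth.Agent.S1047

open CategoryTheory.Pretriangulated Groth.Agent.S5599 Groth.Agent.Lib.PCohBdd

section Helpers

variable (A : Type u) [CommRing A] (R : Type u) [Ring R] [Algebra A R]

/-- restriction of scalars `R`-modules to `A`-modules -/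
noncomputable abbrev F : ModuleCat.{u} R ⥤ ModuleCat.{u} A :=
  ModuleCat.restrictScalars.{u} (algebraMap A R)

lemma finite_of_restrict (M : ModuleCat.{u} R) (h : Module.Finite A ((F A R).obj M)) :
    Module.Finite R M := by
  let _ : Module A M := Module.compHom M (algebraMap A R)
  have : IsScalarTower A R M := ⟨fun a b m => by
    change (a • b) • m = algebraMap A R a • (b • m)
    rw [Algebra.smul_def, mul_smul]⟩
  have : Module.Finite A M := h
  exact Module.Finite.of_restrictScalars_finite A R M

lemma isZero_of_isZero_restrict (M : ModuleCat.{u} R) (h : IsZero ((F A R).obj M)) :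
    IsZero M := by
  have h1 : Subsingleton ((F A R).obj M) := ModuleCat.subsingleton_of_isZero h
  have h2 : Subsingleton M := h1
  exact ModuleCat.isZero_of_subsingleton M

variable [Module.Finite A R] [Module.Free A R]

lemma ff_restrict (E : ModuleCat.{u} R) (hE : Groth.Agent.Lib.PCohFFRing.FF R E) :
    Groth.Agent.Lib.DRingPCoh21.FF A ((F A R).obj E) := by
  obtain ⟨h1, h2⟩ := hE
  let _ : Module A E := Module.compHom E (algebraMap A R)
  have : IsScalarTower A R E := ⟨fun a b m => by
    change (a • b) • m = algebraMap A R a • (b • m)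
    rw [Algebra.smul_def, mul_smul]⟩
  have e1 : Module.Finite A E := Module.Finite.trans R E
  have e2 : Module.Free A E :=
    Module.Free.of_basis ((Module.Free.chooseBasis A R).smulTower (Module.Free.chooseBasis R E))
  exact ⟨e1, e2⟩

end Helpers

/-- Let A be a commutative ring and R an A-algebra, not necessarily commutative, whose underlying
A-module is finite free. Restriction of scalars being exact (carried as instance hypotheses), if an
object M of D(R) becomes pseudo-coherent in D(A) after restriction of scalars (isomorphic to a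
bounded above complex of finite free A-modules), then M is represented by a bounded above complex of
finite free R-modules. (The source phrases this for right modules; we use left modules, which is the
same statement for the opposite algebra.) -/
theorem result (A : Type u) [CommRing A] (R : Type u) [Ring R] [Algebra A R]
    [Module.Finite A R] [Module.Free A R]
    [PreservesFiniteLimits (ModuleCat.restrictScalars.{u} (algebraMap A R))] [PreservesFiniteColimits (ModuleCat.restrictScalars.{u} (algebraMap A R))]
    (M : DerivedCategory (ModuleCat.{u} R))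
    (hM : DRing.IsPseudoCoherent' A (((ModuleCat.restrictScalars.{u} (algebraMap A R)).mapDerivedCategory).obj M)) :
    ∃ (F : CochainComplex (ModuleCat.{u} R) ℤ) (b : ℤ), (∀ i : ℤ, b < i → IsZero (F.X i)) ∧
      (∀ i : ℤ, Module.Finite R (F.X i) ∧ Module.Free R (F.X i)) ∧ Nonempty (DerivedCategory.Q.obj F ≅ M) := by
  -- `U M` is `m`-pseudo-coherent over `A` for every `m`
  have hU : ∀ m : ℤ, NPC (Groth.Agent.Lib.DRingPCoh21.FF A) m
      (((ModuleCat.restrictScalars.{u} (algebraMap A R)).mapDerivedCategory).obj M) := by
    intro m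
    have h1 := (Groth.Agent.Lib.DRingPCoh21.isPseudoCoherent'_iff_forall A _).1 hM m
    rw [Groth.Agent.Lib.DRingPCoh21.isPseudoCoherent_iff] at h1
    exact h1
  -- `M` is bounded above
  obtain ⟨E', ⟨⟨b', hb'⟩, hP'⟩, ⟨e'⟩⟩ := id (hU 0)
  have hac : ∀ i : ℤ, b' < i →
      IsZero ((DerivedCategory.homologyFunctor (ModuleCat.{u} R) i).obj M) := by
    intro i hi
    have h1 : IsZero (E'.homology i) := by
      rw [← HomologicalComplex.exactAt_iff_isZero_homology]
      exact HomologicalComplex.ExactAt.of_isZero (hb' i hi)
    have h2 : IsZero ((DerivedCategory.homologyFunctor (ModuleCat.{u} A) i).obj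
        (((ModuleCat.restrictScalars.{u} (algebraMap A R)).mapDerivedCategory).obj M)) :=
      IsZero.of_iso h1 ((DerivedCategory.homologyFunctor _ i).mapIso e'.symm ≪≫
        homologyIsoOfQ E' i)
    exact isZero_of_isZero_restrict A R _
      (IsZero.of_iso h2 (Groth.Agent.Lib.PCohRestrict.homologyMapIso (F A R) M i).symm)
  -- descent
  have hPC : PCoh.IsPC (Groth.Agent.Lib.PCohFFRing.FF R) M := by
    intro m
    refine Groth.Agent.Lib.PCohDescent.descent (Groth.Agent.Lib.PCohFFRing.FF R)
      (Groth.Agent.Lib.DRingPCoh21.FF A)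
      ((ModuleCat.restrictScalars.{u} (algebraMap A R)).mapDerivedCategory)
      (Groth.Agent.Lib.PCohFFRing.ff_prod R) (Groth.Agent.Lib.PCohFFRing.fp_quasiStable R)
      (Groth.Agent.Lib.PCohFFRing.ff_quasiLiftable R)
      (Groth.Agent.Lib.DRingPCoh21.ff_prod A) (Groth.Agent.Lib.DRingPCoh21.fp_quasiStable A)
      (Groth.Agent.Lib.DRingPCoh21.ff_quasiLiftable A)
      (fun X i h => Groth.Agent.Lib.PCohRestrict.isZero_homology_map (F A R) X i h)
      (fun E hE a => ?_) (fun X n h => ?_) m (b' + 1 - m).toNat b' M (by lia) hac (hU m)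
    · exact (Groth.Agent.Lib.PCohDescent.npc_singleFunctor _ (ff_restrict A R E hE) 0 a).of_iso
        (((ModuleCat.restrictScalars.{u} (algebraMap A R)).mapDerivedCategorySingleFunctor
          0).app E).symm
    · rw [Groth.Agent.Lib.DRingPCoh21.isOfFiniteType_iff] at h
      rw [Groth.Agent.Lib.PCohFFRing.isOfFiniteType_iff]
      apply finite_of_restrict A R
      exact Module.Finite.equiv
        (Groth.Agent.Lib.PCohRestrict.homologyMapIso (F A R) X n).toLinearEquiv
  obtain ⟨E, ⟨⟨b, hb⟩, hE⟩, hiso⟩ := Groth.Agent.S4295.result (Groth.Agent.Lib.PCohFFRing.FF R)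
    (Groth.Agent.Lib.PCohFFRing.ff_prod R) (Groth.Agent.Lib.PCohFFRing.fp_quasiStable R)
    (Groth.Agent.Lib.PCohFFRing.ff_quasiLiftable R) M hPC
  exact ⟨E, b, hb, hE, hiso⟩

end Groth.Agent.S1047
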