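import Groth.Statements.S10481
import Groth.Agent.Lib.H86ReducedAt
import Groth.Agent.Lib.AlgSpAtPt

set_option linter.style.haveILetI false

set_option autoImplicit false
universe u
open CategoryTheory CategoryTheory.Limits AlgebraicGeometry Topology TopologicalSpace
open AlgSp

namespace Groth.Agent.S10481

set_option backward.isDefEq.respectTransparency false in
/-- Let k be a field, f : X ⟶ Y a morphism of algebraic spaces over k and x a point of X at which f is
etale. Then X is geometrically reduced at x if and only if Y is geometrically reduced at the image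
of x. -/
theorem result (k : Type u) [Field k] {X Y : AlgSp.Space (Spec (CommRingCat.of k))} (f : X ⟶ Y)
    (x : AlgSp.Points X.obj)
    (he : AlgSp.HasAtMor (fun U _ h u => ∃ W : U.Opens, u ∈ W ∧ Etale (W.ι ≫ h)) f.hom x) :
    (∃ (U : Over (Spec (CommRingCat.of k))) (a : (AlgSp.yon (Spec (CommRingCat.of k))).obj U ⟶ X.obj) (u : ↥U.left),
      AlgSp.RepWith @Etale a ∧ AlgSp.Points.ofPt a u = x ∧ FBase.IsGeomReducedAt U.hom u) ↔ (∃ (U : Over (Spec (CommRingCat.of k))) (a : (AlgSp.yon (Spec (CommRingCat.of k))).obj U ⟶ Y.obj) (u : ↥U.left),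
      AlgSp.RepWith @Etale a ∧ AlgSp.Points.ofPt a u = (AlgSp.Points.map f.hom x) ∧ FBase.IsGeomReducedAt U.hom u) := by
  obtain ⟨U, V, a, b, h, u, hae, hbe, comm, hux, W, huW, hW⟩ := he
  have hQ : ∀ {W U : Over (Spec (CommRingCat.of k))} (s : W ⟶ U), Etale s.left → ∀ w : ↥W.left,
      FBase.IsGeomReducedAt W.hom w ↔ FBase.IsGeomReducedAt U.hom (s.left w) :=
    fun s hs w => Groth.Agent.Lib.H86ReducedAt.isGeomReducedAt_over_iff s hs w
  let U' : Over (Spec (CommRingCat.of k)) := Groth.Agent.Lib.AlgSpAtPt.opensOver U W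
  let ι : U' ⟶ U := Groth.Agent.Lib.AlgSpAtPt.opensOverι U W
  have ha' : RepWith @Etale ((yon _).map ι ≫ a) :=
    (RepWith @Etale).comp_mem _ _ (Groth.Agent.Lib.AlgSpAtPt.repWith_etale_opensOverι U W) hae
  have hu' : Points.ofPt ((yon _).map ι ≫ a) (⟨u, huW⟩ : ↥U'.left) = x := by
    rw [Groth.Agent.Lib.H86AlgSpPoints.ofPt_map_comp]; exact hux
  have hv : Points.ofPt b (h.left u) = Points.map f.hom x := by
    rw [← hux, Points.map_ofPt, comm, Groth.Agent.Lib.H86AlgSpPoints.ofPt_map_comp]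
  have hs : Etale (ι ≫ h).left := hW
  have hstep : FBase.IsGeomReducedAt U'.hom (⟨u, huW⟩ : ↥U'.left) ↔
      FBase.IsGeomReducedAt V.hom (h.left u) := hQ (ι ≫ h) hs ⟨u, huW⟩
  rw [Groth.Agent.Lib.H86ReducedAt.exists_chart_iff_forall_chart
      (Q := fun U u => FBase.IsGeomReducedAt U.hom u) hQ X.property x,
    Groth.Agent.Lib.H86ReducedAt.exists_chart_iff_forall_chart
      (Q := fun U u => FBase.IsGeomReducedAt U.hom u) hQ Y.property (Points.map f.hom x)]
  constructor
  · intro hX T c t hc ht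
    have h1 := hstep.1 (hX U' _ _ ha' hu')
    exact (Groth.Agent.Lib.H86ReducedAt.chart_indep_over
      (Q := fun U u => FBase.IsGeomReducedAt U.hom u) hQ b c hbe hc (h.left u) t
      (hv.trans ht.symm)).1 h1
  · intro hY T c t hc ht
    have h1 := hstep.2 (hY V b (h.left u) hbe hv)
    exact (Groth.Agent.Lib.H86ReducedAt.chart_indep_over
      (Q := fun U u => FBase.IsGeomReducedAt U.hom u) hQ ((yon _).map ι ≫ a) c ha' hc ⟨u, huW⟩ t
      (hu'.trans ht.symm)).1 h1

end Groth.Agent.S10481
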