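import Groth.Statements.S10482
import Groth.Agent.Lib.H86QFFibre
import Mathlib.AlgebraicGeometry.Artinian

set_option linter.style.haveILetI false

set_option autoImplicit false
universe u
open CategoryTheory CategoryTheory.Limits AlgebraicGeometry Topology TopologicalSpace
open AlgSp

namespace Groth.Agent.S10482

set_option backward.isDefEq.respectTransparency false in
/-- (1) ⇔ (2): let k be a field and X an algebraic space over k. Then X is locally quasi-finite over k
if and only if X is locally of finite type over k of dimension at most 0. (The published statement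
says dimension 0; dimension at most 0 is used so that the empty space, whose dimension is the bottom
element, is covered by both sides.) -/
theorem result (k : Type u) [Field k] (X : AlgSp.Space (Spec (CommRingCat.of k))) (p : X.obj ⟶ (AlgSp.yon (Spec (CommRingCat.of k))).obj (Over.mk (𝟙 _))) :
    AlgSp.LocP (@LocallyQuasiFinite ⊓ @LocallyOfFiniteType : MorphismProperty Scheme.{u}) p ↔ AlgSp.LocP @LocallyOfFiniteType p ∧ AlgSp.dim X.obj ≤ 0 := by
  let T₀ : Over (Spec (CommRingCat.of k)) := Over.mk (𝟙 _)
  have hid : RepWith @Etale (𝟙 ((yon (Spec (CommRingCat.of k))).obj T₀)) :=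
    Groth.Agent.Lib.AlgSpQC.repWith_id _ T₀
  constructor
  · intro h
    refine ⟨fun U V a b g ha hb comm => (h a b g ha hb comm).2, ?_⟩
    unfold AlgSp.dim
    refine iSup_le fun U => iSup_le fun a => iSup_le fun ha => ?_
    obtain ⟨τ, hτ⟩ := (yon (Spec (CommRingCat.of k))).map_surjective (a ≫ p)
    haveI : LocallyQuasiFinite τ.left :=
      (h a (𝟙 _) τ ha hid (by rw [hτ, Category.comp_id])).1
    haveI : DiscreteTopology ↥U.left :=
      Groth.Agent.Lib.H86QFFibre.discreteTopology_of_lqf_field (K := k) (T := U.left) τ.left
    exact topologicalKrullDim_zero_of_discreteTopology ↥U.left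
  · rintro ⟨hlft, hdim⟩ U V a b g ha hb comm
    haveI hg : LocallyOfFiniteType g.left := hlft a b g ha hb comm
    refine ⟨?_, hg⟩
    obtain ⟨τ, hτ⟩ := (yon (Spec (CommRingCat.of k))).map_surjective (a ≫ p)
    haveI : LocallyOfFiniteType τ.left :=
      hlft a (𝟙 _) τ ha hid (by rw [hτ, Category.comp_id])
    haveI : IsLocallyNoetherian U.left :=
      LocallyOfFiniteType.isLocallyNoetherian (Y := Spec (CommRingCat.of k)) τ.left
    have hU : topologicalKrullDim ↥U.left ≤ 0 := by
      refine le_trans ?_ hdim
      unfold AlgSp.dim
      exact le_iSup_of_le U (le_iSup_of_le a (le_iSup_of_le ha le_rfl))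
    haveI : IsLocallyArtinian U.left := IsLocallyArtinian.of_topologicalKrullDim_le_zero hU
    haveI : DiscreteTopology ↥U.left := inferInstance
    exact locallyQuasiFinite_iff_isDiscrete_preimage_singleton.2
      (fun v => DiscreteTopology.isDiscrete)

end Groth.Agent.S10482
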