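import Groth.Statements.S10483
import Groth.Agent.Lib.LqfField46

set_option autoImplicit false
universe u
open CategoryTheory CategoryTheory.Limits AlgebraicGeometry Topology TopologicalSpace
open AlgSp

namespace Groth.Agent.S10483

/-- (1) ⇔ (5): let k be a field and X an algebraic space over k. Then X is locally quasi-finite over k
if and only if X decomposes as a disjoint union of spectra of finite-dimensional Artinian local
k-algebras: X is a scheme every point of which has an affine open neighbourhood with Artinian local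
coordinate ring, finite over k. -/
theorem result (k : Type u) [Field k] (X : AlgSp.Space (Spec (CommRingCat.of k))) (p : X.obj ⟶ (AlgSp.yon (Spec (CommRingCat.of k))).obj (Over.mk (𝟙 _))) :
    AlgSp.LocP (@LocallyQuasiFinite ⊓ @LocallyOfFiniteType : MorphismProperty Scheme.{u}) p ↔
      ∃ (U : Over (Spec (CommRingCat.of k))) (_ : (AlgSp.yon (Spec (CommRingCat.of k))).obj U ≅ X.obj), ∀ u : ↥U.left, ∃ V : U.left.Opens,
        u ∈ V ∧ IsAffineOpen V ∧ IsArtinianRing ↥Γ(U.left, V) ∧ IsLocalRing ↥Γ(U.left, V) ∧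
          IsFinite (V.ι ≫ U.hom) := by
  constructor
  · intro hp
    obtain ⟨Z, ⟨e⟩⟩ := Groth.Agent.Lib.LqfField46.exists_iso_yon_of_lqf X p hp
    refine ⟨Z, e, fun z => ?_⟩
    have he : AlgSp.RepWith @Etale e.hom := MorphismProperty.of_isIso (AlgSp.RepWith @Etale) e.hom
    obtain ⟨hq, -⟩ := Groth.Agent.Lib.LqfField46.lqf_lft_chart p hp e.hom he
    exact Groth.Agent.Lib.LqfField46.exists_artinian_local_nbhd Z.hom z
  · rintro ⟨U, e, h⟩
    have hU := Groth.Agent.Lib.LqfField46.lqf_lft_of_forall_exists_isFinite U.hom (fun u => by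
      obtain ⟨V, hu, -, -, -, hf⟩ := h u
      exact ⟨V, hu, hf⟩)
    have he : AlgSp.RepWith @Etale e.hom := MorphismProperty.of_isIso (AlgSp.RepWith @Etale) e.hom
    have hs : AlgSp.RepWith @Surjective e.hom :=
      MorphismProperty.of_isIso (AlgSp.RepWith @Surjective) e.hom
    exact Groth.Agent.Lib.AlgSpLocP.locP_of_chart Groth.Agent.Lib.AlgSpLocP.etLocalClass_lqf_lft p e.hom
      (𝟙 _) (Groth.Agent.Lib.LqfField46.toPt U) he hs (Groth.Agent.Lib.AlgSpQC.repWith_id @Etale _)
      (Groth.Agent.Lib.LqfField46.comm_toPt p e.hom) hU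

end Groth.Agent.S10483
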