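import Groth.Statements.S10484
import Groth.Agent.Lib.LqfField46
import Groth.Agent.Lib.MonoArtin46
import Groth.Agent.S10393

set_option autoImplicit false
universe u
open CategoryTheory CategoryTheory.Limits AlgebraicGeometry Topology TopologicalSpace
open AlgSp

namespace Groth.Agent.S10484

/-- For a field k, local quasi-finiteness over k passes from the target Y of a monomorphism f : X ⟶ Y of
algebraic spaces over k to its source X. -/
theorem result (k : Type u) [Field k] {X Y : AlgSp.Space (Spec (CommRingCat.of k))} (f : X ⟶ Y)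
    [Mono f.hom] (q : Y.obj ⟶ (AlgSp.yon (Spec (CommRingCat.of k))).obj (Over.mk (𝟙 _))) (hq : AlgSp.LocP (@LocallyQuasiFinite ⊓ @LocallyOfFiniteType : MorphismProperty Scheme.{u}) q) :
    AlgSp.LocP (@LocallyQuasiFinite ⊓ @LocallyOfFiniteType : MorphismProperty Scheme.{u}) (f.hom ≫ q) := by
  obtain ⟨Z, ⟨eY⟩⟩ := Groth.Agent.Lib.LqfField46.exists_iso_yon_of_lqf Y q hq
  have heY : AlgSp.RepWith @Etale eY.hom := MorphismProperty.of_isIso (AlgSp.RepWith @Etale) eY.hom
  obtain ⟨hqZ, hlZ⟩ := Groth.Agent.Lib.LqfField46.lqf_lft_chart q hq eY.hom heY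
  have hdisc : DiscreteTopology ↥Z.left :=
    Groth.Agent.Lib.EtaleFieldMono.discreteTopology_of_lqf_field Z.hom
  let f' : X ⟶ (AlgSp.ofScheme _).obj Z := ObjectProperty.homMk (f.hom ≫ eY.inv)
  have hf'm : Mono f'.hom := by
    change Mono (f.hom ≫ eY.inv)
    infer_instance
  obtain ⟨W, ⟨rep⟩⟩ := (Groth.Agent.S10393.result Z X f').has_representation
  obtain ⟨eX, -⟩ : ∃ eX : (AlgSp.yon _).obj W ≅ X.obj, True := ⟨AlgSp.isoOfRepresentableBy rep, trivial⟩
  obtain ⟨g, hg⟩ := (AlgSp.yon _).map_surjective (eX.hom ≫ f.hom ≫ eY.inv)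
  have hgm : Mono g := by
    have : Mono ((AlgSp.yon _).map g) := by
      rw [hg]; infer_instance
    exact (AlgSp.yon _).mono_of_mono_map this
  have hgl : Mono g.left := inferInstance
  obtain ⟨h1, h2⟩ := Groth.Agent.Lib.MonoArtin46.lqf_lft_of_mono g.left Z.hom
  rw [Over.w g] at h1 h2
  have heX : AlgSp.RepWith @Etale eX.hom := MorphismProperty.of_isIso (AlgSp.RepWith @Etale) eX.hom
  have hsX : AlgSp.RepWith @Surjective eX.hom :=
    MorphismProperty.of_isIso (AlgSp.RepWith @Surjective) eX.hom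
  exact Groth.Agent.Lib.AlgSpLocP.locP_of_chart Groth.Agent.Lib.AlgSpLocP.etLocalClass_lqf_lft
    (f.hom ≫ q) eX.hom (𝟙 _) (Groth.Agent.Lib.LqfField46.toPt W) heX hsX
    (Groth.Agent.Lib.AlgSpQC.repWith_id @Etale _)
    (Groth.Agent.Lib.LqfField46.comm_toPt (f.hom ≫ q) eX.hom) ⟨h1, h2⟩

end Groth.Agent.S10484
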