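import Groth.Statements.S10485
import Groth.Agent.S10399
import Groth.Agent.Lib.AlgSpDecentFibre3

set_option autoImplicit false
universe u
open CategoryTheory CategoryTheory.Limits AlgebraicGeometry Topology TopologicalSpace
open AlgSp

namespace Groth.Agent.S10485

/-- (4) ⇔ (5): let f : X ⟶ Y be a dominant morphism locally of finite type between integral algebraic
spaces over a scheme S, with generic points x and y. Then f is quasi-finite at x if and only if x is
the only point of X mapping to y. -/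
theorem result {S : Scheme.{u}} {X Y : AlgSp.Space S} (hXi : AlgSp.IsIntegralSp X.obj) (hYi : AlgSp.IsIntegralSp Y.obj)
    (f : X ⟶ Y) (hft : AlgSp.LocP @LocallyOfFiniteType f.hom) (hd : AlgSp.IsDominantMor f.hom)
    (x : AlgSp.Points X.obj) (hx : IsGenericPoint x (Set.univ : Set (AlgSp.Points X.obj)))
    (y : AlgSp.Points Y.obj) (hy : IsGenericPoint y (Set.univ : Set (AlgSp.Points Y.obj))) :
    AlgSp.HasAtMor (fun U _ h u => ∃ W : U.Opens, u ∈ W ∧ LocallyQuasiFinite (W.ι ≫ h) ∧ LocallyOfFiniteType (W.ι ≫ h)) f.hom x ↔ (∀ x' : AlgSp.Points X.obj, AlgSp.Points.map f.hom x' = y → x' = x) := by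
  obtain ⟨-, hXd, hXirr⟩ := hXi
  obtain ⟨-, hYd, hYirr⟩ := hYi
  have hT0Y : T0Space (AlgSp.Points Y.obj) :=
    Groth.Agent.Lib.AlgSpDecentSpec.t0Space_points_of_isDecent Y.2 hYd
  -- `f x = y`
  have hfx : AlgSp.Points.map f.hom x = y := by
    have hgen : IsGenericPoint (AlgSp.Points.map f.hom x) (Set.univ : Set (AlgSp.Points Y.obj)) := by
      rw [IsGenericPoint, ← Set.univ_subset_iff, ← hd.closure_range]
      refine closure_minimal ?_ isClosed_closure
      rintro _ ⟨z, rfl⟩
      have hxz : x ⤳ z := hx.specializes (Set.mem_univ z)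
      exact (hxz.map (AlgSp.Points.continuous_map f.hom)).mem_closure
    exact hgen.eq hy
  have huniv : ∀ (Z : Type (u + 1)) [TopologicalSpace Z] [IrreducibleSpace Z],
      (Set.univ : Set Z) ∈ irreducibleComponents Z := fun Z _ _ =>
    ⟨IrreducibleSpace.isIrreducible_univ Z, fun _ _ _ => Set.subset_univ _⟩
  have hy0 : AlgSp.HasAt (fun U u => ringKrullDim ↥(U.presheaf.stalk u) = 0) Y.obj y :=
    (Groth.Agent.Lib.AlgSpGenericPt.exists_component_generic_iff_hasAt Y hYd y).1
      ⟨Set.univ, huniv _, hy⟩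
  have hx0 : AlgSp.HasAt (fun U u => ringKrullDim ↥(U.presheaf.stalk u) = 0) X.obj x :=
    (Groth.Agent.Lib.AlgSpGenericPt.exists_component_generic_iff_hasAt X hXd x).1
      ⟨Set.univ, huniv _, hx⟩
  constructor
  · intro hqf x' hx'
    obtain ⟨V, b, v, hb, hv⟩ := Groth.Agent.Lib.AlgSpGenericPt.exists_chart Y y
    obtain ⟨U, a, h, u', ha, comm, rfl, hu'⟩ :=
      Groth.Agent.Lib.AlgSpQFAt.exists_diagram f x' b hb v (hv.trans hx'.symm)
    have : LocallyOfFiniteType h.left := hft a b h ha hb comm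
    have hsp : x ⤳ AlgSp.Points.ofPt a u' := hx.specializes (Set.mem_univ _)
    obtain ⟨pt, hpt, -, hq⟩ := hXd x
    obtain ⟨w, hwu', hw⟩ :=
      Groth.Agent.Lib.AlgSpDecentFibre.exists_generization_of_quasiCompact (AlgSp.Points.ofPt a u') x hsp
        pt hpt hq a ha u' rfl
    have hbw : AlgSp.Points.ofPt b (h.left w) = y := by
      rw [← Groth.Agent.Lib.AlgSpPoints.ofPt_yon_map_comp, ← comm, ← AlgSp.Points.map_ofPt, hw, hfx]
    have hhw : h.left u' = h.left w := by
      rw [hu']
      exact Groth.Agent.Lib.AlgSpDecentSpec.eq_of_specializes_of_isDecent hYd b hb v (h.left w)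
        (hv.trans hbw.symm) (hu' ▸ hwu'.map h.left.continuous)
    rw [← hw] at hqf
    rw [Groth.Agent.Lib.AlgSpQFAt.hasAtMor_qf_iff_of_diagram f.hom hft a b h ha hb comm w] at hqf
    have := Groth.Agent.Lib.AlgSpQFAt.eq_of_isolatedInFibre_of_specializes h.left w u' hqf hhw hwu'
    rw [this, hw]
  · intro hun
    have h1 : ∀ x' : AlgSp.Points X.obj, AlgSp.Points.map f.hom x' = y →
        AlgSp.HasAt (fun U u => ringKrullDim ↥(U.presheaf.stalk u) = 0) X.obj x' := by
      intro x' hx'
      rw [hun x' hx']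
      exact hx0
    exact ((Groth.Agent.S10399.result f hft y hy0).1.1 h1) x hfx

end Groth.Agent.S10485
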