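import Groth.Statements.S10486
import Groth.Agent.S10485
import Groth.Agent.Lib.IsolatedTrdeg46

set_option autoImplicit false
universe u
open CategoryTheory CategoryTheory.Limits AlgebraicGeometry Topology TopologicalSpace
open AlgSp

namespace Groth.Agent.S10486

/-- (1) ⇔ (5): let f : X ⟶ Y be a dominant morphism locally of finite type between integral algebraic
spaces over a scheme S, with generic points x and y. Then the transcendence degree of x over y is 0
if and only if x is the only point of X mapping to y. -/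
theorem result {S : Scheme.{u}} {X Y : AlgSp.Space S} (hXi : AlgSp.IsIntegralSp X.obj) (hYi : AlgSp.IsIntegralSp Y.obj)
    (f : X ⟶ Y) (hft : AlgSp.LocP @LocallyOfFiniteType f.hom) (hd : AlgSp.IsDominantMor f.hom)
    (x : AlgSp.Points X.obj) (hx : IsGenericPoint x (Set.univ : Set (AlgSp.Points X.obj)))
    (y : AlgSp.Points Y.obj) (hy : IsGenericPoint y (Set.univ : Set (AlgSp.Points Y.obj))) :
    AlgSp.HasAtMor (fun _ _ h u => Dual3.resTrdeg h u = 0) f.hom x ↔ (∀ x' : AlgSp.Points X.obj, AlgSp.Points.map f.hom x' = y → x' = x) := by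
  rw [← Groth.Agent.S10485.result hXi hYi f hft hd x hx y hy]
  obtain ⟨-, hXd, hXirr⟩ := hXi
  have huniv : (Set.univ : Set (AlgSp.Points X.obj)) ∈ irreducibleComponents (AlgSp.Points X.obj) :=
    ⟨IrreducibleSpace.isIrreducible_univ _, fun _ _ _ => Set.subset_univ _⟩
  constructor
  · rintro ⟨U, V, a, b, h, u, ha, hb, comm, rfl, htr⟩
    have : LocallyOfFiniteType h.left := hft a b h ha hb comm
    have hgen : ∀ u' : ↥U.left, u' ⤳ u → u' = u :=
      (Groth.Agent.Lib.AlgSpGenericPt.exists_component_generic_iff_chart X hXd a ha u).1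
        ⟨Set.univ, huniv, hx⟩
    rw [Groth.Agent.Lib.AlgSpQFAt.hasAtMor_qf_iff_of_diagram f.hom hft a b h ha hb comm u]
    exact Groth.Agent.Lib.IsolatedTrdeg46.isolatedInFibre_of_resTrdeg_eq_zero h.left u hgen htr
  · rintro ⟨U, V, a, b, h, u, ha, hb, comm, rfl, hQ⟩
    have : LocallyOfFiniteType h.left := hft a b h ha hb comm
    exact ⟨U, V, a, b, h, u, ha, hb, comm, rfl,
      Groth.Agent.Lib.IsolatedTrdeg46.resTrdeg_eq_zero_of_isolatedInFibre h.left u
        ((Groth.Agent.Lib.AlgSpQFAt.qfPred_iff h.left u).1 hQ)⟩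

end Groth.Agent.S10486
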