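import Groth.Statements.S1535
import Groth.Agent.Lib.SmoothRegular

set_option autoImplicit false
universe u
open CategoryTheory CategoryTheory.Limits AlgebraicGeometry
open Variety

namespace Groth.Agent.S1535

/-- If X is smooth over a field then every local ring of X is a regular local ring. -/
theorem result (k : Type u) [Field k] (X : Scheme.{u}) [X.Over (Spec (CommRingCat.of k))] [Smooth (X ↘ (Spec (CommRingCat.of k)))] (x : X) :
    IsRegularLocalRing (X.presheaf.stalk x) := by
  obtain ⟨_, ⟨V, hV, rfl⟩, hxV, -⟩ :=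
    X.isBasis_affineOpens.exists_subset_of_mem_open (Set.mem_univ x) isOpen_univ
  have hsm : ((X ↘ Spec (CommRingCat.of k)).appLE ⊤ V le_top).hom.Smooth :=
    Smooth.smooth_appLE (X ↘ Spec (CommRingCat.of k)) (isAffineOpen_top _) hV le_top
  algebraize [((X ↘ Spec (CommRingCat.of k)).appLE ⊤ V le_top).hom]
  have hreg : IsRegularRing Γ(Spec (CommRingCat.of k), ⊤) :=
    IsRegularRing.of_ringEquiv (Scheme.ΓSpecIso (CommRingCat.of k)).commRingCatIsoToRingEquiv.symm
  let := X.presheaf.algebra_section_stalk ⟨x, hxV⟩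
  have hloc := hV.isLocalization_stalk ⟨x, hxV⟩
  have := Groth.Agent.Lib.SmoothRegular.isRegularLocalRing_of_smooth
    (K := Γ(Spec (CommRingCat.of k), ⊤)) (hV.primeIdealOf ⟨x, hxV⟩).asIdeal
  exact IsRegularLocalRing.of_ringEquiv (IsLocalization.algEquiv
    (hV.primeIdealOf ⟨x, hxV⟩).asIdeal.primeCompl
    (Localization.AtPrime (hV.primeIdealOf ⟨x, hxV⟩).asIdeal) (X.presheaf.stalk x)).toRingEquiv

end Groth.Agent.S1535
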