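import Groth.Statements.S10489
import Groth.Agent.S1535
import Groth.Agent.Lib.AlgSpQC

set_option linter.style.haveILetI false

set_option autoImplicit false
universe u
open CategoryTheory CategoryTheory.Limits AlgebraicGeometry Topology TopologicalSpace
open AlgSp

namespace Groth.Agent.S10489

set_option backward.isDefEq.respectTransparency false in
/-- Let k be a field and X an algebraic space which is smooth over k. Then X is regular as an algebraic
space. -/
theorem result (k : Type u) [Field k] (X : AlgSp.Space (Spec (CommRingCat.of k))) (p : X.obj ⟶ (AlgSp.yon (Spec (CommRingCat.of k))).obj (Over.mk (𝟙 _))) (hp : AlgSp.LocP @Smooth p) :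
    AlgSp.EtaleLocally (fun U => IsLocallyNoetherian U ∧ ∀ u : ↥U, IsRegularLocalRing ↥(U.presheaf.stalk u)) X.obj := by
  obtain ⟨U, a, hae, has⟩ := X.property.atlas
  obtain ⟨τ, hτ⟩ := (yon (Spec (CommRingCat.of k))).map_surjective (a ≫ p)
  haveI hsm : Smooth τ.left :=
    hp a (𝟙 _) τ hae (Groth.Agent.Lib.AlgSpQC.repWith_id _ _) (by rw [hτ, Category.comp_id])
  refine ⟨U, a, hae, has, ?_, fun u => ?_⟩
  · exact LocallyOfFiniteType.isLocallyNoetherian (Y := Spec (CommRingCat.of k)) τ.left
  · letI : U.left.Over (Spec (CommRingCat.of k)) := ⟨τ.left⟩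
    haveI : Smooth (U.left ↘ Spec (CommRingCat.of k)) := hsm
    exact Groth.Agent.S1535.result k U.left u

end Groth.Agent.S10489
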