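import Groth.Statements.S10491
import Groth.Agent.Lib.LocFinIrred46
import Groth.Agent.Lib.AlgSpQFAt

set_option autoImplicit false
universe u
open CategoryTheory CategoryTheory.Limits AlgebraicGeometry Topology TopologicalSpace
open AlgSp

namespace Groth.Agent.S10491

/-- Let X be an algebraic space over a scheme S which is locally Noetherian, and T ⊂ |X| a closed
subset. Then every point of |X| has a neighbourhood meeting only finitely many irreducible
components of T. -/
theorem result {S : Scheme.{u}} (X : AlgSp.Space S)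
    (hX : AlgSp.IsLocNoethSp X.obj) (T : Set (AlgSp.Points X.obj)) (hT : IsClosed T) :
    LocallyFinite (fun Z : ↥(irreducibleComponents ↥T) => ((↑) : ↥T → AlgSp.Points X.obj) '' (Z : Set ↥T)) := by
  obtain ⟨U₀, p, hpe, hps, hU₀⟩ := hX
  have : IsLocallyNoetherian U₀.left := hU₀
  intro x
  obtain ⟨u₀, rfl⟩ := Groth.Agent.Lib.AlgSpQC.surjective_ofPt_of_repWith_surjective hps x
  obtain ⟨V₀, hV₀, hu₀V₀, -⟩ :=
    (Opens.isBasis_iff_nbhd.1 U₀.left.isBasis_affineOpens) (show u₀ ∈ (⊤ : U₀.left.Opens) from trivial)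
  set a := (yon S).map (Groth.Agent.Lib.AlgSpDecentSpec.restrictOverι U₀ V₀) ≫ p with ha_def
  have ha : RepWith @Etale a := Groth.Agent.Lib.AlgSpDecentSpec.repWith_etale_restrict p hpe V₀
  have : IsAffine (Groth.Agent.Lib.AlgSpDecentSpec.restrictOver U₀ V₀).left := hV₀
  have hLN : IsLocallyNoetherian (Groth.Agent.Lib.AlgSpDecentSpec.restrictOver U₀ V₀).left :=
    (inferInstance : IsLocallyNoetherian (V₀ : Scheme.{u}))
  have hN : IsNoetherian (Groth.Agent.Lib.AlgSpDecentSpec.restrictOver U₀ V₀).left := ⟨⟩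
  have hNS : NoetherianSpace ↥(Groth.Agent.Lib.AlgSpDecentSpec.restrictOver U₀ V₀).left := inferInstance
  have hopen : IsOpen (Set.range (Points.ofPt a)) :=
    (Groth.Agent.Lib.AlgSpQC.isOpenMap_ofPt_of_repWith_etale ha).isOpen_range
  let v₀ : ↥(Groth.Agent.Lib.AlgSpDecentSpec.restrictOver U₀ V₀).left := (⟨u₀, hu₀V₀⟩ : ↥V₀)
  refine ⟨Set.range (Points.ofPt a), hopen.mem_nhds ⟨v₀, ?_⟩, ?_⟩
  · rw [ha_def, Groth.Agent.Lib.AlgSpPoints.ofPt_yon_map_comp]; rfl
  let g : ↥(Points.ofPt a ⁻¹' T) → ↥T := fun w => ⟨Points.ofPt a w.1, w.2⟩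
  have hg : Continuous g :=
    ((Points.continuous_ofPt a).comp continuous_subtype_val).subtype_mk _
  have hfinA : (irreducibleComponents ↥(Points.ofPt a ⁻¹' T)).Finite :=
    NoetherianSpace.finite_irreducibleComponents
  have key := Groth.Agent.Lib.LocFinIrred46.finite_irreducibleComponents_meeting g hg hfinA
    (Subtype.val ⁻¹' Set.range (Points.ofPt a)) (hopen.preimage continuous_subtype_val) (by
      rintro ⟨t, htT⟩ ⟨w, hw⟩
      exact ⟨⟨w, by rw [Set.mem_preimage, hw]; exact htT⟩, Subtype.ext hw⟩)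
  refine (key.preimage Subtype.val_injective.injOn).subset ?_
  rintro Z ⟨z, ⟨t, htZ, rfl⟩, hzΩ⟩
  exact ⟨Z.2, ⟨t, htZ, hzΩ⟩⟩

end Groth.Agent.S10491
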