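import Groth.Statements.S10494
import Groth.Agent.S10242
import Groth.Agent.Lib.H86DimAt
import Groth.Agent.Lib.H86AlgSpPoints

set_option linter.style.haveILetI false

set_option autoImplicit false
universe u
open CategoryTheory CategoryTheory.Limits AlgebraicGeometry Topology TopologicalSpace
open AlgSp

namespace Groth.Agent.S10494


namespace Aux

variable {S : Scheme.{u}} (X : AlgSp.Space S)

/-- The restriction of a global section to an object of the small etale site. -/
noncomputable def res (E : AlgSp.EtOver X.obj) (f : ↥(AlgSp.gsectEt (AlgSp.OEt X.obj))) :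
    Γ(E.obj.left.left, ⊤) :=
  ((limit.π (AlgSp.OEt X.obj).obj (Opposite.op E)) f).down

theorem res_mul (E : AlgSp.EtOver X.obj) (f g : ↥(AlgSp.gsectEt (AlgSp.OEt X.obj))) :
    res X E (f * g) = res X E f * res X E g := by
  unfold res
  rw [map_mul]
  rfl

theorem res_zero (E : AlgSp.EtOver X.obj) : res X E 0 = 0 := by
  unfold res
  rw [map_zero]
  rfl

theorem res_one (E : AlgSp.EtOver X.obj) : res X E 1 = 1 := by
  unfold res
  rw [map_one]
  rfl

theorem res_comp {E'' E : AlgSp.EtOver X.obj} (g₁ : E'' ⟶ E)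
    (f : ↥(AlgSp.gsectEt (AlgSp.OEt X.obj))) :
    res X E'' f = g₁.hom.left.left.appTop.hom (res X E f) := by
  unfold res
  have h := limit.w (AlgSp.OEt X.obj).obj g₁.op
  rw [← h, CommRingCat.comp_apply, AlgSp.OEt_map]

/-- The non-vanishing locus of a global section, as a subset of `|X|`. -/
def D (f : ↥(AlgSp.gsectEt (AlgSp.OEt X.obj))) : Set (AlgSp.Points X.obj) :=
  ⋃ E : AlgSp.EtOver X.obj,
    AlgSp.Points.ofPt E.obj.hom '' (E.obj.left.left.basicOpen (res X E f) : Set ↥E.obj.left.left)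

theorem isOpen_D (f : ↥(AlgSp.gsectEt (AlgSp.OEt X.obj))) : IsOpen (D X f) :=
  isOpen_iUnion fun E =>
    Groth.Agent.Lib.H86AlgSpPoints.isOpenMap_ofPt E.property _ (E.obj.left.left.basicOpen _).isOpen

set_option backward.isDefEq.respectTransparency false in
theorem D_inter (f g : ↥(AlgSp.gsectEt (AlgSp.OEt X.obj))) (h : f * g = 0) :
    D X f ∩ D X g = ∅ := by
  rw [Set.eq_empty_iff_forall_notMem]
  rintro x ⟨hxf, hxg⟩
  obtain ⟨E, e, he, rfl⟩ := Set.mem_iUnion.1 hxf
  obtain ⟨E', e', he', hee'⟩ := Set.mem_iUnion.1 hxg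
  have sq := E.property.rep.isPullback' E'.obj.hom
  obtain ⟨w, hw1, hw2⟩ :=
    Groth.Agent.Lib.H86CartierChart2.exists_scheme_point_of_isPullback sq e e' hee'.symm
  have hsnd : Etale (E.property.rep.snd E'.obj.hom).left := E.property.property_snd E'.obj.hom
  have hsnd' : AlgSp.RepWith @Etale ((AlgSp.yon S).map (E.property.rep.snd E'.obj.hom)) :=
    (AlgSp.repWith_yon_map_iff _ _).2 hsnd
  let E'' : AlgSp.EtOver X.obj :=
    AlgSp.EtOver.mk ((AlgSp.yon S).map (E.property.rep.snd E'.obj.hom) ≫ E'.obj.hom)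
      (MorphismProperty.comp_mem _ _ _ hsnd' E'.property)
  let g₂ : E'' ⟶ E' := AlgSp.EtOver.homMk (E.property.rep.snd E'.obj.hom) rfl
  let g₁ : E'' ⟶ E := AlgSp.EtOver.homMk (E.property.rep.fst' E'.obj.hom) sq.w
  have h1 : w ∈ E''.obj.left.left.basicOpen (res X E'' f) := by
    rw [res_comp X g₁ f, ← Scheme.preimage_basicOpen_top]
    have h0 : (E.property.rep.fst' E'.obj.hom).left w ∈ E.obj.left.left.basicOpen (res X E f) := by
      rw [hw1]; exact he
    exact h0
  have h2 : w ∈ E''.obj.left.left.basicOpen (res X E'' g) := by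
    rw [res_comp X g₂ g, ← Scheme.preimage_basicOpen_top]
    have h0 : (E.property.rep.snd E'.obj.hom).left w ∈ E'.obj.left.left.basicOpen (res X E' g) := by
      rw [hw2]; exact he'
    exact h0
  have h3 : w ∈ E''.obj.left.left.basicOpen (res X E'' (f * g)) := by
    rw [res_mul, Scheme.basicOpen_mul]
    exact ⟨h1, h2⟩
  rw [h, res_zero, Scheme.basicOpen_zero] at h3
  exact h3

theorem eq_zero_of_D_eq_empty (hred : AlgSp.IsReducedSp X.obj)
    (f : ↥(AlgSp.gsectEt (AlgSp.OEt X.obj))) (h : D X f = ∅) : f = 0 := by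
  refine (Groth.Agent.S10242.result X hred).2 f fun E => ?_
  rw [eq_bot_iff]
  intro e he
  have : AlgSp.Points.ofPt E.obj.hom e ∈ D X f := Set.mem_iUnion.2 ⟨E, e, he, rfl⟩
  rw [h] at this
  exact this.elim

theorem isDomain (hX : AlgSp.IsIntegralSp X.obj) :
    IsDomain ↥(AlgSp.gsectEt (AlgSp.OEt X.obj)) := by
  obtain ⟨hred, hdec, hirr⟩ := hX
  haveI := hirr
  haveI : Nontrivial ↥(AlgSp.gsectEt (AlgSp.OEt X.obj)) := by
    refine ⟨⟨0, 1, fun h01 => ?_⟩⟩
    obtain ⟨x⟩ := (inferInstance : Nonempty (AlgSp.Points X.obj))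
    obtain ⟨U, a, hae, has⟩ := X.property.atlas
    obtain ⟨u, -⟩ := Groth.Agent.Lib.H86AlgSpPoints.ofPt_surjective has x
    let E : AlgSp.EtOver X.obj := AlgSp.EtOver.mk a hae
    have hne : Nonempty ↥(⊤ : E.obj.left.left.Opens) := ⟨⟨u, trivial⟩⟩
    haveI : Nontrivial Γ(E.obj.left.left, ⊤) :=
      @Scheme.component_nontrivial E.obj.left.left ⊤ hne
    have h1 : res X E 0 = res X E 1 := by rw [h01]
    rw [res_zero, res_one] at h1
    exact zero_ne_one h1
  haveI : NoZeroDivisors ↥(AlgSp.gsectEt (AlgSp.OEt X.obj)) := by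
    refine ⟨fun {f g} hfg => ?_⟩
    by_contra hne
    push Not at hne
    have hf : (D X f).Nonempty := by
      rw [Set.nonempty_iff_ne_empty]
      exact fun h => hne.1 (eq_zero_of_D_eq_empty X hred f h)
    have hg : (D X g).Nonempty := by
      rw [Set.nonempty_iff_ne_empty]
      exact fun h => hne.2 (eq_zero_of_D_eq_empty X hred g h)
    have := nonempty_preirreducible_inter (isOpen_D X f) (isOpen_D X g) hf hg
    rw [D_inter X f g hfg] at this
    exact Set.not_nonempty_empty this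
  exact NoZeroDivisors.to_isDomain _

end Aux

/-- Let X be an integral algebraic space over a scheme S. Then Γ(X, O_X) is a domain. -/
theorem result {S : Scheme.{u}} (X : AlgSp.Space S)
    (hX : AlgSp.IsIntegralSp X.obj) : IsDomain ↥(AlgSp.gsectEt (AlgSp.OEt X.obj)) := by
  exact Groth.Agent.S10494.Aux.isDomain X hX

end Groth.Agent.S10494
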