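import Groth.Statements.S10496
import Groth.Agent.S10192
import Groth.Agent.S10351
import Groth.Agent.Lib.AlgSpPoints

set_option autoImplicit false
universe u
open CategoryTheory CategoryTheory.Limits AlgebraicGeometry Topology TopologicalSpace
open AlgSp

namespace Groth.Agent.S10496

/-- Let X be a decent algebraic space over a scheme S. For every irreducible closed subset T of |X|
there is an integral closed subspace Z of X with |Z| = T. -/
theorem result {S : Scheme.{u}} (X : AlgSp.Space S)
    (hX : AlgSp.IsDecent X.obj) (T : Set (AlgSp.Points X.obj)) (hT : IsClosed T) (hTi : IsIrreducible T) :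
    ∃ (Z : AlgSp.Space S) (i : Z ⟶ X), AlgSp.RepWith @IsClosedImmersion i.hom ∧ AlgSp.IsIntegralSp Z.obj ∧
      Set.range (AlgSp.Points.map i.hom) = T := by
  obtain ⟨Z, i, hi, hrange, hred⟩ := Groth.Agent.S10192.result X T hT
  have hZ : AlgSp.IsDecent Z.obj := Groth.Agent.S10351.result i hi.1 hX
  have hinj : Function.Injective (AlgSp.Points.map i.hom) :=
    Groth.Agent.Lib.AlgSpPoints.injective_map_of_representable hi.1 fun W g => by
      have : IsClosedImmersion (hi.1.snd g).left := hi.2 g _ _ (hi.1.isPullback g)
      exact (hi.1.snd g).left.isClosedEmbedding.injective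
  have hcl : IsClosedMap (AlgSp.Points.map i.hom) :=
    Groth.Agent.Lib.AlgSpPoints.isClosedMap_map_of_representable hi.1 fun W g => by
      have : IsClosedImmersion (hi.1.snd g).left := hi.2 g _ _ (hi.1.isPullback g)
      exact (hi.1.snd g).left.isClosedEmbedding.isClosedMap
  have hemb : IsEmbedding (AlgSp.Points.map i.hom) :=
    (IsClosedEmbedding.of_continuous_injective_isClosedMap (AlgSp.Points.continuous_map i.hom) hinj
      hcl).isEmbedding
  have hirr : IrreducibleSpace ↥(Set.range (AlgSp.Points.map i.hom)) :=
    Subtype.irreducibleSpace (hrange ▸ hTi)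
  have hZi : IrreducibleSpace (AlgSp.Points Z.obj) := hemb.toHomeomorph.irreducibleSpace_iff.2 hirr
  exact ⟨Z, i, hi, ⟨hred, hZ, hZi⟩, hrange⟩

end Groth.Agent.S10496
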