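import Groth.Statements.S10497
-- import your own Groth.Agent.* helpers here
import Groth.Agent.Lib.GeomRedBC91d
import Groth.Agent.Lib.AlgSpFibre
import Groth.Agent.Lib.H80DecentPt2
import Groth.Agent.S10383

set_option autoImplicit false
universe u
open CategoryTheory CategoryTheory.Limits AlgebraicGeometry Topology TopologicalSpace
open AlgSp

namespace Groth.Agent.S10497

/-- Let k be a field and X a decent algebraic space over k. Then all base changes X_K to field
extensions K of k are integral exactly when X is geometrically reduced over k and every |X_K| is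
irreducible. -/
theorem result (k : Type u) [Field k] (X : AlgSp.Space (Spec (CommRingCat.of k))) (hX : AlgSp.IsDecent X.obj) :
    (∀ (K : Type u) [Field K] [Algebra k K], AlgSp.IsIntegralSp (X.obj ⨯ (AlgSp.yon (Spec (CommRingCat.of k))).obj (Over.mk (Spec.map (CommRingCat.ofHom (algebraMap k K)))))) ↔
      (∀ x : AlgSp.Points X.obj, (∃ (U : Over (Spec (CommRingCat.of k))) (a : (AlgSp.yon (Spec (CommRingCat.of k))).obj U ⟶ X.obj) (u : ↥U.left),
      AlgSp.RepWith @Etale a ∧ AlgSp.Points.ofPt a u = x ∧ FBase.IsGeomReducedAt U.hom u)) ∧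
        ∀ (K : Type u) [Field K] [Algebra k K], IrreducibleSpace (AlgSp.Points (X.obj ⨯ (AlgSp.yon (Spec (CommRingCat.of k))).obj (Over.mk (Spec.map (CommRingCat.ofHom (algebraMap k K)))))) := by
  have t := Groth.Agent.Lib.H86Coprod.isTerminalYonOne (Spec (CommRingCat.of k))
  have key := Groth.Agent.Lib.GeomRedBC91c.geomReduced_iff_forall_bc X.property
  constructor
  · intro h
    exact ⟨key.2 (fun K _ _ => (h K).1), fun K _ _ => (h K).2.2⟩
  · rintro ⟨h1, h2⟩ K _ _
    refine ⟨key.1 h1 K, ?_, h2 K⟩
    have sq : IsPullback (prod.fst : X.obj ⨯ (AlgSp.yon (Spec (CommRingCat.of k))).obj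
        (Over.mk (Spec.map (CommRingCat.ofHom (algebraMap k K)))) ⟶ X.obj) prod.snd (t.from X.obj)
        (t.from _) := IsPullback.of_is_product (limit.isLimit _) t
    have hone : AlgSp.IsAlgSpace ((AlgSp.yon (Spec (CommRingCat.of k))).obj
        (Groth.Agent.Lib.H86Coprod.one (Spec (CommRingCat.of k)))) := AlgSp.IsAlgSpace.yon_obj _
    have hK : AlgSp.IsAlgSpace ((AlgSp.yon (Spec (CommRingCat.of k))).obj
        (Over.mk (Spec.map (CommRingCat.ofHom (algebraMap k K))))) := AlgSp.IsAlgSpace.yon_obj _
    have hP : AlgSp.IsAlgSpace (X.obj ⨯ (AlgSp.yon (Spec (CommRingCat.of k))).obj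
        (Over.mk (Spec.map (CommRingCat.ofHom (algebraMap k K))))) :=
      Groth.Agent.Lib.AlgSpFibre.isAlgSpace_of_isPullback hone.diag X.property hK sq
    exact Groth.Agent.S10383.result (X := X) (Y := ⟨_, hone⟩) (Z := ⟨_, hK⟩) (P := ⟨_, hP⟩)
      (ObjectProperty.homMk (t.from X.obj)) (ObjectProperty.homMk (t.from _))
      (ObjectProperty.homMk prod.fst) (ObjectProperty.homMk prod.snd) sq hX
      (Groth.Agent.Lib.H80DecentPt.isDecent_yon _)

end Groth.Agent.S10497
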