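import Groth.Statements.S10498
import Groth.Agent.Lib.HznWeaklyEtale96
-- import your own Groth.Agent.* helpers here

set_option autoImplicit false
universe u
open TensorProduct
open Hensel

namespace Groth.Agent.S10498


open TensorProduct in
theorem aux (k : Type u) [Field k]
    (A : Type u) [CommRing A] [IsLocalRing A] [Algebra k A]
    (R : Type u) [CommRing R] [IsLocalRing R] [Algebra A R] [IsLocalHom (algebraMap A R)]
    [Hensel.IsStrictHenselization A R] [Algebra k R] [IsScalarTower k A R] :
    (∀ (K : Type u) [Field K] [Algebra k K], IsReduced (K ⊗[k] A)) ↔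
      ∀ (K : Type u) [Field K] [Algebra k K], IsReduced (K ⊗[k] R) := by
  constructor
  · intro h K _ _
    have hKA : IsReduced (K ⊗[k] A) := h K
    have hT : IsReduced (A ⊗[k] K) :=
      isReduced_of_injective (Algebra.TensorProduct.comm k A K).toRingEquiv.toRingHom
        (Algebra.TensorProduct.comm k A K).injective
    have hWE : Algebra.WeaklyEtale A R :=
      Groth.Agent.Lib.HznWeaklyEtale96.weaklyEtale_of_isStrictHenselization A R
    have hWE' : Algebra.WeaklyEtale (A ⊗[k] K) ((A ⊗[k] K) ⊗[A] R) := inferInstance
    have hred : IsReduced ((A ⊗[k] K) ⊗[A] R) :=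
      Groth.Agent.Lib.AbsFlat.isReduced_of_weaklyEtale (A ⊗[k] K) ((A ⊗[k] K) ⊗[A] R)
    let e1 : K ⊗[k] R ≃ₐ[k] R ⊗[k] K := Algebra.TensorProduct.comm k K R
    let e2 : R ⊗[A] (A ⊗[k] K) ≃ₐ[A] R ⊗[k] K := Algebra.TensorProduct.cancelBaseChange k A A R K
    let e3 : R ⊗[A] (A ⊗[k] K) ≃ₐ[A] (A ⊗[k] K) ⊗[A] R := Algebra.TensorProduct.comm A R (A ⊗[k] K)
    let f : K ⊗[k] R →+* (A ⊗[k] K) ⊗[A] R :=
      (e3.toRingEquiv.toRingHom.comp e2.symm.toRingEquiv.toRingHom).comp e1.toRingEquiv.toRingHom
    have hf : Function.Injective f :=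
      (e3.injective.comp e2.symm.injective).comp e1.injective
    exact isReduced_of_injective f hf
  · intro h K _ _
    have hKR : IsReduced (K ⊗[k] R) := h K
    have hff : Module.FaithfullyFlat A R :=
      Groth.Agent.Lib.StrictHenselization.faithfullyFlat_of_isStrictHenselization A R
    have hinj : Function.Injective (IsScalarTower.toAlgHom k A R) :=
      FaithfulSMul.algebraMap_injective A R
    let g : K ⊗[k] A →ₐ[k] K ⊗[k] R :=
      Algebra.TensorProduct.map (AlgHom.id k K) (IsScalarTower.toAlgHom k A R)
    have hg : Function.Injective g := by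
      have := Module.Flat.lTensor_preserves_injective_linearMap (M := K)
        (IsScalarTower.toAlgHom k A R).toLinearMap hinj
      exact this
    exact isReduced_of_injective g.toRingHom hg


/-- (1) ⇔ (2): let k be a field, A a local k-algebra and R a strict henselization of A. Then A is
geometrically reduced over k (K ⊗_k A reduced for every field extension K of k) if and only if R is
geometrically reduced over k. -/
theorem result (k : Type u) [Field k]
    (A : Type u) [CommRing A] [IsLocalRing A] [Algebra k A]
    (R : Type u) [CommRing R] [IsLocalRing R] [Algebra A R] [IsLocalHom (algebraMap A R)]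
    [Hensel.IsStrictHenselization A R] [Algebra k R] [IsScalarTower k A R] :
    (∀ (K : Type u) [Field K] [Algebra k K], IsReduced (TensorProduct k K A)) ↔
      ∀ (K : Type u) [Field K] [Algebra k K], IsReduced (TensorProduct k K R) := by
  exact aux k A R

end Groth.Agent.S10498
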