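import Groth.Statements.S1050
import Groth.Agent.Lib.SerreSubcomplex66

set_option autoImplicit false
universe w w' v u
open CategoryTheory CategoryTheory.Limits
open CohDer

namespace Groth.Agent.S1050

open Groth.Agent.Lib.SerreSubcomplex66

section

variable {A : Type u} [Category.{v} A] [Abelian A] (P : ObjectProperty A)

/-- Lift a complex with terms in `P` to the full subcategory. -/
noncomputable def liftCx (Y : CochainComplex A ℤ) (hY : ∀ i, P (Y.X i)) :
    CochainComplex P.FullSubcategory ℤ where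
  X i := ⟨Y.X i, hY i⟩
  d i k := ObjectProperty.homMk (Y.d i k)
  shape i k h := by ext; exact Y.shape i k h
  d_comp_d' i j k _ _ := by ext; simp

/-- The lift maps to the original complex. -/
noncomputable def liftCxIso (Y : CochainComplex A ℤ) (hY : ∀ i, P (Y.X i)) :
    (P.ι.mapHomologicalComplex (ComplexShape.up ℤ)).obj (liftCx P Y hY) ≅ Y :=
  HomologicalComplex.Hom.isoOfComponents (fun i => Iso.refl _) (by
    intro i k _
    dsimp [liftCx]
    erw [Category.id_comp, Category.comp_id]
    rfl)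

lemma isStrictlyLE_liftCx (Y : CochainComplex A ℤ) (hY : ∀ i, P (Y.X i)) (b : ℤ)
    [Y.IsStrictlyLE b] : (liftCx P Y hY).IsStrictlyLE b := by
  rw [← CochainComplex.isStrictlyLE_mapHomologicalComplex_obj_iff _ P.ι]
  exact CochainComplex.isStrictlyLE_of_iso (liftCxIso P Y hY).symm b

end

section

variable {A : Type u} [Category.{v} A] [Abelian A]
    (P : ObjectProperty A) [P.IsSerreClass] [P.IsClosedUnderKernels] [P.IsClosedUnderCokernels]
    [P.IsClosedUnderFiniteProducts]
    [PreservesFiniteLimits P.ι] [PreservesFiniteColimits P.ι]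

lemma prop_homology_map (Y : CochainComplex P.FullSubcategory ℤ) (n : ℤ) :
    P (((P.ι.mapHomologicalComplex (ComplexShape.up ℤ)).obj Y).homology n) := by
  have e : ((P.ι.mapHomologicalComplex (ComplexShape.up ℤ)).obj Y).homology n ≅
      P.ι.obj (Y.homology n) := (Y.sc n).mapHomologyIso P.ι
  exact P.prop_of_iso e.symm (Y.homology n).property

omit [P.IsClosedUnderKernels] [P.IsClosedUnderCokernels]
    [P.IsClosedUnderFiniteProducts] [PreservesFiniteLimits P.ι] [PreservesFiniteColimits P.ι] in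
lemma prop_homology_of_quasiIso {X' X : CochainComplex A ℤ} (s : X' ⟶ X) [QuasiIso s]
    (h : ∀ n, P (X.homology n)) (n : ℤ) : P (X'.homology n) :=
  P.prop_of_iso (asIso (HomologicalComplex.homologyMap s n)).symm (h n)

/-- Replace the source of a quasi-isomorphism to a complex of `P` by a complex of `P`. -/
lemma exists_lift_roof (hlift : HasLift P) (b : ℤ) (Y : CochainComplex P.FullSubcategory ℤ)
    (X' : CochainComplex A ℤ) [X'.IsStrictlyLE b]
    (s : X' ⟶ (P.ι.mapHomologicalComplex (ComplexShape.up ℤ)).obj Y) [QuasiIso s] :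
    ∃ (W : CochainComplex P.FullSubcategory ℤ) (_ : W.IsStrictlyLE b)
      (u : (P.ι.mapHomologicalComplex (ComplexShape.up ℤ)).obj W ⟶ X'), QuasiIso u := by
  have hH : ∀ n, P (X'.homology n) := prop_homology_of_quasiIso P s (prop_homology_map P Y)
  obtain ⟨W₀, j, hj, hW₀, hq, hWb⟩ := exists_subcomplex P X' hlift hH b
  refine ⟨liftCx P W₀ hW₀, isStrictlyLE_liftCx P W₀ hW₀ b, (liftCxIso P W₀ hW₀).hom ≫ j, ?_⟩
  infer_instance

end

section

variable {A : Type u} [Category.{v} A] [Abelian A] [HasDerivedCategory.{w} A]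

/-- A morphism of complexes which vanishes in the derived category becomes null-homotopic after
precomposition with a quasi-isomorphism. -/
lemma exists_quasiIso_homotopy_zero {X₁ X₂ : CochainComplex A ℤ} (f : X₁ ⟶ X₂)
    (hf : DerivedCategory.Q.map f = 0) :
    ∃ (X₀ : CochainComplex A ℤ) (t : X₀ ⟶ X₁) (_ : QuasiIso t), Nonempty (Homotopy (t ≫ f) 0) := by
  have h1 : DerivedCategory.Qh.map ((HomotopyCategory.quotient A (ComplexShape.up ℤ)).map f) =
      DerivedCategory.Qh.map 0 := by
    rw [DerivedCategory.Qh.map_zero]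
    have := (DerivedCategory.quotientCompQhIso A).hom.naturality f
    rw [hf, comp_zero] at this
    have h2 := congrArg (fun k => k ≫ (DerivedCategory.quotientCompQhIso A).inv.app X₂) this
    simpa using h2
  rw [MorphismProperty.map_eq_iff_precomp DerivedCategory.Qh
    (HomotopyCategory.quasiIso A (ComplexShape.up ℤ))] at h1
  obtain ⟨Z, s, hs, hsf⟩ := h1
  obtain ⟨X₀, rfl⟩ := HomotopyCategory.quotient_obj_surjective Z
  obtain ⟨t, rfl⟩ := (HomotopyCategory.quotient _ _).map_surjective s
  rw [HomotopyCategory.quotient_map_mem_quasiIso_iff] at hs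
  refine ⟨X₀, t, hs, ?_⟩
  rw [← HomotopyCategory.quotient_map_eq_zero_iff, Functor.map_comp, hsf, comp_zero]

omit [HasDerivedCategory.{w} A] in
lemma bijective_map_of_iso {C D : Type*} [Category C] [Category D] (F : C ⥤ D)
    {M M' N N' : C} (eM : M ≅ M') (eN : N ≅ N')
    (h : Function.Bijective (fun φ : M' ⟶ N' => F.map φ)) :
    Function.Bijective (fun φ : M ⟶ N => F.map φ) := by
  have : (fun φ : M ⟶ N => F.map φ) =
      (Iso.homCongr (F.mapIso eM) (F.mapIso eN)).symm ∘ (fun φ : M' ⟶ N' => F.map φ) ∘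
        (Iso.homCongr eM eN) := by
    ext φ
    simp [Iso.homCongr]
  rw [this]
  exact (Equiv.bijective _).comp (h.comp (Equiv.bijective _))

end

section

variable {A : Type u} [Category.{v} A] [Abelian A] [HasDerivedCategory.{w} A]
    (P : ObjectProperty A) [P.IsSerreClass] [P.IsClosedUnderKernels] [P.IsClosedUnderCokernels]
    [P.IsClosedUnderFiniteProducts] [HasDerivedCategory.{w'} P.FullSubcategory]
    [PreservesFiniteLimits P.ι] [PreservesFiniteColimits P.ι]

open DerivedCategory

/-- The map on morphisms induced by `P.ι.mapDerivedCategory`, conjugated to live between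
`Q`-objects. -/
noncomputable def G {Y Z : CochainComplex P.FullSubcategory ℤ} (φ : Q.obj Y ⟶ Q.obj Z) :
    Q.obj ((P.ι.mapHomologicalComplex (ComplexShape.up ℤ)).obj Y) ⟶
      Q.obj ((P.ι.mapHomologicalComplex (ComplexShape.up ℤ)).obj Z) :=
  P.ι.mapDerivedCategoryFactors.inv.app Y ≫ P.ι.mapDerivedCategory.map φ ≫
    P.ι.mapDerivedCategoryFactors.hom.app Z

lemma G_fraction {W Y Z : CochainComplex P.FullSubcategory ℤ} (s : W ⟶ Y) [IsIso (Q.map s)]
    (g : W ⟶ Z) :
    Q.map ((P.ι.mapHomologicalComplex (ComplexShape.up ℤ)).map s) ≫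
      G P (inv (Q.map s) ≫ Q.map g) =
    Q.map ((P.ι.mapHomologicalComplex (ComplexShape.up ℤ)).map g) := by
  have h1 := P.ι.mapDerivedCategoryFactors.inv.naturality s
  have h2 := P.ι.mapDerivedCategoryFactors_hom_naturality g
  dsimp at h1
  unfold G
  rw [reassoc_of% h1, ← Functor.map_comp_assoc, IsIso.hom_inv_id_assoc, h2,
    Iso.inv_hom_id_app_assoc]

lemma G_surjective (hlift : HasLift P) (b : ℤ) (Y Z : CochainComplex P.FullSubcategory ℤ)
    [Y.IsStrictlyLE b]
    (ψ : Q.obj ((P.ι.mapHomologicalComplex (ComplexShape.up ℤ)).obj Y) ⟶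
      Q.obj ((P.ι.mapHomologicalComplex (ComplexShape.up ℤ)).obj Z)) :
    ∃ φ : Q.obj Y ⟶ Q.obj Z, G P φ = ψ := by
  have : CochainComplex.IsStrictlyLE ((P.ι.mapHomologicalComplex (ComplexShape.up ℤ)).obj Y) b := by
    rw [CochainComplex.isStrictlyLE_mapHomologicalComplex_obj_iff]; infer_instance
  obtain ⟨X', hX', s, hs, g, rfl⟩ := right_fac_of_isStrictlyLE ψ b
  have hsq : QuasiIso s := by rwa [isIso_Q_map_iff_quasiIso] at hs
  obtain ⟨W, hW, u, hu⟩ := exists_lift_roof P hlift b Y X' s
  let s' : W ⟶ Y := (P.ι.mapHomologicalComplex (ComplexShape.up ℤ)).preimage (u ≫ s)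
  let g' : W ⟶ Z := (P.ι.mapHomologicalComplex (ComplexShape.up ℤ)).preimage (u ≫ g)
  have hs' : (P.ι.mapHomologicalComplex (ComplexShape.up ℤ)).map s' = u ≫ s :=
    Functor.map_preimage _ _
  have hg' : (P.ι.mapHomologicalComplex (ComplexShape.up ℤ)).map g' = u ≫ g :=
    Functor.map_preimage _ _
  have hs'q : QuasiIso s' := by
    rw [← HomologicalComplex.quasiIso_map_iff_of_preservesHomology s' P.ι, hs']
    infer_instance
  have : IsIso (Q.map s') := by rw [isIso_Q_map_iff_quasiIso]; exact hs'q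
  have : IsIso (Q.map u) := by rw [isIso_Q_map_iff_quasiIso]; exact hu
  have : IsIso (Q.map ((P.ι.mapHomologicalComplex (ComplexShape.up ℤ)).map s')) := by
    rw [hs', Functor.map_comp]; infer_instance
  refine ⟨inv (Q.map s') ≫ Q.map g', ?_⟩
  rw [← cancel_epi (Q.map ((P.ι.mapHomologicalComplex (ComplexShape.up ℤ)).map s')),
    G_fraction, hg', hs', Functor.map_comp, Functor.map_comp, Category.assoc,
    IsIso.hom_inv_id_assoc]

lemma eq_zero_of_map_eq_zero (hlift : HasLift P) (b : ℤ) (Y Z : CochainComplex P.FullSubcategory ℤ)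
    [Y.IsStrictlyLE b] (φ : Q.obj Y ⟶ Q.obj Z) (h : P.ι.mapDerivedCategory.map φ = 0) :
    φ = 0 := by
  obtain ⟨W, hW, s, hs, g, rfl⟩ := right_fac_of_isStrictlyLE φ b
  have hG : G P (inv (Q.map s) ≫ Q.map g) = 0 := by
    unfold G; rw [h, zero_comp, comp_zero]
  have hg0 : Q.map ((P.ι.mapHomologicalComplex (ComplexShape.up ℤ)).map g) = 0 := by
    rw [← G_fraction P s g, hG, comp_zero]
  obtain ⟨X₀, t, ht, ⟨H⟩⟩ := exists_quasiIso_homotopy_zero _ hg0
  have : CochainComplex.IsStrictlyLE ((P.ι.mapHomologicalComplex (ComplexShape.up ℤ)).obj W) b := by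
    rw [CochainComplex.isStrictlyLE_mapHomologicalComplex_obj_iff]; infer_instance
  have : IsIso (Q.map t) := by rw [isIso_Q_map_iff_quasiIso]; exact ht
  have hX₀ : X₀.IsLE b := by
    rw [← isLE_Q_obj_iff]
    exact TStructure.t.isLE_of_iso (asIso (Q.map t)).symm b
  obtain ⟨V, hV, u, hu⟩ := exists_lift_roof P hlift b W (X₀.truncLE b) (X₀.ιTruncLE b ≫ t)
  let u' : V ⟶ W := (P.ι.mapHomologicalComplex (ComplexShape.up ℤ)).preimage
    (u ≫ X₀.ιTruncLE b ≫ t)
  have hu' : (P.ι.mapHomologicalComplex (ComplexShape.up ℤ)).map u' = u ≫ X₀.ιTruncLE b ≫ t :=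
    Functor.map_preimage _ _
  have hu'q : QuasiIso u' := by
    rw [← HomologicalComplex.quasiIso_map_iff_of_preservesHomology u' P.ι, hu']
    infer_instance
  have : IsIso (Q.map u') := by rw [isIso_Q_map_iff_quasiIso]; exact hu'q
  have H' : Homotopy ((P.ι.mapHomologicalComplex (ComplexShape.up ℤ)).map (u' ≫ g))
      ((P.ι.mapHomologicalComplex (ComplexShape.up ℤ)).map 0) :=
    (Homotopy.ofEq (by rw [Functor.map_comp, hu']; simp)).trans
      ((H.compLeft (u ≫ X₀.ιTruncLE b)).trans (Homotopy.ofEq (by simp)))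
  have h0 : Q.map (u' ≫ g) = 0 := by
    rw [Q_map_eq_of_homotopy _ (P.ι.preimageHomotopy H'), Functor.map_zero]
  rw [Functor.map_comp] at h0
  have hg : Q.map g = 0 := by
    rw [← cancel_epi (Q.map u'), h0, comp_zero]
  rw [hg, comp_zero]

theorem fullyFaithful (hlift : HasLift P) (M N : DerivedCategory P.FullSubcategory) (b : ℤ)
    [M.IsLE b] [N.IsLE b] :
    Function.Bijective (fun φ : M ⟶ N => P.ι.mapDerivedCategory.map φ) := by
  obtain ⟨Y, hY, ⟨eM⟩⟩ := M.exists_iso_Q_obj_of_isLE b
  obtain ⟨Z, hZ, ⟨eN⟩⟩ := N.exists_iso_Q_obj_of_isLE b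
  apply bijective_map_of_iso _ eM eN
  constructor
  · intro φ₁ φ₂ h
    dsimp only at h
    rw [← sub_eq_zero]
    apply eq_zero_of_map_eq_zero P hlift b Y Z
    rw [Functor.map_sub, h, sub_self]
  · intro ψ
    obtain ⟨φ, hφ⟩ := G_surjective P hlift b Y Z
      (P.ι.mapDerivedCategoryFactors.inv.app Y ≫ ψ ≫ P.ι.mapDerivedCategoryFactors.hom.app Z)
    refine ⟨φ, ?_⟩
    unfold G at hφ
    dsimp only
    rw [← cancel_epi (P.ι.mapDerivedCategoryFactors.inv.app Y),
      ← cancel_mono (P.ι.mapDerivedCategoryFactors.hom.app Z), Category.assoc, hφ, Category.assoc]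

theorem essSurj (hlift : HasLift P) (K : DerivedCategory A) (b : ℤ) [K.IsLE b]
    (hK : ∀ n : ℤ, P ((DerivedCategory.homologyFunctor A n).obj K)) :
    ∃ M : DerivedCategory P.FullSubcategory, M.IsLE b ∧
      Nonempty (P.ι.mapDerivedCategory.obj M ≅ K) := by
  obtain ⟨X, hX, ⟨e⟩⟩ := K.exists_iso_Q_obj_of_isLE b
  have hH : ∀ n, P (X.homology n) := fun n =>
    P.prop_of_iso ((DerivedCategory.homologyFunctor A n).mapIso e ≪≫
      (DerivedCategory.homologyFunctorFactors A n).app X) (hK n)
  obtain ⟨Y, j, hj, hY, hq, hYb⟩ := exists_subcomplex P X hlift hH b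
  refine ⟨DerivedCategory.Q.obj (liftCx P Y hY), ?_, ⟨?_⟩⟩
  · have := isStrictlyLE_liftCx P Y hY b
    infer_instance
  · have : IsIso (DerivedCategory.Q.map j) := by
      rw [DerivedCategory.isIso_Q_map_iff_quasiIso]; exact hq
    exact (P.ι.mapDerivedCategoryFactors.app (liftCx P Y hY)) ≪≫
      DerivedCategory.Q.mapIso (liftCxIso P Y hY) ≪≫ asIso (DerivedCategory.Q.map j) ≪≫ e.symm

end

/-- Let P be a Serre class in an abelian category A (so that the full subcategory on P is abelian; its
closure under kernels, cokernels, finite products and the exactness of the inclusion are carried as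
instance hypotheses) such that for every epimorphism X ⟶ Y with P Y there is a subobject X' of X
with P X' mapping onto Y. Then the induced functor D(P) ⥤ D(A) is fully faithful on bounded above
objects, and every bounded above object of D(A) all of whose cohomology objects satisfy P is in its
essential image from a bounded above object; that is, D⁻(P) ≃ D⁻_P(A). -/
theorem result {A : Type u} [Category.{v} A] [Abelian A] [HasDerivedCategory.{w} A]
    (P : ObjectProperty A) [P.IsSerreClass] [P.IsClosedUnderKernels] [P.IsClosedUnderCokernels]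
    [P.IsClosedUnderFiniteProducts] [HasDerivedCategory.{w'} P.FullSubcategory]
    [PreservesFiniteLimits P.ι] [PreservesFiniteColimits P.ι]
    (hlift : ∀ (X Y : A) (π : X ⟶ Y), Epi π → P Y → ∃ (X' : A) (i : X' ⟶ X), Mono i ∧ P X' ∧ Epi (i ≫ π)) :
    (∀ (M N : DerivedCategory P.FullSubcategory) (b : ℤ), M.IsLE b → N.IsLE b →
      Function.Bijective (fun φ : M ⟶ N => P.ι.mapDerivedCategory.map φ)) ∧
    ∀ (K : DerivedCategory A) (b : ℤ), K.IsLE b → (∀ n : ℤ, P ((DerivedCategory.homologyFunctor A n).obj K)) →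
      ∃ M : DerivedCategory P.FullSubcategory, M.IsLE b ∧ Nonempty (P.ι.mapDerivedCategory.obj M ≅ K) := by
  refine ⟨fun M N b hM hN => fullyFaithful P hlift M N b, fun K b hK hKP => essSurj P hlift K b hKP⟩

end Groth.Agent.S1050
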