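import Groth.Statements.S10507
-- import your own Groth.Agent.* helpers here
import Groth.Agent.Lib.AlgSpFppfCover

set_option autoImplicit false
universe u
open CategoryTheory CategoryTheory.Limits AlgebraicGeometry
open AlgSp

namespace Groth.Agent.S10507

/-- If `{X_i ⟶ X}` is an fpqc covering of the algebraic space `X` by algebraic spaces and each `X_i` has
an fpqc covering `{X_ij ⟶ X_i}` by algebraic spaces, then the composites `X_ij ⟶ X_i ⟶ X`, indexed
by the pairs `(i, j)`, form an fpqc covering of `X`. -/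
theorem result {S : Scheme.{u}} (X : AlgSp.Space S) {ι : Type u}
    (Xi : ι → AlgSp.Space S) (g : ∀ i, Xi i ⟶ X) (κ : ι → Type u) (Xij : ∀ i, κ i → AlgSp.Space S)
    (gij : ∀ i j, Xij i j ⟶ Xi i)
    (h : AlgSp.IsFpqcCover (fun i => (Xi i).obj) (fun i => (g i).hom))
    (hij : ∀ i, AlgSp.IsFpqcCover (fun j => (Xij i j).obj) (fun j => (gij i j).hom)) :
    AlgSp.IsFpqcCover (fun r : Σ i, κ i => (Xij r.1 r.2).obj) (fun r => (gij r.1 r.2 ≫ g r.1).hom) := by
  refine ⟨fun r => ?_, ?_⟩
  · exact Groth.Agent.Lib.AlgSpLocP.locP_comp Groth.Agent.Lib.AlgSpLocP.etLocalClass_flat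
      (Xij r.1 r.2).property (Xi r.1).property X.property ((hij r.1).1 r.2) (h.1 r.1)
  · exact Groth.Agent.Lib.AlgSpFpqc.HasFpqcRefinement.sigma (Xi := fun i => (Xi i).obj)
      (g := fun i => (g i).hom) h.2 (Xij := fun i j => (Xij i j).obj)
      (gij := fun i j => (gij i j).hom) (fun i => (hij i).2)

end Groth.Agent.S10507
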