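import Groth.Statements.S10509
import Groth.Agent.Lib.AlgSpSmRefine

set_option autoImplicit false
universe u
open CategoryTheory CategoryTheory.Limits AlgebraicGeometry
open AlgSp

namespace Groth.Agent.S10509

/-- A smooth covering of an algebraic space `X` over `S` by algebraic spaces can be refined by an etale
covering of `X` by algebraic spaces: there is an etale covering `{U_j ⟶ X}` each member of which
factors through some member of the given smooth covering. -/
theorem result {S : Scheme.{u}} (X : AlgSp.Space S) {ι : Type u}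
    (Xi : ι → AlgSp.Space S) (g : ∀ i, Xi i ⟶ X)
    (h : AlgSp.IsSmCover (fun i => (Xi i).obj) (fun i => (g i).hom)) :
    ∃ (κ : Type u) (U : κ → AlgSp.Space S) (c : ∀ j, U j ⟶ X),
      AlgSp.IsEtCover (fun j => (U j).obj) (fun j => (c j).hom) ∧
      ∀ j, ∃ (i : ι) (r : U j ⟶ Xi i), r ≫ g i = c j := by
  obtain ⟨κ, U, c, hc, hs, hr⟩ := Groth.Agent.Lib.AlgSpSmRefine.exists_etale_refinement X.property
    (fun i => (Xi i).obj) (fun i => (Xi i).property) (fun i => (g i).hom) h
  refine ⟨κ, fun j => ⟨(AlgSp.yon S).obj (U j), AlgSp.IsAlgSpace.yon_obj (U j)⟩,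
    fun j => ObjectProperty.homMk (c j),
    ⟨fun j _ _ hφ => (AlgSp.repWith_isMultiplicative (S := S) @Etale).comp_mem _ _ hφ (hc j), hs⟩,
    fun j => ?_⟩
  obtain ⟨i, r, hri⟩ := hr j
  exact ⟨i, ObjectProperty.homMk r, by ext1; exact hri⟩

end Groth.Agent.S10509
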