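import Groth.Statements.S1051
-- import your own Groth.Agent.* helpers here

set_option autoImplicit false
universe v u
open CategoryTheory
open CohDer

namespace Groth.Agent.S1051

section helpers

open CategoryTheory.Pretriangulated CategoryTheory.Limits

variable {D : Type u} [Category.{v} D] [Preadditive D] [Limits.HasZeroObject D] [HasShift D ℤ]
    [∀ n : ℤ, (shiftFunctor D n).Additive] [Pretriangulated D]

lemma key (T : Triangle D) (hT : T ∈ distinguishedTriangles) (W : D)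
    (hW : ∀ g : (shiftFunctor D (1 : ℤ)).obj W ⟶ T.obj₃, g = 0) (ψ : W ⟶ T.obj₁)
    (hψ : ψ ≫ T.mor₁ = 0) : ψ = 0 := by
  obtain ⟨g, hg⟩ := Triangle.coyoneda_exact₁ T hT ((shiftFunctor D (1 : ℤ)).map ψ) (by
    rw [← Functor.map_comp, hψ, Functor.map_zero])
  apply (shiftFunctor D (1 : ℤ)).map_injective
  rw [hg, hW g, zero_comp, Functor.map_zero]

structure Stage (X : ChainComplex D ℕ) (n k : ℕ) where
  Y : D
  a : Y ⟶ X.X k
  claim : ∀ i : ℕ, k + 2 < i → i ≤ n → ∀ m : ℤ, m = (i : ℤ) - k - 2 →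
    ∀ φ : (shiftFunctor D m).obj (X.X i) ⟶ Y, φ = 0
  inj : k + 2 ≤ n → ∀ ψ : X.X (k + 2) ⟶ Y, ψ ≫ a = 0 → ψ = 0
  lift : k < n → ∃ b : X.X (k + 1) ⟶ Y, b ≫ a = X.d (k + 1) k

structure Step (X : ChainComplex D ℕ) (n k : ℕ) (s : Stage X n k) where
  next : Stage X n (k + 1)
  b : X.X (k + 1) ⟶ s.Y
  c : s.Y ⟶ (shiftFunctor D (1 : ℤ)).obj next.Y
  prop : k < n → (Triangle.mk next.a b c ∈ distinguishedTriangles ∧ b ≫ s.a = X.d (k + 1) k)

lemma exists_step (X : ChainComplex D ℕ) (n : ℕ)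
    (hX : ∀ i j : ℕ, j + 2 < i → i ≤ n → ∀ m : ℤ, m = (i : ℤ) - j - 2 →
      ∀ φ : (shiftFunctor D m).obj (X.X i) ⟶ X.X j, φ = 0)
    (k : ℕ) (s : Stage X n k) : Nonempty (Step X n k s) := by
  by_cases hk : k < n
  · obtain ⟨b, hb⟩ := s.lift hk
    obtain ⟨Y', a', c', hT⟩ := distinguished_cocone_triangle₁ b
    have hclaim : ∀ i : ℕ, k + 1 + 2 < i → i ≤ n → ∀ m : ℤ, m = (i : ℤ) - (k + 1 : ℕ) - 2 →
        ∀ φ : (shiftFunctor D m).obj (X.X i) ⟶ Y', φ = 0 := by
      intro i hi hin m hm φ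
      refine key _ hT _ ?_ φ ?_
      · intro g
        have h1 := s.claim i (by lia) hin (m + 1) (by push_cast at hm; lia)
          ((shiftFunctorAdd' D m 1 (m + 1) rfl).hom.app (X.X i) ≫ g)
        exact (cancel_epi ((shiftFunctorAdd' D m 1 (m + 1) rfl).hom.app (X.X i))).mp
          (h1.trans comp_zero.symm)
      · exact hX i (k + 1) hi hin m hm _
    have hinj : k + 1 + 2 ≤ n → ∀ ψ : X.X (k + 1 + 2) ⟶ Y', ψ ≫ a' = 0 → ψ = 0 := by
      intro hn ψ hψ
      refine key _ hT _ ?_ ψ hψ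
      intro g
      exact s.claim (k + 1 + 2) (by lia) hn 1 (by push_cast; lia) g
    have hlift : k + 1 < n → ∃ b' : X.X (k + 1 + 1) ⟶ Y', b' ≫ a' = X.d (k + 1 + 1) (k + 1) := by
      intro hn
      have h0 : X.d (k + 1 + 1) (k + 1) ≫ b = 0 := by
        apply s.inj (by lia)
        rw [Category.assoc, hb, HomologicalComplex.d_comp_d]
      obtain ⟨b', hb'⟩ := Triangle.coyoneda_exact₂ _ hT (X.d (k + 1 + 1) (k + 1)) h0
      exact ⟨b', hb'.symm⟩
    exact ⟨{ next := { Y := Y', a := a', claim := hclaim, inj := hinj, lift := hlift },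
             b := b, c := c', prop := fun _ => ⟨hT, hb⟩ }⟩
  · exact ⟨{ next := { Y := X.X (k + 1), a := 𝟙 _,
                       claim := by intros; lia, inj := by intros; lia, lift := by intros; lia },
             b := 0, c := 0, prop := fun h => absurd h hk }⟩

noncomputable def stage0 (X : ChainComplex D ℕ) (n : ℕ)
    (hX : ∀ i j : ℕ, j + 2 < i → i ≤ n → ∀ m : ℤ, m = (i : ℤ) - j - 2 →
      ∀ φ : (shiftFunctor D m).obj (X.X i) ⟶ X.X j, φ = 0) : Stage X n 0 where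
  Y := X.X 0
  a := 𝟙 _
  claim := fun i hi hin m hm φ => hX i 0 hi hin m hm φ
  inj := fun _ ψ hψ => by simpa using hψ
  lift := fun _ => ⟨X.d 1 0, by simp⟩

noncomputable def stages (X : ChainComplex D ℕ) (n : ℕ)
    (hX : ∀ i j : ℕ, j + 2 < i → i ≤ n → ∀ m : ℤ, m = (i : ℤ) - j - 2 →
      ∀ φ : (shiftFunctor D m).obj (X.X i) ⟶ X.X j, φ = 0) : ∀ k : ℕ, Stage X n k
  | 0 => stage0 X n hX
  | k + 1 => (Classical.choice (exists_step X n hX k (stages X n hX k))).next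

end helpers


open CategoryTheory.Pretriangulated in
/-- Let X be a chain complex in a triangulated category D and n a natural number; consider the finite
complex Xₙ → Xₙ₋₁ → … → X₀. If every morphism Xᵢ[i - j - 2] ⟶ Xⱼ with j + 2 < i ≤ n vanishes, then
there is a Postnikov system for it: objects Yₖ (k ≤ n), an isomorphism Y₀ ⟶ X₀, and for each k < n a
distinguished triangle Yₖ₊₁ ⟶ Xₖ₊₁ ⟶ Yₖ ⟶ Yₖ₊₁[1] such that Xₖ₊₁ ⟶ Yₖ ⟶ Xₖ is the differential of X. -/
theorem result {D : Type u} [Category.{v} D] [Preadditive D] [Limits.HasZeroObject D] [HasShift D ℤ]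
    [∀ n : ℤ, (shiftFunctor D n).Additive] [Pretriangulated D] [IsTriangulated D]
    (X : ChainComplex D ℕ) (n : ℕ)
    (hX : ∀ i j : ℕ, j + 2 < i → i ≤ n → ∀ φ : (shiftFunctor D ((i : ℤ) - j - 2)).obj (X.X i) ⟶ X.X j, φ = 0) :
    ∃ (Y : ℕ → D) (a : ∀ k, Y k ⟶ X.X k) (b : ∀ k, X.X (k + 1) ⟶ Y k) (c : ∀ k, Y k ⟶ (shiftFunctor D (1 : ℤ)).obj (Y (k + 1))),
      IsIso (a 0) ∧ ∀ k, k < n → Triangle.mk (a (k + 1)) (b k) (c k) ∈ distinguishedTriangles ∧ b k ≫ a k = X.d (k + 1) k := by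
  have hX' : ∀ i j : ℕ, j + 2 < i → i ≤ n → ∀ m : ℤ, m = (i : ℤ) - j - 2 →
      ∀ φ : (shiftFunctor D m).obj (X.X i) ⟶ X.X j, φ = 0 := by
    intro i j hij hin m hm φ
    subst hm
    exact hX i j hij hin φ
  refine ⟨fun k => (stages X n hX' k).Y, fun k => (stages X n hX' k).a,
    fun k => (Classical.choice (exists_step X n hX' k (stages X n hX' k))).b,
    fun k => (Classical.choice (exists_step X n hX' k (stages X n hX' k))).c, ?_, ?_⟩
  · change IsIso (𝟙 (X.X 0))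
    infer_instance
  · intro k hk
    exact (Classical.choice (exists_step X n hX' k (stages X n hX' k))).prop hk

end Groth.Agent.S1051
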