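import Groth.Statements.S10511
import Groth.Agent.Lib.H69FppfInd

set_option autoImplicit false
universe u
open CategoryTheory CategoryTheory.Limits AlgebraicGeometry
open AlgSp

namespace Groth.Agent.S10511

/-- Let `X` be an algebraic space over `S` and `P` a property of sheaves over `X` such that, for every
algebraic space `U` over `X` and every fppf covering `{U_i ⟶ U}` by algebraic spaces, `P` holds for
`U` as soon as it holds for all the iterated fibre products `U_{i_0} ×_U ⋯ ×_U U_{i_n}` (`n ≥ 0`,
taken in fppf sheaves) over `X`. If `P` holds for every sheaf over `X` that is isomorphic to an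
affine scheme and flat and locally of finite presentation over `X`, then `P` holds for `X`. -/
theorem result {S : Scheme.{u}} (X : AlgSp.Space S)
    (P : ∀ ⦃U : AlgSp.Sp S⦄, (U ⟶ X.obj) → Prop)
    (hP : ∀ ⦃U : AlgSp.Sp S⦄ (a : U ⟶ X.obj), AlgSp.IsAlgSpace U →
      ∀ ⦃ι : Type u⦄ (Ui : ι → AlgSp.Sp S) (g : ∀ i, Ui i ⟶ U), (∀ i, AlgSp.IsAlgSpace (Ui i)) →
      AlgSp.IsFppfCover Ui g →
      (∀ (n : ℕ) (c : Fin (n + 1) → ι),
        P (WidePullback.base (fun k : Fin (n + 1) => g (c k)) ≫ a)) → P a)
    (haff : ∀ ⦃U : AlgSp.Sp S⦄ (a : U ⟶ X.obj) (T : Over S) (e : U ≅ (AlgSp.yon S).obj T), IsAffine T.left →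
      AlgSp.LocP @Flat a → AlgSp.LocP @LocallyOfFinitePresentation a → P a) :
    P (𝟙 X.obj) := by
  classical
  have hFL : ∀ ⦃A B : Scheme.{u}⦄ (f : A ⟶ B), IsOpenImmersion f →
      Flat f ∧ LocallyOfFinitePresentation f := fun A B f hf => ⟨inferInstance, inferInstance⟩
  -- affine
  have h0 : Groth.Agent.Lib.H69FppfInd.Holds X.obj P (fun T => IsAffine T) :=
    fun U a T e hT haf hap => haff a T e hT haf hap
  -- separated schemes
  have h1 : Groth.Agent.Lib.H69FppfInd.Holds X.obj P (fun T => T.IsSeparated) := by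
    refine Groth.Agent.Lib.H69FppfInd.step_affineOpens X P hP _ _ h0
      (@IsOpenImmersion ⊓ @IsAffineHom) (fun A B f hf => hFL f hf.1) ?_ ?_
    · intro T W hT hW
      have : T.IsSeparated := hT
      have : IsAffine (W : Scheme.{u}) := hW
      refine ⟨inferInstance, ?_⟩
      have h2 : IsAffineHom (W.ι ≫ terminal.from T) := inferInstance
      exact IsAffineHom.of_comp W.ι (terminal.from T)
    · intro T W V q hW hq
      have : IsAffine (W : Scheme.{u}) := hW
      have : IsAffineHom q := hq.2
      exact isAffine_of_isAffineHom q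
  -- all schemes
  have h2 : Groth.Agent.Lib.H69FppfInd.Holds X.obj P (fun _ => True) := by
    refine Groth.Agent.Lib.H69FppfInd.step_affineOpens X P hP _ _ h1
      (@IsOpenImmersion) hFL ?_ ?_
    · intro T W _ hW
      exact (inferInstance : IsOpenImmersion W.ι)
    · intro T W V q hW hq
      have : IsAffine (W : Scheme.{u}) := hW
      have : IsOpenImmersion q := hq
      have h3 : IsSeparated (q ≫ terminal.from (W : Scheme.{u})) := inferInstance
      rw [terminal.comp_from] at h3
      exact ⟨h3⟩
  -- the algebraic space itself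
  obtain ⟨W, p, hpe, hps⟩ := X.property.atlas
  have hid : ∀ (Q : MorphismProperty Scheme.{u}) [Q.IsStableUnderBaseChange],
      (∀ T : Scheme.{u}, Q (𝟙 T)) →
      (∀ ⦃A B C : Scheme.{u}⦄ (l : A ⟶ B) (w : B ⟶ C), Etale l → Q w → Q (l ≫ w)) →
      AlgSp.LocP Q (𝟙 X.obj) := fun Q _ hQid hpre => by
    refine Groth.Agent.Lib.AlgSpBasic.locP_of_repWith Q hpre
      (fun _ c => X.property.representable_from_yon c) ?_
    apply MorphismProperty.relative.of_exists
    intro T g
    refine ⟨T, g, 𝟙 T, ?_, hQid T.left⟩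
    rw [CategoryTheory.Functor.map_id]
    exact IsPullback.of_vert_isIso ⟨by rw [Category.comp_id, Category.id_comp]⟩
  refine Groth.Agent.Lib.H69FppfInd.step X P hP _ h2 (@Etale)
    (fun A B f hf => by
      have : Etale f := hf
      exact ⟨inferInstance, inferInstance⟩) X.property (𝟙 X.obj)
    (hid @Flat (fun T => inferInstance) Groth.Agent.Lib.AlgSpLocP.etLocalClass_flat.pre)
    (hid @LocallyOfFinitePresentation (fun T => inferInstance)
      Groth.Agent.Lib.AlgSpLocP.etLocalClass_lfp.pre)
    (fun _ : PUnit.{u + 1} => W) (fun _ => p) (fun _ => hpe) ?_ (fun _ _ _ _ => trivial)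
  intro x
  obtain ⟨y, hy⟩ := Groth.Agent.Lib.AlgSpPoints.surjective_map_of_representable hps.rep
    (fun T g => (hps.property_snd g).surj) x
  exact ⟨PUnit.unit, y, hy⟩

end Groth.Agent.S10511
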