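import Groth.Statements.S10512
import Groth.Agent.Lib.SpacesTopRefine46

set_option autoImplicit false
universe u
open CategoryTheory CategoryTheory.Limits AlgebraicGeometry
open AlgSp

namespace Groth.Agent.S10512

/-- For a morphism `f : Y ⟶ X` of algebraic spaces over `S`, the functor from the small etale site of
`Y` (scheme objects) to the big etale site `(Spaces/X)_{etale}` sending `h_U ⟶ Y` to `h_U ⟶ Y ⟶ X`
is cocontinuous; for `f = 𝟙` this is the cocontinuity of the inclusion of the small etale site of
`X` into its big etale site. (Stated for the small etale site with scheme objects, which defines the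
same topos as the one with algebraic-space objects.) -/
theorem result {S : Scheme.{u}} {X Y : AlgSp.Space S} (f : Y ⟶ X) :
    (AlgSp.EtOver.toEtSpOver Y ⋙ ObjectProperty.ι (fun E : Over Y => AlgSp.IsEtaleMor E.hom.hom) ⋙
        Over.map f).IsCocontinuous (AlgSp.etTop Y.obj) (AlgSp.spacesTopOver AlgSp.IsEtaleMor X) := by
  constructor
  intro E R hR
  rw [GrothendieckTopology.mem_over_iff] at hR
  have key : ∀ x : ↥E.obj.left.left, ∃ (W' : Over S) (g : W' ⟶ E.obj.left), Etale g.left ∧ x ∈ Set.range g.left ∧
      (Sieve.overEquiv _ R) ((AlgSp.ofScheme S).map g) := fun x =>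
    Groth.Agent.Lib.SpacesTopRefine46.exists_etale_refinement_id (W := E.obj.left) hR x
  choose W' g hge hgx hgT using key
  let E' : ↥E.obj.left.left → AlgSp.EtOver Y.obj := fun x =>
    AlgSp.EtOver.mk ((AlgSp.yon S).map (g x) ≫ E.obj.hom)
      ((AlgSp.repWith_isMultiplicative (S := S) @Etale).comp_mem _ _
        ((AlgSp.repWith_yon_map_iff @Etale (g x)).2 (hge x)) E.property)
  let φ : ∀ x, E' x ⟶ E := fun x => AlgSp.EtOver.homMk (g x) rfl
  have hcov : Sieve.ofArrows E' φ ∈ AlgSp.etTop Y.obj E :=
    AlgSp.ofArrows_mem_etTop E' φ (fun x => ⟨x, hgx x⟩)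
  refine (AlgSp.etTop Y.obj).superset_covering ?_ hcov
  rw [Sieve.ofArrows, Sieve.generate_le_iff]
  rintro _ _ ⟨x⟩
  change R (_)
  rw [← (Sieve.overEquiv _).symm_apply_apply R, Sieve.overEquiv_symm_iff]
  exact hgT x

end Groth.Agent.S10512
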