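import Groth.Statements.S10513
import Groth.Agent.Lib.SpacesTopRefine46

set_option autoImplicit false
universe u
open CategoryTheory CategoryTheory.Limits AlgebraicGeometry
open AlgSp

namespace Groth.Agent.S10513

/-- For a morphism `f : Y ⟶ X` of algebraic spaces over `S`, the functor from the small etale site of
`Y` (scheme objects) to the big etale site `(Spaces/X)_{etale}` sending `h_U ⟶ Y` to `h_U ⟶ Y ⟶ X`
is continuous (precomposition with it carries sheaves of types to sheaves); for `f = 𝟙` this is the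
continuity of the inclusion of the small etale site of `X` into its big etale site. (Stated for the
small etale site with scheme objects, which defines the same topos as the one with algebraic-space
objects.) -/
theorem result {S : Scheme.{u}} {X Y : AlgSp.Space S} (f : Y ⟶ X) :
    (AlgSp.EtOver.toEtSpOver Y ⋙ ObjectProperty.ι (fun E : Over Y => AlgSp.IsEtaleMor E.hom.hom) ⋙
        Over.map f).IsContinuous (AlgSp.etTop Y.obj) (AlgSp.spacesTopOver AlgSp.IsEtaleMor X) := by
  apply Functor.isContinuous_of_coverPreserving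
  · -- compatible preserving
    constructor
    intro ℱ Z T x hx Y₁ Y₂ Xo f₁ f₂ g₁ g₂ hg₁ hg₂ hcomm
    have sq : IsPullback ((AlgSp.yon S).map (pullback.fst g₁.hom.left g₂.hom.left))
        ((AlgSp.yon S).map (pullback.snd g₁.hom.left g₂.hom.left)) ((AlgSp.yon S).map g₁.hom.left)
        ((AlgSp.yon S).map g₂.hom.left) := (IsPullback.of_hasPullback g₁.hom.left g₂.hom.left).map (AlgSp.yon S)
    have h12 : f₁.left.hom ≫ (AlgSp.yon S).map g₁.hom.left = f₂.left.hom ≫ (AlgSp.yon S).map g₂.hom.left :=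
      congrArg (fun k => k.left.hom) hcomm
    have hw₁ : f₁.left.hom ≫ Y₁.obj.hom ≫ f.hom = Xo.hom.hom := congrArg (fun k => k.hom) (Over.w f₁)
    let l : Xo ⟶ (AlgSp.EtOver.toEtSpOver Y ⋙ ObjectProperty.ι (fun E : Over Y => AlgSp.IsEtaleMor E.hom.hom) ⋙
        Over.map f).obj (AlgSp.EtOver.pullbackObj g₁ g₂) :=
      Over.homMk (ObjectProperty.homMk (sq.lift f₁.left.hom f₂.left.hom h12)) (by
        apply ObjectProperty.hom_ext
        have e1 := sq.lift_fst f₁.left.hom f₂.left.hom h12
        calc sq.lift f₁.left.hom f₂.left.hom h12 ≫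
              ((AlgSp.yon S).map (pullback.fst g₁.hom.left g₂.hom.left) ≫ Y₁.obj.hom) ≫ f.hom
            = (sq.lift f₁.left.hom f₂.left.hom h12 ≫
                (AlgSp.yon S).map (pullback.fst g₁.hom.left g₂.hom.left)) ≫ Y₁.obj.hom ≫ f.hom := by
              simp only [Category.assoc]
          _ = f₁.left.hom ≫ Y₁.obj.hom ≫ f.hom := congrArg (fun k => k ≫ Y₁.obj.hom ≫ f.hom) e1
          _ = Xo.hom.hom := hw₁)
    have hl1 : l ≫ (AlgSp.EtOver.toEtSpOver Y ⋙ ObjectProperty.ι (fun E : Over Y => AlgSp.IsEtaleMor E.hom.hom) ⋙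
        Over.map f).map (AlgSp.EtOver.pullbackFst g₁ g₂) = f₁ := by
      apply Over.OverMorphism.ext
      apply ObjectProperty.hom_ext
      exact sq.lift_fst _ _ _
    have hl2 : l ≫ (AlgSp.EtOver.toEtSpOver Y ⋙ ObjectProperty.ι (fun E : Over Y => AlgSp.IsEtaleMor E.hom.hom) ⋙
        Over.map f).map (AlgSp.EtOver.pullbackSnd g₁ g₂) = f₂ := by
      apply Over.OverMorphism.ext
      apply ObjectProperty.hom_ext
      exact sq.lift_snd _ _ _
    have hxc := hx (AlgSp.EtOver.pullbackFst g₁ g₂) (AlgSp.EtOver.pullbackSnd g₁ g₂) hg₁ hg₂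
      (AlgSp.EtOver.pullback_condition g₁ g₂)
    rw [← hl1, ← hl2, op_comp, op_comp, Functor.map_comp_apply, Functor.map_comp_apply]
    exact congrArg _ hxc
  · -- cover preserving
    constructor
    intro E 𝒮 h𝒮
    obtain ⟨R, hR, hle⟩ := (Precoverage.mem_toGrothendieck_iff_of_isStableUnderComposition
      (J := AlgSp.etPre Y.obj)).1 h𝒮
    obtain ⟨ι, Yf, gf, rfl⟩ := R.exists_eq_ofArrows
    have hsurj := (AlgSp.ofArrows_mem_etPre_iff Yf gf).1 hR
    rw [GrothendieckTopology.mem_over_iff]
    have key : ∀ i, (Sieve.overEquiv _ (Sieve.functorPushforward (AlgSp.EtOver.toEtSpOver Y ⋙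
          ObjectProperty.ι (fun E : Over Y => AlgSp.IsEtaleMor E.hom.hom) ⋙ Over.map f) 𝒮))
          ((AlgSp.ofScheme S).map (gf i).hom.left) := by
      intro i
      have hmem : 𝒮 (gf i) := hle (Yf i) (gf i) (Presieve.ofArrows.mk i)
      have h1 : (Sieve.functorPushforward (AlgSp.EtOver.toEtSpOver Y ⋙
          ObjectProperty.ι (fun E : Over Y => AlgSp.IsEtaleMor E.hom.hom) ⋙ Over.map f) 𝒮)
          ((AlgSp.EtOver.toEtSpOver Y ⋙
          ObjectProperty.ι (fun E : Over Y => AlgSp.IsEtaleMor E.hom.hom) ⋙ Over.map f).map (gf i)) :=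
        Sieve.image_mem_functorPushforward _ 𝒮 hmem
      rw [← (Sieve.overEquiv _).symm_apply_apply (Sieve.functorPushforward _ 𝒮), Sieve.overEquiv_symm_iff] at h1
      exact h1
    refine GrothendieckTopology.superset_covering _ ?_ (Precoverage.generate_mem_toGrothendieck
      (R := Presieve.ofArrows (fun i => (AlgSp.ofScheme S).obj (Yf i).obj.left)
        (fun i => (AlgSp.ofScheme S).map (gf i).hom.left)) ?_)
    · rintro Z k ⟨W, h, g, ⟨i⟩, rfl⟩
      exact Sieve.downward_closed _ (key i) h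
    · refine ⟨?_, fun p => ?_⟩
      · rintro _ _ ⟨i⟩
        exact (AlgSp.isEtaleMor_yon_map_iff (gf i).hom.left).2 (AlgSp.EtOver.etale_left (gf i))
      · obtain ⟨e, rfl⟩ := (AlgSp.Points.schemeEquiv E.obj.left).surjective p
        obtain ⟨i, e', he'⟩ := hsurj e
        refine ⟨_, _, ⟨i⟩, AlgSp.Points.ofScheme _ e', ?_⟩
        rw [← he']
        exact AlgSp.Points.map_yon_map_apply (gf i).hom.left e'

end Groth.Agent.S10513
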