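import Groth.Statements.S10514
import Groth.Agent.Lib.AlgSpFppfCover
import Groth.Agent.Lib.PhRefine33b

set_option autoImplicit false
universe u
open CategoryTheory CategoryTheory.Limits AlgebraicGeometry
open AlgSp

namespace Groth.Agent.S10514

/-- An fppf covering of an algebraic space `X` over `S` by algebraic spaces is a ph covering of `X`: its
members are locally of finite type and every morphism from an affine scheme `Z` to `X` admits a
standard ph covering of `Z` whose members lift through members of the family. -/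
theorem result {S : Scheme.{u}} (X : AlgSp.Space S) {ι : Type u}
    (Xi : ι → AlgSp.Space S) (g : ∀ i, Xi i ⟶ X)
    (h : AlgSp.IsFppfCover (fun i => (Xi i).obj) (fun i => (g i).hom)) :
    AlgSp.IsPhCover (fun i => (Xi i).obj) (fun i => (g i).hom) := by
  classical
  refine ⟨fun i => ?_, fun Z hZ t => ?_⟩
  · intro U V a b k ha hb e
    have := (h.1 i).2 a b k ha hb e
    infer_instance
  · obtain ⟨U, c, l, hfl, hfp, hs, hl⟩ :=
      Groth.Agent.Lib.AlgSpFpqc.exists_flat_lfp_charts_lift X.property (fun i => (Xi i).property)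
        (fun i => (h.1 i).1) (fun i => (h.1 i).2) h.2 Z t
    let E : PreZeroHypercover.{u} Z.left :=
      { I₀ := ι
        X := fun i => (U i).left
        f := fun i => (c i).left }
    have hZc : CompactSpace ↥Z.left := by
      have := hZ
      infer_instance
    have hZq : QuasiSeparatedSpace ↥Z.left := by
      have := hZ
      infer_instance
    obtain ⟨P, p, hp, hps, hloc⟩ :=
      Groth.Agent.Lib.PhRefine33.good_of_fppf (E := E) hfl hfp
        (fun z => by
          obtain ⟨i, x, hx⟩ := hs z
          exact ⟨i, x, hx⟩) (𝟙 Z.left)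
    have hPaff : IsAffine P := isAffine_of_isAffineHom p
    have h' : ∀ y : P, ∃ W : P.Opens, IsAffineOpen W ∧ y ∈ W ∧ ∃ (i : ι)
        (k : (W : Scheme.{u}) ⟶ (U i).left), k ≫ (c i).left = W.ι ≫ p := by
      intro y
      obtain ⟨W, i, k, hy, hk⟩ := hloc y
      obtain ⟨W', hW', hyW', hle⟩ := exists_isAffineOpen_mem_and_subset hy
      refine ⟨W', hW', hyW', i, P.homOfLE hle ≫ k, ?_⟩
      rw [Category.assoc]
      refine (congrArg (fun m => P.homOfLE hle ≫ m) hk).trans ?_
      rw [Category.comp_id, Scheme.homOfLE_ι_assoc]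
    choose W hWaff hyW i k hk using h'
    obtain ⟨s, hs'⟩ := isCompact_univ.elim_finite_subcover (fun y => (W y : Set P))
      (fun y => (W y).isOpen) (fun y _ => Set.mem_iUnion.mpr ⟨y, hyW y⟩)
    let F : PreZeroHypercover.{0} Z.left :=
      { I₀ := Fin s.card
        X := fun j => ((W (s.equivFin.symm j).1 : P.Opens) : Scheme.{u})
        f := fun j => (W (s.equivFin.symm j).1).ι ≫ p }
    refine ⟨F, ⟨hZ, inferInstanceAs (Finite (Fin s.card)), fun j => hWaff _,
      ⟨P, p, fun j => (W (s.equivFin.symm j).1).ι, inferInstance, hps, fun j => inferInstance,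
        fun j => rfl, fun x => ?_⟩⟩, fun j => ?_⟩
    · have hx : x ∈ ⋃ y ∈ s, (W y : Set P) := hs' (Set.mem_univ x)
      obtain ⟨y, hys, hxy⟩ := Set.mem_iUnion₂.mp hx
      refine ⟨s.equivFin ⟨y, hys⟩, ?_⟩
      change x ∈ Set.range ⇑(W (s.equivFin.symm (s.equivFin ⟨y, hys⟩)).1).ι
      rw [Equiv.symm_apply_apply]
      exact ⟨⟨x, hxy⟩, rfl⟩
    · let y := (s.equivFin.symm j).1
      let kk : Over.mk (F.f j ≫ Z.hom) ⟶ U (i y) :=
        Over.homMk (k y) (by
          change k y ≫ (U (i y)).hom = ((W y).ι ≫ p) ≫ Z.hom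
          rw [← Over.w (c (i y)), ← Category.assoc, hk y])
      refine ⟨i y, (yon S).map kk ≫ l (i y), ?_⟩
      have e1 : kk ≫ c (i y) = (Over.homMk (F.f j) rfl : Over.mk (F.f j ≫ Z.hom) ⟶ Z) := by
        apply Over.OverMorphism.ext
        exact hk y
      calc ((yon S).map kk ≫ l (i y)) ≫ (g (i y)).hom
          = (yon S).map kk ≫ (l (i y) ≫ (g (i y)).hom) := Category.assoc _ _ _
        _ = (yon S).map kk ≫ ((yon S).map (c (i y)) ≫ t) := by rw [hl (i y)]
        _ = ((yon S).map kk ≫ (yon S).map (c (i y))) ≫ t := (Category.assoc _ _ _).symm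
        _ = (yon S).map (kk ≫ c (i y)) ≫ t :=
            congrArg (fun m => m ≫ t) ((yon S).map_comp kk (c (i y))).symm
        _ = _ := by rw [e1]

end Groth.Agent.S10514
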