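import Groth.Statements.S10517
-- import your own Groth.Agent.* helpers here
import Groth.Agent.Lib.AlgSpLocP
import Groth.Agent.Lib.PhRefine68

set_option autoImplicit false
universe u
open CategoryTheory CategoryTheory.Limits AlgebraicGeometry
open AlgSp

namespace Groth.Agent.S10517

/-- If `{X_i ⟶ X}` is a ph covering of the algebraic space `X` by algebraic spaces and each `X_i` has a
ph covering `{X_ij ⟶ X_i}` by algebraic spaces, then the composites `X_ij ⟶ X_i ⟶ X`, indexed by the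
pairs `(i, j)`, form a ph covering of `X`. -/
theorem result {S : Scheme.{u}} (X : AlgSp.Space S) {ι : Type u}
    (Xi : ι → AlgSp.Space S) (g : ∀ i, Xi i ⟶ X) (κ : ι → Type u) (Xij : ∀ i, κ i → AlgSp.Space S)
    (gij : ∀ i j, Xij i j ⟶ Xi i)
    (h : AlgSp.IsPhCover (fun i => (Xi i).obj) (fun i => (g i).hom))
    (hij : ∀ i, AlgSp.IsPhCover (fun j => (Xij i j).obj) (fun j => (gij i j).hom)) :
    AlgSp.IsPhCover (fun r : Σ i, κ i => (Xij r.1 r.2).obj) (fun r => (gij r.1 r.2 ≫ g r.1).hom) := by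
  classical
  refine ⟨fun r => ?_, fun Z hZ h0 => ?_⟩
  · have h1 : LocP @LocallyOfFiniteType (gij r.1 r.2).hom := (hij r.1).1 r.2
    have h2 : LocP @LocallyOfFiniteType (g r.1).hom := h.1 r.1
    exact Groth.Agent.Lib.AlgSpLocP.locP_comp Groth.Agent.Lib.AlgSpLocP.etLocalClass_lft
      (Xij r.1 r.2).property (Xi r.1).property X.property h1 h2
  · obtain ⟨F, hF, hl⟩ := h.2 Z hZ h0
    choose i l hl using hl
    have hFaff := hF.isAffine_obj
    have hG := fun j => (hij (i j)).2 (Over.mk (F.f j ≫ Z.hom)) (hFaff j) (l j)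
    choose G hG hGl using hG
    choose k m hm using hGl
    obtain ⟨F', hF', ⟨φ⟩⟩ := Groth.Agent.Lib.PhRefine68.exists_refine_bind F hF G hG
    refine ⟨F', hF', fun j' => ?_⟩
    have key : ∀ (p : Σ j, (G j).I₀) (a : F'.X j' ⟶ (G p.1).X p.2),
        a ≫ (G p.1).f p.2 ≫ F.f p.1 = F'.f j' →
        ∃ (r : Σ i, κ i) (l' : (yon S).obj (Over.mk (F'.f j' ≫ Z.hom)) ⟶ (Xij r.1 r.2).obj),
          l' ≫ (gij r.1 r.2 ≫ g r.1).hom =
            (yon S).map (Over.homMk (F'.f j') rfl : Over.mk (F'.f j' ≫ Z.hom) ⟶ Z) ≫ h0 := by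
      intro p a ha
      have hw : a ≫ (Over.mk ((G p.1).f p.2 ≫ (Over.mk (F.f p.1 ≫ Z.hom)).hom)).hom =
          (Over.mk (F'.f j' ≫ Z.hom)).hom := by
        simp only [Over.mk_hom]
        rw [← ha]
        simp only [Category.assoc]
      obtain ⟨q, hq⟩ : ∃ q : Over.mk (F'.f j' ≫ Z.hom) ⟶
          Over.mk ((G p.1).f p.2 ≫ (Over.mk (F.f p.1 ≫ Z.hom)).hom), q.left = a :=
        ⟨Over.homMk a hw, rfl⟩
      refine ⟨⟨i p.1, k p.1 p.2⟩, (yon S).map q ≫ m p.1 p.2, ?_⟩
      have e1 := hm p.1 p.2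
      have e2 := hl p.1
      have e3 : ((yon S).map q ≫ m p.1 p.2) ≫
          ((gij (i p.1) (k p.1 p.2)).hom ≫ (g (i p.1)).hom) =
          (yon S).map (Over.homMk (F'.f j') rfl : Over.mk (F'.f j' ≫ Z.hom) ⟶ Z) ≫ h0 := by
        rw [Category.assoc, reassoc_of% e1, e2, ← Functor.map_comp_assoc, ← Functor.map_comp_assoc]
        congr 2
        ext
        simp only [Over.comp_left, Over.homMk_left, hq]
        exact ha
      exact e3
    exact key (φ.s₀ j') (φ.h₀ j') (by
      have := φ.w₀ j'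
      simpa [PreZeroHypercover.bind] using this)

end Groth.Agent.S10517
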