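import Groth.Statements.S1053
import Mathlib.Algebra.Homology.DerivedCategory.KProjective
-- import your own Groth.Agent.* helpers here

set_option autoImplicit false
universe w v u
open CategoryTheory CategoryTheory.Limits
open CohDer

namespace Groth.Agent.S1053

/-- Let P and K be cochain complexes in an abelian category with P bounded, consisting of projective
objects and zero in degrees below n, and with Hⁱ(K) = 0 for all i ≥ n. Then every morphism P ⟶ K in
the homotopy category and every morphism P ⟶ K in the derived category is zero. -/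
theorem result {A : Type u} [Category.{v} A] [Abelian A] [HasDerivedCategory.{w} A]
    (P K : CochainComplex A ℤ) (n b : ℤ) [P.IsStrictlyGE n] [P.IsStrictlyLE b] (hP : ∀ i : ℤ, Projective (P.X i))
    (hK : ∀ i : ℤ, n ≤ i → IsZero (K.homology i)) :
    (∀ φ : (HomotopyCategory.quotient A (ComplexShape.up ℤ)).obj P ⟶ (HomotopyCategory.quotient A (ComplexShape.up ℤ)).obj K, φ = 0) ∧
    (∀ φ : DerivedCategory.Q.obj P ⟶ DerivedCategory.Q.obj K, φ = 0) := by
  have : ∀ i : ℤ, Projective (P.X i) := hP
  have : P.IsKProjective := CochainComplex.isKProjective_of_projective P b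
  have : K.IsLE (n - 1) := by
    rw [CochainComplex.isLE_iff]
    intro i hi
    rw [HomologicalComplex.exactAt_iff_isZero_homology]
    exact hK i (by lia)
  have hzero : ∀ g : P ⟶ K.truncLE (n - 1), g = 0 := by
    intro g
    ext i
    by_cases hi : i < n
    · exact (P.isZero_of_isStrictlyGE n i hi).eq_of_src _ _
    · exact ((K.truncLE (n - 1)).isZero_of_isStrictlyLE (n - 1) i (by lia)).eq_of_tgt _ _
  have hD : ∀ φ : DerivedCategory.Q.obj P ⟶ DerivedCategory.Q.obj K, φ = 0 := by
    intro φ
    have : IsIso (DerivedCategory.Q.map (K.ιTruncLE (n - 1))) := by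
      rw [DerivedCategory.isIso_Q_map_iff_quasiIso]
      infer_instance
    have hφ : φ ≫ inv (DerivedCategory.Q.map (K.ιTruncLE (n - 1))) = 0 := by
      obtain ⟨ψ, hψ⟩ := (CochainComplex.IsKProjective.Qh_map_bijective P
        ((HomotopyCategory.quotient A (ComplexShape.up ℤ)).obj (K.truncLE (n - 1)))).surjective
        ((DerivedCategory.quotientCompQhIso A).hom.app P ≫
          (φ ≫ inv (DerivedCategory.Q.map (K.ιTruncLE (n - 1)))) ≫
          (DerivedCategory.quotientCompQhIso A).inv.app (K.truncLE (n - 1)))
      obtain ⟨g, rfl⟩ := (HomotopyCategory.quotient A (ComplexShape.up ℤ)).map_surjective ψ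
      rw [hzero g, Functor.map_zero, Functor.map_zero] at hψ
      have h2 := congrArg (fun x => (DerivedCategory.quotientCompQhIso A).inv.app P ≫ x ≫
        (DerivedCategory.quotientCompQhIso A).hom.app (K.truncLE (n - 1))) hψ
      simp only [zero_comp, comp_zero, Category.assoc, Iso.inv_hom_id_app, Category.comp_id,
        Iso.inv_hom_id_app_assoc] at h2
      exact h2.symm
    have := congrArg (fun x => x ≫ DerivedCategory.Q.map (K.ιTruncLE (n - 1))) hφ
    simpa using this
  refine ⟨?_, hD⟩
  intro φ
  apply (CochainComplex.IsKProjective.Qh_map_bijective P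
    ((HomotopyCategory.quotient A (ComplexShape.up ℤ)).obj K)).injective
  rw [Functor.map_zero]
  have h := hD ((DerivedCategory.quotientCompQhIso A).inv.app P ≫ DerivedCategory.Qh.map φ ≫
    (DerivedCategory.quotientCompQhIso A).hom.app K)
  have h2 := congrArg (fun x => (DerivedCategory.quotientCompQhIso A).hom.app P ≫ x ≫
    (DerivedCategory.quotientCompQhIso A).inv.app K) h
  simp only [zero_comp, comp_zero, Category.assoc, Iso.hom_inv_id_app,
    Iso.hom_inv_id_app_assoc] at h2
  exact (Category.comp_id _).symm.trans h2

end Groth.Agent.S1053
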