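import Groth.Statements.S10551
-- import your own Groth.Agent.* helpers here
import Groth.Agent.Lib.AlgSpDescent

set_option autoImplicit false
universe u
open CategoryTheory CategoryTheory.Limits AlgebraicGeometry
open AlgSp

namespace Groth.Agent.S10551

/-- The property of morphisms of algebraic spaces over S given by f is open (the induced map on spaces
of points is open) is fppf local on the source: for a morphism f : X ⟶ Y of algebraic spaces and a
fppf covering of X by algebraic spaces X_i, f has the property if and only if every composite X_i ⟶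
X ⟶ Y has it. -/
theorem result (S : Scheme.{u}) :
    AlgSp.IsLocalOnSource (AlgSp.IsFppfCover (S := S)) AlgSp.IsOpenMor := by
  intro ι X Xi g hX hXi hcov Y f hY
  obtain ⟨hP, hsurj⟩ := hcov
  constructor
  · intro hf i
    have h1 : AlgSp.IsOpenMor (g i) :=
      Groth.Agent.Lib.AlgSpDescent.isOpenMor_of_isUnivOpenMor hX
        (Groth.Agent.Lib.AlgSpDescent.isUnivOpenMor_of_locP_flat_lfp (hXi i) hX (hP i).1 (hP i).2)
    have e : AlgSp.Points.map (g i ≫ f) = AlgSp.Points.map f ∘ AlgSp.Points.map (g i) := by
      funext x; exact AlgSp.Points.map_comp _ _ x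
    change IsOpenMap (AlgSp.Points.map (g i ≫ f))
    rw [e]
    exact IsOpenMap.comp hf h1
  · intro h
    exact Groth.Agent.Lib.AlgSpDescent.isOpenMor_of_jointly_surjective g hsurj h

end Groth.Agent.S10551
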