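import Groth.Statements.S10552
-- import your own Groth.Agent.* helpers here
import Groth.Agent.Lib.AlgSpDescent

set_option autoImplicit false
universe u
open CategoryTheory CategoryTheory.Limits AlgebraicGeometry
open AlgSp

namespace Groth.Agent.S10552

/-- The property of morphisms of algebraic spaces over S given by f is universally open (every base
change along a morphism from an algebraic space is open on points) is fppf local on the source: for
a morphism f : X ⟶ Y of algebraic spaces and a fppf covering of X by algebraic spaces X_i, f has the
property if and only if every composite X_i ⟶ X ⟶ Y has it. -/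
theorem result (S : Scheme.{u}) :
    AlgSp.IsLocalOnSource (AlgSp.IsFppfCover (S := S)) AlgSp.IsUnivOpenMor := by
  intro ι X Xi g hX hXi hcov Y f hY
  obtain ⟨hP, hsurj⟩ := hcov
  constructor
  · intro hf i
    exact Groth.Agent.Lib.AlgSpDescent.isUnivOpenMor_comp hX hY.diag
      (Groth.Agent.Lib.AlgSpDescent.isUnivOpenMor_of_locP_flat_lfp (hXi i) hX (hP i).1 (hP i).2) hf
  · intro h
    exact Groth.Agent.Lib.AlgSpDescent.isUnivOpenMor_of_jointly_surjective g hsurj h

end Groth.Agent.S10552
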