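import Groth.Statements.S10558
import Groth.Agent.Lib.SrcLocalFppf64
import Groth.Agent.Lib.AlgSpSrcCover

set_option autoImplicit false
universe u
open CategoryTheory CategoryTheory.Limits AlgebraicGeometry
open AlgSp

namespace Groth.Agent.S10558

/-- Let f : X ⟶ Y and q : Y ⟶ B be morphisms of algebraic spaces over S with f surjective, flat and
locally of finite presentation. If the composite p = f ≫ q is locally of finite presentation then q
is locally of finite presentation; if p is locally of finite type then q is locally of finite type. -/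
theorem result {S : Scheme.{u}} {X Y B : AlgSp.Space S} (f : X ⟶ Y) (q : Y ⟶ B)
    (hs : AlgSp.IsSurjectiveMor f.hom) (hfl : AlgSp.LocP @Flat f.hom)
    (hfp : AlgSp.LocP @LocallyOfFinitePresentation f.hom) :
    (AlgSp.LocP @LocallyOfFinitePresentation (f ≫ q).hom → AlgSp.LocP @LocallyOfFinitePresentation q.hom) ∧
    (AlgSp.LocP @LocallyOfFiniteType (f ≫ q).hom → AlgSp.LocP @LocallyOfFiniteType q.hom) := by
  have hflfp : AlgSp.LocP (@Flat ⊓ @LocallyOfFinitePresentation) f.hom :=
    (Groth.Agent.Lib.AlgSpSrcCover.locP_inf_iff _ _ _).2 ⟨hfl, hfp⟩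
  have hsurj : ∀ x : AlgSp.Points Y.obj, ∃ _ : PUnit.{u+1},
      x ∈ Set.range (AlgSp.Points.map f.hom) := fun x => ⟨⟨⟩, hs x⟩
  constructor
  · intro h
    have := Groth.Agent.Lib.SrcLocalFppf64.isLocalAtSource_fppf_lfp.{u}
    exact Groth.Agent.Lib.AlgSpSrcCover.locP_of_cover
      Groth.Agent.Lib.AlgSpSrcCover.covClass_fppf (ι := PUnit.{u+1}) (fun _ => X.obj)
      (fun _ => f.hom) Y.property (fun _ => X.property) (fun _ => hflfp) hsurj q.hom (fun _ => h)
  · intro h
    have := Groth.Agent.Lib.SrcLocalFppf64.isLocalAtSource_fppf_lft.{u}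
    exact Groth.Agent.Lib.AlgSpSrcCover.locP_of_cover
      Groth.Agent.Lib.AlgSpSrcCover.covClass_fppf (ι := PUnit.{u+1}) (fun _ => X.obj)
      (fun _ => f.hom) Y.property (fun _ => X.property) (fun _ => hflfp) hsurj q.hom (fun _ => h)

end Groth.Agent.S10558
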