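import Groth.Statements.S10560
import Groth.Agent.S2805
import Groth.Agent.S2806
import Groth.Agent.Lib.SrcLocalFppf64
import Groth.Agent.Lib.AlgSpSrcCover
import Groth.Agent.Lib.AlgSpLocP

set_option autoImplicit false
universe u
open CategoryTheory CategoryTheory.Limits AlgebraicGeometry
open AlgSp

namespace Groth.Agent.S10560

open AlgSp Groth.Agent.Lib.AlgSpBasic Groth.Agent.Lib.SrcLocal Groth.Agent.Lib.AlgSpLocP
  Groth.Agent.Lib.AlgSpSrcCover

/-- Variant of `AlgSpSrcCover.locP_of_cover` only requiring the "descent" half of locality at the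
source (for a `Q`-covering family of schemes). -/
theorem locP_of_cover' {S : Scheme.{u}} {P Q : MorphismProperty Scheme.{u}} (hQ : CovClass Q)
    (hfam : ∀ {ι : Type u} {B C : Scheme.{u}} (W : ι → Scheme.{u}) (p : ∀ i, W i ⟶ B),
      (∀ i, Q (p i)) → (∀ x : B, ∃ i, ∃ y : W i, p i y = x) →
      ∀ (w : B ⟶ C), (∀ i, P (p i ≫ w)) → P w)
    {ι : Type u} {X Y : Sp S} (Xi : ι → Sp S)
    (g : ∀ i, Xi i ⟶ X) (hX : IsAlgSpace X) (hXi : ∀ i, IsAlgSpace (Xi i))
    (hg : ∀ i, LocP Q (g i)) (hsurj : ∀ x : Points X, ∃ i, x ∈ Set.range (Points.map (g i)))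
    (f : X ⟶ Y) (h : ∀ i, LocP P (g i ≫ f)) : LocP P f := by
  have := hQ.et.baseChange
  intro U' V' a' b' h' ha' hb' comm'
  choose U q hqe hqs using fun i => (hXi i).atlas
  have hc : ∀ i, RepWith Q (q i ≫ g i) := fun i =>
    repWith_of_locP_yon hQ hX _ (locP_comp_of_etale Q (q i) (hqe i) (g i) (hg i))
  have sqW := fun i => (hc i).rep.isPullback' a'
  have hsndQ : ∀ i, Q ((hc i).rep.snd a').left := fun i => (hc i).property_snd a'
  have hfstE : ∀ i, Etale ((hc i).rep.fst' a').left := fun i =>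
    (repWith_yon_map_iff _ _).1 (repWith_fst_of_isPullback _ (sqW i) ha')
  refine hfam (fun i => ((hc i).rep.pullback a').left)
    (fun i => ((hc i).rep.snd a').left) hsndQ ?_ h'.left ?_
  · -- jointly surjective
    intro u'
    obtain ⟨i, xi, hxi⟩ := hsurj (Points.ofPt a' u')
    have hqsurj : Function.Surjective (Points.map (q i)) :=
      Groth.Agent.Lib.AlgSpPoints.surjective_map_of_representable (hqe i).rep
        (fun T t => ((hqs i).property _ _ _ ((hqe i).rep.isPullback t)).surj)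
    obtain ⟨y, hy⟩ := hqsurj xi
    have hmap : Points.map (q i ≫ g i) y = Points.ofPt a' u' := by
      rw [Points.map_comp]
      simp only [hy, hxi]
    obtain ⟨t', ht', -⟩ := Groth.Agent.Lib.AlgSpPoints.exists_of_isPullback_yon (sqW i) y u' hmap
    exact ⟨i, t', ht'⟩
  · intro i
    have hα : RepWith @Etale ((yon S).map ((hc i).rep.fst' a') ≫ q i) :=
      MorphismProperty.comp_mem _ _ _ ((repWith_yon_map_iff _ _).2 (hfstE i)) (hqe i)
    have hcomm : ((yon S).map ((hc i).rep.fst' a') ≫ q i) ≫ g i ≫ f =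
        (yon S).map ((hc i).rep.snd a' ≫ h') ≫ b' := by
      have e := (sqW i).w
      rw [Functor.map_comp, Category.assoc, Category.assoc, ← comm', ← Category.assoc (q i),
        ← Category.assoc, e, Category.assoc]
    exact h i _ b' ((hc i).rep.snd a' ≫ h') hα hb' hcomm

theorem lfp_of_fppf_family {ι : Type u} {B C : Scheme.{u}} (W : ι → Scheme.{u})
    (p : ∀ i, W i ⟶ B) (hp : ∀ i, (@Flat ⊓ @LocallyOfFinitePresentation) (p i))
    (hsurj : ∀ x : B, ∃ i, ∃ y : W i, p i y = x) (w : B ⟶ C)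
    (h : ∀ i, LocallyOfFinitePresentation (p i ≫ w)) : LocallyOfFinitePresentation w := by
  have := Groth.Agent.Lib.SrcLocalFppf64.isLocalAtSource_fppf_lfp.{u}
  exact Groth.Agent.Lib.AlgSpSrcCover.of_family (P := @LocallyOfFinitePresentation)
    (Q := @Flat ⊓ @LocallyOfFinitePresentation) W p hp hsurj w h

theorem smooth_of_fppf_family {ι : Type u} {B C : Scheme.{u}} (W : ι → Scheme.{u})
    (p : ∀ i, W i ⟶ B) (hp : ∀ i, (@Flat ⊓ @LocallyOfFinitePresentation) (p i))
    (hsurj : ∀ x : B, ∃ i, ∃ y : W i, p i y = x) (w : B ⟶ C)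
    (h : ∀ i, Smooth (p i ≫ w)) : Smooth w := by
  have hw : LocallyOfFinitePresentation w :=
    lfp_of_fppf_family W p hp hsurj w (fun i => by have := h i; infer_instance)
  rw [← Scheme.Hom.smoothLocus_eq_top_iff, ← top_le_iff]
  intro y _
  obtain ⟨i, x, rfl⟩ := hsurj y
  have h1 : Flat (p i) := (hp i).1
  have h2 : LocallyOfFinitePresentation (p i) := (hp i).2
  have h3 : Smooth (p i ≫ w) := h i
  obtain ⟨V, hxV, hV⟩ := Groth.Agent.S2805.result w (p i ≫ w) (p i) rfl x
    (Flat.stalkMap (p i) x) ⟨⊤, trivial, inferInstance⟩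
  exact Scheme.Hom.mem_smoothLocus.mpr
    ((Groth.Agent.Lib.SmoothLocusBC.exists_nhds_smooth_iff w _).mp ⟨V, hxV, hV⟩)

theorem etale_of_fppf_family {ι : Type u} {B C : Scheme.{u}} (W : ι → Scheme.{u})
    (p : ∀ i, W i ⟶ B) (hp : ∀ i, (@Flat ⊓ @LocallyOfFinitePresentation) (p i))
    (hsurj : ∀ x : B, ∃ i, ∃ y : W i, p i y = x) (w : B ⟶ C)
    (h : ∀ i, Etale (p i ≫ w)) : Etale w := by
  have hw : LocallyOfFinitePresentation w :=
    lfp_of_fppf_family W p hp hsurj w (fun i => by have := h i; infer_instance)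
  have key : ∀ y : B, ∃ V : B.Opens, y ∈ V ∧ Etale (V.ι ≫ w) := by
    intro y
    obtain ⟨i, x, rfl⟩ := hsurj y
    have h1 : Flat (p i) := (hp i).1
    have h2 : LocallyOfFinitePresentation (p i) := (hp i).2
    have h3 : Etale (p i ≫ w) := h i
    exact Groth.Agent.S2806.result w (p i ≫ w) (p i) rfl x
      (Flat.stalkMap (p i) x) ⟨⊤, trivial, inferInstance⟩
  choose V hyV hV using key
  rw [IsZariskiLocalAtSource.iff_of_iSup_eq_top (P := @Etale) V]
  · exact hV
  · rw [eq_top_iff]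
    intro y _
    exact TopologicalSpace.Opens.mem_iSup.mpr ⟨y, hyV y⟩

/-- Let f : X ⟶ Y and q : Y ⟶ B be morphisms of algebraic spaces over S with f surjective, flat and
locally of finite presentation. If f ≫ q is smooth then q is smooth; if f ≫ q is etale then q is
etale. -/
theorem result {S : Scheme.{u}} {X Y B : AlgSp.Space S} (f : X ⟶ Y) (q : Y ⟶ B)
    (hs : AlgSp.IsSurjectiveMor f.hom) (hfl : AlgSp.LocP @Flat f.hom)
    (hfp : AlgSp.LocP @LocallyOfFinitePresentation f.hom) :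
    (AlgSp.LocP @Smooth (f ≫ q).hom → AlgSp.LocP @Smooth q.hom) ∧
    (AlgSp.IsEtaleMor (f ≫ q).hom → AlgSp.IsEtaleMor q.hom) := by
  have hflfp : AlgSp.LocP (@Flat ⊓ @LocallyOfFinitePresentation) f.hom :=
    (Groth.Agent.Lib.AlgSpSrcCover.locP_inf_iff _ _ _).2 ⟨hfl, hfp⟩
  have hsurj : ∀ x : AlgSp.Points Y.obj, ∃ _ : PUnit.{u+1},
      x ∈ Set.range (AlgSp.Points.map f.hom) := fun x => ⟨⟨⟩, hs x⟩
  constructor
  · intro h
    exact locP_of_cover' Groth.Agent.Lib.AlgSpSrcCover.covClass_fppf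
      (fun W p hp hs w h => smooth_of_fppf_family W p hp hs w h)
      (ι := PUnit.{u+1}) (fun _ => X.obj)
      (fun _ => f.hom) Y.property (fun _ => X.property) (fun _ => hflfp) hsurj q.hom (fun _ => h)
  · intro h
    rw [Groth.Agent.Lib.AlgSpLocP.isEtaleMor_iff_locP B.property]
    exact locP_of_cover' Groth.Agent.Lib.AlgSpSrcCover.covClass_fppf
      (fun W p hp hs w h => etale_of_fppf_family W p hp hs w h)
      (ι := PUnit.{u+1}) (fun _ => X.obj)
      (fun _ => f.hom) Y.property (fun _ => X.property) (fun _ => hflfp) hsurj q.hom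
      (fun _ => (Groth.Agent.Lib.AlgSpLocP.isEtaleMor_iff_locP B.property _).1 h)

end Groth.Agent.S10560
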