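import Groth.Statements.S10565
import Groth.Agent.Lib.H69AlgSpLocST

set_option autoImplicit false
universe u
open CategoryTheory CategoryTheory.Limits AlgebraicGeometry
open AlgSp AlgSp.IsSmoothLocalST

namespace Groth.Agent.S10565

/-- A property P of morphisms of algebraic spaces over S that is smooth local on source-and-target is
(1) smooth local on the source, (2) smooth local on the base, and (3) stable under postcomposition
with smooth morphisms: whenever g : Y ⟶ Z is smooth and f : X ⟶ Y has P, the composite f ≫ g has P. -/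
theorem result {S : Scheme.{u}} {P : MorphismProperty (AlgSp.Sp S)}
    (hP : AlgSp.IsSmoothLocalST P) :
    AlgSp.IsLocalOnSource (AlgSp.IsSmCover (S := S)) P ∧
    AlgSp.IsLocalOnBase (AlgSp.IsSmCover (S := S)) P ∧
    (∀ ⦃X Y Z : AlgSp.Space S⦄ (f : X ⟶ Y) (g : Y ⟶ Z), P f.hom → AlgSp.LocP @Smooth g.hom → P (f ≫ g).hom) := by
  refine ⟨?_, ?_, ?_⟩
  · -- smooth local on the source
    intro ι X Xi g hX hXi hcov Y f hY
    constructor
    · intro hf i
      exact hP.precomp (hXi i) hX hY (g i) f (hcov.1 i) hf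
    · intro H
      refine (hP.locality hX hY f).2 fun x => ?_
      obtain ⟨i, v, hv⟩ := hcov.2 x
      exact ⟨Xi i, Y, g i, 𝟙 Y, g i ≫ f, v, hXi i, hY, hcov.1 i, Groth.Agent.Lib.H69AlgSpLocST.locP_smooth_id hY, by simp, hv, H i⟩
  · -- smooth local on the base
    intro ι Y Yi g hY hYi hcov X f hX Xi p q hXi hsq
    constructor
    · intro hf i
      exact hP.baseChange hX hY (hXi i) (hYi i) f (g i) (p i) (q i) (hsq i) (hcov.1 i) hf
    · intro H
      refine (hP.locality hX hY f).2 fun x => ?_
      obtain ⟨i, y, hy⟩ := hcov.2 (AlgSp.Points.map f x)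
      obtain ⟨w, hw1, hw2⟩ :=
        Groth.Agent.Lib.H86AlgSpPoints.exists_of_isPullback (hsq i) x y hy.symm
      exact ⟨Xi i, Yi i, q i, g i, p i, w, hXi i, hYi i,
        Groth.Agent.Lib.H69AlgSpLocST.locP_smooth_fst hX hY (hYi i) (hsq i) (hcov.1 i), hcov.1 i, (hsq i).w, hw1, H i⟩
  · -- postcomposition with smooth morphisms
    intro X Y Z f g hf hg
    refine (hP.locality X.property Z.property (f ≫ g).hom).2 fun x => ?_
    exact ⟨X.obj, Y.obj, 𝟙 X.obj, g.hom, f.hom, x, X.property, Y.property,
      Groth.Agent.Lib.H69AlgSpLocST.locP_smooth_id X.property, hg, by simp, AlgSp.Points.map_id x, hf⟩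

end Groth.Agent.S10565
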