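import Groth.Statements.S10573
-- import your own Groth.Agent.* helpers here
import Groth.Agent.Lib.AlgSpFpqc

set_option autoImplicit false
universe u
open CategoryTheory CategoryTheory.Limits AlgebraicGeometry
open AlgSp

namespace Groth.Agent.S10573

/-- Let {g_i : T_i ⟶ T} be a family of algebraic spaces over S forming an fpqc covering, and let W_i ⊂
|T_i| be open subsets (open subspaces) such that for all i, j the two projections T_i ×_T T_j ⟶ T_i,
T_j pull W_i and W_j back to the same subset of |T_i ×_T T_j|. Then there is a unique open subset W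
⊂ |T| with g_i⁻¹(W) = W_i for every i. -/
theorem result {S : Scheme.{u}} {ι : Type u} {T : AlgSp.Space S}
    (Ti : ι → AlgSp.Space S) (g : ∀ i, Ti i ⟶ T)
    (hg : AlgSp.IsFpqcCover (fun i => (Ti i).obj) (fun i => (g i).hom))
    (Wi : ∀ i, Set (AlgSp.Points (Ti i).obj)) (hW : ∀ i, IsOpen (Wi i))
    (hc : ∀ i j, AlgSp.Points.map (pullback.fst (g i).hom (g j).hom) ⁻¹' Wi i =
      AlgSp.Points.map (pullback.snd (g i).hom (g j).hom) ⁻¹' Wi j) :
    ∃! W : TopologicalSpace.Opens (AlgSp.Points T.obj), ∀ i, AlgSp.Points.map (g i).hom ⁻¹' (W : Set (AlgSp.Points T.obj)) = Wi i := by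
  have hr : Groth.Agent.Lib.AlgSpFpqc.HasFpqcRefinement (fun i => (Ti i).obj) (fun i => (g i).hom) := hg.2
  -- the candidate: the union of the images
  have key : ∀ i, AlgSp.Points.map (g i).hom ⁻¹' (⋃ j, AlgSp.Points.map (g j).hom '' Wi j) = Wi i := by
    intro i
    ext t
    constructor
    · intro ht
      obtain ⟨j, w, hw, hwt⟩ := Set.mem_iUnion.1 ht
      obtain ⟨z, hz1, hz2⟩ := Groth.Agent.Lib.AlgSpPoints.exists_point_of_isPullback
        (IsPullback.of_hasPullback (g i).hom (g j).hom) t w hwt.symm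
      have : z ∈ AlgSp.Points.map (pullback.snd (g i).hom (g j).hom) ⁻¹' Wi j := by
        change AlgSp.Points.map (pullback.snd (g i).hom (g j).hom) z ∈ Wi j
        rw [hz2]; exact hw
      rw [← hc i j] at this
      change AlgSp.Points.map (pullback.fst (g i).hom (g j).hom) z ∈ Wi i at this
      rwa [hz1] at this
    · intro ht
      exact Set.mem_iUnion.2 ⟨i, t, ht, rfl⟩
  have hopen : IsOpen (⋃ j, AlgSp.Points.map (g j).hom '' Wi j) := by
    rw [hr.isOpen_iff]
    intro i
    change IsOpen (AlgSp.Points.map (g i).hom ⁻¹' (⋃ j, AlgSp.Points.map (g j).hom '' Wi j))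
    rw [key i]
    exact hW i
  refine ⟨⟨_, hopen⟩, key, ?_⟩
  intro W' hW'
  apply TopologicalSpace.Opens.ext
  ext w
  constructor
  · intro hw
    obtain ⟨i, t, rfl⟩ := hr.jointly_surjective w
    have : t ∈ AlgSp.Points.map (g i).hom ⁻¹' (W' : Set (AlgSp.Points T.obj)) := hw
    rw [hW' i] at this
    exact Set.mem_iUnion.2 ⟨i, t, this, rfl⟩
  · intro hw
    obtain ⟨i, t, ht, rfl⟩ := Set.mem_iUnion.1 hw
    rw [← hW' i] at ht
    exact ht

end Groth.Agent.S10573
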