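import Groth.Statements.S10579
import Groth.Agent.Lib.GeomUnibranchFlatDescent61
import Groth.Agent.Lib.H86CartierChart2
import Groth.Agent.Lib.H86AlgSpPoints
import Groth.Agent.Lib.AlgSpQC
import Groth.Agent.Lib.H80PolyGU6

set_option autoImplicit false
universe u
open CategoryTheory CategoryTheory.Limits AlgebraicGeometry
open AlgSp

namespace Groth.Agent.S10579

/-- Let f : X ⟶ Y be a morphism of algebraic spaces over S and x ∈ |X|. If X is geometrically unibranch
at x and f is flat at x, then Y is geometrically unibranch at the image point f(x). Here an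
algebraic space is geometrically unibranch at a point when for every etale chart from a scheme U and
every point u of U over it the local ring of U at u is geometrically unibranch. -/
theorem result {S : Scheme.{u}} {X Y : AlgSp.Space S} (f : X ⟶ Y) (x : AlgSp.Points X.obj)
    (hf : AlgSp.IsFlatAtMor f.hom x)
    (hX : ∀ (U : Over S) (a : (AlgSp.yon S).obj U ⟶ X.obj) (v : ↥U.left), AlgSp.RepWith @Etale a →
      AlgSp.Points.ofPt a v = x → CAlg2.IsGeomUnibranch ↥(U.left.presheaf.stalk v))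
    (V : Over S) (b : (AlgSp.yon S).obj V ⟶ Y.obj) (w : ↥V.left) (hb : AlgSp.RepWith @Etale b)
    (hw : AlgSp.Points.ofPt b w = AlgSp.Points.map f.hom x) :
    CAlg2.IsGeomUnibranch ↥(V.left.presheaf.stalk w) := by
  -- an atlas of `X` and a point over `x`
  obtain ⟨U₀, a₀, ha₀e, ha₀s⟩ := X.property.atlas
  obtain ⟨u₀, hu₀⟩ := Groth.Agent.Lib.AlgSpQC.surjective_ofPt_of_repWith_surjective ha₀s x
  -- the fibre product of the two charts over `Y`
  have sq := hb.rep.isPullback' (a₀ ≫ f.hom)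
  have hpt : AlgSp.Points.ofPt b w = AlgSp.Points.ofPt (a₀ ≫ f.hom) u₀ := by
    rw [hw, ← hu₀, AlgSp.Points.map_ofPt]
  obtain ⟨z, hz1, hz2⟩ :=
    Groth.Agent.Lib.H86CartierChart2.exists_scheme_point_of_isPullback sq w u₀ hpt
  have hsnd : Etale (hb.rep.snd (a₀ ≫ f.hom)).left := hb.property_snd (a₀ ≫ f.hom)
  have hsnd' : AlgSp.RepWith @Etale ((AlgSp.yon S).map (hb.rep.snd (a₀ ≫ f.hom))) :=
    (AlgSp.repWith_yon_map_iff _ _).2 hsnd
  have hchart : AlgSp.RepWith @Etale ((AlgSp.yon S).map (hb.rep.snd (a₀ ≫ f.hom)) ≫ a₀) :=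
    (AlgSp.RepWith @Etale).comp_mem _ _ hsnd' ha₀e
  have hzx : AlgSp.Points.ofPt ((AlgSp.yon S).map (hb.rep.snd (a₀ ≫ f.hom)) ≫ a₀) z = x := by
    rw [Groth.Agent.Lib.H86AlgSpPoints.ofPt_map_comp, hz2, hu₀]
  have hcomm : ((AlgSp.yon S).map (hb.rep.snd (a₀ ≫ f.hom)) ≫ a₀) ≫ f.hom =
      (AlgSp.yon S).map (hb.rep.fst' (a₀ ≫ f.hom)) ≫ b := by
    rw [Category.assoc]
    exact sq.w.symm
  have hflat := hf _ b (hb.rep.fst' (a₀ ≫ f.hom)) z hchart hb hcomm hzx
  have hGUz := hX _ _ z hchart hzx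
  -- ring-level flat descent
  let _ : Algebra ↥(V.left.presheaf.stalk ((hb.rep.fst' (a₀ ≫ f.hom)).left z))
      ↥((hb.rep.pullback (a₀ ≫ f.hom)).left.presheaf.stalk z) :=
    ((hb.rep.fst' (a₀ ≫ f.hom)).left.stalkMap z).hom.toAlgebra
  have hfl : Module.Flat ↥(V.left.presheaf.stalk ((hb.rep.fst' (a₀ ≫ f.hom)).left z))
      ↥((hb.rep.pullback (a₀ ≫ f.hom)).left.presheaf.stalk z) := hflat
  have hloc : IsLocalHom (algebraMap ↥(V.left.presheaf.stalk ((hb.rep.fst' (a₀ ≫ f.hom)).left z))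
      ↥((hb.rep.pullback (a₀ ≫ f.hom)).left.presheaf.stalk z)) :=
    inferInstanceAs (IsLocalHom ((hb.rep.fst' (a₀ ≫ f.hom)).left.stalkMap z).hom)
  have hGU := Groth.Agent.Lib.GeomUnibranchFlatDescent61.isGeomUnibranch_of_flat_local
    ↥(V.left.presheaf.stalk ((hb.rep.fst' (a₀ ≫ f.hom)).left z))
    ↥((hb.rep.pullback (a₀ ≫ f.hom)).left.presheaf.stalk z) hGUz
  exact (Groth.Agent.Lib.H80PolyGU.isGeomUnibranch_stalk_congr hz1).mp hGU

end Groth.Agent.S10579
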