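import Groth.Statements.S10591
import Groth.Agent.Lib.H86ThickFO
import Groth.Agent.Lib.H86FibDimBC
import Groth.Agent.Lib.AlgSpQFAt91

set_option linter.style.haveILetI false

set_option autoImplicit false
universe u
open CategoryTheory CategoryTheory.Limits AlgebraicGeometry
open AlgSp

namespace Groth.Agent.S10591

set_option backward.isDefEq.respectTransparency false in
/-- Consider a morphism (f, f') from the thickening X ⊂ X' to the thickening Y ⊂ Y' of algebraic spaces
over S, meaning: i : X ⟶ X' and j : Y ⟶ Y' are thickenings (representable, every base change to a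
scheme a surjective closed immersion) and i ≫ f' = f ≫ j. Assume moreover that the square is
cartesian (X = Y ×_{Y'} X') and that i is a finite order thickening (for one n, on every affine
etale scheme chart of X' the (n+1)-st power of the ideal of the base change of X vanishes). Then f
is locally of finite type of relative dimension d, resp. locally of finite type, resp. locally
quasi-finite, resp. unramified, if and only if f' is (relative dimension d at a point: some chart
diagram through the point has fibre of local dimension d there) (all in the etale-local sense,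
locally quasi-finite and unramified including locally of finite type). -/
theorem result {S : Scheme.{u}} {X X' Y Y' : AlgSp.Space S} (i : X ⟶ X') (j : Y ⟶ Y')
    (f : X ⟶ Y) (f' : X' ⟶ Y')
    (hi : AlgSp.IsThickMor i.hom)
    (hj : AlgSp.IsThickMor j.hom) (w : i ≫ f' = f ≫ j)
    (hcart : IsPullback i.hom f.hom f'.hom j.hom)
    (hfo : AlgSp.IsFinThickMor i.hom) (d : ℕ) :
    ((AlgSp.LocP @LocallyOfFiniteType f.hom ∧
        ∀ x, AlgSp.HasAtMor (fun _ _ h u => FlatMor.fibreDimAt h u = (d : WithBot ℕ∞)) f.hom x) ↔
      (AlgSp.LocP @LocallyOfFiniteType f'.hom ∧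
        ∀ x', AlgSp.HasAtMor (fun _ _ h u => FlatMor.fibreDimAt h u = (d : WithBot ℕ∞)) f'.hom x')) ∧
    (AlgSp.LocP @LocallyOfFiniteType f.hom ↔ AlgSp.LocP @LocallyOfFiniteType f'.hom) ∧
    (AlgSp.LocP (@LocallyQuasiFinite ⊓ @LocallyOfFiniteType) f.hom ↔
      AlgSp.LocP (@LocallyQuasiFinite ⊓ @LocallyOfFiniteType) f'.hom) ∧
    (AlgSp.LocP (@LocallyOfFiniteType ⊓ @FormallyUnramified) f.hom ↔
      AlgSp.LocP (@LocallyOfFiniteType ⊓ @FormallyUnramified) f'.hom) := by
  obtain ⟨n, hthick, haff⟩ := hfo
  have hlft : AlgSp.LocP @LocallyOfFiniteType f.hom ↔ AlgSp.LocP @LocallyOfFiniteType f'.hom := by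
    constructor
    · intro h
      exact Groth.Agent.Lib.H86ThickFO.locP_lft_of_thick_cart_finOrder hi hj hcart n haff h
    · intro h
      exact Groth.Agent.Lib.AlgSpLocP.locP_of_isPullback Groth.Agent.Lib.AlgSpLocP.etLocalClass_lft
        X'.property Y'.property Y.property hcart h
  -- dimension comparison on charts
  have hdim : AlgSp.LocP @LocallyOfFiniteType f'.hom →
      ((∀ x, AlgSp.HasAtMor (fun _ _ h u => FlatMor.fibreDimAt h u = (d : WithBot ℕ∞)) f.hom x) ↔
        (∀ x', AlgSp.HasAtMor (fun _ _ h u => FlatMor.fibreDimAt h u = (d : WithBot ℕ∞)) f'.hom x')) := by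
    intro hf'
    constructor
    · intro H x'
      obtain ⟨x, rfl⟩ := Groth.Agent.Lib.H86Thick.map_surjective_of_isThickMor hi x'
      obtain ⟨U, V, a, b, h, u, ha, hb, hc, hu, hd⟩ := H x
      obtain ⟨U', V', a', b', h', u', ha', hb', hc', hu'⟩ :=
        Groth.Agent.Lib.AlgSpQFAt91.exists_chart_diagram X'.property Y'.property f'.hom
          (AlgSp.Points.map i.hom x)
      refine ⟨U', V', a', b', h', u', ha', hb', hc', hu', ?_⟩
      have := Groth.Agent.Lib.H86FibDimBC.fibreDimAt_eq_of_baseChange_charts X'.property Y'.property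
        X.property Y.property hcart hf' a' b' h' ha' hb' hc' u' a b h ha hb hc u
        (by rw [hu', hu])
      change FlatMor.fibreDimAt h'.left u' = _
      rw [this]
      exact hd
    · intro H x
      obtain ⟨U', V', a', b', h', u', ha', hb', hc', hu', hd⟩ := H (AlgSp.Points.map i.hom x)
      obtain ⟨U, V, a, b, h, u, ha, hb, hc, hu⟩ :=
        Groth.Agent.Lib.AlgSpQFAt91.exists_chart_diagram X.property Y.property f.hom x
      refine ⟨U, V, a, b, h, u, ha, hb, hc, hu, ?_⟩
      have := Groth.Agent.Lib.H86FibDimBC.fibreDimAt_eq_of_baseChange_charts X'.property Y'.property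
        X.property Y.property hcart hf' a' b' h' ha' hb' hc' u' a b h ha hb hc u
        (by rw [hu', hu])
      change FlatMor.fibreDimAt h.left u = _
      rw [← this]
      exact hd
  have hproj2 : ∀ {A B : AlgSp.Space S} (g : A ⟶ B),
      AlgSp.LocP (@LocallyQuasiFinite ⊓ @LocallyOfFiniteType) g.hom →
        AlgSp.LocP @LocallyOfFiniteType g.hom :=
    fun g H U V a b h ha hb e => (H a b h ha hb e).2
  have hproj1 : ∀ {A B : AlgSp.Space S} (g : A ⟶ B),
      AlgSp.LocP (@LocallyOfFiniteType ⊓ @FormallyUnramified) g.hom →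
        AlgSp.LocP @LocallyOfFiniteType g.hom :=
    fun g H U V a b h ha hb e => (H a b h ha hb e).1
  refine ⟨?_, hlft, ?_, ?_⟩
  · constructor
    · rintro ⟨h1, h2⟩
      exact ⟨hlft.1 h1, (hdim (hlft.1 h1)).1 h2⟩
    · rintro ⟨h1, h2⟩
      exact ⟨hlft.2 h1, (hdim h1).2 h2⟩
  · constructor
    · intro H
      have h1 := hproj2 f H
      exact (Groth.Agent.Lib.H86Thick.lqf_unramified_iff_of_thick_cart X'.property Y.property
        Y'.property hi hj hcart h1 (hlft.1 h1)).1.1 H
    · intro H
      have h1 := hproj2 f' H
      exact (Groth.Agent.Lib.H86Thick.lqf_unramified_iff_of_thick_cart X'.property Y.property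
        Y'.property hi hj hcart (hlft.2 h1) h1).1.2 H
  · constructor
    · intro H
      have h1 := hproj1 f H
      exact (Groth.Agent.Lib.H86Thick.lqf_unramified_iff_of_thick_cart X'.property Y.property
        Y'.property hi hj hcart h1 (hlft.1 h1)).2.1 H
    · intro H
      have h1 := hproj1 f' H
      exact (Groth.Agent.Lib.H86Thick.lqf_unramified_iff_of_thick_cart X'.property Y.property
        Y'.property hi hj hcart (hlft.2 h1) h1).2.2 H

end Groth.Agent.S10591
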