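import Groth.Statements.S10596
import Groth.Agent.Lib.H86Deform

set_option linter.style.haveILetI false

set_option autoImplicit false
universe u
open CategoryTheory CategoryTheory.Limits AlgebraicGeometry
open AlgSp

namespace Groth.Agent.S10596

set_option backward.isDefEq.respectTransparency false in
/-- Let iB : B ⟶ B' be a finite order thickening of algebraic spaces over S (a thickening such that for
one n the (n+1)-st power of the ideal vanishes on every affine etale scheme chart), f' : X' ⟶ Y' a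
morphism of algebraic spaces over B' (via g' : Y' ⟶ B') with X' flat over B', and f : X ⟶ Y, g : Y ⟶
B its base change to B (both squares to iB cartesian, iX ≫ f' = f ≫ iY). Then f is locally of finite
type of relative dimension d, resp. flat, resp. locally of finite type, locally quasi-finite,
locally of finite presentation, smooth, unramified, etale, if and only if f' is (etale-local sense;
locally quasi-finite and unramified include locally of finite type). -/
theorem result {S : Scheme.{u}} {X X' Y Y' B B' : AlgSp.Space S} (iX : X ⟶ X') (iY : Y ⟶ Y') (iB : B ⟶ B')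
    (f : X ⟶ Y) (f' : X' ⟶ Y') (g : Y ⟶ B) (g' : Y' ⟶ B')
    (hcX : IsPullback iX.hom (f ≫ g).hom (f' ≫ g').hom iB.hom) (hcY : IsPullback iY.hom g.hom g'.hom iB.hom)
    (w : iX ≫ f' = f ≫ iY)
    (hB : AlgSp.IsFinThickMor iB.hom) (hflat : AlgSp.LocP @Flat (f' ≫ g').hom) (d : ℕ) :
    ((AlgSp.LocP @LocallyOfFiniteType f.hom ∧
        ∀ x, AlgSp.HasAtMor (fun _ _ h u => FlatMor.fibreDimAt h u = (d : WithBot ℕ∞)) f.hom x) ↔
      (AlgSp.LocP @LocallyOfFiniteType f'.hom ∧
        ∀ x', AlgSp.HasAtMor (fun _ _ h u => FlatMor.fibreDimAt h u = (d : WithBot ℕ∞)) f'.hom x')) ∧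
    (AlgSp.LocP @Flat f.hom ↔ AlgSp.LocP @Flat f'.hom) ∧
    (AlgSp.LocP @LocallyOfFiniteType f.hom ↔ AlgSp.LocP @LocallyOfFiniteType f'.hom) ∧
    (AlgSp.LocP (@LocallyQuasiFinite ⊓ @LocallyOfFiniteType) f.hom ↔
      AlgSp.LocP (@LocallyQuasiFinite ⊓ @LocallyOfFiniteType) f'.hom) ∧
    (AlgSp.LocP @LocallyOfFinitePresentation f.hom ↔ AlgSp.LocP @LocallyOfFinitePresentation f'.hom) ∧
    (AlgSp.LocP @Smooth f.hom ↔ AlgSp.LocP @Smooth f'.hom) ∧
    (AlgSp.LocP (@LocallyOfFiniteType ⊓ @FormallyUnramified) f.hom ↔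
      AlgSp.LocP (@LocallyOfFiniteType ⊓ @FormallyUnramified) f'.hom) ∧
    (AlgSp.IsEtaleMor f.hom ↔ AlgSp.IsEtaleMor f'.hom) := by
  obtain ⟨n, hBn⟩ := hB
  have hcX' : IsPullback iX.hom (f.hom ≫ g.hom) (f'.hom ≫ g'.hom) iB.hom := hcX
  have hw : iX.hom ≫ f'.hom = f.hom ≫ iY.hom := by
    have := congrArg (fun φ => φ.hom) w
    exact this
  have hcXY : IsPullback iX.hom f.hom f'.hom iY.hom :=
    Groth.Agent.Lib.H86Deform.isPullback_top hcX' hcY hw
  have hiY : AlgSp.IsThickMor iY.hom := Groth.Agent.Lib.H86Deform.isThickMor_mid hBn.1 hcY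
  have hiX : AlgSp.IsThickMor iX.hom := Groth.Agent.Lib.H86Deform.isThickMor_top hBn.1 hcX'
  have asc : ∀ (P : MorphismProperty Scheme.{u}), Groth.Agent.Lib.AlgSpLocP.SevenClass P →
      Groth.Agent.Lib.H86Deform.SchemeAscent P →
      (AlgSp.LocP P f.hom ↔ AlgSp.LocP P f'.hom) := by
    intro P hP hs
    constructor
    · intro h
      exact Groth.Agent.Lib.H86Deform.locP_of_deform hP hs X'.property Y'.property B'.property
        hcX' hcY hw n hBn hflat h
    · intro h
      haveI := hP.descendsAlong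
      exact Groth.Agent.Lib.AlgSpLocP.locP_of_isPullback hP.etLocalClass X'.property Y'.property
        Y.property hcXY h
  have hlft := asc _ Groth.Agent.Lib.H86Deform.sevenClass_lft
    Groth.Agent.Lib.H86Deform.schemeAscent_lft
  have hproj2 : ∀ {A B : AlgSp.Space S} (g : A ⟶ B),
      AlgSp.LocP (@LocallyQuasiFinite ⊓ @LocallyOfFiniteType) g.hom →
        AlgSp.LocP @LocallyOfFiniteType g.hom :=
    fun g H U V a b h ha hb e => (H a b h ha hb e).2
  have hproj1 : ∀ {A B : AlgSp.Space S} (g : A ⟶ B),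
      AlgSp.LocP (@LocallyOfFiniteType ⊓ @FormallyUnramified) g.hom →
        AlgSp.LocP @LocallyOfFiniteType g.hom :=
    fun g H U V a b h ha hb e => (H a b h ha hb e).1
  refine ⟨?_, asc _ Groth.Agent.Lib.H86Deform.sevenClass_flat
      Groth.Agent.Lib.H86Deform.schemeAscent_flat, hlft, ?_,
    asc _ Groth.Agent.Lib.H86Deform.sevenClass_lfp Groth.Agent.Lib.H86Deform.schemeAscent_lfp,
    asc _ Groth.Agent.Lib.H86Deform.sevenClass_smooth
      Groth.Agent.Lib.H86Deform.schemeAscent_smooth, ?_, ?_⟩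
  · constructor
    · rintro ⟨h1, h2⟩
      exact ⟨hlft.1 h1, (Groth.Agent.Lib.H86Deform.relDim_iff_of_thick_cart X.property X'.property
        Y.property Y'.property hiX hcXY (hlft.1 h1) d).1 h2⟩
    · rintro ⟨h1, h2⟩
      exact ⟨hlft.2 h1, (Groth.Agent.Lib.H86Deform.relDim_iff_of_thick_cart X.property X'.property
        Y.property Y'.property hiX hcXY h1 d).2 h2⟩
  · constructor
    · intro H
      have h1 := hproj2 f H
      exact (Groth.Agent.Lib.H86Thick.lqf_unramified_iff_of_thick_cart X'.property Y.property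
        Y'.property hiX hiY hcXY h1 (hlft.1 h1)).1.1 H
    · intro H
      have h1 := hproj2 f' H
      exact (Groth.Agent.Lib.H86Thick.lqf_unramified_iff_of_thick_cart X'.property Y.property
        Y'.property hiX hiY hcXY (hlft.2 h1) h1).1.2 H
  · constructor
    · intro H
      have h1 := hproj1 f H
      exact (Groth.Agent.Lib.H86Thick.lqf_unramified_iff_of_thick_cart X'.property Y.property
        Y'.property hiX hiY hcXY h1 (hlft.1 h1)).2.1 H
    · intro H
      have h1 := hproj1 f' H
      exact (Groth.Agent.Lib.H86Thick.lqf_unramified_iff_of_thick_cart X'.property Y.property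
        Y'.property hiX hiY hcXY (hlft.2 h1) h1).2.2 H
  · rw [Groth.Agent.Lib.AlgSpLocP.isEtaleMor_iff_locP Y.property,
      Groth.Agent.Lib.AlgSpLocP.isEtaleMor_iff_locP Y'.property]
    exact asc _ Groth.Agent.Lib.H86Deform.sevenClass_etale
      Groth.Agent.Lib.H86Deform.schemeAscent_etale

end Groth.Agent.S10596
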