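import Groth.Statements.S10599
import Groth.Agent.Lib.H86Deform2

set_option linter.style.haveILetI false

set_option autoImplicit false
universe u
open CategoryTheory CategoryTheory.Limits AlgebraicGeometry
open AlgSp

namespace Groth.Agent.S10599

set_option backward.isDefEq.respectTransparency false in
/-- Let iB : B ⟶ B' be a thickening of algebraic spaces over S (representable, every base change to a
scheme a surjective closed immersion), f' : X' ⟶ Y' a morphism of algebraic spaces over B' (via g' :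
Y' ⟶ B') with Y' locally of finite type over B' and X' flat and locally of finite presentation over
B', and f : X ⟶ Y, g : Y ⟶ B its base change to B (both squares to iB cartesian, iX ≫ f' = f ≫ iY).
Then f is locally of finite type of relative dimension d, resp. flat, resp. locally quasi-finite,
smooth, unramified, etale, if and only if f' is (etale-local sense; locally quasi-finite and
unramified include locally of finite type). -/
theorem result {S : Scheme.{u}} {X X' Y Y' B B' : AlgSp.Space S} (iX : X ⟶ X') (iY : Y ⟶ Y') (iB : B ⟶ B')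
    (f : X ⟶ Y) (f' : X' ⟶ Y') (g : Y ⟶ B) (g' : Y' ⟶ B')
    (hcX : IsPullback iX.hom (f ≫ g).hom (f' ≫ g').hom iB.hom) (hcY : IsPullback iY.hom g.hom g'.hom iB.hom)
    (w : iX ≫ f' = f ≫ iY)
    (hB : AlgSp.IsThickMor iB.hom)
    (hg' : AlgSp.LocP @LocallyOfFiniteType g'.hom)
    (hflat : AlgSp.LocP @Flat (f' ≫ g').hom) (hfp : AlgSp.LocP @LocallyOfFinitePresentation (f' ≫ g').hom) (d : ℕ) :
    ((AlgSp.LocP @LocallyOfFiniteType f.hom ∧
        ∀ x, AlgSp.HasAtMor (fun _ _ h u => FlatMor.fibreDimAt h u = (d : WithBot ℕ∞)) f.hom x) ↔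
      (AlgSp.LocP @LocallyOfFiniteType f'.hom ∧
        ∀ x', AlgSp.HasAtMor (fun _ _ h u => FlatMor.fibreDimAt h u = (d : WithBot ℕ∞)) f'.hom x')) ∧
    (AlgSp.LocP @Flat f.hom ↔ AlgSp.LocP @Flat f'.hom) ∧
    (AlgSp.LocP (@LocallyQuasiFinite ⊓ @LocallyOfFiniteType) f.hom ↔
      AlgSp.LocP (@LocallyQuasiFinite ⊓ @LocallyOfFiniteType) f'.hom) ∧
    (AlgSp.LocP @Smooth f.hom ↔ AlgSp.LocP @Smooth f'.hom) ∧
    (AlgSp.LocP (@LocallyOfFiniteType ⊓ @FormallyUnramified) f.hom ↔
      AlgSp.LocP (@LocallyOfFiniteType ⊓ @FormallyUnramified) f'.hom) ∧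
    (AlgSp.IsEtaleMor f.hom ↔ AlgSp.IsEtaleMor f'.hom) := by
  have hcX' : IsPullback iX.hom (f.hom ≫ g.hom) (f'.hom ≫ g'.hom) iB.hom := hcX
  have hw : iX.hom ≫ f'.hom = f.hom ≫ iY.hom := by
    have := congrArg (fun φ => φ.hom) w
    exact this
  have hcXY : IsPullback iX.hom f.hom f'.hom iY.hom :=
    Groth.Agent.Lib.H86Deform.isPullback_top hcX' hcY hw
  have hiY : AlgSp.IsThickMor iY.hom := Groth.Agent.Lib.H86Deform.isThickMor_mid hB hcY
  have hiX : AlgSp.IsThickMor iX.hom := Groth.Agent.Lib.H86Deform.isThickMor_top hB hcX'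
  have hflat' : AlgSp.LocP @Flat (f'.hom ≫ g'.hom) := hflat
  have hfp' : AlgSp.LocP @LocallyOfFinitePresentation (f'.hom ≫ g'.hom) := hfp
  -- `f'` and `f` are locally of finite type
  have hlft' : AlgSp.LocP @LocallyOfFiniteType f'.hom := by
    have h1 : AlgSp.LocP @LocallyOfFiniteType (f'.hom ≫ g'.hom) := by
      intro U V a b h ha hb e
      haveI : LocallyOfFinitePresentation h.left := hfp' a b h ha hb e
      exact (inferInstance : LocallyOfFiniteType h.left)
    exact Groth.Agent.Lib.AlgSpBasic.locP_of_comp @LocallyOfFiniteType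
      (fun _ _ _ φ ψ hφψ => by
        haveI : LocallyOfFiniteType (φ ≫ ψ) := hφψ
        exact locallyOfFiniteType_of_comp φ ψ) B'.property f'.hom g'.hom h1
  have hlft : AlgSp.LocP @LocallyOfFiniteType f.hom :=
    Groth.Agent.Lib.AlgSpLocP.locP_of_isPullback Groth.Agent.Lib.AlgSpLocP.etLocalClass_lft
      X'.property Y'.property Y.property hcXY hlft'
  have asc : ∀ (P : MorphismProperty Scheme.{u}), Groth.Agent.Lib.AlgSpLocP.SevenClass P →
      Groth.Agent.Lib.H86Deform.SchemeAscentThick P →
      (AlgSp.LocP P f.hom ↔ AlgSp.LocP P f'.hom) := by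
    intro P hP hs
    constructor
    · intro h
      exact Groth.Agent.Lib.H86Deform.locP_of_deform_thick hP hs X'.property Y'.property
        B'.property hcX' hcY hw hB hg' hflat' hfp' h
    · intro h
      haveI := hP.descendsAlong
      exact Groth.Agent.Lib.AlgSpLocP.locP_of_isPullback hP.etLocalClass X'.property Y'.property
        Y.property hcXY h
  have hlu := Groth.Agent.Lib.H86Thick.lqf_unramified_iff_of_thick_cart X'.property Y.property
    Y'.property hiX hiY hcXY hlft hlft'
  refine ⟨?_, asc _ Groth.Agent.Lib.H86Deform.sevenClass_flat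
      Groth.Agent.Lib.H86Deform.schemeAscentThick_flat, hlu.1,
    asc _ Groth.Agent.Lib.H86Deform.sevenClass_smooth
      Groth.Agent.Lib.H86Deform.schemeAscentThick_smooth, hlu.2, ?_⟩
  · constructor
    · rintro ⟨-, h2⟩
      exact ⟨hlft', (Groth.Agent.Lib.H86Deform.relDim_iff_of_thick_cart X.property X'.property
        Y.property Y'.property hiX hcXY hlft' d).1 h2⟩
    · rintro ⟨-, h2⟩
      exact ⟨hlft, (Groth.Agent.Lib.H86Deform.relDim_iff_of_thick_cart X.property X'.property
        Y.property Y'.property hiX hcXY hlft' d).2 h2⟩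
  · rw [Groth.Agent.Lib.AlgSpLocP.isEtaleMor_iff_locP Y.property,
      Groth.Agent.Lib.AlgSpLocP.isEtaleMor_iff_locP Y'.property]
    exact asc _ Groth.Agent.Lib.H86Deform.sevenClass_etale
      Groth.Agent.Lib.H86Deform.schemeAscentThick_etale

end Groth.Agent.S10599
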