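import Groth.Statements.S1417
import Groth.Agent.Lib.SmoothNbhdLift
import Groth.Agent.Lib.SpecLocal50
import Groth.Agent.S2793

set_option autoImplicit false
universe u
open FlatMor

namespace Groth.Agent.S1417

section helpers

open CategoryTheory AlgebraicGeometry IsLocalRing Groth.Agent.Lib.AdicFSLocal
  Groth.Agent.Lib.AdicDiscreteStalk Groth.Agent.Lib.SpecLocal50

/-- A ring map `σ : R → A'` into an Artinian local ring whose residue field is a quotient of a finite
type `R`-algebra `C` (compatibly) is of finite type. -/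
theorem finiteType_of_artinian {R C A' : Type u} [CommRing R] [CommRing C] [CommRing A']
    [IsLocalRing A'] [IsArtinianRing A']
    (ρ : R →+* C) (hρ : ρ.FiniteType) (σ : R →+* A') (q : C →+* ResidueField A')
    (hq : Function.Surjective q) (hcomp : q.comp ρ = (residue A').comp σ) : σ.FiniteType := by
  classical
  have h1 : ((residue A').comp σ).FiniteType := by
    rw [← hcomp]
    exact (RingHom.FiniteType.of_surjective q hq).comp hρ
  let algκ : Algebra R (ResidueField A') := ((residue A').comp σ).toAlgebra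
  have hft : Algebra.FiniteType R (ResidueField A') := h1
  obtain ⟨n, f, hf⟩ := Algebra.FiniteType.iff_quotient_mvPolynomial''.mp hft
  choose a ha using fun i : Fin n => residue_surjective (f (MvPolynomial.X i))
  let ψ : MvPolynomial (Fin n) R →+* A' := MvPolynomial.eval₂Hom σ a
  have hψ : (residue A').comp ψ = f.toRingHom := by
    apply MvPolynomial.ringHom_ext
    · intro r
      simp only [RingHom.comp_apply, ψ, MvPolynomial.coe_eval₂Hom, MvPolynomial.eval₂_C]
      exact (f.commutes r).symm
    · intro i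
      simp only [RingHom.comp_apply, ψ, MvPolynomial.coe_eval₂Hom, MvPolynomial.eval₂_X]
      exact ha i
  have hσ : σ = ψ.comp (MvPolynomial.C) := by
    ext r
    simp [ψ]
  let algP : Algebra (MvPolynomial (Fin n) R) A' := ψ.toAlgebra
  let resₐ : A' →ₐ[MvPolynomial (Fin n) R] ResidueField A' :=
    { residue A' with commutes' := fun _ => rfl }
  have hfinκ : Module.Finite (MvPolynomial (Fin n) R) (ResidueField A') := by
    refine Module.Finite.of_surjective (Algebra.linearMap (MvPolynomial (Fin n) R) _) ?_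
    intro k
    obtain ⟨p, hp⟩ := hf k
    refine ⟨p, ?_⟩
    show ((residue A').comp ψ) p = k
    rw [hψ]
    exact hp
  have hker : RingHom.ker resₐ = maximalIdeal A' := by
    ext y
    rw [RingHom.mem_ker]
    exact residue_eq_zero_iff y
  have hnil : IsNilpotent (maximalIdeal A') := by
    rw [← IsLocalRing.jacobson_eq_maximalIdeal (⊥ : Ideal A') bot_ne_top]
    exact IsArtinianRing.isNilpotent_jacobson_bot
  have hfin : Module.Finite (MvPolynomial (Fin n) R) A' := by
    refine Module.finite_of_surjective_of_ker_le_nilradical resₐ residue_surjective ?_ ?_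
    · rw [hker]
      intro y hy
      obtain ⟨N, hN⟩ := hnil
      rw [mem_nilradical]
      refine ⟨N, ?_⟩
      have : y ^ N ∈ maximalIdeal A' ^ N := Ideal.pow_mem_pow hy N
      rw [hN] at this
      exact this
    · rw [hker]
      exact IsNoetherian.noetherian _
  have hψft : ψ.FiniteType := by
    have : ψ.Finite := hfin
    exact this.finiteType
  rw [hσ]
  refine hψft.comp ?_
  rw [← MvPolynomial.algebraMap_eq]
  exact RingHom.finiteType_algebraMap.mpr inferInstance

/-- The infinitesimal lifting property for principal square-zero ideals. -/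
def PLiftProp {X Y : Scheme.{u}} (f : X ⟶ Y) (x : X) : Prop :=
  ∀ (A' : Type u) [CommRing A'] [IsLocalRing A'] [IsArtinianRing A']
    (h : Y.presheaf.stalk (f.base x) →+* A') [IsLocalHom h]
    (ε : A') (_ : ∀ m ∈ maximalIdeal A', ε * m = 0) (_ : Ideal.span {ε} ≠ ⊤)
    (g₀ : X.presheaf.stalk x →+* A' ⧸ Ideal.span {ε}),
    g₀.comp (f.stalkMap x).hom = (Ideal.Quotient.mk (Ideal.span {ε})).comp h →
    (∀ b ∈ maximalIdeal (X.presheaf.stalk x),
      g₀ b ∈ (maximalIdeal A').map (Ideal.Quotient.mk (Ideal.span {ε}))) →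
    (∀ a' : A', ∃ b : X.presheaf.stalk x,
      g₀ b - Ideal.Quotient.mk (Ideal.span {ε}) a' ∈
        (maximalIdeal A').map (Ideal.Quotient.mk (Ideal.span {ε}))) →
    ∃ g : X.presheaf.stalk x →+* A', g.comp (f.stalkMap x).hom = h ∧
      (Ideal.Quotient.mk (Ideal.span {ε})).comp g = g₀

theorem formallySmooth_of_pLiftProp {X Y : Scheme.{u}} (f : X ⟶ Y)
    [LocallyOfFiniteType f] [IsLocallyNoetherian Y] (x : X) (H : PLiftProp f x) :
    (f.stalkMap x).hom.FormallySmooth := by
  have hX : IsLocallyNoetherian X := LocallyOfFiniteType.isLocallyNoetherian f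
  refine formallySmooth_stalkMap_of_isFSA Groth.Agent.S2793.key f x ?_
  let algB : Algebra (Y.presheaf.stalk (f.base x)) (X.presheaf.stalk x) :=
    (f.stalkMap x).hom.toAlgebra
  have hlocalg : IsLocalHom (algebraMap (Y.presheaf.stalk (f.base x)) (X.presheaf.stalk x)) :=
    inferInstanceAs (IsLocalHom (f.stalkMap x).hom)
  have hcalg : CAlgX.IsAdicFormallySmooth (Y.presheaf.stalk (f.base x)) (X.presheaf.stalk x)
      (maximalIdeal (X.presheaf.stalk x)) := by
    rw [Groth.Agent.S9316.result]
    intro A _ _ _ algA hlocA J hJ2 hlen _ ψ hψloc hbij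
    have hsimple : IsSimpleModule A J := Module.length_eq_one_iff.mp hlen
    have hJne : J ≠ ⊤ := by
      intro h
      rw [h, Ideal.top_pow] at hJ2
      exact top_ne_bot hJ2
    have hJm : J * maximalIdeal A = ⊥ := by
      have hmax : (Module.annihilator A J).IsMaximal := IsSimpleModule.annihilator_isMaximal
      have h1 : Module.annihilator A J = maximalIdeal A := IsLocalRing.eq_maximalIdeal hmax
      rw [eq_bot_iff, Ideal.mul_le]
      intro j hj a ha
      rw [← h1, Module.mem_annihilator] at ha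
      have := congrArg Subtype.val (ha ⟨j, hj⟩)
      rw [Ideal.mem_bot, mul_comm]
      simpa using this
    -- J is principal
    obtain ⟨ε, hε⟩ : ∃ ε : A, J = Ideal.span {ε} := by
      have hnt : Nontrivial J := IsSimpleModule.nontrivial A J
      obtain ⟨⟨ε, hεJ⟩, hε0⟩ := exists_ne (0 : J)
      refine ⟨ε, ?_⟩
      have hatom : IsAtom J := isSimpleModule_iff_isAtom.mp hsimple
      have hle : Ideal.span {ε} ≤ J := (Ideal.span_singleton_le_iff_mem J).mpr hεJ
      rcases hatom.le_iff.mp hle with h0 | h1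
      · exfalso
        apply hε0
        have : ε ∈ (⊥ : Ideal A) := h0 ▸ Ideal.mem_span_singleton_self ε
        exact Subtype.ext (by simpa using this)
      · exact h1.symm
    subst hε
    have hmmap : (maximalIdeal A).map (Ideal.Quotient.mk (Ideal.span {ε})) =
        maximalIdeal (A ⧸ Ideal.span {ε}) :=
      IsLocalRing.map_maximalIdeal_of_surjective _ Ideal.Quotient.mk_surjective
    obtain ⟨g, hg1, hg2⟩ := H A (algebraMap _ A) ε
      (by
        intro m hm
        have : ε * m ∈ Ideal.span {ε} * maximalIdeal A :=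
          Ideal.mul_mem_mul (Ideal.mem_span_singleton_self ε) hm
        rw [hJm] at this
        exact this) hJne ψ.toRingHom
      (by ext a; exact ψ.commutes a)
      (by
        intro b hb
        rw [hmmap, mem_maximalIdeal, mem_nonunits_iff]
        intro hu
        exact hb (hψloc.map_nonunit b hu))
      (by
        intro a'
        obtain ⟨y, hy⟩ := hbij.2 (residue (A ⧸ Ideal.span {ε}) (Ideal.Quotient.mk _ a'))
        obtain ⟨b, rfl⟩ := residue_surjective y
        refine ⟨b, ?_⟩
        rw [hmmap, ← residue_eq_zero_iff, map_sub, sub_eq_zero, ← hy]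
        rfl)
    exact ⟨{ g with commutes' := fun a => RingHom.congr_fun hg1 a },
      AlgHom.ext fun b => RingHom.congr_fun hg2 b⟩
  exact Groth.Agent.Lib.FormalSmoothDescent.isFormallySmoothAdic_of_sq_zero
    (fun C _ _ J hJ _ u hu => hcalg C J hJ u hu)


/-- the lifting hypothesis of the statement. -/
def SmallLift {X S : Scheme.{u}} (f : X ⟶ S) : Prop :=
  ∀ (B B' : Type u) [CommRing B] [CommRing B'] [IsArtinianRing B] [IsArtinianRing B']
    [IsLocalRing B] [IsLocalRing B']
    (φ : B' →+* B) (ε : B'), Function.Surjective φ → RingHom.ker φ = Ideal.span {ε} →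
    (∀ m ∈ IsLocalRing.maximalIdeal B', ε * m = 0) →
    ∀ (α : Spec (CommRingCat.of B) ⟶ X) (β : Spec (CommRingCat.of B') ⟶ S),
      LocallyOfFiniteType β →
      Spec.map (CommRingCat.ofHom φ) ≫ β = α ≫ f →
      ∃ γ : Spec (CommRingCat.of B') ⟶ X,
        Spec.map (CommRingCat.ofHom φ) ≫ γ = α ∧ γ ≫ f = β

theorem pLiftProp_of_smallLift {X S : Scheme.{u}} (f : X ⟶ S) [LocallyOfFiniteType f]
    (H : SmallLift f) (x : X) {U : S.Opens} (hU : IsAffineOpen U) {V : X.Opens}
    (hV : IsAffineOpen V) (hVU : V ≤ f ⁻¹ᵁ U) (hxV : x ∈ V)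
    (hmax : (hV.primeIdealOf ⟨x, hxV⟩).asIdeal.IsMaximal) : PLiftProp f x := by
  intro A' _ _ _ h _ ε hε hne g₀ hcomp hg₀m hg₀s
  have hxU : f x ∈ U := hVU hxV
  -- the quotient ring
  have hnt : Nontrivial (A' ⧸ Ideal.span {ε}) := Ideal.Quotient.nontrivial_iff.mpr hne
  have hBloc : IsLocalRing (A' ⧸ Ideal.span {ε}) :=
    IsLocalRing.of_surjective' (Ideal.Quotient.mk _) Ideal.Quotient.mk_surjective
  have hmmap : (maximalIdeal A').map (Ideal.Quotient.mk (Ideal.span {ε})) =
      maximalIdeal (A' ⧸ Ideal.span {ε}) :=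
    IsLocalRing.map_maximalIdeal_of_surjective _ Ideal.Quotient.mk_surjective
  have hg₀loc : IsLocalHom g₀ := by
    refine ((IsLocalRing.local_hom_TFAE g₀).out 3 0).mp ?_
    intro b hb
    rw [Ideal.mem_comap, ← hmmap]
    exact hg₀m b hb
  let φ : A' →+* A' ⧸ Ideal.span {ε} := Ideal.Quotient.mk _
  have hφloc : IsLocalHom φ := IsLocalHom.of_surjective φ Ideal.Quotient.mk_surjective
  let g₀' : X.presheaf.stalk x ⟶ CommRingCat.of (A' ⧸ Ideal.span {ε}) := CommRingCat.ofHom g₀
  let h' : S.presheaf.stalk (f x) ⟶ CommRingCat.of A' := CommRingCat.ofHom h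
  have hg₀'loc : IsLocalHom g₀'.hom := hg₀loc
  have hh'loc : IsLocalHom h'.hom := ‹IsLocalHom h›
  have hφ'loc : IsLocalHom (CommRingCat.ofHom φ).hom := hφloc
  have hcomp' : f.stalkMap x ≫ g₀' = h' ≫ CommRingCat.ofHom φ := by
    ext r
    exact RingHom.congr_fun hcomp r
  let α : Spec (CommRingCat.of (A' ⧸ Ideal.span {ε})) ⟶ X := Spec.map g₀' ≫ X.fromSpecStalk x
  let β : Spec (CommRingCat.of A') ⟶ S := Spec.map h' ≫ S.fromSpecStalk (f x)
  have hc : Spec.map (CommRingCat.ofHom φ) ≫ β = α ≫ f := by
    show Spec.map (CommRingCat.ofHom φ) ≫ Spec.map h' ≫ S.fromSpecStalk (f x) =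
      (Spec.map g₀' ≫ X.fromSpecStalk x) ≫ f
    rw [Category.assoc, ← Scheme.SpecMap_stalkMap_fromSpecStalk, ← Spec.map_comp_assoc,
      ← Spec.map_comp_assoc, hcomp']
  -- β is locally of finite type
  have hβ : LocallyOfFiniteType β := by
    have hle : Ideal.span {ε} ≤ maximalIdeal A' := IsLocalRing.le_maximalIdeal hne
    let fac : A' ⧸ Ideal.span {ε} →+* ResidueField A' := Ideal.Quotient.factor hle
    have hfac : ∀ a : A', fac (Ideal.Quotient.mk _ a) = residue A' a := fun a => rfl
    have hfac0 : ∀ z ∈ (maximalIdeal A').map (Ideal.Quotient.mk (Ideal.span {ε})), fac z = 0 := by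
      intro z hz
      obtain ⟨a, ha, rfl⟩ := (Ideal.mem_map_iff_of_surjective _ Ideal.Quotient.mk_surjective).mp hz
      rw [hfac]
      exact (residue_eq_zero_iff a).mpr ha
    let ρ : Γ(S, U) →+* Γ(X, V) := (f.appLE U V hVU).hom
    have hρ : ρ.FiniteType := f.finiteType_appLE hU hV hVU
    let σ : Γ(S, U) →+* A' := h.comp (S.presheaf.germ U (f x) hxU).hom
    let q : Γ(X, V) →+* ResidueField A' := fac.comp (g₀.comp (X.presheaf.germ V x hxV).hom)
    have hgerm : ∀ r : Γ(S, U), (X.presheaf.germ V x hxV).hom (ρ r) =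
        (f.stalkMap x).hom ((S.presheaf.germ U (f x) hxU).hom r) := by
      intro r
      have h1 := Scheme.Hom.germ_stalkMap_apply f U x hxU r
      have h2 : (f.appLE U V hVU) = f.app U ≫ X.presheaf.map (homOfLE hVU).op := rfl
      have h3 := X.presheaf.germ_res_apply (homOfLE hVU) x hxV (f.app U r)
      show (X.presheaf.germ V x hxV) ((f.appLE U V hVU) r) = _
      rw [h2]
      exact h3.trans h1.symm
    have hqρ : q.comp ρ = (residue A').comp σ := by
      ext r
      show fac (g₀ ((X.presheaf.germ V x hxV).hom (ρ r))) =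
        residue A' (h ((S.presheaf.germ U (f x) hxU).hom r))
      rw [hgerm]
      have := RingHom.congr_fun hcomp ((S.presheaf.germ U (f x) hxU).hom r)
      simp only [RingHom.comp_apply] at this
      rw [this, hfac]
    have hq : Function.Surjective q := by
      intro k
      obtain ⟨a', rfl⟩ := residue_surjective k
      obtain ⟨b, hb⟩ := hg₀s a'
      have hloc := hV.isLocalization_stalk ⟨x, hxV⟩
      let _ : Algebra Γ(X, V) (X.presheaf.stalk x) := (X.presheaf.germ V x hxV).hom.toAlgebra
      obtain ⟨c, hc⟩ := Ideal.Quotient.mk_surjective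
        ((IsLocalization.AtPrime.equivQuotMaximalIdeal (hV.primeIdealOf ⟨x, hxV⟩).asIdeal
          (X.presheaf.stalk x)).symm (Ideal.Quotient.mk _ b))
      have hc' : b - (X.presheaf.germ V x hxV).hom c ∈ maximalIdeal (X.presheaf.stalk x) := by
        rw [RingEquiv.eq_symm_apply] at hc
        rw [← Ideal.Quotient.eq, ← hc]
        rfl
      refine ⟨c, ?_⟩
      show fac (g₀ ((X.presheaf.germ V x hxV).hom c)) = residue A' a'
      have h1 : fac (g₀ b - Ideal.Quotient.mk _ a') = 0 := hfac0 _ hb
      have h2 : fac (g₀ (b - (X.presheaf.germ V x hxV).hom c)) = 0 := hfac0 _ (hg₀m _ hc')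
      rw [map_sub, hfac, sub_eq_zero] at h1
      rw [map_sub, map_sub, sub_eq_zero] at h2
      rw [← h2, h1]
    have hσ : σ.FiniteType := finiteType_of_artinian ρ hρ σ q hq hqρ
    have h4 : β = Spec.map (S.presheaf.germ U (f x) hxU ≫ h') ≫ hU.fromSpec := by
      show Spec.map h' ≫ S.fromSpecStalk (f x) = _
      rw [← hU.fromSpecStalk_eq_fromSpecStalk hxU, IsAffineOpen.fromSpecStalk, Spec.map_comp,
        Category.assoc]
    rw [h4]
    have h5 : LocallyOfFiniteType (Spec.map (S.presheaf.germ U (f x) hxU ≫ h')) := by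
      rw [HasRingHomProperty.Spec_iff (P := @LocallyOfFiniteType)]
      exact hσ
    infer_instance
  obtain ⟨γ, hγ1, hγ2⟩ := H (A' ⧸ Ideal.span {ε}) A' φ ε Ideal.Quotient.mk_surjective
    Ideal.mk_ker hε α β hβ hc
  have hαcp : α (closedPoint (CommRingCat.of (A' ⧸ Ideal.span {ε}))) = x := by
    calc α (closedPoint (CommRingCat.of (A' ⧸ Ideal.span {ε})))
        = X.fromSpecStalk x (Spec.map g₀' (closedPoint (CommRingCat.of (A' ⧸ Ideal.span {ε})))) :=
          rfl
      _ = X.fromSpecStalk x (closedPoint (X.presheaf.stalk x)) := by rw [Spec_closedPoint]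
      _ = x := Scheme.fromSpecStalk_closedPoint
  have hγcp : γ (closedPoint (CommRingCat.of A')) = x := by
    have h1 : Spec.map (CommRingCat.ofHom φ) (closedPoint (CommRingCat.of (A' ⧸ Ideal.span {ε}))) =
        closedPoint (CommRingCat.of A') := Spec_closedPoint
    calc γ (closedPoint (CommRingCat.of A'))
        = γ (Spec.map (CommRingCat.ofHom φ)
            (closedPoint (CommRingCat.of (A' ⧸ Ideal.span {ε})))) := by rw [h1]
      _ = (Spec.map (CommRingCat.ofHom φ) ≫ γ)
            (closedPoint (CommRingCat.of (A' ⧸ Ideal.span {ε}))) := rfl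
      _ = α (closedPoint (CommRingCat.of (A' ⧸ Ideal.span {ε}))) := by rw [hγ1]
      _ = x := hαcp
  obtain ⟨g, hgloc, hg⟩ := exists_of_closedPoint_eq γ hγcp
  have e1 : f.stalkMap x ≫ g = h' := by
    have : IsLocalHom (f.stalkMap x ≫ g).hom := by
      rw [CommRingCat.hom_comp]; infer_instance
    apply fromSpecStalk_inj
    rw [Spec.map_comp, Category.assoc, Scheme.SpecMap_stalkMap_fromSpecStalk, ← Category.assoc, hg,
      hγ2]
  have e2 : g ≫ CommRingCat.ofHom φ = g₀' := by
    have : IsLocalHom (g ≫ CommRingCat.ofHom φ).hom := by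
      rw [CommRingCat.hom_comp]; infer_instance
    apply fromSpecStalk_inj
    rw [Spec.map_comp, Category.assoc, hg, hγ1]
  refine ⟨g.hom, ?_, ?_⟩
  · ext r
    exact congrArg (fun k => k.hom r) e1
  · ext b
    exact congrArg (fun k => k.hom b) e2


end helpers

open AlgebraicGeometry CategoryTheory Limits in
/-- Let S be locally Noetherian and f : X → S locally of finite type. Then f is smooth if and only if
for every small extension B' → B of Artinian local rings (a surjection whose kernel is generated by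
one element annihilated by the maximal ideal), every morphism Spec B → X and every morphism Spec B'
→ S locally of finite type making the square commute, there is a lift Spec B' → X. -/
theorem result {X S : Scheme.{u}} (f : X ⟶ S) [IsLocallyNoetherian S] [LocallyOfFiniteType f] :
    Smooth f ↔ ∀ (B B' : Type u) [CommRing B] [CommRing B'] [IsArtinianRing B] [IsArtinianRing B'] [IsLocalRing B] [IsLocalRing B']
      (φ : B' →+* B) (ε : B'), Function.Surjective φ → RingHom.ker φ = Ideal.span {ε} → (∀ m ∈ IsLocalRing.maximalIdeal B', ε * m = 0) →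
      ∀ (α : Spec (CommRingCat.of B) ⟶ X) (β : Spec (CommRingCat.of B') ⟶ S), LocallyOfFiniteType β →
        Spec.map (CommRingCat.ofHom φ) ≫ β = α ≫ f →
        ∃ γ : Spec (CommRingCat.of B') ⟶ X, Spec.map (CommRingCat.ofHom φ) ≫ γ = α ∧ γ ≫ f = β := by
  constructor
  · intro hsm B B' _ _ _ _ _ _ φ ε hφ hker hε α β _ hc
    have hεm : ε ∈ IsLocalRing.maximalIdeal B' := by
      rw [IsLocalRing.mem_maximalIdeal, mem_nonunits_iff]
      intro hu
      have h1 : RingHom.ker φ = ⊤ := by
        rw [hker]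
        exact Ideal.span_singleton_eq_top.mpr hu
      exact RingHom.ker_ne_top φ h1
    have hnil : IsNilpotent (RingHom.ker φ) := by
      refine ⟨2, ?_⟩
      rw [hker, Ideal.span_singleton_pow, sq, hε ε hεm]
      exact Ideal.span_singleton_eq_bot.mpr rfl
    have hmem : α (IsLocalRing.closedPoint (CommRingCat.of B)) ∈ f.smoothLocus := by
      rw [Scheme.Hom.smoothLocus_eq_top]
      trivial
    exact Groth.Agent.Lib.SpecLocal50.exists_lift_of_formallySmooth_stalk f B B' φ hφ hnil α β hc
      _ rfl hmem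
  · intro H
    have hfp := Groth.Agent.Lib.SmoothNbhdLift.lfp_of_noeth f
    rw [← Scheme.Hom.smoothLocus_eq_top_iff]
    have HS : SmallLift f := H
    rw [eq_top_iff]
    intro t _
    obtain ⟨_, ⟨U, hU, rfl⟩, hxU, -⟩ :=
      S.isBasis_affineOpens.exists_subset_of_mem_open (Set.mem_univ (f t)) isOpen_univ
    obtain ⟨_, ⟨V, hV, rfl⟩, htV, hVU⟩ :=
      X.isBasis_affineOpens.exists_subset_of_mem_open hxU (U.2.preimage f.continuous)
    obtain ⟨𝔫, h𝔫max, hle⟩ := Ideal.exists_le_maximal (hV.primeIdealOf ⟨t, htV⟩).asIdeal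
      (hV.primeIdealOf ⟨t, htV⟩).2.ne_top
    let y : PrimeSpectrum Γ(X, V) := ⟨𝔫, h𝔫max.isPrime⟩
    have hxV : hV.fromSpec y ∈ V := by
      have : hV.fromSpec y ∈ Set.range hV.fromSpec := ⟨y, rfl⟩
      rw [hV.range_fromSpec] at this
      exact this
    have hy : hV.primeIdealOf ⟨hV.fromSpec y, hxV⟩ = y := by
      apply hV.fromSpec.isOpenEmbedding.injective
      exact hV.fromSpec_primeIdealOf ⟨hV.fromSpec y, hxV⟩
    have hspec : t ⤳ hV.fromSpec y := by
      have h1 : hV.primeIdealOf ⟨t, htV⟩ ⤳ y :=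
        (PrimeSpectrum.le_iff_specializes _ _).mp hle
      have h2 := h1.map hV.fromSpec.continuous
      rwa [hV.fromSpec_primeIdealOf ⟨t, htV⟩] at h2
    have hmax : (hV.primeIdealOf ⟨hV.fromSpec y, hxV⟩).asIdeal.IsMaximal := by
      rw [hy]
      exact h𝔫max
    have hP : PLiftProp f (hV.fromSpec y) :=
      pLiftProp_of_smallLift f HS (hV.fromSpec y) hU hV hVU hxV hmax
    have hsm : hV.fromSpec y ∈ f.smoothLocus := formallySmooth_of_pLiftProp f _ hP
    exact hspec.mem_open f.smoothLocus.2 hsm

end Groth.Agent.S1417
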