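import Groth.Statements.S10602
import Groth.Agent.S10629
import Groth.Agent.S1417
import Groth.Agent.Lib.AlgSpDecentSpec
import Groth.Agent.Lib.AlgStPtsQC
import Groth.Agent.Lib.AlgSpFlatPt2

set_option linter.style.haveILetI false

set_option autoImplicit false
universe u
open CategoryTheory CategoryTheory.Limits AlgebraicGeometry
open AlgSp

namespace Groth.Agent.S10602

/-- Take a morphism f : X ⟶ Y of algebraic spaces over S that is locally of finite type, with Y locally
Noetherian. Then f is smooth if and only if for every surjection π : B' → B of Artinian local rings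
whose kernel is principal and killed by the maximal ideal of B', every structure map Spec B' ⟶ S,
every α : Spec B ⟶ X and every β : Spec B' ⟶ Y locally of finite type with α ≫ f = Spec(π) ≫ β,
there is γ : Spec B' ⟶ X with Spec(π) ≫ γ = α and γ ≫ f = β. (The published statement asks for lifts
only against β of finite type, which can be vacuous when Y is not quasi-separated; this row asks for
lifts against every β locally of finite type.) -/
theorem result {S : Scheme.{u}} {X Y : AlgSp.Space S} (f : X ⟶ Y)
    (hY : AlgSp.IsLocNoethSp Y.obj) (hft : AlgSp.LocP @LocallyOfFiniteType f.hom) :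
    AlgSp.LocP @Smooth f.hom ↔
      ∀ (B' B : Type u) [CommRing B'] [CommRing B] [IsLocalRing B'] [IsLocalRing B]
        [IsArtinianRing B'] [IsArtinianRing B] (π : B' →+* B), Function.Surjective π →
        (∃ t : B', RingHom.ker π = Ideal.span {t} ∧ ∀ a ∈ IsLocalRing.maximalIdeal B', a * t = 0) →
        ∀ (s : Spec (CommRingCat.of B') ⟶ S)
          (α : (AlgSp.yon S).obj (Over.mk (Spec.map (CommRingCat.ofHom π) ≫ s)) ⟶ X.obj)
          (β : (AlgSp.yon S).obj (Over.mk s) ⟶ Y.obj),
          AlgSp.LocP @LocallyOfFiniteType β →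
          α ≫ f.hom = (AlgSp.yon S).map
            (Over.homMk (Spec.map (CommRingCat.ofHom π)) :
              Over.mk (Spec.map (CommRingCat.ofHom π) ≫ s) ⟶ Over.mk s) ≫ β →
          ∃ γ : (AlgSp.yon S).obj (Over.mk s) ⟶ X.obj,
            (AlgSp.yon S).map (Over.homMk (Spec.map (CommRingCat.ofHom π)) :
              Over.mk (Spec.map (CommRingCat.ofHom π) ≫ s) ⟶ Over.mk s) ≫ γ = α ∧ γ ≫ f.hom = β := by
  open Groth.Agent.Lib.H86Formal Groth.Agent.Lib.H86Formal2 Groth.Agent.Lib.H86Formal3
    Groth.Agent.Lib.H86FormalSm Groth.Agent.Lib.H90AlgSpInf Groth.Agent.Lib.AlgSpLocP in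
  have hFO : ∀ (B' B : Type u) [CommRing B'] [CommRing B] [IsLocalRing B'] [IsLocalRing B]
      (π : B' →+* B), Function.Surjective π →
      (∃ t : B', RingHom.ker π = Ideal.span {t} ∧ ∀ a ∈ IsLocalRing.maximalIdeal B', a * t = 0) →
      MoreMor.IsFirstOrderThickening (Spec.map (CommRingCat.ofHom π)) := by
    intro B' B _ _ _ _ π hπ ht
    obtain ⟨t, hker, ht⟩ := ht
    refine Groth.Agent.Lib.H4FirstOrderBC.isFirstOrderThickening_SpecMap (CommRingCat.ofHom π) hπ ?_
    intro x y hx hy
    have htm : t ∈ IsLocalRing.maximalIdeal B' := by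
      rw [IsLocalRing.mem_maximalIdeal, mem_nonunits_iff]
      intro hu
      have h1 : (1 : B') ∈ RingHom.ker π := by
        rw [hker]
        exact (Ideal.span_singleton_eq_top.2 hu).symm ▸ Submodule.mem_top
      have h2 : π 1 = 0 := h1
      rw [map_one] at h2
      exact one_ne_zero h2
    have htt : t * t = 0 := ht t htm
    have hx' : x ∈ Ideal.span {t} := by rw [← hker]; exact hx
    have hy' : y ∈ Ideal.span {t} := by rw [← hker]; exact hy
    obtain ⟨a, rfl⟩ := Ideal.mem_span_singleton'.1 hx'
    obtain ⟨b, rfl⟩ := Ideal.mem_span_singleton'.1 hy'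
    have : a * t * (b * t) = a * b * (t * t) := by ring
    rw [this, htt, mul_zero]
  constructor
  · intro hf B' B _ _ _ _ _ _ π hπ ht s α β _ hcomm
    have hfs : IsFormallySmoothMor f.hom := ((Groth.Agent.S10629.result f).1 hf).2
    exact exists_lift_of_isFormallySmoothMor f.hom hfs
      (Over.homMk (Spec.map (CommRingCat.ofHom π)) :
        Over.mk (Spec.map (CommRingCat.ofHom π) ≫ s) ⟶ Over.mk s)
      (by change IsAffine (Spec _); infer_instance) (hFO B' B π hπ ht) α β hcomm
  · intro H U V a b h ha hb e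
    haveI : IsLocallyNoetherian V.left :=
      Groth.Agent.Lib.AlgSpDecentSpec.isLocallyNoetherian_of_repWith_etale hY b hb
    haveI : LocallyOfFiniteType h.left := hft a b h ha hb e
    rw [Groth.Agent.S1417.result h.left]
    intro B B' _ _ _ _ _ _ φ ε hφ hker hε α β hβ hcomm
    have ht : ∃ t : B', RingHom.ker φ = Ideal.span {t} ∧ ∀ a ∈ IsLocalRing.maximalIdeal B', a * t = 0 :=
      ⟨ε, hker, fun a ha => by rw [mul_comm]; exact hε a ha⟩
    have hq := hFO B' B φ hφ ht
    obtain ⟨s, hs⟩ : ∃ s : Spec (CommRingCat.of B') ⟶ S, s = β ≫ V.hom := ⟨_, rfl⟩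
    let βO : Over.mk s ⟶ V := Over.homMk β hs.symm
    let jO : Over.mk (Spec.map (CommRingCat.ofHom φ) ≫ s) ⟶ Over.mk s :=
      Over.homMk (Spec.map (CommRingCat.ofHom φ))
    let αO : Over.mk (Spec.map (CommRingCat.ofHom φ) ≫ s) ⟶ U := Over.homMk α (by
      change α ≫ U.hom = Spec.map (CommRingCat.ofHom φ) ≫ s
      rw [hs, ← Over.w h, ← Category.assoc, ← hcomm, Category.assoc])
    have hcommO : jO ≫ βO = αO ≫ h := Over.OverMorphism.ext hcomm
    have hβlft : LocP @LocallyOfFiniteType ((yon S).map βO ≫ b) :=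
      locP_comp etLocalClass_lft (IsAlgSpace.yon_obj _) (IsAlgSpace.yon_obj V) Y.property
        (Groth.Agent.Lib.AlgStPtsQC.locP_yon_map_of etLocalClass_lft βO hβ)
        (Groth.Agent.Lib.AlgSpFlatPt.locP_lft_of_repWith_etale (IsAlgSpace.yon_obj V) b hb)
    obtain ⟨γ, hγ1, hγ2⟩ := H B' B φ hφ ht s ((yon S).map αO ≫ a) ((yon S).map βO ≫ b) hβlft (by
      rw [Category.assoc, e, ← Category.assoc, ← Functor.map_comp, ← hcommO, Functor.map_comp,
        Category.assoc])
    -- lift `γ` to `U`
    have hae := (isFormallyEtaleMor_iff a).1 (isFormallyEtaleMor_of_repWith_etale a ha)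
    have hbe := (isFormallyEtaleMor_iff b).1 (isFormallyEtaleMor_of_repWith_etale b hb)
    have hW : IsAffine (Over.mk s).left := by change IsAffine (Spec _); infer_instance
    obtain ⟨γU, hγU1, hγU2⟩ := exists_lift_of_isFormallySmoothMor a hae.1 jO hW hq
      ((yon S).map αO) γ hγ1.symm
    obtain ⟨γO, rfl⟩ := (yon S).map_surjective γU
    have hγh : (yon S).map γO ≫ (yon S).map h = (yon S).map βO := by
      refine lift_unique_affine b hbe.2 jO hW hq _ _ ?_ ?_
      · rw [← Category.assoc, hγU1, ← Functor.map_comp, ← Functor.map_comp, hcommO]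
      · rw [Category.assoc, ← e, ← Category.assoc, hγU2, hγ2]
    refine ⟨γO.left, ?_, ?_⟩
    · have : jO ≫ γO = αO := by
        apply (yon S).map_injective
        rw [Functor.map_comp]
        exact hγU1
      exact congrArg (fun ψ => ψ.left) this
    · have : γO ≫ h = βO := by
        apply (yon S).map_injective
        rw [Functor.map_comp]
        exact hγh
      exact congrArg (fun ψ => ψ.left) this

end Groth.Agent.S10602
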