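import Groth.Statements.S10604
import Groth.Agent.Lib.AlgSpCritFibNoeth36

set_option autoImplicit false
universe u
open CategoryTheory CategoryTheory.Limits AlgebraicGeometry
open AlgSp

namespace Groth.Agent.S10604

/-- Let f : X ⟶ Y and h : Y ⟶ Z be morphisms of algebraic spaces over S with X, Y and Z locally
Noetherian. Assume X is flat over Z and for every field K and every z : Spec K ⟶ Z the base change
X_z ⟶ Y_z of f is flat (fibres taken as pullback squares of fppf sheaves). Then f is flat; if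
moreover f is surjective, then h is flat. -/
theorem result {S : Scheme.{u}} {X Y Z : AlgSp.Space S} (f : X ⟶ Y) (h : Y ⟶ Z)
    (hX : AlgSp.IsLocNoethSp X.obj) (hYn : AlgSp.IsLocNoethSp Y.obj) (hZ : AlgSp.IsLocNoethSp Z.obj)
    (hfl : AlgSp.LocP @Flat (f ≫ h).hom)
    (hfib : ∀ (K : Type u) [Field K] (sK : Spec (CommRingCat.of K) ⟶ S)
      (z : (AlgSp.yon S).obj (Over.mk sK) ⟶ Z.obj) (Xz Yz : AlgSp.Sp S)
      (pX : Xz ⟶ X.obj) (qX : Xz ⟶ (AlgSp.yon S).obj (Over.mk sK))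
      (pY : Yz ⟶ Y.obj) (qY : Yz ⟶ (AlgSp.yon S).obj (Over.mk sK)) (fz : Xz ⟶ Yz),
      IsPullback pX qX (f ≫ h).hom z → IsPullback pY qY h.hom z → fz ≫ pY = pX ≫ f.hom → fz ≫ qY = qX →
      AlgSp.LocP @Flat fz) :
    AlgSp.LocP @Flat f.hom ∧ (AlgSp.IsSurjectiveMor f.hom → AlgSp.LocP @Flat h.hom) := by
  obtain ⟨W, c, hc, hcs⟩ := Z.property.atlas
  obtain ⟨V, b, k₂, hb, hbs, comm₂, -⟩ :=
    Groth.Agent.Lib.AlgSpFibreChart36.exists_global_chart Y.property h.hom c hc hcs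
  obtain ⟨U, a, k₁, ha, has, comm₁, hsurj⟩ :=
    Groth.Agent.Lib.AlgSpFibreChart36.exists_global_chart X.property f.hom b hb hbs
  have comm : a ≫ (f ≫ h).hom = (AlgSp.yon S).map (k₁ ≫ k₂) ≫ c := by
    change a ≫ f.hom ≫ h.hom = _
    rw [← Category.assoc, comm₁, Category.assoc, comm₂, Functor.map_comp, Category.assoc]
  have : IsLocallyNoetherian U.left :=
    Groth.Agent.Lib.AlgSpDecentSpec.isLocallyNoetherian_of_repWith_etale hX a ha
  have : IsLocallyNoetherian V.left :=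
    Groth.Agent.Lib.AlgSpDecentSpec.isLocallyNoetherian_of_repWith_etale hYn b hb
  have : IsLocallyNoetherian W.left :=
    Groth.Agent.Lib.AlgSpDecentSpec.isLocallyNoetherian_of_repWith_etale hZ c hc
  have h2 : Flat (k₁.left ≫ k₂.left) := hfl a c (k₁ ≫ k₂) ha hc comm
  have hfibre : ∀ w : ↥W.left, Flat (MoreMor.fiberMap k₁.left k₂.left w) := fun w =>
    Groth.Agent.Lib.AlgSpCritFib36.fiberMap_of_hfib (P := @Flat)
      (fun _ a => Z.property.representable_from_yon a) f.hom h.hom a b c ha hb hc k₁ k₂ comm₁ comm₂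
      hfib w
  obtain ⟨hk₁, hk₂⟩ :=
    Groth.Agent.Lib.AlgSpCritFibNoeth36.flat_of_fibrewise_flat_noeth k₁.left k₂.left hfibre
  refine ⟨Groth.Agent.Lib.AlgSpLocP.locP_of_chart Groth.Agent.Lib.AlgSpLocP.etLocalClass_flat f.hom a b k₁
    ha has hb comm₁ hk₁, fun hs => ?_⟩
  exact Groth.Agent.Lib.AlgSpLocP.locP_of_chart Groth.Agent.Lib.AlgSpLocP.etLocalClass_flat h.hom b c k₂
    hb hbs hc comm₂ (hk₂ (hsurj hs))

end Groth.Agent.S10604
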