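import Groth.Statements.S10608
import Groth.Agent.Lib.H86Formal17

set_option linter.style.haveILetI false

set_option autoImplicit false
universe u
open CategoryTheory CategoryTheory.Limits AlgebraicGeometry
open AlgSp

namespace Groth.Agent.S10608

/-- Take a morphism f : X ⟶ Y of algebraic spaces over S that is locally of finite type, with Y locally
Noetherian, and let x be a point of X. The following are equivalent: (1) f is smooth at x (in some
chart diagram through x the chart morphism is smooth on an open neighbourhood); (2) for every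
surjection π : B' → B of local rings with kernel of square zero, every structure map Spec B' ⟶ S,
every α : Spec B ⟶ X sending the closed point to x and every β : Spec B' ⟶ Y with α ≫ f = Spec(π) ≫
β there is γ : Spec B' ⟶ X with Spec(π) ≫ γ = α and γ ≫ f = β; (3) the same for π ranging over
surjections of Artinian local rings with kernel principal and killed by the maximal ideal. Stated as
(1) ↔ (2) and (1) ↔ (3). -/
theorem result {S : Scheme.{u}} {X Y : AlgSp.Space S} (f : X ⟶ Y)
    (hY : AlgSp.IsLocNoethSp Y.obj) (hft : AlgSp.LocP @LocallyOfFiniteType f.hom) (x : AlgSp.Points X.obj) :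
    (AlgSp.HasAtMor (fun U _ h u => ∃ W : U.Opens, u ∈ W ∧ Smooth (W.ι ≫ h)) f.hom x ↔
      ∀ (B' B : Type u) [CommRing B'] [CommRing B] [IsLocalRing B'] [IsLocalRing B] (π : B' →+* B),
        Function.Surjective π → RingHom.ker π ^ 2 = ⊥ →
        ∀ (s : Spec (CommRingCat.of B') ⟶ S)
          (α : (AlgSp.yon S).obj (Over.mk (Spec.map (CommRingCat.ofHom π) ≫ s)) ⟶ X.obj)
          (β : (AlgSp.yon S).obj (Over.mk s) ⟶ Y.obj),
          AlgSp.Points.ofPt α (IsLocalRing.closedPoint B) = x →
          α ≫ f.hom = (AlgSp.yon S).map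
            (Over.homMk (Spec.map (CommRingCat.ofHom π)) :
              Over.mk (Spec.map (CommRingCat.ofHom π) ≫ s) ⟶ Over.mk s) ≫ β →
          ∃ γ : (AlgSp.yon S).obj (Over.mk s) ⟶ X.obj,
            (AlgSp.yon S).map (Over.homMk (Spec.map (CommRingCat.ofHom π)) :
              Over.mk (Spec.map (CommRingCat.ofHom π) ≫ s) ⟶ Over.mk s) ≫ γ = α ∧ γ ≫ f.hom = β) ∧
    (AlgSp.HasAtMor (fun U _ h u => ∃ W : U.Opens, u ∈ W ∧ Smooth (W.ι ≫ h)) f.hom x ↔
      ∀ (B' B : Type u) [CommRing B'] [CommRing B] [IsLocalRing B'] [IsLocalRing B]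
        [IsArtinianRing B'] [IsArtinianRing B] (π : B' →+* B), Function.Surjective π →
        (∃ t : B', RingHom.ker π = Ideal.span {t} ∧ ∀ a ∈ IsLocalRing.maximalIdeal B', a * t = 0) →
        ∀ (s : Spec (CommRingCat.of B') ⟶ S)
          (α : (AlgSp.yon S).obj (Over.mk (Spec.map (CommRingCat.ofHom π) ≫ s)) ⟶ X.obj)
          (β : (AlgSp.yon S).obj (Over.mk s) ⟶ Y.obj),
          AlgSp.Points.ofPt α (IsLocalRing.closedPoint B) = x →
          α ≫ f.hom = (AlgSp.yon S).map
            (Over.homMk (Spec.map (CommRingCat.ofHom π)) :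
              Over.mk (Spec.map (CommRingCat.ofHom π) ≫ s) ⟶ Over.mk s) ≫ β →
          ∃ γ : (AlgSp.yon S).obj (Over.mk s) ⟶ X.obj,
            (AlgSp.yon S).map (Over.homMk (Spec.map (CommRingCat.ofHom π)) :
              Over.mk (Spec.map (CommRingCat.ofHom π) ≫ s) ⟶ Over.mk s) ≫ γ = α ∧ γ ≫ f.hom = β) := by
  open Groth.Agent.Lib.H86Formal17 Groth.Agent.Lib.H86AlgSpPoints in
  -- (1) ⟹ (2)
  have h12 : AlgSp.HasAtMor (fun U _ h u => ∃ W : U.Opens, u ∈ W ∧ Smooth (W.ι ≫ h)) f.hom x →
      ∀ (B' B : Type u) [CommRing B'] [CommRing B] [IsLocalRing B'] [IsLocalRing B] (π : B' →+* B),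
        Function.Surjective π → RingHom.ker π ^ 2 = ⊥ →
        ∀ (s : Spec (CommRingCat.of B') ⟶ S)
          (α : (AlgSp.yon S).obj (Over.mk (Spec.map (CommRingCat.ofHom π) ≫ s)) ⟶ X.obj)
          (β : (AlgSp.yon S).obj (Over.mk s) ⟶ Y.obj),
          AlgSp.Points.ofPt α (IsLocalRing.closedPoint B) = x →
          α ≫ f.hom = (AlgSp.yon S).map
            (Over.homMk (Spec.map (CommRingCat.ofHom π)) :
              Over.mk (Spec.map (CommRingCat.ofHom π) ≫ s) ⟶ Over.mk s) ≫ β →
          ∃ γ : (AlgSp.yon S).obj (Over.mk s) ⟶ X.obj,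
            (AlgSp.yon S).map (Over.homMk (Spec.map (CommRingCat.ofHom π)) :
              Over.mk (Spec.map (CommRingCat.ofHom π) ≫ s) ⟶ Over.mk s) ≫ γ = α ∧ γ ≫ f.hom = β := by
    rintro ⟨U, V, a, b, h, u, ha, hb, e, hu, W, huW, hWs⟩ B' B _ _ _ _ π hπ hker s α β hx hcomm
    have hq : MoreMor.IsFirstOrderThickening (Spec.map (CommRingCat.ofHom π)) := by
      refine Groth.Agent.Lib.H4FirstOrderBC.isFirstOrderThickening_SpecMap (CommRingCat.ofHom π) hπ ?_
      intro y z hy hz
      have : y * z ∈ RingHom.ker π ^ 2 := by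
        rw [pow_two]
        exact Ideal.mul_mem_mul hy hz
      rw [hker] at this
      exact this
    have hopen : IsOpen (AlgSp.Points.ofPt α ⁻¹' (AlgSp.Points.ofPt a '' (W : Set ↥U.left))) :=
      (isOpenMap_ofPt ha _ W.isOpen).preimage (AlgSp.Points.continuous_ofPt α)
    have hcl : IsLocalRing.closedPoint B ∈
        AlgSp.Points.ofPt α ⁻¹' (AlgSp.Points.ofPt a '' (W : Set ↥U.left)) := by
      change AlgSp.Points.ofPt α (IsLocalRing.closedPoint B) ∈
        AlgSp.Points.ofPt a '' (W : Set ↥U.left)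
      rw [hx, ← hu]
      exact ⟨u, huW, rfl⟩
    exact exists_lift_of_smooth_on_chart X.property Y.property f.hom a b h ha hb e W hWs
      (Over.homMk (Spec.map (CommRingCat.ofHom π)) :
        Over.mk (Spec.map (CommRingCat.ofHom π) ≫ s) ⟶ Over.mk s)
      (by change IsAffine (Spec _); infer_instance) hq α β
      (fun t => mem_of_closedPoint_mem hopen hcl t) hcomm
  -- (2) ⟹ (3)
  have hsq : ∀ (B' B : Type u) [CommRing B'] [CommRing B] [IsLocalRing B'] [IsLocalRing B]
      (π : B' →+* B),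
      (∃ t : B', RingHom.ker π = Ideal.span {t} ∧ ∀ a ∈ IsLocalRing.maximalIdeal B', a * t = 0) →
      RingHom.ker π ^ 2 = ⊥ := by
    intro B' B _ _ _ _ π ht
    obtain ⟨t, hker, ht⟩ := ht
    have htm : t ∈ IsLocalRing.maximalIdeal B' := by
      rw [IsLocalRing.mem_maximalIdeal, mem_nonunits_iff]
      intro hu
      have h1 : RingHom.ker π = ⊤ := by
        rw [hker]
        exact Ideal.span_singleton_eq_top.mpr hu
      exact RingHom.ker_ne_top π h1
    rw [hker, Ideal.span_singleton_pow, sq, ht t htm]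
    exact Ideal.span_singleton_eq_bot.mpr rfl
  refine ⟨⟨h12, fun H2 => ?_⟩, ⟨fun H1 => ?_, fun H3 => ?_⟩⟩
  · exact hasAtMor_smooth_of_pointLift X.property Y.property f.hom hY hft x
      (fun B' B _ _ _ _ _ _ π hπ ht s α β hx hcomm =>
        H2 B' B π hπ (hsq B' B π ht) s α β hx hcomm)
  · intro B' B _ _ _ _ _ _ π hπ ht s α β hx hcomm
    exact h12 H1 B' B π hπ (hsq B' B π ht) s α β hx hcomm
  · exact hasAtMor_smooth_of_pointLift X.property Y.property f.hom hY hft x H3

end Groth.Agent.S10608
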