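import Groth.Statements.S10613
import Groth.Agent.Lib.AlgSpClosedImm36
import Groth.Agent.S10621
import Groth.Agent.Lib.H86AlgSpSub
import Groth.Agent.Lib.AlgSpSrcCover

set_option autoImplicit false
universe u
open CategoryTheory CategoryTheory.Limits AlgebraicGeometry
open AlgSp

namespace Groth.Agent.S10613

/-- For a morphism f : X ⟶ Y of algebraic spaces over S, these four conditions on f are equivalent: (a)
unramified plus monomorphism; (b) unramified plus universally injective; (c) a monomorphism that is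
locally of finite type; (d) universally injective, locally of finite type and formally unramified
(lifting sense). In that case f is representable by schemes, separated and locally quasi-finite.
(Unramified is the etale-local condition locally of finite type and formally unramified on charts;
monomorphisms are taken in fppf sheaves.) -/
theorem result {S : Scheme.{u}} {X Y : AlgSp.Space S} (f : X ⟶ Y) :
    ((AlgSp.LocP (@LocallyOfFiniteType ⊓ @FormallyUnramified) f.hom ∧ Mono f.hom) ↔
      (AlgSp.LocP (@LocallyOfFiniteType ⊓ @FormallyUnramified) f.hom ∧ AlgSp.IsUnivInjectiveMor f.hom)) ∧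
    ((AlgSp.LocP (@LocallyOfFiniteType ⊓ @FormallyUnramified) f.hom ∧ Mono f.hom) ↔
      (AlgSp.LocP @LocallyOfFiniteType f.hom ∧ Mono f.hom)) ∧
    ((AlgSp.LocP (@LocallyOfFiniteType ⊓ @FormallyUnramified) f.hom ∧ Mono f.hom) ↔
      (AlgSp.IsUnivInjectiveMor f.hom ∧ AlgSp.LocP @LocallyOfFiniteType f.hom ∧ AlgSp.IsFormallyUnramifiedMor f.hom)) ∧
    (AlgSp.LocP @LocallyOfFiniteType f.hom ∧ Mono f.hom →
      AlgSp.Representable f.hom ∧ AlgSp.IsSeparatedMor f.hom ∧
        AlgSp.LocP (@LocallyQuasiFinite ⊓ @LocallyOfFiniteType) f.hom) := by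
  have hMI : Mono f.hom → AlgSp.IsUnivInjectiveMor f.hom := fun hM =>
    (Groth.Agent.Lib.AlgSpBasic.univInjective_tfae X.property.diag f.hom).1.1
      (fun K _ str a1 a2 h => (cancel_mono f.hom).1 h)
  have hUIM : AlgSp.LocP (@LocallyOfFiniteType ⊓ @FormallyUnramified) f.hom →
      AlgSp.IsUnivInjectiveMor f.hom → Mono f.hom := by
    intro hU hI
    have hΔ : AlgSp.RepWith @IsOpenImmersion (pullback.diagonal f.hom) :=
      (Groth.Agent.S10262.result f).1 hU
    have hΔs : AlgSp.IsSurjectiveMor (pullback.diagonal f.hom) :=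
      (Groth.Agent.Lib.AlgSpBasic.univInjective_tfae X.property.diag f.hom).2.1 hI
    have : IsIso (pullback.diagonal f.hom) :=
      Groth.Agent.Lib.H86AlgSpSub.isIso_of_repWith_isOpenImmersion_of_surjective hΔ hΔs
    exact (pullback.isIso_diagonal_iff f.hom).1 this
  have hLMU : AlgSp.LocP @LocallyOfFiniteType f.hom → Mono f.hom →
      AlgSp.LocP (@LocallyOfFiniteType ⊓ @FormallyUnramified) f.hom := by
    intro hL hM
    have : IsIso (pullback.diagonal f.hom) := inferInstance
    exact (Groth.Agent.S10262.result f).2 hL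
      (MorphismProperty.of_isIso (AlgSp.RepWith (S := S) @IsOpenImmersion) (pullback.diagonal f.hom))
  have hUL : AlgSp.LocP (@LocallyOfFiniteType ⊓ @FormallyUnramified) f.hom ↔
      (AlgSp.LocP @LocallyOfFiniteType f.hom ∧ AlgSp.IsFormallyUnramifiedMor f.hom) := by
    rw [Groth.Agent.Lib.AlgSpSrcCover.locP_inf_iff, (Groth.Agent.S10621.result f).1]
  refine ⟨⟨fun h => ⟨h.1, hMI h.2⟩, fun h => ⟨h.1, hUIM h.1 h.2⟩⟩,
    ⟨fun h => ⟨((Groth.Agent.Lib.AlgSpSrcCover.locP_inf_iff _ _ _).1 h.1).1, h.2⟩,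
      fun h => ⟨hLMU h.1 h.2, h.2⟩⟩,
    ⟨fun h => ⟨hMI h.2, (hUL.1 h.1).1, (hUL.1 h.1).2⟩,
      fun h => ⟨hUL.2 ⟨h.2.1, h.2.2⟩, hUIM (hUL.2 ⟨h.2.1, h.2.2⟩) h.1⟩⟩, ?_⟩
  rintro ⟨hL, hM⟩
  have hU := hLMU hL hM
  have : IsIso (pullback.diagonal f.hom) := inferInstance
  have hsep : AlgSp.IsSeparatedMor f.hom :=
    MorphismProperty.of_isIso (AlgSp.RepWith (S := S) @IsClosedImmersion) (pullback.diagonal f.hom)
  have hlqf : AlgSp.LocP (@LocallyQuasiFinite ⊓ @LocallyOfFiniteType) f.hom := by
    intro U V a b k ha hb comm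
    obtain ⟨h1, h2⟩ := hU a b k ha hb comm
    have : LocallyOfFiniteType k.left := h1
    have : FormallyUnramified k.left := h2
    exact ⟨Groth.Agent.Lib.AlgSpClosedImm36.locallyQuasiFinite_of_unramified k.left, h1⟩
  exact ⟨Groth.Agent.Lib.ProperLqfFinite46.representable_of_sep_lqf X.property Y.property f.hom hlqf
    hsep, hsep, hlqf⟩

end Groth.Agent.S10613
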