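import Groth.Statements.S10614
import Groth.Agent.S10613
import Groth.Agent.Lib.AlgSpClosedImm36
import Groth.Agent.Lib.AlgSpProper2

set_option autoImplicit false
universe u
open CategoryTheory CategoryTheory.Limits AlgebraicGeometry
open AlgSp

namespace Groth.Agent.S10614

/-- For a morphism f : X ⟶ Y of algebraic spaces over S, being a closed immersion (representable by
closed immersions) is equivalent to each of: (a) universally closed plus unramified plus
monomorphism; (b) universally closed plus unramified plus universally injective; (c) a universally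
closed monomorphism that is locally of finite type; (d) universally closed, universally injective,
locally of finite type and formally unramified (lifting sense). (Unramified is the etale-local
condition locally of finite type and formally unramified on charts; monomorphisms are taken in fppf
sheaves.) -/
theorem result {S : Scheme.{u}} {X Y : AlgSp.Space S} (f : X ⟶ Y) :
    (AlgSp.RepWith @IsClosedImmersion f.hom ↔
      (AlgSp.IsUnivClosedMor f.hom ∧ AlgSp.LocP (@LocallyOfFiniteType ⊓ @FormallyUnramified) f.hom ∧ Mono f.hom)) ∧
    (AlgSp.RepWith @IsClosedImmersion f.hom ↔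
      (AlgSp.IsUnivClosedMor f.hom ∧ AlgSp.LocP (@LocallyOfFiniteType ⊓ @FormallyUnramified) f.hom ∧ AlgSp.IsUnivInjectiveMor f.hom)) ∧
    (AlgSp.RepWith @IsClosedImmersion f.hom ↔
      (AlgSp.IsUnivClosedMor f.hom ∧ AlgSp.LocP @LocallyOfFiniteType f.hom ∧ Mono f.hom)) ∧
    (AlgSp.RepWith @IsClosedImmersion f.hom ↔
      (AlgSp.IsUnivClosedMor f.hom ∧ AlgSp.IsUnivInjectiveMor f.hom ∧ AlgSp.LocP @LocallyOfFiniteType f.hom ∧
        AlgSp.IsFormallyUnramifiedMor f.hom)) := by
  obtain ⟨e1, e2, e3, -⟩ := Groth.Agent.S10613.result f
  have hCI : AlgSp.RepWith @IsClosedImmersion f.hom ↔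
      (AlgSp.IsUnivClosedMor f.hom ∧ AlgSp.LocP (@LocallyOfFiniteType ⊓ @FormallyUnramified) f.hom ∧
        AlgSp.IsUnivInjectiveMor f.hom) := by
    constructor
    · intro h
      have huc : AlgSp.IsUnivClosedMor f.hom :=
        (Groth.Agent.Lib.AlgSpProper.isProperMor_of_repWith_isClosedImmersion X.property Y.property
          h).2.2
      exact ⟨huc, (Groth.Agent.Lib.AlgSpClosedImm36.repWith_isClosedImmersion_iff X.property
        Y.property f.hom huc).1 h⟩
    · rintro ⟨huc, h⟩
      exact (Groth.Agent.Lib.AlgSpClosedImm36.repWith_isClosedImmersion_iff X.property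
        Y.property f.hom huc).2 h
  refine ⟨?_, hCI, ?_, ?_⟩
  · rw [hCI]
    exact and_congr_right fun _ => e1.symm
  · rw [hCI]
    exact and_congr_right fun _ => e1.symm.trans e2
  · rw [hCI]
    exact and_congr_right fun _ => e1.symm.trans e3

end Groth.Agent.S10614
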