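import Groth.Statements.S10616
import Groth.Agent.Lib.H86Formal
import Groth.Agent.S1488

set_option linter.style.haveILetI false


set_option autoImplicit false
universe u
open CategoryTheory CategoryTheory.Limits AlgebraicGeometry
open AlgSp

namespace Groth.Agent.S10616

/-- Let a : F ⟶ G be a morphism of fppf sheaves on (Sch/S). If a is representable and smooth, then a is
formally smooth; if a is representable and etale, then a is formally etale; if a is representable
and unramified, then a is formally unramified (lifting conditions against square-zero thickenings of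
affine schemes). (The published statement is for transformations of arbitrary presheaves of sets on
(Sch/S)_fppf; this row takes fppf sheaves, the case of algebraic spaces.) -/
theorem result {S : Scheme.{u}} {F G : AlgSp.Sp S} (a : F ⟶ G) :
    (AlgSp.RepWith @Smooth a → AlgSp.IsFormallySmoothMor a) ∧
    (AlgSp.RepWith @Etale a → AlgSp.IsFormallyEtaleMor a) ∧
    (AlgSp.RepWith (@LocallyOfFiniteType ⊓ @FormallyUnramified) a → AlgSp.IsFormallyUnramifiedMor a) := by
  refine ⟨fun ha => ?_, fun ha => Groth.Agent.Lib.H86Formal.isFormallyEtaleMor_of_repWith_etale a ha,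
    fun ha => ?_⟩
  · -- smooth
    intro sq
    obtain ⟨P, snd, fst, hsq⟩ := ha.1 sq.bot
    have hsm : Smooth snd.left := ha.2 sq.bot fst snd hsq
    let s₀' : (yon S).obj sq.ptT ⟶ (yon S).obj P := hsq.lift sq.top ((yon S).map sq.j) sq.comm
    obtain ⟨s₀, hs₀⟩ := (yon S).map_surjective s₀'
    have hs₀1 : (yon S).map s₀ ≫ fst = sq.top := by rw [hs₀]; exact hsq.lift_fst _ _ _
    have hs₀2 : s₀ ≫ snd = sq.j := by
      apply (yon S).map_injective
      rw [Functor.map_comp, hs₀]
      exact hsq.lift_snd _ _ _
    have hfs : MoreMor.IsFormallySmoothHom snd.left :=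
      ((Groth.Agent.S1488.result snd.left).1 hsm).2
    have comm0 : Spec.map (CommRingCat.ofHom (Ideal.Quotient.mk sq.I)) ≫ 𝟙 _ =
        s₀.left ≫ snd.left := by
      rw [Category.comp_id]
      exact (congrArg (fun φ => φ.left) hs₀2).symm
    obtain ⟨l, hl1, hl2⟩ := hfs sq.A sq.I sq.sq_zero s₀.left (𝟙 _) comm0
    have hlP : l ≫ P.hom = sq.ptT'.hom := by
      rw [← Over.w snd, ← Category.assoc, hl2, Category.id_comp]
    let L : sq.ptT' ⟶ P := Over.homMk l hlP
    have hL1 : sq.j ≫ L = s₀ := Over.OverMorphism.ext hl1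
    have hL2 : L ≫ snd = 𝟙 _ := Over.OverMorphism.ext hl2
    refine ⟨(yon S).map L ≫ fst, ?_, ?_⟩
    · rw [← Category.assoc, ← Functor.map_comp, hL1, hs₀1]
    · rw [Category.assoc, hsq.w, ← Category.assoc, ← Functor.map_comp, hL2,
        CategoryTheory.Functor.map_id, Category.id_comp]
  · -- unramified
    intro sq l l' h1 h2 h1' h2'
    obtain ⟨P, snd, fst, hsq⟩ := ha.1 sq.bot
    have hur : FormallyUnramified snd.left := (ha.2 sq.bot fst snd hsq).2
    let m : (yon S).obj sq.ptT' ⟶ (yon S).obj P :=
      hsq.lift l (𝟙 _) (by rw [h2, Category.id_comp])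
    let m' : (yon S).obj sq.ptT' ⟶ (yon S).obj P :=
      hsq.lift l' (𝟙 _) (by rw [h2', Category.id_comp])
    obtain ⟨L, hL⟩ := (yon S).map_surjective m
    obtain ⟨L', hL'⟩ := (yon S).map_surjective m'
    have hm1 : (yon S).map L ≫ fst = l := by rw [hL]; exact hsq.lift_fst _ _ _
    have hm'1 : (yon S).map L' ≫ fst = l' := by rw [hL']; exact hsq.lift_fst _ _ _
    have hm2 : (yon S).map L ≫ (yon S).map snd = 𝟙 _ := by rw [hL]; exact hsq.lift_snd _ _ _
    have hm'2 : (yon S).map L' ≫ (yon S).map snd = 𝟙 _ := by rw [hL']; exact hsq.lift_snd _ _ _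
    have e1 : sq.j ≫ L = sq.j ≫ L' := by
      apply (yon S).map_injective
      rw [Functor.map_comp, Functor.map_comp]
      apply hsq.hom_ext
      · rw [Category.assoc, Category.assoc, hm1, hm'1, h1, h1']
      · rw [Category.assoc, Category.assoc, hm2, hm'2]
    have e2 : L ≫ snd = L' ≫ snd := by
      apply (yon S).map_injective
      rw [Functor.map_comp, Functor.map_comp, hm2, hm'2]
    have key : L.left = L'.left :=
      FormallyUnramified.hom_ext (Groth.Agent.S1489.thick sq.I)
        (Groth.Agent.S1487.isNilpotent_ker_thick sq.I sq.sq_zero) snd.left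
        (congrArg (fun φ => φ.left) e1) (congrArg (fun φ => φ.left) e2)
    have : L = L' := Over.OverMorphism.ext key
    rw [← hm1, ← hm'1, this]

end Groth.Agent.S10616
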