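import Groth.Statements.S10624
import Groth.Agent.Lib.H86Formal

set_option linter.style.haveILetI false

set_option autoImplicit false
universe u
open CategoryTheory CategoryTheory.Limits AlgebraicGeometry
open AlgSp

namespace Groth.Agent.S10624

set_option backward.isDefEq.respectTransparency false in
/-- Let f : X ⟶ Y be a formally unramified morphism of algebraic spaces over S and let j : T ⟶ T' be a
first order thickening of algebraic spaces (not necessarily affine schemes) with a : T ⟶ X, b : T' ⟶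
Y and a ≫ f = j ≫ b. Then any two morphisms l, l' : T' ⟶ X with j ≫ l = a = j ≫ l' and l ≫ f = b =
l' ≫ f are equal. -/
theorem result {S : Scheme.{u}} {X Y : AlgSp.Space S} (f : X ⟶ Y)
    (hf : AlgSp.IsFormallyUnramifiedMor f.hom) {T T' : AlgSp.Space S} (j : T ⟶ T') (hj : AlgSp.IsFOThickMor j.hom)
    (a : T ⟶ X) (b : T' ⟶ Y) (w : a ≫ f = j ≫ b)
    (l l' : T' ⟶ X) (h1 : j ≫ l = a) (h2 : l ≫ f = b) (h3 : j ≫ l' = a) (h4 : l' ≫ f = b) : l = l' := by
  have hloc := Groth.Agent.Lib.H86Formal.locP_formallyUnramified_of_isFormallyUnramifiedMor f.hom hf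
  obtain ⟨U, V, a₁, b₁, h, ha, has, hb, -, e⟩ :=
    Groth.Agent.Lib.H86Formal.exists_surjective_chart X.property Y.property f.hom
  have hh : FormallyUnramified h.left := hloc a₁ b₁ h ha hb e
  obtain ⟨V', c, hce, hcs⟩ := T'.property.atlas
  obtain ⟨V₀, q, c₀, sqV⟩ := hj.1.1 c
  have hthick : MoreMor.IsThickening q.left := hj.1.2 c c₀ q sqV
  have hpow : q.left.ker ^ (1 + 1) = ⊥ :=
    Groth.Agent.Lib.H86Deform.pow_ker_eq_bot_of_isNThickMor
      ((AlgSp.isNThickMor_one_iff j.hom).2 hj) c hce c₀ q sqV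
  have hFO : MoreMor.IsFirstOrderThickening q.left := ⟨hthick, by rw [← pow_two]; exact hpow⟩
  have e1 : j.hom ≫ l.hom = j.hom ≫ l'.hom := by
    have := h1.trans h3.symm
    exact congrArg (fun φ => φ.hom) this
  have e2 : l.hom ≫ f.hom = l'.hom ≫ f.hom := by
    have := h2.trans h4.symm
    exact congrArg (fun φ => φ.hom) this
  have key : c ≫ l.hom = c ≫ l'.hom := by
    refine Groth.Agent.Lib.H86Formal.lift_unique_of_chart f.hom a₁ b₁ h ha has hb e hh q hFO
      (c ≫ l.hom) (c ≫ l'.hom) ?_ ?_
    · rw [← Category.assoc, ← Category.assoc, ← sqV.w, Category.assoc, Category.assoc, e1]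
    · rw [Category.assoc, Category.assoc, e2]
  haveI : Epi c := by
    have := Groth.Agent.Lib.H69AlgSp.isLocallySurjective_of_etale_surjective c hce hcs
    infer_instance
  apply ObjectProperty.hom_ext
  exact (cancel_epi c).1 key

end Groth.Agent.S10624
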