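import Groth.Statements.S1063
import Mathlib
import Groth.Agent.Lib.H90ProjAffine
import Groth.Agent.Lib.H90PushLocFree
import Groth.Agent.Lib.H90EvEpi
import Groth.Agent.Lib.SupportTensor
import Groth.Agent.Lib.H90OXModExact

set_option autoImplicit false
universe u
open CategoryTheory AlgebraicGeometry
open Perf

namespace Groth.Agent.S1063

open Groth.Agent.Lib.OXModTensor Groth.Agent.Lib.SheafHom23 Groth.Agent.Lib.TensorBasis23
  Groth.Agent.Lib.H90Invertible

/-- `f_* O_X ⊗ P ≅ f_* f^* P` for `f` affine and `P` quasi-coherent -/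
noncomputable def pushPullIso {X Y : Scheme.{u}} (f : X ⟶ Y) [IsAffineHom f] (P : Y.Modules)
    [P.IsQuasicoherent] :
    CohB1.tensorMod ((Scheme.Modules.pushforward f).obj (Coh.structureModule X)) P ≅
      (Scheme.Modules.pushforward f).obj ((Scheme.Modules.pullback f).obj P) :=
  haveI := Groth.Agent.Lib.StructureModule.isQuasicoherent_structureModule X
  Groth.Agent.Lib.H90ProjAffine.projIso f (Coh.structureModule X) P ≪≫
    (Scheme.Modules.pushforward f).mapIso (leftUnitor _)

/-- pushforward along an affine morphism preserves epimorphisms of quasi-coherent modules -/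
theorem epi_pushforward_map {X Y : Scheme.{u}} (f : X ⟶ Y) [IsAffineHom f] {N N' : X.Modules}
    [N.IsQuasicoherent] [N'.IsQuasicoherent] (φ : N ⟶ N') [Epi φ] :
    Epi ((Scheme.Modules.pushforward f).map φ) := by
  haveI : ((Scheme.Modules.pushforward f).obj N').IsQuasicoherent :=
    Groth.Agent.Lib.H90OXModPush.isQuasicoherent_pushforward f N'
  refine Groth.Agent.Lib.H72LimMod.epi_of_cover _ (fun V : Y.affineOpens => V.1) (fun V => V.2)
    (fun y => ?_) (fun V => ?_)
  · obtain ⟨_, ⟨V, hV, rfl⟩, hyV, -⟩ :=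
      Y.isBasis_affineOpens.exists_subset_of_mem_open (Set.mem_univ y) isOpen_univ
    exact ⟨⟨V, hV⟩, hyV⟩
  · exact Groth.Agent.Lib.H90OXModExact.surjective_app_of_epi φ (V.2.preimage f)

/-- `f_* O_X` has local bases of positive rank when `f` is surjective -/
theorem exists_isBasis_succ {X Y : Scheme.{u}} (f : X ⟶ Y) [Surjective f]
    (hA : FlatMod.IsFinLocFree ((Scheme.Modules.pushforward f).obj (Coh.structureModule X))) (y : Y) :
    ∃ (V : Y.Opens) (n : ℕ)
      (a : Fin (n + 1) → Γ((Scheme.Modules.pushforward f).obj (Coh.structureModule X), V)),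
      y ∈ V ∧ IsBasis ((Scheme.Modules.pushforward f).obj (Coh.structureModule X)) V a := by
  obtain ⟨V, n, a, hyV, ha⟩ := exists_isBasis_of_isFinLocFree hA y
  rcases n with _ | n
  · exfalso
    obtain ⟨x, rfl⟩ := f.surjective y
    haveI : Nonempty (f ⁻¹ᵁ V) := ⟨⟨x, hyV⟩⟩
    haveI : Nontrivial Γ(X, f ⁻¹ᵁ V) := Scheme.component_nontrivial X (f ⁻¹ᵁ V)
    have key : ∀ t : Γ((Scheme.Modules.pushforward f).obj (Coh.structureModule X), V), t = 0 := by
      intro t
      obtain ⟨c, hc⟩ := (ha V le_rfl).2 t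
      obtain ⟨c', hc'⟩ := (ha V le_rfl).2 0
      rw [← hc, ← hc', Subsingleton.elim c c']
    have h1 : (1 : Γ(X, f ⁻¹ᵁ V)) = 0 := key (1 : Γ(X, f ⁻¹ᵁ V))
    exact one_ne_zero h1
  · exact ⟨V, n, a, hyV, ha⟩

/-- The resolution property descends along a surjective, finite locally free morphism f : X ⟶ Y; if
every finite-type quasi-coherent module on X is a quotient of a vector bundle, the same is true on
Y. -/
theorem result {X Y : Scheme.{u}} (f : X ⟶ Y) (hf : Mor2.IsFinLocFree f) [Surjective f]
    (hX : PerfAux.HasResolutionProperty X) : PerfAux.HasResolutionProperty Y := by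
  intro M hMq hMft
  haveI : M.IsQuasicoherent := hMq
  obtain ⟨hAff, hA⟩ := (Groth.Agent.Lib.FinLocFreeMor.isFinLocFree_mor_iff f).mpr hf
  haveI := hAff
  haveI : (hom ((Scheme.Modules.pushforward f).obj (Coh.structureModule X)) M).IsQuasicoherent :=
    Groth.Agent.Lib.H90EvEpi.isQuasicoherent_hom hA M
  haveI : (hom ((Scheme.Modules.pushforward f).obj (Coh.structureModule X)) M).IsFiniteType :=
    Groth.Agent.Lib.H90EvEpi.isFT_hom hA M hMft
  obtain ⟨P, π, hP, hπ⟩ := hX ((Scheme.Modules.pullback f).obj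
    (hom ((Scheme.Modules.pushforward f).obj (Coh.structureModule X)) M)) inferInstance
    (Groth.Agent.Lib.SupportTensor.isFiniteType_pullback f _)
  haveI := hπ
  haveI : P.IsQuasicoherent := isQuasicoherent_of_isFinLocFree hP
  haveI := epi_pushforward_map f π
  haveI := Groth.Agent.Lib.H90EvEpi.epi_counitHom
    ((Scheme.Modules.pushforward f).obj (Coh.structureModule X)) M (exists_isBasis_succ f hA)
  refine ⟨(Scheme.Modules.pushforward f).obj P,
    (Scheme.Modules.pushforward f).map π ≫ (pushPullIso f _).inv ≫ (braiding _ _).hom ≫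
      Groth.Agent.Lib.SheafHom23.counitHom _ M,
    Groth.Agent.Lib.H90PushLocFree.isFinLocFree_pushforward f hf P hP, ?_⟩
  infer_instance

end Groth.Agent.S1063
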