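import Groth.Statements.S10639
import Groth.Agent.Lib.AlgSpWhereUnr36

set_option autoImplicit false
universe u
open CategoryTheory CategoryTheory.Limits AlgebraicGeometry
open AlgSp

namespace Groth.Agent.S10639

/-- For morphisms f : X ⟶ Y, p : X ⟶ Z and q : Y ⟶ Z of algebraic spaces over S with f ≫ q = p, where p
is closed (the map on points is closed) and locally of finite type, there is an open subspace W of Z
with the following property: a morphism of algebraic spaces g : Z' ⟶ Z factors through W exactly
when the base change X' ⟶ Y' of f along g is unramified (locally of finite type and formally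
unramified, etale locally on source and target). Here the base change of f along g is any f' : X' ⟶
Y' obtained from pullback squares Y' = Y ×_Z Z' and X' = X ×_Y Y' of algebraic spaces over S, and W
⊂ Z is given as a representable open immersion w : W ⟶ Z. -/
theorem result {S : Scheme.{u}} {X Y Z : AlgSp.Space S}
    (f : X ⟶ Y) (p : X ⟶ Z) (q : Y ⟶ Z) (hc : f ≫ q = p)
    (hp1 : AlgSp.LocP @LocallyOfFiniteType p.hom) (hp2 : AlgSp.IsClosedMor p.hom) :
    ∃ (W : AlgSp.Space S) (w : W ⟶ Z), AlgSp.RepWith @IsOpenImmersion w.hom ∧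
      ∀ (Z' : AlgSp.Space S) (g : Z' ⟶ Z),
        (∃ k : Z' ⟶ W, k ≫ w = g) ↔
          ∀ (Y' : AlgSp.Space S) (gY : Y' ⟶ Y) (q' : Y' ⟶ Z'),
            IsPullback gY.hom q'.hom q.hom g.hom →
            ∀ (X' : AlgSp.Space S) (gX : X' ⟶ X) (f' : X' ⟶ Y'),
              IsPullback gX.hom f'.hom f.hom gY.hom →
                AlgSp.LocP (@LocallyOfFiniteType ⊓ @FormallyUnramified) f'.hom := by
  have hf : AlgSp.LocP @LocallyOfFiniteType f.hom := by
    apply Groth.Agent.Lib.AlgSpBasic.locP_of_comp @LocallyOfFiniteType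
      (fun A B C k l (hkl : LocallyOfFiniteType (k ≫ l)) => locallyOfFiniteType_of_comp k l)
      Z.property f.hom q.hom
    have : f.hom ≫ q.hom = p.hom := by rw [← hc]; rfl
    rw [this]; exact hp1
  have hQ := Groth.Agent.Lib.AlgSpNear91.etLocalAt_near
    Groth.Agent.Lib.AlgSpLocP.etLocalClass_lft_unramified.{u}
  have hE := Groth.Agent.Lib.AlgSpNear91.isOpen_hasAtMor_near
    (@LocallyOfFiniteType ⊓ @FormallyUnramified) f.hom
  obtain ⟨W, w, hw, hW⟩ := Groth.Agent.Lib.AlgSpWhere36.exists_where f p q hc hp2 _ hE
  refine ⟨W, w, hw, fun Z' g => ?_⟩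
  rw [hW Z' g]
  refine forall_congr' fun Y' => forall_congr' fun gY => forall_congr' fun q' =>
    forall_congr' fun sq1 => forall_congr' fun X' => forall_congr' fun gX => forall_congr' fun f' =>
    forall_congr' fun sq2 => ?_
  rw [Groth.Agent.Lib.AlgSpWhereUnr36.locP_iff_forall_hasAtMor_near
    Groth.Agent.Lib.AlgSpLocP.etLocalClass_lft_unramified.{u} X'.property Y'.property f'.hom]
  refine forall_congr' fun x' => ?_
  exact (Groth.Agent.Lib.AlgSpNear91.EtLocalAt.hasAtMor_baseChange hQ
    Groth.Agent.Lib.AlgSpNear91.unramified_near_baseChange X.property Y.property X'.property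
    Y'.property sq2 hf x').symm

end Groth.Agent.S10639
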