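import Groth.Statements.S10640
import Groth.Agent.Lib.AlgSpWhereUnr36
import Groth.Agent.Lib.AlgSpDiagUnrOpen36
import Groth.Agent.Lib.DiagBaseChange36
import Groth.Agent.Lib.AlgSpBasic3

set_option autoImplicit false
universe u
open CategoryTheory CategoryTheory.Limits AlgebraicGeometry
open AlgSp

namespace Groth.Agent.S10640

/-- For morphisms f : X ⟶ Y, p : X ⟶ Z and q : Y ⟶ Z of algebraic spaces over S with f ≫ q = p, write XX
= X ×_Y X with projections pr0, pr1, and assume that p is closed and locally of finite type and that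
the composite XX ⟶ X ⟶ Z (through pr1 and p) is closed as well. Then there is an open subspace W of
Z with the following property: a morphism of algebraic spaces g : Z' ⟶ Z factors through W exactly
when the base change X' ⟶ Y' of f along g is unramified and universally injective. Here the base
change of f along g is any f' : X' ⟶ Y' obtained from pullback squares Y' = Y ×_Z Z' and X' = X ×_Y
Y' of algebraic spaces over S, and W ⊂ Z is given as a representable open immersion w : W ⟶ Z. -/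
theorem result {S : Scheme.{u}} {X Y Z : AlgSp.Space S}
    (f : X ⟶ Y) (p : X ⟶ Z) (q : Y ⟶ Z) (hc : f ≫ q = p)
    (XX : AlgSp.Space S) (pr0 pr1 : XX ⟶ X) (hXX : IsPullback pr0.hom pr1.hom f.hom f.hom)
    (hp1 : AlgSp.LocP @LocallyOfFiniteType p.hom) (hp2 : AlgSp.IsClosedMor p.hom)
    (hp3 : AlgSp.IsClosedMor (pr1 ≫ p).hom) :
    ∃ (W : AlgSp.Space S) (w : W ⟶ Z), AlgSp.RepWith @IsOpenImmersion w.hom ∧
      ∀ (Z' : AlgSp.Space S) (g : Z' ⟶ Z),
        (∃ k : Z' ⟶ W, k ≫ w = g) ↔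
          ∀ (Y' : AlgSp.Space S) (gY : Y' ⟶ Y) (q' : Y' ⟶ Z'),
            IsPullback gY.hom q'.hom q.hom g.hom →
            ∀ (X' : AlgSp.Space S) (gX : X' ⟶ X) (f' : X' ⟶ Y'),
              IsPullback gX.hom f'.hom f.hom gY.hom →
                (AlgSp.LocP (@LocallyOfFiniteType ⊓ @FormallyUnramified) f'.hom ∧ AlgSp.IsUnivInjectiveMor f'.hom) := by
  have hpc : f.hom ≫ q.hom = p.hom := by rw [← hc]; rfl
  have hf : AlgSp.LocP @LocallyOfFiniteType f.hom := by
    apply Groth.Agent.Lib.AlgSpBasic.locP_of_comp @LocallyOfFiniteType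
      (fun A B C k l (hkl : LocallyOfFiniteType (k ≫ l)) => locallyOfFiniteType_of_comp k l)
      Z.property f.hom q.hom
    rw [hpc]; exact hp1
  have hQ := Groth.Agent.Lib.AlgSpNear91.etLocalAt_near
    Groth.Agent.Lib.AlgSpLocP.etLocalClass_lft_unramified.{u}
  -- the unramified locus
  set E : Set (AlgSp.Points X.obj) := {x | AlgSp.HasAtMor
    (fun U _ h u => ∃ W : U.Opens, u ∈ W ∧
      (@LocallyOfFiniteType ⊓ @FormallyUnramified : MorphismProperty Scheme.{u}) (W.ι ≫ h)) f.hom x}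
    with hEdef
  have hE : IsOpen E := Groth.Agent.Lib.AlgSpNear91.isOpen_hasAtMor_near
    (@LocallyOfFiniteType ⊓ @FormallyUnramified) f.hom
  -- unramifiedness of a base change is read off pointwise
  have hunr : ∀ {X' Y' : AlgSp.Space S} {gX : X' ⟶ X} {gY : Y' ⟶ Y} {f' : X' ⟶ Y'},
      IsPullback gX.hom f'.hom f.hom gY.hom →
      (AlgSp.LocP (@LocallyOfFiniteType ⊓ @FormallyUnramified) f'.hom ↔
        ∀ x' : AlgSp.Points X'.obj, AlgSp.Points.map gX.hom x' ∈ E) := by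
    intro X' Y' gX gY f' sq2
    rw [Groth.Agent.Lib.AlgSpWhereUnr36.locP_iff_forall_hasAtMor_near
      Groth.Agent.Lib.AlgSpLocP.etLocalClass_lft_unramified.{u} X'.property Y'.property f'.hom]
    refine forall_congr' fun x' => ?_
    exact Groth.Agent.Lib.AlgSpNear91.EtLocalAt.hasAtMor_baseChange hQ
      Groth.Agent.Lib.AlgSpNear91.unramified_near_baseChange X.property Y.property X'.property
      Y'.property sq2 hf x'
  -- the diagonal
  let Δ : X.obj ⟶ XX.obj := hXX.lift (𝟙 _) (𝟙 _) rfl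
  have hΔ0 : Δ ≫ pr0.hom = 𝟙 _ := hXX.lift_fst _ _ _
  have hΔ1 : Δ ≫ pr1.hom = 𝟙 _ := hXX.lift_snd _ _ _
  set G : Set (AlgSp.Points XX.obj) := AlgSp.Points.map Δ '' E with hGdef
  have hG : IsOpen G :=
    Groth.Agent.Lib.AlgSpDiagUnrOpen36.isOpen_image_diagonal_unramifiedLocus X.property Y.property
      f.hom hXX Δ hΔ0 hΔ1
  have hp3' : AlgSp.IsClosedMor (pr1.hom ≫ p.hom) := hp3
  have hC : IsClosed (AlgSp.Points.map p.hom '' Eᶜ ∪ AlgSp.Points.map (pr1.hom ≫ p.hom) '' Gᶜ) :=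
    (hp2 _ hE.isClosed_compl).union (hp3' _ hG.isClosed_compl)
  set T := AlgSp.Points.map p.hom '' Eᶜ ∪ AlgSp.Points.map (pr1.hom ≫ p.hom) '' Gᶜ with hTdef
  have hW : IsOpen Tᶜ := hC.isOpen_compl
  let W : AlgSp.Space S := ⟨Groth.Agent.Lib.H86AlgSpOpen.openSub Z.obj Tᶜ,
    Groth.Agent.Lib.H86AlgSpOpen.isAlgSpace_openSub Z.property hW⟩
  let w : W ⟶ Z := ObjectProperty.homMk (Groth.Agent.Lib.H86AlgSpOpen.openSubι Z.obj _)
  have hw : AlgSp.RepWith @IsOpenImmersion w.hom := Groth.Agent.Lib.H86AlgSpOpen.openSubι_repWith hW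
  have hrange : Set.range (AlgSp.Points.map w.hom) = Tᶜ :=
    Groth.Agent.Lib.H86AlgSpOpen.range_map_openSubι
  refine ⟨W, w, hw, fun Z' g => ?_⟩
  have hfac : (∃ k : Z' ⟶ W, k ≫ w = g) ↔
      Set.range (AlgSp.Points.map g.hom) ⊆ Set.range (AlgSp.Points.map w.hom) := by
    rw [← Groth.Agent.Lib.AlgSpGpdInv91.exists_factor_iff hw g.hom]
    constructor
    · rintro ⟨k, rfl⟩
      exact ⟨k.hom, rfl⟩
    · rintro ⟨k, hk⟩
      exact ⟨ObjectProperty.homMk k, by ext1; exact hk⟩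
  rw [hfac, hrange]
  -- the base-changed fibre square and diagonal
  have key : ∀ {X' Y' : AlgSp.Space S} {gX : X' ⟶ X} {gY : Y' ⟶ Y} {f' : X' ⟶ Y'} {q' : Y' ⟶ Z'},
      IsPullback gY.hom q'.hom q.hom g.hom → IsPullback gX.hom f'.hom f.hom gY.hom →
      ∃ gXX : pullback f'.hom f'.hom ⟶ XX.obj,
        IsPullback (pullback.diagonal f'.hom) gX.hom gXX Δ ∧
        IsPullback gXX (pullback.snd f'.hom f'.hom ≫ f'.hom ≫ q'.hom)
          (pr1.hom ≫ f.hom ≫ q.hom) g.hom := by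
    intro X' Y' gX gY f' q' sq1 sq2
    have hXX' := IsPullback.of_hasPullback f'.hom f'.hom
    have hcond : (pullback.fst f'.hom f'.hom ≫ gX.hom) ≫ f.hom =
        (pullback.snd f'.hom f'.hom ≫ gX.hom) ≫ f.hom := by
      rw [Category.assoc, Category.assoc, sq2.w, ← Category.assoc, ← Category.assoc,
        pullback.condition]
    let gXX : pullback f'.hom f'.hom ⟶ XX.obj := hXX.lift _ _ hcond
    have h0 : gXX ≫ pr0.hom = pullback.fst f'.hom f'.hom ≫ gX.hom := hXX.lift_fst _ _ _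
    have h1 : gXX ≫ pr1.hom = pullback.snd f'.hom f'.hom ≫ gX.hom := hXX.lift_snd _ _ _
    refine ⟨gXX, ?_, ?_⟩
    · exact Groth.Agent.Lib.DiagBaseChange36.isPullback_diag sq2 hXX hXX' h0 h1 hΔ0 hΔ1
        (pullback.diagonal_fst _) (pullback.diagonal_snd _)
    · exact Groth.Agent.Lib.DiagBaseChange36.isPullback_over sq1 sq2 hXX hXX' h0 h1
  constructor
  · intro hsub Y' gY q' sq1 X' gX f' sq2
    have hxE : ∀ x' : AlgSp.Points X'.obj, AlgSp.Points.map gX.hom x' ∈ E := by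
      intro x'
      by_contra hx
      have h1 : AlgSp.Points.map g.hom (AlgSp.Points.map q'.hom (AlgSp.Points.map f'.hom x')) ∈ Tᶜ :=
        hsub ⟨_, rfl⟩
      apply h1
      refine Or.inl ⟨AlgSp.Points.map gX.hom x', hx, ?_⟩
      rw [← hpc, AlgSp.Points.map_comp, ← AlgSp.Points.map_comp q'.hom, ← sq1.w,
        AlgSp.Points.map_comp, ← AlgSp.Points.map_comp f'.hom, ← sq2.w, AlgSp.Points.map_comp]
    refine ⟨(hunr sq2).2 hxE, ?_⟩
    rw [(Groth.Agent.Lib.AlgSpBasic.univInjective_tfae X'.property.diag f'.hom).2]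
    intro ξ'
    obtain ⟨gXX, sqΔ, sqO⟩ := key sq1 sq2
    have hξG : AlgSp.Points.map gXX ξ' ∈ G := by
      by_contra hξ
      have h1 : AlgSp.Points.map g.hom (AlgSp.Points.map
          (pullback.snd f'.hom f'.hom ≫ f'.hom ≫ q'.hom) ξ') ∈ Tᶜ := hsub ⟨_, rfl⟩
      apply h1
      refine Or.inr ⟨AlgSp.Points.map gXX ξ', hξ, ?_⟩
      rw [← AlgSp.Points.map_comp, ← AlgSp.Points.map_comp, ← sqO.w, hpc]
    obtain ⟨x, -, hx⟩ := hξG
    obtain ⟨x', hx', -⟩ := Groth.Agent.Lib.AlgSpPoints.exists_point_of_isPullback sqΔ ξ' x hx.symm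
    exact ⟨x', hx'⟩
  · intro h
    obtain ⟨Y', gY, q', X', gX, f', sq1, sq2⟩ :=
      Groth.Agent.Lib.AlgSpWhere36.exists_double_baseChange f q g
    obtain ⟨hun, hinj⟩ := h Y' gY q' sq1 X' gX f' sq2
    have hxE := (hunr sq2).1 hun
    rw [(Groth.Agent.Lib.AlgSpBasic.univInjective_tfae X'.property.diag f'.hom).2] at hinj
    obtain ⟨gXX, sqΔ, sqO⟩ := key sq1 sq2
    rintro _ ⟨z', rfl⟩ (⟨x, hx, hxz⟩ | ⟨ξ, hξ, hξz⟩)
    · have e1 : AlgSp.Points.map q.hom (AlgSp.Points.map f.hom x) = AlgSp.Points.map g.hom z' := by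
        rw [← AlgSp.Points.map_comp, hpc]; exact hxz
      obtain ⟨y', hy'1, -⟩ := Groth.Agent.Lib.AlgSpPoints.exists_point_of_isPullback sq1 _ _ e1
      obtain ⟨x', hx'1, -⟩ :=
        Groth.Agent.Lib.AlgSpPoints.exists_point_of_isPullback sq2 x y' hy'1.symm
      exact hx (hx'1 ▸ hxE x')
    · have e1 : AlgSp.Points.map (pr1.hom ≫ f.hom ≫ q.hom) ξ = AlgSp.Points.map g.hom z' := by
        rw [hpc]; exact hξz
      obtain ⟨ξ', hξ'1, -⟩ := Groth.Agent.Lib.AlgSpPoints.exists_point_of_isPullback sqO ξ z' e1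
      obtain ⟨x', hx'⟩ := hinj ξ'
      apply hξ
      refine ⟨AlgSp.Points.map gX.hom x', hxE x', ?_⟩
      rw [← AlgSp.Points.map_comp, ← sqΔ.w, AlgSp.Points.map_comp, hx', hξ'1]

end Groth.Agent.S10640
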