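import Groth.Statements.S10641
import Groth.Agent.S10640
import Groth.Agent.Lib.AlgSpClosedImm36

set_option autoImplicit false
universe u
open CategoryTheory CategoryTheory.Limits AlgebraicGeometry
open AlgSp

namespace Groth.Agent.S10641

/-- For morphisms f : X ⟶ Y, p : X ⟶ Z and q : Y ⟶ Z of algebraic spaces over S with f ≫ q = p, where p
is universally closed and locally of finite type and q is separated, there is an open subspace W of
Z with the following property: a morphism of algebraic spaces g : Z' ⟶ Z factors through W exactly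
when the base change X' ⟶ Y' of f along g is a closed immersion (representable, and a closed
immersion on every represented pullback). Here the base change of f along g is any f' : X' ⟶ Y'
obtained from pullback squares Y' = Y ×_Z Z' and X' = X ×_Y Y' of algebraic spaces over S, and W ⊂ Z
is given as a representable open immersion w : W ⟶ Z. -/
theorem result {S : Scheme.{u}} {X Y Z : AlgSp.Space S}
    (f : X ⟶ Y) (p : X ⟶ Z) (q : Y ⟶ Z) (hc : f ≫ q = p)
    (hp1 : AlgSp.LocP @LocallyOfFiniteType p.hom) (hp2 : AlgSp.IsUnivClosedMor p.hom)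
    (hq : AlgSp.IsSeparatedMor q.hom) :
    ∃ (W : AlgSp.Space S) (w : W ⟶ Z), AlgSp.RepWith @IsOpenImmersion w.hom ∧
      ∀ (Z' : AlgSp.Space S) (g : Z' ⟶ Z),
        (∃ k : Z' ⟶ W, k ≫ w = g) ↔
          ∀ (Y' : AlgSp.Space S) (gY : Y' ⟶ Y) (q' : Y' ⟶ Z'),
            IsPullback gY.hom q'.hom q.hom g.hom →
            ∀ (X' : AlgSp.Space S) (gX : X' ⟶ X) (f' : X' ⟶ Y'),
              IsPullback gX.hom f'.hom f.hom gY.hom →
                AlgSp.RepWith @IsClosedImmersion f'.hom := by
  have hpc : f.hom ≫ q.hom = p.hom := by rw [← hc]; rfl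
  have hfuc : AlgSp.IsUnivClosedMor f.hom :=
    Groth.Agent.Lib.AlgSpProper.isUnivClosedMor_of_comp X.property Y.property Z.property hq
      (by rw [hpc]; exact hp2)
  have sqXX := IsPullback.of_hasPullback f.hom f.hom
  have hXXalg : AlgSp.IsAlgSpace (pullback f.hom f.hom) :=
    Groth.Agent.Lib.AlgSpFibre.isAlgSpace_of_isPullback Y.property.diag X.property X.property sqXX
  let XX : AlgSp.Space S := ⟨pullback f.hom f.hom, hXXalg⟩
  let pr0 : XX ⟶ X := ObjectProperty.homMk (pullback.fst f.hom f.hom)
  let pr1 : XX ⟶ X := ObjectProperty.homMk (pullback.snd f.hom f.hom)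
  have hXX : IsPullback pr0.hom pr1.hom f.hom f.hom := sqXX
  have hp2' : AlgSp.IsClosedMor p.hom :=
    Groth.Agent.Lib.AlgSpProper.isClosedMor_of_isUnivClosedMor Z.property hp2
  have hpr1 : AlgSp.IsClosedMor pr1.hom :=
    Groth.Agent.Lib.AlgSpProper.isClosedMor_of_isUnivClosedMor X.property
      (Groth.Agent.Lib.AlgSpDescent.univSp_of_isPullback sqXX hfuc)
  have hp3 : AlgSp.IsClosedMor (pr1 ≫ p).hom := by
    change IsClosedMap (AlgSp.Points.map (pr1.hom ≫ p.hom))
    have e : AlgSp.Points.map (pr1.hom ≫ p.hom) =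
        AlgSp.Points.map p.hom ∘ AlgSp.Points.map pr1.hom := by
      funext x
      rw [Function.comp_apply, ← AlgSp.Points.map_comp]
    rw [e]
    exact IsClosedMap.comp hp2' hpr1
  obtain ⟨W, w, hw, hW⟩ := Groth.Agent.S10640.result f p q hc XX pr0 pr1 hXX hp1 hp2' hp3
  refine ⟨W, w, hw, fun Z' g => ?_⟩
  rw [hW Z' g]
  refine forall_congr' fun Y' => forall_congr' fun gY => forall_congr' fun q' =>
    forall_congr' fun sq1 => forall_congr' fun X' => forall_congr' fun gX => forall_congr' fun f' =>
    forall_congr' fun sq2 => ?_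
  have huc' : AlgSp.IsUnivClosedMor f'.hom :=
    Groth.Agent.Lib.AlgSpDescent.univSp_of_isPullback sq2 hfuc
  exact (Groth.Agent.Lib.AlgSpClosedImm36.repWith_isClosedImmersion_iff X'.property Y'.property
    f'.hom huc').symm

end Groth.Agent.S10641
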