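import Groth.Statements.S10642
import Groth.Agent.Lib.AlgSpFlatAt36
import Groth.Agent.Lib.AlgSpWhere36
import Groth.Agent.S9959

set_option autoImplicit false
universe u
open CategoryTheory CategoryTheory.Limits AlgebraicGeometry
open AlgSp

namespace Groth.Agent.S10642

/-- For morphisms f : X ⟶ Y, p : X ⟶ Z and q : Y ⟶ Z of algebraic spaces over S with f ≫ q = p, where p
is flat, closed and locally of finite presentation and q is locally of finite type, there is an open
subspace W of Z with the following property: a morphism of algebraic spaces g : Z' ⟶ Z factors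
through W exactly when the base change X' ⟶ Y' of f along g is flat. Here the base change of f along
g is any f' : X' ⟶ Y' obtained from pullback squares Y' = Y ×_Z Z' and X' = X ×_Y Y' of algebraic
spaces over S, and W ⊂ Z is given as a representable open immersion w : W ⟶ Z. -/
theorem result {S : Scheme.{u}} {X Y Z : AlgSp.Space S}
    (f : X ⟶ Y) (p : X ⟶ Z) (q : Y ⟶ Z) (hc : f ≫ q = p)
    (hp1 : AlgSp.LocP @LocallyOfFinitePresentation p.hom) (hp2 : AlgSp.LocP @Flat p.hom)
    (hp3 : AlgSp.IsClosedMor p.hom) (hq : AlgSp.LocP @LocallyOfFiniteType q.hom) :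
    ∃ (W : AlgSp.Space S) (w : W ⟶ Z), AlgSp.RepWith @IsOpenImmersion w.hom ∧
      ∀ (Z' : AlgSp.Space S) (g : Z' ⟶ Z),
        (∃ k : Z' ⟶ W, k ≫ w = g) ↔
          ∀ (Y' : AlgSp.Space S) (gY : Y' ⟶ Y) (q' : Y' ⟶ Z'),
            IsPullback gY.hom q'.hom q.hom g.hom →
            ∀ (X' : AlgSp.Space S) (gX : X' ⟶ X) (f' : X' ⟶ Y'),
              IsPullback gX.hom f'.hom f.hom gY.hom →
                AlgSp.LocP @Flat f'.hom := by
  have hpc : (f ≫ q).hom = p.hom := by rw [hc]
  have hfp : AlgSp.LocP @LocallyOfFinitePresentation (f ≫ q).hom := by rw [hpc]; exact hp1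
  have hfl : AlgSp.LocP @Flat (f ≫ q).hom := by rw [hpc]; exact hp2
  have hf : AlgSp.LocP @LocallyOfFinitePresentation f.hom := Groth.Agent.S9959.result f q hfp hq
  have hE := Groth.Agent.Lib.AlgSpFlatAt36.isOpen_isFlatAtMor X.property Y.property f.hom hf
  obtain ⟨W, w, hw, hW⟩ := Groth.Agent.Lib.AlgSpWhere36.exists_where f p q hc hp3 _ hE
  refine ⟨W, w, hw, fun Z' g => ?_⟩
  rw [hW Z' g]
  refine forall_congr' fun Y' => forall_congr' fun gY => forall_congr' fun q' =>
    forall_congr' fun sq1 => forall_congr' fun X' => forall_congr' fun gX => forall_congr' fun f' =>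
    forall_congr' fun sq2 => ?_
  have key : ∀ x' : AlgSp.Points X'.obj, AlgSp.IsFlatAtMor f'.hom x' ↔
      AlgSp.IsFlatAtMor f.hom (AlgSp.Points.map gX.hom x') := fun x' =>
    Groth.Agent.Lib.AlgSpFlatAt36.isFlatAtMor_baseChange_iff X.property Y.property Z.property
      Z'.property f.hom q.hom hfp hfl hq sq1 sq2 x'
  constructor
  · intro h U V a b k ha hb comm
    exact Flat.of_stalkMap _ fun u => (key _).2 (h _) a b k u ha hb comm rfl
  · intro h x'
    refine (key x').1 ?_
    intro U V a b k u ha hb comm _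
    have : Flat k.left := h a b k ha hb comm
    exact Flat.stalkMap k.left u

end Groth.Agent.S10642
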