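import Groth.Statements.S10649
import Groth.Agent.Lib.DiscreteFibreLqf46
import Groth.Agent.S10271

set_option autoImplicit false
universe u
open CategoryTheory CategoryTheory.Limits AlgebraicGeometry
open AlgSp

namespace Groth.Agent.S10649

/-- The following conditions on a morphism f : X ⟶ Y of algebraic spaces over S are equivalent: (1)
finiteness of f; (2) f is locally quasi-finite as well as proper (locally quasi-finite and locally
of finite type etale locally); (3) f is proper and for every field k and every k-point Spec k ⟶ Y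
the fibre X_k (any pullback of f along it in fppf sheaves) has discrete space of points; (4) f is
universally closed, separated and locally of finite type, and every such fibre X_k has discrete
space of points. -/
theorem result {S : Scheme.{u}} {X Y : AlgSp.Space S} (f : X ⟶ Y) :
    [AlgSp.IsFiniteMor f.hom,
      AlgSp.IsProperMor f.hom ∧ AlgSp.LocP (@LocallyQuasiFinite ⊓ @LocallyOfFiniteType) f.hom,
      AlgSp.IsProperMor f.hom ∧
        ∀ (k : AlgSp.FieldPt Y.obj) (Xk : AlgSp.Sp S) (fst : Xk ⟶ X.obj) (snd : Xk ⟶ (AlgSp.yon S).obj k.pt),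
          IsPullback fst snd f.hom k.toHom → DiscreteTopology (AlgSp.Points Xk),
      AlgSp.IsUnivClosedMor f.hom ∧ AlgSp.IsSeparatedMor f.hom ∧ AlgSp.LocP @LocallyOfFiniteType f.hom ∧
        ∀ (k : AlgSp.FieldPt Y.obj) (Xk : AlgSp.Sp S) (fst : Xk ⟶ X.obj) (snd : Xk ⟶ (AlgSp.yon S).obj k.pt),
          IsPullback fst snd f.hom k.toHom → DiscreteTopology (AlgSp.Points Xk)].TFAE := by

  have hX := X.property
  have hY := Y.property
  -- fibres
  have fibre_alg : ∀ (k : AlgSp.FieldPt Y.obj) (Xk : AlgSp.Sp S) (fst : Xk ⟶ X.obj)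
      (snd : Xk ⟶ (AlgSp.yon S).obj k.pt), IsPullback fst snd f.hom k.toHom → AlgSp.IsAlgSpace Xk :=
    fun k Xk fst snd sq => Groth.Agent.Lib.AlgSpBasic.isAlgSpace_of_isPullback hX (AlgSp.IsAlgSpace.yon_obj _)
      (fun U a => hY.representable_from_yon a) sq
  tfae_have 1 → 2 := by
    intro h
    refine ⟨((Groth.Agent.S10271.result f).1 h).2, ?_⟩
    have h1 : AlgSp.RepWith @IsFinite f.hom := (Groth.Agent.Lib.H86ZarGlue.isFiniteMor_iff_repWith _).1 h
    have h2 : AlgSp.RepWith (@LocallyQuasiFinite ⊓ @LocallyOfFiniteType) f.hom :=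
      Groth.Agent.Lib.AlgSpBasic.repWith_mono
        (fun _ _ g (hg : IsFinite g) => ⟨(inferInstance : LocallyQuasiFinite g),
          (inferInstance : LocallyOfFiniteType g)⟩) h1
    exact Groth.Agent.Lib.AlgSpBasic.locP_of_repWith _ Groth.Agent.Lib.AlgSpLocP.etLocalClass_lqf_lft.pre
      (fun U a => hX.representable_from_yon a) h2
  tfae_have 2 → 3 := by
    rintro ⟨hp, hqf⟩
    refine ⟨hp, fun k Xk fst snd sq => ?_⟩
    have hXk := fibre_alg k Xk fst snd sq
    have hk : AlgSp.IsAlgSpace ((AlgSp.yon S).obj k.pt) := AlgSp.IsAlgSpace.yon_obj _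
    have hsep' : AlgSp.IsSeparatedMor snd := Groth.Agent.Lib.AlgSpProper.isSeparatedMor_of_isPullback sq hp.1
    have hqf' : AlgSp.LocP (@LocallyQuasiFinite ⊓ @LocallyOfFiniteType) snd :=
      Groth.Agent.Lib.AlgSpLocP.locP_of_isPullback Groth.Agent.Lib.AlgSpLocP.etLocalClass_lqf_lft hX hY hk sq hqf
    obtain ⟨T, ⟨r⟩⟩ := Groth.Agent.Lib.SepLqfRep46.isRepresentable_of_sep_lqf hXk snd hsep' hqf'
    let e := AlgSp.isoOfRepresentableBy r
    obtain ⟨ζ, hζ⟩ := (AlgSp.yon S).map_surjective (e.hom ≫ snd)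
    have hζP : (@LocallyQuasiFinite ⊓ @LocallyOfFiniteType) ζ.left :=
      hqf' e.hom (𝟙 _) ζ (MorphismProperty.of_isIso (AlgSp.RepWith (S := S) @Etale) _) (AlgSp.repWith_id _ _)
        (by rw [hζ, Category.comp_id])
    have : LocallyQuasiFinite ζ.left := hζP.1
    have hT : DiscreteTopology ↥T.left := by
      have hsub : Subsingleton ↥(Spec (CommRingCat.of k.K)) :=
        inferInstanceAs (Subsingleton (PrimeSpectrum k.K))
      by_cases hne : Nonempty ↥T.left
      · obtain ⟨t₀⟩ := hne
        have h1 : _root_.IsDiscrete (ζ.left ⁻¹' {ζ.left t₀}) := ζ.left.isDiscrete_preimage_singleton _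
        have h2 : ζ.left ⁻¹' {ζ.left t₀} = Set.univ := by
          ext t
          simp only [Set.mem_preimage, Set.mem_singleton_iff, Set.mem_univ, iff_true]
          exact Subsingleton.elim (α := ↥(Spec (CommRingCat.of k.K))) _ _
        rw [h2] at h1
        exact isDiscrete_univ_iff.1 h1
      · have : IsEmpty ↥T.left := not_nonempty_iff.1 hne
        exact ⟨Subsingleton.elim _ _⟩
    refine DiscreteTopology.of_continuous_injective (f := fun p => AlgSp.Points.toScheme T (AlgSp.Points.map e.inv p))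
      ((AlgSp.Points.schemeHomeo T).symm.continuous.comp (AlgSp.Points.continuous_map e.inv)) ?_
    intro p p' hpp
    have h1 := (AlgSp.Points.schemeEquiv T).symm.injective hpp
    have h2 := congrArg (AlgSp.Points.map e.hom) h1
    rwa [← AlgSp.Points.map_comp, ← AlgSp.Points.map_comp, Iso.inv_hom_id, AlgSp.Points.map_id,
      AlgSp.Points.map_id] at h2
  tfae_have 3 → 4 := by
    rintro ⟨hp, hd⟩
    exact ⟨hp.2.2, hp.1, hp.2.1.1, hd⟩
  tfae_have 4 → 1 := by
    rintro ⟨huc, hsep, hlft, hd⟩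
    refine Groth.Agent.Lib.ProperLqfFinite46.isFiniteMor_of_sep_univClosed_lqf hX hY f.hom hsep huc ?_
    rw [Groth.Agent.Lib.AlgSpPtwise91.pointwiseBC_lqf.locP_iff hX hY f.hom hlft]
    intro x
    obtain ⟨k, hk⟩ := AlgSp.Points.mk_surjective (AlgSp.Points.map f.hom x)
    have sq := IsPullback.of_hasPullback f.hom k.toHom
    have hXk := fibre_alg k _ _ _ sq
    have hka : AlgSp.IsAlgSpace ((AlgSp.yon S).obj k.pt) := AlgSp.IsAlgSpace.yon_obj _
    have hdisc := hd k _ _ _ sq
    have hsep' : AlgSp.IsSeparatedMor (pullback.snd f.hom k.toHom) :=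
      Groth.Agent.Lib.AlgSpProper.isSeparatedMor_of_isPullback sq hsep
    have hlft' : AlgSp.LocP @LocallyOfFiniteType (pullback.snd f.hom k.toHom) :=
      Groth.Agent.Lib.AlgSpLocP.locP_of_isPullback Groth.Agent.Lib.AlgSpLocP.etLocalClass_lft hX hY hka sq hlft
    have : IsAffine k.pt.left := inferInstanceAs (IsAffine (Spec (CommRingCat.of k.K)))
    have hqf' := Groth.Agent.Lib.DiscreteFibreLqf46.locP_lqf_of_locally_finite_points hXk
      (pullback.snd f.hom k.toHom) hsep' hlft'
      (fun z => ⟨{z}, isOpen_discrete _, rfl, Set.finite_singleton z⟩)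
    obtain ⟨xk, hxk, -⟩ := Groth.Agent.Lib.AlgSpPoints.exists_of_isPullback sq x
      (AlgSp.Points.ofScheme k.pt (IsLocalRing.closedPoint k.K)) (by
        rw [← AlgSp.Points.ofPt_eq_map_ofScheme, AlgSp.Points.ofPt_toHom, hk])
    have h1 := (Groth.Agent.Lib.AlgSpPtwise91.pointwiseBC_lqf.locP_iff hXk hka _ hlft').1 hqf' xk
    rw [Groth.Agent.Lib.AlgSpPtwise91.pointwiseBC_lqf.baseChange hX hY hXk hka sq hlft xk, hxk] at h1
    exact h1
  tfae_finish

end Groth.Agent.S10649
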