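import Groth.Statements.S10654
import Groth.Agent.Lib.AlgSpLqfDense36
import Groth.Agent.Lib.ProperLqfFinite46
import Groth.Agent.Lib.H86ZarLocBase

set_option autoImplicit false
universe u
open CategoryTheory CategoryTheory.Limits AlgebraicGeometry
open AlgSp

namespace Groth.Agent.S10654

/-- For a flat proper morphism f : X ⟶ Y of algebraic spaces over S and an open subspace j : V ⟶ Y with
|V| dense in |Y| such that the base change X ×_Y V ⟶ V is finite: f is finite over all of Y,
provided either j is quasi-compact or f is locally of finite presentation. -/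
theorem result {S : Scheme.{u}} {X Y V : AlgSp.Space S} (f : X ⟶ Y) (j : V ⟶ Y)
    (hf1 : AlgSp.LocP @Flat f.hom) (hf2 : AlgSp.IsProperMor f.hom)
    (hj1 : AlgSp.RepWith @IsOpenImmersion j.hom) (hj2 : Dense (Set.range (AlgSp.Points.map j.hom)))
    (P : AlgSp.Space S) (fst : P ⟶ X) (snd : P ⟶ V) (hP : IsPullback fst.hom snd.hom f.hom j.hom)
    (hV : AlgSp.IsFiniteMor snd.hom)
    (h : AlgSp.LocP @LocallyOfFinitePresentation f.hom ∨ AlgSp.IsQuasiCompactMor j.hom) :
    AlgSp.IsFiniteMor f.hom := by
  obtain ⟨hsep, ⟨hlft, -⟩, huc⟩ := hf2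
  have hrepf : AlgSp.RepWith @IsFinite snd.hom :=
    (Groth.Agent.Lib.H86ZarGlue.isFiniteMor_iff_repWith snd.hom).1 hV
  have hqf : AlgSp.LocP (@LocallyQuasiFinite ⊓ @LocallyOfFiniteType) snd.hom := by
    refine Groth.Agent.Lib.AlgSpBasic.locP_of_repWith _
      Groth.Agent.Lib.AlgSpLocP.etLocalClass_lqf_lft.pre
      (fun _ c => P.property.representable_from_yon c)
      (Groth.Agent.Lib.AlgSpBasic.repWith_mono ?_ hrepf)
    intro A B g hg
    have : IsFinite g := hg
    exact ⟨inferInstance, inferInstance⟩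
  have hlqf := Groth.Agent.Lib.AlgSpLqfDense36.locP_lqf_of_dense_open X.property Y.property
    V.property P.property f.hom j.hom hj1 hj2 hP hf1 hlft hqf h
  exact Groth.Agent.Lib.ProperLqfFinite46.isFiniteMor_of_sep_univClosed_lqf X.property Y.property
    f.hom hsep huc hlqf

end Groth.Agent.S10654
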