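import Groth.Statements.S10655
import Groth.Agent.Lib.AlgSpLqfDense36
import Groth.Agent.Lib.ProperLqfFinite46
import Groth.Agent.Lib.SchDense68
import Groth.Agent.S0449

set_option autoImplicit false
universe u
open CategoryTheory CategoryTheory.Limits AlgebraicGeometry
open AlgSp

namespace Groth.Agent.S10655

/-- For a separated flat morphism f : X ⟶ Y of algebraic spaces over S which is locally of finite type,
and an open subspace j : V ⟶ Y which is quasi-compact and scheme theoretically dense (on some etale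
surjective scheme chart its inverse image is a schematically dense open): if the base change X ×_Y V
⟶ V is an isomorphism then f is a representable open immersion. -/
theorem result {S : Scheme.{u}} {X Y V : AlgSp.Space S} (f : X ⟶ Y) (j : V ⟶ Y)
    (hf1 : AlgSp.IsSeparatedMor f.hom) (hf2 : AlgSp.LocP @LocallyOfFiniteType f.hom) (hf3 : AlgSp.LocP @Flat f.hom)
    (hj1 : AlgSp.IsQuasiCompactMor j.hom) (hj2 : AlgSp.IsSchDense j.hom)
    (P : AlgSp.Space S) (fst : P ⟶ X) (snd : P ⟶ V) (hP : IsPullback fst.hom snd.hom f.hom j.hom)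
    (hV : IsIso snd.hom) :
    AlgSp.RepWith @IsOpenImmersion f.hom := by
  obtain ⟨hjo, V₀, φ, W, fstW, hφe, hφs, sqW, hWd⟩ := hj2
  -- quasi-compactness and density of `W`
  have hjq : AlgSp.RepWith @QuasiCompact j.hom :=
    Groth.Agent.Lib.AlgSpQC.repWith_quasiCompact_of_isQuasiCompactMor hjo.rep hj1
  have hWqc : QuasiCompact W.ι := hjq.property φ fstW _ sqW
  have hWdom : IsSchemeTheoreticallyDominant W.ι :=
    Groth.Agent.Lib.SchDense68.isSchemeTheoreticallyDominant_ι W hWd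
  have hWdense : DenseRange W.ι := W.ι.denseRange
  have hφsurj : Function.Surjective (AlgSp.Points.ofPt φ) :=
    Groth.Agent.Lib.H86AlgSpPoints.ofPt_surjective hφs
  have hdense : Dense (Set.range (AlgSp.Points.map j.hom)) := by
    have h1 : DenseRange (AlgSp.Points.ofPt φ ∘ W.ι) :=
      hφsurj.denseRange.comp hWdense (AlgSp.Points.continuous_ofPt φ)
    refine h1.mono ?_
    rintro _ ⟨w, rfl⟩
    refine ⟨AlgSp.Points.ofPt fstW w, ?_⟩
    rw [AlgSp.Points.map_ofPt, sqW.w, Groth.Agent.Lib.AlgSpPoints.ofPt_yon_map_comp]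
    rfl
  -- `snd` is locally quasi-finite
  have hsndrep : AlgSp.RepWith (@LocallyQuasiFinite ⊓ @LocallyOfFiniteType) snd.hom := by
    rw [Groth.Agent.Lib.AlgSpBasic.repWith_inf_iff]
    exact ⟨MorphismProperty.of_isIso (AlgSp.RepWith (S := S) @LocallyQuasiFinite) snd.hom,
      MorphismProperty.of_isIso (AlgSp.RepWith (S := S) @LocallyOfFiniteType) snd.hom⟩
  have hqf : AlgSp.LocP (@LocallyQuasiFinite ⊓ @LocallyOfFiniteType) snd.hom :=
    Groth.Agent.Lib.AlgSpBasic.locP_of_repWith _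
      Groth.Agent.Lib.AlgSpLocP.etLocalClass_lqf_lft.pre
      (fun _ c => P.property.representable_from_yon c) hsndrep
  have hlqf := Groth.Agent.Lib.AlgSpLqfDense36.locP_lqf_of_dense_open X.property Y.property
    V.property P.property f.hom j.hom hjo hdense hP hf3 hf2 hqf (Or.inr hj1)
  have hrep : AlgSp.Representable f.hom :=
    Groth.Agent.Lib.ProperLqfFinite46.representable_of_sep_lqf X.property Y.property f.hom hlqf hf1
  -- base change to the chart `V₀`
  have sq₀ := hrep.isPullback φ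
  set f₀ := hrep.snd φ with hf₀
  set a := hrep.fst φ with ha
  have hV₀ : AlgSp.IsAlgSpace ((AlgSp.yon S).obj V₀) := AlgSp.IsAlgSpace.yon_obj V₀
  have h1 : AlgSp.IsSeparatedMor ((AlgSp.yon S).map f₀) :=
    Groth.Agent.Lib.AlgSpProper.isSeparatedMor_of_isPullback sq₀ hf1
  have : IsSeparated f₀.left :=
    ⟨(Groth.Agent.Lib.AlgSpUnram.repWith_diagonal_yon_map_iff _ f₀).1 h1⟩
  have : LocallyOfFiniteType f₀.left :=
    AlgSp.locP_yon_map (Groth.Agent.Lib.AlgSpLocP.locP_of_isPullback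
      Groth.Agent.Lib.AlgSpLocP.etLocalClass_lft X.property Y.property hV₀ sq₀ hf2)
  have : Flat f₀.left :=
    AlgSp.locP_yon_map (Groth.Agent.Lib.AlgSpLocP.locP_of_isPullback
      Groth.Agent.Lib.AlgSpLocP.etLocalClass_flat X.property Y.property hV₀ sq₀ hf3)
  -- the restriction over `W` is an isomorphism
  have hiso : IsIso (f₀.left ∣_ W) := by
    have H := isPullback_morphismRestrict f₀.left W
    have hw := Groth.Agent.Lib.AlgSpQC.isPullback_w_over f₀ _ _ _ H
    have H' := Groth.Agent.Lib.AlgSpQC.isPullback_yon_overMk f₀ _ _ _ H hw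
    have big := H'.paste_horiz sq₀
    rw [← sqW.w] at big
    have hcomm : ((AlgSp.yon S).map (Over.homMk (f₀.left ⁻¹ᵁ W).ι rfl :
        Over.mk ((f₀.left ⁻¹ᵁ W).ι ≫ (hrep.pullback φ).hom) ⟶ hrep.pullback φ) ≫ a) ≫ f.hom =
        ((AlgSp.yon S).map (Over.homMk (f₀.left ∣_ W) hw :
          Over.mk ((f₀.left ⁻¹ᵁ W).ι ≫ (hrep.pullback φ).hom) ⟶ Over.mk (W.ι ≫ V₀.hom)) ≫ fstW) ≫
          j.hom := by
      rw [Category.assoc, Category.assoc]
      exact big.w
    have sqL := IsPullback.of_right (by rw [hP.lift_fst]; exact big) (hP.lift_snd _ _ hcomm) hP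
    have i1 : IsIso ((AlgSp.yon S).map (Over.homMk (f₀.left ∣_ W) hw :
        Over.mk ((f₀.left ⁻¹ᵁ W).ι ≫ (hrep.pullback φ).hom) ⟶ Over.mk (W.ι ≫ V₀.hom))) :=
      sqL.isIso_snd_of_isIso
    have i2 : IsIso (Over.homMk (f₀.left ∣_ W) hw :
        Over.mk ((f₀.left ⁻¹ᵁ W).ι ≫ (hrep.pullback φ).hom) ⟶ Over.mk (W.ι ≫ V₀.hom)) :=
      isIso_of_reflects_iso _ (AlgSp.yon S)
    exact (inferInstance : IsIso ((Over.forget S).map (Over.homMk (f₀.left ∣_ W) hw :
        Over.mk ((f₀.left ⁻¹ᵁ W).ι ≫ (hrep.pullback φ).hom) ⟶ Over.mk (W.ι ≫ V₀.hom))))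
  have hoi : IsOpenImmersion f₀.left := Groth.Agent.S0449.result f₀.left W
  exact Groth.Agent.Lib.AlgSpBasic.repWith_of_fppfCov @IsOpenImmersion hrep
    (Groth.Agent.Lib.AlgSpBasic.repWith_fppfCov_of_etale_surjective hφe hφs) sq₀
    ((AlgSp.repWith_yon_map_iff _ _).2 hoi)

end Groth.Agent.S10655
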