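import Groth.Statements.S7505
import Groth.Agent.Lib.GrpdConj

set_option autoImplicit false
universe u
open CategoryTheory CategoryTheory.Limits AlgebraicGeometry
open Grpd

namespace Groth.Agent.S7505
open Groth.Agent.Lib.GrpdConj

section Local

variable {P Q : MorphismProperty Scheme.{u}} [P.IsLocalAtTarget (Scheme.precoverage Q)]

/-- base change of `P` along a `Q`-morphism -/
theorem baseChange_of_mem (hid : ∀ B : Scheme.{u}, Q (𝟙 B)) {X Y V Y' : Scheme.{u}} {f : Y ⟶ X}
    {g : V ⟶ X} (hg : Q g) {fst : Y' ⟶ Y} {snd : Y' ⟶ V} (h : IsPullback fst snd f g) (hf : P f) :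
    P snd := by
  let 𝒰 : X.Cover (Scheme.precoverage Q) :=
    Scheme.Cover.mkOfCovers (Option PUnit.{1}) (fun o => o.elim X (fun _ => V))
      (fun o => match o with
        | none => 𝟙 X
        | some _ => g)
      (fun x => ⟨none, x, rfl⟩)
      (fun o => match o with
        | none => hid X
        | some _ => hg)
  exact MorphismProperty.IsLocalAtTarget.of_isPullback (P := P) 𝒰 (some ⟨⟩) h hf

/-- descent of `P` along a surjective `Q`-morphism -/
theorem of_surjective {X Y V Y' : Scheme.{u}} {f : Y ⟶ X}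
    {g : V ⟶ X} (hg : Q g) (hs : Surjective g) {fst : Y' ⟶ Y} {snd : Y' ⟶ V}
    (h : IsPullback fst snd f g) (hP : P snd) : P f := by
  have hR : Presieve.singleton g ∈ Scheme.precoverage Q X :=
    (Scheme.singleton_mem_precoverage_iff Q g).2 ⟨hs.surj, hg⟩
  refine MorphismProperty.IsLocalAtTarget.of_forall_pullbackSnd (P := P) hR ?_
  intro U g' _ hg'
  cases hg'
  rw [← P.cancel_left_of_respectsIso h.isoPullback.hom, h.isoPullback_hom_snd]
  exact hP

end Local

/-- The pullback of `π` along `c : T ⟶ X` factoring through the open `W` is the pullback of `π ∣_ W`. -/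
theorem exists_isPullback_restrict {Y X T : Scheme.{u}} (π : Y ⟶ X) (W : X.Opens) (c : T ⟶ X)
    (c' : T ⟶ ↑W) (hc : c' ≫ W.ι = c) :
    ∃ k : pullback c π ⟶ ↑(π ⁻¹ᵁ W), IsPullback k (pullback.fst c π) (π ∣_ W) c' := by
  have hR := isPullback_morphismRestrict π W
  -- hR : IsPullback (π ∣_ W) (π ⁻¹ᵁ W).ι W.ι π
  let k : pullback c π ⟶ ↑(π ⁻¹ᵁ W) := hR.lift (pullback.fst c π ≫ c') (pullback.snd c π) (by
    rw [Category.assoc, hc, pullback.condition])
  have hk1 : k ≫ (π ∣_ W) = pullback.fst c π ≫ c' := hR.lift_fst _ _ _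
  have hk2 : k ≫ (π ⁻¹ᵁ W).ι = pullback.snd c π := hR.lift_snd _ _ _
  refine ⟨k, ?_⟩
  have hbig : IsPullback (k ≫ (π ⁻¹ᵁ W).ι) (pullback.fst c π) π (c' ≫ W.ι) := by
    rw [hk2, hc]
    exact (IsPullback.of_hasPullback c π).flip
  exact IsPullback.of_right hbig hk1 hR.flip


section Main

variable {S : Scheme.{u}} (G : Grpd.GroupoidScheme S)

theorem preimage_t_le_preimage_s {P Q : MorphismProperty Scheme.{u}}
    [P.IsLocalAtTarget (Scheme.precoverage Q)] [Q.IsStableUnderBaseChange]
    [Q.IsStableUnderComposition] (hQimm : ∀ {A B : Scheme.{u}} (f : A ⟶ B), IsOpenImmersion f → Q f)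
    (hQopen : ∀ {A B : Scheme.{u}} (f : A ⟶ B), Q f → IsOpenMap f)
    (hs : Q G.s) (ht : Q G.t) (W : G.U.Opens) (hW : P (G.stabilizerToU ∣_ W))
    (hmax : ∀ W' : G.U.Opens, P (G.stabilizerToU ∣_ W') → W' ≤ W) : G.t ⁻¹ᵁ W ≤ G.s ⁻¹ᵁ W := by
  have hid : ∀ B : Scheme.{u}, Q (𝟙 B) := fun B => hQimm _ inferInstance
  set π := G.stabilizerToU with hπ
  set V : G.R.Opens := G.t ⁻¹ᵁ W with hV
  let W₁ : G.U.Opens := ⟨G.s '' (V : Set G.R), hQopen _ hs _ V.2⟩
  -- (1) `P` for the pullback along `V.ι ≫ t`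
  have hQt' : Q (G.t ∣_ W) :=
    Q.of_isPullback (isPullback_morphismRestrict G.t W).flip ht
  obtain ⟨kb, hkb⟩ := exists_isPullback_restrict π W (V.ι ≫ G.t) (G.t ∣_ W)
    (morphismRestrict_ι G.t W)
  have h1 : P (pullback.fst (V.ι ≫ G.t) π) := baseChange_of_mem hid hQt' hkb hW
  -- (2) conjugation
  have h2 : P (pullback.fst (V.ι ≫ G.s) π) := by
    rw [← conjIso_hom_fst V.ι (V.ι ≫ G.s) (V.ι ≫ G.t) rfl rfl, P.cancel_left_of_respectsIso]
    exact h1
  -- (3) descent along `V ⟶ W₁`
  have hrange : Set.range (V.ι ≫ G.s) ⊆ Set.range W₁.ι := by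
    rintro _ ⟨v, rfl⟩
    rw [Scheme.Opens.range_ι]
    exact ⟨V.ι v, v.2, rfl⟩
  let s' : (V : Scheme.{u}) ⟶ W₁ := IsOpenImmersion.lift W₁.ι (V.ι ≫ G.s) hrange
  have hs' : s' ≫ W₁.ι = V.ι ≫ G.s := IsOpenImmersion.lift_fac _ _ _
  have hQa : Q (V.ι ≫ G.s) := Q.comp_mem _ _ (hQimm _ inferInstance) hs
  have hQs' : Q s' := by
    have sq : IsPullback (𝟙 (V : Scheme.{u})) s' (V.ι ≫ G.s) W₁.ι :=
      IsPullback.of_horiz_isIso_mono ⟨by rw [Category.id_comp, hs']⟩
    exact Q.of_isPullback sq hQa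
  have hsurj : Surjective s' := by
    constructor
    rintro ⟨w, v, hv, rfl⟩
    refine ⟨⟨v, hv⟩, ?_⟩
    apply W₁.ι.injective
    rw [← Scheme.Hom.comp_apply, hs']
    rfl
  obtain ⟨ka, hka⟩ := exists_isPullback_restrict π W₁ (V.ι ≫ G.s) s' hs'
  have h3 : P (π ∣_ W₁) := of_surjective hQs' hsurj hka h2
  have h4 : W₁ ≤ W := hmax W₁ h3
  intro r hr
  exact h4 ⟨r, hr, rfl⟩

end Main



/-- Let (U, R, s, t, c) be a groupoid scheme over S with stabilizer group scheme G -> U, let τ be the
étale, smooth or fppf topology (given as the corresponding precoverage K), and let P be a property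
of scheme morphisms that is τ-local on the target. (The published statement also allows the syntomic
topology; this row omits it.) Assume {s : R -> U} and {t : R -> U} are τ-coverings. If W is the
largest open subscheme of U such that the restriction G_W -> W of the stabilizer has P, then W is
R-invariant: s^{-1}(W) = t^{-1}(W). (A groupoid scheme carries U, R, s, t, c, e, i over S with the
groupoid axioms on T-points; c is defined on the fibre product of s and t and sends a pair (a, b)
with s(a) = t(b) to a composed with b.) -/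
theorem result (S : Scheme.{u}) (G : Grpd.GroupoidScheme S) (K : Precoverage Scheme.{u}) (hK : K = Scheme.etalePrecoverage ∨ K = Scheme.precoverage @Smooth ∨ K = Scheme.fppfPrecoverage) (P : MorphismProperty Scheme.{u}) [P.IsLocalAtTarget K] (hs : Presieve.singleton G.s ∈ K G.U) (ht : Presieve.singleton G.t ∈ K G.U) (W : G.U.Opens) (hW : P (G.stabilizerToU ∣_ W)) (hmax : ∀ W' : G.U.Opens, P (G.stabilizerToU ∣_ W') → W' ≤ W) : G.s ⁻¹ᵁ W = G.t ⁻¹ᵁ W := by
  have key : G.t ⁻¹ᵁ W ≤ G.s ⁻¹ᵁ W := by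
    rcases hK with rfl | rfl | rfl
    · have hs' := ((Scheme.singleton_mem_precoverage_iff @Etale G.s).1 hs).2
      have ht' := ((Scheme.singleton_mem_precoverage_iff @Etale G.t).1 ht).2
      have : P.IsLocalAtTarget (Scheme.precoverage @Etale) := ‹_›
      exact preimage_t_le_preimage_s (Q := @Etale) G (fun f hf => inferInstance)
        (fun f hf => f.isOpenMap) hs' ht' W hW hmax
    · have hs' := ((Scheme.singleton_mem_precoverage_iff @Smooth G.s).1 hs).2
      have ht' := ((Scheme.singleton_mem_precoverage_iff @Smooth G.t).1 ht).2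
      exact preimage_t_le_preimage_s (Q := @Smooth) G (fun f hf => inferInstance)
        (fun f hf => f.isOpenMap) hs' ht' W hW hmax
    · have hs' := ((Scheme.singleton_mem_precoverage_iff (@Flat ⊓ @LocallyOfFinitePresentation) G.s).1 hs).2
      have ht' := ((Scheme.singleton_mem_precoverage_iff (@Flat ⊓ @LocallyOfFinitePresentation) G.t).1 ht).2
      have : P.IsLocalAtTarget (Scheme.precoverage (@Flat ⊓ @LocallyOfFinitePresentation)) := ‹_›
      exact preimage_t_le_preimage_s (Q := @Flat ⊓ @LocallyOfFinitePresentation) G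
        (fun f hf => ⟨inferInstance, inferInstance⟩)
        (fun f hf => by
          have := hf.1
          have := hf.2
          exact f.isOpenMap) hs' ht' W hW hmax
  apply le_antisymm
  · intro r hr
    have h1 : G.i r ∈ G.t ⁻¹ᵁ W := by
      change G.t (G.i r) ∈ W
      rw [Groth.Agent.Lib.GrpdBasic.i_t_pt]
      exact hr
    have h2 := key h1
    change G.s (G.i r) ∈ W at h2
    rw [Groth.Agent.Lib.GrpdBasic.i_s_pt] at h2
    exact h2
  · exact key

end Groth.Agent.S7505
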