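import Groth.Statements.S10659
import Groth.Agent.S7505
import Groth.Agent.Lib.AlgSpLocP

set_option autoImplicit false
universe u
open CategoryTheory CategoryTheory.Limits AlgebraicGeometry
open AlgSp

namespace Groth.Agent.S10659

section Helpers
variable {S : Scheme.{u}}

/-- A pullback square of representable sheaves comes from a pullback square of schemes. -/
theorem isPullback_left_of_yon {A B C D : Over S} {a : A ⟶ B} {b : A ⟶ C} {c : B ⟶ D} {d : C ⟶ D}
    (h : IsPullback ((yon S).map a) ((yon S).map b) ((yon S).map c) ((yon S).map d)) :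
    IsPullback a.left b.left c.left d.left := by
  have comm : a ≫ c = b ≫ d := (yon S).map_injective (by
    rw [Functor.map_comp, Functor.map_comp]; exact h.w)
  exact (IsPullback.of_map (yon S) comm h).map (Over.forget S)

theorem result' (P : MorphismProperty Scheme.{u}) [P.IsLocalAtTarget Scheme.etalePrecoverage]
    {X Y : Sp S} (f : X ⟶ Y) (hf : Representable f)
    {V W : Over S} (b : (yon S).obj V ⟶ Y) (hb1 : RepWith @Etale b) (hb2 : RepWith @Surjective b)
    (fst : (yon S).obj W ⟶ X) (snd : W ⟶ V)
    (sq : IsPullback fst ((yon S).map snd) f b) (hP : P snd.left) :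
    RepLocT P f := by
  have : P.IsLocalAtTarget (Scheme.precoverage @Etale) := ‹_›
  refine ⟨hf, fun V' W' b' fst' snd' hb' sq' => ?_⟩
  -- T = V ×_Y V'
  have sqT := hb1.rep.isPullback' b'
  set p1 := hb1.rep.fst' b' with hp1
  set p2 := hb1.rep.snd b' with hp2
  have hp2e : Etale p2.left := hb1.property_snd b'
  have hp2s : Surjective p2.left := hb2.property _ _ _ (hb1.rep.isPullback b')
  have hp1e : Etale p1.left :=
    (repWith_yon_map_iff _ _).1 (Groth.Agent.Lib.AlgSpBasic.repWith_fst_of_isPullback _ sqT hb')
  -- R = X ×_Y T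
  have hg₀' : (yon S).map p1 ≫ b = (yon S).map p2 ≫ b' := sqT.w
  have sqR := hf.isPullback ((yon S).map p1 ≫ b)
  set r := hf.snd ((yon S).map p1 ≫ b) with hr
  set ρ := hf.fst ((yon S).map p1 ≫ b) with hρ
  -- (i) R = W ×_V T
  have c1 : ρ ≫ f = (yon S).map (r ≫ p1) ≫ b := by
    rw [sqR.w, Functor.map_comp, Category.assoc]
  obtain ⟨l, hl⟩ := (yon S).map_surjective (sq.lift ρ ((yon S).map (r ≫ p1)) c1)
  have hl1 : (yon S).map l ≫ fst = ρ := by rw [hl]; exact sq.lift_fst _ _ _
  have hl2 : (yon S).map l ≫ (yon S).map snd = (yon S).map (r ≫ p1) := by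
    rw [hl]; exact sq.lift_snd _ _ _
  have sq1 : IsPullback ((yon S).map l) ((yon S).map r) ((yon S).map snd) ((yon S).map p1) := by
    refine IsPullback.of_right ?_ (by rw [hl2, Functor.map_comp]) sq
    rw [hl1]; exact sqR
  have sq1' := isPullback_left_of_yon sq1
  have hPr : P r.left :=
    Groth.Agent.S7505.baseChange_of_mem (P := P) (Q := @Etale) (fun B => inferInstance) hp1e sq1' hP
  -- (ii) R = W' ×_{V'} T
  have c2 : ρ ≫ f = (yon S).map (r ≫ p2) ≫ b' := by
    rw [Functor.map_comp, Category.assoc]
    exact sqR.w.trans (congrArg ((yon S).map r ≫ ·) hg₀')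
  obtain ⟨l', hl'⟩ := (yon S).map_surjective (sq'.lift ρ ((yon S).map (r ≫ p2)) c2)
  have hl1' : (yon S).map l' ≫ fst' = ρ := by rw [hl']; exact sq'.lift_fst _ _ _
  have hl2' : (yon S).map l' ≫ (yon S).map snd' = (yon S).map (r ≫ p2) := by
    rw [hl']; exact sq'.lift_snd _ _ _
  have sq2 : IsPullback ((yon S).map l') ((yon S).map r) ((yon S).map snd') ((yon S).map p2) := by
    refine IsPullback.of_right ?_ (by rw [hl2', Functor.map_comp]) sq'
    rw [hl1', ← hg₀']; exact sqR
  have sq2' := isPullback_left_of_yon sq2
  exact Groth.Agent.S7505.of_surjective (P := P) (Q := @Etale) hp2e hp2s sq2' hPr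

end Helpers

/-- For a property P of morphisms of schemes that is etale local on the target (local for the etale
precoverage) and a representable morphism f : X ⟶ Y of algebraic spaces over S: if for one scheme V
with a representable etale surjective b : h_V ⟶ Y and one pullback square of f along b with corner
h_W the projection W ⟶ V has P, then f has P etale locally on the target in the representable sense,
i.e. every such projection along every etale h_V ⟶ Y has P. (The published statement also asserts
the converse direction and that, for X and Y representable, the condition is equivalent to f having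
P; this row states only that one surjective etale chart suffices.) -/
theorem result {S : Scheme.{u}} (P : MorphismProperty Scheme.{u}) [P.IsLocalAtTarget Scheme.etalePrecoverage]
    {X Y : AlgSp.Space S} (f : X ⟶ Y) (hf : AlgSp.Representable f.hom)
    {V W : Over S} (b : (AlgSp.yon S).obj V ⟶ Y.obj) (hb1 : AlgSp.RepWith @Etale b) (hb2 : AlgSp.RepWith @Surjective b)
    (fst : (AlgSp.yon S).obj W ⟶ X.obj) (snd : W ⟶ V)
    (sq : IsPullback fst ((AlgSp.yon S).map snd) f.hom b) (hP : P snd.left) :
    AlgSp.RepLocT P f.hom := by
  exact result' P f.hom hf b hb1 hb2 fst snd sq hP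

end Groth.Agent.S10659
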