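import Groth.Statements.S8905
import Groth.Agent.S15821
import Groth.Agent.S2103
import Groth.Agent.Lib.KoszulRel2

set_option autoImplicit false
universe u
open CategoryTheory CategoryTheory.Limits AlgebraicGeometry TopologicalSpace
open SDiv

namespace Groth.Agent.S8905

/-- Let i : Z ⟶ X be an immersion of schemes. If i is a regular immersion then it is Koszul-regular; if
Koszul-regular then H_1-regular; if H_1-regular then quasi-regular. -/
theorem result {Z X : Scheme.{u}} (i : Z ⟶ X) :
    (RegImm.IsRegularImmersion RegImm.Kind.regular i → RegImm.IsRegularImmersion RegImm.Kind.koszul i) ∧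
      (RegImm.IsRegularImmersion RegImm.Kind.koszul i → RegImm.IsRegularImmersion RegImm.Kind.h1 i) ∧
      (RegImm.IsRegularImmersion RegImm.Kind.h1 i → RegImm.IsRegularImmersion RegImm.Kind.quasi i) := by
  have key : ∀ (k k' : RegImm.Kind),
      (∀ (R : Type u) [CommRing R] (rs : List R), k.Seq R rs → k'.Seq R rs) →
      RegImm.IsRegularImmersion k i → RegImm.IsRegularImmersion k' i := by
    intro k k' hkk hi
    refine ⟨hi.1, fun z => ?_⟩
    obtain ⟨U, hU, hcl, rs, hrs, hker⟩ := hi.2 z
    exact ⟨U, hU, hcl, rs, hkk _ rs hrs, hker⟩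
  refine ⟨key _ _ ?_, key _ _ ?_, key _ _ ?_⟩
  · intro R _ rs hrs
    exact (Groth.Agent.S15821.result R rs (RingTheory.Sequence.IsRegular.toIsWeaklyRegular hrs)).1
  · intro R _ rs hrs
    exact Groth.Agent.Lib.KoszulRel.isH1Regular_get_of_isKoszulRegularSeq rs hrs
  · intro R _ rs hrs
    exact Groth.Agent.S2103.result rs.get hrs

end Groth.Agent.S8905

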