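import Groth.Statements.S5003
import Groth.Agent.Lib.QuasiRegLoc
import Groth.Agent.S8905

set_option autoImplicit false
universe u
open CategoryTheory CategoryTheory.Limits AlgebraicGeometry TopologicalSpace
open Nrm16

namespace Groth.Agent.S5003

/-- Let X be a locally Noetherian scheme and j : Y ⟶ X a morphism. Then j is a regular immersion if and
only if j is a quasi-regular immersion. -/
theorem result {X Y : Scheme.{u}} [IsLocallyNoetherian X] (j : Y ⟶ X) :
    RegImm.IsRegularImmersion RegImm.Kind.regular j ↔ RegImm.IsRegularImmersion RegImm.Kind.quasi j := by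
  constructor
  · intro h
    have h8 := Groth.Agent.S8905.result j
    exact h8.2.2 (h8.2.1 (h8.1 h))
  · intro h
    have himm : IsImmersion j := h.1
    have hqc : QuasiCompact j := by
      have h1 : QuasiCompact (j.liftCoborder ≫ j.coborderRange.ι) := inferInstance
      rwa [j.liftCoborder_ι] at h1
    refine ⟨himm, fun y => ?_⟩
    obtain ⟨U, hyU, hcl, rs, hrs, hker⟩ := h.2 y
    have hN : IsNoetherianRing Γ(X, U.1) := IsLocallyNoetherian.component_noetherian U
    obtain ⟨g, hg1, hg⟩ :=
      Groth.Agent.Lib.QuasiRegLoc.exists_isWeaklyRegular_map_of_isQuasiRegular rs hrs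
    have hloc : IsLocalization.Away g Γ(X, X.basicOpen g) := U.2.isLocalization_basicOpen g
    -- `j y` lies in `D(g)`
    have hg1' : (j.app U.1).hom g = 1 := by
      have h1 : g - 1 ∈ RingHom.ker (j.app U.1).hom := by rw [hker]; exact hg1
      rw [RingHom.mem_ker, map_sub, map_one, sub_eq_zero] at h1
      exact h1
    have hpre : j ⁻¹ᵁ X.basicOpen g = j ⁻¹ᵁ U.1 := by
      rw [Scheme.preimage_basicOpen]
      have : (j.app U.1) g = 1 := hg1'
      rw [this, Scheme.basicOpen_one]
    have hyg : j y ∈ X.basicOpen g := by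
      have : y ∈ j ⁻¹ᵁ X.basicOpen g := by rw [hpre]; exact hyU
      exact this
    -- the kernel on `D(g)`
    have hker' : RingHom.ker (j.app (X.basicOpen g)).hom =
        Ideal.ofList (rs.map (algebraMap Γ(X, U.1) Γ(X, X.basicOpen g))) := by
      have h1 := j.ker.map_ideal_basicOpen U g
      rw [Scheme.Hom.ker_apply, Scheme.Hom.ker_apply, hker, Ideal.map_ofList] at h1
      exact h1.symm
    refine ⟨X.affineBasicOpen g, hyg, ?_, rs.map (algebraMap Γ(X, U.1) Γ(X, X.basicOpen g)),
      ?_, hker'⟩
    · have h1 := IsZariskiLocalAtTarget.restrict (P := @IsClosedImmersion) hcl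
        (U.1.toScheme.basicOpen (X.presheaf.map (eqToHom U.1.isOpenEmbedding_obj_top).op g))
      exact ((MorphismProperty.arrow_mk_iso_iff @IsClosedImmersion
        (morphismRestrictRestrictBasicOpen j U.1 g)).mp h1)
    · refine ⟨hg Γ(X, X.basicOpen g), ?_⟩
      intro htop
      rw [smul_eq_mul, Ideal.mul_top] at htop
      have h2 : RingHom.ker (j.app (X.basicOpen g)).hom = ⊤ := by
        rw [hker']; exact htop.symm
      have hne : Nonempty ((j ⁻¹ᵁ X.basicOpen g : Y.Opens) : Type u) := ⟨⟨y, hyg⟩⟩
      have hnt : Nontrivial Γ(Y, j ⁻¹ᵁ X.basicOpen g) :=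
        @Scheme.component_nontrivial Y (j ⁻¹ᵁ X.basicOpen g) ⟨⟨y, hyg⟩⟩
      have h3 : (1 : Γ(X, X.basicOpen g)) ∈ RingHom.ker (j.app (X.basicOpen g)).hom := by
        rw [h2]; trivial
      rw [RingHom.mem_ker, map_one] at h3
      exact one_ne_zero h3

end Groth.Agent.S5003

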