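import Groth.Statements.S10661
import Groth.Agent.S10660
import Groth.Agent.S5003
import Groth.Agent.Lib.AlgSpDecentSpec

set_option autoImplicit false
universe u
open CategoryTheory CategoryTheory.Limits AlgebraicGeometry
open AlgSp

namespace Groth.Agent.S10661

/-- For an immersion i : Z ⟶ X of algebraic spaces over S with X locally Noetherian (some etale
surjective chart is a locally Noetherian scheme), the three conditions Koszul-regular immersion,
H_1-regular immersion and quasi-regular immersion on i are equivalent. -/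
theorem result {S : Scheme.{u}} {Z X : AlgSp.Space S} (i : Z ⟶ X) (hi : AlgSp.RepWith @IsImmersion i.hom)
    (hX : AlgSp.IsLocNoethSp X.obj) :
    (AlgSp.IsRegImmMor RegImm.Kind.koszul i.hom ↔ AlgSp.IsRegImmMor RegImm.Kind.h1 i.hom) ∧
      (AlgSp.IsRegImmMor RegImm.Kind.h1 i.hom ↔ AlgSp.IsRegImmMor RegImm.Kind.quasi i.hom) := by
  have h60 := Groth.Agent.S10660.result i hi
  have hqk : AlgSp.IsRegImmMor RegImm.Kind.quasi i.hom → AlgSp.IsRegImmMor RegImm.Kind.koszul i.hom := by
    rintro ⟨hr, h1⟩
    refine ⟨hr, fun V W b fst snd hb sq => ?_⟩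
    have : IsLocallyNoetherian V.left :=
      Groth.Agent.Lib.AlgSpDecentSpec.isLocallyNoetherian_of_repWith_etale hX b hb
    exact (Groth.Agent.S8905.result snd.left).1
      ((Groth.Agent.S5003.result snd.left).mpr (h1 b fst snd hb sq))
  exact ⟨⟨h60.1, fun h => hqk (h60.2 h)⟩, ⟨h60.2, fun h => h60.1 (hqk h)⟩⟩

end Groth.Agent.S10661

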