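import Groth.Statements.S10668
-- import your own Groth.Agent.* helpers here
import Mathlib
import Groth.Agent.Lib.AlgSpKoszul83
import Groth.Agent.S9959

set_option autoImplicit false
set_option linter.style.haveILetI false
universe u
open CategoryTheory CategoryTheory.Limits AlgebraicGeometry
open AlgSp

namespace Groth.Agent.S10668

/-- For morphisms f : X ⟶ Y, p : X ⟶ Z and q : Y ⟶ Z of algebraic spaces over S with f ≫ q = p and p, q
both flat and locally of finite presentation, any morphism of algebraic spaces g : Z' ⟶ Z and any
base change f' : X' ⟶ Y' of f along g (pullback squares Y' = Y ×_Z Z', X' = X ×_Y Y'), the set of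
points of |X'| at which f' is Koszul (a local complete intersection morphism on some open subspace
through the point) is the inverse image under |X'| ⟶ |X| of the set of points at which f is Koszul.
(The published statement also records that the points at which f is Koszul form an open subspace of
X; with the open-neighbourhood form of being Koszul at a point used here that set is a union of
images of open subspaces, and this row states only its compatibility with base change.) -/
theorem result {S : Scheme.{u}} {X Y Z : AlgSp.Space S} (f : X ⟶ Y) (p : X ⟶ Z) (q : Y ⟶ Z) (hc : f ≫ q = p)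
    (hp1 : AlgSp.LocP @Flat p.hom) (hp2 : AlgSp.LocP @LocallyOfFinitePresentation p.hom)
    (hq1 : AlgSp.LocP @Flat q.hom) (hq2 : AlgSp.LocP @LocallyOfFinitePresentation q.hom)
    {Z' Y' X' : AlgSp.Space S} (g : Z' ⟶ Z) (gY : Y' ⟶ Y) (q' : Y' ⟶ Z') (hY : IsPullback gY.hom q'.hom q.hom g.hom)
    (gX : X' ⟶ X) (f' : X' ⟶ Y') (hX : IsPullback gX.hom f'.hom f.hom gY.hom) :
    {x' | AlgSp.LocPNear AlgSp.lci f'.hom x'} =
      AlgSp.Points.map gX.hom ⁻¹' {x | AlgSp.LocPNear AlgSp.lci f.hom x} := by
  subst hc
  have hq3 : AlgSp.LocP @LocallyOfFiniteType q.hom := fun _ _ a b k ha hb hc => by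
    haveI := hq2 a b k ha hb hc
    infer_instance
  have hf0 : AlgSp.LocP @LocallyOfFinitePresentation f.hom := Groth.Agent.S9959.result f q hp2 hq3
  have hf : AlgSp.LocP @LocallyOfFiniteType f.hom := fun _ _ a b k ha hb hc => by
    haveI := hf0 a b k ha hb hc
    infer_instance
  have hf' : AlgSp.LocP @LocallyOfFiniteType f'.hom :=
    Groth.Agent.Lib.AlgSpLocP.locP_of_isPullback Groth.Agent.Lib.AlgSpLocP.etLocalClass_lft
      X.property Y.property Y'.property hX hf
  ext x'
  simp only [Set.mem_ofPred_eq, Set.mem_preimage]
  exact Groth.Agent.Lib.AlgSpKoszul83.locPNear_lci_baseChange_iff X.property Y.property Z.property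
    Z'.property f.hom q.hom hp1 hp2 hq1 hq2 hY hX hf hf' x'

end Groth.Agent.S10668
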