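import Groth.Statements.S10676
import Groth.Agent.Lib.EtLocQFSpFin46

set_option autoImplicit false
universe u
open CategoryTheory CategoryTheory.Limits AlgebraicGeometry
open AlgSp

namespace Groth.Agent.S10676

/-- For a separated morphism f : X ⟶ Y of algebraic spaces over S which is locally of finite type, a
point y of |Y| and a finite set xs of points of |X| mapping to y at each of which f is quasi-finite
(some etale chart diagram through the point has top arrow locally quasi-finite and locally of finite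
type on an open neighbourhood), assuming moreover that f is quasi-compact or Y is decent: there are
an etale morphism of algebraic spaces a : U ⟶ Y and a point u of |U| over y such that for the base
change P = U ×_Y X there is an open and closed subspace V ⊂ P, finite over U, such that every point
of |V| over u maps into xs and no point of |P| outside |V| lying over u maps into xs. -/
theorem result {S : Scheme.{u}} {X Y : AlgSp.Space S} (f : X ⟶ Y) (y : AlgSp.Points Y.obj)
    (xs : Finset (AlgSp.Points X.obj)) (hxs : ∀ x ∈ xs, AlgSp.Points.map f.hom x = y)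
    (hf1 : AlgSp.LocP @LocallyOfFiniteType f.hom) (hf2 : AlgSp.IsSeparatedMor f.hom)
    (hf3 : ∀ x ∈ xs, AlgSp.HasAtMor (fun U _ h u => ∃ W : U.Opens, u ∈ W ∧ LocallyQuasiFinite (W.ι ≫ h) ∧ LocallyOfFiniteType (W.ι ≫ h)) f.hom x)
    (hf4 : AlgSp.IsQuasiCompactMor f.hom ∨ AlgSp.IsDecent Y.obj) :
    ∃ (U : AlgSp.Space S) (a : U ⟶ Y) (u : AlgSp.Points U.obj), AlgSp.IsEtaleMor a.hom ∧ AlgSp.Points.map a.hom u = y ∧
      ∀ (P : AlgSp.Space S) (prX : P ⟶ X) (prU : P ⟶ U), IsPullback prX.hom prU.hom f.hom a.hom →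
        ∃ (V : AlgSp.Space S) (jV : V ⟶ P), AlgSp.RepWith @IsOpenImmersion jV.hom ∧ AlgSp.RepWith @IsClosedImmersion jV.hom ∧
          AlgSp.IsFiniteMor (jV ≫ prU).hom ∧
          (∀ v : AlgSp.Points V.obj, AlgSp.Points.map (jV ≫ prU).hom v = u → AlgSp.Points.map (jV ≫ prX).hom v ∈ xs) ∧
          ∀ w : AlgSp.Points P.obj, w ∉ Set.range (AlgSp.Points.map jV.hom) → AlgSp.Points.map prU.hom w = u →
            AlgSp.Points.map prX.hom w ∉ xs := by
  classical
  have hX := X.property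
  have hY := Y.property
  -- an affine etale chart of `Y` through `y`
  obtain ⟨W', c', hc'e, hc's⟩ := hY.atlas
  obtain ⟨w₀', hw₀'⟩ := Groth.Agent.Lib.H86AlgSpPoints.ofPt_surjective hc's y
  obtain ⟨i, w₀, hw₀⟩ := W'.left.affineCover.exists_eq w₀'
  let W : Over S := Over.mk (W'.left.affineCover.f i ≫ W'.hom)
  let iW : W ⟶ W' := Over.homMk (W'.left.affineCover.f i) rfl
  have hWaff : IsAffine W.left := inferInstanceAs (IsAffine (W'.left.affineCover.X i))
  have hiWe : Etale iW.left := inferInstanceAs (Etale (W'.left.affineCover.f i))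
  let c : (AlgSp.yon S).obj W ⟶ Y.obj := (AlgSp.yon S).map iW ≫ c'
  have hce : AlgSp.RepWith @Etale c :=
    (AlgSp.RepWith @Etale).comp_mem _ _ ((AlgSp.repWith_yon_map_iff _ iW).2 hiWe) hc'e
  have hcw : AlgSp.Points.ofPt c (w₀ : ↥W.left) = y := by
    rw [← hw₀', ← hw₀]
    exact Groth.Agent.Lib.AlgSpPoints.ofPt_yon_map_comp iW c' w₀
  have hWa : AlgSp.IsAlgSpace ((AlgSp.yon S).obj W) := AlgSp.IsAlgSpace.yon_obj W
  have sqW := IsPullback.of_hasPullback f.hom c
  have hXWa : AlgSp.IsAlgSpace (pullback f.hom c) :=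
    Groth.Agent.Lib.AlgSpBasic.isAlgSpace_of_isPullback hX hWa (fun U a => hY.representable_from_yon a) sqW
  have hqf : ∀ x ∈ (xs : Set (AlgSp.Points X.obj)), x ∈ Groth.Agent.Lib.AlgSpQFBC91.qfLocus f.hom :=
    fun x hx => (Groth.Agent.Lib.AlgSpQFBC91.hasAtMor_opens_iff f.hom hf1 x).1 (hf3 x (Finset.mem_coe.1 hx))
  -- finiteness of the set of points of `X_W` over `xs` and `w₀`
  have hfin : {ξ : AlgSp.Points (pullback f.hom c) |
      AlgSp.Points.map (pullback.fst f.hom c) ξ ∈ (xs : Set (AlgSp.Points X.obj)) ∧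
      AlgSp.Points.map (pullback.snd f.hom c) ξ = AlgSp.Points.ofScheme W w₀}.Finite := by
    rcases hf4 with hqc | hdec
    · refine (Groth.Agent.Lib.EtLocQFSpFin46.finite_qf_fibre_of_quasiCompact f.hom
        (fun {W₁} c₁ _ => Groth.Agent.Lib.AlgSpLocP.locP_of_isPullback
          Groth.Agent.Lib.AlgSpLocP.etLocalClass_lft hX hY (AlgSp.IsAlgSpace.yon_obj W₁)
          (IsPullback.of_hasPullback f.hom c₁) hf1) hqc c hce w₀).subset ?_
      rintro ξ ⟨hξ1, hξ2⟩
      refine ⟨?_, hξ2⟩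
      rw [← Groth.Agent.Lib.AlgSpQFBC91.mem_qfLocus_baseChange hX hY hXWa hWa sqW hf1]
      exact hqf _ hξ1
    · obtain ⟨p, hp, -, hpqc⟩ := hdec y
      have : CompactSpace ↥W.left := inferInstance
      refine (Set.Finite.biUnion xs.finite_toSet (fun x hx =>
        Groth.Agent.Lib.EtLocQFSpFin46.finite_fibre_of_quasiCompact_point f.hom c hce p hpqc x
          ((hxs x (Finset.mem_coe.1 hx)).trans hp.symm))).subset ?_
      rintro ξ ⟨hξ1, -⟩
      exact Set.mem_biUnion hξ1 rfl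
  obtain ⟨U, gU, u₀, hgUe, hgUu, H⟩ :=
    Groth.Agent.Lib.EtLocQFSpFin46.exists_etale_splitting_of_finite hX hY f.hom hf1 hf2 c w₀
      (xs : Set (AlgSp.Points X.obj)) hqf hfin
  have hae : AlgSp.RepWith @Etale ((AlgSp.yon S).map gU ≫ c) :=
    (AlgSp.RepWith @Etale).comp_mem _ _ ((AlgSp.repWith_yon_map_iff _ gU).2 hgUe) hce
  refine ⟨⟨(AlgSp.yon S).obj U, AlgSp.IsAlgSpace.yon_obj U⟩, ObjectProperty.homMk ((AlgSp.yon S).map gU ≫ c),
    AlgSp.Points.ofScheme U u₀, fun _ φ hφ => (AlgSp.RepWith @Etale).comp_mem _ _ hφ hae, ?_, ?_⟩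
  · change AlgSp.Points.map ((AlgSp.yon S).map gU ≫ c) (AlgSp.Points.ofScheme U u₀) = y
    rw [← AlgSp.Points.ofPt_eq_map_ofScheme, Groth.Agent.Lib.AlgSpPoints.ofPt_yon_map_comp, hgUu, hcw]
  · intro P prX prU sq
    obtain ⟨V, jV, h1, h2, h3, h4, h5⟩ := H P.obj prX.hom prU.hom sq
    refine ⟨⟨(AlgSp.yon S).obj V, AlgSp.IsAlgSpace.yon_obj V⟩, ObjectProperty.homMk jV, h1, h2, h3, ?_, ?_⟩
    · intro v hv
      exact Finset.mem_coe.1 (h4 v hv)
    · intro w hw hwu hwx
      exact h5 w hw hwu (Finset.mem_coe.2 hwx)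

end Groth.Agent.S10676
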