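import Groth.Statements.S10677
import Groth.Agent.Lib.EtLocQFSp46

set_option autoImplicit false
universe u
open CategoryTheory CategoryTheory.Limits AlgebraicGeometry
open AlgSp

namespace Groth.Agent.S10677

/-- For a separated morphism f : X ⟶ Y of algebraic spaces over S which is locally of finite type and a
point x of |X| with image y at which f is quasi-finite (some etale chart diagram through x has top
arrow locally quasi-finite and locally of finite type on an open neighbourhood), there are an etale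
morphism a : U ⟶ Y and a point u of |U| over y such that for the base change P = U ×_Y X there is an
open and closed subspace V ⊂ P, finite over U, containing a point mapping to x in |X| and to u in
|U|. -/
theorem result {S : Scheme.{u}} {X Y : AlgSp.Space S} (f : X ⟶ Y) (x : AlgSp.Points X.obj)
    (hf1 : AlgSp.LocP @LocallyOfFiniteType f.hom) (hf2 : AlgSp.IsSeparatedMor f.hom)
    (hf3 : AlgSp.HasAtMor (fun U _ h u => ∃ W : U.Opens, u ∈ W ∧ LocallyQuasiFinite (W.ι ≫ h) ∧ LocallyOfFiniteType (W.ι ≫ h)) f.hom x) :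
    ∃ (U : AlgSp.Space S) (a : U ⟶ Y) (u : AlgSp.Points U.obj), AlgSp.IsEtaleMor a.hom ∧
      AlgSp.Points.map a.hom u = AlgSp.Points.map f.hom x ∧
      ∀ (P : AlgSp.Space S) (prX : P ⟶ X) (prU : P ⟶ U), IsPullback prX.hom prU.hom f.hom a.hom →
        ∃ (V : AlgSp.Space S) (jV : V ⟶ P), AlgSp.RepWith @IsOpenImmersion jV.hom ∧ AlgSp.RepWith @IsClosedImmersion jV.hom ∧
          AlgSp.IsFiniteMor (jV ≫ prU).hom ∧
          ∃ v : AlgSp.Points V.obj, AlgSp.Points.map (jV ≫ prX).hom v = x ∧ AlgSp.Points.map (jV ≫ prU).hom v = u := by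

  obtain ⟨U, a, u₀, hae, hau, H⟩ := Groth.Agent.Lib.EtLocQFSp46.exists_etale_splitting_at X.property Y.property
    f.hom x hf1 hf2 hf3
  refine ⟨(AlgSp.ofScheme S).obj U, ObjectProperty.homMk a, AlgSp.Points.ofScheme U u₀,
    fun _ φ hφ => (AlgSp.RepWith @Etale).comp_mem _ _ hφ hae, ?_, ?_⟩
  · rw [← hau, AlgSp.Points.ofPt_eq_map_ofScheme]
    rfl
  intro P prX prU sq
  obtain ⟨V, jV, ζ, v₀, hjo, hjc, hjU, hζ, hvx, hvu⟩ := H P.obj prX.hom prU.hom sq
  refine ⟨(AlgSp.ofScheme S).obj V, ObjectProperty.homMk jV, hjo, hjc, ?_, AlgSp.Points.ofScheme V v₀, ?_, ?_⟩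
  · have key : AlgSp.IsFiniteMor ((AlgSp.yon S).map ζ) :=
      (Groth.Agent.Lib.H86ZarGlue.isFiniteMor_iff_repWith _).2 ((AlgSp.repWith_yon_map_iff _ ζ).2 hζ)
    rw [← hjU] at key
    exact key
  · change AlgSp.Points.map (jV ≫ prX.hom) (AlgSp.Points.ofScheme V v₀) = x
    rw [AlgSp.Points.map_comp, ← AlgSp.Points.ofPt_eq_map_ofScheme]
    exact hvx
  · have key : AlgSp.Points.map ((AlgSp.yon S).map ζ) (AlgSp.Points.ofScheme V v₀) =
        AlgSp.Points.ofScheme U u₀ := by
      rw [← hvu]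
      exact AlgSp.Points.map_yon_map_apply ζ v₀
    rw [← hjU] at key
    exact key

end Groth.Agent.S10677
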