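import Groth.Statements.S10678
import Groth.Agent.Lib.H86FibDimBC
import Groth.Agent.Lib.AlgSpFibreEmb46
import Groth.Agent.Lib.TopKrullDim

set_option linter.style.haveILetI false

set_option autoImplicit false
universe u
open CategoryTheory CategoryTheory.Limits AlgebraicGeometry
open AlgSp

namespace Groth.Agent.S10678

set_option backward.isDefEq.respectTransparency false in
/-- For a morphism f : X ⟶ Y of finite type between algebraic spaces over S, a point y of |Y| and any
field point k of Y in the class of y, with fibre X_k (pullback in fppf sheaves): the dimension of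
X_k (supremum of the dimensions of its etale scheme charts) is -∞ exactly when y lies outside the
image of |X|, and for every natural number d it is at most d exactly when f has relative dimension
at most d at every point of |X| over y (some etale chart diagram through the point whose top arrow
has local fibre dimension at most d there). -/
theorem result {S : Scheme.{u}} {X Y : AlgSp.Space S} (f : X ⟶ Y) (hf : AlgSp.IsFiniteTypeMor f.hom)
    (y : AlgSp.Points Y.obj) (k : AlgSp.FieldPt Y.obj) (hk : AlgSp.Points.mk k = y)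
    (Xk : AlgSp.Sp S) (fst : Xk ⟶ X.obj) (snd : Xk ⟶ (AlgSp.yon S).obj k.pt) (h : IsPullback fst snd f.hom k.toHom) :
    (AlgSp.dim Xk = ⊥ ↔ y ∉ Set.range (AlgSp.Points.map f.hom)) ∧
      ∀ d : ℕ, (AlgSp.dim Xk ≤ d ↔
        ∀ x : AlgSp.Points X.obj, AlgSp.Points.map f.hom x = y →
          AlgSp.HasAtMor (fun _ _ h u => FlatMor.fibreDimAt h u ≤ (d : WithBot ℕ∞)) f.hom x) := by
  have hlft : AlgSp.LocP @LocallyOfFiniteType f.hom := hf.1
  have hK : AlgSp.IsAlgSpace ((AlgSp.yon S).obj k.pt) := AlgSp.IsAlgSpace.yon_obj k.pt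
  have hXk : AlgSp.IsAlgSpace Xk :=
    Groth.Agent.Lib.AlgSpFibre.isAlgSpace_of_isPullback Y.property.diag X.property hK h
  haveI : Subsingleton ↥k.pt.left := (inferInstance : Subsingleton (PrimeSpectrum k.K))
  have hidE : AlgSp.RepWith @Etale (𝟙 ((AlgSp.yon S).obj k.pt)) :=
    Groth.Agent.Lib.AlgSpQC.repWith_id @Etale k.pt
  have hidS : AlgSp.RepWith @Surjective (𝟙 ((AlgSp.yon S).obj k.pt)) :=
    Groth.Agent.Lib.AlgSpQC.repWith_id @Surjective k.pt
  -- every point of the sheaf `h_{Spec k}` maps to `y`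
  have hpt : ∀ z : AlgSp.Points ((AlgSp.yon S).obj k.pt), AlgSp.Points.map k.toHom z = y := by
    intro z
    obtain ⟨t, rfl⟩ := Groth.Agent.Lib.H86AlgSpPoints.ofPt_surjective hidS z
    rw [AlgSp.Points.map_ofPt, Category.id_comp, Groth.Agent.Lib.AlgSpFibreEmb46.ofPt_toHom', hk]
  have hC1 : ∀ xk : AlgSp.Points Xk, AlgSp.Points.map f.hom (AlgSp.Points.map fst xk) = y := by
    intro xk
    rw [← AlgSp.Points.map_comp, h.w, AlgSp.Points.map_comp]
    exact hpt _
  have hC2 : ∀ x : AlgSp.Points X.obj, AlgSp.Points.map f.hom x = y →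
      ∃ xk : AlgSp.Points Xk, AlgSp.Points.map fst xk = x := by
    intro x hx
    obtain ⟨xk, h1, -⟩ := Groth.Agent.Lib.H86AlgSpPoints.exists_of_isPullback h x
      (AlgSp.Points.ofPt (𝟙 _) (IsLocalRing.closedPoint k.K)) (by rw [hx, hpt])
    exact ⟨xk, h1⟩
  have key : ∀ (W : Over S) (q : (AlgSp.yon S).obj W ⟶ Xk) (_ : AlgSp.RepWith @Etale q) (w : ↥W.left)
      (U V : Over S) (a : (AlgSp.yon S).obj U ⟶ X.obj) (c : (AlgSp.yon S).obj V ⟶ Y.obj) (h' : U ⟶ V)
      (_ : AlgSp.RepWith @Etale a) (_ : AlgSp.RepWith @Etale c)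
      (_ : a ≫ f.hom = (AlgSp.yon S).map h' ≫ c) (u : ↥U.left)
      (_ : AlgSp.Points.ofPt a u = AlgSp.Points.map fst (AlgSp.Points.ofPt q w)),
      FlatMor.fibreDimAt h'.left u = FlatMor.localDim ↥W.left w := by
    intro W q hq w U V a c h' ha hc hcomm u hu
    obtain ⟨t, ht⟩ := (AlgSp.yon S).map_surjective (q ≫ snd)
    have hcomm'' : q ≫ snd = (AlgSp.yon S).map t ≫ 𝟙 _ := by rw [ht, Category.comp_id]
    rw [Groth.Agent.Lib.H86FibDimBC.fibreDimAt_eq_of_baseChange_charts X.property Y.property hXk hK h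
      hlft a c h' ha hc hcomm u q (𝟙 _) t hq hidE hcomm'' w hu]
    exact Groth.Agent.Lib.H86FibDimBC.fibreDimAt_eq_localDim_of_subsingleton t.left w
  have hloc : ∀ (W : Scheme.{u}) (w : ↥W), FlatMor.localDim ↥W w ≤ topologicalKrullDim ↥W := by
    intro W w
    rw [Groth.Agent.S5792.result ↥W]
    exact le_iSup (fun w : ↥W => FlatMor.localDim ↥W w) w
  refine ⟨⟨fun hbot hy => ?_, fun hy => ?_⟩, fun d => ⟨fun hd x hx => ?_, fun hd => ?_⟩⟩
  · obtain ⟨x, hx⟩ := hy
    obtain ⟨xk, -⟩ := hC2 x hx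
    obtain ⟨W, q, hqe, hqs⟩ := hXk.atlas
    obtain ⟨w, -⟩ := Groth.Agent.Lib.H86AlgSpPoints.ofPt_surjective hqs xk
    haveI : Nonempty ↥W.left := ⟨w⟩
    have h1 : topologicalKrullDim ↥W.left ≤ AlgSp.dim Xk :=
      Groth.Agent.Lib.AlgSpDim91.topologicalKrullDim_le_dim q hqe
    have h2 : (0 : WithBot ℕ∞) ≤ topologicalKrullDim ↥W.left :=
      Groth.Agent.Lib.TopKrullDim.dim_nonneg_of_nonempty
    rw [hbot] at h1
    have := h2.trans h1
    simp at this
  · rw [eq_bot_iff]
    refine iSup_le fun W => iSup_le fun q => iSup_le fun hq => ?_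
    have hW : IsEmpty ↥W.left := by
      refine ⟨fun w => hy ⟨AlgSp.Points.map fst (AlgSp.Points.ofPt q w), hC1 _⟩⟩
    have : IsEmpty (TopologicalSpace.IrreducibleCloseds ↥W.left) :=
      ⟨fun Z => by obtain ⟨x, _⟩ := Z.isIrreducible.nonempty; exact hW.false x⟩
    have hbot : topologicalKrullDim ↥W.left = ⊥ := Order.krullDim_eq_bot
    rw [hbot]
  · obtain ⟨xk, rfl⟩ := hC2 x hx
    obtain ⟨W, q, hqe, hqs⟩ := hXk.atlas
    obtain ⟨w, rfl⟩ := Groth.Agent.Lib.H86AlgSpPoints.ofPt_surjective hqs xk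
    obtain ⟨U, V, a, c, h', u, ha, hc, hcomm, hu⟩ :=
      Groth.Agent.Lib.AlgSpQFAt91.exists_chart_diagram X.property Y.property f.hom
        (AlgSp.Points.map fst (AlgSp.Points.ofPt q w))
    refine ⟨U, V, a, c, h', u, ha, hc, hcomm, hu, ?_⟩
    change FlatMor.fibreDimAt h'.left u ≤ _
    rw [key W q hqe w U V a c h' ha hc hcomm u hu]
    exact (hloc W.left w).trans
      ((Groth.Agent.Lib.AlgSpDim91.topologicalKrullDim_le_dim q hqe).trans hd)
  · refine iSup_le fun W => iSup_le fun q => iSup_le fun hq => ?_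
    rw [Groth.Agent.S5792.result ↥W.left]
    refine iSup_le fun w => ?_
    obtain ⟨U, V, a, c, h', u, ha, hc, hcomm, hu, hdu⟩ :=
      hd (AlgSp.Points.map fst (AlgSp.Points.ofPt q w)) (hC1 _)
    rw [← key W q hq w U V a c h' ha hc hcomm u hu]
    exact hdu

end Groth.Agent.S10678
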