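import Groth.Statements.S10679
import Groth.Agent.S10678
import Groth.Agent.Lib.H79FlatGenDimOpen2
import Groth.Agent.Lib.H86FibDimChart
import Groth.Agent.Lib.AlgSpQFAt91
import Groth.Agent.Lib.H86AlgSpPoints

set_option autoImplicit false
universe u
open CategoryTheory CategoryTheory.Limits AlgebraicGeometry
open AlgSp

namespace Groth.Agent.S10679

/-- For a flat morphism f : X ⟶ Y of algebraic spaces over S which is of finite presentation, the fibre
dimension function on |Y|, y ↦ dimension of X_k for a field point k in the class of y, is lower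
semi-continuous: for every d the set of y such that every fibre X_k over y (k a field point in the
class of y, X_k any pullback in fppf sheaves) has dimension greater than d is open. -/
theorem result {S : Scheme.{u}} {X Y : AlgSp.Space S} (f : X ⟶ Y)
    (hf1 : AlgSp.LocP @Flat f.hom) (hf2 : AlgSp.IsFinitePresentationMor f.hom) (d : WithBot ℕ∞) :
    IsOpen {y : AlgSp.Points Y.obj | ∀ (k : AlgSp.FieldPt Y.obj), AlgSp.Points.mk k = y →
      ∀ (Xk : AlgSp.Sp S) (fst : Xk ⟶ X.obj) (snd : Xk ⟶ (AlgSp.yon S).obj k.pt),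
        IsPullback fst snd f.hom k.toHom → d < AlgSp.dim Xk} := by
  have hlfp : AlgSp.LocP @LocallyOfFinitePresentation f.hom := hf2.1
  have hlft : AlgSp.LocP @LocallyOfFiniteType f.hom := fun U V a b h ha hb hc => by
    haveI := hlfp a b h ha hb hc
    infer_instance
  have hft : AlgSp.IsFiniteTypeMor f.hom := ⟨hlft, hf2.2.1⟩
  have hex : ∀ y : AlgSp.Points Y.obj, ∃ (k : AlgSp.FieldPt Y.obj), AlgSp.Points.mk k = y := by
    intro y
    induction y using AlgSp.Points.ind with | h p => exact ⟨p, rfl⟩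
  have hchar : ∀ (y : AlgSp.Points Y.obj) (k : AlgSp.FieldPt Y.obj), AlgSp.Points.mk k = y →
      ∀ (Xk : AlgSp.Sp S) (fst : Xk ⟶ X.obj) (snd : Xk ⟶ (AlgSp.yon S).obj k.pt),
        IsPullback fst snd f.hom k.toHom →
        (AlgSp.dim Xk = ⊥ ↔ y ∉ Set.range (AlgSp.Points.map f.hom)) ∧
          ∀ n : ℕ, (AlgSp.dim Xk ≤ n ↔ ∀ x : AlgSp.Points X.obj, AlgSp.Points.map f.hom x = y →
            AlgSp.HasAtMor (fun _ _ h u => FlatMor.fibreDimAt h u ≤ (n : WithBot ℕ∞)) f.hom x) :=
    fun y k hk Xk fst snd h => Groth.Agent.S10678.result f hft y k hk Xk fst snd h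
  -- image of a point of a chart
  have himg : ∀ {U V : Over S} (a : (AlgSp.yon S).obj U ⟶ X.obj) (c : (AlgSp.yon S).obj V ⟶ Y.obj)
      (h : U ⟶ V) (_ : a ≫ f.hom = (AlgSp.yon S).map h ≫ c) (u : ↥U.left),
      AlgSp.Points.map f.hom (AlgSp.Points.ofPt a u) = AlgSp.Points.ofPt c (h.left u) := by
    intro U V a c h hcomm u
    rw [AlgSp.Points.map_ofPt, hcomm, Groth.Agent.Lib.H86AlgSpPoints.ofPt_map_comp]
  induction d using WithBot.recBotCoe with
  | bot =>
    rw [isOpen_iff_forall_mem_open]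
    intro y hy
    obtain ⟨k, hk⟩ := hex y
    have h1 := hy k hk (pullback f.hom k.toHom) (pullback.fst _ _) (pullback.snd _ _)
      (IsPullback.of_hasPullback _ _)
    have h2 := hchar y k hk _ _ _ (IsPullback.of_hasPullback f.hom k.toHom)
    have hyr : y ∈ Set.range (AlgSp.Points.map f.hom) := by
      by_contra hn
      rw [h2.1.2 hn] at h1
      exact lt_irrefl _ h1
    obtain ⟨x₀, hx₀⟩ := hyr
    obtain ⟨U, V, a, c, h, u₀, ha, hc, hcomm, hu₀⟩ :=
      Groth.Agent.Lib.AlgSpQFAt91.exists_chart_diagram X.property Y.property f.hom x₀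
    haveI : Flat h.left := hf1 a c h ha hc hcomm
    haveI : LocallyOfFinitePresentation h.left := hlfp a c h ha hc hcomm
    refine ⟨AlgSp.Points.ofPt c '' Set.range h.left, ?_,
      Groth.Agent.Lib.H86AlgSpPoints.isOpenMap_ofPt hc _ h.left.isOpenMap.isOpen_range, ?_⟩
    · rintro _ ⟨_, ⟨u, rfl⟩, rfl⟩ k' hk' Xk' fst' snd' hpb
      have h3 := hchar _ k' hk' Xk' fst' snd' hpb
      rw [bot_lt_iff_ne_bot]
      intro hb
      exact h3.1.1 hb ⟨AlgSp.Points.ofPt a u, himg a c h hcomm u⟩
    · refine ⟨h.left u₀, ⟨u₀, rfl⟩, ?_⟩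
      rw [← himg a c h hcomm u₀, hu₀, hx₀]
  | coe e =>
    induction e using ENat.recTopCoe with
    | top =>
      convert isOpen_empty using 1
      ext y
      simp only [Set.mem_ofPred_eq, Set.mem_empty_iff_false, iff_false]
      intro hy
      obtain ⟨k, hk⟩ := hex y
      have h1 := hy k hk (pullback f.hom k.toHom) (pullback.fst _ _) (pullback.snd _ _)
        (IsPullback.of_hasPullback _ _)
      rw [WithBot.coe_top] at h1
      exact not_top_lt h1
    | coe n =>
      rw [isOpen_iff_forall_mem_open]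
      intro y hy
      obtain ⟨k, hk⟩ := hex y
      have h1 := hy k hk (pullback f.hom k.toHom) (pullback.fst _ _) (pullback.snd _ _)
        (IsPullback.of_hasPullback _ _)
      have h2 := hchar y k hk _ _ _ (IsPullback.of_hasPullback f.hom k.toHom)
      have h3 : ¬ ∀ x : AlgSp.Points X.obj, AlgSp.Points.map f.hom x = y →
          AlgSp.HasAtMor (fun _ _ h u => FlatMor.fibreDimAt h u ≤ (n : WithBot ℕ∞)) f.hom x := by
        intro hall
        exact absurd ((h2.2 n).2 hall) (not_le.2 h1)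
      push Not at h3
      obtain ⟨x₀, hx₀, hx₀n⟩ := h3
      obtain ⟨U, V, a, c, h, u₀, ha, hc, hcomm, hu₀⟩ :=
        Groth.Agent.Lib.AlgSpQFAt91.exists_chart_diagram X.property Y.property f.hom x₀
      haveI : Flat h.left := hf1 a c h ha hc hcomm
      haveI : LocallyOfFinitePresentation h.left := hlfp a c h ha hc hcomm
      have hopen := Groth.Agent.Lib.H79FlatGenDimOpen2.isOpen_image_setOf_lt_fibreDimAt h.left n
      refine ⟨AlgSp.Points.ofPt c ''
          (h.left '' {u : ↥U.left | FlatMor.fibreDimAt h.left u ≤ (n : WithBot ℕ∞)}ᶜ), ?_,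
        Groth.Agent.Lib.H86AlgSpPoints.isOpenMap_ofPt hc _ hopen, ?_⟩
      · rintro _ ⟨_, ⟨u, hu, rfl⟩, rfl⟩ k' hk' Xk' fst' snd' hpb
        have h4 := hchar _ k' hk' Xk' fst' snd' hpb
        rw [← not_le]
        intro hle
        obtain ⟨U', V', a', c', h', u', ha', hc', hcomm', hu', hd⟩ :=
          (h4.2 n).1 hle (AlgSp.Points.ofPt a u) (himg a c h hcomm u)
        refine hu ?_
        change FlatMor.fibreDimAt h.left u ≤ _
        rw [Groth.Agent.Lib.H86FibDimChart.fibreDimAt_chart_indep f.hom a c h a' c' h' ha hc ha' hc'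
          hcomm hcomm' u u' hu'.symm]
        exact hd
      · refine ⟨h.left u₀, ⟨u₀, ?_, rfl⟩, ?_⟩
        · intro hle
          exact hx₀n ⟨U, V, a, c, h, u₀, ha, hc, hcomm, hu₀, hle⟩
        · rw [← himg a c h hcomm u₀, hu₀, hx₀]

end Groth.Agent.S10679
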