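import Groth.Statements.S10680
import Groth.Agent.S10678
import Groth.Agent.S10308
import Groth.Agent.Lib.H56FibDimSup

set_option linter.style.haveILetI false

set_option autoImplicit false
universe u
open CategoryTheory CategoryTheory.Limits AlgebraicGeometry
open AlgSp

namespace Groth.Agent.S10680

/-- For a proper morphism f : X ⟶ Y between algebraic spaces over S the fibre dimension function on |Y|
is upper semi-continuous: for every d the set of y such that every fibre X_k over y (k a field point
in the class of y, X_k any pullback in fppf sheaves) has dimension less than d is open. -/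
theorem result {S : Scheme.{u}} {X Y : AlgSp.Space S} (f : X ⟶ Y) (hf : AlgSp.IsProperMor f.hom) (d : WithBot ℕ∞) :
    IsOpen {y : AlgSp.Points Y.obj | ∀ (k : AlgSp.FieldPt Y.obj), AlgSp.Points.mk k = y →
      ∀ (Xk : AlgSp.Sp S) (fst : Xk ⟶ X.obj) (snd : Xk ⟶ (AlgSp.yon S).obj k.pt),
        IsPullback fst snd f.hom k.toHom → AlgSp.dim Xk < d} := by
  have hft : AlgSp.IsFiniteTypeMor f.hom := hf.2.1
  have hlft : AlgSp.LocP @LocallyOfFiniteType f.hom := hft.1
  have hcl : IsClosedMap (AlgSp.Points.map f.hom) :=
    hf.2.2 Y.property (𝟙 Y.obj) (𝟙 X.obj) f.hom (IsPullback.of_id_fst)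
  -- the open loci in `|X|` and `|Y|`
  set A : ℕ → Set (AlgSp.Points X.obj) := fun n => {x |
    AlgSp.HasAtMor (fun _ _ h u => FlatMor.fibreDimAt h u ≤ (n : WithBot ℕ∞)) f.hom x} with hA
  have hAo : ∀ n, IsOpen (A n) := fun n => Groth.Agent.S10308.result f hlft n
  set B : ℕ → Set (AlgSp.Points Y.obj) := fun n => {y | ∀ x, AlgSp.Points.map f.hom x = y → x ∈ A n}
    with hB
  have hBo : ∀ n, IsOpen (B n) := by
    intro n
    have hc : IsClosed (AlgSp.Points.map f.hom '' (A n)ᶜ) := hcl _ (hAo n).isClosed_compl
    convert hc.isOpen_compl using 1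
    ext y
    simp only [hB, Set.mem_ofPred_eq, Set.mem_compl_iff, Set.mem_image, not_exists, not_and]
    exact ⟨fun h x hx hxy => hx (h x hxy), fun h x hxy => by_contra fun hx => h x hx hxy⟩
  have hRo : IsOpen (Set.range (AlgSp.Points.map f.hom))ᶜ := by
    have : IsClosed (Set.range (AlgSp.Points.map f.hom)) := by
      rw [← Set.image_univ]; exact hcl _ isClosed_univ
    exact this.isOpen_compl
  -- existence of a fibre over every point
  have hex : ∀ y : AlgSp.Points Y.obj, ∃ (k : AlgSp.FieldPt Y.obj), AlgSp.Points.mk k = y := by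
    intro y
    induction y using AlgSp.Points.ind with | h p => exact ⟨p, rfl⟩
  have hchar : ∀ (y : AlgSp.Points Y.obj) (k : AlgSp.FieldPt Y.obj), AlgSp.Points.mk k = y →
      ∀ (Xk : AlgSp.Sp S) (fst : Xk ⟶ X.obj) (snd : Xk ⟶ (AlgSp.yon S).obj k.pt),
        IsPullback fst snd f.hom k.toHom →
        (AlgSp.dim Xk = ⊥ ↔ y ∉ Set.range (AlgSp.Points.map f.hom)) ∧
          ∀ n : ℕ, (AlgSp.dim Xk ≤ n ↔ y ∈ B n) := fun y k hk Xk fst snd h =>
    Groth.Agent.S10678.result f hft y k hk Xk fst snd h
  induction d using WithBot.recBotCoe with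
  | bot =>
    convert isOpen_empty using 1
    ext y
    simp only [Set.mem_ofPred_eq, Set.mem_empty_iff_false, iff_false, not_forall, not_lt_bot]
    obtain ⟨k, hk⟩ := hex y
    exact ⟨k, hk, pullback f.hom k.toHom, pullback.fst _ _, pullback.snd _ _,
      IsPullback.of_hasPullback _ _, not_false⟩
  | coe e =>
    induction e using ENat.recTopCoe with
    | top =>
      have : IsOpen (⋃ n, B n) := isOpen_iUnion hBo
      convert this using 1
      ext y
      simp only [Set.mem_ofPred_eq, Set.mem_iUnion]
      constructor
      · intro h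
        obtain ⟨k, hk⟩ := hex y
        have h1 := h k hk (pullback f.hom k.toHom) (pullback.fst _ _) (pullback.snd _ _)
          (IsPullback.of_hasPullback _ _)
        have h2 := hchar y k hk _ _ _ (IsPullback.of_hasPullback f.hom k.toHom)
        generalize AlgSp.dim (pullback f.hom k.toHom) = a at h1 h2
        induction a using WithBot.recBotCoe with
        | bot => exact ⟨0, (h2.2 0).1 bot_le⟩
        | coe a =>
          rw [WithBot.coe_lt_coe] at h1
          obtain ⟨n, rfl⟩ := ENat.ne_top_iff_exists.1 h1.ne
          exact ⟨n, (h2.2 n).1 le_rfl⟩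
      · rintro ⟨n, hn⟩ k hk Xk fst snd h
        have h2 := ((hchar y k hk Xk fst snd h).2 n).2 hn
        refine lt_of_le_of_lt h2 ?_
        rw [show ((n : ℕ) : WithBot ℕ∞) = (((n : ℕ) : ℕ∞) : WithBot ℕ∞) from rfl, WithBot.coe_lt_coe]
        exact ENat.natCast_lt_top n
    | coe m =>
      cases m with
      | zero =>
        convert hRo using 1
        ext y
        simp only [Set.mem_ofPred_eq]
        constructor
        · intro h
          obtain ⟨k, hk⟩ := hex y
          have h1 := h k hk (pullback f.hom k.toHom) (pullback.fst _ _) (pullback.snd _ _)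
            (IsPullback.of_hasPullback _ _)
          have h2 := hchar y k hk _ _ _ (IsPullback.of_hasPullback f.hom k.toHom)
          refine h2.1.1 ?_
          generalize AlgSp.dim (pullback f.hom k.toHom) = a at h1
          induction a using WithBot.recBotCoe with
          | bot => rfl
          | coe a =>
            exfalso
            rw [WithBot.coe_lt_coe] at h1
            simp at h1
        · intro hy k hk Xk fst snd h
          rw [((hchar y k hk Xk fst snd h).1).2 hy]
          exact WithBot.bot_lt_coe _
      | succ n =>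
        convert hBo n using 1
        ext y
        simp only [Set.mem_ofPred_eq]
        constructor
        · intro h
          obtain ⟨k, hk⟩ := hex y
          have h1 := h k hk (pullback f.hom k.toHom) (pullback.fst _ _) (pullback.snd _ _)
            (IsPullback.of_hasPullback _ _)
          have h2 := hchar y k hk _ _ _ (IsPullback.of_hasPullback f.hom k.toHom)
          exact (h2.2 n).1 ((Groth.Agent.Lib.H56LocDim.lt_succ_iff_le _ n).1 h1)
        · intro hy k hk Xk fst snd h
          exact (Groth.Agent.Lib.H56LocDim.lt_succ_iff_le _ n).2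
            (((hchar y k hk Xk fst snd h).2 n).2 hy)

end Groth.Agent.S10680
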