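import Groth.Statements.S10691
-- import your own Groth.Agent.* helpers here
import Mathlib
import Groth.Agent.Lib.H14GorEtLocal2
import Groth.Agent.Lib.H14GorFlat
import Groth.Agent.Lib.AlgSpQFAt91

set_option autoImplicit false
set_option linter.style.haveILetI false
universe u
open CategoryTheory CategoryTheory.Limits AlgebraicGeometry
open AlgSp

namespace Groth.Agent.S10691

open IsLocalRing Groth.Agent.Lib Groth.Agent.Lib.AlgSpPoints Groth.Agent.Lib.AlgSpDecentSpec
  Groth.Agent.Lib.AlgSpBasic

/-- Gorenstein descends along flat local homomorphisms of Noetherian local rings. -/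
theorem gor_descent (A B : Type u) [CommRing A] [IsLocalRing A] [IsNoetherianRing A]
    [CommRing B] [IsLocalRing B] [IsNoetherianRing B] [Algebra A B]
    [IsLocalHom (algebraMap A B)] [Module.Flat A B] (hB : LocCoh.IsGorensteinLocalRing B) :
    LocCoh.IsGorensteinLocalRing A :=
  ((H14GorFlat.gorenstein_flat_local_iff A B).1 hB).1

/-- Gorenstein ascends along flat local homomorphisms with `𝔪_A B = 𝔪_B`. -/
theorem gor_ascent (A B : Type u) [CommRing A] [IsLocalRing A] [IsNoetherianRing A]
    [CommRing B] [IsLocalRing B] [IsNoetherianRing B] [Algebra A B]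
    [IsLocalHom (algebraMap A B)] [Module.Flat A B]
    (hm : (maximalIdeal A).map (algebraMap A B) = maximalIdeal B)
    (hA : LocCoh.IsGorensteinLocalRing A) : LocCoh.IsGorensteinLocalRing B :=
  (H14GorFlat.gorenstein_flat_local_iff A B).2
    ⟨hA, H14GorEtLocal.isGorensteinLocalRing_quotient_of_eq_maximalIdeal _ hm⟩

/-- The local rings of a scheme étale over a Gorenstein scheme are Gorenstein. -/
theorem isGorenstein_of_etale {W U : Scheme.{u}} (s : W ⟶ U) [Etale s] (hU : Dual3.IsGorenstein U) :
    Dual3.IsGorenstein W := by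
  haveI := hU.1
  haveI : IsLocallyNoetherian W := LocallyOfFiniteType.isLocallyNoetherian s
  refine ⟨inferInstance, fun w => ?_⟩
  letI alg : Algebra (U.presheaf.stalk (s w)) (W.presheaf.stalk w) := (s.stalkMap w).hom.toAlgebra
  haveI : IsLocalHom (algebraMap (U.presheaf.stalk (s w)) (W.presheaf.stalk w)) :=
    (inferInstance : IsLocalHom (s.stalkMap w).hom)
  haveI : Module.Flat (U.presheaf.stalk (s w)) (W.presheaf.stalk w) := Flat.stalkMap s w
  haveI : Algebra.EssFiniteType (U.presheaf.stalk (s w)) (W.presheaf.stalk w) := by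
    rw [← RingHom.essFiniteType_algebraMap, RingHom.algebraMap_toAlgebra]
    exact LocallyOfFiniteType.stalkMap s w
  haveI : Algebra.FormallyUnramified (U.presheaf.stalk (s w)) (W.presheaf.stalk w) := by
    rw [← RingHom.formallyUnramified_algebraMap, RingHom.algebraMap_toAlgebra]
    exact FormallyUnramified.stalkMap s w
  have hm := Algebra.FormallyUnramified.map_maximalIdeal (R := U.presheaf.stalk (s w))
    (S := W.presheaf.stalk w)
  exact gor_ascent _ _ hm (hU.2 (s w))

/-- Gorenstein-ness of local rings descends along flat morphisms of locally Noetherian schemes. -/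
theorem gor_stalk_of_flat {W U : Scheme.{u}} (s : W ⟶ U) [Flat s] [IsLocallyNoetherian U]
    (hW : Dual3.IsGorenstein W) (w : ↥W) :
    LocCoh.IsGorensteinLocalRing (U.presheaf.stalk (s w)) := by
  haveI := hW.1
  letI alg : Algebra (U.presheaf.stalk (s w)) (W.presheaf.stalk w) := (s.stalkMap w).hom.toAlgebra
  haveI : IsLocalHom (algebraMap (U.presheaf.stalk (s w)) (W.presheaf.stalk w)) :=
    (inferInstance : IsLocalHom (s.stalkMap w).hom)
  haveI : Module.Flat (U.presheaf.stalk (s w)) (W.presheaf.stalk w) := Flat.stalkMap s w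
  exact gor_descent _ (W.presheaf.stalk w) (hW.2 w)

variable {S : Scheme.{u}}

/-- Every scheme étale over a locally Noetherian Gorenstein sheaf is a Gorenstein scheme. -/
theorem isGorenstein_of_repWith_etale {P : Sp S} (hN : IsLocNoethSp P)
    (hG : EtaleLocally Dual3.IsGorenstein P) {U : Over S}
    (a : (yon S).obj U ⟶ P) (ha : RepWith @Etale a) : Dual3.IsGorenstein U.left := by
  haveI : IsLocallyNoetherian U.left := isLocallyNoetherian_of_repWith_etale hN a ha
  obtain ⟨V, b, hbe, hbs, hV⟩ := hG
  have sq := ha.rep.isPullback' b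
  haveI h1 : Etale (ha.rep.snd b).left := ha.property_snd b
  haveI h2 : Etale (ha.rep.fst' b).left := hbe.property a _ _ sq.flip
  have h3 : Surjective (ha.rep.fst' b).left := hbs.property a _ _ sq.flip
  have hW : Dual3.IsGorenstein (ha.rep.pullback b).left := isGorenstein_of_etale (ha.rep.snd b).left hV
  refine ⟨inferInstance, fun u => ?_⟩
  obtain ⟨w, rfl⟩ := h3.surj u
  exact gor_stalk_of_flat (ha.rep.fst' b).left hW w

/-- Chart-level statement: a flat morphism from a Gorenstein scheme to a locally Noetherian scheme is Gorenstein at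
every point. -/
theorem isGorensteinAt_of_flat {U V : Scheme.{u}} (h : U ⟶ V) [Flat h] [IsLocallyNoetherian V]
    (hU : Dual3.IsGorenstein U) (u : ↥U) : Dual3.IsGorensteinAt h u := by
  haveI := hU.1
  rw [H14GorEtLocal2.isGorensteinAt_iff_gorHomAt]
  letI alg : Algebra (V.presheaf.stalk (h u)) (U.presheaf.stalk u) := (h.stalkMap u).hom.toAlgebra
  haveI : IsLocalHom (algebraMap (V.presheaf.stalk (h u)) (U.presheaf.stalk u)) :=
    (inferInstance : IsLocalHom (h.stalkMap u).hom)
  haveI : Module.Flat (V.presheaf.stalk (h u)) (U.presheaf.stalk u) := Flat.stalkMap h u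
  exact ⟨inferInstance, ((H14GorFlat.gorenstein_flat_local_iff _ (U.presheaf.stalk u)).1 (hU.2 u)).2⟩

/-- A strict henselization of a Noetherian Gorenstein local ring is Gorenstein. -/
theorem gor_strictHenselization (A : Type u) [CommRing A] [IsLocalRing A] [IsNoetherianRing A]
    (R : Type u) [CommRing R] [IsLocalRing R] [Algebra A R] [IsLocalHom (algebraMap A R)]
    [Hensel.IsStrictHenselization A R] (hA : LocCoh.IsGorensteinLocalRing A) :
    LocCoh.IsGorensteinLocalRing R := by
  haveI : IsNoetherianRing R := (Groth.Agent.S0540.result A R).1 inferInstance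
  haveI : Module.FaithfullyFlat A R := StrictHenselization.faithfullyFlat_of_isStrictHenselization A R
  exact gor_ascent A R (StrictHenselizationMax.map_maximalIdeal_eq A R) hA

/-- For locally Noetherian algebraic spaces X, Y over S and a flat morphism f : X ⟶ Y, with X Gorenstein
(some etale surjective scheme chart is a Gorenstein scheme): f is Gorenstein at every point of |X|,
and for every point x of |X| the etale local ring of Y at a geometric point over f(x), presented as
a strict henselization R of the local ring of an etale scheme chart V of Y at a point v over f(x),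
is a Gorenstein local ring. Here f is Gorenstein at x when in every etale chart diagram through x
the top arrow is Gorenstein at the point over x (flat there, with Gorenstein local ring of its
fibre), and the fibres of a morphism are locally Noetherian when every fibre over a field point
(pullback in fppf sheaves) is a locally Noetherian algebraic space. -/
theorem result {S : Scheme.{u}} {X Y : AlgSp.Space S} (f : X ⟶ Y) (hf : AlgSp.LocP @Flat f.hom)
    (hX1 : AlgSp.IsLocNoethSp X.obj) (hY1 : AlgSp.IsLocNoethSp Y.obj)
    (hX2 : AlgSp.EtaleLocally Dual3.IsGorenstein X.obj) :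
    (∀ x : AlgSp.Points X.obj, AlgSp.LocPAt (fun h u => Dual3.IsGorensteinAt h u) f.hom x) ∧
      ∀ (x : AlgSp.Points X.obj) (V : Over S) (b : (AlgSp.yon S).obj V ⟶ Y.obj), AlgSp.RepWith @Etale b →
        ∀ (v : ↥V.left), AlgSp.Points.ofPt b v = AlgSp.Points.map f.hom x →
          ∀ (R : Type u) [CommRing R] [IsLocalRing R] [Algebra ↥(V.left.presheaf.stalk v) R]
            [IsLocalHom (algebraMap ↥(V.left.presheaf.stalk v) R)]
            [Hensel.IsStrictHenselization ↥(V.left.presheaf.stalk v) R],
            LocCoh.IsGorensteinLocalRing R := by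
  refine ⟨?_, ?_⟩
  · intro x U V a b h u ha hb hc _
    haveI : IsLocallyNoetherian V.left := isLocallyNoetherian_of_repWith_etale hY1 b hb
    haveI : Flat h.left := hf a b h ha hb hc
    exact isGorensteinAt_of_flat h.left (isGorenstein_of_repWith_etale hX1 hX2 a ha) u
  · intro x V b hb v hv R _ _ _ _ _
    haveI : IsLocallyNoetherian V.left := isLocallyNoetherian_of_repWith_etale hY1 b hb
    obtain ⟨U, a, ha, has⟩ := X.property.atlas
    obtain ⟨u, rfl⟩ := Groth.Agent.Lib.H86AlgSpPoints.ofPt_surjective has x
    obtain ⟨P, s, t, p, hs, hsa, hcomm, hsp, htp, hpt⟩ :=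
      Groth.Agent.Lib.AlgSpTrdeg91.exists_chart_over f.hom a ha b hb u v hv
    haveI : Flat t.left := hf _ b t hsa hb hcomm
    have hP : Dual3.IsGorenstein P.left := isGorenstein_of_repWith_etale hX1 hX2 _ hsa
    subst htp
    exact gor_strictHenselization _ R (gor_stalk_of_flat t.left hP p)

end Groth.Agent.S10691
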