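import Groth.Statements.S10690
-- import your own Groth.Agent.* helpers here
import Mathlib
import Groth.Agent.S10691
import Groth.Agent.Lib.H14GorEtLocal2
import Groth.Agent.Lib.AlgSpAffineSpace

set_option autoImplicit false
set_option linter.style.haveILetI false
universe u
open CategoryTheory CategoryTheory.Limits AlgebraicGeometry
open AlgSp

namespace Groth.Agent.S10690

open Groth.Agent.Lib Groth.Agent.Lib.AlgSpPoints Groth.Agent.Lib.AlgSpDecentSpec
  Groth.Agent.Lib.AlgSpBasic

variable {S : Scheme.{u}}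

lemma gor_stalk_fiber {X Y : Scheme.{u}} (f : X ⟶ Y) (x₀ : X) (h : Dual3.IsGorensteinAt f x₀) :
    ∀ (y : Y) (_ : f x₀ = y) (x : ↥(f.fiber y)) (_ : f.fiberι y x = x₀),
      LocCoh.IsGorensteinLocalRing ((f.fiber y).presheaf.stalk x) := by
  intro y hy x hx
  subst hy
  have : x = f.asFiber x₀ := by
    apply (f.fiberι (f x₀)).isEmbedding.injective
    rw [hx, f.fiberι_asFiber]
  subst this
  exact h.2

/-- The scheme-theoretic fibre of the chart morphism `t : W = U ×_Y V ⟶ V` over `v` is the base change of the chart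
`U` of `X` to the fibre `X_v` of `f` over `Spec κ(v) ⟶ V ⟶ Y`. -/
theorem fibre_chart {X Y : Sp S} {f : X ⟶ Y} {U V W : Over S} {p : (yon S).obj U ⟶ X}
    {b : (yon S).obj V ⟶ Y} {t : W ⟶ V} {s : W ⟶ U}
    (sqW : IsPullback ((yon S).map t) ((yon S).map s) b (p ≫ f)) (v : ↥V.left)
    {Xv : Sp S} {a : Xv ⟶ X}
    {c : Xv ⟶ (yon S).obj (Over.mk (V.left.fromSpecResidueField v ≫ V.hom))}
    (sqv : IsPullback a c f ((yon S).map (Over.homMk (V.left.fromSpecResidueField v) rfl :
      Over.mk (V.left.fromSpecResidueField v ≫ V.hom) ⟶ V) ≫ b)) :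
    ∃ (ℓ : (yon S).obj (Over.mk (t.left.fiberι v ≫ W.hom)) ⟶ Xv),
      IsPullback ((yon S).map (Over.homMk (t.left.fiberι v) rfl :
        Over.mk (t.left.fiberι v ≫ W.hom) ⟶ W) ≫ (yon S).map s) ℓ p a := by
  set ιv : Over.mk (V.left.fromSpecResidueField v ≫ V.hom) ⟶ V :=
    Over.homMk (V.left.fromSpecResidueField v) rfl with hιv
  set jT : Over.mk (t.left.fiberι v ≫ W.hom) ⟶ W := Over.homMk (t.left.fiberι v) rfl with hjT
  have hq : t.left.fiberToSpecResidueField v ≫ V.left.fromSpecResidueField v ≫ V.hom =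
      t.left.fiberι v ≫ W.hom := by
    have hw : t.left.fiberι v ≫ t.left =
        t.left.fiberToSpecResidueField v ≫ V.left.fromSpecResidueField v :=
      (IsPullback.of_hasPullback t.left (V.left.fromSpecResidueField v)).w
    rw [← Category.assoc, ← hw, Category.assoc, Over.w t]
  let qT : Over.mk (t.left.fiberι v ≫ W.hom) ⟶ Over.mk (V.left.fromSpecResidueField v ≫ V.hom) :=
    Over.homMk (t.left.fiberToSpecResidueField v) hq
  have sqT : IsPullback ((yon S).map jT) ((yon S).map qT) ((yon S).map t) ((yon S).map ιv) :=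
    AlgSpAffineSpace.isPullback_yon_of_left
      (IsPullback.of_hasPullback t.left (V.left.fromSpecResidueField v))
  have big : IsPullback ((yon S).map qT) ((yon S).map jT ≫ (yon S).map s) ((yon S).map ιv ≫ b)
      (p ≫ f) := sqT.flip.paste_vert sqW
  have hcomm : (((yon S).map jT ≫ (yon S).map s) ≫ p) ≫ f = (yon S).map qT ≫ (yon S).map ιv ≫ b := by
    rw [Category.assoc]; exact big.w.symm
  refine ⟨sqv.lift (((yon S).map jT ≫ (yon S).map s) ≫ p) ((yon S).map qT) hcomm, ?_⟩
  have hflip : IsPullback ((yon S).map jT ≫ (yon S).map s)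
      (sqv.lift (((yon S).map jT ≫ (yon S).map s) ≫ p) ((yon S).map qT) hcomm) p a := by
    refine IsPullback.flip ?_
    refine IsPullback.of_right (h₁₂ := c) (h₂₂ := f) (v₁₃ := (yon S).map ιv ≫ b) ?_
      (sqv.lift_fst _ _ hcomm) sqv.flip
    rw [sqv.lift_snd]
    exact big
  exact hflip

/-- For a morphism f : X ⟶ Y between algebraic spaces over S whose fibres are locally Noetherian, the
following are equivalent: (1) f is Gorenstein at every point of |X|; (2) f is flat and for some
scheme V with a representable etale surjective b : h_V ⟶ Y every fibre of X ×_Y V ⟶ V over a point v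
of V (pullback along the residue field point of v) is a Gorenstein algebraic space (some etale
surjective scheme chart is a Gorenstein scheme); (3) f is flat and the same holds for every scheme V
with a representable etale b : h_V ⟶ Y. Here f is Gorenstein at x when in every etale chart diagram
through x the top arrow is Gorenstein at the point over x (flat there, with Gorenstein local ring of
its fibre), and the fibres of a morphism are locally Noetherian when every fibre over a field point
(pullback in fppf sheaves) is a locally Noetherian algebraic space. (The published statement also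
characterises being Gorenstein at a single point through strict henselizations; that part is stated
separately and not included here.) -/
theorem result {S : Scheme.{u}} {X Y : AlgSp.Space S} (f : X ⟶ Y)
    (hf : ∀ (k : AlgSp.FieldPt Y.obj) (Xk : AlgSp.Sp S) (a : Xk ⟶ X.obj) (b : Xk ⟶ (AlgSp.yon S).obj k.pt),
        IsPullback a b f.hom k.toHom → AlgSp.IsLocNoethSp Xk) :
    [∀ x : AlgSp.Points X.obj, AlgSp.LocPAt (fun h u => Dual3.IsGorensteinAt h u) f.hom x,
      AlgSp.LocP @Flat f.hom ∧ ∃ (V : Over S) (b : (AlgSp.yon S).obj V ⟶ Y.obj),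
        AlgSp.RepWith @Etale b ∧ AlgSp.RepWith @Surjective b ∧
          ∀ (v : ↥V.left) (Xv : AlgSp.Sp S) (a : Xv ⟶ X.obj)
            (c : Xv ⟶ (AlgSp.yon S).obj (Over.mk (V.left.fromSpecResidueField v ≫ V.hom))),
            IsPullback a c f.hom ((AlgSp.yon S).map (Over.homMk (V.left.fromSpecResidueField v) rfl :
              Over.mk (V.left.fromSpecResidueField v ≫ V.hom) ⟶ V) ≫ b) →
            AlgSp.EtaleLocally Dual3.IsGorenstein Xv,
      AlgSp.LocP @Flat f.hom ∧ ∀ (V : Over S) (b : (AlgSp.yon S).obj V ⟶ Y.obj), AlgSp.RepWith @Etale b →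
          ∀ (v : ↥V.left) (Xv : AlgSp.Sp S) (a : Xv ⟶ X.obj)
            (c : Xv ⟶ (AlgSp.yon S).obj (Over.mk (V.left.fromSpecResidueField v ≫ V.hom))),
            IsPullback a c f.hom ((AlgSp.yon S).map (Over.homMk (V.left.fromSpecResidueField v) rfl :
              Over.mk (V.left.fromSpecResidueField v ≫ V.hom) ⟶ V) ≫ b) →
            AlgSp.EtaleLocally Dual3.IsGorenstein Xv].TFAE := by
  -- the fibres over residue field points of charts are locally Noetherian
  have hN : ∀ (V : Over S) (b : (AlgSp.yon S).obj V ⟶ Y.obj) (v : ↥V.left) (Xv : AlgSp.Sp S)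
      (a : Xv ⟶ X.obj) (c : Xv ⟶ (AlgSp.yon S).obj (Over.mk (V.left.fromSpecResidueField v ≫ V.hom))),
      IsPullback a c f.hom ((AlgSp.yon S).map (Over.homMk (V.left.fromSpecResidueField v) rfl :
        Over.mk (V.left.fromSpecResidueField v ≫ V.hom) ⟶ V) ≫ b) → AlgSp.IsLocNoethSp Xv := by
    intro V b v Xv a c sq
    refine hf (FieldPt.ofPt b v) Xv a c ?_
    rw [FieldPt.toHom_ofPt]
    exact sq
  obtain ⟨U, p, hpe, hps⟩ := X.property.atlas
  tfae_have 1 → 3 := by
    intro H1
    refine ⟨?_, ?_⟩
    · intro U' V' a' b' h' ha' hb' hc'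
      rw [Flat.iff_flat_stalkMap]
      intro u'
      exact (H1 _ a' b' h' u' ha' hb' hc' rfl).1
    · intro V b hb v Xv a c sq
      have sqW := hb.rep.isPullback' (p ≫ f.hom)
      set t := hb.rep.fst' (p ≫ f.hom) with ht
      set s := hb.rep.snd (p ≫ f.hom) with hs
      obtain ⟨ℓ, hℓ⟩ := fibre_chart sqW v sq
      have hℓe : RepWith @Etale ℓ := MorphismProperty.of_isPullback hℓ hpe
      have hℓs : RepWith @Surjective ℓ := MorphismProperty.of_isPullback hℓ hps
      refine ⟨_, ℓ, hℓe, hℓs, ?_, ?_⟩
      · exact isLocallyNoetherian_of_repWith_etale (hN V b v Xv a c sq) ℓ hℓe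
      · intro z
        have hse : Etale s.left := hb.property_snd _
        have hchart : RepWith @Etale ((yon S).map s ≫ p) :=
          MorphismProperty.comp_mem _ _ _ ((repWith_yon_map_iff _ _).2 hse) hpe
        have hcomm : ((yon S).map s ≫ p) ≫ f.hom = (yon S).map t ≫ b := by
          rw [Category.assoc]; exact sqW.w.symm
        have hG : Dual3.IsGorensteinAt t.left (t.left.fiberι v z) :=
          H1 _ ((yon S).map s ≫ p) b t (t.left.fiberι v z) hchart hb hcomm rfl
        have hy : t.left (t.left.fiberι v z) = v := by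
          have : t.left.fiberι v z ∈ Set.range (t.left.fiberι v) := ⟨z, rfl⟩
          rw [t.left.range_fiberι v] at this
          exact this
        exact gor_stalk_fiber t.left _ hG v hy z rfl
  tfae_have 3 → 2 := by
    rintro ⟨hfl, H3⟩
    obtain ⟨V, b, hbe, hbs⟩ := Y.property.atlas
    exact ⟨hfl, V, b, hbe, hbs, fun v Xv a c sq => H3 V b hbe v Xv a c sq⟩
  tfae_have 2 → 1 := by
    rintro ⟨hfl, V, b, hb, hbs, H2⟩ x
    obtain ⟨u, rfl⟩ := Groth.Agent.Lib.H86AlgSpPoints.ofPt_surjective hps x
    obtain ⟨v, hv⟩ := Groth.Agent.Lib.H86AlgSpPoints.ofPt_surjective hbs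
      (Points.map f.hom (Points.ofPt p u))
    have sqW := hb.rep.isPullback' (p ≫ f.hom)
    set t := hb.rep.fst' (p ≫ f.hom) with ht
    set s := hb.rep.snd (p ≫ f.hom) with hs
    obtain ⟨w, hw1, hw2⟩ := exists_point_of_ofPt_eq sqW v u (by rw [hv]; rfl)
    have hse : Etale s.left := hb.property_snd _
    have hchart : RepWith @Etale ((yon S).map s ≫ p) :=
      MorphismProperty.comp_mem _ _ _ ((repWith_yon_map_iff _ _).2 hse) hpe
    have hcomm : ((yon S).map s ≫ p) ≫ f.hom = (yon S).map t ≫ b := by
      rw [Category.assoc]; exact sqW.w.symm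
    have hpt : Points.ofPt ((yon S).map s ≫ p) w = Points.ofPt p u := by
      rw [ofPt_yon_map_comp, hw2]
    -- Gorenstein at `w` in this chart
    have hGw : Dual3.IsGorensteinAt t.left w := by
      haveI : Flat t.left := hfl _ b t hchart hb hcomm
      refine ⟨Flat.stalkMap t.left w, ?_⟩
      have sqv := IsPullback.of_hasPullback f.hom
        ((yon S).map (Over.homMk (V.left.fromSpecResidueField (t.left w)) rfl :
          Over.mk (V.left.fromSpecResidueField (t.left w) ≫ V.hom) ⟶ V) ≫ b)
      obtain ⟨ℓ, hℓ⟩ := fibre_chart sqW (t.left w) sqv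
      have hℓe : RepWith @Etale ℓ := MorphismProperty.of_isPullback hℓ hpe
      have hT : Dual3.IsGorenstein (t.left.fiber (t.left w)) :=
        Groth.Agent.S10691.isGorenstein_of_repWith_etale (hN V b _ _ _ _ sqv) (H2 _ _ _ _ sqv) ℓ hℓe
      exact hT.2 (t.left.asFiber w)
    intro U' V' a' b' h' u' ha' hb' hc' hu'
    exact (H14GorEtLocal2.etLocalAt_isGorensteinAt.chart_indep f.hom ((yon S).map s ≫ p) b t a' b' h'
      hchart hb ha' hb' hcomm hc' w u' (hpt.trans hu'.symm)).1 hGw
  tfae_finish

end Groth.Agent.S10690
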