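import Groth.Statements.S10692
import Groth.Agent.S10679
import Groth.Agent.S10680
import Groth.Agent.Lib.H56FibDimSup

set_option autoImplicit false
universe u
open CategoryTheory CategoryTheory.Limits AlgebraicGeometry
open AlgSp

namespace Groth.Agent.S10692

set_option linter.style.haveILetI false

set_option backward.isDefEq.respectTransparency false in
/-- the fibres of a morphism of finite type are finite-dimensional. -/
theorem exists_nat_dim_fibre_le {S : Scheme.{u}} {X Y : AlgSp.Space S} (f : X ⟶ Y)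
    (hft : AlgSp.IsFiniteTypeMor f.hom)
    (y : AlgSp.Points Y.obj) (k : AlgSp.FieldPt Y.obj) (hk : AlgSp.Points.mk k = y)
    (Xk : AlgSp.Sp S) (fst : Xk ⟶ X.obj) (snd : Xk ⟶ (AlgSp.yon S).obj k.pt)
    (h : IsPullback fst snd f.hom k.toHom) : ∃ n : ℕ, AlgSp.dim Xk ≤ n := by
  have hlft : AlgSp.LocP @LocallyOfFiniteType f.hom := hft.1
  have hchar := Groth.Agent.S10678.result f hft y k hk Xk fst snd h
  have hK : AlgSp.IsAlgSpace ((AlgSp.yon S).obj k.pt) := AlgSp.IsAlgSpace.yon_obj k.pt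
  have hidE : AlgSp.RepWith @Etale (𝟙 ((AlgSp.yon S).obj k.pt)) :=
    Groth.Agent.Lib.AlgSpQC.repWith_id @Etale k.pt
  have hidS : AlgSp.RepWith @Surjective (𝟙 ((AlgSp.yon S).obj k.pt)) :=
    Groth.Agent.Lib.AlgSpQC.repWith_id @Surjective k.pt
  have hKqc : AlgSp.IsQuasiCompactSp ((AlgSp.yon S).obj k.pt) :=
    ⟨k.pt, 𝟙 _, hidE, hidS, (inferInstance : CompactSpace (PrimeSpectrum k.K))⟩
  have hXkqc : AlgSp.IsQuasiCompactSp Xk := hft.2 hK hKqc k.toHom fst snd h
  haveI : CompactSpace (AlgSp.Points Xk) :=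
    Groth.Agent.Lib.AlgSpQC.compactSpace_points_of_isQuasiCompactSp hXkqc
  have hpt : ∀ z : AlgSp.Points ((AlgSp.yon S).obj k.pt), AlgSp.Points.map k.toHom z = y := by
    intro z
    obtain ⟨t, rfl⟩ := Groth.Agent.Lib.H86AlgSpPoints.ofPt_surjective hidS z
    rw [AlgSp.Points.map_ofPt, Category.id_comp, Groth.Agent.Lib.AlgSpFibreEmb46.ofPt_toHom', hk]
  have hC2 : ∀ x : AlgSp.Points X.obj, AlgSp.Points.map f.hom x = y →
      ∃ xk : AlgSp.Points Xk, AlgSp.Points.map fst xk = x := by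
    intro x hx
    obtain ⟨xk, h1, -⟩ := Groth.Agent.Lib.H86AlgSpPoints.exists_of_isPullback h x
      (AlgSp.Points.ofPt (𝟙 _) (IsLocalRing.closedPoint k.K)) (by rw [hx, hpt])
    exact ⟨xk, h1⟩
  set A : ℕ → Set (AlgSp.Points X.obj) := fun n => {x |
    AlgSp.HasAtMor (fun _ _ h u => FlatMor.fibreDimAt h u ≤ (n : WithBot ℕ∞)) f.hom x} with hA
  have hAo : ∀ n, IsOpen (A n) := fun n => Groth.Agent.S10308.result f hlft n
  have hAmono : Monotone A := by
    intro m n hmn x
    rintro ⟨U, V, a, b, h', u, ha, hb, hcomm, hux, hQ⟩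
    refine ⟨U, V, a, b, h', u, ha, hb, hcomm, hux, le_trans hQ ?_⟩
    exact_mod_cast hmn
  have hAcov : ∀ x : AlgSp.Points X.obj, ∃ n, x ∈ A n := by
    intro x
    obtain ⟨U, V, a, c, h', u, ha, hc, hcomm, hu⟩ :=
      Groth.Agent.Lib.AlgSpQFAt91.exists_chart_diagram X.property Y.property f.hom x
    haveI : LocallyOfFiniteType h'.left := hlft a c h' ha hc hcomm
    obtain ⟨n, hn⟩ := Groth.Agent.Lib.H56LocDim.exists_nat_fibreDimAt_le h'.left u
    exact ⟨n, U, V, a, c, h', u, ha, hc, hcomm, hu, hn⟩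
  -- compactness
  have hcomp : IsCompact (Set.univ : Set (AlgSp.Points Xk)) := isCompact_univ
  obtain ⟨t, ht⟩ := hcomp.elim_finite_subcover (fun n => AlgSp.Points.map fst ⁻¹' A n)
    (fun n => (hAo n).preimage (AlgSp.Points.continuous_map fst))
    (by
      intro xk _
      obtain ⟨n, hn⟩ := hAcov (AlgSp.Points.map fst xk)
      exact Set.mem_iUnion.2 ⟨n, hn⟩)
  refine ⟨t.sup id, (hchar.2 _).2 ?_⟩
  intro x hx
  obtain ⟨xk, rfl⟩ := hC2 x hx
  have := ht (Set.mem_univ xk)
  simp only [Set.mem_iUnion] at this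
  obtain ⟨n, hnt, hn⟩ := this
  exact hAmono (Finset.le_sup (f := id) hnt) hn

theorem natcast_eq (n : ℕ) : ((n : ℕ) : WithBot ℕ∞) = (((n : ℕ) : ℕ∞) : WithBot ℕ∞) := rfl

theorem lt_zero_iff_eq_bot (a : WithBot ℕ∞) : a < 0 ↔ a = ⊥ := by
  induction a using WithBot.recBotCoe with
  | bot => simp
  | coe a =>
    simp only [WithBot.coe_ne_bot, iff_false, not_lt]
    exact_mod_cast (zero_le (a := a))

theorem coe_eq_iff (m n : ℕ) : (((m : ℕ∞) : WithBot ℕ∞) = ((n : ℕ) : WithBot ℕ∞)) ↔ m = n := by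
  rw [natcast_eq, WithBot.coe_inj, Nat.cast_inj]

theorem coe_lt_iff (m n : ℕ) : (((m : ℕ∞) : WithBot ℕ∞) < ((n : ℕ) : WithBot ℕ∞)) ↔ m < n := by
  rw [natcast_eq, WithBot.coe_lt_coe, Nat.cast_lt]

theorem lt_coe_iff (m n : ℕ) : (((n : ℕ) : WithBot ℕ∞) < ((m : ℕ∞) : WithBot ℕ∞)) ↔ n < m := by
  rw [natcast_eq, WithBot.coe_lt_coe, Nat.cast_lt]

theorem top_ne (n : ℕ) : ((⊤ : ℕ∞) : WithBot ℕ∞) ≠ ((n : ℕ) : WithBot ℕ∞) := by
  rw [natcast_eq, Ne, WithBot.coe_inj]
  exact ENat.top_ne_natCast n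

theorem top_not_lt (n : ℕ) : ¬ ((⊤ : ℕ∞) : WithBot ℕ∞) < ((n : ℕ) : WithBot ℕ∞) := by
  rw [natcast_eq, WithBot.coe_lt_coe]
  exact not_top_lt

theorem eq_natCast_succ_iff (a : WithBot ℕ∞) (n : ℕ) :
    a = ((n + 1 : ℕ) : WithBot ℕ∞) ↔ a < ((n + 2 : ℕ) : WithBot ℕ∞) ∧ ((n : ℕ) : WithBot ℕ∞) < a := by
  induction a using WithBot.recBotCoe with
  | bot =>
    constructor
    · intro h; exact absurd h.symm (by rw [natcast_eq]; exact WithBot.coe_ne_bot)
    · rintro ⟨-, h⟩; exact absurd h not_lt_bot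
  | coe a =>
    induction a using ENat.recTopCoe with
    | top =>
      exact ⟨fun h => absurd h (top_ne _), fun h => absurd h.1 (top_not_lt _)⟩
    | coe m =>
      rw [coe_eq_iff, coe_lt_iff, lt_coe_iff]
      omega

theorem eq_zero_iff' (a : WithBot ℕ∞) :
    a = ((0 : ℕ) : WithBot ℕ∞) ↔ a < ((1 : ℕ) : WithBot ℕ∞) ∧ ⊥ < a := by
  induction a using WithBot.recBotCoe with
  | bot =>
    constructor
    · intro h; exact absurd h.symm (by rw [natcast_eq]; exact WithBot.coe_ne_bot)
    · rintro ⟨-, h⟩; exact absurd h (lt_irrefl _)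
  | coe a =>
    induction a using ENat.recTopCoe with
    | top =>
      exact ⟨fun h => absurd h (top_ne _), fun h => absurd h.1 (top_not_lt _)⟩
    | coe m =>
      rw [coe_eq_iff, coe_lt_iff]
      simp only [WithBot.bot_lt_coe, and_true]
      omega


/-- For a proper flat morphism f : X ⟶ Y between algebraic spaces over S which is of finite
presentation, the fibre dimension function on |Y| is locally constant: for every d the set of y such
that every fibre X_k over y (k a field point in the class of y, X_k any pullback in fppf sheaves)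
has dimension exactly d is open. -/
theorem result {S : Scheme.{u}} {X Y : AlgSp.Space S} (f : X ⟶ Y) (hf1 : AlgSp.IsProperMor f.hom)
    (hf2 : AlgSp.LocP @Flat f.hom) (hf3 : AlgSp.IsFinitePresentationMor f.hom) (d : WithBot ℕ∞) :
    IsOpen {y : AlgSp.Points Y.obj | ∀ (k : AlgSp.FieldPt Y.obj), AlgSp.Points.mk k = y →
      ∀ (Xk : AlgSp.Sp S) (fst : Xk ⟶ X.obj) (snd : Xk ⟶ (AlgSp.yon S).obj k.pt),
        IsPullback fst snd f.hom k.toHom → AlgSp.dim Xk = d} := by
  have hex : ∀ y : AlgSp.Points Y.obj, ∃ (k : AlgSp.FieldPt Y.obj), AlgSp.Points.mk k = y := by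
    intro y
    induction y using AlgSp.Points.ind with | h p => exact ⟨p, rfl⟩
  induction d using WithBot.recBotCoe with
  | bot =>
    convert Groth.Agent.S10680.result f hf1 0 using 1
    ext y
    simp only [Set.mem_ofPred_eq]
    refine forall_congr' fun k => forall_congr' fun hk => forall_congr' fun Xk =>
      forall_congr' fun fst => forall_congr' fun snd => forall_congr' fun h => ?_
    exact (lt_zero_iff_eq_bot _).symm
  | coe e =>
    induction e using ENat.recTopCoe with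
    | top =>
      convert isOpen_empty using 1
      ext y
      simp only [Set.mem_ofPred_eq, Set.mem_empty_iff_false, iff_false]
      intro hy
      obtain ⟨k, hk⟩ := hex y
      have h1 := hy k hk (pullback f.hom k.toHom) (pullback.fst _ _) (pullback.snd _ _)
        (IsPullback.of_hasPullback _ _)
      obtain ⟨n, hn⟩ := exists_nat_dim_fibre_le f hf1.2.1 y k hk _ _ _
        (IsPullback.of_hasPullback f.hom k.toHom)
      rw [h1] at hn
      have : ((⊤ : ℕ∞) : WithBot ℕ∞) ≤ (((n : ℕ) : ℕ∞) : WithBot ℕ∞) := hn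
      rw [WithBot.coe_le_coe, top_le_iff] at this
      exact ENat.natCast_ne_top n this
    | coe m =>
      cases m with
      | zero =>
        have h1 := Groth.Agent.S10680.result f hf1 ((1 : ℕ) : WithBot ℕ∞)
        have h2 := Groth.Agent.S10679.result f hf2 hf3 ⊥
        convert h1.inter h2 using 1
        ext y
        simp only [Set.mem_ofPred_eq, Set.mem_inter_iff]
        constructor
        · intro h
          exact ⟨fun k hk Xk fst snd hp => ((eq_zero_iff' _).1 (h k hk Xk fst snd hp)).1,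
            fun k hk Xk fst snd hp => ((eq_zero_iff' _).1 (h k hk Xk fst snd hp)).2⟩
        · rintro ⟨ha, hb⟩ k hk Xk fst snd hp
          exact (eq_zero_iff' _).2 ⟨ha k hk Xk fst snd hp, hb k hk Xk fst snd hp⟩
      | succ n =>
        have h1 := Groth.Agent.S10680.result f hf1 ((n + 2 : ℕ) : WithBot ℕ∞)
        have h2 := Groth.Agent.S10679.result f hf2 hf3 ((n : ℕ) : WithBot ℕ∞)
        convert h1.inter h2 using 1
        ext y
        simp only [Set.mem_ofPred_eq, Set.mem_inter_iff]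
        constructor
        · intro h
          exact ⟨fun k hk Xk fst snd hp => ((eq_natCast_succ_iff _ n).1 (h k hk Xk fst snd hp)).1,
            fun k hk Xk fst snd hp => ((eq_natCast_succ_iff _ n).1 (h k hk Xk fst snd hp)).2⟩
        · rintro ⟨ha, hb⟩ k hk Xk fst snd hp
          exact (eq_natCast_succ_iff _ n).2 ⟨ha k hk Xk fst snd hp, hb k hk Xk fst snd hp⟩

end Groth.Agent.S10692
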