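import Groth.Statements.S1071
import Groth.Agent.Lib.H4KoszulPn
-- import your own Groth.Agent.* helpers here

set_option autoImplicit false
universe u
open CategoryTheory CategoryTheory.Limits AlgebraicGeometry
open Perf

namespace Groth.Agent.S1071

/-- Let A be a ring, X = P^n_A and a ∈ ℤ. There is a cochain complex of O_X-modules, exact in every
degree, whose term in degree i is isomorphic to the direct sum of (n+1 choose i) copies of O_X(a +
i) for 0 ≤ i ≤ n + 1 and is zero in all other degrees. -/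
theorem result (n : ℕ) (A : Type u) [CommRing A] (a : ℤ) :
    ∃ C : CochainComplex (CohB1.ProjSpace n A).Modules ℤ, (∀ i : ℤ, C.ExactAt i) ∧
      (∀ i : ℕ, i ≤ n + 1 → Nonempty (C.X (i : ℤ) ≅ ∐ fun _ : Fin (Nat.choose (n + 1) i) => Twist.twistProjSpace n A (a + i))) ∧
      (∀ i : ℤ, i < 0 ∨ (n : ℤ) + 1 < i → IsZero (C.X i)) := by
  obtain ⟨C, h1, h2, h3⟩ := Groth.Agent.Lib.H4KoszulPn.exists_koszul n A
    (Coh.structureModule (CohB1.ProjSpace n A)) a
  refine ⟨C, h1, fun i hi => ?_, h3⟩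
  obtain ⟨e⟩ := h2 i hi
  exact ⟨e ≪≫ Sigma.mapIso fun _ => Groth.Agent.Lib.OXModTensor.leftUnitor _⟩

end Groth.Agent.S1071
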