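import Groth.Statements.S1072
import Mathlib

set_option autoImplicit false
universe v v' u u'
open CategoryTheory CategoryTheory.Limits
open CohDer

namespace Groth.Agent.S1072

set_option linter.unusedSectionVars false

namespace LocAb

variable {C : Type u} [Category.{v} C] [Abelian C] {D : Type u'} [Category.{v'} D]
  (L : C ⥤ D) (W : MorphismProperty C) [W.HasLeftCalculusOfFractions]
  [W.HasRightCalculusOfFractions] [L.IsLocalization W] [Preadditive D] [L.Additive]

include L W

lemma map_eq_zero_iff_precomp {X Y : C} (f : X ⟶ Y) :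
    L.map f = 0 ↔ ∃ (Z : C) (s : Z ⟶ X) (_ : W s), s ≫ f = 0 := by
  rw [← L.map_zero, MorphismProperty.map_eq_iff_precomp L W]
  simp

lemma map_eq_zero_iff_postcomp {X Y : C} (f : X ⟶ Y) :
    L.map f = 0 ↔ ∃ (Z : C) (s : Y ⟶ Z) (_ : W s), f ≫ s = 0 := by
  rw [← L.map_zero, MorphismProperty.map_eq_iff_postcomp L W]
  simp

lemma preservesMonomorphisms : L.PreservesMonomorphisms where
  preserves {X Y} m _ := by
    have := Localization.essSurj L W
    apply Preadditive.mono_of_cancel_zero
    intro T χ hχ
    obtain ⟨φ, hφ⟩ := Localization.exists_rightFraction L W ((L.objObjPreimageIso T).hom ≫ χ)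
    have := Localization.inverts L W φ.s φ.hs
    rw [← cancel_epi (L.map φ.s), MorphismProperty.RightFraction.map_s_comp_map] at hφ
    have h1 : L.map (φ.f ≫ m) = 0 := by
      rw [L.map_comp, ← hφ, Category.assoc, Category.assoc, hχ, comp_zero, comp_zero]
    obtain ⟨Z, t, ht, fac⟩ := (map_eq_zero_iff_precomp L W _).1 h1
    have := Localization.inverts L W t ht
    rw [← Category.assoc, ← zero_comp (f := m), cancel_mono] at fac
    have h2 : L.map φ.f = 0 := by
      rw [← cancel_epi (L.map t), ← L.map_comp, fac, L.map_zero, comp_zero]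
    rw [h2] at hφ
    rw [← cancel_epi (L.objObjPreimageIso T).hom, ← cancel_epi (L.map φ.s), hφ, comp_zero,
      comp_zero]

lemma preservesEpimorphisms : L.PreservesEpimorphisms where
  preserves {X Y} m _ := by
    have := Localization.essSurj L W
    apply Preadditive.epi_of_cancel_zero
    intro T χ hχ
    obtain ⟨φ, hφ⟩ := Localization.exists_leftFraction L W (χ ≫ (L.objObjPreimageIso T).inv)
    have := Localization.inverts L W φ.s φ.hs
    rw [← cancel_mono (L.map φ.s), MorphismProperty.LeftFraction.map_comp_map_s] at hφ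
    have h1 : L.map (m ≫ φ.f) = 0 := by
      rw [L.map_comp, ← hφ, ← Category.assoc, ← Category.assoc, hχ, zero_comp, zero_comp]
    obtain ⟨Z, t, ht, fac⟩ := (map_eq_zero_iff_postcomp L W _).1 h1
    have := Localization.inverts L W t ht
    rw [Category.assoc, ← comp_zero (f := m), cancel_epi] at fac
    have h2 : L.map φ.f = 0 := by
      rw [← cancel_mono (L.map t), ← L.map_comp, fac, L.map_zero, zero_comp]
    rw [h2] at hφ
    rw [← cancel_mono (L.objObjPreimageIso T).inv, ← cancel_mono (L.map φ.s), hφ, zero_comp,
      zero_comp]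

set_option backward.isDefEq.respectTransparency false in
lemma preservesKernel {X Y : C} (f : X ⟶ Y) :
    PreservesLimit (parallelPair f 0) L := by
  have := preservesMonomorphisms L W
  have := Localization.essSurj L W
  suffices ∀ (T : D) (z : T ⟶ L.obj X) (hz : z ≫ L.map f = 0),
      ∃ (l : T ⟶ L.obj (kernel f)), l ≫ L.map (kernel.ι f) = z from
    preservesLimit_of_preserves_limit_cone (kernelIsKernel f)
      ((KernelFork.isLimitMapConeEquiv _ L).2
        (Fork.IsLimit.ofExistsUnique
          (fun s ↦ existsUnique_of_exists_of_unique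
            (this _ _ (KernelFork.condition s))
            (fun _ _ h₁ h₂ ↦ by simpa [cancel_mono] using h₁.trans h₂.symm))))
  intro T w hw
  wlog hw' : ∃ (Z : C) (hZ : T = L.obj Z) (z : Z ⟶ X), w = eqToHom hZ ≫ L.map z
      generalizing T with H
  · obtain ⟨φ, hφ⟩ := Localization.exists_rightFraction L W
      ((L.objObjPreimageIso T).hom ≫ w)
    have := Localization.inverts L W φ.s φ.hs
    rw [← cancel_epi (L.map φ.s),
      MorphismProperty.RightFraction.map_s_comp_map] at hφ
    obtain ⟨l, hl⟩ := H _ (L.map φ.f) (by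
      rw [← hφ, Category.assoc, Category.assoc, hw, comp_zero, comp_zero]) ⟨_, rfl, by simp⟩
    exact ⟨(L.objObjPreimageIso T).inv ≫ inv (L.map φ.s) ≫ l, by simp [hl, ← hφ]⟩
  obtain ⟨Z, rfl, z, rfl⟩ := hw'
  simp only [eqToHom_refl, Category.id_comp, ← L.map_comp, map_eq_zero_iff_precomp L W] at hw
  obtain ⟨Z', t, ht, fac⟩ := hw
  have := Localization.inverts L W t ht
  rw [← Category.assoc] at fac
  exact ⟨inv (L.map t) ≫ L.map (kernel.lift _ _ fac), by simp [← Functor.map_comp]⟩

set_option backward.isDefEq.respectTransparency false in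
lemma preservesCokernel {X Y : C} (f : X ⟶ Y) :
    PreservesColimit (parallelPair f 0) L := by
  have := preservesEpimorphisms L W
  have := Localization.essSurj L W
  suffices ∀ (T : D) (z : L.obj Y ⟶ T) (hz : L.map f ≫ z = 0),
      ∃ (l : L.obj (cokernel f) ⟶ T), L.map (cokernel.π f) ≫ l = z from
    preservesColimit_of_preserves_colimit_cocone (cokernelIsCokernel f)
      ((CokernelCofork.isColimitMapCoconeEquiv _ L).2
        (Cofork.IsColimit.ofExistsUnique
          (fun s ↦ existsUnique_of_exists_of_unique
            (this _ _ (CokernelCofork.condition s))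
            (fun _ _ h₁ h₂ ↦ by simpa [cancel_epi] using h₁.trans h₂.symm))))
  intro T w hw
  wlog hw' : ∃ (Z : C) (hZ : L.obj Z = T) (z : Y ⟶ Z), w = L.map z ≫ eqToHom hZ
      generalizing T with H
  · obtain ⟨φ, hφ⟩ := Localization.exists_leftFraction L W
      (w ≫ (L.objObjPreimageIso T).inv)
    have := Localization.inverts L W φ.s φ.hs
    rw [← cancel_mono (L.map φ.s), Category.assoc,
      MorphismProperty.LeftFraction.map_comp_map_s] at hφ
    obtain ⟨l, hl⟩ := H _ (L.map φ.f) (by rw [← hφ, reassoc_of% hw, zero_comp]) ⟨_, rfl, by simp⟩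
    exact ⟨l ≫ inv (L.map φ.s) ≫ (L.objObjPreimageIso T).hom, by simp [reassoc_of% hl, ← hφ]⟩
  obtain ⟨Z, rfl, z, rfl⟩ := hw'
  simp only [eqToHom_refl, Category.comp_id, ← L.map_comp,
    map_eq_zero_iff_postcomp L W] at hw
  obtain ⟨Z', t, ht, fac⟩ := hw
  rw [Category.assoc] at fac
  have := Localization.inverts L W t ht
  exact ⟨L.map (cokernel.desc _ _ fac) ≫ inv (L.map t), by simp [← L.map_comp_assoc]⟩

set_option backward.isDefEq.respectTransparency false in
lemma hasKernels : HasKernels D where
  has_limit f := by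
    obtain ⟨g, ⟨e⟩⟩ :=
      (Localization.essSurj_mapArrow L W).mem_essImage (Arrow.mk f)
    have := preservesKernel L W g.hom
    have : HasLimit (parallelPair (L.map g.hom) 0) :=
      ⟨_, (KernelFork.isLimitMapConeEquiv _ L).1
        (isLimitOfPreserves L (kernelIsKernel g.hom))⟩
    exact hasLimit_of_iso (show parallelPair (L.map g.hom) 0 ≅ _ from
      parallelPair.ext (Arrow.leftFunc.mapIso e) (Arrow.rightFunc.mapIso e))

set_option backward.isDefEq.respectTransparency false in
lemma hasCokernels : HasCokernels D where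
  has_colimit f := by
    obtain ⟨g, ⟨e⟩⟩ :=
      (Localization.essSurj_mapArrow L W).mem_essImage (Arrow.mk f)
    have := preservesCokernel L W g.hom
    have : HasColimit (parallelPair (L.map g.hom) 0) :=
      ⟨_, (CokernelCofork.isColimitMapCoconeEquiv _ L).1
        (isColimitOfPreserves L (cokernelIsCokernel g.hom))⟩
    exact hasColimit_of_iso (show _ ≅ parallelPair (L.map g.hom) 0 from
      parallelPair.ext (Arrow.leftFunc.mapIso e.symm) (Arrow.rightFunc.mapIso e.symm))

lemma hasFiniteProducts : HasFiniteProducts D :=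
  have := Localization.essSurj L W
  L.hasFiniteProducts_of_additive_of_essSurj

/-- if `L f` is a mono, then `L` inverts the epi part of `f` -/
lemma isIso_map_factorThruImage_of_mono {X Y : C} (f : X ⟶ Y) [Mono (L.map f)] :
    IsIso (L.map (Abelian.factorThruImage f)) := by
  let p := Abelian.factorThruImage f
  have h0 : L.map (kernel.ι p) = 0 := by
    have h1 : kernel.ι p ≫ f = 0 :=
      calc kernel.ι p ≫ f = kernel.ι p ≫ (p ≫ Abelian.image.ι f) :=
            congrArg (kernel.ι p ≫ ·) (Abelian.image.fac f).symm
        _ = 0 := by rw [← Category.assoc, kernel.condition, zero_comp]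
    rw [← cancel_mono (L.map f), zero_comp, ← L.map_comp, h1, L.map_zero]
  have hc : IsColimit (CokernelCofork.ofπ p (kernel.condition p)) :=
    Abelian.epiIsCokernelOfKernel (KernelFork.ofι (kernel.ι p) (kernel.condition p))
      (kernelIsKernel p)
  have := preservesCokernel L W (kernel.ι p)
  have hc' := (CokernelCofork.isColimitMapCoconeEquiv _ L).1 (isColimitOfPreserves L hc)
  exact CokernelCofork.IsColimit.isIso_π _ hc' h0

/-- if `L f` is an epi, then `L` inverts the mono part of `f` -/
lemma isIso_map_image_ι_of_epi {X Y : C} (f : X ⟶ Y) [Epi (L.map f)] :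
    IsIso (L.map (Abelian.image.ι f)) := by
  let ι := Abelian.image.ι f
  have h0 : L.map (cokernel.π ι) = 0 := by
    have h1 : f ≫ cokernel.π ι = 0 :=
      calc f ≫ cokernel.π ι = (Abelian.factorThruImage f ≫ ι) ≫ cokernel.π ι :=
            congrArg (· ≫ cokernel.π ι) (Abelian.image.fac f).symm
        _ = 0 := by rw [Category.assoc, cokernel.condition, comp_zero]
    rw [← cancel_epi (L.map f), comp_zero, ← L.map_comp, h1, L.map_zero]
  have hc : IsLimit (KernelFork.ofι ι (cokernel.condition ι)) :=
    Abelian.monoIsKernelOfCokernel (CokernelCofork.ofπ (cokernel.π ι) (cokernel.condition ι))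
      (cokernelIsCokernel ι)
  have := preservesKernel L W (cokernel.π ι)
  have hc' := (KernelFork.isLimitMapConeEquiv _ L).1 (isLimitOfPreserves L hc)
  exact KernelFork.IsLimit.isIso_ι _ hc' h0

set_option backward.isDefEq.respectTransparency false in
lemma mono_iff {X Y : D} (f : X ⟶ Y) :
    Mono f ↔ ∃ (X' Y' : C) (f' : X' ⟶ Y') (_ : Mono f'),
      Nonempty (Arrow.mk (L.map f') ≅ Arrow.mk f) := by
  have := preservesMonomorphisms L W
  have := Localization.essSurj_mapArrow L W
  refine ⟨fun _ ↦ ?_, ?_⟩
  · suffices ∀ ⦃X Y : C⦄ (f : X ⟶ Y) (_ : Mono (L.map f)),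
      ∃ (X' Y' : C) (f' : X' ⟶ Y') (_ : Mono f'),
          Nonempty (Arrow.mk (L.map f') ≅ Arrow.mk (L.map f)) by
        let e := L.mapArrow.objObjPreimageIso (Arrow.mk f)
        obtain ⟨X', Y', f', _, ⟨e'⟩⟩ := this _
          (((MorphismProperty.monomorphisms D).arrow_iso_iff e).2 (.infer_property f))
        exact ⟨_, _, f', inferInstance, ⟨e' ≪≫ e⟩⟩
    intro X Y f hf
    refine ⟨_, _, Abelian.image.ι f, inferInstance, ⟨Iso.symm ?_⟩⟩
    have := isIso_map_factorThruImage_of_mono L W f
    exact Arrow.isoMk (asIso (L.map (Abelian.factorThruImage f))) (Iso.refl _)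
      (by simp [← L.map_comp])
  · rintro ⟨X', Y', f', _, ⟨e⟩⟩
    exact ((MorphismProperty.monomorphisms D).arrow_mk_iso_iff e).1
      (by simpa using inferInstanceAs (Mono (L.map f')))

set_option backward.isDefEq.respectTransparency false in
lemma epi_iff {X Y : D} (f : X ⟶ Y) :
    Epi f ↔ ∃ (X' Y' : C) (f' : X' ⟶ Y') (_ : Epi f'),
      Nonempty (Arrow.mk (L.map f') ≅ Arrow.mk f) := by
  have := preservesEpimorphisms L W
  have := Localization.essSurj_mapArrow L W
  refine ⟨fun _ ↦ ?_, ?_⟩
  · suffices ∀ ⦃X Y : C⦄ (f : X ⟶ Y) (_ : Epi (L.map f)),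
      ∃ (X' Y' : C) (f' : X' ⟶ Y') (_ : Epi f'),
          Nonempty (Arrow.mk (L.map f') ≅ Arrow.mk (L.map f)) by
        let e := L.mapArrow.objObjPreimageIso (Arrow.mk f)
        obtain ⟨X', Y', f', _, ⟨e'⟩⟩ := this _
          (((MorphismProperty.epimorphisms D).arrow_iso_iff e).2 (.infer_property f))
        exact ⟨_, _, f', inferInstance, ⟨e' ≪≫ e⟩⟩
    intro X Y f hf
    refine ⟨_, _, Abelian.factorThruImage f, inferInstance, ⟨?_⟩⟩
    have := isIso_map_image_ι_of_epi L W f
    refine Arrow.isoMk (Iso.refl _) (asIso (L.map (Abelian.image.ι f))) (by simp [← L.map_comp])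
  · rintro ⟨X', Y', f', _, ⟨e⟩⟩
    exact ((MorphismProperty.epimorphisms D).arrow_mk_iso_iff e).1
      (by simpa using inferInstanceAs (Epi (L.map f')))

lemma isNormalMonoCategory : IsNormalMonoCategory D where
  normalMonoOfMono f hf := by
    rw [mono_iff L W] at hf
    obtain ⟨X', Y', f', _, ⟨e⟩⟩ := hf
    let hf' := normalMonoOfMono f'
    have := preservesKernel L W hf'.g
    refine ⟨NormalMono.ofArrowIso ?_ e⟩
    exact {
      Z := L.obj hf'.Z
      g := L.map hf'.g
      w := by rw [← L.map_comp]; simp [hf'.w]
      isLimit :=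
        (KernelFork.isLimitMapConeEquiv _ L).1
          (isLimitOfPreserves L hf'.isLimit) }

lemma isNormalEpiCategory : IsNormalEpiCategory D where
  normalEpiOfEpi f hf := by
    rw [epi_iff L W] at hf
    obtain ⟨X', Y', f', _, ⟨e⟩⟩ := hf
    let hf' := normalEpiOfEpi f'
    have := preservesCokernel L W hf'.g
    refine ⟨NormalEpi.ofArrowIso ?_ e⟩
    exact {
      W := L.obj hf'.W
      g := L.map hf'.g
      w := by rw [← L.map_comp]; simp [hf'.w]
      isColimit :=
        (CokernelCofork.isColimitMapCoconeEquiv _ L).1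
          (isColimitOfPreserves L hf'.isColimit) }

/-- the localized category is abelian -/
@[instance_reducible]
def abelian : Abelian D := by
  have := hasFiniteProducts L W
  have := hasKernels L W
  have := hasCokernels L W
  have := isNormalMonoCategory L W
  have := isNormalEpiCategory L W
  constructor

lemma preservesFiniteLimits : PreservesFiniteLimits L := by
  let := abelian L W
  rw [((Functor.preservesFiniteLimits_tfae L).out 3 2 :)]
  intro _ _ f
  exact preservesKernel L W f

lemma preservesFiniteColimits : PreservesFiniteColimits L := by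
  let := abelian L W
  rw [((Functor.preservesFiniteColimits_tfae L).out 3 2 :)]
  intro _ _ f
  exact preservesCokernel L W f

end LocAb


/-- Let A be an abelian category, W a class of morphisms admitting both left and right calculus of
fractions, and L : A ⥤ D a localization functor for W. Then D admits the structure of an abelian
category and L is exact (preserves finite limits and finite colimits). -/
theorem result {A : Type u} [Category.{v} A] [Abelian A]
    (W : MorphismProperty A) [W.HasLeftCalculusOfFractions] [W.HasRightCalculusOfFractions]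
    {D : Type u'} [Category.{v'} D] (L : A ⥤ D) [L.IsLocalization W] :
    Nonempty (Abelian D) ∧ PreservesFiniteLimits L ∧ PreservesFiniteColimits L := by
  letI := Localization.preadditive L W
  haveI := Localization.functor_additive L W
  exact ⟨⟨LocAb.abelian L W⟩, LocAb.preservesFiniteLimits L W, LocAb.preservesFiniteColimits L W⟩

end Groth.Agent.S1072
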