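import Groth.Statements.S2000
import Groth.Agent.S2005
import Groth.Agent.Lib.EtGlueQuot
import Mathlib.RingTheory.Localization.BaseChange
import Mathlib.Tactic
-- import your own Groth.Agent.* helpers here

set_option autoImplicit false
universe u
open TensorProduct
open EtAlg

namespace Groth.Agent.S2000

section Helpers

variable (R R' : Type u) [CommRing R] [CommRing R'] [Algebra R R'] (f : R)
variable (M' : Type u) [AddCommGroup M'] [Module R' M'] [Module R M'] [IsScalarTower R R' M']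
variable (M₁ : Type u) [AddCommGroup M₁] [Module R M₁]
variable (α : LocalizedModule (Submonoid.powers (algebraMap R R' f)) M' ≃ₗ[R'] R' ⊗[R] M₁)

/-- `a(m') = α(m'/1)`. -/
noncomputable def aMap : M' →ₗ[R'] R' ⊗[R] M₁ :=
  α.toLinearMap ∘ₗ LocalizedModule.mkLinearMap (Submonoid.powers (algebraMap R R' f)) M'

omit [Module R M'] [IsScalarTower R R' M'] in
theorem aMap_apply (m' : M') : aMap R R' f M' M₁ α m' =
    α (LocalizedModule.mkLinearMap (Submonoid.powers (algebraMap R R' f)) M' m') := rfl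

omit [Module R M'] [IsScalarTower R R' M'] in
/-- (A1) -/
theorem aMap_eq_zero_iff (m' : M') :
    aMap R R' f M' M₁ α m' = 0 ↔ ∃ k : ℕ, algebraMap R R' f ^ k • m' = 0 := by
  rw [aMap_apply, LinearEquiv.map_eq_zero_iff,
    IsLocalizedModule.eq_zero_iff (Submonoid.powers (algebraMap R R' f))]
  constructor
  · rintro ⟨⟨_, k, rfl⟩, hc⟩
    exact ⟨k, hc⟩
  · rintro ⟨k, hk⟩
    exact ⟨⟨_, k, rfl⟩, hk⟩

omit [Module R M'] [IsScalarTower R R' M'] in
/-- (A2) -/
theorem aMap_surj (z : R' ⊗[R] M₁) :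
    ∃ (k : ℕ) (m' : M'), aMap R R' f M' M₁ α m' = algebraMap R R' f ^ k • z := by
  obtain ⟨⟨m', ⟨_, k, rfl⟩⟩, h⟩ := IsLocalizedModule.surj (Submonoid.powers (algebraMap R R' f))
    (LocalizedModule.mkLinearMap (Submonoid.powers (algebraMap R R' f)) M') (α.symm z)
  refine ⟨k, m', ?_⟩
  rw [aMap_apply, ← h]
  change α (algebraMap R R' f ^ k • α.symm z) = _
  rw [map_smul, LinearEquiv.apply_symm_apply]

/-- the glued module -/
def glue : Submodule R (M' × M₁) where
  carrier := {p | aMap R R' f M' M₁ α p.1 = (1 : R') ⊗ₜ[R] p.2}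
  add_mem' := by
    intro p q hp hq
    simp only [Set.mem_setOf_eq, Prod.fst_add, Prod.snd_add, map_add, TensorProduct.tmul_add] at *
    rw [hp, hq]
  zero_mem' := by simp
  smul_mem' := by
    intro r p hp
    simp only [Set.mem_setOf_eq, Prod.smul_fst, Prod.smul_snd] at *
    rw [← algebraMap_smul R' r p.1, map_smul, hp, TensorProduct.tmul_smul, algebraMap_smul]

theorem mem_glue (p : M' × M₁) :
    p ∈ glue R R' f M' M₁ α ↔ aMap R R' f M' M₁ α p.1 = (1 : R') ⊗ₜ[R] p.2 := Iff.rfl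

section WithHf

variable (hf : Function.Bijective fun x : M₁ => f • x)
include hf

omit [CommRing R'] [Algebra R R'] in
theorem pow_smul_inj_M1 (k : ℕ) (y : M₁) (h : f ^ k • y = 0) : y = 0 := by
  induction k generalizing y with
  | zero => simpa using h
  | succ k ih =>
    rw [pow_succ, mul_smul] at h
    have h1 := ih (f • y) h
    apply hf.1
    simp only [smul_zero]
    exact h1

theorem smul_inj_tensor (z : R' ⊗[R] M₁) (h : f • z = 0) : z = 0 := by
  let E : M₁ ≃ₗ[R] M₁ := LinearEquiv.ofBijective (LinearMap.lsmul R M₁ f) hf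
  have hE : ∀ z : R' ⊗[R] M₁, (E.lTensor R') z = f • z := by
    intro z
    induction z using TensorProduct.induction_on with
    | zero => simp
    | tmul x y =>
      change x ⊗ₜ[R] (f • y) = _
      rw [TensorProduct.tmul_smul]
    | add x y hx hy => rw [map_add, hx, hy, smul_add]
  apply (E.lTensor R').injective
  rw [hE, h, map_zero]

theorem pow_smul_inj_tensor (k : ℕ) (z : R' ⊗[R] M₁) (h : f ^ k • z = 0) : z = 0 := by
  induction k generalizing z with
  | zero => simpa using h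
  | succ k ih =>
    rw [pow_succ, mul_smul] at h
    exact smul_inj_tensor R R' f M₁ hf z (ih (f • z) h)

end WithHf

/-- second projection -/
def pr₂ : glue R R' f M' M₁ α →ₗ[R] M₁ :=
  (LinearMap.snd R M' M₁) ∘ₗ (glue R R' f M' M₁ α).subtype

/-- first projection -/
def pr₁ : glue R R' f M' M₁ α →ₗ[R] M' :=
  (LinearMap.fst R M' M₁) ∘ₗ (glue R R' f M' M₁ α).subtype

/-- the comparison map -/
noncomputable def phi : R' ⊗[R] glue R R' f M' M₁ α →ₗ[R'] M' :=
  (pr₁ R R' f M' M₁ α).liftBaseChange R'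

theorem phi_tmul (r' : R') (m : glue R R' f M' M₁ α) :
    phi R R' f M' M₁ α (r' ⊗ₜ m) = r' • (m : M' × M₁).1 := rfl

theorem glue_spec (m : glue R R' f M' M₁ α) :
    aMap R R' f M' M₁ α (m : M' × M₁).1 = (1 : R') ⊗ₜ[R] (m : M' × M₁).2 := m.2

/-- `a ∘ φ = id ⊗ pr₂` -/
theorem aMap_phi (x : R' ⊗[R] glue R R' f M' M₁ α) :
    aMap R R' f M' M₁ α (phi R R' f M' M₁ α x) = (pr₂ R R' f M' M₁ α).lTensor R' x := by
  induction x using TensorProduct.induction_on with
  | zero => simp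
  | tmul r' m =>
    rw [phi_tmul, map_smul, glue_spec, LinearMap.lTensor_tmul, TensorProduct.smul_tmul', smul_eq_mul,
      mul_one]
    rfl
  | add x y hx hy => rw [map_add, map_add, hx, hy, map_add]

/-- relation between the two actions of `f`. -/
theorem algebraMap_pow_smul_tensor (k : ℕ) (z : R' ⊗[R] M₁) :
    algebraMap R R' f ^ k • z = f ^ k • z := by
  rw [← map_pow, algebraMap_smul]

omit [Module R M'] [IsScalarTower R R' M'] in
theorem algebraMap_pow_smul' (k : ℕ) (m' : M') [Module R M'] [IsScalarTower R R' M'] :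
    algebraMap R R' f ^ k • m' = f ^ k • m' := by
  rw [← map_pow, algebraMap_smul]

section WithHf2

variable (hf : Function.Bijective fun x : M₁ => f • x)
include hf

/-- (C1) `pr₂` exhibits `M₁` as the localization of the glued module. -/
theorem isLocalizedModule_pr₂ :
    IsLocalizedModule (Submonoid.powers f) (pr₂ R R' f M' M₁ α) where
  map_units := by
    rintro ⟨_, k, rfl⟩
    rw [Module.End.isUnit_iff]
    constructor
    · intro y₁ y₂ h
      have h' : f ^ k • (y₁ - y₂) = 0 := by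
        rw [smul_sub, sub_eq_zero]; exact h
      exact sub_eq_zero.mp (pow_smul_inj_M1 R f M₁ hf k _ h')
    · intro y
      induction k generalizing y with
      | zero => exact ⟨y, by simp⟩
      | succ k ih =>
        obtain ⟨y₁, hy₁⟩ := hf.2 y
        obtain ⟨y₂, hy₂⟩ := ih y₁
        refine ⟨y₂, ?_⟩
        simp only [Module.algebraMap_end_apply] at hy₂ ⊢
        rw [pow_succ', mul_smul, hy₂]
        exact hy₁
  surj := by
    intro y
    obtain ⟨k, m', hm'⟩ := aMap_surj R R' f M' M₁ α ((1 : R') ⊗ₜ[R] y)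
    have hmem : (m', f ^ k • y) ∈ glue R R' f M' M₁ α := by
      rw [mem_glue, hm', algebraMap_pow_smul_tensor, TensorProduct.tmul_smul]
    refine ⟨(⟨(m', f ^ k • y), hmem⟩, ⟨f ^ k, k, rfl⟩), ?_⟩
    rfl
  exists_of_eq := by
    intro x₁ x₂ h
    have h0 : aMap R R' f M' M₁ α ((x₁ - x₂ : glue R R' f M' M₁ α) : M' × M₁).1 = 0 := by
      rw [glue_spec]
      have : ((x₁ - x₂ : glue R R' f M' M₁ α) : M' × M₁).2 = 0 := by
        change (x₁ : M' × M₁).2 - (x₂ : M' × M₁).2 = 0
        rw [sub_eq_zero]; exact h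
      rw [this, TensorProduct.tmul_zero]
    obtain ⟨k, hk⟩ := (aMap_eq_zero_iff R R' f M' M₁ α _).mp h0
    refine ⟨⟨f ^ k, k, rfl⟩, ?_⟩
    change f ^ k • x₁ = f ^ k • x₂
    have hsub : f ^ k • (x₁ - x₂) = f ^ k • x₁ - f ^ k • x₂ := smul_sub _ _ _
    rw [← sub_eq_zero, ← hsub]
    apply Subtype.ext
    apply Prod.ext
    · change f ^ k • ((x₁ - x₂ : glue R R' f M' M₁ α) : M' × M₁).1 = 0
      rw [← algebraMap_pow_smul' R R' f M']
      exact hk
    · change f ^ k • ((x₁ : M' × M₁).2 - (x₂ : M' × M₁).2) = 0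
      have : (x₁ : M' × M₁).2 - (x₂ : M' × M₁).2 = 0 := by rw [sub_eq_zero]; exact h
      rw [this, smul_zero]

/-- (L-surj) -/
theorem lTensor_pr₂_surj (z : R' ⊗[R] M₁) :
    ∃ (k : ℕ) (x : R' ⊗[R] glue R R' f M' M₁ α), (pr₂ R R' f M' M₁ α).lTensor R' x = f ^ k • z := by
  haveI := isLocalizedModule_pr₂ R R' f M' M₁ α hf
  induction z using TensorProduct.induction_on with
  | zero => exact ⟨0, 0, by simp⟩
  | tmul r' y =>
    obtain ⟨⟨m, ⟨_, k, rfl⟩⟩, h⟩ := IsLocalizedModule.surj (Submonoid.powers f)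
      (pr₂ R R' f M' M₁ α) y
    refine ⟨k, r' ⊗ₜ m, ?_⟩
    rw [LinearMap.lTensor_tmul, ← h]
    rw [TensorProduct.tmul_smul]
    rfl
  | add z₁ z₂ h₁ h₂ =>
    obtain ⟨k₁, x₁, hx₁⟩ := h₁
    obtain ⟨k₂, x₂, hx₂⟩ := h₂
    refine ⟨k₁ + k₂, f ^ k₂ • x₁ + f ^ k₁ • x₂, ?_⟩
    rw [map_add, map_smul, map_smul, hx₁, hx₂, smul_add, smul_smul, smul_smul, ← pow_add, ← pow_add,
      add_comm k₂ k₁]

/-- (L-ker) -/
theorem lTensor_pr₂_ker (x : R' ⊗[R] glue R R' f M' M₁ α)
    (hx : (pr₂ R R' f M' M₁ α).lTensor R' x = 0) : ∃ k : ℕ, f ^ k • x = 0 := by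
  haveI := isLocalizedModule_pr₂ R R' f M' M₁ α hf
  haveI h1 : IsLocalizedModule (Submonoid.powers f)
      (TensorProduct.AlgebraTensorModule.rTensor R R' (pr₂ R R' f M' M₁ α)) := inferInstance
  have h2 : TensorProduct.AlgebraTensorModule.rTensor R R' (pr₂ R R' f M' M₁ α)
      (TensorProduct.comm R R' _ x) = 0 := by
    have : ∀ x : R' ⊗[R] glue R R' f M' M₁ α,
        TensorProduct.AlgebraTensorModule.rTensor R R' (pr₂ R R' f M' M₁ α)
          (TensorProduct.comm R R' _ x) =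
        TensorProduct.comm R R' _ ((pr₂ R R' f M' M₁ α).lTensor R' x) := by
      intro x
      induction x using TensorProduct.induction_on with
      | zero => simp
      | tmul r' m => rfl
      | add x y hx hy => rw [map_add, map_add, hx, hy, map_add, map_add]
    rw [this, hx, map_zero]
  obtain ⟨⟨_, k, rfl⟩, hc⟩ := (IsLocalizedModule.eq_zero_iff (Submonoid.powers f) _).mp h2
  refine ⟨k, ?_⟩
  apply (TensorProduct.comm R R' _).injective
  rw [map_smul, map_zero]
  exact hc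

omit hf in
/-- (T) -/
theorem torsion_mem_range_phi (t : M') (k : ℕ) (ht : algebraMap R R' f ^ k • t = 0) :
    ∃ m : glue R R' f M' M₁ α, (m : M' × M₁) = (t, 0) := by
  have h0 := (aMap_eq_zero_iff R R' f M' M₁ α t).mpr ⟨k, ht⟩
  have hmem : (t, (0 : M₁)) ∈ glue R R' f M' M₁ α := by
    rw [mem_glue, h0, TensorProduct.tmul_zero]
  exact ⟨⟨_, hmem⟩, rfl⟩

/-- (1) -/
theorem exists_pow_smul_mem_range_phi (m' : M') :
    ∃ (k : ℕ) (x : R' ⊗[R] glue R R' f M' M₁ α),
      phi R R' f M' M₁ α x = algebraMap R R' f ^ k • m' := by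
  obtain ⟨k, x, hx⟩ := lTensor_pr₂_surj R R' f M' M₁ α hf (aMap R R' f M' M₁ α m')
  rw [← aMap_phi, ← algebraMap_pow_smul_tensor, ← map_smul, ← sub_eq_zero, ← map_sub,
    aMap_eq_zero_iff] at hx
  obtain ⟨j, hj⟩ := hx
  obtain ⟨m, hm⟩ := torsion_mem_range_phi R R' f M' M₁ α _ j hj
  refine ⟨k, x - (1 : R') ⊗ₜ m, ?_⟩
  rw [map_sub, phi_tmul, hm, one_smul]
  exact sub_sub_cancel _ _

omit hf [Module R M'] [IsScalarTower R R' M'] in
theorem pow_smul_surj_M1 (hf : Function.Bijective fun x : M₁ => f • x) (k : ℕ) (y : M₁) :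
    ∃ v : M₁, f ^ k • v = y := by
  induction k generalizing y with
  | zero => exact ⟨y, by simp⟩
  | succ k ih =>
    obtain ⟨y₁, hy₁⟩ := hf.2 y
    obtain ⟨y₂, hy₂⟩ := ih y₁
    refine ⟨y₂, ?_⟩
    rw [pow_succ', mul_smul, hy₂]
    exact hy₁

omit hf in
/-- every `x ∈ R' ⊗ M` is `1 ⊗ m + f^n • x''`. -/
theorem exists_decomp (hq : EtGlue.QuotPowBijective R R' f) (n : ℕ) (hn : 0 < n)
    (x : R' ⊗[R] glue R R' f M' M₁ α) :
    ∃ (m : glue R R' f M' M₁ α) (x'' : R' ⊗[R] glue R R' f M' M₁ α),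
      x = (1 : R') ⊗ₜ[R] m + f ^ n • x'' := by
  induction x using TensorProduct.induction_on with
  | zero => exact ⟨0, 0, by simp⟩
  | tmul r' m₀ =>
    obtain ⟨a, c, hac⟩ := Groth.Agent.Lib.EtGlueQuot.quot_surj hq n hn r'
    refine ⟨a • m₀, c ⊗ₜ m₀, ?_⟩
    rw [hac, TensorProduct.add_tmul, TensorProduct.tmul_smul, TensorProduct.smul_tmul',
      TensorProduct.smul_tmul', Algebra.smul_def, Algebra.smul_def, mul_one, map_pow, mul_comm c]
  | add x y hx hy =>
    obtain ⟨m₁, x₁, h₁⟩ := hx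
    obtain ⟨m₂, x₂, h₂⟩ := hy
    refine ⟨m₁ + m₂, x₁ + x₂, ?_⟩
    rw [h₁, h₂, TensorProduct.tmul_add, smul_add]
    abel

/-- (2) -/
theorem div_of_phi_div (hq : EtGlue.QuotPowBijective R R' f) (n : ℕ)
    (x : R' ⊗[R] glue R R' f M' M₁ α) (m'' : M')
    (h : phi R R' f M' M₁ α x = algebraMap R R' f ^ n • m'') :
    ∃ x' : R' ⊗[R] glue R R' f M' M₁ α, x = f ^ n • x' := by
  rcases Nat.eq_zero_or_pos n with rfl | hn
  · exact ⟨x, by simp⟩
  obtain ⟨m, x'', rfl⟩ := exists_decomp R R' f M' M₁ α hq n hn x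
  rw [map_add, phi_tmul, one_smul, ← algebraMap_smul R' (f ^ n) x'', map_smul, map_pow] at h
  set u : M' := m'' - phi R R' f M' M₁ α x'' with hu
  have hm1 : (m : M' × M₁).1 = algebraMap R R' f ^ n • u := by
    rw [hu, smul_sub, ← h]
    abel
  obtain ⟨v, hv⟩ := pow_smul_surj_M1 R f M₁ hf n (m : M' × M₁).2
  have huv : (u, v) ∈ glue R R' f M' M₁ α := by
    rw [mem_glue]
    apply sub_eq_zero.mp
    apply pow_smul_inj_tensor R R' f M₁ hf n
    rw [smul_sub, sub_eq_zero, ← algebraMap_pow_smul_tensor, ← map_smul, ← hm1, glue_spec,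
      ← TensorProduct.tmul_smul, hv]
  refine ⟨(1 : R') ⊗ₜ[R] (⟨(u, v), huv⟩ : glue R R' f M' M₁ α) + x'', ?_⟩
  rw [smul_add, ← TensorProduct.tmul_smul]
  congr 2
  apply Subtype.ext
  apply Prod.ext
  · change (m : M' × M₁).1 = f ^ n • u
    rw [hm1, algebraMap_pow_smul']
  · change (m : M' × M₁).2 = f ^ n • v
    exact hv.symm

/-- (C2) the glued module is glueable. -/
theorem isGlueable_glue (hRR : EtGlue.IsGlueingPair R R' f) :
    EtGlue.IsGlueable R R' f (glue R R' f M' M₁ α) := by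
  rw [(Groth.Agent.S2005.result R R' f hRR.1 (glue R R' f M' M₁ α)).2 hRR]
  rintro m ⟨n, hn⟩ hm
  have h1 : (m : M' × M₁).1 = 0 := by
    have := congrArg (phi R R' f M' M₁ α) hm
    rw [phi_tmul, one_smul, map_zero] at this
    exact this
  have h2 : (m : M' × M₁).2 = 0 := by
    apply pow_smul_inj_M1 R f M₁ hf n
    have := congrArg (fun x : glue R R' f M' M₁ α => (x : M' × M₁).2) hn
    exact this
  apply Subtype.ext
  exact Prod.ext h1 h2

/-- (C3) the comparison map is bijective. -/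
theorem phi_bijective (hRR : EtGlue.IsGlueingPair R R' f) :
    Function.Bijective (phi R R' f M' M₁ α) := by
  have hglue := isGlueable_glue R R' f M' M₁ α hf hRR
  have hb := ((Groth.Agent.S2005.result R R' f hRR.1 (glue R R' f M' M₁ α)).1.mp hglue).2
  constructor
  · rw [injective_iff_map_eq_zero]
    intro x hx
    have h0 : (pr₂ R R' f M' M₁ α).lTensor R' x = 0 := by
      rw [← aMap_phi, hx, map_zero]
    obtain ⟨k, hk⟩ := lTensor_pr₂_ker R R' f M' M₁ α hf x h0
    obtain ⟨m, ⟨n, hn⟩, rfl⟩ := hb x ⟨k, hk⟩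
    rw [phi_tmul, one_smul] at hx
    have h2 : (m : M' × M₁).2 = 0 := by
      apply pow_smul_inj_M1 R f M₁ hf n
      have := congrArg (fun x : glue R R' f M' M₁ α => (x : M' × M₁).2) hn
      exact this
    have hm0 : m = 0 := by
      apply Subtype.ext
      exact Prod.ext hx h2
    rw [hm0, TensorProduct.tmul_zero]
  · intro m'
    obtain ⟨k, x, hx⟩ := exists_pow_smul_mem_range_phi R R' f M' M₁ α hf m'
    obtain ⟨x', rfl⟩ := div_of_phi_div R R' f M' M₁ α hf hRR.1 k x m' hx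
    rw [← algebraMap_smul R' (f ^ k) x', map_smul, map_pow, ← sub_eq_zero, ← smul_sub] at hx
    obtain ⟨m, hm⟩ := torsion_mem_range_phi R R' f M' M₁ α _ k hx
    refine ⟨x' - (1 : R') ⊗ₜ m, ?_⟩
    rw [map_sub, phi_tmul, hm, one_smul]
    exact sub_sub_cancel _ _

theorem main (hRR : EtGlue.IsGlueingPair R R' f) :
    ∃ (M : Type u) (_ : AddCommGroup M) (_ : Module R M) (_ : EtGlue.IsGlueable R R' f M)
      (e' : R' ⊗[R] M ≃ₗ[R'] M') (e₁ : LocalizedModule (Submonoid.powers f) M ≃ₗ[R] M₁),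
      ∀ m : M, α (LocalizedModule.mkLinearMap (Submonoid.powers (algebraMap R R' f)) M'
          (e' ((1 : R') ⊗ₜ[R] m))) =
        (1 : R') ⊗ₜ[R] e₁ (LocalizedModule.mkLinearMap (Submonoid.powers f) M m) := by
  haveI := isLocalizedModule_pr₂ R R' f M' M₁ α hf
  refine ⟨glue R R' f M' M₁ α, inferInstance, inferInstance,
    isGlueable_glue R R' f M' M₁ α hf hRR,
    LinearEquiv.ofBijective (phi R R' f M' M₁ α) (phi_bijective R R' f M' M₁ α hf hRR),
    IsLocalizedModule.iso (Submonoid.powers f) (pr₂ R R' f M' M₁ α), ?_⟩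
  intro m
  have h1 : (IsLocalizedModule.iso (Submonoid.powers f) (pr₂ R R' f M' M₁ α))
      (LocalizedModule.mkLinearMap (Submonoid.powers f) _ m) = pr₂ R R' f M' M₁ α m := by
    rw [LocalizedModule.mkLinearMap_apply, IsLocalizedModule.iso_mk_one]
  rw [h1, LinearEquiv.ofBijective_apply, phi_tmul, one_smul]
  exact glue_spec R R' f M' M₁ α m

end WithHf2

end Helpers

/-- Beauville–Laszlo, essential surjectivity with glueability: take a glueing pair (R -> R', f). Fix an
R'-module M', an R-module M₁ on which multiplication by f is bijective (i.e. an R_f-module), and α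
an R'-linear isomorphism from the localization of M' at f to R' ⊗_R M₁ (an isomorphism of
R'_f-modules). Then there is an R-module M, glueable for (R -> R', f), with an R'-isomorphism R' ⊗_R
M ≅ M' and an R-isomorphism M_f ≅ M₁ under which α becomes the canonical identification (R' ⊗_R M)_f
= R' ⊗_R M_f. -/
theorem result (R R' : Type u) [CommRing R] [CommRing R'] [Algebra R R'] (f : R)
    (hRR : EtGlue.IsGlueingPair R R' f) (M' : Type u) [AddCommGroup M'] [Module R' M'] (M₁ : Type u) [AddCommGroup M₁]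
    [Module R M₁] (hf : Function.Bijective fun x : M₁ => f • x)
    (α : LocalizedModule (Submonoid.powers (algebraMap R R' f)) M' ≃ₗ[R'] R' ⊗[R] M₁) :
    ∃ (M : Type u) (_ : AddCommGroup M) (_ : Module R M) (_ : EtGlue.IsGlueable R R' f M)
      (e' : R' ⊗[R] M ≃ₗ[R'] M') (e₁ : LocalizedModule (Submonoid.powers f) M ≃ₗ[R] M₁),
      ∀ m : M, α (LocalizedModule.mkLinearMap (Submonoid.powers (algebraMap R R' f)) M' (e' ((1 : R') ⊗ₜ[R] m))) =
        (1 : R') ⊗ₜ[R] e₁ (LocalizedModule.mkLinearMap (Submonoid.powers f) M m) := by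
  letI : Module R M' := Module.compHom M' (algebraMap R R')
  haveI : IsScalarTower R R' M' := IsScalarTower.of_algebraMap_smul (fun r m => rfl)
  exact main R R' f M' M₁ α hf hRR

end Groth.Agent.S2000
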