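import Groth.Statements.S10727
import Groth.Agent.S2000
import Mathlib.Algebra.Module.LocalizedModule.IsLocalization
import Mathlib.Tactic
-- import your own Groth.Agent.* helpers here

set_option autoImplicit false
universe u
open TensorProduct
open EtAlg

namespace Groth.Agent.S10727

section Helpers

open Groth.Agent.S2000

variable (R : Type u) [CommRing R] (R' : Type u) [CommRing R'] [Algebra R R'] (f : R)
variable (A₁ : Type u) [CommRing A₁] [Algebra R A₁]
variable (A' : Type u) [CommRing A'] [Algebra R A'] [Algebra R' A'] [IsScalarTower R R' A']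
variable (φ : Localization.Away (algebraMap R A' f) ≃ₐ[R'] R' ⊗[R] A₁)

/-- the ring map `a' ↦ φ(a'/1)`. -/
noncomputable def aAlg : A' →ₐ[R'] R' ⊗[R] A₁ :=
  (φ : Localization.Away (algebraMap R A' f) →ₐ[R'] R' ⊗[R] A₁).comp
    (IsScalarTower.toAlgHom R' A' (Localization.Away (algebraMap R A' f)))

theorem aAlg_apply (x : A') : aAlg R R' f A₁ A' φ x =
    φ (algebraMap A' (Localization.Away (algebraMap R A' f)) x) := rfl

instance isLocMod : IsLocalizedModule (Submonoid.powers (algebraMap R R' f))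
    (IsScalarTower.toAlgHom R' A' (Localization.Away (algebraMap R A' f))).toLinearMap := by
  rw [isLocalizedModule_iff_isLocalization, Algebra.algebraMapSubmonoid_powers,
    ← IsScalarTower.algebraMap_apply]
  infer_instance

/-- the module-level glueing isomorphism. -/
noncomputable def alpha :
    LocalizedModule (Submonoid.powers (algebraMap R R' f)) A' ≃ₗ[R'] R' ⊗[R] A₁ :=
  (IsLocalizedModule.iso (Submonoid.powers (algebraMap R R' f))
    (IsScalarTower.toAlgHom R' A' (Localization.Away (algebraMap R A' f))).toLinearMap).trans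
    φ.toLinearEquiv

theorem aMap_alpha (x : A') :
    aMap R R' f A' A₁ (alpha R R' f A₁ A' φ) x = aAlg R R' f A₁ A' φ x := by
  rw [aMap_apply, LocalizedModule.mkLinearMap_apply]
  change φ ((IsLocalizedModule.iso (Submonoid.powers (algebraMap R R' f))
    (IsScalarTower.toAlgHom R' A' (Localization.Away (algebraMap R A' f))).toLinearMap)
      (LocalizedModule.mk x 1)) = _
  rw [IsLocalizedModule.iso_mk_one]
  rfl

/-- the glued algebra, as a subalgebra of `A' × A₁`. -/
noncomputable def glueAlg : Subalgebra R (A' × A₁) where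
  carrier := {p | aAlg R R' f A₁ A' φ p.1 = (1 : R') ⊗ₜ[R] p.2}
  mul_mem' := by
    intro p q hp hq
    simp only [Set.mem_setOf_eq, Prod.fst_mul, Prod.snd_mul, map_mul] at *
    rw [hp, hq, Algebra.TensorProduct.tmul_mul_tmul, one_mul]
  add_mem' := by
    intro p q hp hq
    simp only [Set.mem_setOf_eq, Prod.fst_add, Prod.snd_add, map_add, TensorProduct.tmul_add] at *
    rw [hp, hq]
  algebraMap_mem' := by
    intro r
    simp only [Set.mem_setOf_eq, Prod.algebraMap_apply]
    rw [IsScalarTower.algebraMap_apply R R' A', AlgHom.commutes,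
      Algebra.TensorProduct.algebraMap_apply, Algebra.algebraMap_eq_smul_one,
      Algebra.algebraMap_eq_smul_one (A := A₁), ← TensorProduct.smul_tmul]
    rw [Algebra.smul_def, mul_one, Algebra.algebraMap_self, RingHom.id_apply,
      ← Algebra.algebraMap_eq_smul_one]

theorem mem_glueAlg (p : A' × A₁) :
    p ∈ glueAlg R R' f A₁ A' φ ↔ aAlg R R' f A₁ A' φ p.1 = (1 : R') ⊗ₜ[R] p.2 := Iff.rfl

theorem toSubmodule_glueAlg :
    Subalgebra.toSubmodule (glueAlg R R' f A₁ A' φ) =
      glue R R' f A' A₁ (alpha R R' f A₁ A' φ) := by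
  ext p
  rw [Subalgebra.mem_toSubmodule, mem_glueAlg, mem_glue, aMap_alpha]

/-- the linear equivalence between the glued algebra and the glued module. -/
noncomputable def eps : glueAlg R R' f A₁ A' φ ≃ₗ[R] glue R R' f A' A₁ (alpha R R' f A₁ A' φ) :=
  (Subalgebra.toSubmoduleEquiv (glueAlg R R' f A₁ A' φ)).symm.trans
    (LinearEquiv.ofEq _ _ (toSubmodule_glueAlg R R' f A₁ A' φ))

theorem eps_coe (a : glueAlg R R' f A₁ A' φ) :
    ((eps R R' f A₁ A' φ a : glue R R' f A' A₁ (alpha R R' f A₁ A' φ)) : A' × A₁) = (a : A' × A₁) :=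
  rfl

/-- first projection -/
noncomputable def fstA : glueAlg R R' f A₁ A' φ →ₐ[R] A' :=
  (AlgHom.fst R A' A₁).comp (glueAlg R R' f A₁ A' φ).val

/-- second projection -/
noncomputable def sndA : glueAlg R R' f A₁ A' φ →ₐ[R] A₁ :=
  (AlgHom.snd R A' A₁).comp (glueAlg R R' f A₁ A' φ).val

/-- the comparison algebra map -/
noncomputable def PhiA : R' ⊗[R] glueAlg R R' f A₁ A' φ →ₐ[R'] A' :=
  Algebra.TensorProduct.lift (Algebra.ofId R' A') (fstA R R' f A₁ A' φ) (fun _ _ => Commute.all _ _)

theorem PhiA_eq (x : R' ⊗[R] glueAlg R R' f A₁ A' φ) :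
    PhiA R R' f A₁ A' φ x =
      phi R R' f A' A₁ (alpha R R' f A₁ A' φ) ((eps R R' f A₁ A' φ).toLinearMap.lTensor R' x) := by
  induction x using TensorProduct.induction_on with
  | zero => simp
  | tmul r' a =>
    rw [LinearMap.lTensor_tmul, phi_tmul]
    change algebraMap R' A' r' * (a : A' × A₁).1 = r' • (a : A' × A₁).1
    rw [Algebra.smul_def]
  | add x y hx hy => rw [map_add, map_add, map_add, hx, hy]

omit [CommRing R'] [Algebra R R'] in
theorem hf_of_isUnit (h₁ : IsUnit (algebraMap R A₁ f)) :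
    Function.Bijective fun x : A₁ => f • x := by
  obtain ⟨u, hu⟩ := h₁
  constructor
  · intro x y h
    simp only [Algebra.smul_def, ← hu] at h
    exact (Units.mul_right_inj u).mp h
  · intro y
    refine ⟨↑u⁻¹ * y, ?_⟩
    simp only [Algebra.smul_def, ← hu]
    rw [← mul_assoc, Units.mul_inv, one_mul]

theorem PhiA_one_tmul (a : glueAlg R R' f A₁ A' φ) :
    PhiA R R' f A₁ A' φ ((1 : R') ⊗ₜ[R] a) = (a : A' × A₁).1 := by
  change algebraMap R' A' 1 * (a : A' × A₁).1 = _
  rw [map_one, one_mul]

theorem main (hRR' : EtGlue.IsGlueingPair R R' f) (h₁ : IsUnit (algebraMap R A₁ f)) :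
    ∃ (A : Type u) (_ : CommRing A) (_ : Algebra R A) (_ : EtGlue.IsGlueable R R' f A)
      (e₁ : Localization.Away (algebraMap R A f) ≃ₐ[R] A₁) (e' : R' ⊗[R] A ≃ₐ[R'] A'),
      ∀ a : A, φ (algebraMap A' (Localization.Away (algebraMap R A' f)) (e' ((1 : R') ⊗ₜ[R] a))) =
        (1 : R') ⊗ₜ[R] e₁ (algebraMap A (Localization.Away (algebraMap R A f)) a) := by
  have hf := hf_of_isUnit R f A₁ h₁
  -- bijectivity
  have hbij : Function.Bijective (PhiA R R' f A₁ A' φ) := by
    have h1 := phi_bijective R R' f A' A₁ (alpha R R' f A₁ A' φ) hf hRR'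
    have h2 : Function.Bijective ((eps R R' f A₁ A' φ).toLinearMap.lTensor R') :=
      ((eps R R' f A₁ A' φ).lTensor R').bijective
    have h3 : (PhiA R R' f A₁ A' φ : _ → _) =
        (phi R R' f A' A₁ (alpha R R' f A₁ A' φ)) ∘ ((eps R R' f A₁ A' φ).toLinearMap.lTensor R') :=
      funext (PhiA_eq R R' f A₁ A' φ)
    rw [h3]
    exact h1.comp h2
  -- glueable
  have hglue : EtGlue.IsGlueable R R' f (glueAlg R R' f A₁ A' φ) := by
    rw [(Groth.Agent.S2005.result R R' f hRR'.1 (glueAlg R R' f A₁ A' φ)).2 hRR']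
    rintro m ⟨n, hn⟩ hm
    have h1 : (m : A' × A₁).1 = 0 := by
      have := congrArg (PhiA R R' f A₁ A' φ) hm
      rw [map_zero, PhiA_one_tmul] at this
      exact this
    have h2 : (m : A' × A₁).2 = 0 := by
      apply pow_smul_inj_M1 R f A₁ hf n
      exact congrArg (fun x : glueAlg R R' f A₁ A' φ => (x : A' × A₁).2) hn
    exact Subtype.ext (Prod.ext h1 h2)
  -- localization
  letI : Algebra (glueAlg R R' f A₁ A' φ) A₁ := (sndA R R' f A₁ A' φ).toRingHom.toAlgebra
  haveI : IsScalarTower R (glueAlg R R' f A₁ A' φ) A₁ :=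
    IsScalarTower.of_algebraMap_eq (fun r => ((sndA R R' f A₁ A' φ).commutes r).symm)
  haveI hloc : IsLocalization.Away (algebraMap R (glueAlg R R' f A₁ A' φ) f) A₁ := by
    haveI := isLocalizedModule_pr₂ R R' f A' A₁ (alpha R R' f A₁ A' φ) hf
    have h3 : IsLocalizedModule (Submonoid.powers f)
        (IsScalarTower.toAlgHom R (glueAlg R R' f A₁ A' φ) A₁).toLinearMap := by
      have h4 : (IsScalarTower.toAlgHom R (glueAlg R R' f A₁ A' φ) A₁).toLinearMap =
          (pr₂ R R' f A' A₁ (alpha R R' f A₁ A' φ)) ∘ₗ (eps R R' f A₁ A' φ).toLinearMap := by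
        ext a
        rfl
      rw [h4]
      infer_instance
    rw [isLocalizedModule_iff_isLocalization, Algebra.algebraMapSubmonoid_powers] at h3
    exact h3
  let e₁ : Localization.Away (algebraMap R (glueAlg R R' f A₁ A' φ) f) ≃ₐ[R] A₁ :=
    (IsLocalization.algEquiv (Submonoid.powers (algebraMap R (glueAlg R R' f A₁ A' φ) f))
      (Localization.Away (algebraMap R (glueAlg R R' f A₁ A' φ) f)) A₁).restrictScalars R
  refine ⟨glueAlg R R' f A₁ A' φ, inferInstance, inferInstance, hglue, e₁,
    AlgEquiv.ofBijective (PhiA R R' f A₁ A' φ) hbij, ?_⟩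
  intro a
  have h5 : e₁ (algebraMap (glueAlg R R' f A₁ A' φ)
      (Localization.Away (algebraMap R (glueAlg R R' f A₁ A' φ) f)) a) = (a : A' × A₁).2 := by
    change (IsLocalization.algEquiv (Submonoid.powers (algebraMap R (glueAlg R R' f A₁ A' φ) f))
      (Localization.Away (algebraMap R (glueAlg R R' f A₁ A' φ) f)) A₁) (algebraMap _ _ a) = _
    rw [AlgEquiv.commutes]
    rfl
  rw [h5, AlgEquiv.coe_ofBijective, PhiA_one_tmul]
  exact a.2

end Helpers

/-- Glueing affine schemes along a glueing pair, stated for their coordinate rings. Let `(R → R', f)` be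
a glueing pair, `A₁` an `R`-algebra in which `f` is invertible, `A'` an `R'`-algebra and `φ : A'_f ≅
R' ⊗_R A₁` an isomorphism of `R'`-algebras. Then there is an `R`-algebra `A`, glueable as an
`R`-module, with isomorphisms `A_f ≅ A₁` of `R`-algebras and `R' ⊗_R A ≅ A'` of `R'`-algebras under
which `φ` is the canonical identification `(R' ⊗_R A)_f = R' ⊗_R A_f`. (The published statement is
that base change is an equivalence between affine schemes over `Spec R` that are glueable and
triples of affine schemes over `Spec R_f`, `Spec R'_f`, `Spec R'` with cartesian squares; this row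
states only that every such triple arises, on coordinate rings.) -/
theorem result (R : Type u) [CommRing R] (R' : Type u) [CommRing R'] [Algebra R R']
    (f : R) (hRR' : EtGlue.IsGlueingPair R R' f) (A₁ : Type u) [CommRing A₁] [Algebra R A₁]
    (h₁ : IsUnit (algebraMap R A₁ f)) (A' : Type u) [CommRing A'] [Algebra R A'] [Algebra R' A']
    [IsScalarTower R R' A'] (φ : Localization.Away (algebraMap R A' f) ≃ₐ[R'] R' ⊗[R] A₁) :
    ∃ (A : Type u) (_ : CommRing A) (_ : Algebra R A) (_ : EtGlue.IsGlueable R R' f A)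
      (e₁ : Localization.Away (algebraMap R A f) ≃ₐ[R] A₁) (e' : R' ⊗[R] A ≃ₐ[R'] A'),
      ∀ a : A, φ (algebraMap A' (Localization.Away (algebraMap R A' f)) (e' ((1 : R') ⊗ₜ[R] a))) =
        (1 : R') ⊗ₜ[R] e₁ (algebraMap A (Localization.Away (algebraMap R A f)) a) := by
  exact main R R' f A₁ A' φ hRR' h₁

end Groth.Agent.S10727
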