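import Groth.Statements.S1075
import Mathlib.Algebra.Homology.DerivedCategory.KInjective
import Mathlib.Algebra.Homology.Factorizations.CM5a
import Mathlib.Algebra.Homology.HomologicalComplexLimits

set_option autoImplicit false
universe w v u
open CategoryTheory CategoryTheory.Limits
open CohDer

namespace Groth.Agent.S1075

section

variable {A : Type u} [Category.{v} A] [Abelian A] {J : Type} [HasLimitsOfShape (Discrete J) A]

/-- The degree `i` component of a product of complexes is a product. -/
noncomputable def isLimitEval (L : J → CochainComplex A ℤ) (i : ℤ) :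
    IsLimit ((HomologicalComplex.eval A (ComplexShape.up ℤ) i).mapCone (limit.cone (Discrete.functor L))) :=
  isLimitOfPreserves _ (limit.isLimit _)

lemma hom_ext_eval (L : J → CochainComplex A ℤ) (i : ℤ) {T : A}
    (a b : T ⟶ (∏ᶜ L).X i) (h : ∀ n, a ≫ (Pi.π L n).f i = b ≫ (Pi.π L n).f i) : a = b := by
  apply (isLimitEval L i).hom_ext
  rintro ⟨n⟩
  exact h n

/-- the cone attached to a family of maps in one degree -/
def coneEval (L : J → CochainComplex A ℤ) (i : ℤ) {T : A}
    (a : ∀ n, T ⟶ (L n).X i) :
    Cone (Discrete.functor L ⋙ HomologicalComplex.eval A (ComplexShape.up ℤ) i) where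
  pt := T
  π := Discrete.natTrans (fun ⟨n⟩ => a n)

/-- lifting a family of maps in one degree -/
noncomputable def liftEval (L : J → CochainComplex A ℤ) (i : ℤ) {T : A}
    (a : ∀ n, T ⟶ (L n).X i) : T ⟶ (∏ᶜ L).X i :=
  (isLimitEval L i).lift (coneEval L i a)

@[reassoc (attr := simp)]
lemma liftEval_π (L : J → CochainComplex A ℤ) (i : ℤ) {T : A}
    (a : ∀ n, T ⟶ (L n).X i) (n : J) : liftEval L i a ≫ (Pi.π L n).f i = a n :=
  (isLimitEval L i).fac (coneEval L i a) ⟨n⟩

/-- Assemble a family of homotopies into a homotopy to the product. -/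
noncomputable def homotopyPi (L : J → CochainComplex A ℤ) {T : CochainComplex A ℤ}
    (μ μ' : T ⟶ ∏ᶜ L) (h : ∀ n, Homotopy (μ ≫ Pi.π L n) (μ' ≫ Pi.π L n)) : Homotopy μ μ' where
  hom i j := liftEval L j (fun n => (h n).hom i j)
  zero i j hij := by
    apply hom_ext_eval
    intro n
    simp [(h n).zero i j hij]
  comm i := by
    apply hom_ext_eval
    intro n
    have := (h n).comm i
    simp only [HomologicalComplex.comp_f] at this
    rw [this]
    simp only [Preadditive.add_comp]
    congr 2
    · simp [dNext]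
    · simp only [prevD, AddMonoidHom.mk'_apply, Category.assoc]
      rw [← HomologicalComplex.Hom.comm, liftEval_π_assoc]

/-- The universal property of the product complex in the homotopy category. -/
lemma existsUnique_lift (L : J → CochainComplex A ℤ) (T : HomotopyCategory A (ComplexShape.up ℤ))
    (g : ∀ n, T ⟶ (HomotopyCategory.quotient A (ComplexShape.up ℤ)).obj (L n)) :
    ∃! m : T ⟶ (HomotopyCategory.quotient A (ComplexShape.up ℤ)).obj (∏ᶜ L),
      ∀ n, m ≫ (HomotopyCategory.quotient A (ComplexShape.up ℤ)).map (Pi.π L n) = g n := by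
  obtain ⟨T, rfl⟩ := HomotopyCategory.quotient_obj_surjective T
  choose g' hg' using fun n => (HomotopyCategory.quotient A (ComplexShape.up ℤ)).map_surjective (g n)
  refine ⟨(HomotopyCategory.quotient A (ComplexShape.up ℤ)).map (Pi.lift g'), ?_, ?_⟩
  · intro n
    rw [← Functor.map_comp, Pi.lift_π, hg']
  · intro m hm
    obtain ⟨μ, rfl⟩ := (HomotopyCategory.quotient A (ComplexShape.up ℤ)).map_surjective m
    apply HomotopyCategory.eq_of_homotopy
    apply homotopyPi
    intro n
    apply HomotopyCategory.homotopyOfEq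
    rw [Functor.map_comp, hm, Pi.lift_π, hg']

lemma isKInjective_pi (L : J → CochainComplex A ℤ) [∀ n, (L n).IsKInjective] :
    (∏ᶜ L).IsKInjective := by
  rw [CochainComplex.isKInjective_iff_rightOrthogonal]
  intro K f hK
  have h0 : ∀ n, f ≫ (HomotopyCategory.quotient A (ComplexShape.up ℤ)).map (Pi.π L n) = 0 :=
    fun n => CochainComplex.IsKInjective.rightOrthogonal (L n) _ hK
  obtain ⟨m, -, hm⟩ := existsUnique_lift L K (fun _ => 0)
  rw [hm f h0, hm 0 (fun n => zero_comp)]

end

section

variable {C : Type*} {D : Type*} [Category C] [Category D]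

lemma hasProduct_of_bijective (F : C ⥤ D) [F.EssSurj] {J : Type} (X : J → C) (P : C)
    (π : ∀ j, P ⟶ X j)
    (hP : ∀ (T : C) (g : ∀ j, T ⟶ X j), ∃! m : T ⟶ P, ∀ j, m ≫ π j = g j)
    (bijP : ∀ T : C, Function.Bijective (F.map : (T ⟶ P) → (F.obj T ⟶ F.obj P)))
    (bijX : ∀ (T : C) (j : J), Function.Bijective (F.map : (T ⟶ X j) → (F.obj T ⟶ F.obj (X j)))) :
    HasProduct (fun j => F.obj (X j)) := by
  have key : ∀ (Y : D) (g : ∀ j, Y ⟶ F.obj (X j)),
      ∃! m : Y ⟶ F.obj P, ∀ j, m ≫ F.map (π j) = g j := by
    intro Y g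
    let T := F.objPreimage Y
    let e : F.obj T ≅ Y := F.objObjPreimageIso Y
    choose g' hg' using fun j => (bijX T j).surjective (e.hom ≫ g j)
    obtain ⟨m, hm, hm'⟩ := hP T g'
    refine ⟨e.inv ≫ F.map m, ?_, ?_⟩
    · intro j
      rw [Category.assoc, ← Functor.map_comp, hm j, hg', Iso.inv_hom_id_assoc]
    · intro m₂ hm₂
      obtain ⟨μ, hμ⟩ := (bijP T).surjective (e.hom ≫ m₂)
      have : μ = m := by
        apply hm'
        intro j
        apply (bijX T j).injective
        rw [Functor.map_comp, hμ, hg', Category.assoc, hm₂]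
      rw [← this, hμ, Iso.inv_hom_id_assoc]
  choose l hl hl' using key
  exact HasLimit.mk ⟨Fan.mk (F.obj P) (fun j => F.map (π j)),
    Fan.IsLimit.mk _ (fun s => l s.pt s.proj) (fun s j => hl s.pt s.proj j)
      (fun s m hm => hl' s.pt s.proj m hm)⟩

end

section

variable {A : Type u} [Category.{v} A] [Abelian A] [HasDerivedCategory.{w} A]

lemma exists_kinj [EnoughInjectives A] (X : DerivedCategory A) (a : ℤ) [X.IsGE a] :
    ∃ (L : CochainComplex A ℤ), L.IsKInjective ∧ Nonempty (DerivedCategory.Q.obj L ≅ X) := by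
  obtain ⟨K, _, ⟨e⟩⟩ := DerivedCategory.exists_iso_Q_obj_of_isGE X a
  obtain ⟨L, i, _, _, _⟩ :=
    CochainComplex.Plus.modelCategoryQuillen.exists_quasiIso_injective K a
  exact ⟨L, CochainComplex.isKInjective_of_injective L a,
    ⟨(asIso (DerivedCategory.Q.map i)).symm ≪≫ e.symm⟩⟩

lemma hasProduct_Qh {J : Type} [HasLimitsOfShape (Discrete J) A]
    (L : J → CochainComplex A ℤ) [∀ n, (L n).IsKInjective] :
    HasProduct (fun n => DerivedCategory.Qh.obj
      ((HomotopyCategory.quotient A (ComplexShape.up ℤ)).obj (L n))) := by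
  have := isKInjective_pi L
  exact hasProduct_of_bijective DerivedCategory.Qh
    (fun n => (HomotopyCategory.quotient A (ComplexShape.up ℤ)).obj (L n))
    ((HomotopyCategory.quotient A (ComplexShape.up ℤ)).obj (∏ᶜ L))
    (fun n => (HomotopyCategory.quotient A (ComplexShape.up ℤ)).map (Pi.π L n))
    (fun T g => existsUnique_lift L T g)
    (fun T => CochainComplex.IsKInjective.Qh_map_bijective T (∏ᶜ L))
    (fun T n => CochainComplex.IsKInjective.Qh_map_bijective T (L n))

end

/-- In D(A), for A abelian with enough injectives and countable products, every sequence of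
bounded-below objects has a product, so derived limits of such sequences exist. -/
theorem result {A : Type u} [Category.{v} A] [Abelian A] [HasDerivedCategory.{w} A]
    [HasLimitsOfShape (Discrete ℕ) A] [EnoughInjectives A]
    (K : ℕ → DerivedCategory A) (hK : ∀ n, ∃ a : ℤ, (K n).IsGE a) : HasProduct K := by
  choose a ha using hK
  choose L hL e using fun n => exists_kinj (K n) (a n)
  have := hasProduct_Qh L
  have e' : ∀ n, DerivedCategory.Qh.obj
      ((HomotopyCategory.quotient A (ComplexShape.up ℤ)).obj (L n)) ≅ K n :=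
    fun n => (DerivedCategory.quotientCompQhIso A).app (L n) ≪≫ (e n).some
  exact hasLimit_of_iso (F := Discrete.functor (fun n => DerivedCategory.Qh.obj
      ((HomotopyCategory.quotient A (ComplexShape.up ℤ)).obj (L n))))
    (Discrete.natIso (fun ⟨n⟩ => e' n))

end Groth.Agent.S1075
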