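import Groth.Statements.S10750
import Groth.Agent.Lib.DiscreteFibreLqf46

set_option autoImplicit false
universe u
open CategoryTheory CategoryTheory.Limits AlgebraicGeometry Opposite
open AlgSp

namespace Groth.Agent.S10750

/-- Take a proper morphism f : X ⟶ Y of algebraic spaces over S whose target Y is locally Noetherian,
and let y be a geometric point of Y such that the fibre X_y (a pullback of f along the corresponding
morphism from the spectrum of the algebraically closed field) has finitely many points. Then there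
is an open subspace V of Y containing the image of y such that the base change X ×_Y V ⟶ V is
finite. -/
theorem result {S : Scheme.{u}} {X Y : AlgSp.Space S}
    (f : X ⟶ Y) (hY : AlgSp.IsLocNoethSp Y.obj) (hf : AlgSp.IsProperMor f.hom) (y : AlgSp.FieldPt Y.obj)
    (hy : y.IsGeometric) (Xy : AlgSp.Sp S) (fst : Xy ⟶ X.obj) (snd : Xy ⟶ (AlgSp.yon S).obj y.pt)
    (hsq : IsPullback fst snd f.hom y.toHom) (hfin : Finite (AlgSp.Points Xy)) :
    ∃ (V : AlgSp.Space S) (j : V ⟶ Y), AlgSp.RepWith @IsOpenImmersion j.hom ∧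
      AlgSp.Points.mk y ∈ Set.range (AlgSp.Points.map j.hom) ∧
        ∀ (P : AlgSp.Space S) (fst' : P ⟶ X) (snd' : P ⟶ V), IsPullback fst'.hom snd'.hom f.hom j.hom →
          AlgSp.IsFiniteMor snd'.hom := by

  have hX := X.property
  have hYa := Y.property
  have hXy : AlgSp.IsAlgSpace Xy := Groth.Agent.Lib.AlgSpBasic.isAlgSpace_of_isPullback hX
    (AlgSp.IsAlgSpace.yon_obj _) (fun U a => hYa.representable_from_yon a) hsq
  have hka : AlgSp.IsAlgSpace ((AlgSp.yon S).obj y.pt) := AlgSp.IsAlgSpace.yon_obj _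
  have hlft := hf.2.1.1
  have hsep' : AlgSp.IsSeparatedMor snd := Groth.Agent.Lib.AlgSpProper.isSeparatedMor_of_isPullback hsq hf.1
  have hlft' : AlgSp.LocP @LocallyOfFiniteType snd :=
    Groth.Agent.Lib.AlgSpLocP.locP_of_isPullback Groth.Agent.Lib.AlgSpLocP.etLocalClass_lft hX hYa hka hsq hlft
  have : IsAffine y.pt.left := inferInstanceAs (IsAffine (Spec (CommRingCat.of y.K)))
  have hqf' := Groth.Agent.Lib.DiscreteFibreLqf46.locP_lqf_of_locally_finite_points hXy snd hsep' hlft'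
    (fun z => ⟨Set.univ, isOpen_univ, trivial, Set.finite_univ⟩)
  have hq : ∀ x : AlgSp.Points X.obj, AlgSp.Points.map f.hom x = AlgSp.Points.mk y →
      AlgSp.HasAtMor Groth.Agent.Lib.ProperLqfFinite46.QfAt f.hom x := by
    intro x hx
    obtain ⟨xk, hxk, -⟩ := Groth.Agent.Lib.AlgSpPoints.exists_of_isPullback hsq x
      (AlgSp.Points.ofScheme y.pt (IsLocalRing.closedPoint y.K)) (by
        rw [← AlgSp.Points.ofPt_eq_map_ofScheme, AlgSp.Points.ofPt_toHom, hx])
    have h1 := (Groth.Agent.Lib.AlgSpPtwise91.pointwiseBC_lqf.locP_iff hXy hka _ hlft').1 hqf' xk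
    rw [Groth.Agent.Lib.AlgSpPtwise91.pointwiseBC_lqf.baseChange hX hYa hXy hka hsq hlft xk, hxk] at h1
    exact h1
  obtain ⟨Vset, hVo, hyV, hfinV⟩ := Groth.Agent.Lib.ProperLqfFinite46.exists_open_finite_of_qfAt_fibre
    hX hYa f.hom hf.1 hf.2.2 hlft (AlgSp.Points.mk y) hq
  let V : AlgSp.Space S := ⟨Groth.Agent.Lib.H86AlgSpOpen.openSub Y.obj Vset,
    Groth.Agent.Lib.H86AlgSpOpen.isAlgSpace_openSub hYa hVo⟩
  let j : V ⟶ Y := ObjectProperty.homMk (Groth.Agent.Lib.H86AlgSpOpen.openSubι Y.obj Vset)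
  refine ⟨V, j, Groth.Agent.Lib.H86AlgSpOpen.openSubι_repWith hVo, ?_,
    fun P fst' snd' sq => hfinV P.obj fst'.hom snd'.hom sq⟩
  change AlgSp.Points.mk y ∈ Set.range (AlgSp.Points.map (Groth.Agent.Lib.H86AlgSpOpen.openSubι Y.obj Vset))
  rw [Groth.Agent.Lib.H86AlgSpOpen.range_map_openSubι]
  exact hyV

end Groth.Agent.S10750
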