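import Groth.Statements.S10760
-- import your own Groth.Agent.* helpers here
import Groth.Agent.Lib.AlgSpSepDescend
import Groth.Agent.Lib.AlgSpProper2

set_option autoImplicit false
universe u
open CategoryTheory CategoryTheory.Limits AlgebraicGeometry
open AlgSp

namespace Groth.Agent.S10760

/-- Let f : X ⟶ Y be a morphism of algebraic spaces over S that is locally of finite type, and let i : Z
⟶ X, i' : Z' ⟶ X be closed subspaces (representable closed immersions) with the same image in |X|.
If the composite Z ⟶ Y is proper, then so is Z' ⟶ Y. (That properness of every closed subspace with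
support T implies properness of the reduced one, and that this implies properness of some closed
subspace with support T, is immediate.) -/
theorem result {S : Scheme.{u}} {X Y Z Z' : AlgSp.Space S}
    (f : X ⟶ Y) (hf : AlgSp.LocP @LocallyOfFiniteType f.hom)
    (i : Z ⟶ X) (i' : Z' ⟶ X)
    (hi : AlgSp.RepWith @IsClosedImmersion i.hom) (hi' : AlgSp.RepWith @IsClosedImmersion i'.hom)
    (heq : Set.range (AlgSp.Points.map i.hom) = Set.range (AlgSp.Points.map i'.hom))
    (hZ : AlgSp.IsProperMor (i ≫ f).hom) :
    AlgSp.IsProperMor (i' ≫ f).hom := by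
  open Groth.Agent.Lib.AlgSpProper Groth.Agent.Lib.AlgSpPoints Groth.Agent.Lib.AlgSpFibre
    Groth.Agent.Lib.AlgSpLocP Groth.Agent.Lib.AlgSpBasic Groth.Agent.Lib.H69AlgSp in
  have hX := X.property
  have hY := Y.property
  have hZ0 := Z.property
  have hZ' := Z'.property
  have sq := IsPullback.of_hasPullback i.hom i'.hom
  have hW : IsAlgSpace (pullback i.hom i'.hom) := isAlgSpace_of_isPullback hX.diag hZ0 hZ' sq
  -- the two projections are closed immersions
  have h1 : RepWith @IsClosedImmersion (pullback.fst i.hom i'.hom) :=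
    (RepWith (S := S) @IsClosedImmersion).of_isPullback sq.flip hi'
  have h2 : RepWith @IsClosedImmersion (pullback.snd i.hom i'.hom) :=
    (RepWith (S := S) @IsClosedImmersion).of_isPullback sq hi
  have p1 : IsProperMor (pullback.fst i.hom i'.hom) := isProperMor_of_repWith_isClosedImmersion hW hZ0 h1
  have p2 : IsProperMor (pullback.snd i.hom i'.hom) := isProperMor_of_repWith_isClosedImmersion hW hZ' h2
  -- the second projection is surjective
  have hs : IsSurjectiveMor (pullback.snd i.hom i'.hom) := by
    intro z'
    have hz : Points.map i'.hom z' ∈ Set.range (Points.map i.hom) := by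
      rw [heq]; exact ⟨z', rfl⟩
    obtain ⟨z, hz⟩ := hz
    obtain ⟨p, -, hp⟩ := exists_point_of_isPullback sq z z' hz
    exact ⟨p, hp⟩
  -- the composite `W ⟶ Z' ⟶ Y` is proper
  have hcomp : IsProperMor (pullback.snd i.hom i'.hom ≫ (i' ≫ f).hom) := by
    have e : pullback.snd i.hom i'.hom ≫ (i' ≫ f).hom = pullback.fst i.hom i'.hom ≫ (i ≫ f).hom := by
      change pullback.snd i.hom i'.hom ≫ i'.hom ≫ f.hom = pullback.fst i.hom i'.hom ≫ i.hom ≫ f.hom
      rw [← Category.assoc, ← Category.assoc, pullback.condition]
    rw [e]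
    exact isProperMor_comp hW hZ0 hY p1 hZ
  refine ⟨?_, ⟨?_, ?_⟩, ?_⟩
  · exact isSeparatedMor_of_surjective_univClosed hW hZ' hY _ _ hs p2.2.2 hcomp.1
  · have hi'lft : LocP @LocallyOfFiniteType i'.hom :=
      locP_of_repWith @LocallyOfFiniteType etLocalClass_lft.pre
        (fun U a => hZ'.representable_from_yon a)
        (Groth.Agent.Lib.AlgSpBasic.repWith_mono
          (fun _ _ g (hg : IsClosedImmersion g) => (inferInstance : LocallyOfFiniteType g)) hi')
    exact locP_comp etLocalClass_lft hZ' hX hY hi'lft hf
  · exact isQuasiCompactMor_of_surjective_comp hW hZ' hY hs hcomp.2.1.2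
  · exact isUnivClosedMor_of_surjective_comp hs hcomp.2.2

end Groth.Agent.S10760
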