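import Groth.Statements.S1078
import Groth.Agent.Lib.H43SubobjMod

set_option autoImplicit false
universe v u
open CategoryTheory CategoryTheory.Limits
open CohDer

namespace Groth.Agent.S1078

open Groth.Agent.Lib.H43SubobjMod

/-- isomorphism of quotients, as a relation on pairs of subobjects -/
def E {A : Type u} [Category.{v} A] [Abelian A] {X : A}
    (p q : Subobject X × Subobject X) : Prop :=
  (p.1 ≤ p.2 ↔ q.1 ≤ q.2) ∧ ∀ (h₁ : p.1 ≤ p.2) (h₂ : q.1 ≤ q.2),
    Nonempty (cokernel (Subobject.ofLE _ _ h₁) ≅ cokernel (Subobject.ofLE _ _ h₂))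

theorem E_of_iso {A : Type u} [Category.{v} A] [Abelian A] {X : A}
    {p q : Subobject X × Subobject X} (h : JordanHolderLattice.Iso p q) : E p q := by
  refine JordanHolderLattice.Iso.rel E ?_ ?_ ?_ ?_ h
  · intro x
    exact ⟨Iff.rfl, fun h₁ _ => ⟨Iso.refl _⟩⟩
  · intro x y hxy
    exact ⟨hxy.1.symm, fun h₁ h₂ => ⟨(hxy.2 h₂ h₁).some.symm⟩⟩
  · intro x y z hxy hyz
    refine ⟨hxy.1.trans hyz.1, fun h₁ h₃ => ?_⟩
    have h₂ := hxy.1.1 h₁
    exact ⟨(hxy.2 h₁ h₂).some.trans (hyz.2 h₂ h₃).some⟩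
  · intro x y _
    exact ⟨⟨fun _ => inf_le_right, fun _ => le_sup_left⟩, fun _ _ => nonempty_iso_second x y⟩

/-- the composition series attached to a chain with simple quotients -/
def series {A : Type u} [Category.{v} A] [Abelian A] {X : A}
    (n : ℕ) (F : Fin (n + 1) → Subobject X) (hF : Monotone F)
    (hFs : ∀ i : Fin n, Simple (cokernel (Subobject.ofLE (F (Fin.castSucc i)) (F (Fin.succ i))
      (hF (Fin.castSucc_lt_succ (i := i)).le)))) : CompositionSeries (Subobject X) where
  length := n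
  toFun := F
  step i := by
    have := hFs i
    exact covBy_of_simple (hF (Fin.castSucc_lt_succ (i := i)).le)

/-- Let X be an object of an abelian category with two finite chains of subobjects ⊥ = F₀ ≤ … ≤ Fₙ = ⊤
and ⊥ = G₀ ≤ … ≤ Gₘ = ⊤ whose successive quotients are simple. Then n = m, and after transporting
along this equality there is a permutation σ of the indices with Fᵢ₊₁/Fᵢ ≅ G_{σ(i)+1}/G_{σ(i)} for
all i. -/
theorem result {A : Type u} [Category.{v} A] [Abelian A] (X : A)
    (n : ℕ) (F : Fin (n + 1) → Subobject X) (hF : Monotone F) (hF0 : F 0 = ⊥) (hFn : F (Fin.last n) = ⊤) (hFs : ∀ i : Fin n, Simple (cokernel (Subobject.ofLE (F (Fin.castSucc i)) (F (Fin.succ i)) (hF (Fin.castSucc_lt_succ (i := i)).le))))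
    (m : ℕ) (G : Fin (m + 1) → Subobject X) (hG : Monotone G) (hG0 : G 0 = ⊥) (hGm : G (Fin.last m) = ⊤) (hGs : ∀ j : Fin m, Simple (cokernel (Subobject.ofLE (G (Fin.castSucc j)) (G (Fin.succ j)) (hG (Fin.castSucc_lt_succ (i := j)).le)))) :
    ∃ (e : n = m) (σ : Equiv.Perm (Fin m)), ∀ i : Fin n,
      Nonempty (cokernel (Subobject.ofLE (F (Fin.castSucc i)) (F (Fin.succ i)) (hF (Fin.castSucc_lt_succ (i := i)).le)) ≅
        cokernel (Subobject.ofLE (G (Fin.castSucc (σ (Fin.cast e i)))) (G (Fin.succ (σ (Fin.cast e i)))) (hG (Fin.castSucc_lt_succ (i := σ (Fin.cast e i))).le))) := by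
  have hJ := CompositionSeries.jordan_holder (series n F hF hFs) (series m G hG hGs)
    (hF0.trans hG0.symm) (hFn.trans hGm.symm)
  obtain ⟨f, hf⟩ := hJ
  have e : n = m := by
    have h1 : Fintype.card (Fin (series n F hF hFs).length) =
      Fintype.card (Fin (series m G hG hGs).length) := Fintype.card_congr f
    rw [Fintype.card_fin, Fintype.card_fin] at h1
    exact h1
  subst e
  refine ⟨rfl, f, fun i => ?_⟩
  have := E_of_iso (hf i)
  exact this.2 _ _

end Groth.Agent.S1078
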