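import Groth.Statements.S1079
import Mathlib.CategoryTheory.Triangulated.Opposite.Pretriangulated
import Mathlib.CategoryTheory.Limits.Shapes.Opposites.Products

set_option autoImplicit false
universe v u
open CategoryTheory CategoryTheory.Limits Pretriangulated
open CategoryTheory.Pretriangulated.Opposite

namespace Groth.Agent.S1079

section
variable {D : Type u} [Category.{v} D] [Preadditive D] [Limits.HasZeroObject D] [HasShift D ℤ]
    [∀ n : ℤ, (shiftFunctor D n).Additive] [Pretriangulated D]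

theorem split_of_coproducts [HasColimitsOfShape (Discrete ℕ) D] (X : D) (e : X ⟶ X)
    (he : e ≫ e = e) : ∃ (Y : D) (i : Y ⟶ X) (p : X ⟶ Y), i ≫ p = 𝟙 Y ∧ p ≫ i = e := by
  let Z : ℕ → D := fun _ => X
  let S : ∐ Z ⟶ ∐ Z := Sigma.desc (fun n => e ≫ Sigma.ι Z (n + 1))
  have hS : ∀ n, Sigma.ι Z n ≫ S = e ≫ Sigma.ι Z (n + 1) := fun n => Sigma.ι_desc _ _
  -- left inverse of `1 - S`
  let L : ∐ Z ⟶ ∐ Z := Sigma.desc (fun n => (𝟙 X - e) ≫ Sigma.ι Z n -
    ∑ k ∈ Finset.range n, e ≫ Sigma.ι Z k)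
  have hL : ∀ n, Sigma.ι Z n ≫ L = (𝟙 X - e) ≫ Sigma.ι Z n -
      ∑ k ∈ Finset.range n, e ≫ Sigma.ι Z k := fun n => Sigma.ι_desc _ _
  have hSL : (𝟙 _ - S) ≫ L = 𝟙 _ := by
    refine Sigma.hom_ext _ _ (fun n => ?_)
    rw [Preadditive.sub_comp, Preadditive.comp_sub, Category.id_comp, reassoc_of% hS n, hL, hL,
      Category.comp_id, Finset.sum_range_succ]
    simp only [Preadditive.comp_sub, Preadditive.sub_comp, Preadditive.comp_sum, Category.id_comp,
      Preadditive.comp_add, reassoc_of% he]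
    abel
  obtain ⟨Y, π, δ, hT⟩ := distinguished_cocone_triangle (𝟙 _ - S)
  have hδ : δ = 0 := by
    have h1 : δ ≫ (shiftFunctor D (1 : ℤ)).map (𝟙 _ - S) = 0 := comp_distTriang_mor_zero₃₁ _ hT
    have h2 := congrArg (fun x => x ≫ (shiftFunctor D (1 : ℤ)).map L) h1
    simp only [Category.assoc, ← Functor.map_comp, hSL, zero_comp] at h2
    simpa using h2
  have hπ : Epi π := (Triangle.mor₃_eq_zero_iff_epi₂ _ hT).1 hδ
  have hSπ : ∀ n, e ≫ Sigma.ι Z (n + 1) ≫ π = Sigma.ι Z n ≫ π := by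
    intro n
    have h0 : (𝟙 _ - S) ≫ π = 0 := comp_distTriang_mor_zero₁₂ _ hT
    have := congrArg (fun x => Sigma.ι Z n ≫ x) h0
    simp only [Preadditive.sub_comp, Preadditive.comp_sub, Category.id_comp, comp_zero,
      reassoc_of% hS n] at this
    exact (sub_eq_zero.1 this).symm
  have heπ : ∀ n, e ≫ Sigma.ι Z n ≫ π = Sigma.ι Z n ≫ π := by
    intro n
    rw [← hSπ n, reassoc_of% he]
  have hall : ∀ n, Sigma.ι Z n ≫ π = Sigma.ι Z 0 ≫ π := by
    intro n
    induction n with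
    | zero => rfl
    | succ n ih => rw [← ih, ← hSπ n, heπ]
  have h0 : (𝟙 _ - S) ≫ Sigma.desc (fun _ : ℕ => e) = 0 := by
    refine Sigma.hom_ext _ _ (fun n => ?_)
    rw [Preadditive.sub_comp, Preadditive.comp_sub, Category.id_comp, reassoc_of% hS n,
      Sigma.ι_desc, Sigma.ι_desc, he, sub_self, comp_zero]
  obtain ⟨j, hj⟩ : ∃ j : Y ⟶ X, Sigma.desc (fun _ : ℕ => e) = π ≫ j :=
    Triangle.yoneda_exact₂ _ hT _ h0
  refine ⟨Y, j, Sigma.ι Z 0 ≫ π, ?_, ?_⟩
  · rw [← cancel_epi π, ← Category.assoc, ← hj, Category.comp_id]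
    refine Sigma.hom_ext _ _ (fun n => ?_)
    rw [Sigma.ι_desc_assoc, heπ]
    exact (hall n).symm
  · rw [Category.assoc, ← hj, Sigma.ι_desc]

end

/-- A pretriangulated category which has countable coproducts, or countable products, is Karoubian
(idempotent complete). -/
theorem result {D : Type u} [Category.{v} D] [Preadditive D] [Limits.HasZeroObject D] [HasShift D ℤ]
    [∀ n : ℤ, (shiftFunctor D n).Additive] [Pretriangulated D]
    (h : HasColimitsOfShape (Discrete ℕ) D ∨ HasLimitsOfShape (Discrete ℕ) D) : IsIdempotentComplete D := by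
  rcases h with h | h
  · exact ⟨fun X e he => split_of_coproducts X e he⟩
  · rw [← Idempotents.isIdempotentComplete_iff_opposite]
    have : HasColimitsOfShape (Discrete ℕ)ᵒᵖ Dᵒᵖ :=
      hasColimitsOfShape_opposite_opposite_iff.2 h
    have : HasColimitsOfShape (Discrete ℕ) Dᵒᵖ :=
      hasColimitsOfShape_of_equivalence (Discrete.opposite ℕ)
    exact ⟨fun X e he => split_of_coproducts X e he⟩

end Groth.Agent.S1079
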