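import Groth.Statements.S10855
import Groth.Agent.Lib.IdealComap
-- import your own Groth.Agent.* helpers here

set_option autoImplicit false
universe u
open BlowUp

namespace Groth.Agent.S10855

open AlgebraicGeometry CategoryTheory in
/-- Let f : X → Y be a flat morphism of schemes and 𝓘 the quasi-coherent ideal sheaf of an effective
Cartier divisor on Y (near every point generated on an affine open by one non-zero-divisor). Then
the inverse image ideal sheaf of 𝓘 on X is again the ideal of an effective Cartier divisor: the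
subscheme f⁻¹(Z) is an effective Cartier divisor on X. (The published corollary also identifies this
divisor with the pullback of Z as a divisor; that clause is not included here.) -/
theorem result {X Y : Scheme.{u}} (f : X ⟶ Y) [Flat f]
    (𝓘 : Y.IdealSheafData) (hD : BlowUp.IsEffCartierIdeal 𝓘) :
    BlowUp.IsEffCartierIdeal (𝓘.comap f) := by
  intro x
  obtain ⟨V, hyV, g, hg, hI⟩ := hD (f x)
  obtain ⟨U, hU, hxU, hUV⟩ := exists_isAffineOpen_mem_and_subset (U := f ⁻¹ᵁ V.1) (x := x) hyV
  have hle : U ≤ f ⁻¹ᵁ V.1 := hUV
  refine ⟨⟨U, hU⟩, hxU, (f.appLE V.1 U hle).hom g, ?_, ?_⟩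
  · have hflat : (f.appLE V.1 U hle).hom.Flat := f.flat_appLE V.2 hU hle
    algebraize [(f.appLE V.1 U hle).hom]
    have hreg : IsSMulRegular Γ(Y, V.1) g :=
      (isRegular_iff_mem_nonZeroDivisors.mpr hg).left.isSMulRegular
    have hreg' : IsSMulRegular Γ(X, U) (algebraMap Γ(Y, V.1) Γ(X, U) g) := hreg.of_flat
    exact isRegular_iff_mem_nonZeroDivisors.mp
      ((Commute.isRegular_iff (fun b => Commute.all _ b)).mpr hreg'.isLeftRegular)
  · rw [Groth.Agent.Lib.IdealComap.ideal_comap 𝓘 f V.1 V.2 U hU hle, hI, Ideal.map_span,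
      Set.image_singleton]

end Groth.Agent.S10855
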