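import Groth.Statements.S10791
import Groth.Agent.S10855
import Groth.Agent.Lib.H86CartierChart
import Groth.Agent.Lib.AlgSpBasic

set_option linter.style.haveILetI false

set_option autoImplicit false
universe u
open CategoryTheory CategoryTheory.Limits AlgebraicGeometry Topology TopologicalSpace
open AlgSp

namespace Groth.Agent.S10791

set_option backward.isDefEq.respectTransparency false in
/-- (2) ⇔ (3): let X be an algebraic space over a scheme S and D ⟶ X a closed subspace (a morphism
representable by closed immersions). Then D is an effective Cartier divisor in the one-chart sense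
(for some scheme V and some representable etale surjective h_V ⟶ X the inverse image of D in V is
the closed subscheme of a quasi-coherent ideal sheaf that is locally generated by one
nonzerodivisor) if and only if for every scheme U, every representable etale h_U ⟶ X and every
quasi-coherent ideal sheaf I on U whose closed subscheme is the inverse image of D in U (a pullback
square), I is locally on affine opens generated by one nonzerodivisor. (The characterisation through
the invertible ideal sheaf of D and the pointed affine form are not part of this row.) -/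
theorem result {S : Scheme.{u}} (X D : AlgSp.Space S) (i : D ⟶ X)
    (hi : AlgSp.RepWith @IsClosedImmersion i.hom) :
    AlgSp.IsEffCartierSub i.hom ↔
      ∀ (U : Over S) (φ : (AlgSp.yon S).obj U ⟶ X.obj), AlgSp.RepWith @Etale φ →
        ∀ (I : U.left.IdealSheafData)
          (fst : (AlgSp.yon S).obj (Over.mk (I.subschemeι ≫ U.hom)) ⟶ D.obj),
          IsPullback fst ((AlgSp.yon S).map (Over.homMk I.subschemeι rfl : Over.mk (I.subschemeι ≫ U.hom) ⟶ U)) i.hom φ →
            BlowUp.IsEffCartierIdeal I := by
  constructor
  · rintro ⟨-, V, φ, I, fstD, hφe, hφs, sqD, hI⟩ U φ' hφ'e I' fst' sq'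
    have sqW := hφe.rep.isPullback' φ'
    haveI hwUe : Etale (hφe.rep.snd φ').left := hφe.property_snd φ'
    haveI hwUs : Surjective (hφe.rep.snd φ').left :=
      hφs.property _ _ _ (hφe.rep.isPullback φ')
    haveI hwVe : Etale (hφe.rep.fst' φ').left :=
      (repWith_yon_map_iff _ _).1
        (Groth.Agent.Lib.AlgSpBasic.repWith_fst_of_isPullback _ sqW hφ'e)
    have hcomm : (yon S).map (hφe.rep.snd φ') ≫ φ' = (yon S).map (hφe.rep.fst' φ') ≫ φ :=
      sqW.w.symm
    have heq := Groth.Agent.Lib.H86CartierChart.comap_eq_comap i.hom φ' φ I' I fst' fstD sq' sqD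
      (hφe.rep.snd φ') (hφe.rep.fst' φ') hcomm
    have hJ : BlowUp.IsEffCartierIdeal (I.comap (hφe.rep.fst' φ').left) :=
      Groth.Agent.S10855.result _ I hI
    rw [← heq] at hJ
    exact Groth.Agent.Lib.H86CartierDescent.isEffCartierIdeal_of_comap (hφe.rep.snd φ').left I' hJ
  · intro h
    refine ⟨hi, ?_⟩
    obtain ⟨V, φ, hφe, hφs⟩ := X.property.atlas
    have sqZ := hi.rep.isPullback φ
    haveI hc : IsClosedImmersion (hi.rep.snd φ).left := hi.property_snd φ
    set c := (hi.rep.snd φ).left with hcdef
    have hεw : inv c.toImage ≫ (hi.rep.pullback φ).hom = c.ker.subschemeι ≫ V.hom := by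
      rw [IsIso.inv_comp_eq, ← Over.w (hi.rep.snd φ), ← hcdef, ← Category.assoc]
      congr 1
      exact c.toImage_imageι.symm
    let ε : Over.mk (c.ker.subschemeι ≫ V.hom) ⟶ hi.rep.pullback φ := Over.homMk (inv c.toImage) hεw
    haveI : IsIso ε := by
      haveI : IsIso ((Over.forget S).map ε) := by
        change IsIso (inv c.toImage); infer_instance
      exact isIso_of_reflects_iso ε (Over.forget S)
    have hεc : ε ≫ hi.rep.snd φ =
        (Over.homMk c.ker.subschemeι rfl : Over.mk (c.ker.subschemeι ≫ V.hom) ⟶ V) := by
      ext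
      change inv c.toImage ≫ c = c.ker.subschemeι
      rw [IsIso.inv_comp_eq]
      exact c.toImage_imageι.symm
    have sq0 : IsPullback ((yon S).map ε) ((yon S).map (Over.homMk c.ker.subschemeι rfl :
        Over.mk (c.ker.subschemeι ≫ V.hom) ⟶ V)) ((yon S).map (hi.rep.snd φ)) (𝟙 _) :=
      IsPullback.of_horiz_isIso ⟨by rw [Category.comp_id, ← Functor.map_comp, hεc]⟩
    have sq1 := sq0.paste_horiz sqZ
    rw [Category.id_comp] at sq1
    exact ⟨V, φ, c.ker, (yon S).map ε ≫ hi.rep.fst φ, hφe, hφs, sq1, h V φ hφe c.ker _ sq1⟩

end Groth.Agent.S10791
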