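import Groth.Statements.S10792
import Groth.Agent.S10855
import Groth.Agent.Lib.H86CartierChart2
import Groth.Agent.Lib.AlgSpBasic
import Groth.Agent.Lib.AlgSpAtPt

set_option linter.style.haveILetI false

set_option autoImplicit false
universe u
open CategoryTheory CategoryTheory.Limits AlgebraicGeometry Topology TopologicalSpace
open AlgSp

namespace Groth.Agent.S10792

set_option backward.isDefEq.respectTransparency false in
/-- (2) ⇔ (4): let X be an algebraic space over a scheme S and D ⟶ X a closed subspace (representable by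
closed immersions). Then D is an effective Cartier divisor in the one-chart sense if and only if for
every point x of |D| there are an affine scheme U over S, a representable etale h_U ⟶ X, a point u
of U mapping to the image of x in |X|, and a nonzerodivisor f of the ring A of global functions of U
such that the inverse image of D in U is the closed subscheme Spec (A/(f)), that is, the closed
subscheme of the quasi-coherent ideal sheaf of U whose ideal of global sections is generated by f. -/
theorem result {S : Scheme.{u}} (X D : AlgSp.Space S) (i : D ⟶ X)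
    (hi : AlgSp.RepWith @IsClosedImmersion i.hom) :
    AlgSp.IsEffCartierSub i.hom ↔
      ∀ x : AlgSp.Points D.obj,
        ∃ (U : Over S) (_ : IsAffine U.left) (a : (AlgSp.yon S).obj U ⟶ X.obj) (u : ↥U.left)
          (f : Γ(U.left, ⊤)) (I : U.left.IdealSheafData)
          (fst : (AlgSp.yon S).obj (Over.mk (I.subschemeι ≫ U.hom)) ⟶ D.obj),
          AlgSp.RepWith @Etale a ∧ AlgSp.Points.ofPt a u = AlgSp.Points.map i.hom x ∧
            f ∈ nonZeroDivisors Γ(U.left, ⊤) ∧
            I.ideal ⟨⊤, isAffineOpen_top U.left⟩ = Ideal.span {f} ∧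
            IsPullback fst ((AlgSp.yon S).map (Over.homMk I.subschemeι rfl : Over.mk (I.subschemeι ≫ U.hom) ⟶ U)) i.hom a := by
  constructor
  · rintro ⟨-, V, φ, I, fstD, hφe, hφs, sqD, hI⟩ x
    obtain ⟨v, hv⟩ := Groth.Agent.Lib.AlgSpQC.surjective_ofPt_of_repWith_surjective hφs
      (Points.map i.hom x)
    obtain ⟨V₀, hvV₀, f₀, hf₀, hIf₀⟩ := hI v
    let U : Over S := Groth.Agent.Lib.AlgSpAtPt.opensOver V V₀.1
    let ι : U ⟶ V := Groth.Agent.Lib.AlgSpAtPt.opensOverι V V₀.1
    haveI hUaff : IsAffine U.left := V₀.2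
    have hιe : RepWith @Etale ((yon S).map ι) :=
      Groth.Agent.Lib.AlgSpAtPt.repWith_etale_opensOverι V V₀.1
    have hae : RepWith @Etale ((yon S).map ι ≫ φ) := (RepWith @Etale).comp_mem _ _ hιe hφe
    haveI : Flat ι.left := inferInstanceAs (Flat V₀.1.ι)
    have hIU : BlowUp.IsEffCartierIdeal (I.comap ι.left) := Groth.Agent.S10855.result ι.left I hI
    obtain ⟨ζ, sq1⟩ := Groth.Agent.Lib.H86CartierChart.isPullback_yon_comap ι I
    have sq2 := sq1.paste_horiz sqD
    have hle : (⊤ : U.left.Opens) ≤ ι.left ⁻¹ᵁ V₀.1 := by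
      intro y _
      exact y.2
    have hideal : (I.comap ι.left).ideal ⟨⊤, isAffineOpen_top U.left⟩ =
        Ideal.span {(ι.left.appLE V₀.1 ⊤ hle).hom f₀} := by
      rw [Groth.Agent.Lib.IdealComap.ideal_comap I ι.left V₀.1 V₀.2 ⊤ (isAffineOpen_top U.left) hle]
      change Ideal.map _ (I.ideal V₀) = _
      rw [hIf₀, Ideal.map_span, Set.image_singleton]
    refine ⟨U, hUaff, (yon S).map ι ≫ φ, ⟨v, hvV₀⟩, (ι.left.appLE V₀.1 ⊤ hle).hom f₀,
      I.comap ι.left, (yon S).map ζ ≫ fstD, hae, ?_, ?_, hideal, sq2⟩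
    · rw [Groth.Agent.Lib.H86AlgSpPoints.ofPt_map_comp]
      exact hv
    · exact Groth.Agent.Lib.LimCartier96.generator_mem_nonZeroDivisors (I.comap ι.left) hIU
        ⟨⊤, isAffineOpen_top U.left⟩ _ hideal
  · intro h
    refine ⟨hi, ?_⟩
    obtain ⟨V, φ, hφe, hφs⟩ := X.property.atlas
    obtain ⟨I, fst, sq⟩ := Groth.Agent.Lib.H86CartierChart2.exists_ideal_chart i.hom hi φ
    refine ⟨V, φ, I, fst, hφe, hφs, sq, ?_⟩
    intro v
    by_cases hv : v ∈ I.support
    · rw [← SetLike.mem_coe, ← I.range_subschemeι] at hv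
      obtain ⟨z, hz⟩ := hv
      have hx : Points.map i.hom (Points.ofPt fst z) = Points.ofPt φ v := by
        rw [Points.map_ofPt, sq.w, Groth.Agent.Lib.H86AlgSpPoints.ofPt_map_comp]
        exact congrArg _ hz
      obtain ⟨U, hUaff, a, u, f, IU, fstU, hae, hau, hf, hIf, sqU⟩ := h (Points.ofPt fst z)
      have sqW := hφe.rep.isPullback' a
      haveI hwUe : Etale (hφe.rep.snd a).left := hφe.property_snd a
      haveI hwVe : Etale (hφe.rep.fst' a).left :=
        (repWith_yon_map_iff _ _).1
          (Groth.Agent.Lib.AlgSpBasic.repWith_fst_of_isPullback _ sqW hae)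
      obtain ⟨w, hw1, hw2⟩ := Groth.Agent.Lib.H86CartierChart2.exists_scheme_point_of_isPullback
        sqW v u (by rw [hau, hx])
      have heq := Groth.Agent.Lib.H86CartierChart.comap_eq_comap i.hom a φ IU I fstU fst sqU sq
        (hφe.rep.snd a) (hφe.rep.fst' a) sqW.w.symm
      have hIU : BlowUp.IsEffCartierIdeal IU := fun _ =>
        ⟨⟨⊤, isAffineOpen_top U.left⟩, trivial, f, hf, hIf⟩
      have hJ : BlowUp.IsEffCartierIdeal (IU.comap (hφe.rep.snd a).left) :=
        Groth.Agent.S10855.result _ IU hIU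
      rw [heq] at hJ
      have := Groth.Agent.Lib.H86CartierDescent.exists_generator_of_comap (hφe.rep.fst' a).left I hJ w
      rwa [hw1] at this
    · exact Groth.Agent.Lib.H86CartierChart2.exists_generator_of_notMem_support I v hv

end Groth.Agent.S10792
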