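import Groth.Statements.S1686
import Mathlib.RingTheory.KrullDimension.NonZeroDivisors
import Mathlib.Topology.KrullDimension
import Mathlib.AlgebraicGeometry.Artinian
import Mathlib.Tactic

set_option autoImplicit false
universe u
open CategoryTheory CategoryTheory.Limits AlgebraicGeometry TopologicalSpace
open SDiv

namespace Groth.Agent.S1686


/-- dimension of an affine open subset as a subspace -/
theorem dim_affineOpen (X : Scheme.{u}) (U : X.affineOpens) :
    topologicalKrullDim ((U.1 : Opens X) : Set X) = ringKrullDim Γ(X, U.1) := by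
  rw [← PrimeSpectrum.topologicalKrullDim_eq_ringKrullDim Γ(X, U.1)]
  change topologicalKrullDim U.1 = topologicalKrullDim (Spec Γ(X, U.1))
  exact IsHomeomorph.topologicalKrullDim_eq _ U.2.isoSpec.hom.homeomorph.isHomeomorph

/-- dimension of the preimage of an affine open in the closed subscheme -/
theorem dim_preimage (X : Scheme.{u}) (I : X.IdealSheafData) (U : X.affineOpens) :
    topologicalKrullDim ((I.subschemeι ⁻¹ᵁ U.1 : Opens I.subscheme) : Set I.subscheme) =
      ringKrullDim (Γ(X, U.1) ⧸ I.ideal U) := by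
  rw [← PrimeSpectrum.topologicalKrullDim_eq_ringKrullDim (Γ(X, U.1) ⧸ I.ideal U)]
  rw [← I.opensRange_subschemeCover_map U]
  have h1 := (I.subschemeCover.f U).isOpenEmbedding
  have h2 : ((I.subschemeCover.f U).opensRange : Set I.subscheme) =
      Set.range (I.subschemeCover.f U) := rfl
  rw [h2]
  exact (IsHomeomorph.topologicalKrullDim_eq _
    h1.isEmbedding.toHomeomorph.isHomeomorph).symm


/-- Let D be the closed subscheme of an effective Cartier divisor on a scheme S and d a point of D with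
image s in S. If the local dimension of S at s is finite, then the local dimension of D at d is
strictly smaller. -/
theorem result (S : Scheme.{u}) (𝓘 : S.IdealSheafData) (h𝓘 : BlowUp.IsEffCartierIdeal 𝓘) (d : ↥𝓘.subscheme)
    (hfin : FlatMor.localDim ↥S (𝓘.subschemeι d) ≠ ⊤) :
    FlatMor.localDim ↥𝓘.subscheme d < FlatMor.localDim ↥S (𝓘.subschemeι d) := by
  set s := 𝓘.subschemeι d with hs
  -- the infimum is attained
  have : Nonempty {U : Opens S // s ∈ U} := ⟨⟨⊤, trivial⟩⟩
  obtain ⟨⟨U0, hsU0⟩, hU0⟩ := ciInf_mem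
    (fun U : {U : Opens S // s ∈ U} => topologicalKrullDim (U.1 : Set S))
  change topologicalKrullDim (U0 : Set S) = FlatMor.localDim S s at hU0
  -- Cartier chart
  obtain ⟨U1, hsU1, f, hf, hIf⟩ := h𝓘 s
  obtain ⟨g, hgle, hsg⟩ := U1.2.exists_basicOpen_le (V := U0 ⊓ U1.1) ⟨s, ⟨hsU0, hsU1⟩⟩ hsU1
  let V : S.affineOpens := S.affineBasicOpen g
  have hsV : s ∈ V.1 := hsg
  have hVU0 : V.1 ≤ U0 := hgle.trans inf_le_left
  -- dimension of V equals the local dimension
  have hdimV : topologicalKrullDim ((V.1 : Opens S) : Set S) = FlatMor.localDim S s := by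
    apply le_antisymm
    · rw [← hU0]
      have : Topology.IsInducing (Set.inclusion (show ((V.1 : Opens S) : Set S) ⊆ (U0 : Set S) from hVU0)) :=
        (Topology.IsEmbedding.inclusion _).isInducing
      exact this.topologicalKrullDim_le
    · exact iInf_le (fun U : {U : Opens S // s ∈ U} => topologicalKrullDim (U.1 : Set S))
        ⟨V.1, hsV⟩
  -- the ideal on V is generated by the restriction of f, a nonzerodivisor
  set ρ : Γ(S, U1.1) →+* Γ(S, (S.affineBasicOpen g).1) :=
    (S.presheaf.map (homOfLE <| S.basicOpen_le g).op).hom with hρ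
  have hIV : 𝓘.ideal V = Ideal.span {ρ f} := by
    change 𝓘.ideal (S.affineBasicOpen g) = _
    rw [← 𝓘.map_ideal_basicOpen U1 g, hIf, Ideal.map_span, Set.image_singleton]
    rfl
  have hfV : ρ f ∈ nonZeroDivisors Γ(S, V.1) := by
    have hloc : IsLocalization.Away g Γ(S, S.basicOpen g) := U1.2.isLocalization_basicOpen g
    have := IsLocalization.map_nonZeroDivisors_le (Submonoid.powers g) Γ(S, S.basicOpen g)
    exact this (Submonoid.mem_map_of_mem _ hf)
  have hdimW : topologicalKrullDim ((𝓘.subschemeι ⁻¹ᵁ V.1 : Opens 𝓘.subscheme) : Set 𝓘.subscheme)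
      + 1 ≤ FlatMor.localDim S s := by
    rw [dim_preimage, ← hdimV, dim_affineOpen, hIV]
    exact ringKrullDim_quotient_succ_le_of_nonZeroDivisor hfV
  have hdW : d ∈ 𝓘.subschemeι ⁻¹ᵁ V.1 := hsV
  have hle : FlatMor.localDim 𝓘.subscheme d ≤
      topologicalKrullDim ((𝓘.subschemeι ⁻¹ᵁ V.1 : Opens 𝓘.subscheme) : Set 𝓘.subscheme) :=
    iInf_le (fun U : {U : Opens 𝓘.subscheme // d ∈ U} =>
      topologicalKrullDim ((U.1 : Opens 𝓘.subscheme) : Set 𝓘.subscheme))
      ⟨𝓘.subschemeι ⁻¹ᵁ V.1, hdW⟩
  refine lt_of_le_of_lt hle ?_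
  -- arithmetic in WithBot ℕ∞
  have hnonneg : (0 : WithBot ℕ∞) ≤ FlatMor.localDim S s := by
    rw [← hdimV]
    have : Nonempty (IrreducibleCloseds ((V.1 : Opens S) : Set S)) :=
      ⟨⟨closure {⟨s, hsV⟩}, isIrreducible_singleton.closure, isClosed_closure⟩⟩
    exact Order.krullDim_nonneg
  generalize topologicalKrullDim ((𝓘.subschemeι ⁻¹ᵁ V.1 : Opens 𝓘.subscheme) : Set 𝓘.subscheme) = a
    at hdimW
  generalize FlatMor.localDim S s = n at hdimW hfin hnonneg
  cases a with
  | bot => exact lt_of_lt_of_le (WithBot.bot_lt_coe 0) hnonneg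
  | coe a =>
    cases n with
    | bot => simp at hnonneg
    | coe n =>
      rw [← WithBot.coe_one, ← WithBot.coe_add, WithBot.coe_le_coe] at hdimW
      rw [WithBot.coe_lt_coe]
      have hn : n ≠ ⊤ := fun h => hfin (by rw [h]; rfl)
      exact lt_of_lt_of_le (ENat.lt_add_one_iff (by
        rintro rfl; simp at hdimW; exact hn hdimW) |>.mpr le_rfl) hdimW

end Groth.Agent.S1686
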