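import Groth.Statements.S10794
import Groth.Agent.S1686
import Groth.Agent.Lib.H86DimAt

set_option linter.style.haveILetI false

set_option autoImplicit false
universe u
open CategoryTheory CategoryTheory.Limits AlgebraicGeometry Topology TopologicalSpace
open AlgSp

namespace Groth.Agent.S10794

set_option backward.isDefEq.respectTransparency false in
/-- Let X be an algebraic space over a scheme S, D ⟶ X an effective Cartier divisor (one-chart sense)
and x a point of |D|. If the dimension of X at the image of x is d, in the sense that some etale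
scheme chart of X has local dimension d at a point over it, and d is finite, then the dimension of D
at x is strictly smaller: some etale scheme chart of D has local dimension less than d at a point
over x. -/
theorem result {S : Scheme.{u}} (X D : AlgSp.Space S) (i : D ⟶ X)
    (hD : AlgSp.IsEffCartierSub i.hom) (x : AlgSp.Points D.obj) (d : WithBot ℕ∞)
    (hd : AlgSp.HasAt (fun U u => FlatMor.localDim ↥U u = d) X.obj (AlgSp.Points.map i.hom x)) (hfin : d ≠ ⊤) :
    AlgSp.HasAt (fun V v => FlatMor.localDim ↥V v < d) D.obj x := by
  obtain ⟨-, V, φ, I, fst, hφe, hφs, sq, hI⟩ := hD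
  have hfe : RepWith @Etale fst :=
    Groth.Agent.Lib.AlgSpBasic.repWith_fst_of_isPullback @Etale sq hφe
  have hfs : RepWith @Surjective fst :=
    Groth.Agent.Lib.AlgSpBasic.repWith_fst_of_isPullback @Surjective sq hφs
  obtain ⟨z, hz⟩ := Groth.Agent.Lib.AlgSpQC.surjective_ofPt_of_repWith_surjective hfs x
  have hv : Points.ofPt φ ((Over.homMk I.subschemeι rfl :
      Over.mk (I.subschemeι ≫ V.hom) ⟶ V).left z) = Points.map i.hom x := by
    rw [← hz, Points.map_ofPt, sq.w, Groth.Agent.Lib.H86AlgSpPoints.ofPt_map_comp]
  replace hv : Points.ofPt φ (I.subschemeι z) = Points.map i.hom x := hv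
  have hdV : FlatMor.localDim ↥V.left (I.subschemeι z) = d :=
    (Groth.Agent.Lib.H86DimAt.hasAt_iff_forall_chart
      (Q := fun U u => FlatMor.localDim ↥U u = d)
      (fun s _ w => Groth.Agent.Lib.H86DimAt.localDim_iff_of_etale d s w) X.property
      (Points.map i.hom x)).1 hd V φ (I.subschemeι z) hφe hv
  refine ⟨_, fst, z, hfe, hz, ?_⟩
  have := Groth.Agent.S1686.result V.left I hI z (by rw [hdV]; exact hfin)
  rw [hdV] at this
  exact this

end Groth.Agent.S10794
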