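import Groth.Statements.S10795
import Groth.Agent.S10855
import Groth.Agent.Lib.AlgSpFibre
import Groth.Agent.Lib.AlgSpQC

set_option linter.style.haveILetI false

set_option autoImplicit false
universe u
open CategoryTheory CategoryTheory.Limits AlgebraicGeometry Topology TopologicalSpace
open AlgSp

namespace Groth.Agent.S10795

set_option backward.isDefEq.respectTransparency false in
/-- For algebraic spaces X and Y over a scheme S, a flat morphism f : X ⟶ Y and an effective Cartier
divisor D ⟶ Y (one-chart sense), the inverse image of D under f is an effective Cartier divisor on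
X: for every pullback square of D ⟶ Y along f, the projection to X is an effective Cartier divisor
(one-chart sense). -/
theorem result {S : Scheme.{u}} (X Y D P : AlgSp.Space S) (f : X ⟶ Y)
    (hf : AlgSp.LocP @Flat f.hom) (i : D ⟶ Y) (hD : AlgSp.IsEffCartierSub i.hom)
    (fst : P ⟶ D) (snd : P ⟶ X) (hP : IsPullback fst.hom snd.hom i.hom f.hom) :
    AlgSp.IsEffCartierSub snd.hom := by
  obtain ⟨hci, V, φ, I, fstD, hφe, hφs, sqD, hI⟩ := hD
  refine ⟨(RepWith @IsClosedImmersion).of_isPullback hP hci, ?_⟩
  obtain ⟨U, qU, hUe, hUs⟩ := X.property.atlas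
  have s0 := IsPullback.of_hasPullback f.hom φ
  obtain ⟨W, q, wU, wV, hqe, hqs, e1, e2, sqW⟩ :=
    Groth.Agent.Lib.AlgSpFibre.exists_atlas_of_isPullback Y.property.diag s0 qU
      (𝟙 ((yon S).obj V)) hUe hUs (repWith_id _ V) (repWith_id _ V)
  have sqW' : IsPullback ((yon S).map wU) ((yon S).map wV) (qU ≫ f.hom) φ := by
    simpa using sqW
  -- the chart of `X`
  have hwUe : RepWith @Etale ((yon S).map wU) := (RepWith @Etale).of_isPullback sqW'.flip hφe
  have hwUs : RepWith @Surjective ((yon S).map wU) :=
    (RepWith @Surjective).of_isPullback sqW'.flip hφs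
  have hφ'e : RepWith @Etale ((yon S).map wU ≫ qU) := (RepWith @Etale).comp_mem _ _ hwUe hUe
  have hφ's : RepWith @Surjective ((yon S).map wU ≫ qU) :=
    (RepWith @Surjective).comp_mem _ _ hwUs hUs
  have comm : ((yon S).map wU ≫ qU) ≫ f.hom = (yon S).map wV ≫ φ := by
    rw [Category.assoc]; exact sqW'.w
  haveI : Flat wV.left := hf ((yon S).map wU ≫ qU) φ wV hφ'e hφe comm
  have hI' : BlowUp.IsEffCartierIdeal (I.comap wV.left) := Groth.Agent.S10855.result wV.left I hI
  -- the scheme-level pullback square
  have H0 : IsPullback (pullback.snd wV.left I.subschemeι) (pullback.fst wV.left I.subschemeι)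
      I.subschemeι wV.left := (IsPullback.of_hasPullback wV.left I.subschemeι).flip
  have H : IsPullback ((I.comapIso wV.left).hom ≫ pullback.snd wV.left I.subschemeι)
      (I.comap wV.left).subschemeι I.subschemeι wV.left := by
    refine IsPullback.of_iso H0 (I.comapIso wV.left).symm (Iso.refl _) (Iso.refl _) (Iso.refl _)
      ?_ ?_ ?_ ?_
    · rw [Iso.symm_hom, Iso.refl_hom, Category.comp_id, Iso.inv_hom_id_assoc]
    · rw [Iso.symm_hom, Iso.refl_hom, Category.comp_id, Scheme.IdealSheafData.comapIso_inv_subschemeι]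
    · simp
    · simp
  have hw := Groth.Agent.Lib.AlgSpQC.isPullback_w_over wV (I.comap wV.left).subschemeι
    I.subschemeι _ H
  have sqZ := (Groth.Agent.Lib.AlgSpQC.isPullback_yon_overMk wV (I.comap wV.left).subschemeι
    I.subschemeι _ H hw).flip
  have big := sqZ.paste_horiz sqD
  rw [← comm] at big
  refine ⟨W, (yon S).map wU ≫ qU, I.comap wV.left,
    hP.lift _ ((yon S).map (Over.homMk (I.comap wV.left).subschemeι rfl :
      Over.mk ((I.comap wV.left).subschemeι ≫ W.hom) ⟶ W) ≫ ((yon S).map wU ≫ qU)) big.w,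
    hφ'e, hφ's, ?_, hI'⟩
  refine IsPullback.of_right ?_ (hP.lift_snd _ _ _) hP
  rw [hP.lift_fst]
  exact big

end Groth.Agent.S10795
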