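import Groth.Statements.S1662
import Groth.Agent.Lib.IdealComap
import Mathlib.RingTheory.Flat.Equalizer
import Mathlib.RingTheory.Flat.TorsionFree
import Mathlib.Algebra.Category.Ring.Constructions
-- import your own Groth.Agent.* helpers here

set_option autoImplicit false
universe u
open CategoryTheory CategoryTheory.Limits AlgebraicGeometry
open Divisors

namespace Groth.Agent.S1662

open TensorProduct

theorem map_mem_nonZeroDivisors_of_flat {A B : Type*} [CommRing A] [CommRing B] (φ : A →+* B)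
    (hφ : φ.Flat) {a : A} (ha : a ∈ nonZeroDivisors A) : φ a ∈ nonZeroDivisors B := by
  let _ := φ.toAlgebra
  have : Module.Flat A B := hφ
  have hreg : IsSMulRegular B a := Module.Flat.isSMulRegular_of_nonZeroDivisors ha
  rw [mem_nonZeroDivisors_iff_right]
  intro b hb
  apply hreg
  show a • b = a • (0 : B)
  rw [smul_zero, Algebra.smul_def, RingHom.algebraMap_toAlgebra, mul_comm]
  exact hb

theorem nzd_of_isPushout {R B R' D C : CommRingCat.{u}} {φ₁ : R ⟶ B} {φ₂ : R ⟶ R'} {ψ₁ : B ⟶ D}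
    {ψ₂ : R' ⟶ D} (h : IsPushout φ₁ φ₂ ψ₁ ψ₂) (π : B ⟶ C) (hπ : Function.Surjective π.hom) (a : B)
    (ha : a ∈ nonZeroDivisors B) (hker : RingHom.ker π.hom = Ideal.span {a})
    (hflat : (φ₁ ≫ π).hom.Flat) : ψ₁.hom a ∈ nonZeroDivisors D := by
  let _ : Algebra R B := φ₁.hom.toAlgebra
  let _ : Algebra R R' := φ₂.hom.toAlgebra
  let _ : Algebra R C := (φ₁ ≫ π).hom.toAlgebra
  have hC : Module.Flat R C := hflat
  let gl : B →ₗ[R] B := LinearMap.mulLeft R a
  have hgl : Function.Injective gl := by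
    intro x y hxy
    have hxy' : a * x = a * y := hxy
    have h0 : a * (x - y) = 0 := by rw [mul_sub, hxy', sub_self]
    have := (mem_nonZeroDivisors_iff_left.mp ha) (x - y) h0
    exact sub_eq_zero.mp this
  let fl : B →ₗ[R] C :=
    { toFun := π.hom
      map_add' := map_add _
      map_smul' := by
        intro r b
        simp only [Algebra.smul_def, RingHom.algebraMap_toAlgebra, map_mul, RingHom.id_apply,
          CommRingCat.hom_comp, RingHom.comp_apply] }
  have hfl : Function.Surjective fl := hπ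
  have hex : Function.Exact gl fl := by
    intro b
    show π.hom b = 0 ↔ b ∈ Set.range gl
    rw [← RingHom.mem_ker, hker, Ideal.mem_span_singleton']
    constructor
    · rintro ⟨c, rfl⟩
      exact ⟨c, mul_comm a c⟩
    · rintro ⟨c, rfl⟩
      exact ⟨c, mul_comm c a⟩
  have hinj := LinearMap.lTensor_injective_of_exact_of_flat fl hfl gl hgl hex R'
  -- identify `D` with the tensor product
  have ht := CommRingCat.isPushout_tensorProduct R R' B
  let e := ht.isoIsPushout _ _ h.flip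
  have he : ∀ b : B, e.hom.hom ((1 : R') ⊗ₜ[R] b) = ψ₁.hom b := by
    intro b
    have := congr($(ht.inr_isoIsPushout_hom _ _ h.flip).hom b)
    exact this
  have heinj : Function.Injective e.hom.hom := (ConcreteCategory.bijective_of_isIso e.hom).1
  have hesurj : Function.Surjective e.hom.hom := (ConcreteCategory.bijective_of_isIso e.hom).2
  rw [mem_nonZeroDivisors_iff_right]
  intro d hd
  obtain ⟨w, rfl⟩ := hesurj d
  rw [← he a, ← map_mul] at hd
  have hw0 : w * ((1 : R') ⊗ₜ[R] a) = 0 := heinj (by rw [hd, map_zero])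
  have hmul : ∀ w : R' ⊗[R] B, gl.lTensor R' w = w * ((1 : R') ⊗ₜ[R] a) := by
    intro w
    induction w using TensorProduct.induction_on with
    | zero => simp
    | tmul r b =>
      simp only [LinearMap.lTensor_tmul, Algebra.TensorProduct.tmul_mul_tmul, mul_one]
      rw [mul_comm b a]; rfl
    | add x y hx hy => rw [map_add, hx, hy, add_mul]
  have : w = 0 := hinj (by rw [hmul, hw0, map_zero])
  rw [this, map_zero]

/-- Let f : X → S, D an effective Cartier divisor on X such that D → S is flat, and g : S' → S any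
morphism. Then the inverse image of D in X ×_S S' is an effective Cartier divisor. -/
theorem result {X S S' : Scheme.{u}} (f : X ⟶ S) (D : X.IdealSheafData) (hD : BlowUp.IsEffCartierIdeal D)
    [Flat (D.subschemeι ≫ f)] (g : S' ⟶ S) :
    BlowUp.IsEffCartierIdeal (D.comap (pullback.fst f g)) := by
  intro z
  obtain ⟨U₀, hxU₀, a₀, ha₀, hDU₀⟩ := hD ((pullback.fst f g) z)
  obtain ⟨_, ⟨V, hV, rfl⟩, hsV, -⟩ := S.isBasis_affineOpens.exists_subset_of_mem_open
    (Set.mem_univ (f ((pullback.fst f g) z))) isOpen_univ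
  have hx : (pullback.fst f g) z ∈ (U₀.1 ⊓ f ⁻¹ᵁ V : X.Opens) := ⟨hxU₀, hsV⟩
  obtain ⟨_, ⟨U, hU, rfl⟩, hxU, hUle⟩ :=
    X.isBasis_affineOpens.exists_subset_of_mem_open hx (U₀.1 ⊓ f ⁻¹ᵁ V).isOpen
  have hUU₀ : U ≤ (𝟙 X) ⁻¹ᵁ U₀.1 := fun y hy => (hUle hy).1
  have hUV : U ≤ f ⁻¹ᵁ V := fun y hy => (hUle hy).2
  have hU' : IsAffineOpen U := hU
  have ha : (Scheme.Hom.appLE (𝟙 X) U₀.1 U hUU₀).hom a₀ ∈ nonZeroDivisors Γ(X, U) :=
    map_mem_nonZeroDivisors_of_flat _ (Scheme.Hom.flat_appLE (𝟙 X) U₀.2 hU' hUU₀) ha₀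
  have hDU : D.ideal ⟨U, hU⟩ = Ideal.span {(Scheme.Hom.appLE (𝟙 X) U₀.1 U hUU₀).hom a₀} := by
    have := Groth.Agent.Lib.IdealComap.ideal_comap D (𝟙 X) U₀.1 U₀.2 U hU' hUU₀
    rw [Scheme.IdealSheafData.comap_id] at this
    rw [this, hDU₀, Ideal.map_span, Set.image_singleton]
  have hs' : (pullback.snd f g) z ∈ g ⁻¹ᵁ V := by
    show g ((pullback.snd f g) z) ∈ V
    rw [← Scheme.Hom.comp_apply, ← pullback.condition, Scheme.Hom.comp_apply]
    exact hsV
  obtain ⟨_, ⟨V', hV', rfl⟩, hzV', hV'le⟩ :=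
    S'.isBasis_affineOpens.exists_subset_of_mem_open hs' (g ⁻¹ᵁ V).isOpen
  have hV'V : V' ≤ g ⁻¹ᵁ V := hV'le
  have hV'' : IsAffineOpen V' := hV'
  have hVa : IsAffineOpen V := hV
  have H : IsPullback (pullback.fst f g) (pullback.snd f g) f g := IsPullback.of_hasPullback f g
  have hW : IsAffineOpen ((pullback.fst f g) ⁻¹ᵁ U ⊓ (pullback.snd f g) ⁻¹ᵁ V') := by
    have : IsAffine (V : Scheme.{u}) := hVa
    have : IsAffine (V' : Scheme.{u}) := hV''
    have : IsAffine (U : Scheme.{u}) := hU'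
    exact .of_isIso (Scheme.Hom.isPullback_resLE H hV'V hUV rfl).isoPullback.hom
  have hzW : z ∈ (pullback.fst f g) ⁻¹ᵁ U ⊓ (pullback.snd f g) ⁻¹ᵁ V' := ⟨hxU, hzV'⟩
  have hWU : (pullback.fst f g) ⁻¹ᵁ U ⊓ (pullback.snd f g) ⁻¹ᵁ V' ≤ (pullback.fst f g) ⁻¹ᵁ U :=
    inf_le_left
  have hiso := isIso_pushoutSection_of_isAffineOpen H hV'V hUV rfl hVa hV'' hU'
  have hpo := (isIso_pushoutSection_iff H hV'V hUV rfl).mp hiso
  refine ⟨⟨_, hW⟩, hzW,
    ((pullback.fst f g).appLE U _ hWU).hom ((Scheme.Hom.appLE (𝟙 X) U₀.1 U hUU₀).hom a₀), ?_, ?_⟩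
  · refine nzd_of_isPushout hpo (D.subschemeι.app U) (D.subschemeι.app_surjective U hU') _ ha ?_ ?_
    · rw [← Scheme.Hom.ker_apply D.subschemeι ⟨U, hU⟩, Scheme.IdealSheafData.ker_subschemeι, hDU]
    · have hcomp : f.appLE V U hUV ≫ D.subschemeι.app U =
          (D.subschemeι ≫ f).appLE V (D.subschemeι ⁻¹ᵁ U)
            (by rw [Scheme.Hom.comp_preimage]; exact D.subschemeι.preimage_mono hUV) := by
        rw [Scheme.Hom.app_eq_appLE, Scheme.Hom.appLE_comp_appLE]
      rw [hcomp]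
      exact (D.subschemeι ≫ f).flat_appLE hVa (hU'.preimage D.subschemeι) _
  · rw [Groth.Agent.Lib.IdealComap.ideal_comap D (pullback.fst f g) U hU' _ hW hWU, hDU,
      Ideal.map_span, Set.image_singleton]

end Groth.Agent.S1662
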