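import Groth.Statements.S10797
import Groth.Agent.Lib.AlgSpStrongChart36
import Groth.Agent.Lib.H86CartierChart2
import Groth.Agent.S10791
import Groth.Agent.S1662

set_option autoImplicit false
universe u
open CategoryTheory CategoryTheory.Limits AlgebraicGeometry Topology TopologicalSpace
open AlgSp

namespace Groth.Agent.S10797

/-- Let f : X ⟶ Y be a morphism of algebraic spaces over a scheme S and D ⟶ X an effective Cartier
divisor (one-chart sense) such that the composite D ⟶ Y is flat. Then for every morphism g : Y' ⟶ Y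
and every pullback square exhibiting X' as Y' ×_Y X with projection g' : X' ⟶ X, the inverse image
of D under g' (the projection to X' from any pullback of D ⟶ X along g') is an effective Cartier
divisor on X'. (The published statement takes g to be a morphism from a scheme Y'; this row allows
Y' to be an algebraic space, to which the same etale-local reduction to schemes applies.) -/
theorem result {S : Scheme.{u}} (X Y D Y' X' D' : AlgSp.Space S)
    (f : X ⟶ Y) (i : D ⟶ X) (hD : AlgSp.IsEffCartierSub i.hom) (hflat : AlgSp.LocP @Flat (i ≫ f).hom)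
    (g : Y' ⟶ Y) (g' : X' ⟶ X) (f' : X' ⟶ Y') (hX' : IsPullback g'.hom f'.hom f.hom g.hom)
    (k : D' ⟶ D) (i' : D' ⟶ X') (hD' : IsPullback k.hom i'.hom i.hom g'.hom) :
    AlgSp.IsEffCartierSub i'.hom := by
  have hci : AlgSp.RepWith @IsClosedImmersion i.hom := hD.1
  have hci' : AlgSp.RepWith @IsClosedImmersion i'.hom :=
    (AlgSp.RepWith @IsClosedImmersion).of_isPullback hD' hci
  refine ⟨hci', ?_⟩
  obtain ⟨W, c, hc, hcs⟩ := Y.property.atlas
  obtain ⟨W', c', gW, hc', hc's, commW, -⟩ :=
    Groth.Agent.Lib.AlgSpFibreChart36.exists_global_chart Y'.property g.hom c hc hcs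
  obtain ⟨U, a, k₁, hU⟩ :=
    Groth.Agent.Lib.AlgSpStrongChart36.exists_strong_chart X.property f.hom c hc
  have ha := hU.repWith_etale hc
  obtain ⟨I, fstD, sqD⟩ := Groth.Agent.Lib.H86CartierChart2.exists_ideal_chart i.hom hci a
  have hI : BlowUp.IsEffCartierIdeal I :=
    (Groth.Agent.S10791.result X D i hci).1 hD U a ha I fstD sqD
  have hfstD : AlgSp.RepWith @Etale fstD :=
    Groth.Agent.Lib.AlgSpBasic.repWith_fst_of_isPullback _ sqD ha
  have commD : fstD ≫ (i ≫ f).hom =
      (AlgSp.yon S).map (Groth.Agent.Lib.H86CartierChart.subOverι U I ≫ k₁) ≫ c := by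
    change fstD ≫ i.hom ≫ f.hom = _
    rw [← Category.assoc, sqD.w, Category.assoc, hU.comm, Functor.map_comp, Category.assoc]
  have hflatD : Flat (I.subschemeι ≫ k₁.left) :=
    hflat fstD c (Groth.Agent.Lib.H86CartierChart.subOverι U I ≫ k₁) hfstD hc commD
  -- the base change of the chart
  let U' : Over S := Over.mk (pullback.fst k₁.left gW.left ≫ U.hom)
  let ιU : U' ⟶ U := Over.homMk (pullback.fst k₁.left gW.left) rfl
  have hτU : pullback.snd k₁.left gW.left ≫ W'.hom = U'.hom := by
    change _ = pullback.fst k₁.left gW.left ≫ U.hom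
    rw [← Over.w gW, ← Category.assoc, ← pullback.condition, Category.assoc, Over.w k₁]
  let τU : U' ⟶ W' := Over.homMk (pullback.snd k₁.left gW.left) hτU
  have hwU : ιU ≫ k₁ = τU ≫ gW := by
    ext
    exact pullback.condition
  let a' : (AlgSp.yon S).obj U' ⟶ X'.obj :=
    hX'.lift ((AlgSp.yon S).map ιU ≫ a) ((AlgSp.yon S).map τU ≫ c') (by
      rw [Category.assoc, hU.comm, Category.assoc, commW, ← Category.assoc, ← Category.assoc,
        ← Functor.map_comp, ← Functor.map_comp, hwU])
  have ha'1 : a' ≫ g'.hom = (AlgSp.yon S).map ιU ≫ a := hX'.lift_fst _ _ _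
  have ha'2 : a' ≫ f'.hom = (AlgSp.yon S).map τU ≫ c' := hX'.lift_snd _ _ _
  have hU' : Groth.Agent.Lib.AlgSpStrongChart36.IsStrongChart f'.hom a' c' τU :=
    hU.baseChange hX' c' gW commW ιU τU (IsPullback.of_hasPullback k₁.left gW.left) a' ha'1 ha'2
  have ha' := hU'.repWith_etale hc'
  have ha's := hU'.repWith_surjective hc's
  have hI' : BlowUp.IsEffCartierIdeal (I.comap ιU.left) :=
    Groth.Agent.S1662.result k₁.left I hI gW.left
  obtain ⟨ζ, sqζ⟩ := Groth.Agent.Lib.H86CartierChart.isPullback_yon_comap ιU I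
  have sqbig := sqζ.paste_horiz sqD
  rw [← ha'1] at sqbig
  let fst' : (AlgSp.yon S).obj (Groth.Agent.Lib.H86CartierChart.subOver U' (I.comap ιU.left)) ⟶ D'.obj :=
    hD'.lift ((AlgSp.yon S).map ζ ≫ fstD)
      ((AlgSp.yon S).map (Groth.Agent.Lib.H86CartierChart.subOverι U' (I.comap ιU.left)) ≫ a')
      (by rw [Category.assoc]; exact sqbig.w)
  have hfst'1 : fst' ≫ k.hom = (AlgSp.yon S).map ζ ≫ fstD := hD'.lift_fst _ _ _
  have hfst'2 : fst' ≫ i'.hom =
      (AlgSp.yon S).map (Groth.Agent.Lib.H86CartierChart.subOverι U' (I.comap ιU.left)) ≫ a' :=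
    hD'.lift_snd _ _ _
  have sqL : IsPullback fst'
      ((AlgSp.yon S).map (Groth.Agent.Lib.H86CartierChart.subOverι U' (I.comap ιU.left))) i'.hom a' :=
    IsPullback.of_right (by rw [hfst'1]; exact sqbig) hfst'2 hD'
  exact ⟨U', a', I.comap ιU.left, fst', ha', ha's, sqL, hI'⟩

end Groth.Agent.S10797
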