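import Groth.Statements.S10799
import Groth.Agent.Lib.AlgSpCartierSk36
import Groth.Agent.Lib.H14SerreNormal

set_option autoImplicit false
universe u
open CategoryTheory CategoryTheory.Limits AlgebraicGeometry Topology TopologicalSpace
open AlgSp

namespace Groth.Agent.S10799

/-- Let X be an algebraic space over a scheme S which is locally Noetherian and normal in the
etale-local sense: some etale surjective chart of X from a locally Noetherian scheme all of whose
local rings are integrally closed domains. Let D ⟶ X be an effective Cartier divisor (one-chart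
sense). Then D is (S_1): some etale surjective chart of D from a locally Noetherian scheme all of
whose local rings O satisfy min(1, dim O) ≤ depth O. -/
theorem result {S : Scheme.{u}} (X D : AlgSp.Space S)
    (hX : AlgSp.EtaleLocally (fun U => IsLocallyNoetherian U ∧ Pi1.IsNormalScheme U) X.obj)
    (i : D ⟶ X) (hD : AlgSp.IsEffCartierSub i.hom) :
    AlgSp.EtaleLocally (fun V => IsLocallyNoetherian V ∧ ∀ v : ↥V,
        min ((1 : ℕ) : WithBot ℕ∞) (ringKrullDim ↥(V.presheaf.stalk v)) ≤
          ((LocCoh.depth ↥(V.presheaf.stalk v) ↥(V.presheaf.stalk v) : ℕ∞) : WithBot ℕ∞)) D.obj := by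
  refine Groth.Agent.Lib.AlgSpCartierSk36.etaleLocally_of_isEffCartierSub ?_ X D hX i hD
  rintro U I ⟨hN, hnorm⟩ hI
  have : IsLocallyNoetherian U := hN
  refine ⟨LocallyOfFiniteType.isLocallyNoetherian I.subschemeι, fun d => ?_⟩
  have hS : ∀ x : ↥U, min ((2 : ℕ) : WithBot ℕ∞) (ringKrullDim (U.presheaf.stalk x)) ≤
      ((LocCoh.depth (U.presheaf.stalk x) (U.presheaf.stalk x) : ℕ∞) : WithBot ℕ∞) := by
    intro x
    obtain ⟨hdom, hic⟩ := hnorm x
    have h := Groth.Agent.Lib.H14SerreNormal.min_two_height_le_depth_of_normal (U.presheaf.stalk x)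
    rw [← IsLocalRing.maximalIdeal_height_eq_ringKrullDim]
    have h' : ((min (2 : ℕ∞) (IsLocalRing.maximalIdeal (U.presheaf.stalk x)).height : ℕ∞) :
        WithBot ℕ∞) ≤ ((LocCoh.depth (U.presheaf.stalk x) (U.presheaf.stalk x) : ℕ∞) : WithBot ℕ∞) :=
      WithBot.coe_le_coe.2 h
    rw [WithBot.coe_min] at h'
    exact h'
  exact Groth.Agent.S1685.result U 2 hS I hI d

end Groth.Agent.S10799
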