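import Groth.Statements.S10813
import Groth.Agent.S10791
import Groth.Agent.S10792
import Groth.Agent.Lib.H86CartierChart3
import Groth.Agent.Lib.H86CartierRing
import Groth.Agent.Lib.RelCartier

set_option linter.style.haveILetI false

set_option autoImplicit false
universe u
open CategoryTheory CategoryTheory.Limits AlgebraicGeometry Topology TopologicalSpace
open AlgSp

namespace Groth.Agent.S10813

set_option backward.isDefEq.respectTransparency false in
/-- The first factor of an effective Cartier divisor cut out by a product ideal is effective Cartier. -/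
theorem firstFactor {S : Scheme.{u}} (X Z D : AlgSp.Space S)
    (iZ : Z ⟶ X) (iD : D ⟶ X) (I J : AlgSp.IdealEt X.obj)
    (hZ : AlgSp.IsCutOutBy I iZ.hom) (hD : AlgSp.IsCutOutBy (I * J) iD.hom)
    (hDc : AlgSp.IsEffCartierSub iD.hom) : AlgSp.IsEffCartierSub iZ.hom := by
  obtain ⟨hiZ, rfl⟩ := hZ
  obtain ⟨hiD, hIeq⟩ := hD
  refine (Groth.Agent.S10792.result X Z iZ hiZ).2 ?_
  intro z
  obtain ⟨V, φ, hφe, hφs⟩ := X.property.atlas
  obtain ⟨v, hv⟩ := Groth.Agent.Lib.AlgSpQC.surjective_ofPt_of_repWith_surjective hφs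
    (Points.map iZ.hom z)
  obtain ⟨fstD, sqD⟩ := Groth.Agent.Lib.H86CartierChart3.isPullback_ker_chart iD.hom hiD φ
  have hJD : BlowUp.IsEffCartierIdeal (hiD.rep.snd φ).left.ker :=
    (Groth.Agent.S10791.result X D iD hiD).1 hDc V φ hφe _ fstD sqD
  obtain ⟨V₀, hvV₀, f₀, hf₀, hJDf₀⟩ := hJD v
  -- the first chart: the affine open `V₀`
  let U : Over S := Groth.Agent.Lib.AlgSpAtPt.opensOver V V₀.1
  let ι : U ⟶ V := Groth.Agent.Lib.AlgSpAtPt.opensOverι V V₀.1
  haveI hUaff : IsAffine U.left := V₀.2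
  have hae : RepWith @Etale ((yon S).map ι ≫ φ) :=
    (RepWith @Etale).comp_mem _ _ (Groth.Agent.Lib.AlgSpAtPt.repWith_etale_opensOverι V V₀.1) hφe
  haveI : Flat ι.left := inferInstanceAs (Flat V₀.1.ι)
  have hle := Groth.Agent.Lib.H86CartierChart3.top_le_preimage_opensOverι V V₀.1
  set ρ := (ι.left.appLE V₀.1 ⊤ hle).hom with hρ
  have hρflat : ρ.Flat := Flat.flat_appLE ι.left V₀.2 (isAffineOpen_top U.left) hle
  set E := EtOver.mk ((yon S).map ι ≫ φ) hae with hE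
  have hKD : (idealOfRep hiD.1).ideal E hUaff = Ideal.span {ρ f₀} := by
    rw [Groth.Agent.Lib.H86CartierChart3.idealOfRep_ideal_opensOver iD.hom hiD φ V₀ hae hUaff,
      hJDf₀, Ideal.map_span, Set.image_singleton]
  have hmul : (idealOfRep hiZ.1).ideal E hUaff * J.ideal E hUaff = Ideal.span {ρ f₀} := by
    rw [← hKD, hIeq, IdealEt.mul_ideal]
  have nzf : ρ f₀ ∈ nonZeroDivisors Γ(U.left, ⊤) :=
    Groth.Agent.Lib.RelCartier.map_mem_nonZeroDivisors_of_flat _ hρflat f₀ hf₀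
  -- the prime of the point
  let u : ↥U.left := ⟨v, hvV₀⟩
  set germ := (U.left.presheaf.germ ⊤ u trivial).hom with hgerm
  set q : Ideal Γ(U.left, ⊤) :=
    Ideal.comap germ (IsLocalRing.maximalIdeal (U.left.presheaf.stalk u)) with hq
  have hq1 : (1 : Γ(U.left, ⊤)) ∉ q := by
    rw [hq, Ideal.mem_comap, map_one]
    exact fun h => (IsLocalRing.maximalIdeal.isMaximal _).ne_top ((Ideal.eq_top_iff_one _).2 h)
  obtain ⟨a₀, ha₀, b₀, hb₀, s, hsq, hab⟩ :=
    Groth.Agent.Lib.H86CartierRing.exists_of_mul_eq_span _ _ _ nzf hmul q hq1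
  have hus : u ∈ U.left.basicOpen s := by
    refine (U.left.mem_basicOpen s u trivial).2 ?_
    by_contra h
    exact hsq (by rw [hq, Ideal.mem_comap]; exact (IsLocalRing.mem_maximalIdeal _).2 h)
  -- the second chart: the basic open of `s`
  let U₀ : U.left.affineOpens := ⟨U.left.basicOpen s, (isAffineOpen_top U.left).basicOpen s⟩
  let U' : Over S := Groth.Agent.Lib.AlgSpAtPt.opensOver U U₀.1
  let ι' : U' ⟶ U := Groth.Agent.Lib.AlgSpAtPt.opensOverι U U₀.1
  haveI hU'aff : IsAffine U'.left := U₀.2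
  have hae' : RepWith @Etale ((yon S).map ι' ≫ ((yon S).map ι ≫ φ)) :=
    (RepWith @Etale).comp_mem _ _ (Groth.Agent.Lib.AlgSpAtPt.repWith_etale_opensOverι U U₀.1) hae
  haveI : Flat ι'.left := inferInstanceAs (Flat U₀.1.ι)
  have hle' := Groth.Agent.Lib.H86CartierChart3.top_le_preimage_opensOverι U U₀.1
  set ρ' := (ι'.left.appLE U₀.1 ⊤ hle').hom with hρ'
  have hρ'flat : ρ'.Flat := Flat.flat_appLE ι'.left U₀.2 (isAffineOpen_top U'.left) hle'
  have hU₀le : U₀.1 ≤ (⊤ : U.left.Opens) := le_top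
  set res := (U.left.presheaf.map (homOfLE hU₀le).op).hom with hres
  have hresflat : res.Flat :=
    Groth.Agent.Lib.RelCartier.flat_res U₀.2 (isAffineOpen_top U.left) hU₀le
  have hKZ' : (idealOfRep hiZ.1).ideal (EtOver.mk ((yon S).map ι' ≫ ((yon S).map ι ≫ φ)) hae')
      hU'aff = Ideal.map (ρ'.comp res) ((idealOfRep hiZ.1).ideal E hUaff) := by
    rw [Groth.Agent.Lib.H86CartierChart3.idealOfRep_ideal_opensOver iZ.hom hiZ
      ((yon S).map ι ≫ φ) U₀ hae' hU'aff, ← Ideal.map_map]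
    congr 1
    have hle'' : U₀ ≤ (⟨⊤, isAffineOpen_top U.left⟩ : U.left.affineOpens) := hU₀le
    rw [Groth.Agent.Lib.H86CartierChart3.idealOfRep_ideal iZ.hom hiZ E hUaff]
    exact (((hiZ.rep.snd ((yon S).map ι ≫ φ)).left.ker).map_ideal hle'').symm
  have nzf' : (ρ'.comp res) (ρ f₀) ∈ nonZeroDivisors Γ(U'.left, ⊤) :=
    Groth.Agent.Lib.RelCartier.map_mem_nonZeroDivisors_of_flat _ hρ'flat _
      (Groth.Agent.Lib.RelCartier.map_mem_nonZeroDivisors_of_flat _ hresflat _ nzf)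
  have hsunit : IsUnit ((ρ'.comp res) s) :=
    (U.left.toRingedSpace.isUnit_res_basicOpen s).map ρ'
  obtain ⟨hfin1, hfin2⟩ := Groth.Agent.Lib.H86CartierRing.map_eq_span_of_mul_eq_span (ρ'.comp res)
    _ _ (ρ f₀) a₀ b₀ s hmul ha₀ hb₀ hab nzf' hsunit
  obtain ⟨fstL, sqL⟩ := Groth.Agent.Lib.H86CartierChart3.isPullback_ker_chart iZ.hom hiZ
    ((yon S).map ι' ≫ ((yon S).map ι ≫ φ))
  have hL : ((hiZ.rep.snd ((yon S).map ι' ≫ ((yon S).map ι ≫ φ))).left.ker).ideal
      ⟨⊤, isAffineOpen_top U'.left⟩ = Ideal.span {(ρ'.comp res) a₀} := by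
    rw [← hfin1, ← hKZ']
    exact (Groth.Agent.Lib.H86CartierChart3.idealOfRep_ideal iZ.hom hiZ
      (EtOver.mk ((yon S).map ι' ≫ ((yon S).map ι ≫ φ)) hae') hU'aff).symm
  refine ⟨U', hU'aff, (yon S).map ι' ≫ ((yon S).map ι ≫ φ), ⟨u, hus⟩, (ρ'.comp res) a₀, _, fstL,
    hae', ?_, hfin2, hL, sqL⟩
  rw [Groth.Agent.Lib.H86AlgSpPoints.ofPt_map_comp, Groth.Agent.Lib.H86AlgSpPoints.ofPt_map_comp]
  exact hv

/-- Let X be an algebraic space over a scheme S, let Z ⟶ X and Y ⟶ X be closed subspaces cut out by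
quasi-coherent sheaves of ideals I and J, and let D ⟶ X be the closed subspace which the product I·J
cuts out. If D is an effective Cartier divisor (one-chart sense), then so are Z and Y, and D is
their sum. -/
theorem result {S : Scheme.{u}} (X Z Y D : AlgSp.Space S)
    (iZ : Z ⟶ X) (iY : Y ⟶ X) (iD : D ⟶ X) (I J : AlgSp.IdealEt X.obj) (hI : I.IsQCoh) (hJ : J.IsQCoh)
    (hZ : AlgSp.IsCutOutBy I iZ.hom) (hY : AlgSp.IsCutOutBy J iY.hom) (hD : AlgSp.IsCutOutBy (I * J) iD.hom)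
    (hDc : AlgSp.IsEffCartierSub iD.hom) :
    AlgSp.IsEffCartierSub iZ.hom ∧ AlgSp.IsEffCartierSub iY.hom := by
  refine ⟨firstFactor X Z D iZ iD I J hZ hD hDc, firstFactor X Y D iY iD J I hY ?_ hDc⟩
  have hcomm : J * I = I * J := by
    ext E hE : 3
    exact mul_comm _ _
  rw [hcomm]
  exact hD

end Groth.Agent.S10813
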