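import Groth.Statements.S10814
import Groth.Agent.S10791
import Groth.Agent.S10792
import Groth.Agent.Lib.H86CartierChart3
import Groth.Agent.Lib.RelCartier

set_option linter.style.haveILetI false

set_option autoImplicit false
universe u
open CategoryTheory CategoryTheory.Limits AlgebraicGeometry Topology TopologicalSpace
open AlgSp

namespace Groth.Agent.S10814

set_option backward.isDefEq.respectTransparency false in
/-- Let X be an algebraic space over a scheme S and D₁, D₂ ⟶ X effective Cartier divisors (one-chart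
sense) with quasi-coherent ideal sheaves I₁, I₂ on the small etale site. Then their sum, the closed
subspace D ⟶ X cut out by the product ideal I₁·I₂, is an effective Cartier divisor. -/
theorem result {S : Scheme.{u}} (X D₁ D₂ D : AlgSp.Space S)
    (i₁ : D₁ ⟶ X) (i₂ : D₂ ⟶ X) (i : D ⟶ X) (I₁ I₂ : AlgSp.IdealEt X.obj) (hI₁ : I₁.IsQCoh) (hI₂ : I₂.IsQCoh)
    (h₁ : AlgSp.IsCutOutBy I₁ i₁.hom) (h₂ : AlgSp.IsCutOutBy I₂ i₂.hom) (hD : AlgSp.IsCutOutBy (I₁ * I₂) i.hom)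
    (e₁ : AlgSp.IsEffCartierSub i₁.hom) (e₂ : AlgSp.IsEffCartierSub i₂.hom) :
    AlgSp.IsEffCartierSub i.hom := by
  obtain ⟨hi₁, rfl⟩ := h₁
  obtain ⟨hi₂, rfl⟩ := h₂
  obtain ⟨hi, hIeq⟩ := hD
  refine (Groth.Agent.S10792.result X D i hi).2 ?_
  intro x
  obtain ⟨V, φ, hφe, hφs⟩ := X.property.atlas
  obtain ⟨v, hv⟩ := Groth.Agent.Lib.AlgSpQC.surjective_ofPt_of_repWith_surjective hφs
    (Points.map i.hom x)
  obtain ⟨fst₁, sq₁⟩ := Groth.Agent.Lib.H86CartierChart3.isPullback_ker_chart i₁.hom hi₁ φ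
  obtain ⟨fst₂, sq₂⟩ := Groth.Agent.Lib.H86CartierChart3.isPullback_ker_chart i₂.hom hi₂ φ
  have hJ₁ : BlowUp.IsEffCartierIdeal (hi₁.rep.snd φ).left.ker :=
    (Groth.Agent.S10791.result X D₁ i₁ hi₁).1 e₁ V φ hφe _ fst₁ sq₁
  have hJ₂ : BlowUp.IsEffCartierIdeal (hi₂.rep.snd φ).left.ker :=
    (Groth.Agent.S10791.result X D₂ i₂ hi₂).1 e₂ V φ hφe _ fst₂ sq₂
  obtain ⟨T, V₀, -, b₁, b₂, hvV₀, hb₁, hb₂, hJb₁, hJb₂⟩ :=
    Groth.Agent.Lib.RelCartier.exists_local_data (𝟙 V.left) _ _ hJ₁ hJ₂ v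
  let U : Over S := Groth.Agent.Lib.AlgSpAtPt.opensOver V V₀.1
  let ι : U ⟶ V := Groth.Agent.Lib.AlgSpAtPt.opensOverι V V₀.1
  haveI hUaff : IsAffine U.left := V₀.2
  have hae : RepWith @Etale ((yon S).map ι ≫ φ) :=
    (RepWith @Etale).comp_mem _ _ (Groth.Agent.Lib.AlgSpAtPt.repWith_etale_opensOverι V V₀.1) hφe
  haveI : Flat ι.left := inferInstanceAs (Flat V₀.1.ι)
  have hle := Groth.Agent.Lib.H86CartierChart3.top_le_preimage_opensOverι V V₀.1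
  set ρ := (ι.left.appLE V₀.1 ⊤ hle).hom with hρ
  have hρflat : ρ.Flat := Flat.flat_appLE ι.left V₀.2 (isAffineOpen_top U.left) hle
  have hK₁ : (idealOfRep hi₁.1).ideal (EtOver.mk ((yon S).map ι ≫ φ) hae) hUaff =
      Ideal.span {ρ b₁} := by
    rw [Groth.Agent.Lib.H86CartierChart3.idealOfRep_ideal_opensOver i₁.hom hi₁ φ V₀ hae hUaff,
      hJb₁, Ideal.map_span, Set.image_singleton]
  have hK₂ : (idealOfRep hi₂.1).ideal (EtOver.mk ((yon S).map ι ≫ φ) hae) hUaff =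
      Ideal.span {ρ b₂} := by
    rw [Groth.Agent.Lib.H86CartierChart3.idealOfRep_ideal_opensOver i₂.hom hi₂ φ V₀ hae hUaff,
      hJb₂, Ideal.map_span, Set.image_singleton]
  have hK : (idealOfRep hi.1).ideal (EtOver.mk ((yon S).map ι ≫ φ) hae) hUaff =
      Ideal.span {ρ b₁ * ρ b₂} := by
    rw [hIeq, IdealEt.mul_ideal, hK₁, hK₂, Ideal.span_singleton_mul_span_singleton]
  obtain ⟨fstL, sqL⟩ := Groth.Agent.Lib.H86CartierChart3.isPullback_ker_chart i.hom hi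
    ((yon S).map ι ≫ φ)
  have hL : ((hi.rep.snd ((yon S).map ι ≫ φ)).left.ker).ideal ⟨⊤, isAffineOpen_top U.left⟩ =
      Ideal.span {ρ b₁ * ρ b₂} := by
    rw [← hK]
    exact (Groth.Agent.Lib.H86CartierChart3.idealOfRep_ideal i.hom hi
      (EtOver.mk ((yon S).map ι ≫ φ) hae) hUaff).symm
  have nz1 : ρ b₁ ∈ nonZeroDivisors Γ(U.left, ⊤) :=
    Groth.Agent.Lib.RelCartier.map_mem_nonZeroDivisors_of_flat _ hρflat b₁ hb₁
  have nz2 : ρ b₂ ∈ nonZeroDivisors Γ(U.left, ⊤) :=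
    Groth.Agent.Lib.RelCartier.map_mem_nonZeroDivisors_of_flat _ hρflat b₂ hb₂
  refine ⟨U, hUaff, (yon S).map ι ≫ φ, ⟨v, hvV₀⟩, ρ b₁ * ρ b₂, _, fstL, hae, ?_,
    mul_mem nz1 nz2, hL, sqL⟩
  rw [Groth.Agent.Lib.H86AlgSpPoints.ofPt_map_comp]
  exact hv

end Groth.Agent.S10814
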