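import Groth.Statements.S10820
import Groth.Agent.Lib.H8ProjHeight

set_option autoImplicit false
universe u
open AlgebraicGeometry Topology TopologicalSpace
open Variety

namespace Groth.Agent.S10820

/-- For a field k, n ≥ 2 and a nonzero homogeneous polynomial f of degree d ≥ 1 in n + 1 variables, the
hypersurface V_+(f) in projective n-space over k (as a subspace of Proj of the polynomial ring
graded by degree) is connected and nonempty. -/
theorem result (k : Type u) [Field k] (n d : ℕ) (hn : 2 ≤ n)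
    (f : MvPolynomial (Fin (n + 1)) k) (hf : f.IsHomogeneous d) (hd : 0 < d) (hf0 : f ≠ 0) :
    IsConnected (ProjectiveSpectrum.zeroLocus (CohB1.polyGrading n k)
      ({f} : Set (MvPolynomial (Fin (n + 1)) k))) := by
  classical
  have h0 := Groth.Agent.Lib.H8ProjPoly.h0 n k
  haveI hmax := Groth.Agent.Lib.H8GradedFT.irrelevant_isMaximal (CohB1.polyGrading n k) h0
  haveI hmp : (HomogeneousIdeal.irrelevant (CohB1.polyGrading n k)).toIdeal.IsPrime := hmax.isPrime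
  haveI hbotp : (⊥ : Ideal (MvPolynomial (Fin (n + 1)) k)).IsPrime := Ideal.isPrime_bot
  have hf𝔪 : f ∈ (HomogeneousIdeal.irrelevant (CohB1.polyGrading n k)).toIdeal := by
    change _ ∈ HomogeneousIdeal.irrelevant (CohB1.polyGrading n k)
    rw [HomogeneousIdeal.mem_irrelevant_iff, GradedRing.proj_apply]
    rw [DirectSum.decompose_of_mem_ne (CohB1.polyGrading n k)
      (hf : _ ∈ CohB1.polyGrading n k d) hd.ne']
  have hdimA : ringKrullDim (MvPolynomial (Fin (n + 1)) k ⧸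
      (⊥ : Ideal (MvPolynomial (Fin (n + 1)) k))) = ((n + 1 : ℕ) : WithBot ℕ∞) := by
    rw [ringKrullDim_eq_of_ringEquiv (RingEquiv.quotientBot _),
      Groth.Agent.Lib.FTDim.ringKrullDim_mvPolynomial]
  have hJ : (Ideal.span {f}).IsHomogeneous (CohB1.polyGrading n k) := by
    refine Ideal.homogeneous_span _ {f} ?_
    intro z hz
    rw [Set.mem_singleton_iff] at hz
    exact hz ▸ ⟨d, hf⟩
  have hJ𝔪 : Ideal.span {f} ≤ (HomogeneousIdeal.irrelevant (CohB1.polyGrading n k)).toIdeal :=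
    (Ideal.span_singleton_le_iff_mem _).mpr hf𝔪
  -- every minimal prime of `(f)` is homogeneous with quotient of dimension `n`
  have key : ∀ Q ∈ (Ideal.span {f}).minimalPrimes, Q.IsHomogeneous (CohB1.polyGrading n k) ∧
      ringKrullDim (MvPolynomial (Fin (n + 1)) k ⧸ Q) = ((n : ℕ) : WithBot ℕ∞) := by
    intro Q hQ
    haveI : Q.IsPrime := hQ.1.1
    refine ⟨Groth.Agent.Lib.H8DoubleLink.isHomogeneous_of_mem_minimalPrimes hJ hQ, ?_⟩
    have hQ' : Q ∈ ((⊥ : Ideal (MvPolynomial (Fin (n + 1)) k)) ⊔ Ideal.span {f}).minimalPrimes := by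
      rwa [bot_sup_eq]
    have hdim := Groth.Agent.Lib.H8ProjDim.ringKrullDim_quotient_add_one_of_mem_minimalPrimes k
      f (by simpa using hf0) hQ'
    obtain ⟨q, hq⟩ := Groth.Agent.Lib.H8ProjDim.exists_dim_eq (CohB1.polyGrading n k) h0 Q
    rw [hq, hdimA] at hdim
    have : ((q + 1 : ℕ) : WithBot ℕ∞) = ((n + 1 : ℕ) : WithBot ℕ∞) := by
      push_cast; push_cast at hdim; exact hdim
    have := Nat.cast_injective (R := WithBot ℕ∞) this
    have hqn : q = n := by omega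
    rw [hq, hqn]
  -- points from homogeneous primes with positive-dimensional quotient
  have mkpt : ∀ (Q : Ideal (MvPolynomial (Fin (n + 1)) k)) (q : ℕ), Q.IsPrime →
      Q.IsHomogeneous (CohB1.polyGrading n k) →
      ringKrullDim (MvPolynomial (Fin (n + 1)) k ⧸ Q) = ((q : ℕ) : WithBot ℕ∞) → 1 ≤ q →
      ∃ y : ProjectiveSpectrum (CohB1.polyGrading n k), y.asHomogeneousIdeal.toIdeal = Q := by
    intro Q q hQp hQh hq hq1
    haveI := hQp
    have hne : ringKrullDim (MvPolynomial (Fin (n + 1)) k ⧸ Q) ≠ 0 := by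
      rw [hq]
      intro h
      have : ((q : ℕ) : WithBot ℕ∞) = ((0 : ℕ) : WithBot ℕ∞) := by exact_mod_cast h
      have := Nat.cast_injective (R := WithBot ℕ∞) this
      omega
    have hrel := Groth.Agent.Lib.H8ProjDim.not_irrelevant_le_of_dim_ne_zero _ h0 hQh hne
    exact ⟨Groth.Agent.Lib.H8ProjDim.mkPoint _ Q hQp hQh hrel, rfl⟩
  have hpt : ∀ Q : ↥(Ideal.span {f}).minimalPrimes,
      ∃ y : ProjectiveSpectrum (CohB1.polyGrading n k), y.asHomogeneousIdeal.toIdeal = Q.1 :=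
    fun Q => mkpt Q.1 n Q.2.1.1 (key Q.1 Q.2).1 (key Q.1 Q.2).2 (by omega)
  choose pt hpt using hpt
  have hU : ProjectiveSpectrum.zeroLocus (CohB1.polyGrading n k)
      ({f} : Set (MvPolynomial (Fin (n + 1)) k)) = ⋃ Q, Set.Ici (pt Q) := by
    ext y
    rw [ProjectiveSpectrum.mem_zeroLocus, Set.singleton_subset_iff, Set.mem_iUnion]
    constructor
    · intro hy
      have hle : Ideal.span {f} ≤ y.asHomogeneousIdeal.toIdeal :=
        (Ideal.span_singleton_le_iff_mem _).mpr hy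
      obtain ⟨Q, hQmin, hQy⟩ := Ideal.exists_minimalPrimes_le hle
      refine ⟨⟨Q, hQmin⟩, ?_⟩
      rw [Set.mem_Ici, Groth.Agent.Lib.H8ProjDim.le_iff_toIdeal_le, hpt]
      exact hQy
    · rintro ⟨Q, hQ⟩
      rw [Set.mem_Ici, Groth.Agent.Lib.H8ProjDim.le_iff_toIdeal_le, hpt] at hQ
      exact hQ (Q.2.1.2 (Ideal.mem_span_singleton_self f))
  rw [hU]
  have hne : (Ideal.span {f}) ≠ ⊤ := fun h => hmp.ne_top (top_le_iff.mp (h ▸ hJ𝔪))
  obtain ⟨Q0, hQ0⟩ := Ideal.nonempty_minimalPrimes hne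
  refine ⟨⟨pt ⟨Q0, hQ0⟩, Set.mem_iUnion.mpr ⟨⟨Q0, hQ0⟩, Set.mem_Ici.mpr le_rfl⟩⟩, ?_⟩
  refine IsPreconnected.iUnion_of_reflTransGen
    (fun Q => (Groth.Agent.Lib.H8ProjDim.isIrreducible_Ici _ _).isPreirreducible.isPreconnected)
    (fun Q₁ Q₂ => Relation.ReflTransGen.single ?_)
  -- two components meet
  obtain ⟨Q₁, hQ₁⟩ := Q₁
  obtain ⟨Q₂, hQ₂⟩ := Q₂
  haveI hQ₁p : Q₁.IsPrime := hQ₁.1.1
  haveI hQ₂p : Q₂.IsPrime := hQ₂.1.1
  have hQ₂ht : Q₂.height = 1 := by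
    refine le_antisymm
      (Ideal.height_le_one_of_isPrincipal_of_mem_minimalPrimes (Ideal.span {f}) Q₂ hQ₂) ?_
    rw [ENat.one_le_iff_ne_zero, Ne, Ideal.height_eq_zero_iff_eq_bot]
    intro hbot
    have : f ∈ Q₂ := hQ₂.1.2 (Ideal.mem_span_singleton_self f)
    rw [hbot, Ideal.mem_bot] at this
    exact hf0 this
  have hne₂ : Q₂ ≠ ⊥ := Ideal.ne_bot_of_height_eq_one hQ₂ht
  obtain ⟨g, hgQ, hg⟩ := Ideal.IsPrime.exists_mem_prime_of_ne_bot hQ₂p hne₂
  have hQ₂g : Q₂ = Ideal.span {g} := Ideal.eq_span_singleton_of_height_eq_one hQ₂ht hgQ hg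
  have hQ₁𝔪 : Q₁ ≤ (HomogeneousIdeal.irrelevant (CohB1.polyGrading n k)).toIdeal :=
    Groth.Agent.Lib.H8GradedFT.le_irrelevant _ h0 (key Q₁ hQ₁).1 hQ₁p.ne_top
  have hQ₂𝔪 : Q₂ ≤ (HomogeneousIdeal.irrelevant (CohB1.polyGrading n k)).toIdeal :=
    Groth.Agent.Lib.H8GradedFT.le_irrelevant _ h0 (key Q₂ hQ₂).1 hQ₂p.ne_top
  have hcoe : ((({g} : Finset (MvPolynomial (Fin (n + 1)) k)) :
      Set (MvPolynomial (Fin (n + 1)) k))) = {g} := Finset.coe_singleton g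
  have hJ' : (Q₁ ⊔ Ideal.span ((({g} : Finset (MvPolynomial (Fin (n + 1)) k)) :
      Set (MvPolynomial (Fin (n + 1)) k)))).IsHomogeneous (CohB1.polyGrading n k) := by
    rw [hcoe, ← hQ₂g]
    exact (key Q₁ hQ₁).1.sup (key Q₂ hQ₂).1
  have hJ'𝔪 : Q₁ ⊔ Ideal.span ((({g} : Finset (MvPolynomial (Fin (n + 1)) k)) :
      Set (MvPolynomial (Fin (n + 1)) k))) ≤
      (HomogeneousIdeal.irrelevant (CohB1.polyGrading n k)).toIdeal := by
    rw [hcoe, ← hQ₂g]
    exact sup_le hQ₁𝔪 hQ₂𝔪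
  obtain ⟨Q, hQmin, hQ𝔪⟩ := Ideal.exists_minimalPrimes_le hJ'𝔪
  haveI hQp : Q.IsPrime := hQmin.1.1
  have hQh : Q.IsHomogeneous (CohB1.polyGrading n k) :=
    Groth.Agent.Lib.H8DoubleLink.isHomogeneous_of_mem_minimalPrimes hJ' hQmin
  have hdim := Groth.Agent.Lib.H8ProjDim.ringKrullDim_quotient_le_add_card k
    ({g} : Finset (MvPolynomial (Fin (n + 1)) k)) hQmin
  obtain ⟨q, hq⟩ := Groth.Agent.Lib.H8ProjDim.exists_dim_eq (CohB1.polyGrading n k) h0 Q
  rw [hq, (key Q₁ hQ₁).2, Finset.card_singleton] at hdim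
  have h1 : n ≤ q + 1 := by
    have : ((n : ℕ) : WithBot ℕ∞) ≤ ((q + 1 : ℕ) : WithBot ℕ∞) := by
      push_cast; push_cast at hdim; exact hdim
    exact_mod_cast this
  obtain ⟨y, hy⟩ := mkpt Q q hQp hQh hq (by omega)
  refine ⟨y, ?_, ?_⟩
  · rw [Set.mem_Ici, Groth.Agent.Lib.H8ProjDim.le_iff_toIdeal_le, hpt, hy]
    exact le_sup_left.trans hQmin.1.2
  · rw [Set.mem_Ici, Groth.Agent.Lib.H8ProjDim.le_iff_toIdeal_le, hpt, hy]
    change Q₂ ≤ Q
    rw [hQ₂g, ← hcoe]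
    exact le_sup_right.trans hQmin.1.2

end Groth.Agent.S10820
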