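import Groth.Statements.S10821
import Groth.Agent.Lib.H8ProjHeight

set_option autoImplicit false
universe u
open AlgebraicGeometry Topology TopologicalSpace
open Variety

namespace Groth.Agent.S10821

/-- For a field k and an irreducible closed subset Z of projective n-space over k, Z has codimension 1
(the longest chain of irreducible closed subsets strictly above Z has length 1) if and only if Z is
the zero set V_+(f) of an irreducible homogeneous polynomial f in n + 1 variables. -/
theorem result (k : Type u) [Field k] (n : ℕ)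
    (Z : TopologicalSpace.IrreducibleCloseds (ProjectiveSpectrum (CohB1.polyGrading n k))) :
    Order.coheight Z = 1 ↔
      ∃ (d : ℕ) (f : MvPolynomial (Fin (n + 1)) k), f.IsHomogeneous d ∧ Irreducible f ∧
        (Z : Set (ProjectiveSpectrum (CohB1.polyGrading n k))) =
          ProjectiveSpectrum.zeroLocus (CohB1.polyGrading n k) ({f} : Set (MvPolynomial (Fin (n + 1)) k)) := by
  classical
  have h0 := Groth.Agent.Lib.H8ProjPoly.h0 n k
  obtain ⟨x, hZx⟩ := Groth.Agent.Lib.H8ProjDim.exists_eq_Ici (CohB1.polyGrading n k)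
    Z.isClosed' Z.isIrreducible'
  have hZx' : (Z : Set (ProjectiveSpectrum (CohB1.polyGrading n k))) = Set.Ici x := hZx
  rw [Groth.Agent.Lib.H8ProjHeight.coheight_eq_height (CohB1.polyGrading n k) Z x hZx', hZx']
  have hbot := Groth.Agent.Lib.H8ProjPoly.botPt_le n k
  have hzl : ∀ (g : MvPolynomial (Fin (n + 1)) k), x.asHomogeneousIdeal.toIdeal = Ideal.span {g} →
      Set.Ici x = ProjectiveSpectrum.zeroLocus (CohB1.polyGrading n k)
        ({g} : Set (MvPolynomial (Fin (n + 1)) k)) := by
    intro g hg
    ext y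
    rw [ProjectiveSpectrum.mem_zeroLocus, Set.singleton_subset_iff, Set.mem_Ici,
      Groth.Agent.Lib.H8ProjDim.le_iff_toIdeal_le, hg, Ideal.span_singleton_le_iff_mem]
    rfl
  constructor
  · intro h
    have hPne : x.asHomogeneousIdeal.toIdeal ≠ ⊥ := by
      intro hP
      have hmin : IsMin x := by
        intro y _
        rw [Groth.Agent.Lib.H8ProjDim.le_iff_toIdeal_le, hP]
        exact bot_le
      rw [Order.height_eq_zero.mpr hmin] at h
      exact zero_ne_one h
    obtain ⟨a, haP, ha0⟩ := Submodule.exists_mem_ne_zero_of_ne_bot hPne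
    have hex : ∃ i, (DirectSum.decompose (CohB1.polyGrading n k) a i :
        MvPolynomial (Fin (n + 1)) k) ≠ 0 := by
      by_contra hcon
      push_neg at hcon
      apply ha0
      rw [← DirectSum.sum_support_decompose (CohB1.polyGrading n k) a]
      exact Finset.sum_eq_zero fun i _ => hcon i
    obtain ⟨i, hi⟩ := hex
    set g : MvPolynomial (Fin (n + 1)) k :=
      (DirectSum.decompose (CohB1.polyGrading n k) a i : MvPolynomial (Fin (n + 1)) k) with hg
    have hgP : g ∈ x.asHomogeneousIdeal.toIdeal := x.asHomogeneousIdeal.isHomogeneous i haP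
    have hgh : SetLike.IsHomogeneousElem (CohB1.polyGrading n k) g :=
      ⟨i, (DirectSum.decompose (CohB1.polyGrading n k) a i).2⟩
    have hJ : (Ideal.span {g}).IsHomogeneous (CohB1.polyGrading n k) := by
      refine Ideal.homogeneous_span _ {g} ?_
      intro z hz
      rw [Set.mem_singleton_iff] at hz
      exact hz ▸ hgh
    have hJP : Ideal.span {g} ≤ x.asHomogeneousIdeal.toIdeal :=
      (Ideal.span_singleton_le_iff_mem _).mpr hgP
    obtain ⟨Q, hQmin, hQP⟩ := Ideal.exists_minimalPrimes_le hJP
    haveI hQp : Q.IsPrime := hQmin.1.1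
    have hQh : Q.IsHomogeneous (CohB1.polyGrading n k) :=
      Groth.Agent.Lib.H8DoubleLink.isHomogeneous_of_mem_minimalPrimes hJ hQmin
    have hQrel : ¬ (HomogeneousIdeal.irrelevant (CohB1.polyGrading n k)).toIdeal ≤ Q := fun hle =>
      x.not_irrelevant_le (fun b hb => hQP (hle hb))
    set z := Groth.Agent.Lib.H8ProjDim.mkPoint (CohB1.polyGrading n k) Q hQp hQh hQrel with hz
    have hzx : z ≤ x := hQP
    have hgQ : g ∈ Q := hQmin.1.2 (Ideal.mem_span_singleton_self g)
    have hbz : Groth.Agent.Lib.H8ProjPoly.botPt n k < z := by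
      refine lt_of_le_of_ne (hbot z) ?_
      intro heq
      have : z.asHomogeneousIdeal.toIdeal = ⊥ := by rw [← heq]; rfl
      have hQbot : Q = ⊥ := this
      rw [hQbot, Submodule.mem_bot] at hgQ
      exact hi hgQ
    have hzeq : z = x := by
      by_contra hne
      have hlt : z < x := lt_of_le_of_ne hzx hne
      have h1 := Order.height_add_one_le hbz
      have h2 := Order.height_add_one_le hlt
      rw [h] at h2
      have h3 : (1 : ℕ∞) ≤ Order.height z := le_trans (by simp) h1
      have h4 : (1 : ℕ∞) + 1 ≤ 1 := le_trans (by gcongr) h2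
      exact absurd h4 (by decide)
    have hPQ : x.asHomogeneousIdeal.toIdeal = Q := by rw [← hzeq]; rfl
    have hht1 : x.asHomogeneousIdeal.toIdeal.height ≤ 1 := by
      rw [hPQ]
      exact Ideal.height_le_one_of_isPrincipal_of_mem_minimalPrimes (Ideal.span {g}) Q hQmin
    have hht2 : (1 : ℕ∞) ≤ x.asHomogeneousIdeal.toIdeal.height := by
      rw [← h]
      exact Groth.Agent.Lib.H8ProjHeight.height_le_height (CohB1.polyGrading n k) x
    obtain ⟨d, g', hg'h, hg'p, hPg'⟩ :=
      Groth.Agent.Lib.H8ProjHeight.exists_homogeneous_generator n k x.asHomogeneousIdeal.toIdeal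
        x.asHomogeneousIdeal.isHomogeneous (le_antisymm hht1 hht2)
    exact ⟨d, g', hg'h, hg'p.irreducible, hzl g' hPg'⟩
  · rintro ⟨d, f, hf, hirr, hZf⟩
    have hprime : Prime f := hirr.prime
    have hf0 : f ≠ 0 := hprime.ne_zero
    haveI hQp : (Ideal.span {f}).IsPrime := (Ideal.span_singleton_prime hf0).mpr hprime
    have hfx : f ∈ x.asHomogeneousIdeal.toIdeal := by
      have : x ∈ Set.Ici x := Set.mem_Ici.mpr le_rfl
      rw [hZf, ProjectiveSpectrum.mem_zeroLocus, Set.singleton_subset_iff] at this
      exact this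
    have hJ : (Ideal.span {f}).IsHomogeneous (CohB1.polyGrading n k) := by
      refine Ideal.homogeneous_span _ {f} ?_
      intro z hz
      rw [Set.mem_singleton_iff] at hz
      exact hz ▸ ⟨d, hf⟩
    have hJP : Ideal.span {f} ≤ x.asHomogeneousIdeal.toIdeal :=
      (Ideal.span_singleton_le_iff_mem _).mpr hfx
    have hrel : ¬ (HomogeneousIdeal.irrelevant (CohB1.polyGrading n k)).toIdeal ≤ Ideal.span {f} :=
      fun hle => x.not_irrelevant_le (fun b hb => hJP (hle hb))
    set y := Groth.Agent.Lib.H8ProjDim.mkPoint (CohB1.polyGrading n k) _ hQp hJ hrel with hy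
    have hyx : y ≤ x := hJP
    have hxy : x ≤ y := by
      have : y ∈ ProjectiveSpectrum.zeroLocus (CohB1.polyGrading n k)
          ({f} : Set (MvPolynomial (Fin (n + 1)) k)) := by
        rw [ProjectiveSpectrum.mem_zeroLocus, Set.singleton_subset_iff]
        exact Ideal.mem_span_singleton_self f
      rw [← hZf] at this
      exact this
    have hxeq : x = y := le_antisymm hxy hyx
    have hPf : x.asHomogeneousIdeal.toIdeal = Ideal.span {f} := by rw [hxeq]; rfl
    have hht1 : x.asHomogeneousIdeal.toIdeal.height ≤ 1 := by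
      rw [hPf]
      refine Ideal.height_le_one_of_isPrincipal_of_mem_minimalPrimes (Ideal.span {f}) _ ?_
      exact ⟨⟨hQp, le_rfl⟩, fun _ hq _ => hq.2⟩
    have h1 : Order.height x ≤ 1 :=
      (Groth.Agent.Lib.H8ProjHeight.height_le_height (CohB1.polyGrading n k) x).trans hht1
    have hbx : Groth.Agent.Lib.H8ProjPoly.botPt n k < x := by
      refine lt_of_le_of_ne (hbot x) ?_
      intro heq
      have : x.asHomogeneousIdeal.toIdeal = ⊥ := by rw [← heq]; rfl
      rw [this, Submodule.mem_bot] at hfx
      exact hf0 hfx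
    have h2 := Order.height_add_one_le hbx
    have h3 : (1 : ℕ∞) ≤ Order.height x := le_trans (by simp) h2
    exact le_antisymm h1 h3

end Groth.Agent.S10821
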