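import Groth.Statements.S10822
import Groth.Agent.Lib.H8ProjPoly

set_option autoImplicit false
universe u
open AlgebraicGeometry Topology TopologicalSpace
open Variety

namespace Groth.Agent.S10822

/-- Let k be a field, X an irreducible closed subset of projective n-space over k of positive dimension,
and f a homogeneous polynomial in n + 1 variables whose zero set V_+(f) is nonempty and does not
contain X. Then X meets V_+(f), and every irreducible component C of X ∩ V_+(f) has dim C + 1 = dim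
X, i.e. codimension 1 in X (all maximal chains of irreducible closed subsets of X have length dim
X). -/
theorem result (k : Type u) [Field k] (n d : ℕ)
    (X : Set (ProjectiveSpectrum (CohB1.polyGrading n k))) (hXc : IsClosed X) (hXi : IsIrreducible X)
    (hXd : 0 < topologicalKrullDim ↥X)
    (f : MvPolynomial (Fin (n + 1)) k) (hf : f.IsHomogeneous d)
    (hV : (ProjectiveSpectrum.zeroLocus (CohB1.polyGrading n k)
      ({f} : Set (MvPolynomial (Fin (n + 1)) k))).Nonempty)
    (hX : ¬ X ⊆ ProjectiveSpectrum.zeroLocus (CohB1.polyGrading n k)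
      ({f} : Set (MvPolynomial (Fin (n + 1)) k))) :
    (X ∩ ProjectiveSpectrum.zeroLocus (CohB1.polyGrading n k)
        ({f} : Set (MvPolynomial (Fin (n + 1)) k))).Nonempty ∧
      ∀ C ∈ irreducibleComponents ↥(X ∩ ProjectiveSpectrum.zeroLocus (CohB1.polyGrading n k)
          ({f} : Set (MvPolynomial (Fin (n + 1)) k))),
        topologicalKrullDim ↥C + 1 = topologicalKrullDim ↥X := by
  classical
  have h0 := Groth.Agent.Lib.H8ProjPoly.h0 n k
  obtain ⟨x, m, rfl, hm, hdx⟩ :=
    Groth.Agent.Lib.H8ProjDim.exists_point_dim (CohB1.polyGrading n k) h0 hXc hXi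
  have hfP : f ∉ x.asHomogeneousIdeal.toIdeal := by
    intro hfx
    apply hX
    intro y hy
    rw [ProjectiveSpectrum.mem_zeroLocus, Set.singleton_subset_iff]
    exact (Set.mem_Ici.mp hy) hfx
  have hJ : (x.asHomogeneousIdeal.toIdeal ⊔ Ideal.span {f}).IsHomogeneous
      (CohB1.polyGrading n k) := by
    refine x.asHomogeneousIdeal.isHomogeneous.sup (Ideal.homogeneous_span _ {f} ?_)
    intro z hz
    rw [Set.mem_singleton_iff] at hz
    exact hz ▸ ⟨d, hf⟩
  have hWc : IsClosed (Set.Ici x ∩ ProjectiveSpectrum.zeroLocus (CohB1.polyGrading n k)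
      ({f} : Set (MvPolynomial (Fin (n + 1)) k))) :=
    hXc.inter (ProjectiveSpectrum.isClosed_zeroLocus _ _)
  have hW : ∀ y : ProjectiveSpectrum (CohB1.polyGrading n k),
      y ∈ Set.Ici x ∩ ProjectiveSpectrum.zeroLocus (CohB1.polyGrading n k)
        ({f} : Set (MvPolynomial (Fin (n + 1)) k)) ↔
      x.asHomogeneousIdeal.toIdeal ⊔ Ideal.span {f} ≤ y.asHomogeneousIdeal.toIdeal := by
    intro y
    rw [Set.mem_inter_iff, ProjectiveSpectrum.mem_zeroLocus, Set.singleton_subset_iff, sup_le_iff,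
      Ideal.span_singleton_le_iff_mem, Set.mem_Ici]
    rfl
  have hm1 : 1 ≤ m := by
    rw [hm] at hXd
    have : (0 : ℕ) < m := by exact_mod_cast hXd
    omega
  constructor
  · obtain ⟨z, hz⟩ := hV
    rw [ProjectiveSpectrum.mem_zeroLocus, Set.singleton_subset_iff] at hz
    have hf𝔪 : f ∈ (HomogeneousIdeal.irrelevant (CohB1.polyGrading n k)).toIdeal :=
      Groth.Agent.Lib.H8ProjDim.le_irrelevant _ h0 z hz
    have hJ𝔪 : x.asHomogeneousIdeal.toIdeal ⊔ Ideal.span {f} ≤
        (HomogeneousIdeal.irrelevant (CohB1.polyGrading n k)).toIdeal :=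
      sup_le (Groth.Agent.Lib.H8ProjDim.le_irrelevant _ h0 x)
        ((Ideal.span_singleton_le_iff_mem _).mpr hf𝔪)
    haveI hmp : (HomogeneousIdeal.irrelevant (CohB1.polyGrading n k)).toIdeal.IsPrime :=
      (Groth.Agent.Lib.H8GradedFT.irrelevant_isMaximal (CohB1.polyGrading n k) h0).isPrime
    obtain ⟨Q, hQmin, hQ𝔪⟩ := Ideal.exists_minimalPrimes_le hJ𝔪
    haveI hQp : Q.IsPrime := hQmin.1.1
    have hQh : Q.IsHomogeneous (CohB1.polyGrading n k) :=
      Groth.Agent.Lib.H8DoubleLink.isHomogeneous_of_mem_minimalPrimes hJ hQmin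
    have hdim := Groth.Agent.Lib.H8ProjDim.ringKrullDim_quotient_add_one_of_mem_minimalPrimes k
      f hfP hQmin
    obtain ⟨q, hq⟩ := Groth.Agent.Lib.H8ProjDim.exists_dim_eq (CohB1.polyGrading n k) h0 Q
    rw [hq, hdx] at hdim
    have hqm : q = m := by
      have : ((q + 1 : ℕ) : WithBot ℕ∞) = ((m + 1 : ℕ) : WithBot ℕ∞) := by
        push_cast; exact hdim
      have := Nat.cast_injective (R := WithBot ℕ∞) this
      omega
    have hne : ringKrullDim (MvPolynomial (Fin (n + 1)) k ⧸ Q) ≠ 0 := by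
      rw [hq, hqm]
      intro h
      have : ((m : ℕ) : WithBot ℕ∞) = ((0 : ℕ) : WithBot ℕ∞) := by exact_mod_cast h
      have := Nat.cast_injective (R := WithBot ℕ∞) this
      omega
    have hrel := Groth.Agent.Lib.H8ProjDim.not_irrelevant_le_of_dim_ne_zero _ h0 hQh hne
    exact ⟨Groth.Agent.Lib.H8ProjDim.mkPoint _ Q hQp hQh hrel, (hW _).mpr hQmin.1.2⟩
  · intro C hC
    obtain ⟨y, m', hymin, hm', hdy⟩ :=
      Groth.Agent.Lib.H8ProjDim.exists_point_of_mem_irreducibleComponents
        (CohB1.polyGrading n k) h0 hJ hWc hW C hC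
    have hdim := Groth.Agent.Lib.H8ProjDim.ringKrullDim_quotient_add_one_of_mem_minimalPrimes k
      f hfP hymin
    rw [hdy, hdx] at hdim
    have hmm : m' + 1 = m := by
      have : ((m' + 1 + 1 : ℕ) : WithBot ℕ∞) = ((m + 1 : ℕ) : WithBot ℕ∞) := by
        push_cast; push_cast at hdim; exact hdim
      have := Nat.cast_injective (R := WithBot ℕ∞) this
      omega
    rw [hm', hm, ← hmm]
    push_cast
    rfl

end Groth.Agent.S10822
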