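import Groth.Statements.S10823
import Groth.Agent.Lib.H8ProjPoly

set_option autoImplicit false
universe u
open AlgebraicGeometry Topology TopologicalSpace
open Variety

namespace Groth.Agent.S10823

/-- Let k be a field, X an irreducible closed subset of projective n-space over k, and f_1, …, f_r
nonzero homogeneous polynomials of positive degrees in n + 1 variables. Then every irreducible
component C of X ∩ V_+(f_1, …, f_r) has codimension at most r in X, i.e. dim X ≤ dim C + r, and if
dim X ≥ r the intersection is nonempty. -/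
theorem result (k : Type u) [Field k] (n r : ℕ)
    (X : Set (ProjectiveSpectrum (CohB1.polyGrading n k))) (hXc : IsClosed X) (hXi : IsIrreducible X)
    (f : Fin r → MvPolynomial (Fin (n + 1)) k) (d : Fin r → ℕ)
    (hf : ∀ i, (f i).IsHomogeneous (d i)) (hd : ∀ i, 0 < d i) (hf0 : ∀ i, f i ≠ 0) :
    (∀ C ∈ irreducibleComponents ↥(X ∩ ProjectiveSpectrum.zeroLocus (CohB1.polyGrading n k) (Set.range f)),
        topologicalKrullDim ↥X ≤ topologicalKrullDim ↥C + (r : WithBot ℕ∞)) ∧
      ((r : WithBot ℕ∞) ≤ topologicalKrullDim ↥X →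
        (X ∩ ProjectiveSpectrum.zeroLocus (CohB1.polyGrading n k) (Set.range f)).Nonempty) := by
  classical
  have h0 := Groth.Agent.Lib.H8ProjPoly.h0 n k
  obtain ⟨x, m, rfl, hm, hdx⟩ :=
    Groth.Agent.Lib.H8ProjDim.exists_point_dim (CohB1.polyGrading n k) h0 hXc hXi
  set s : Finset (MvPolynomial (Fin (n + 1)) k) := Finset.univ.image f with hs
  have hsr : (s : Set (MvPolynomial (Fin (n + 1)) k)) = Set.range f := by
    rw [hs, Finset.coe_image, Finset.coe_univ, Set.image_univ]
  have hcard : s.card ≤ r := by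
    refine Finset.card_image_le.trans ?_
    rw [Finset.card_univ, Fintype.card_fin]
  have hJ : (x.asHomogeneousIdeal.toIdeal ⊔ Ideal.span (s : Set (MvPolynomial (Fin (n + 1)) k))).IsHomogeneous
      (CohB1.polyGrading n k) := by
    refine x.asHomogeneousIdeal.isHomogeneous.sup (Ideal.homogeneous_span _ _ ?_)
    intro z hz
    rw [hsr] at hz
    obtain ⟨i, rfl⟩ := hz
    exact ⟨d i, hf i⟩
  have hWc : IsClosed (Set.Ici x ∩ ProjectiveSpectrum.zeroLocus (CohB1.polyGrading n k)
      (Set.range f)) :=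
    hXc.inter (ProjectiveSpectrum.isClosed_zeroLocus _ _)
  have hW : ∀ y : ProjectiveSpectrum (CohB1.polyGrading n k),
      y ∈ Set.Ici x ∩ ProjectiveSpectrum.zeroLocus (CohB1.polyGrading n k) (Set.range f) ↔
      x.asHomogeneousIdeal.toIdeal ⊔ Ideal.span (s : Set (MvPolynomial (Fin (n + 1)) k)) ≤
        y.asHomogeneousIdeal.toIdeal := by
    intro y
    rw [Set.mem_inter_iff, ProjectiveSpectrum.mem_zeroLocus, sup_le_iff, Ideal.span_le, hsr,
      Set.mem_Ici]
    rfl
  constructor
  · intro C hC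
    obtain ⟨y, m', hymin, hm', hdy⟩ :=
      Groth.Agent.Lib.H8ProjDim.exists_point_of_mem_irreducibleComponents
        (CohB1.polyGrading n k) h0 hJ hWc hW C hC
    have hdim := Groth.Agent.Lib.H8ProjDim.ringKrullDim_quotient_le_add_card k s hymin
    rw [hdy, hdx] at hdim
    have h1 : m + 1 ≤ m' + 1 + s.card := by
      have : ((m + 1 : ℕ) : WithBot ℕ∞) ≤ ((m' + 1 + s.card : ℕ) : WithBot ℕ∞) := by
        push_cast; push_cast at hdim; exact hdim
      exact_mod_cast this
    have h2 : m ≤ m' + r := by omega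
    rw [hm', hm]
    exact_mod_cast h2
  · intro hrm
    rw [hm] at hrm
    have hrm' : r ≤ m := by exact_mod_cast hrm
    have hf𝔪 : ∀ i, f i ∈ (HomogeneousIdeal.irrelevant (CohB1.polyGrading n k)).toIdeal := by
      intro i
      change _ ∈ HomogeneousIdeal.irrelevant (CohB1.polyGrading n k)
      rw [HomogeneousIdeal.mem_irrelevant_iff, GradedRing.proj_apply]
      rw [DirectSum.decompose_of_mem_ne (CohB1.polyGrading n k)
        (hf i : _ ∈ CohB1.polyGrading n k (d i)) (hd i).ne']
    have hJ𝔪 : x.asHomogeneousIdeal.toIdeal ⊔ Ideal.span (s : Set (MvPolynomial (Fin (n + 1)) k)) ≤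
        (HomogeneousIdeal.irrelevant (CohB1.polyGrading n k)).toIdeal := by
      refine sup_le (Groth.Agent.Lib.H8ProjDim.le_irrelevant _ h0 x) (Ideal.span_le.mpr ?_)
      rw [hsr]
      rintro _ ⟨i, rfl⟩
      exact hf𝔪 i
    haveI hmp : (HomogeneousIdeal.irrelevant (CohB1.polyGrading n k)).toIdeal.IsPrime :=
      (Groth.Agent.Lib.H8GradedFT.irrelevant_isMaximal (CohB1.polyGrading n k) h0).isPrime
    obtain ⟨Q, hQmin, hQ𝔪⟩ := Ideal.exists_minimalPrimes_le hJ𝔪
    haveI hQp : Q.IsPrime := hQmin.1.1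
    have hQh : Q.IsHomogeneous (CohB1.polyGrading n k) :=
      Groth.Agent.Lib.H8DoubleLink.isHomogeneous_of_mem_minimalPrimes hJ hQmin
    have hdim := Groth.Agent.Lib.H8ProjDim.ringKrullDim_quotient_le_add_card k s hQmin
    obtain ⟨q, hq⟩ := Groth.Agent.Lib.H8ProjDim.exists_dim_eq (CohB1.polyGrading n k) h0 Q
    rw [hq, hdx] at hdim
    have h1 : m + 1 ≤ q + s.card := by
      have : ((m + 1 : ℕ) : WithBot ℕ∞) ≤ ((q + s.card : ℕ) : WithBot ℕ∞) := by
        push_cast; push_cast at hdim; exact hdim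
      exact_mod_cast this
    have hne : ringKrullDim (MvPolynomial (Fin (n + 1)) k ⧸ Q) ≠ 0 := by
      rw [hq]
      intro h
      have : ((q : ℕ) : WithBot ℕ∞) = ((0 : ℕ) : WithBot ℕ∞) := by exact_mod_cast h
      have := Nat.cast_injective (R := WithBot ℕ∞) this
      omega
    have hrel := Groth.Agent.Lib.H8ProjDim.not_irrelevant_le_of_dim_ne_zero _ h0 hQh hne
    exact ⟨Groth.Agent.Lib.H8ProjDim.mkPoint _ Q hQp hQh hrel, (hW _).mpr hQmin.1.2⟩

end Groth.Agent.S10823
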