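import Groth.Statements.S10824
import Groth.Agent.Lib.HilbStep99
import Groth.Agent.Lib.HilbDeg99

set_option autoImplicit false
universe u
open Variety

namespace Groth.Agent.S10824

/-- Let k be a field, S the polynomial ring in three variables over k with degree-d part S_d, and f, g
nonzero homogeneous polynomials of positive degrees n and m with no common non-unit factor. Then for
every d ≥ n + m the degree-d part of S/(f, g), namely S_d modulo its intersection with the ideal (f,
g), has dimension n·m over k. -/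
theorem result (k : Type u) [Field k] (n m d : ℕ)
    (f g : MvPolynomial (Fin 3) k) (hf : f.IsHomogeneous n) (hg : g.IsHomogeneous m)
    (hn : 0 < n) (hm : 0 < m) (hf0 : f ≠ 0) (hg0 : g ≠ 0) (hfg : IsRelPrime f g) (hd : n + m ≤ d) :
    Module.finrank k
        (↥(MvPolynomial.homogeneousSubmodule (Fin 3) k d) ⧸
          Submodule.comap (MvPolynomial.homogeneousSubmodule (Fin 3) k d).subtype
            ((Ideal.span ({f, g} : Set (MvPolynomial (Fin 3) k))).restrictScalars k)) = n * m := by
  classical
  letI : GradedAlgebra (MvPolynomial.homogeneousSubmodule (Fin 3) k) := MvPolynomial.gradedAlgebra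
  set 𝒜 := MvPolynomial.homogeneousSubmodule (Fin 3) k with h𝒜
  have hfin : ∀ i, Module.Finite k (𝒜 i) := fun i => Groth.Agent.Lib.HilbDiff99.finite_homog i
  have hh : ∀ j, Groth.Agent.Lib.HilbStep99.hfun 𝒜 (⊥ : Ideal (MvPolynomial (Fin 3) k)) j =
      ((j + 2).choose 2 : ℤ) := by
    intro j
    unfold Groth.Agent.Lib.HilbStep99.hfun
    rw [Submodule.restrictScalars_bot, bot_inf_eq, finrank_bot,
      Groth.Agent.Lib.HilbDeg99.finrank_homog_eq 3 j (by norm_num)]
    simp
  -- first step
  have hI0 : (⊥ : Ideal (MvPolynomial (Fin 3) k)).IsHomogeneous 𝒜 := Ideal.IsHomogeneous.bot 𝒜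
  have hreg0 : ∀ b, f * b ∈ (⊥ : Ideal (MvPolynomial (Fin 3) k)) → b ∈ (⊥ : Ideal _) := by
    intro b hb
    rw [Ideal.mem_bot] at hb ⊢
    exact (mul_eq_zero.mp hb).resolve_left hf0
  have hI1 : (⊥ ⊔ Ideal.span {f} : Ideal (MvPolynomial (Fin 3) k)).IsHomogeneous 𝒜 := by
    rw [bot_sup_eq]
    apply Ideal.homogeneous_span
    rintro _ rfl
    exact ⟨n, hf⟩
  have hreg1 : ∀ b, g * b ∈ (⊥ ⊔ Ideal.span {f} : Ideal (MvPolynomial (Fin 3) k)) →
      b ∈ (⊥ ⊔ Ideal.span {f} : Ideal (MvPolynomial (Fin 3) k)) := by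
    intro b hb
    rw [bot_sup_eq, Ideal.mem_span_singleton] at hb ⊢
    exact hfg.dvd_of_dvd_mul_left hb
  have e1 := fun j => Groth.Agent.Lib.HilbStep99.hfun_step 𝒜 hfin ⊥ hI0 f n hf hreg0 j
  have e2 := Groth.Agent.Lib.HilbStep99.hfun_step 𝒜 hfin _ hI1 g m hg hreg1 d
  have hspan : (⊥ ⊔ Ideal.span {f} ⊔ Ideal.span {g} : Ideal (MvPolynomial (Fin 3) k)) =
      Ideal.span {f, g} := by
    rw [bot_sup_eq, ← Ideal.span_union]
    rfl
  rw [hspan] at e2
  -- the quotient dimension is `hfun`
  have hq : (Module.finrank k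
        (↥(MvPolynomial.homogeneousSubmodule (Fin 3) k d) ⧸
          Submodule.comap (MvPolynomial.homogeneousSubmodule (Fin 3) k d).subtype
            ((Ideal.span ({f, g} : Set (MvPolynomial (Fin 3) k))).restrictScalars k)) : ℤ) =
      Groth.Agent.Lib.HilbStep99.hfun 𝒜 (Ideal.span {f, g}) d := by
    have : FiniteDimensional k (𝒜 d) := hfin d
    have h1 := Submodule.finrank_quotient_add_finrank
      (Submodule.comap (𝒜 d).subtype
        ((Ideal.span ({f, g} : Set (MvPolynomial (Fin 3) k))).restrictScalars k))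
    have h2 : Submodule.comap (𝒜 d).subtype
        ((Ideal.span ({f, g} : Set (MvPolynomial (Fin 3) k))).restrictScalars k) =
        ((Ideal.span ({f, g} : Set (MvPolynomial (Fin 3) k))).restrictScalars k ⊓ 𝒜 d).comap
          (𝒜 d).subtype := by
      rw [Submodule.comap_inf, Submodule.comap_subtype_self, inf_top_eq]
    have h3 := (Submodule.comapSubtypeEquivOfLe (inf_le_right :
      (Ideal.span ({f, g} : Set (MvPolynomial (Fin 3) k))).restrictScalars k ⊓ 𝒜 d ≤ _)).finrank_eq
    unfold Groth.Agent.Lib.HilbStep99.hfun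
    rw [← h3, ← h2, ← h1]
    push_cast
    ring
  have hfinal : Groth.Agent.Lib.HilbStep99.hfun 𝒜 (Ideal.span {f, g}) d = (n * m : ℤ) := by
    obtain ⟨c, rfl⟩ := Nat.exists_eq_add_of_le hd
    rw [e2, if_pos (by omega), e1, e1, if_pos (by omega), if_pos (by omega), hh, hh, hh, hh]
    have a1 : n + m + c - n = m + c := by omega
    have a2 : n + m + c - m = n + c := by omega
    have a3 : n + c - n = c := by omega
    rw [a1, a2, a3]
    have key : ∀ a b c : ℕ, (c + a + b + 2).choose 2 + (c + 2).choose 2 =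
        (c + a + 2).choose 2 + (c + b + 2).choose 2 + a * b := by
      intro a b c
      induction a with
      | zero => simp; ring
      | succ a ih =>
        have r1 : (c + (a + 1) + b + 2).choose 2 = (c + a + b + 2) + (c + a + b + 2).choose 2 := by
          rw [show c + (a + 1) + b + 2 = (c + a + b + 1) + 1 + 1 from by ring,
            Nat.choose_succ_succ' (c + a + b + 1 + 1) 1, Nat.choose_one_right]
        have r2 : (c + (a + 1) + 2).choose 2 = (c + a + 2) + (c + a + 2).choose 2 := by
          rw [show c + (a + 1) + 2 = (c + a + 1) + 1 + 1 from by ring,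
            Nat.choose_succ_succ' (c + a + 1 + 1) 1, Nat.choose_one_right]
        rw [r1, r2]
        nlinarith [ih]
    have := key n m c
    have b1 : n + m + c + 2 = c + n + m + 2 := by ring
    have b2 : m + c + 2 = c + m + 2 := by ring
    have b3 : n + c + 2 = c + n + 2 := by ring
    rw [b1, b2, b3]
    have : ((c + n + m + 2).choose 2 : ℤ) + (c + 2).choose 2 =
        (c + n + 2).choose 2 + (c + m + 2).choose 2 + n * m := by exact_mod_cast this
    linarith
  rw [hfinal] at hq
  exact_mod_cast hq

end Groth.Agent.S10824
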