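import Groth.Statements.S10825
import Groth.Agent.Lib.H14NormLocus

set_option autoImplicit false
universe u
open Topology
open CAlg

open Groth.Agent.Lib.H14NormLocus PrimeSpectrum

namespace Groth.Agent.S10825

/-- Let A → B be an injective integral homomorphism of integral domains with fraction fields K and L, L
a finite extension of K, and A integrally closed. For b in B the norm N_{L/K}(b) lies in A; if a
denotes this element of A, then the image of the closed set V(b) of Spec B under Spec B → Spec A is
exactly V(a), and V(b) and V(a) have the same dimension. -/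
theorem result
    (A B K L : Type u) [CommRing A] [IsDomain A] [CommRing B] [IsDomain B] [Algebra A B]
    [Field K] [Field L] [Algebra A K] [IsFractionRing A K] [Algebra B L] [IsFractionRing B L]
    [Algebra A L] [Algebra K L] [IsScalarTower A B L] [IsScalarTower A K L]
    [FiniteDimensional K L] [Algebra.IsIntegral A B] [IsIntegrallyClosed A]
    (hinj : Function.Injective (algebraMap A B))
    (b : B) (a : A) (ha : algebraMap A K a = Algebra.norm K (algebraMap B L b)) :
    PrimeSpectrum.comap (algebraMap A B) '' PrimeSpectrum.zeroLocus ({b} : Set B) =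
        PrimeSpectrum.zeroLocus ({a} : Set A) ∧
      topologicalKrullDim ↥(PrimeSpectrum.zeroLocus ({b} : Set B)) =
        topologicalKrullDim ↥(PrimeSpectrum.zeroLocus ({a} : Set A)) := by
  set J : Ideal A := (Ideal.span {b}).comap (algebraMap A B) with hJ
  -- `V(a) = V(J)`
  have hVa : zeroLocus ({a} : Set A) = zeroLocus (J : Set A) := by
    ext p
    rw [mem_zeroLocus, mem_zeroLocus, Set.singleton_subset_iff, SetLike.mem_coe,
      SetLike.coe_subset_coe]
    constructor
    · intro hap
      exact comap_span_le_of_norm_mem A B K L b a ha p.asIdeal hap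
    · intro hJp
      obtain ⟨Q, hQ, hQprime, hQc⟩ :=
        Ideal.exists_ideal_over_prime_of_isIntegral p.asIdeal (Ideal.span {b}) hJp
      have hbQ : b ∈ Q := hQ (Ideal.mem_span_singleton_self b)
      have := norm_mem_of_mem A B K L b a ha Q hbQ
      rw [← hQc]; exact this
  refine ⟨?_, ?_⟩
  · ext p
    constructor
    · rintro ⟨q, hq, rfl⟩
      rw [mem_zeroLocus, Set.singleton_subset_iff] at hq ⊢
      exact norm_mem_of_mem A B K L b a ha q.asIdeal hq
    · intro hp
      rw [hVa, mem_zeroLocus, SetLike.coe_subset_coe] at hp
      obtain ⟨Q, hQ, hQprime, hQc⟩ :=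
        Ideal.exists_ideal_over_prime_of_isIntegral p.asIdeal (Ideal.span {b}) hp
      refine ⟨⟨Q, hQprime⟩, ?_, ?_⟩
      · rw [mem_zeroLocus, Set.singleton_subset_iff]
        exact hQ (Ideal.mem_span_singleton_self b)
      · ext1
        exact hQc
  · rw [hVa, ← zeroLocus_span ({b} : Set B), topologicalKrullDim_zeroLocus_eq,
      topologicalKrullDim_zeroLocus_eq]
    exact (ringKrullDim_eq_of_isIntegral_of_injective
      (R := A ⧸ J) (S := B ⧸ Ideal.span {b}) Ideal.algebraMap_quotient_injective).symm

end Groth.Agent.S10825
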