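import Groth.Statements.S10827
import Mathlib
-- import your own Groth.Agent.* helpers here

set_option autoImplicit false
universe u
open Variety

namespace Groth.Agent.S10827

open MvPolynomial
set_option linter.unusedSectionVars false

section bez

variable {k : Type u} [Field k]

/-- polynomials in two variables all of whose monomials have degree `< e` -/
noncomputable def Q (k : Type u) [Field k] (e : ℕ) : Submodule k (MvPolynomial (Fin 2) k) :=
  restrictSupport k {s | s.degree < e}

theorem mem_Q {e : ℕ} {A : MvPolynomial (Fin 2) k} :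
    A ∈ Q k e ↔ ∀ s, coeff s A ≠ 0 → s.degree < e := by
  unfold Q
  rw [mem_restrictSupport_iff]
  constructor
  · intro h s hs; exact h (Finset.mem_coe.mpr (mem_support_iff.mpr hs))
  · intro h s hs; exact h s (mem_support_iff.mp (Finset.mem_coe.mp hs))

theorem Q_mono {e e' : ℕ} (h : e ≤ e') : Q k e ≤ Q k e' := by
  intro A hA; rw [mem_Q] at hA ⊢; intro s hs; exact lt_of_lt_of_le (hA s hs) h

theorem Q_zero {A : MvPolynomial (Fin 2) k} (hA : A ∈ Q k 0) : A = 0 := by
  ext s
  by_contra h
  have := (mem_Q.mp hA) s h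
  omega

theorem mul_mem_Q {a b : ℕ} {A B : MvPolynomial (Fin 2) k} (hA : A ∈ Q k a)
    (hB : B ∈ Q k (b+1)) : A * B ∈ Q k (a+b) := by
  rw [mem_Q] at hA hB ⊢
  intro s hs
  rw [coeff_mul] at hs
  obtain ⟨p, hp, hne⟩ := Finset.exists_ne_zero_of_sum_ne_zero hs
  rw [Finset.HasAntidiagonal.mem_antidiagonal] at hp
  have h1 := hA p.1 (left_ne_zero_of_mul hne)
  have h2 := hB p.2 (right_ne_zero_of_mul hne)
  rw [← hp, map_add]
  omega

theorem homog_mem_Q {e : ℕ} {A : MvPolynomial (Fin 2) k} (hA : A.IsHomogeneous e) :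
    A ∈ Q k (e+1) := by
  rw [mem_Q]; intro s hs
  by_contra hcon
  exact hs (hA.coeff_eq_zero (by omega))

theorem hc_eq_zero_of_mem_Q {e : ℕ} {A : MvPolynomial (Fin 2) k} (hA : A ∈ Q k e) :
    homogeneousComponent e A = 0 := by
  ext s
  rw [coeff_homogeneousComponent, coeff_zero]
  split_ifs with h
  · by_contra hne; have := (mem_Q.mp hA) s hne; omega
  · rfl

theorem mem_Q_of_hc_eq_zero {e : ℕ} {A : MvPolynomial (Fin 2) k} (hA : A ∈ Q k (e+1))
    (h : homogeneousComponent e A = 0) : A ∈ Q k e := by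
  rw [mem_Q] at hA ⊢
  intro s hs
  have h1 := hA s hs
  have h2 : s.degree ≠ e := by
    intro he
    have := congrArg (coeff s) h
    rw [coeff_homogeneousComponent, if_pos he, coeff_zero] at this
    exact hs this
  omega

theorem hc_homog {e : ℕ} {A : MvPolynomial (Fin 2) k} (hA : A.IsHomogeneous e) :
    homogeneousComponent e A = A := by
  rw [homogeneousComponent_of_mem ((mem_homogeneousSubmodule _ _).mpr hA), if_pos rfl]

theorem sub_hc_mem_Q {e : ℕ} {A : MvPolynomial (Fin 2) k} (hA : A ∈ Q k (e+1)) :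
    A - homogeneousComponent e A ∈ Q k e := by
  apply mem_Q_of_hc_eq_zero
  · exact Submodule.sub_mem _ hA (homog_mem_Q (homogeneousComponent_isHomogeneous e A))
  · rw [map_sub, hc_homog (homogeneousComponent_isHomogeneous e A), sub_self]

theorem hc_mul_homog {a b : ℕ} (A B : MvPolynomial (Fin 2) k) (hB : B.IsHomogeneous b) :
    homogeneousComponent (a+b) (A*B) = homogeneousComponent a A * B := by
  ext s
  rw [coeff_homogeneousComponent, coeff_mul, coeff_mul]
  split_ifs with h
  · apply Finset.sum_congr rfl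
    intro p hp
    rw [Finset.HasAntidiagonal.mem_antidiagonal] at hp
    by_cases hp2 : p.2.degree = b
    · have : p.1.degree = a := by
        have := congrArg Finsupp.degree hp
        rw [map_add] at this; omega
      rw [coeff_homogeneousComponent, if_pos this]
    · rw [hB.coeff_eq_zero hp2, mul_zero, mul_zero]
  · symm
    apply Finset.sum_eq_zero
    intro p hp
    rw [Finset.HasAntidiagonal.mem_antidiagonal] at hp
    by_cases hp2 : p.2.degree = b
    · have : p.1.degree ≠ a := by
        intro h1; apply h; rw [← hp, map_add, h1, hp2]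
      rw [coeff_homogeneousComponent, if_neg this, zero_mul]
    · rw [hB.coeff_eq_zero hp2, mul_zero]

theorem hc_mul_top {a b : ℕ} {A B : MvPolynomial (Fin 2) k} (hA : A ∈ Q k (a+1))
    (hB : B ∈ Q k (b+1)) :
    homogeneousComponent (a+b) (A*B) = homogeneousComponent a A * homogeneousComponent b B := by
  have h1 : A * B = A * homogeneousComponent b B + A * (B - homogeneousComponent b B) := by ring
  rw [h1, map_add, hc_mul_homog _ _ (homogeneousComponent_isHomogeneous b B)]
  have h2 : A * (B - homogeneousComponent b B) ∈ Q k (a+b) := by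
    have := mul_mem_Q (a := b) (b := a) (sub_hc_mem_Q hB) hA
    rw [mul_comm, add_comm]; exact this
  rw [hc_eq_zero_of_mem_Q h2, add_zero]

theorem mem_Q_totalDegree (A : MvPolynomial (Fin 2) k) : A ∈ Q k (A.totalDegree + 1) := by
  rw [mem_Q]; intro s hs
  have : s.degree ≤ A.totalDegree := le_totalDegree (mem_support_iff.mpr hs)
  omega

theorem totalDegree_lt_of_mem_Q {e : ℕ} {A : MvPolynomial (Fin 2) k} (hA : A ∈ Q k e)
    (h0 : A ≠ 0) : A.totalDegree < e := by
  have hne : A.support.Nonempty := by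
    rw [Finset.nonempty_iff_ne_empty]; intro h; exact h0 (support_eq_empty.mp h)
  obtain ⟨s, hs, hsup⟩ := Finset.exists_mem_eq_sup A.support hne (fun s => s.sum fun _ e => e)
  have := (mem_Q.mp hA) s (mem_support_iff.mp hs)
  unfold totalDegree
  rw [hsup]
  exact this

theorem two_mul_sum_succ (e : ℕ) : 2 * ∑ i ∈ Finset.range e, (i + 1) = e * (e + 1) := by
  induction e with
  | zero => simp
  | succ e ih => rw [Finset.sum_range_succ, mul_add, ih]; ring

theorem two_mul_finrank_Q (e : ℕ) : 2 * Module.finrank k (Q k e) = e * (e + 1) := by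
  unfold Q
  rw [Module.finrank_eq_nat_card_basis (basisRestrictSupport k {s : Fin 2 →₀ ℕ | s.degree < e})]
  have hequiv : Nat.card ↑{s : Fin 2 →₀ ℕ | s.degree < e} =
      Nat.card {p : ℕ × ℕ // p ∈ (Finset.range e).biUnion
        (fun i => (Finset.HasAntidiagonal.antidiagonal i : Finset (ℕ × ℕ)))} := by
    apply Nat.card_congr
    refine Equiv.subtypeEquiv (Finsupp.equivFunOnFinite.trans (finTwoArrowEquiv ℕ)) ?_
    intro s
    have h1 : (Finsupp.equivFunOnFinite.trans (finTwoArrowEquiv ℕ)) s = (s 0, s 1) := rfl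
    rw [h1, Set.mem_ofPred_eq, Finsupp.degree_eq_sum, Fin.sum_univ_two, Finset.mem_biUnion]
    constructor
    · intro h
      exact ⟨s 0 + s 1, Finset.mem_range.mpr h, Finset.HasAntidiagonal.mem_antidiagonal.mpr rfl⟩
    · rintro ⟨i, hi, hp⟩
      rw [Finset.HasAntidiagonal.mem_antidiagonal] at hp
      rw [Finset.mem_range] at hi
      simp only at hp
      omega
  rw [hequiv, Nat.card_eq_fintype_card, Fintype.card_coe, Finset.card_biUnion]
  · simp only [Finset.Nat.card_antidiagonal]
    exact two_mul_sum_succ e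
  · intro x _ y _ hxy
    show Disjoint (Finset.HasAntidiagonal.antidiagonal x : Finset (ℕ × ℕ))
      (Finset.HasAntidiagonal.antidiagonal y)
    rw [Finset.disjoint_left]
    intro p hp hp'
    rw [Finset.HasAntidiagonal.mem_antidiagonal] at hp hp'
    exact hxy (hp.symm.trans hp')

/-- substitution `(X, Y, c)` -/
noncomputable def sig (k : Type u) [Field k] (c : MvPolynomial (Fin 2) k) :
    Fin 3 → MvPolynomial (Fin 2) k :=
  Fin.cons (X 0) (Fin.cons (X 1) (Fin.cons c Fin.elim0))

theorem sig_0 (c : MvPolynomial (Fin 2) k) : sig k c 0 = X 0 := rfl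
theorem sig_1 (c : MvPolynomial (Fin 2) k) : sig k c 1 = X 1 := rfl
theorem sig_2 (c : MvPolynomial (Fin 2) k) : sig k c 2 = c := rfl

theorem aeval_sig_monomial (c : MvPolynomial (Fin 2) k) (s : Fin 3 →₀ ℕ) (a : k) :
    aeval (sig k c) (monomial s a) = C a * (X 0 ^ s 0 * X 1 ^ s 1) * c ^ s 2 := by
  rw [aeval_monomial, Finsupp.prod_fintype _ _ (fun i => pow_zero _), Fin.prod_univ_three,
    sig_0, sig_1, sig_2, algebraMap_eq]
  ring

theorem T_homog (a : k) (i j : ℕ) :
    (C a * (X 0 ^ i * X 1 ^ j) : MvPolynomial (Fin 2) k).IsHomogeneous (i + j) :=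
  ((isHomogeneous_X_pow 0 i).mul (isHomogeneous_X_pow 1 j)).C_mul a

theorem facts {n : ℕ} {f : MvPolynomial (Fin 3) k} (hf : f.IsHomogeneous n) :
    aeval (sig k 1) f ∈ Q k (n+1) ∧ aeval (sig k 1) f - aeval (sig k 0) f ∈ Q k n ∧
      (aeval (sig k 0) f).IsHomogeneous n := by
  have hdeg : ∀ s ∈ f.support, s 0 + s 1 + s 2 = n := by
    intro s hs
    have h1 : s.degree = n := by
      by_contra hne; exact (mem_support_iff.mp hs) (hf.coeff_eq_zero hne)
    rw [Finsupp.degree_eq_sum, Fin.sum_univ_three] at h1; exact h1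
  have hF : aeval (sig k 1) f =
      ∑ s ∈ f.support, C (coeff s f) * (X 0 ^ s 0 * X 1 ^ s 1) := by
    conv_lhs => rw [← support_sum_monomial_coeff f]
    rw [map_sum]
    apply Finset.sum_congr rfl
    intro s _
    rw [aeval_sig_monomial, one_pow, mul_one]
  have hf0 : aeval (sig k 0) f =
      ∑ s ∈ f.support, (if s 2 = 0 then C (coeff s f) * (X 0 ^ s 0 * X 1 ^ s 1) else 0) := by
    conv_lhs => rw [← support_sum_monomial_coeff f]
    rw [map_sum]
    apply Finset.sum_congr rfl
    intro s _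
    rw [aeval_sig_monomial, zero_pow_eq]
    split_ifs <;> simp
  refine ⟨?_, ?_, ?_⟩
  · rw [hF]
    apply Submodule.sum_mem
    intro s hs
    have := hdeg s hs
    exact Q_mono (by omega) (homog_mem_Q (T_homog _ _ _))
  · rw [hF, hf0, ← Finset.sum_sub_distrib]
    apply Submodule.sum_mem
    intro s hs
    have := hdeg s hs
    split_ifs with h2
    · rw [sub_self]; exact Submodule.zero_mem _
    · rw [sub_zero]; exact Q_mono (by omega) (homog_mem_Q (T_homog _ _ _))
  · rw [hf0]
    apply IsHomogeneous.sum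
    intro s hs
    have := hdeg s hs
    split_ifs with h2
    · have h3 : s 0 + s 1 = n := by omega
      rw [← h3]; exact T_homog _ _ _
    · exact isHomogeneous_zero _ _ _

theorem hc_F {n : ℕ} {f : MvPolynomial (Fin 3) k} (hf : f.IsHomogeneous n) :
    homogeneousComponent n (aeval (sig k 1) f) = aeval (sig k 0) f := by
  obtain ⟨h1, h2, h3⟩ := facts hf
  have : aeval (sig k 1) f = aeval (sig k 0) f + (aeval (sig k 1) f - aeval (sig k 0) f) := by
    ring
  rw [this, map_add, hc_homog h3, hc_eq_zero_of_mem_Q h2, add_zero]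

instance finiteDimensional_Q (e : ℕ) : FiniteDimensional k (Q k e) := by
  have h1 : FiniteDimensional k (Q k (e+1)) := by
    apply FiniteDimensional.of_finrank_pos
    have := two_mul_finrank_Q (k := k) (e+1)
    have h2 : 0 < (e+1) * (e+1+1) := Nat.mul_pos (Nat.succ_pos _) (Nat.succ_pos _)
    omega
  exact Submodule.finiteDimensional_of_le (Q_mono (Nat.le_succ e))

section core

variable {n m : ℕ} {F G f0 g0 : MvPolynomial (Fin 2) k}
  (hFm : F ∈ Q k (n+1)) (hF1 : homogeneousComponent n F = f0) (hf0 : f0.IsHomogeneous n)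
  (hf00 : f0 ≠ 0)
  (hGm : G ∈ Q k (m+1)) (hG1 : homogeneousComponent m G = g0) (hg0 : g0.IsHomogeneous m)
  (hg00 : g0 ≠ 0) (hT : IsRelPrime f0 g0)

include hF1 hf00 in
theorem F_ne : F ≠ 0 := by
  intro h; rw [h, map_zero] at hF1; exact hf00 hF1.symm

include hFm hF1 hf00 in
theorem totalDegree_F : F.totalDegree = n := by
  have h1 := totalDegree_lt_of_mem_Q hFm (F_ne hF1 hf00)
  by_contra hne
  have h2 : F.totalDegree < n := by omega
  rw [homogeneousComponent_eq_zero _ _ h2] at hF1
  exact hf00 hF1.symm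

include hGm hG1 hg00 in
theorem cancel_deg {C : MvPolynomial (Fin 2) k} {t : ℕ} (h : C * G ∈ Q k (m + t)) :
    C ∈ Q k t := by
  by_cases hC : C = 0
  · rw [hC]; exact Submodule.zero_mem _
  have hG0 := F_ne hG1 hg00
  have hne : C * G ≠ 0 := mul_ne_zero hC hG0
  have h1 := totalDegree_lt_of_mem_Q h hne
  rw [totalDegree_mul_of_isDomain hC hG0, totalDegree_F hGm hG1 hg00] at h1
  exact Q_mono (by omega) (mem_Q_totalDegree C)

include hFm hF1 hf00 in
theorem top_dvd {h u : MvPolynomial (Fin 2) k} (hhu : F = h * u) :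
    homogeneousComponent h.totalDegree h ∣ f0 := by
  have hF0 := F_ne hF1 hf00
  have hh : h ≠ 0 := by rintro rfl; rw [zero_mul] at hhu; exact hF0 hhu
  have hu : u ≠ 0 := by rintro rfl; rw [mul_zero] at hhu; exact hF0 hhu
  have h1 := totalDegree_F hFm hF1 hf00
  rw [hhu, totalDegree_mul_of_isDomain hh hu] at h1
  have h2 := hc_mul_top (mem_Q_totalDegree h) (mem_Q_totalDegree u)
  rw [h1, ← hhu, hF1] at h2
  exact ⟨_, h2⟩

include hFm hF1 hf00 hGm hG1 hg00 hT in
theorem relprime_FG : IsRelPrime F G := by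
  intro h hF hG
  obtain ⟨u, hu⟩ := hF
  obtain ⟨v, hv⟩ := hG
  have d1 := top_dvd hFm hF1 hf00 hu
  have d2 := top_dvd hGm hG1 hg00 hv
  have hunit := hT d1 d2
  rw [isUnit_iff_eq_C_of_isReduced] at hunit
  obtain ⟨r, hr, hr2⟩ := hunit
  have hr0 : r ≠ 0 := hr.ne_zero
  have hne : homogeneousComponent h.totalDegree h ≠ 0 := by
    rw [hr2]; intro h0; exact hr0 (C_injective _ _ (by rw [h0, C_0]))
  have hdeg : h.totalDegree = 0 := by
    have ha := homogeneousComponent_isHomogeneous h.totalDegree h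
    have hb : (homogeneousComponent h.totalDegree h).IsHomogeneous 0 := by
      rw [hr2]; exact isHomogeneous_C _ _
    exact ha.inj_right hb hne
  rw [totalDegree_eq_zero_iff_eq_C] at hdeg
  rw [hdeg]
  have hh : h ≠ 0 := by
    rintro rfl; rw [zero_mul] at hu; exact F_ne hF1 hf00 hu
  have hc0 : coeff 0 h ≠ 0 := by
    intro h0; apply hh; rw [hdeg, h0, C_0]
  exact (isUnit_iff_ne_zero.mpr hc0).map C

include hFm hF1 hf0 hf00 hGm hG1 hg0 hg00 hT in
theorem step (t : ℕ) (A B : MvPolynomial (Fin 2) k) (hA : A ∈ Q k (m+t+1))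
    (hB : B ∈ Q k (n+t+1)) (hAB : A * F + B * G ∈ Q k (n+m+t)) :
    ∃ A' ∈ Q k (m+t), ∃ B' ∈ Q k (n+t), A' * F + B' * G = A * F + B * G := by
  have e1 : n + m + t = (m + t) + n := by omega
  have e2 : n + m + t = (n + t) + m := by omega
  have h1 : homogeneousComponent (n+m+t) (A * F) = homogeneousComponent (m+t) A * f0 := by
    rw [e1, hc_mul_top hA hFm, hF1]
  have h2 : homogeneousComponent (n+m+t) (B * G) = homogeneousComponent (n+t) B * g0 := by
    rw [e2, hc_mul_top hB hGm, hG1]
  have h3 : homogeneousComponent (m+t) A * f0 + homogeneousComponent (n+t) B * g0 = 0 := by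
    rw [← h1, ← h2, ← map_add]; exact hc_eq_zero_of_mem_Q hAB
  have hdvd : g0 ∣ homogeneousComponent (m+t) A := by
    apply IsRelPrime.dvd_of_dvd_mul_right hT.symm
    refine ⟨- homogeneousComponent (n+t) B, ?_⟩
    linear_combination h3
  obtain ⟨c, hc⟩ := hdvd
  have ha0 : homogeneousComponent (m+t) A = homogeneousComponent t c * g0 := by
    have h4 := hc_homog (homogeneousComponent_isHomogeneous (m+t) A)
    rw [← h4]
    conv_lhs => rw [hc, mul_comm g0 c, add_comm m t, hc_mul_homog _ _ hg0]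
  have hb0 : homogeneousComponent (n+t) B = - (homogeneousComponent t c * f0) := by
    apply mul_right_cancel₀ hg00
    rw [ha0] at h3
    linear_combination h3
  have hc' : (homogeneousComponent t c) ∈ Q k (t+1) :=
    homog_mem_Q (homogeneousComponent_isHomogeneous t c)
  have hcc : homogeneousComponent t (homogeneousComponent t c) = homogeneousComponent t c :=
    hc_homog (homogeneousComponent_isHomogeneous t c)
  refine ⟨A - homogeneousComponent t c * G, ?_, B + homogeneousComponent t c * F, ?_, by ring⟩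
  · apply mem_Q_of_hc_eq_zero
    · apply Submodule.sub_mem _ hA
      have := mul_mem_Q (a := t+1) (b := m) hc' hGm
      exact Q_mono (by omega) this
    · rw [map_sub, add_comm m t, hc_mul_top hc' hGm, hG1, hcc, add_comm t m, ha0, sub_self]
  · apply mem_Q_of_hc_eq_zero
    · apply Submodule.add_mem _ hB
      have := mul_mem_Q (a := t+1) (b := n) hc' hFm
      exact Q_mono (by omega) this
    · rw [map_add, add_comm n t, hc_mul_top hc' hFm, hF1, hcc, add_comm t n, hb0, neg_add_cancel]

include hFm hF1 hf0 hf00 hGm hG1 hg0 hg00 hT in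
theorem descend (s : ℕ) : ∀ (t : ℕ) (A B : MvPolynomial (Fin 2) k), A ∈ Q k (m+t+s) →
    B ∈ Q k (n+t+s) → A * F + B * G ∈ Q k (n+m+t) →
    ∃ A' ∈ Q k (m+t), ∃ B' ∈ Q k (n+t), A' * F + B' * G = A * F + B * G := by
  induction s with
  | zero => intro t A B hA hB _; exact ⟨A, hA, B, hB, rfl⟩
  | succ s ih =>
    intro t A B hA hB hAB
    obtain ⟨A', hA', B', hB', h⟩ := step hFm hF1 hf0 hf00 hGm hG1 hg0 hg00 hT (t+s) A B
      (Q_mono (by omega) hA) (Q_mono (by omega) hB) (Q_mono (by omega) hAB)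
    obtain ⟨A'', hA'', B'', hB'', h'⟩ := ih t A' B' (Q_mono (by omega) hA')
      (Q_mono (by omega) hB') (by rw [h]; exact hAB)
    exact ⟨A'', hA'', B'', hB'', h'.trans h⟩

end core

/-- multiplication by `P` as a `k`-linear map -/
noncomputable def mulL (P : MvPolynomial (Fin 2) k) :
    MvPolynomial (Fin 2) k →ₗ[k] MvPolynomial (Fin 2) k := LinearMap.mulLeft k P

theorem mulL_apply (P x : MvPolynomial (Fin 2) k) : mulL P x = P * x := rfl

theorem mulL_inj {P : MvPolynomial (Fin 2) k} (hP : P ≠ 0) : Function.Injective (mulL P) :=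
  fun _ _ h => mul_left_cancel₀ hP h

theorem finrank_map_mulL {P : MvPolynomial (Fin 2) k} (hP : P ≠ 0)
    (S : Submodule k (MvPolynomial (Fin 2) k)) :
    Module.finrank k (S.map (mulL P)) = Module.finrank k S :=
  (Submodule.equivMapOfInjective (mulL P) (mulL_inj hP) S).finrank_eq.symm

theorem finrank_ker_domRestrict' {M M' : Type u} [AddCommGroup M] [Module k M]
    [AddCommGroup M'] [Module k M'] (f : M →ₗ[k] M') (W : Submodule k M) :
    Module.finrank k (LinearMap.ker (f.domRestrict W)) =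
      Module.finrank k (W ⊓ LinearMap.ker f : Submodule k M) := by
  rw [LinearMap.ker_domRestrict, ← Submodule.finrank_map_subtype_eq, Submodule.map_comap_subtype]

section core2

variable {n m : ℕ} {F G f0 g0 : MvPolynomial (Fin 2) k}
  (hFm : F ∈ Q k (n+1)) (hF1 : homogeneousComponent n F = f0) (hf0 : f0.IsHomogeneous n)
  (hf00 : f0 ≠ 0)
  (hGm : G ∈ Q k (m+1)) (hG1 : homogeneousComponent m G = g0) (hg0 : g0.IsHomogeneous m)
  (hg00 : g0 ≠ 0) (hT : IsRelPrime f0 g0)

include hFm hF1 hf0 hf00 hGm hG1 hg0 hg00 hT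

theorem inf_eq (t : ℕ) :
    (Q k (m+t)).map (mulL F) ⊓ (Q k (n+t)).map (mulL G) = (Q k t).map (mulL (F*G)) := by
  apply le_antisymm
  · rintro x ⟨⟨A, hA, rfl⟩, ⟨B, hB, hB2⟩⟩
    have hGA : G ∣ F * A := ⟨B, by rw [mulL_apply, mulL_apply] at hB2; exact hB2.symm⟩
    have hrel := relprime_FG hFm hF1 hf00 hGm hG1 hg00 hT
    have hGA' : G ∣ A := IsRelPrime.dvd_of_dvd_mul_left hrel.symm hGA
    obtain ⟨C, rfl⟩ := hGA'
    refine ⟨C, cancel_deg hGm hG1 hg00 (by rw [mul_comm]; exact hA), ?_⟩
    rw [mulL_apply, mulL_apply]; ring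
  · rintro x ⟨C, hC, rfl⟩
    refine ⟨⟨G * C, ?_, ?_⟩, ⟨F * C, ?_, ?_⟩⟩
    · have := mul_mem_Q (a := t) (b := m) hC hGm; rw [mul_comm, add_comm]; exact this
    · rw [mulL_apply, mulL_apply]; ring
    · have := mul_mem_Q (a := t) (b := n) hC hFm; rw [mul_comm, add_comm]; exact this
    · rw [mulL_apply, mulL_apply]; ring

theorem inf_ideal_eq (t : ℕ) :
    (Ideal.span {F, G}).restrictScalars k ⊓ Q k (n+m+t) =
      (Q k (m+t)).map (mulL F) ⊔ (Q k (n+t)).map (mulL G) := by
  apply le_antisymm
  · rintro x ⟨hxI, hxQ⟩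
    have hxI' : x ∈ Ideal.span {F, G} := hxI
    rw [Ideal.mem_span_pair] at hxI'
    obtain ⟨A, B, rfl⟩ := hxI'
    obtain ⟨A', hA', B', hB', h⟩ := descend hFm hF1 hf0 hf00 hGm hG1 hg0 hg00 hT
      (A.totalDegree + B.totalDegree + 1) t A B
      (Q_mono (by omega) (mem_Q_totalDegree A)) (Q_mono (by omega) (mem_Q_totalDegree B)) hxQ
    rw [← h]
    apply Submodule.add_mem_sup
    · exact ⟨A', hA', by rw [mulL_apply, mul_comm]⟩
    · exact ⟨B', hB', by rw [mulL_apply, mul_comm]⟩
  · apply sup_le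
    · rintro x ⟨A, hA, rfl⟩
      refine ⟨?_, ?_⟩
      · show F * A ∈ Ideal.span {F, G}
        exact Ideal.mul_mem_right _ _ (Ideal.subset_span (by simp))
      · have := mul_mem_Q (a := m+t) (b := n) hA hFm
        rw [mulL_apply, mul_comm]; exact Q_mono (by omega) this
    · rintro x ⟨B, hB, rfl⟩
      refine ⟨?_, ?_⟩
      · show G * B ∈ Ideal.span {F, G}
        exact Ideal.mul_mem_right _ _ (Ideal.subset_span (by simp))
      · have := mul_mem_Q (a := n+t) (b := m) hB hGm
        rw [mulL_apply, mul_comm]; exact Q_mono (by omega) this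

theorem finrank_image (t : ℕ) :
    Module.finrank k ((Q k (n+m+t)).map
      (Ideal.Quotient.mkₐ k (Ideal.span {F, G})).toLinearMap) = n * m := by
  have hker : LinearMap.ker (Ideal.Quotient.mkₐ k (Ideal.span {F, G})).toLinearMap =
      (Ideal.span {F, G}).restrictScalars k := by
    ext x
    rw [LinearMap.mem_ker, Submodule.restrictScalars_mem]
    exact Ideal.Quotient.eq_zero_iff_mem
  have h1 := LinearMap.finrank_range_add_finrank_ker
    ((Ideal.Quotient.mkₐ k (Ideal.span {F, G})).toLinearMap.domRestrict (Q k (n+m+t)))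
  rw [LinearMap.range_domRestrict, finrank_ker_domRestrict', hker, inf_comm,
    inf_ideal_eq hFm hF1 hf0 hf00 hGm hG1 hg0 hg00 hT] at h1
  have h2 := Submodule.finrank_sup_add_finrank_inf_eq ((Q k (m+t)).map (mulL F))
    ((Q k (n+t)).map (mulL G))
  have hF0 := F_ne hF1 hf00
  have hG0 := F_ne hG1 hg00
  rw [inf_eq hFm hF1 hf0 hf00 hGm hG1 hg0 hg00 hT, finrank_map_mulL hF0, finrank_map_mulL hG0,
    finrank_map_mulL (mul_ne_zero hF0 hG0)] at h2
  have q1 := two_mul_finrank_Q (k := k) (n+m+t)
  have q2 := two_mul_finrank_Q (k := k) (m+t)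
  have q3 := two_mul_finrank_Q (k := k) (n+t)
  have q4 := two_mul_finrank_Q (k := k) t
  have key : (n+m+t)*(n+m+t+1) + t*(t+1) = (m+t)*(m+t+1) + (n+t)*(n+t+1) + 2*(n*m) := by ring
  omega

theorem final : Module.finrank k (MvPolynomial (Fin 2) k ⧸ Ideal.span {F, G}) = n * m := by
  have hW := finrank_image hFm hF1 hf0 hf00 hGm hG1 hg0 hg00 hT
  have heq : ∀ t, (Q k (n+m+0)).map (Ideal.Quotient.mkₐ k (Ideal.span {F, G})).toLinearMap =
      (Q k (n+m+t)).map (Ideal.Quotient.mkₐ k (Ideal.span {F, G})).toLinearMap := fun t =>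
    Submodule.eq_of_le_of_finrank_eq (Submodule.map_mono (Q_mono (by omega)))
      (by rw [hW, hW])
  have htop : (Q k (n+m+0)).map (Ideal.Quotient.mkₐ k (Ideal.span {F, G})).toLinearMap = ⊤ := by
    rw [eq_top_iff]
    intro y _
    obtain ⟨x, rfl⟩ := Ideal.Quotient.mk_surjective y
    rw [heq (x.totalDegree + 1)]
    exact ⟨x, Q_mono (by omega) (mem_Q_totalDegree x), rfl⟩
  rw [← finrank_top k, ← htop, hW]

end core2

theorem ne_zero_of_relprime {n : ℕ} {f0 g0 : MvPolynomial (Fin 2) k} (hf0 : f0.IsHomogeneous n)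
    (hn : 0 < n) (hT : IsRelPrime f0 g0) : g0 ≠ 0 := by
  rintro rfl
  rw [isRelPrime_zero_right, isUnit_iff_eq_C_of_isReduced] at hT
  obtain ⟨r, hr, rfl⟩ := hT
  have h0 : (C r : MvPolynomial (Fin 2) k) ≠ 0 := by
    intro h; exact hr.ne_zero (C_injective _ _ (by rw [h, C_0]))
  have := hf0.inj_right (isHomogeneous_C _ r) h0
  omega

end bez

/-- Let k be a field and f, g nonzero homogeneous polynomials of positive degrees n and m in three
variables X, Y, T without common non-unit factor, and assume that f(X, Y, 0) and g(X, Y, 0) are also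
without common non-unit factor in k[X, Y] (no common point of the two curves lies on the line T =
0). Then the quotient of k[X, Y] by the ideal generated by f(X, Y, 1) and g(X, Y, 1) has dimension
n·m over k. (The published statement is that two plane curves without common component have total
intersection number equal to the product of their degrees; its argument moves a line off the
finitely many common points and then proves exactly this affine count, which is what this row
states, over an arbitrary field.) -/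
theorem result (k : Type u) [Field k] (n m : ℕ)
    (f g : MvPolynomial (Fin 3) k) (hf : f.IsHomogeneous n) (hg : g.IsHomogeneous m)
    (hn : 0 < n) (hm : 0 < m) (hf0 : f ≠ 0) (hg0 : g ≠ 0) (hfg : IsRelPrime f g)
    (hT : IsRelPrime
      (MvPolynomial.aeval (Fin.cons (MvPolynomial.X 0) (Fin.cons (MvPolynomial.X 1)
        (Fin.cons 0 Fin.elim0)) : Fin 3 → MvPolynomial (Fin 2) k) f)
      (MvPolynomial.aeval (Fin.cons (MvPolynomial.X 0) (Fin.cons (MvPolynomial.X 1)
        (Fin.cons 0 Fin.elim0)) : Fin 3 → MvPolynomial (Fin 2) k) g)) :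
    Module.finrank k (MvPolynomial (Fin 2) k ⧸ Ideal.span
      ({MvPolynomial.aeval (Fin.cons (MvPolynomial.X 0) (Fin.cons (MvPolynomial.X 1)
          (Fin.cons 1 Fin.elim0)) : Fin 3 → MvPolynomial (Fin 2) k) f,
        MvPolynomial.aeval (Fin.cons (MvPolynomial.X 0) (Fin.cons (MvPolynomial.X 1)
          (Fin.cons 1 Fin.elim0)) : Fin 3 → MvPolynomial (Fin 2) k) g} :
        Set (MvPolynomial (Fin 2) k))) = n * m := by
  have hT' : IsRelPrime (aeval (sig k 0) f) (aeval (sig k 0) g) := hT
  obtain ⟨a1, a2, a3⟩ := facts (k := k) hf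
  obtain ⟨b1, b2, b3⟩ := facts (k := k) hg
  have hg00 : aeval (sig k 0) g ≠ 0 := ne_zero_of_relprime a3 hn hT'
  have hf00 : aeval (sig k 0) f ≠ 0 := ne_zero_of_relprime b3 hm hT'.symm
  exact final a1 (hc_F hf) a3 hf00 b1 (hc_F hg) b3 hg00 hT'

end Groth.Agent.S10827
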