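import Groth.Statements.S10828
import Mathlib.AlgebraicGeometry.ResidueField
import Mathlib.AlgebraicGeometry.Morphisms.Integral
import Mathlib.AlgebraicGeometry.Morphisms.Finite
import Mathlib.AlgebraicGeometry.AlgClosed.Basic
import Mathlib.FieldTheory.IsAlgClosed.Basic

set_option autoImplicit false
universe u
open CategoryTheory AlgebraicGeometry
open Variety

namespace Groth.Agent.S10828

/-- two algebraic closures of `E` are isomorphic over `E`. -/
theorem aux_equiv (E K₁ K₂ : Type u) [Field E] [Field K₁] [Field K₂] [Algebra E K₁] [Algebra E K₂]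
    [IsAlgClosed K₁] [IsAlgClosed K₂] [Algebra.IsAlgebraic E K₁] [Algebra.IsAlgebraic E K₂] :
    ∃ σ : K₁ ≃+* K₂, ∀ e : E, σ (algebraMap E K₁ e) = algebraMap E K₂ e := by
  haveI : IsAlgClosure E K₁ := ⟨inferInstance, inferInstance⟩
  haveI : IsAlgClosure E K₂ := ⟨inferInstance, inferInstance⟩
  exact ⟨(IsAlgClosure.equiv E K₁ K₂).toRingEquiv, fun e => (IsAlgClosure.equiv E K₁ K₂).commutes e⟩

/-- two embeddings of an algebraic extension `E/k` into an algebraic closure `K` of `k` differ by
a `k`-automorphism of `K`. -/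
theorem exists_aut {k E K : Type u} [Field k] [Field E] [Field K] [Algebra k K] [IsAlgClosure k K]
    (r : k →+* E) (φ φ' : E →+* K) (h : φ.comp r = algebraMap k K) (h' : φ'.comp r = algebraMap k K) :
    ∃ σ : K ≃ₐ[k] K, (σ : K →+* K).comp φ = φ' := by
  letI : Algebra k E := r.toAlgebra
  haveI : IsAlgClosed K := IsAlgClosure.isAlgClosed k
  haveI : Algebra.IsAlgebraic k K := IsAlgClosure.isAlgebraic
  have key : ∀ ψ : E →+* K, ψ.comp r = algebraMap k K → @Algebra.IsAlgebraic E K _ _ ψ.toAlgebra := by
    intro ψ hψ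
    letI : Algebra E K := ψ.toAlgebra
    haveI : IsScalarTower k E K := IsScalarTower.of_algebraMap_eq (fun a => (RingHom.congr_fun hψ a).symm)
    exact Algebra.IsAlgebraic.tower_top (K := k) E
  obtain ⟨σ, hσ⟩ := @aux_equiv E K K _ _ _ φ.toAlgebra φ'.toAlgebra _ _ (key φ h) (key φ' h')
  have hσ' : ∀ e : E, σ (φ e) = φ' e := hσ
  refine ⟨{ σ with commutes' := fun a => ?_ }, ?_⟩
  · have h1 : algebraMap k K a = φ (r a) := (RingHom.congr_fun h a).symm
    have h2 : algebraMap k K a = φ' (r a) := (RingHom.congr_fun h' a).symm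
    change σ (algebraMap k K a) = algebraMap k K a
    rw [h1]
    conv_rhs => rw [← h1, h2]
    exact hσ' (r a)
  · ext e
    exact hσ' e

/-- the structure map `k → κ(x)`. -/
noncomputable def φ₀ {k : Type u} [Field k] {X : Scheme.{u}} (f : X ⟶ Spec (CommRingCat.of k)) (x : X) :
    CommRingCat.of k ⟶ X.residueField x :=
  Spec.preimage (X.fromSpecResidueField x ≫ f)

theorem SpecMap_φ₀ {k : Type u} [Field k] {X : Scheme.{u}} (f : X ⟶ Spec (CommRingCat.of k)) (x : X) :
    Spec.map (φ₀ f x) = X.fromSpecResidueField x ≫ f := Spec.map_preimage _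

theorem φ₀_comp {k K : Type u} [Field k] [Field K] [Algebra k K] {X : Scheme.{u}}
    (f : X ⟶ Spec (CommRingCat.of k)) (x : X) (φ : X.residueField x ⟶ CommRingCat.of K)
    (h : (Spec.map φ ≫ X.fromSpecResidueField x) ≫ f =
      Spec.map (CommRingCat.ofHom (algebraMap k K))) :
    φ₀ f x ≫ φ = CommRingCat.ofHom (algebraMap k K) := by
  apply Spec.map_injective
  rw [Spec.map_comp, SpecMap_φ₀, ← Category.assoc]
  exact h

theorem closed_of_point {k K : Type u} [Field k] [Field K] [Algebra k K] [IsAlgClosure k K]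
    {X : Scheme.{u}} (f : X ⟶ Spec (CommRingCat.of k)) [LocallyOfFiniteType f]
    (p : Spec (CommRingCat.of K) ⟶ X)
    (hp : p ≫ f = Spec.map (CommRingCat.ofHom (algebraMap k K))) :
    IsClosed ({p (IsLocalRing.closedPoint K)} : Set X) := by
  haveI : JacobsonSpace X := LocallyOfFiniteType.jacobsonSpace f
  apply isClosed_singleton_of_isLocallyClosed_singleton
  set x := p (IsLocalRing.closedPoint K) with hx
  obtain ⟨U, hU, hxU, -⟩ := exists_isAffineOpen_mem_and_subset (x := x) (U := ⊤) trivial
  have hall : ∀ y : Spec (CommRingCat.of K), y = IsLocalRing.closedPoint K := fun y =>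
    Subsingleton.elim _ _
  have hrange : Set.range p ⊆ Set.range U.ι := by
    rintro _ ⟨y, rfl⟩
    rw [hall y, Scheme.Opens.range_ι]
    exact hxU
  let p' : Spec (CommRingCat.of K) ⟶ U.toScheme := IsOpenImmersion.lift U.ι p hrange
  have hp' : p' ≫ U.ι = p := IsOpenImmersion.lift_fac _ _ _
  haveI : IsAffine U.toScheme := hU
  haveI : Algebra.IsAlgebraic k K := IsAlgClosure.isAlgebraic
  haveI : IsIntegralHom (p' ≫ (U.ι ≫ f)) := by
    rw [← Category.assoc, hp', hp, IsIntegralHom.SpecMap_iff]
    exact algebraMap_isIntegral_iff.mpr inferInstance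
  haveI : IsIntegralHom p' := IsIntegralHom.of_comp p' (U.ι ≫ f)
  have hcl : IsClosed (Set.range p') := p'.isClosedMap.isClosed_range
  have hr : Set.range p' = {p' (IsLocalRing.closedPoint K)} := by
    ext z
    constructor
    · rintro ⟨y, rfl⟩
      rw [hall y]; rfl
    · rintro rfl
      exact ⟨_, rfl⟩
  rw [hr] at hcl
  obtain ⟨Z, hZ, hZeq⟩ := isClosed_induced_iff.1 hcl
  have hxp : U.ι (p' (IsLocalRing.closedPoint K)) = x := by
    rw [hx, ← hp']; rfl
  refine ⟨(U : Set X), Z, U.isOpen, hZ, ?_⟩
  ext y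
  constructor
  · rintro rfl
    refine ⟨hxU, ?_⟩
    have : p' (IsLocalRing.closedPoint K) ∈ Subtype.val ⁻¹' Z :=
      (Set.ext_iff.1 hZeq (p' (IsLocalRing.closedPoint K))).2 rfl
    rw [← hxp]
    exact this
  · rintro ⟨hyU, hyZ⟩
    have h2 : (⟨y, hyU⟩ : U) = p' (IsLocalRing.closedPoint K) :=
      (Set.ext_iff.1 hZeq (⟨y, hyU⟩ : U)).1 hyZ
    rw [Set.mem_singleton_iff, ← hxp, ← h2]
    rfl


/-- Let k be a field, K an algebraic closure of k with its group G of k-automorphisms, and X a k-scheme
locally of finite type. The map sending a K-valued point of X over k to its image point identifies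
the closed points of X with the G-orbits in X(K): a point is closed if and only if it is the image
of some K-valued point, and two K-valued points have the same image if and only if one is obtained
from the other by composing with Spec of a k-automorphism of K. -/
theorem result (k K : Type u) [Field k] [Field K]
    [Algebra k K] [IsAlgClosure k K] {X : Scheme.{u}} (f : X ⟶ Spec (CommRingCat.of k))
    [LocallyOfFiniteType f] :
    (∀ x : X, IsClosed ({x} : Set X) ↔
        ∃ p : Spec (CommRingCat.of K) ⟶ X, p ≫ f = Spec.map (CommRingCat.ofHom (algebraMap k K)) ∧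
          p.base (IsLocalRing.closedPoint K) = x) ∧
      ∀ p q : Spec (CommRingCat.of K) ⟶ X,
        p ≫ f = Spec.map (CommRingCat.ofHom (algebraMap k K)) →
        q ≫ f = Spec.map (CommRingCat.ofHom (algebraMap k K)) →
          (p.base (IsLocalRing.closedPoint K) = q.base (IsLocalRing.closedPoint K) ↔
            ∃ σ : K ≃ₐ[k] K, q = Spec.map (CommRingCat.ofHom σ.toRingHom) ≫ p) := by
  haveI : JacobsonSpace X := LocallyOfFiniteType.jacobsonSpace f
  haveI : IsAlgClosed K := IsAlgClosure.isAlgClosed k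
  haveI : Algebra.IsAlgebraic k K := IsAlgClosure.isAlgebraic
  refine ⟨fun x => ⟨fun hx => ?_, ?_⟩, fun p q hp hq => ⟨fun e => ?_, ?_⟩⟩
  · -- closed point gives a K-point
    haveI : IsClosedImmersion (X.fromSpecResidueField x) :=
      isClosed_singleton_iff_isClosedImmersion.mp hx
    have hfin : IsFinite (X.fromSpecResidueField x ≫ f) := by
      rw [isFinite_iff_locallyOfFiniteType_of_jacobsonSpace]
      infer_instance
    rw [← SpecMap_φ₀, IsFinite.SpecMap_iff] at hfin
    letI : Algebra k (X.residueField x) := (φ₀ f x).hom.toAlgebra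
    haveI : Module.Finite k (X.residueField x) := hfin
    haveI : Algebra.IsAlgebraic k (X.residueField x) := Algebra.IsAlgebraic.of_finite k _
    let ψ : (X.residueField x) →ₐ[k] K := IsAlgClosed.lift
    refine ⟨Spec.map (CommRingCat.ofHom ψ.toRingHom) ≫ X.fromSpecResidueField x, ?_, ?_⟩
    · rw [Category.assoc, ← SpecMap_φ₀, ← Spec.map_comp]
      congr 1
      ext a
      exact ψ.commutes a
    · exact Scheme.fromSpecResidueField_apply x _
  · rintro ⟨p, hp, rfl⟩
    exact closed_of_point f p hp
  · -- same image ⇒ conjugate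
    have e1 := Scheme.descResidueField_stalkClosedPointTo_fromSpecResidueField K X p
    have e2 := Scheme.descResidueField_stalkClosedPointTo_fromSpecResidueField K X q
    have key : ∀ (x x' : X) (e : x = x') (φ : X.residueField x ⟶ CommRingCat.of K)
        (φ' : X.residueField x' ⟶ CommRingCat.of K),
        (Spec.map φ ≫ X.fromSpecResidueField x) ≫ f =
          Spec.map (CommRingCat.ofHom (algebraMap k K)) →
        (Spec.map φ' ≫ X.fromSpecResidueField x') ≫ f =
          Spec.map (CommRingCat.ofHom (algebraMap k K)) →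
        ∃ σ : K ≃ₐ[k] K, Spec.map φ' ≫ X.fromSpecResidueField x' =
          Spec.map (CommRingCat.ofHom σ.toRingHom) ≫ (Spec.map φ ≫ X.fromSpecResidueField x) := by
      intro x x' e φ φ' h h'
      subst e
      have h1 := φ₀_comp f x φ h
      have h2 := φ₀_comp f x φ' h'
      obtain ⟨σ, hσ⟩ := exists_aut (φ₀ f x).hom φ.hom φ'.hom
        (congrArg (fun g => g.hom) h1) (congrArg (fun g => g.hom) h2)
      refine ⟨σ, ?_⟩
      rw [← Category.assoc, ← Spec.map_comp]
      congr 2
      ext a
      exact (RingHom.congr_fun hσ a).symm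
    obtain ⟨σ, hσ⟩ := key _ _ e _ _ (by rw [e1]; exact hp) (by rw [e2]; exact hq)
    rw [e1, e2] at hσ
    exact ⟨σ, hσ⟩
  · rintro ⟨σ, rfl⟩
    change p _ = p (Spec.map (CommRingCat.ofHom σ.toRingHom) _)
    congr 1
    exact Subsingleton.elim _ _

end Groth.Agent.S10828
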