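import Groth.Statements.S10830
-- import your own Groth.Agent.* helpers here

set_option autoImplicit false
universe u
open Topology TopologicalSpace
open TopDim

namespace Groth.Agent.S10830

/-- In an irreducible topological space X of finite Krull dimension, every proper closed subset Y has
strictly smaller Krull dimension than X. -/
theorem result (X : Type u) [TopologicalSpace X]
    [IrreducibleSpace X] (hfin : topologicalKrullDim X ≠ ⊤) (Y : Set X) (hY : IsClosed Y) (hYX : Y ≠ Set.univ) :
    topologicalKrullDim ↥Y < topologicalKrullDim X := by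
  classical
  have key : ∀ a : WithBot ℕ∞, a ≠ ⊥ → a ≠ ⊤ → a < a + 1 := by
    intro a h0 h1
    induction a with
    | bot => exact absurd rfl h0
    | coe n =>
      induction n with
      | top => exact absurd rfl h1
      | coe m => exact_mod_cast Nat.lt_succ_self m
  let topX : IrreducibleCloseds X :=
    ⟨Set.univ, (irreducibleSpace_def X).1 inferInstance, isClosed_univ⟩
  have hneX : Nonempty (IrreducibleCloseds X) := ⟨topX⟩
  by_cases hYe : IsEmpty ↥Y
  · have : IsEmpty (IrreducibleCloseds ↥Y) := ⟨fun Z => hYe.elim Z.isIrreducible.nonempty.some⟩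
    have h1 : topologicalKrullDim ↥Y = ⊥ := Order.krullDim_eq_bot
    rw [h1, bot_lt_iff_ne_bot]
    exact Order.krullDim_ne_bot_iff.2 hneX
  · have hYne : Nonempty ↥Y := not_isEmpty_iff.1 hYe
    obtain ⟨y⟩ := hYne
    have hneY : Nonempty (IrreducibleCloseds ↥Y) :=
      ⟨⟨closure {y}, isIrreducible_singleton.closure, isClosed_closure⟩⟩
    let φ : IrreducibleCloseds ↥Y → IrreducibleCloseds X :=
      IrreducibleCloseds.map (Subtype.val : ↥Y → X) continuous_subtype_val
    have hφ : StrictMono φ :=
      IrreducibleCloseds.map_strictMono_of_isInducing Topology.IsInducing.subtypeVal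
    have hφlt : ∀ Z : IrreducibleCloseds ↥Y, φ Z < topX := by
      intro Z
      refine lt_of_le_of_ne (fun x _ => Set.mem_univ x) ?_
      intro h
      apply hYX
      have h2 : (φ Z : Set X) ⊆ Y := by
        show closure (Subtype.val '' (Z : Set ↥Y)) ⊆ Y
        apply closure_minimal _ hY
        rintro _ ⟨z, _, rfl⟩
        exact z.2
      have h3 : (φ Z : Set X) = Set.univ := congrArg (fun W : IrreducibleCloseds X => (W : Set X)) h
      rw [h3] at h2
      exact Set.eq_univ_of_univ_subset h2
    let ψ : WithTop (IrreducibleCloseds ↥Y) → IrreducibleCloseds X := fun z =>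
      match z with
      | ⊤ => topX
      | (Z : IrreducibleCloseds ↥Y) => φ Z
    have hψ : StrictMono ψ := by
      intro a b hab
      induction a with
      | top => exact absurd hab (not_top_lt)
      | coe Za =>
        induction b with
        | top => exact hφlt Za
        | coe Zb => exact hφ (WithTop.coe_lt_coe.1 hab)
    have h1 : topologicalKrullDim ↥Y + 1 ≤ topologicalKrullDim X := by
      unfold topologicalKrullDim
      rw [← Order.krullDim_WithTop]
      exact Order.krullDim_le_of_strictMono ψ hψ
    have h2 : topologicalKrullDim ↥Y ≤ topologicalKrullDim X :=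
      topologicalKrullDim_subspace_le X Y
    have h3 : topologicalKrullDim ↥Y ≠ ⊤ := fun h => hfin (top_le_iff.1 (h ▸ h2))
    have h4 : topologicalKrullDim ↥Y ≠ ⊥ := Order.krullDim_ne_bot_iff.2 hneY
    exact lt_of_lt_of_le (key _ h4 h3) h1

end Groth.Agent.S10830
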