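import Groth.Statements.S10831
-- import your own Groth.Agent.* helpers here

set_option autoImplicit false
universe u
open Topology TopologicalSpace
open TopDim

namespace Groth.Agent.S10831

/-- The preimage in a subspace `Y` of an irreducible closed subset of `X` contained in `Y`. -/
def restrictIC {X : Type u} [TopologicalSpace X] (Y : Set X) (Z : IrreducibleCloseds X)
    (hZ : (Z : Set X) ⊆ Y) : IrreducibleCloseds ↥Y where
  carrier := Subtype.val ⁻¹' (Z : Set X)
  isIrreducible' := by
    refine ⟨?_, ?_⟩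
    · obtain ⟨z, hz⟩ := Z.isIrreducible.nonempty
      exact ⟨⟨z, hZ hz⟩, hz⟩
    · intro u' v' hu' hv' hu hv
      obtain ⟨u, hu0, rfl⟩ := isOpen_induced_iff.1 hu'
      obtain ⟨v, hv0, rfl⟩ := isOpen_induced_iff.1 hv'
      obtain ⟨a, ha1, ha2⟩ := hu
      obtain ⟨b, hb1, hb2⟩ := hv
      obtain ⟨x, hx1, hx2, hx3⟩ := Z.isIrreducible.isPreirreducible u v hu0 hv0
        ⟨a.1, ha1, ha2⟩ ⟨b.1, hb1, hb2⟩
      exact ⟨⟨x, hZ hx1⟩, hx1, hx2, hx3⟩
  isClosed' := Z.isClosed.preimage continuous_subtype_val

/-- The Krull dimension of a topological space is the supremum of the Krull dimensions of its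
irreducible components. -/
theorem result (X : Type u) [TopologicalSpace X] :
    topologicalKrullDim X = ⨆ Y ∈ irreducibleComponents X, topologicalKrullDim ↥Y := by
  apply le_antisymm
  · unfold topologicalKrullDim
    rw [Order.krullDim_eq_iSup_height]
    apply iSup_le
    intro Z
    obtain ⟨Y, hY, hZY⟩ :=
      exists_mem_irreducibleComponents_subset_of_isIrreducible (Z : Set X) Z.isIrreducible
    have h1 : ((Order.height Z : ℕ∞) : WithBot ℕ∞) ≤ Order.krullDim (IrreducibleCloseds ↥Y) := by
      rw [Order.height_eq_krullDim_Iic]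
      refine Order.krullDim_le_of_strictMono
        (fun W : Set.Iic Z => restrictIC Y W.1 (fun x hx => hZY (W.2 hx))) ?_
      intro W₁ W₂ h
      have hle : (W₁.1 : Set X) ⊆ (W₂.1 : Set X) := h.le
      refine lt_of_le_of_ne (fun y hy => hle hy) ?_
      intro heq
      apply h.ne
      apply Subtype.ext
      apply IrreducibleCloseds.ext
      apply Set.Subset.antisymm hle
      intro x hx
      have hxY : x ∈ Y := hZY (W₂.2 hx)
      have heq' : (restrictIC Y W₁.1 (fun x hx => hZY (W₁.2 hx)) : Set ↥Y) =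
          (restrictIC Y W₂.1 (fun x hx => hZY (W₂.2 hx)) : Set ↥Y) :=
        congrArg (fun W : IrreducibleCloseds ↥Y => (W : Set ↥Y)) heq
      have h2 : (⟨x, hxY⟩ : ↥Y) ∈ (restrictIC Y W₂.1 (fun x hx => hZY (W₂.2 hx)) : Set ↥Y) := hx
      rw [← heq'] at h2
      exact h2
    refine le_trans h1 ?_
    exact le_iSup₂ (f := fun Y (_ : Y ∈ irreducibleComponents X) => topologicalKrullDim ↥Y) Y hY
  · apply iSup₂_le
    intro Y _
    exact topologicalKrullDim_subspace_le X Y

end Groth.Agent.S10831
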