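import Groth.Statements.S10832
import Mathlib.AlgebraicGeometry.Artinian
import Mathlib.RingTheory.Jacobson.Artinian
import Mathlib.Topology.JacobsonSpace
import Mathlib.AlgebraicGeometry.Limits
import Mathlib.AlgebraicGeometry.Noetherian
import Mathlib.AlgebraicGeometry.Morphisms.QuasiSeparated
-- import your own Groth.Agent.* helpers here

set_option autoImplicit false
universe u
open CategoryTheory AlgebraicGeometry Topology
open Variety

namespace Groth.Agent.S10832

open TopologicalSpace Opposite in
/-- On a discrete scheme, global sections are families of germs. -/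
theorem germ_bijective_of_discrete (X : Scheme.{u}) [DiscreteTopology X] :
    Function.Bijective (fun s : Γ(X, ⊤) => fun x : X => X.presheaf.germ ⊤ x trivial s) := by
  constructor
  · intro s t h
    refine TopCat.Presheaf.section_ext X.sheaf ⊤ s t fun x hx => ?_
    exact congrFun h x
  · intro t
    let U : X → X.Opens := fun x => ⟨{x}, isOpen_discrete _⟩
    have hxU : ∀ x, x ∈ U x := fun x => rfl
    -- each germ comes from a section on `{x}`
    have key : ∀ x : X, ∃ s : Γ(X, U x), X.presheaf.germ (U x) x (hxU x) s = t x := by
      intro x
      obtain ⟨V, hxV, s, hs⟩ := X.presheaf.exists_germ_eq (x := x) (t x)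
      have hle : U x ≤ V := by
        intro y hy
        have : y = x := hy
        rw [this]; exact hxV
      refine ⟨X.presheaf.map (homOfLE hle).op s, ?_⟩
      rw [TopCat.Presheaf.germ_res_apply]
      exact hs
    choose sf hsf using key
    have hcompat : TopCat.Presheaf.IsCompatible X.sheaf.1 U sf := by
      intro x y
      by_cases hxy : x = y
      · subst hxy
        rfl
      · have hbot : U x ⊓ U y = ⊥ := by
          ext z
          simp only [Opens.coe_inf, Opens.coe_bot, Set.mem_inter_iff, Set.mem_empty_iff_false,
            iff_false, not_and]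
          intro hzx hzy
          exact hxy ((show z = x from hzx).symm.trans hzy)
        have : Subsingleton Γ(X, U x ⊓ U y) := by rw [hbot]; infer_instance
        exact @Subsingleton.elim Γ(X, U x ⊓ U y) this _ _
    obtain ⟨s, hs, -⟩ := X.sheaf.existsUnique_gluing' U ⊤ (fun x => homOfLE le_top)
      (fun x _ => Opens.mem_iSup.mpr ⟨x, hxU x⟩) sf hcompat
    refine ⟨s, funext fun x => ?_⟩
    change X.presheaf.germ ⊤ x trivial s = t x
    rw [← hsf x, ← hs x]
    exact (TopCat.Presheaf.germ_res_apply X.presheaf (homOfLE le_top) x (hxU x) s).symm

open TopologicalSpace in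
/-- For a nonempty scheme X of finite type over a field k the following are equivalent: X has Krull
dimension 0; X is affine with ring of global sections finite over k and equal to the product of all
its local rings via the germ maps; the underlying space of X is discrete; the underlying space of X
is finite. -/
theorem result (k : Type u) [Field k] {X : Scheme.{u}} [Nonempty X]
    (f : X ⟶ Spec (CommRingCat.of k)) [LocallyOfFiniteType f] [QuasiCompact f] :
    [topologicalKrullDim ↥X = 0,
      IsAffine X ∧ f.appTop.hom.Finite ∧
        Function.Bijective (fun s : Γ(X, ⊤) => fun x : X => X.presheaf.germ ⊤ x trivial s),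
      DiscreteTopology ↥X,
      Finite ↥X].TFAE := by
  have hcompact : CompactSpace X := (quasiCompact_iff_compactSpace f).mp inferInstance
  have hnoeth : IsLocallyNoetherian X := LocallyOfFiniteType.isLocallyNoetherian f
  have hjac : JacobsonSpace X := LocallyOfFiniteType.jacobsonSpace f
  have hartk : IsArtinianRing Γ(Spec (CommRingCat.of k), ⊤) :=
    (Scheme.ΓSpecIso (CommRingCat.of k)).commRingCatIsoToRingEquiv.symm.surjective.isArtinianRing
  tfae_have 1 → 3 := by
    intro h
    have := IsLocallyArtinian.of_topologicalKrullDim_le_zero (X := X) h.le
    infer_instance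
  tfae_have 3 → 4 := by
    intro h
    exact finite_of_compact_of_discrete
  tfae_have 4 → 3 := by
    intro h
    infer_instance
  tfae_have 3 → 1 := by
    intro h
    apply le_antisymm (topologicalKrullDim_zero_of_discreteTopology X)
    have : Nonempty (IrreducibleCloseds X) := by
      obtain ⟨x⟩ := ‹Nonempty X›
      exact ⟨⟨closure {x}, isIrreducible_singleton.closure, isClosed_closure⟩⟩
    exact Order.krullDim_nonneg
  tfae_have 3 → 2 := by
    intro h
    have hfin : Finite X := finite_of_compact_of_discrete
    have haff : IsAffine X := inferInstance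
    refine ⟨haff, ?_, germ_bijective_of_discrete X⟩
    have hart : IsLocallyArtinian X := .of_isLocallyNoetherian_of_discreteTopology
    have hA : IsArtinianRing Γ(X, ⊤) := inferInstance
    have hft : f.appTop.hom.FiniteType :=
      (HasRingHomProperty.iff_of_isAffine (P := @LocallyOfFiniteType)).mp inferInstance
    algebraize [f.appTop.hom]
    exact (Module.finite_iff_isArtinianRing _ _).mpr hA
  tfae_have 2 → 4 := by
    rintro ⟨haff, hfin, -⟩
    algebraize [f.appTop.hom]
    have hA : IsArtinianRing Γ(X, ⊤) :=
      (Module.finite_iff_isArtinianRing Γ(Spec (CommRingCat.of k), ⊤) Γ(X, ⊤)).mp hfin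
    have : Finite (PrimeSpectrum Γ(X, ⊤)) := inferInstance
    exact Finite.of_equiv _ X.isoSpec.hom.homeomorph.symm.toEquiv
  tfae_finish

end Groth.Agent.S10832
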