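import Groth.Statements.S10833
import Groth.Agent.Lib.FTDim
-- import your own Groth.Agent.* helpers here

set_option autoImplicit false
universe u
open Variety

namespace Groth.Agent.S10833

/-- Let k be a field and A a k-algebra of finite type that is an integral domain. Then every chain of
prime ideals of A admitting no refinement — it starts at the zero ideal, ends at a maximal ideal,
and no prime ideal lies strictly between two consecutive members — has length equal to the Krull
dimension of A. -/
theorem result (k A : Type u) [Field k] [CommRing A]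
    [IsDomain A] [Algebra k A] [Algebra.FiniteType k A] (c : LTSeries (PrimeSpectrum A))
    (h0 : c.head.asIdeal = ⊥) (hmax : c.last.asIdeal.IsMaximal)
    (hsat : ∀ i : Fin c.length, c i.castSucc ⋖ c i.succ) :
    (c.length : WithBot ℕ∞) = ringKrullDim A := by
  have key : ∀ (i : ℕ) (hi : i < c.length + 1), (c ⟨i, hi⟩).asIdeal.height = i := by
    intro i
    induction i with
    | zero =>
      intro hi
      have h1 : c ⟨0, hi⟩ = c.head := rfl
      rw [h1, h0, Ideal.height_bot]
      rfl
    | succ i ih =>
      intro hi
      have hcov := hsat ⟨i, by omega⟩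
      have e1 : c (Fin.castSucc (⟨i, by omega⟩ : Fin c.length)) = c ⟨i, by omega⟩ := rfl
      have e2 : c (Fin.succ (⟨i, by omega⟩ : Fin c.length)) = c ⟨i + 1, hi⟩ := rfl
      rw [e1, e2] at hcov
      have hlt : (c ⟨i, by omega⟩).asIdeal < (c ⟨i + 1, hi⟩).asIdeal := hcov.lt
      have h1 := Groth.Agent.Lib.FTDim.height_add_one_of_covBy k A (c ⟨i, by omega⟩).asIdeal
        (c ⟨i + 1, hi⟩).asIdeal hlt (fun r hr h1 h2 =>
          hcov.2 (c := ⟨r, hr⟩) h1 h2)
      rw [h1, ih (by omega)]
      push_cast
      rfl
  obtain ⟨n, hn, hmax'⟩ := Groth.Agent.Lib.FTDim.exists_ringKrullDim_eq k A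
  have h1 := hmax' c.last.asIdeal hmax
  have h2 : c.last = c ⟨c.length, by omega⟩ := rfl
  rw [h2, key c.length (by omega)] at h1
  rw [hn]
  have : c.length = n := by exact_mod_cast h1
  rw [this]

end Groth.Agent.S10833
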