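import Groth.Statements.S10834
import Groth.Agent.Lib.H14SerreNormal
import Groth.Agent.Lib.H14CMQuot

set_option autoImplicit false
universe u
open CAlg

namespace Groth.Agent.S10834

/-- Let A be a Noetherian ring whose localizations at all prime ideals are regular local rings, and f an
element of A generating a prime ideal, so that A/(f) is an integral domain (an integral hypersurface
in the regular affine scheme Spec A). Then A/(f) is normal (integrally closed in its fraction field)
if and only if it is regular in codimension 1, i.e. its localization at every prime at which the
local ring has dimension 1 is a regular local ring. -/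
theorem result (A : Type u) [CommRing A]
    [IsNoetherianRing A] (hreg : ∀ (p : Ideal A) (_ : p.IsPrime), IsRegularLocalRing (Localization.AtPrime p))
    (f : A) (hf : (Ideal.span ({f} : Set A)).IsPrime) :
    IsIntegrallyClosed (A ⧸ Ideal.span ({f} : Set A)) ↔
      ∀ q : PrimeSpectrum (A ⧸ Ideal.span ({f} : Set A)),
        ringKrullDim (Localization.AtPrime q.asIdeal) = 1 →
          IsRegularLocalRing (Localization.AtPrime q.asIdeal) := by
  haveI := hf
  set I : Ideal A := Ideal.span ({f} : Set A) with hI
  constructor
  · intro hic q hq
    haveI : IsIntegrallyClosed (Localization.AtPrime q.asIdeal) :=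
      isIntegrallyClosed_of_isLocalization _ q.asIdeal.primeCompl
        q.asIdeal.primeCompl_le_nonZeroDivisors
    exact Groth.Agent.Lib.H14SerreNormal.isRegularLocalRing_of_normal _ hq.le
  · intro h
    have hCM : ∀ (q : Ideal (A ⧸ I)) [q.IsPrime],
        LocCoh.IsCohenMacaulayLocalRing (Localization.AtPrime q) := by
      intro q _
      haveI : IsRegularLocalRing (Localization.AtPrime (q.comap (Ideal.Quotient.mk I))) :=
        hreg _ inferInstance
      haveI : IsDomain (Localization.AtPrime (q.comap (Ideal.Quotient.mk I))) :=
        Groth.Agent.Lib.RegularLocal.isDomain _
      haveI : LocCoh.IsCohenMacaulayLocalRing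
          (Localization.AtPrime (q.comap (Ideal.Quotient.mk I))) :=
        Groth.Agent.Lib.H8CM.isCMLocalRing_of_isRegularLocalRing
      exact Groth.Agent.Lib.H14CMQuot.isCMLocalRing_localization_quotient_span_singleton f q
    apply Groth.Agent.Lib.H14SerreNormal.isIntegrallyClosed_of_domain
    · -- R₁
      intro q _ hq
      have hdim : ringKrullDim (Localization.AtPrime q) = q.height :=
        IsLocalization.AtPrime.ringKrullDim_eq_height q _
      by_cases h1 : q.height = 1
      · apply h ⟨q, inferInstance⟩
        show ringKrullDim (Localization.AtPrime q) = 1
        rw [hdim, h1]; rfl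
      · have h0 : q.height = 0 := by
          have hq' : q.height ≤ 1 := by exact_mod_cast hq
          rcases lt_or_eq_of_le hq' with hlt | heq
          · exact Order.lt_one_iff.mp hlt
          · exact absurd heq h1
        have hK : Ring.KrullDimLE 0 (Localization.AtPrime q) := by
          rw [Ring.krullDimLE_iff, hdim, h0]; rfl
        have hfield : IsField (Localization.AtPrime q) := Ring.KrullDimLE.isField_of_isDomain
        haveI : IsPrincipalIdealRing (Localization.AtPrime q) := hfield.isPrincipalIdealRing
        infer_instance
    · -- S₂
      rw [Groth.Agent.Lib.H8CM.hasSk_self_iff]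
      intro q _
      have hcm := (hCM q).supportDim_eq_depth
      rw [Module.supportDim_self_eq_ringKrullDim,
        IsLocalization.AtPrime.ringKrullDim_eq_height q] at hcm
      have : q.height = LocCoh.depth (Localization.AtPrime q) (Localization.AtPrime q) := by
        exact_mod_cast hcm
      rw [← this]
      exact min_le_right _ _

end Groth.Agent.S10834
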