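import Groth.Statements.S10835
import Groth.Agent.Lib.SepGenHypersurface
import Groth.Agent.Lib.FunctionFieldIso37

set_option autoImplicit false
universe u
open CategoryTheory AlgebraicGeometry
attribute [local instance] Curv2.stalkAlgebra
open Variety

namespace Groth.Agent.S10835

theorem essFiniteType_stalkMap (k : Type u) [Field k] (X : Scheme.{u})
    [X.Over (Spec (CommRingCat.of k))]
    [LocallyOfFiniteType (X ↘ Spec (CommRingCat.of k))] (x : X) :
    (Curv2.stalkMap k X x).EssFiniteType := by
  have h1 : Curv2.stalkMap k X x = ((X ↘ Spec (CommRingCat.of k)).stalkMap x).hom.comp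
      ((((Spec (CommRingCat.of k)).presheaf.Γgerm ((X ↘ Spec (CommRingCat.of k)) x)).hom).comp
        (Scheme.ΓSpecIso (CommRingCat.of k)).inv.hom) := by
    ext a
    simp only [Curv2.stalkMap, Coh.toGlobal, RingHom.comp_apply]
    exact (Scheme.Hom.germ_stalkMap_apply (X ↘ Spec (CommRingCat.of k)) ⊤ x trivial _).symm
  rw [h1]
  refine RingHom.EssFiniteType.comp (RingHom.EssFiniteType.comp ?_ ?_)
    (LocallyOfFiniteType.stalkMap (X ↘ Spec (CommRingCat.of k)) x)
  · apply RingHom.FiniteType.essFiniteType
    apply RingHom.FiniteType.of_surjective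
    exact ((ConcreteCategory.isIso_iff_bijective
      (Scheme.ΓSpecIso (CommRingCat.of k)).inv).mp inferInstance).2
  · let p : ((⊤ : (Spec (CommRingCat.of k)).Opens)) :=
      ⟨(X ↘ Spec (CommRingCat.of k)) x, trivial⟩
    let := (Spec (CommRingCat.of k)).presheaf.algebra_section_stalk p
    have hloc := (isAffineOpen_top (Spec (CommRingCat.of k))).isLocalization_stalk p
    exact @Algebra.EssFiniteType.of_isLocalization _ _ _ _ _
      ((isAffineOpen_top (Spec (CommRingCat.of k))).primeIdealOf p).asIdeal.primeCompl hloc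

theorem geom (k : Type u) [Field k] (X : Scheme.{u}) [X.Over (Spec (CommRingCat.of k))]
    [IsIntegral X] [LocallyOfFiniteType (X ↘ Spec (CommRingCat.of k))]
    (B : Type u) [CommRing B] [IsDomain B] [Algebra k B] [Algebra.FiniteType k B]
    (ψ : B →ₐ[k] X.presheaf.stalk (genericPoint X)) (hψinj : Function.Injective ψ)
    (hψfrac : ∀ z, ∃ a b : B, b ≠ 0 ∧ z = ψ a / ψ b) :
    ∃ (U : X.Opens) (V : (Spec (CommRingCat.of B)).Opens) (e : (U : Scheme.{u}) ≅ (V : Scheme.{u})),
        (U : Set X).Nonempty ∧ (V : Set (Spec (CommRingCat.of B))).Nonempty ∧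
        e.hom ≫ V.ι ≫ Spec.map (CommRingCat.ofHom (algebraMap k B)) =
          U.ι ≫ (X ↘ Spec (CommRingCat.of k)) := by
  let K := X.presheaf.stalk (genericPoint X)
  let Y : Scheme.{u} := Spec (CommRingCat.of B)
  let : Y.Over (Spec (CommRingCat.of k)) := ⟨Spec.map (CommRingCat.ofHom (algebraMap k B))⟩
  have : IsIntegral Y := inferInstance
  have : LocallyOfFiniteType (Y ↘ Spec (CommRingCat.of k)) := by
    show LocallyOfFiniteType (Spec.map (CommRingCat.ofHom (algebraMap k B)))
    rw [HasRingHomProperty.Spec_iff (P := @LocallyOfFiniteType)]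
    exact RingHom.finiteType_algebraMap.mpr inferInstance
  let algBK : Algebra B K := ψ.toRingHom.toAlgebra
  have : FaithfulSMul B K := (faithfulSMul_iff_algebraMap_injective B K).mpr hψinj
  have : IsFractionRing B K := IsFractionRing.of_field B K (fun z => by
    obtain ⟨a, b, hb, h⟩ := hψfrac z
    exact ⟨a, b, h⟩)
  have : IsDomain (CommRingCat.of B) := ‹IsDomain B›
  let algBY : Algebra B Y.functionField :=
    AlgebraicGeometry.instAlgebraCarrierFunctionFieldSpec (CommRingCat.of B)
  have : IsFractionRing B Y.functionField :=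
    functionField_isFractionRing_of_affine (CommRingCat.of B)
  let E : K ≃ₐ[B] Y.functionField :=
    IsLocalization.algEquiv (nonZeroDivisors B) K Y.functionField
  let e : X.functionField ≅ Y.functionField := E.toRingEquiv.toCommRingCatIso
  have he : e.hom.hom.comp (Curv2.stalkMap k X (genericPoint X)) =
      Curv2.stalkMap k Y (genericPoint Y) := by
    ext c
    show E (Curv2.stalkMap k X (genericPoint X) c) = _
    have h1 : Curv2.stalkMap k X (genericPoint X) c = algebraMap B K (algebraMap k B c) :=
      (ψ.commutes c).symm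
    rw [h1, E.commutes]
    have h2 := congrArg (fun t => t.hom c)
      (Scheme.ΓSpecIso_inv_naturality (CommRingCat.ofHom (algebraMap k B)))
    have h3 : Curv2.stalkMap k Y (genericPoint Y) c =
        (Y.presheaf.germ ⊤ (genericPoint Y) trivial).hom
          ((Scheme.ΓSpecIso (CommRingCat.of B)).inv.hom (algebraMap k B c)) := by
      show (Y.presheaf.germ ⊤ (genericPoint Y) trivial).hom
          ((Spec.map (CommRingCat.ofHom (algebraMap k B))).appTop.hom
            ((Scheme.ΓSpecIso (CommRingCat.of k)).inv.hom c)) = _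
      exact congrArg _ h2.symm
    rw [h3]
    rfl
  obtain ⟨U, V, hU, φ, hφ⟩ := Groth.Agent.Lib.FunctionFieldIso37.exists_open_iso k X Y e he
  refine ⟨U, V, φ, hU, ?_, hφ⟩
  obtain ⟨x, hx⟩ := hU
  exact ⟨V.ι (φ.hom ⟨x, hx⟩), (φ.hom ⟨x, hx⟩).2⟩

/-- Let k be a field and X an integral scheme of finite type over k whose function field admits a
transcendence basis s_1, …, s_d over k over which it is separable algebraic (this holds whenever the
function field is a separable extension of k in the sense of field theory, e.g. for k perfect, and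
then d = dim X). Then some nonempty open subscheme of X is isomorphic, over k, to a nonempty open
subscheme of Spec k[T_1, …, T_d][T]/(g) for a monic polynomial g over k[T_1, …, T_d] which is
irreducible and separable over the fraction field k(T_1, …, T_d). -/
theorem result (k : Type u) [Field k]
    (X : Scheme.{u}) [X.Over (Spec (CommRingCat.of k))] [IsIntegral X]
    [LocallyOfFiniteType (X ↘ Spec (CommRingCat.of k))] [QuasiCompact (X ↘ Spec (CommRingCat.of k))]
    (d : ℕ) (s : Fin d → X.presheaf.stalk (genericPoint X)) (hs : IsTranscendenceBasis k s)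
    (hsep : Algebra.IsSeparable ↥(IntermediateField.adjoin k (Set.range s)) (X.presheaf.stalk (genericPoint X))) :
    ∃ (g : Polynomial (MvPolynomial (Fin d) k)), g.Monic ∧
      Irreducible (g.map (algebraMap (MvPolynomial (Fin d) k) (FractionRing (MvPolynomial (Fin d) k)))) ∧
      (g.map (algebraMap (MvPolynomial (Fin d) k) (FractionRing (MvPolynomial (Fin d) k)))).Separable ∧
      ∃ (U : X.Opens) (V : (Spec (CommRingCat.of (AdjoinRoot g))).Opens) (e : (U : Scheme.{u}) ≅ (V : Scheme.{u})),
        (U : Set X).Nonempty ∧ (V : Set (Spec (CommRingCat.of (AdjoinRoot g)))).Nonempty ∧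
        e.hom ≫ V.ι ≫ Spec.map (CommRingCat.ofHom (algebraMap k (AdjoinRoot g))) =
          U.ι ≫ (X ↘ Spec (CommRingCat.of k)) := by
  classical
  have hess : Algebra.EssFiniteType k (X.presheaf.stalk (genericPoint X)) :=
    essFiniteType_stalkMap k X (genericPoint X)
  obtain ⟨g, hgm, hirr, hsep', hprime, ψ, hψinj, hψfrac⟩ :=
    Groth.Agent.Lib.SepGenHypersurface.alg_main k (X.presheaf.stalk (genericPoint X)) d s hs hsep
  refine ⟨g, hgm, hirr, hsep', ?_⟩
  have : IsDomain (AdjoinRoot g) := AdjoinRoot.isDomain_of_prime hprime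
  have : Algebra.FiniteType k (AdjoinRoot g) :=
    Algebra.FiniteType.trans (S := MvPolynomial (Fin d) k) inferInstance inferInstance
  exact geom k X (AdjoinRoot g) ψ hψinj hψfrac

end Groth.Agent.S10835
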