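import Groth.Statements.S10836
import Mathlib.RingTheory.LocalRing.Module
import Mathlib.RingTheory.Localization.Free
import Mathlib.RingTheory.Localization.Ideal
import Mathlib.RingTheory.Flat.Localization
-- import your own Groth.Agent.* helpers here

set_option autoImplicit false
universe u
open Coh

namespace Groth.Agent.S10836

open TensorProduct in
/-- At a maximal ideal, the rank at the stalk is the dimension of the fibre over `R ⧸ P`. -/
theorem finrank_quotient_tensor_eq_rankAtStalk {R M : Type*} [CommRing R] [AddCommGroup M]
    [Module R M] [Module.Finite R M] [Module.Flat R M] (P : Ideal R) [hP : P.IsMaximal] :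
    Module.finrank (R ⧸ P) ((R ⧸ P) ⊗[R] M) = Module.rankAtStalk M ⟨P, hP.isPrime⟩ := by
  let _ := Ideal.Quotient.field P
  rw [Module.rankAtStalk_eq]
  let e : P.ResidueField ⊗[R ⧸ P] ((R ⧸ P) ⊗[R] M) ≃ₗ[P.ResidueField] P.ResidueField ⊗[R] M :=
    AlgebraTensorModule.cancelBaseChange _ _ _ _ _
  change _ = Module.finrank P.ResidueField (P.ResidueField ⊗[R] M)
  rw [← e.finrank_eq]
  exact (Module.finrank_baseChange (R := P.ResidueField) (S := R ⧸ P)
    (M' := (R ⧸ P) ⊗[R] M)).symm

/-- The submonoid of elements outside every prime of `Z`. -/
def avoid {A : Type*} [CommRing A] (Z : Set (PrimeSpectrum A)) : Submonoid A :=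
  ⨅ p ∈ Z, p.asIdeal.primeCompl

theorem mem_avoid {A : Type*} [CommRing A] (Z : Set (PrimeSpectrum A)) (a : A) :
    a ∈ avoid Z ↔ ∀ p ∈ Z, a ∉ p.asIdeal := by
  simp [avoid, Submonoid.mem_iInf, Ideal.primeCompl]

/-- The localization at the complement of a finite union of primes is semilocal. -/
theorem finite_maximalSpectrum_localization {A : Type*} [CommRing A] (Z : Set (PrimeSpectrum A))
    (hZ : Z.Finite) : Finite (MaximalSpectrum (Localization (avoid Z))) := by
  classical
  have hdisj : ∀ p ∈ Z, Disjoint ((avoid Z : Submonoid A) : Set A) (p.asIdeal : Set A) := by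
    intro p hp
    rw [Set.disjoint_left]
    intro a ha hap
    exact (mem_avoid Z a).mp ha p hp hap
  have key : ∀ P : MaximalSpectrum (Localization (avoid Z)),
      ∃ p : Z, P.asIdeal.under A ≤ p.1.asIdeal := by
    intro P
    have hprime := (IsLocalization.isPrime_iff_isPrime_disjoint (avoid Z)
      (Localization (avoid Z)) P.asIdeal).mp P.isMaximal.isPrime
    have hsub : ((P.asIdeal.under A : Ideal A) : Set A) ⊆
        ⋃ p ∈ ((hZ.toFinset : Finset (PrimeSpectrum A)) : Set (PrimeSpectrum A)),
          (p.asIdeal : Set A) := by
      intro a ha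
      by_contra hcon
      have : a ∈ avoid Z := by
        rw [mem_avoid]
        intro p hp hap
        apply hcon
        simp only [Set.mem_iUnion]
        exact ⟨p, by simpa using hp, hap⟩
      exact Set.disjoint_left.mp hprime.2 this ha
    obtain ⟨p, hp, hle⟩ := (Ideal.subset_union_prime (f := fun p : PrimeSpectrum A => p.asIdeal)
      (s := hZ.toFinset) ⟨_, hprime.1⟩ ⟨_, hprime.1⟩ (fun i _ _ _ => i.isPrime)).mp hsub
    exact ⟨⟨p, by simpa using hp⟩, hle⟩
  choose g hg using key
  have : Finite Z := hZ.to_subtype
  refine Finite.of_injective g ?_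
  intro P Q hPQ
  have hP : P.asIdeal = (g P).1.asIdeal.map (algebraMap A (Localization (avoid Z))) := by
    have hne : ((g P).1.asIdeal.map (algebraMap A (Localization (avoid Z)))) ≠ ⊤ :=
      (IsLocalization.isPrime_of_isPrime_disjoint (avoid Z) _ _ (g P).1.isPrime
        (hdisj _ (g P).2)).ne_top
    refine P.isMaximal.eq_of_le hne ?_
    rw [← IsLocalization.map_under (avoid Z) (Localization (avoid Z)) P.asIdeal]
    exact Ideal.map_mono (hg P)
  have hQ : Q.asIdeal = (g Q).1.asIdeal.map (algebraMap A (Localization (avoid Z))) := by
    have hne : ((g Q).1.asIdeal.map (algebraMap A (Localization (avoid Z)))) ≠ ⊤ :=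
      (IsLocalization.isPrime_of_isPrime_disjoint (avoid Z) _ _ (g Q).1.isPrime
        (hdisj _ (g Q).2)).ne_top
    refine Q.isMaximal.eq_of_le hne ?_
    rw [← IsLocalization.map_under (avoid Z) (Localization (avoid Z)) Q.asIdeal]
    exact Ideal.map_mono (hg Q)
  apply MaximalSpectrum.ext
  rw [hP, hQ, hPQ]

/-- Let A be a commutative ring, M a finitely generated projective A-module whose rank at every prime is
r, and Z a finite set of prime ideals of A. Then there is an element s of A outside every prime of Z
such that the localized module M_s has a basis of r elements over A_s. (The published statement is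
for a finite locally free module of constant rank r on a scheme and a finite set of points inside an
affine open Spec A, and produces a basic open D(s) containing the points on which the module is free
of rank r; its argument begins by replacing the scheme with Spec A, and this row states that case.) -/
theorem result (A : Type u) [CommRing A]
    (M : Type u) [AddCommGroup M] [Module A M] [Module.Finite A M] [Module.Projective A M] (r : ℕ)
    (hr : ∀ p : PrimeSpectrum A, Module.rankAtStalk M p = r)
    (Z : Set (PrimeSpectrum A)) (hZ : Z.Finite) :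
    ∃ s : A, (∀ p ∈ Z, s ∉ p.asIdeal) ∧
      Nonempty (Module.Basis (Fin r) (Localization.Away s) (LocalizedModule (Submonoid.powers s) M)) := by
  have hfin := finite_maximalSpectrum_localization Z hZ
  have hbc : IsBaseChange (Localization (avoid Z)) (LocalizedModule.mkLinearMap (avoid Z) M) :=
    IsLocalizedModule.isBaseChange (avoid Z) (Localization (avoid Z))
      (LocalizedModule.mkLinearMap (avoid Z) M)
  have hrk : ∀ P : MaximalSpectrum (Localization (avoid Z)),
      Module.finrank (Localization (avoid Z) ⧸ P.1)
        (TensorProduct (Localization (avoid Z)) (Localization (avoid Z) ⧸ P.1)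
          (LocalizedModule (avoid Z) M)) = r := by
    intro P
    have := P.isMaximal
    rw [finrank_quotient_tensor_eq_rankAtStalk (M := LocalizedModule (avoid Z) M) P.1,
      Module.rankAtStalk_isBaseChange hbc, hr]
  obtain ⟨b⟩ := Module.nonempty_basis_of_flat_of_finrank_eq (Localization (avoid Z))
    (LocalizedModule (avoid Z) M) r hrk
  have : Module.FinitePresentation A M := Module.finitePresentation_of_projective A M
  obtain ⟨s, hs, b', -⟩ := Module.FinitePresentation.exists_basis_localizedModule_powers
    (avoid Z) (LocalizedModule.mkLinearMap (avoid Z) M) (Localization (avoid Z)) b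
  exact ⟨s, (mem_avoid Z s).mp hs, ⟨b'⟩⟩

end Groth.Agent.S10836
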