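import Groth.Statements.S10837
import Groth.Agent.Lib.ConsTop4
-- import your own Groth.Agent.* helpers here

set_option autoImplicit false
universe u
open CategoryTheory AlgebraicGeometry Topology
open Mor

namespace Groth.Agent.S10837

/-- For a morphism of schemes f : X → Y which is open as a map of topological spaces, generalizations
lift along f: every generalization of f(x) is the image of a generalization of x. -/
theorem result {X Y : Scheme.{u}} (f : X ⟶ Y) (hf : IsOpenMap f.base) :
    GeneralizingMap f.base := by
  intro x y' hy
  have hZ : ProCons.IsProConstructible (f.base ⁻¹' {y'}) :=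
    Groth.Agent.Lib.ConsTop.isProConstructible_preimage f
      (Groth.Agent.Lib.ConsTop.isProConstructible_singleton Y y')
  have hx : x ∈ closure (f.base ⁻¹' {y'}) := by
    rw [mem_closure_iff]
    intro O hO hxO
    have h1 : y' ∈ f.base '' O := hy.mem_open (hf O hO) ⟨x, hxO, rfl⟩
    obtain ⟨z, hzO, hz⟩ := h1
    exact ⟨z, hzO, hz⟩
  obtain ⟨z, hz, hzx⟩ := Groth.Agent.Lib.ConsTop.exists_specializes_of_mem_closure X hZ hx
  exact ⟨z, hzx, hz⟩

end Groth.Agent.S10837
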