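import Groth.Statements.S10838
import Groth.Agent.S10837
import Groth.Agent.Lib.DimLift
-- import your own Groth.Agent.* helpers here

set_option autoImplicit false
universe u
open CategoryTheory AlgebraicGeometry Topology
open Mor

namespace Groth.Agent.S10838

/-- For a morphism of schemes f : X → Y which is open as a map of topological spaces, the Krull
dimension of the image f(X) (with the subspace topology from Y) is at most the Krull dimension of X. -/
theorem result {X Y : Scheme.{u}} (f : X ⟶ Y) (hf : IsOpenMap f.base) :
    topologicalKrullDim ↥(Set.range f.base) ≤ topologicalKrullDim ↥X := by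
  have hg : GeneralizingMap f.base := Groth.Agent.S10837.result f hf
  have hopen : IsOpen (Set.range f.base) := hf.isOpen_range
  have : QuasiSober ↥(Set.range f.base) := hopen.isOpenEmbedding_subtypeVal.quasiSober
  refine Groth.Agent.Lib.DimLift.topDim_le_of_generalizingMap
    (Set.rangeFactorization f.base) (f.continuous.subtype_mk _)
    Set.rangeFactorization_surjective ?_
  intro x y hy
  have hy' : (y : Y) ⤳ f.base x := (subtype_specializes_iff _ _).mp hy
  obtain ⟨x', hx', hfx'⟩ := hg hy'
  exact ⟨x', hx', Subtype.ext hfx'⟩

end Groth.Agent.S10838
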