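import Groth.Statements.S10839
-- import your own Groth.Agent.* helpers here

set_option autoImplicit false
universe u
open CategoryTheory AlgebraicGeometry Topology
open Variety

namespace Groth.Agent.S10839

open TopologicalSpace in
/-- A proper closed subspace of an irreducible space has strictly smaller dimension: every chain
of length `n` of irreducible closed subsets of `Y` gives a chain of length `n + 1` in `X`. -/
theorem exists_ltSeries_succ {X Y : Type*} [TopologicalSpace X] [TopologicalSpace Y]
    [IrreducibleSpace X] {f : Y → X} (hf : IsClosedEmbedding f) (hne : Set.range f ≠ Set.univ)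
    (l : LTSeries (IrreducibleCloseds Y)) :
    ∃ l' : LTSeries (IrreducibleCloseds X), l'.length = l.length + 1 := by
  let l₁ : LTSeries (IrreducibleCloseds X) :=
    l.map (IrreducibleCloseds.map f hf.continuous)
      (IrreducibleCloseds.map_strictMono_of_isInducing hf.isInducing)
  let T : IrreducibleCloseds X :=
    ⟨Set.univ, IrreducibleSpace.isIrreducible_univ X, isClosed_univ⟩
  have hlast : l₁.last < T := by
    refine lt_of_le_of_ne (fun x _ => Set.mem_univ x) ?_
    intro h
    apply hne
    have h1 : (l₁.last : Set X) = Set.univ := congrArg (fun Z : IrreducibleCloseds X => (Z : Set X)) h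
    have h2 : (l₁.last : Set X) ⊆ Set.range f := by
      change closure (f '' _) ⊆ Set.range f
      exact hf.isClosed_range.closure_subset_iff.mpr (Set.image_subset_range _ _)
    exact Set.eq_univ_of_univ_subset (h1 ▸ h2)
  exact ⟨l₁.snoc T hlast, by simp [l₁]⟩

/-- A closed immersion i : Y → X into an integral scheme X with dim X = dim Y < ∞ is an isomorphism. -/
theorem result {X Y : Scheme.{u}} (i : Y ⟶ X)
    [IsClosedImmersion i] [IsIntegral X] (hfin : topologicalKrullDim ↥X ≠ ⊤)
    (hdim : topologicalKrullDim ↥X = topologicalKrullDim ↥Y) : IsIso i := by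
  have hsurj : Function.Surjective i.base := by
    rw [← Set.range_eq_univ]
    by_contra hne
    have h0 : (0 : WithBot ℕ∞) ≤ topologicalKrullDim ↥X := by
      unfold topologicalKrullDim
      have : Nonempty (TopologicalSpace.IrreducibleCloseds X) :=
        ⟨⟨Set.univ, IrreducibleSpace.isIrreducible_univ X, isClosed_univ⟩⟩
      exact Order.krullDim_nonneg
    obtain ⟨n, hn⟩ : ∃ n : ℕ, topologicalKrullDim ↥X = n := by
      generalize topologicalKrullDim ↥X = d at h0 hfin
      induction d using WithBot.recBotCoe with
      | bot => simp at h0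
      | coe d =>
        induction d using ENat.recTopCoe with
        | top => exact absurd rfl hfin
        | coe n => exact ⟨n, rfl⟩
    have hY : (n : WithBot ℕ∞) ≤ topologicalKrullDim ↥Y := by rw [← hdim, hn]
    obtain ⟨l, hl⟩ := Order.le_krullDim_iff.mp hY
    obtain ⟨l', hl'⟩ := exists_ltSeries_succ (IsClosedImmersion.isClosedEmbedding i) hne l
    have h1 : ((n + 1 : ℕ) : WithBot ℕ∞) ≤ topologicalKrullDim ↥X :=
      Order.le_krullDim_iff.mpr ⟨l', by rw [hl', hl]⟩
    rw [hn] at h1
    have : n + 1 ≤ n := by exact_mod_cast h1
    omega
  have : Surjective i := ⟨hsurj⟩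
  exact isIso_of_isClosedImmersion_of_surjective i

end Groth.Agent.S10839
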