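import Groth.Statements.S10840
import Groth.Agent.Lib.H8ProjDim2
import Groth.Agent.Lib.H8ProjPoly

set_option autoImplicit false
universe u
open AlgebraicGeometry Topology
open Variety

namespace Groth.Agent.S10840

/-- For a field k and nonzero homogeneous polynomials f, g of positive degrees in three variables, the
common zero set V_+(f, g) in the projective plane over k is zero-dimensional as a topological
subspace exactly when f and g are coprime, i.e. their only common divisors are the non-zero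
constants. -/
theorem result (k : Type u) [Field k] (n m : ℕ)
    (f g : MvPolynomial (Fin 3) k) (hf : f.IsHomogeneous n) (hg : g.IsHomogeneous m)
    (hn : 0 < n) (hm : 0 < m) (hf0 : f ≠ 0) (hg0 : g ≠ 0) :
    topologicalKrullDim ↥(ProjectiveSpectrum.zeroLocus (CohB1.polyGrading 2 k)
        ({f, g} : Set (MvPolynomial (Fin 3) k))) = 0 ↔ IsRelPrime f g := by
  classical
  have h0 := Groth.Agent.Lib.H8ProjPoly.h0 2 k
  haveI hmax := Groth.Agent.Lib.H8GradedFT.irrelevant_isMaximal (CohB1.polyGrading 2 k) h0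
  haveI hmp : (HomogeneousIdeal.irrelevant (CohB1.polyGrading 2 k)).toIdeal.IsPrime := hmax.isPrime
  have hdimA : ringKrullDim (MvPolynomial (Fin (2 + 1)) k) = ((3 : ℕ) : WithBot ℕ∞) :=
    Groth.Agent.Lib.FTDim.ringKrullDim_mvPolynomial k 3
  have hpos : ∀ (a : MvPolynomial (Fin (2 + 1)) k) (e : ℕ), a.IsHomogeneous e → 0 < e →
      a ∈ (HomogeneousIdeal.irrelevant (CohB1.polyGrading 2 k)).toIdeal := by
    intro a e ha he
    change _ ∈ HomogeneousIdeal.irrelevant (CohB1.polyGrading 2 k)
    rw [HomogeneousIdeal.mem_irrelevant_iff, GradedRing.proj_apply]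
    rw [DirectSum.decompose_of_mem_ne (CohB1.polyGrading 2 k)
      (ha : _ ∈ CohB1.polyGrading 2 k e) he.ne']
  have hWc : IsClosed (ProjectiveSpectrum.zeroLocus (CohB1.polyGrading 2 k)
      ({f, g} : Set (MvPolynomial (Fin 3) k))) := ProjectiveSpectrum.isClosed_zeroLocus _ _
  have hWmem : ∀ z : ProjectiveSpectrum (CohB1.polyGrading 2 k),
      z ∈ ProjectiveSpectrum.zeroLocus (CohB1.polyGrading 2 k)
        ({f, g} : Set (MvPolynomial (Fin 3) k)) ↔
      f ∈ z.asHomogeneousIdeal.toIdeal ∧ g ∈ z.asHomogeneousIdeal.toIdeal := by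
    intro z
    rw [ProjectiveSpectrum.mem_zeroLocus, Set.insert_subset_iff, Set.singleton_subset_iff]
    rfl
  -- height + dim = 3
  have hht : ∀ (Q : Ideal (MvPolynomial (Fin (2 + 1)) k)) [Q.IsPrime],
      (Q.height : WithBot ℕ∞) + ringKrullDim (MvPolynomial (Fin (2 + 1)) k ⧸ Q) =
        ((3 : ℕ) : WithBot ℕ∞) := by
    intro Q _
    rw [← hdimA]
    exact Groth.Agent.Lib.FTDim.height_add_ringKrullDim_quotient k _ Q
  rw [Groth.Agent.Lib.H8ProjDim.topologicalKrullDim_eq_zero_iff _ hWc]
  constructor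
  · rintro ⟨-, hmaxW⟩ c hcf hcg
    by_contra hcu
    have hc0 : c ≠ 0 := fun h => hf0 (zero_dvd_iff.mp (h ▸ hcf))
    obtain ⟨p, hpirr, hpc⟩ := WfDvdMonoid.exists_irreducible_factor hcu hc0
    have hpp : Prime p := hpirr.prime
    haveI hQp : (Ideal.span {p}).IsPrime := (Ideal.span_singleton_prime hpp.ne_zero).mpr hpp
    have hQht : (Ideal.span {p}).height ≤ 1 :=
      Ideal.height_le_one_of_isPrincipal_of_mem_minimalPrimes (Ideal.span {p}) _
        ⟨⟨hQp, le_rfl⟩, fun _ hq _ => hq.2⟩
    have hfQ : f ∈ Ideal.span {p} := Ideal.mem_span_singleton.mpr (hpc.trans hcf)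
    have hgQ : g ∈ Ideal.span {p} := Ideal.mem_span_singleton.mpr (hpc.trans hcg)
    -- homogeneous core
    haveI hQ'p : ((Ideal.span {p}).homogeneousCore (CohB1.polyGrading 2 k)).toIdeal.IsPrime :=
      Ideal.IsPrime.homogeneousCore hQp
    have hQ'le : ((Ideal.span {p}).homogeneousCore (CohB1.polyGrading 2 k)).toIdeal ≤
        Ideal.span {p} := Ideal.toIdeal_homogeneousCore_le _ _
    have hfQ' : f ∈ ((Ideal.span {p}).homogeneousCore (CohB1.polyGrading 2 k)).toIdeal :=
      Ideal.mem_homogeneousCore_of_homogeneous_of_mem ⟨n, hf⟩ hfQ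
    have hgQ' : g ∈ ((Ideal.span {p}).homogeneousCore (CohB1.polyGrading 2 k)).toIdeal :=
      Ideal.mem_homogeneousCore_of_homogeneous_of_mem ⟨m, hg⟩ hgQ
    have hQ'ht : ((Ideal.span {p}).homogeneousCore (CohB1.polyGrading 2 k)).toIdeal.height ≤ 1 :=
      (Ideal.height_mono hQ'le).trans hQht
    have h3 := hht ((Ideal.span {p}).homogeneousCore (CohB1.polyGrading 2 k)).toIdeal
    obtain ⟨q, hq⟩ := Groth.Agent.Lib.H8ProjDim.exists_dim_eq (CohB1.polyGrading 2 k) h0
      ((Ideal.span {p}).homogeneousCore (CohB1.polyGrading 2 k)).toIdeal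
    rw [hq] at h3
    have hq2 : 2 ≤ q := by
      obtain ⟨t, ht⟩ := ENat.ne_top_iff_exists.mp
        (ne_top_of_le_ne_top (by simp : (1 : ℕ∞) ≠ ⊤) hQ'ht)
      rw [← ht] at h3 hQ'ht
      have ht1 : t ≤ 1 := by exact_mod_cast hQ'ht
      have : ((t + q : ℕ) : WithBot ℕ∞) = ((3 : ℕ) : WithBot ℕ∞) := by
        push_cast; exact h3
      have := Nat.cast_injective (R := WithBot ℕ∞) this
      omega
    have hne : ringKrullDim (MvPolynomial (Fin (2 + 1)) k ⧸
        ((Ideal.span {p}).homogeneousCore (CohB1.polyGrading 2 k)).toIdeal) ≠ 0 := by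
      rw [hq]
      intro h
      have : ((q : ℕ) : WithBot ℕ∞) = ((0 : ℕ) : WithBot ℕ∞) := by exact_mod_cast h
      have := Nat.cast_injective (R := WithBot ℕ∞) this
      omega
    have hrel := Groth.Agent.Lib.H8ProjDim.not_irrelevant_le_of_dim_ne_zero _ h0
      ((Ideal.span {p}).homogeneousCore (CohB1.polyGrading 2 k)).isHomogeneous hne
    set x := Groth.Agent.Lib.H8ProjDim.mkPoint (CohB1.polyGrading 2 k) _ hQ'p
      ((Ideal.span {p}).homogeneousCore (CohB1.polyGrading 2 k)).isHomogeneous hrel with hx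
    have hxW : x ∈ ProjectiveSpectrum.zeroLocus (CohB1.polyGrading 2 k)
        ({f, g} : Set (MvPolynomial (Fin 3) k)) := (hWmem x).mpr ⟨hfQ', hgQ'⟩
    have hxmax : IsMax x := fun y hxy => hmaxW x hxW y hxy
    obtain ⟨c', hc', hd'⟩ := Groth.Agent.Lib.H8ProjDim.exists_coheight_eq _ h0 x
    rw [Order.coheight_eq_zero.mpr hxmax] at hc'
    have hc'0 : c' = 0 := by exact_mod_cast hc'.symm
    have hd'' : ringKrullDim (MvPolynomial (Fin (2 + 1)) k ⧸
        ((Ideal.span {p}).homogeneousCore (CohB1.polyGrading 2 k)).toIdeal) =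
        ((c' + 1 : ℕ) : WithBot ℕ∞) := hd'
    rw [hq, hc'0] at hd''
    have := Nat.cast_injective (R := WithBot ℕ∞) hd''
    omega
  · intro hrp
    constructor
    · -- nonempty
      have hbotdim : ringKrullDim (MvPolynomial (Fin (2 + 1)) k ⧸
          (Groth.Agent.Lib.H8ProjPoly.botPt 2 k).asHomogeneousIdeal.toIdeal) =
          ((2 + 1 : ℕ) : WithBot ℕ∞) := by
        change ringKrullDim (MvPolynomial (Fin (2 + 1)) k ⧸
          (⊥ : Ideal (MvPolynomial (Fin (2 + 1)) k))) = _
        rw [ringKrullDim_eq_of_ringEquiv (RingEquiv.quotientBot _), hdimA]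
      have hs : ∀ a ∈ ({f, g} : Finset (MvPolynomial (Fin (2 + 1)) k)),
          a ∈ (HomogeneousIdeal.irrelevant (CohB1.polyGrading 2 k)).toIdeal := by
        intro a ha
        rw [Finset.mem_insert, Finset.mem_singleton] at ha
        rcases ha with rfl | rfl
        · exact hpos _ n hf hn
        · exact hpos _ m hg hm
      have hsh : (Ideal.span ((({f, g} : Finset (MvPolynomial (Fin (2 + 1)) k)) :
          Set (MvPolynomial (Fin (2 + 1)) k)))).IsHomogeneous (CohB1.polyGrading 2 k) := by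
        refine Ideal.homogeneous_span _ _ ?_
        intro z hz
        rw [Finset.coe_insert, Finset.coe_singleton, Set.mem_insert_iff,
          Set.mem_singleton_iff] at hz
        rcases hz with rfl | rfl
        · exact ⟨n, hf⟩
        · exact ⟨m, hg⟩
      obtain ⟨z, -, hz⟩ := Groth.Agent.Lib.H8ProjDim.exists_ge_of_card_le _ h0
        (Groth.Agent.Lib.H8ProjPoly.botPt 2 k)
        ({f, g} : Finset (MvPolynomial (Fin (2 + 1)) k)) hs hsh 2 hbotdim
        (Finset.card_le_two)
      refine ⟨z, (hWmem z).mpr ⟨hz (by simp), hz (by simp)⟩⟩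
    · intro x hxW y hxy
      by_contra hyx
      have hlt : x < y := lt_of_le_not_ge hxy hyx
      obtain ⟨c, hc1, hc⟩ := Groth.Agent.Lib.H8ProjDim.exists_dim_of_lt _ h0 hlt
      obtain ⟨hfx, hgx⟩ := (hWmem x).mp hxW
      have h3 := hht x.asHomogeneousIdeal.toIdeal
      rw [hc] at h3
      have hne : x.asHomogeneousIdeal.toIdeal ≠ ⊥ := by
        intro h
        rw [h, Ideal.mem_bot] at hfx
        exact hf0 hfx
      have hht1 : x.asHomogeneousIdeal.toIdeal.height = 1 := by
        have hfin : x.asHomogeneousIdeal.toIdeal.height ≠ ⊤ :=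
          Ideal.height_ne_top x.isPrime.ne_top
        obtain ⟨t, ht⟩ := ENat.ne_top_iff_exists.mp hfin
        have hzero : x.asHomogeneousIdeal.toIdeal.height ≠ 0 := by
          rw [Ne, Ideal.height_eq_zero_iff_eq_bot]
          exact hne
        rw [← ht] at h3 hzero ⊢
        have : ((t + (c + 1) : ℕ) : WithBot ℕ∞) = ((3 : ℕ) : WithBot ℕ∞) := by
          push_cast; push_cast at h3; exact h3
        have h5 := Nat.cast_injective (R := WithBot ℕ∞) this
        have ht0 : t ≠ 0 := by
          intro h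
          apply hzero
          rw [h]
          rfl
        have : t = 1 := by omega
        rw [this]
        rfl
      obtain ⟨p, hpP, hp⟩ := Ideal.IsPrime.exists_mem_prime_of_ne_bot x.isPrime hne
      have hPp : x.asHomogeneousIdeal.toIdeal = Ideal.span {p} :=
        Ideal.eq_span_singleton_of_height_eq_one hht1 hpP hp
      rw [hPp, Ideal.mem_span_singleton] at hfx hgx
      exact hp.not_isUnit (hrp hfx hgx)

end Groth.Agent.S10840
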