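import Groth.Statements.S10842
import Mathlib.AlgebraicGeometry.AffineScheme
import Mathlib.RingTheory.IntegralClosure.IntegrallyClosed
import Mathlib.RingTheory.Localization.LocalizationLocalization
-- import your own Groth.Agent.* helpers here

set_option autoImplicit false
universe u
open CategoryTheory AlgebraicGeometry
open Variety

namespace Groth.Agent.S10842

/-- Being an integrally closed domain passes from the local ring at a point to the local ring at
any generization of it. -/
theorem stalk_normal_of_specializes (X : Scheme.{u}) {x y : X} (h : x ⤳ y)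
    (hd : IsDomain (X.presheaf.stalk y)) (hic : IsIntegrallyClosed (X.presheaf.stalk y)) :
    IsDomain (X.presheaf.stalk x) ∧ IsIntegrallyClosed (X.presheaf.stalk x) := by
  obtain ⟨U, hU, hyU, -⟩ := exists_isAffineOpen_mem_and_subset (U := ⊤) (x := y) (by simp)
  have hxU : x ∈ U := h.mem_open U.2 hyU
  let algy : Algebra Γ(X, U) (X.presheaf.stalk y) :=
    TopCat.Presheaf.algebra_section_stalk X.presheaf ⟨y, hyU⟩
  let algx : Algebra Γ(X, U) (X.presheaf.stalk x) :=
    TopCat.Presheaf.algebra_section_stalk X.presheaf ⟨x, hxU⟩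
  have locy : IsLocalization.AtPrime (X.presheaf.stalk y) (hU.primeIdealOf ⟨y, hyU⟩).asIdeal :=
    hU.isLocalization_stalk ⟨y, hyU⟩
  have locx : IsLocalization.AtPrime (X.presheaf.stalk x) (hU.primeIdealOf ⟨x, hxU⟩).asIdeal :=
    hU.isLocalization_stalk ⟨x, hxU⟩
  let : Algebra (X.presheaf.stalk y) (X.presheaf.stalk x) :=
    (X.presheaf.stalkSpecializes h).hom.toAlgebra
  have htower : IsScalarTower Γ(X, U) (X.presheaf.stalk y) (X.presheaf.stalk x) := by
    refine IsScalarTower.of_algebraMap_eq' ?_
    change (X.presheaf.germ U x hxU).hom =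
      (X.presheaf.stalkSpecializes h).hom.comp (X.presheaf.germ U y hyU).hom
    rw [← CommRingCat.hom_comp, TopCat.Presheaf.germ_stalkSpecializes]
  have hle : (hU.primeIdealOf ⟨y, hyU⟩).asIdeal.primeCompl ≤
      (hU.primeIdealOf ⟨x, hxU⟩).asIdeal.primeCompl := by
    intro a ha
    rw [← IsLocalization.AtPrime.isUnit_to_map_iff (X.presheaf.stalk y)] at ha
    rw [← IsLocalization.AtPrime.isUnit_to_map_iff (X.presheaf.stalk x),
      IsScalarTower.algebraMap_apply Γ(X, U) (X.presheaf.stalk y) (X.presheaf.stalk x)]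
    exact ha.map _
  have hloc : IsLocalization ((hU.primeIdealOf ⟨x, hxU⟩).asIdeal.primeCompl.map
      (algebraMap Γ(X, U) (X.presheaf.stalk y))) (X.presheaf.stalk x) :=
    IsLocalization.isLocalization_of_submonoid_le (X.presheaf.stalk y) (X.presheaf.stalk x) _ _ hle
  have hnz : (hU.primeIdealOf ⟨x, hxU⟩).asIdeal.primeCompl.map
      (algebraMap Γ(X, U) (X.presheaf.stalk y)) ≤ nonZeroDivisors (X.presheaf.stalk y) := by
    rintro _ ⟨a, ha, rfl⟩
    rw [mem_nonZeroDivisors_iff_ne_zero]
    intro h0
    have hu : IsUnit (algebraMap Γ(X, U) (X.presheaf.stalk x) a) :=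
      (IsLocalization.AtPrime.isUnit_to_map_iff (X.presheaf.stalk x) _ a).mpr ha
    rw [IsScalarTower.algebraMap_apply Γ(X, U) (X.presheaf.stalk y) (X.presheaf.stalk x), h0,
      map_zero] at hu
    exact not_isUnit_zero hu
  exact ⟨IsLocalization.isDomain_of_le_nonZeroDivisors (X.presheaf.stalk x) hnz,
    isIntegrallyClosed_of_isLocalization (X.presheaf.stalk x) _ hnz⟩

/-- A quasi-compact scheme whose local rings at all closed points are integrally closed domains is
normal, i.e. all of its local rings are integrally closed domains. -/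
theorem result (X : Scheme.{u}) [CompactSpace ↥X]
    (h : ∀ x : X, IsClosed ({x} : Set X) →
      IsDomain (X.presheaf.stalk x) ∧ IsIntegrallyClosed (X.presheaf.stalk x)) :
    Pi1.IsNormalScheme X := by
  intro x
  obtain ⟨y, hy, hyc⟩ := (isClosed_closure (s := ({x} : Set X))).exists_closed_singleton
    ⟨x, subset_closure rfl⟩
  have hxy : x ⤳ y := specializes_iff_mem_closure.mpr hy
  obtain ⟨hd, hic⟩ := h y hyc
  exact stalk_normal_of_specializes X hxy hd hic

end Groth.Agent.S10842
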