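import Groth.Statements.S10843
import Mathlib.RingTheory.NoetherNormalization
import Mathlib.RingTheory.KrullDimension.Polynomial
import Mathlib.RingTheory.Ideal.HasGoingUp
import Mathlib.RingTheory.KrullDimension.Field
-- import your own Groth.Agent.* helpers here

set_option autoImplicit false
universe u
open CAlg

namespace Groth.Agent.S10843

/-- comap along an integral extension is strictly monotone on primes, so dimension does not grow. -/
theorem ringKrullDim_le_of_isIntegral (R S : Type u) [CommRing R] [CommRing S] [Algebra R S]
    [Algebra.IsIntegral R S] : ringKrullDim S ≤ ringKrullDim R :=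
  Order.krullDim_le_of_strictMono (fun I ↦ ⟨Ideal.comap (algebraMap R S) I.asIdeal, inferInstance⟩)
    (fun I J hIJ ↦ by
      have : I.asIdeal < J.asIdeal := hIJ
      exact Ideal.IsIntegral.comap_lt_comap (R := R) this)

/-- chains lift along injective integral extensions. -/
theorem ringKrullDim_ge_of_isIntegral (R S : Type u) [CommRing R] [CommRing S] [Algebra R S]
    [Algebra.IsIntegral R S] [FaithfulSMul R S] : ringKrullDim R ≤ ringKrullDim S := by
  refine iSup_le fun l => ?_
  obtain ⟨⟨P, hP, hlo⟩⟩ := Ideal.nonempty_primesOver (S := S) (RelSeries.head l).asIdeal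
  obtain ⟨L, hlen, -, -⟩ := Ideal.exists_ltSeries_of_hasGoingUp (S := S) l P
  rw [← hlen]
  exact Order.LTSeries.length_le_krullDim L

theorem ringKrullDim_eq_of_finite_injective (k A : Type u) [Field k] [CommRing A] [Algebra k A]
    (d : ℕ) (φ : MvPolynomial (Fin d) k →ₐ[k] A) (hfin : φ.toRingHom.Finite)
    (hinj : Function.Injective φ) : ringKrullDim A = (d : WithBot ℕ∞) := by
  algebraize [φ.toRingHom]
  have : Module.Finite (MvPolynomial (Fin d) k) A := hfin
  have : FaithfulSMul (MvPolynomial (Fin d) k) A :=
    (faithfulSMul_iff_algebraMap_injective _ _).mpr hinj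
  have : Algebra.IsIntegral (MvPolynomial (Fin d) k) A := inferInstance
  have hdimR : ringKrullDim (MvPolynomial (Fin d) k) = d := by
    rw [MvPolynomial.ringKrullDim_of_isNoetherianRing, ringKrullDim_eq_zero_of_field]
    simp
  rw [← hdimR]
  exact le_antisymm (ringKrullDim_le_of_isIntegral _ _) (ringKrullDim_ge_of_isIntegral _ _)

/-- For a field k, a nonzero finitely generated k-algebra A and a natural number d, the algebra A has
Krull dimension d exactly when some injective k-algebra map from the polynomial ring in d variables
over k to A makes A a finite module over that polynomial ring. -/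
theorem result (k A : Type u) [Field k]
    [CommRing A] [Nontrivial A] [Algebra k A] [Algebra.FiniteType k A] (d : ℕ) :
    ringKrullDim A = (d : WithBot ℕ∞) ↔
      ∃ φ : MvPolynomial (Fin d) k →ₐ[k] A, φ.toRingHom.Finite ∧ Function.Injective φ := by
  constructor
  · intro h
    obtain ⟨s, g, hinj, hfin⟩ := exists_finite_inj_algHom_of_fg k A
    have hs := ringKrullDim_eq_of_finite_injective k A s g hfin hinj
    rw [h] at hs
    have hds : d = s := by exact_mod_cast hs
    subst hds
    exact ⟨g, hfin, hinj⟩
  · rintro ⟨φ, hfin, hinj⟩
    exact ringKrullDim_eq_of_finite_injective k A d φ hfin hinj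

end Groth.Agent.S10843
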