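import Groth.Statements.S10844
import Groth.Agent.Lib.SupportPullback
import Groth.Agent.Lib.H90OXModExact
import Groth.Agent.Lib.ModPullback

set_option autoImplicit false
universe u
open RepF

namespace Groth.Agent.S10844

open AlgebraicGeometry CategoryTheory CategoryTheory.Limits

/-- an O_X-module is zero iff its support is empty -/
theorem isZero_iff_support_eq_empty {X : Scheme.{u}} (N : X.Modules) :
    IsZero N ↔ CohB1.support N = ∅ := by
  constructor
  · intro h
    ext x
    simp only [CohB1.support, Set.mem_ofPred_eq, Set.mem_empty_iff_false, iff_false, not_not]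
    have h1 : IsZero ((Groth.Agent.Lib.ModStalk.stalkFunctor x).obj N) :=
      (Groth.Agent.Lib.ModStalk.stalkFunctor x).map_isZero h
    exact (AddCommGrpCat.subsingleton_of_isZero h1 : Subsingleton (N.presheaf.stalk x))
  · intro h
    apply Groth.Agent.Lib.ModPullback.isZero_of_forall_subsingleton_stalk
    intro y
    by_contra hy
    have : y ∈ CohB1.support N := hy
    rw [h] at this
    exact this

theorem aux {S : Scheme.{u}} {E F : S.Modules}
    [Coh.IsQCoh E] [Coh.IsQCoh F] (hF : CohB1.IsFT F) (v : E ⟶ F) :
    ∃ U : S.Opens, ∀ (T : Scheme.{u}) (f : T ⟶ S),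
      Set.range f.base ⊆ (U : Set S) ↔ Epi ((Scheme.Modules.pullback f).map v) := by
  have : E.IsQuasicoherent := ‹Coh.IsQCoh E›
  have : F.IsQuasicoherent := ‹Coh.IsQCoh F›
  have hcoh : Coh.IsCoh (cokernel v) :=
    Groth.Agent.Lib.H90OXModExact.isCoh_cokernel v ⟨‹Coh.IsQCoh F›, hF⟩
  have : (cokernel v).IsQuasicoherent := hcoh.1
  have : (cokernel v).IsFiniteType := hcoh.2
  have hcl : IsClosed (CohB1.support (cokernel v)) :=
    Groth.Agent.Lib.ModStalk.isClosed_support_of_isFiniteType (cokernel v)
  refine ⟨⟨(CohB1.support (cokernel v))ᶜ, hcl.isOpen_compl⟩, ?_⟩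
  intro T f
  have : (Scheme.Modules.pullback f).IsLeftAdjoint :=
    (Scheme.Modules.pullbackPushforwardAdjunction f).isLeftAdjoint
  have e : cokernel ((Scheme.Modules.pullback f).map v) ≅
      (Scheme.Modules.pullback f).obj (cokernel v) :=
    (PreservesCokernel.iso (Scheme.Modules.pullback f) v).symm
  have h1 : Epi ((Scheme.Modules.pullback f).map v) ↔
      IsZero (cokernel ((Scheme.Modules.pullback f).map v)) := by
    constructor
    · intro h
      exact isZero_cokernel_of_epi _
    · intro h
      exact Preadditive.epi_of_isZero_cokernel _ h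
  have h2 : IsZero (cokernel ((Scheme.Modules.pullback f).map v)) ↔
      IsZero ((Scheme.Modules.pullback f).obj (cokernel v)) := e.isZero_iff
  rw [h1, h2, isZero_iff_support_eq_empty,
    Groth.Agent.Lib.SupportPullback.support_pullback_eq_preimage]
  simp only [TopologicalSpace.Opens.coe_mk]
  rw [Set.range_subset_iff, Set.eq_empty_iff_forall_notMem]
  rfl

open AlgebraicGeometry CategoryTheory in
/-- For a scheme S and a homomorphism v : E → F of quasi-coherent O_S-modules with F of finite type,
there is an open subscheme U of S such that a morphism of schemes f : T → S factors through U (its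
image lies in U) if and only if the pulled-back homomorphism f^*v : f^*E → f^*F is an epimorphism. -/
theorem result {S : Scheme.{u}} {E F : S.Modules}
    [Coh.IsQCoh E] [Coh.IsQCoh F] (hF : CohB1.IsFT F) (v : E ⟶ F) :
    ∃ U : S.Opens, ∀ (T : Scheme.{u}) (f : T ⟶ S),
      Set.range f.base ⊆ (U : Set S) ↔ Epi ((Scheme.Modules.pullback f).map v) := by
  exact aux hF v

end Groth.Agent.S10844
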