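import Groth.Statements.S10851
import Mathlib.RingTheory.KrullDimension.Zero
-- import your own Groth.Agent.* helpers here

set_option autoImplicit false
universe u
open Mero

namespace Groth.Agent.S10851

open AlgebraicGeometry in
/-- Let X be a locally Noetherian scheme and D a divisor on X (a global section of K_X^×/O_X^×). Then
the support of D has codimension at least 1 in X: for every point z at which the germ of D is
non-trivial, the local ring O_{X,z} has Krull dimension at least 1. -/
theorem result {X : Scheme.{u}} [IsLocallyNoetherian X]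
    (D : Mero.Divisor X) (z : X) (hz : z ∈ Mero.supp D) :
    (1 : WithBot ℕ∞) ≤ ringKrullDim (X.presheaf.stalk z) := by
  by_contra hcon
  apply hz
  -- the local ring at `z` has dimension `≤ 0`
  have hle : ringKrullDim (X.presheaf.stalk z) ≤ 0 := by
    generalize ringKrullDim (X.presheaf.stalk z) = d at hcon
    induction d using WithBot.recBotCoe with
    | bot => exact bot_le
    | coe d =>
      have h1 : ¬ (1 : ℕ∞) ≤ d := fun h => hcon (by exact_mod_cast h)
      have h2 : d = 0 := Order.lt_one_iff.mp (not_le.mp h1)
      rw [h2]
      rfl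
  have hdim : Ring.KrullDimLE 0 (X.presheaf.stalk z) := Ring.krullDimLE_iff.mpr hle
  -- hence every germ of a regular section is a unit
  have hunits : Mero.regStalk X z ≤ IsUnit.submonoid (X.presheaf.stalk z) := by
    intro a ha
    have hnzd : a ∈ nonZeroDivisors (X.presheaf.stalk z) := Mero.regStalk_le_nonZeroDivisors z ha
    by_contra hnu
    have hnil : IsNilpotent a := Ring.KrullDimLE.isNilpotent_iff_mem_nonunits.mpr hnu
    have h0 : a = 0 := by
      obtain ⟨n, hn⟩ := hnil
      have : a ^ n ∈ nonZeroDivisors (X.presheaf.stalk z) := pow_mem hnzd n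
      rw [hn] at this
      exact absurd this zero_notMem_nonZeroDivisors
    rw [h0] at hnzd
    exact zero_notMem_nonZeroDivisors hnzd
  -- so `K_{X,z} = O_{X,z}` and every unit of `K_{X,z}` comes from a unit of the local ring
  let e : X.presheaf.stalk z ≃ₐ[X.presheaf.stalk z] Mero.KStalk X z :=
    IsLocalization.atUnits (X.presheaf.stalk z) (Mero.regStalk X z) hunits
  have hall : ∀ u : (Mero.KStalk X z)ˣ, u ∈ Mero.stalkUnits X z := by
    intro u
    refine ⟨Units.map e.symm.toAlgHom.toRingHom.toMonoidHom u, ?_⟩
    ext
    change algebraMap (X.presheaf.stalk z) (Mero.KStalk X z) (e.symm (u : Mero.KStalk X z)) = u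
    have h1 : e (e.symm (u : Mero.KStalk X z)) = u := e.apply_symm_apply _
    have h2 : e (e.symm (u : Mero.KStalk X z)) =
        algebraMap (X.presheaf.stalk z) (Mero.KStalk X z) (e.symm (u : Mero.KStalk X z)) := by
      simpa using e.commutes (e.symm (u : Mero.KStalk X z))
    rw [← h2, h1]
  obtain ⟨u, hu⟩ := QuotientGroup.mk_surjective (D.1 z)
  rw [← hu]
  exact (QuotientGroup.eq_one_iff u).mpr (hall u)

end Groth.Agent.S10851
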