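import Groth.Statements.S10856
import Mathlib.AlgebraicGeometry.AffineScheme
-- import your own Groth.Agent.* helpers here

set_option autoImplicit false
universe u
open Mero

namespace Groth.Agent.S10856

section Helpers
open CategoryTheory AlgebraicGeometry TopologicalSpace Opposite

variable {X : Scheme.{u}}

/-- local description of a meromorphic function -/
theorem exists_frac (f : Γ(Mero.kmod X, ⊤)) (x : X) :
    ∃ (V : X.Opens) (_ : x ∈ V) (a : Γ(X, V)) (b : Mero.regSub X V),
      ∀ y : V, f.1 ⟨y.1, Opens.mem_top y.1⟩ =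
        LocalizedModule.mk (X.presheaf.germ V y.1 y.2 a) (Mero.regGerm y b) := by
  obtain ⟨V, m, i, a, b, h⟩ := f.2 ⟨x, Opens.mem_top x⟩
  exact ⟨V, m, a, b, fun y => h y⟩

theorem algebraMap_eq_mk (x : X) (r : X.presheaf.stalk x) :
    algebraMap (X.presheaf.stalk x) (Mero.KStalk X x) r = LocalizedModule.mk r 1 := by
  rfl

/-- the domain of definition -/
def dom (f : Γ(Mero.kmod X, ⊤)) : Set X :=
  {x | f.1 ⟨x, Opens.mem_top x⟩ ∈ (algebraMap (X.presheaf.stalk x) (Mero.KStalk X x)).range}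

theorem isOpen_dom (f : Γ(Mero.kmod X, ⊤)) : IsOpen (dom f) := by
  rw [isOpen_iff_forall_mem_open]
  intro x hx
  obtain ⟨r₀, hr₀⟩ := hx
  obtain ⟨V, hxV, a, b, hab⟩ := exists_frac f x
  obtain ⟨W₁, hxW₁, r, hr⟩ := X.presheaf.exists_germ_eq (x := x) r₀
  -- the equation `b r = a` holds in the local ring at `x`
  have heq : X.presheaf.germ V x hxV b.1 * X.presheaf.germ W₁ x hxW₁ r =
      X.presheaf.germ V x hxV a := by
    have h1 := hab ⟨x, hxV⟩
    rw [← hr₀, ← hr, algebraMap_eq_mk, LocalizedModule.mk_eq] at h1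
    obtain ⟨u, hu⟩ := h1
    simp only [Submonoid.smul_def, smul_eq_mul, OneMemClass.coe_one, one_mul] at hu
    have hnzd : (u : X.presheaf.stalk x) ∈ nonZeroDivisors (X.presheaf.stalk x) :=
      Mero.regStalk_le_nonZeroDivisors x u.2
    exact (mul_cancel_left_mem_nonZeroDivisors hnzd).mp hu
  -- spread out
  have heq' : X.presheaf.germ (V ⊓ W₁) x ⟨hxV, hxW₁⟩
      (X.presheaf.map (homOfLE inf_le_left).op b.1 * X.presheaf.map (homOfLE inf_le_right).op r) =
      X.presheaf.germ (V ⊓ W₁) x ⟨hxV, hxW₁⟩ (X.presheaf.map (homOfLE inf_le_left).op a) := by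
    rw [map_mul, TopCat.Presheaf.germ_res_apply, TopCat.Presheaf.germ_res_apply,
      TopCat.Presheaf.germ_res_apply]
    exact heq
  obtain ⟨W, hxW, i₁, i₂, hW⟩ := X.presheaf.germ_eq x _ _ _ _ heq'
  refine ⟨W, ?_, W.2, hxW⟩
  intro y hyW
  have hyV : y ∈ V := (i₁.le hyW).1
  have hyW₁ : y ∈ W₁ := (i₁.le hyW).2
  refine ⟨X.presheaf.germ W₁ y hyW₁ r, ?_⟩
  rw [algebraMap_eq_mk]
  have h1 := hab ⟨y, hyV⟩
  change f.1 ⟨y, Opens.mem_top y⟩ = _ at h1
  rw [h1, LocalizedModule.mk_eq]
  refine ⟨1, ?_⟩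
  simp only [Submonoid.smul_def, smul_eq_mul, OneMemClass.coe_one, one_mul]
  -- `b_y r_y = a_y`
  have h2 := congrArg (X.presheaf.germ W y hyW) hW
  rw [Subsingleton.elim i₂ i₁, TopCat.Presheaf.germ_res_apply, TopCat.Presheaf.germ_res_apply,
    map_mul, TopCat.Presheaf.germ_res_apply, TopCat.Presheaf.germ_res_apply,
    TopCat.Presheaf.germ_res_apply] at h2
  exact h2


/-- on the locus where the denominator is invertible the function is defined -/
theorem basicOpen_subset_dom (f : Γ(Mero.kmod X, ⊤)) {V : X.Opens} (a : Γ(X, V)) (b : Mero.regSub X V)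
    (hab : ∀ y : V, f.1 ⟨y.1, Opens.mem_top y.1⟩ =
        LocalizedModule.mk (X.presheaf.germ V y.1 y.2 a) (Mero.regGerm y b))
    {y : X} (hyV : y ∈ V) (hy : IsUnit (X.presheaf.germ V y hyV b.1)) : y ∈ dom f := by
  obtain ⟨c, hc⟩ := hy.exists_right_inv
  refine ⟨c * X.presheaf.germ V y hyV a, ?_⟩
  rw [algebraMap_eq_mk]
  have h1 := hab ⟨y, hyV⟩
  change f.1 ⟨y, Opens.mem_top y⟩ = _ at h1
  rw [h1, LocalizedModule.mk_eq]
  refine ⟨1, ?_⟩
  simp only [Submonoid.smul_def, smul_eq_mul, OneMemClass.coe_one, one_mul]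
  rw [← mul_assoc, hc, one_mul]

theorem dense_dom (f : Γ(Mero.kmod X, ⊤)) (D : X.Opens) (hD : (D : Set X) = dom f) (V : X.Opens) :
    Function.Injective (X.presheaf.map (homOfLE (inf_le_left : V ⊓ D ≤ V)).op) := by
  rw [injective_iff_map_eq_zero]
  intro t ht
  refine TopCat.Presheaf.section_ext X.sheaf V t 0 fun x hxV => ?_
  rw [map_zero]
  obtain ⟨V', hxV', a, b, hab⟩ := exists_frac f x
  obtain ⟨W, hW, hxW, hWle⟩ := exists_isAffineOpen_mem_and_subset (U := V' ⊓ V) (x := x) ⟨hxV', hxV⟩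
  have hWV' : W ≤ V' := fun y hy => (hWle hy).1
  have hWV : W ≤ V := fun y hy => (hWle hy).2
  let b' : Γ(X, W) := X.presheaf.map (homOfLE hWV').op b.1
  let t' : Γ(X, W) := X.presheaf.map (homOfLE hWV).op t
  have hb' : b' ∈ Mero.regSub X W := Mero.regSub_res _ b.2
  -- the basic open of `b'` lies in `V ⊓ D`
  have hle : X.basicOpen b' ≤ V ⊓ D := by
    intro y hy
    have hyW : y ∈ W := X.basicOpen_le b' hy
    refine ⟨hWV hyW, ?_⟩
    change y ∈ (D : Set X)
    rw [hD]
    refine basicOpen_subset_dom f a b hab (hWV' hyW) ?_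
    have := (X.mem_basicOpen b' y hyW).mp hy
    rwa [TopCat.Presheaf.germ_res_apply] at this
  -- so `t` vanishes on the basic open
  have ht0 : X.presheaf.map (homOfLE (X.basicOpen_le b')).op t' = 0 := by
    have h1 : X.presheaf.map (homOfLE (X.basicOpen_le b')).op t' =
        X.presheaf.map (homOfLE hle).op (X.presheaf.map (homOfLE (inf_le_left : V ⊓ D ≤ V)).op t) := by
      simp only [t', ← CommRingCat.comp_apply, ← Functor.map_comp]
      rfl
    rw [h1, ht, map_zero]
  -- hence a power of `b'` kills `t'`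
  have hloc := hW.isLocalization_basicOpen b'
  have hex : ∃ m : Submonoid.powers b', (m : Γ(X, W)) * t' = 0 := by
    have := (IsLocalization.map_eq_zero_iff (Submonoid.powers b') Γ(X, X.basicOpen b') t').mp ?_
    · exact this
    · exact ht0
  obtain ⟨⟨_, n, rfl⟩, hn⟩ := hex
  have hgerm := congrArg (X.presheaf.germ W x hxW) hn
  rw [map_mul, map_pow, map_zero] at hgerm
  have hnzd : X.presheaf.germ W x hxW b' ^ n ∈ nonZeroDivisors (X.presheaf.stalk x) :=
    pow_mem (hb' ⟨x, hxW⟩) n
  have h0 : X.presheaf.germ W x hxW t' = 0 :=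
    (mul_right_mem_nonZeroDivisors_eq_zero_iff hnzd).mp (by rw [mul_comm]; exact hgerm)
  exact (TopCat.Presheaf.germ_res_apply X.presheaf (homOfLE hWV) x hxW t).symm.trans h0

end Helpers

open AlgebraicGeometry CategoryTheory TopologicalSpace in
/-- Let X be a scheme and f a global section of the sheaf of meromorphic functions K_X. The domain of
definition of f, i.e. the set of points x whose value f_x ∈ K_{X,x} lies in the image of the local
ring O_{X,x}, is the underlying set of an open subscheme D of X, and D is schematically dense in X: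
for every open subset V of X the restriction map from sections of O_X over V to sections over V ∩ D
is injective. -/
theorem result {X : Scheme.{u}} (f : Γ(Mero.kmod X, ⊤)) :
    ∃ D : X.Opens,
      (D : Set X) = {x | f.1 ⟨x, Opens.mem_top x⟩ ∈ (algebraMap (X.presheaf.stalk x) (Mero.KStalk X x)).range} ∧
        ∀ V : X.Opens, Function.Injective (X.presheaf.map (homOfLE (inf_le_left : V ⊓ D ≤ V)).op) :=
  ⟨⟨dom f, isOpen_dom f⟩, rfl, fun V => dense_dom f ⟨dom f, isOpen_dom f⟩ rfl V⟩

end Groth.Agent.S10856
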