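import Mathlib
import Groth.Agent.Lib.GrassSurj27
import Groth.Agent.Lib.GrassCondClosed27
import Groth.Agent.Lib.AffYoneda27
import Groth.Statements.S10859

set_option autoImplicit false
universe u
open Grass

namespace Groth.Agent.S10859

open AlgebraicGeometry CategoryTheory in
/-- Let R be a commutative ring, v : M₁ → M₂ a surjective homomorphism of R-modules and k a natural
number. Suppose X₁ and X₂ are schemes over Spec R representing the Grassmannian functors of rank-k
locally free quotients of M₁ and of M₂ (bijections e₁, e₂ between Spec R-morphisms Spec A → X_i and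
submodules of A ⊗_R M_i with finite projective quotient of constant rank k, compatible with base
change along R-algebra maps). Then there is a Spec R-morphism c : X₂ → X₁ which on A-valued points
sends a submodule N of A ⊗_R M₂ to its preimage under A ⊗ v, and every such c is a closed immersion.
(The published statement is for a surjection of quasi-coherent modules over an arbitrary base
scheme, where the two Grassmannians are known to be schemes; this row takes the base affine and the
two representing schemes as hypotheses, with no finiteness condition on the modules.) -/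
theorem result (R : Type u) [CommRing R]
    (M₁ M₂ : Type u) [AddCommGroup M₁] [Module R M₁]
    [AddCommGroup M₂] [Module R M₂]
    (v : M₁ →ₗ[R] M₂) (hv : Function.Surjective v) (k : ℕ)
    (X₁ X₂ : Over (Spec (CommRingCat.of R)))
    (e₁ : ∀ A : CommAlgCat.{u} R,
      (Over.mk (Spec.map (CommRingCat.ofHom (algebraMap R A))) ⟶ X₁) ≃
        (Module.Grassmannian.functor (R := R) (M := M₁) k).obj A)
    (he₁ : ∀ (A B : CommAlgCat.{u} R) (φ : A ⟶ B)
      (g : Over.mk (Spec.map (CommRingCat.ofHom (algebraMap R A))) ⟶ X₁)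
      (g' : Over.mk (Spec.map (CommRingCat.ofHom (algebraMap R B))) ⟶ X₁),
      g'.left = Spec.map (CommRingCat.ofHom φ.hom.toRingHom) ≫ g.left →
        e₁ B g' = (Module.Grassmannian.functor (R := R) (M := M₁) k).map φ (e₁ A g))
    (e₂ : ∀ A : CommAlgCat.{u} R,
      (Over.mk (Spec.map (CommRingCat.ofHom (algebraMap R A))) ⟶ X₂) ≃
        (Module.Grassmannian.functor (R := R) (M := M₂) k).obj A)
    (he₂ : ∀ (A B : CommAlgCat.{u} R) (φ : A ⟶ B)
      (g : Over.mk (Spec.map (CommRingCat.ofHom (algebraMap R A))) ⟶ X₂)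
      (g' : Over.mk (Spec.map (CommRingCat.ofHom (algebraMap R B))) ⟶ X₂),
      g'.left = Spec.map (CommRingCat.ofHom φ.hom.toRingHom) ≫ g.left →
        e₂ B g' = (Module.Grassmannian.functor (R := R) (M := M₂) k).map φ (e₂ A g)) :
    (∃ c : X₂ ⟶ X₁, ∀ (A : CommAlgCat.{u} R)
        (g : Over.mk (Spec.map (CommRingCat.ofHom (algebraMap R A))) ⟶ X₂),
        (e₁ A (g ≫ c)).toSubmodule = (e₂ A g).toSubmodule.comap (v.baseChange A)) ∧
      ∀ c : X₂ ⟶ X₁, (∀ (A : CommAlgCat.{u} R)
        (g : Over.mk (Spec.map (CommRingCat.ofHom (algebraMap R A))) ⟶ X₂),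
        (e₁ A (g ≫ c)).toSubmodule = (e₂ A g).toSubmodule.comap (v.baseChange A)) →
        IsClosedImmersion c.left := by
  classical
  have hfun : ∀ (A C : CommAlgCat.{u} R) (φ : A ⟶ C)
      (N : (Module.Grassmannian.functor (R := R) (M := M₂) k).obj A),
      (Module.Grassmannian.functor (R := R) (M := M₁) k).map φ
          (Groth.Agent.Lib.GrassSurj27.comapG v hv N) =
        Groth.Agent.Lib.GrassSurj27.comapG v hv
          ((Module.Grassmannian.functor (R := R) (M := M₂) k).map φ N) :=
    fun A C φ N => Groth.Agent.Lib.GrassSurj27.map_comapG v hv φ.hom N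
  have part1 : ∃ c : X₂ ⟶ X₁, ∀ (A : CommAlgCat.{u} R)
      (g : Over.mk (Spec.map (CommRingCat.ofHom (algebraMap R A))) ⟶ X₂),
      e₁ A (g ≫ c) = Groth.Agent.Lib.GrassSurj27.comapG v hv (e₂ A g) := by
    obtain ⟨c, hc⟩ := Groth.Agent.Lib.AffYoneda27.exists_hom_of_affine_points X₂ X₁
      (fun A a => (e₁ A).symm (Groth.Agent.Lib.GrassSurj27.comapG v hv (e₂ A a))) (by
        intro A C c a
        apply (e₁ C).injective
        obtain ⟨φ, hφ⟩ := Groth.Agent.Lib.GrassClosed27.exists_algHom_of_hom c
        have h1 := he₂ A C φ a (c ≫ a) (by rw [Over.comp_left, hφ])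
        have h2 := he₁ A C φ ((e₁ A).symm (Groth.Agent.Lib.GrassSurj27.comapG v hv (e₂ A a)))
          (c ≫ _) (by rw [Over.comp_left, hφ])
        exact ((e₁ C).apply_symm_apply _).trans
          ((congrArg (Groth.Agent.Lib.GrassSurj27.comapG v hv) h1).trans
            ((hfun A C φ _).symm.trans
              ((congrArg _ ((e₁ A).apply_symm_apply _).symm).trans h2.symm))))
    exact ⟨c, fun A g => (congrArg (e₁ A) (hc A g)).trans ((e₁ A).apply_symm_apply _)⟩
  refine ⟨?_, ?_⟩
  · obtain ⟨c, hc⟩ := part1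
    exact ⟨c, fun A g => by rw [hc]; rfl⟩
  · intro c hc'
    have hc : ∀ (A : CommAlgCat.{u} R)
        (g : Over.mk (Spec.map (CommRingCat.ofHom (algebraMap R A))) ⟶ X₂),
        e₁ A (g ≫ c) = Groth.Agent.Lib.GrassSurj27.comapG v hv (e₂ A g) :=
      fun A g => Module.Grassmannian.ext (hc' A g)
    have hinj : ∀ (A : CommAlgCat.{u} R)
        (a a' : Over.mk (Spec.map (CommRingCat.ofHom (algebraMap R A))) ⟶ X₂),
        a ≫ c = a' ≫ c → a = a' := by
      intro A a a' h
      apply (e₂ A).injective
      apply Groth.Agent.Lib.GrassSurj27.comapG_injective v hv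
      rw [← hc, ← hc, h]
    obtain ⟨𝓙, h𝓙Z, h𝓙⟩ := Groth.Agent.Lib.GrassCondClosed27.exists_idealSheaf e₁ he₁
      (fun A N => LinearMap.ker (v.baseChange A) ≤ N.toSubmodule) (fun A N => by
        obtain ⟨I, hI⟩ := Groth.Agent.Lib.GrassSurj27.exists_ideal_ker_le v hv N
        exact ⟨I, fun C φ => hI C φ.hom⟩)
    have hle : 𝓙 ≤ c.left.ker := by
      rw [h𝓙Z]
      intro A g a ha
      let a' : Over.mk (Spec.map (CommRingCat.ofHom (algebraMap R A))) ⟶ X₂ := Over.homMk a (by
        have h1 := Over.w g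
        rw [← Over.w c, ← Category.assoc, ha]
        exact h1)
      have hg : g = a' ≫ c := by
        ext1
        exact ha.symm
      rw [hg, hc]
      exact Groth.Agent.Lib.GrassSurj27.ker_le_comapG v hv _
    let Z₀ : Over (Spec (CommRingCat.of R)) := Over.mk (𝓙.subschemeι ≫ X₁.hom)
    let ι₀ : Z₀ ⟶ X₁ := Over.homMk 𝓙.subschemeι rfl
    have hmono : Mono ι₀ := by
      have : Mono ((Over.forget _).map ι₀) := by
        change Mono 𝓙.subschemeι
        infer_instance
      exact (Over.forget _).mono_of_mono_map this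
    have hle' : 𝓙.subschemeι.ker ≤ c.left.ker := by
      rwa [Scheme.IdealSheafData.ker_subschemeι]
    have hfac : IsClosedImmersion.lift 𝓙.subschemeι c.left hle' ≫ 𝓙.subschemeι = c.left :=
      IsClosedImmersion.lift_fac _ _ _
    let c₀ : X₂ ⟶ Z₀ := Over.homMk (IsClosedImmersion.lift 𝓙.subschemeι c.left hle') (by
      change _ ≫ 𝓙.subschemeι ≫ X₁.hom = _
      rw [reassoc_of% hfac, Over.w c])
    have hc₀ : c₀ ≫ ι₀ = c := by
      ext1
      exact hfac
    have hex : ∀ (A : CommAlgCat.{u} R)
        (z : Over.mk (Spec.map (CommRingCat.ofHom (algebraMap R A))) ⟶ Z₀),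
        ∃ a : Over.mk (Spec.map (CommRingCat.ofHom (algebraMap R A))) ⟶ X₂, a ≫ c = z ≫ ι₀ := by
      intro A z
      have h1 : 𝓙 ≤ (z ≫ ι₀).left.ker := by
        rw [Over.comp_left]
        calc 𝓙 = 𝓙.subschemeι.ker := (Scheme.IdealSheafData.ker_subschemeι _).symm
          _ ≤ (z.left ≫ 𝓙.subschemeι).ker := Scheme.Hom.le_ker_comp _ _
      rw [h𝓙] at h1
      obtain ⟨N₂, hN₂⟩ := Groth.Agent.Lib.GrassSurj27.exists_comapG_eq v hv (e₁ A (z ≫ ι₀)) h1
      refine ⟨(e₂ A).symm N₂, ?_⟩
      apply (e₁ A).injective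
      exact (hc A _).trans ((congrArg (Groth.Agent.Lib.GrassSurj27.comapG v hv)
        ((e₂ A).apply_symm_apply N₂)).trans hN₂)
    choose Ψ hΨ using hex
    obtain ⟨d, hd⟩ := Groth.Agent.Lib.AffYoneda27.exists_hom_of_affine_points Z₀ X₂ Ψ (by
      intro A C c' z
      apply hinj
      rw [hΨ, Category.assoc, Category.assoc, hΨ])
    have hdc : d ≫ c = ι₀ := by
      apply Groth.Agent.Lib.AffYoneda27.over_hom_ext_of_affine_points
      intro A z
      rw [← Category.assoc, hd, hΨ]
    have h1 : d ≫ c₀ = 𝟙 Z₀ := by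
      rw [← cancel_mono ι₀, Category.assoc, hc₀, hdc, Category.id_comp]
    have h2 : c₀ ≫ d = 𝟙 X₂ := by
      apply Groth.Agent.Lib.AffYoneda27.over_hom_ext_of_affine_points
      intro A a
      apply hinj
      rw [Category.assoc, Category.assoc, hdc, hc₀, Category.comp_id]
    have hiso : IsIso c₀.left :=
      ⟨d.left, by rw [← Over.comp_left, h2, Over.id_left], by rw [← Over.comp_left, h1, Over.id_left]⟩
    have hcl : c.left = c₀.left ≫ 𝓙.subschemeι := by
      rw [← hc₀]
      rfl
    rw [hcl]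
    infer_instance

end Groth.Agent.S10859
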