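-- Statement S10863: separable degree of the residue field is additive over points of a base change.
import Groth.Statements.S10863
import Groth.Agent.Lib.FiniteAlgPoints
import Mathlib.RingTheory.KrullDimension.Zero
import Mathlib.FieldTheory.IsAlgClosed.AlgebraicClosure

set_option autoImplicit false
universe u
open CAlg

namespace Groth.Agent.S10863

open TensorProduct in
/-- Let k be a field, A a finite-dimensional local k-algebra with residue field κ, and k' a field
extension of k. Then the separable degree of κ over k equals the sum over the maximal ideals m' of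
k' ⊗_k A (the points of the base-changed finite scheme lying over the given point) of the separable
degrees over k' of their residue fields. -/
theorem result (k A k' : Type u) [Field k] [CommRing A] [Algebra k A]
    [Module.Finite k A] [IsLocalRing A] [Field k'] [Algebra k k'] :
    Field.finSepDegree k (IsLocalRing.ResidueField A) =
      ∑ᶠ m : MaximalSpectrum (k' ⊗[k] A),
        Field.finSepDegree k' (IsLocalRing.ResidueField (Localization.AtPrime m.asIdeal)) := by
  classical
  have hArt : IsArtinianRing A := IsArtinianRing.of_finite k A
  have hArt' : IsArtinianRing (k' ⊗[k] A) := IsArtinianRing.of_finite k' (k' ⊗[k] A)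
  -- left hand side
  have h1 := Groth.Agent.Lib.FiniteAlgPoints.card_algHom_eq_finsum k A (AlgebraicClosure k')
  rw [finsum_unique] at h1
  have e : IsLocalRing.ResidueField A ≃ₐ[k] (IsLocalRing.maximalIdeal A).ResidueField :=
    AlgEquiv.ofBijective
      (IsScalarTower.toAlgHom k (A ⧸ IsLocalRing.maximalIdeal A)
        (IsLocalRing.maximalIdeal A).ResidueField)
      (Ideal.bijective_algebraMap_quotient_residueField _)
  have h1' : Nat.card (A →ₐ[k] AlgebraicClosure k') =
      Field.finSepDegree k (IsLocalRing.ResidueField A) := by
    rw [h1, Field.finSepDegree_eq_of_equiv k _ _ e]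
    rfl
  -- right hand side
  have h2 := Groth.Agent.Lib.FiniteAlgPoints.card_algHom_eq_finsum k' (k' ⊗[k] A)
    (AlgebraicClosure k')
  have h3 : Nat.card (A →ₐ[k] AlgebraicClosure k') =
      Nat.card (k' ⊗[k] A →ₐ[k'] AlgebraicClosure k') :=
    Nat.card_congr (AlgHom.liftEquiv k k' A (AlgebraicClosure k'))
  rw [← h1', h3, h2]
  exact finsum_comp_equiv (IsArtinianRing.primeSpectrumEquivMaximalSpectrum (R := k' ⊗[k] A))
    (f := fun m : MaximalSpectrum (k' ⊗[k] A) =>
      Field.finSepDegree k' (IsLocalRing.ResidueField (Localization.AtPrime m.asIdeal))) |>.symm.trans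
    (by rfl) |>.symm

end Groth.Agent.S10863
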