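import Groth.Statements.S10868
import Mathlib.AlgebraicGeometry.Morphisms.Proper

set_option autoImplicit false
universe u
open Mor

namespace Groth.Agent.S10868

open CategoryTheory AlgebraicGeometry in
/-- A quasi-affine scheme which is proper over an affine scheme is affine. -/
theorem isAffine_of_isProper_of_isQuasiAffine {Z V : Scheme.{u}} (g : Z ⟶ V) [IsProper g]
    [IsAffine V] [Z.IsQuasiAffine] : IsAffine Z := by
  have hnat : g ≫ V.toSpecΓ = Z.toSpecΓ ≫ Spec.map g.appTop := Scheme.toSpecΓ_naturality g
  have : IsProper (Z.toSpecΓ ≫ Spec.map g.appTop) := by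
    rw [← hnat]; infer_instance
  have : IsProper Z.toSpecΓ := IsProper.of_comp Z.toSpecΓ (Spec.map g.appTop)
  have : IsClosedImmersion Z.toSpecΓ :=
    .of_isPreimmersion _ Z.toSpecΓ.isClosedMap.isClosed_range
  exact isAffine_of_isAffineHom Z.toSpecΓ

open CategoryTheory AlgebraicGeometry in
/-- f : X → Y is a finite morphism exactly when it is proper and quasi-affine (quasi-compact, with the
inverse image of every affine open subscheme of Y a quasi-affine scheme). -/
theorem result {X Y : Scheme.{u}} (f : X ⟶ Y) :
    IsFinite f ↔ IsProper f ∧ Mor2.IsQuasiAffine f := by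
  constructor
  · intro hf
    refine ⟨inferInstance, inferInstance, fun V hV => ?_⟩
    have : IsAffine (f ⁻¹ᵁ V).toScheme := hV.preimage f
    infer_instance
  · rintro ⟨hp, -, hqa⟩
    rw [IsFinite.iff_isProper_and_isAffineHom]
    refine ⟨hp, ⟨fun V hV => ?_⟩⟩
    have : IsAffine V.toScheme := hV
    have : (f ⁻¹ᵁ V).toScheme.IsQuasiAffine := hqa V hV
    exact isAffine_of_isProper_of_isQuasiAffine (f ∣_ V)

end Groth.Agent.S10868
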