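import Groth.Statements.S10870
import Groth.Agent.Lib.DetRingProps
import Groth.Agent.Lib.H77DimFieldExt

set_option autoImplicit false
universe u
open CAlgX

namespace Groth.Agent.S10870

open TensorProduct in
/-- Extending the base field does not change the dimension of a quotient of a polynomial ring. -/
theorem dim_map_eq (k K : Type u) [Field k] [Field K] [Algebra k K] (σ : Type) [Finite σ]
    (I : Ideal (MvPolynomial σ k)) :
    ringKrullDim (MvPolynomial σ K ⧸ I.map (MvPolynomial.map (algebraMap k K))) =
      ringKrullDim (MvPolynomial σ k ⧸ I) := by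
  rw [← Groth.Agent.Lib.H77DimFieldExt.ringKrullDim_tensor_field_eq k K (MvPolynomial σ k ⧸ I)]
  apply ringKrullDim_eq_of_ringEquiv
  have h : I.map (MvPolynomial.map (algebraMap k K)) =
      (I.map (Algebra.TensorProduct.includeRight (R := k) (A := K)
        (B := MvPolynomial σ k))).map
        (MvPolynomial.algebraTensorAlgEquiv k K (σ := σ)).toRingEquiv := by
    have h1 : (I.map (Algebra.TensorProduct.includeRight (R := k) (A := K)
        (B := MvPolynomial σ k))).map
        (MvPolynomial.algebraTensorAlgEquiv k K (σ := σ)).toRingEquiv =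
        (I.map (Algebra.TensorProduct.includeRight (R := k) (A := K)
        (B := MvPolynomial σ k)).toRingHom).map
        ((MvPolynomial.algebraTensorAlgEquiv k K (σ := σ)).toRingEquiv : _ →+* _) := rfl
    rw [h1, Ideal.map_map]
    congr 1
    refine RingHom.ext fun p => ?_
    simp [MvPolynomial.algebraTensorAlgEquiv_tmul]
  exact ((Algebra.TensorProduct.tensorQuotientEquiv (R := k) K (MvPolynomial σ k) K
    I).toRingEquiv.trans
    (Ideal.quotientEquiv _ _ (MvPolynomial.algebraTensorAlgEquiv k K (σ := σ)).toRingEquiv h)).symm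

/-- Ideals of minors commute with base change. -/
theorem minorIdeal_map {R S : Type u} [CommRing R] [CommRing S] (f : R →+* S) {m n : Type}
    [Fintype m] [Fintype n] (A : Matrix m n R) (r : ℕ) :
    (CAlgX.minorIdeal A r).map f = CAlgX.minorIdeal (A.map f) r := by
  unfold CAlgX.minorIdeal
  rw [Ideal.map_span]
  congr 1
  ext x
  simp only [Set.mem_image, Set.mem_range, exists_exists_eq_and]
  constructor
  · rintro ⟨fg, rfl⟩
    refine ⟨fg, ?_⟩
    rw [RingHom.map_det]
    rfl
  · rintro ⟨fg, rfl⟩
    refine ⟨fg, ?_⟩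
    rw [RingHom.map_det]
    rfl

/-- The degenerate case: no rows or no columns. -/
theorem dim_of_isEmpty (k : Type u) [Field k] (n m : ℕ) (h : n = 0 ∨ m = 0) :
    ringKrullDim (MvPolynomial (Fin n × Fin m) k ⧸ CAlgX.minorIdeal (Matrix.of
      fun (i : Fin n) (j : Fin m) => (MvPolynomial.X (i, j) : MvPolynomial (Fin n × Fin m) k))
      (0 + 1)) = 0 := by
  have hI : CAlgX.minorIdeal (Matrix.of fun (i : Fin n) (j : Fin m) =>
      (MvPolynomial.X (i, j) : MvPolynomial (Fin n × Fin m) k)) (0 + 1) = ⊥ := by
    unfold CAlgX.minorIdeal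
    rw [Ideal.span_eq_bot]
    rintro x ⟨fg, rfl⟩
    rcases h with h | h
    · subst h
      exact (fg.1 0).elim0
    · subst h
      exact (fg.2 0).elim0
  have hE : IsEmpty (Fin n × Fin m) := by
    rcases h with h | h
    · subst h
      exact ⟨fun x => x.1.elim0⟩
    · subst h
      exact ⟨fun x => x.2.elim0⟩
  rw [hI, ringKrullDim_eq_of_ringEquiv ((RingEquiv.quotientBot _).trans
    (MvPolynomial.isEmptyRingEquiv k (Fin n × Fin m)))]
  exact ringKrullDim_eq_zero_of_field k


/-- For a field k and 0 ≤ r ≤ min(n, m), the affine determinantal scheme of n × m matrices of rank at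
most r over k — the spectrum of the polynomial ring on the entries of the generic n × m matrix
modulo the ideal of its (r+1) × (r+1) minors — has dimension r(m + n − r). -/
theorem result (k : Type u) [Field k] (n m r : ℕ) (hr : r ≤ min n m) :
    ringKrullDim (MvPolynomial (Fin n × Fin m) k ⧸ CAlgX.minorIdeal (Matrix.of fun (i : Fin n) (j : Fin m) => (MvPolynomial.X (i, j) : MvPolynomial (Fin n × Fin m) k)) (r + 1)) =
      ((r * (m + n - r) : ℕ) : WithBot ℕ∞) := by
  rcases Nat.eq_zero_or_pos n with hn | hn
  · have hr0 : r = 0 := by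
      subst hn
      simpa using hr
    subst hr0
    rw [dim_of_isEmpty k n m (Or.inl hn)]
    simp
  rcases Nat.eq_zero_or_pos m with hm | hm
  · have hr0 : r = 0 := by
      subst hm
      simpa using hr
    subst hr0
    rw [dim_of_isEmpty k n m (Or.inr hm)]
    simp
  have hrn : r ≤ n := le_trans hr (min_le_left _ _)
  have hrm : r ≤ m := le_trans hr (min_le_right _ _)
  have key := dim_map_eq k (AlgebraicClosure k) (Fin n × Fin m)
    (CAlgX.minorIdeal (Matrix.of fun (i : Fin n) (j : Fin m) =>
      (MvPolynomial.X (i, j) : MvPolynomial (Fin n × Fin m) k)) (r + 1))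
  rw [minorIdeal_map] at key
  have hM : (Matrix.of fun (i : Fin n) (j : Fin m) =>
      (MvPolynomial.X (i, j) : MvPolynomial (Fin n × Fin m) k)).map
      (MvPolynomial.map (algebraMap k (AlgebraicClosure k))) =
      W4bk4grassmannian.genMatrix (AlgebraicClosure k) n m := by
    ext i j
    simp [W4bk4grassmannian.genMatrix]
  rw [hM] at key
  rw [← key]
  have h2 := Groth.Agent.Lib.DetCell.ringKrullDim_detRing (AlgebraicClosure k) n m (r + 1)
    (by omega) (by omega) (by omega) hm hn
  rw [h2]
  have h3 : (r + 1 - 1) * (n + m - (r + 1) + 1) = r * (m + n - r) := by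
    have : n + m - (r + 1) + 1 = m + n - r := by omega
    rw [this, Nat.add_sub_cancel]
  rw [h3]

end Groth.Agent.S10870
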