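import Groth.Statements.S10871
import Mathlib

set_option autoImplicit false
universe u
open AlgebraicGeometry
open Curves

namespace Groth.Agent.S10871

open scoped nonZeroDivisors in
/-- A nonzero ideal of a Dedekind domain is locally principal, in an elementary form: near every
prime `q` there are `h ∉ q` and `a ∈ I` with `h • I ⊆ (a)`. -/
lemma exists_local_gen (A : Type u) [CommRing A] [IsDedekindDomain A] (I : Ideal A) (hI : I ≠ ⊥)
    (q : Ideal A) [q.IsPrime] :
    ∃ h a : A, h ∉ q ∧ a ∈ I ∧ ∀ y ∈ I, h * y ∈ Ideal.span {a} := by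
  classical
  by_contra hcon
  push Not at hcon
  let K := FractionRing A
  let J : FractionalIdeal A⁰ K := (I : FractionalIdeal A⁰ K)
  have hJ0 : J ≠ 0 := FractionalIdeal.coeIdeal_ne_zero.mpr hI
  have hJinv : J * J⁻¹ = 1 := mul_inv_cancel₀ hJ0
  have hinj : Function.Injective (algebraMap A K) := IsFractionRing.injective A K
  have hle : J * J⁻¹ ≤ ((q : Ideal A) : FractionalIdeal A⁰ K) := by
    rw [FractionalIdeal.mul_le]
    intro i hi j hj
    obtain ⟨a, haI, rfl⟩ := (FractionalIdeal.mem_coeIdeal A⁰).mp hi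
    have h1 : algebraMap A K a * j ∈ (1 : FractionalIdeal A⁰ K) := by
      rw [← hJinv]; exact FractionalIdeal.mul_mem_mul hi hj
    obtain ⟨h, hh⟩ := (FractionalIdeal.mem_one_iff A⁰).mp h1
    rw [← hh]
    refine (FractionalIdeal.mem_coeIdeal A⁰).mpr ⟨h, ?_, rfl⟩
    by_contra hhq
    obtain ⟨y, hy, hny⟩ := hcon h a hhq haI
    apply hny
    have h2 : j * algebraMap A K y ∈ (1 : FractionalIdeal A⁰ K) := by
      rw [← hJinv, mul_comm J]
      exact FractionalIdeal.mul_mem_mul hj ((FractionalIdeal.mem_coeIdeal A⁰).mpr ⟨y, hy, rfl⟩)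
    obtain ⟨c, hc⟩ := (FractionalIdeal.mem_one_iff A⁰).mp h2
    have : h * y = a * c := by
      apply hinj
      rw [map_mul, map_mul, hh, hc]; ring
    rw [this]
    exact Ideal.mul_mem_right _ _ (Ideal.mem_span_singleton_self a)
  rw [hJinv] at hle
  have h1 : (1 : K) ∈ ((q : Ideal A) : FractionalIdeal A⁰ K) :=
    hle (FractionalIdeal.one_mem_one A⁰)
  obtain ⟨x, hxq, hx⟩ := (FractionalIdeal.mem_coeIdeal A⁰).mp h1
  have : x = 1 := hinj (by rw [hx, map_one])
  exact (Ideal.IsPrime.ne_top inferInstance) ((Ideal.eq_top_iff_one q).mpr (this ▸ hxq))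

lemma isAffineOpen_basicOpen (A : Type u) [CommRing A] (f : A) :
    IsAffineOpen (X := Spec (CommRingCat.of A)) (PrimeSpectrum.basicOpen f) := by
  rw [← basicOpen_eq_of_affine (R := CommRingCat.of A) f]
  exact (isAffineOpen_top _).basicOpen _

/-- Every open subscheme of the spectrum of a Dedekind domain is affine. -/
theorem result (A : Type u) [CommRing A] [IsDedekindDomain A]
    (U : (Spec (CommRingCat.of A)).Opens) : IsAffineOpen U := by
  classical
  let U' : TopologicalSpace.Opens (PrimeSpectrum A) := U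
  obtain ⟨I, hI⟩ : ∃ I : Ideal A,
      (U' : Set (PrimeSpectrum A))ᶜ = PrimeSpectrum.zeroLocus (I : Set A) := by
    obtain ⟨s, hs⟩ := (PrimeSpectrum.isClosed_iff_zeroLocus_ideal _).mp U'.2.isClosed_compl
    exact ⟨s, hs⟩
  have hmem : ∀ x : PrimeSpectrum A, x ∈ U' ↔ ¬ (I ≤ x.asIdeal) := by
    intro x
    have : x ∈ (U' : Set (PrimeSpectrum A))ᶜ ↔ (I : Set A) ⊆ x.asIdeal := by
      rw [hI, PrimeSpectrum.mem_zeroLocus]
    rw [← not_iff_not, not_not]
    exact this
  by_cases hI0 : I = ⊥
  · have : U = ⊥ := by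
      rw [eq_bot_iff]
      intro x hx
      let x' : PrimeSpectrum A := x
      exact absurd (show I ≤ x'.asIdeal from hI0 ▸ bot_le) ((hmem x').mp hx)
    rw [this]
    exact isAffineOpen_bot _
  · have haff : IsAffineHom U.ι := by
      apply isAffineHom_of_forall_exists_isAffineOpen
      intro x
      let x' : PrimeSpectrum A := x
      obtain ⟨h, a, hh, haI, hy⟩ := exists_local_gen A I hI0 x'.asIdeal
      refine ⟨PrimeSpectrum.basicOpen h, hh, isAffineOpen_basicOpen A h, ?_⟩
      rw [← U.ι.isAffineOpen_iff_of_isOpenImmersion, Scheme.Hom.image_preimage_eq_opensRange_inf,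
        Scheme.Opens.opensRange_ι]
      have : U ⊓ PrimeSpectrum.basicOpen h = PrimeSpectrum.basicOpen (h * a) := by
        refine TopologicalSpace.Opens.ext (Set.ext fun z => ?_)
        let z' : PrimeSpectrum A := z
        change (z' ∈ U' ∧ z' ∈ PrimeSpectrum.basicOpen h) ↔ z' ∈ PrimeSpectrum.basicOpen (h * a)
        rw [hmem z', PrimeSpectrum.mem_basicOpen, PrimeSpectrum.mem_basicOpen]
        constructor
        · rintro ⟨h1, h2⟩ h3
          rcases (z'.isPrime.mem_or_mem h3) with h4 | h4
          · exact h2 h4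
          · apply h1
            intro y hyI
            have := hy y hyI
            have h5 : h * y ∈ z'.asIdeal := by
              obtain ⟨c, hc⟩ := Ideal.mem_span_singleton'.mp this
              rw [← hc]
              exact Ideal.mul_mem_left _ _ h4
            rcases (z'.isPrime.mem_or_mem h5) with h6 | h6
            · exact absurd h6 h2
            · exact h6
        · intro h1
          refine ⟨fun h2 => h1 (Ideal.mul_mem_left _ _ (h2 haI)),
            fun h2 => h1 (Ideal.mul_mem_right _ _ h2)⟩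
      rw [this]
      exact isAffineOpen_basicOpen A (h * a)
    exact isAffine_of_isAffineHom U.ι

end Groth.Agent.S10871
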