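import Groth.Statements.S10879
import Mathlib
import Groth.Agent.S4808
import Groth.Agent.S4809
import Groth.Agent.S5067
import Groth.Agent.S9678

set_option autoImplicit false
universe u
open CategoryTheory AlgebraicGeometry
open FlatMor

namespace Groth.Agent.S10879
set_option backward.isDefEq.respectTransparency.types false

lemma bijective_of_faithfullyFlat_birational {A B K K' : Type*} [CommRing A] [CommRing B]
    [CommRing K] [CommRing K'] [IsDomain A] [Algebra A K] [IsFractionRing A K]
    (φ : A →+* B) (iB : B →+* K') (ψ : K →+* K') (hiB : Function.Injective iB)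
    (hψ : Function.Bijective ψ)
    (hcomm : ∀ a, ψ (algebraMap A K a) = iB (φ a)) (hff : φ.FaithfullyFlat) :
    Function.Bijective φ := by
  have hKdom : IsDomain K := IsFractionRing.isDomain A
  constructor
  · intro a a' h
    apply IsFractionRing.injective A K
    apply hψ.1
    rw [hcomm, hcomm, h]
  · intro b
    obtain ⟨k, hk⟩ := hψ.2 (iB b)
    obtain ⟨⟨a1, ⟨a2, ha2⟩⟩, hk2⟩ := IsLocalization.surj (nonZeroDivisors A) k
    have ha2' : algebraMap A K a2 ≠ 0 :=
      IsFractionRing.to_map_ne_zero_of_mem_nonZeroDivisors ha2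
    have hk3 : algebraMap A K a1 = k * algebraMap A K a2 := hk2.symm
    -- φ a1 = b * φ a2
    have h1 : φ a1 = b * φ a2 := by
      apply hiB
      rw [map_mul, ← hcomm, ← hcomm, hk3, map_mul, hk]
    algebraize [φ]
    have hmem : a1 ∈ ((Ideal.span {a2}).map (algebraMap A B)).comap (algebraMap A B) := by
      rw [Ideal.mem_comap, Ideal.map_span, Set.image_singleton, Ideal.mem_span_singleton]
      exact ⟨b, by rw [RingHom.algebraMap_toAlgebra, h1, mul_comm]⟩
    rw [Ideal.comap_map_eq_self_of_faithfullyFlat, Ideal.mem_span_singleton] at hmem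
    obtain ⟨c, hc⟩ := hmem
    refine ⟨c, hiB ?_⟩
    rw [← hcomm, ← hk]
    congr 1
    apply mul_right_cancel₀ ha2'
    rw [← hk3, hc, map_mul, mul_comm]

lemma faithfullyFlat_app {X' X : Scheme.{u}} (f : X' ⟶ X) [Surjective f] [Flat f] [IsAffineHom f]
    {V : X.Opens} (hV : IsAffineOpen V) : (f.app V).hom.FaithfullyFlat := by
  have hU : IsAffineOpen (f ⁻¹ᵁ V) := hV.preimage f
  rw [RingHom.FaithfullyFlat.iff_flat_and_comap_surjective]
  constructor
  · rw [Scheme.Hom.app_eq_appLE]
    exact HasRingHomProperty.appLE (P := @Flat) f inferInstance ⟨V, hV⟩ ⟨f ⁻¹ᵁ V, hU⟩ le_rfl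
  · intro p
    obtain ⟨x', hx'⟩ := f.surjective (hV.fromSpec p)
    have hx'U : x' ∈ f ⁻¹ᵁ V := by
      show f x' ∈ V
      rw [hx']
      have := hV.range_fromSpec
      rw [← SetLike.mem_coe, ← this]
      exact ⟨p, rfl⟩
    refine ⟨hU.primeIdealOf ⟨x', hx'U⟩, ?_⟩
    apply hV.fromSpec.isOpenEmbedding.injective
    have h1 := hV.SpecMap_appLE_fromSpec f hU le_rfl
    have h2 : hV.fromSpec (Spec.map (f.appLE V (f ⁻¹ᵁ V) le_rfl) (hU.primeIdealOf ⟨x', hx'U⟩)) =
        f (hU.fromSpec (hU.primeIdealOf ⟨x', hx'U⟩)) := by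
      exact (Scheme.Hom.comp_apply _ _ _).symm.trans
        ((congr($(h1) (hU.primeIdealOf ⟨x', hx'U⟩))).trans (Scheme.Hom.comp_apply _ _ _))
    rw [hU.fromSpec_primeIdealOf] at h2
    rw [← hx', ← h2, ← Scheme.Hom.app_eq_appLE]
    rfl

lemma map_genericPoint {X' X : Scheme.{u}} [IsIntegral X'] [IsIntegral X]
    (f : X' ⟶ X) [Surjective f] : f (genericPoint X') = genericPoint X := by
  apply ((genericPoint_spec X).eq _).symm
  have h := (genericPoint_spec X').image f.continuous
  rw [Set.image_univ, f.surjective.range_eq, closure_univ] at h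
  exact h

theorem isIso_of_affine {X' X : Scheme.{u}} [IsIntegral X'] [IsIntegral X]
    (f : X' ⟶ X) [Surjective f] [Flat f] [IsAffineHom f]
    (hK : IsIso (f.stalkMap (genericPoint X'))) : IsIso f := by
  have hgen := map_genericPoint f
  rw [← MorphismProperty.isomorphisms.iff]
  let ι := {V : X.affineOpens // Nonempty V.1}
  have hsup : ⨆ V : ι, V.1.1 = ⊤ := by
    rw [eq_top_iff]
    intro x _
    obtain ⟨W, hW, hxW, -⟩ := (TopologicalSpace.Opens.isBasis_iff_nbhd.mp X.isBasis_affineOpens)
      (show x ∈ (⊤ : X.Opens) from trivial)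
    exact TopologicalSpace.Opens.mem_iSup.mpr ⟨⟨⟨W, hW⟩, ⟨⟨x, hxW⟩⟩⟩, hxW⟩
  rw [IsZariskiLocalAtTarget.iff_of_iSup_eq_top (P := MorphismProperty.isomorphisms Scheme) _ hsup]
  rintro ⟨⟨V, hV⟩, hVne⟩
  change IsIso (f ∣_ V)
  rw [isIso_morphismRestrict_iff_isIso_app f hV, ConcreteCategory.isIso_iff_bijective]
  have hyV : f (genericPoint X') ∈ V := by
    rw [hgen]
    exact ((genericPoint_spec X).mem_open_set_iff V.isOpen).mpr (by simpa using hVne)
  let _ := (X.presheaf.germ V _ hyV).hom.toAlgebra
  have hfr : IsFractionRing Γ(X, V) (X.presheaf.stalk (f (genericPoint X'))) :=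
    Groth.Agent.S4808.isFractionRing_stalk hV _ hgen hyV
  refine bijective_of_faithfullyFlat_birational (K := X.presheaf.stalk (f (genericPoint X')))
    (K' := X'.presheaf.stalk (genericPoint X')) (f.app V).hom
    (X'.presheaf.germ (f ⁻¹ᵁ V) (genericPoint X') hyV).hom (f.stalkMap (genericPoint X')).hom
    (germ_injective_of_isIntegral X' _ hyV) ?_ ?_ ?_
  · exact (ConcreteCategory.isIso_iff_bijective _).mp hK
  · intro a
    have := Scheme.Hom.germ_stalkMap f V (genericPoint X') hyV
    exact congr($(this) a)
  · exact faithfullyFlat_app f hV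

lemma isFractionRing_stalk_of_specializes {X : Scheme.{u}} [IsIntegral X] (y z : X)
    (hy : y = genericPoint X) (h : y ⤳ z) :
    letI := (X.presheaf.stalkSpecializes h).hom.toAlgebra
    IsFractionRing (X.presheaf.stalk z) (X.presheaf.stalk y) := by
  subst hy
  exact inferInstanceAs (IsFractionRing (X.presheaf.stalk z) X.functionField)

theorem isIso_stalkMap_of_flat {X' X : Scheme.{u}} [IsIntegral X'] [IsIntegral X]
    (f : X' ⟶ X) [Surjective f] [Flat f]
    (hK : IsIso (f.stalkMap (genericPoint X'))) (x' : X') : IsIso (f.stalkMap x') := by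
  have hgen := map_genericPoint f
  rw [ConcreteCategory.isIso_iff_bijective]
  have hsp' : genericPoint X' ⤳ x' := (genericPoint_spec X').specializes trivial
  have hsp : f (genericPoint X') ⤳ f x' := f.base.hom.map_specializes hsp'
  let _ := (X.presheaf.stalkSpecializes hsp).hom.toAlgebra
  have hfr : IsFractionRing (X.presheaf.stalk (f x')) (X.presheaf.stalk (f (genericPoint X'))) :=
    isFractionRing_stalk_of_specializes _ _ hgen hsp
  refine bijective_of_faithfullyFlat_birational (K := X.presheaf.stalk (f (genericPoint X')))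
    (K' := X'.presheaf.stalk (genericPoint X')) (f.stalkMap x').hom
    (X'.presheaf.stalkSpecializes hsp').hom (f.stalkMap (genericPoint X')).hom ?_ ?_ ?_ ?_
  · exact IsFractionRing.injective (X'.presheaf.stalk x') X'.functionField
  · exact (ConcreteCategory.isIso_iff_bijective _).mp hK
  · intro a
    have := Scheme.Hom.stalkSpecializes_stalkMap f (genericPoint X') x' hsp'
    exact congr($(this) a)
  · algebraize [(f.stalkMap x').hom]
    have : Module.FaithfullyFlat (X.presheaf.stalk (f x')) (X'.presheaf.stalk x') :=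
      @Module.FaithfullyFlat.of_flat_of_isLocalHom _ _ _ _ _ _ _
        (Flat.stalkMap f x') (f.toLRSHom.prop x')
    exact this

theorem isIso_of_lfp {X' X : Scheme.{u}} [IsIntegral X'] [IsIntegral X]
    (f : X' ⟶ X) [Surjective f] [IsSeparated f] [Flat f] [LocallyOfFinitePresentation f]
    (hK : IsIso (f.stalkMap (genericPoint X'))) : IsIso f := by
  have hloc : IsLocalIso f := by
    refine ⟨fun x => ?_⟩
    have hiso := isIso_stalkMap_of_flat f hK x
    have h : (𝟙 X : X ⟶ X).stalkMap (f x) ≫ f.stalkMap x =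
        X.presheaf.stalkSpecializes
          (Inseparable.of_eq (rfl : f x = (𝟙 X : X ⟶ X) (f x))).specializes ≫ f.stalkMap x := by
      rw [Scheme.Hom.stalkMap_id]
      exact congrArg (· ≫ f.stalkMap x) (TopCat.Presheaf.stalkSpecializes_refl _ _).symm
    obtain ⟨U, hxU, V, hyV, F, hF, -, hFS⟩ :=
      Groth.Agent.Lib.LocalIsoSpread.exists_iso_opens f (𝟙 X) (x := x) (y := f x) rfl
        (f.stalkMap x) h
    refine ⟨U, hxU, ?_⟩
    rw [← hFS]
    infer_instance
  have : Etale f := IsLocalIso.le_of_isZariskiLocalAtSource @Etale _ _ f hloc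
  obtain ⟨W, hxW, hW⟩ := hloc.exists_isOpenImmersion (genericPoint X')
  have hWd : Dense (W : Set X') := Groth.Agent.S9680.dense_of_mem_open W hxW
  have hmono : Mono f := Groth.Agent.S5067.mono_of_dense_open f W hWd
  have : IsOpenImmersion f := IsOpenImmersion.of_flat_of_mono f
  exact (isIso_iff_isOpenImmersion_and_surjective f).mpr ⟨inferInstance, inferInstance⟩


/-- Take integral schemes X' and X and a separated surjective morphism f : X' → X which is birational in
the sense that the induced map of function fields (the stalk map of f at the generic point of X') is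
an isomorphism, and suppose f is affine (e.g. a normalization) or locally of finite presentation
(e.g. a blow-up of a Noetherian integral scheme). Then f is flat exactly when it is an isomorphism. -/
theorem result {X' X : Scheme.{u}} [IsIntegral X'] [IsIntegral X]
    (f : X' ⟶ X) [Surjective f] [IsSeparated f] (hK : IsIso (f.stalkMap (genericPoint X')))
    (h : IsAffineHom f ∨ LocallyOfFinitePresentation f) :
    Flat f ↔ IsIso f := by
  constructor
  · intro hflat
    rcases h with h | h
    · exact isIso_of_affine f hK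
    · exact isIso_of_lfp f hK
  · intro hiso
    infer_instance

end Groth.Agent.S10879
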