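import Groth.Statements.S10880
import Groth.Agent.Lib.H47DvrFibre

set_option autoImplicit false
universe u
open CategoryTheory AlgebraicGeometry
open FlatMor

namespace Groth.Agent.S10880

open AlgebraicGeometry CategoryTheory Limits IsLocalRing TopologicalSpace Opposite
open Groth.Agent.Lib.H47DvrFibre

variable {R : Type u} [CommRing R] {X : Scheme.{u}} (f : X ⟶ Spec (CommRingCat.of R))

/-- `π`-power torsion sections over an affine open vanish, when the closed fibre is reduced, the
generic fibre is dense and `X` is locally Noetherian. -/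
lemma eq_zero_of_pow_mul_eq_zero [IsLocalRing R] [IsLocallyNoetherian X] (π : R)
    (hπ : maximalIdeal R = Ideal.span {π})
    (hred : IsReduced (f.fiber (closedPoint R)))
    (hdense : Dense ((f ⁻¹ᵁ Dπ π : X.Opens) : Set X)) {G : X.Opens} (hG : IsAffineOpen G) :
    ∀ (n : ℕ) (b : Γ(X, G)), toΓG f G π ^ n * b = 0 → b = 0 := by
  set ϖ := toΓG f G π with hϖ
  have hN : IsNoetherianRing Γ(X, G) := IsLocallyNoetherian.component_noetherian ⟨G, hG⟩
  -- the ideal of `ϖ`-power torsion
  let I : Ideal Γ(X, G) :=
    { carrier := {b | ∃ n : ℕ, ϖ ^ n * b = 0}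
      add_mem' := by
        rintro a b ⟨n, hn⟩ ⟨m, hm⟩
        refine ⟨n + m, ?_⟩
        rw [mul_add, pow_add]
        linear_combination ϖ ^ m * hn + ϖ ^ n * hm
      zero_mem' := ⟨0, by simp⟩
      smul_mem' := by
        rintro c b ⟨n, hn⟩
        refine ⟨n, ?_⟩
        rw [smul_eq_mul]
        linear_combination c * hn }
  have hImem : ∀ b, b ∈ I ↔ ∃ n : ℕ, ϖ ^ n * b = 0 := fun b => Iff.rfl
  -- elements of `I` are nilpotent, by density of the generic fibre
  have hnil : ∀ b ∈ I, IsNilpotent b := by
    rintro b ⟨n, hn⟩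
    have h1 : X.basicOpen b ⊓ f ⁻¹ᵁ Dπ π = ⊥ := by
      have h2 : X.basicOpen (ϖ ^ (n + 1) * b) = ⊥ := by
        rw [pow_succ, mul_assoc, mul_comm ϖ b, ← mul_assoc, hn, zero_mul, Scheme.basicOpen_zero]
      rw [Scheme.basicOpen_mul, Scheme.basicOpen_pow _ _ (Nat.succ_pos n), hϖ, basicOpen_toΓG] at h2
      rw [← le_bot_iff, ← h2]
      exact le_inf (le_inf (inf_le_left.trans (X.basicOpen_le b)) inf_le_right) inf_le_left
    have h3 : X.basicOpen b = ⊥ := by
      by_contra hne
      obtain ⟨x, hx⟩ : ∃ x, x ∈ X.basicOpen b := by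
        by_contra h
        push Not at h
        exact hne (Opens.ext (Set.eq_empty_of_forall_notMem h))
      obtain ⟨y, hy1, hy2⟩ := hdense.inter_open_nonempty _ (X.basicOpen b).isOpen ⟨x, hx⟩
      have : y ∈ X.basicOpen b ⊓ f ⁻¹ᵁ Dπ π := ⟨hy1, hy2⟩
      rw [h1] at this
      exact this
    have h4 := hG.fromSpec_preimage_basicOpen b
    rw [h3] at h4
    exact (PrimeSpectrum.basicOpen_eq_bot_iff _).mp h4.symm
  -- hence `I ≤ ϖ I`
  have hle : I ≤ Ideal.span {ϖ} • I := by
    intro b hb
    obtain ⟨m, hm⟩ := hnil b hb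
    have hbϖ : b ∈ Ideal.span {ϖ} := by
      have key : ∀ (m : ℕ), b ^ m ∈ Ideal.span {ϖ} → b ∈ Ideal.span {ϖ} := by
        intro m
        induction m using Nat.strong_induction_on with
        | _ m ih =>
          intro hbm
          rcases Nat.lt_or_ge m 2 with hm2 | hm2
          · interval_cases m
            · rw [pow_zero] at hbm
              rw [← mul_one b]
              exact Ideal.mul_mem_left _ b hbm
            · simpa using hbm
          · have hlt : (m + 1) / 2 < m := by omega
            apply ih ((m + 1) / 2) hlt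
            apply mem_span_of_sq_mem f π hπ hred hG
            rw [← pow_add]
            have : (m + 1) / 2 + (m + 1) / 2 = m + ((m + 1) / 2 + (m + 1) / 2 - m) := by omega
            rw [this, pow_add]
            exact Ideal.mul_mem_right _ _ hbm
      apply key m
      rw [hm]
      exact Ideal.zero_mem _
    obtain ⟨c, rfl⟩ := Ideal.mem_span_singleton'.mp hbϖ
    have hc : c ∈ I := by
      obtain ⟨n, hn⟩ := hb
      exact ⟨n + 1, by rw [pow_succ]; linear_combination hn⟩
    rw [mul_comm]
    exact Ideal.mul_mem_mul (Ideal.subset_span rfl) hc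
  have hfg : I.FG := IsNoetherian.noetherian I
  obtain ⟨r, hr1, hr2⟩ :=
    Submodule.exists_sub_one_mem_and_smul_eq_zero_of_fg_of_le_smul (Ideal.span {ϖ}) I hfg hle
  obtain ⟨c, hc⟩ := Ideal.mem_span_singleton'.mp hr1
  intro n b hb
  have hbI : b ∈ I := ⟨n, hb⟩
  have h1 : r * b = 0 := hr2 b hbI
  -- `b = (-c ϖ)^n b = 0`
  have h2 : b = -(c * ϖ) * b := by
    have : r = c * ϖ + 1 := by linear_combination -hc
    rw [this] at h1
    linear_combination h1
  have h3 : ∀ k : ℕ, b = (-(c * ϖ)) ^ k * b := by
    intro k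
    induction k with
    | zero => simp
    | succ k ih =>
      rw [pow_succ, mul_assoc, ← h2]
      exact ih
  rw [h3 n, neg_pow, mul_pow]
  linear_combination ((-1) ^ n * c ^ n) * hb


/-- Let R be a discrete valuation ring and X a locally Noetherian scheme over Spec R whose
scheme-theoretic special fibre is reduced and such that every maximal point of the special fibre
lies in the closure of the generic fibre, i.e. the generic fibre is dense in X. Then X is flat over
R. -/
theorem result (R : Type u) [CommRing R] [IsDomain R]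
    [IsDiscreteValuationRing R] {X : Scheme.{u}} (f : X ⟶ Spec (CommRingCat.of R)) [IsLocallyNoetherian X]
    (hred : IsReduced (f.fiber (IsLocalRing.closedPoint R)))
    (hdense : Dense (f.base ⁻¹' {genericPoint (Spec (CommRingCat.of R))})) : Flat f := by
  obtain ⟨π, hπirr⟩ := IsDiscreteValuationRing.exists_irreducible R
  have hπ : maximalIdeal R = Ideal.span {π} := hπirr.maximalIdeal_eq
  have hπ0 : π ≠ 0 := hπirr.ne_zero
  have hgen : genericPoint (Spec (CommRingCat.of R)) = (⟨⊥, Ideal.isPrime_bot⟩ : PrimeSpectrum R) :=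
    genericPoint_eq_bot_of_affine (CommRingCat.of R)
  have hdense' : Dense ((f ⁻¹ᵁ Dπ π : X.Opens) : Set X) := by
    rw [← preimage_generic_eq f π hπ hπ0, ← hgen]
    exact hdense
  have := HasRingHomProperty.HasAffineProperty @Flat
  rw [HasAffineProperty.iff_of_isAffine (P := @Flat)]
  intro G
  have hGaff : IsAffineOpen G.1 := G.2
  have hbij : Function.Bijective (Scheme.ΓSpecIso (CommRingCat.of R)).inv.hom :=
    ConcreteCategory.bijective_of_isIso (Scheme.ΓSpecIso (CommRingCat.of R)).inv
  rw [← RingHom.Flat.comp_iff_of_bijective_right hbij]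
  have heq : (f.appLE ⊤ G.1 le_top).hom.comp (Scheme.ΓSpecIso (CommRingCat.of R)).inv.hom =
      toΓG f G.1 := by
    rw [toΓG, toΓ, ← RingHom.comp_assoc]
    rfl
  rw [heq]
  let _ := (toΓG f G.1).toAlgebra
  change Module.Flat R Γ(X, G.1)
  have htf : Module.IsTorsionFree R Γ(X, G.1) := by
    constructor
    intro r hr b₁ b₂ hb
    have hr0 : r ≠ 0 := hr.ne_zero
    obtain ⟨n, u, rfl⟩ := IsDiscreteValuationRing.eq_unit_mul_pow_irreducible hr0 hπirr
    rw [← sub_eq_zero]
    apply eq_zero_of_pow_mul_eq_zero f π hπ hred hdense' hGaff n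
    have h1 : ((u : R) * π ^ n) • (b₁ - b₂) = 0 := by
      rw [smul_sub]
      exact sub_eq_zero.mpr hb
    rw [Algebra.smul_def, map_mul, map_pow] at h1
    have hu : IsUnit (algebraMap R Γ(X, G.1) (u : R)) := u.isUnit.map _
    rw [mul_assoc] at h1
    exact hu.mul_right_eq_zero.mp h1
  infer_instance

end Groth.Agent.S10880
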