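import Groth.Statements.S10881
import Groth.Agent.Lib.RegularNormal
import Groth.Agent.Lib.GorChartFlat83
import Groth.Agent.Lib.H8CM6

set_option autoImplicit false
universe u
open CategoryTheory AlgebraicGeometry
open FlatMor

namespace Groth.Agent.S10881

section Aux
open IsLocalRing


/-- going down for `R → S` when `S` is a local domain which is a localization of an integral
sub-`R`-algebra and `R` is integrally closed. -/
theorem hasGoingDown_of_subalgebra {R S : Type u} [CommRing R] [CommRing S] [IsDomain S]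
    [IsLocalRing S] [IsIntegrallyClosed R] [Algebra R S]
    (hinj : Function.Injective (algebraMap R S))
    (D : Subalgebra R S) [Algebra.IsIntegral R D]
    (hD : ∀ s : S, ∃ d t : D, IsUnit (t : S) ∧ s * t = d) :
    Algebra.HasGoingDown R S := by
  haveI : FaithfulSMul R D := by
    rw [faithfulSMul_iff_algebraMap_injective]
    intro a b hab
    apply hinj
    have := congrArg (fun z : D => (z : S)) hab
    simpa using this
  haveI : Algebra.HasGoingDown R D := inferInstance
  let P : Ideal D := (maximalIdeal S).comap (algebraMap D S)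
  haveI : P.IsPrime := Ideal.comap_isPrime _ _
  haveI : IsLocalization.AtPrime S P := by
    refine ⟨⟨?_, ?_, ?_⟩⟩
    · rintro ⟨y, hy⟩
      have : algebraMap D S y ∉ maximalIdeal S := fun h => hy h
      simpa [mem_maximalIdeal, mem_nonunits_iff] using this
    · intro s
      obtain ⟨d, t, ht, hst⟩ := hD s
      refine ⟨⟨d, ⟨t, ?_⟩⟩, hst⟩
      intro h
      exact (mem_maximalIdeal _).mp h ht
    · intro a b hab
      refine ⟨1, ?_⟩
      have : a = b := Subtype.ext hab
      simp [this]
  haveI : Module.Flat D S := IsLocalization.flat S P.primeCompl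
  exact Algebra.HasGoingDown.trans R D S

theorem ringKrullDim_eq_of_hasGoingDown (R S : Type u) [CommRing R] [CommRing S]
    [IsLocalRing R] [IsLocalRing S] [IsNoetherianRing R] [IsNoetherianRing S]
    [Algebra R S] [IsLocalHom (algebraMap R S)] [Algebra.HasGoingDown R S]
    (hart : IsArtinianRing (S ⧸ (maximalIdeal R).map (algebraMap R S))) :
    ringKrullDim S = ringKrullDim R := by
  have hco : (maximalIdeal S).comap (algebraMap R S) = maximalIdeal R :=
    ((IsLocalRing.local_hom_TFAE (algebraMap R S)).out 0 4).mp ‹_›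
  haveI : (maximalIdeal S).LiesOver (maximalIdeal R) := ⟨hco.symm⟩
  have h := Ideal.height_eq_height_add_of_liesOver_of_hasGoingDown (maximalIdeal R) (maximalIdeal S)
  have hle : (maximalIdeal R).map (algebraMap R S) ≤ maximalIdeal S :=
    ((IsLocalRing.local_hom_TFAE (algebraMap R S)).out 0 2).mp ‹_›
  have hprime : ((maximalIdeal S).map
      (Ideal.Quotient.mk ((maximalIdeal R).map (algebraMap R S)))).IsPrime :=
    Ideal.isPrime_map_quotientMk_of_isPrime hle
  have h0 : ((maximalIdeal S).map
      (Ideal.Quotient.mk ((maximalIdeal R).map (algebraMap R S)))).height = 0 := by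
    have := Ideal.height_le_ringKrullDim_of_ne_top hprime.ne_top
    have h2 : ringKrullDim (S ⧸ (maximalIdeal R).map (algebraMap R S)) ≤ 0 :=
      Ring.krullDimLE_iff.mp inferInstance
    have h3 := this.trans h2
    have : ((((maximalIdeal S).map
      (Ideal.Quotient.mk ((maximalIdeal R).map (algebraMap R S)))).height : ℕ∞) : WithBot ℕ∞) ≤ 0 := h3
    exact nonpos_iff_eq_zero.mp (by exact_mod_cast this)
  rw [h0, add_zero] at h
  rw [← IsLocalRing.maximalIdeal_height_eq_ringKrullDim,
    ← IsLocalRing.maximalIdeal_height_eq_ringKrullDim, h]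



/-- the generic point of the spectrum of a domain, as a point of the scheme `Spec`. -/
noncomputable def botPt (R : CommRingCat.{u}) [IsDomain R] : ↥(Spec R) :=
  (⟨⊥, Ideal.isPrime_bot⟩ : PrimeSpectrum R)

theorem botPt_specializes (R : CommRingCat.{u}) [IsDomain R] (P : ↥(Spec R)) : botPt R ⤳ P := by
  refine (PrimeSpectrum.le_iff_specializes (R := R) (botPt R) P).mp ?_
  change (⊥ : Ideal R) ≤ PrimeSpectrum.asIdeal P
  exact bot_le

theorem eq_botPt_of_specializes (R : CommRingCat.{u}) [IsDomain R] (P : ↥(Spec R))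
    (h : P ⤳ botPt R) : P = botPt R := by
  have h3 : PrimeSpectrum.asIdeal P ≤ ⊥ :=
    (PrimeSpectrum.le_iff_specializes (R := R) P (botPt R)).mpr h
  exact PrimeSpectrum.ext (le_bot_iff.mp h3)

/-- the generic point of `Spec O_{X,x}` (a domain) maps to a point whose closure is an irreducible
component of `X`. -/
theorem closure_mem_irreducibleComponents {X : Scheme.{u}} (x : X) [IsDomain (X.presheaf.stalk x)] :
    closure {(X.fromSpecStalk x) (botPt (X.presheaf.stalk x))} ∈
      irreducibleComponents X := by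
  set ξ := (X.fromSpecStalk x) (botPt (X.presheaf.stalk x)) with hξ
  have hξx : ξ ⤳ x := by
    have : ξ ∈ Set.range (X.fromSpecStalk x) := ⟨_, rfl⟩
    rwa [Scheme.range_fromSpecStalk] at this
  refine ⟨isIrreducible_singleton.closure, ?_⟩
  intro Z' hZ' hle
  -- generic point of closure Z'
  have hirr : IsIrreducible (closure Z') := hZ'.closure
  obtain ⟨ξ', hξ'⟩ := QuasiSober.sober hirr isClosed_closure
  have h1 : ξ' ⤳ ξ := by
    rw [specializes_iff_mem_closure, hξ'.def]
    exact subset_closure (hle (subset_closure rfl))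
  have h2 : ξ' ∈ Set.range (X.fromSpecStalk x) := by
    rw [Scheme.range_fromSpecStalk]
    exact h1.trans hξx
  obtain ⟨P', hP'⟩ := h2
  have h3 : P' ⤳ botPt (X.presheaf.stalk x) := by
    rw [← (X.fromSpecStalk x).isEmbedding.isInducing.specializes_iff, hP']
    exact h1
  have h4 := eq_botPt_of_specializes _ P' h3
  have h5 : ξ' = ξ := by rw [← hP', h4]
  calc Z' ⊆ closure Z' := subset_closure
    _ = closure {ξ'} := hξ'.def.symm
    _ = closure {ξ} := by rw [h5]

theorem stalkMap_injective {X Y : Scheme.{u}} (f : X ⟶ Y) (x : X)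
    [IsDomain (X.presheaf.stalk x)] [IsDomain (Y.presheaf.stalk (f x))]
    (hdom : ∀ Z ∈ irreducibleComponents (X : Type u),
      closure (f.base '' Z) ∈ irreducibleComponents (Y : Type u)) :
    Function.Injective (f.stalkMap x).hom := by
  rw [injective_iff_map_eq_zero]
  intro a ha
  set botS := botPt (X.presheaf.stalk x) with hbotS
  set botR := botPt (Y.presheaf.stalk (f x)) with hbotR
  set ξ := (X.fromSpecStalk x) botS with hξ
  set η := (Y.fromSpecStalk (f x)) botR with hη
  set P : ↥(Spec (Y.presheaf.stalk (f x))) := (Spec.map (f.stalkMap x)) botS with hP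
  have hfξ : f ξ = (Y.fromSpecStalk (f x)) P := by
    have := congrArg (fun g => g botS) (Scheme.SpecMap_stalkMap_fromSpecStalk (f := f) (x := x))
    exact this.symm
  have hZ := closure_mem_irreducibleComponents x
  have hW := hdom _ hZ
  have hWeq : closure (f.base '' closure {ξ}) = closure {f ξ} := by
    rw [closure_image_closure f.continuous, Set.image_singleton]
  rw [hWeq] at hW
  have hηf : η ⤳ f ξ := by
    rw [hfξ]
    exact Specializes.map (botPt_specializes _ P) (Y.fromSpecStalk (f x)).continuous
  have hsub : closure {f ξ} ⊆ closure {η} := by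
    rw [← specializes_iff_closure_subset]; exact hηf
  have hsub' : closure {η} ⊆ closure {f ξ} := hW.2 isIrreducible_singleton.closure hsub
  have hfη : f ξ ⤳ η := by
    rw [specializes_iff_closure_subset]; exact hsub'
  rw [hfξ, (Y.fromSpecStalk (f x)).isEmbedding.isInducing.specializes_iff] at hfη
  have hPbot := eq_botPt_of_specializes _ P hfη
  have h8 : a ∈ PrimeSpectrum.asIdeal P := by
    change a ∈ Ideal.comap (f.stalkMap x).hom ⊥
    rw [Ideal.mem_comap, ha]; exact Ideal.zero_mem _
  rw [hPbot] at h8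
  have h9 : a ∈ (⊥ : Ideal (Y.presheaf.stalk (f x))) := h8
  exact Ideal.mem_bot.mp h9


end Aux

/-- A finite morphism f : X → Y between regular schemes (locally Noetherian with regular local rings)
under which each irreducible component of X dominates some irreducible component of Y is flat, hence
finite locally free. (The published statement asks only that f be dominant; for X the disjoint union
of the affine line and a point, mapped to the affine line Y by the identity and the inclusion of a
closed point, f is finite and dominant between regular schemes but not flat, and the published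
argument uses injectivity of the local ring maps, which holds exactly under the component-wise
dominance assumed here.) -/
theorem result {X Y : Scheme.{u}} (f : X ⟶ Y) [IsFinite f]
    [IsLocallyNoetherian X] [IsLocallyNoetherian Y]
    (hX : ∀ x : X, IsRegularLocalRing (X.presheaf.stalk x))
    (hY : ∀ y : Y, IsRegularLocalRing (Y.presheaf.stalk y))
    (hdom : ∀ Z ∈ irreducibleComponents (X : Type u), closure (f.base '' Z) ∈ irreducibleComponents (Y : Type u)) :
    Flat f := by
  rw [Flat.iff_flat_stalkMap]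
  intro x
  haveI := hX x
  haveI := hY (f x)
  haveI : IsDomain (X.presheaf.stalk x) := Groth.Agent.Lib.RegularLocal.isDomain _
  haveI : IsDomain (Y.presheaf.stalk (f x)) := Groth.Agent.Lib.RegularLocal.isDomain _
  have hinj := stalkMap_injective f x hdom
  have hqf : (f.stalkMap x).hom.QuasiFinite := f.quasiFiniteAt x
  have hCM : LocCoh.IsCohenMacaulayLocalRing (X.presheaf.stalk x) :=
    Groth.Agent.Lib.H8CM.isCMLocalRing_of_isRegularLocalRing
  refine Groth.Agent.Lib.GorChartFlat83.flat_of_regular_of_cm_of_quasiFinite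
    (f.stalkMap x).hom hCM hqf ?_
  haveI : IsIntegrallyClosed (Y.presheaf.stalk (f x)) :=
    Groth.Agent.Lib.RegularNormal.isIntegrallyClosed _
  -- charts
  obtain ⟨_, ⟨V, hV, rfl⟩, hyV, -⟩ :=
    Y.isBasis_affineOpens.exists_subset_of_mem_open (Set.mem_univ (f x)) isOpen_univ
  have hU : IsAffineOpen (f ⁻¹ᵁ V) := hV.preimage f
  have hxU : x ∈ f ⁻¹ᵁ V := hyV
  letI : Algebra Γ(Y, V) Γ(X, f ⁻¹ᵁ V) := (f.app V).hom.toAlgebra
  haveI : Module.Finite Γ(Y, V) Γ(X, f ⁻¹ᵁ V) := f.finite_app V hV
  letI : Algebra Γ(Y, V) (Y.presheaf.stalk (f x)) :=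
    (Y.presheaf.germ V (f x) hyV).hom.toAlgebra
  letI : Algebra Γ(X, f ⁻¹ᵁ V) (X.presheaf.stalk x) :=
    (X.presheaf.germ (f ⁻¹ᵁ V) x hxU).hom.toAlgebra
  haveI hlocX : IsLocalization.AtPrime (X.presheaf.stalk x)
      (hU.primeIdealOf ⟨x, hxU⟩).asIdeal := hU.isLocalization_stalk ⟨x, hxU⟩
  letI : Algebra (Y.presheaf.stalk (f x)) (X.presheaf.stalk x) :=
    (f.stalkMap x).hom.toAlgebra
  haveI : IsLocalHom (algebraMap (Y.presheaf.stalk (f x)) (X.presheaf.stalk x)) :=
    (inferInstance : IsLocalHom (f.stalkMap x).hom)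
  have hcomm : (algebraMap (Y.presheaf.stalk (f x)) (X.presheaf.stalk x)).comp
      (algebraMap Γ(Y, V) (Y.presheaf.stalk (f x))) =
      (algebraMap Γ(X, f ⁻¹ᵁ V) (X.presheaf.stalk x)).comp
        (algebraMap Γ(Y, V) Γ(X, f ⁻¹ᵁ V)) := by
    change (f.stalkMap x).hom.comp (Y.presheaf.germ V (f x) hyV).hom =
      (X.presheaf.germ (f ⁻¹ᵁ V) x hxU).hom.comp (f.app V).hom
    rw [← CommRingCat.hom_comp, ← CommRingCat.hom_comp, Scheme.Hom.germ_stalkMap]
  -- the subalgebra
  let D : Subalgebra (Y.presheaf.stalk (f x)) (X.presheaf.stalk x) :=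
    Algebra.adjoin _ (Set.range (algebraMap Γ(X, f ⁻¹ᵁ V) (X.presheaf.stalk x)))
  haveI : Algebra.IsIntegral (Y.presheaf.stalk (f x)) D := by
    apply Algebra.IsIntegral.adjoin
    rintro _ ⟨b, rfl⟩
    exact IsIntegral.map_of_comp_eq (algebraMap Γ(Y, V) (Y.presheaf.stalk (f x)))
      (algebraMap Γ(X, f ⁻¹ᵁ V) (X.presheaf.stalk x)) hcomm
      (Algebra.IsIntegral.isIntegral (R := Γ(Y, V)) b)
  have hD : ∀ s : X.presheaf.stalk x, ∃ d t : D, IsUnit (t : X.presheaf.stalk x) ∧ s * t = d := by
    intro s
    obtain ⟨⟨b, t⟩, hbt⟩ := IsLocalization.surj (hU.primeIdealOf ⟨x, hxU⟩).asIdeal.primeCompl s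
    refine ⟨⟨_, Algebra.subset_adjoin ⟨b, rfl⟩⟩, ⟨_, Algebra.subset_adjoin ⟨t.1, rfl⟩⟩, ?_, hbt⟩
    exact IsLocalization.map_units _ t
  haveI : Algebra.HasGoingDown (Y.presheaf.stalk (f x)) (X.presheaf.stalk x) :=
    hasGoingDown_of_subalgebra hinj D hD
  haveI : Algebra.QuasiFinite (Y.presheaf.stalk (f x)) (X.presheaf.stalk x) := by
    rwa [← RingHom.quasiFinite_algebraMap]
  exact ringKrullDim_eq_of_hasGoingDown _ _
    Groth.Agent.Lib.CMQF33.isArtinianRing_quotient_of_quasiFinite

end Groth.Agent.S10881
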