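import Groth.Statements.S10882
import Groth.Agent.Lib.H30FibBC
import Groth.Agent.Lib.FibreDimAtFormula
import Groth.Agent.Lib.FibreStalk33
import Groth.Agent.S2082
import Groth.Agent.S4644

set_option autoImplicit false
universe u
open CategoryTheory AlgebraicGeometry
open FlatMor

namespace Groth.Agent.S10882
open Groth.Agent.Lib.H30DimField Groth.Agent.Lib.H30DimRel

/-- in an equidimensional scheme of dimension `n` locally of finite type over a field,
`dim O_z + trdeg κ(z) = n` -/
theorem stalk_dim_of_equidim (k : Type u) [Field k] (Z : Scheme.{u}) [Z.Over (Spec (CommRingCat.of k))]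
    [LocallyOfFiniteType (Z ↘ (Spec (CommRingCat.of k)))] (n : ℕ)
    (hZ : ∀ T ∈ irreducibleComponents (Z : Type u), topologicalKrullDim T = n) (z : Z) :
    td k Z z ≤ n ∧ ringKrullDim (Z.presheaf.stalk z) = (((n : ℤ) - td k Z z).toNat : ℕ) := by
  haveI : IsLocallyNoetherian Z := isLocallyNoetherian k Z
  have hδ := isDimFun k Z
  obtain ⟨ξ, hξ, hξz, hdim⟩ := stalk_dim_exists hδ z
  have hcomp : closure ({ξ} : Set Z) ∈ irreducibleComponents Z :=
    (closure_mem_irreducibleComponents_iff ξ).mpr hξ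
  have h1 := hZ _ hcomp
  rw [Groth.Agent.S4644.dim_closure_eq (k := k) ξ] at h1
  have h2 : (td k Z ξ).toNat = n := by exact_mod_cast h1
  have h3 := td_nonneg k Z ξ
  have h4 : td k Z ξ = n := by omega
  have h5 := Groth.Agent.S6462.delta_le_of_specializes hδ hξz
  rw [h4] at hdim h5
  exact ⟨h5, hdim⟩

/-- transfer of equidimensionality of the set-theoretic fibres to `Cyc.HasRelDim` -/
theorem hasRelDim_of_fibres {X Y : Scheme.{u}} (f : X ⟶ Y) (r : ℕ)
    (hfib : ∀ y : Y, ∀ Z ∈ irreducibleComponents (f.base ⁻¹' {y}), topologicalKrullDim Z = r) :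
    Cyc.HasRelDim f r := by
  intro y T hT
  let e := f.fiberHomeo y
  have h1 : e '' T ∈ irreducibleComponents (f.base ⁻¹' {y}) :=
    image_mem_irreducibleComponents_of_isPreirreducible_fiber e e.continuous e.isOpenMap
      (fun x => by
        have : e ⁻¹' {x} = {e.symm x} := by
          ext a; simp [Set.mem_preimage, e.eq_symm_apply]
        rw [this]; exact isPreirreducible_singleton) e.surjective hT
  rw [← hfib y _ h1]
  exact IsHomeomorph.topologicalKrullDim_eq _ (e.image T).isHomeomorph

theorem exists_nat_of_add_eq (a : WithBot ℕ∞) (r n : ℕ) (h : a + (r : WithBot ℕ∞) = (n : WithBot ℕ∞)) :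
    ∃ m : ℕ, a = (m : WithBot ℕ∞) ∧ m + r = n := by
  induction a using WithBot.recBotCoe with
  | bot =>
    exfalso
    rw [WithBot.bot_add] at h
    exact WithBot.bot_ne_coe (a := ((n : ℕ∞))) h
  | coe a =>
    induction a using ENat.recTopCoe with
    | top =>
      exfalso
      have h' : ((⊤ : ℕ∞) + (r : ℕ∞)) = (n : ℕ∞) := by exact_mod_cast h
      rw [top_add] at h'
      exact ENat.top_ne_coe n h'
    | coe m =>
      refine ⟨m, rfl, ?_⟩
      exact_mod_cast h


/-- Let X and Y be schemes locally of finite type over a field k and f : X → Y a k-morphism, with Y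
regular (all local rings regular), X Cohen–Macaulay (all local rings Cohen–Macaulay), X
equidimensional of dimension e, Y equidimensional of dimension d ≤ e, and all fibres of f
equidimensional of dimension e − d (every irreducible component of every fibre has dimension e − d).
Then f is flat. -/
theorem result (k : Type u) [Field k] {X Y : Scheme.{u}}
    (q : Y ⟶ Spec (CommRingCat.of k)) [LocallyOfFiniteType q] (f : X ⟶ Y) [LocallyOfFiniteType (f ≫ q)]
    (hY : ∀ y : Y, IsRegularLocalRing (Y.presheaf.stalk y))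
    (hX : ∀ x : X, LocCoh.IsCohenMacaulayLocalRing (X.presheaf.stalk x))
    (e d : ℕ) (hde : d ≤ e)
    (hXe : ∀ Z ∈ irreducibleComponents (X : Type u), topologicalKrullDim Z = e)
    (hYd : ∀ Z ∈ irreducibleComponents (Y : Type u), topologicalKrullDim Z = d)
    (hfib : ∀ y : Y, ∀ Z ∈ irreducibleComponents (f.base ⁻¹' {y}), topologicalKrullDim Z = (e - d : ℕ)) :
    Flat f := by
  letI iY : Y.Over (Spec (CommRingCat.of k)) := ⟨q⟩
  letI iX : X.Over (Spec (CommRingCat.of k)) := ⟨f ≫ q⟩
  haveI : LocallyOfFiniteType (Y ↘ (Spec (CommRingCat.of k))) := ‹LocallyOfFiniteType q›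
  haveI : LocallyOfFiniteType (X ↘ (Spec (CommRingCat.of k))) := ‹LocallyOfFiniteType (f ≫ q)›
  haveI : LocallyOfFiniteType f := locallyOfFiniteType_of_comp f q
  rw [Flat.iff_flat_stalkMap]
  intro x
  obtain ⟨hx1, hx2⟩ := stalk_dim_of_equidim k X e hXe x
  obtain ⟨hy1, hy2⟩ := stalk_dim_of_equidim k Y d hYd (f x)
  have hrel := (Groth.Agent.Lib.H30FibBC.hasRelDim_iff f (e - d)).mp (hasRelDim_of_fibres f _ hfib) x
  rw [Groth.Agent.Lib.FibreDimAtFormula.fibreDimAt_eq_add f x (rt f x) (trdeg_eq_rt f x)] at hrel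
  have htd := Groth.Agent.Lib.H30FlatDim.td_eq_add k X Y f rfl x
  obtain ⟨m, hm, hmr⟩ := exists_nat_of_add_eq _ _ _ hrel
  have hfs : ringKrullDim (X.presheaf.stalk x ⧸ Ideal.map (f.stalkMap x).hom
      (IsLocalRing.maximalIdeal (Y.presheaf.stalk (f x)))) = (m : WithBot ℕ∞) := by
    rw [ringKrullDim_eq_of_ringEquiv (Groth.Agent.Lib.FibreStalk33.fibreStalkEquiv f x), hm]
  haveI := hY (f x)
  haveI := hX x
  letI : Algebra (Y.presheaf.stalk (f x)) (X.presheaf.stalk x) := (f.stalkMap x).hom.toAlgebra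
  haveI : IsLocalHom (algebraMap (Y.presheaf.stalk (f x)) (X.presheaf.stalk x)) :=
    inferInstanceAs (IsLocalHom (f.stalkMap x).hom)
  have hdim : ringKrullDim (X.presheaf.stalk x) = ringKrullDim (Y.presheaf.stalk (f x)) +
      ringKrullDim (X.presheaf.stalk x ⧸ (IsLocalRing.maximalIdeal (Y.presheaf.stalk (f x))).map
        (algebraMap (Y.presheaf.stalk (f x)) (X.presheaf.stalk x))) := by
    have hfs' : ringKrullDim (X.presheaf.stalk x ⧸ (IsLocalRing.maximalIdeal (Y.presheaf.stalk (f x))).map
        (algebraMap (Y.presheaf.stalk (f x)) (X.presheaf.stalk x))) = (m : WithBot ℕ∞) := hfs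
    rw [hfs', hx2, hy2]
    have hnn := td_nonneg k Y (f x)
    have : ((e : ℤ) - td k X x).toNat = ((d : ℤ) - td k Y (f x)).toNat + m := by omega
    rw [this]
    push_cast
    rfl
  exact Groth.Agent.S2082.result hdim

end Groth.Agent.S10882
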