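import Groth.Statements.S10884
import Groth.Agent.Lib.H73FibDim

set_option autoImplicit false
universe u
open CategoryTheory AlgebraicGeometry
open Variety

namespace Groth.Agent.S10884

open Groth.Agent.Lib.H30DimField Groth.Agent.Lib.H73FibDim


/-- Let Y be a scheme of finite type over a field k and f : X → Y a dominant morphism of finite type all
of whose non-empty fibres have dimension r. Then dim X = r + dim Y. -/
theorem result (k : Type u) [Field k] {X Y : Scheme.{u}}
    (q : Y ⟶ Spec (CommRingCat.of k)) [LocallyOfFiniteType q] [QuasiCompact q]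
    (f : X ⟶ Y) [LocallyOfFiniteType f] [QuasiCompact f] (hdom : DenseRange f.base) (r : ℕ)
    (hfib : ∀ y : Y, (f.base ⁻¹' {y}).Nonempty → topologicalKrullDim (f.base ⁻¹' {y}) = r) :
    topologicalKrullDim X = (r : WithBot ℕ∞) + topologicalKrullDim Y := by
  letI : Y.Over (Spec (CommRingCat.of k)) := ⟨q⟩
  letI : X.Over (Spec (CommRingCat.of k)) := ⟨f ≫ q⟩
  haveI : f.IsOver (Spec (CommRingCat.of k)) := ⟨rfl⟩
  haveI : LocallyOfFiniteType (Y ↘ Spec (CommRingCat.of k)) := ‹LocallyOfFiniteType q›
  haveI : QuasiCompact (Y ↘ Spec (CommRingCat.of k)) := ‹QuasiCompact q›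
  haveI : LocallyOfFiniteType (X ↘ Spec (CommRingCat.of k)) :=
    inferInstanceAs (LocallyOfFiniteType (f ≫ q))
  haveI : QuasiCompact (X ↘ Spec (CommRingCat.of k)) :=
    inferInstanceAs (QuasiCompact (f ≫ q))
  rcases isEmpty_or_nonempty Y with hY | hY
  · haveI : IsEmpty X := ⟨fun x => hY.elim (f x)⟩
    rw [dim_eq_bot_of_isEmpty Y, dim_eq_bot_of_isEmpty X]
    simp
  · obtain ⟨η, hη, hdim⟩ := exists_maximal_td_eq k (Y := Y)
    have hXN : IsLocallyNoetherian X := isLocallyNoetherian k X
    haveI : CompactSpace X :=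
      QuasiCompact.compactSpace_of_compactSpace (X ↘ Spec (CommRingCat.of k))
    haveI : IsNoetherian X := {}
    apply le_antisymm
    · -- upper bound
      rw [hdim]
      have h0 : ((r : WithBot ℕ∞) + (((td k Y η).toNat : ℕ) : WithBot ℕ∞)) =
          ((r + (td k Y η).toNat : ℕ) : WithBot ℕ∞) := by push_cast; rfl
      rw [h0]
      apply dim_le_of_td_le k
      intro x
      have h1 := td_sub_le_fibre_dim k f x
      rw [hfib (f x) ⟨x, rfl⟩] at h1
      have h2 : (td k X x - td k Y (f x)).toNat ≤ r := by exact_mod_cast h1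
      have h3 := td_le_dim k (f x)
      rw [hdim] at h3
      have h4 : (td k Y (f x)).toNat ≤ (td k Y η).toNat := by exact_mod_cast h3
      have h5 := td_nonneg k Y (f x)
      have h6 := td_nonneg k Y η
      push_cast
      omega
    · obtain ⟨x₀, hx₀⟩ := maximal_mem_range f.base f.continuous hdom η hη
      have hfη := hfib η ⟨x₀, hx₀⟩
      obtain ⟨x, hx, hle⟩ := exists_td_ge_of_le_fibre_dim k f η r (le_of_eq hfη.symm)
      refine le_trans ?_ (td_le_dim k x)
      rw [hdim]
      have h1 := td_nonneg k Y η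
      have h2 : r + (td k Y η).toNat ≤ (td k X x).toNat := by omega
      exact_mod_cast h2

end Groth.Agent.S10884
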