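import Groth.Statements.S10885
import Groth.Agent.Lib.H73FibDim

set_option autoImplicit false
universe u
open CategoryTheory AlgebraicGeometry
open Variety

namespace Groth.Agent.S10885

open Groth.Agent.Lib.H30DimField Groth.Agent.Lib.H73FibDim


/-- Let Y be a scheme of finite type over a field k, r ≥ 0, and f : X → Y a morphism of finite type
whose fibre over every maximal point of Y has dimension at least r. Then dim X ≥ r + dim Y. -/
theorem result (k : Type u) [Field k] {X Y : Scheme.{u}}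
    (q : Y ⟶ Spec (CommRingCat.of k)) [LocallyOfFiniteType q] [QuasiCompact q]
    (f : X ⟶ Y) [LocallyOfFiniteType f] [QuasiCompact f] (r : ℕ)
    (hfib : ∀ η : Y, (∀ y : Y, y ⤳ η → y = η) → (r : WithBot ℕ∞) ≤ topologicalKrullDim (f.base ⁻¹' {η})) :
    (r : WithBot ℕ∞) + topologicalKrullDim Y ≤ topologicalKrullDim X := by
  letI : Y.Over (Spec (CommRingCat.of k)) := ⟨q⟩
  letI : X.Over (Spec (CommRingCat.of k)) := ⟨f ≫ q⟩
  haveI : f.IsOver (Spec (CommRingCat.of k)) := ⟨rfl⟩
  haveI : LocallyOfFiniteType (Y ↘ Spec (CommRingCat.of k)) := ‹LocallyOfFiniteType q›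
  haveI : QuasiCompact (Y ↘ Spec (CommRingCat.of k)) := ‹QuasiCompact q›
  haveI : LocallyOfFiniteType (X ↘ Spec (CommRingCat.of k)) :=
    inferInstanceAs (LocallyOfFiniteType (f ≫ q))
  rcases isEmpty_or_nonempty Y with hY | hY
  · rw [dim_eq_bot_of_isEmpty Y]
    simp
  · obtain ⟨η, hη, hdim⟩ := exists_maximal_td_eq k (Y := Y)
    obtain ⟨x, hx, hle⟩ := exists_td_ge_of_le_fibre_dim k f η r (hfib η hη)
    refine le_trans ?_ (td_le_dim k x)
    rw [hdim]
    have h1 := td_nonneg k Y η
    have h2 : r + (td k Y η).toNat ≤ (td k X x).toNat := by omega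
    exact_mod_cast h2

end Groth.Agent.S10885
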