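import Groth.Statements.S10886

set_option autoImplicit false
universe u
open CategoryTheory AlgebraicGeometry
open Curves

namespace Groth.Agent.S10886

open TopologicalSpace in
/-- In a T0 quasi-sober irreducible space of dimension ≤ 1, a proper irreducible closed subset is a
singleton. -/
theorem subsingleton_of_irreducible_closed {X : Type*} [TopologicalSpace X] [T0Space X]
    [QuasiSober X] [IrreducibleSpace X] (hX : topologicalKrullDim X ≤ 1) {T : Set X}
    (hT : IsIrreducible T) (hTc : IsClosed T) (hne : T ≠ Set.univ) : T.Subsingleton := by
  obtain ⟨t, ht⟩ := QuasiSober.sober hT hTc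
  have key : ∀ y ∈ T, y = t := by
    intro y hy
    by_contra hyt
    have hcl : closure ({y} : Set X) ⊆ T := hTc.closure_subset_iff.mpr (by simpa using hy)
    have hne' : closure ({y} : Set X) ≠ T := by
      intro h
      apply hyt
      have : Inseparable y t := by
        rw [inseparable_iff_closure_eq, h, ht.def]
      exact this.eq
    let a : IrreducibleCloseds X := ⟨closure {y}, isIrreducible_singleton.closure, isClosed_closure⟩
    let b : IrreducibleCloseds X := ⟨T, hT, hTc⟩
    let c : IrreducibleCloseds X := ⟨Set.univ, IrreducibleSpace.isIrreducible_univ X, isClosed_univ⟩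
    have hab : a < b := by
      rw [← SetLike.coe_ssubset_coe]
      exact ⟨hcl, fun h => hne' (Set.Subset.antisymm hcl h)⟩
    have hbc : b < c := by
      rw [← SetLike.coe_ssubset_coe]
      exact ⟨Set.subset_univ _, fun h => hne (Set.Subset.antisymm (Set.subset_univ _) h)⟩
    let s : LTSeries (IrreducibleCloseds X) :=
      { length := 2
        toFun := ![a, b, c]
        step := by
          intro i
          fin_cases i
          · exact hab
          · exact hbc }
    have h2 : (2 : WithBot ℕ∞) ≤ topologicalKrullDim X := by
      have := Order.LTSeries.length_le_krullDim s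
      exact this
    have : (2 : WithBot ℕ∞) ≤ 1 := le_trans h2 hX
    exact absurd this (by decide)
  intro y hy z hz
  rw [key y hy, key z hz]

open TopologicalSpace in
/-- In a T0 quasi-sober Noetherian irreducible space of dimension ≤ 1, a proper closed subset is a
finite set of closed points. -/
theorem finite_of_isClosed_ne_univ {X : Type*} [TopologicalSpace X] [T0Space X]
    [QuasiSober X] [NoetherianSpace X] [IrreducibleSpace X] (hX : topologicalKrullDim X ≤ 1)
    {Z : Set X} (hZ : IsClosed Z) (hne : Z ≠ Set.univ) :
    Z.Finite ∧ ∀ x ∈ Z, IsClosed ({x} : Set X) := by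
  obtain ⟨S, hSf, hSc, hSi, rfl⟩ := NoetherianSpace.exists_finite_set_isClosed_irreducible hZ
  have hsub : ∀ T ∈ S, T.Subsingleton := by
    intro T hT
    apply subsingleton_of_irreducible_closed hX (hSi T hT) (hSc T hT)
    intro h
    apply hne
    apply Set.eq_univ_of_univ_subset
    rw [← h]
    exact Set.subset_sUnion_of_mem hT
  constructor
  · exact Set.Finite.sUnion hSf fun T hT => (hsub T hT).finite
  · rintro x ⟨T, hT, hxT⟩
    have : T = {x} := by
      ext y
      constructor
      · intro hy
        exact hsub T hT hy hxT
      · rintro rfl
        exact hxT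
    rw [← this]
    exact hSc T hT

/-- In an irreducible Noetherian scheme of dimension one every constructible subset is either a finite
set of closed points or the complement of such a set; in particular it is open or closed. -/
theorem result {X : Scheme.{u}} [IsNoetherian X]
    [IrreducibleSpace X] (hX : topologicalKrullDim X = 1) (s : Set X) (hs : Topology.IsConstructible s) :
    (s.Finite ∧ (∀ x ∈ s, IsClosed ({x} : Set X))) ∨ (sᶜ.Finite ∧ ∀ x ∈ sᶜ, IsClosed ({x} : Set X)) := by
  induction hs using Topology.IsConstructible.empty_union_induction with
  | open_retrocompact U hU _ =>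
    by_cases hUe : U = ∅
    · left
      subst hUe
      simp
    · right
      apply finite_of_isClosed_ne_univ hX.le hU.isClosed_compl
      intro h
      apply hUe
      exact Set.compl_univ_iff.mp h
  | union s hs t ht ihs iht =>
    rcases ihs with ⟨h1, h2⟩ | ⟨h1, h2⟩
    · rcases iht with ⟨h3, h4⟩ | ⟨h3, h4⟩
      · left
        refine ⟨h1.union h3, ?_⟩
        rintro x (hx | hx)
        · exact h2 x hx
        · exact h4 x hx
      · right
        rw [Set.compl_union]
        exact ⟨h3.subset Set.inter_subset_right, fun x hx => h4 x hx.2⟩
    · right
      rw [Set.compl_union]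
      exact ⟨h1.subset Set.inter_subset_left, fun x hx => h2 x hx.1⟩
  | compl s hs ih =>
    rcases ih with h | h
    · right
      rwa [compl_compl]
    · left
      exact h

end Groth.Agent.S10886
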