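import Groth.Statements.S10887
import Mathlib.AlgebraicGeometry.FunctionField
import Mathlib.AlgebraicGeometry.Morphisms.UniversallyOpen
import Mathlib.RingTheory.Flat.TorsionFree
import Groth.Agent.Lib.RegularDimOne
import Groth.Agent.Lib.RegularLocal

set_option autoImplicit false
universe u
open CategoryTheory AlgebraicGeometry
open FlatMor

namespace Groth.Agent.S10887

section Aux
open IsLocalRing TopologicalSpace


/-- a point of `Spec R` as a point of the scheme. -/
noncomputable def mkPt (R : CommRingCat.{u}) (q : Ideal R) [q.IsPrime] : ↥(Spec R) :=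
  (⟨q, inferInstance⟩ : PrimeSpectrum R)

theorem mkPt_asIdeal (R : CommRingCat.{u}) (q : Ideal R) [q.IsPrime] :
    PrimeSpectrum.asIdeal (mkPt R q) = q := rfl

theorem le_of_specializes (R : CommRingCat.{u}) (P Q : ↥(Spec R)) (h : P ⤳ Q) :
    PrimeSpectrum.asIdeal P ≤ PrimeSpectrum.asIdeal Q :=
  (PrimeSpectrum.le_iff_specializes (R := R) P Q).mpr h

theorem specializes_of_le (R : CommRingCat.{u}) (P Q : ↥(Spec R))
    (h : PrimeSpectrum.asIdeal P ≤ PrimeSpectrum.asIdeal Q) : P ⤳ Q :=
  (PrimeSpectrum.le_iff_specializes (R := R) P Q).mp h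

/-- the image in `X` of a minimal prime of `O_{X,x}` has closure an irreducible component. -/
theorem closure_mem_irreducibleComponents {X : Scheme.{u}} (x : X)
    (q : Ideal (X.presheaf.stalk x)) (hq : q ∈ minimalPrimes (X.presheaf.stalk x)) :
    haveI : q.IsPrime := hq.1.1
    closure {(X.fromSpecStalk x) (mkPt (X.presheaf.stalk x) q)} ∈ irreducibleComponents X := by
  haveI : q.IsPrime := hq.1.1
  set ξ := (X.fromSpecStalk x) (mkPt (X.presheaf.stalk x) q) with hξ
  have hξx : ξ ⤳ x := by
    have : ξ ∈ Set.range (X.fromSpecStalk x) := ⟨_, rfl⟩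
    rwa [Scheme.range_fromSpecStalk] at this
  refine ⟨isIrreducible_singleton.closure, ?_⟩
  intro Z' hZ' hle
  have hirr : IsIrreducible (closure Z') := hZ'.closure
  obtain ⟨ξ', hξ'⟩ := QuasiSober.sober hirr isClosed_closure
  have h1 : ξ' ⤳ ξ := by
    rw [specializes_iff_mem_closure, hξ'.def]
    exact subset_closure (hle (subset_closure rfl))
  have h2 : ξ' ∈ Set.range (X.fromSpecStalk x) := by
    rw [Scheme.range_fromSpecStalk]
    exact h1.trans hξx
  obtain ⟨P', hP'⟩ := h2
  have h3 : P' ⤳ mkPt (X.presheaf.stalk x) q := by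
    rw [← (X.fromSpecStalk x).isEmbedding.isInducing.specializes_iff, hP']
    exact h1
  have h3' := le_of_specializes _ _ _ h3
  have h4 : P' = mkPt (X.presheaf.stalk x) q := by
    apply PrimeSpectrum.ext
    exact le_antisymm h3' (hq.2 ⟨P'.2, bot_le⟩ h3')
  have h5 : ξ' = ξ := by rw [← hP', h4]
  calc Z' ⊆ closure Z' := subset_closure
    _ = closure {ξ'} := hξ'.def.symm
    _ = closure {ξ} := by rw [h5]

/-- on an integral scheme, only the zero ideal of a stalk maps to the generic point. -/
theorem asIdeal_eq_bot_of_fromSpecStalk_eq_genericPoint {Y : Scheme.{u}} [IsIntegral Y] (y : Y)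
    (P : ↥(Spec (Y.presheaf.stalk y))) (hP : (Y.fromSpecStalk y) P = genericPoint Y) :
    PrimeSpectrum.asIdeal P = ⊥ := by
  have hb : (Y.fromSpecStalk y) (mkPt (Y.presheaf.stalk y) ⊥) ⤳ (Y.fromSpecStalk y) P :=
    Specializes.map (specializes_of_le _ _ _ bot_le) (Y.fromSpecStalk y).continuous
  rw [hP] at hb
  have hb' := genericPoint_specializes ((Y.fromSpecStalk y) (mkPt (Y.presheaf.stalk y) ⊥))
  have heq : (Y.fromSpecStalk y) (mkPt (Y.presheaf.stalk y) ⊥) = (Y.fromSpecStalk y) P := by
    rw [hP]; exact (hb.antisymm hb').eq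
  have := (Y.fromSpecStalk y).isEmbedding.injective heq
  rw [← this]; rfl


end Aux

/-- (i) ⇔ (iii): let Y be a Dedekind scheme — an integral Noetherian scheme of dimension at most one all
of whose local rings are regular — and f : X → Y a morphism of schemes with X reduced. Then f is
flat if and only if every irreducible component of X dominates Y. (Without reducedness only the
forward implication holds.) -/
theorem result {X Y : Scheme.{u}} [IsIntegral Y]
    [IsNoetherian Y] (hreg : ∀ y : Y, IsRegularLocalRing (Y.presheaf.stalk y)) (hdim : topologicalKrullDim Y ≤ 1)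
    (f : X ⟶ Y) [IsReduced X] :
    Flat f ↔ ∀ Z ∈ irreducibleComponents (X : Type u), Dense (f.base '' Z) := by
  constructor
  · intro hf Z hZ
    have hgen : GeneralizingMap f.base := Flat.generalizingMap f
    have hZc : IsClosed Z := isClosed_of_mem_irreducibleComponents Z hZ
    obtain ⟨ξ, hξ⟩ := QuasiSober.sober hZ.1 hZc
    obtain ⟨ξ', h1, h2⟩ := hgen (genericPoint_specializes (f.base ξ))
    -- ξ' = ξ
    have hsub : Z ⊆ closure {ξ'} := by
      rw [← hξ.def]
      exact (specializes_iff_closure_subset.mp h1)
    have hsub' : closure {ξ'} ⊆ Z := hZ.2 isIrreducible_singleton.closure hsub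
    have hξ'Z : ξ' ∈ Z := hsub' (subset_closure rfl)
    rw [dense_iff_closure_eq]
    apply Set.eq_univ_of_univ_subset
    rw [← (genericPoint_spec Y).def]
    exact closure_mono (Set.singleton_subset_iff.mpr ⟨ξ', hξ'Z, h2⟩)
  · intro h
    rw [Flat.iff_flat_stalkMap]
    intro x
    haveI := hreg (f x)
    haveI : IsDomain (Y.presheaf.stalk (f x)) := Groth.Agent.Lib.RegularLocal.isDomain _
    have hd : ringKrullDim (Y.presheaf.stalk (f x)) ≤ 1 :=
      (Groth.Agent.Lib.RegularDimOne.dim_stalk_le Y (f x)).trans hdim
    haveI := Groth.Agent.Lib.RegularDimOne.isPrincipalIdealRing_of_regular_of_dim_le_one _ hd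
    letI : Algebra (Y.presheaf.stalk (f x)) (X.presheaf.stalk x) := (f.stalkMap x).hom.toAlgebra
    change Module.Flat (Y.presheaf.stalk (f x)) (X.presheaf.stalk x)
    rw [Module.Flat.flat_iff_torsion_eq_bot_of_isBezout, Submodule.eq_bot_iff]
    intro b hb
    obtain ⟨r, hr⟩ := (Submodule.mem_torsion_iff b).mp hb
    -- b lies in every minimal prime
    have hnil : b ∈ nilradical (X.presheaf.stalk x) := by
      change b ∈ (⊥ : Ideal (X.presheaf.stalk x)).radical
      rw [← Ideal.sInf_minimalPrimes, Ideal.mem_sInf]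
      intro q hq
      haveI : q.IsPrime := hq.1.1
      have hZ := closure_mem_irreducibleComponents x q hq
      have hd := h _ hZ
      set ξ := (X.fromSpecStalk x) (mkPt (X.presheaf.stalk x) q) with hξ
      have hgen : f.base ξ = genericPoint Y := by
        have h1 : IsGenericPoint (f.base ξ) Set.univ := by
          rw [isGenericPoint_def, ← hd.closure_eq, closure_image_closure f.continuous,
            Set.image_singleton]
        exact h1.eq (genericPoint_spec Y)
      have hfξ : f.base ξ = (Y.fromSpecStalk (f x))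
          ((Spec.map (f.stalkMap x)) (mkPt (X.presheaf.stalk x) q)) := by
        have := congrArg (fun g => g (mkPt (X.presheaf.stalk x) q))
          (Scheme.SpecMap_stalkMap_fromSpecStalk (f := f) (x := x))
        exact this.symm
      have hbot := asIdeal_eq_bot_of_fromSpecStalk_eq_genericPoint (f x) _ (hfξ.symm.trans hgen)
      have hrq : algebraMap (Y.presheaf.stalk (f x)) (X.presheaf.stalk x) r.1 ∉ q := by
        intro hmem
        have : r.1 ∈ PrimeSpectrum.asIdeal
            ((Spec.map (f.stalkMap x)) (mkPt (X.presheaf.stalk x) q)) := hmem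
        rw [hbot] at this
        exact nonZeroDivisors.ne_zero r.2 (Ideal.mem_bot.mp this)
      have hmul : algebraMap (Y.presheaf.stalk (f x)) (X.presheaf.stalk x) r.1 * b ∈ q := by
        have : r.1 • b = 0 := hr
        rw [Algebra.smul_def] at this
        rw [this]; exact Ideal.zero_mem _
      exact (Ideal.IsPrime.mem_or_mem inferInstance hmul).resolve_left hrq
    have := nilradical_eq_zero (X.presheaf.stalk x) ▸ hnil
    simpa using this

end Groth.Agent.S10887
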