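import Groth.Statements.S10889
import Groth.Agent.Lib.H79FlatGenDimOpen2
import Groth.Agent.Lib.H86RelDimZero
import Groth.Agent.S0402

set_option autoImplicit false
universe u
open CategoryTheory AlgebraicGeometry
open FlatMor

namespace Groth.Agent.S10889

/-- Let f : X → Y be proper, flat and of finite presentation, and let V be the set of points of Y whose
fibre is (non-empty and) zero-dimensional. Then V is a clopen subset of Y, and over every open
subset of V the restriction of f is finite, hence finite locally free. -/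
theorem result {X Y : Scheme.{u}} (f : X ⟶ Y) [IsProper f] [Flat f]
    [LocallyOfFinitePresentation f] :
    IsClopen {y : Y | topologicalKrullDim (f.base ⁻¹' {y}) = 0} ∧
      ∀ U : Y.Opens, (U : Set Y) ⊆ {y : Y | topologicalKrullDim (f.base ⁻¹' {y}) = 0} → IsFinite (f ∣_ U) := by
  have hdim : ∀ y : Y, topologicalKrullDim (f.base ⁻¹' {y}) = topologicalKrullDim (f.fiber y) :=
    fun y => ((f.fiberHomeo y).isHomeomorph.topologicalKrullDim_eq).symm
  -- nonempty fibres
  have hA : {y : Y | ((0 : ℕ) : WithBot ℕ∞) ≤ topologicalKrullDim (f.fiber y)} = Set.range f := by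
    ext y
    rw [Set.mem_ofPred_eq, Groth.Agent.Lib.H56LocDim.le_dim_fiber_iff]
    constructor
    · rintro ⟨x, hx, -⟩
      exact ⟨x, hx⟩
    · rintro ⟨x, hx⟩
      exact ⟨x, hx, by exact_mod_cast Groth.Agent.Lib.H56LocDim.fibreDimAt_nonneg f x⟩
  have hAclopen : IsClopen (Set.range f) :=
    ⟨f.isClosedMap.isClosed_range, f.isOpenMap.isOpen_range⟩
  -- positive dimensional fibres
  have hBopen : IsOpen {y : Y | ((0 : ℕ) : WithBot ℕ∞) < topologicalKrullDim (f.fiber y)} :=
    Groth.Agent.Lib.H79FlatGenDimOpen2.isOpen_setOf_lt_dim_fiber_lfp f 0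
  have hBclosed : IsClosed {y : Y | ((0 : ℕ) : WithBot ℕ∞) < topologicalKrullDim (f.fiber y)} := by
    rw [Groth.Agent.Lib.H79FlatGenDimOpen.setOf_lt_dim_fiber_eq_image]
    apply f.isClosedMap
    exact (Groth.Agent.S0402.result f 0).isClosed_compl
  have hV : {y : Y | topologicalKrullDim (f.base ⁻¹' {y}) = 0} =
      Set.range f ∩ {y : Y | ((0 : ℕ) : WithBot ℕ∞) < topologicalKrullDim (f.fiber y)}ᶜ := by
    rw [← hA]
    ext y
    simp only [Set.mem_ofPred_eq, Set.mem_inter_iff, Set.mem_compl_iff, hdim, Nat.cast_zero]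
    constructor
    · intro h
      rw [h]
      exact ⟨le_rfl, lt_irrefl _⟩
    · rintro ⟨h1, h2⟩
      exact le_antisymm (not_lt.mp h2) h1
  refine ⟨?_, ?_⟩
  · rw [hV]
    exact hAclopen.inter ⟨hBopen.isClosed_compl, hBclosed.isOpen_compl⟩
  · intro U hU
    haveI : IsProper (f ∣_ U) := inferInstance
    haveI : LocallyQuasiFinite (f ∣_ U) := by
      rw [← Scheme.Hom.quasiFiniteLocus_eq_top_iff]
      ext x
      refine ⟨fun _ => trivial, fun _ => ?_⟩
      change (f ∣_ U).QuasiFiniteAt x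
      rw [← Groth.Agent.Lib.H86RelDimZero.fibreDimAt_eq_zero_iff]
      have h1 : FlatMor.fibreDimAt f ((f ⁻¹ᵁ U).ι x) = FlatMor.fibreDimAt (f ∣_ U) x :=
        Groth.Agent.S7408.result f (f ∣_ U) (f ⁻¹ᵁ U).ι U.ι (morphismRestrict_ι f U) x
      rw [← h1]
      apply le_antisymm _ (Groth.Agent.Lib.H56LocDim.fibreDimAt_nonneg f _)
      have hy : f ((f ⁻¹ᵁ U).ι x) ∈ (U : Set Y) := x.2
      have h2 : topologicalKrullDim (f.fiber (f ((f ⁻¹ᵁ U).ι x))) = 0 := by
        rw [← hdim]
        exact hU hy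
      rw [← h2, Groth.Agent.Lib.H56LocDim.dim_fiber_eq_iSup]
      exact le_iSup (fun z : {z : X // f.base z = f ((f ⁻¹ᵁ U).ι x)} => FlatMor.fibreDimAt f z.1)
        ⟨(f ⁻¹ᵁ U).ι x, rfl⟩
    exact IsFinite.of_isProper_of_locallyQuasiFinite _

end Groth.Agent.S10889
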