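import Groth.Statements.S10891

set_option autoImplicit false
universe u
open CAlg

namespace Groth.Agent.S10891

open MvPolynomial in
/-- The scaling endomorphism. -/
noncomputable def σ (k : Type u) [Field k] (w : Fin 2 → k) :
    MvPolynomial (Fin 2) k →ₐ[k] MvPolynomial (Fin 2) k :=
  MvPolynomial.aeval (fun i : Fin 2 => MvPolynomial.C (w i) * MvPolynomial.X i)

open MvPolynomial in
theorem σ_monomial (k : Type u) [Field k] (w : Fin 2 → k) (m : Fin 2 →₀ ℕ) (c : k) :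
    σ k w (monomial m c) = monomial m (c * (w 0 ^ m 0 * w 1 ^ m 1)) := by
  unfold σ
  rw [aeval_monomial, monomial_eq (s := m) (a := c * (w 0 ^ m 0 * w 1 ^ m 1)),
    Finsupp.prod_fintype _ _ (by intro i; simp), Finsupp.prod_fintype _ _ (by intro i; simp),
    Fin.prod_univ_two, Fin.prod_univ_two]
  simp only [mul_pow, ← map_pow, map_mul, algebraMap_eq]
  ring

open MvPolynomial in
theorem coeff_σ (k : Type u) [Field k] (w : Fin 2 → k) (p : MvPolynomial (Fin 2) k)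
    (m : Fin 2 →₀ ℕ) :
    coeff m (σ k w p) = coeff m p * (w 0 ^ m 0 * w 1 ^ m 1) := by
  classical
  induction p using MvPolynomial.induction_on' with
  | monomial u c =>
    rw [σ_monomial, coeff_monomial, coeff_monomial]
    split_ifs with h
    · subst h; rfl
    · simp
  | add p q hp hq =>
    rw [map_add, coeff_add, coeff_add, hp, hq, add_mul]

open MvPolynomial in
theorem X_pow_mem (k : Type u) [Field k] (r a : ℕ) (ha : 0 < a) (har : a < r) (i j : ℕ)
    (h : r ∣ i + a * j) :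
    (X 0 ^ i * X 1 ^ j : MvPolynomial (Fin 2) k) ∈
      Algebra.adjoin k {q : MvPolynomial (Fin 2) k | ∃ i j : ℕ, i ≤ r ∧ j ≤ r ∧ ¬ (i = r ∧ j = r) ∧
        r ∣ i + a * j ∧ q = MvPolynomial.X 0 ^ i * MvPolynomial.X 1 ^ j} := by
  have hr : 0 < r := lt_trans ha har
  set S := Algebra.adjoin k {q : MvPolynomial (Fin 2) k | ∃ i j : ℕ, i ≤ r ∧ j ≤ r ∧
    ¬ (i = r ∧ j = r) ∧ r ∣ i + a * j ∧ q = MvPolynomial.X 0 ^ i * MvPolynomial.X 1 ^ j} with hS
  have h1 : (X 0 ^ r : MvPolynomial (Fin 2) k) ∈ S := by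
    apply Algebra.subset_adjoin
    refine ⟨r, 0, le_rfl, Nat.zero_le _, ?_, ?_, ?_⟩
    · rintro ⟨-, h0⟩; omega
    · simp
    · simp
  have h2 : (X 1 ^ r : MvPolynomial (Fin 2) k) ∈ S := by
    apply Algebra.subset_adjoin
    refine ⟨0, r, Nat.zero_le _, le_rfl, ?_, ?_, ?_⟩
    · rintro ⟨h0, -⟩; omega
    · simp
    · simp
  have h3 : (X 0 ^ (i % r) * X 1 ^ (j % r) : MvPolynomial (Fin 2) k) ∈ S := by
    apply Algebra.subset_adjoin
    refine ⟨i % r, j % r, (Nat.mod_lt i hr).le, (Nat.mod_lt j hr).le, ?_, ?_, rfl⟩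
    · rintro ⟨h0, -⟩
      have := Nat.mod_lt i hr
      omega
    · have hmod : Nat.ModEq r (i + a * j) (i % r + a * (j % r)) :=
        Nat.ModEq.add (Nat.mod_modEq i r).symm (Nat.ModEq.mul_left a (Nat.mod_modEq j r).symm)
      exact (hmod.dvd_iff dvd_rfl).mp h
  have : (X 0 ^ i * X 1 ^ j : MvPolynomial (Fin 2) k) =
      (X 0 ^ r) ^ (i / r) * (X 1 ^ r) ^ (j / r) * (X 0 ^ (i % r) * X 1 ^ (j % r)) := by
    conv_lhs => rw [← Nat.div_add_mod i r, ← Nat.div_add_mod j r]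
    rw [pow_add, pow_add, pow_mul, pow_mul]
    ring
  rw [this]
  exact S.mul_mem (S.mul_mem (S.pow_mem h1 _) (S.pow_mem h2 _)) h3

/-- Let k be a field containing a primitive r-th root of unity ζ and 0 < a < r. The cyclic group of r-th
roots of unity acts on k[X, Y] through the generator X ↦ ζ⁻¹ X, Y ↦ ζ^(−a) Y, and the ring of
invariants of this action is generated as a k-algebra by the monomials X^i Y^j with 0 ≤ i, j ≤ r,
(i, j) ≠ (r, r) and i + a·j ≡ 0 (mod r). (The printed statement writes n for the order of the group,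
which the surrounding section calls r.) -/
theorem result (k : Type u) [Field k] (r a : ℕ) (ha : 0 < a) (har : a < r)
    (ζ : k) (hζ : IsPrimitiveRoot ζ r) (p : MvPolynomial (Fin 2) k) :
    MvPolynomial.aeval (fun i : Fin 2 => if i = 0 then MvPolynomial.C ζ⁻¹ * MvPolynomial.X 0
        else MvPolynomial.C (ζ⁻¹ ^ a) * (MvPolynomial.X 1 : MvPolynomial (Fin 2) k)) p = p ↔
      p ∈ Algebra.adjoin k {q : MvPolynomial (Fin 2) k | ∃ i j : ℕ, i ≤ r ∧ j ≤ r ∧ ¬ (i = r ∧ j = r) ∧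
        r ∣ i + a * j ∧ q = MvPolynomial.X 0 ^ i * MvPolynomial.X 1 ^ j} := by
  classical
  have hfun : (fun i : Fin 2 => if i = 0 then MvPolynomial.C ζ⁻¹ * MvPolynomial.X 0
        else MvPolynomial.C (ζ⁻¹ ^ a) * (MvPolynomial.X 1 : MvPolynomial (Fin 2) k)) =
      (fun i : Fin 2 => MvPolynomial.C ((![ζ⁻¹, ζ⁻¹ ^ a] : Fin 2 → k) i) * MvPolynomial.X i) := by
    funext i
    fin_cases i <;> simp
  rw [hfun]
  change σ k ![ζ⁻¹, ζ⁻¹ ^ a] p = p ↔ _
  have hζ' : IsPrimitiveRoot ζ⁻¹ r := hζ.inv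
  have hχ : ∀ m : Fin 2 →₀ ℕ, ((![ζ⁻¹, ζ⁻¹ ^ a] : Fin 2 → k) 0 ^ m 0 *
      (![ζ⁻¹, ζ⁻¹ ^ a] : Fin 2 → k) 1 ^ m 1) = ζ⁻¹ ^ (m 0 + a * m 1) := by
    intro m
    simp [pow_add, pow_mul]
  constructor
  · intro h
    have hsupp : ∀ m ∈ p.support, r ∣ m 0 + a * m 1 := by
      intro m hm
      have hc := congrArg (MvPolynomial.coeff m) h
      rw [coeff_σ, hχ] at hc
      have hne : MvPolynomial.coeff m p ≠ 0 := MvPolynomial.mem_support_iff.mp hm
      have : ζ⁻¹ ^ (m 0 + a * m 1) = 1 := by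
        have h' : MvPolynomial.coeff m p * ζ⁻¹ ^ (m 0 + a * m 1) = MvPolynomial.coeff m p * 1 := by
          rw [hc, mul_one]
        exact mul_left_cancel₀ hne h'
      exact (hζ'.pow_eq_one_iff_dvd _).mp this
    rw [p.as_sum]
    apply Subalgebra.sum_mem
    intro m hm
    rw [MvPolynomial.monomial_eq, Finsupp.prod_fintype _ _ (by intro i; simp), Fin.prod_univ_two]
    apply Subalgebra.mul_mem
    · exact Subalgebra.algebraMap_mem _ _
    · exact X_pow_mem k r a ha har _ _ (hsupp m hm)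
  · intro h
    have hle : Algebra.adjoin k {q : MvPolynomial (Fin 2) k | ∃ i j : ℕ, i ≤ r ∧ j ≤ r ∧
        ¬ (i = r ∧ j = r) ∧ r ∣ i + a * j ∧ q = MvPolynomial.X 0 ^ i * MvPolynomial.X 1 ^ j} ≤
        AlgHom.equalizer (σ k ![ζ⁻¹, ζ⁻¹ ^ a]) (AlgHom.id k _) := by
      apply Algebra.adjoin_le
      rintro q ⟨i, j, -, -, -, hdvd, rfl⟩
      change σ k ![ζ⁻¹, ζ⁻¹ ^ a] _ = _
      have : (MvPolynomial.X 0 ^ i * MvPolynomial.X 1 ^ j : MvPolynomial (Fin 2) k) =
          MvPolynomial.monomial (Finsupp.single 0 i + Finsupp.single 1 j) 1 := by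
        rw [MvPolynomial.X_pow_eq_monomial, MvPolynomial.X_pow_eq_monomial,
          MvPolynomial.monomial_mul, one_mul]
      rw [this, σ_monomial, hχ]
      have h1 : (Finsupp.single (0 : Fin 2) i + Finsupp.single 1 j : Fin 2 →₀ ℕ) 0 = i := by simp
      have h2 : (Finsupp.single (0 : Fin 2) i + Finsupp.single 1 j : Fin 2 →₀ ℕ) 1 = j := by simp
      rw [h1, h2, (hζ'.pow_eq_one_iff_dvd _).mpr hdvd, mul_one]
      rfl
    exact hle h

end Groth.Agent.S10891
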