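import Groth.Statements.S10896
import Groth.Agent.Lib.H79Tri9

set_option autoImplicit false
universe u
open Cubic

namespace Groth.Agent.S10896

/-- Over an algebraically closed field of characteristic zero, a smooth cubic surface S = V_+(f) ⊂ P^3
which contains a line contains two disjoint lines (2-dimensional subspaces of k^4 on which f
vanishes and which intersect trivially). -/
theorem result (k : Type u) [Field k] [IsAlgClosed k] [CharZero k]
    (f : MvPolynomial (Fin 4) k) (hf : f.IsHomogeneous 3) (hf0 : f ≠ 0)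
    (hsm : ∀ v : Fin 4 → k, v ≠ 0 → MvPolynomial.eval v f = 0 →
      ∃ i : Fin 4, MvPolynomial.eval v (MvPolynomial.pderiv i f) ≠ 0)
    (hL : ∃ U : Submodule k (Fin 4 → k), (Module.finrank k ↥U = 2 ∧ ∀ u ∈ U, MvPolynomial.eval u f = 0)) :
    ∃ U₁ U₂ : Submodule k (Fin 4 → k), (Module.finrank k ↥U₁ = 2 ∧ ∀ u ∈ U₁, MvPolynomial.eval u f = 0) ∧ (Module.finrank k ↥U₂ = 2 ∧ ∀ u ∈ U₂, MvPolynomial.eval u f = 0) ∧ U₁ ⊓ U₂ = ⊥ := by
  obtain ⟨L, hL2, hLS⟩ := hL
  have hV : Module.finrank k (Fin 4 → k) = 4 := by simp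
  have hsm' := Groth.Agent.Lib.H79CubK.symTri_smooth hf hsm
  have hLS' : ∀ u ∈ L, (Groth.Agent.Lib.H79CubK.symTri f).F u = 0 := by
    intro u hu
    rw [Groth.Agent.Lib.H79CubK.symTri_F hf]
    exact hLS u hu
  have key := Groth.Agent.Lib.H79Tri.exists_disjoint_lines
    (Groth.Agent.Lib.H79CubK.symTri f) hV hsm' hL2 hLS'
  simp_rw [Groth.Agent.Lib.H79CubK.symTri_F hf] at key
  exact key

end Groth.Agent.S10896
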