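import Groth.Statements.S10898
import Mathlib.RingTheory.KrullDimension.Polynomial

set_option autoImplicit false
universe u
open Polynomial
open WDiv

namespace Groth.Agent.S10898

/-- Let A be a Noetherian integral domain and P a prime ideal of height 1 of the polynomial ring A[X].
Then either P meets A in 0 only, or its contraction p = P ∩ A is a prime of height 1 of A and P is
the extension p·A[X]. (The published lemma also assumes A regular in codimension 1; that hypothesis
is not used for this assertion.) -/
theorem result (A : Type u) [CommRing A] [IsDomain A]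
    [IsNoetherianRing A] (P : Ideal A[X]) [P.IsPrime] (hP : P.height = 1) :
    P.comap (C : A →+* A[X]) = ⊥ ∨
      ((P.comap (C : A →+* A[X])).height = 1 ∧ P = (P.comap (C : A →+* A[X])).map C) := by
  by_cases h : P.comap (C : A →+* A[X]) = ⊥
  · left; exact h
  right
  set p := P.comap (C : A →+* A[X]) with hp_def
  have hp : p.IsPrime := Ideal.comap_isPrime _ _
  have hpP : p.map C ≤ P := Ideal.map_comap_le
  have hpX : (p.map (C : A →+* A[X])).IsPrime := Ideal.isPrime_map_C_of_isPrime
  have hne : p.map (C : A →+* A[X]) ≠ ⊥ := by
    intro h0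
    apply h
    rw [eq_bot_iff]
    intro a ha
    have : (C a : A[X]) ∈ p.map (C : A →+* A[X]) := Ideal.mem_map_of_mem _ ha
    rw [h0, Ideal.mem_bot, C_eq_zero] at this
    exact this
  have h1 : 1 ≤ (p.map (C : A →+* A[X])).height := by
    rw [Order.one_le_iff_pos, pos_iff_ne_zero, Ne, Ideal.height_eq_zero_iff_eq_bot]
    exact hne
  have heq : P = p.map C := by
    by_contra hne'
    have hlt : p.map C < P := lt_of_le_of_ne hpP (Ne.symm hne')
    have h2 := Ideal.height_add_one_le_of_lt_of_isPrime hlt
    rw [hP] at h2
    have : (1 : ℕ∞) + 1 ≤ 1 := le_trans (add_le_add_left h1 1) h2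
    exact absurd this (by decide)
  refine ⟨?_, heq⟩
  have hlo : (p.map (C : A →+* A[X])).LiesOver p := ⟨by
    change p = (p.map C).comap C
    rw [← heq]⟩
  have key := Ideal.height_eq_height_add_of_liesOver_of_hasGoingDown p (p.map (C : A →+* A[X]))
  rw [← heq, hP] at key
  have hbot : (P.map (Ideal.Quotient.mk (p.map (algebraMap A A[X])))).height = 0 := by
    have : P.map (Ideal.Quotient.mk (p.map (algebraMap A A[X]))) = ⊥ := by
      conv_lhs => rw [heq]
      exact Ideal.map_quotient_self _
    rw [this]
    have : Nontrivial (A[X] ⧸ p.map (algebraMap A A[X])) :=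
      Ideal.Quotient.nontrivial_iff.mpr hpX.ne_top
    exact Ideal.height_bot
  rw [hbot, add_zero] at key
  exact key.symm

end Groth.Agent.S10898
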