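import Groth.Statements.S10899
import Mathlib.Tactic
import Mathlib.RingTheory.RegularLocalRing.Polynomial
import Mathlib.RingTheory.DiscreteValuationRing.TFAE
import Groth.Agent.S10898
-- import your own Groth.Agent.* helpers here

set_option autoImplicit false
universe u
open Polynomial
open WDiv

namespace Groth.Agent.S10899

/-- Let A be a Noetherian integral domain which is regular in codimension 1, i.e. whose localization at
every prime ideal of height 1 is a discrete valuation ring. Then the polynomial ring A[X] is regular
in codimension 1 as well: its localization at every prime ideal of height 1 is a discrete valuation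
ring. -/
theorem result (A : Type u) [CommRing A]
    [IsDomain A] [IsNoetherianRing A]
    (hR1 : ∀ (p : Ideal A) [p.IsPrime], p.height = 1 → IsDiscreteValuationRing (Localization.AtPrime p))
    (P : Ideal A[X]) [P.IsPrime] (hP : P.height = 1) :
    IsDiscreteValuationRing (Localization.AtPrime P) := by
  let q := P.comap (C : A →+* A[X])
  have hqreg : IsRegularLocalRing (Localization.AtPrime q) := by
    rcases Groth.Agent.S10898.result A P hP with h0 | ⟨h1, -⟩
    · have hf : IsField (Localization.AtPrime q) := by
        rw [IsLocalRing.isField_iff_maximalIdeal_eq, ← Localization.AtPrime.map_eq_maximalIdeal]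
        show Ideal.map _ (P.comap (C : A →+* A[X])) = ⊥
        rw [h0, Ideal.map_bot]
      have := hf.isPrincipalIdealRing
      infer_instance
    · have := hR1 q h1
      infer_instance
  let S := (Localization.AtPrime q)[X]
  let pc := Submonoid.map Polynomial.C.toMonoidHom q.primeCompl
  let : Algebra A[X] S := Polynomial.algebra A (Localization.AtPrime q)
  have : IsLocalization pc S := Polynomial.isLocalization _ _
  let pS := P.map (algebraMap A[X] S)
  have disj : Disjoint (pc : Set A[X]) (P : Set A[X]) := by
    simpa [pc, q] using! Set.disjoint_image_left.mpr
      (Set.disjoint_compl_left_iff_subset.mpr (fun _ a ↦ a))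
  have : pS.IsPrime := IsLocalization.isPrime_of_isPrime_disjoint pc _ _ ‹_› disj
  have : IsLocalization.AtPrime (Localization.AtPrime pS) P := by
    convert IsLocalization.isLocalization_isLocalization_atPrime_isLocalization pc
      (Localization.AtPrime pS) pS
    exact (IsLocalization.under_map_of_isPrime_disjoint pc _ ‹_› disj).symm
  have eq : Ideal.comap C pS = IsLocalRing.maximalIdeal (Localization.AtPrime q) := by
    rw [← IsLocalization.map_under q.primeCompl _ (Ideal.comap C pS),
      ← IsLocalization.map_under q.primeCompl _ (IsLocalRing.maximalIdeal (Localization.AtPrime q))]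
    simp only [Ideal.comap_comap, S, pS]
    rw [← Polynomial.algebraMap_eq (R := Localization.AtPrime q),
      ← IsScalarTower.algebraMap_eq A (Localization.AtPrime q) (Localization.AtPrime q)[X],
      IsScalarTower.algebraMap_eq A A[X] (Localization.AtPrime q)[X], ← Ideal.comap_comap,
      ← Ideal.under_def A[X], IsLocalization.under_map_of_isPrime_disjoint pc _ ‹_› disj]
    simp [q, IsLocalization.AtPrime.under_maximalIdeal (Localization.AtPrime q) q]
  have hregS := Polynomial.isRegularLocalRing_localization_atPrime_of_comap_eq_maximalIdeal _ pS eq
  have hreg : IsRegularLocalRing (Localization.AtPrime P) :=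
    IsRegularLocalRing.of_ringEquiv (R := Localization.AtPrime pS) (IsLocalization.algEquiv P.primeCompl
      (Localization.AtPrime pS) (Localization.AtPrime P)).toRingEquiv
  have hdim : ringKrullDim (Localization.AtPrime P) = 1 := by
    rw [IsLocalization.AtPrime.ringKrullDim_eq_height P, hP]; rfl
  have h1 := (IsRegularLocalRing.iff_finrank_cotangentSpace _).mp hreg
  rw [hdim] at h1
  exact IsLocalRing.finrank_CotangentSpace_eq_one_iff.mp (by exact_mod_cast h1)
end Groth.Agent.S10899
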