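import Groth.Statements.S10902
import Groth.Agent.S2680
import Groth.Agent.Lib.FibRankReduced
-- import your own Groth.Agent.* helpers here

set_option autoImplicit false
universe u
open TensorProduct
open SmVar

namespace Groth.Agent.S10902

open KaehlerDifferential

section Helpers


open scoped IntermediateField.algebraAdjoinAdjoin in
/-- For a finitely generated field extension, the transcendence degree is at most the dimension of
the module of differentials. -/
theorem trdeg_le_finrank_kaehler (k K : Type u) [Field k] [Field K] [Algebra k K]
    [Algebra.EssFiniteType k K] :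
    Algebra.trdeg k K ≤ (Module.finrank K Ω[K⁄k] : Cardinal.{u}) := by
  classical
  -- a basis of `Ω` consisting of differentials
  have hspan : ⊤ ≤ Submodule.span K (Set.range (D k K)) := (span_range_derivation k K).ge
  let b := Module.Basis.ofSpan hspan
  have hbsub : ∀ v : ((linearIndepOn_empty K id).extend (Set.empty_subset (Set.range (D k K)))),
      ∃ x : K, D k K x = v.1 := fun v =>
    (linearIndepOn_empty K id).extend_subset (Set.empty_subset (Set.range (D k K))) v.2
  choose x hx using hbsub
  haveI : Finite ((linearIndepOn_empty K id).extend (Set.empty_subset (Set.range (D k K)))) :=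
    Module.Finite.finite_basis b
  let s : Set K := Set.range x
  -- the intermediate field
  let L := IntermediateField.adjoin k s
  have hxL : ∀ v, x v ∈ L := fun v => IntermediateField.subset_adjoin k s ⟨v, rfl⟩
  -- `Ω[K⁄L] = 0`
  have hsub : Subsingleton Ω[K⁄L] := by
    have hsurj := KaehlerDifferential.map_surjective k L K
    have hzero : KaehlerDifferential.map k L K K = 0 := by
      apply b.ext
      intro v
      rw [Module.Basis.ofSpan_apply_self, ← hx v, KaehlerDifferential.map_D, LinearMap.zero_apply]
      have : x v = algebraMap L K ⟨x v, hxL v⟩ := rfl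
      change D L K (x v) = 0
      rw [this, Derivation.map_algebraMap]
    refine ⟨fun a b' => ?_⟩
    obtain ⟨a', rfl⟩ := hsurj a
    obtain ⟨b'', rfl⟩ := hsurj b'
    rw [hzero, LinearMap.zero_apply, LinearMap.zero_apply]
  haveI : Algebra.FormallyUnramified L K := ⟨hsub⟩
  haveI : Algebra.EssFiniteType L K := Algebra.EssFiniteType.of_comp k L K
  haveI : Algebra.IsSeparable L K := Algebra.FormallyUnramified.isSeparable L K
  haveI : Algebra.IsAlgebraic L K := inferInstance
  -- `K` is algebraic over `k[s]`
  haveI : Algebra.IsAlgebraic (Algebra.adjoin k s) K := by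
    exact Algebra.IsAlgebraic.trans (Algebra.adjoin k s) L K
  calc Algebra.trdeg k K ≤ Cardinal.mk s := Algebra.IsAlgebraic.trdeg_le_cardinalMk k s
    _ ≤ Cardinal.mk ((linearIndepOn_empty K id).extend
          (Set.empty_subset (Set.range (D k K)))) := Cardinal.mk_range_le
    _ = (Module.finrank K Ω[K⁄k] : Cardinal.{u}) := by
        rw [Module.finrank_eq_card_basis' b]

end Helpers

/-- Let k be a field and A a k-algebra of finite type (X = Spec A a k-scheme of finite type), P a prime
ideal of A, and suppose P contains a prime q with dim A/q ≥ n, i.e. the point P lies on an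
irreducible component of X of dimension at least n. Then the fibre at P of the sheaf of
differentials of X over k has dimension at least n over the residue field: dim_{κ(P)} (κ(P) ⊗_A
Ω_{A/k}) ≥ n. (The published statement asks every irreducible component of X to have dimension ≥ n
and concludes this at every point.) -/
theorem result (k : Type u) [Field k]
    (A : Type u) [CommRing A] [Algebra k A] [Algebra.FiniteType k A] (n : ℕ)
    (P : Ideal A) [P.IsPrime] (q : Ideal A) [q.IsPrime] (hqP : q ≤ P)
    (hq : (n : WithBot ℕ∞) ≤ ringKrullDim (A ⧸ q)) :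
    n ≤ Module.finrank P.ResidueField (P.ResidueField ⊗[A] (Ω[A⁄k])) := by
  -- Step A: upper semicontinuity of the fibre rank
  have hA : Module.finrank q.ResidueField (q.ResidueField ⊗[A] (Ω[A⁄k])) ≤
      Module.finrank P.ResidueField (P.ResidueField ⊗[A] (Ω[A⁄k])) :=
    Groth.Agent.Lib.TFunRank.le_of_specializes _
      (Groth.Agent.Lib.TFunRank.upperSemicontinuous_fibRank (A := A) (Ω[A⁄k]))
      (x := ⟨q, inferInstance⟩) (y := ⟨P, inferInstance⟩)
      ((PrimeSpectrum.le_iff_specializes _ _).mp hqP)
  -- Step B: `κ(q) ⊗ Ω_A ↠ Ω_{κ(q)}`
  haveI : Algebra.FormallyUnramified A (Localization.AtPrime q) :=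
    .of_isLocalization q.primeCompl
  haveI : Algebra.FormallyUnramified (Localization.AtPrime q) q.ResidueField :=
    .of_surjective (Algebra.ofId _ _) IsLocalRing.residue_surjective
  haveI : Algebra.FormallyUnramified A q.ResidueField :=
    .comp A (Localization.AtPrime q) q.ResidueField
  have hB : Module.finrank q.ResidueField (Ω[q.ResidueField⁄k]) ≤
      Module.finrank q.ResidueField (q.ResidueField ⊗[A] (Ω[A⁄k])) := by
    apply LinearMap.finrank_le_finrank_of_surjective (f := mapBaseChange k A q.ResidueField)
    rw [← LinearMap.range_eq_top, range_mapBaseChange, LinearMap.ker_eq_top]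
    exact Subsingleton.elim _ _
  -- Step C: transcendence degree
  haveI : Algebra.EssFiniteType A (Localization.AtPrime q) := .of_isLocalization _ q.primeCompl
  haveI : Algebra.FiniteType (Localization.AtPrime q) q.ResidueField :=
    Algebra.FiniteType.of_surjective (Algebra.ofId _ _) IsLocalRing.residue_surjective
  haveI : Algebra.EssFiniteType (Localization.AtPrime q) q.ResidueField := inferInstance
  haveI : Algebra.EssFiniteType A q.ResidueField :=
    .comp A (Localization.AtPrime q) q.ResidueField
  haveI : Algebra.EssFiniteType k q.ResidueField := .comp k A q.ResidueField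
  have hC := trdeg_le_finrank_kaehler k q.ResidueField
  -- Step D: dimension = transcendence degree
  haveI : IsDomain (A ⧸ q) := Ideal.Quotient.isDomain q
  obtain ⟨n', htr, hdim, -⟩ := Groth.Agent.S2680.result k (A ⧸ q)
  have hnn' : n ≤ n' := by
    rw [hdim] at hq
    exact_mod_cast hq
  let e : FractionRing (A ⧸ q) ≃ₐ[k] q.ResidueField :=
    (FractionRing.algEquiv (A ⧸ q) q.ResidueField).restrictScalars k
  rw [e.trdeg_eq] at htr
  rw [htr] at hC
  have hC' : n' ≤ Module.finrank q.ResidueField (Ω[q.ResidueField⁄k]) := by exact_mod_cast hC
  omega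

end Groth.Agent.S10902
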