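import Groth.Statements.S10906
import Mathlib
import Groth.Agent.Lib.HilbFilt7b

set_option autoImplicit false
universe u
open Polynomial
open ProjDeg

namespace Groth.Agent.S10906

section helpers

open Groth.Agent.Lib.HilbFilt7

theorem main (k : Type u) [Field k] (n : ℕ)
    (I : Ideal (MvPolynomial (Fin (n + 1)) k)) (hIh : I.IsHomogeneous (CohB1.polyGrading n k))
    (P : ℚ[X])
    (hP : ∃ m₀ : ℕ, ∀ m : ℕ, m₀ ≤ m → P.eval (m : ℚ) =
      (Module.finrank k ↥(CohB1.polyGrading n k m) : ℚ) -
        Module.finrank k ↥(Submodule.restrictScalars k I ⊓ CohB1.polyGrading n k m))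
    (r : ℕ) (p : Fin r → Ideal (MvPolynomial (Fin (n + 1)) k)) [hp : ∀ i, (p i).IsPrime] (hpinj : Function.Injective p)
    (hpmin : ∀ q : Ideal (MvPolynomial (Fin (n + 1)) k), q ∈ I.minimalPrimes ↔ ∃ i, q = p i)
    (Qp : Fin r → ℚ[X])
    (hQp : ∀ i, ∃ m₀ : ℕ, ∀ m : ℕ, m₀ ≤ m → (Qp i).eval (m : ℚ) =
      (Module.finrank k ↥(CohB1.polyGrading n k m) : ℚ) -
        Module.finrank k ↥(Submodule.restrictScalars k (p i) ⊓ CohB1.polyGrading n k m)) :
    (P.natDegree.factorial : ℚ) * P.leadingCoeff =
      ∑ i : Fin r, if (Qp i).natDegree = P.natDegree then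
        ((Qp i).natDegree.factorial : ℚ) * (Qp i).leadingCoeff *
          (Module.length (Localization.AtPrime (p i))
            (LocalizedModule (p i).primeCompl (MvPolynomial (Fin (n + 1)) k ⧸ I))).toNat
      else 0 := by
  classical
  have hP' : IsHP I P := (isHP_iff I P).mpr hP
  have hQ' : ∀ i, IsHP (p i) (Qp i) := fun i => (isHP_iff _ _).mpr (hQp i)
  have hpm : ∀ i, p i ∈ I.minimalPrimes := fun i => (hpmin (p i)).mpr ⟨i, rfl⟩
  by_cases hI : I = ⊤
  · subst hI
    have hP0 : P = 0 := hP'.unique isHP_top
    rw [hP0, leadingCoeff_zero, mul_zero]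
    symm
    apply Finset.sum_eq_zero
    intro i _
    exfalso
    have := hpm i
    rw [Ideal.minimalPrimes_top] at this
    exact this
  · obtain ⟨t, ht⟩ : ∃ t, t = P.natDegree := ⟨_, rfl⟩
    rw [← ht]
    have hph : ∀ i, (p i).IsHomogeneous (CohB1.polyGrading n k) := fun i =>
      Groth.Agent.S10915.isHomogeneous_of_mem_minimalPrimes hIh (hpm i)
    obtain ⟨s, q, a, hq, hhf, hll⟩ := exists_filt_fin I hIh
    choose Q hQ using fun j => exists_isHP (q j) (hq j).2.1
    -- Claim 1
    have c1 : P = ∑ j, (Q j).comp (X - C ((a j : ℕ) : ℚ)) := by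
      obtain ⟨m₀, hm₀⟩ := hP'
      choose mj hmj using hQ
      apply poly_eq_of_eventually (m₀ + ∑ j, (a j + mj j))
      intro m hm
      have hbound : ∀ j, a j + mj j ≤ m := fun j =>
        le_trans (Finset.single_le_sum (f := fun j => a j + mj j) (fun _ _ => Nat.zero_le _)
          (Finset.mem_univ j)) (by omega)
      rw [hm₀ m (by omega), hhf m (fun j => by have := hbound j; omega), eval_finsetSum]
      push_cast
      apply Finset.sum_congr rfl
      intro j _
      have h1 : a j ≤ m := by have := hbound j; omega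
      rw [eval_comp, eval_sub, eval_X, eval_C, ← Nat.cast_sub h1,
        hmj j (m - a j) (by have := hbound j; omega)]
    have hdeg : ∀ j, (Q j).natDegree ≤ t := fun j => by
      rw [ht]
      exact hP'.natDegree_le (hQ j) hIh (hq j).2.1 (hq j).1.ne_top (hq j).2.2
    have c2 : P.coeff t = ∑ j, (Q j).coeff t := by
      conv_lhs => rw [c1]
      rw [finsetSum_coeff]
      apply Finset.sum_congr rfl
      intro j _
      have : (X - C ((a j : ℕ) : ℚ) : ℚ[X]) = X + C (-((a j : ℕ) : ℚ)) := by
        rw [C_neg, sub_eq_add_neg]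
      rw [this, Groth.Agent.Lib.HilbDiff99.coeff_comp_ge _ _ _ (hdeg j)]
    have c3 : ∀ j, (Q j).coeff t = ∑ i : Fin r, if q j = p i then (Qp i).coeff t else 0 := by
      intro j
      by_cases hmin : q j ∈ I.minimalPrimes
      · obtain ⟨i₀, hi₀⟩ := (hpmin (q j)).mp hmin
        rw [Finset.sum_eq_single i₀]
        · rw [if_pos hi₀]
          have h1 : IsHP (q j) (Qp i₀) := by rw [hi₀]; exact hQ' i₀
          rw [(hQ j).unique h1]
        · intro i _ hne
          rw [if_neg]
          intro h
          exact hne (hpinj (h.symm.trans hi₀))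
        · intro h
          exact absurd (Finset.mem_univ _) h
      · rw [Finset.sum_eq_zero]
        · haveI := (hq j).1
          obtain ⟨q', hq'min, hq'le⟩ := Ideal.exists_minimalPrimes_le (hq j).2.2
          haveI := hq'min.1.1
          have hlt : q' < q j := lt_of_le_of_ne hq'le (fun h => hmin (h ▸ hq'min))
          rw [ht]
          exact hP'.coeff_eq_zero_of_lt (hQ j) hIh (hq j).2.1 hq'min.1.2 hlt
        · intro i _
          rw [if_neg]
          intro h
          exact hmin (h ▸ hpm i)
    have c4 : ∀ i, (ll I ⟨p i, hp i⟩) = ∑ j, if q j = p i then (1 : ℕ∞) else 0 := by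
      intro i
      rw [hll]
      apply Finset.sum_congr rfl
      intro j _
      split_ifs with h
      · have := ll_self (⟨p i, hp i⟩ : PrimeSpectrum (MvPolynomial (Fin (n + 1)) k))
        rw [h]
        exact this
      · apply ll_eq_zero_of_not_le
        intro hle
        apply h
        have := (hpm i).2 ⟨(hq j).1, (hq j).2.2⟩ hle
        exact le_antisymm hle this
    let cnt : Fin r → ℕ := fun i => (Finset.univ.filter (fun j => q j = p i)).card
    have c4' : ∀ i, (ll I ⟨p i, hp i⟩).toNat = cnt i := by
      intro i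
      rw [c4 i, Finset.sum_boole, ENat.toNat_natCast]
    have hlc : P.leadingCoeff = ∑ i : Fin r, (cnt i : ℚ) * (Qp i).coeff t := by
      have : P.leadingCoeff = P.coeff t := by rw [ht]; rfl
      rw [this, c2]
      simp_rw [c3]
      rw [Finset.sum_comm]
      apply Finset.sum_congr rfl
      intro i _
      rw [← Finset.sum_filter, Finset.sum_const, nsmul_eq_mul]
    rw [hlc, Finset.mul_sum]
    apply Finset.sum_congr rfl
    intro i _
    have hlen : (Module.length (Localization.AtPrime (p i))
        (LocalizedModule (p i).primeCompl (MvPolynomial (Fin (n + 1)) k ⧸ I))).toNat = cnt i :=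
      c4' i
    rw [hlen]
    have hdi : (Qp i).natDegree ≤ t := by
      rw [ht]
      exact hP'.natDegree_le (hQ' i) hIh (hph i) (hp i).ne_top (hpm i).1.2
    split_ifs with h
    · have : (Qp i).coeff t = (Qp i).leadingCoeff := by rw [← h]; rfl
      rw [this, h]
      ring
    · have : (Qp i).coeff t = 0 := coeff_eq_zero_of_natDegree_lt (lt_of_le_of_ne hdi h)
      rw [this]
      ring

end helpers

/-- Let k be a field, R = k[X_0, …, X_n] graded by degree, I a homogeneous ideal with Hilbert polynomial
P (a rational polynomial with P(m) = dim_k R_m − dim_k (I ∩ R_m) for all large m), and p_1, …, p_r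
the minimal prime ideals over I, listed without repetition, with Hilbert polynomials Q_i; put t =
deg P. Defining the degree of V(J) as (degree of its Hilbert polynomial)! times the leading
coefficient and the multiplicity of the component V(p_i) in Y = V(I) as the length of (R/I)_{p_i}
over R_{p_i}, the degree of Y is the sum, over the components of top dimension (those i with deg Q_i
= t), of multiplicity times degree: deg Y = Σ_{deg Q_i = t} i(Y_i; Y) · deg V(p_i). -/
theorem result (k : Type u) [Field k] (n : ℕ)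
    (I : Ideal (MvPolynomial (Fin (n + 1)) k)) (hIh : I.IsHomogeneous (CohB1.polyGrading n k))
    (P : ℚ[X])
    (hP : ∃ m₀ : ℕ, ∀ m : ℕ, m₀ ≤ m → P.eval (m : ℚ) =
      (Module.finrank k ↥(CohB1.polyGrading n k m) : ℚ) -
        Module.finrank k ↥(Submodule.restrictScalars k I ⊓ CohB1.polyGrading n k m))
    (r : ℕ) (p : Fin r → Ideal (MvPolynomial (Fin (n + 1)) k)) [hp : ∀ i, (p i).IsPrime] (hpinj : Function.Injective p)
    (hpmin : ∀ q : Ideal (MvPolynomial (Fin (n + 1)) k), q ∈ I.minimalPrimes ↔ ∃ i, q = p i)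
    (Qp : Fin r → ℚ[X])
    (hQp : ∀ i, ∃ m₀ : ℕ, ∀ m : ℕ, m₀ ≤ m → (Qp i).eval (m : ℚ) =
      (Module.finrank k ↥(CohB1.polyGrading n k m) : ℚ) -
        Module.finrank k ↥(Submodule.restrictScalars k (p i) ⊓ CohB1.polyGrading n k m)) :
    (P.natDegree.factorial : ℚ) * P.leadingCoeff =
      ∑ i : Fin r, if (Qp i).natDegree = P.natDegree then
        ((Qp i).natDegree.factorial : ℚ) * (Qp i).leadingCoeff *
          (Module.length (Localization.AtPrime (p i))
            (LocalizedModule (p i).primeCompl (MvPolynomial (Fin (n + 1)) k ⧸ I))).toNat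
      else 0 := by
  exact main k n I hIh P hP r p hpinj hpmin Qp hQp

end Groth.Agent.S10906
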