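import Groth.Statements.S10905
import Mathlib
import Groth.Agent.Lib.HilbFilt7b
import Groth.Agent.Lib.FTDim
import Groth.Agent.S10904
import Groth.Agent.S10906

set_option autoImplicit false
universe u
open Polynomial
open ProjDeg

namespace Groth.Agent.S10905

section helpers

open Groth.Agent.Lib.HilbFilt7

theorem dim_quot_comap {R D : Type*} [CommRing R] [CommRing D] (φ : R →+* D)
    (hφ : Function.Surjective φ) (P : Ideal D) :
    ringKrullDim (R ⧸ P.comap φ) = ringKrullDim (D ⧸ P) := by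
  have e : R ⧸ RingHom.ker ((Ideal.Quotient.mk P).comp φ) ≃+* D ⧸ P :=
    RingHom.quotientKerEquivOfSurjective (f := (Ideal.Quotient.mk P).comp φ)
      (Ideal.Quotient.mk_surjective.comp hφ)
  have hk : RingHom.ker ((Ideal.Quotient.mk P).comp φ) = P.comap φ := by
    rw [← RingHom.comap_ker, Ideal.mk_ker]
  rw [← hk]
  exact ringKrullDim_eq_of_ringEquiv e

theorem dim_drop_of_minimal {k : Type u} [Field k] {n : ℕ}
    (I : Ideal (MvPolynomial (Fin (n + 1)) k)) [hI : I.IsPrime]
    (f : MvPolynomial (Fin (n + 1)) k) (hfI : f ∉ I)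
    (p : Ideal (MvPolynomial (Fin (n + 1)) k)) (hp : p ∈ (I ⊔ Ideal.span {f}).minimalPrimes) :
    ringKrullDim (MvPolynomial (Fin (n + 1)) k ⧸ p) + 1 =
      ringKrullDim (MvPolynomial (Fin (n + 1)) k ⧸ I) := by
  set φ := Ideal.Quotient.mk I with hφ
  have hφs : Function.Surjective φ := Ideal.Quotient.mk_surjective
  set J : Ideal (MvPolynomial (Fin (n + 1)) k ⧸ I) := Ideal.span {φ f} with hJ
  have hJc : J.comap φ = I ⊔ Ideal.span {f} := by
    have : J = (Ideal.span {f}).map φ := by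
      rw [Ideal.map_span, Set.image_singleton]
    rw [this, Ideal.comap_map_of_surjective' φ hφs, Ideal.mk_ker, sup_comm]
  rw [← hJc, Ideal.comap_minimalPrimes_eq_of_surjective hφs] at hp
  obtain ⟨P0, hP0, rfl⟩ := hp
  haveI : P0.IsPrime := hP0.1.1
  have hne : φ f ≠ 0 := by
    rw [Ne, Ideal.Quotient.eq_zero_iff_mem]
    exact hfI
  have hP0ne : P0 ≠ ⊥ := by
    intro h
    have : φ f ∈ P0 := hP0.1.2 (Ideal.mem_span_singleton_self _)
    rw [h, Ideal.mem_bot] at this
    exact hne this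
  have hh : P0.height = 1 := by
    apply le_antisymm
    · exact Ideal.height_le_one_of_isPrincipal_of_mem_minimalPrimes J P0 hP0
    · rw [Order.one_le_iff_pos, pos_iff_ne_zero, Ne, Ideal.height_eq_zero_iff_eq_bot]
      exact hP0ne
  haveI : Algebra.FiniteType k (MvPolynomial (Fin (n + 1)) k ⧸ I) :=
    Algebra.FiniteType.of_surjective (Ideal.Quotient.mkₐ k I)
      (Ideal.Quotient.mkₐ_surjective k I)
  have h1 := Groth.Agent.Lib.FTDim.ringKrullDim_quotient_add_one_of_height_eq_one k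
    (MvPolynomial (Fin (n + 1)) k ⧸ I) P0 hh
  rw [dim_quot_comap φ hφs P0]
  exact h1

theorem main (k : Type u) [Field k] (n : ℕ)
    (I : Ideal (MvPolynomial (Fin (n + 1)) k)) (hIh : I.IsHomogeneous (CohB1.polyGrading n k)) [hIp : I.IsPrime]
    (f : MvPolynomial (Fin (n + 1)) k) (d : ℕ) (hd : 0 < d) (hf : f.IsHomogeneous d) (hfI : f ∉ I)
    (P : ℚ[X])
    (hP : ∃ m₀ : ℕ, ∀ m : ℕ, m₀ ≤ m → P.eval (m : ℚ) =
      (Module.finrank k ↥(CohB1.polyGrading n k m) : ℚ) -
        Module.finrank k ↥(Submodule.restrictScalars k I ⊓ CohB1.polyGrading n k m))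
    (hdim : 1 ≤ P.natDegree)
    (r : ℕ) (p : Fin r → Ideal (MvPolynomial (Fin (n + 1)) k)) [hp : ∀ i, (p i).IsPrime] (hpinj : Function.Injective p)
    (hpmin : ∀ q : Ideal (MvPolynomial (Fin (n + 1)) k), q ∈ (I ⊔ Ideal.span {f}).minimalPrimes ↔ ∃ i, q = p i)
    (Qp : Fin r → ℚ[X])
    (hQp : ∀ i, ∃ m₀ : ℕ, ∀ m : ℕ, m₀ ≤ m → (Qp i).eval (m : ℚ) =
      (Module.finrank k ↥(CohB1.polyGrading n k m) : ℚ) -
        Module.finrank k ↥(Submodule.restrictScalars k (p i) ⊓ CohB1.polyGrading n k m)) :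
    (d : ℚ) * ((P.natDegree.factorial : ℚ) * P.leadingCoeff) =
      ∑ i : Fin r, ((Qp i).natDegree.factorial : ℚ) * (Qp i).leadingCoeff *
        (Module.length (Localization.AtPrime (p i))
          (LocalizedModule (p i).primeCompl (MvPolynomial (Fin (n + 1)) k ⧸ (I ⊔ Ideal.span {f})))).toNat := by
  classical
  have hI'h : (I ⊔ Ideal.span {f}).IsHomogeneous (CohB1.polyGrading n k) := by
    refine hIh.sup (Ideal.homogeneous_span _ _ ?_)
    intro y hy
    rw [Set.mem_singleton_iff] at hy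
    rw [hy]
    exact ⟨d, hf⟩
  obtain ⟨P', hP'⟩ := exists_isHP (I ⊔ Ideal.span {f}) hI'h
  have hP'2 := (isHP_iff _ _).mp hP'
  obtain ⟨h1, h2⟩ := Groth.Agent.S10904.result k n I hIh f d hd hf hfI P P' hP hP'2 hdim
  have h3 := Groth.Agent.S10906.result k n (I ⊔ Ideal.span {f}) hI'h P' hP'2 r p hpinj hpmin Qp hQp
  rw [← h2, h3]
  apply Finset.sum_congr rfl
  intro i _
  have hpm : p i ∈ (I ⊔ Ideal.span {f}).minimalPrimes := (hpmin (p i)).mpr ⟨i, rfl⟩
  -- dimensions
  have hPI : IsHP I P := (isHP_iff I P).mpr hP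
  have hP0 : P ≠ 0 := fun h => by rw [h] at hdim; simp at hdim
  obtain ⟨dI, hdI, hI0, hI1⟩ := hPI.dim hIh hIp.ne_top
  have hdI1 : 1 ≤ dI := by
    rcases Nat.eq_zero_or_pos dI with h | h
    · exact absurd (hI0 h) hP0
    · exact h
  have hQi : IsHP (p i) (Qp i) := (isHP_iff _ _).mpr (hQp i)
  have hpih : (p i).IsHomogeneous (CohB1.polyGrading n k) :=
    Groth.Agent.S10915.isHomogeneous_of_mem_minimalPrimes hI'h hpm
  obtain ⟨di, hdi, hi0, hi1⟩ := hQi.dim hpih (hp i).ne_top
  have hdrop := dim_drop_of_minimal I f hfI (p i) hpm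
  rw [hdi, hdI] at hdrop
  have hdrop' : di + 1 = dI := by exact_mod_cast hdrop
  have e1 := hI1 hdI1
  have hdi1 : 1 ≤ di := by omega
  have e2 := hi1 hdi1
  have hdeg : (Qp i).natDegree = P'.natDegree := by omega
  rw [if_pos hdeg]

end helpers

/-- Let k be a field, R = k[X_0, …, X_n] graded by degree, I a homogeneous prime ideal whose Hilbert
polynomial P (a rational polynomial with P(m) = dim_k R_m − dim_k (I ∩ R_m) for all large m) has
degree ≥ 1, so that Y = V(I) is a projective variety of dimension ≥ 1; let f ∉ I be homogeneous of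
degree d ≥ 1, I' = I + (f), and p_1, …, p_r the minimal prime ideals over I' (listed without
repetition), with Hilbert polynomials Q_i. Define the degree of V(J) as (degree of its Hilbert
polynomial)! times the leading coefficient, and the intersection multiplicity of I and (f) at p_i as
the length of (R/I')_{p_i} over R_{p_i}. Then d · deg Y = Σ_i deg V(p_i) · i(I, (f); p_i). (The
published statement has no dimension hypothesis; for Y a single point the only minimal prime over I'
is the irrelevant ideal, whose Hilbert polynomial is 0, so the right side vanishes while the left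
side does not.) -/
theorem result (k : Type u) [Field k] (n : ℕ)
    (I : Ideal (MvPolynomial (Fin (n + 1)) k)) (hIh : I.IsHomogeneous (CohB1.polyGrading n k)) [I.IsPrime]
    (f : MvPolynomial (Fin (n + 1)) k) (d : ℕ) (hd : 0 < d) (hf : f.IsHomogeneous d) (hfI : f ∉ I)
    (P : ℚ[X])
    (hP : ∃ m₀ : ℕ, ∀ m : ℕ, m₀ ≤ m → P.eval (m : ℚ) =
      (Module.finrank k ↥(CohB1.polyGrading n k m) : ℚ) -
        Module.finrank k ↥(Submodule.restrictScalars k I ⊓ CohB1.polyGrading n k m))
    (hdim : 1 ≤ P.natDegree)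
    (r : ℕ) (p : Fin r → Ideal (MvPolynomial (Fin (n + 1)) k)) [hp : ∀ i, (p i).IsPrime] (hpinj : Function.Injective p)
    (hpmin : ∀ q : Ideal (MvPolynomial (Fin (n + 1)) k), q ∈ (I ⊔ Ideal.span {f}).minimalPrimes ↔ ∃ i, q = p i)
    (Qp : Fin r → ℚ[X])
    (hQp : ∀ i, ∃ m₀ : ℕ, ∀ m : ℕ, m₀ ≤ m → (Qp i).eval (m : ℚ) =
      (Module.finrank k ↥(CohB1.polyGrading n k m) : ℚ) -
        Module.finrank k ↥(Submodule.restrictScalars k (p i) ⊓ CohB1.polyGrading n k m)) :
    (d : ℚ) * ((P.natDegree.factorial : ℚ) * P.leadingCoeff) =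
      ∑ i : Fin r, ((Qp i).natDegree.factorial : ℚ) * (Qp i).leadingCoeff *
        (Module.length (Localization.AtPrime (p i))
          (LocalizedModule (p i).primeCompl (MvPolynomial (Fin (n + 1)) k ⧸ (I ⊔ Ideal.span {f})))).toNat := by
  exact main k n I hIh f d hd hf hfI P hP hdim r p hpinj hpmin Qp hQp

end Groth.Agent.S10905
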