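import Groth.Statements.S10907
import Mathlib
import Groth.Agent.Lib.HilbDim7b

set_option autoImplicit false
universe u
open Polynomial
open ProjDeg

namespace Groth.Agent.S10907

section helpers

open Groth.Agent.Lib.HilbDim7

/-- two rational polynomials that agree at all large naturals are equal -/
theorem poly_eq_of_eventually {P Q : ℚ[X]} (N : ℕ)
    (h : ∀ m : ℕ, N ≤ m → P.eval (m : ℚ) = Q.eval (m : ℚ)) : P = Q := by
  apply Polynomial.eq_of_infinite_eval_eq
  apply Set.infinite_of_injective_forall_mem (f := fun i : ℕ => ((i + N : ℕ) : ℚ))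
  · intro a b hab
    have : ((a + N : ℕ) : ℚ) = ((b + N : ℕ) : ℚ) := hab
    have h2 : a + N = b + N := by exact_mod_cast this
    omega
  · intro i
    exact h (i + N) (by omega)

theorem main (k : Type u) [Field k]
    (n : ℕ) (I : Ideal (MvPolynomial (Fin (n + 1)) k)) (hIh : I.IsHomogeneous (CohB1.polyGrading n k))
    (P : ℚ[X]) (hP0 : P ≠ 0)
    (hP : ∃ m₀ : ℕ, ∀ m : ℕ, m₀ ≤ m → P.eval (m : ℚ) =
      (Module.finrank k ↥(CohB1.polyGrading n k m) : ℚ) -
        Module.finrank k ↥(Submodule.restrictScalars k I ⊓ CohB1.polyGrading n k m)) :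
    ringKrullDim (MvPolynomial (Fin (n + 1)) k ⧸ I) = (P.natDegree : WithBot ℕ∞) + 1 := by
  obtain ⟨m₀, hm₀⟩ := hP
  have hI : I ≠ ⊤ := by
    rintro rfl
    apply hP0
    apply poly_eq_of_eventually m₀
    intro m hm
    rw [hm₀ m hm, eval_zero]
    have : Submodule.restrictScalars k (⊤ : Ideal (MvPolynomial (Fin (n + 1)) k)) ⊓
        CohB1.polyGrading n k m = CohB1.polyGrading n k m := by
      rw [Submodule.restrictScalars_top, top_inf_eq]
    rw [this, sub_self]
  obtain ⟨d, Q, hd, hQ0, hQ1, m₁, hm₁⟩ := hilbPoly_quotient I hIh hI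
  have hPQ : P = Q := by
    apply poly_eq_of_eventually (max m₀ m₁)
    intro m hm
    rw [hm₀ m (le_trans (le_max_left _ _) hm), hm₁ m (le_trans (le_max_right _ _) hm)]
  have hd1 : 1 ≤ d := by
    rcases Nat.eq_zero_or_pos d with h | h
    · exact absurd (hPQ.trans (hQ0 h)) hP0
    · exact h
  rw [hd, hPQ, ← hQ1 hd1]
  push_cast
  rfl

end helpers

/-- Let k be a field, R = k[X_0, …, X_n] graded by degree, and I a homogeneous ideal whose Hilbert
polynomial P (a rational polynomial with P(m) = dim_k R_m − dim_k (I ∩ R_m) for all large m) is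
nonzero, i.e. the projective scheme V_+(I) ⊆ P^n_k is nonempty. Then the Krull dimension of R/I (the
affine cone) equals deg P + 1; the dimension of V_+(I) itself is deg P. -/
theorem result (k : Type u) [Field k]
    (n : ℕ) (I : Ideal (MvPolynomial (Fin (n + 1)) k)) (hIh : I.IsHomogeneous (CohB1.polyGrading n k))
    (P : ℚ[X]) (hP0 : P ≠ 0)
    (hP : ∃ m₀ : ℕ, ∀ m : ℕ, m₀ ≤ m → P.eval (m : ℚ) =
      (Module.finrank k ↥(CohB1.polyGrading n k m) : ℚ) -
        Module.finrank k ↥(Submodule.restrictScalars k I ⊓ CohB1.polyGrading n k m)) :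
    ringKrullDim (MvPolynomial (Fin (n + 1)) k ⧸ I) = (P.natDegree : WithBot ℕ∞) + 1 := by
  exact main k n I hIh P hP0 hP

end Groth.Agent.S10907
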