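import Groth.Statements.S10909
import Groth.Agent.S2680
import Groth.Agent.Lib.H56RegSmooth2
import Groth.Agent.Lib.H87Serre2
import Groth.Agent.Lib.MacLane5H44
import Groth.Agent.Lib.RegularLocal
-- import your own Groth.Agent.* helpers here

set_option autoImplicit false
universe u
open TensorProduct
open SmVar

namespace Groth.Agent.S10909

open KaehlerDifferential IsLocalRing

section Helpers

/-- Nullstellensatz: residue fields at maximal ideals of a finite type algebra over an algebraically
closed field are trivial. -/
theorem bijective_algebraMap_quotient (k : Type u) [Field k] [IsAlgClosed k] (A : Type u)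
    [CommRing A] [Algebra k A] [Algebra.FiniteType k A] (m : Ideal A) [m.IsMaximal] :
    Function.Bijective (algebraMap k (A ⧸ m)) := by
  letI : Field (A ⧸ m) := Ideal.Quotient.field m
  haveI : Module.Finite k (A ⧸ m) := finite_of_finite_type_of_isJacobsonRing k (A ⧸ m)
  exact IsAlgClosed.algebraMap_bijective_of_isIntegral

theorem bijective_algebraMap_residueField (k : Type u) [Field k] [IsAlgClosed k] (A : Type u)
    [CommRing A] [Algebra k A] [Algebra.FiniteType k A] (m : Ideal A) [m.IsMaximal] :
    Function.Bijective (algebraMap k (ResidueField (Localization.AtPrime m))) := by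
  have h1 := bijective_algebraMap_quotient k A m
  have h2 := Ideal.bijective_algebraMap_quotient_residueField m
  have : (algebraMap k (ResidueField (Localization.AtPrime m)) : k → _) =
      (algebraMap (A ⧸ m) m.ResidueField) ∘ (algebraMap k (A ⧸ m)) := by
    ext c
    rfl
  rw [this]
  exact h2.comp h1

/-- The fibre of `Ω` at a closed point is the cotangent space. -/
theorem finrank_fibre_eq (k : Type u) [Field k] [IsAlgClosed k] (A : Type u)
    [CommRing A] [Algebra k A] [Algebra.FiniteType k A] (m : Ideal A) [m.IsMaximal] :
    Module.finrank m.ResidueField (m.ResidueField ⊗[A] Ω[A⁄k]) =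
      Module.finrank (ResidueField (Localization.AtPrime m))
        (CotangentSpace (Localization.AtPrime m)) := by
  rw [← Groth.Agent.Lib.H56RegSmooth.finrank_tensor_kaehler_eq k (Localization.AtPrime m)
    (bijective_algebraMap_residueField k A m)]
  let e1 : m.ResidueField ⊗[Localization.AtPrime m] (Localization.AtPrime m ⊗[A] Ω[A⁄k])
      ≃ₗ[m.ResidueField] m.ResidueField ⊗[A] Ω[A⁄k] :=
    AlgebraTensorModule.cancelBaseChange A (Localization.AtPrime m) m.ResidueField
      m.ResidueField Ω[A⁄k]
  haveI : Algebra.FormallyEtale A (Localization.AtPrime m) := .of_isLocalization m.primeCompl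
  let e2 : Localization.AtPrime m ⊗[A] Ω[A⁄k] ≃ₗ[Localization.AtPrime m]
      Ω[Localization.AtPrime m⁄k] := tensorKaehlerEquivOfFormallyEtale k A _
  let e3 := LinearEquiv.baseChange (Localization.AtPrime m) m.ResidueField _ _ e2
  exact (e1.symm.trans e3).finrank_eq

/-- Killing the nilradical: the order isomorphism of spectra. -/
noncomputable def specNilIso (A : Type u) [CommRing A] :
    PrimeSpectrum (A ⧸ nilradical A) ≃o PrimeSpectrum A :=
  have hz : PrimeSpectrum.zeroLocus (nilradical A : Set A) = Set.univ := by
    rw [PrimeSpectrum.zeroLocus_eq_univ_iff]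
  ((Ideal.primeSpectrumQuotientOrderIsoZeroLocus (nilradical A)).trans
    (OrderIso.setCongr _ _ hz)).trans OrderIso.Set.univ

theorem specNilIso_asIdeal (A : Type u) [CommRing A] (q : PrimeSpectrum (A ⧸ nilradical A)) :
    (specNilIso A q).asIdeal = q.asIdeal.comap (Ideal.Quotient.mk (nilradical A)) := rfl

/-- Equidimensionality: all closed points of an irreducible finite type `k`-scheme of dimension `n`
have local dimension `n`. -/
theorem ringKrullDim_localization_eq (k : Type u) [Field k] (A : Type u)
    [CommRing A] [Algebra k A] [Algebra.FiniteType k A]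
    (hirr : (nilradical A).IsPrime) (n : ℕ) (hn : ringKrullDim A = n)
    (m : Ideal A) [m.IsMaximal] : ringKrullDim (Localization.AtPrime m) = n := by
  haveI : IsDomain (A ⧸ nilradical A) := Ideal.Quotient.isDomain _
  obtain ⟨n', -, hdim, hloc⟩ := Groth.Agent.S2680.result k (A ⧸ nilradical A)
  have hdimeq : ringKrullDim (A ⧸ nilradical A) = ringKrullDim A :=
    Order.krullDim_eq_of_orderIso (specNilIso A)
  have hnn : (n' : WithBot ℕ∞) = n := by rw [← hdim, hdimeq, hn]
  have hker : RingHom.ker (Ideal.Quotient.mk (nilradical A)) ≤ m := by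
    rw [Ideal.mk_ker]
    exact nilradical_le_prime m
  haveI hm' : (m.map (Ideal.Quotient.mk (nilradical A))).IsMaximal :=
    Ideal.IsMaximal.map_of_surjective_of_ker_le Ideal.Quotient.mk_surjective hker
  have hcomap : (m.map (Ideal.Quotient.mk (nilradical A))).comap
      (Ideal.Quotient.mk (nilradical A)) = m := by
    rw [Ideal.comap_map_of_surjective _ Ideal.Quotient.mk_surjective, sup_eq_left]
    exact hker
  have hheight : m.height = (m.map (Ideal.Quotient.mk (nilradical A))).height := by
    have h1 := PrimeSpectrum.height_eq_orderHeight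
      (⟨m.map (Ideal.Quotient.mk (nilradical A)), hm'.isPrime⟩ :
        PrimeSpectrum (A ⧸ nilradical A))
    have h2 := PrimeSpectrum.height_eq_orderHeight
      (specNilIso A ⟨m.map (Ideal.Quotient.mk (nilradical A)), hm'.isPrime⟩)
    rw [Order.height_orderIso] at h2
    rw [← h1] at h2
    rw [← h2]
    congr 1
    exact hcomap.symm
  rw [IsLocalization.AtPrime.ringKrullDim_eq_height m, hheight,
    ← IsLocalization.AtPrime.ringKrullDim_eq_height (m.map (Ideal.Quotient.mk (nilradical A)))
      (Localization.AtPrime (m.map (Ideal.Quotient.mk (nilradical A)))), hloc, hnn]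

end Helpers

/-- Let k be an algebraically closed field and A a k-algebra of finite type with irreducible spectrum
(the nilradical of A is prime) and Krull dimension n; X = Spec A is then an irreducible separated
k-scheme of finite type of dimension n. Then X is a nonsingular variety — A is reduced and every
localization of A at a prime is a regular local ring — if and only if the module of Kähler
differentials Ω_{A/k} is locally free of rank n: projective, with fibre κ(P) ⊗_A Ω_{A/k} of
dimension n at every prime P. -/
theorem result (k : Type u) [Field k]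
    [IsAlgClosed k] (A : Type u) [CommRing A] [Algebra k A] [Algebra.FiniteType k A]
    (hirr : (nilradical A).IsPrime) (n : ℕ) (hn : ringKrullDim A = n) :
    (IsReduced A ∧ IsRegularRing A) ↔
      (Module.Projective A (Ω[A⁄k]) ∧
        ∀ (P : Ideal A) [P.IsPrime],
          Module.finrank P.ResidueField (P.ResidueField ⊗[A] Ω[A⁄k]) = n) := by
  haveI : IsNoetherianRing A := Algebra.FiniteType.isNoetherianRing k A
  constructor
  · -- nonsingular ⇒ Ω locally free of rank n
    rintro ⟨hred, hreg⟩
    have hfp : Algebra.FinitePresentation k A :=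
      Algebra.FinitePresentation.of_finiteType.mp inferInstance
    have hsmAt : ∀ (P : Ideal A) [P.IsPrime], Algebra.IsSmoothAt k P := by
      intro P _
      haveI : Algebra.FormallySmooth k P.ResidueField :=
        (Groth.Agent.Lib.MacLane4H44.formallySmooth_iff_isGeometricallyReduced k
          P.ResidueField).mpr
          (Groth.Agent.Lib.MacLane5H44.isGeometricallyReduced_of_perfectField k P.ResidueField)
      exact Groth.Agent.Lib.H56RegSmooth.isSmoothAt_of_isRegularLocalRing k A P
    haveI hsm : Algebra.FormallySmooth k A := by
      rw [← Algebra.smoothLocus_eq_univ_iff]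
      ext P
      simp only [Set.mem_univ, iff_true]
      exact hsmAt P.asIdeal
    have hproj : Module.Projective A (Ω[A⁄k]) := inferInstance
    refine ⟨hproj, ?_⟩
    intro P _
    obtain ⟨m, hm, hPm⟩ := P.exists_le_maximal (Ideal.IsPrime.ne_top inferInstance)
    have h1 := Module.rankAtStalk_eq (M := Ω[A⁄k]) (⟨P, inferInstance⟩ : PrimeSpectrum A)
    have h2 := Module.rankAtStalk_eq (M := Ω[A⁄k]) (⟨m, hm.isPrime⟩ : PrimeSpectrum A)
    have h3 := Module.rankAtStalk_eq_of_le_of_finite_of_flat (Ω[A⁄k])
      (p := (⟨P, inferInstance⟩ : PrimeSpectrum A)) (q := ⟨m, hm.isPrime⟩) hPm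
    change _ = Module.finrank P.ResidueField (P.ResidueField ⊗[A] Ω[A⁄k]) at h1
    change _ = Module.finrank m.ResidueField (m.ResidueField ⊗[A] Ω[A⁄k]) at h2
    rw [← h1, h3, h2, finrank_fibre_eq k A m]
    have h4 := (IsRegularLocalRing.iff_finrank_cotangentSpace (Localization.AtPrime m)).mp
      inferInstance
    rw [ringKrullDim_localization_eq k A hirr n hn m] at h4
    exact_mod_cast h4
  · -- Ω locally free of rank n ⇒ nonsingular
    rintro ⟨-, hrank⟩
    have hregm : ∀ (m : Ideal A) [m.IsMaximal], IsRegularLocalRing (Localization.AtPrime m) := by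
      intro m _
      rw [IsRegularLocalRing.iff_finrank_cotangentSpace, ← finrank_fibre_eq k A m, hrank m,
        ringKrullDim_localization_eq k A hirr n hn m]
    have hreg : IsRegularRing A := Groth.Agent.Lib.H87Serre2.isRegularRing_of_maximal hregm
    refine ⟨?_, hreg⟩
    refine isReduced_ofLocalizationMaximal A (fun m hm => ?_)
    haveI := hregm m
    haveI : IsDomain (Localization.AtPrime m) :=
      Groth.Agent.Lib.RegularLocal.isDomain (Localization.AtPrime m)
    infer_instance

end Groth.Agent.S10909
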