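import Groth.Statements.S10910
import Groth.Agent.Lib.H56RegSmooth2
import Groth.Agent.Lib.MacLane5H44
-- import your own Groth.Agent.* helpers here

set_option autoImplicit false
universe u
open TensorProduct
open SmVar

namespace Groth.Agent.S10910

open KaehlerDifferential IsLocalRing

section Helpers

/-- A regular finite type algebra over a perfect field is smooth. -/
theorem formallySmooth_of_isRegularRing (k : Type u) [Field k] [PerfectField k] (A : Type u)
    [CommRing A] [Algebra k A] [Algebra.FiniteType k A] [IsRegularRing A] :
    Algebra.FormallySmooth k A := by
  have hfp : Algebra.FinitePresentation k A :=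
    Algebra.FinitePresentation.of_finiteType.mp inferInstance
  have hsmAt : ∀ (P : Ideal A) [P.IsPrime], Algebra.IsSmoothAt k P := by
    intro P _
    haveI : Algebra.FormallySmooth k P.ResidueField :=
      (Groth.Agent.Lib.MacLane4H44.formallySmooth_iff_isGeometricallyReduced k
        P.ResidueField).mpr
        (Groth.Agent.Lib.MacLane5H44.isGeometricallyReduced_of_perfectField k P.ResidueField)
    exact Groth.Agent.Lib.H56RegSmooth.isSmoothAt_of_isRegularLocalRing k A P
  rw [← Algebra.smoothLocus_eq_univ_iff]
  ext P
  simp only [Set.mem_univ, iff_true]
  exact hsmAt P.asIdeal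

/-- A smooth finite type algebra over a field is regular. -/
theorem isRegularRing_of_formallySmooth (k : Type u) [Field k] (B : Type u)
    [CommRing B] [Algebra k B] [Algebra.FiniteType k B] [Algebra.FormallySmooth k B] :
    IsRegularRing B := by
  have hfp : Algebra.FinitePresentation k B :=
    Algebra.FinitePresentation.of_finiteType.mp inferInstance
  haveI : IsNoetherianRing B := Algebra.FiniteType.isNoetherianRing k B
  rw [isRegularRing_iff]
  intro q _
  have hq : (⟨q, inferInstance⟩ : PrimeSpectrum B) ∈ Algebra.smoothLocus k B := by
    rw [Algebra.smoothLocus_eq_univ_iff.mpr inferInstance]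
    exact Set.mem_univ _
  exact Groth.Agent.Lib.H56RegSmooth.isRegularLocalRing_of_isSmoothAt q hq

end Helpers

/-- Let k be an algebraically closed field, A a k-algebra of finite type which is an integral domain all
of whose localizations at primes are regular (X = Spec A is a nonsingular affine variety), and B an
A-algebra with surjective structure map A → B whose nilradical is prime (Y = Spec B is an
irreducible closed subscheme of X, with ideal I = ker(A → B)). Then every localization of B is
regular (Y is nonsingular) if and only if (i) Ω_{B/k} is a projective B-module (locally free) and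
(ii) the conormal map I/I² → B ⊗_A Ω_{A/k}, class of x ↦ 1 ⊗ dx, is injective, i.e. the conormal
sequence 0 → I/I² → B ⊗_A Ω_{A/k} → Ω_{B/k} → 0 is exact on the left as well. -/
theorem result (k : Type u) [Field k]
    [IsAlgClosed k] (A B : Type u) [CommRing A] [CommRing B] [Algebra k A] [Algebra.FiniteType k A]
    [IsDomain A] [IsRegularRing A] [Algebra A B] [Algebra k B] [IsScalarTower k A B]
    (hsurj : Function.Surjective (algebraMap A B)) (hirr : (nilradical B).IsPrime) :
    IsRegularRing B ↔
      (Module.Projective B (Ω[B⁄k]) ∧
        Function.Injective (KaehlerDifferential.kerCotangentToTensor k A B)) := by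
  haveI : Algebra.FormallySmooth k A := formallySmooth_of_isRegularRing k A
  haveI : Algebra.FiniteType k B :=
    Algebra.FiniteType.of_surjective (IsScalarTower.toAlgHom k A B) hsurj
  rw [Algebra.FormallySmooth.kerCotangentToTensor_injective_iff hsurj]
  constructor
  · intro hreg
    haveI : Algebra.FormallySmooth k B := formallySmooth_of_isRegularRing k B
    exact ⟨inferInstance, inferInstance⟩
  · rintro ⟨hproj, hH1⟩
    haveI : Algebra.FormallySmooth k B := ⟨hproj, hH1⟩
    exact isRegularRing_of_formallySmooth k B

end Groth.Agent.S10910
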