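-- Statement S14369.
import Groth.Statements.S14369
import Groth.Agent.S14378
import Mathlib

set_option autoImplicit false
universe u
open CategoryTheory CategoryTheory.Limits AlgebraicGeometry
open Variety

namespace Groth.Agent.S14369

open Groth.Agent.Lib.H30DimField Groth.Agent.Lib.H30FlatDim Groth.Agent.Lib.H30IrrFib

/-- if the whole space is an irreducible component, we are done -/
theorem conclusion_of_univ (k : Type u) [Field k]
    {X Y : Scheme.{u}} (qX : X ⟶ Spec (CommRingCat.of k)) (qY : Y ⟶ Spec (CommRingCat.of k))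
    [LocallyOfFiniteType qX] [QuasiCompact qX] [LocallyOfFiniteType qY] [QuasiCompact qY]
    (f : X ⟶ Y) (hf : f ≫ qY = qX) [IrreducibleSpace ↥Y] (d : ℕ)
    (hirr : ∀ y : ↥Y, IsClosed ({y} : Set ↥Y) → IsIrreducible (f.base ⁻¹' {y}))
    (hdim : ∀ y : ↥Y, IsClosed ({y} : Set ↥Y) → topologicalKrullDim ↥(f.base ⁻¹' {y}) = d)
    (hT : (Set.univ : Set ↥X) ∈ irreducibleComponents ↥X) :
    IrreducibleSpace ↥X ∧ topologicalKrullDim ↥X = d + topologicalKrullDim ↥Y := by
  haveI := Groth.Agent.S14378.isNoetherian_of_ft k qX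
  haveI := Groth.Agent.S14378.isNoetherian_of_ft k qY
  letI : X.Over (Spec (CommRingCat.of k)) := ⟨qX⟩
  letI : Y.Over (Spec (CommRingCat.of k)) := ⟨qY⟩
  haveI : LocallyOfFiniteType (X ↘ Spec (CommRingCat.of k)) := ‹LocallyOfFiniteType qX›
  haveI : LocallyOfFiniteType (Y ↘ Spec (CommRingCat.of k)) := ‹LocallyOfFiniteType qY›
  have hf' : f ≫ (Y ↘ Spec (CommRingCat.of k)) = X ↘ Spec (CommRingCat.of k) := hf
  obtain ⟨x⟩ : Nonempty X := hT.1.nonempty.to_subtype.map Subtype.val
  refine ⟨@IrreducibleSpace.mk _ _ ⟨hT.1.isPreirreducible⟩ ⟨x⟩, ?_⟩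
  obtain ⟨Z, ⟨hZ, hZd⟩, -⟩ := existsUnique_dominating k X Y f hf' d hirr hdim
  have hZu : Z = Set.univ := subset_antisymm (Set.subset_univ _) (hZ.2 hT.1 (Set.subset_univ _))
  rw [hZu] at hZd
  have h1 := dim_component k X Y f hf' d hirr hdim Set.univ hT
  rw [hZd.closure_eq] at h1
  rw [← IsHomeomorph.topologicalKrullDim_eq _ (Homeomorph.Set.univ X).isHomeomorph,
    ← IsHomeomorph.topologicalKrullDim_eq _ (Homeomorph.Set.univ Y).isHomeomorph]
  exact h1

theorem main (k : Type u) [Field k] [IsAlgClosed k]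
    {X Y : Scheme.{u}} (qX : X ⟶ Spec (CommRingCat.of k)) (qY : Y ⟶ Spec (CommRingCat.of k))
    [LocallyOfFiniteType qX] [QuasiCompact qX] [LocallyOfFiniteType qY] [QuasiCompact qY]
    (f : X ⟶ Y) (hf : f ≫ qY = qX) [IrreducibleSpace ↥Y] (hcl : IsClosedMap f.base) (d : ℕ)
    (hirr : ∀ y : ↥Y, IsClosed ({y} : Set ↥Y) → IsIrreducible (f.base ⁻¹' {y}))
    (hdim : ∀ y : ↥Y, IsClosed ({y} : Set ↥Y) → topologicalKrullDim ↥(f.base ⁻¹' {y}) = d) :
    IrreducibleSpace ↥X ∧ topologicalKrullDim ↥X = d + topologicalKrullDim ↥Y := by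
  apply conclusion_of_univ k qX qY f hf d hirr hdim
  haveI := Groth.Agent.S14378.isNoetherian_of_ft k qX
  haveI := Groth.Agent.S14378.isNoetherian_of_ft k qY
  letI : X.Over (Spec (CommRingCat.of k)) := ⟨qX⟩
  letI : Y.Over (Spec (CommRingCat.of k)) := ⟨qY⟩
  haveI : LocallyOfFiniteType (X ↘ Spec (CommRingCat.of k)) := ‹LocallyOfFiniteType qX›
  haveI : LocallyOfFiniteType (Y ↘ Spec (CommRingCat.of k)) := ‹LocallyOfFiniteType qY›
  have hf' : f ≫ (Y ↘ Spec (CommRingCat.of k)) = X ↘ Spec (CommRingCat.of k) := hf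
  haveI := jacobsonSpace k X
  obtain ⟨Z, ⟨hZ, hZd⟩, -⟩ := existsUnique_dominating k X Y f hf' d hirr hdim
  have hZc : IsClosed Z := isClosed_of_mem_irreducibleComponents Z hZ
  have himg : f.base '' Z = Set.univ := by
    rw [← (hcl Z hZc).closure_eq]
    exact hZd.closure_eq
  have hcp : closedPoints X ⊆ Z := by
    intro c hc
    have hc' : IsClosed ({c} : Set X) := mem_closedPoints_iff.mp hc
    have hy := isClosed_map_point k X Y f hf' c hc'
    obtain ⟨x, hxZ, hx⟩ : f.base c ∈ f.base '' Z := by rw [himg]; trivial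
    exact fibre_subset k X Y f hf' d hirr hdim Z hZ (f.base c) hy ⟨x, hx, hxZ⟩ rfl
  have hZu : Z = Set.univ := by
    apply subset_antisymm (Set.subset_univ _)
    have h1 := JacobsonSpace.closure_inter_closedPoints (X := X) (Z := Set.univ) isClosed_univ
    rw [Set.univ_inter] at h1
    rw [← h1]
    exact closure_minimal hcp hZc
  exact hZu ▸ hZ

/-- Let k be an algebraically closed field, X and Y schemes of finite type over k with Y irreducible,
and f : X → Y a k-morphism whose underlying continuous map is closed. Suppose that for some natural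
number d the fibre of f over every closed point y of Y (the subspace of points mapping to y) is
irreducible of dimension d. Then X is irreducible and dim X = d + dim Y. (The published statement is
for varieties, i.e. reduced separated schemes; this row assumes neither.) -/
theorem result (k : Type u) [Field k] [IsAlgClosed k]
    {X Y : Scheme.{u}} (qX : X ⟶ Spec (CommRingCat.of k)) (qY : Y ⟶ Spec (CommRingCat.of k))
    [LocallyOfFiniteType qX] [QuasiCompact qX] [LocallyOfFiniteType qY] [QuasiCompact qY]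
    (f : X ⟶ Y) (hf : f ≫ qY = qX) [IrreducibleSpace ↥Y] (hcl : IsClosedMap f.base) (d : ℕ)
    (hirr : ∀ y : ↥Y, IsClosed ({y} : Set ↥Y) → IsIrreducible (f.base ⁻¹' {y}))
    (hdim : ∀ y : ↥Y, IsClosed ({y} : Set ↥Y) → topologicalKrullDim ↥(f.base ⁻¹' {y}) = d) :
    IrreducibleSpace ↥X ∧ topologicalKrullDim ↥X = d + topologicalKrullDim ↥Y := by
  exact main k qX qY f hf hcl d hirr hdim

end Groth.Agent.S14369
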