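import Groth.Statements.S10914
import Mathlib
import Groth.Agent.S14369

set_option autoImplicit false
universe u
open CategoryTheory CategoryTheory.Limits AlgebraicGeometry TopologicalSpace
open ProjDeg

namespace Groth.Agent.S10914

open Groth.Agent.Lib.H30DimField Groth.Agent.Lib.H30FlatDim Groth.Agent.Lib.H30IrrFib in
/-- helper30's `S14369.main` over an arbitrary field (its proof does not use algebraic
closedness). -/
theorem main (k : Type u) [Field k]
    {X Y : Scheme.{u}} (qX : X ⟶ Spec (CommRingCat.of k)) (qY : Y ⟶ Spec (CommRingCat.of k))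
    [LocallyOfFiniteType qX] [QuasiCompact qX] [LocallyOfFiniteType qY] [QuasiCompact qY]
    (f : X ⟶ Y) (hf : f ≫ qY = qX) [IrreducibleSpace ↥Y] (hcl : IsClosedMap f.base) (d : ℕ)
    (hirr : ∀ y : ↥Y, IsClosed ({y} : Set ↥Y) → IsIrreducible (f.base ⁻¹' {y}))
    (hdim : ∀ y : ↥Y, IsClosed ({y} : Set ↥Y) → topologicalKrullDim ↥(f.base ⁻¹' {y}) = d) :
    IrreducibleSpace ↥X ∧ topologicalKrullDim ↥X = d + topologicalKrullDim ↥Y := by
  apply Groth.Agent.S14369.conclusion_of_univ k qX qY f hf d hirr hdim
  haveI := Groth.Agent.S14378.isNoetherian_of_ft k qX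
  haveI := Groth.Agent.S14378.isNoetherian_of_ft k qY
  letI : X.Over (Spec (CommRingCat.of k)) := ⟨qX⟩
  letI : Y.Over (Spec (CommRingCat.of k)) := ⟨qY⟩
  haveI : LocallyOfFiniteType (X ↘ Spec (CommRingCat.of k)) := ‹LocallyOfFiniteType qX›
  haveI : LocallyOfFiniteType (Y ↘ Spec (CommRingCat.of k)) := ‹LocallyOfFiniteType qY›
  have hf' : f ≫ (Y ↘ Spec (CommRingCat.of k)) = X ↘ Spec (CommRingCat.of k) := hf
  haveI := jacobsonSpace k X
  obtain ⟨Z, ⟨hZ, hZd⟩, -⟩ := existsUnique_dominating k X Y f hf' d hirr hdim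
  have hZc : IsClosed Z := isClosed_of_mem_irreducibleComponents Z hZ
  have himg : f.base '' Z = Set.univ := by
    rw [← (hcl Z hZc).closure_eq]
    exact hZd.closure_eq
  have hcp : closedPoints X ⊆ Z := by
    intro c hc
    have hc' : IsClosed ({c} : Set X) := mem_closedPoints_iff.mp hc
    have hy := isClosed_map_point k X Y f hf' c hc'
    obtain ⟨x, hxZ, hx⟩ : f.base c ∈ f.base '' Z := by rw [himg]; trivial
    exact fibre_subset k X Y f hf' d hirr hdim Z hZ (f.base c) hy ⟨x, hx, hxZ⟩ rfl
  have hZu : Z = Set.univ := by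
    apply subset_antisymm (Set.subset_univ _)
    have h1 := JacobsonSpace.closure_inter_closedPoints (X := X) (Z := Set.univ) isClosed_univ
    rw [Set.univ_inter] at h1
    rw [← h1]
    exact closure_minimal hcp hZc
  exact hZu ▸ hZ


/-- Let k be a field, X and Y reduced schemes proper over k and f : X → Y a k-morphism with (i) f
surjective, (ii) every fibre X_y over a closed point y irreducible, (iii) all these fibres of the
same dimension m, and (iv) Y irreducible. Then X is irreducible and dim X = dim Y + m. (The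
published statement takes X, Y projective over k and f projective; its proof uses only that f is a
closed map and upper semicontinuity of fibre dimension, i.e. properness.) -/
theorem result (k : Type u) [Field k] {X Y : Scheme.{u}}
    (pX : X ⟶ Spec (CommRingCat.of k)) (pY : Y ⟶ Spec (CommRingCat.of k)) [IsProper pX] [IsProper pY]
    [IsReduced X] [IsReduced Y] (f : X ⟶ Y) (hf : f ≫ pY = pX) (hsurj : Function.Surjective f)
    [IrreducibleSpace ↥Y] (m : ℕ)
    (hirr : ∀ y : ↥Y, IsClosed ({y} : Set ↥Y) → IrreducibleSpace ↥(f.fiber y))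
    (hdim : ∀ y : ↥Y, IsClosed ({y} : Set ↥Y) → topologicalKrullDim ↥(f.fiber y) = m) :
    IrreducibleSpace ↥X ∧ topologicalKrullDim ↥X = topologicalKrullDim ↥Y + m := by
  haveI : IsProper f := by
    haveI : IsProper (f ≫ pY) := by rw [hf]; infer_instance
    exact IsProper.of_comp f pY
  obtain ⟨h1, h2⟩ := main k pX pY f hf f.isClosedMap m
    (fun y hy => by
      haveI := hirr y hy
      haveI : IrreducibleSpace ↥(f.base ⁻¹' {y}) :=
        (f.fiberHomeo y).irreducibleSpace_iff.mp inferInstance
      exact IsIrreducible.of_subtype)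
    (fun y hy => by
      rw [← hdim y hy]
      exact (IsHomeomorph.topologicalKrullDim_eq _ (f.fiberHomeo y).isHomeomorph).symm)
  exact ⟨h1, by rw [h2, add_comm]⟩

end Groth.Agent.S10914
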