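import Groth.Statements.S10926
import Groth.Agent.Lib.InvIntegral21
import Groth.Agent.Lib.InvPush21
import Groth.Agent.Lib.ProjSpaceProper
import Groth.Agent.Lib.H78Dual

set_option autoImplicit false
universe u
open CategoryTheory CategoryTheory.Limits AlgebraicGeometry
open PicF

namespace Groth.Agent.S10926

/-- Let k be an algebraically closed field, Y an integral scheme of finite type over k, f : X → Y flat
and projective (f = i ≫ pr for a closed immersion i : X → P^n_Y) with every fibre X_y integral, and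
L, M invertible O_X-modules whose pullbacks to each fibre X_y are isomorphic. Then there is an
invertible O_Y-module E with L ≅ M ⊗ f^*E. -/
theorem result (k : Type u) [Field k] [IsAlgClosed k]
    {X Y : Scheme.{u}} (g : Y ⟶ Spec (CommRingCat.of k)) [LocallyOfFiniteType g] [QuasiCompact g]
    [IsIntegral Y] (n : ℕ) (i : X ⟶ CohB1.ProjSpaceOver n Y) [IsClosedImmersion i]
    (f : X ⟶ Y) (hf : f = i ≫ CohB1.ProjSpaceOver.toBase n Y) [Flat f]
    (hint : ∀ y : Y, IsIntegral (f.fiber y))
    (L M : X.Modules) (hL : PicF.IsInvertible L) (hM : PicF.IsInvertible M)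
    (hLM : ∀ y : Y, Nonempty ((Scheme.Modules.pullback (f.fiberι y)).obj L ≅ (Scheme.Modules.pullback (f.fiberι y)).obj M)) :
    ∃ E : Y.Modules, PicF.IsInvertible E ∧
      Nonempty (L ≅ CohB1.tensorMod M ((Scheme.Modules.pullback f).obj E)) := by
  have : IsProper (CohB1.ProjSpaceOver.toBase n Y) :=
    Groth.Agent.Lib.ProjSpaceProper.isProper_toBase n Y
  have : IsProper f := by rw [hf]; infer_instance
  have : IsLocallyNoetherian Y := LocallyOfFiniteType.isLocallyNoetherian g
  obtain ⟨M', hM', ⟨e₀⟩⟩ := Groth.Agent.Lib.H78Dual.exists_tensor_inverse hM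
  have hN : PicF.IsInvertible (CohB1.tensorMod L M') :=
    Groth.Agent.Lib.H78TensorGen.isInvertible_tensorMod hL hM'
  have htriv : ∀ y : Y, Nonempty ((Scheme.Modules.pullback (f.fiberι y)).obj (CohB1.tensorMod L M') ≅
      Coh.structureModule (f.fiber y)) := fun y => by
    obtain ⟨e⟩ := hLM y
    exact Groth.Agent.Lib.InvTensor21.nonempty_pullback_tensor_inverse_iso (f.fiberι y) hM hL hM' e₀
      ⟨e.symm⟩
  have h0 : ∀ y : Y, Module.finrank (Y.residueField y) Γ(f.fiber y, ⊤) = 1 :=
    Groth.Agent.Lib.InvIntegral21.finrank_fiber_eq_one f k g hint _ hN htriv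
  have key := Groth.Agent.Lib.InvRank21.exists_nhd_gen_of_rank f h0 _ hN htriv
  have h1 := Groth.Agent.Lib.InvPush21.isInvertible_pushforward f _ key
  have := Groth.Agent.Lib.InvPush21.isIso_counit f _ key
  refine ⟨(Scheme.Modules.pushforward f).obj (CohB1.tensorMod L M'), h1, ⟨?_⟩⟩
  exact (Groth.Agent.Lib.OXModTensor.rightUnitor L).symm ≪≫
    Groth.Agent.Lib.OXModTensor.tensorModIso (Iso.refl L) e₀.symm ≪≫
    (Groth.Agent.Lib.OXModTensor.associator L M' M).symm ≪≫
    Groth.Agent.Lib.OXModTensor.braiding _ _ ≪≫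
    Groth.Agent.Lib.OXModTensor.tensorModIso (Iso.refl M)
      (asIso ((Scheme.Modules.pullbackPushforwardAdjunction f).counit.app (CohB1.tensorMod L M'))).symm

end Groth.Agent.S10926
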