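import Groth.Statements.S10927
import Groth.Agent.Lib.OrbitSmoothMap45
import Groth.Agent.Lib.GrpReduced38

set_option autoImplicit false
universe u
open CategoryTheory CategoryTheory.Limits MonoidalCategory CartesianMonoidalCategory MonObj GrpObj AlgebraicGeometry
open Variety

namespace Groth.Agent.S10927

/-- Let k be an algebraically closed field of characteristic zero, G a group variety over k (an
integral, separated k-group scheme of finite type) and X a homogeneous space for G: a k-variety
(integral, separated, of finite type over k) with an action of G such that G(k) acts transitively on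
X(k). Then for every k-point x of X the orbit map G → X, g ↦ g · x, is smooth. -/
theorem result (k : Type u) [Field k] [IsAlgClosed k] [CharZero k]
    (G X : Over (Spec (CommRingCat.of k))) [GrpObj G] (a : AlgGrp.Action G X)
    [IsIntegral G.left] [IsSeparated G.hom] [LocallyOfFiniteType G.hom] [QuasiCompact G.hom]
    [IsIntegral X.left] [IsSeparated X.hom] [LocallyOfFiniteType X.hom] [QuasiCompact X.hom]
    (htrans : ∀ x x' : 𝟙_ (Over (Spec (CommRingCat.of k))) ⟶ X,
      ∃ σ : 𝟙_ (Over (Spec (CommRingCat.of k))) ⟶ G, CartesianMonoidalCategory.lift σ x ≫ a.act = x')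
    (x : 𝟙_ (Over (Spec (CommRingCat.of k))) ⟶ X) :
    Smooth (a.orbitMap x).left := by
  have hGs : Smooth G.hom := Groth.Agent.Lib.GrpReduced38.smooth_of_charZero G
  have hsurj : Function.Surjective (a.orbitMap x).left :=
    Groth.Agent.Lib.OrbitSmoothMap45.surjective_orbitMap_of_transitive a htrans x
  have hO : Set.range (𝟙 X.left : X.left ⟶ X.left) = Set.range (a.orbitMap x).left := by
    rw [hsurj.range_eq]
    exact Set.range_eq_univ.mpr (fun y => ⟨y, rfl⟩)
  obtain ⟨ψ, hψ⟩ := Groth.Agent.Lib.OrbitSmooth45.exists_orbitMap_lift a x (𝟙 X.left) hO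
  obtain ⟨b, hb⟩ := Groth.Agent.Lib.OrbitSmooth45.exists_act_lift a x (𝟙 X.left) hO
  have hsurj' := Groth.Agent.Lib.OrbitSmooth45.surjective_lift a x (𝟙 X.left) hO ψ hψ
  have hψl : ψ.left = (a.orbitMap x).left := by
    have h := congrArg (fun t => t.left) hψ
    simpa using h
  -- the stabilizer
  have hH : IsPullback (Limits.pullback.fst (a.orbitMap x) x)
      (toUnit (Limits.pullback (a.orbitMap x) x)) (a.orbitMap x) x := by
    have h := IsPullback.of_hasPullback (a.orbitMap x) x
    rwa [toUnit_unique (Limits.pullback.snd (a.orbitMap x) x) (toUnit _)] at h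
  obtain ⟨str, -⟩ := Groth.Agent.Lib.StabGrp45.exists_grpObj_stabilizer a x _ hH
  have hlftH : LocallyOfFiniteType (Limits.pullback (a.orbitMap x) x).hom := by
    have h1 : LocallyOfFiniteType x.left := by
      have : LocallyOfFiniteType (x.left ≫ X.hom) := by
        rw [Over.w x]
        exact inferInstanceAs (LocallyOfFiniteType (𝟙 _))
      exact locallyOfFiniteType_of_comp x.left X.hom
    have h2 : IsPullback (Limits.pullback.fst (a.orbitMap x) x).left
        (toUnit (Limits.pullback (a.orbitMap x) x)).left (a.orbitMap x).left x.left :=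
      hH.map (Over.forget _)
    have h3 : LocallyOfFiniteType (Limits.pullback.fst (a.orbitMap x) x).left :=
      MorphismProperty.of_isPullback (P := @LocallyOfFiniteType) h2.flip h1
    rw [← Over.w (Limits.pullback.fst (a.orbitMap x) x)]
    infer_instance
  have hHs : Smooth (Limits.pullback (a.orbitMap x) x).hom :=
    @Groth.Agent.Lib.GrpReduced38.smooth_of_charZero k _ _ _ str hlftH
  have := Groth.Agent.Lib.OrbitSmoothMap45.smooth_lift_of_smooth_stabilizer a x (𝟙 X.left) ψ hψ
    b hb _ hH
  rwa [hψl] at this

end Groth.Agent.S10927
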