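import Groth.Statements.S10929
import Groth.Agent.Lib.GenericSmooth45

set_option autoImplicit false
universe u
open CategoryTheory CategoryTheory.Limits AlgebraicGeometry
open Variety

namespace Groth.Agent.S10929

/-- Let k be an algebraically closed field of characteristic zero, X and Y integral schemes of finite
type over k and f : X → Y a dominant k-morphism. Then there is a nonempty open subscheme U of X such
that f restricted to U is a smooth morphism U → Y. -/
theorem result (k : Type u) [Field k] [IsAlgClosed k] [CharZero k]
    {X Y : Scheme.{u}} (qX : X ⟶ Spec (CommRingCat.of k)) (qY : Y ⟶ Spec (CommRingCat.of k))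
    [LocallyOfFiniteType qX] [QuasiCompact qX] [LocallyOfFiniteType qY] [QuasiCompact qY]
    [IsIntegral X] [IsIntegral Y] (f : X ⟶ Y) (hf : f ≫ qY = qX) (hdom : DenseRange f.base) :
    ∃ U : X.Opens, (U : Set ↥X).Nonempty ∧ Smooth (U.ι ≫ f) := by
  have hlft : LocallyOfFiniteType f := by
    have : LocallyOfFiniteType (f ≫ qY) := by rw [hf]; infer_instance
    exact locallyOfFiniteType_of_comp f qY
  have hY : IsLocallyNoetherian Y := LocallyOfFiniteType.isLocallyNoetherian qY
  have hlfp : LocallyOfFinitePresentation f :=
    LocallyOfFinitePresentation.iff_locallyOfFiniteType.mpr hlft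
  have e := Groth.Agent.Lib.GenericSmooth45.map_genericPoint_of_denseRange f hdom
  have hne : Nonempty (⊤ : Y.Opens) := ⟨⟨genericPoint Y, trivial⟩⟩
  let φ : k →+* Y.functionField :=
    ((Y.germToFunctionField ⊤).hom.comp qY.appTop.hom).comp
      (Scheme.ΓSpecIso (CommRingCat.of k)).inv.hom
  have : CharZero Y.functionField := charZero_of_injective_ringHom φ.injective
  exact Groth.Agent.Lib.GenericSmooth45.exists_open_smooth_of_perfectField f e

end Groth.Agent.S10929
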