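import Groth.Statements.S10930
import Groth.Agent.Lib.H87GenSmoothRegSch
import Groth.Agent.Lib.SmoothStalkRegular45

set_option autoImplicit false
universe u
open CategoryTheory CategoryTheory.Limits AlgebraicGeometry
open Variety

namespace Groth.Agent.S10930

/-- Let k be an algebraically closed field of characteristic zero, X and Y varieties over k (integral,
separated and of finite type over k) with X nonsingular, i.e. smooth over k, and f : X → Y a
k-morphism. Then there is a nonempty open subscheme V of Y such that the restriction f⁻¹(V) → V of f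
is smooth. -/
theorem result (k : Type u) [Field k] [IsAlgClosed k] [CharZero k]
    {X Y : Scheme.{u}} (qX : X ⟶ Spec (CommRingCat.of k)) (qY : Y ⟶ Spec (CommRingCat.of k))
    [LocallyOfFiniteType qX] [QuasiCompact qX] [IsSeparated qX] [Smooth qX]
    [LocallyOfFiniteType qY] [QuasiCompact qY] [IsSeparated qY]
    [IsIntegral X] [IsIntegral Y] (f : X ⟶ Y) (hf : f ≫ qY = qX) :
    ∃ V : Y.Opens, (V : Set ↥Y).Nonempty ∧ Smooth (f ∣_ V) := by
  subst hf
  have hNk : IsNoetherianRing (CommRingCat.of k) := inferInstanceAs (IsNoetherianRing k)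
  have hlNX : IsLocallyNoetherian X := LocallyOfFiniteType.isLocallyNoetherian (f ≫ qY)
  have hlNY : IsLocallyNoetherian Y := LocallyOfFiniteType.isLocallyNoetherian qY
  have hcpt : CompactSpace X := (quasiCompact_iff_compactSpace (f ≫ qY)).mp inferInstance
  have hNX : IsNoetherian X := {}
  have hlft : LocallyOfFiniteType f := locallyOfFiniteType_of_comp f qY
  have hlfp : LocallyOfFinitePresentation f := inferInstance
  have hqc : QuasiCompact f := inferInstance
  have hreg : ∀ x : X, IsRegularLocalRing (X.presheaf.stalk x) := fun x =>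
    Groth.Agent.Lib.SmoothStalkRegular45.isRegularLocalRing_stalk_of_smooth_field k (f ≫ qY) x
  let φ : k →+* Y.functionField :=
    ((Scheme.ΓSpecIso (CommRingCat.of k)).inv ≫ qY.appTop ≫
      Y.presheaf.germ ⊤ (genericPoint Y) trivial).hom
  haveI : CharZero Y.functionField := charZero_of_injective_ringHom φ.injective
  haveI hperf : PerfectField Y.functionField := inferInstance
  by_cases hdom : DenseRange f.base
  · haveI : IsDominant f := ⟨hdom⟩
    obtain ⟨V, hVd, hVs⟩ := Groth.Agent.Lib.H87GenSmoothRegSch.main hreg f
    exact ⟨V, hVd.nonempty, hVs⟩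
  · let V : Y.Opens := ⟨(closure (Set.range f.base))ᶜ, isClosed_closure.isOpen_compl⟩
    have hne : (V : Set Y).Nonempty := by
      by_contra h
      rw [Set.not_nonempty_iff_eq_empty] at h
      apply hdom
      rw [DenseRange, dense_iff_closure_eq]
      exact Set.compl_empty_iff.mp h
    refine ⟨V, hne, ?_⟩
    rw [← Scheme.Hom.smoothLocus_eq_top_iff, ← top_le_iff]
    rintro x' -
    have h1 : f.base x'.1 ∈ closure (Set.range f.base) := subset_closure ⟨x'.1, rfl⟩
    exact absurd h1 x'.2

end Groth.Agent.S10930
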