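import Groth.Statements.S10933
import Groth.Agent.Lib.H87GlDim2

set_option autoImplicit false
universe u
open CategoryTheory
open CAlg

namespace Groth.Agent.S10933

/-- Let A be a (Noetherian) regular local ring, M a finitely generated A-module and d a natural number.
Then the projective dimension of M equals d if and only if Ext^j_A(M, A) = 0 for every j > d and
Ext^d_A(M, A) ≠ 0. (Projective dimension valued in WithBot ℕ∞, the zero module having projective
dimension ⊥.) -/
theorem result (A : Type u) [CommRing A] [IsRegularLocalRing A]
    (M : Type u) [AddCommGroup M] [Module A M] [Module.Finite A M] (d : ℕ) :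
    projectiveDimension (ModuleCat.of A M) = (d : WithBot ℕ∞) ↔
      ((∀ j : ℕ, d < j → Subsingleton (Abelian.Ext (ModuleCat.of A M) (ModuleCat.of A A) j)) ∧
        Nontrivial (Abelian.Ext (ModuleCat.of A M) (ModuleCat.of A A) d)) := by
  have hd : ringKrullDim A = ((IsLocalRing.maximalIdeal A).spanFinrank : ℕ) :=
    IsRegularLocalRing.spanFinrank_maximalIdeal.symm
  have hfin := Groth.Agent.Lib.H87GlDim2.hasProjectiveDimensionLT_of_isRegularLocalRing _ hd
    (ModuleCat.of A M)
  constructor
  · intro h
    have hle : HasProjectiveDimensionLE (ModuleCat.of A M) d := by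
      rw [← projectiveDimension_le_iff, h]
    refine ⟨fun j hj => HasProjectiveDimensionLT.subsingleton (ModuleCat.of A M) (d + 1) j hj _,
      ?_⟩
    rw [← not_subsingleton_iff_nontrivial]
    intro hsub
    have hlt : HasProjectiveDimensionLT (ModuleCat.of A M) d :=
      Groth.Agent.Lib.H87GlDim2.hasProjectiveDimensionLT_of_ext_ring (ModuleCat.of A M) d hle hsub
    rw [← projectiveDimension_lt_iff, h] at hlt
    exact lt_irrefl _ hlt
  · rintro ⟨hvan, hnt⟩
    have hle : HasProjectiveDimensionLT (ModuleCat.of A M) (d + 1) :=
      Groth.Agent.Lib.H87GlDim2.hasProjectiveDimensionLT_of_forall_ext_ring (ModuleCat.of A M)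
        _ d hfin hvan
    have h1 : projectiveDimension (ModuleCat.of A M) ≤ (d : WithBot ℕ∞) := by
      rw [projectiveDimension_le_iff]
      exact hle
    refine le_antisymm h1 (not_lt.mp ?_)
    intro hlt
    have hlt' : projectiveDimension (ModuleCat.of A M) < ((d : ℕ) : WithBot ℕ∞) := hlt
    rw [projectiveDimension_lt_iff] at hlt'
    have := HasProjectiveDimensionLT.subsingleton (ModuleCat.of A M) d d le_rfl (ModuleCat.of A A)
    exact not_subsingleton _ this

end Groth.Agent.S10933
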