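import Groth.Statements.S10935
import Groth.Agent.Lib.AssPoints
import Groth.Agent.Lib.StructureModuleStalk
import Groth.Agent.Lib.RegularNormal
import Groth.Agent.Lib.CodimOne13d
import Groth.Agent.Lib.PurityBir82

set_option autoImplicit false
universe u
open CategoryTheory CategoryTheory.Limits AlgebraicGeometry
open FlatMor

namespace Groth.Agent.S10935

open Groth.Agent.Lib.StructureModule Groth.Agent.Lib.StructureModuleStalk
  Groth.Agent.Lib.AssPoints Groth.Agent.Lib.QCohStalk

/-- A normal Noetherian local domain of dimension `≤ 1` is a principal ideal ring. -/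
theorem isPrincipalIdealRing_of_normal (A : Type u) [CommRing A] [IsLocalRing A] [IsDomain A]
    [IsNoetherianRing A] [IsIntegrallyClosed A] (hdim : ringKrullDim A ≤ 1) :
    IsPrincipalIdealRing A := by
  have hK : Ring.KrullDimLE 1 A := Ring.krullDimLE_iff.mpr hdim
  have hmax : ∀ P : Ideal A, P ≠ ⊥ → P.IsPrime → P = IsLocalRing.maximalIdeal A :=
    fun P hP hPp =>
      IsLocalRing.eq_maximalIdeal ((Ring.krullDimLE_one_iff_of_isPrime_bot.mp hK) P hP hPp)
  have h30 : (IsIntegrallyClosed A ∧
      ∀ P : Ideal A, P ≠ ⊥ → P.IsPrime → P = IsLocalRing.maximalIdeal A) ↔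
      IsPrincipalIdealRing A := (tfae_of_isNoetherianRing_of_isLocalRing_of_isDomain A).out 3 0
  exact h30.mp ⟨inferInstance, hmax⟩

theorem coheight_le_topologicalKrullDim (X : Scheme.{u}) (x : X) :
    (Order.coheight x : WithBot ℕ∞) ≤ topologicalKrullDim X := by
  unfold topologicalKrullDim
  let _ := specializationOrder X
  have h1 : Order.krullDim (TopologicalSpace.IrreducibleCloseds X) = Order.krullDim X :=
    Order.krullDim_eq_of_orderIso irreducibleSetEquivPoints
  rw [h1]
  exact Order.coheight_le_krullDim x

/-- A nonzero element of a local ring of a scheme stays nonzero at some associated point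
generizing the given point. -/
theorem exists_isAssPoint_stalkSpecializes_ne_zero (X : Scheme.{u}) (x : X)
    (s : X.presheaf.stalk x) (hs : s ≠ 0) :
    ∃ (x' : X) (h : x' ⤳ x), Curv2.IsAssPoint (Coh.structureModule X) x' ∧
      (X.presheaf.stalkSpecializes h).hom s ≠ 0 := by
  obtain ⟨V, hxV, α, rfl⟩ := TopCat.Presheaf.exists_germ_eq X.presheaf s
  haveI := isQuasicoherent_structureModule X
  have hne : (Coh.structureModule X).presheaf.germ V x hxV (toSec V α) ≠ 0 := by
    rw [Ne, germ_toSec_eq_zero_iff]
    exact hs
  obtain ⟨y, hyV, hyx, hy, hne'⟩ :=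
    exists_isWeakAssPoint_of_germ_ne_zero (Coh.structureModule X) (toSec V α) x hxV hne
  refine ⟨y, hyx, (isAssPoint_iff_isWeakAssPoint _ _).mpr hy, ?_⟩
  rw [Ne, germ_toSec_eq_zero_iff] at hne'
  rw [TopCat.Presheaf.germ_stalkSpecializes_apply]
  exact hne'


/-- Let Y be an integral, regular (every local ring a regular local ring), one-dimensional scheme with
generic point η, X a Noetherian scheme and f : X → Y a morphism. Then f is flat if and only if every
associated point x of X — a point such that the maximal ideal of O_{X,x} is an associated prime of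
O_{X,x} — satisfies f(x) = η. -/
theorem result {X Y : Scheme.{u}} (f : X ⟶ Y)
    [IsIntegral Y] (hreg : ∀ y : Y, IsRegularLocalRing (Y.presheaf.stalk y))
    (hY : topologicalKrullDim ↥Y = 1) [IsNoetherian X] :
    Flat f ↔ ∀ x : X, Curv2.IsAssPoint (Coh.structureModule X) x → f.base x = genericPoint ↥Y := by
  rw [Flat.iff_flat_stalkMap]
  constructor
  · intro hflat x hx
    by_contra hne
    rw [isAssPoint_structureModule_iff] at hx
    obtain ⟨-, a, ha⟩ := hx
    have hnf := Groth.Agent.Lib.CodimOne13.not_isField_stalk_of_ne_genericPoint hne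
    have hdom : IsDomain (Y.presheaf.stalk (f.base x)) :=
      Groth.Agent.Lib.RegularLocal.isDomain _
    obtain ⟨r, hr0, hrm⟩ : ∃ r : Y.presheaf.stalk (f.base x), r ≠ 0 ∧
        r ∈ IsLocalRing.maximalIdeal (Y.presheaf.stalk (f.base x)) := by
      by_contra hcon
      push Not at hcon
      apply hnf
      rw [IsLocalRing.isField_iff_maximalIdeal_eq]
      rw [eq_bot_iff]
      intro r hr
      by_contra hr0
      exact hcon r hr0 hr
    letI : Algebra (Y.presheaf.stalk (f.base x)) (X.presheaf.stalk x) :=
      (f.stalkMap x).hom.toAlgebra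
    have hfl : Module.Flat (Y.presheaf.stalk (f.base x)) (X.presheaf.stalk x) := hflat x
    have htf : Module.IsTorsionFree (Y.presheaf.stalk (f.base x)) (X.presheaf.stalk x) :=
      inferInstance
    have hmem : (f.stalkMap x).hom r ∈ IsLocalRing.maximalIdeal (X.presheaf.stalk x) := by
      have : ¬ IsUnit r := hrm
      intro hu
      exact this ((isUnit_map_iff (f.stalkMap x).hom r).mp hu)
    rw [ha] at hmem
    obtain ⟨n, hn⟩ := hmem
    rw [Submodule.mem_colon_singleton, Submodule.mem_bot, ← map_pow] at hn
    have hrn : r ^ n ≠ 0 := pow_ne_zero n hr0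
    have hreg : IsRegular (r ^ n) := IsRegular.of_ne_zero hrn
    have ha0 : a = 0 := by
      have h1 : (r ^ n) • a = (r ^ n) • (0 : X.presheaf.stalk x) := by
        rw [smul_zero]
        exact hn
      exact (htf.isSMulRegular hreg) h1
    have htop : IsLocalRing.maximalIdeal (X.presheaf.stalk x) = ⊤ := by
      rw [ha, ha0, Ideal.radical_eq_top, Ideal.eq_top_iff_one, Submodule.mem_colon_singleton]
      simp
    exact (IsLocalRing.maximalIdeal.isMaximal (X.presheaf.stalk x)).ne_top htop
  · intro hass x
    have hR := hreg (f.base x)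
    have hdom : IsDomain (Y.presheaf.stalk (f.base x)) :=
      Groth.Agent.Lib.RegularLocal.isDomain _
    have hic : IsIntegrallyClosed (Y.presheaf.stalk (f.base x)) :=
      Groth.Agent.Lib.RegularNormal.isIntegrallyClosed _
    have hdim : ringKrullDim (Y.presheaf.stalk (f.base x)) ≤ 1 := by
      rw [ringKrullDim_stalk_eq_coheight]
      exact (coheight_le_topologicalKrullDim Y _).trans hY.le
    have hpir : IsPrincipalIdealRing (Y.presheaf.stalk (f.base x)) :=
      isPrincipalIdealRing_of_normal _ hdim
    letI : Algebra (Y.presheaf.stalk (f.base x)) (X.presheaf.stalk x) :=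
      (f.stalkMap x).hom.toAlgebra
    have htf : Module.IsTorsionFree (Y.presheaf.stalk (f.base x)) (X.presheaf.stalk x) := by
      refine ⟨fun r hr s₁ s₂ h12 => ?_⟩
      have hr0 : r ≠ 0 := hr.ne_zero
      by_contra hne
      have hs : s₁ - s₂ ≠ 0 := sub_ne_zero.mpr hne
      have hrs : (f.stalkMap x).hom r * (s₁ - s₂) = 0 := by
        have h1 : r • s₁ = r • s₂ := h12
        rw [Algebra.smul_def, Algebra.smul_def] at h1
        rw [mul_sub]
        exact sub_eq_zero.mpr h1
      obtain ⟨x', hx'x, hx'ass, hne'⟩ :=
        exists_isAssPoint_stalkSpecializes_ne_zero X x (s₁ - s₂) hs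
      have hη := hass x' hx'ass
      -- transport `r` to the stalk at `f x'`
      have hsp : f.base x' ⤳ f.base x := hx'x.map f.base.hom.continuous
      set r' := (Y.presheaf.stalkSpecializes hsp).hom r with hr'
      have hr'0 : r' ≠ 0 := by
        intro h0
        apply hr0
        apply Groth.Agent.Lib.PurityBir82.stalkSpecializes_injective Y hsp
        rw [map_zero]
        exact h0
      have hfld : IsField (Y.presheaf.stalk (f.base x')) := by
        rw [hη]
        exact (inferInstance : Field Y.functionField).toIsField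
      have hu : IsUnit r' := by
        obtain ⟨b, hb⟩ := hfld.mul_inv_cancel hr'0
        exact IsUnit.of_mul_eq_one b hb
      have hu' : IsUnit ((f.stalkMap x').hom r') := hu.map _
      have hcomm : (f.stalkMap x').hom r' =
          (X.presheaf.stalkSpecializes hx'x).hom ((f.stalkMap x).hom r) := by
        have := Scheme.Hom.stalkSpecializes_stalkMap_apply f x' x hx'x r
        exact this
      have h0 : (f.stalkMap x').hom r' * (X.presheaf.stalkSpecializes hx'x).hom (s₁ - s₂) = 0 := by
        rw [hcomm, ← map_mul, hrs, map_zero]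
      exact hne' (hu'.mul_right_eq_zero.mp h0)
    exact (inferInstance : Module.Flat (Y.presheaf.stalk (f.base x)) (X.presheaf.stalk x))

end Groth.Agent.S10935
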