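import Groth.Statements.S12422
import Groth.Agent.Lib.H87OmegaReg
import Groth.Agent.Lib.H87SmoothRank
import Groth.Agent.Lib.H14SmoothReg
import Groth.Agent.Lib.H56FibDimGen
import Groth.Agent.Lib.H56LocDimSch

set_option autoImplicit false
universe u
open CategoryTheory CategoryTheory.Limits AlgebraicGeometry
open NonsingVar

namespace Groth.Agent.S12422

open Groth.Agent.Lib.H56LocDim in
/-- over a field, the fibre dimension of the structure morphism is the local dimension -/
theorem fibreDimAt_over_field (k : Type u) [Field k] (X : Scheme.{u})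
    [X.Over (Spec (CommRingCat.of k))] (x : X) :
    FlatMor.fibreDimAt (X ↘ (Spec (CommRingCat.of k))) x = FlatMor.localDim X x := by
  rw [fibreDimAt_eq_fibLocDim]
  unfold fibLocDim
  have huniv : ((X ↘ (Spec (CommRingCat.of k))).base ⁻¹'
      {(X ↘ (Spec (CommRingCat.of k))).base x} : Set X) = Set.univ := by
    ext z
    simp only [Set.mem_preimage, Set.mem_singleton_iff, Set.mem_univ, iff_true]
    exact Subsingleton.elim (α := PrimeSpectrum k) _ _
  have hopen : IsOpen ((X ↘ (Spec (CommRingCat.of k))).base ⁻¹'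
      {(X ↘ (Spec (CommRingCat.of k))).base x} : Set X) := by
    rw [huniv]
    exact isOpen_univ
  exact localDim_eq_of_isOpenEmbedding hopen.isOpenEmbedding_subtypeVal ⟨x, rfl⟩

/-- Let k be an algebraically closed field, X an irreducible scheme which is separated and of finite
type over k, n = dim X, and (Ω, d) a sheaf of relative differentials of X over k, i.e. d : O_X → Ω a
universal k-derivation. Then Ω is locally free of rank n if and only if every local ring of X is
regular (X is a nonsingular variety over k). -/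
theorem result (k : Type u) [Field k] [IsAlgClosed k] (n : ℕ)
    (X : Scheme.{u}) [X.Over (Spec (CommRingCat.of k))] [IrreducibleSpace ↥X]
    [IsSeparated (X ↘ (Spec (CommRingCat.of k)))] [LocallyOfFiniteType (X ↘ (Spec (CommRingCat.of k)))]
    [QuasiCompact (X ↘ (Spec (CommRingCat.of k)))]
    (hn : topologicalKrullDim ↥X = (n : WithBot ℕ∞))
    (Ω : X.Modules) (d : OmegaSh.Der (X ↘ (Spec (CommRingCat.of k))) Ω) (hd : OmegaSh.IsUniversal d) :
    FlatMod.IsFinLocFreeOfRank n Ω ↔ ∀ x : ↥X, IsRegularLocalRing ↑(X.presheaf.stalk x) := by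
  haveI : IsLocallyNoetherian (Spec (CommRingCat.of k)) := inferInstance
  haveI : LocallyOfFinitePresentation (X ↘ (Spec (CommRingCat.of k))) := inferInstance
  have hloc : ∀ x : X, FlatMor.localDim X x = (n : WithBot ℕ∞) := fun x => by
    rw [Groth.Agent.Lib.H56LocDim.localDim_eq_dim_of_irreducible k X x, hn]
  constructor
  · intro hΩ x
    rw [← Groth.Agent.Lib.H14SmoothReg.mem_smoothLocus_iff_isRegularLocalRing k X x]
    obtain ⟨c, -, hxc, hc⟩ := Groth.Agent.Lib.H30DimField.exists_closed_point k X x Set.univ
      isOpen_univ trivial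
    obtain ⟨U, hcU, ⟨e⟩⟩ := hΩ c
    have hreg := Groth.Agent.Lib.H87OmegaReg.isRegularLocalRing_stalk_of_isClosed k X Ω d hd n c hc
      (hloc c) U hcU e
    have hcS : c ∈ (X ↘ (Spec (CommRingCat.of k))).smoothLocus :=
      (Groth.Agent.Lib.H14SmoothReg.mem_smoothLocus_iff_isRegularLocalRing k X c).mpr hreg
    exact hxc.mem_open (X ↘ (Spec (CommRingCat.of k))).smoothLocus.2 hcS
  · intro hreg x
    haveI : Smooth (X ↘ (Spec (CommRingCat.of k))) := by
      rw [← Scheme.Hom.smoothLocus_eq_top_iff]
      ext y
      simp only [TopologicalSpace.Opens.coe_top, Set.mem_univ, iff_true, SetLike.mem_coe]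
      exact (Groth.Agent.Lib.H14SmoothReg.mem_smoothLocus_iff_isRegularLocalRing k X y).mpr
        (hreg y)
    obtain ⟨U, m, hxU, hiso, hm⟩ := Groth.Agent.Lib.H87SmoothRank.exists_free_omega_of_smooth
      (X ↘ (Spec (CommRingCat.of k))) Ω d hd x
    rw [fibreDimAt_over_field k X x, hloc x] at hm
    have hnm : n = m := by exact_mod_cast hm
    subst hnm
    exact ⟨U, hxU, hiso⟩

end Groth.Agent.S12422
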