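import Groth.Statements.S10937
import Groth.Agent.Lib.H87FirstSeqSmooth
import Groth.Agent.Lib.OmegaDer81J
import Groth.Agent.Lib.H56FibDimGen
import Groth.Agent.S12422

set_option autoImplicit false
universe u
open CategoryTheory CategoryTheory.Limits AlgebraicGeometry
open Variety

namespace Groth.Agent.S10937

/-- (a)⇔(b): let k be an algebraically closed field, X and Y nonsingular varieties over k (integral,
separated, of finite type and smooth over k) with dim Y = dY and dim X = dY + n, and f : X → Y a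
k-morphism. Then f is smooth of relative dimension n if and only if Ω_{X/Y} (the conormal sheaf of
the diagonal of f) is locally free of rank n. -/
theorem result (k : Type u) [Field k] [IsAlgClosed k]
    {X Y : Scheme.{u}} (qX : X ⟶ Spec (CommRingCat.of k)) (qY : Y ⟶ Spec (CommRingCat.of k))
    [IsIntegral X] [IsSeparated qX] [LocallyOfFiniteType qX] [QuasiCompact qX] [Smooth qX]
    [IsIntegral Y] [IsSeparated qY] [LocallyOfFiniteType qY] [QuasiCompact qY] [Smooth qY]
    (f : X ⟶ Y) (hf : f ≫ qY = qX) (n dY : ℕ) (hY : topologicalKrullDim ↥Y = dY)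
    (hX : topologicalKrullDim ↥X = ((dY + n : ℕ) : WithBot ℕ∞)) :
    SmoothOfRelativeDimension n f ↔ FlatMod.IsFinLocFreeOfRank n (Omega.sheaf f) := by
  subst hf
  haveI : QuasiSeparated qY := inferInstance
  haveI : QuasiSeparated (f ≫ qY) := inferInstance
  haveI : QuasiSeparated f := QuasiSeparated.of_comp f qY
  have hdXY := Groth.Agent.Lib.OmegaDer81.isUniversal_dOmega f
  have hdY := Groth.Agent.Lib.OmegaDer81.isUniversal_dOmega qY
  have hdX := Groth.Agent.Lib.OmegaDer81.isUniversal_dOmega (f ≫ qY)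
  -- ranks of `Ω_{X/k}` and `Ω_{Y/k}`
  have hrX : FlatMod.IsFinLocFreeOfRank (dY + n) (Omega.sheaf (f ≫ qY)) := by
    letI : X.Over (Spec (CommRingCat.of k)) := ⟨f ≫ qY⟩
    haveI : LocallyOfFiniteType (X ↘ Spec (CommRingCat.of k)) :=
      (inferInstance : LocallyOfFiniteType (f ≫ qY))
    intro x
    obtain ⟨U, m, hxU, hiso, hm⟩ := Groth.Agent.Lib.H87SmoothRank.exists_free_omega_of_smooth
      (f ≫ qY) _ (OmegaSh.dOmega (f ≫ qY)) hdX x
    have h1 := Groth.Agent.S12422.fibreDimAt_over_field k X x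
    have h2 := Groth.Agent.Lib.H56LocDim.localDim_eq_dim_of_irreducible k X x
    change FlatMor.fibreDimAt (f ≫ qY) x = _ at h1
    rw [h1, h2, hX] at hm
    have hnm : dY + n = m := by exact_mod_cast hm
    subst hnm
    exact ⟨U, hxU, hiso⟩
  have hrY : FlatMod.IsFinLocFreeOfRank dY (Omega.sheaf qY) := by
    letI : Y.Over (Spec (CommRingCat.of k)) := ⟨qY⟩
    haveI : LocallyOfFiniteType (Y ↘ Spec (CommRingCat.of k)) :=
      (inferInstance : LocallyOfFiniteType qY)
    intro y
    obtain ⟨U, m, hyU, hiso, hm⟩ := Groth.Agent.Lib.H87SmoothRank.exists_free_omega_of_smooth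
      qY _ (OmegaSh.dOmega qY) hdY y
    have h1 := Groth.Agent.S12422.fibreDimAt_over_field k Y y
    have h2 := Groth.Agent.Lib.H56LocDim.localDim_eq_dim_of_irreducible k Y y
    change FlatMor.fibreDimAt qY y = _ at h1
    rw [h1, h2, hY] at hm
    have hnm : dY = m := by exact_mod_cast hm
    subst hnm
    exact ⟨U, hyU, hiso⟩
  constructor
  · intro hsm
    haveI := hsm
    haveI : Smooth f := SmoothOfRelativeDimension.smooth n f
    intro x
    obtain ⟨U, m, hxU, hiso, hm⟩ := Groth.Agent.Lib.H87SmoothRank.exists_free_omega_of_smooth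
      f _ (OmegaSh.dOmega f) hdXY x
    rw [Groth.Agent.Lib.H87FirstSeqSmooth.fibreDimAt_eq_of_smoothOfRelativeDimension n f x] at hm
    have hnm : n = m := by exact_mod_cast hm
    subst hnm
    exact ⟨U, hxU, hiso⟩
  · intro hfree
    haveI : Smooth f := Groth.Agent.Lib.H87FirstSeqSmooth.smooth_of_isFinLocFreeOfRank f qY
      (OmegaSh.dOmega qY) (OmegaSh.dOmega (f ≫ qY)) (OmegaSh.dOmega f) hdY hdX hdXY hrY hrX hfree
    apply Groth.Agent.Lib.H87FirstSeqSmooth.smoothOfRelativeDimension_of_fibreDimAt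
    intro x
    obtain ⟨U, m, hxU, ⟨e⟩, hm⟩ := Groth.Agent.Lib.H87SmoothRank.exists_free_omega_of_smooth
      f _ (OmegaSh.dOmega f) hdXY x
    obtain ⟨U', hxU', ⟨e'⟩⟩ := hfree x
    obtain ⟨-, -, h1⟩ := Groth.Agent.Lib.H87LocFreeExact.stalk_free_finite_finrank U e ⟨x, hxU⟩
    obtain ⟨-, -, h2⟩ := Groth.Agent.Lib.H87LocFreeExact.stalk_free_finite_finrank U' e' ⟨x, hxU'⟩
    rw [hm, ← h1, h2]

end Groth.Agent.S10937
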