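import Groth.Statements.S10939
import Mathlib
import Groth.Agent.Lib.H8ProjAvoid

set_option autoImplicit false
universe u
open CategoryTheory CategoryTheory.Limits AlgebraicGeometry
open Variety

namespace Groth.Agent.S10939

open ProjectiveSpectrum in
/-- Chains of points of a closed subset of projective space are bounded by its dimension. -/
theorem length_le_of_dim_le (k : Type u) [Field k] (n r : ℕ)
    (S : Set (ProjectiveSpectrum (CohB1.polyGrading n k))) (hS : IsClosed S)
    (hdim : topologicalKrullDim ↥S ≤ r)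
    (l : LTSeries (ProjectiveSpectrum (CohB1.polyGrading n k))) (hl : ∀ y ∈ l, y ∈ S) :
    l.length ≤ r := by
  rw [Groth.Agent.Lib.H8ProjTop.topologicalKrullDim_eq_krullDim (CohB1.polyGrading n k) hS] at hdim
  let l' : LTSeries ↥S :=
    { length := l.length
      toFun := fun i => ⟨l i, hl _ ⟨i, rfl⟩⟩
      step := fun i => l.step i }
  have h1 : (l'.length : WithBot ℕ∞) ≤ Order.krullDim ↥S := Order.LTSeries.length_le_krullDim l'
  have h2 : ((l.length : ℕ) : WithBot ℕ∞) ≤ ((r : ℕ) : WithBot ℕ∞) := h1.trans hdim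
  exact_mod_cast h2


/-- Let k be a field, P = P^n_k = Proj k[x_0, …, x_n], and i_X : X → P, i_Y : Y → P closed immersions
with X of dimension r. Then there are homogeneous polynomials h_1, …, h_{r+1} of positive degree,
with basic opens D_j = D_+(h_j) and hypersurfaces H_j = P ∖ D_j, such that every H_j contains Y and
X ∖ Y = ⋃_j (X ∖ H_j), i.e. every point of X outside Y lies in some D_j; moreover each X ∖ H_j = X ∩
D_j is affine. (The published statement takes X and Y reduced; the assertion only concerns the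
underlying closed sets.) -/
theorem result (k : Type u) [Field k] (n r : ℕ)
    {X Y : Scheme.{u}} (iX : X ⟶ CohB1.ProjSpace n k) (iY : Y ⟶ CohB1.ProjSpace n k)
    [IsClosedImmersion iX] [IsClosedImmersion iY] (hX : topologicalKrullDim ↥X = r) :
    ∃ (h : Fin (r + 1) → MvPolynomial (Fin (n + 1)) k) (D : Fin (r + 1) → (CohB1.ProjSpace n k).Opens),
      (∀ j, D j = Proj.basicOpen (CohB1.polyGrading n k) (h j)) ∧
      (∀ j, ∃ d : ℕ, 0 < d ∧ (h j).IsHomogeneous d) ∧
      (∀ j, Set.range iY.base ⊆ (D j : Set ↥(CohB1.ProjSpace n k))ᶜ) ∧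
      (Set.range iX.base \ Set.range iY.base ⊆ ⋃ j, (D j : Set ↥(CohB1.ProjSpace n k))) ∧
      ∀ j, IsAffineOpen (iX ⁻¹ᵁ (D j)) := by
  classical
  have hcX : IsClosed (Set.range iX.base) := iX.isClosedEmbedding.isClosed_range
  have hcY : IsClosed (Set.range iY.base) := iY.isClosedEmbedding.isClosed_range
  have hdimS : topologicalKrullDim ↥(Set.range iX.base) ≤ r := by
    rw [← hX]
    exact (iX.isClosedEmbedding.isEmbedding.toHomeomorph).symm.isInducing.topologicalKrullDim_le
  obtain ⟨h, hhom, hvan, hcov⟩ := Groth.Agent.Lib.H8ProjAvoid.exists_hypersurfaces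
    (CohB1.polyGrading n k) (Set.range iX.base) (Set.range iY.base) hcX hcY r
    (fun l hl => length_le_of_dim_le k n r _ hcX hdimS l (fun y hy => (hl y hy).1))
  refine ⟨h, fun j => Proj.basicOpen (CohB1.polyGrading n k) (h j), fun j => rfl, ?_, ?_, ?_, ?_⟩
  · intro j
    obtain ⟨d, hd, hjd⟩ := hhom j
    exact ⟨d, hd, (MvPolynomial.mem_homogeneousSubmodule _ _).mp hjd⟩
  · intro j y hy
    rw [Set.mem_compl_iff]
    intro hyD
    exact ((Proj.mem_basicOpen (CohB1.polyGrading n k) (h j) y).mp hyD) (hvan j y hy)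
  · rintro x ⟨hxX, hxY⟩
    obtain ⟨j, hj⟩ := hcov x hxX hxY
    rw [Set.mem_iUnion]
    exact ⟨j, (Proj.mem_basicOpen (CohB1.polyGrading n k) (h j) x).mpr hj⟩
  · intro j
    obtain ⟨d, hd, hjd⟩ := hhom j
    have hA : @IsAffineOpen (CohB1.ProjSpace n k) (Proj.basicOpen (CohB1.polyGrading n k) (h j)) :=
      Proj.isAffineOpen_basicOpen (CohB1.polyGrading n k) (h j) hjd hd
    exact @IsAffineOpen.preimage X (CohB1.ProjSpace n k) _ hA iX inferInstance

end Groth.Agent.S10939
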