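import Groth.Statements.S10940
import Mathlib
import Groth.Agent.Lib.H8ProjAvoid

set_option autoImplicit false
universe u
open CategoryTheory CategoryTheory.Limits AlgebraicGeometry
open Variety

namespace Groth.Agent.S10940

/-- Chains of points in the range of an inducing map are bounded by the dimension of the source. -/
theorem length_le_of_isInducing {T X : Type*} [TopologicalSpace T] [TopologicalSpace X]
    [PartialOrder T] (hT : ∀ x y : T, x ⤳ y ↔ x ≤ y) (j : X → T) (hj : Topology.IsInducing j)
    (l : LTSeries T) (hl : ∀ y ∈ l, y ∈ Set.range j) :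
    (l.length : WithBot ℕ∞) ≤ topologicalKrullDim X := by
  classical
  let g : ↥(Set.range j) → X := fun y => Classical.choose y.2
  have hg : ∀ y : ↥(Set.range j), j (g y) = y.1 := fun y => Classical.choose_spec y.2
  let f : ↥(Set.range j) → (TopologicalSpace.IrreducibleCloseds X)ᵒᵈ := fun y =>
    OrderDual.toDual ⟨closure {g y}, isIrreducible_singleton.closure, isClosed_closure⟩
  have hf : StrictMono f := by
    intro y y' hyy'
    have h1 : y.1 ⤳ y'.1 := (hT _ _).mpr hyy'.le
    rw [← hg y, ← hg y', hj.specializes_iff] at h1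
    have h2 : ¬ y'.1 ⤳ y.1 := fun h => absurd ((hT _ _).mp h) (not_le_of_gt hyy')
    rw [← hg y, ← hg y', hj.specializes_iff] at h2
    change (⟨closure {g y'}, _, _⟩ : TopologicalSpace.IrreducibleCloseds X) <
      ⟨closure {g y}, _, _⟩
    refine lt_of_le_of_ne ?_ ?_
    · exact specializes_iff_closure_subset.mp h1
    · intro heq
      apply h2
      rw [specializes_iff_closure_subset]
      have : closure {g y'} = closure {g y} := congrArg (fun Z => Z.carrier) heq
      rw [this]
  let l' : LTSeries ↥(Set.range j) :=
    { length := l.length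
      toFun := fun i => ⟨l i, hl _ ⟨i, rfl⟩⟩
      step := fun i => l.step i }
  have h1 : ((l'.map f hf).length : WithBot ℕ∞) ≤
      Order.krullDim (TopologicalSpace.IrreducibleCloseds X)ᵒᵈ :=
    Order.LTSeries.length_le_krullDim _
  rw [Order.krullDim_orderDual] at h1
  exact h1

/-- The preimage of an affine open `V` under an immersion `j` is affine as soon as the range of
`j` is closed in `V`. -/
theorem isAffineOpen_preimage_of_isImmersion {X Y : Scheme.{u}} (j : X ⟶ Y) [IsImmersion j]
    (V : Y.Opens) (hV : IsAffineOpen V) (S : Set Y) (hS : IsClosed S)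
    (hVS : ∀ y ∈ V, y ∈ Set.range j ↔ y ∈ S) : IsAffineOpen (j ⁻¹ᵁ V) := by
  have hcl : IsClosed (Set.range (j ∣_ V)) := by
    have : Set.range (j ∣_ V) = (Subtype.val ⁻¹' S : Set ↥V) := by
      ext y
      constructor
      · rintro ⟨x, rfl⟩
        have h1 : ((j ∣_ V) x).1 = j x.1 := morphismRestrict_base_coe j V x
        have h2 : ((j ∣_ V) x).1 ∈ V := ((j ∣_ V) x).2
        exact (hVS _ h2).mp ⟨x.1, h1.symm⟩
      · intro hy
        obtain ⟨x, hx⟩ := (hVS y.1 y.2).mpr hy
        have hxV : x ∈ j ⁻¹ᵁ V := by
          show j x ∈ V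
          rw [hx]
          exact y.2
        refine ⟨⟨x, hxV⟩, Subtype.ext ?_⟩
        rw [morphismRestrict_base_coe]
        exact hx
    rw [this]
    exact hS.preimage continuous_subtype_val
  have := IsClosedImmersion.of_isPreimmersion (j ∣_ V) hcl
  have : IsAffine V.toScheme := hV
  exact isAffine_of_isAffineHom (j ∣_ V)


/-- Let k be a field and X a quasi-projective variety over k of dimension r: an integral scheme with an
immersion j : X → P^n_k. Then X admits a cover by r + 1 affine open subschemes. (Consequently the
cohomology of every quasi-coherent O_X-module vanishes above degree r; that consequence is the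
general vanishing above the number of affines in a cover and is not restated here. The published
statement is for varieties over an algebraically closed field; the argument, r + 1 hypersurfaces
through the boundary of the closure of X, works over any field, so k is an arbitrary field here.) -/
theorem result (k : Type u) [Field k] (n r : ℕ)
    {X : Scheme.{u}} (j : X ⟶ CohB1.ProjSpace n k) [IsImmersion j] [IsIntegral X]
    (hX : topologicalKrullDim ↥X = r) :
    ∃ U : Fin (r + 1) → X.Opens, (∀ i, IsAffineOpen (U i)) ∧ ⨆ i, U i = ⊤ := by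
  classical
  set W : Set (ProjectiveSpectrum (CohB1.polyGrading n k)) := Set.range j with hW
  have hWlc : IsLocallyClosed W := j.isLocallyClosed_range
  set SX : Set (ProjectiveSpectrum (CohB1.polyGrading n k)) := closure W with hSX
  set SY : Set (ProjectiveSpectrum (CohB1.polyGrading n k)) := (coborder W)ᶜ with hSY
  have hcX : IsClosed SX := isClosed_closure
  have hcY : IsClosed SY := hWlc.isOpen_coborder.isClosed_compl
  have hmem : ∀ y, (y ∈ SX ∧ y ∉ SY) ↔ y ∈ W := by
    intro y
    rw [hSY, Set.notMem_compl_iff, coborder_eq_union_closure_compl]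
    constructor
    · rintro ⟨h1, h2 | h2⟩
      · exact h2
      · exact absurd h1 h2
    · intro h
      exact ⟨subset_closure h, Or.inl h⟩
  obtain ⟨h, hhom, hvan, hcov⟩ := Groth.Agent.Lib.H8ProjAvoid.exists_hypersurfaces
    (CohB1.polyGrading n k) SX SY hcX hcY r (by
      intro l hl
      have h1 := length_le_of_isInducing
        (Groth.Agent.Lib.H8ProjTop.specializes_iff_le (CohB1.polyGrading n k))
        (j : ↥X → ProjectiveSpectrum (CohB1.polyGrading n k)) j.isEmbedding.isInducing l
        (fun y hy => (hmem y).mp (hl y hy))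
      rw [hX] at h1
      exact_mod_cast h1)
  refine ⟨fun i => j ⁻¹ᵁ (show (CohB1.ProjSpace n k).Opens from
    Proj.basicOpen (CohB1.polyGrading n k) (h i)), ?_, ?_⟩
  · intro i
    obtain ⟨d, hd, hid⟩ := hhom i
    have hA : @IsAffineOpen (CohB1.ProjSpace n k)
        (Proj.basicOpen (CohB1.polyGrading n k) (h i)) :=
      Proj.isAffineOpen_basicOpen (CohB1.polyGrading n k) (h i) hid hd
    refine isAffineOpen_preimage_of_isImmersion j _ hA SX hcX ?_
    intro y hy
    have hyD : h i ∉ y.asHomogeneousIdeal :=
      (Proj.mem_basicOpen (CohB1.polyGrading n k) (h i) y).mp hy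
    have hySY : y ∉ SY := fun hy' => hyD (hvan i y hy')
    constructor
    · intro hyW
      exact subset_closure hyW
    · intro hySX
      exact (hmem y).mp ⟨hySX, hySY⟩
  · rw [eq_top_iff]
    intro x _
    have hxW : j x ∈ W := ⟨x, rfl⟩
    obtain ⟨h1, h2⟩ := (hmem _).mpr hxW
    obtain ⟨i, hi⟩ := hcov _ h1 h2
    rw [TopologicalSpace.Opens.mem_iSup]
    exact ⟨i, (Proj.mem_basicOpen (CohB1.polyGrading n k) (h i) (j x)).mpr hi⟩

end Groth.Agent.S10940
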