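-- Statement S14403.
import Groth.Statements.S14403
import Groth.Agent.Lib.H30FlatDim
import Groth.Agent.Lib.H30LocDimTop
import Mathlib

set_option autoImplicit false
universe u
open CategoryTheory AlgebraicGeometry
open FlatMor

namespace Groth.Agent.S14403

open Groth.Agent.Lib.H30DimField Groth.Agent.Lib.H30FibRes Groth.Agent.Lib.H30DimRel
  Groth.Agent.Lib.H30FlatDim Groth.Agent.Lib.H30LocDimTop

theorem stalk_add_td (k : Type u) [Field k] (W : Scheme.{u}) [W.Over (Spec (CommRingCat.of k))]
    [LocallyOfFiniteType (W ↘ (Spec (CommRingCat.of k)))] (N : ℕ)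
    (hW : ∀ Z ∈ irreducibleComponents (W : Type u), topologicalKrullDim Z = (N : WithBot ℕ∞))
    (w : W) :
    ∃ s : ℕ, ringKrullDim (W.presheaf.stalk w) = (s : WithBot ℕ∞) ∧ s + (td k W w).toNat = N := by
  haveI := isLocallyNoetherian k W
  haveI := jacobsonSpace k W
  have hδ := isDimFun k W
  have hδ' := isDimensionFunction_of_isDimFun hδ
  obtain ⟨ξ, hξmax, hξw, hdim⟩ := stalk_dim_exists hδ w
  have hcomp : closure ({ξ} : Set W) ∈ irreducibleComponents (W : Type u) :=
    (closure_mem_irreducibleComponents_iff ξ).mpr hξmax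
  have h1 := hW _ hcomp
  rw [krullDim_closure (td k W) hδ' (td_eq_zero_of_isClosed k W) ξ] at h1
  have h2 : (td k W ξ).toNat = N := by exact_mod_cast h1
  have h3 : td k W w ≤ td k W ξ := delta_mono (td k W) hδ' hξw
  have h4 := td_nonneg k W w
  refine ⟨(td k W ξ - td k W w).toNat, hdim, ?_⟩
  omega

theorem main (k : Type u) [Field k]
    {X Y : Scheme.{u}} (qX : X ⟶ Spec (CommRingCat.of k)) (qY : Y ⟶ Spec (CommRingCat.of k))
    [LocallyOfFiniteType qX] [QuasiCompact qX] [LocallyOfFiniteType qY] [QuasiCompact qY]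
    (f : X ⟶ Y) (hf : f ≫ qY = qX) [Flat f] (d n : ℕ)
    (hY : ∀ Z ∈ irreducibleComponents (Y : Type u), topologicalKrullDim Z = (d : WithBot ℕ∞)) :
    (∀ Z ∈ irreducibleComponents (X : Type u), topologicalKrullDim Z = ((d + n : ℕ) : WithBot ℕ∞)) ↔
      ∀ (y : Y), ∀ Z ∈ irreducibleComponents (f.fiber y : Type u),
        topologicalKrullDim Z = (n : WithBot ℕ∞) := by
  letI : X.Over (Spec (CommRingCat.of k)) := ⟨qX⟩
  letI : Y.Over (Spec (CommRingCat.of k)) := ⟨qY⟩
  haveI : LocallyOfFiniteType (X ↘ Spec (CommRingCat.of k)) := ‹LocallyOfFiniteType qX›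
  haveI : LocallyOfFiniteType (Y ↘ Spec (CommRingCat.of k)) := ‹LocallyOfFiniteType qY›
  have hf' : f ≫ (Y ↘ Spec (CommRingCat.of k)) = X ↘ Spec (CommRingCat.of k) := hf
  haveI := lft_of_over k X Y f hf'
  haveI := isLocallyNoetherian k X
  haveI := isLocallyNoetherian k Y
  haveI := jacobsonSpace k X
  constructor
  · intro hX y Z hZ
    obtain ⟨z, hz⟩ : ∃ z, IsGenericPoint z Z :=
      QuasiSober.sober hZ.1 (isClosed_of_mem_irreducibleComponents Z hZ)
    have hy : f (f.fiberι y z) = y := by
      have : f.fiberι y z ∈ Set.range (f.fiberι y) := ⟨z, rfl⟩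
      rw [f.range_fiberι y] at this
      exact this
    obtain ⟨hdimZ, hmax⟩ := dim_component_eq_rt f (f.fiberι y z) y hy z rfl Z hZ hz
    set x := f.fiberι y z with hx
    have hst := stalk_dim_eq_of_flat f x (Flat.stalkMap f x) hmax
    obtain ⟨sX, hsX, hX'⟩ := stalk_add_td k X (d + n) hX x
    obtain ⟨sY, hsY, hY'⟩ := stalk_add_td k Y d hY (f x)
    rw [hsX, hsY] at hst
    have hs : sX = sY := by exact_mod_cast hst
    have hadd := td_eq_add k X Y f hf' x
    have h1 := td_nonneg k Y (f x)
    rw [hdimZ]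
    have : rt f x = n := by omega
    rw [this]
  · intro hfib T hT
    obtain ⟨η, hη⟩ : ∃ η, IsGenericPoint η T :=
      QuasiSober.sober hT.1 (isClosed_of_mem_irreducibleComponents T hT)
    have hTeq : closure {η} = T := hη.def
    have hηmax : ∀ ξ : X, ξ ⤳ η → ξ = η :=
      (closure_mem_irreducibleComponents_iff η).mp (hTeq ▸ hT)
    have hmax : ∀ x' : X, f x' = f η → x' ⤳ η → x' = η := fun x' _ h => hηmax x' h
    have hcomp := closure_asFiber_mem_irreducibleComponents f η hmax
    have h1 := hfib (f η) _ hcomp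
    rw [krullDim_closure_asFiber f η (rt f η) (trdeg_eq_rt f η)] at h1
    have hrt : rt f η = n := by exact_mod_cast h1
    have hst := stalk_dim_eq_of_flat f η (Flat.stalkMap f η) hmax
    -- dim O_{X,η} = 0
    obtain ⟨ξ, -, hξη, hdim⟩ := stalk_dim_exists (isDimFun k X) η
    rw [hηmax ξ hξη] at hdim
    obtain ⟨sY, hsY, hY'⟩ := stalk_add_td k Y d hY (f η)
    rw [hdim, hsY] at hst
    have hs : sY = 0 := by
      have : ((0 : ℕ) : WithBot ℕ∞) = (sY : WithBot ℕ∞) := by simpa using hst
      exact_mod_cast this.symm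
    have hadd := td_eq_add k X Y f hf' η
    have h2 := td_nonneg k Y (f η)
    rw [← hTeq, krullDim_closure (td k X) (isDimensionFunction_of_isDimFun (isDimFun k X))
      (td_eq_zero_of_isClosed k X) η]
    have : (td k X η).toNat = d + n := by omega
    rw [this]

/-- Let k be a field, X and Y schemes of finite type over k, f : X ⟶ Y a flat k-morphism, and d, n
natural numbers such that every irreducible component of Y has dimension d (Y equidimensional of
dimension d). Then every irreducible component of X has dimension d + n if and only if for every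
point y of Y, closed or not, every irreducible component of the scheme-theoretic fibre of f over y
has dimension n (empty fibres impose no condition). -/
theorem result (k : Type u) [Field k]
    {X Y : Scheme.{u}} (qX : X ⟶ Spec (CommRingCat.of k)) (qY : Y ⟶ Spec (CommRingCat.of k))
    [LocallyOfFiniteType qX] [QuasiCompact qX] [LocallyOfFiniteType qY] [QuasiCompact qY]
    (f : X ⟶ Y) (hf : f ≫ qY = qX) [Flat f] (d n : ℕ)
    (hY : ∀ Z ∈ irreducibleComponents (Y : Type u), topologicalKrullDim Z = (d : WithBot ℕ∞)) :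
    (∀ Z ∈ irreducibleComponents (X : Type u), topologicalKrullDim Z = ((d + n : ℕ) : WithBot ℕ∞)) ↔
      ∀ (y : Y), ∀ Z ∈ irreducibleComponents (f.fiber y : Type u),
        topologicalKrullDim Z = (n : WithBot ℕ∞) := by
  exact main k qX qY f hf d n hY

end Groth.Agent.S14403
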