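-- Statement S10941.
import Groth.Statements.S10941
import Groth.Agent.S11322
import Groth.Agent.S9358
import Groth.Agent.Lib.H30FibBC
import Groth.Agent.Lib.H30LocDimTop
import Mathlib

set_option autoImplicit false
universe u
open CategoryTheory CategoryTheory.Limits AlgebraicGeometry
open FlatMor

namespace Groth.Agent.S10941

open Groth.Agent.Lib.H30DimField Groth.Agent.Lib.H30FlatDim Groth.Agent.Lib.H30FibRes
  Groth.Agent.Lib.H30DimRel Groth.Agent.Lib.H30LocDimTop

/-- flat `k`-morphism of relative dimension `n`: components of preimages of irreducible closed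
subsets -/
theorem aux (k : Type u) [Field k] (X' Y' : Scheme.{u}) [X'.Over (Spec (CommRingCat.of k))]
    [Y'.Over (Spec (CommRingCat.of k))] [LocallyOfFiniteType (X' ↘ (Spec (CommRingCat.of k)))]
    [LocallyOfFiniteType (Y' ↘ (Spec (CommRingCat.of k)))]
    (f' : X' ⟶ Y') (hfk : f' ≫ (Y' ↘ (Spec (CommRingCat.of k))) = X' ↘ (Spec (CommRingCat.of k)))
    [Flat f'] [LocallyOfFiniteType f'] (n : ℕ) (hrel' : Cyc.HasRelDim f' n)
    (V : Set ↥Y') (hV : IsClosed V) (hVirr : IsIrreducible V)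
    (W : Set ↥(f'.base ⁻¹' V)) (hW : W ∈ irreducibleComponents ↥(f'.base ⁻¹' V)) :
    topologicalKrullDim ↥W = topologicalKrullDim ↥V + (n : WithBot ℕ∞) := by
  have hPc : IsClosed (f'.base ⁻¹' V) := hV.preimage f'.continuous
  haveI : QuasiSober ↥(f'.base ⁻¹' V) := hPc.isClosedEmbedding_subtypeVal.quasiSober
  obtain ⟨w, hw⟩ : ∃ w, IsGenericPoint w W :=
    QuasiSober.sober hW.1 (isClosed_of_mem_irreducibleComponents W hW)
  have hWeq : closure {w} = W := hw.def
  have hwmax : ∀ ξ : ↥X', ξ ∈ f'.base ⁻¹' V → ξ ⤳ w.1 → ξ = w.1 := by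
    intro ξ hξP hξ
    have h0 : (⟨ξ, hξP⟩ : ↥(f'.base ⁻¹' V)) ⤳ w :=
      Topology.IsInducing.subtypeVal.specializes_iff.mp hξ
    have h1 : closure ({w} : Set ↥(f'.base ⁻¹' V)) ⊆ closure {⟨ξ, hξP⟩} := by
      rw [← specializes_iff_closure_subset]; exact h0
    have h2 : closure ({⟨ξ, hξP⟩} : Set ↥(f'.base ⁻¹' V)) ⊆ closure {w} := by
      rw [hWeq]
      exact hW.2 isIrreducible_singleton.closure (hWeq ▸ h1)
    have h3 : w ⤳ ⟨ξ, hξP⟩ := specializes_iff_closure_subset.mpr h2
    exact congrArg Subtype.val (h0.antisymm h3).eq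
  -- dimension of W
  have hδX' := isDimensionFunction_of_isDimFun (isDimFun k X')
  haveI := jacobsonSpace k X'
  haveI := jacobsonSpace k Y'
  have hdimW : topologicalKrullDim ↥W = (((td k X' w.1).toNat : ℕ) : WithBot ℕ∞) := by
    rw [dim_image_val (f'.base ⁻¹' V) W, ← hWeq,
      ← hPc.isClosedEmbedding_subtypeVal.closure_image_eq, Set.image_singleton]
    exact krullDim_closure (td k X') hδX' (td_eq_zero_of_isClosed k _) w.1
  -- the generic point of V
  obtain ⟨ζ, hζ⟩ : ∃ ζ, IsGenericPoint ζ V := QuasiSober.sober hVirr hV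
  have hVeq : closure {ζ} = V := hζ.def
  have hdimV : topologicalKrullDim ↥V = (((td k Y' ζ).toNat : ℕ) : WithBot ℕ∞) := by
    rw [← hVeq]
    exact krullDim_closure (td k Y') (isDimensionFunction_of_isDimFun (isDimFun k Y'))
      (td_eq_zero_of_isClosed k Y') ζ
  -- `w` lies over `ζ`
  have hwζ : f'.base w.1 = ζ := by
    have h1 : ζ ⤳ f'.base w.1 := by
      rw [specializes_iff_mem_closure, hVeq]; exact w.2
    obtain ⟨ξ, hξw, hξζ⟩ := Flat.generalizingMap f' h1
    have hξP : ξ ∈ f'.base ⁻¹' V := by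
      show f'.base ξ ∈ V
      rw [hξζ, ← hVeq]; exact subset_closure rfl
    rw [← hwmax ξ hξP hξw, hξζ]
  -- `w` is maximal in its fibre
  have hmax : ∀ x' : ↥X', f' x' = f' w.1 → x' ⤳ w.1 → x' = w.1 := by
    intro x' hx' hsp
    apply hwmax x' _ hsp
    show f'.base x' ∈ V
    have : f'.base x' = f'.base w.1 := hx'
    rw [this]
    exact w.2
  have hrt : rt f' w.1 = n := rt_eq_of_trdeg_eq f' w.1 n (trdeg_of_hasRelDim f' n hrel' w.1 hmax)
  have hadd := td_eq_add k X' Y' f' hfk w.1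
  have h1 := td_nonneg k Y' ζ
  rw [hdimW, hdimV]
  have h2 : (td k X' w.1).toNat = (td k Y' ζ).toNat + n := by
    have : f' w.1 = ζ := hwζ
    rw [this, hrt] at hadd
    omega
  rw [h2]
  push_cast
  rfl

theorem main (k : Type u) [Field k]
    {X Y Y' : Scheme.{u}} (qX : X ⟶ Spec (CommRingCat.of k)) (qY : Y ⟶ Spec (CommRingCat.of k))
    (qY' : Y' ⟶ Spec (CommRingCat.of k))
    [LocallyOfFiniteType qX] [QuasiCompact qX] [LocallyOfFiniteType qY] [QuasiCompact qY]
    [LocallyOfFiniteType qY'] [QuasiCompact qY']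
    [IrreducibleSpace ↥Y] (f : X ⟶ Y) (hf : f ≫ qY = qX) [Flat f] (n : ℕ)
    (hX : ∀ Z : Set ↥X, Z ∈ irreducibleComponents ↥X →
      topologicalKrullDim ↥Z = topologicalKrullDim ↥Y + (n : WithBot ℕ∞))
    (g : Y' ⟶ Y) (hg : g ≫ qY = qY')
    (V : Set ↥Y') (hV : IsClosed V) (hVirr : IsIrreducible V)
    (W : Set ↥((pullback.snd f g).base ⁻¹' V))
    (hW : W ∈ irreducibleComponents ↥((pullback.snd f g).base ⁻¹' V)) :
    topologicalKrullDim ↥W = topologicalKrullDim ↥V + (n : WithBot ℕ∞) := by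
  letI : X.Over (Spec (CommRingCat.of k)) := ⟨qX⟩
  letI : Y.Over (Spec (CommRingCat.of k)) := ⟨qY⟩
  letI : Y'.Over (Spec (CommRingCat.of k)) := ⟨qY'⟩
  haveI : LocallyOfFiniteType (X ↘ Spec (CommRingCat.of k)) := ‹LocallyOfFiniteType qX›
  haveI : LocallyOfFiniteType (Y ↘ Spec (CommRingCat.of k)) := ‹LocallyOfFiniteType qY›
  haveI : LocallyOfFiniteType (Y' ↘ Spec (CommRingCat.of k)) := ‹LocallyOfFiniteType qY'›
  have hf' : f ≫ (Y ↘ Spec (CommRingCat.of k)) = X ↘ Spec (CommRingCat.of k) := hf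
  haveI hlft := lft_of_over k X Y f hf'
  haveI : LocallyOfFiniteType (pullback.snd f g) := inferInstance
  letI : (pullback f g).Over (Spec (CommRingCat.of k)) := ⟨pullback.snd f g ≫ qY'⟩
  haveI : LocallyOfFiniteType (pullback f g ↘ Spec (CommRingCat.of k)) :=
    inferInstanceAs (LocallyOfFiniteType (pullback.snd f g ≫ qY'))
  have hrel : Cyc.HasRelDim f n := (Groth.Agent.S11322.main k qX qY f hf n).mp hX
  have hrel' : Cyc.HasRelDim (pullback.snd f g) n :=
    (Groth.Agent.S9358.main f g (pullback.fst f g) (pullback.snd f g)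
      (IsPullback.of_hasPullback f g) n).2.2 hrel
  exact aux k (pullback f g) Y' (pullback.snd f g) rfl n hrel' V hV hVirr W hW

/-- Let k be a field, X, Y and Y' schemes of finite type over k with Y irreducible, f : X → Y a flat
k-morphism and n a natural number such that every irreducible component of X has dimension dim Y +
n. Let g : Y' → Y be a k-morphism and f' : X ×_Y Y' → Y' the base change of f. Then for every
irreducible closed subset V of Y', every irreducible component of the preimage of V under f' (with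
the subspace topology) has dimension dim V + n. In particular (Y' = Y) every irreducible component
of f⁻¹(V) has dimension dim V + n for every irreducible closed V ⊆ Y. -/
theorem result (k : Type u) [Field k]
    {X Y Y' : Scheme.{u}} (qX : X ⟶ Spec (CommRingCat.of k)) (qY : Y ⟶ Spec (CommRingCat.of k))
    (qY' : Y' ⟶ Spec (CommRingCat.of k))
    [LocallyOfFiniteType qX] [QuasiCompact qX] [LocallyOfFiniteType qY] [QuasiCompact qY]
    [LocallyOfFiniteType qY'] [QuasiCompact qY']
    [IrreducibleSpace ↥Y] (f : X ⟶ Y) (hf : f ≫ qY = qX) [Flat f] (n : ℕ)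
    (hX : ∀ Z : Set ↥X, Z ∈ irreducibleComponents ↥X →
      topologicalKrullDim ↥Z = topologicalKrullDim ↥Y + (n : WithBot ℕ∞))
    (g : Y' ⟶ Y) (hg : g ≫ qY = qY')
    (V : Set ↥Y') (hV : IsClosed V) (hVirr : IsIrreducible V)
    (W : Set ↥((pullback.snd f g).base ⁻¹' V))
    (hW : W ∈ irreducibleComponents ↥((pullback.snd f g).base ⁻¹' V)) :
    topologicalKrullDim ↥W = topologicalKrullDim ↥V + (n : WithBot ℕ∞) := by
  exact main k qX qY qY' f hf n hX g hg V hV hVirr W hW

end Groth.Agent.S10941
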