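import Groth.Statements.S10944
import Mathlib

set_option autoImplicit false
universe u
open CategoryTheory AlgebraicGeometry
open FlatMor

namespace Groth.Agent.S10944

/-- Let f : X → Y be a flat morphism of Noetherian schemes and Y' an irreducible component of Y. Then
f⁻¹(Y') is the union of the irreducible components Z of X with f(Z) ⊆ Y'. -/
theorem result {X Y : Scheme.{u}}
    [IsNoetherian X] [IsNoetherian Y] (f : X ⟶ Y) [Flat f]
    (Y' : Set ↥Y) (hY' : Y' ∈ irreducibleComponents ↥Y) :
    f.base ⁻¹' Y' = ⋃₀ {Z : Set ↥X | Z ∈ irreducibleComponents ↥X ∧ f.base '' Z ⊆ Y'} := by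
  ext x
  constructor
  · intro hx
    have hirr : IsIrreducible Y' := hY'.1
    have hcl : IsClosed Y' := isClosed_of_mem_irreducibleComponents _ hY'
    obtain ⟨η, hη⟩ := QuasiSober.sober hirr hcl
    have h1 : η ⤳ f.base x := hη.specializes hx
    obtain ⟨x', hx'x, hfx'⟩ := Flat.generalizingMap f h1
    refine ⟨irreducibleComponent x', ⟨irreducibleComponent_mem_irreducibleComponents x', ?_⟩,
      hx'x.mem_closed isClosed_irreducibleComponent mem_irreducibleComponent⟩
    obtain ⟨ξ, hξ⟩ := QuasiSober.sober (isIrreducible_irreducibleComponent (x := x'))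
      isClosed_irreducibleComponent
    have h2 : f.base ξ ⤳ η := by
      rw [← hfx']
      exact (hξ.specializes mem_irreducibleComponent).map f.base.hom.continuous
    -- closure {f ξ} is irreducible and contains Y'
    have h3 : Y' ⊆ closure {f.base ξ} := by
      rw [← hη.def]
      exact closure_minimal (Set.singleton_subset_iff.mpr h2.mem_closure) isClosed_closure
    have h4 : closure {f.base ξ} ⊆ Y' := hY'.2 isIrreducible_singleton.closure h3
    rintro _ ⟨z, hz, rfl⟩
    apply h4
    exact ((hξ.specializes hz).map f.base.hom.continuous).mem_closure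
  · rintro ⟨Z, ⟨_, hZ⟩, hxZ⟩
    exact hZ ⟨x, hxZ, rfl⟩

end Groth.Agent.S10944
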