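import Groth.Statements.S10945
import Mathlib.Algebra.Category.ModuleCat.Sheaf.Free
import Mathlib.Algebra.Homology.ShortComplex.Exact

set_option autoImplicit false
universe u
open CategoryTheory AlgebraicGeometry Opposite
open Coherent

namespace Groth.Agent.S10945

open Limits

/-- abstract nonsense: in an abelian category, if `a : P₁ ⟶ X₁` is epi and `b : P₃ ⟶ X₂` is such that
`b ≫ g` is epi, then `coprod.desc (a ≫ f) b` is epi. -/
lemma epi_desc {C : Type*} [Category C] [Abelian C] (S : ShortComplex C) (hS : S.ShortExact)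
    {P₁ P₃ : C} (a : P₁ ⟶ S.X₁) (b : P₃ ⟶ S.X₂) [Epi a] (hb : Epi (b ≫ S.g)) :
    Epi (coprod.desc (a ≫ S.f) b) := by
  haveI := hS.epi_g
  apply Preadditive.epi_of_cancel_zero
  intro Z c hc
  have h1 : (a ≫ S.f) ≫ c = 0 := by
    rw [← coprod.inl_desc (a ≫ S.f) b, Category.assoc, hc, comp_zero]
  have h2 : b ≫ c = 0 := by
    rw [← coprod.inr_desc (a ≫ S.f) b, Category.assoc, hc, comp_zero]
  have h3 : S.f ≫ c = 0 := by
    rw [Category.assoc] at h1
    exact (cancel_epi a).mp (by rw [h1, comp_zero])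
  have h4 : S.g ≫ hS.exact.desc c h3 = c := hS.exact.g_desc c h3
  have h5 : (b ≫ S.g) ≫ hS.exact.desc c h3 = 0 := by rw [Category.assoc, h4, h2]
  have h6 : hS.exact.desc c h3 = 0 := (cancel_epi (b ≫ S.g)).mp (by rw [h5, comp_zero])
  rw [← h4, h6, comp_zero]

/-- Let X be a scheme and 0 → F' → F → F'' → 0 a short exact sequence of O_X-modules whose map on global
sections Γ(X, F) → Γ(X, F'') is surjective. If F' and F'' are generated by global sections (each is
a quotient of a free O_X-module), then F is generated by global sections. -/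
theorem result (X : Scheme.{u})
    (S : ShortComplex X.Modules) (hS : S.ShortExact)
    (hsurj : Function.Surjective (S.g.val.app (op ⊤)).hom)
    (h1 : Curv2.IsGloballyGenerated S.X₁) (h3 : Curv2.IsGloballyGenerated S.X₃) :
    Curv2.IsGloballyGenerated S.X₂ := by
  obtain ⟨ι₁, p₁, hp₁⟩ := h1
  obtain ⟨ι₃, p₃, hp₃⟩ := h3
  have lift : ∀ s'' : S.X₃.sections, ∃ s : S.X₂.sections,
      SheafOfModules.sectionsMap S.g s = s'' := by
    intro s''
    obtain ⟨t, ht⟩ := hsurj (s''.val (op ⊤))
    refine ⟨PresheafOfModules.sectionsMk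
      (fun U => S.X₂.val.map (homOfLE (le_top : U.unop ≤ ⊤)).op t) ?_, ?_⟩
    · intro U V f
      rw [← PresheafOfModules.map_comp_apply]
      rfl
    · apply PresheafOfModules.sections_ext
      intro U
      change S.g.val.app U (S.X₂.val.map (homOfLE (le_top : U.unop ≤ ⊤)).op t) = _
      rw [PresheafOfModules.naturality_apply]
      change S.X₃.val.map _ ((S.g.val.app (op ⊤)).hom t) = _
      rw [ht]
      exact s''.2 _
  choose σ hσ using lift
  let q₃ : SheafOfModules.free ι₃ ⟶ S.X₂ :=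
    (SheafOfModules.freeHomEquiv _).symm (fun i => σ (SheafOfModules.freeHomEquiv _ p₃ i))
  have hq₃ : q₃ ≫ S.g = p₃ := by
    rw [SheafOfModules.freeHomEquiv_symm_comp]
    apply (SheafOfModules.freeHomEquiv _).injective
    rw [Equiv.apply_symm_apply]
    funext i
    exact hσ _
  have hq : Epi (q₃ ≫ S.g) := by rw [hq₃]; exact hp₃
  have hd : Epi (coprod.desc (p₁ ≫ S.f) q₃) := @epi_desc _ _ _ S hS _ _ p₁ q₃ hp₁ hq
  exact ⟨ι₁ ⊕ ι₃, (SheafOfModules.freeSumIso ι₁ ι₃).inv ≫ coprod.desc (p₁ ≫ S.f) q₃,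
    epi_comp _ _⟩

end Groth.Agent.S10945
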