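import Groth.Statements.S10946
import Groth.Agent.Lib.H59AffStratCoh2

set_option autoImplicit false
universe u
open CategoryTheory AlgebraicGeometry
open Coherent

namespace Groth.Agent.S10946

open CategoryTheory.Limits Groth.Agent.Lib.H59AffStratCoh in
/-- On a qcqs scheme, vanishing of cohomology above degree `n` for coherent modules implies the same
for quasi-coherent modules. -/
theorem subsingleton_HH_of_forall_isCoh {X : Scheme.{u}} [CompactSpace X] [QuasiSeparatedSpace X]
    (n : ℕ) (h : ∀ F : X.Modules, Coh.IsCoh F → ∀ i : ℕ, n < i → Subsingleton (Coh.HH X F i))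
    (G : X.Modules) (hG : Coh.IsQCoh G) (i : ℕ) (hi : n < i) :
    Subsingleton (Coh.HH X G i) := by
  obtain ⟨d, hd⟩ := exists_vanishing_bound_of_qcqs (X := X)
  suffices H : ∀ k : ℕ, ∀ G : X.Modules, Coh.IsQCoh G → ∀ p : ℕ, n < p → d ≤ p + k →
      Subsingleton (Coh.HH X G p) from H d G hG i hi (by omega)
  intro k
  induction k with
  | zero =>
    intro G hG p _ hpk
    exact hd G hG p (by omega)
  | succ k ih =>
    intro G hG p hp hpk
    haveI : G.IsQuasicoherent := hG
    obtain ⟨J, P, ι, -, hcoh, hepi⟩ := epi_sigma_subsheaves_mono G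
    haveI : ∀ j, (P j).IsQuasicoherent := fun j => (hcoh j).1
    haveI hsigq : (∐ P).IsQuasicoherent :=
      Groth.Agent.Lib.QCohBiprod.isQuasicoherent_sigmaObj P inferInstance
    have hKq : (kernel (Sigma.desc ι)).IsQuasicoherent :=
      Groth.Agent.Lib.H90OXModExact.isQuasicoherent_kernel (Sigma.desc ι)
    let S : ShortComplex X.Modules :=
      ShortComplex.mk (kernel.ι (Sigma.desc ι)) (Sigma.desc ι) (kernel.condition _)
    have hS : S.ShortExact :=
      { exact := ShortComplex.exact_kernel (Sigma.desc ι)
        mono_f := inferInstanceAs (Mono (kernel.ι (Sigma.desc ι)))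
        epi_g := hepi }
    haveI : Subsingleton (Coh.HH X S.X₂ p) :=
      Groth.Agent.Lib.CohSigmaNeg.subsingleton_HH_sigma_family P p fun j => h (P j) (hcoh j) p hp
    haveI : Subsingleton (Coh.HH X S.X₁ (p + 1)) :=
      ih (kernel (Sigma.desc ι)) hKq (p + 1) (by omega) (by omega)
    exact Groth.Agent.Lib.CohLES.subsingleton_right hS p

/-- Let X be a Noetherian separated scheme and n a natural number such that H^i(X, F) = 0 for all
coherent O_X-modules F and all i > n. Then H^i(X, G) = 0 for all quasi-coherent O_X-modules G and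
all i > n. -/
theorem result (X : Scheme.{u}) [IsNoetherian X]
    [X.IsSeparated] (n : ℕ)
    (h : ∀ F : X.Modules, Coh.IsCoh F → ∀ i : ℕ, n < i → Subsingleton (Coh.HH X F i))
    (G : X.Modules) (hG : Coh.IsQCoh G) (i : ℕ) (hi : n < i) :
    Subsingleton (Coh.HH X G i) :=
  subsingleton_HH_of_forall_isCoh n h G hG i hi

end Groth.Agent.S10946
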