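import Groth.Statements.S10947
import Groth.Agent.Lib.PullInverse
import Groth.Agent.Lib.CohVanAmple
import Groth.Agent.Lib.ProjSpaceFin
import Groth.Agent.Lib.H78PullAmple3
-- import your own Groth.Agent.* helpers here

set_option autoImplicit false
universe u
open CategoryTheory AlgebraicGeometry
open Coherent

namespace Groth.Agent.S10947

section aux

open CategoryTheory CategoryTheory.Limits AlgebraicGeometry

/-- An invertible module is finite locally free (of rank one). -/
theorem isFinLocFree_of_isInvertible {X : Scheme.{u}} {M : X.Modules} (hM : PicF.IsInvertible M) :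
    FlatMod.IsFinLocFree M := by
  intro x
  obtain ⟨U, hxU, ⟨e⟩⟩ := hM x
  exact ⟨U, 1, hxU, ⟨e ≪≫ (coproductUniqueIso (fun _ : Fin 1 => Coh.structureModule (↑U))).symm⟩⟩

end aux

/-- Let k be a field and X a quasi-projective scheme over k, given with an immersion ι : X → P^N_k into
a projective space. If n is a natural number with H^i(X, E) = 0 for all finite locally free
O_X-modules E and all i > n, then H^i(X, F) = 0 for all coherent O_X-modules F (quasi-coherent of
finite type) and all i > n. -/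
theorem result
    (k : Type u) [Field k] (N : ℕ) {X : Scheme.{u}} (ι : X ⟶ CohB1.ProjSpace N k) [IsImmersion ι]
    (n : ℕ) (h : ∀ E : X.Modules, FlatMod.IsFinLocFree E → ∀ i : ℕ, n < i → Subsingleton (Coh.HH X E i))
    (F : X.Modules) (hF : Coh.IsCoh F) (i : ℕ) (hi : n < i) :
    Subsingleton (Coh.HH X F i) := by
  classical
  let 𝒜 := CohB1.polyGrading N k
  haveI : IsNoetherian (Proj 𝒜) := Groth.Agent.Lib.GradedNoetherian.proj_isNoetherian 𝒜
  haveI : IsNoetherian (CohB1.ProjSpace N k) := inferInstanceAs (IsNoetherian (Proj 𝒜))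
  haveI : TopologicalSpace.NoetherianSpace X := ι.isEmbedding.isInducing.noetherianSpace
  haveI : QuasiCompact ι := quasiCompact_of_noetherianSpace_source ι
  haveI : IsLocallyNoetherian X := LocallyOfFiniteType.isLocallyNoetherian ι
  haveI : CompactSpace X := TopologicalSpace.NoetherianSpace.compactSpace X
  -- `ι^* O(1)` is ample
  have hq : ∀ W : (CohB1.ProjSpace N k).Opens, IsAffineOpen W →
      Scheme.IsQuasiAffine (ι ⁻¹ᵁ W : Scheme.{u}) := by
    intro W hW
    haveI : IsAffine (W : Scheme.{u}) := hW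
    haveI : TopologicalSpace.NoetherianSpace (ι ⁻¹ᵁ W : Scheme.{u}) :=
      (ι ⁻¹ᵁ W).ι.isEmbedding.isInducing.noetherianSpace
    haveI : CompactSpace (ι ⁻¹ᵁ W : Scheme.{u}) := TopologicalSpace.NoetherianSpace.compactSpace _
    exact Scheme.IsQuasiAffine.of_isImmersion (ι ∣_ W)
  have hAmple : CohB1.IsAmple ((Scheme.Modules.pullback ι).obj (Twist.twist 𝒜 1)) :=
    Groth.Agent.Lib.H78PullAmple.isAmple_pullback_of_quasiAffine ι hq
      (Groth.Agent.Lib.ProjSpaceFin.isAmple_twist_one N k)
  -- the inverse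
  obtain ⟨e₀⟩ := Groth.Agent.Lib.ProjSpaceFin.nonempty_invIso N k
  have hinv1 : PicF.IsInvertible (Twist.twist 𝒜 1) :=
    Groth.Agent.Lib.H4Twist.isInvertible_twistProjSpace N k 1
  have hinv2 : PicF.IsInvertible (Twist.twist 𝒜 (-1)) :=
    Groth.Agent.Lib.H4Twist.isInvertible_twistProjSpace N k (-1)
  obtain ⟨e⟩ := Groth.Agent.Lib.PullInverse.nonempty_pullback_inverse ι hinv1 hinv2 e₀
  have hL' : PicF.IsInvertible ((Scheme.Modules.pullback ι).obj (Twist.twist 𝒜 (-1))) :=
    Groth.Agent.Lib.CohVanAmple.isInvertible_of_inverse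
      (Groth.Agent.Lib.OXModTensor.braiding _ _ ≪≫ e) hAmple.1
  refine Groth.Agent.Lib.CohVanAmple.subsingleton_HH_of_ample hAmple e
    (Groth.Agent.Lib.H90Invertible.isCoh_of_isInvertible hL') n ⟨0, fun m _ j hj => ?_⟩ F hF i hi
  exact h _ (isFinLocFree_of_isInvertible
    (Groth.Agent.Lib.H78TensorGen.isInvertible_tensorPow hL' m)) j hj

end Groth.Agent.S10947
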