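import Groth.Statements.S10953
import Mathlib

set_option autoImplicit false
universe u
open CategoryTheory AlgebraicGeometry
open RedSep

namespace Groth.Agent.S10953

open Scheme Pullback Limits

set_option backward.defeqAttrib.useBackward true in
set_option backward.isDefEq.respectTransparency false in
/-- For a morphism of schemes f : X → S to an affine scheme S such that any two points of X with the
same image in S lie in one common affine open subset of X, the morphism f is separated. -/
theorem result {X S : Scheme.{u}} [IsAffine S] (f : X ⟶ S)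
    (h : ∀ x y : X, f x = f y → ∃ U : X.Opens, IsAffineOpen U ∧ x ∈ U ∧ y ∈ U) :
    IsSeparated f := by
  constructor
  let 𝒰 : S.OpenCover := Scheme.coverOfIsIso (𝟙 S)
  let 𝒱 (i) : (pullback f (𝒰.f i)).OpenCover :=
    Scheme.openCoverOfIsOpenCover (pullback f (𝒰.f i))
      (fun W : (pullback f (𝒰.f i)).affineOpens => W.1) (iSup_affineOpens_eq_top _)
  haveI : ∀ i, IsAffine (𝒰.X i) := fun i => (inferInstance : IsAffine S)
  haveI : ∀ i j, IsAffine ((𝒱 i).X j) := fun i j => j.2
  refine IsZariskiLocalAtTarget.of_iSup_eq_top (fun i : PUnit.{0} ↦ ⊤) (by simp) fun _ ↦ ?_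
  have key : diagonalCoverDiagonalRange f 𝒰 𝒱 = ⊤ := by
    rw [← top_le_iff]
    rintro x -
    simp only [diagonalCoverDiagonalRange, openCoverOfBase_I₀, openCoverOfBase_X,
      openCoverOfLeftRight_I₀, TopologicalSpace.Opens.iSup_mk, TopologicalSpace.Opens.carrier_eq_coe, Hom.coe_opensRange, TopologicalSpace.Opens.mem_mk,
      Set.mem_iUnion, Set.mem_range, Sigma.exists]
    have H : f (pullback.fst f f x) = f (pullback.snd f f x) := by
      rw [← Scheme.Hom.comp_apply, ← Scheme.Hom.comp_apply, pullback.condition]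
    obtain ⟨U, hU, hx1, hx2⟩ := h _ _ H
    let i : 𝒰.I₀ := PUnit.unit
    haveI : IsIso (𝒰.f i) := by dsimp [𝒰]; infer_instance
    let W : (pullback f (𝒰.f i)).Opens := (pullback.fst f (𝒰.f i)) ⁻¹ᵁ U
    have hW : IsAffineOpen W := hU.preimage_of_isIso _
    refine ⟨i, ⟨W, hW⟩, ?_⟩
    simp_rw [diagonalCover_map]
    change x ∈ Set.range _
    simp only [diagonalCover, openCoverOfBase_I₀,
      Precoverage.ZeroHypercover.pullback₁_toPreZeroHypercover, PreZeroHypercover.pullback₁_X,
      Precoverage.ZeroHypercover.bind_toPreZeroHypercover, openCoverOfBase_X,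
      PreZeroHypercover.bind_X, openCoverOfLeftRight_I₀, openCoverOfLeftRight_X]
    rw [range_map]
    have hr : ∀ p : X, p ∈ U → p ∈ Set.range ((𝒱 i).f ⟨W, hW⟩ ≫ pullback.fst f (𝒰.f i)) := by
      intro p hp
      obtain ⟨q, rfl⟩ := (inferInstance : Surjective (pullback.fst f (𝒰.f i))).surj p
      exact ⟨(⟨q, hp⟩ : W), rfl⟩
    exact ⟨hr _ hx1, hr _ hx2⟩
  rw [← key]
  exact isClosedImmersion_diagonal_restrict_diagonalCoverDiagonalRange f 𝒰 𝒱

end Groth.Agent.S10953
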