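import Groth.Statements.S10955
import Groth.Agent.Lib.SmoothTower
import Mathlib.RingTheory.Etale.Kaehler
import Mathlib.RingTheory.LocalRing.Module
import Mathlib.RingTheory.Smooth.Kaehler
import Mathlib.RingTheory.Smooth.Locus

set_option autoImplicit false
universe u
open scoped TensorProduct
open Unram

namespace Groth.Agent.S10955

open KaehlerDifferential TensorProduct

section compare

variable (A B C : Type u) [CommRing A] [CommRing B] [CommRing C] [Algebra A B] [Algebra B C]
  [Algebra A C] [IsScalarTower A B C]
variable (L : Type u) [CommRing L] [Algebra C L] [Algebra B L] [Algebra A L]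
  [IsScalarTower B C L] [IsScalarTower A C L] [IsScalarTower A B L]
variable (k : Type u) [CommRing k] [Algebra L k] [Algebra C k] [Algebra B k]
  [IsScalarTower C L k] [IsScalarTower B C k] [IsScalarTower B L k]

lemma map_map (ω : Ω[B⁄A]) :
    KaehlerDifferential.map A A C L (KaehlerDifferential.map A A B C ω) =
      KaehlerDifferential.map A A B L ω := by
  have hω : ω ∈ Submodule.span B (Set.range (D A B)) := by
    rw [KaehlerDifferential.span_range_derivation]; trivial
  induction hω using Submodule.span_induction with
  | mem x hx =>
    obtain ⟨b, rfl⟩ := hx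
    rw [KaehlerDifferential.map_D, KaehlerDifferential.map_D, KaehlerDifferential.map_D,
      ← IsScalarTower.algebraMap_apply]
  | zero => simp
  | add x y _ _ hx hy => rw [map_add, map_add, map_add, hx, hy]
  | smul b x _ hx =>
    rw [map_smul (KaehlerDifferential.map A A B C), LinearMap.map_smul_of_tower, hx, map_smul]

/-- source comparison -/
noncomputable def eS : k ⊗[C] (C ⊗[B] Ω[B⁄A]) ≃ₗ[k] k ⊗[L] (L ⊗[B] Ω[B⁄A]) :=
  (AlgebraTensorModule.cancelBaseChange B C k k Ω[B⁄A]).trans
    (AlgebraTensorModule.cancelBaseChange B L k k Ω[B⁄A]).symm

/-- target comparison -/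
noncomputable def eT [Algebra.FormallyEtale C L] : k ⊗[C] Ω[C⁄A] ≃ₗ[k] k ⊗[L] Ω[L⁄A] :=
  (AlgebraTensorModule.cancelBaseChange C L k k Ω[C⁄A]).symm.trans
    (AlgebraTensorModule.congr (LinearEquiv.refl k k)
      (KaehlerDifferential.tensorKaehlerEquivOfFormallyEtale A C L))

lemma comm_sq [Algebra.FormallyEtale C L] (z : k ⊗[C] (C ⊗[B] Ω[B⁄A])) :
    eT A C L k ((mapBaseChange A B C).lTensor k z) =
      (mapBaseChange A B L).lTensor k (eS A B C L k z) := by
  induction z using TensorProduct.induction_on with
  | zero => simp
  | add x y hx hy => rw [map_add, map_add, map_add, map_add, hx, hy]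
  | tmul x y =>
    induction y using TensorProduct.induction_on with
    | zero => simp
    | add y₁ y₂ h₁ h₂ => rw [tmul_add, map_add, map_add, map_add, map_add, h₁, h₂]
    | tmul c ω =>
      simp only [eT, eS, LinearMap.lTensor_tmul, mapBaseChange_tmul, LinearEquiv.trans_apply,
        AlgebraTensorModule.cancelBaseChange_tmul, AlgebraTensorModule.cancelBaseChange_symm_tmul,
        AlgebraTensorModule.congr_tmul, LinearEquiv.refl_apply,
        tensorKaehlerEquivOfFormallyEtale_apply, one_smul, map_smul]
      rw [map_map, algebra_compatible_smul L c, TensorProduct.tmul_smul,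
        TensorProduct.smul_tmul', algebraMap_smul]

theorem injective_iff [Algebra.FormallyEtale C L] :
    Function.Injective ((mapBaseChange A B L).lTensor k) ↔
      Function.Injective ((mapBaseChange A B C).lTensor k) := by
  have h : ⇑((mapBaseChange A B L).lTensor k) ∘ ⇑(eS A B C L k) =
      ⇑(eT A C L k) ∘ ⇑((mapBaseChange A B C).lTensor k) := by
    funext z
    exact (comm_sq A B C L k z).symm
  constructor
  · intro hL
    have : Function.Injective (⇑(eT A C L k) ∘ ⇑((mapBaseChange A B C).lTensor k)) := by
      rw [← h]
      exact hL.comp (eS A B C L k).injective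
    exact Function.Injective.of_comp this
  · intro hC
    have h2 : Function.Injective
        (⇑((mapBaseChange A B L).lTensor k) ∘ ⇑(eS A B C L k)) := by
      rw [h]
      exact (eT A C L k).injective.comp hC
    intro a b hab
    obtain ⟨a, rfl⟩ := (eS A B C L k).surjective a
    obtain ⟨b, rfl⟩ := (eS A B C L k).surjective b
    rw [h2 hab]

end compare

/-- Let A → B → C be ring homomorphisms with B and C finitely presented over A, let q be a prime ideal
of C and p its inverse image in B, and assume that C is smooth over A at q and that B is smooth over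
A at p. Then C is smooth over B at q if and only if the map obtained from the canonical map C ⊗_B
Ω_{B/A} → Ω_{C/A} by tensoring over C with the residue field k(q) is injective. -/
theorem result (A B C : Type u) [CommRing A] [CommRing B]
    [CommRing C] [Algebra A B] [Algebra B C] [Algebra A C] [IsScalarTower A B C]
    [Algebra.FinitePresentation A B] [Algebra.FinitePresentation A C] (q : Ideal C) [q.IsPrime]
    (hC : Algebra.IsSmoothAt A q) (hB : Algebra.IsSmoothAt A (q.under B)) :
    Algebra.IsSmoothAt B q ↔
      Function.Injective ((KaehlerDifferential.mapBaseChange A B C).lTensor q.ResidueField) := by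
  let L := Localization.AtPrime q
  have : Algebra.FormallySmooth A L := hC
  have : Algebra.FormallyEtale C L := Algebra.FormallyEtale.of_isLocalization q.primeCompl
  rw [← injective_iff A B C L q.ResidueField]
  change Algebra.FormallySmooth B L ↔ _
  rw [Groth.Agent.Lib.SmoothTower.formallySmooth_iff_split A B L]
  have : Algebra.EssFiniteType A L :=
    Algebra.EssFiniteType.comp A C L
  have : Module.Finite L Ω[L⁄A] := inferInstance
  have : Module.Projective L Ω[L⁄A] := inferInstance
  have : Module.Free L Ω[L⁄A] := Module.free_of_flat_of_isLocalRing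
  have : Module.Finite B Ω[B⁄A] := inferInstance
  have : Module.Finite L (L ⊗[B] Ω[B⁄A]) := inferInstance
  exact IsLocalRing.split_injective_iff_lTensor_residueField_injective (mapBaseChange A B L)

end Groth.Agent.S10955
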