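import Groth.Statements.S10956
import Mathlib.RingTheory.Kaehler.Basic
import Mathlib.RingTheory.TensorProduct.Basic

set_option autoImplicit false
universe u
open scoped TensorProduct
open CAlg

namespace Groth.Agent.S10956

section
variable (R A B : Type u) [CommRing R] [CommRing A] [CommRing B] [Algebra R A] [Algebra R B]

/-- the bilinear map `(a, b) ↦ (1 ⊗ b) ⊗ da`. -/
noncomputable def bil : A →ₗ[R] B →ₗ[R] ((A ⊗[R] B) ⊗[A] Ω[A⁄R]) :=
  LinearMap.mk₂ R (fun a b => ((1 : A) ⊗ₜ[R] b : A ⊗[R] B) ⊗ₜ[A] KaehlerDifferential.D R A a)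
    (fun a a' b => by rw [map_add, TensorProduct.tmul_add])
    (fun c a b => by rw [Derivation.map_smul, TensorProduct.tmul_smul])
    (fun a b b' => by rw [TensorProduct.tmul_add, TensorProduct.add_tmul])
    (fun c a b => by rw [TensorProduct.tmul_smul (R := R) c (1 : A) b, ← TensorProduct.smul_tmul'])

/-- The `R`-linear map underlying the derivation. -/
noncomputable def D₀ : (A ⊗[R] B) →ₗ[R] ((A ⊗[R] B) ⊗[A] Ω[A⁄R]) :=
  TensorProduct.lift (bil R A B)

lemma D₀_tmul (a : A) (b : B) :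
    D₀ R A B (a ⊗ₜ[R] b) = ((1 : A) ⊗ₜ[R] b : A ⊗[R] B) ⊗ₜ[A] KaehlerDifferential.D R A a := rfl

lemma D₀_leibniz (x y : A ⊗[R] B) : D₀ R A B (x * y) = x • D₀ R A B y + y • D₀ R A B x := by
  induction x using TensorProduct.induction_on with
  | zero => simp
  | add x x' hx hx' => rw [add_mul, map_add, hx, hx', add_smul, map_add, smul_add]; abel
  | tmul a b =>
    induction y using TensorProduct.induction_on with
    | zero => simp
    | add y y' hy hy' => rw [mul_add, map_add, hy, hy', add_smul, map_add, smul_add]; abel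
    | tmul a' b' =>
      rw [Algebra.TensorProduct.tmul_mul_tmul, D₀_tmul, D₀_tmul, D₀_tmul, Derivation.leibniz,
        TensorProduct.tmul_add, TensorProduct.smul_tmul', TensorProduct.smul_tmul',
        ← TensorProduct.smul_tmul, ← TensorProduct.smul_tmul]
      simp only [smul_eq_mul, Algebra.TensorProduct.tmul_mul_tmul, mul_one, TensorProduct.smul_tmul']
      rw [mul_comm b' b]

/-- The derivation `T → T ⊗[A] Ω[A/R]`. -/
noncomputable def der : Derivation R (A ⊗[R] B) ((A ⊗[R] B) ⊗[A] Ω[A⁄R]) :=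
  Derivation.mk' (D₀ R A B) (D₀_leibniz R A B)

lemma der_tmul (a : A) (b : B) :
    der R A B (a ⊗ₜ[R] b) = ((1 : A) ⊗ₜ[R] b : A ⊗[R] B) ⊗ₜ[A] KaehlerDifferential.D R A a := rfl

/-- the retraction -/
noncomputable def retr : Ω[(A ⊗[R] B)⁄R] →ₗ[A ⊗[R] B] ((A ⊗[R] B) ⊗[A] Ω[A⁄R]) :=
  (der R A B).liftKaehlerDifferential

lemma retr_D (x : A ⊗[R] B) : retr R A B (KaehlerDifferential.D R (A ⊗[R] B) x) = der R A B x :=
  Derivation.liftKaehlerDifferential_comp_D _ _

lemma retr_mapBaseChange (y : (A ⊗[R] B) ⊗[A] Ω[A⁄R]) :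
    retr R A B (KaehlerDifferential.mapBaseChange R A (A ⊗[R] B) y) = y := by
  induction y using TensorProduct.induction_on with
  | zero => simp
  | add y y' hy hy' => rw [map_add, map_add, hy, hy']
  | tmul t ω =>
    rw [KaehlerDifferential.mapBaseChange_tmul, map_smul]
    have : retr R A B (KaehlerDifferential.map R R A (A ⊗[R] B) ω) = (1 : A ⊗[R] B) ⊗ₜ[A] ω := by
      have hω : ω ∈ Submodule.span A (Set.range (KaehlerDifferential.D R A)) := by
        rw [KaehlerDifferential.span_range_derivation]; trivial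
      induction hω using Submodule.span_induction with
      | mem x hx =>
        obtain ⟨a, rfl⟩ := hx
        rw [KaehlerDifferential.map_D, retr_D]
        change der R A B (a ⊗ₜ[R] (1 : B)) = _
        rw [der_tmul]
        rfl
      | zero => simp
      | add x y _ _ hx hy => rw [map_add, map_add, hx, hy, TensorProduct.tmul_add]
      | smul a x _ hx =>
        rw [map_smul, ← algebraMap_smul (A ⊗[R] B) a, map_smul, hx, algebraMap_smul,
          TensorProduct.tmul_smul]
    rw [this, TensorProduct.smul_tmul', smul_eq_mul, mul_one]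

end

/-- Let R be a commutative ring, A and B commutative R-algebras and T = A ⊗_R B, an A-algebra through
the left factor. There is a T-linear map r from Ω_{T/R} to T ⊗_A Ω_{A/R} sending d(a ⊗ b) to (1 ⊗ b)
⊗ da for all a in A and b in B, and together with the canonical map Ω_{T/R} → Ω_{T/A} it identifies
Ω_{T/R} with the product (T ⊗_A Ω_{A/R}) × Ω_{T/A}. (The published statement is the isomorphism of
(Ω_{A/R} ⊗_R B) ⊕ (A ⊗_R Ω_{B/R}) with Ω_{T/R} matching the exterior differentials; it is stated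
here through the canonical identifications T ⊗_A Ω_{A/R} = Ω_{A/R} ⊗_R B and Ω_{T/A} = A ⊗_R
Ω_{B/R}.) -/
theorem result (R A B : Type u) [CommRing R] [CommRing A] [CommRing B]
    [Algebra R A] [Algebra R B] :
    ∃ r : Ω[(A ⊗[R] B)⁄R] →ₗ[A ⊗[R] B] ((A ⊗[R] B) ⊗[A] Ω[A⁄R]),
      (∀ (a : A) (b : B), r (KaehlerDifferential.D R (A ⊗[R] B) (a ⊗ₜ[R] b)) =
          ((1 : A) ⊗ₜ[R] b) ⊗ₜ[A] KaehlerDifferential.D R A a) ∧
        Function.Bijective (fun ω : Ω[(A ⊗[R] B)⁄R] =>
          (r ω, KaehlerDifferential.map R A (A ⊗[R] B) (A ⊗[R] B) ω)) := by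
  refine ⟨retr R A B, fun a b => by rw [retr_D, der_tmul], ?_, ?_⟩
  · intro ω ω' h
    have h1 : retr R A B ω = retr R A B ω' := congrArg Prod.fst h
    have h2 : KaehlerDifferential.map R A (A ⊗[R] B) (A ⊗[R] B) ω =
        KaehlerDifferential.map R A (A ⊗[R] B) (A ⊗[R] B) ω' := congrArg Prod.snd h
    have h3 : KaehlerDifferential.map R A (A ⊗[R] B) (A ⊗[R] B) (ω - ω') = 0 := by
      rw [map_sub, h2, sub_self]
    obtain ⟨y, hy⟩ := (KaehlerDifferential.exact_mapBaseChange_map R A (A ⊗[R] B) _).mp h3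
    have h4 : retr R A B (ω - ω') = y := by rw [← hy, retr_mapBaseChange]
    rw [map_sub, h1, sub_self] at h4
    rw [← h4, map_zero] at hy
    exact sub_eq_zero.mp hy.symm
  · rintro ⟨y, z⟩
    obtain ⟨ω₀, hω₀⟩ := KaehlerDifferential.map_surjective R A (A ⊗[R] B) z
    refine ⟨ω₀ + KaehlerDifferential.mapBaseChange R A (A ⊗[R] B) (y - retr R A B ω₀), ?_⟩
    have h0 : KaehlerDifferential.map R A (A ⊗[R] B) (A ⊗[R] B)
        (KaehlerDifferential.mapBaseChange R A (A ⊗[R] B) (y - retr R A B ω₀)) = 0 :=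
      (KaehlerDifferential.exact_mapBaseChange_map R A (A ⊗[R] B)).apply_apply_eq_zero _
    simp only [map_add, retr_mapBaseChange, h0, hω₀, add_zero]
    congr 1
    abel

end Groth.Agent.S10956
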