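import Groth.Statements.S10957
import Mathlib.RingTheory.DiscreteValuationRing.TFAE

set_option autoImplicit false
universe u
open CAlg

namespace Groth.Agent.S10957

/-- Let A be a Noetherian local integral domain that is normal (integrally closed in its field of
fractions). If there is a nonzero element a of A such that the maximal ideal of A is an associated
prime of the A-module A/(a), then A is a discrete valuation ring. (The other conditions listed in
the published result — normal of dimension one, maximal ideal nonzero principal, regular of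
dimension one — are the library's standard characterisations; this row records the criterion through
an associated prime.) -/
theorem result
    (A : Type u) [CommRing A] [IsDomain A] [IsNoetherianRing A] [IsLocalRing A] [IsIntegrallyClosed A]
    (a : A) (ha : a ≠ 0)
    (hass : IsLocalRing.maximalIdeal A ∈ associatedPrimes A (A ⧸ Ideal.span ({a} : Set A))) :
    IsDiscreteValuationRing A := by
  classical
  obtain ⟨_, x, hx⟩ := (isAssociatedPrime_iff (M := A ⧸ Ideal.span ({a} : Set A))).mp hass
  obtain ⟨b, rfl⟩ := Ideal.Quotient.mk_surjective x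
  have hmem : ∀ r : A, r ∈ IsLocalRing.maximalIdeal A ↔ r * b ∈ Ideal.span ({a} : Set A) := by
    intro r
    rw [hx, Submodule.mem_colon_singleton, Submodule.mem_bot, ← Ideal.Quotient.eq_zero_iff_mem]
    rfl
  have ha₁ : a ∈ IsLocalRing.maximalIdeal A := by
    rw [hmem]
    exact Ideal.mul_mem_right _ _ (Ideal.mem_span_singleton_self a)
  have hb₂ : b ∉ Ideal.span ({a} : Set A) := by
    intro hb
    have : (1 : A) ∈ IsLocalRing.maximalIdeal A := by
      rw [hmem, one_mul]
      exact hb
    exact (Ideal.ne_top_iff_one _).mp (IsLocalRing.maximalIdeal.isMaximal A).ne_top this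
  have hb₃ : ∀ m ∈ IsLocalRing.maximalIdeal A, ∃ k : A, k * a = b * m := by
    intro m hm
    rw [← Ideal.mem_span_singleton', mul_comm]
    exact (hmem m).mp hm
  have hb₄ : b ≠ 0 := by rintro rfl; apply hb₂; exact zero_mem _
  have hnf : ¬ IsField A := by
    rw [IsLocalRing.isField_iff_maximalIdeal_eq]
    intro h
    rw [h] at ha₁
    exact ha ha₁
  refine ((IsDiscreteValuationRing.TFAE A hnf).out 4 0).mp ?_
  let K := FractionRing A
  let y : K := algebraMap A K b / algebraMap A K a
  let M := Submodule.map (Algebra.linearMap A K) (IsLocalRing.maximalIdeal A)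
  have ha₃ : algebraMap A K a ≠ 0 := IsFractionRing.to_map_eq_zero_iff.not.mpr ha
  by_cases hy : ∀ z ∈ M, y * z ∈ M
  · have := isIntegral_of_smul_mem_submodule M ?_ ?_ y hy
    · obtain ⟨z, e⟩ := IsIntegrallyClosed.algebraMap_eq_of_integral this
      refine (hb₂ (Ideal.mem_span_singleton'.mpr ⟨z, ?_⟩)).elim
      apply IsFractionRing.injective A K
      rw [map_mul, e, div_mul_cancel₀ _ ha₃]
    · rw [Submodule.ne_bot_iff]; refine ⟨_, ⟨a, ha₁, rfl⟩, ?_⟩
      exact (IsFractionRing.to_map_eq_zero_iff (K := K)).not.mpr ha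
    · apply Submodule.FG.map; exact IsNoetherian.noetherian _
  · have :
        (M.map (DistribSMul.toLinearMap A K y)).comap (Algebra.linearMap A K) = ⊤ := by
      contrapose! hy with h
      rintro m' ⟨m, hm, rfl : algebraMap A K m = m'⟩
      obtain ⟨k, hk⟩ := hb₃ m hm
      have hk' : y * algebraMap A K m = algebraMap A K k := by
        rw [← mul_div_right_comm, ← map_mul, ← hk, map_mul, mul_div_cancel_right₀ _ ha₃]
      exact ⟨k, IsLocalRing.le_maximalIdeal h ⟨_, ⟨_, hm, rfl⟩, hk'⟩, hk'.symm⟩
    obtain ⟨z, hz₁, hz₂⟩ : ∃ z ∈ IsLocalRing.maximalIdeal A, b * z = a := by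
      rw [Ideal.eq_top_iff_one, Submodule.mem_comap] at this
      obtain ⟨_, ⟨z, hz, rfl⟩, hz' : y * algebraMap A K z = algebraMap A K 1⟩ := this
      rw [map_one, ← mul_div_right_comm, div_eq_one_iff_eq ha₃, ← map_mul] at hz'
      exact ⟨z, hz, IsFractionRing.injective A K hz'⟩
    refine ⟨⟨z, ?_⟩⟩
    apply le_antisymm
    · intro m hm; obtain ⟨k, hk⟩ := hb₃ m hm; rw [← hz₂, mul_comm, mul_assoc] at hk
      rw [← mul_left_cancel₀ hb₄ hk, mul_comm]; exact Ideal.mem_span_singleton'.mpr ⟨_, rfl⟩
    · rwa [Submodule.span_le, Set.singleton_subset_iff]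

end Groth.Agent.S10957
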