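import Groth.Statements.S10959
import Mathlib.AlgebraicGeometry.AlgClosed.Basic

set_option autoImplicit false
universe u
open CategoryTheory MonoidalCategory CartesianMonoidalCategory MonObj GrpObj AlgebraicGeometry
open AbVar

namespace Groth.Agent.S10959

section Grp

variable {C : Type*} [Category C] [CartesianMonoidalCategory C] {A : C}

/-- the constant map. -/
abbrev cst (z : 𝟙_ C ⟶ A) : A ⟶ A := toUnit A ≫ z

theorem comp_cst {B : C} (f : B ⟶ A) (z : 𝟙_ C ⟶ A) : f ≫ cst z = toUnit B ≫ z := by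
  rw [cst, ← Category.assoc]
  congr 1
  exact toUnit_unique _ _

theorem pt_comp_cst (x z : 𝟙_ C ⟶ A) : x ≫ cst z = z := by
  rw [comp_cst]
  have : toUnit (𝟙_ C) = 𝟙 _ := toUnit_unique _ _
  rw [this, Category.id_comp]

variable [GrpObj A]

theorem comp_cst_inv {B : C} (f : B ⟶ A) (z : 𝟙_ C ⟶ A) : f ≫ (cst z)⁻¹ = (toUnit B ≫ z)⁻¹ := by
  rw [GrpObj.comp_inv, comp_cst]

theorem pt_tau (z x : 𝟙_ C ⟶ A) : z ≫ (𝟙 A * cst x) = z * x := by
  rw [MonObj.comp_mul, Category.comp_id, pt_comp_cst]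

theorem pt_tau' (z x : 𝟙_ C ⟶ A) : z ≫ (𝟙 A * (cst x)⁻¹) = z * x⁻¹ := by
  rw [MonObj.comp_mul, Category.comp_id, GrpObj.comp_inv, pt_comp_cst]

theorem tau_tau' (x : 𝟙_ C ⟶ A) : (𝟙 A * cst x) ≫ (𝟙 A * (cst x)⁻¹) = 𝟙 A := by
  rw [MonObj.comp_mul, Category.comp_id, comp_cst_inv, mul_inv_cancel_right]

theorem tau'_tau (x : 𝟙_ C ⟶ A) : (𝟙 A * (cst x)⁻¹) ≫ (𝟙 A * cst x) = 𝟙 A := by
  rw [MonObj.comp_mul, Category.comp_id, comp_cst, inv_mul_cancel_right]

theorem pt_m1 (z x : 𝟙_ C ⟶ A) : x ≫ (cst z * 𝟙 A) = z * x := by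
  rw [MonObj.comp_mul, Category.comp_id, pt_comp_cst]

theorem pt_m2 (z x : 𝟙_ C ⟶ A) : x ≫ (cst z * (𝟙 A)⁻¹) = z * x⁻¹ := by
  rw [MonObj.comp_mul, GrpObj.comp_inv, Category.comp_id, pt_comp_cst]

theorem m1'_m1 (z : 𝟙_ C ⟶ A) : ((cst z)⁻¹ * 𝟙 A) ≫ (cst z * 𝟙 A) = 𝟙 A := by
  rw [MonObj.comp_mul, Category.comp_id, comp_cst, mul_inv_cancel_left]

theorem m2'_m2 (z : 𝟙_ C ⟶ A) : ((𝟙 A)⁻¹ * cst z) ≫ (cst z * (𝟙 A)⁻¹) = 𝟙 A := by
  rw [MonObj.comp_mul, GrpObj.comp_inv, Category.comp_id, comp_cst, _root_.mul_inv_rev, _root_.inv_inv,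
    mul_inv_cancel_left]

end Grp

/-- surjectivity on points from a right inverse -/
theorem surj_of_comp_eq_id {K : Type u} [Field K] {A : Over (Spec (CommRingCat.of K))}
    (m' m : A ⟶ A) (h : m' ≫ m = 𝟙 A) : Function.Surjective m.left.base := by
  intro a
  refine ⟨m'.left.base a, ?_⟩
  have := congrArg (fun f : A ⟶ A => f.left.base a) h
  simpa using this


/-- Let K be an algebraically closed field and A an abelian variety over K (a group scheme over Spec K
with proper smooth structure morphism and irreducible underlying space). Let Z be a closed subset of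
A which is not all of A, and z a K-valued point of A. Then there is a K-valued point x of A such
that the point underlying z lies neither in the translate of Z by x nor in the translate of Z by the
inverse of x; here the translation by x is the morphism A → A given on points by a ↦ a·x, the
product of the identity and the constant map x in the group of morphisms into A. (The published
statement takes Z to be the support of an effective divisor; this row allows any closed subset other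
than A.) -/
theorem result
    (K : Type u) [Field K] [IsAlgClosed K] (A : Over (Spec (CommRingCat.of K)))
    [GrpObj A] [IsProper A.hom] [Smooth A.hom] [IrreducibleSpace A.left]
    (Z : Set A.left) (hZ : IsClosed Z) (hZne : Z ≠ Set.univ)
    (z : 𝟙_ (Over (Spec (CommRingCat.of K))) ⟶ A) :
    ∃ x : 𝟙_ (Over (Spec (CommRingCat.of K))) ⟶ A,
      Disjoint (Set.range z.left.base)
        ((𝟙 A * (toUnit A ≫ x)).left.base '' Z ∪ (𝟙 A * (toUnit A ≫ x)⁻¹).left.base '' Z) := by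
  classical
  haveI : LocallyOfFiniteType A.hom := inferInstance
  haveI : JacobsonSpace A.left := LocallyOfFiniteType.jacobsonSpace A.hom
  set m₁ : A ⟶ A := cst z * 𝟙 A with hm₁
  set m₂ : A ⟶ A := cst z * (𝟙 A)⁻¹ with hm₂
  have hs₁ : Function.Surjective m₁.left.base := surj_of_comp_eq_id _ _ (m1'_m1 z)
  have hs₂ : Function.Surjective m₂.left.base := surj_of_comp_eq_id _ _ (m2'_m2 z)
  obtain ⟨c, hc⟩ : ∃ c, c ∉ Z := by
    by_contra hcon
    exact hZne (Set.eq_univ_of_forall fun c => by_contra fun hc => hcon ⟨c, hc⟩)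
  have ho₁ : IsOpen (m₁.left.base ⁻¹' Z)ᶜ := (hZ.preimage m₁.left.continuous).isOpen_compl
  have ho₂ : IsOpen (m₂.left.base ⁻¹' Z)ᶜ := (hZ.preimage m₂.left.continuous).isOpen_compl
  have hn₁ : ((m₁.left.base ⁻¹' Z)ᶜ).Nonempty := by
    obtain ⟨b, hb⟩ := hs₁ c
    exact ⟨b, fun hbZ => hc (hb ▸ hbZ)⟩
  have hn₂ : ((m₂.left.base ⁻¹' Z)ᶜ).Nonempty := by
    obtain ⟨b, hb⟩ := hs₂ c
    exact ⟨b, fun hbZ => hc (hb ▸ hbZ)⟩
  have hne := nonempty_preirreducible_inter ho₁ ho₂ hn₁ hn₂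
  obtain ⟨a, ⟨ha₁, ha₂⟩, hacl⟩ := nonempty_inter_closedPoints hne (ho₁.inter ho₂).isLocallyClosed
  let x₀ : Spec (CommRingCat.of K) ⟶ A.left := pointOfClosedPoint A.hom a hacl
  have hx₀ : x₀ ≫ A.hom = 𝟙 _ := pointOfClosedPoint_comp A.hom a hacl
  have hx₀a : ∀ y, x₀ y = a := fun y => pointOfClosedPoint_apply A.hom a hacl y
  let x : 𝟙_ (Over (Spec (CommRingCat.of K))) ⟶ A := Over.homMk x₀ (by simpa using hx₀)
  have hxa : ∀ y, x.left.base y = a := hx₀a
  refine ⟨x, ?_⟩
  rw [Set.disjoint_left]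
  rintro _ ⟨y, rfl⟩ hmem
  rcases hmem with ⟨c', hc'Z, hc'⟩ | ⟨c', hc'Z, hc'⟩
  · -- z y = τ_x c'
    have h1 : c' = (𝟙 A * (cst x)⁻¹).left.base (z.left.base y) := by
      rw [← hc']
      have := congrArg (fun f : A ⟶ A => f.left.base c') (tau_tau' x)
      simpa using this.symm
    have h2 : (𝟙 A * (cst x)⁻¹).left.base (z.left.base y) = m₂.left.base a := by
      have e1 : z ≫ (𝟙 A * (cst x)⁻¹) = x ≫ m₂ := by rw [pt_tau', hm₂, pt_m2]
      have := congrArg (fun f : 𝟙_ (Over (Spec (CommRingCat.of K))) ⟶ A => f.left.base y) e1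
      simpa [hxa] using this
    exact ha₂ (by rw [Set.mem_preimage, ← h2, ← h1]; exact hc'Z)
  · have h1 : c' = (𝟙 A * cst x).left.base (z.left.base y) := by
      rw [← hc']
      have := congrArg (fun f : A ⟶ A => f.left.base c') (tau'_tau x)
      simpa using this.symm
    have h2 : (𝟙 A * cst x).left.base (z.left.base y) = m₁.left.base a := by
      have e1 : z ≫ (𝟙 A * cst x) = x ≫ m₁ := by rw [pt_tau, hm₁, pt_m1]
      have := congrArg (fun f : 𝟙_ (Over (Spec (CommRingCat.of K))) ⟶ A => f.left.base y) e1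
      simpa [hxa] using this
    exact ha₁ (by rw [Set.mem_preimage, ← h2, ← h1]; exact hc'Z)

end Groth.Agent.S10959
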