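import Groth.Statements.S10962
import Groth.Agent.Lib.H4Horrocks2
import Groth.Agent.Lib.H4TwistAdjoin
import Groth.Agent.Lib.FinGlobGen
import Groth.Agent.Lib.ProjSpaceFin
import Groth.Agent.Lib.TwistEquiv
-- import your own Groth.Agent.* helpers here

set_option autoImplicit false
universe u
open CategoryTheory CategoryTheory.Limits AlgebraicGeometry TopologicalSpace
open SDiv

namespace Groth.Agent.S10962

open Groth.Agent.Lib.OXModTensor in
/-- `O(d)^{⊗ m} ≅ O(d m)` on `P^n_R` -/
theorem nonempty_powIso (n : ℕ) (R : Type u) [CommRing R] (d : ℤ) (m : ℕ) :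
    Nonempty (CohB1.tensorPow (Twist.twistProjSpace n R d) m ≅ Twist.twistProjSpace n R (d * m)) := by
  induction m with
  | zero =>
    obtain ⟨e⟩ := Groth.Agent.Lib.H4Twist.nonempty_twistZeroIso (CohB1.polyGrading n R)
    exact ⟨e.symm ≪≫ eqToIso (by
      show Twist.twist (CohB1.polyGrading n R) 0 = Twist.twist (CohB1.polyGrading n R) (d * ((0 : ℕ) : ℤ))
      congr 1; simp)⟩
  | succ m ih =>
    obtain ⟨e⟩ := ih
    exact ⟨tensorModIso e (Iso.refl _) ≪≫
      Groth.Agent.Lib.H4Twist.twistMulIso_of_cover (CohB1.polyGrading n R)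
        (Groth.Agent.Lib.ProjSpaceFin.hcov n R) (d * m) d ≪≫
      eqToIso (by
        show Twist.twist (CohB1.polyGrading n R) (d * m + d) =
          Twist.twist (CohB1.polyGrading n R) (d * ((m + 1 : ℕ) : ℤ))
        congr 1; push_cast; ring)⟩

/-- Let R be a nonzero ring and n ≥ 1, and let X be projective n-space over R. For an integer d, the
Serre twist O_X(d) is ample if and only if d > 0. (Ample is taken in the sense that X is
quasi-compact and covered by the affine open non-vanishing loci X_s of global sections s of positive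
tensor powers; for the quasi-compact separated scheme X this agrees with the definition through
finitely many generating sections with quasi-affine non-vanishing loci. The published remark also
asserts that O_X(d) is very ample relative to R for d > 0; that clause is not part of this row.) -/
theorem result (R : Type u) [CommRing R] [Nontrivial R] (n : ℕ) (hn : 1 ≤ n) (d : ℤ) :
    CohB1.IsAmple (Twist.twistProjSpace n R d) ↔ 0 < d := by
  classical
  have hc : CompactSpace (CohB1.ProjSpace n R) := (Groth.Agent.Lib.ProjSpaceFin.isAmple_twist_one n R).2.1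
  constructor
  · intro hL
    by_contra hd
    have hd' : d ≤ 0 := by omega
    have hF : Coh.IsCoh (Twist.twistProjSpace n R (-1)) :=
      Groth.Agent.Lib.H90Invertible.isCoh_of_isInvertible
        (Groth.Agent.Lib.H4Twist.isInvertible_twistProjSpace n R (-1))
    obtain ⟨m₀, h⟩ := Groth.Agent.Lib.FinGlobGen.exists_finite_epi_twist hL _ hF
    obtain ⟨K, _, p, hp⟩ := h m₀ le_rfl
    obtain ⟨e1⟩ := nonempty_powIso n R d m₀
    have e2 : CohB1.tensorMod (Twist.twistProjSpace n R (-1)) (CohB1.tensorPow (Twist.twistProjSpace n R d) m₀) ≅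
        Twist.twistProjSpace n R (-1 + d * m₀) :=
      Groth.Agent.Lib.OXModTensor.tensorModIso (Iso.refl _) e1 ≪≫
        Groth.Agent.Lib.H4Twist.twistMulIso_of_cover (CohB1.polyGrading n R)
          (Groth.Agent.Lib.ProjSpaceFin.hcov n R) (-1) (d * m₀)
    have hneg : -1 + d * (m₀ : ℤ) < 0 := by nlinarith [Int.natCast_nonneg m₀]
    have h0 : Subsingleton (Coh.HH (CohB1.ProjSpace n R) (Twist.twistProjSpace n R (-1 + d * m₀)) 0) :=
      Groth.Agent.Lib.H4Twist.subsingleton_HH_zero_of_neg n R hn _ hneg
    have h0' := @Groth.Agent.Lib.H4Twist.subsingleton_HH_of_iso _ _ _ e2 0 h0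
    have hz : IsZero (CohB1.tensorMod (Twist.twistProjSpace n R (-1))
        (CohB1.tensorPow (Twist.twistProjSpace n R d) m₀)) :=
      Groth.Agent.Lib.H4Horrocks.isZero_of_globGen_of_subsingleton ⟨K, p, hp⟩ h0'
    have hz2 : IsZero (Twist.twistProjSpace n R (-1 + d * m₀)) := hz.of_iso e2.symm
    -- then `O(0)` is zero, but `H^0(O(0)) = R`
    have hz3 : IsZero ((Groth.Agent.Lib.TwistEquiv.tensorRightFunctor
        (Twist.twistProjSpace n R (-(-1 + d * m₀)))).obj (Twist.twistProjSpace n R (-1 + d * m₀))) :=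
      Functor.map_isZero _ hz2
    have e3 : (Groth.Agent.Lib.TwistEquiv.tensorRightFunctor
        (Twist.twistProjSpace n R (-(-1 + d * m₀)))).obj (Twist.twistProjSpace n R (-1 + d * m₀)) ≅
        Twist.twistProjSpace n R ((0 : ℕ) : ℤ) :=
      eqToIso (Groth.Agent.Lib.TwistEquiv.tensorRightFunctor_obj _ _) ≪≫
        Groth.Agent.Lib.H4Twist.twistMulIso_of_cover (CohB1.polyGrading n R)
          (Groth.Agent.Lib.ProjSpaceFin.hcov n R) _ _ ≪≫
        eqToIso (by
          show Twist.twist (CohB1.polyGrading n R) _ = Twist.twist (CohB1.polyGrading n R) _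
          congr 1; push_cast; ring)
    have hz4 : IsZero (Twist.twistProjSpace n R ((0 : ℕ) : ℤ)) := hz3.of_iso e3.symm
    have hs := Groth.Agent.Lib.HHSigmaFin.subsingleton_HH_of_isZero hz4 0
    have hs' := (Groth.Agent.Lib.H4Twist.gammaLinearEquiv n R 0).symm.toEquiv.subsingleton
    have h10 : (⟨1, MvPolynomial.isHomogeneous_one _ _⟩ :
        MvPolynomial.homogeneousSubmodule (Fin (n + 1)) R 0) = 0 := Subsingleton.elim _ _
    have := congrArg Subtype.val h10
    simp at this
  · intro hd
    obtain ⟨e, rfl⟩ : ∃ e : ℕ, d = e := ⟨d.toNat, by omega⟩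
    have he : 0 < e := by omega
    have := @Groth.Agent.Lib.H4Twist.isAmple_twist_of_cover_deg _ _ _ _ _ (CohB1.polyGrading n R) _ e he ?_ hc
    · exact this
    · intro x
      obtain ⟨i, hi⟩ := Groth.Agent.Lib.H4Twist.exists_X_notMem (n := n) (R := R) x
      refine ⟨MvPolynomial.X i ^ e, ?_, fun hx => hi (x.isPrime.mem_of_pow_mem _ hx)⟩
      have := (MvPolynomial.isHomogeneous_X R i).pow e
      simpa using this

end Groth.Agent.S10962
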