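import Groth.Statements.S10964
import Groth.Agent.Lib.ModIsoGlueH3

set_option autoImplicit false
universe u
open CategoryTheory AlgebraicGeometry TopologicalSpace Opposite
open PicF

namespace Groth.Agent.S10964

open Groth.Agent.Lib.H90Invertible Groth.Agent.Lib.H78TensorGen Groth.Agent.Lib.H78SecCoord Groth.Agent.Lib.H78Atlas

/-- Let X be a scheme with an open cover (U_i)_{i ∈ ι}. Let L and L' be O_X-modules with sections s_i of
L and s'_i of L' over U_i that generate there (for every open V ⊆ U_i, r ↦ r · s_i|_V is a bijection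
from functions on V onto sections of L over V, and likewise for s'_i), and let η_ij, η'_ij be the
functions on U_i ∩ U_j with s_i = η_ij · s_j and s'_i = η'_ij · s'_j there. Then L and L' are
isomorphic as O_X-modules if and only if there is a family of units u_i of the rings of functions on
the U_i with η'_ij · u_i|_{U_i ∩ U_j} = u_j|_{U_i ∩ U_j} · η_ij for all i, j. (So two invertible
modules trivialised by the cover are isomorphic exactly when their transition cocycles define the
same Čech cohomology class.) -/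
theorem result (X : Scheme.{u}) {ι : Type u} (U : ι → X.Opens)
    (hU : iSup U = ⊤) (L L' : X.Modules) (s : ∀ i : ι, Γ(L, U i)) (s' : ∀ i : ι, Γ(L', U i))
    (hs : ∀ (i : ι) (V : X.Opens) (h : V ≤ U i),
        Function.Bijective (fun r : Γ(X, V) => r • L.presheaf.map (homOfLE h).op (s i)))
    (hs' : ∀ (i : ι) (V : X.Opens) (h : V ≤ U i),
        Function.Bijective (fun r : Γ(X, V) => r • L'.presheaf.map (homOfLE h).op (s' i)))
    (η η' : ∀ i j : ι, Γ(X, U i ⊓ U j))
    (hη : ∀ i j : ι, L.presheaf.map (homOfLE (inf_le_left : U i ⊓ U j ≤ U i)).op (s i) =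
        η i j • L.presheaf.map (homOfLE (inf_le_right : U i ⊓ U j ≤ U j)).op (s j))
    (hη' : ∀ i j : ι, L'.presheaf.map (homOfLE (inf_le_left : U i ⊓ U j ≤ U i)).op (s' i) =
        η' i j • L'.presheaf.map (homOfLE (inf_le_right : U i ⊓ U j ≤ U j)).op (s' j)) :
    Nonempty (L ≅ L') ↔ ∃ u : ∀ i : ι, (Γ(X, U i))ˣ, ∀ i j : ι,
      η' i j * X.presheaf.map (homOfLE (inf_le_left : U i ⊓ U j ≤ U i)).op (u i : Γ(X, U i)) =
        X.presheaf.map (homOfLE (inf_le_right : U i ⊓ U j ≤ U j)).op (u j : Γ(X, U j)) * η i j := by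
  have hg : ∀ i, IsGen L (U i) (s i) := hs
  have hg' : ∀ i, IsGen L' (U i) (s' i) := hs'
  constructor
  · rintro ⟨φ⟩
    -- u i = coordinate of φ (s i) w.r.t. s' i
    let a : ∀ i, Γ(X, U i) := fun i => coord (hg' i) le_rfl (φ.hom.app (U i) (s i))
    let b : ∀ i, Γ(X, U i) := fun i => coord (hg i) le_rfl (φ.inv.app (U i) (s' i))
    have ha : ∀ i, a i • s' i = φ.hom.app (U i) (s i) := fun i => by
      have := coord_spec (hg' i) le_rfl (φ.hom.app (U i) (s i))
      rwa [rs_self] at this
    have hb : ∀ i, b i • s i = φ.inv.app (U i) (s' i) := fun i => by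
      have := coord_spec (hg i) le_rfl (φ.inv.app (U i) (s' i))
      rwa [rs_self] at this
    have hab : ∀ i, a i * b i = 1 := fun i => by
      have h1 : (a i * b i) • rs L le_rfl (s i) = (1 : Γ(X, U i)) • rs L le_rfl (s i) := by
        rw [rs_self, one_smul, mul_smul, hb]
        have : φ.inv.app (U i) (a i • s' i) = s i := by
          rw [ha]
          change (φ.hom ≫ φ.inv).app (U i) (s i) = s i
          rw [Iso.hom_inv_id]; rfl
        rw [← this, Scheme.Modules.Hom.app_smul]
      exact (hg i (U i) le_rfl).1 h1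
    refine ⟨fun i => ⟨a i, b i, hab i, (mul_comm _ _).trans (hab i)⟩, fun i j => ?_⟩
    change η' i j * rf inf_le_left (a i) = rf inf_le_right (a j) * η i j
    -- compare φ (s i |) in two ways
    have e1 : φ.hom.app (U i ⊓ U j) (rs L inf_le_left (s i)) =
        (rf inf_le_left (a i) * η' i j) • rs L' (inf_le_right : U i ⊓ U j ≤ U j) (s' j) := by
      rw [app_rs, ← ha, rs_smul, mul_smul]
      congr 1
      exact hη' i j
    have e2 : φ.hom.app (U i ⊓ U j) (rs L inf_le_left (s i)) =
        (η i j * rf inf_le_right (a j)) • rs L' (inf_le_right : U i ⊓ U j ≤ U j) (s' j) := by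
      have : rs L (inf_le_left : U i ⊓ U j ≤ U i) (s i) = η i j • rs L inf_le_right (s j) := hη i j
      rw [this, Scheme.Modules.Hom.app_smul, app_rs, ← ha, rs_smul, mul_smul]
    have := (hg' j (U i ⊓ U j) inf_le_right).1 (e1.symm.trans e2)
    rw [mul_comm, this, mul_comm]
  · rintro ⟨u, hu⟩
    -- new generators of L'
    let t : ∀ i, Γ(L', U i) := fun i => (u i : Γ(X, U i)) • s' i
    have ht : ∀ i, IsGen L' (U i) (t i) := fun i =>
      (isGen_smul_iff (hg' i) (u i : Γ(X, U i))).2 (u i).isUnit
    have hsw : ∀ i j, U i ⊓ U j ≤ U j ⊓ U i := fun i j => le_of_eq (inf_comm _ _)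
    obtain ⟨φ, -⟩ := Groth.Agent.Lib.ModIsoGlueH3.exists_iso_of_atlas (L' := L) (L := L') (U := U)
      (t := s) hg (e := t) ht (g := fun i j => rf (hsw i j) (η j i))
      (fun i j => by
        have h := congrArg (rs L (hsw i j)) (hη j i)
        rw [rs_rs, rs_smul, rs_rs] at h
        exact h)
      (fun i j => by
        -- t j | = η j i • t i |
        have h' := congrArg (rs L' (hsw i j)) (hη' j i)
        rw [rs_rs, rs_smul, rs_rs] at h'
        have hu' : rf (hsw i j) (η' j i) * rf (inf_le_right : U i ⊓ U j ≤ U j) (u j : Γ(X, U j)) =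
            rf (inf_le_left : U i ⊓ U j ≤ U i) (u i : Γ(X, U i)) * rf (hsw i j) (η j i) := by
          have h0 := congrArg (rf (hsw i j)) (hu j i)
          have e1 : rf (hsw i j) (η' j i * rf inf_le_left (u j : Γ(X, U j))) =
              rf (hsw i j) (η' j i) * rf (hsw i j) (rf inf_le_left (u j : Γ(X, U j))) := map_mul _ _ _
          have e2 : rf (hsw i j) (rf inf_le_right (u i : Γ(X, U i)) * η j i) =
              rf (hsw i j) (rf inf_le_right (u i : Γ(X, U i))) * rf (hsw i j) (η j i) := map_mul _ _ _
          rw [rf_rf] at e1 e2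
          exact e1.symm.trans (h0.trans e2)
        change rs L' inf_le_right ((u j : Γ(X, U j)) • s' j) =
          rf (hsw i j) (η j i) • rs L' inf_le_left ((u i : Γ(X, U i)) • s' i)
        rw [rs_smul, rs_smul, h', ← mul_smul, ← mul_smul]
        congr 1
        rw [mul_comm] at hu'
        rw [hu', mul_comm])
      hU
    exact ⟨φ⟩

end Groth.Agent.S10964
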