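import Groth.Statements.S10967
import Groth.Agent.Lib.QuasiAffineDescent

set_option autoImplicit false
universe u
open CategoryTheory AlgebraicGeometry TopologicalSpace
open MoreMor

namespace Groth.Agent.S10967

/-- Quasi-affine over an affine base: call a morphism f : X → Y quasi-affine when Y has a cover by
affine opens V_i whose preimages f⁻¹(V_i) are quasi-affine schemes (quasi-compact open subschemes of
affine schemes; equivalently quasi-compact with X → Spec Γ(X, O_X) an immersion). If Y is affine and
f is quasi-affine in this sense, then X is a quasi-affine scheme. -/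
theorem result {X Y : Scheme.{u}} [IsAffine Y]
    (f : X ⟶ Y) {ι : Type u} (V : ι → Y.Opens) (hV : iSup V = ⊤) (hVa : ∀ i, IsAffineOpen (V i))
    (hq : ∀ i, Scheme.IsQuasiAffine (↑(f ⁻¹ᵁ V i) : Scheme.{u})) :
    X.IsQuasiAffine := by
  classical
  have hmem : ∀ y : Y, ∃ i, y ∈ V i := fun y => by
    have : y ∈ (iSup V : Y.Opens) := hV ▸ trivial
    simpa using this
  obtain ⟨t, ht⟩ := (isCompact_univ (X := Y)).elim_finite_subcover (fun i => (V i : Set Y))
    (fun i => (V i).2) (fun y _ => Set.mem_iUnion.mpr (hmem y))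
  have hcov : ∀ y : Y, ∃ i : t, y ∈ V i := fun y => by
    obtain ⟨i, hi, hy⟩ := Set.mem_iUnion₂.mp (ht (Set.mem_univ y))
    exact ⟨⟨i, hi⟩, hy⟩
  choose idx hidx using hcov
  let 𝒱 : Y.AffineCover.{u} @Flat :=
    { I₀ := t
      X := fun i => Γ(Y, V i)
      f := fun i => (hVa i).fromSpec
      idx := idx
      covers := fun y => by
        rw [IsAffineOpen.range_fromSpec]
        exact hidx y
      map_prop := fun i => inferInstance }
  have hfin : Finite 𝒱.I₀ := inferInstanceAs (Finite t)
  have : CompactSpace X := by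
    rw [← isCompact_univ_iff]
    have hu : (Set.univ : Set X) = ⋃ i ∈ t, ((f ⁻¹ᵁ V i : X.Opens) : Set X) := by
      refine (Set.eq_univ_of_forall fun x => ?_).symm
      obtain ⟨i, hi⟩ := idx (f x), hidx (f x)
      exact Set.mem_iUnion₂.mpr ⟨i.1, i.2, hi⟩
    rw [hu]
    refine t.isCompact_biUnion fun i _ => ?_
    have := (hq i).toCompactSpace
    exact isCompact_iff_compactSpace.mpr this
  refine Groth.Agent.Lib.QuasiAffineDescent.isQuasiAffine_of_affineCover f 𝒱 fun k => ?_
  have := hq k
  refine Groth.Agent.Lib.IndQuasiAffine.isQuasiAffine_of_opensRange_eq (CategoryTheory.Limits.pullback.fst f (𝒱.f k))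
    (f ⁻¹ᵁ V k) ?_
  rw [Scheme.Hom.opensRange_pullbackFst]
  congr 1
  exact (hVa k).opensRange_fromSpec

end Groth.Agent.S10967
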