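import Groth.Statements.S10973
import Groth.Agent.Lib.H40FunFldPlace
-- import your own Groth.Agent.* helpers here

set_option autoImplicit false
open FunFld

namespace Groth.Agent.S10973

/-- Two nonzero elements of a function field of one variable with the same principal divisor differ by a
constant multiple. -/
theorem result (k K : Type*) [Field k] [Field K] [Algebra k K]
    (hK : FunFld.IsFunctionField k K) (x y : K) (hx : x ≠ 0) (hy : y ≠ 0)
    (h : ∀ P : FunFld.Place k K, P.ord x = P.ord y) : ∃ c : k, x = c • y := by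
  by_cases hz : x / y ∈ Set.range (algebraMap k K)
  · obtain ⟨c, hc⟩ := hz
    refine ⟨c, ?_⟩
    rw [Algebra.smul_def, hc, div_mul_cancel₀ _ hy]
  · exfalso
    obtain ⟨⟨P, hP⟩, -⟩ := Groth.Agent.Lib.H40FunFld.exists_zero_and_exists_pole hK (x / y) hz
    have h1 := h P
    have hx0 : P.1 x ≠ 0 := (Valuation.ne_zero_iff _).2 hx
    have hy0 : P.1 y ≠ 0 := (Valuation.ne_zero_iff _).2 hy
    simp only [FunFld.Place.ord] at h1 hP
    rw [map_div₀, WithZero.log_div hx0 hy0] at hP
    omega

end Groth.Agent.S10973
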