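import Groth.Statements.S10978
import Groth.Agent.Lib.H40FunFldPlace
-- import your own Groth.Agent.* helpers here

set_option autoImplicit false
open FunFld

namespace Groth.Agent.S10978

/-- In a function field of one variable the elements without poles are the constants, `L(0) = k`. -/
theorem result (k K : Type*) [Field k] [Field K] [Algebra k K]
    (hK : FunFld.IsFunctionField k K) : FunFld.L (0 : FunFld.Divisor k K) = 1 := by
  ext x
  rw [Submodule.mem_one]
  change (∀ P : FunFld.Place k K, P.1 x ≤ WithZero.exp ((0 : FunFld.Divisor k K) P)) ↔ _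
  constructor
  · intro hx
    by_contra hne
    have hne' : x ∉ Set.range (algebraMap k K) := hne
    obtain ⟨-, ⟨Q, hQ⟩⟩ := Groth.Agent.Lib.H40FunFld.exists_zero_and_exists_pole hK x hne'
    have hx0 : x ≠ 0 := fun h => hne' ⟨0, by rw [map_zero, h]⟩
    have h0 : Q.1 x ≠ 0 := (Valuation.ne_zero_iff _).2 hx0
    have h1 := hx Q
    rw [Finsupp.zero_apply, ← WithZero.log_le_iff_le_exp h0] at h1
    simp only [FunFld.Place.ord] at hQ
    omega
  · rintro ⟨c, rfl⟩ P
    rw [Finsupp.zero_apply, WithZero.exp_zero]
    exact P.2.1 c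

end Groth.Agent.S10978
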