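import Groth.Statements.S11000
import Mathlib

set_option autoImplicit false
universe u v
open FunFld

namespace Groth.Agent.S11000

open Polynomial IntermediateField

section
variable {k : Type*} {K : Type*} [Field k] [Field K] [Algebra k K]

/-- If `k` is algebraically closed in `K`, monic irreducible polynomials over `k` stay irreducible over `K`. -/
theorem irreducible_map_of_algClosedIn (hcl : ∀ y : K, IsAlgebraic k y → y ∈ Set.range (algebraMap k K))
    {f : k[X]} (hf : f.Monic) (hirr : Irreducible f) : Irreducible (f.map (algebraMap k K)) := by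
  have hf1 : f ≠ 1 := fun h => hirr.not_isUnit (h ▸ isUnit_one)
  have hfK : (f.map (algebraMap k K)).Monic := hf.map _
  have hfK1 : f.map (algebraMap k K) ≠ 1 := by
    intro h
    apply hf1
    apply Polynomial.map_injective _ (algebraMap k K).injective
    rw [h, Polynomial.map_one]
  rw [hfK.irreducible_iff_lt_natDegree_lt hfK1]
  intro q hq hdeg hdvd
  have hlift := integralClosure.mem_lifts_of_monic_of_dvd_map K hf hq hdvd
  -- q lifts to k[X]
  have hlift' : q ∈ lifts (algebraMap k K) := by
    rw [lifts_iff_coeff_lifts] at hlift ⊢
    intro n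
    obtain ⟨⟨y, hy⟩, hyq⟩ := hlift n
    obtain ⟨c, hc⟩ := hcl y hy.isAlgebraic
    exact ⟨c, hc.trans hyq⟩
  obtain ⟨q', hq'map, hq'deg, hq'mon⟩ := lifts_and_natDegree_eq_and_monic hlift' hq
  have hdvd' : q' ∣ f := by
    rw [← hq'map] at hdvd
    exact (Polynomial.map_dvd_map' (algebraMap k K)).mp hdvd
  have := (hf.irreducible_iff_lt_natDegree_lt hf1).mp hirr q' hq'mon
  rw [natDegree_map] at hdeg
  rw [hq'deg] at this
  exact this hdeg hdvd'

/-- If `k` is algebraically closed in `K` and `k'/k` is a simple algebraic extension, `K ⊗ k'` is a field. -/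
theorem isField_tensor_of_primitive (hcl : ∀ y : K, IsAlgebraic k y → y ∈ Set.range (algebraMap k K))
    (k' : Type*) [Field k'] [Algebra k k'] [FiniteDimensional k k'] (α : k')
    (hα : Algebra.adjoin k {α} = ⊤) : IsField (TensorProduct k K k') := by
  set β : TensorProduct k K k' := (1 : K) ⊗ₜ[k] α with hβ
  have hint : IsIntegral k α := Algebra.IsIntegral.isIntegral α
  have htop : Algebra.adjoin K {β} = ⊤ := by
    have := Algebra.TensorProduct.adjoin_one_tmul_image_eq_top (A := K) ({α} : Set k') hα
    simpa using this
  have hβint : IsIntegral K β := Algebra.IsIntegral.isIntegral β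
  have hroot : aeval β ((minpoly k α).map (algebraMap k K)) = 0 := by
    rw [aeval_map_algebraMap]
    have h1 : β = Algebra.TensorProduct.includeRight (R := k) (A := K) (B := k') α := rfl
    rw [h1, aeval_algHom_apply, minpoly.aeval, map_zero]
  have hdvd : minpoly K β ∣ (minpoly k α).map (algebraMap k K) := minpoly.dvd K β hroot
  have hirr : Irreducible ((minpoly k α).map (algebraMap k K)) :=
    irreducible_map_of_algClosedIn hcl (minpoly.monic hint) (minpoly.irreducible hint)
  have hirr' : Irreducible (minpoly K β) := by
    obtain ⟨c, hc⟩ := hdvd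
    rcases hirr.isUnit_or_isUnit hc with h | h
    · exact absurd h (minpoly.not_isUnit K β)
    · have : Associated (minpoly K β) ((minpoly k α).map (algebraMap k K)) :=
        ⟨h.unit, by rw [hc]; rfl⟩
      exact this.symm.irreducible hirr
  have : Fact (Irreducible (minpoly K β)) := ⟨hirr'⟩
  have hF : IsField (AdjoinRoot (minpoly K β)) := Field.toIsField _
  have e1 := AlgEquiv.adjoinSingletonEquivAdjoinRootMinpoly K β
  have hF2 : IsField (Algebra.adjoin K {β}) := e1.toMulEquiv.isField hF
  rw [htop] at hF2
  exact (Subalgebra.topEquiv (R := K) (A := TensorProduct k K k')).symm.toMulEquiv.isField hF2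

end


/-- Over a perfect ground field every function field of one variable is geometric (`k' ⊗_k K` is a field
for all finite `k'/k`). -/
theorem result (k : Type u) (K : Type v) [Field k] [Field K] [Algebra k K] [PerfectField k]
    (hK : FunFld.IsFunctionField k K) : FunFld.IsGeometric k K := by
  intro k' _ _ hfin
  have : Algebra.IsSeparable k k' := Algebra.IsAlgebraic.isSeparable_of_perfectField
  obtain ⟨α, hα⟩ := Field.exists_primitive_element k k'
  have hα' : Algebra.adjoin k {α} = ⊤ := by
    rw [← IntermediateField.adjoin_simple_toSubalgebra_of_isAlgebraic (Algebra.IsAlgebraic.isAlgebraic α),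
      hα, IntermediateField.top_toSubalgebra]
  have h1 := isField_tensor_of_primitive hK.2 k' α hα'
  exact (Algebra.TensorProduct.comm k k' K).toMulEquiv.isField h1

end Groth.Agent.S11000
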