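import Groth.Statements.S11003
import Groth.Agent.S11005
import Mathlib.FieldTheory.SeparablyGenerated
import Mathlib.FieldTheory.SplittingField.Construction
import Mathlib.RingTheory.Flat.Basic
import Mathlib.RingTheory.Etale.Kaehler
import Mathlib.RingTheory.Etale.Field
import Mathlib.RingTheory.Kaehler.Polynomial
import Mathlib.FieldTheory.RatFunc.AsPolynomial

set_option autoImplicit false
universe u v
open FunFld

namespace Groth.Agent.S11003

open FunFld TensorProduct Polynomial

/-- p-th roots of finitely many elements exist in a finite extension. -/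
theorem exists_finite_ext_roots (k : Type u) [Field k] (p : ℕ) (hp : 0 < p) {ι : Type*} [Fintype ι] (c : ι → k) :
    ∃ (k' : Type u) (_ : Field k') (_ : Algebra k k'), FiniteDimensional k k' ∧
      ∀ i, ∃ d : k', d ^ p = algebraMap k k' (c i) := by
  classical
  let f : k[X] := ∏ i, (X ^ p - C (c i))
  refine ⟨f.SplittingField, inferInstance, inferInstance, inferInstance, fun i => ?_⟩
  have hsplit : (f.map (algebraMap k f.SplittingField)).Splits := SplittingField.splits f
  have hdvd : (X ^ p - C (c i)) ∣ f := Finset.dvd_prod_of_mem _ (Finset.mem_univ i)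
  have hne : f ≠ 0 := by
    rw [Finset.prod_ne_zero_iff]
    intro j _
    exact X_pow_sub_C_ne_zero hp _
  have h1 : ((X ^ p - C (c i)).map (algebraMap k f.SplittingField)).Splits :=
    hsplit.of_dvd (Polynomial.map_ne_zero hne) (Polynomial.map_dvd _ hdvd)
  have hdeg : ((X ^ p - C (c i)).map (algebraMap k f.SplittingField)).degree ≠ 0 := by
    rw [Polynomial.degree_map, degree_X_pow_sub_C hp]
    exact_mod_cast hp.ne'
  obtain ⟨d, hd⟩ := h1.exists_eval_eq_zero hdeg
  refine ⟨d, ?_⟩
  simpa [sub_eq_zero] using hd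


/-- geometric ⇒ p-independence criterion. -/
theorem linearIndepOn_pow {k : Type u} {K : Type v} [Field k] [Field K] [Algebra k K]
    (hg : IsGeometric k K) (p : ℕ) (hp : p.Prime) [CharP k p] (s : Finset K)
    (hs : LinearIndepOn k _root_.id (s : Set K)) : LinearIndepOn k (· ^ p) (s : Set K) := by
  classical
  haveI : Fact p.Prime := ⟨hp⟩
  rw [LinearIndepOn, Fintype.linearIndependent_iff]
  intro g hg0
  obtain ⟨k', _, _, hfin, hroots⟩ := exists_finite_ext_roots k p hp.pos g
  choose d hd using hroots
  have hT : IsField (k' ⊗[k] K) := hg k' hfin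
  letI := hT.toField
  haveI : CharP (k' ⊗[k] K) p := charP_of_injective_algebraMap (algebraMap k (k' ⊗[k] K)).injective p
  set t : k' ⊗[k] K := ∑ i : (s : Set K), d i ⊗ₜ[k] (i : K) with ht
  have htp : t ^ p = 0 := by
    rw [ht, sum_pow_char]
    have : ∀ i : (s : Set K), (d i ⊗ₜ[k] (i : K)) ^ p = (1 : k') ⊗ₜ[k] (g i • (i : K) ^ p) := by
      intro i
      rw [Algebra.TensorProduct.tmul_pow, hd i, Algebra.algebraMap_eq_smul_one, TensorProduct.smul_tmul]
    simp_rw [this]
    rw [← TensorProduct.tmul_sum, hg0, TensorProduct.tmul_zero]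
  have ht0 : t = 0 := pow_eq_zero_iff (hp.ne_zero) |>.mp htp
  have hli : LinearIndependent k' (fun i : (s : Set K) => (1 : k') ⊗ₜ[k] (i : K)) :=
    Module.Flat.linearIndependent_one_tmul (S := k') hs
  rw [Fintype.linearIndependent_iff] at hli
  have hd0 : ∀ i, d i = 0 := by
    apply hli
    rw [← ht0, ht]
    refine Finset.sum_congr rfl (fun i _ => ?_)
    rw [TensorProduct.smul_tmul', smul_eq_mul, mul_one]
  intro i
  have := hd i
  rw [hd0 i, zero_pow hp.ne_zero] at this
  exact (map_eq_zero (algebraMap k k')).mp this.symm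


open IntermediateField in
/-- A geometric function field has a separating element. -/
theorem exists_separating {k : Type u} {K : Type v} [Field k] [Field K] [Algebra k K]
    (hK : IsFunctionField k K) (hg : IsGeometric k K) :
    ∃ y : K, Transcendental k y ∧ Algebra.IsSeparable (adjoin k ({y} : Set K)) K := by
  classical
  haveI := Groth.Agent.S11005.essFiniteType hK
  obtain ⟨s, hs, hsep⟩ : ∃ s : Finset K, IsTranscendenceBasis k ((↑) : s → K) ∧
      Algebra.IsSeparable (adjoin k (s : Set K)) K := by
    obtain _ | ⟨p, hp, hpk⟩ := CharP.exists' k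
    · exact exists_isTranscendenceBasis_and_isSeparable_of_perfectField k K
    · haveI : ExpChar k p := .prime hp.out
      exact exists_isTranscendenceBasis_and_isSeparable_of_linearIndepOn_pow_of_essFiniteType
        p hp.out (fun s hs => linearIndepOn_pow hg p hp.out s hs)
  obtain ⟨⟨x₀, hx₀, hfin⟩, _⟩ := id hK
  have hind : AlgebraicIndependent k (fun _ : PUnit.{v+1} => x₀) :=
    algebraicIndependent_unique_type_iff.mpr hx₀
  have hb : IsTranscendenceBasis k (fun _ : PUnit.{v+1} => x₀) :=
    hind.isTranscendenceBasis_of_trdeg_le_of_finite (by simpa using Groth.Agent.S11005.trdeg_le_one hK)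
  have hcard1 : s.card = 1 := by
    have h1 := hs.cardinalMk_eq_trdeg
    have h2 := hb.cardinalMk_eq_trdeg
    rw [← h2] at h1
    simpa using h1
  obtain ⟨y, rfl⟩ := Finset.card_eq_one.mp hcard1
  refine ⟨y, ?_, ?_⟩
  · have := hs.1.transcendental ⟨y, by simp⟩
    exact this
  · have h := Finset.coe_singleton y
    rw [h] at hsep
    exact hsep


open IntermediateField in
/-- Kähler differentials of a separably generated function field of one variable. -/
theorem finrank_kaehler_of_separating {k : Type u} {K : Type v} [Field k] [Field K] [Algebra k K]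
    (y : K) (hy : Transcendental k y) [hsep : Algebra.IsSeparable (adjoin k ({y} : Set K)) K] :
    Module.finrank K (KaehlerDifferential k K) = 1 := by
  letI algK : Algebra k[X] K := (aeval y).toRingHom.toAlgebra
  haveI tow1 : IsScalarTower k k[X] K := IsScalarTower.of_algebraMap_eq (fun c => by
    simp [RingHom.algebraMap_toAlgebra])
  letI algF : Algebra k[X] k⟮y⟯ := (aeval (AdjoinSimple.gen k y)).toRingHom.toAlgebra
  haveI tow2 : IsScalarTower k[X] k⟮y⟯ K := IsScalarTower.of_algebraMap_eq (fun P => by
    simp [RingHom.algebraMap_toAlgebra, aeval_algebraMap_apply])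
  let e : RatFunc k ≃ₐ[k[X]] k⟮y⟯ := AlgEquiv.ofRingEquiv (f := (RatFunc.algEquivOfTranscendental y hy).toRingEquiv)
    (fun P => by simp [RingHom.algebraMap_toAlgebra])
  haveI : IsFractionRing k[X] k⟮y⟯ := IsLocalization.isLocalization_of_algEquiv (nonZeroDivisors k[X]) e
  haveI : Algebra.FormallyEtale k[X] k⟮y⟯ := Algebra.FormallyEtale.of_isLocalization (nonZeroDivisors k[X])
  haveI : Algebra.FormallyEtale k⟮y⟯ K := Algebra.FormallyEtale.of_isSeparable k⟮y⟯ K
  haveI : Algebra.FormallyEtale k[X] K := Algebra.FormallyEtale.comp k[X] k⟮y⟯ K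
  let e1 : K ⊗[k[X]] Ω[k[X]⁄k] ≃ₗ[K] Ω[K⁄k] := KaehlerDifferential.tensorKaehlerEquivOfFormallyEtale k k[X] K
  let e2 : K ⊗[k[X]] Ω[k[X]⁄k] ≃ₗ[K] K ⊗[k[X]] k[X] :=
    LinearEquiv.baseChange k[X] K _ _ (KaehlerDifferential.polynomialEquiv k)
  let e3 : K ⊗[k[X]] k[X] ≃ₗ[K] K := TensorProduct.AlgebraTensorModule.rid k[X] K K
  rw [(e1.symm.trans (e2.trans e3)).finrank_eq, Module.finrank_self]


/-- `dim_K Ω_{K/k} = 1` for a geometric function field of one variable `K/k`. -/
theorem result (k : Type u) (K : Type v) [Field k] [Field K] [Algebra k K]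
    (hK : FunFld.IsFunctionField k K) (hg : FunFld.IsGeometric k K) :
    Module.finrank K (KaehlerDifferential k K) = 1 := by
  obtain ⟨y, hy, hsep⟩ := exists_separating hK hg
  exact finrank_kaehler_of_separating y hy

end Groth.Agent.S11003
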