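import Groth.Statements.S11001
import Groth.Agent.S11003
import Mathlib.FieldTheory.KummerPolynomial
import Mathlib.FieldTheory.PurelyInseparable.PerfectClosure

set_option autoImplicit false
universe u v
open FunFld

namespace Groth.Agent.S11001

open FunFld TensorProduct Polynomial IntermediateField

variable {k : Type u} {K : Type v} [Field k] [Field K] [Algebra k K]

/-- For a separating element `y`, `Ω[K/k] ≅ K` with `dy ↦ 1`. -/
theorem exists_equiv_of_separating (y : K) (hy : Transcendental k y)
    [hsep : Algebra.IsSeparable (adjoin k ({y} : Set K)) K] :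
    ∃ e : Ω[K⁄k] ≃ₗ[K] K, e (KaehlerDifferential.D k K y) = 1 := by
  letI algK : Algebra k[X] K := (aeval y).toRingHom.toAlgebra
  haveI tow1 : IsScalarTower k k[X] K := IsScalarTower.of_algebraMap_eq (fun c => by
    simp [RingHom.algebraMap_toAlgebra])
  letI algF : Algebra k[X] k⟮y⟯ := (aeval (AdjoinSimple.gen k y)).toRingHom.toAlgebra
  haveI tow2 : IsScalarTower k[X] k⟮y⟯ K := IsScalarTower.of_algebraMap_eq (fun P => by
    simp [RingHom.algebraMap_toAlgebra])
  let e : RatFunc k ≃ₐ[k[X]] k⟮y⟯ := AlgEquiv.ofRingEquiv (f := (RatFunc.algEquivOfTranscendental y hy).toRingEquiv)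
    (fun P => by simp [RingHom.algebraMap_toAlgebra])
  haveI : IsFractionRing k[X] k⟮y⟯ := IsLocalization.isLocalization_of_algEquiv (nonZeroDivisors k[X]) e
  haveI : Algebra.FormallyEtale k[X] k⟮y⟯ := Algebra.FormallyEtale.of_isLocalization (nonZeroDivisors k[X])
  haveI : Algebra.FormallyEtale k⟮y⟯ K := Algebra.FormallyEtale.of_isSeparable k⟮y⟯ K
  haveI : Algebra.FormallyEtale k[X] K := Algebra.FormallyEtale.comp k[X] k⟮y⟯ K
  let e1 : K ⊗[k[X]] Ω[k[X]⁄k] ≃ₗ[K] Ω[K⁄k] := KaehlerDifferential.tensorKaehlerEquivOfFormallyEtale k k[X] K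
  let e2 : K ⊗[k[X]] Ω[k[X]⁄k] ≃ₗ[K] K ⊗[k[X]] k[X] :=
    LinearEquiv.baseChange k[X] K _ _ (KaehlerDifferential.polynomialEquiv k)
  let e3 : K ⊗[k[X]] k[X] ≃ₗ[K] K := TensorProduct.AlgebraTensorModule.rid k[X] K K
  refine ⟨e1.symm.trans (e2.trans e3), ?_⟩
  have hy' : y = algebraMap k[X] K X := by simp [RingHom.algebraMap_toAlgebra]
  rw [hy']
  simp only [LinearEquiv.trans_apply, e1, KaehlerDifferential.tensorKaehlerEquivOfFormallyEtale_symm_D_algebraMap]
  simp [e2, e3, KaehlerDifferential.polynomialEquiv_D]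

theorem D_ne_zero_of_separating (y : K) (hy : Transcendental k y)
    [hsep : Algebra.IsSeparable (adjoin k ({y} : Set K)) K] : KaehlerDifferential.D k K y ≠ 0 := by
  obtain ⟨e, he⟩ := exists_equiv_of_separating y hy
  intro h
  rw [h, map_zero] at he
  exact zero_ne_one he

/-- `d` vanishes on `kK^p`. -/
theorem D_eq_zero_of_mem (p : ℕ) [Fact p.Prime] [CharP K p] {x : K}
    (hx : x ∈ adjoin k (Set.range fun y : K => y ^ p)) : KaehlerDifferential.D k K x = 0 := by
  induction hx using IntermediateField.adjoin_induction with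
  | mem x hx =>
    obtain ⟨z, rfl⟩ := hx
    simp only
    rw [Derivation.leibniz_pow, ← Nat.cast_smul_eq_nsmul K, CharP.cast_eq_zero K p, zero_smul]
  | algebraMap c => exact Derivation.map_algebraMap _ c
  | add x y _ _ hx hy => rw [map_add, hx, hy, add_zero]
  | inv x _ hx =>
    by_cases h0 : x = 0
    · rw [h0, inv_zero, map_zero]
    · have h1 : KaehlerDifferential.D k K (x * x⁻¹) = 0 := by
        rw [mul_inv_cancel₀ h0]; exact Derivation.map_one_eq_zero _
      rw [Derivation.leibniz, hx, smul_zero, add_zero] at h1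
      exact (smul_eq_zero.mp h1).resolve_left h0
  | mul x y _ _ hx hy => rw [Derivation.leibniz, hx, hy, smul_zero, smul_zero, add_zero]


/-- `K = kK^p(y)` for a separating element `y`. -/
theorem adjoin_eq_top (p : ℕ) [hp : Fact p.Prime] [CharP K p] (y : K)
    [hsep : Algebra.IsSeparable (adjoin k ({y} : Set K)) K] :
    adjoin (adjoin k (Set.range fun z : K => z ^ p)) ({y} : Set K) = ⊤ := by
  set L := adjoin k (Set.range fun z : K => z ^ p) with hL
  set M := adjoin L ({y} : Set K) with hM
  have hle : ∀ x : K, x ∈ k⟮y⟯ → x ∈ M := by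
    intro x hx
    have h1 : k⟮y⟯ ≤ M.restrictScalars k := by
      rw [adjoin_le_iff]
      rintro _ rfl
      exact subset_adjoin L _ rfl
    exact h1 hx
  let f : k⟮y⟯ →+* M :=
    { toFun := fun x => ⟨x.1, hle x.1 x.2⟩
      map_one' := rfl
      map_mul' := fun _ _ => rfl
      map_zero' := rfl
      map_add' := fun _ _ => rfl }
  letI : Algebra k⟮y⟯ M := f.toAlgebra
  haveI : IsScalarTower k⟮y⟯ M K := IsScalarTower.of_algebraMap_eq (fun _ => rfl)
  haveI : CharP M p := (Algebra.charP_iff M K p).mpr inferInstance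
  haveI : ExpChar M p := ExpChar.prime hp.out
  rw [eq_top_iff]
  intro z _
  have h1 : z ∈ separableClosure M K := by
    rw [mem_separableClosure_iff]
    exact IsSeparable.tower_top M (Algebra.IsSeparable.isSeparable k⟮y⟯ z)
  have h2 : z ∈ perfectClosure M K := by
    rw [mem_perfectClosure_iff_pow_mem p]
    refine ⟨1, ⟨⟨z ^ p, ?_⟩, by simp⟩⟩
    have : z ^ p ∈ L := subset_adjoin k _ ⟨z, rfl⟩
    exact (IntermediateField.algebraMap_mem M (⟨z ^ p, this⟩ : L))
  have h3 : z ∈ separableClosure M K ⊓ perfectClosure M K := ⟨h1, h2⟩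
  rw [separableClosure_inf_perfectClosure, IntermediateField.mem_bot] at h3
  obtain ⟨m, rfl⟩ := h3
  exact m.2


theorem finrank_eq (p : ℕ) [hp : Fact p.Prime] [CharP K p] (y : K) (hy : Transcendental k y)
    [hsep : Algebra.IsSeparable (adjoin k ({y} : Set K)) K] :
    Module.finrank (adjoin k (Set.range fun z : K => z ^ p)) K = p := by
  set L := adjoin k (Set.range fun z : K => z ^ p) with hL
  have hmem : y ^ p ∈ L := subset_adjoin k _ ⟨y, rfl⟩
  set a : L := ⟨y ^ p, hmem⟩ with ha
  have hirr : Irreducible (X ^ p - C a : L[X]) := by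
    apply X_pow_sub_C_irreducible_of_prime hp.out
    intro b hb
    have h1 : (b : K) ^ p = y ^ p := by
      have := congrArg (algebraMap L K) hb
      simpa using this
    have h2 : ((b : K) - y) ^ p = 0 := by rw [sub_pow_char, h1, sub_self]
    have h3 : (b : K) = y := sub_eq_zero.mp (pow_eq_zero_iff hp.out.ne_zero |>.mp h2)
    have h4 : y ∈ L := h3 ▸ b.2
    exact D_ne_zero_of_separating y hy (D_eq_zero_of_mem p h4)
  have hroot : aeval y (X ^ p - C a : L[X]) = 0 := by
    simp [ha]
  have hmonic : (X ^ p - C a : L[X]).Monic := monic_X_pow_sub_C a hp.out.ne_zero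
  have hmin : minpoly L y = X ^ p - C a := (minpoly.eq_of_irreducible_of_monic hirr hroot hmonic).symm
  have hint : IsIntegral L y := ⟨_, hmonic, hroot⟩
  have h1 := IntermediateField.adjoin.finrank hint
  rw [hmin, natDegree_X_pow_sub_C, adjoin_eq_top p y, IntermediateField.finrank_top'] at h1
  exact h1


/-- For a geometric function field of one variable `K/k` of characteristic `p > 0`, `[K : kK^p] = p`. -/
theorem result (k : Type u) (K : Type v) [Field k] [Field K] [Algebra k K] (p : ℕ) [Fact p.Prime] [CharP K p]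
    (hK : FunFld.IsFunctionField k K) (hg : FunFld.IsGeometric k K) :
    Module.finrank (IntermediateField.adjoin k (Set.range fun y : K => y ^ p)) K = p := by
  obtain ⟨y, hy, hsep⟩ := Groth.Agent.S11003.exists_separating hK hg
  exact finrank_eq p y hy

end Groth.Agent.S11001
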