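import Groth.Statements.S11002
import Groth.Agent.S11001
import Mathlib.RingTheory.Unramified.Field

set_option autoImplicit false
universe u v
open FunFld

namespace Groth.Agent.S11002

open FunFld TensorProduct Polynomial IntermediateField

variable {k : Type u} {K : Type v} [Field k] [Field K] [Algebra k K]

/-- If `d` vanishes on `L` then on `L(x)` all differentials are multiples of `dx`. -/
theorem exists_smul_D_of_mem_adjoin (L : IntermediateField k K)
    (hL : ∀ l ∈ L, KaehlerDifferential.D k K l = 0) (x : K) {z : K}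
    (hz : z ∈ adjoin L ({x} : Set K)) :
    ∃ c : K, KaehlerDifferential.D k K z = c • KaehlerDifferential.D k K x := by
  induction hz using IntermediateField.adjoin_induction with
  | mem z hz =>
    rw [Set.mem_singleton_iff] at hz
    exact ⟨1, by rw [hz, one_smul]⟩
  | algebraMap l => exact ⟨0, by rw [zero_smul]; exact hL l.1 l.2⟩
  | add a b _ _ ha hb =>
    obtain ⟨c₁, h₁⟩ := ha
    obtain ⟨c₂, h₂⟩ := hb
    exact ⟨c₁ + c₂, by rw [map_add, h₁, h₂, add_smul]⟩
  | inv a _ ha =>
    obtain ⟨c, hc⟩ := ha
    by_cases h0 : a = 0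
    · exact ⟨0, by rw [h0, inv_zero, map_zero, zero_smul]⟩
    · have h1 : KaehlerDifferential.D k K (a * a⁻¹) = 0 := by
        rw [mul_inv_cancel₀ h0]; exact Derivation.map_one_eq_zero _
      rw [Derivation.leibniz, hc] at h1
      refine ⟨-(a⁻¹ * a⁻¹ * c), ?_⟩
      have h2 : a • KaehlerDifferential.D k K a⁻¹ = -(a⁻¹ • c • KaehlerDifferential.D k K x) :=
        eq_neg_of_add_eq_zero_left h1
      have h3 := congrArg (fun t => a⁻¹ • t) h2
      simp only [smul_smul, inv_mul_cancel₀ h0, one_smul, smul_neg] at h3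
      rw [h3, neg_smul, mul_assoc]
  | mul a b _ _ ha hb =>
    obtain ⟨c₁, h₁⟩ := ha
    obtain ⟨c₂, h₂⟩ := hb
    exact ⟨a * c₂ + b * c₁, by rw [Derivation.leibniz, h₁, h₂, add_smul, mul_smul, mul_smul]⟩


/-- In a geometric function field of one variable of characteristic `p > 0`, `x ∈ kK^p` iff `dx = 0` in
`Ω_{K/k}` iff `x` is not a separating variable (`K/k(x)` not separable algebraic). -/
theorem result (k : Type u) (K : Type v) [Field k] [Field K] [Algebra k K] (p : ℕ) [Fact p.Prime] [CharP K p]
    (hK : FunFld.IsFunctionField k K) (hg : FunFld.IsGeometric k K) (x : K) :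
    (x ∈ IntermediateField.adjoin k (Set.range fun y : K => y ^ p) ↔ KaehlerDifferential.D k K x = 0) ∧
    (x ∈ IntermediateField.adjoin k (Set.range fun y : K => y ^ p) ↔
      ¬ Algebra.IsSeparable (IntermediateField.adjoin k ({x} : Set K)) K) := by
  obtain ⟨y, hy, hsep⟩ := Groth.Agent.S11003.exists_separating hK hg
  set L := IntermediateField.adjoin k (Set.range fun y : K => y ^ p) with hLdef
  have hp : p.Prime := Fact.out
  have hfin : Module.finrank L K = p := Groth.Agent.S11001.finrank_eq p y hy
  have hDy : KaehlerDifferential.D k K y ≠ 0 := Groth.Agent.S11001.D_ne_zero_of_separating y hy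
  have hL0 : ∀ l ∈ L, KaehlerDifferential.D k K l = 0 := fun l hl => Groth.Agent.S11001.D_eq_zero_of_mem p hl
  -- (a)
  have ha : x ∈ L ↔ KaehlerDifferential.D k K x = 0 := by
    refine ⟨hL0 x, fun hx => ?_⟩
    by_contra hxL
    haveI : IsSimpleOrder (IntermediateField L K) :=
      IntermediateField.isSimpleOrder_of_finrank_prime L K (hfin ▸ hp)
    have htop : adjoin L ({x} : Set K) = ⊤ := by
      rcases eq_bot_or_eq_top (adjoin L ({x} : Set K)) with h | h
      · exfalso
        have : x ∈ adjoin L ({x} : Set K) := mem_adjoin_simple_self L x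
        rw [h, IntermediateField.mem_bot] at this
        obtain ⟨l, rfl⟩ := this
        exact hxL l.2
      · exact h
    have hymem : y ∈ adjoin L ({x} : Set K) := by rw [htop]; trivial
    obtain ⟨c, hc⟩ := exists_smul_D_of_mem_adjoin L hL0 x hymem
    rw [hx, smul_zero] at hc
    exact hDy hc
  refine ⟨ha, ?_⟩
  obtain ⟨⟨x₀, hx₀, hfin₀⟩, halg⟩ := id hK
  constructor
  · -- x ∈ L ⇒ not separable
    intro hxL hsepx
    have hDx := ha.mp hxL
    by_cases hxt : Transcendental k x
    · exact Groth.Agent.S11001.D_ne_zero_of_separating x hxt hDx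
    · rw [Transcendental, not_not] at hxt
      haveI : Algebra.IsAlgebraic k k⟮x⟯ := IntermediateField.isAlgebraic_adjoin_simple hxt.isIntegral
      haveI : Algebra.IsAlgebraic k⟮x⟯ K := inferInstance
      have : Algebra.IsAlgebraic k K := Algebra.IsAlgebraic.trans k k⟮x⟯ K
      exact hx₀ (Algebra.IsAlgebraic.isAlgebraic x₀)
  · -- x ∉ L ⇒ separable
    intro hns
    by_contra hxL
    apply hns
    have hDx : KaehlerDifferential.D k K x ≠ 0 := fun h => hxL (ha.mpr h)
    have hxt : Transcendental k x := by
      intro hxa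
      obtain ⟨c, rfl⟩ := halg x hxa
      exact hDx (Derivation.map_algebraMap _ c)
    haveI : Module.Finite k⟮x⟯ K :=
      Groth.Agent.S11005.finite_of_tower hK k⟮x⟯ (AdjoinSimple.gen k x)
        ((transcendental_algebraMap_iff (algebraMap k⟮x⟯ K).injective).mp (by simpa using hxt))
    have h1 : Module.finrank K (KaehlerDifferential k K) = 1 := Groth.Agent.S11003.result k K hK hg
    have hspan := (finrank_eq_one_iff_of_nonzero' _ hDx).mp h1
    haveI : Algebra.FormallyUnramified k⟮x⟯ K := by
      constructor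
      refine ⟨fun a b => ?_⟩
      suffices h : ∀ ω : Ω[K⁄k⟮x⟯], ω = 0 by rw [h a, h b]
      intro ω
      obtain ⟨ω', rfl⟩ := KaehlerDifferential.map_surjective k k⟮x⟯ K ω
      obtain ⟨c, rfl⟩ := hspan ω'
      rw [map_smul, KaehlerDifferential.map_D]
      have : (algebraMap K K x) = algebraMap k⟮x⟯ K (AdjoinSimple.gen k x) := by simp
      rw [this, Derivation.map_algebraMap, smul_zero]
    exact Algebra.FormallyUnramified.isSeparable k⟮x⟯ K

end Groth.Agent.S11002
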