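import Groth.Statements.S11006
import Groth.Agent.S11005
import Mathlib

set_option autoImplicit false
universe u v
open FunFld

namespace Groth.Agent.S11006

open Polynomial IntermediateField

section
variable {k : Type u} {K : Type v} [Field k] [Field K] [Algebra k K]

/-- A geometric extension has `k` algebraically closed in `K`. -/
theorem mem_range_of_isGeometric (hg : IsGeometric k K) (y : K) (hy : IsAlgebraic k y) :
    y ∈ Set.range (algebraMap k K) := by
  have hint : IsIntegral k y := hy.isIntegral
  set f := minpoly k y with hf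
  have hirr : Irreducible f := minpoly.irreducible hint
  have : Fact (Irreducible f) := ⟨hirr⟩
  have hf0 : f ≠ 0 := minpoly.ne_zero hint
  have hfin : FiniteDimensional k (AdjoinRoot f) := (AdjoinRoot.powerBasis hf0).finite
  have hF : IsField (TensorProduct k (AdjoinRoot f) K) := hg (AdjoinRoot f) hfin
  have hF' : IsField (TensorProduct k K (AdjoinRoot f)) :=
    (Algebra.TensorProduct.comm k K (AdjoinRoot f)).toMulEquiv.isField hF
  let φ : AdjoinRoot f →ₐ[k] K := AdjoinRoot.liftAlgHom f (Algebra.ofId k K) y (by
    change Polynomial.eval₂ (algebraMap k K) y f = 0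
    rw [← Polynomial.aeval_def]; exact minpoly.aeval k y)
  let μ : TensorProduct k K (AdjoinRoot f) →ₐ[K] K :=
    Algebra.TensorProduct.productLeftAlgHom (AlgHom.id K K) φ
  have hμ : Function.Injective μ := by
    rw [injective_iff_map_eq_zero]
    intro a ha
    by_contra ha0
    obtain ⟨b, hb⟩ := hF'.mul_inv_cancel ha0
    have := congrArg μ hb
    rw [map_mul, ha, zero_mul, map_one] at this
    exact zero_ne_one this
  have h1 : Module.finrank K (TensorProduct k K (AdjoinRoot f)) ≤ Module.finrank K K :=
    LinearMap.finrank_le_finrank_of_injective (f := μ.toLinearMap) hμ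
  rw [Module.finrank_baseChange, Module.finrank_self, PowerBasis.finrank (AdjoinRoot.powerBasis hf0),
    AdjoinRoot.powerBasis_dim] at h1
  have h2 : 0 < f.natDegree := minpoly.natDegree_pos hint
  have h3 : f.natDegree = 1 := le_antisymm h1 h2
  exact (minpoly.natDegree_eq_one_iff).mp h3

end


/-- For `K/k` a geometric function field of one variable and `k'/k` finite, the field `K' = k' ⊗_k K` is
a geometric function field of one variable over `k'`: some element of `K'` is transcendental over
`k'` with `K'` of finite degree over the subfield it generates over `k'`, `k'` is algebraically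
closed in `K'`, and `K'` stays a field after tensoring over `k'` with any finite field extension of
`k'`. -/
theorem result (k k' : Type u) (K K' : Type v) [Field k] [Field k'] [Field K] [Field K']
    [Algebra k k'] [FiniteDimensional k k'] [Algebra k K] [Algebra K K'] [Algebra k' K'] [Algebra k K']
    [IsScalarTower k k' K'] [IsScalarTower k K K']
    (h : Function.Bijective (Algebra.TensorProduct.productMap
      (IsScalarTower.toAlgHom k k' K') (IsScalarTower.toAlgHom k K K')))
    (hK : FunFld.IsFunctionField k K) (hg : FunFld.IsGeometric k K) :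
    FunFld.IsFunctionField k' K' ∧ FunFld.IsGeometric k' K' := by
  -- the isomorphism k' ⊗ K ≃ K' over k'
  let e₀ : TensorProduct k k' K →ₐ[k'] K' :=
    Algebra.TensorProduct.productLeftAlgHom (Algebra.ofId k' K') (IsScalarTower.toAlgHom k K K')
  have he₀ : Function.Bijective e₀ := h
  let e : TensorProduct k k' K ≃ₐ[k'] K' := AlgEquiv.ofBijective e₀ he₀
  have hgeo : FunFld.IsGeometric k' K' := by
    intro k'' _ _ hfin''
    letI : Algebra k k'' := ((algebraMap k' k'').comp (algebraMap k k')).toAlgebra
    haveI : IsScalarTower k k' k'' := IsScalarTower.of_algebraMap_eq fun _ => rfl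
    haveI : FiniteDimensional k k'' := Module.Finite.trans k' k''
    have h1 : IsField (TensorProduct k k'' K) := hg k'' inferInstance
    let e1 : TensorProduct k' k'' (TensorProduct k k' K) ≃ₐ[k'] TensorProduct k k'' K :=
      Algebra.TensorProduct.cancelBaseChange k k' k' k'' K
    let e2 : TensorProduct k' k'' (TensorProduct k k' K) ≃ₐ[k'] TensorProduct k' k'' K' :=
      Algebra.TensorProduct.congr AlgEquiv.refl e
    exact (e2.symm.trans e1).toMulEquiv.isField h1
  refine ⟨⟨?_, fun y hy => mem_range_of_isGeometric hgeo y hy⟩, hgeo⟩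
  obtain ⟨⟨x₀, hx₀, hfin⟩, hcl⟩ := hK
  have hKK : FunFld.IsFunctionField k K := ⟨⟨x₀, hx₀, hfin⟩, hcl⟩
  set x' : K' := algebraMap K K' x₀ with hx'def
  have hx' : Transcendental k' x' := by
    intro halg
    have h1 : IsAlgebraic k x' := halg.restrictScalars k
    exact hx₀ ((isAlgebraic_algebraMap_iff (algebraMap K K').injective).mp h1)
  refine ⟨x', hx', ?_⟩
  -- essentially of finite type
  have h1 := Groth.Agent.S11005.essFiniteType hKK
  have h2 : Algebra.EssFiniteType k' K' := Algebra.EssFiniteType.of_surjective e.toAlgHom e.surjective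
  have h3 : Algebra.EssFiniteType k'⟮x'⟯ K' := Algebra.EssFiniteType.of_comp k' k'⟮x'⟯ K'
  -- algebraic
  have hmem : ∀ r : k⟮x₀⟯, algebraMap K K' (r : K) ∈ k'⟮x'⟯ := by
    rintro ⟨r, hr⟩
    induction hr using IntermediateField.adjoin_induction with
    | mem x hx =>
      rw [Set.mem_singleton_iff] at hx
      subst hx
      exact IntermediateField.mem_adjoin_simple_self k' x'
    | algebraMap c =>
      rw [← IsScalarTower.algebraMap_apply k K K', IsScalarTower.algebraMap_apply k k' K']
      exact IntermediateField.algebraMap_mem _ _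
    | add x y _ _ hx hy => rw [map_add]; exact add_mem hx hy
    | inv x _ hx => rw [map_inv₀]; exact inv_mem hx
    | mul x y _ _ hx hy => rw [map_mul]; exact mul_mem hx hy
  let φ : k⟮x₀⟯ →+* k'⟮x'⟯ :=
    RingHom.codRestrict ((algebraMap K K').comp (algebraMap k⟮x₀⟯ K)) k'⟮x'⟯ hmem
  have hφ : (algebraMap k'⟮x'⟯ K').comp φ = (algebraMap K K').comp (algebraMap k⟮x₀⟯ K) := by
    ext r; rfl
  have halg : Algebra.IsAlgebraic k'⟮x'⟯ K' := by
    refine ⟨fun z => ?_⟩
    obtain ⟨t, rfl⟩ := e.surjective z
    apply IsIntegral.isAlgebraic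
    induction t using TensorProduct.induction_on with
    | zero => rw [map_zero]; exact isIntegral_zero
    | add a b ha hb => rw [map_add]; exact ha.add hb
    | tmul c y =>
      have : e (c ⊗ₜ[k] y) = algebraMap k' K' c * algebraMap K K' y := by
        change e₀ (c ⊗ₜ[k] y) = _
        simp [e₀]
      rw [this]
      apply IsIntegral.mul
      · rw [IsScalarTower.algebraMap_apply k' k'⟮x'⟯ K']
        exact isIntegral_algebraMap
      · have hy : IsIntegral k⟮x₀⟯ y := Algebra.IsIntegral.isIntegral y
        exact IsIntegral.map_of_comp_eq φ (algebraMap K K') hφ hy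
  exact Algebra.finite_of_essFiniteType_of_isAlgebraic

end Groth.Agent.S11006
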