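import Groth.Statements.S11007
import Groth.Agent.S11001
import Mathlib.FieldTheory.PurelyInseparable.Basic

set_option autoImplicit false
universe u v
open FunFld

namespace Groth.Agent.S11007

open FunFld Polynomial IntermediateField


/-- In a geometric function field of one variable of characteristic `p > 0`, `kK^p` is the only
intermediate field over which `K` is purely inseparable of degree `p`. The companion assertion about
the natural map on Kähler differentials is not stated. -/
theorem result (k : Type u) (K : Type v) [Field k] [Field K] [Algebra k K] (p : ℕ) [Fact p.Prime] [CharP K p]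
    (hK : FunFld.IsFunctionField k K) (hg : FunFld.IsGeometric k K) (K₀ : IntermediateField k K) :
    (IsPurelyInseparable K₀ K ∧ Module.finrank K₀ K = p) ↔ K₀ = IntermediateField.adjoin k (Set.range fun y : K => y ^ p) := by
  have hp : p.Prime := Fact.out
  set L := IntermediateField.adjoin k (Set.range fun y : K => y ^ p) with hLdef
  have hfinL : Module.finrank L K = p := Groth.Agent.S11001.result k K p hK hg
  constructor
  · rintro ⟨hpi, hfin⟩
    symm
    haveI : FiniteDimensional L K := Module.finite_of_finrank_pos (by rw [hfinL]; exact hp.pos)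
    refine IntermediateField.eq_of_le_of_finrank_eq' ?_ (by rw [hfinL, hfin])
    rw [hLdef, adjoin_le_iff]
    rintro _ ⟨z, rfl⟩
    change z ^ p ∈ K₀
    haveI : CharP K₀ p := (Algebra.charP_iff K₀ K p).mpr inferInstance
    haveI : ExpChar K₀ p := ExpChar.prime hp
    haveI : FiniteDimensional K₀ K := Module.finite_of_finrank_pos (by rw [hfin]; exact hp.pos)
    obtain ⟨n, a, hmin⟩ := IsPurelyInseparable.minpoly_eq_X_pow_sub_C K₀ p z
    have hint : IsIntegral K₀ z := Algebra.IsIntegral.isIntegral z
    have hdeg : Module.finrank K₀ K₀⟮z⟯ = p ^ n := by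
      rw [adjoin.finrank hint, hmin, natDegree_sub_C, natDegree_X_pow]
    have hdvd : p ^ n ∣ p := by
      rw [← hdeg, ← hfin]
      exact ⟨_, (Module.finrank_mul_finrank K₀ K₀⟮z⟯ K).symm⟩
    have hn : n ≤ 1 := by
      by_contra hcon
      push_neg at hcon
      have h2 : p ^ 2 ∣ p := (pow_dvd_pow p hcon).trans hdvd
      have := Nat.le_of_dvd hp.pos h2
      nlinarith [hp.two_le]
    have hroot : z ^ p ^ n = a := by
      have := minpoly.aeval K₀ z
      rw [hmin] at this
      simpa [sub_eq_zero] using this
    interval_cases n
    · rw [pow_zero, pow_one] at hroot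
      rw [hroot]; exact pow_mem a.2 p
    · rw [pow_one] at hroot
      rw [hroot]; exact a.2
  · rintro rfl
    refine ⟨?_, hfinL⟩
    haveI : CharP L p := (Algebra.charP_iff L K p).mpr inferInstance
    haveI : ExpChar L p := ExpChar.prime hp
    rw [isPurelyInseparable_iff_pow_mem L p]
    intro z
    exact ⟨1, ⟨⟨z ^ p, subset_adjoin k _ ⟨z, rfl⟩⟩, by simp⟩⟩

end Groth.Agent.S11007
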