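import Groth.Statements.S11015
import Groth.Agent.Lib.H40FunFld
-- import your own Groth.Agent.* helpers here

set_option autoImplicit false
open FunFld

namespace Groth.Agent.S11015

/-- For `x ≠ 0`, multiplication by `x` identifies `L(D + (x))` with `L(D)`; in particular `L(D₁) ≅
L(D₂)` for linearly equivalent divisors. -/
theorem result (k K : Type*) [Field k] [Field K] [Algebra k K]
    (hK : FunFld.IsFunctionField k K) (D : FunFld.Divisor k K) (x y : K) (hx : x ≠ 0) :
    x * y ∈ FunFld.L D ↔ y ∈ FunFld.L (D + FunFld.div k x) := by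
  have hfin := Groth.Agent.Lib.H40FunFld.finite_support_ord hK x
  change (∀ P : FunFld.Place k K, P.1 (x * y) ≤ WithZero.exp (D P)) ↔
    (∀ P : FunFld.Place k K, P.1 y ≤ WithZero.exp ((D + FunFld.div k x) P))
  refine forall_congr' fun P => ?_
  have h0 : P.1 x ≠ 0 := (Valuation.ne_zero_iff _).2 hx
  rw [Finsupp.add_apply, Groth.Agent.Lib.H40FunFld.div_apply_of_finite x hfin, WithZero.exp_add,
    Groth.Agent.Lib.H40FunFld.exp_ord P hx, map_mul, le_mul_inv_iff₀ (zero_lt_iff.2 h0), mul_comm]

end Groth.Agent.S11015
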