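import Groth.Statements.S11016
import Groth.Agent.Lib.H40FunFld
-- import your own Groth.Agent.* helpers here

set_option autoImplicit false
open FunFld

namespace Groth.Agent.S11016

/-- `L(D) ≠ 0` iff there is an effective divisor linearly equivalent to `D`. -/
theorem result (k K : Type*) [Field k] [Field K] [Algebra k K]
    (hK : FunFld.IsFunctionField k K) (D : FunFld.Divisor k K) :
    FunFld.L D ≠ ⊥ ↔ ∃ x : K, x ≠ 0 ∧ 0 ≤ D + FunFld.div k x := by
  have hfin := Groth.Agent.Lib.H40FunFld.finite_support_ord hK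
  rw [Submodule.ne_bot_iff]
  have key : ∀ x : K, x ≠ 0 → (x ∈ FunFld.L D ↔ 0 ≤ D + FunFld.div k x) := by
    intro x hx
    change (∀ P : FunFld.Place k K, P.1 x ≤ WithZero.exp (D P)) ↔ _
    rw [Finsupp.le_def]
    refine forall_congr' fun P => ?_
    have h0 : P.1 x ≠ 0 := (Valuation.ne_zero_iff _).2 hx
    rw [Finsupp.add_apply, Groth.Agent.Lib.H40FunFld.div_apply_of_finite x (hfin x),
      Finsupp.zero_apply, FunFld.Place.ord, ← WithZero.log_le_iff_le_exp h0]
    constructor <;> intro h <;> linarith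
  constructor
  · rintro ⟨x, hx, hx0⟩
    exact ⟨x, hx0, (key x hx0).1 hx⟩
  · rintro ⟨x, hx0, hx⟩
    exact ⟨x, (key x hx0).2 hx, hx0⟩

end Groth.Agent.S11016
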