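import Groth.Statements.S11017
-- import your own Groth.Agent.* helpers here

set_option autoImplicit false
open FunFld

namespace Groth.Agent.S11017

/-- For a Weil differential `ω` with divisor `C`, `ord_P [ω] ≥ e` iff `ω` kills every repartition
concentrated at `P` with `P`-component of order at least `-e`. -/
theorem result (k K : Type*) [Field k] [Field K] [Algebra k K] (ω : Module.Dual k (FunFld.adele k K)) (C : FunFld.Divisor k K) (hω : FunFld.IsDivOf ω C)
    (P : FunFld.Place k K) (e : ℤ) :
    e ≤ C P ↔ ∀ (a : FunFld.Place k K → K) (ha : a ∈ FunFld.adele k K),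
      (∀ Q, Q ≠ P → a Q = 0) → P.1 (a P) ≤ WithZero.exp e → ω ⟨a, ha⟩ = 0 := by
  classical
  constructor
  · intro he a ha hconc hval
    -- E := C with value e at P
    let E : FunFld.Divisor k K := C.update P e
    have hE : E ≤ C := by
      intro Q
      by_cases hQ : Q = P
      · subst hQ; simpa [E] using he
      · simp [E, Finsupp.update_apply, hQ]
    have h1 : ω ∈ FunFld.WD E := (hω E).2 hE
    rw [FunFld.WD, Submodule.mem_dualAnnihilator] at h1
    apply h1
    change a ∈ FunFld.AD E ⊔ LinearMap.range (FunFld.diag k K)
    apply Submodule.mem_sup_left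
    intro Q
    by_cases hQ : Q = P
    · subst hQ; simpa [E] using hval
    · rw [hconc Q hQ]; simp
  · intro h
    let E : FunFld.Divisor k K := C.update P e
    suffices hE : ω ∈ FunFld.WD E by
      have := (hω E).1 hE P
      simpa [E] using this
    have hC : ω ∈ FunFld.WD C := (hω C).2 le_rfl
    rw [FunFld.WD, Submodule.mem_dualAnnihilator] at hC ⊢
    intro b hb
    change (b : FunFld.Place k K → K) ∈ FunFld.AD E ⊔ LinearMap.range (FunFld.diag k K) at hb
    obtain ⟨a', ha', d, hd, hsum⟩ := Submodule.mem_sup.1 hb
    let a3 : FunFld.Place k K → K := Function.update 0 P (a' P)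
    have h3 : a3 ∈ FunFld.adele k K := by
      change ∀ᶠ Q : FunFld.Place k K in Filter.cofinite, Q.1 (a3 Q) ≤ 1
      rw [Filter.eventually_cofinite]
      refine (Set.finite_singleton P).subset ?_
      intro Q hQ
      by_contra hne
      apply hQ
      have : a3 Q = 0 := by simp [a3, Function.update_apply, show Q ≠ P from hne]
      rw [this]; simp
    have hω3 : ω ⟨a3, h3⟩ = 0 := by
      apply h a3 h3
      · intro Q hQ; simp [a3, Function.update_apply, hQ]
      · have := ha' P
        simpa [a3, E] using this
    have hrest : b - ⟨a3, h3⟩ ∈ FunFld.ADK C := by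
      change ((b - ⟨a3, h3⟩ : FunFld.adele k K) : FunFld.Place k K → K) ∈
        FunFld.AD C ⊔ LinearMap.range (FunFld.diag k K)
      have : ((b - ⟨a3, h3⟩ : FunFld.adele k K) : FunFld.Place k K → K) = (a' - a3) + d := by
        rw [Submodule.coe_sub, ← hsum]; simp only; abel
      rw [this]
      refine Submodule.add_mem _ (Submodule.mem_sup_left ?_) (Submodule.mem_sup_right hd)
      intro Q
      by_cases hQ : Q = P
      · subst hQ; simp [a3]
      · have := ha' Q
        simpa [a3, E, Function.update_apply, Finsupp.update_apply, hQ] using this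
    have := hC _ hrest
    rw [map_sub, hω3, sub_zero] at this
    exact this

end Groth.Agent.S11017
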