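import Groth.Statements.S11031
import Groth.Agent.Lib.H40FunFldADK

set_option autoImplicit false
open FunFld

namespace Groth.Agent.S11031

/-- An effective divisor `D` of degree `< g` on a function field of one variable of genus `g` is
special: some nonzero Weil differential vanishes on `A(D) + K`. (The published statement is phrased
with differential forms `Ω_K(D)`, identified with `W_K(D)` by duality; the Weil-differential form is
stated.) -/
theorem result (k K : Type*) [Field k] [Field K] [Algebra k K]
    (hK : FunFld.IsFunctionField k K) (D : FunFld.Divisor k K) (hD : 0 ≤ D) (hdeg : D.deg < FunFld.genus k K) :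
    ∃ ω : Module.Dual k (FunFld.adele k K), ω ≠ 0 ∧ ω ∈ FunFld.WD D := by
  apply Groth.Agent.Lib.H40FunFld.exists_ne_zero_mem_WD hK
  have h1 : (1 : ℤ) ≤ FunFld.ell D := by
    exact_mod_cast Groth.Agent.Lib.H40FunFld.one_le_ell_of_nonneg hK hD
  unfold Groth.Agent.Lib.H40FunFld.delta
  linarith

end Groth.Agent.S11031
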