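import Groth.Statements.S11033
import Groth.Agent.Lib.H40FunFldNorm

set_option autoImplicit false
open FunFld

namespace Groth.Agent.S11033

/-- The divisor norm of a principal divisor is the principal divisor of the field norm:
`v_P(N_{K'/K}(x)) = ∑_{Q|P} f(Q|P) v_Q(x)`, written with `f(Q|P) deg P = deg_k Q`. -/
theorem result (k K K' : Type*) [Field k] [Field K] [Field K'] [Algebra k K] [Algebra K K'] [Algebra k K']
    [IsScalarTower k K K'] [FiniteDimensional K K'] (hK : FunFld.IsFunctionField k K) (hg : FunFld.IsGeometric k K) (P : FunFld.Place k K) (x : K')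
    (Qs : Finset (FunFld.Place k K')) (hQs : ∀ Q, Q ∈ Qs ↔ FunFld.IsOver Q P) :
    (P.deg : ℤ) * P.ord (Algebra.norm K x) = ∑ Q ∈ Qs, (Q.deg : ℤ) * Q.ord x := by
  classical
  let _ : Algebra P.O K' := ((algebraMap K K').comp (algebraMap P.O K)).toAlgebra
  have : IsScalarTower P.O K K' := IsScalarTower.of_algebraMap_eq (fun _ => rfl)
  have : IsScalarTower k P.O K' := IsScalarTower.of_algebraMap_eq (fun c => by
    rw [Groth.Agent.Lib.H40FunFld.algebraMap_O_apply, IsScalarTower.algebraMap_apply k K K']; rfl)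
  exact Groth.Agent.Lib.H40FunFldNorm.norm_formula hK P Qs hQs x

end Groth.Agent.S11033
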