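import Groth.Statements.S11035
import Groth.Agent.Lib.H40FunFldSchmidt

set_option autoImplicit false
open FunFld

namespace Groth.Agent.S11035

/-- Over a finite constant field the degree map on the divisors of a function field of one variable is
onto the integers. -/
theorem result
    (k K : Type*) [Field k] [Finite k] [Field K] [Algebra k K]
    (hK : FunFld.IsFunctionField k K) :
    Function.Surjective (FunFld.Divisor.deg : FunFld.Divisor k K → ℤ) := by
  open Groth.Agent.Lib.H40FunFld in
  obtain ⟨d, hd0, hd⟩ := exists_degGen hK
  have hd1 := degGen_eq_one hK hd0 hd
  intro m
  rw [hd1] at hd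
  exact (hd m).2 (by simp)

end Groth.Agent.S11035
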