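import Groth.Statements.S11037
import Groth.Agent.Lib.H40FunFldZeta

set_option autoImplicit false
open FunFld

namespace Groth.Agent.S11037

/-- Over a finite constant field with `q` elements the degree-zero divisor classes modulo principal
divisors form a finite group, of order `h`; and for `n ≥ 2g - 1` the number `a(n)` of effective
divisors of degree `n` is `h (q^(n-g+1) - 1)/(q - 1)` when `n` is the degree of some divisor, and
`0` otherwise. -/
theorem result
    (k K : Type*) [Field k] [Finite k] [Field K] [Algebra k K]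
    (hK : FunFld.IsFunctionField k K) :
    Finite ((FunFld.degHom k K).ker ⧸ (FunFld.prinDivs k K).addSubgroupOf (FunFld.degHom k K).ker) ∧
    ∀ n : ℕ, 2 * FunFld.genus k K ≤ n + 1 →
      ((∃ D : FunFld.Divisor k K, D.deg = n) →
        ((Nat.card k : ℤ) - 1) * (FunFld.effDivCount k K n : ℤ) =
          (FunFld.classNum k K : ℤ) * ((Nat.card k : ℤ) ^ (n + 1 - FunFld.genus k K) - 1)) ∧
      ((¬ ∃ D : FunFld.Divisor k K, D.deg = n) → FunFld.effDivCount k K n = 0) := by
  have hfin := Groth.Agent.Lib.H40FunFld.finite_clGrp hK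
  refine ⟨hfin, ?_⟩
  intro n hn
  constructor
  · rintro ⟨D1, hD1⟩
    have he : ∀ C : FunFld.Divisor k K, C.deg = 0 →
        FunFld.ell (D1 + C) = n + 1 - FunFld.genus k K := by
      intro C hC
      have h1 := Groth.Agent.Lib.H40FunFld.ell_eq_of_deg_ge hK (D1 + C) (by
        rw [Groth.Agent.Lib.H40FunFld.deg_add, hD1, hC]; omega)
      rw [Groth.Agent.Lib.H40FunFld.deg_add, hD1, hC] at h1
      omega
    have h2 := Groth.Agent.Lib.H40FunFld.card_effDiv_fibre hK n D1 hD1 _ he
    have h3 : Nat.card k = Nat.card kˣ + 1 := Nat.card_eq_card_units_add_one k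
    have h4 : ((Nat.card k : ℤ) - 1) = (Nat.card kˣ : ℤ) := by rw [h3]; push_cast; ring
    have h5 : ((FunFld.effDivCount k K n * Nat.card kˣ + FunFld.classNum k K : ℕ) : ℤ) =
        ((FunFld.classNum k K * Nat.card k ^ (n + 1 - FunFld.genus k K) : ℕ) : ℤ) := by
      rw [h2]
    push_cast at h5
    rw [h4]
    linarith
  · intro hno
    rw [FunFld.effDivCount]
    have : IsEmpty {D : FunFld.Divisor k K // 0 ≤ D ∧ D.deg = (n : ℤ)} :=
      ⟨fun D => hno ⟨D.1, D.2.2⟩⟩
    exact Nat.card_of_isEmpty

end Groth.Agent.S11037
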