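import Groth.Statements.S11038
import Groth.Agent.Lib.H40FunFldZeta2

set_option autoImplicit false
open FunFld

namespace Groth.Agent.S11038

/-- `L_K(1) = h_K`, the class number, where `L_K(t) = (1 - t)(1 - q t) Z_K(t)` is the numerator of the
zeta function. -/
theorem result
    (k K : Type*) [Field k] [Finite k] [Field K] [Algebra k K]
    (hK : FunFld.IsFunctionField k K) (p : Polynomial ℤ)
    (hp : (p : PowerSeries ℤ) = FunFld.numerZ k K) :
    p.eval 1 = (FunFld.classNum k K : ℤ) := by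
  open Groth.Agent.Lib.H40FunFld in
  obtain ⟨d, hd0, hd⟩ := exists_degGen hK
  have hq : 2 ≤ Nat.card k := Finite.one_lt_card
  have hqu : Nat.card k = Nat.card kˣ + 1 := Nat.card_eq_card_units_add_one k
  have hh := classNum_pos hK
  have hp' : (p : PowerSeries ℤ) = (1 - PowerSeries.X) *
      ((1 - PowerSeries.C (Nat.card k : ℤ) * PowerSeries.X) * FunFld.zetaZ k K) := by
    rw [hp, FunFld.numerZ, mul_assoc]
  obtain ⟨N0, hN0, hdN0⟩ : ∃ N0 : ℕ, p.natDegree + 2 * FunFld.genus k K + 1 ≤ N0 ∧ d ∣ N0 + 1 := by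
    refine ⟨d * (p.natDegree + 2 * FunFld.genus k K + 2) - 1, ?_, ?_⟩
    · have := Nat.le_mul_of_pos_left (p.natDegree + 2 * FunFld.genus k K + 2) hd0
      omega
    · have := Nat.le_mul_of_pos_left (p.natDegree + 2 * FunFld.genus k K + 2) hd0
      rw [Nat.sub_add_cancel (by omega)]
      exact dvd_mul_right _ _
  have e1 := eval_one_eq_coeff p _ hp' (N0 + 1) (by omega)
  have e2 := eval_one_eq_coeff p _ hp' (N0 + 1 + 1) (by omega)
  rw [coeff_succ_one_sub_C_X_mul] at e1 e2
  simp only [FunFld.zetaZ, PowerSeries.coeff_mk] at e1 e2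
  have hA1 := effDivCount_of_dvd hK hd (n := N0 + 1) (by omega) hdN0
  obtain ⟨e0, he0⟩ : ∃ e0 : ℕ, N0 + 1 + 1 - FunFld.genus k K = e0 + 1 :=
    ⟨N0 + 1 - FunFld.genus k K, by omega⟩
  rw [he0] at hA1
  have hA1z : ((FunFld.effDivCount k K (N0 + 1) : ℤ)) * (Nat.card kˣ : ℤ) + FunFld.classNum k K =
      FunFld.classNum k K * (Nat.card k : ℤ) ^ (e0 + 1) := by exact_mod_cast hA1
  have hquz : (Nat.card k : ℤ) = (Nat.card kˣ : ℤ) + 1 := by exact_mod_cast hqu
  have hu : (Nat.card kˣ : ℤ) ≠ 0 := by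
    have : 0 < Nat.card kˣ := by omega
    exact_mod_cast this.ne'
  rcases Nat.lt_or_ge d 2 with hd1 | hd2
  · have hd1' : d = 1 := by omega
    have hA0 := effDivCount_of_dvd hK hd (n := N0) (by omega) (by rw [hd1']; exact one_dvd _)
    have he0' : N0 + 1 - FunFld.genus k K = e0 := by omega
    rw [he0'] at hA0
    have hA0z : ((FunFld.effDivCount k K N0 : ℤ)) * (Nat.card kˣ : ℤ) + FunFld.classNum k K =
        FunFld.classNum k K * (Nat.card k : ℤ) ^ e0 := by exact_mod_cast hA0
    rw [e1]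
    apply mul_left_cancel₀ hu
    rw [pow_succ] at hA1z
    linear_combination hA1z - (Nat.card k : ℤ) * hA0z + (FunFld.classNum k K : ℤ) * hquz
  · exfalso
    have hn0 : ¬ d ∣ N0 := by
      intro h
      have := (Nat.dvd_add_right h).1 hdN0
      have := Nat.le_of_dvd one_pos this
      omega
    have hn2 : ¬ d ∣ N0 + 1 + 1 := by
      intro h
      have := (Nat.dvd_add_right hdN0).1 h
      have := Nat.le_of_dvd one_pos this
      omega
    rw [effDivCount_of_not_dvd hK hd hn0] at e1
    rw [effDivCount_of_not_dvd hK hd hn2] at e2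
    have h3 : (FunFld.effDivCount k K (N0 + 1) : ℤ) = 0 := by
      have h4 : (1 + (Nat.card k : ℤ)) * (FunFld.effDivCount k K (N0 + 1) : ℤ) = 0 := by
        have := e1.symm.trans e2
        push_cast at this
        linarith
      rcases mul_eq_zero.1 h4 with h5 | h5
      · have : (0 : ℤ) ≤ Nat.card k := by positivity
        omega
      · exact h5
    rw [h3, zero_mul, zero_add] at hA1z
    have h6 : (1 : ℤ) < (Nat.card k : ℤ) ^ (e0 + 1) :=
      one_lt_pow₀ (by exact_mod_cast hq) (by omega)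
    have h7 : (0 : ℤ) < FunFld.classNum k K := by exact_mod_cast hh
    nlinarith

end Groth.Agent.S11038
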