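import Groth.Statements.S11039
import Groth.Agent.Lib.H40FunFldZeta4

set_option autoImplicit false
open FunFld

namespace Groth.Agent.S11039

/-- The numerator `L_K(t) = ∑ aᵢ tⁱ` of the zeta function of a function field of one variable of genus
`g` over a finite field with `q` elements has degree exactly `2g` and its coefficients satisfy
`a_{2g-i} = q^{g-i} aᵢ` for `0 ≤ i ≤ 2g`. -/
theorem result
    (k K : Type*) [Field k] [Finite k] [Field K] [Algebra k K]
    (hK : FunFld.IsFunctionField k K) :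
    (∀ n : ℕ, 2 * FunFld.genus k K < n → PowerSeries.coeff n (FunFld.numerZ k K) = 0) ∧
    PowerSeries.coeff (2 * FunFld.genus k K) (FunFld.numerZ k K) ≠ 0 ∧
    ∀ i : ℕ, i ≤ 2 * FunFld.genus k K →
      (((PowerSeries.coeff (2 * FunFld.genus k K - i) (FunFld.numerZ k K) : ℤ)) : ℚ) =
        (Nat.card k : ℚ) ^ ((FunFld.genus k K : ℤ) - i) *
          (((PowerSeries.coeff i (FunFld.numerZ k K) : ℤ)) : ℚ) := by
  open Groth.Agent.Lib.H40FunFld in
  haveI hfinG := finite_clGrp hK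
  letI := Fintype.ofFinite (ClGrp k K)
  have hfun : ∀ i : ℕ, i ≤ 2 * FunFld.genus k K →
      (((PowerSeries.coeff (2 * FunFld.genus k K - i) (FunFld.numerZ k K) : ℤ)) : ℚ) =
        (Nat.card k : ℚ) ^ ((FunFld.genus k K : ℤ) - i) *
          (((PowerSeries.coeff i (FunFld.numerZ k K) : ℤ)) : ℚ) :=
    fun i hi => coeff_numerZ_functional hK hi
  refine ⟨fun n hn => coeff_numerZ_eq_zero hK hn, ?_, hfun⟩
  have h0 := hfun 0 (Nat.zero_le _)
  rw [Nat.sub_zero, coeff_zero_numerZ, effDivCount_zero hK] at h0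
  intro hzero
  rw [hzero] at h0
  have hq0 : (Nat.card k : ℚ) ≠ 0 := by
    have : 0 < Nat.card k := Nat.card_pos
    exact_mod_cast this.ne'
  have : (Nat.card k : ℚ) ^ ((FunFld.genus k K : ℤ) - ((0 : ℕ) : ℤ)) ≠ 0 := zpow_ne_zero _ hq0
  apply this
  have h1 : ((((1 : ℕ) : ℤ)) : ℚ) = 1 := by norm_num
  rw [h1, mul_one] at h0
  rw [← h0]
  norm_num

end Groth.Agent.S11039
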