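import Groth.Statements.S11043
import Mathlib.FieldTheory.KummerExtension
import Mathlib.RingTheory.RootsOfUnity.PrimitiveRoots

set_option autoImplicit false
open FunFld

namespace Groth.Agent.S11043

open Polynomial in
/-- `∏_{b<m} (1 - (C ω)^b T) = 1 - T^m` for a primitive `m`-th root `ω`. -/
theorem prod_one_sub (m : ℕ) (hm : 0 < m) (ω : ℂ) (hω : IsPrimitiveRoot ω m) (T : ℂ[X]) :
    ∏ b ∈ Finset.range m, (1 - (C ω) ^ b * T) = 1 - T ^ m := by
  have hζ : IsPrimitiveRoot (C ω : ℂ[X]) m := hω.map_of_injective C_injective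
  have h := X_pow_sub_C_eq_prod (R := ℂ[X]) hζ (α := T) (a := T ^ m) hm rfl
  have h2 := congrArg (eval (1 : ℂ[X])) h
  simp only [eval_sub, eval_pow, eval_X, eval_C, one_pow, eval_prod] at h2
  exact h2.symm

open Polynomial in
/-- periodicity -/
theorem prod_periodic (m e : ℕ) (f : ℕ → ℂ[X]) (hf : ∀ k, f (k + m) = f k) :
    ∏ k ∈ Finset.range (m * e), f k = (∏ k ∈ Finset.range m, f k) ^ e := by
  induction e with
  | zero => simp
  | succ e ih =>
    rw [Nat.mul_succ, Finset.prod_range_add, ih, pow_succ]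
    congr 1
    apply Finset.prod_congr rfl
    intro k _
    have : ∀ j, f (m * j + k) = f k := by
      intro j
      induction j with
      | zero => simp
      | succ j ihj =>
        rw [Nat.mul_succ, add_right_comm, hf, ihj]
    exact this e

/-- For positive integers `n`, `d` with `e = gcd(n, d)`, in `ℂ[t]` one has `(1 - t^{nd/e})^e = ∏_{θⁿ =
1} (1 - (θ t)^d)`, the product over the complex `n`-th roots of unity. -/
theorem result (n d : ℕ) (hn : 0 < n) (hd : 0 < d) :
    ((1 : Polynomial ℂ) - Polynomial.X ^ (n * d / Nat.gcd n d)) ^ Nat.gcd n d =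
      ∏ θ ∈ Polynomial.nthRootsFinset n (1 : ℂ),
        (1 - Polynomial.C (θ ^ d) * Polynomial.X ^ d) := by
  classical
  set e := Nat.gcd n d with he
  have hepos : 0 < e := Nat.gcd_pos_of_pos_left d hn
  obtain ⟨n', hn'⟩ : e ∣ n := Nat.gcd_dvd_left n d
  have hn'pos : 0 < n' := by
    rcases Nat.eq_zero_or_pos n' with h | h
    · rw [h, mul_zero] at hn'; omega
    · exact h
  let ζ : ℂ := Complex.exp (2 * Real.pi * Complex.I / n)
  have hζ : IsPrimitiveRoot ζ n := Complex.isPrimitiveRoot_exp n hn.ne'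
  have hω : IsPrimitiveRoot (ζ ^ d) n' := by
    rw [IsPrimitiveRoot.iff_orderOf, orderOf_pow' _ hd.ne', ← hζ.eq_orderOf, ← he, hn',
      Nat.mul_div_cancel_left _ hepos]
  have hexp : n * d / e = d * n' := by
    rw [hn', mul_assoc, Nat.mul_div_cancel_left _ hepos, mul_comm]
  have : NeZero n := ⟨hn.ne'⟩
  -- reindex the product by exponents
  have hre : ∏ θ ∈ Polynomial.nthRootsFinset n (1 : ℂ),
        (1 - Polynomial.C (θ ^ d) * Polynomial.X ^ d)
      = ∏ k ∈ Finset.range n, (1 - (Polynomial.C (ζ ^ d)) ^ k * Polynomial.X ^ d) := by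
    symm
    apply Finset.prod_nbij (fun k => ζ ^ k)
    · intro k _
      rw [Polynomial.mem_nthRootsFinset hn, ← pow_mul, mul_comm, pow_mul, hζ.pow_eq_one, one_pow]
    · intro k hk l hl hkl
      exact hζ.pow_inj (Finset.mem_range.mp hk) (Finset.mem_range.mp hl) hkl
    · intro θ hθ
      rw [Finset.mem_coe, Polynomial.mem_nthRootsFinset hn] at hθ
      obtain ⟨k, hk, rfl⟩ := hζ.eq_pow_of_pow_eq_one hθ
      exact ⟨k, Finset.mem_coe.mpr (Finset.mem_range.mpr hk), rfl⟩
    · intro k _
      rw [← map_pow, ← pow_mul, ← pow_mul, Nat.mul_comm d k]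
  rw [hre, hexp, hn', mul_comm e n', prod_periodic n' e _ (fun k => by
    rw [pow_add, ← map_pow (Polynomial.C) (ζ ^ d) n', hω.pow_eq_one, map_one, mul_one]),
    prod_one_sub n' hn'pos (ζ ^ d) hω, ← pow_mul]

end Groth.Agent.S11043
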