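import Groth.Statements.S7243
import Groth.Agent.Lib.TorAmpLocal81
import Groth.Agent.Lib.TildeStalk81
import Groth.Agent.Lib.TorAmpStalk81B
import Groth.Agent.Lib.LpullPerfect35

set_option autoImplicit false
set_option linter.style.haveILetI false
universe u
open CategoryTheory CategoryTheory.Limits AlgebraicGeometry
attribute [local instance] HasDerivedCategory.standard
open Perf

namespace Groth.Agent.S7243
open Groth.Agent.Lib.TildeStalk81 Groth.Agent.Lib.TorAmpStalk81 Groth.Agent.Lib.TorAmpLocal81
  Groth.Agent.Lib.StalkTensor81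

theorem tilde_additive (R : CommRingCat.{u}) : (tilde.functor R).Additive := inferInstance

instance (A : Type u) [CommRing A] : (tilde.functor (CommRingCat.of A)).Additive :=
  tilde_additive (CommRingCat.of A)

theorem tilde_isLeftAdjoint (R : CommRingCat.{u}) : (tilde.functor R).IsLeftAdjoint := inferInstance

instance (A : Type u) [CommRing A] : (tilde.functor (CommRingCat.of A)).IsLeftAdjoint :=
  tilde_isLeftAdjoint (CommRingCat.of A)

theorem isFlat_tilde (R : CommRingCat.{u}) (N : ModuleCat.{u} R) [Module.Flat R N] :
    FlatMod.IsFlat ((tilde.functor R).obj N) := by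
  intro x
  have e := (tildeStalkIso R x).app N
  have h2 := Groth.Agent.Lib.LpullKFlat35.flat_extendScalars (toStalkHom R x) N
  have h4 : Module.Flat ((Spec (.of R)).presheaf.stalk x)
      ((tilde.functor R ⋙ DerSch.stalkFunctor (Spec (.of R)) x).obj N) :=
    Module.Flat.of_linearEquiv e.toLinearEquiv
  exact h4

theorem hasFlatAmplitudeIn_of_iso {X : Scheme.{u}} {K L : DCoh.D X} (e : K ≅ L) (a b : ℤ)
    (h : DCoh.HasFlatAmplitudeIn a b K) : DCoh.HasFlatAmplitudeIn a b L := by
  obtain ⟨E, hE, hfl, ⟨e'⟩⟩ := h
  exact ⟨E, hE, hfl, ⟨e' ≪≫ e⟩⟩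


/-- Let A be a ring, M an object of D(A) and E = M~ the associated object of D(O_X), X = Spec A (tilde
being recorded as exact). The tor amplitude of E lies in [a, b] precisely when the tor amplitude of
M lies in that same interval; both are stated here in the flat-representative form (isomorphic to a
complex of flat modules vanishing outside [a, b]), which on either side is equivalent to the
derived-tensor form. The finite tor dimension variant follows at once. -/
theorem result (A : Type u) [CommRing A] [PreservesFiniteLimits (tilde.functor (CommRingCat.of A))]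
    (M : Dual.D A) (a b : ℤ) :
    DCoh.HasFlatAmplitudeIn a b ((DCoh.tildeD (CommRingCat.of A)).obj M) ↔ DRing.HasTorAmplitudeIn A a b M := by
  constructor
  · intro h
    let K : DRing.Cx A := DerivedCategory.Q.objPreimage M
    let eK : DerivedCategory.Q.obj K ≅ M := DerivedCategory.Q.objObjPreimageIso M
    have h1 : DCoh.HasFlatAmplitudeIn a b (DCoh.toD (Spec (CommRingCat.of A))
        (((tilde.functor (CommRingCat.of A)).mapHomologicalComplex (ComplexShape.up ℤ)).obj K)) :=
      hasFlatAmplitudeIn_of_iso
        ((DCoh.tildeD (CommRingCat.of A)).mapIso eK.symm ≪≫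
          (tilde.functor (CommRingCat.of A)).mapDerivedCategoryFactors.app K) a b h
    rw [hasFlatAmplitudeIn_iff_hasTorAmplitude_id] at h1
    refine Groth.Agent.Lib.TorAmpBasic21.hasTorAmplitudeIn_of_iso A eK
      (hasTorAmplitudeIn_of_forall_maximal K a b fun m hm => ?_)
    let p : PrimeSpectrum A := ⟨m, inferInstance⟩
    let x : Spec (CommRingCat.of A) := p
    refine ⟨(Spec (CommRingCat.of A)).presheaf.stalk x, inferInstance,
      StructureSheaf.stalkAlgebra A p, StructureSheaf.IsLocalization.to_stalk A p, ?_⟩
    have h2 := (hasTorAmplitudeAt_id_iff x _ a b).1 (h1 x)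
    exact Groth.Agent.Lib.TorAmpBasic21.hasTorAmplitudeIn_of_iso _
      (DerivedCategory.Q.mapIso (stalkTildeCxIso (CommRingCat.of A) x K)) h2
  · intro h
    obtain ⟨E, hE, hfl, ⟨e⟩⟩ := h
    exact ⟨((tilde.functor (CommRingCat.of A)).mapHomologicalComplex (ComplexShape.up ℤ)).obj E,
      fun i hi => (tilde.functor (CommRingCat.of A)).map_isZero (hE i hi),
      fun i => by
        haveI := hfl i
        exact isFlat_tilde (CommRingCat.of A) (E.X i),
      ⟨((tilde.functor (CommRingCat.of A)).mapDerivedCategoryFactors.app E).symm ≪≫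
        (DCoh.tildeD (CommRingCat.of A)).mapIso e⟩⟩


end Groth.Agent.S7243
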