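import Groth.Statements.S1105
import Groth.Agent.Lib.TorAmpLocal81D
import Groth.Agent.S1004
import Groth.Agent.S6954
import Groth.Agent.S7243

set_option autoImplicit false
set_option linter.style.haveILetI false
universe u
open CategoryTheory CategoryTheory.Limits AlgebraicGeometry
attribute [local instance] HasDerivedCategory.standard
open Perf

namespace Groth.Agent.S1105
open Groth.Agent.Lib.TorAmpLocal81

instance (A : Type u) [CommRing A] : (tilde.functor (CommRingCat.of A)).Additive :=
  tilde_additive (CommRingCat.of A)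

instance (A : Type u) [CommRing A] : (tilde.functor (CommRingCat.of A)).IsLeftAdjoint :=
  tilde_isLeftAdjoint (CommRingCat.of A)


/-- Let A be a ring, M an object of D(A) and E = M~ the associated object of D(O_{Spec A}) (tilde being
recorded as exact). Then E is perfect in D(O_{Spec A}) if and only if M is perfect in D(A)
(isomorphic to a bounded complex of finite projective modules). -/
theorem result (A : Type u) [CommRing A] [PreservesFiniteLimits (tilde.functor (CommRingCat.of A))] (M : Dual.D A) :
    DCoh.IsPerfect ((DCoh.tildeD (CommRingCat.of A)).obj M) ↔ DRing.IsPerfect A M := by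
  rw [Groth.Agent.Lib.PerfectIffPC.isPerfect_iff_pc_and_locHasFiniteTorDim,
    Groth.Agent.S6954.result, Groth.Agent.Lib.DRingPCoh21.isPseudoCoherent'_iff_forall]
  refine and_congr (forall_congr' fun m => Groth.Agent.S1004.result A M m) ?_
  let K : DRing.Cx A := DerivedCategory.Q.objPreimage M
  let eK : DerivedCategory.Q.obj K ≅ M := DerivedCategory.Q.objObjPreimageIso M
  let e0 : (DCoh.tildeD (CommRingCat.of A)).obj M ≅ DCoh.toD (Spec (CommRingCat.of A))
      (((tilde.functor (CommRingCat.of A)).mapHomologicalComplex (ComplexShape.up ℤ)).obj K) :=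
    (DCoh.tildeD (CommRingCat.of A)).mapIso eK.symm ≪≫
      (tilde.functor (CommRingCat.of A)).mapDerivedCategoryFactors.app K
  have h1 : DCoh.LocHasFiniteTorDim ((DCoh.tildeD (CommRingCat.of A)).obj M) ↔
      DCoh.LocHasFiniteTorDim (DCoh.toD (Spec (CommRingCat.of A))
        (((tilde.functor (CommRingCat.of A)).mapHomologicalComplex (ComplexShape.up ℤ)).obj K)) := by
    constructor
    · intro h x
      obtain ⟨V, a, b, hx, hV⟩ := h x
      exact ⟨V, a, b, hx, fun F' ⟨e⟩ => hV F' ⟨e ≪≫ e0.symm⟩⟩
    · intro h x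
      obtain ⟨V, a, b, hx, hV⟩ := h x
      exact ⟨V, a, b, hx, fun F' ⟨e⟩ => hV F' ⟨e ≪≫ e0⟩⟩
  rw [h1, locHasFiniteTorDim_iff_of_compact]
  constructor
  · rintro ⟨a, b, h⟩
    exact ⟨a, b, (Groth.Agent.S7243.result A M a b).1 (hasFlatAmplitudeIn_of_iso e0.symm a b h)⟩
  · rintro ⟨a, b, h⟩
    exact ⟨a, b, hasFlatAmplitudeIn_of_iso e0 a b ((Groth.Agent.S7243.result A M a b).2 h)⟩


end Groth.Agent.S1105
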