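import Groth.Statements.S11056
import Groth.Agent.Lib.FunFldEmbed

set_option autoImplicit false
open FunFld

namespace Groth.Agent.S11056

open Groth.Agent.Lib.H40FunFld Groth.Agent.Lib.FunFldPencil Groth.Agent.Lib.FunFldEmbed

section Aux

variable {k K : Type*} [Field k] [Field K] [Algebra k K]

theorem not_le_of_ell_lt (hK : FunFld.IsFunctionField k K) {E E' : FunFld.Divisor k K}
    (h : FunFld.ell E' < FunFld.ell E) : ¬ FunFld.L E ≤ FunFld.L E' := by
  intro hle
  haveI := finiteDimensional_L hK E'
  have := Submodule.finrank_mono hle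
  unfold FunFld.ell at h
  omega

theorem deg_single_one [IsAlgClosed k] (hK : FunFld.IsFunctionField k K) (Q : FunFld.Place k K) :
    FunFld.Divisor.deg (Finsupp.single Q 1 : FunFld.Divisor k K) = 1 := by
  rw [deg_single, deg_eq_one_of_isAlgClosed hK Q]; norm_num

/-- strictness `L (E - Q) < L E` in the Riemann–Roch range -/
theorem not_le_sub_single [IsAlgClosed k] (hK : FunFld.IsFunctionField k K)
    (E : FunFld.Divisor k K) (Q : FunFld.Place k K)
    (hE : 2 * (FunFld.genus k K : ℤ) ≤ E.deg) :
    ¬ FunFld.L E ≤ FunFld.L (E - Finsupp.single Q 1) := by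
  apply not_le_of_ell_lt hK
  have h1 := ell_eq_of_deg_ge hK E (by linarith)
  have h2 := ell_eq_of_deg_ge hK (E - Finsupp.single Q 1)
    (by rw [deg_sub, deg_single_one hK]; linarith)
  rw [deg_sub, deg_single_one hK] at h2
  have : (FunFld.ell (E - Finsupp.single Q 1) : ℤ) < FunFld.ell E := by linarith
  exact_mod_cast this

end Aux


/-- Over an algebraically closed constant field, if `deg D ≥ 2g + 1` then the projective map given by a
basis of `L(D)` is an embedding, i.e. nonsingular at every place. Here a projective map is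
nonsingular at a place when its local ring there (quotients of polynomials over `k` in the ratios
`φᵢ/φⱼ`, `φⱼ` of least order at the place, with denominator a unit there) is the whole valuation
ring. -/
theorem result
    (k K : Type*) [Field k] [IsAlgClosed k] [Field K] [Algebra k K]
    (hK : FunFld.IsFunctionField k K) (D : FunFld.Divisor k K)
    (hD : 2 * (FunFld.genus k K : ℤ) + 1 ≤ D.deg) {n : ℕ} (φ : Fin (n + 1) → K)
    (hφ : LinearIndependent k φ) (hspan : Submodule.span k (Set.range φ) = FunFld.L D)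
    (P : FunFld.Place k K) : FunFld.IsNonsingularAt φ P := by
  have hg : (0 : ℤ) ≤ FunFld.genus k K := Int.natCast_nonneg _
  have hd1 : (1 : ℤ) ≤ D.deg := by linarith
  have hP1 := deg_single_one hK P
  refine isNonsingularAt_of_pencils hK D φ hspan P 2 ?_ ?_ ?_ ?_ ?_
  · intro Q
    exact not_le_sub_single hK D Q (by linarith)
  · intro Q
    exact not_le_sub_single hK _ Q (by rw [deg_sub, hP1]; linarith)
  · intro m hm
    have hm' : (2 : ℤ) ≤ (m : ℤ) := by exact_mod_cast hm
    have hmd : 2 * D.deg ≤ (m : ℤ) * D.deg := mul_le_mul_of_nonneg_right hm' (by linarith)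
    have e1 := ell_eq_of_deg_ge hK (m • D + D) (by rw [deg_add, deg_nsmul]; linarith)
    have e2 := ell_eq_of_deg_ge hK (m • D - D) (by rw [deg_sub, deg_nsmul]; linarith)
    have e3 := ell_eq_of_deg_ge hK (m • D) (by rw [deg_nsmul]; linarith)
    rw [deg_add, deg_nsmul] at e1
    rw [deg_sub, deg_nsmul] at e2
    rw [deg_nsmul] at e3
    have : ((FunFld.ell (m • D + D) + FunFld.ell (m • D - D) : ℕ) : ℤ)
        = ((2 * FunFld.ell (m • D) : ℕ) : ℤ) := by
      push_cast; linarith
    exact_mod_cast this
  · intro m hm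
    have hm' : (2 : ℤ) ≤ (m : ℤ) := by exact_mod_cast hm
    have hmd : 2 * D.deg ≤ (m : ℤ) * D.deg := mul_le_mul_of_nonneg_right hm' (by linarith)
    have e1 := ell_eq_of_deg_ge hK (m • D + (D - Finsupp.single P 1))
      (by rw [deg_add, deg_nsmul, deg_sub, hP1]; linarith)
    have e2 := ell_eq_of_deg_ge hK (m • D - (D - Finsupp.single P 1))
      (by rw [deg_sub, deg_nsmul, deg_sub, hP1]; linarith)
    have e3 := ell_eq_of_deg_ge hK (m • D) (by rw [deg_nsmul]; linarith)
    rw [deg_add, deg_nsmul, deg_sub, hP1] at e1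
    rw [deg_sub, deg_nsmul, deg_sub, hP1] at e2
    rw [deg_nsmul] at e3
    have : ((FunFld.ell (m • D + (D - Finsupp.single P 1)) +
        FunFld.ell (m • D - (D - Finsupp.single P 1)) : ℕ) : ℤ)
        = ((2 * FunFld.ell (m • D) : ℕ) : ℤ) := by
      push_cast; linarith
    exact_mod_cast this
  · intro B
    refine ⟨2 + 2 * FunFld.genus k K + B.deg.toNat, by omega, ?_⟩
    set m := 2 + 2 * FunFld.genus k K + B.deg.toNat with hm
    have hB : B.deg ≤ (B.deg.toNat : ℤ) := Int.self_le_toNat _
    have hmd : (m : ℤ) ≤ (m : ℤ) * D.deg := by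
      have : (0 : ℤ) ≤ (m : ℤ) := Int.natCast_nonneg _
      nlinarith
    have hmz : (m : ℤ) = 2 + 2 * (FunFld.genus k K : ℤ) + (B.deg.toNat : ℤ) := by
      rw [hm]; push_cast; ring
    apply not_le_sub_single hK
    rw [deg_sub, deg_nsmul]
    linarith

end Groth.Agent.S11056
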