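import Groth.Statements.S11057
import Groth.Agent.Lib.FunFldEmbed

set_option autoImplicit false
open FunFld

namespace Groth.Agent.S11057

open Groth.Agent.Lib.H40FunFld Groth.Agent.Lib.FunFldPencil Groth.Agent.Lib.FunFldEmbed

section Aux

variable {k K : Type*} [Field k] [Field K] [Algebra k K]

theorem not_le_of_ell_lt (hK : FunFld.IsFunctionField k K) {E E' : FunFld.Divisor k K}
    (h : FunFld.ell E' < FunFld.ell E) : ¬ FunFld.L E ≤ FunFld.L E' := by
  intro hle
  haveI := finiteDimensional_L hK E'
  have := Submodule.finrank_mono hle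
  unfold FunFld.ell at h
  omega

theorem deg_single_one [IsAlgClosed k] (hK : FunFld.IsFunctionField k K) (Q : FunFld.Place k K) :
    FunFld.Divisor.deg (Finsupp.single Q 1 : FunFld.Divisor k K) = 1 := by
  rw [deg_single, deg_eq_one_of_isAlgClosed hK Q]; norm_num

theorem not_le_sub_single [IsAlgClosed k] (hK : FunFld.IsFunctionField k K)
    (E : FunFld.Divisor k K) (Q : FunFld.Place k K)
    (hE : 2 * (FunFld.genus k K : ℤ) ≤ E.deg) :
    ¬ FunFld.L E ≤ FunFld.L (E - Finsupp.single Q 1) := by
  apply not_le_of_ell_lt hK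
  have h1 := ell_eq_of_deg_ge hK E (by linarith)
  have h2 := ell_eq_of_deg_ge hK (E - Finsupp.single Q 1)
    (by rw [deg_sub, deg_single_one hK]; linarith)
  rw [deg_sub, deg_single_one hK] at h2
  have : (FunFld.ell (E - Finsupp.single Q 1) : ℤ) < FunFld.ell E := by linarith
  exact_mod_cast this

/-- no function of degree `≤ 2`: effective divisors of degree `≤ 2` have `ℓ ≤ 1` -/
theorem ell_le_one_of_effective (hK : FunFld.IsFunctionField k K)
    (h2 : ∀ x : K, Transcendental k x →
      2 < Module.finrank (IntermediateField.adjoin k ({x} : Set K)) K)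
    {E : FunFld.Divisor k K} (hE : 0 ≤ E) (hdeg : E.deg ≤ 2) : FunFld.ell E ≤ 1 := by
  by_contra hcon
  push Not at hcon
  haveI := finiteDimensional_L hK E
  obtain ⟨x, hxE, hxk⟩ : ∃ x ∈ FunFld.L E, x ∉ Set.range (algebraMap k K) := by
    by_contra hall
    push Not at hall
    have hle : FunFld.L E ≤ Submodule.span k {(1 : K)} := by
      intro y hy
      obtain ⟨c, rfl⟩ := hall y hy
      rw [Algebra.algebraMap_eq_smul_one]
      exact Submodule.smul_mem _ _ (Submodule.mem_span_singleton_self _)
    have h1 := Submodule.finrank_mono hle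
    have h3 : Module.finrank k (Submodule.span k {(1 : K)}) ≤ 1 :=
      (finrank_span_le_card ({(1 : K)} : Set K)).trans (by simp)
    unfold FunFld.ell at hcon
    omega
  have hx0 : x ≠ 0 := fun h => hxk ⟨0, by rw [map_zero, h]⟩
  have hxt : Transcendental k x := fun halg => hxk (hK.2 x halg)
  have hpole : poleDiv (k := k) x ≤ E := by
    intro Q
    rw [poleDiv_apply hK x Q]
    have h0 : (0 : ℤ) ≤ E Q := hE Q
    have h1 := (Groth.Agent.Lib.H40FunFld.mem_L_iff E x).1 hxE Q
    rw [val_eq_exp_neg_ord Q hx0, WithZero.exp_le_exp] at h1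
    exact max_le h1 h0
  have hdegle : (poleDiv (k := k) x).deg ≤ E.deg := by
    have := deg_nonneg (sub_nonneg.2 hpole)
    rw [deg_sub] at this
    linarith
  have h3 := (deg_zeroDiv_eq_and_deg_poleDiv_eq hK hxt).2
  have h4 := h2 x hxt
  have : (2 : ℤ) < (poleDiv (k := k) x).deg := by rw [h3]; exact_mod_cast h4
  linarith

theorem ell_le_one (hK : FunFld.IsFunctionField k K)
    (h2 : ∀ x : K, Transcendental k x →
      2 < Module.finrank (IntermediateField.adjoin k ({x} : Set K)) K)
    (E : FunFld.Divisor k K) (hdeg : E.deg ≤ 2) : FunFld.ell E ≤ 1 := by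
  by_cases h0 : FunFld.ell E = 0
  · omega
  obtain ⟨f, hfE, hf0⟩ := exists_ne_zero_mem_L_of_ell_pos (Nat.pos_of_ne_zero h0)
  have hE' : 0 ≤ E + FunFld.div k f := (mem_L_iff_nonneg hK E hf0).1 hfE
  have := ell_le_one_of_effective hK h2 hE' (by rw [deg_add, deg_div_eq_zero hK]; linarith)
  rwa [ell_add_div hK E hf0] at this

theorem one_le_ell_of_effective (hK : FunFld.IsFunctionField k K) {E : FunFld.Divisor k K}
    (hE : 0 ≤ E) : 1 ≤ FunFld.ell E := by
  haveI := finiteDimensional_L hK E
  have h1 : (1 : K) ∈ FunFld.L E := by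
    rw [Groth.Agent.Lib.H40FunFld.mem_L_iff]
    intro Q
    rw [map_one, ← WithZero.exp_zero, WithZero.exp_le_exp]
    exact hE Q
  have hne : Nontrivial (FunFld.L E) := ⟨⟨⟨1, h1⟩, 0, fun h => one_ne_zero (congrArg Subtype.val h)⟩⟩
  exact Module.finrank_pos

end Aux


/-- Over an algebraically closed constant field, if `K` has degree at least `3` over every subfield
`k(x)` generated by a nonconstant element, then the canonical map (given by a basis of `L(D)` for a
canonical divisor `D`) is an embedding, i.e. nonsingular at every place. Here a projective map is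
nonsingular at a place when its local ring there (quotients of polynomials over `k` in the ratios
`φᵢ/φⱼ`, `φⱼ` of least order at the place, with denominator a unit there) is the whole valuation
ring. -/
theorem result
    (k K : Type*) [Field k] [IsAlgClosed k] [Field K] [Algebra k K]
    (hK : FunFld.IsFunctionField k K)
    (h2 : ∀ x : K, Transcendental k x →
      2 < Module.finrank (IntermediateField.adjoin k ({x} : Set K)) K)
    (D : FunFld.Divisor k K) (hD : FunFld.IsCanonical k K D) {n : ℕ} (φ : Fin (n + 1) → K)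
    (hφ : LinearIndependent k φ) (hspan : Submodule.span k (Set.range φ) = FunFld.L D)
    (P : FunFld.Place k K) : FunFld.IsNonsingularAt φ P := by
  classical
  have hP1 := deg_single_one hK P
  have hdegD := deg_canonical hK hD
  have hellD := ell_canonical hK hD
  -- genus at least 3
  have hg3 : 3 ≤ FunFld.genus k K := by
    by_contra hlt
    push Not at hlt
    have hcases : FunFld.genus k K = 0 ∨ FunFld.genus k K = 1 ∨ FunFld.genus k K = 2 := by omega
    rcases hcases with hg | hg | hg
    · have h1 := ell_eq_of_deg_ge hK (Finsupp.single P 1 : FunFld.Divisor k K)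
        (by rw [hP1, hg]; norm_num)
      rw [hP1, hg] at h1
      have h3 := ell_le_one hK h2 (Finsupp.single P 1 : FunFld.Divisor k K) (by rw [hP1]; norm_num)
      have : (FunFld.ell (Finsupp.single P 1 : FunFld.Divisor k K) : ℤ) ≤ 1 := by exact_mod_cast h3
      norm_num at h1
      linarith
    · have hP2 : FunFld.Divisor.deg (Finsupp.single P 2 : FunFld.Divisor k K) = 2 := by
        rw [deg_single, deg_eq_one_of_isAlgClosed hK P]; norm_num
      have h1 := ell_eq_of_deg_ge hK (Finsupp.single P 2 : FunFld.Divisor k K)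
        (by rw [hP2, hg]; norm_num)
      rw [hP2, hg] at h1
      have h3 := ell_le_one hK h2 (Finsupp.single P 2 : FunFld.Divisor k K) (by rw [hP2])
      have : (FunFld.ell (Finsupp.single P 2 : FunFld.Divisor k K) : ℤ) ≤ 1 := by exact_mod_cast h3
      norm_num at h1
      linarith
    · have h3 := ell_le_one hK h2 D (by rw [hdegD, hg]; norm_num)
      rw [hellD, hg] at h3
      omega
  have hg3' : (3 : ℤ) ≤ FunFld.genus k K := by exact_mod_cast hg3
  -- ℓ of small effective divisors
  have hellQ : ∀ Q : FunFld.Place k K,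
      FunFld.ell (Finsupp.single Q 1 : FunFld.Divisor k K) = 1 := by
    intro Q
    have h1 := ell_le_one hK h2 (Finsupp.single Q 1 : FunFld.Divisor k K)
      (by rw [deg_single_one hK]; norm_num)
    have h3 := one_le_ell_of_effective hK (E := (Finsupp.single Q 1 : FunFld.Divisor k K))
      (by
        intro R
        rw [Finsupp.zero_apply]
        by_cases hR : R = Q
        · subst hR; rw [Finsupp.single_eq_same]; norm_num
        · rw [Finsupp.single_eq_of_ne hR])
    omega
  have hellPQ : ∀ Q : FunFld.Place k K,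
      FunFld.ell (Finsupp.single P 1 + Finsupp.single Q 1 : FunFld.Divisor k K) = 1 := by
    intro Q
    have h1 := ell_le_one hK h2 (Finsupp.single P 1 + Finsupp.single Q 1 : FunFld.Divisor k K)
      (by rw [deg_add, deg_single_one hK, deg_single_one hK]; norm_num)
    have h3 := one_le_ell_of_effective hK
      (E := (Finsupp.single P 1 + Finsupp.single Q 1 : FunFld.Divisor k K))
      (by
        have hs : ∀ S : FunFld.Place k K, (0 : FunFld.Divisor k K) ≤ Finsupp.single S 1 := by
          intro S R
          rw [Finsupp.zero_apply]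
          by_cases hR : R = S
          · subst hR; rw [Finsupp.single_eq_same]; norm_num
          · rw [Finsupp.single_eq_of_ne hR]
        exact add_nonneg (hs P) (hs Q))
    omega
  refine isNonsingularAt_of_pencils hK D φ hspan P 3 ?_ ?_ ?_ ?_ ?_
  · intro Q
    apply not_le_of_ell_lt hK
    have h1 := riemann_roch hK hD (D - Finsupp.single Q 1)
    rw [sub_sub_cancel, hellQ Q, deg_sub, deg_single_one hK, hdegD] at h1
    have : (FunFld.ell (D - Finsupp.single Q 1) : ℤ) < FunFld.ell D := by
      rw [hellD]; push_cast at h1; linarith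
    exact_mod_cast this
  · intro Q
    apply not_le_of_ell_lt hK
    have h1 := riemann_roch hK hD (D - Finsupp.single P 1 - Finsupp.single Q 1)
    have e : D - (D - Finsupp.single P 1 - Finsupp.single Q 1)
        = Finsupp.single P 1 + Finsupp.single Q 1 := by abel
    rw [e, hellPQ Q, deg_sub, deg_sub, deg_single_one hK, deg_single_one hK, hdegD] at h1
    have h3 := riemann_roch hK hD (D - Finsupp.single P 1)
    rw [sub_sub_cancel, hellQ P, deg_sub, deg_single_one hK, hdegD] at h3
    have : (FunFld.ell (D - Finsupp.single P 1 - Finsupp.single Q 1) : ℤ)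
        < FunFld.ell (D - Finsupp.single P 1) := by
      push_cast at h1 h3; linarith
    exact_mod_cast this
  · intro m hm
    have hm' : (3 : ℤ) ≤ (m : ℤ) := by exact_mod_cast hm
    have hdpos : (0 : ℤ) ≤ D.deg := by rw [hdegD]; linarith
    have hmd : 3 * D.deg ≤ (m : ℤ) * D.deg := mul_le_mul_of_nonneg_right hm' hdpos
    have e1 := ell_eq_of_deg_ge hK (m • D + D) (by rw [deg_add, deg_nsmul]; linarith)
    have e2 := ell_eq_of_deg_ge hK (m • D - D) (by rw [deg_sub, deg_nsmul]; linarith)
    have e3 := ell_eq_of_deg_ge hK (m • D) (by rw [deg_nsmul]; linarith)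
    rw [deg_add, deg_nsmul] at e1
    rw [deg_sub, deg_nsmul] at e2
    rw [deg_nsmul] at e3
    have : ((FunFld.ell (m • D + D) + FunFld.ell (m • D - D) : ℕ) : ℤ)
        = ((2 * FunFld.ell (m • D) : ℕ) : ℤ) := by
      push_cast; linarith
    exact_mod_cast this
  · intro m hm
    have hm' : (3 : ℤ) ≤ (m : ℤ) := by exact_mod_cast hm
    have hdpos : (0 : ℤ) ≤ D.deg := by rw [hdegD]; linarith
    have hmd : 3 * D.deg ≤ (m : ℤ) * D.deg := mul_le_mul_of_nonneg_right hm' hdpos
    have e1 := ell_eq_of_deg_ge hK (m • D + (D - Finsupp.single P 1))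
      (by rw [deg_add, deg_nsmul, deg_sub, hP1]; linarith)
    have e2 := ell_eq_of_deg_ge hK (m • D - (D - Finsupp.single P 1))
      (by rw [deg_sub, deg_nsmul, deg_sub, hP1]; linarith)
    have e3 := ell_eq_of_deg_ge hK (m • D) (by rw [deg_nsmul]; linarith)
    rw [deg_add, deg_nsmul, deg_sub, hP1] at e1
    rw [deg_sub, deg_nsmul, deg_sub, hP1] at e2
    rw [deg_nsmul] at e3
    have : ((FunFld.ell (m • D + (D - Finsupp.single P 1)) +
        FunFld.ell (m • D - (D - Finsupp.single P 1)) : ℕ) : ℤ)
        = ((2 * FunFld.ell (m • D) : ℕ) : ℤ) := by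
      push_cast; linarith
    exact_mod_cast this
  · intro B
    refine ⟨3 + 2 * FunFld.genus k K + B.deg.toNat, by omega, ?_⟩
    set m := 3 + 2 * FunFld.genus k K + B.deg.toNat with hm
    have hB : B.deg ≤ (B.deg.toNat : ℤ) := Int.self_le_toNat _
    have hd1 : (1 : ℤ) ≤ D.deg := by rw [hdegD]; linarith
    have hmd : (m : ℤ) ≤ (m : ℤ) * D.deg := by
      have : (0 : ℤ) ≤ (m : ℤ) := Int.natCast_nonneg _
      nlinarith
    have hmz : (m : ℤ) = 3 + 2 * (FunFld.genus k K : ℤ) + (B.deg.toNat : ℤ) := by
      rw [hm]; push_cast; ring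
    apply not_le_sub_single hK
    rw [deg_sub, deg_nsmul]
    linarith

end Groth.Agent.S11057
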