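-- Statement S11064.
import Groth.Statements.S11064
import Mathlib

set_option autoImplicit false
open FunFld

namespace Groth.Agent.S11064

/-- Over an algebraically closed constant field, a projective map `φ = (φ₀, …, φₙ)` that is nonsingular
at some place is birational, i.e. the ratios `φᵢ/φ₀` generate `K` over `k`. Here the local ring of a
projective map at a place consists of the quotients of polynomials over `k` in the ratios `φᵢ/φⱼ`,
`φⱼ` of least order at the place, with denominator a unit there; the map is nonsingular at the place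
when this ring is the whole valuation ring. -/
theorem result
    (k K : Type*) [Field k] [IsAlgClosed k] [Field K] [Algebra k K]
    (hK : FunFld.IsFunctionField k K) {n : ℕ} (φ : Fin (n + 1) → K)
    (h0 : φ 0 ≠ 0) (P : FunFld.Place k K) (h : FunFld.IsNonsingularAt φ P) :
    IntermediateField.adjoin k (Set.range fun i => φ i / φ 0) = ⊤ := by
  classical
  set F : IntermediateField k K := IntermediateField.adjoin k (Set.range fun i => φ i / φ 0) with hF
  have hgen : ∀ i, φ i / φ 0 ∈ F := fun i => IntermediateField.subset_adjoin k _ ⟨i, rfl⟩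
  have hsub : ∀ j, φ j ≠ 0 → Algebra.adjoin k (Set.range fun i => φ i / φ j) ≤ F.toSubalgebra := by
    intro j hj
    apply Algebra.adjoin_le
    rintro _ ⟨i, rfl⟩
    have h1 : φ i / φ j = (φ i / φ 0) / (φ j / φ 0) := by
      field_simp
    show φ i / φ j ∈ F
    rw [h1]
    exact F.div_mem (hgen i) (hgen j)
  have hO : ∀ z : K, P.1 z ≤ 1 → z ∈ F := by
    intro z hz
    obtain ⟨j, hj, -, u, hu, w, hw, hw1, hzw⟩ := h z hz
    have hw0 : w ≠ 0 := by
      intro h0
      rw [h0, map_zero] at hw1
      exact zero_ne_one hw1
    have : z = u / w := by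
      rw [eq_div_iff hw0, hzw]
    rw [this]
    exact F.div_mem (hsub j hj hu) (hsub j hj hw)
  rw [eq_top_iff]
  intro x _
  by_cases hx : P.1 x ≤ 1
  · exact hO x hx
  · have hx' : P.1 x⁻¹ ≤ 1 := by
      rw [map_inv₀]
      have h1 : 1 < P.1 x := lt_of_not_ge hx
      exact (inv_lt_one_of_one_lt₀ h1).le
    have := F.inv_mem (hO _ hx')
    rwa [inv_inv] at this

end Groth.Agent.S11064
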