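-- Statement S11066.
import Groth.Statements.S11066
import Mathlib
import Groth.Agent.S11078

set_option autoImplicit false
open FunFld

namespace Groth.Agent.S11066

open Groth.Agent.S11078

section Helpers

theorem lt_one_iff_le_exp (x : WithZero (Multiplicative ℤ)) : x < 1 ↔ x ≤ WithZero.exp (-1 : ℤ) := by
  induction x using WithZero.expRecOn with
  | zero => simp
  | exp n =>
    rw [← WithZero.exp_zero, WithZero.exp_lt_exp, WithZero.exp_le_exp]
    omega

theorem exp_two : WithZero.exp (-1 : ℤ) * WithZero.exp (-1 : ℤ) = WithZero.exp (-2 : ℤ) := by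
  rw [← WithZero.exp_add]; norm_num

theorem exp_two_lt : WithZero.exp (-2 : ℤ) < WithZero.exp (-1 : ℤ) := by
  rw [WithZero.exp_lt_exp]; norm_num

theorem exp_one_lt_one : WithZero.exp (-1 : ℤ) < (1 : WithZero (Multiplicative ℤ)) := by
  rw [← WithZero.exp_zero, WithZero.exp_lt_exp]; norm_num

end Helpers

/-- Over an algebraically closed constant field, for an effective projective map `φ` normalized at the
place `P` (`1` in the span of the entries, all entries integral at `P`), the local ring of `φ` at
`P` has an element of order one at `P` (a local parameter) exactly when the span of the entries has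
one. The local ring consists of the quotients of polynomials over `k` in the ratios `φᵢ/φⱼ`, `φⱼ` of
least order at `P`, with denominator a unit at `P`. -/
theorem result
    (k K : Type*) [Field k] [IsAlgClosed k] [Field K] [Algebra k K]
    (hK : FunFld.IsFunctionField k K) {n : ℕ} (φ : Fin (n + 1) → K)
    (P : FunFld.Place k K) (heff : (1 : K) ∈ Submodule.span k (Set.range φ))
    (hnorm : ∀ i, P.1 (φ i) ≤ 1) :
    (∃ t : K, FunFld.InLocRing φ P t ∧ P.1 t = WithZero.exp (-1)) ↔
      ∃ t ∈ Submodule.span k (Set.range φ), P.1 t = WithZero.exp (-1) := by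
  obtain ⟨b, hb⟩ := (Submodule.mem_span_range_iff_exists_fun k).mp heff
  -- a least-order entry has value 1
  have hone : ∀ j, (∀ i, P.1 (φ i) ≤ P.1 (φ j)) → P.1 (φ j) = 1 := by
    intro j hj
    apply le_antisymm (hnorm j)
    have h1 : P.1 (∑ i, b i • φ i) ≤ P.1 (φ j) := by
      apply Valuation.map_sum_le
      intro i _
      rw [Algebra.smul_def, map_mul]
      calc P.1 (algebraMap k K (b i)) * P.1 (φ i) ≤ 1 * P.1 (φ j) :=
            mul_le_mul' (P.2.1 (b i)) (hj i)
        _ = P.1 (φ j) := one_mul _
    rwa [hb, map_one] at h1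
  constructor
  · rintro ⟨t, ⟨j, hj0, hjP, u, hu, w, hw, hPw, htw⟩, hPt⟩
    have hPj : P.1 (φ j) = 1 := hone j hjP
    have hPu : P.1 u = WithZero.exp (-1) := by rw [← htw, map_mul, hPw, mul_one, hPt]
    -- residue constants of the ratios
    have hx : ∀ i, P.1 (φ i / φ j) ≤ 1 := by
      intro i
      rw [map_div₀, hPj, div_one]; exact hnorm i
    choose c hc using fun i => exists_const hK P (φ i / φ j) (hx i)
    let L₁ : Submodule k K := Submodule.span k (Set.range fun i => φ i / φ j - algebraMap k K (c i))
    have hL₁ : ∀ ℓ ∈ L₁, P.1 ℓ ≤ WithZero.exp (-1 : ℤ) := by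
      intro ℓ hℓ
      induction hℓ using Submodule.span_induction with
      | mem x hx =>
        obtain ⟨i, rfl⟩ := hx
        exact (lt_one_iff_le_exp _).mp (hc i)
      | zero => simp
      | add x y _ _ hx hy => exact Valuation.map_add_le _ hx hy
      | smul a x _ hx =>
        rw [Algebra.smul_def, map_mul]
        calc P.1 (algebraMap k K a) * P.1 x ≤ 1 * WithZero.exp (-1 : ℤ) := mul_le_mul' (P.2.1 a) hx
          _ = _ := one_mul _
    have hL₁' : ∀ ℓ ∈ L₁, P.1 ℓ ≤ 1 := fun ℓ hℓ => (hL₁ ℓ hℓ).trans exp_one_lt_one.le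
    let T : Subalgebra k K :=
      { carrier := {u | ∃ a : k, ∃ ℓ ∈ L₁, P.1 (u - algebraMap k K a - ℓ) ≤ WithZero.exp (-2 : ℤ)}
        mul_mem' := by
          rintro u u' ⟨a, ℓ, hℓ, hm⟩ ⟨a', ℓ', hℓ', hm'⟩
          refine ⟨a * a', a • ℓ' + a' • ℓ, Submodule.add_mem _ (Submodule.smul_mem _ _ hℓ')
            (Submodule.smul_mem _ _ hℓ), ?_⟩
          have hu' : P.1 u' ≤ 1 := by
            have : u' = (u' - algebraMap k K a' - ℓ') + algebraMap k K a' + ℓ' := by ring
            rw [this]
            exact Valuation.map_add_le _ (Valuation.map_add_le _ (hm'.trans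
              (exp_two_lt.le.trans exp_one_lt_one.le)) (P.2.1 a')) (hL₁' ℓ' hℓ')
          have e : u * u' - algebraMap k K (a * a') - (a • ℓ' + a' • ℓ) =
              (u - algebraMap k K a - ℓ) * u' + (algebraMap k K a + ℓ) * (u' - algebraMap k K a' - ℓ') +
                ℓ * ℓ' := by
            rw [map_mul, Algebra.smul_def, Algebra.smul_def]; ring
          rw [e]
          apply Valuation.map_add_le
          · apply Valuation.map_add_le
            · rw [map_mul]
              calc P.1 (u - algebraMap k K a - ℓ) * P.1 u' ≤ WithZero.exp (-2 : ℤ) * 1 :=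
                    mul_le_mul' hm hu'
                _ = _ := mul_one _
            · rw [map_mul]
              calc P.1 (algebraMap k K a + ℓ) * P.1 (u' - algebraMap k K a' - ℓ')
                  ≤ 1 * WithZero.exp (-2 : ℤ) :=
                    mul_le_mul' (Valuation.map_add_le _ (P.2.1 a) (hL₁' ℓ hℓ)) hm'
                _ = _ := one_mul _
          · rw [map_mul, ← exp_two]
            exact mul_le_mul' (hL₁ ℓ hℓ) (hL₁ ℓ' hℓ')
        add_mem' := by
          rintro u u' ⟨a, ℓ, hℓ, hm⟩ ⟨a', ℓ', hℓ', hm'⟩
          refine ⟨a + a', ℓ + ℓ', Submodule.add_mem _ hℓ hℓ', ?_⟩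
          have e : u + u' - algebraMap k K (a + a') - (ℓ + ℓ') =
              (u - algebraMap k K a - ℓ) + (u' - algebraMap k K a' - ℓ') := by
            rw [map_add]; ring
          rw [e]
          exact Valuation.map_add_le _ hm hm'
        algebraMap_mem' := fun a => ⟨a, 0, Submodule.zero_mem _, by simp⟩ }
    have hgen : Set.range (fun i => φ i / φ j) ⊆ T := by
      rintro _ ⟨i, rfl⟩
      exact ⟨c i, φ i / φ j - algebraMap k K (c i), Submodule.subset_span ⟨i, rfl⟩, by simp⟩
    obtain ⟨a, ℓ, hℓ, hm⟩ := (Algebra.adjoin_le hgen : Algebra.adjoin k _ ≤ T) hu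
    -- the constant is zero
    have ha : a = 0 := by
      by_contra ha
      have h1 : P.1 (algebraMap k K a) = 1 := val_const P a ha
      have e : algebraMap k K a = u - (u - algebraMap k K a - ℓ) - ℓ := by ring
      have h2 : P.1 (algebraMap k K a) < 1 := by
        rw [e]
        apply Valuation.map_sub_lt
        · apply Valuation.map_sub_lt
          · rw [hPu]; exact exp_one_lt_one
          · exact hm.trans_lt (exp_two_lt.trans exp_one_lt_one)
        · exact (hL₁ ℓ hℓ).trans_lt exp_one_lt_one
      rw [h1] at h2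
      exact lt_irrefl _ h2
    rw [ha, map_zero, sub_zero] at hm
    have hPℓ : P.1 ℓ = WithZero.exp (-1 : ℤ) := by
      have h1 : P.1 (ℓ - u) < P.1 u := by
        rw [← Valuation.map_neg, neg_sub, hPu]
        exact hm.trans_lt exp_two_lt
      rw [Valuation.map_eq_of_sub_lt P.1 h1, hPu]
    -- φ j * ℓ lies in the span
    have hspan : ∀ ℓ ∈ L₁, φ j * ℓ ∈ Submodule.span k (Set.range φ) := by
      intro ℓ hℓ
      induction hℓ using Submodule.span_induction with
      | mem x hx =>
        obtain ⟨i, rfl⟩ := hx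
        have e : φ j * (φ i / φ j - algebraMap k K (c i)) = φ i - c i • φ j := by
          rw [Algebra.smul_def]; field_simp
        rw [e]
        exact Submodule.sub_mem _ (Submodule.subset_span ⟨i, rfl⟩)
          (Submodule.smul_mem _ _ (Submodule.subset_span ⟨j, rfl⟩))
      | zero => simp
      | add x y _ _ hx hy => rw [mul_add]; exact Submodule.add_mem _ hx hy
      | smul a x _ hx => rw [mul_smul_comm]; exact Submodule.smul_mem _ _ hx
    exact ⟨φ j * ℓ, hspan ℓ hℓ, by rw [map_mul, hPj, one_mul, hPℓ]⟩
  · rintro ⟨t, ht, hPt⟩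
    obtain ⟨a, ha⟩ := (Submodule.mem_span_range_iff_exists_fun k).mp ht
    obtain ⟨j, -, hj⟩ := Finset.exists_max_image Finset.univ (fun i => P.1 (φ i))
      ⟨0, Finset.mem_univ _⟩
    have hjP : ∀ i, P.1 (φ i) ≤ P.1 (φ j) := fun i => hj i (Finset.mem_univ _)
    have hPj : P.1 (φ j) = 1 := hone j hjP
    have hj0 : φ j ≠ 0 := by
      intro h0; rw [h0, map_zero] at hPj; exact zero_ne_one hPj
    refine ⟨t, ⟨j, hj0, hjP, ∑ i, a i • (φ i / φ j), ?_, ∑ i, b i • (φ i / φ j), ?_, ?_, ?_⟩, hPt⟩
    · exact Subalgebra.sum_mem _ fun i _ => Subalgebra.smul_mem _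
        (Algebra.subset_adjoin (Set.mem_range_self (f := fun i => φ i / φ j) i)) _
    · exact Subalgebra.sum_mem _ fun i _ => Subalgebra.smul_mem _
        (Algebra.subset_adjoin (Set.mem_range_self (f := fun i => φ i / φ j) i)) _
    · have e : ∑ i, b i • (φ i / φ j) = (φ j)⁻¹ := by
        have : ∑ i, b i • (φ i / φ j) = (∑ i, b i • φ i) / φ j := by
          rw [Finset.sum_div]
          apply Finset.sum_congr rfl
          intro i _
          rw [smul_div_assoc]
        rw [this, hb, one_div]
      rw [e, map_inv₀, hPj, inv_one]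
    · have e1 : ∑ i, b i • (φ i / φ j) = (φ j)⁻¹ := by
        have : ∑ i, b i • (φ i / φ j) = (∑ i, b i • φ i) / φ j := by
          rw [Finset.sum_div]
          apply Finset.sum_congr rfl
          intro i _
          rw [smul_div_assoc]
        rw [this, hb, one_div]
      have e2 : ∑ i, a i • (φ i / φ j) = t / φ j := by
        rw [← ha, Finset.sum_div]
        apply Finset.sum_congr rfl
        intro i _
        rw [smul_div_assoc]
      rw [e1, e2, div_eq_mul_inv]

end Groth.Agent.S11066
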