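import Groth.Statements.S11068
import Groth.Agent.Lib.H40FunFldFrobPlace

set_option autoImplicit false
open FunFld

namespace Groth.Agent.S11068

/-- Over a finite constant field with `q` elements, let `K̄ = k̄ ⊗ K` be the constant-field extension to
an algebraic closure and `F` its Frobenius map (identity on `k̄`, `q`-th power on `K`). A place `Q`
of `K̄/k̄` satisfies `Q^F = Q` (the maximal ideal of `Q` is exactly the preimage of itself under
`F`) if and only if `Q` is defined over `k`, i.e. the place of `K` below `Q` has degree one. -/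
theorem result
    (k K kb Kb : Type*) [Field k] [Finite k] [Field K] [Algebra k K] [Field kb] [Algebra k kb]
    [IsAlgClosure k kb] [Field Kb] [Algebra K Kb] [Algebra kb Kb]
    (hK : FunFld.IsFunctionField k K)
    (hc : ∀ c : k, algebraMap K Kb (algebraMap k K c) = algebraMap kb Kb (algebraMap k kb c))
    (hgen : Algebra.adjoin K (Set.range (algebraMap kb Kb)) = ⊤)
    (F : Kb →+* Kb) (hF1 : ∀ c : kb, F (algebraMap kb Kb c) = algebraMap kb Kb c)
    (hF2 : ∀ x : K, F (algebraMap K Kb x) = algebraMap K Kb x ^ Nat.card k)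
    (Q : FunFld.Place kb Kb) :
    (∀ z : Kb, Q.1 (F z) < 1 ↔ Q.1 z < 1) ↔
      ∃ P : FunFld.Place k K, (∀ x : K, Q.1 (algebraMap K Kb x) ≤ 1 ↔ P.1 x ≤ 1) ∧ P.deg = 1 := by
  classical
  open Groth.Agent.Lib.H40FunFld in
  haveI : IsAlgClosed kb := IsAlgClosure.isAlgClosed k
  haveI : Algebra.IsAlgebraic k kb := IsAlgClosure.isAlgebraic
  have hq0 : Nat.card k ≠ 0 := Nat.card_pos.ne'
  constructor
  · intro hQF
    letI : Algebra k Kb := ((algebraMap K Kb).comp (algebraMap k K)).toAlgebra
    haveI : IsScalarTower k K Kb := IsScalarTower.of_algebraMap_eq (fun _ => rfl)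
    have hkQ : ∀ c : k, Q.1 (algebraMap k Kb c) ≤ 1 := by
      intro c
      have : algebraMap k Kb c = algebraMap kb Kb (algebraMap k kb c) := hc c
      rw [this]; exact Q.2.1 _
    let Q' : FunFld.Place k Kb := ⟨Q.1, hkQ, Q.2.2⟩
    haveI : Algebra.IsAlgebraic K Kb := isAlgebraic_of_adjoin_range_eq_top hc hgen
    obtain ⟨P, e, he⟩ := exists_isOverWith hK Q'
    have hle : ∀ x : K, Q.1 (algebraMap K Kb x) ≤ 1 ↔ P.1 x ≤ 1 :=
      fun x => isOverWith_le_one_iff he x
    have hlt : ∀ x : K, Q.1 (algebraMap K Kb x) < 1 ↔ P.1 x < 1 :=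
      fun x => isOverWith_lt_one_iff he x
    refine ⟨P, hle, ?_⟩
    apply deg_eq_one_of_forall_exists_const
    intro x hx
    obtain ⟨c, hxc⟩ := exists_const_closure_val_sub_lt_one hK hc Q
      (fun y hy => (hlt y).2 hy) (fun y hy => (hle y).2 hy) hx
    have hcq : c ^ Nat.card k = c :=
      pow_card_eq_of_frob_fixed Q (Nat.card k) F hF1 hF2 (fun z hz => (hQF z).2 hz)
        ((hle x).2 hx) hxc
    obtain ⟨c0, rfl⟩ := mem_range_of_pow_card_eq hcq
    refine ⟨c0, ?_⟩
    rw [← hlt, map_sub, hc]
    exact hxc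
  · rintro ⟨P, hP, hdeg⟩ z
    set b := Module.Basis.ofVectorSpace k kb with hb
    obtain ⟨s, x, rfl⟩ := exists_sum_basis_mul_eq hc hgen b z
    have hFz : F (∑ i ∈ s, algebraMap kb Kb (b i) * algebraMap K Kb (x i)) =
        ∑ i ∈ s, algebraMap kb Kb (b i) * algebraMap K Kb (x i ^ Nat.card k) := by
      rw [map_sum]
      refine Finset.sum_congr rfl fun i _ => ?_
      rw [map_mul, hF1, hF2, map_pow]
    rw [hFz]
    by_cases hall : ∀ i ∈ s, x i = 0
    · have h1 : ∑ i ∈ s, algebraMap kb Kb (b i) * algebraMap K Kb (x i ^ Nat.card k) = 0 := by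
        apply Finset.sum_eq_zero
        intro i hi
        rw [hall i hi, zero_pow hq0, map_zero, mul_zero]
      have h2 : ∑ i ∈ s, algebraMap kb Kb (b i) * algebraMap K Kb (x i) = 0 := by
        apply Finset.sum_eq_zero
        intro i hi
        rw [hall i hi, map_zero, mul_zero]
      rw [h1, h2]
    · push Not at hall
      obtain ⟨i0, hi0, hxi0⟩ := hall
      obtain ⟨j, hj, hmax⟩ := Finset.exists_max_image s
        (fun i => Q.1 (algebraMap K Kb (x i))) ⟨i0, hi0⟩
      have hxj : x j ≠ 0 := by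
        intro h0
        have h1 := hmax i0 hi0
        simp only [h0, map_zero] at h1
        have h2 : Q.1 (algebraMap K Kb (x i0)) ≠ 0 :=
          (Valuation.ne_zero_iff _).2 ((_root_.map_ne_zero _).2 hxi0)
        exact h2 (le_antisymm h1 zero_le)
      have e1 := val_sum_mul_eq_of_linearIndependent hc Q hP hdeg b.linearIndependent s x hj hxj
        hmax
      have e2 := val_sum_mul_eq_of_linearIndependent hc Q hP hdeg b.linearIndependent s
        (fun i => x i ^ Nat.card k) hj (pow_ne_zero _ hxj) (by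
          intro i hi
          simp only [map_pow]
          exact pow_le_pow_left' (hmax i hi) _)
      rw [e1, e2, map_pow, map_pow]
      exact pow_lt_one_iff_of_nonneg zero_le hq0

end Groth.Agent.S11068
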