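import Groth.Statements.S11071
import Groth.Agent.Lib.FunFldJacobian
import Groth.Agent.Lib.FunFldLC

set_option autoImplicit false
open FunFld

namespace Groth.Agent.S11071

open Groth.Agent.Lib.FunFldRelIdeal Groth.Agent.Lib.FunFldJacobian Groth.Agent.Lib.H40FunFld
  MvPolynomial

/-- the residue map on constants -/
noncomputable def sig {k K : Type*} [Field k] [Field K] [Algebra k K] (P : FunFld.Place k K) :
    k →+* IsLocalRing.ResidueField P.O :=
  (IsLocalRing.residue P.O).comp (algebraMap k P.O)

/-- the residue of an element of the valuation ring close to a constant -/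
theorem residue_eq_sig {k K : Type*} [Field k] [Field K] [Algebra k K]
    (P : FunFld.Place k K) (a : P.O) (c : k) (h : P.1 ((a : K) - algebraMap k K c) < 1) :
    IsLocalRing.residue P.O a = sig P c := by
  have e : sig P c = IsLocalRing.residue P.O ⟨algebraMap k K c, P.2.1 c⟩ := rfl
  rw [e, ← sub_eq_zero, ← map_sub, residue_eq_zero_iff]
  exact h

/-- drop the zeroth coordinate and pass to the residue field -/
noncomputable def theta {k K : Type*} [Field k] [Field K] [Algebra k K] (P : FunFld.Place k K)
    (n : ℕ) : (Fin (n + 1) → k) →ₛₗ[sig P] (Fin n → IsLocalRing.ResidueField P.O) where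
  toFun lam l := sig P (lam l.succ)
  map_add' a b := by ext l; simp
  map_smul' a b := by ext l; simp

/-- dimension is preserved by a semilinear map injective on a subspace -/
theorem finrank_map_theta {k K : Type*} [Field k] [Field K] [Algebra k K]
    (P : FunFld.Place k K) (hsurj : Function.Surjective (sig P)) (n : ℕ)
    (N : Submodule k (Fin (n + 1) → k))
    (hinj : ∀ x ∈ N, theta P n x = 0 → x = 0) :
    haveI : RingHomSurjective (sig P) := ⟨hsurj⟩
    Module.finrank (IsLocalRing.ResidueField P.O) (Submodule.map (theta P n) N) =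
      Module.finrank k N := by
  have : RingHomSurjective (sig P) := ⟨hsurj⟩
  have hbij : Function.Bijective (sig P) := ⟨(sig P).injective, hsurj⟩
  let j₀ : N →+ Submodule.map (theta P n) N :=
    { toFun := fun x => ⟨theta P n x, Submodule.mem_map_of_mem x.2⟩
      map_zero' := by apply Subtype.ext; simp
      map_add' := by intro x y; apply Subtype.ext; simp }
  have hj₀ : Function.Bijective j₀ := by
    constructor
    · rw [injective_iff_map_eq_zero]
      intro x hx
      apply Subtype.ext
      exact hinj x x.2 (congrArg Subtype.val hx)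
    · rintro ⟨y, hy⟩
      obtain ⟨x, hx, rfl⟩ := Submodule.mem_map.1 hy
      exact ⟨⟨x, hx⟩, rfl⟩
  have h := lift_rank_eq_of_equiv_equiv (sig P) (AddEquiv.ofBijective j₀ hj₀) hbij
    (by
      intro a x
      apply Subtype.ext
      show theta P n (a • (x : Fin (n + 1) → k)) = sig P a • theta P n x
      exact map_smulₛₗ _ _ _)
  have h2 := congrArg Cardinal.toNat h
  simp only [Cardinal.toNat_lift] at h2
  exact h2.symm

/-- Over an algebraically closed constant field, let `φ = (φ₀, …, φₙ)`, `n ≥ 1`, be a birational
projective map, `f₁, …, f_r` homogeneous generators of its ideal of homogeneous relations (the ideal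
of the image curve), and `P` a place at which all `φᵢ/φ₀` are integral, with image point `a`. Then
`φ` is nonsingular at `P` if and only if the matrix `(∂fᵢ/∂Xⱼ(a))`, `1 ≤ j ≤ n`, has rank `n - 1`
(entries read in the residue field of `P`). Here the local ring of `φ` at `P` consists of the
quotients of polynomials over `k` in the ratios `φᵢ/φ₀` with denominator a unit at `P`; `φ` is
nonsingular at `P` when this ring is the whole valuation ring. -/
theorem result (k K : Type*) [Field k] [IsAlgClosed k] [Field K] [Algebra k K]
    (hK : FunFld.IsFunctionField k K) {n : ℕ} (hn : 1 ≤ n)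
    (φ : Fin (n + 1) → K) (hφ : LinearIndependent k φ)
    (hbir : IntermediateField.adjoin k (Set.range fun i => φ i / φ 0) = ⊤)
    (P : FunFld.Place k K) (hP : ∀ i, P.1 (φ i) ≤ P.1 (φ 0)) {r : ℕ}
    (f : Fin r → MvPolynomial (Fin (n + 1)) k)
    (hhom : ∀ i, (f i).IsHomogeneous (f i).totalDegree)
    (hgen : Ideal.span (Set.range f) =
      RingHom.ker (MvPolynomial.aeval fun i => Polynomial.C (φ i) * Polynomial.X))
    (M : Matrix (Fin r) (Fin n) P.O)
    (hM : ∀ i j, ((M i j : P.O) : K) =
      MvPolynomial.aeval (fun l => φ l / φ 0) (MvPolynomial.pderiv j.succ (f i))) :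
    FunFld.IsNonsingularAt φ P ↔ (M.map (IsLocalRing.residue P.O)).rank = n - 1 := by
  classical
  have hne : ∀ i, φ i ≠ 0 := hφ.ne_zero
  have hu : ∀ i, P.1 (φ i / φ 0) ≤ 1 := fun i =>
    Groth.Agent.Lib.FunFldLocRing.val_ratio_le_one hP i
  choose c hc using fun i => Groth.Agent.Lib.FunFldEmbed.exists_const hK P (φ i / φ 0) (hu i)
  have hpt : IsPoint φ P 0 c := ⟨hne 0, hP, hc⟩
  have hc0 := hpt.apply_self
  have hrel := relSpace_eq_span hpt f hgen
  have hcrit := isNonsingularAt_iff_finrank hK hn hne 0 hbir hpt
  rw [hcrit]
  have hsurj : Function.Surjective (sig P) :=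
    (Groth.Agent.Lib.FunFldLC.algebraMap_residue_bijective hK P).2
  have hinj : Function.Injective (sig P) := (sig P).injective
  have : RingHomSurjective (sig P) := ⟨hsurj⟩
  -- the rows of the reduced matrix
  have hrow : ∀ i, (M.map (IsLocalRing.residue P.O)).row i = theta P n (grad c (f i)) := by
    intro i
    ext l
    show IsLocalRing.residue P.O (M i l) = sig P (grad c (f i) l.succ)
    rw [grad_apply]
    apply residue_eq_sig
    rw [hM i l]
    exact val_aeval_sub_lt_one P _ c hc _
  have hspan : Submodule.span (IsLocalRing.ResidueField P.O)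
      (Set.range (M.map (IsLocalRing.residue P.O)).row) =
      Submodule.map (theta P n) (relSpace φ c) := by
    rw [hrel, Submodule.map_span, ← Set.range_comp]
    congr 1
    ext v
    simp only [Set.mem_range, Function.comp_apply, hrow]
  rw [Matrix.rank_eq_finrank_span_row, hspan]
  -- `theta` is injective on the relation space
  have hinjOn : ∀ lam ∈ relSpace φ c, theta P n lam = 0 → lam = 0 := by
    intro lam hlam h0
    have h1 : ∀ l : Fin n, lam l.succ = 0 := by
      intro l
      have := congrFun h0 l
      exact hinj (by rw [map_zero]; exact this)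
    have h2 := dot_eq_zero_of_mem_relSpace hpt hlam
    rw [Fin.sum_univ_succ, hc0, mul_one] at h2
    simp only [h1, zero_mul, Finset.sum_const_zero, add_zero] at h2
    ext l
    refine Fin.cases ?_ ?_ l
    · exact h2
    · exact h1
  rw [finrank_map_theta P hsurj n _ hinjOn]

end Groth.Agent.S11071
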