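import Groth.Statements.S11072
import Groth.Agent.Lib.FunFldJacobian

set_option autoImplicit false
open FunFld

namespace Groth.Agent.S11072

open Groth.Agent.Lib.FunFldRelIdeal Groth.Agent.Lib.FunFldJacobian Groth.Agent.Lib.H40FunFld
  MvPolynomial

theorem nondeg {k K : Type*} [Field k] [Field K] [Algebra k K] {φ : Fin 3 → K}
    (hφ : LinearIndependent k φ) :
    ∀ (j : Fin 3) (c : Fin 3 → k), ∃ i, φ i ≠ c i • φ j := by
  classical
  intro j c
  obtain ⟨i, hij⟩ : ∃ i : Fin 3, i ≠ j := ⟨j + 1, by fin_cases j <;> decide⟩
  refine ⟨i, fun h => ?_⟩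
  have h1 := Fintype.linearIndependent_iff.1 hφ
    (Pi.single i 1 - c i • Pi.single j 1) (by
      simp only [Pi.sub_apply, Pi.smul_apply, sub_smul, Finset.sum_sub_distrib, smul_eq_mul]
      rw [Finset.sum_eq_single i (by intro b _ hb; simp [Pi.single_apply, hb])
        (by intro h; exact absurd (Finset.mem_univ _) h),
        Finset.sum_eq_single j (by intro b _ hb; simp [Pi.single_apply, hb])
        (by intro h; exact absurd (Finset.mem_univ _) h)]
      simp only [Pi.single_eq_same, one_smul, mul_one]
      rw [h, sub_self]) i
  simp [Pi.single_apply, hij] at h1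

/-- the residue of an element of the valuation ring close to a constant -/
theorem residue_eq_algebraMap {k K : Type*} [Field k] [Field K] [Algebra k K]
    (P : FunFld.Place k K) (a : P.O) (c : k) (h : P.1 ((a : K) - algebraMap k K c) < 1) :
    IsLocalRing.residue P.O a = algebraMap k (IsLocalRing.ResidueField P.O) c := by
  rw [algebraMap_residue, ← sub_eq_zero, ← map_sub, residue_eq_zero_iff]
  exact h

/-- Over an algebraically closed constant field, a plane curve with defining irreducible homogeneous
polynomial `f` and birational natural map `φ = (φ₀ : φ₁ : φ₂)` is singular at the point `a = φ(P)`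
(coordinates `(φᵢ/φⱼ)(P)` for an entry `φⱼ` of least order at `P`, read in the residue field) if and
only if `∂f/∂Xᵢ(a) = 0` for `i = 0, 1, 2`. Here `φ` is nonsingular at `P` when its local ring there
(quotients of polynomials over `k` in the `φᵢ/φⱼ` with denominator a unit at `P`) is the whole
valuation ring. -/
theorem result (k K : Type*) [Field k] [IsAlgClosed k] [Field K] [Algebra k K]
    (hK : FunFld.IsFunctionField k K) (φ : Fin 3 → K)
    (hφ : LinearIndependent k φ)
    (hbir : IntermediateField.adjoin k (Set.range fun i => φ i / φ 0) = ⊤)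
    (f : MvPolynomial (Fin 3) k) (hf : Irreducible f) (hhom : f.IsHomogeneous f.totalDegree)
    (hfφ : MvPolynomial.aeval φ f = 0) (P : FunFld.Place k K) (j : Fin 3)
    (hj : ∀ i, P.1 (φ i) ≤ P.1 (φ j)) (a : Fin 3 → P.O) (ha : ∀ i, ((a i : P.O) : K) = φ i / φ j) :
    ¬ FunFld.IsNonsingularAt φ P ↔
      ∀ l : Fin 3, MvPolynomial.aeval (fun i => IsLocalRing.residue P.O (a i))
        (MvPolynomial.pderiv l f) = 0 := by
  classical
  have hne : ∀ i, φ i ≠ 0 := hφ.ne_zero
  have hu : ∀ i, P.1 (φ i / φ j) ≤ 1 := fun i =>
    Groth.Agent.Lib.FunFldLocRing.val_ratio_le_one hj i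
  choose c hc using fun i => Groth.Agent.Lib.FunFldEmbed.exists_const hK P (φ i / φ j) (hu i)
  have hpt : IsPoint φ P j c := ⟨hne j, hj, hc⟩
  -- the right hand side in terms of `c`
  have hres : ∀ i, IsLocalRing.residue P.O (a i) =
      algebraMap k (IsLocalRing.ResidueField P.O) (c i) := fun i =>
    residue_eq_algebraMap P (a i) (c i) (by rw [ha i]; exact hc i)
  have hrhs : ∀ G : MvPolynomial (Fin 3) k,
      MvPolynomial.aeval (fun i => IsLocalRing.residue P.O (a i)) G =
        algebraMap k (IsLocalRing.ResidueField P.O) (MvPolynomial.eval c G) := by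
    intro G
    simp only [hres]
    induction G using MvPolynomial.induction_on with
    | C a => simp
    | add p q hp hq => rw [map_add, map_add, map_add, hp, hq]
    | mul_X p i hp => rw [map_mul, map_mul, map_mul, hp, aeval_X, eval_X]
  have hinj : Function.Injective (algebraMap k (IsLocalRing.ResidueField P.O)) :=
    (algebraMap k (IsLocalRing.ResidueField P.O)).injective
  -- the relation ideal
  have hfm : f ∈ RingHom.ker (relHom k φ) :=
    (mem_ker_relHom_of_isHomogeneous φ hhom).2 hfφ
  have hker := ker_relHom_eq_span_of_prime hK φ (nondeg hφ) hf.prime hfm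
  have hgen : Ideal.span (Set.range fun _ : Fin 1 => f) = RingHom.ker (relHom k φ) := by
    rw [hker, Set.range_const]
  have hrel := relSpace_eq_span hpt (fun _ : Fin 1 => f) hgen
  rw [Set.range_const] at hrel
  have hcrit := isNonsingularAt_iff_finrank hK (n := 2) (by norm_num) hne 0 hbir hpt
  rw [hcrit, hrel]
  constructor
  · intro hfr l
    rw [hrhs]
    by_contra h0
    apply hfr
    have hg : grad c f ≠ 0 := by
      intro hz
      apply h0
      have := congrFun hz l
      rw [grad_apply, Pi.zero_apply] at this
      rw [this, map_zero]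
    exact finrank_span_singleton hg
  · intro hall hfr
    have hg : grad c f = 0 := by
      ext l
      have := hall l
      rw [hrhs] at this
      rw [grad_apply, Pi.zero_apply]
      exact hinj (by rw [this, map_zero])
    rw [hg, Submodule.span_zero_singleton, finrank_bot] at hfr
    norm_num at hfr

end Groth.Agent.S11072
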