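import Groth.Statements.S11073
import Groth.Agent.Lib.FunFldRelIdeal

set_option autoImplicit false
open FunFld

namespace Groth.Agent.S11073

open Groth.Agent.Lib.FunFldRelIdeal in
theorem nondeg {k K : Type*} [Field k] [Field K] [Algebra k K]
    (hK : FunFld.IsFunctionField k K) (x y : K)
    (hxy : IntermediateField.adjoin k ({x, y} : Set K) = ⊤) :
    ∀ (j : Fin 3) (c : Fin 3 → k), ∃ i, ![(1 : K), x, y] i ≠ c i • ![(1 : K), x, y] j := by
  intro j c
  by_contra hcon
  push Not at hcon
  have h0 := hcon 0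
  have h1 := hcon 1
  have h2 := hcon 2
  simp only [Matrix.cons_val_zero, Matrix.cons_val_one, Matrix.cons_val] at h0 h1 h2
  set w := ![(1 : K), x, y] j with hw
  have hc0 : c 0 ≠ 0 := by
    intro h; rw [h, zero_smul] at h0; exact one_ne_zero h0
  have hwk : w = algebraMap k K (c 0)⁻¹ := by
    rw [Algebra.smul_def] at h0
    have h3 : algebraMap k K (c 0) ≠ 0 := by simpa using hc0
    rw [map_inv₀]
    field_simp
    rw [mul_comm]; exact h0.symm
  have hx : x ∈ (⊥ : IntermediateField k K) := by
    rw [IntermediateField.mem_bot]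
    exact ⟨c 1 * (c 0)⁻¹, by rw [h1, hwk, Algebra.smul_def, map_mul]⟩
  have hy : y ∈ (⊥ : IntermediateField k K) := by
    rw [IntermediateField.mem_bot]
    exact ⟨c 2 * (c 0)⁻¹, by rw [h2, hwk, Algebra.smul_def, map_mul]⟩
  have hle : IntermediateField.adjoin k ({x, y} : Set K) ≤ ⊥ := by
    rw [IntermediateField.adjoin_le_iff]
    intro z hz
    rcases hz with rfl | rfl
    · exact hx
    · exact hy
  rw [hxy] at hle
  obtain ⟨t, ht, -⟩ := hK.1
  have htb : t ∈ (⊥ : IntermediateField k K) := hle IntermediateField.mem_top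
  rw [IntermediateField.mem_bot] at htb
  obtain ⟨a, rfl⟩ := htb
  exact ht (isAlgebraic_algebraMap a)

/-- Over an algebraically closed constant field, the ideal of a projective plane curve — here the curve
with function field `K = k(x, y)`, whose ideal is the kernel of `X₀ ↦ T, X₁ ↦ xT, X₂ ↦ yT` into
`K[T]` — is principal, with an irreducible homogeneous generator. -/
theorem result
    (k K : Type*) [Field k] [IsAlgClosed k] [Field K] [Algebra k K]
    (hK : FunFld.IsFunctionField k K) (x y : K)
    (hxy : IntermediateField.adjoin k ({x, y} : Set K) = ⊤) :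
    ∃ f : MvPolynomial (Fin 3) k, Irreducible f ∧ f.IsHomogeneous f.totalDegree ∧
      RingHom.ker (MvPolynomial.aeval fun i => Polynomial.C (![(1 : K), x, y] i) * Polynomial.X) =
        Ideal.span {f} := by
  have hnz := Groth.Agent.Lib.FunFldRelIdeal.exists_relation hK x y
  obtain ⟨F, hF0, hFm⟩ := hnz
  have hbot : RingHom.ker (Groth.Agent.Lib.FunFldRelIdeal.relHom k ![(1 : K), x, y]) ≠ ⊥ := by
    intro h; rw [h] at hFm; exact hF0 hFm
  obtain ⟨p, hpm, hp⟩ := Ideal.IsPrime.exists_mem_prime_of_ne_bot inferInstance hbot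
  have hker := Groth.Agent.Lib.FunFldRelIdeal.ker_relHom_eq_span_of_prime hK _
    (nondeg hK x y hxy) hp hpm
  refine ⟨p, hp.irreducible, ?_, hker⟩
  exact Groth.Agent.Lib.FunFldRelIdeal.isHomogeneous_of_span_eq hker
    (fun F hF d => Groth.Agent.Lib.FunFldRelIdeal.homogeneousComponent_mem_ker _ hF d)

end Groth.Agent.S11073
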