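-- Statement S11075.
import Groth.Statements.S11075
import Groth.Agent.Lib.H40FunFld
import Mathlib

set_option autoImplicit false
open FunFld

namespace Groth.Agent.S11075

open Groth.Agent.Lib.H40FunFld

theorem finite_lt_one {k K : Type*} [Field k] [Field K] [Algebra k K]
    (hK : FunFld.IsFunctionField k K) {y : K} (hy : y ≠ 0) :
    {P : FunFld.Place k K | P.1 y < 1}.Finite := by
  refine (finite_support_ord hK y).subset ?_
  intro P hP
  exact (ord_ne_zero_iff P hy).2 (ne_of_lt hP)

theorem aeval_smul_homog {k K : Type*} [Field k] [Field K] [Algebra k K] {σ : Type*}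
    (g : MvPolynomial σ k) (d : ℕ) (hg : g.IsHomogeneous d) (c : K) (x : σ → K) :
    MvPolynomial.aeval (fun i => c * x i) g = c ^ d * MvPolynomial.aeval x g := by
  rw [MvPolynomial.aeval_def, MvPolynomial.aeval_def, MvPolynomial.eval₂_eq, MvPolynomial.eval₂_eq,
    Finset.mul_sum]
  refine Finset.sum_congr rfl ?_
  intro m hm
  have hdeg : m.degree = d := by
    by_contra hne
    exact (MvPolynomial.mem_support_iff.1 hm) (hg.coeff_eq_zero hne)
  have : ∏ i ∈ m.support, (c * x i) ^ m i = c ^ d * ∏ i ∈ m.support, x i ^ m i := by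
    simp_rw [mul_pow]
    rw [Finset.prod_mul_distrib, Finset.prod_pow_eq_pow_sum]
    congr 2
  rw [this]
  ring


theorem sub_const_ne_zero {k K : Type*} [Field k] [Field K] [Algebra k K] {ι : Type*} [Fintype ι]
    [DecidableEq ι] (φ : ι → K) (hφ : LinearIndependent k φ) {i j : ι} (hij : i ≠ j) (c : k) :
    φ i / φ j - algebraMap k K c ≠ 0 := by
  intro h
  have hj : φ j ≠ 0 := hφ.ne_zero j
  have h1 : φ i - c • φ j = 0 := by
    rw [sub_eq_zero] at h
    rw [Algebra.smul_def, ← h, div_mul_cancel₀ _ hj, sub_self]
  have h2 := Fintype.linearIndependent_iff.1 hφ (Pi.single i 1 - Pi.single j c) (by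
    simp only [Pi.sub_apply, sub_smul, Finset.sum_sub_distrib, Pi.single_apply, ite_smul, one_smul,
      zero_smul, Finset.sum_ite_eq', Finset.mem_univ, if_true]
    exact h1) i
  simp [Pi.single_apply, hij] at h2

/-- Over an algebraically closed constant field, let `φ = (φ₀, …, φₙ)`, `n ≥ 1`, be a projective map
onto the curve `V`. (a) A homogeneous `g` not vanishing identically on `V` vanishes at the image
point of only finitely many places (so a closed set not containing `V` meets `V` in a finite set);
(b) each fibre of `φ` is finite. Here `g` vanishes at `φ(P)` when `g(φ₀/φⱼ, …, φₙ/φⱼ)` lies in the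
maximal ideal of `P` for an entry `φⱼ` of least order at `P`. Two places have the same image point
when some entry `φⱼ` has least order at both and each `φᵢ/φⱼ` is congruent to one constant modulo
both maximal ideals. -/
theorem result (k K : Type*) [Field k] [IsAlgClosed k] [Field K] [Algebra k K]
    (hK : FunFld.IsFunctionField k K) {n : ℕ} (hn : 1 ≤ n)
    (φ : Fin (n + 1) → K) (hφ : LinearIndependent k φ) :
    (∀ g : MvPolynomial (Fin (n + 1)) k, g.IsHomogeneous g.totalDegree →
      MvPolynomial.aeval φ g ≠ 0 →
        {P : FunFld.Place k K | ∃ j, φ j ≠ 0 ∧ (∀ i, P.1 (φ i) ≤ P.1 (φ j)) ∧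
          P.1 (MvPolynomial.aeval (fun i => φ i / φ j) g) < 1}.Finite) ∧
    ∀ P : FunFld.Place k K, {Q : FunFld.Place k K | FunFld.SameImage φ P Q}.Finite := by
  constructor
  · intro g hg hne
    have hfin : (⋃ j : Fin (n + 1), {P : FunFld.Place k K | φ j ≠ 0 ∧
        P.1 (MvPolynomial.aeval (fun i => φ i / φ j) g) < 1}).Finite := by
      refine Set.finite_iUnion fun j => ?_
      by_cases hj : φ j = 0
      · convert Set.finite_empty
        rw [Set.eq_empty_iff_forall_notMem]
        rintro P ⟨h, -⟩
        exact h hj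
      · have hy : MvPolynomial.aeval (fun i => φ i / φ j) g ≠ 0 := by
          have : (fun i => φ i / φ j) = fun i => (φ j)⁻¹ * φ i := by
            funext i; rw [div_eq_inv_mul]
          rw [this, aeval_smul_homog g _ hg]
          exact mul_ne_zero (pow_ne_zero _ (inv_ne_zero hj)) hne
        refine (finite_lt_one hK hy).subset ?_
        rintro P ⟨-, h⟩
        exact h
    refine hfin.subset ?_
    rintro P ⟨j, hj, -, h⟩
    exact Set.mem_iUnion.2 ⟨j, hj, h⟩
  · intro P
    have hfin : (⋃ j : Fin (n + 1), {Q : FunFld.Place k K | φ j ≠ 0 ∧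
        ∀ i, ∃ c : k, P.1 (φ i / φ j - algebraMap k K c) < 1 ∧
          Q.1 (φ i / φ j - algebraMap k K c) < 1}).Finite := by
      refine Set.finite_iUnion fun j => ?_
      haveI : Nontrivial (Fin (n + 1)) := Fin.nontrivial_iff_two_le.2 (by omega)
      obtain ⟨i, hij⟩ := exists_ne j
      by_cases hc : ∃ c : k, P.1 (φ i / φ j - algebraMap k K c) < 1
      · obtain ⟨c₀, hc₀⟩ := hc
        refine (finite_lt_one hK (sub_const_ne_zero φ hφ hij c₀)).subset ?_
        rintro Q ⟨-, h⟩
        obtain ⟨c, hPc, hQc⟩ := h i
        have hcc : c = c₀ := by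
          by_contra hne
          have h1 : P.1 (algebraMap k K (c - c₀)) = 1 := val_algebraMap P (sub_ne_zero.2 hne)
          have h2 : algebraMap k K (c - c₀) =
              (φ i / φ j - algebraMap k K c₀) - (φ i / φ j - algebraMap k K c) := by
            rw [map_sub]; ring
          rw [h2] at h1
          have h3 := P.1.map_sub (φ i / φ j - algebraMap k K c₀) (φ i / φ j - algebraMap k K c)
          rw [h1] at h3
          exact absurd h3 (not_le.2 (max_lt hc₀ hPc))
        subst hcc
        exact hQc
      · convert Set.finite_empty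
        rw [Set.eq_empty_iff_forall_notMem]
        rintro Q ⟨-, h⟩
        obtain ⟨c, hPc, -⟩ := h i
        exact hc ⟨c, hPc⟩
    refine hfin.subset ?_
    rintro Q ⟨j, hj, -, -, h⟩
    exact Set.mem_iUnion.2 ⟨j, hj, h⟩

end Groth.Agent.S11075
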