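-- Statement S11074.
import Groth.Statements.S11074
import Groth.Agent.S11075
import Groth.Agent.S11078
import Groth.Agent.Lib.H40FunFldApprox
import Mathlib

set_option autoImplicit false
open FunFld

namespace Groth.Agent.S11074

open Groth.Agent.Lib.H40FunFld

/-- Second-order Taylor expansion modulo the square of an ideal. -/
theorem taylor2 {k A σ : Type*} [Field k] [CommRing A] [Algebra k A] [Fintype σ] [DecidableEq σ]
    (I : Ideal A) (a : σ → k) (h : σ → A) (hh : ∀ i, h i ∈ I) (f : MvPolynomial σ k) :
    MvPolynomial.aeval (fun i => algebraMap k A (a i) + h i) f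
      - algebraMap k A (MvPolynomial.eval a f)
      - ∑ i, algebraMap k A (MvPolynomial.eval a (MvPolynomial.pderiv i f)) * h i ∈ I ^ 2 := by
  induction f using MvPolynomial.induction_on with
  | C r =>
    simp
  | add p q hp hq =>
    have : MvPolynomial.aeval (fun i => algebraMap k A (a i) + h i) (p + q)
      - algebraMap k A (MvPolynomial.eval a (p + q))
      - ∑ i, algebraMap k A (MvPolynomial.eval a (MvPolynomial.pderiv i (p + q))) * h i
      = (MvPolynomial.aeval (fun i => algebraMap k A (a i) + h i) p
      - algebraMap k A (MvPolynomial.eval a p)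
      - ∑ i, algebraMap k A (MvPolynomial.eval a (MvPolynomial.pderiv i p)) * h i)
      + (MvPolynomial.aeval (fun i => algebraMap k A (a i) + h i) q
      - algebraMap k A (MvPolynomial.eval a q)
      - ∑ i, algebraMap k A (MvPolynomial.eval a (MvPolynomial.pderiv i q)) * h i) := by
      simp only [map_add, add_mul, Finset.sum_add_distrib]
      ring
    rw [this]
    exact Ideal.add_mem _ hp hq
  | mul_X p n hp =>
    set F := MvPolynomial.aeval (fun i => algebraMap k A (a i) + h i) p with hF
    set f0 := algebraMap k A (MvPolynomial.eval a p) with hf0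
    set L := ∑ i, algebraMap k A (MvPolynomial.eval a (MvPolynomial.pderiv i p)) * h i with hL
    have hLI : L ∈ I := Ideal.sum_mem _ (fun i _ => Ideal.mul_mem_left _ _ (hh i))
    have hsum : ∑ i, algebraMap k A (MvPolynomial.eval a (MvPolynomial.pderiv i (p * MvPolynomial.X n))) * h i
        = algebraMap k A (a n) * L + f0 * h n := by
      have : ∀ i, algebraMap k A (MvPolynomial.eval a (MvPolynomial.pderiv i (p * MvPolynomial.X n))) * h i
          = algebraMap k A (a n) * (algebraMap k A (MvPolynomial.eval a (MvPolynomial.pderiv i p)) * h i)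
            + (if i = n then f0 * h n else 0) := by
        intro i
        rw [Derivation.leibniz, MvPolynomial.pderiv_X]
        by_cases hin : i = n
        · subst hin
          simp [hf0]
          ring
        · simp [Pi.single_apply, hin, Ne.symm hin]
          ring
      simp_rw [this]
      rw [Finset.sum_add_distrib, ← Finset.mul_sum, Finset.sum_ite_eq' Finset.univ n]
      simp [hL]
    have hexp : MvPolynomial.aeval (fun i => algebraMap k A (a i) + h i) (p * MvPolynomial.X n)
      - algebraMap k A (MvPolynomial.eval a (p * MvPolynomial.X n))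
      - ∑ i, algebraMap k A (MvPolynomial.eval a (MvPolynomial.pderiv i (p * MvPolynomial.X n))) * h i
      = L * h n + (F - f0 - L) * (algebraMap k A (a n) + h n) := by
      rw [hsum]
      simp only [map_mul, MvPolynomial.aeval_X, MvPolynomial.eval_X]
      ring
    rw [hexp]
    refine Ideal.add_mem _ ?_ (Ideal.mul_mem_right _ _ hp)
    rw [pow_two]
    exact Ideal.mul_mem_mul hLI (hh n)


/-- The inclusion of the valuation ring as a `k`-algebra homomorphism. -/
def incl {k K : Type*} [Field k] [Field K] [Algebra k K] (P : FunFld.Place k K) : P.O →ₐ[k] K :=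
  { P.O.subtype with commutes' := fun _ => rfl }

/-- The residue map as a `k`-algebra homomorphism. -/
noncomputable def resA {k K : Type*} [Field k] [Field K] [Algebra k K] (P : FunFld.Place k K) :
    P.O →ₐ[k] IsLocalRing.ResidueField P.O :=
  { IsLocalRing.residue P.O with commutes' := fun _ => rfl }

theorem val_le_of_mem_sq {k K : Type*} [Field k] [Field K] [Algebra k K] (P : FunFld.Place k K)
    (z : P.O) (hz : z ∈ IsLocalRing.maximalIdeal P.O ^ 2) :
    P.1 (z : K) ≤ WithZero.exp (-2) := by
  rw [pow_two] at hz
  refine Submodule.mul_induction_on hz ?_ ?_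
  · intro x hx y hy
    have hx' : P.1 (x : K) < 1 := (residue_eq_zero_iff P x).1
      ((IsLocalRing.residue_eq_zero_iff x).2 hx)
    have hy' : P.1 (y : K) < 1 := (residue_eq_zero_iff P y).1
      ((IsLocalRing.residue_eq_zero_iff y).2 hy)
    rw [lt_one_iff_le_exp_neg_one] at hx' hy'
    have : ((x * y : P.O) : K) = (x : K) * (y : K) := rfl
    rw [this, map_mul]
    calc P.1 (x : K) * P.1 (y : K) ≤ WithZero.exp (-1) * WithZero.exp (-1) :=
          mul_le_mul' hx' hy'
      _ = WithZero.exp (-2) := by rw [← WithZero.exp_add]; norm_num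
  · intro x y hx hy
    have : ((x + y : P.O) : K) = (x : K) + (y : K) := rfl
    rw [this]
    exact (P.1.map_add _ _).trans (max_le hx hy)

/-- Over an algebraically closed constant field, at a nonsingular point `a = φ(P)` of a plane curve
`V(f)` with birational natural map `φ = (φ₀ : φ₁ : φ₂)`, the tangent line is `(∂f/∂X₀(a) : ∂f/∂X₁(a)
: ∂f/∂X₂(a))`: the corresponding linear form, pulled back along `φ` normalized at `P`, vanishes to
order at least `2` at `P` (the tangent line being the one line whose pullback vanishes to order `≥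
2`). Nonsingular at `P` means that the local ring of `φ` at `P` (quotients of polynomials over `k`
in the `φᵢ/φⱼ`, `φⱼ` of least order at `P`, denominator a unit at `P`) is the whole valuation ring. -/
theorem result
    (k K : Type*) [Field k] [IsAlgClosed k] [Field K] [Algebra k K]
    (hK : FunFld.IsFunctionField k K) (φ : Fin 3 → K) (hφ : LinearIndependent k φ)
    (hbir : IntermediateField.adjoin k (Set.range fun i => φ i / φ 0) = ⊤)
    (f : MvPolynomial (Fin 3) k) (hf : Irreducible f) (hhom : f.IsHomogeneous f.totalDegree)
    (hfφ : MvPolynomial.aeval φ f = 0) (P : FunFld.Place k K) (j : Fin 3)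
    (hj : ∀ i, P.1 (φ i) ≤ P.1 (φ j)) (hns : FunFld.IsNonsingularAt φ P) (a : Fin 3 → P.O)
    (ha : ∀ i, ((a i : P.O) : K) = φ i / φ j) (c : Fin 3 → k)
    (hc : ∀ i, algebraMap k (IsLocalRing.ResidueField P.O) (c i) =
      MvPolynomial.aeval (fun l => IsLocalRing.residue P.O (a l)) (MvPolynomial.pderiv i f)) :
    P.1 (∑ i, c i • (φ i / φ j)) ≤ WithZero.exp (-2) := by
  classical
  have hfin : Module.Finite k (IsLocalRing.ResidueField P.O) :=
    finiteDimensional_residueField hK P
  have hint : Algebra.IsIntegral k (IsLocalRing.ResidueField P.O) :=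
    @Algebra.IsIntegral.of_finite k (IsLocalRing.ResidueField P.O) _ _ _ hfin
  have hbij : Function.Bijective (algebraMap k (IsLocalRing.ResidueField P.O)) :=
    IsAlgClosed.algebraMap_bijective_of_isIntegral (k := k)
  choose a0 ha0 using fun l => hbij.2 (IsLocalRing.residue P.O (a l))
  set h' : Fin 3 → P.O := fun l => a l - algebraMap k P.O (a0 l) with hh'
  have hh : ∀ l, h' l ∈ IsLocalRing.maximalIdeal P.O := by
    intro l
    rw [← IsLocalRing.residue_eq_zero_iff, map_sub, ← ha0 l]
    exact sub_self _
  have ha' : a = fun l => algebraMap k P.O (a0 l) + h' l := by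
    funext l; simp [h']
  have hT := fun g => taylor2 (IsLocalRing.maximalIdeal P.O) a0 h' hh g
  have hres : ∀ g : MvPolynomial (Fin 3) k,
      MvPolynomial.aeval (fun l => IsLocalRing.residue P.O (a l)) g =
        algebraMap k (IsLocalRing.ResidueField P.O) (MvPolynomial.eval a0 g) := by
    intro g
    have : (fun l => IsLocalRing.residue P.O (a l)) =
        (algebraMap k (IsLocalRing.ResidueField P.O)) ∘ a0 := by
      funext l; exact (ha0 l).symm
    rw [this]
    have h5 := MvPolynomial.comp_aeval_apply (f := a0) (Algebra.ofId k (IsLocalRing.ResidueField P.O)) g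
    rw [MvPolynomial.aeval_eq_eval] at h5
    exact h5.symm
  have hc' : ∀ i, c i = MvPolynomial.eval a0 (MvPolynomial.pderiv i f) :=
    fun i => hbij.1 ((hc i).trans (hres _))
  have hfa : MvPolynomial.aeval a f = 0 := by
    apply Subtype.ext
    have h1 : ((MvPolynomial.aeval a f : P.O) : K) = MvPolynomial.aeval (fun i => φ i / φ j) f := by
      have := MvPolynomial.comp_aeval_apply (f := a) (incl P) f
      simp only [incl] at this
      have h2 : (fun i => ((a i : P.O) : K)) = fun i => φ i / φ j := funext ha
      rw [← h2]
      exact this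
    rw [h1]
    have h3 : (fun i => φ i / φ j) = fun i => (φ j)⁻¹ * φ i := by
      funext i; rw [div_eq_inv_mul]
    rw [h3, Groth.Agent.S11075.aeval_smul_homog f _ hhom, hfφ, mul_zero]
    rfl
  have hf0 : MvPolynomial.eval a0 f = 0 := by
    apply hbij.1
    rw [map_zero, ← hres f]
    have := MvPolynomial.comp_aeval_apply (f := a) (resA P) f
    rw [hfa, map_zero] at this
    exact this.symm
  have heuler : ∑ i, a0 i * c i = 0 := by
    have := congrArg (MvPolynomial.eval a0) hhom.sum_X_mul_pderiv
    simp only [map_sum, map_mul, MvPolynomial.eval_X, nsmul_eq_mul, hf0, mul_zero] at this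
    simp_rw [hc']
    exact this
  have hmain : (∑ i, c i • a i : P.O) ∈ IsLocalRing.maximalIdeal P.O ^ 2 := by
    have hT' := hT f
    rw [← ha', hfa, hf0, map_zero, sub_zero, zero_sub] at hT'
    have : ∑ i, c i • a i =
        ∑ i, algebraMap k P.O (MvPolynomial.eval a0 (MvPolynomial.pderiv i f)) * h' i := by
      have e1 : ∀ i, c i • a i = algebraMap k P.O (a0 i * c i) +
          algebraMap k P.O (MvPolynomial.eval a0 (MvPolynomial.pderiv i f)) * h' i := by
        intro i
        rw [Algebra.smul_def, hc' i, hh', map_mul]
        ring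
      simp_rw [e1]
      rw [Finset.sum_add_distrib, ← map_sum, heuler, map_zero, zero_add]
    rw [this]
    exact neg_mem_iff.1 hT'
  have hfinal := val_le_of_mem_sq P _ hmain
  have hcoe : ((∑ i, c i • a i : P.O) : K) = ∑ i, c i • (φ i / φ j) := by
    have := map_sum (incl P) (fun i => c i • a i) Finset.univ
    simp only [map_smul] at this
    have h2 : ∀ i, incl P (a i) = φ i / φ j := fun i => ha i
    simp_rw [h2] at this
    exact this
  rw [hcoe] at hfinal
  exact hfinal

end Groth.Agent.S11074
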