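import Groth.Statements.S11076
import Groth.Agent.Lib.FunFldNonsing4

set_option autoImplicit false
open FunFld

namespace Groth.Agent.S11076

/-- Over an algebraically closed constant field, a projective curve (given by a birational projective
map `φ = (φ₀, …, φₙ)`, `n ≥ 1`) is nonsingular at the point `a = φ(P)` if and only if some
hyperplane `∑ cᵢ Xᵢ` has intersection multiplicity `1` with it at `a`: the sum over the places `Q`
of the fibre of `a` of `[φ](Q) + ord_Q(∑ cᵢ φᵢ)` is `1`. Nonsingular at `P` means that the local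
ring of `φ` at `P` (quotients of polynomials over `k` in the `φᵢ/φⱼ`, `φⱼ` of least order at `P`,
denominator a unit at `P`) is the whole valuation ring. Two places have the same image point when
some entry `φⱼ` has least order at both and each `φᵢ/φⱼ` is congruent to one constant modulo both
maximal ideals. -/
theorem result (k K : Type*) [Field k] [IsAlgClosed k] [Field K] [Algebra k K]
    (hK : FunFld.IsFunctionField k K) {n : ℕ} (hn : 1 ≤ n)
    (φ : Fin (n + 1) → K) (hφ : LinearIndependent k φ)
    (hbir : IntermediateField.adjoin k (Set.range fun i => φ i / φ 0) = ⊤)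
    (P : FunFld.Place k K) :
    FunFld.IsNonsingularAt φ P ↔ ∃ c : Fin (n + 1) → k, ∑ i, c i • φ i ≠ 0 ∧
      ∑ᶠ Q ∈ {Q : FunFld.Place k K | FunFld.SameImage φ P Q},
        ((FunFld.mapDiv k φ) Q + Q.ord (∑ i, c i • φ i)) = 1 := by
  constructor
  · intro hns
    obtain ⟨s, hsW, hs0, hsum⟩ :=
      Groth.Agent.Lib.FunFldNonsing4.exists_hyperplane_of_isNonsingularAt hK hn φ hφ P hns
    obtain ⟨c, hc⟩ := (Submodule.mem_span_range_iff_exists_fun k).mp hsW
    exact ⟨c, by rw [hc]; exact hs0, by rw [hc]; exact hsum⟩
  · rintro ⟨c, hc0, hsum⟩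
    exact Groth.Agent.Lib.FunFldNonsing4.isNonsingularAt_of_hyperplane hK hn φ hφ hbir P
      ((Submodule.mem_span_range_iff_exists_fun k).mpr ⟨c, rfl⟩) hc0 hsum

end Groth.Agent.S11076
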