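import Groth.Statements.S11077
import Groth.Agent.Lib.FunFldIntMult

set_option autoImplicit false
open FunFld

namespace Groth.Agent.S11077

/-- Over an algebraically closed constant field, for a plane curve `V(f)` with natural map `(1 : x :
y)`, a polynomial `g` not vanishing on the curve and a finite point `a = (c₀, c₁)` of the curve
below the place `P`, the intersection multiplicity of `V(g)` with the curve at `a` (the sum of
`ord_Q g(x, y)` over the places `Q` with image point `a`) equals `dim_k A/(f, g)` with `A` the local
ring of the plane at `a`. Two places have the same image point when some entry of `(1, x, y)` has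
least order at both and the ratios are congruent to common constants modulo both maximal ideals. -/
theorem result
    (k K : Type*) [Field k] [IsAlgClosed k] [Field K] [Algebra k K]
    (hK : FunFld.IsFunctionField k K) (x y : K)
    (hxy : IntermediateField.adjoin k ({x, y} : Set K) = ⊤) (f g : MvPolynomial (Fin 2) k)
    (hf : Irreducible f) (hfxy : MvPolynomial.aeval ![x, y] f = 0)
    (hgxy : MvPolynomial.aeval ![x, y] g ≠ 0) (P : FunFld.Place k K) (c : Fin 2 → k)
    (hc : ∀ i, P.1 (![x, y] i - algebraMap k K (c i)) < 1)
    (M : Ideal (MvPolynomial (Fin 2) k)) [M.IsMaximal]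
    (hM : M = Ideal.span {MvPolynomial.X 0 - MvPolynomial.C (c 0),
      MvPolynomial.X 1 - MvPolynomial.C (c 1)}) :
    ∑ᶠ Q ∈ {Q : FunFld.Place k K | FunFld.SameImage ![(1 : K), x, y] P Q},
        Q.ord (MvPolynomial.aeval ![x, y] g) =
      (Module.finrank k (Localization.AtPrime M ⧸
        Ideal.map (algebraMap (MvPolynomial (Fin 2) k) (Localization.AtPrime M))
          (Ideal.span {f, g})) : ℤ) := by
  classical
  have hover : Groth.Agent.Lib.FunFldIntMult.Over x y c P := hc
  -- the maximal ideal is the kernel of evaluation
  have hMev : ∀ s, s ∈ M ↔ MvPolynomial.eval c s = 0 := by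
    have hle : M ≤ RingHom.ker (MvPolynomial.eval c) := by
      rw [hM, Ideal.span_le]
      intro s hs
      rcases hs with rfl | rfl
      · simp [RingHom.mem_ker]
      · simp [RingHom.mem_ker]
    have hne : RingHom.ker (MvPolynomial.eval c) ≠ ⊤ := RingHom.ker_ne_top _
    have heq : M = RingHom.ker (MvPolynomial.eval c) := by
      by_contra hne'
      exact hne ((‹M.IsMaximal›.1).2 _ (lt_of_le_of_ne hle hne'))
    intro s
    rw [heq, RingHom.mem_ker]
  have hfin := Groth.Agent.Lib.FunFldIntMult.finite_over hK hxy c
  set F : Finset (FunFld.Place k K) := hfin.toFinset with hFdef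
  have hF : ∀ Q, Q ∈ F ↔ Groth.Agent.Lib.FunFldIntMult.Over x y c Q := fun Q => by
    rw [hFdef, Set.Finite.mem_toFinset]; rfl
  have hset : {Q : FunFld.Place k K | FunFld.SameImage ![(1 : K), x, y] P Q} = (F : Set _) := by
    ext Q
    rw [Set.mem_setOf_eq, Groth.Agent.Lib.FunFldIntMult.sameImage_iff_over hover, Finset.mem_coe,
      hF]
  rw [hset, finsum_mem_coe_finset]
  exact Groth.Agent.Lib.FunFldIntMult.sum_ord_eq_finrank hK hxy f g hf hfxy hgxy hover M hMev F hF

end Groth.Agent.S11077
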