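-- Statement S11079.
import Groth.Statements.S11079
import Mathlib

set_option autoImplicit false
universe u
open CAlg

namespace Groth.Agent.S11079

open Matrix

section
variable (K L : Type u) [Field K] [Field L]
    [Algebra K L] [FiniteDimensional K L] [IsGalois K L] (n : ℕ)
    (B : (L ≃ₐ[K] L) → GL (Fin n) L)

/-- Poincare series vector. -/
noncomputable def bvec (x : Fin n → L) : Fin n → L :=
  ∑ σ : L ≃ₐ[K] L, (B σ : Matrix (Fin n) (Fin n) L) *ᵥ (fun i => σ (x i))

variable {K L n B}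

lemma bvec_fixed (hB : ∀ σ τ : L ≃ₐ[K] L,
      (B σ : Matrix (Fin n) (Fin n) L) * (B τ : Matrix (Fin n) (Fin n) L).map σ = (B (σ * τ) : Matrix (Fin n) (Fin n) L))
    (τ : L ≃ₐ[K] L) (x : Fin n → L) :
    (B τ : Matrix (Fin n) (Fin n) L) *ᵥ (fun i => τ (bvec K L n B x i)) = bvec K L n B x := by
  have h1 : (fun i => τ (bvec K L n B x i)) =
      ∑ σ : L ≃ₐ[K] L, ((B σ : Matrix (Fin n) (Fin n) L).map τ) *ᵥ (fun i => (τ * σ) (x i)) := by
    funext i
    simp only [bvec, Finset.sum_apply, map_sum]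
    refine Finset.sum_congr rfl (fun σ _ => ?_)
    exact RingHom.map_mulVec (τ : L →+* L) _ _ i
  rw [h1, Matrix.mulVec_sum]
  simp only [Matrix.mulVec_mulVec, hB]
  exact Equiv.sum_comp (Equiv.mulLeft τ)
    (fun ρ : L ≃ₐ[K] L => (B ρ : Matrix (Fin n) (Fin n) L) *ᵥ (fun i => ρ (x i)))

lemma span_bvec :
    Submodule.span L (Set.range (bvec K L n B)) = ⊤ := by
  by_contra hne
  obtain ⟨u, hu0, hu⟩ := Submodule.exists_le_ker_of_lt_top _ (lt_top_iff_ne_top.2 hne)
  apply hu0
  have hzero : ∀ x : Fin n → L, u (bvec K L n B x) = 0 := fun x =>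
    hu (Submodule.subset_span ⟨x, rfl⟩)
  -- Dedekind
  have hc : ∀ (x : Fin n → L) (σ : L ≃ₐ[K] L),
      u ((B σ : Matrix (Fin n) (Fin n) L) *ᵥ (fun i => σ (x i))) = 0 := by
    intro x
    have hli := linearIndependent_toLinearMap K L L
    have hli' : LinearIndependent L
        (fun σ : L ≃ₐ[K] L => ((σ : L →ₐ[K] L).toLinearMap : L →ₗ[K] L)) :=
      hli.comp (fun σ : L ≃ₐ[K] L => (σ : L →ₐ[K] L))
        (fun σ τ h => AlgEquiv.coe_toAlgHom_injective h)
    rw [Fintype.linearIndependent_iff] at hli'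
    apply hli'
    ext h
    have h2 := hzero (h • x)
    simp only [bvec, map_sum] at h2
    simp only [LinearMap.coe_sum, Finset.sum_apply, LinearMap.smul_apply, LinearMap.zero_apply,
      AlgHom.toLinearMap_apply, AlgEquiv.coe_toAlgHom, smul_eq_mul]
    rw [← h2]
    refine Finset.sum_congr rfl (fun σ _ => ?_)
    have h3 : (fun i => σ ((h • x) i)) = σ h • (fun i => σ (x i)) := by
      funext i
      simp
    rw [h3, Matrix.mulVec_smul, map_smul, smul_eq_mul, mul_comm]
  refine LinearMap.ext fun y => ?_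
  have h4 := hc ((B 1 : Matrix (Fin n) (Fin n) L)⁻¹ *ᵥ y) 1
  have h5 : (fun i => (1 : L ≃ₐ[K] L) (((B 1 : Matrix (Fin n) (Fin n) L)⁻¹ *ᵥ y) i)) =
      (B 1 : Matrix (Fin n) (Fin n) L)⁻¹ *ᵥ y := by
    funext i; simp
  rw [h5, Matrix.mulVec_mulVec] at h4
  have h6 : (B 1 : Matrix (Fin n) (Fin n) L) * (B 1 : Matrix (Fin n) (Fin n) L)⁻¹ = 1 := by
    rw [← Matrix.coe_units_inv]
    exact_mod_cast (B 1).mul_inv
  rw [h6, Matrix.one_mulVec] at h4
  simpa using h4

theorem hilbert90_GL (hB : ∀ σ τ : L ≃ₐ[K] L,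
      (B σ : Matrix (Fin n) (Fin n) L) * (B τ : Matrix (Fin n) (Fin n) L).map σ = (B (σ * τ) : Matrix (Fin n) (Fin n) L)) :
    ∃ A : GL (Fin n) L, ∀ σ : L ≃ₐ[K] L,
      (B σ : Matrix (Fin n) (Fin n) L) = ((A⁻¹ : GL (Fin n) L) : Matrix (Fin n) (Fin n) L) * (A : Matrix (Fin n) (Fin n) L).map σ := by
  classical
  obtain ⟨T, hTsub, hTspan, hTli⟩ := exists_linearIndependent L (Set.range (bvec K L n B))
  rw [span_bvec] at hTspan
  let bas : Module.Basis T L (Fin n → L) := Module.Basis.mk hTli (by simp [hTspan])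
  let : Fintype T := FiniteDimensional.fintypeBasisIndex bas
  have hcard : Fintype.card T = n := by
    rw [← Module.finrank_eq_card_basis bas, Module.finrank_fin_fun]
  let e : T ≃ Fin n := Fintype.equivFinOfCardEq hcard
  have hx : ∀ c : Fin n, ∃ x : Fin n → L, bvec K L n B x = (e.symm c : Fin n → L) :=
    fun c => hTsub (e.symm c).2
  choose x hx using hx
  let A' : Matrix (Fin n) (Fin n) L := Matrix.of fun r c => bvec K L n B (x c) r
  have hcol : A'.col = fun c => (e.symm c : Fin n → L) := by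
    funext c
    rw [← hx c]
    rfl
  have hunit : IsUnit A' := by
    rw [← Matrix.linearIndependent_cols_iff_isUnit, hcol]
    exact hTli.comp (fun c => e.symm c) e.symm.injective
  have hfix : ∀ τ : L ≃ₐ[K] L, (B τ : Matrix (Fin n) (Fin n) L) * A'.map τ = A' := by
    intro τ
    ext r c
    have := congr_fun (bvec_fixed hB τ (x c)) r
    simpa [Matrix.mul_apply, Matrix.mulVec, dotProduct, A'] using this
  obtain ⟨A0, hA0⟩ := hunit
  refine ⟨A0⁻¹, fun σ => ?_⟩
  rw [inv_inv, hA0]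
  have hinv : ((A0⁻¹ : GL (Fin n) L) : Matrix (Fin n) (Fin n) L).map σ * A'.map σ = 1 := by
    have h7 : ((A0⁻¹ : GL (Fin n) L) : Matrix (Fin n) (Fin n) L) * A' = 1 := by
      rw [← hA0]
      exact_mod_cast A0.inv_mul
    have h8 : (((A0⁻¹ : GL (Fin n) L) : Matrix (Fin n) (Fin n) L) * A').map σ =
        ((A0⁻¹ : GL (Fin n) L) : Matrix (Fin n) (Fin n) L).map σ * A'.map σ := by
      ext i j
      simp [Matrix.mul_apply, map_sum]
    rw [← h8, h7]
    ext i j
    by_cases hij : i = j <;> simp [Matrix.one_apply, hij]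
  calc (B σ : Matrix (Fin n) (Fin n) L)
      = (B σ : Matrix (Fin n) (Fin n) L) * (A'.map σ * ((A0⁻¹ : GL (Fin n) L) : Matrix (Fin n) (Fin n) L).map σ) := by
        rw [mul_eq_one_comm.1 hinv, Matrix.mul_one]
    _ = A' * ((A0⁻¹ : GL (Fin n) L) : Matrix (Fin n) (Fin n) L).map σ := by
        rw [← Matrix.mul_assoc, hfix]
end


/-- Let L/K be a finite Galois extension of fields, n a natural number, and B a map from the Galois
group of L over K to the invertible n × n matrices over L such that B(σ) · σ(B(τ)) = B(στ) for all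
σ, τ, where σ acts on matrices entrywise and στ is the automorphism applying τ first. Then there is
an invertible matrix A over L with B(σ) = A⁻¹ · σ(A) for every σ; that is, every 1-cocycle of the
Galois group with values in GL_n(L) is a coboundary. -/
theorem result (K L : Type u) [Field K] [Field L]
    [Algebra K L] [FiniteDimensional K L] [IsGalois K L] (n : ℕ)
    (B : (L ≃ₐ[K] L) → GL (Fin n) L)
    (hB : ∀ σ τ : L ≃ₐ[K] L,
      (B σ : Matrix (Fin n) (Fin n) L) * (B τ : Matrix (Fin n) (Fin n) L).map σ = (B (σ * τ) : Matrix (Fin n) (Fin n) L)) :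
    ∃ A : GL (Fin n) L, ∀ σ : L ≃ₐ[K] L,
      (B σ : Matrix (Fin n) (Fin n) L) = ((A⁻¹ : GL (Fin n) L) : Matrix (Fin n) (Fin n) L) * (A : Matrix (Fin n) (Fin n) L).map σ := by
  exact hilbert90_GL hB

end Groth.Agent.S11079
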