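import Groth.Statements.S4270
import Groth.Agent.Lib.H78Resolve
import Groth.Agent.Lib.H78BiprodFree
import Groth.Agent.Lib.H78AmpleFamily

set_option autoImplicit false
universe u
open CategoryTheory CategoryTheory.Limits AlgebraicGeometry
attribute [local instance] HasDerivedCategory.standard
open KSix

namespace Groth.Agent.S4270

/-- A scheme admitting an ample family of invertible modules has the resolution property: every
quasi-coherent module of finite type is a quotient of a finite locally free module. -/
theorem result (X : Scheme.{u}) (hX : MoreMor.HasAmpleFamily X) :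
    PerfAux.HasResolutionProperty X := by
  intro F hF hF'
  haveI : QuasiSeparatedSpace X := Groth.Agent.Lib.H78AmpleFamily.quasiSeparatedSpace_of_hasAmpleFamily hX
  obtain ⟨hc, hcov⟩ := hX
  haveI := hc
  choose L n s hinv hn hx haff using hcov
  have hQ : ∀ x, PicF.IsInvertible (CohB1.tensorPow (L x) (n x)) := fun x =>
    Groth.Agent.Lib.H78TensorGen.isInvertible_tensorPow (hinv x) (n x)
  obtain ⟨J, hJ, pt, m, Φ, hm, hspan⟩ := Groth.Agent.Lib.H78Resolve.exists_finite_contractions F ⟨hF, hF'⟩
    (fun x => CohB1.tensorPow (L x) (n x)) hQ s hx haff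
  haveI := hJ
  let e : J ≃ Fin (Nat.card J) := Finite.equivFin J
  let N : Fin (Nat.card J) → X.Modules := fun j =>
    RefHull.dual (CohB1.tensorPow (CohB1.tensorPow (L (pt (e.symm j))) (n (pt (e.symm j)))) (m (e.symm j)))
  refine ⟨⨁ N, biproduct.desc (fun j => Φ (e.symm j)), ?_, ?_⟩
  · refine Groth.Agent.Lib.H78BiprodFree.isFinLocFree_biproduct N (fun j => ?_)
    exact Groth.Agent.Lib.H90Invertible.isFinLocFree_of_isInvertible
      (Groth.Agent.Lib.H78Dual.isInvertible_dual
        (Groth.Agent.Lib.H78TensorGen.isInvertible_tensorPow (hQ _) _))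
  · refine Groth.Agent.Lib.H78Resolve.epi_desc_of_stalk_span N (fun j => Φ (e.symm j)) (fun y => ?_)
    rw [eq_top_iff, ← hspan y]
    refine iSup_le (fun p => ?_)
    have h1 : p = e.symm (e p) := (e.symm_apply_apply p).symm
    rw [h1]
    exact le_iSup (fun j => LinearMap.range (Groth.Agent.Lib.ModStalkLin.stalkLin (Φ (e.symm j)) y)) (e p)

end Groth.Agent.S4270
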