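-- Statement S11080.
import Groth.Statements.S11080
import Mathlib

set_option autoImplicit false
universe u
open CAlg

namespace Groth.Agent.S11080

/-- Valuation rings over a curve: let A be a Dedekind domain with fraction field K. A valuation subring
O of K contains A and is different from K if and only if O is the valuation ring of the v-adic
valuation of K at some nonzero prime v of A (equivalently O is the local ring of A at a maximal
ideal, a discrete valuation ring). (The published statement takes A to be the coordinate ring of a
nonsingular affine curve over an algebraically closed field, which is such a Dedekind domain; its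
proof uses only that the local rings of A at nonzero primes are discrete valuation rings and that
nonzero primes are maximal.) -/
theorem result (A K : Type u) [CommRing A]
    [IsDedekindDomain A] [Field K] [Algebra A K] [IsFractionRing A K] (O : ValuationSubring K) :
    ((algebraMap A K).range ≤ O.toSubring ∧ O ≠ ⊤) ↔
      ∃ v : IsDedekindDomain.HeightOneSpectrum A, O = (v.valuation K).valuationSubring := by
  constructor
  · rintro ⟨hA, hO⟩
    let f : A →+* O := (algebraMap A K).codRestrict O.toSubring (fun a => hA ⟨a, rfl⟩)
    let p : Ideal A := (IsLocalRing.maximalIdeal O).comap f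
    have hp : p.IsPrime := Ideal.comap_isPrime f _
    have hunit : ∀ s : A, s ∉ p → (algebraMap A K s)⁻¹ ∈ O := by
      intro s hs
      have h1 : IsUnit (f s) := by
        by_contra hnu
        exact hs ((IsLocalRing.mem_maximalIdeal _).2 hnu)
      obtain ⟨w, hw⟩ := h1
      have h2 : ((w⁻¹ : Oˣ) : O) * f s = 1 := by rw [← hw]; simp
      have h3 : (((w⁻¹ : Oˣ) : O) : K) * algebraMap A K s = 1 := by
        have := congr_arg (Subtype.val) h2
        simpa [f] using this
      have h4 : (algebraMap A K s)⁻¹ = (((w⁻¹ : Oˣ) : O) : K) := by
        rw [eq_comm, ← mul_eq_one_iff_eq_inv₀]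
        · exact h3
        · intro h0; rw [h0, mul_zero] at h3; exact zero_ne_one h3
      rw [h4]
      exact ((w⁻¹ : Oˣ) : O).2
    have hp0 : p ≠ ⊥ := by
      intro h0
      apply hO
      rw [eq_top_iff]
      intro x _
      obtain ⟨a, s, hs, rfl⟩ := IsFractionRing.div_surjective (A := A) x
      have hs' : s ∉ p := by
        rw [h0, Ideal.mem_bot]
        exact nonZeroDivisors.ne_zero hs
      rw [div_eq_mul_inv]
      exact O.mul_mem _ _ (hA ⟨a, rfl⟩) (hunit s hs')
    let v : IsDedekindDomain.HeightOneSpectrum A := ⟨p, hp, hp0⟩
    refine ⟨v, ?_⟩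
    rw [← IsDedekindDomain.HeightOneSpectrum.valuationSubringAtPrime_eq_valuationSubring]
    symm
    apply ValuationSubring.eq_of_le_of_ne_top _ _ hO
    rintro x ⟨a, s, hs, rfl⟩
    exact O.mul_mem _ _ (hA ⟨a, rfl⟩) (hunit s hs)
  · rintro ⟨v, rfl⟩
    refine ⟨?_, ?_⟩
    · rintro _ ⟨a, rfl⟩
      exact v.valuation_le_one a
    · simp only [ne_eq, Valuation.valuationSubring_eq_top_iff, not_not]
      infer_instance

end Groth.Agent.S11080
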