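import Groth.Statements.S11081
import Mathlib
import Groth.Agent.S11703

set_option autoImplicit false
universe u
attribute [local instance] FractionRing.liftAlgebra
open CAlg

namespace Groth.Agent.S11081
set_option linter.style.haveILetI false
set_option linter.deprecated false
attribute [local instance] FractionRing.liftAlgebra
open Module Ideal UniqueFactorizationMonoid
namespace H47TrPi
/-- trace of a diagonal endomorphism of a finite product of finite free modules -/
theorem trace_pi_diag {k : Type*} [CommRing k] {ι : Type*} [Fintype ι] [DecidableEq ι]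
    (M : ι → Type*) [∀ i, AddCommGroup (M i)] [∀ i, Module k (M i)] [∀ i, Module.Free k (M i)]
    [∀ i, Module.Finite k (M i)] (f : ∀ i, M i →ₗ[k] M i) :
    LinearMap.trace k (∀ i, M i) (LinearMap.pi fun i => f i ∘ₗ LinearMap.proj i) =
      ∑ i, LinearMap.trace k (M i) (f i) := by
  classical
  let b : ∀ i, Basis (Module.Free.ChooseBasisIndex k (M i)) k (M i) :=
    fun i => Module.Free.chooseBasis k (M i)
  rw [LinearMap.trace_eq_matrix_trace k (Pi.basis b)]
  simp_rw [fun i => LinearMap.trace_eq_matrix_trace k (b i) (f i)]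
  simp only [Matrix.trace, Matrix.diag_apply, LinearMap.toMatrix_apply]
  rw [Fintype.sum_sigma]
  refine Finset.sum_congr rfl fun i _ => Finset.sum_congr rfl fun j _ => ?_
  rw [Pi.basis_repr, Pi.basis_apply]
  simp
end H47TrPi
namespace H47TrLocal
open Groth.Agent.S11703.H47Trace
section
variable {k : Type*} [Field k] {C : Type*} [CommRing C] [Algebra k C]
/-- the `k`-linear endomorphism "multiplication by `y`". -/
noncomputable abbrev act (M : Type*) [AddCommGroup M] [Module C M] [Module k M] [IsScalarTower k C M]
    (y : C) : M →ₗ[k] M := Algebra.lsmul k k M y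
theorem act_apply (M : Type*) [AddCommGroup M] [Module C M] [Module k M] [IsScalarTower k C M]
    (y : C) (m : M) : act (k := k) M y m = y • m := rfl
theorem trace_act_congr {M N : Type*} [AddCommGroup M] [Module C M] [Module k M]
    [IsScalarTower k C M] [AddCommGroup N] [Module C N] [Module k N] [IsScalarTower k C N]
    (e : M ≃ₗ[C] N) (y : C) :
    LinearMap.trace k M (act M y) = LinearMap.trace k N (act N y) := by
  rw [← LinearMap.trace_conj' (act M y) (e.restrictScalars k)]
  congr 1
  ext n
  simp [LinearEquiv.conj_apply, act_apply]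
/-- For a `C`-module `M` (finite over the field `k`) killed by a power of the maximal ideal `Q`,
the trace over `k` of multiplication by `y` on `M` is `m` times that on `C ⧸ Q`, where
`m` is the number of composition factors. -/
theorem local_trace (Q : Ideal C) [Q.IsMaximal] (d : ℕ) :
    ∀ (M : Type u) [AddCommGroup M] [Module C M] [Module k M] [IsScalarTower k C M]
      [Module.Finite k M], Module.finrank k M = d →
      (∃ n, ∀ q ∈ Q ^ n, ∀ m : M, q • m = 0) →
      ∃ m : ℕ, Module.finrank k M = m * Module.finrank k (C ⧸ Q) ∧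
        ∀ y : C, LinearMap.trace k M (act M y) = m • LinearMap.trace k (C ⧸ Q) (act (C ⧸ Q) y) := by
  induction d using Nat.strong_induction_on with
  | _ d ih =>
    intro M _ _ _ _ _ hd hM
    by_cases hsub : Subsingleton M
    · refine ⟨0, ?_, fun y => ?_⟩
      · rw [zero_mul]; exact Module.finrank_zero_of_subsingleton
      · have : act (k := k) M y = 0 := by ext m; exact Subsingleton.elim _ _
        rw [this, map_zero, zero_smul]
    · rw [not_subsingleton_iff_nontrivial] at hsub
      haveI : Module.Finite C M := Module.Finite.of_restrictScalars_finite k C M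
      obtain ⟨N, hN, -⟩ := (eq_top_or_exists_le_coatom (⊥ : Submodule C M)).resolve_left
        (bot_ne_top)
      haveI : IsSimpleModule C (M ⧸ N) := isSimpleModule_iff_isCoatom.mpr hN
      obtain ⟨I, hI, ⟨e⟩⟩ := isSimpleModule_iff_quot_maximal.mp (inferInstance : IsSimpleModule C (M ⧸ N))
      obtain ⟨n, hn⟩ := hM
      have hQI : Q = I := by
        refine Ideal.IsMaximal.eq_of_le inferInstance hI.ne_top ?_
        haveI := hI.isPrime
        refine Ideal.IsPrime.le_of_pow_le (n := n) ?_
        intro q hq
        have h1 : q • (e.symm 1) = 0 := by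
          obtain ⟨m, hm⟩ := N.mkQ_surjective (e.symm 1)
          rw [← hm, ← map_smul, hn q hq m, map_zero]
        have h2 : q • (1 : C ⧸ I) = 0 := by
          have := congrArg e h1
          rwa [map_smul, e.apply_symm_apply, map_zero] at this
        rw [← Ideal.Quotient.eq_zero_iff_mem]
        simpa [Algebra.smul_def] using h2
      subst hQI
      -- the k-linear exact sequence
      let i : N →ₗ[k] M := N.subtype.restrictScalars k
      let p : M →ₗ[k] (M ⧸ N) := N.mkQ.restrictScalars k
      have hi : Function.Injective i := N.injective_subtype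
      have hp : Function.Surjective p := N.mkQ_surjective
      have hex : Function.Exact i p := by
        intro m
        constructor
        · intro hm
          have : m ∈ N := by simpa [p] using hm
          exact ⟨⟨m, this⟩, rfl⟩
        · rintro ⟨x, rfl⟩
          simp [i, p]
      haveI : Module.Finite k N := Module.Finite.of_injective i hi
      haveI : Module.Finite k (M ⧸ N) := Module.Finite.of_surjective p hp
      obtain ⟨E, -, -⟩ := exists_splitting i p hi hp hex
      have hrank : Module.finrank k M = Module.finrank k N + Module.finrank k (M ⧸ N) := by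
        rw [E.finrank_eq, Module.finrank_prod]
      have hquot : Module.finrank k (M ⧸ N) = Module.finrank k (C ⧸ Q) :=
        (e.restrictScalars k).finrank_eq
      have hpos : 0 < Module.finrank k (M ⧸ N) := by
        haveI := IsSimpleModule.nontrivial C (M ⧸ N)
        exact Module.finrank_pos
      obtain ⟨m, hm1, hm2⟩ := ih (Module.finrank k N) (by omega) N rfl
        ⟨n, fun q hq x => Subtype.ext (by simpa using hn q hq x.1)⟩
      refine ⟨m + 1, by rw [hrank, hm1, hquot]; ring, fun y => ?_⟩
      rw [trace_eq_add_of_exact i p hi hp hex (act N y) (act M y) (act (M ⧸ N) y)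
        (by ext x; rfl) (by ext x; rfl), hm2 y, trace_act_congr e y, succ_nsmul]
end
section
variable {k : Type*} [Field k]
theorem local_trace_ring (C : Type u) [CommRing C] [Algebra k C] [Module.Finite k C]
    (Q : Ideal C) [Q.IsMaximal] (n : ℕ) (hn : Q ^ n = ⊥) :
    ∃ m : ℕ, Module.finrank k C = m * Module.finrank k (C ⧸ Q) ∧
      ∀ y : C, Algebra.trace k C y = m • Algebra.trace k (C ⧸ Q) (Ideal.Quotient.mk Q y) := by
  obtain ⟨m, hm1, hm2⟩ := local_trace (k := k) Q (Module.finrank k C) C rfl
    ⟨n, fun q hq x => by rw [hn] at hq; rw [(Submodule.mem_bot _).mp hq, zero_smul]⟩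
  refine ⟨m, hm1, fun y => ?_⟩
  rw [Algebra.trace_apply, Algebra.trace_apply]
  have h1 : Algebra.lmul k C y = act C y := LinearMap.ext fun z => rfl
  have h2 : Algebra.lmul k (C ⧸ Q) (Ideal.Quotient.mk Q y) = act (C ⧸ Q) y := by
    refine LinearMap.ext fun z => ?_
    obtain ⟨z, rfl⟩ := Ideal.Quotient.mk_surjective z
    show Ideal.Quotient.mk Q y * Ideal.Quotient.mk Q z = y • Ideal.Quotient.mk Q z
    rfl
  rw [h1, h2, hm2 y]
/-- If `π : D → T` is a surjection of finite `k`-algebras with maximal nilpotent kernel and
`dim D = n * dim T`, then `Tr_{D/k}(y) = n • Tr_{T/k}(π y)`. -/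
theorem trace_of_nilpotent_ker {D T : Type u} [CommRing D] [CommRing T] [Algebra k D] [Algebra k T]
    [Module.Finite k D] (π : D →ₐ[k] T) (hπ : Function.Surjective π)
    [(RingHom.ker π).IsMaximal] (n : ℕ) (hnil : (RingHom.ker π) ^ n = ⊥)
    (hrank : Module.finrank k D = n * Module.finrank k T) (hpos : 0 < Module.finrank k T) (y : D) :
    Algebra.trace k D y = n • Algebra.trace k T (π y) := by
  obtain ⟨m, hm1, hm2⟩ := local_trace_ring (k := k) D (RingHom.ker π) n hnil
  let E : (D ⧸ RingHom.ker π) ≃ₐ[k] T := Ideal.quotientKerAlgEquivOfSurjective hπ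
  have hE : Module.finrank k (D ⧸ RingHom.ker π) = Module.finrank k T := E.toLinearEquiv.finrank_eq
  have hmn : m = n := by
    rw [hE, hrank] at hm1
    exact (Nat.eq_of_mul_eq_mul_right hpos hm1).symm
  rw [hm2 y, hmn, ← Algebra.trace_eq_of_algEquiv E]
  rfl
end
end H47TrLocal
attribute [local instance] Ideal.Quotient.field

theorem step12 (A B : Type u) [CommRing A] [CommRing B]
    [IsDedekindDomain A] [IsDedekindDomain B] [Algebra A B] [Module.Finite A B] [Module.IsTorsionFree A B]
    [Algebra.IsSeparable (FractionRing A) (FractionRing B)]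
    (p : Ideal A) [p.IsMaximal] (hp : p ≠ ⊥) (y : B) :
    Ideal.Quotient.mk p (Algebra.intTrace A B y) =
      ∑ P : (factors (map (algebraMap A B) p)).toFinset,
        Algebra.trace (A ⧸ p) (B ⧸ P.1 ^ ramificationIdx' p P.1) (Ideal.Quotient.mk _ y) := by
  classical
  have hpB : map (algebraMap A B) p ≠ ⊥ := map_ne_bot_of_ne_bot hp
  rw [← Algebra.trace_quotient_eq_of_isDedekindDomain]
  let e := Factors.piQuotientLinearEquiv B p hpB
  rw [Algebra.trace_apply, ← LinearMap.trace_conj' _ e]
  let F : ∀ P : (factors (map (algebraMap A B) p)).toFinset,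
      (B ⧸ P.1 ^ ramificationIdx' p P.1) →ₗ[A ⧸ p] (B ⧸ P.1 ^ ramificationIdx' p P.1) :=
    fun P => (Algebra.lmul (A ⧸ p) (B ⧸ P.1 ^ ramificationIdx' p P.1) (Ideal.Quotient.mk _ y))
  have : e.conj (Algebra.lmul (A ⧸ p) (B ⧸ map (algebraMap A B) p) (Ideal.Quotient.mk _ y)) =
      LinearMap.pi fun P => F P ∘ₗ LinearMap.proj P := by
    refine LinearMap.ext fun x => ?_
    obtain ⟨x, rfl⟩ := e.surjective x
    rw [LinearEquiv.conj_apply_apply, e.symm_apply_apply]
    obtain ⟨x, rfl⟩ := Ideal.Quotient.mk_surjective x
    funext P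
    rfl
  rw [this, H47TrPi.trace_pi_diag]
  rfl

theorem step3 (A B : Type u) [CommRing A] [CommRing B]
    [IsDedekindDomain A] [IsDedekindDomain B] [Algebra A B] [Module.Finite A B] [Module.IsTorsionFree A B]
    (p : Ideal A) [p.IsMaximal] (y : B)
    (P : (factors (map (algebraMap A B) p)).toFinset) :
    Algebra.trace (A ⧸ p) (B ⧸ P.1 ^ ramificationIdx' p P.1) (Ideal.Quotient.mk _ y) =
      ramificationIdx' p P.1 • Algebra.trace (A ⧸ p) (B ⧸ P.1) (Ideal.Quotient.mk _ y) := by
  classical
  have hne : ramificationIdx' p P.1 ≠ 0 := Factors.ramificationIdx_ne_zero p P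
  have hle : P.1 ^ ramificationIdx' p P.1 ≤ P.1 := Ideal.pow_le_self hne
  let π : (B ⧸ P.1 ^ ramificationIdx' p P.1) →ₐ[A ⧸ p] (B ⧸ P.1) :=
    { Ideal.Quotient.factor hle with
      commutes' := by
        intro c
        obtain ⟨c, rfl⟩ := Ideal.Quotient.mk_surjective c
        rfl }
  have hπ : Function.Surjective π := Ideal.Quotient.factor_surjective hle
  have hker : RingHom.ker π = P.1.map (Ideal.Quotient.mk (P.1 ^ ramificationIdx' p P.1)) :=
    Ideal.Quotient.factor_ker hle
  haveI : P.1.IsMaximal := (Factors.isPrime p P).isMaximal (Factors.ne_bot p P)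
  haveI : (RingHom.ker π).IsMaximal := RingHom.ker_isMaximal_of_surjective π hπ
  have hnil : (RingHom.ker π) ^ (ramificationIdx' p P.1) = ⊥ := by
    rw [hker, ← Ideal.map_pow, Ideal.map_quotient_self]
  have hrank := Factors.finrank_pow_ramificationIdx p P
  rw [inertiaDeg'_algebraMap] at hrank
  have hpos : 0 < Module.finrank (A ⧸ p) (B ⧸ P.1) := by
    have := inertiaDeg'_pos p P.1
    rwa [inertiaDeg'_algebraMap] at this
  exact H47TrLocal.trace_of_nilpotent_ker π hπ _ hnil hrank hpos _


/-- Let A be a Dedekind domain, B a Dedekind domain which is a finitely generated torsion-free A-algebra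
whose fraction field is separable over that of A (B is the integral closure of A in a finite
separable extension), p a nonzero prime ideal of A and y an element of B. Then the class modulo p of
the trace of y from B to A is the sum over the primes Q of B lying over p of e(Q|p) times the trace,
from B/Q to A/p, of the class of y modulo Q. -/
theorem result (A B : Type u) [CommRing A] [CommRing B]
    [IsDedekindDomain A] [IsDedekindDomain B] [Algebra A B] [Module.Finite A B] [Module.IsTorsionFree A B]
    [Algebra.IsSeparable (FractionRing A) (FractionRing B)]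
    (p : Ideal A) [p.IsMaximal] (hp : p ≠ ⊥) (y : B) :
    Ideal.Quotient.mk p (Algebra.intTrace A B y) =
      ∑ᶠ Q : p.primesOver B,
        Q.1.ramificationIdx A •
          Algebra.trace (A ⧸ p) (B ⧸ Q.1) (Ideal.Quotient.mk Q.1 y) := by
  classical
  rw [step12 A B p hp y]
  let σ : ↥(p.primesOver B) ≃ ↥(factors (map (algebraMap A B) p)).toFinset :=
    Equiv.subtypeEquivRight (fun P => (IsDedekindDomain.mem_primesOverFinset_iff hp B).symm)
  rw [← finsum_comp_equiv σ.symm, finsum_eq_sum_of_fintype]
  refine Finset.sum_congr rfl fun P _ => ?_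
  rw [step3 A B p y P, ramificationIdx'_eq_ramificationIdx p P.1 hp]
  rfl

end Groth.Agent.S11081
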