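import Groth.Statements.S11082
import Groth.Agent.Lib.PureTransH44
import Mathlib.RingTheory.Smooth.Field
import Mathlib.RingTheory.Unramified.Field

set_option autoImplicit false
universe u v
open CAlg

namespace Groth.Agent.S11082

open Algebra KaehlerDifferential TensorProduct Groth.Agent.Lib.PureTransH44

/-- A field separable algebraic over `K(x)` has `Ω` free on the `d x_i`. -/
theorem exists_basis_of_isSeparable (k : Type u) (F : Type v) (ι : Type v) [Field k] [Field F]
    [Algebra k F] (x : ι → F) (hx : AlgebraicIndependent k x)
    [Algebra.IsSeparable (IntermediateField.adjoin k (Set.range x)) F] :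
    ∃ b : Module.Basis ι F Ω[F⁄k], ∀ i, b i = D k F (x i) := by
  obtain ⟨b, hb⟩ := exists_basis_adjoin k F ι x hx
  have : Algebra.FormallyEtale (IntermediateField.adjoin k (Set.range x)) F :=
    Algebra.FormallyEtale.of_isSeparable _ F
  let e := KaehlerDifferential.tensorKaehlerEquivOfFormallyEtale k
    (IntermediateField.adjoin k (Set.range x)) F
  refine ⟨(b.baseChange F).map e, fun i => ?_⟩
  rw [Module.Basis.map_apply, Module.Basis.baseChange_apply, hb]
  simp only [e, KaehlerDifferential.tensorKaehlerEquivOfFormallyEtale_apply,
    KaehlerDifferential.mapBaseChange_tmul, KaehlerDifferential.map_D, one_smul]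
  rfl


/-- Let k be an algebraically closed field, F a field extension of k which is finitely generated as a
field, and x a transcendence basis of F over k indexed by a type ι. Then F is a separable algebraic
extension of the subfield k(x) generated by the family (x is a separating transcendence basis) if
and only if the differentials d(x i) form a basis of the F-vector space of Kähler differentials of F
over k, i.e. they are linearly independent over F and span it. -/
theorem result (k : Type u) (F : Type v)
    [Field k] [IsAlgClosed k] [Field F] [Algebra k F] (hF : (⊤ : IntermediateField k F).FG)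
    {ι : Type v} (x : ι → F) (hx : IsTranscendenceBasis k x) :
    Algebra.IsSeparable (IntermediateField.adjoin k (Set.range x)) F ↔
      (LinearIndependent F (fun i : ι => KaehlerDifferential.D k F (x i)) ∧
        Submodule.span F (Set.range fun i : ι => KaehlerDifferential.D k F (x i)) = ⊤) := by
  have hess : Algebra.EssFiniteType k F := IntermediateField.fg_top_iff.1 hF
  constructor
  · intro hsep
    obtain ⟨b, hb⟩ := exists_basis_of_isSeparable k F ι x hx.1
    have h1 : (fun i : ι => KaehlerDifferential.D k F (x i)) = b := by
      funext i; exact (hb i).symm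
    rw [h1]
    exact ⟨b.linearIndependent, b.span_eq⟩
  · rintro ⟨-, hspan⟩
    have hess' : Algebra.EssFiniteType (IntermediateField.adjoin k (Set.range x)) F :=
      Algebra.EssFiniteType.of_comp k _ F
    -- the map `F ⊗ Ω[k(x)/k] → Ω[F/k]` is surjective
    have hsurj : Function.Surjective
        (mapBaseChange k (IntermediateField.adjoin k (Set.range x)) F) := by
      rw [← LinearMap.range_eq_top, _root_.eq_top_iff, ← hspan, Submodule.span_le]
      rintro _ ⟨i, rfl⟩
      refine ⟨1 ⊗ₜ D k _ (⟨x i, IntermediateField.subset_adjoin k _ ⟨i, rfl⟩⟩ :
        IntermediateField.adjoin k (Set.range x)), ?_⟩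
      simp only [KaehlerDifferential.mapBaseChange_tmul, KaehlerDifferential.map_D, one_smul]
      rfl
    have hex := KaehlerDifferential.exact_mapBaseChange_map k
      (IntermediateField.adjoin k (Set.range x)) F
    have hsurj2 := KaehlerDifferential.map_surjective k
      (IntermediateField.adjoin k (Set.range x)) F
    have hsub : Subsingleton Ω[F⁄IntermediateField.adjoin k (Set.range x)] := by
      refine ⟨fun a b => ?_⟩
      obtain ⟨a', rfl⟩ := hsurj2 a
      obtain ⟨b', rfl⟩ := hsurj2 b
      obtain ⟨a'', rfl⟩ := hsurj a'
      obtain ⟨b'', rfl⟩ := hsurj b'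
      rw [hex.apply_apply_eq_zero, hex.apply_apply_eq_zero]
    have hunr : Algebra.FormallyUnramified (IntermediateField.adjoin k (Set.range x)) F := ⟨hsub⟩
    exact Algebra.FormallyUnramified.isSeparable _ F

end Groth.Agent.S11082
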