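import Groth.Statements.S11083
import Groth.Agent.Lib.PureTransH44
import Mathlib.RingTheory.Smooth.Field

set_option autoImplicit false
universe u v
open CAlg

namespace Groth.Agent.S11083

open Algebra KaehlerDifferential TensorProduct Groth.Agent.Lib.PureTransH44 Cardinal

/-- A field separable algebraic over `K(x)` has `Ω` of rank `#ι`. -/
theorem rank_of_isSeparable (k : Type u) (F : Type v) (ι : Type v) [Field k] [Field F]
    [Algebra k F] (x : ι → F) (hx : AlgebraicIndependent k x)
    [Algebra.IsSeparable (IntermediateField.adjoin k (Set.range x)) F] :
    Module.rank F (Ω[F⁄k]) = #ι := by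
  obtain ⟨b, -⟩ := exists_basis_adjoin k F ι x hx
  have : Algebra.FormallyEtale (IntermediateField.adjoin k (Set.range x)) F :=
    Algebra.FormallyEtale.of_isSeparable _ F
  let e := KaehlerDifferential.tensorKaehlerEquivOfFormallyEtale k
    (IntermediateField.adjoin k (Set.range x)) F
  let b' : Module.Basis ι F Ω[F⁄k] := (b.baseChange F).map e
  rw [← b'.mk_eq_rank'']


/-- Let k be an algebraically closed field, F a field extension of k which is finitely generated as a
field, and x a transcendence basis of F over k indexed by Fin d. Then the F-vector space of Kähler
differentials of F over k has F-rank exactly d: it is finite-dimensional of dimension the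
transcendence degree. -/
theorem result (k : Type u) (F : Type v)
    [Field k] [IsAlgClosed k] [Field F] [Algebra k F] (hF : (⊤ : IntermediateField k F).FG)
    (d : ℕ) (x : Fin d → F) (hx : IsTranscendenceBasis k x) :
    Module.rank F (Ω[F⁄k]) = d := by
  have hess : Algebra.EssFiniteType k F := IntermediateField.fg_top_iff.1 hF
  obtain ⟨s, hs, hsep⟩ := exists_isTranscendenceBasis_and_isSeparable_of_perfectField k F
  have hsep' : Algebra.IsSeparable
      (IntermediateField.adjoin k (Set.range ((↑) : s → F))) F := by
    convert! hsep <;> simp
  rw [rank_of_isSeparable k F s ((↑) : s → F) hs.1]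
  have h1 := hs.lift_cardinalMk_eq hx
  simpa using h1

end Groth.Agent.S11083
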