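import Groth.Statements.S11086
import Mathlib.RingTheory.DedekindDomain.Different
import Mathlib.RingTheory.Localization.Integral

set_option autoImplicit false
universe u
attribute [local instance] FractionRing.liftAlgebra
open CAlg

namespace Groth.Agent.S11086

/-- Let A be a Dedekind domain, B a Dedekind domain which is a finitely generated torsion-free A-algebra
with fraction field separable over that of A (the integral closure of A in a finite separable
extension), and S a submonoid of A consisting of non-zero-divisors. Let A_S and B_S be localizations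
of A at S and of B at the image of S, with B_S an algebra over A_S compatibly with A and B (so A_S
is integrally closed and B_S is a Dedekind domain, torsion-free over A_S). Then the ideal of B_S
generated by the different of B over A is the different of B_S over A_S. -/
theorem result (A B : Type u) [CommRing A] [CommRing B]
    [IsDedekindDomain A] [IsDedekindDomain B] [Algebra A B] [Module.Finite A B] [Module.IsTorsionFree A B]
    [Algebra.IsSeparable (FractionRing A) (FractionRing B)]
    (S : Submonoid A) (hS : S ≤ nonZeroDivisors A)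
    (Aₛ Bₛ : Type u) [CommRing Aₛ] [CommRing Bₛ] [Algebra A Aₛ] [Algebra B Bₛ] [Algebra Aₛ Bₛ]
    [Algebra A Bₛ] [IsScalarTower A Aₛ Bₛ] [IsScalarTower A B Bₛ]
    [IsLocalization S Aₛ] [IsLocalization (Algebra.algebraMapSubmonoid B S) Bₛ]
    [IsDomain Aₛ] [IsIntegrallyClosed Aₛ] [IsDedekindDomain Bₛ] [Module.IsTorsionFree Aₛ Bₛ] :
    Ideal.map (algebraMap B Bₛ) (differentIdeal A B) = differentIdeal Aₛ Bₛ := by
  classical
  let K := FractionRing A
  let L := FractionRing B
  have hinj : Function.Injective (algebraMap A B) := FaithfulSMul.algebraMap_injective A B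
  have hS' : Algebra.algebraMapSubmonoid B S ≤ (nonZeroDivisors B) := by
    rintro _ ⟨s, hs, rfl⟩
    exact mem_nonZeroDivisors_of_ne_zero
      ((map_ne_zero_iff _ hinj).mpr (nonZeroDivisors.ne_zero (hS hs)))
  -- algebra structures
  let algAK : Algebra Aₛ K := (IsLocalization.lift (M := S) (g := algebraMap A K)
    (fun s => IsUnit.mk0 _ ((map_ne_zero_iff _ (IsFractionRing.injective A K)).mpr
      (nonZeroDivisors.ne_zero (hS s.2))))).toAlgebra
  have : IsScalarTower A Aₛ K := IsScalarTower.of_algebraMap_eq (fun x => by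
    simp [RingHom.algebraMap_toAlgebra])
  let algBL : Algebra Bₛ L := (IsLocalization.lift (M := Algebra.algebraMapSubmonoid B S)
    (g := algebraMap B L)
    (fun s => IsUnit.mk0 _ ((map_ne_zero_iff _ (IsFractionRing.injective B L)).mpr
      (nonZeroDivisors.ne_zero (hS' s.2))))).toAlgebra
  have : IsScalarTower B Bₛ L := IsScalarTower.of_algebraMap_eq (fun x => by
    simp [RingHom.algebraMap_toAlgebra])
  have : IsFractionRing Aₛ K := IsFractionRing.isFractionRing_of_isDomain_of_isLocalization S Aₛ K
  have : IsFractionRing Bₛ L :=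
    IsFractionRing.isFractionRing_of_isDomain_of_isLocalization (Algebra.algebraMapSubmonoid B S) Bₛ L
  let algAL : Algebra Aₛ L := ((algebraMap K L).comp (algebraMap Aₛ K)).toAlgebra
  have : IsScalarTower Aₛ K L := IsScalarTower.of_algebraMap_eq (fun x => rfl)
  have : IsScalarTower Aₛ Bₛ L := by
    refine IsScalarTower.of_algebraMap_eq' ?_
    apply IsLocalization.ringHom_ext S
    ext a
    simp only [RingHom.comp_apply]
    rw [← IsScalarTower.algebraMap_apply A Aₛ Bₛ, IsScalarTower.algebraMap_apply A B Bₛ,
      ← IsScalarTower.algebraMap_apply B Bₛ L]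
    show algebraMap K L (algebraMap Aₛ K (algebraMap A Aₛ a)) = _
    rw [← IsScalarTower.algebraMap_apply A Aₛ K, ← IsScalarTower.algebraMap_apply A K L,
      IsScalarTower.algebraMap_apply A B L]
  have : Module.Finite Aₛ Bₛ := Module.Finite.of_isLocalization A B S
  have : Algebra.IsIntegral Aₛ Bₛ := inferInstance
  have : IsIntegralClosure Bₛ Aₛ L := IsIntegralClosure.of_isIntegrallyClosed Bₛ Aₛ L
  have : Algebra.IsIntegral A B := inferInstance
  have : IsIntegralClosure B A L := IsIntegralClosure.of_isIntegrallyClosed B A L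
  have hD := coeIdeal_differentIdeal A K L B
  have hDs := coeIdeal_differentIdeal Aₛ K L Bₛ
  have hone : (1 : FractionalIdeal (nonZeroDivisors B) L) ≠ 0 := one_ne_zero
  have hdual0 := FractionalIdeal.dual_ne_zero A K hone
  have hDC : (↑(differentIdeal A B) : FractionalIdeal (nonZeroDivisors B) L) * FractionalIdeal.dual A K 1 = 1 := by
    rw [hD, inv_mul_cancel₀ hdual0]
  have hDC' : IsLocalization.coeSubmodule L (differentIdeal A B) *
      Submodule.traceDual A K (1 : Submodule B L) = 1 := by
    have := congrArg (fun I : FractionalIdeal (nonZeroDivisors B) L => (I : Submodule B L)) hDC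
    simpa only [FractionalIdeal.coe_mul, FractionalIdeal.coe_dual_one, FractionalIdeal.coe_coeIdeal,
      FractionalIdeal.coe_one] using this
  -- scalar facts
  have hAL : ∀ a : A, algebraMap A L a = algebraMap K L (algebraMap A K a) := fun a =>
    IsScalarTower.algebraMap_apply A K L a
  have hAL' : ∀ a : A, algebraMap A L a = algebraMap B L (algebraMap A B a) := fun a =>
    IsScalarTower.algebraMap_apply A B L a
  have hBL : ∀ b : B, algebraMap Bₛ L (algebraMap B Bₛ b) = algebraMap B L b := fun b =>
    (IsScalarTower.algebraMap_apply B Bₛ L b).symm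
  have hAK : ∀ a : A, algebraMap Aₛ K (algebraMap A Aₛ a) = algebraMap A K a := fun a =>
    (IsScalarTower.algebraMap_apply A Aₛ K a).symm
  have htr : ∀ (a : A) (y : L), Algebra.trace K L (algebraMap A L a * y) =
      algebraMap A K a * Algebra.trace K L y := by
    intro a y
    rw [hAL, ← Algebra.smul_def, map_smul, smul_eq_mul]
  -- C ⊆ Cₛ
  have hCsub : ∀ x : L, x ∈ Submodule.traceDual A K (1 : Submodule B L) →
      x ∈ Submodule.traceDual Aₛ K (1 : Submodule Bₛ L) := by
    intro x hx
    rw [Submodule.mem_traceDual] at hx ⊢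
    intro a ha
    obtain ⟨β, rfl⟩ := Submodule.mem_one.mp ha
    obtain ⟨⟨b, ⟨_, s, hs, rfl⟩⟩, hb⟩ := IsLocalization.surj (Algebra.algebraMapSubmonoid B S) β
    simp only at hb
    obtain ⟨a0, ha0⟩ := hx (algebraMap B L b) (Submodule.mem_one.mpr ⟨b, rfl⟩)
    refine ⟨IsLocalization.mk' Aₛ a0 ⟨s, hs⟩, ?_⟩
    have hsK : algebraMap A K s ≠ 0 := (map_ne_zero_iff _ (IsFractionRing.injective A K)).mpr
      (nonZeroDivisors.ne_zero (hS hs))
    have h1 : algebraMap Aₛ K (IsLocalization.mk' Aₛ a0 ⟨s, hs⟩) * algebraMap A K s =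
        algebraMap A K a0 := by
      rw [← hAK s, ← map_mul]
      have := IsLocalization.mk'_spec Aₛ a0 (⟨s, hs⟩ : S)
      simp only at this
      rw [this, hAK]
    have hbL : algebraMap B L b = algebraMap A L s * algebraMap Bₛ L β := by
      rw [← hBL b, ← hb, map_mul (algebraMap Bₛ L), hBL, ← hAL', mul_comm]
    have h2 : Algebra.trace K L (x * algebraMap Bₛ L β) * algebraMap A K s = algebraMap A K a0 := by
      rw [ha0, Algebra.traceForm_apply, hbL, mul_left_comm, htr, mul_comm]
    rw [Algebra.traceForm_apply]
    exact mul_right_cancel₀ hsK (h1.trans h2.symm)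
  -- key: clearing denominators
  have hkey : ∀ x : L, x ∈ Submodule.traceDual Aₛ K (1 : Submodule Bₛ L) →
      ∃ s ∈ S, algebraMap A L s * x ∈ Submodule.traceDual A K (1 : Submodule B L) := by
    intro x hx
    rw [Submodule.mem_traceDual] at hx
    obtain ⟨T, hT⟩ := (Module.Finite.fg_top : (⊤ : Submodule A B).FG)
    have hα : ∀ b : B, ∃ α : Aₛ, algebraMap Aₛ K α = Algebra.trace K L (x * algebraMap B L b) := by
      intro b
      have := hx (algebraMap B L b) (Submodule.mem_one.mpr ⟨algebraMap B Bₛ b, hBL b⟩)
      rw [Algebra.traceForm_apply] at this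
      exact this
    choose α hα using hα
    obtain ⟨s, hs⟩ := IsLocalization.exist_integer_multiples_of_finset S (T.image α)
    refine ⟨s, s.2, ?_⟩
    rw [Submodule.mem_traceDual]
    intro a ha
    obtain ⟨b, rfl⟩ := Submodule.mem_one.mp ha
    rw [Algebra.traceForm_apply]
    have hb : b ∈ Submodule.span A (T : Set B) := hT ▸ Submodule.mem_top
    clear ha
    induction hb using Submodule.span_induction with
    | mem b hb =>
      obtain ⟨a1, ha1⟩ := hs (α b) (Finset.mem_image_of_mem α hb)
      refine ⟨a1, ?_⟩
      rw [mul_assoc, htr, ← hα, ← hAK a1, ha1, Algebra.smul_def, map_mul, hAK]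
    | zero => simp
    | add b1 b2 _ _ h1 h2 =>
      rw [map_add, mul_add, map_add]
      exact add_mem h1 h2
    | smul a b _ h1 =>
      rw [Algebra.smul_def, map_mul (algebraMap B L), ← hAL', mul_left_comm, htr]
      exact mul_mem ⟨a, rfl⟩ h1
  -- main
  apply FractionalIdeal.coeIdeal_injective (K := L)
  show (↑(Ideal.map (algebraMap B Bₛ) (differentIdeal A B)) : FractionalIdeal (nonZeroDivisors Bₛ) L) =
    ↑(differentIdeal Aₛ Bₛ)
  rw [hDs]
  apply eq_inv_of_mul_eq_one_left
  apply FractionalIdeal.coeToSubmodule_injective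
  beta_reduce
  rw [FractionalIdeal.coe_mul, FractionalIdeal.coe_dual_one, FractionalIdeal.coe_coeIdeal,
    FractionalIdeal.coe_one]
  apply le_antisymm
  · -- ≤
    rw [Ideal.map, IsLocalization.coeSubmodule_span, Set.image_image, Submodule.mul_le]
    intro m hm n hn
    induction hm using Submodule.span_induction with
    | mem m hm =>
      obtain ⟨d, hd, rfl⟩ := hm
      beta_reduce
      rw [hBL]
      obtain ⟨s, hs, hsn⟩ := hkey n hn
      have h1 : algebraMap B L d * (algebraMap A L s * n) ∈ (1 : Submodule B L) := by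
        rw [← hDC']
        exact Submodule.mul_mem_mul (IsLocalization.mem_coeSubmodule _ _ |>.mpr ⟨d, hd, rfl⟩) hsn
      obtain ⟨b, hb⟩ := Submodule.mem_one.mp h1
      have hunit := IsLocalization.map_units Bₛ
        (⟨algebraMap A B s, s, hs, rfl⟩ : Algebra.algebraMapSubmonoid B S)
      simp only at hunit
      obtain ⟨u, hu⟩ := hunit
      have hu' : algebraMap Bₛ L (↑u⁻¹ : Bₛ) * algebraMap A L s = 1 := by
        rw [hAL', ← hBL, ← hu, ← map_mul (algebraMap Bₛ L), Units.inv_mul, map_one]
      have : algebraMap B L d * n = (↑u⁻¹ : Bₛ) • (algebraMap Bₛ L (algebraMap B Bₛ b)) := by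
        rw [hBL, hb, Algebra.smul_def]
        calc algebraMap B L d * n = (algebraMap Bₛ L (↑u⁻¹ : Bₛ) * algebraMap A L s) *
              (algebraMap B L d * n) := by rw [hu', one_mul]
          _ = _ := by ring
      rw [this]
      exact Submodule.smul_mem _ _ (Submodule.mem_one.mpr ⟨_, rfl⟩)
    | zero => simp
    | add m1 m2 _ _ h1 h2 => rw [add_mul]; exact add_mem h1 h2
    | smul a m _ h1 => rw [smul_mul_assoc]; exact Submodule.smul_mem _ _ h1
  · -- ≥
    rw [Submodule.one_le]
    have h1 : (1 : L) ∈ IsLocalization.coeSubmodule L (differentIdeal A B) *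
        Submodule.traceDual A K (1 : Submodule B L) := by
      rw [hDC']; exact Submodule.one_le.mp le_rfl
    refine Submodule.mul_induction_on h1 ?_ ?_
    · intro m hm n hn
      refine Submodule.mul_mem_mul ?_ (hCsub n hn)
      obtain ⟨d, hd, rfl⟩ := (IsLocalization.mem_coeSubmodule _ _).mp hm
      rw [← hBL]
      exact (IsLocalization.mem_coeSubmodule _ _).mpr ⟨_, Ideal.mem_map_of_mem _ hd, rfl⟩
    · intro x y hx hy
      exact add_mem hx hy

end Groth.Agent.S11086
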