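import Groth.Statements.S11087
import Groth.Agent.Lib.HenselIntegralLocal

set_option autoImplicit false
universe u
attribute [local instance] FractionRing.liftAlgebra
open CAlg

namespace Groth.Agent.S11087

/-- Let A be a complete discrete valuation ring and K a perfect field contained in A such that K → A →
A/m is bijective. Let B be a Dedekind domain which is a finite torsion-free A-algebra with fraction
field separable over that of A (the integral closure of A in a finite separable extension of its
fraction field). Then for every maximal ideal M of B and every b in B there is exactly one element c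
of B which is algebraic over K and congruent to b modulo M; in other words the algebraic closure of
K in B is a subfield mapping isomorphically onto B/M. -/
theorem result (K A B : Type u) [Field K]
    [PerfectField K] [CommRing A] [IsDomain A] [IsDiscreteValuationRing A]
    [IsAdicComplete (IsLocalRing.maximalIdeal A) A]
    [Algebra K A] (hK : Function.Bijective ((IsLocalRing.residue A).comp (algebraMap K A)))
    [CommRing B] [IsDedekindDomain B] [Algebra A B] [Module.Finite A B] [Module.IsTorsionFree A B]
    [Algebra.IsSeparable (FractionRing A) (FractionRing B)] [Algebra K B] [IsScalarTower K A B]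
    (M : Ideal B) [M.IsMaximal] (b : B) :
    ∃! c : B, IsAlgebraic K c ∧ b - c ∈ M := by
  classical
  -- henselian structure
  have hA : HenselianLocalRing A := by
    have h : HenselianRing A (IsLocalRing.maximalIdeal A) := inferInstance
    refine ⟨fun f hf a₀ h₁ h₂ => ?_⟩
    exact h.is_henselian f hf a₀ h₁ (h₂.map _)
  have hint : Algebra.IsIntegral A B := Algebra.IsIntegral.of_finite A B
  have hBloc : IsLocalRing B :=
    Groth.Agent.Lib.HenselIntegralLocal.isLocalRing_of_isDomain_of_isIntegral A B
  have hB : HenselianLocalRing B :=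
    Groth.Agent.Lib.HenselIntegralLocal.henselianLocalRing_of_isIntegral A B
  have hM : M = IsLocalRing.maximalIdeal B := IsLocalRing.eq_maximalIdeal inferInstance
  have hmM : ∀ a ∈ IsLocalRing.maximalIdeal A, algebraMap A B a ∈ M := by
    intro a ha
    rw [hM]
    exact Groth.Agent.Lib.HenselIntegralLocal.map_maximalIdeal_le (A := A) (B := B)
      (Ideal.mem_map_of_mem _ ha)
  let _ : Field (B ⧸ M) := Ideal.Quotient.field M
  -- the ring map `A → K` through the residue field
  let eK : K ≃+* IsLocalRing.ResidueField A := RingEquiv.ofBijective _ hK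
  let ρ : A →+* K := (eK.symm : IsLocalRing.ResidueField A →+* K).comp (IsLocalRing.residue A)
  have hρ : ∀ a : A, a - algebraMap K A (ρ a) ∈ IsLocalRing.maximalIdeal A := by
    intro a
    rw [← Ideal.Quotient.eq]
    change IsLocalRing.residue A a = IsLocalRing.residue A (algebraMap K A (ρ a))
    have : IsLocalRing.residue A (algebraMap K A (ρ a)) = eK (ρ a) := rfl
    rw [this]
    change _ = eK (eK.symm (IsLocalRing.residue A a))
    rw [RingEquiv.apply_symm_apply]
  have hcomp : (algebraMap K (B ⧸ M)).comp ρ = (Ideal.Quotient.mk M).comp (algebraMap A B) := by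
    refine RingHom.ext fun a => ?_
    simp only [RingHom.comp_apply]
    rw [IsScalarTower.algebraMap_apply K B (B ⧸ M), Ideal.Quotient.algebraMap_eq,
      IsScalarTower.algebraMap_apply K A B, eq_comm, Ideal.Quotient.eq, ← map_sub]
    exact hmM _ (hρ a)
  -- residue classes are integral over `K`
  have hintK : ∀ y : B ⧸ M, IsIntegral K y := by
    intro y
    obtain ⟨b', rfl⟩ := Ideal.Quotient.mk_surjective y
    obtain ⟨g, hgm, hg⟩ := Algebra.IsIntegral.isIntegral (R := A) b'
    refine ⟨g.map ρ, hgm.map ρ, ?_⟩
    rw [Polynomial.eval₂_map, hcomp, ← Polynomial.hom_eval₂, hg, map_zero]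
  -- minimal polynomial
  set bbar : B ⧸ M := Ideal.Quotient.mk M b with hbbar
  have hib := hintK bbar
  let f := minpoly K bbar
  have hsep : f.Separable := PerfectField.separable_of_irreducible (minpoly.irreducible hib)
  have hmk : ∀ (p : Polynomial K) (z : B),
      Ideal.Quotient.mk M (Polynomial.eval z (p.map (algebraMap K B))) =
        Polynomial.aeval (Ideal.Quotient.mk M z) p := by
    intro p z
    rw [Polynomial.eval_map, Polynomial.hom_eval₂, Polynomial.aeval_def]
    rfl
  have h1 : Polynomial.eval b (f.map (algebraMap K B)) ∈ IsLocalRing.maximalIdeal B := by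
    rw [← hM, ← Ideal.Quotient.eq_zero_iff_mem, hmk]
    exact minpoly.aeval K bbar
  have h2 : IsUnit (Polynomial.eval b (f.map (algebraMap K B)).derivative) := by
    rw [← IsLocalRing.notMem_maximalIdeal, ← hM, ← Ideal.Quotient.eq_zero_iff_mem,
      Polynomial.derivative_map, hmk]
    exact hsep.aeval_derivative_ne_zero (minpoly.aeval K bbar)
  obtain ⟨c, hc, hcb⟩ := HenselianLocalRing.is_henselian (f.map (algebraMap K B))
    ((minpoly.monic hib).map _) b h1 h2
  have hcalg : IsAlgebraic K c := by
    refine ⟨f, minpoly.ne_zero hib, ?_⟩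
    rw [Polynomial.aeval_def, ← Polynomial.eval_map]
    exact hc
  have hbc : b - c ∈ M := by
    rw [hM, ← neg_sub]
    exact Ideal.neg_mem_iff _ |>.mpr hcb
  refine ⟨c, ⟨hcalg, hbc⟩, ?_⟩
  rintro c' ⟨hc'alg, hbc'⟩
  by_contra hne
  have hx : c' - c ∈ M := by
    have : c' - c = (b - c) - (b - c') := by ring
    rw [this]
    exact Ideal.sub_mem _ hbc hbc'
  have hxint : IsIntegral K (c' - c) :=
    (isAlgebraic_iff_isIntegral.mp hc'alg).sub (isAlgebraic_iff_isIntegral.mp hcalg)
  have hxu : IsUnit (c' - c) := hxint.isUnit (sub_ne_zero.mpr hne)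
  exact (Ideal.IsMaximal.ne_top inferInstance) (Ideal.eq_top_of_isUnit_mem M hx hxu)

end Groth.Agent.S11087
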