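import Groth.Statements.S11088
import Groth.Agent.S11091
import Mathlib.RingTheory.Ideal.Norm.RelNorm
import Mathlib.RingTheory.RamificationInertia.Basic

set_option autoImplicit false
universe u
attribute [local instance] FractionRing.liftAlgebra
open CAlg

namespace Groth.Agent.S11088

/-- Let A be a complete discrete valuation ring with maximal ideal m and B a Dedekind domain which is a
finite torsion-free A-algebra with fraction field separable over that of A (the integral closure of
A in a finite separable extension). Then for every maximal ideal M of B, with f the degree of B/M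
over A/m, and every nonzero x in B, the multiplicity of m in the ideal generated by the norm of x
equals f times the multiplicity of M in the ideal generated by x: v(N(x)) = f · w(x). -/
theorem result (A B : Type u) [CommRing A] [IsDomain A] [IsDiscreteValuationRing A]
    [IsAdicComplete (IsLocalRing.maximalIdeal A) A]
    [CommRing B] [IsDedekindDomain B] [Algebra A B] [Module.Finite A B] [Module.IsTorsionFree A B]
    [Algebra.IsSeparable (FractionRing A) (FractionRing B)]
    (M : Ideal B) [M.IsMaximal] (x : B) (hx : x ≠ 0) :
    emultiplicity (IsLocalRing.maximalIdeal A) (Ideal.span {Algebra.intNorm A B x}) =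
      (M.inertiaDeg A : ℕ∞) * emultiplicity M (Ideal.span {x}) := by
  classical
  obtain ⟨M₀, hM₀, huniq⟩ := Groth.Agent.S11091.result A B
  have hMM : ∀ P : Ideal B, P.IsMaximal → P = M := fun P hP =>
    (huniq P hP).trans (huniq M inferInstance).symm
  set m := IsLocalRing.maximalIdeal A with hm
  have hm0 : m ≠ ⊥ := IsDiscreteValuationRing.not_a_field A
  have : Algebra.IsIntegral A B := inferInstance
  have hMm : M.LiesOver m := by
    constructor
    have : (M.comap (algebraMap A B)).IsMaximal :=
      Ideal.isMaximal_comap_of_isIntegral_of_isMaximal M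
    exact (IsLocalRing.eq_maximalIdeal this).symm
  have hinj : Function.Injective (algebraMap A B) := FaithfulSMul.algebraMap_injective A B
  have hM0 : M ≠ ⊥ := Ideal.ne_bot_of_liesOver_of_ne_bot hm0 M
  have hMprime : Prime M := Ideal.prime_of_isPrime hM0 inferInstance
  have hmprime : Prime m := Ideal.prime_of_isPrime hm0 inferInstance
  -- every nonzero ideal is a power of M
  have hpow : ∀ I : Ideal B, I ≠ ⊥ → ∃ n : ℕ, I = M ^ n := by
    intro I hI
    have h1 := Ideal.prod_normalizedFactors_eq_self hI
    have h2 : ∀ P ∈ UniqueFactorizationMonoid.normalizedFactors I, P = M := by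
      intro P hP
      have hPp := UniqueFactorizationMonoid.prime_of_normalized_factor P hP
      have hP0 : P ≠ ⊥ := hPp.ne_zero
      have : P.IsPrime := Ideal.isPrime_of_prime hPp
      exact hMM P (this.isMaximal hP0)
    rw [Multiset.eq_replicate_of_mem h2, Multiset.prod_replicate] at h1
    exact ⟨_, h1.symm⟩
  obtain ⟨w, hw⟩ := hpow (Ideal.span {x}) (by simpa using hx)
  obtain ⟨s, hs⟩ := Ideal.exists_relNorm_eq_pow_of_isPrime (R := A) M m
  -- compute s = f
  have hmap0 : m.map (algebraMap A B) ≠ ⊥ := by
    rw [Ne, Ideal.map_eq_bot_iff_of_injective hinj]; exact hm0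
  obtain ⟨e, he⟩ := hpow _ hmap0
  have hmul : ∀ (P : Ideal B) (hP : Prime P) (k : ℕ), emultiplicity P (P ^ k) = k := by
    intro P hP k
    exact emultiplicity_pow_self hP.ne_zero hP.not_isUnit k
  have hmulA : ∀ (k : ℕ), emultiplicity m (m ^ k) = k := by
    intro k
    exact emultiplicity_pow_self hmprime.ne_zero hmprime.not_isUnit k
  have he' : M.ramificationIdx A = e := by
    rw [Ideal.IsDedekindDomain.ramificationIdx_eq_multiplicity m M hmap0, he]
    exact multiplicity_eq_of_emultiplicity_eq_some (hmul M hMprime e)
  have hsum := Ideal.sum_ramification_inertia_eq_finrank m B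
  have hsub : Subsingleton (m.primesOver B) := by
    constructor
    rintro ⟨P, hP1, hP2⟩ ⟨Q, hQ1, hQ2⟩
    have hP0 : P ≠ ⊥ := Ideal.ne_bot_of_liesOver_of_ne_bot hm0 P
    have hQ0 : Q ≠ ⊥ := Ideal.ne_bot_of_liesOver_of_ne_bot hm0 Q
    ext1
    exact (hMM P (hP1.isMaximal hP0)).trans (hMM Q (hQ1.isMaximal hQ0)).symm
  have hsum' : M.ramificationIdx A * M.inertiaDeg A = Module.finrank A B := by
    rw [← hsum]
    let M' : m.primesOver B := ⟨M, inferInstance, hMm⟩
    rw [Fintype.sum_subsingleton _ M']
  have hn := Ideal.relNorm_algebraMap B m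
  rw [he, map_pow, hs, ← pow_mul] at hn
  have hse : s * e = Module.finrank A B := by
    have hreg : IsLeftRegular m := (IsLeftCancelMulZero.mul_left_cancel_of_ne_zero hm0)
    exact hreg.pow_injective (fun h => hmprime.not_isUnit (h ▸ isUnit_one)) hn
  have hepos : 0 < e := by
    rw [← he']; exact Ideal.ramificationIdx_pos M A
  have hsf : s = M.inertiaDeg A := by
    rw [he'] at hsum'
    have : e * s = e * M.inertiaDeg A := by rw [hsum', ← hse, mul_comm]
    exact Nat.eq_of_mul_eq_mul_left hepos this
  rw [← Ideal.relNorm_singleton, hw, map_pow, hs, ← pow_mul, hmulA, hmul M hMprime, hsf]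
  push_cast
  rfl

end Groth.Agent.S11088
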