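import Groth.Statements.S11089
import Groth.Agent.Lib.HenselIntegralLocal
import Mathlib.RingTheory.RamificationInertia.Basic
import Mathlib.RingTheory.Polynomial.Eisenstein.Basic
import Mathlib.FieldTheory.Minpoly.IsIntegrallyClosed

set_option autoImplicit false
universe u
attribute [local instance] FractionRing.liftAlgebra
open CAlg

namespace Groth.Agent.S11089

/-- Let A be a complete discrete valuation ring containing a field K with K → A → A/m bijective, and B a
Dedekind domain which is a finite torsion-free A-algebra of rank m with fraction field separable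
over that of A (the integral closure of A in a finite separable extension E of F = Frac A). If the
extension is totally ramified — the maximal ideal M of B has ramification index m — and m is a unit
in A, then some uniformizer u of B (an element of M not in M²) satisfies u^m ∈ A and generates E
over F: its minimal polynomial over A has degree m. -/
theorem result (K A B : Type u) [Field K]
    [CommRing A] [IsDomain A] [IsDiscreteValuationRing A]
    [IsAdicComplete (IsLocalRing.maximalIdeal A) A]
    [Algebra K A] (hK : Function.Bijective ((IsLocalRing.residue A).comp (algebraMap K A)))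
    [CommRing B] [IsDedekindDomain B] [Algebra A B] [Module.Finite A B] [Module.IsTorsionFree A B]
    [Algebra.IsSeparable (FractionRing A) (FractionRing B)]
    (M : Ideal B) [M.IsMaximal] (hram : M.ramificationIdx A = Module.finrank A B)
    (hm : IsUnit ((Module.finrank A B : ℕ) : A)) :
    ∃ u : B, u ∈ M ∧ u ∉ M ^ 2 ∧ u ^ Module.finrank A B ∈ (algebraMap A B).range ∧
      (minpoly A u).natDegree = Module.finrank A B := by
  classical
  set n := Module.finrank A B with hn
  have hA : HenselianLocalRing A := by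
    have h : HenselianRing A (IsLocalRing.maximalIdeal A) := inferInstance
    refine ⟨fun f hf a₀ h₁ h₂ => ?_⟩
    exact h.is_henselian f hf a₀ h₁ (h₂.map _)
  have hint : Algebra.IsIntegral A B := Algebra.IsIntegral.of_finite A B
  have hBloc : IsLocalRing B :=
    Groth.Agent.Lib.HenselIntegralLocal.isLocalRing_of_isDomain_of_isIntegral A B
  have hB : HenselianLocalRing B :=
    Groth.Agent.Lib.HenselIntegralLocal.henselianLocalRing_of_isIntegral A B
  have hM : M = IsLocalRing.maximalIdeal B := IsLocalRing.eq_maximalIdeal inferInstance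
  set m := IsLocalRing.maximalIdeal A with hm_def
  have hm0 : m ≠ ⊥ := IsDiscreteValuationRing.not_a_field A
  have hMm : M.LiesOver m := by
    constructor
    have : (M.comap (algebraMap A B)).IsMaximal :=
      Ideal.isMaximal_comap_of_isIntegral_of_isMaximal M
    exact (IsLocalRing.eq_maximalIdeal this).symm
  have hinj : Function.Injective (algebraMap A B) := FaithfulSMul.algebraMap_injective A B
  have hM0 : M ≠ ⊥ := Ideal.ne_bot_of_liesOver_of_ne_bot hm0 M
  have hBnf : ¬ IsField B := fun h => hM0 (by
    let := h.toField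
    exact (Ideal.eq_bot_or_top M).resolve_right (Ideal.IsMaximal.ne_top ‹M.IsMaximal›))
  have hBdvr : IsDiscreteValuationRing B :=
    ((IsDiscreteValuationRing.TFAE B hBnf).out 2 0).mp ‹IsDedekindDomain B›
  obtain ⟨ϖ, hϖ⟩ := IsDiscreteValuationRing.exists_irreducible B
  obtain ⟨π, hπ⟩ := IsDiscreteValuationRing.exists_irreducible A
  have hMϖ : M = Ideal.span {ϖ} := hM.trans hϖ.maximalIdeal_eq
  have hmπ : m = Ideal.span {π} := hπ.maximalIdeal_eq
  have hMprime : Prime M := Ideal.prime_of_isPrime hM0 inferInstance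
  have hmap0 : m.map (algebraMap A B) ≠ ⊥ := by
    rw [Ne, Ideal.map_eq_bot_iff_of_injective hinj]; exact hm0
  have hnpos : 0 < n := by rw [← hram]; exact Ideal.ramificationIdx_pos M A
  -- m B = M ^ n
  have hmapn : m.map (algebraMap A B) = M ^ n := by
    obtain ⟨k, hk⟩ := IsDiscreteValuationRing.ideal_eq_span_pow_irreducible hmap0 hϖ
    rw [← Ideal.span_singleton_pow, ← hMϖ] at hk
    have h1 : M.ramificationIdx A = k := by
      rw [Ideal.IsDedekindDomain.ramificationIdx_eq_multiplicity m M hmap0, hk]
      exact multiplicity_eq_of_emultiplicity_eq_some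
        (emultiplicity_pow_self hMprime.ne_zero hMprime.not_isUnit k)
    rw [hk, ← h1, hram]
  -- π = ϖ^n * u
  have hassoc : Associated (ϖ ^ n) (algebraMap A B π) := by
    rw [← Ideal.span_singleton_eq_span_singleton, ← Ideal.span_singleton_pow, ← hMϖ, ← hmapn, hmπ,
      Ideal.map_span, Set.image_singleton]
  obtain ⟨u, hu⟩ := hassoc
  -- f = 1
  have hMM : ∀ P : Ideal B, P.IsMaximal → P = M := fun P hP =>
    (IsLocalRing.eq_maximalIdeal hP).trans hM.symm
  have hsum := Ideal.sum_ramification_inertia_eq_finrank m B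
  have hsub : Subsingleton (m.primesOver B) := by
    constructor
    rintro ⟨P, hP1, hP2⟩ ⟨Q, hQ1, hQ2⟩
    have hP0 : P ≠ ⊥ := Ideal.ne_bot_of_liesOver_of_ne_bot hm0 P
    have hQ0 : Q ≠ ⊥ := Ideal.ne_bot_of_liesOver_of_ne_bot hm0 Q
    ext1
    exact (hMM P (hP1.isMaximal hP0)).trans (hMM Q (hQ1.isMaximal hQ0)).symm
  have hsum' : M.ramificationIdx A * M.inertiaDeg A = n := by
    rw [hn, ← hsum]
    let M' : m.primesOver B := ⟨M, inferInstance, hMm⟩
    rw [Fintype.sum_subsingleton _ M']
  have hf1 : M.inertiaDeg A = 1 := by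
    rw [hram] at hsum'
    exact Nat.eq_of_mul_eq_mul_left hnpos (by rw [hsum', mul_one])
  -- residue surjectivity
  have hres : ∀ b : B, ∃ a : A, b - algebraMap A B a ∈ M := by
    intro b
    letI : Field (A ⧸ m) := Ideal.Quotient.field m
    have h1 : Module.finrank (A ⧸ m) (B ⧸ M) = 1 := by
      rw [← Ideal.inertiaDeg_eq_of_isMaximal m M, hf1]
    have h2 := (Algebra.finrank_eq_one_iff_bijective_algebraMap (F := A ⧸ m) (E := B ⧸ M)).mp h1
    obtain ⟨abar, habar⟩ := h2.2 (Ideal.Quotient.mk M b)
    obtain ⟨a, rfl⟩ := Ideal.Quotient.mk_surjective abar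
    refine ⟨a, ?_⟩
    rw [← Ideal.Quotient.eq, ← habar]
    rfl
  -- approximate u by a ∈ A
  obtain ⟨a, ha⟩ := hres (↑u : B)
  have hunotM : (↑u : B) ∉ M := fun h =>
    (Ideal.IsMaximal.ne_top ‹M.IsMaximal›) (Ideal.eq_top_of_isUnit_mem M h u.isUnit)
  have hmM : ∀ x ∈ m, algebraMap A B x ∈ M := by
    intro x hx
    have h1 : m = M.comap (algebraMap A B) := hMm.over
    rw [h1] at hx
    exact hx
  have haunit : IsUnit a := by
    by_contra hna
    have h1 : a ∈ m := (IsLocalRing.mem_maximalIdeal a).mpr hna
    exact hunotM (by simpa using M.add_mem ha (hmM a h1))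
  obtain ⟨a', rfl⟩ := haunit
  set c : B := ↑u * algebraMap A B ↑a'⁻¹ with hc
  have hc1 : c - 1 ∈ M := by
    have : c - 1 = (↑u - algebraMap A B ↑a') * algebraMap A B ↑a'⁻¹ := by
      rw [sub_mul, ← map_mul, Units.mul_inv, map_one]
    rw [this]; exact M.mul_mem_right _ ha
  -- Hensel
  let f : Polynomial B := Polynomial.X ^ n - Polynomial.C c
  have hfm : f.Monic := Polynomial.monic_X_pow_sub_C c hnpos.ne'
  have hfe1 : f.eval 1 ∈ IsLocalRing.maximalIdeal B := by
    rw [← hM]
    have : f.eval 1 = -(c - 1) := by simp [f]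
    rw [this]
    exact M.neg_mem hc1
  have hf' : IsUnit (f.derivative.eval 1) := by
    have : f.derivative.eval 1 = algebraMap A B ((n : ℕ) : A) := by
      simp [f, Polynomial.derivative_X_pow]
    rw [this]
    exact hm.map _
  obtain ⟨v, hv, hv1⟩ := HenselianLocalRing.is_henselian f hfm 1 hfe1 hf'
  have hvn : v ^ n = c := by
    have : f.eval v = 0 := hv
    simpa [f, sub_eq_zero] using this
  have hvnotM : v ∉ M := by
    intro h
    rw [← hM] at hv1
    have : (1 : B) ∈ M := by
      have := M.sub_mem h hv1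
      simpa using this
    exact (Ideal.IsMaximal.ne_top ‹M.IsMaximal›) ((Ideal.eq_top_iff_one M).mpr this)
  have hϖM : ϖ ∈ M := by rw [hMϖ]; exact Ideal.mem_span_singleton_self ϖ
  have hpow : (ϖ * v) ^ n = algebraMap A B (π * ↑a'⁻¹) := by
    rw [mul_pow, hvn, hc, ← mul_assoc, hu, map_mul]
  refine ⟨ϖ * v, M.mul_mem_right _ hϖM, ?_, ⟨_, hpow.symm⟩, ?_⟩
  · rw [hMϖ, Ideal.span_singleton_pow, Ideal.mem_span_singleton, pow_two,
      mul_dvd_mul_iff_left hϖ.ne_zero]
    intro h
    apply hvnotM
    rw [hMϖ, Ideal.mem_span_singleton]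
    exact h
  · set c0 : A := π * ↑a'⁻¹ with hc0
    let P : Polynomial A := Polynomial.X ^ n - Polynomial.C c0
    have hPm : P.Monic := Polynomial.monic_X_pow_sub_C c0 hnpos.ne'
    have hPdeg : P.natDegree = n := Polynomial.natDegree_X_pow_sub_C
    have hc0m : c0 ∈ m := by
      rw [hmπ, hc0]
      exact Ideal.mul_mem_right _ _ (Ideal.mem_span_singleton_self π)
    have hc0m2 : c0 ∉ m ^ 2 := by
      rw [hmπ, Ideal.span_singleton_pow, Ideal.mem_span_singleton, pow_two, hc0,
        mul_dvd_mul_iff_left hπ.ne_zero]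
      intro h
      exact hπ.not_isUnit (isUnit_of_dvd_unit h (a'⁻¹).isUnit)
    have hPcoeff : ∀ k, k < n → P.coeff k ∈ m := by
      intro k hk
      simp only [P, Polynomial.coeff_sub, Polynomial.coeff_X_pow, Polynomial.coeff_C]
      rw [if_neg hk.ne, zero_sub]
      split_ifs
      · exact m.neg_mem hc0m
      · simp
    have hP0 : P.coeff 0 ∉ m ^ 2 := by
      simp only [P, Polynomial.coeff_sub, Polynomial.coeff_X_pow, Polynomial.coeff_C]
      rw [if_neg hnpos.ne, zero_sub, if_pos trivial, Ideal.neg_mem_iff]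
      exact hc0m2
    have hPE : P.IsEisensteinAt m :=
      hPm.isEisensteinAt_of_mem_of_notMem (Ideal.IsMaximal.ne_top inferInstance)
        (fun {k} hk => hPcoeff k (hPdeg ▸ hk)) hP0
    have hPirr : Irreducible P :=
      hPE.irreducible inferInstance hPm.isPrimitive (hPdeg ▸ hnpos)
    have hint' : IsIntegral A (ϖ * v) := Algebra.IsIntegral.isIntegral _
    have hroot : Polynomial.aeval (ϖ * v) P = 0 := by
      simp only [P, map_sub, map_pow, Polynomial.aeval_X, Polynomial.aeval_C]
      rw [hpow, sub_self]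
    have hdvd := minpoly.isIntegrallyClosed_dvd hint' hroot
    have hassoc : Associated (minpoly A (ϖ * v)) P :=
      ((hPirr.dvd_iff.mp hdvd).resolve_left (minpoly.not_isUnit A (ϖ * v))).symm
    rw [Polynomial.natDegree_eq_of_degree_eq (Polynomial.degree_eq_degree_of_associated hassoc), hPdeg]

end Groth.Agent.S11089
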