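import Groth.Statements.S11092
import Groth.Agent.S11082

set_option autoImplicit false
universe u v
open CAlg

namespace Groth.Agent.S11092

open Algebra KaehlerDifferential TensorProduct Cardinal

/-- Over a perfect field, `Ω` of a finitely generated extension has dimension the transcendence
degree. -/
theorem finrank_eq_natCard (k : Type u) (F : Type v) [Field k] [PerfectField k] [Field F]
    [Algebra k F] [Algebra.EssFiniteType k F] {ι : Type*} (x : ι → F)
    (hx : IsTranscendenceBasis k x) :
    Module.Finite F Ω[F⁄k] ∧ Module.finrank F Ω[F⁄k] = Nat.card ι := by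
  obtain ⟨s, hs, hsep⟩ := exists_isTranscendenceBasis_and_isSeparable_of_perfectField k F
  have hsep' : Algebra.IsSeparable
      (IntermediateField.adjoin k (Set.range ((↑) : s → F))) F := by
    convert! hsep <;> simp
  obtain ⟨b, -⟩ := Groth.Agent.S11082.exists_basis_of_isSeparable k F s ((↑) : s → F) hs.1
  refine ⟨Module.Finite.of_basis b, ?_⟩
  rw [Module.finrank_eq_card_basis b]
  have h1 := hs.lift_cardinalMk_eq hx
  have h2 := congrArg Cardinal.toNat h1
  simp only [Cardinal.toNat_lift] at h2
  rw [← Nat.card_eq_fintype_card]
  exact h2


/-- Let k be an algebraically closed field, K a field finitely generated over k admitting a one-element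
transcendence basis over k (a function field of dimension one), and L a finite extension field of K
with the compatible k-algebra structure. Then the K-linear map from the Kähler differentials of K
over k to those of L over k induced by the inclusion is either the zero map or injective, and it is
injective if and only if L is separable over K. (The published statement takes K ⊆ L to be the
function fields of two elliptic curves related by a nonzero homomorphism; its proof uses only that
they are function fields of dimension one over k.) -/
theorem result (k : Type u) (K L : Type v)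
    [Field k] [IsAlgClosed k] [Field K] [Field L] [Algebra k K] [Algebra k L] [Algebra K L]
    [IsScalarTower k K L] (hK : (⊤ : IntermediateField k K).FG)
    (hx : ∃ x : K, IsTranscendenceBasis k (fun _ : Unit => x)) [FiniteDimensional K L] :
    (KaehlerDifferential.map k k K L = 0 ∨ Function.Injective (KaehlerDifferential.map k k K L)) ∧
      (Function.Injective (KaehlerDifferential.map k k K L) ↔ Algebra.IsSeparable K L) := by
  obtain ⟨x, hx⟩ := hx
  have hessK : Algebra.EssFiniteType k K := IntermediateField.fg_top_iff.1 hK
  have hessL : Algebra.EssFiniteType k L := Algebra.EssFiniteType.comp k K L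
  obtain ⟨fK, rK⟩ := finrank_eq_natCard k K (fun _ : Unit => x) hx
  have hx' : IsTranscendenceBasis k (algebraMap K L ∘ fun _ : Unit => x) := hx.algebraMap_comp
  obtain ⟨fL, rL⟩ := finrank_eq_natCard k L _ hx'
  simp only [Nat.card_unique] at rK rL
  obtain ⟨v, hv0, hv⟩ := finrank_eq_one_iff'.1 rK
  -- injectivity criterion
  have hinj : KaehlerDifferential.map k k K L v ≠ 0 →
      Function.Injective (KaehlerDifferential.map k k K L) := by
    intro hne
    rw [injective_iff_map_eq_zero]
    intro w hw
    obtain ⟨c, rfl⟩ := hv w
    rw [map_smul] at hw
    rw [← algebraMap_smul L c, smul_eq_zero] at hw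
    rcases hw with hc | hc
    · rw [(map_eq_zero_iff _ (algebraMap K L).injective).1 hc, zero_smul]
    · exact absurd hc hne
  have hbc : Module.finrank L (L ⊗[K] Ω[K⁄k]) = 1 := by rw [Module.finrank_baseChange, rK]
  refine ⟨?_, ?_, ?_⟩
  · by_cases h0 : KaehlerDifferential.map k k K L v = 0
    · left
      apply LinearMap.ext
      intro w
      obtain ⟨c, rfl⟩ := hv w
      rw [map_smul, h0, smul_zero, LinearMap.zero_apply]
    · right; exact hinj h0
  · intro hφ
    have hne : KaehlerDifferential.map k k K L v ≠ 0 := fun h => hv0 (hφ (h.trans (map_zero _).symm))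
    -- base change map is surjective
    have hsurj : Function.Surjective (mapBaseChange k K L) := by
      rw [← LinearMap.range_eq_top]
      apply Submodule.eq_top_of_finrank_eq
      rw [rL]
      have h1 : 0 < Module.finrank L (LinearMap.range (mapBaseChange k K L)) := by
        rw [Module.finrank_pos_iff_exists_ne_zero]
        refine ⟨⟨mapBaseChange k K L (1 ⊗ₜ v), ⟨_, rfl⟩⟩, ?_⟩
        intro h
        apply hne
        have := congrArg Subtype.val h
        simpa using this
      have h2 : Module.finrank L (LinearMap.range (mapBaseChange k K L)) ≤ 1 := by
        rw [← rL]; exact Submodule.finrank_le _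
      omega
    have hex := KaehlerDifferential.exact_mapBaseChange_map k K L
    have hsurj2 := KaehlerDifferential.map_surjective k K L
    have hsub : Subsingleton Ω[L⁄K] := by
      refine ⟨fun a b => ?_⟩
      obtain ⟨a', rfl⟩ := hsurj2 a
      obtain ⟨b', rfl⟩ := hsurj2 b
      obtain ⟨a'', rfl⟩ := hsurj a'
      obtain ⟨b'', rfl⟩ := hsurj b'
      rw [hex.apply_apply_eq_zero, hex.apply_apply_eq_zero]
    have hunr : Algebra.FormallyUnramified K L := ⟨hsub⟩
    exact Algebra.FormallyUnramified.isSeparable K L
  · intro hsep
    apply hinj
    intro h0
    have : Algebra.FormallyEtale K L := Algebra.FormallyEtale.of_isSeparable K L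
    let e := KaehlerDifferential.tensorKaehlerEquivOfFormallyEtale k K L
    have h1 : e (1 ⊗ₜ v) = 0 := by
      simp only [e, KaehlerDifferential.tensorKaehlerEquivOfFormallyEtale_apply,
        KaehlerDifferential.mapBaseChange_tmul, one_smul]
      exact h0
    have h2 : (1 : L) ⊗ₜ[K] v = 0 := e.injective (h1.trans (map_zero _).symm)
    have h3 := Module.Flat.tensorProduct_mk_injective (R := K) (S := L) (M := Ω[K⁄k])
    exact hv0 (h3 (h2.trans (map_zero _).symm))

end Groth.Agent.S11092
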