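import Groth.Statements.S9629
import Groth.Agent.S9630
import Groth.Agent.Lib.AlgClosedTensor

set_option autoImplicit false
universe u
open CAlg

namespace Groth.Agent.S9629

section helpers

open TensorProduct Groth.Agent.S9630

variable {k S : Type u} [Field k] [CommRing S] [Algebra k S]

/-- Domain property passes to the union of the finite subextensions of an algebraic extension. -/
theorem isDomain_of_finite (K : Type u) [Field K] [Algebra k K] [Algebra.IsAlgebraic k K]
    (h : ∀ L : IntermediateField k K, FiniteDimensional k L → IsDomain (L ⊗[k] S)) :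
    IsDomain (K ⊗[k] S) := by
  have hS : Nontrivial (K ⊗[k] S) := by
    have hL : FiniteDimensional k ↥(⊥ : IntermediateField k K) := inferInstance
    have := h _ hL
    exact (incl_injective (R := S) K ⊥).nontrivial
  have : NoZeroDivisors (K ⊗[k] S) := by
    refine ⟨fun {a b} hab => ?_⟩
    obtain ⟨L₁, h₁, ha⟩ := exists_finite_mem_range (R := S) K a
    obtain ⟨L₂, h₂, hb⟩ := exists_finite_mem_range (R := S) K b
    obtain ⟨a', rfl⟩ := incl_range_mono K (le_sup_left : L₁ ≤ L₁ ⊔ L₂) ha
    obtain ⟨b', rfl⟩ := incl_range_mono K (le_sup_right : L₂ ≤ L₁ ⊔ L₂) hb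
    have hL : FiniteDimensional k ↥(L₁ ⊔ L₂) := inferInstance
    have hdom : IsDomain (↥(L₁ ⊔ L₂) ⊗[k] S) := h _ hL
    have h0 : a' * b' = 0 := by
      apply incl_injective (R := S) K (L₁ ⊔ L₂)
      have e : (incl (R := S) K (L₁ ⊔ L₂)) (a' * b') =
          (incl (R := S) K (L₁ ⊔ L₂)).toRingHom (a' * b') := rfl
      rw [e, map_mul, map_zero]
      exact hab
    rcases (@mul_eq_zero _ _ hdom.to_noZeroDivisors a' b').mp h0 with h' | h'
    · left; rw [h', map_zero]
    · right; rw [h', map_zero]
  exact NoZeroDivisors.to_isDomain _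

/-- If `k̄ ⊗ S` is a domain then `k' ⊗ S` is a domain for every extension `k'`. -/
theorem isDomain_of_algClosure (h : IsDomain (AlgebraicClosure k ⊗[k] S))
    (k' : Type u) [Field k'] [Algebra k k'] : IsDomain (k' ⊗[k] S) := by
  let Ω := AlgebraicClosure k'
  let kb := AlgebraicClosure k
  let φ : kb →ₐ[k] Ω := IsAlgClosed.lift
  let _ : Algebra kb Ω := φ.toRingHom.toAlgebra
  have : IsScalarTower k kb Ω := IsScalarTower.of_algebraMap_eq (fun x => (φ.commutes x).symm)
  have hD : IsDomain (Ω ⊗[kb] (kb ⊗[k] S)) :=
    Groth.Agent.Lib.AlgClosedTensor.isDomain_tensor_left kb (kb ⊗[k] S) Ω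
  let e : Ω ⊗[kb] (kb ⊗[k] S) ≃ₐ[kb] Ω ⊗[k] S :=
    Algebra.TensorProduct.cancelBaseChange k kb kb Ω S
  have hD' : IsDomain (Ω ⊗[k] S) := e.toMulEquiv.symm.isDomain _
  let ψ : k' ⊗[k] S →ₐ[k] Ω ⊗[k] S :=
    Algebra.TensorProduct.map (IsScalarTower.toAlgHom k k' Ω) (AlgHom.id k S)
  have hψ : Function.Injective ψ := by
    have h1 : Function.Injective (LinearMap.rTensor S (IsScalarTower.toAlgHom k k' Ω).toLinearMap) :=
      Module.Flat.rTensor_preserves_injective_linearMap _
        (FaithfulSMul.algebraMap_injective k' Ω)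
    intro x y hxy
    exact h1 hxy
  exact hψ.isDomain ψ.toRingHom

end helpers

open TensorProduct in
/-- For a field k and a k-algebra S the following are equivalent: (1) S is geometrically integral, i.e.
k' ⊗_k S is an integral domain for every field extension k'/k; (2) k' ⊗_k S is an integral domain
for every finite field extension k'/k; (3) k̄ ⊗_k S is an integral domain for the algebraic closure
k̄ of k. Here the test fields range over field extensions in the universe of k; this is equivalent
to the unrestricted notion, since an algebraic closure of k suffices as a test. -/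
theorem result {k S : Type u} [Field k] [CommRing S] [Algebra k S] :
    [∀ (k' : Type u) [Field k'] [Algebra k k'], IsDomain (k' ⊗[k] S),
      ∀ (k' : Type u) [Field k'] [Algebra k k'] [Module.Finite k k'], IsDomain (k' ⊗[k] S),
      IsDomain (AlgebraicClosure k ⊗[k] S)].TFAE := by
  tfae_have 1 → 2 := fun h k' _ _ _ => h k'
  tfae_have 2 → 3 := by
    intro h
    exact isDomain_of_finite (AlgebraicClosure k) (fun L hL => h L)
  tfae_have 3 → 1 := fun h k' _ _ => isDomain_of_algClosure h k'
  tfae_finish

end Groth.Agent.S9629
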