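import Groth.Statements.S11095
import Groth.Agent.S2150
import Groth.Agent.S9629
import Mathlib.FieldTheory.LinearDisjoint

set_option autoImplicit false
universe u
open CAlg

namespace Groth.Agent.S11095

open TensorProduct

/-- Let K₀ be a perfect field, K an algebraic extension of K₀ and F₀ a field extension of K₀ such that
K₀ is algebraically closed in F₀. Then the K₀-algebra F₀ ⊗ K is a field; consequently F₀ and K,
embedded in it by x ↦ x ⊗ 1 and y ↦ 1 ⊗ y, are linearly disjoint over K₀. -/
theorem result (K₀ F₀ K : Type u)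
    [Field K₀] [PerfectField K₀] [Field F₀] [Algebra K₀ F₀] [Field K] [Algebra K₀ K]
    [Algebra.IsAlgebraic K₀ K] (h : algebraicClosure K₀ F₀ = ⊥) :
    IsField (TensorProduct K₀ F₀ K) := by
  have hsep : ∀ α : F₀, IsSeparable K₀ α → α ∈ Set.range (algebraMap K₀ F₀) := by
    intro α hα
    have h1 : α ∈ algebraicClosure K₀ F₀ := by
      rw [mem_algebraicClosure_iff]
      exact hα.isIntegral.isAlgebraic
    rw [h, IntermediateField.mem_bot] at h1
    exact h1
  have hdomL : ∀ L : IntermediateField K₀ K, FiniteDimensional K₀ L → IsDomain (L ⊗[K₀] F₀) := by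
    intro L hL
    haveI : Algebra.IsSeparable K₀ L := Algebra.IsAlgebraic.isSeparable_of_perfectField
    exact Groth.Agent.S2150.isDomain_tensor_of_sepClosedIn hsep L
  have hdom : IsDomain (K ⊗[K₀] F₀) := Groth.Agent.S9629.isDomain_of_finite K hdomL
  haveI : IsDomain (F₀ ⊗[K₀] K) := (Algebra.TensorProduct.comm K₀ F₀ K).toMulEquiv.isDomain _
  exact Algebra.TensorProduct.isField_of_isAlgebraic K₀ F₀ K (Or.inr inferInstance)

end Groth.Agent.S11095
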