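import Groth.Statements.S11096
import Mathlib.RingTheory.Ideal.Operations

set_option autoImplicit false
universe u
open Neron

namespace Groth.Agent.S11096

/-- Let a Weierstrass equation have coefficients in a commutative ring R and let I be an ideal with a₃,
a₄, a₆ ∈ I. If the discriminant Δ does not lie in I ^ 2, then a₆ does not lie in I ^ 2 and b₂ does
not lie in I. (For a discrete valuation ring with maximal ideal (π): if π divides a₃, a₄, a₆ and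
v(Δ) = 1, then v(a₆) = 1 and π does not divide b₂.) -/
theorem result {R : Type u} [CommRing R] (W : WeierstrassCurve R)
    (I : Ideal R) (h3 : W.a₃ ∈ I) (h4 : W.a₄ ∈ I) (h6 : W.a₆ ∈ I) (hΔ : W.Δ ∉ I ^ 2) :
    W.a₆ ∉ I ^ 2 ∧ W.b₂ ∉ I := by
  have hb4 : W.b₄ ∈ I := by
    unfold WeierstrassCurve.b₄
    exact I.add_mem (I.mul_mem_left _ h4) (I.mul_mem_left _ h3)
  have hb6 : W.b₆ ∈ I := by
    unfold WeierstrassCurve.b₆
    exact I.add_mem (I.pow_mem_of_mem h3 2 (by norm_num)) (I.mul_mem_left _ h6)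
  have h34 : W.a₃ * W.a₄ ∈ I ^ 2 := by rw [pow_two]; exact Ideal.mul_mem_mul h3 h4
  have h33 : W.a₃ * W.a₃ ∈ I ^ 2 := by rw [pow_two]; exact Ideal.mul_mem_mul h3 h3
  have h44 : W.a₄ * W.a₄ ∈ I ^ 2 := by rw [pow_two]; exact Ideal.mul_mem_mul h4 h4
  have hb44 : W.b₄ * W.b₄ ∈ I ^ 2 := by rw [pow_two]; exact Ideal.mul_mem_mul hb4 hb4
  have hb66 : W.b₆ * W.b₆ ∈ I ^ 2 := by rw [pow_two]; exact Ideal.mul_mem_mul hb6 hb6
  have hb46 : W.b₄ * W.b₆ ∈ I ^ 2 := by rw [pow_two]; exact Ideal.mul_mem_mul hb4 hb6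
  have key : W.Δ = -(W.b₂ ^ 3 * W.a₆) + (W.b₂ ^ 2 * W.a₁ * (W.a₃ * W.a₄) -
      W.b₂ ^ 2 * W.a₂ * (W.a₃ * W.a₃) + W.b₂ ^ 2 * (W.a₄ * W.a₄) - 8 * W.b₄ * (W.b₄ * W.b₄) -
      27 * (W.b₆ * W.b₆) + 9 * W.b₂ * (W.b₄ * W.b₆)) := by
    unfold WeierstrassCurve.Δ WeierstrassCurve.b₈
    unfold WeierstrassCurve.b₂
    ring
  have hE : (W.b₂ ^ 2 * W.a₁ * (W.a₃ * W.a₄) -
      W.b₂ ^ 2 * W.a₂ * (W.a₃ * W.a₃) + W.b₂ ^ 2 * (W.a₄ * W.a₄) - 8 * W.b₄ * (W.b₄ * W.b₄) -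
      27 * (W.b₆ * W.b₆) + 9 * W.b₂ * (W.b₄ * W.b₆)) ∈ I ^ 2 := by
    refine (I ^ 2).add_mem ((I ^ 2).sub_mem ((I ^ 2).sub_mem ((I ^ 2).add_mem ((I ^ 2).sub_mem ?_ ?_) ?_) ?_) ?_) ?_
    · exact (I ^ 2).mul_mem_left _ h34
    · exact (I ^ 2).mul_mem_left _ h33
    · exact (I ^ 2).mul_mem_left _ h44
    · exact (I ^ 2).mul_mem_left _ hb44
    · exact (I ^ 2).mul_mem_left _ hb66
    · exact (I ^ 2).mul_mem_left _ hb46
  have hmain : W.b₂ ^ 3 * W.a₆ ∉ I ^ 2 := by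
    intro h
    apply hΔ
    rw [key]
    exact (I ^ 2).add_mem ((I ^ 2).neg_mem h) hE
  constructor
  · intro h
    exact hmain ((I ^ 2).mul_mem_left _ h)
  · intro h
    apply hmain
    have : W.b₂ ^ 3 * W.a₆ = W.b₂ * W.a₆ * (W.b₂ * W.b₂) := by ring
    rw [this]
    apply (I ^ 2).mul_mem_left
    rw [pow_two]
    exact Ideal.mul_mem_mul h h

end Groth.Agent.S11096
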