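import Groth.Statements.S1110
import Mathlib
import Groth.Agent.S10848
import Groth.Agent.S12057
import Groth.Agent.Lib.H90OXModExact
import Groth.Agent.Lib.H90OXModPush
import Groth.Agent.Lib.ProjFormulaFLF23
import Groth.Agent.Lib.FreeLocInv92
import Groth.Agent.Lib.ClosedPushPC17
import Groth.Agent.Lib.CohFinite
import Groth.Agent.Lib.H78BiprodFree
import Groth.Agent.Lib.H72LimMod
import Groth.Agent.Lib.H72PullbackQCoh
import Groth.Agent.Lib.H90InvertiblePullback

set_option autoImplicit false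
universe u
open CategoryTheory AlgebraicGeometry
open Perf

namespace Groth.Agent.S1110

open CategoryTheory.Limits TopologicalSpace
open Groth.Agent.Lib.H90Invertible Groth.Agent.Lib.H78TensorGen Groth.Agent.Lib.H78PullSec
  Groth.Agent.Lib.H78SecCoord Groth.Agent.Lib.FreeModStalk Groth.Agent.Lib.FreeModSch
  Groth.Agent.Lib.ProjFormulaFLF23 Groth.Agent.Lib.H90OXModExact Groth.Agent.Lib.H72PullbackNat

/-- the image of a morphism of quasi-coherent modules is quasi-coherent -/
theorem isQuasicoherent_image {X : Scheme.{u}} {M N : X.Modules} [M.IsQuasicoherent]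
    [N.IsQuasicoherent] (φ : M ⟶ N) : (Limits.image φ).IsQuasicoherent := by
  haveI := isQuasicoherent_cokernel φ
  haveI : (kernel (cokernel.π φ)).IsQuasicoherent := isQuasicoherent_kernel (cokernel.π φ)
  exact (SheafOfModules.isQuasicoherent X.ringCatSheaf).prop_of_iso (Abelian.imageIsoImage φ)
    (inferInstanceAs (kernel (cokernel.π φ)).IsQuasicoherent)

/-- **Finitely many local sections of a quasi-coherent module on a qcqs scheme lie in a quasi-coherent submodule of
finite type.** -/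
theorem exists_ft_qcoh_through {Y : Scheme.{u}} [CompactSpace Y] [QuasiSeparatedSpace Y]
    (G : Y.Modules) [G.IsQuasicoherent] (V : Y.Opens) (hV : IsAffineOpen V) {r : ℕ}
    (s : Fin r → Γ(G, V)) :
    ∃ (N : Y.Modules) (ν : N ⟶ G), N.IsQuasicoherent ∧ CohB1.IsFT N ∧
      ∀ k, ∃ t : Γ(N, V), ν.app V t = s k := by
  classical
  have e' : V.ι ''ᵁ ⊤ = V := by rw [V.ι.image_top_eq_opensRange, V.opensRange_ι]
  let s' : Fin r → Γ(G.restrict V.ι, ⊤) := fun k => rs G e'.le (s k)
  haveI : (G.restrict V.ι).IsQuasicoherent := Scheme.Modules.isQuasicoherent_restrictFunctor _ _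
  let φ : FlatMod.freeMod (↑V : Scheme.{u}) r ⟶ G.restrict V.ι := ofSections (G.restrict V.ι) s'
  haveI : (Limits.image φ).IsQuasicoherent := isQuasicoherent_image φ
  have hft : CohB1.IsFT (Limits.image φ) :=
    Groth.Agent.Lib.ClosedPushPC17.isFT_of_epi (factorThruImage φ)
      (isFiniteType_of_isFinLocFree (isFinLocFree_freeMod _ r))
  obtain ⟨F, i, e, hmono, hq, hft', he⟩ :=
    Groth.Agent.S10848.result V hV.isCompact G (Limits.image φ) hft (Limits.image.ι φ)
  refine ⟨F, i, hq, hft', fun k => ?_⟩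
  let q : Γ(Limits.image φ, ⊤) := (factorThruImage φ).app ⊤ (basisSec (↑V : Scheme.{u}) r k)
  let p : Γ(F, V.ι ''ᵁ ⊤) := e.inv.app ⊤ q
  have h1 : (Limits.image.ι φ).app ⊤ q = s' k := by
    have h := congrArg (fun ψ => Scheme.Modules.Hom.app ψ ⊤ (basisSec (↑V : Scheme.{u}) r k))
      (Limits.image.fac φ)
    exact h.trans (ofSections_app_basisSec _ s' k)
  have h2 : i.app (V.ι ''ᵁ ⊤) p = s' k := by
    have h := congrArg (fun ψ => Scheme.Modules.Hom.app ψ ⊤ (e.inv.app ⊤ q)) he
    have h3 : (e.hom ≫ Limits.image.ι φ).app ⊤ (e.inv.app ⊤ q) = (Limits.image.ι φ).app ⊤ q := by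
      change (Limits.image.ι φ).app ⊤ (e.hom.app ⊤ (e.inv.app ⊤ q)) = _
      rw [iso_hom_inv_app]
    exact h.symm.trans (h3.trans h1)
  refine ⟨rs F e'.ge p, ?_⟩
  rw [app_rs, h2]
  change rs G e'.ge (rs G e'.le (s k)) = s k
  rw [rs_rs, rs_self]

/-- For an affine morphism f : X ⟶ Y over a quasi-compact, quasi-separated Y, the resolution property
passes from Y up to X. (The source also treats quasi-affine f.) -/
theorem result {X Y : Scheme.{u}} (f : X ⟶ Y) [IsAffineHom f] [CompactSpace ↥Y] [QuasiSeparatedSpace ↥Y]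
    (hY : PerfAux.HasResolutionProperty Y) : PerfAux.HasResolutionProperty X := by
  intro M hMq hMft
  haveI : M.IsQuasicoherent := hMq
  classical
  haveI : ((Scheme.Modules.pushforward f).obj M).IsQuasicoherent :=
    Groth.Agent.Lib.H90OXModPush.isQuasicoherent_pushforward f M
  -- a finite affine cover of `Y`
  obtain ⟨S, hS, hcov⟩ := (isCompact_iff_finite_and_eq_biUnion_affineOpens (U := (⊤ : Y.Opens))).mp
    (by simpa using isCompact_univ)
  haveI : Finite S := hS
  obtain ⟨n, ⟨eS⟩⟩ := Finite.exists_equiv_fin S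
  let V : Fin n → Y.Opens := fun j => ((eS.symm j : S) : Y.affineOpens).1
  have hV : ∀ j, IsAffineOpen (V j) := fun j => ((eS.symm j : S) : Y.affineOpens).2
  have hcovV : ∀ y : Y, ∃ j, y ∈ V j := by
    intro y
    have hy : y ∈ (⊤ : Y.Opens) := trivial
    rw [hcov] at hy
    obtain ⟨i, hy⟩ := Opens.mem_iSup.mp hy
    obtain ⟨hi, hy⟩ := Opens.mem_iSup.mp hy
    refine ⟨eS ⟨i, hi⟩, ?_⟩
    have : V (eS ⟨i, hi⟩) = i.1 := by simp [V]
    rw [this]
    exact hy
  -- generators of `M` over the affine opens `f⁻¹ V_j`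
  have hgen : ∀ j, ∃ (r : ℕ) (m : Fin r → Γ(M, f ⁻¹ᵁ V j)),
      Submodule.span Γ(X, f ⁻¹ᵁ V j) (Set.range m) = ⊤ := by
    intro j
    haveI : Module.Finite Γ(X, f ⁻¹ᵁ V j) Γ(M, f ⁻¹ᵁ V j) :=
      Groth.Agent.Lib.CohFinite.finite_sections_of_isCoh M ⟨hMq, hMft⟩ ((hV j).preimage f)
    obtain ⟨r, m, hm⟩ := Module.Finite.exists_fin (R := Γ(X, f ⁻¹ᵁ V j)) (M := Γ(M, f ⁻¹ᵁ V j))
    exact ⟨r, m, hm⟩
  choose r m hm using hgen
  -- approximations of `f_* M` by quasi-coherent modules of finite type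
  have hN : ∀ j, ∃ (N : Y.Modules) (ν : N ⟶ (Scheme.Modules.pushforward f).obj M),
      N.IsQuasicoherent ∧ CohB1.IsFT N ∧
        ∀ k, ∃ t : Γ(N, V j), ν.app (V j) t = toPush f M (V j) (m j k) := fun j =>
    exists_ft_qcoh_through _ (V j) (hV j) (fun k => toPush f M (V j) (m j k))
  choose N ν hNq hNft ht using hN
  choose t ht using ht
  -- resolutions on `Y`
  have hE : ∀ j, ∃ (E : Y.Modules) (π : E ⟶ N j), FlatMod.IsFinLocFree E ∧ Epi π :=
    fun j => hY (N j) (hNq j) (hNft j)
  choose E π hE hπ using hE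
  let ψ : ∀ j, (Scheme.Modules.pullback f).obj (E j) ⟶ M := fun j =>
    (Scheme.Modules.pullback f).map (π j) ≫
      ((Scheme.Modules.pullbackPushforwardAdjunction f).homEquiv _ _).symm (ν j)
  refine ⟨⨁ fun j => (Scheme.Modules.pullback f).obj (E j), biproduct.desc ψ,
    Groth.Agent.Lib.H78BiprodFree.isFinLocFree_biproduct _
      (fun j => isFinLocFree_pullback f (hE j)), ?_⟩
  refine Groth.Agent.Lib.H72LimMod.epi_of_cover _ (fun j => f ⁻¹ᵁ V j)
    (fun j => (hV j).preimage f) (fun x => hcovV (f x)) (fun j => ?_)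
  have hrange : ∀ k, m j k ∈ LinearMap.range (secModMap (biproduct.desc ψ) (f ⁻¹ᵁ V j)).hom := by
    intro k
    haveI := hπ j
    haveI : (Scheme.Modules.pullback f).PreservesEpimorphisms :=
      (Scheme.Modules.pullback f).preservesEpimorphisms_of_adjunction
        (Scheme.Modules.pullbackPushforwardAdjunction f)
    haveI : Epi ((Scheme.Modules.pullback f).map (π j)) := inferInstance
    haveI : (E j).IsQuasicoherent := isQuasicoherent_of_isFinLocFree (hE j)
    haveI : (N j).IsQuasicoherent := hNq j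
    obtain ⟨z, hz⟩ := surjective_app_of_epi ((Scheme.Modules.pullback f).map (π j))
      ((hV j).preimage f) (pb f (N j) (t j k))
    refine ⟨(biproduct.ι (fun j => (Scheme.Modules.pullback f).obj (E j)) j).app (f ⁻¹ᵁ V j) z, ?_⟩
    rw [secModMap_apply]
    change (biproduct.ι (fun j => (Scheme.Modules.pullback f).obj (E j)) j ≫
      biproduct.desc ψ).app (f ⁻¹ᵁ V j) z = _
    rw [biproduct.ι_desc]
    change (((Scheme.Modules.pullbackPushforwardAdjunction f).homEquiv _ _).symm (ν j)).app _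
      (((Scheme.Modules.pullback f).map (π j)).app _ z) = m j k
    rw [hz, Adjunction.homEquiv_counit]
    change ((Scheme.Modules.pullbackPushforwardAdjunction f).counit.app M).app _
      (((Scheme.Modules.pullback f).map (ν j)).app _ (pb f (N j) (t j k))) = _
    rw [pb_map, ht j k]
    exact Groth.Agent.S12057.counit_pb f M (V j) (m j k)
  intro z
  have hz : z ∈ Submodule.span Γ(X, f ⁻¹ᵁ V j) (Set.range (m j)) := by rw [hm j]; trivial
  exact (Submodule.span_le.mpr (by rintro _ ⟨k, rfl⟩; exact hrange k)) hz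

end Groth.Agent.S1110
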