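import Groth.Statements.S11103
import Groth.Agent.Lib.H8NeronBC
import Mathlib

set_option autoImplicit false
universe u
open CategoryTheory CategoryTheory.Limits AlgebraicGeometry
open Neron

namespace Groth.Agent.S11103


open scoped nonZeroDivisors

/-- For `R ⊆ R'` a finite flat extension of domains, `Spec Frac R' = Spec R' ×_{Spec R} Spec Frac R`. -/
theorem isPullback_genPt (R R' : Type u) [CommRing R] [IsDomain R] [CommRing R'] [IsDomain R']
    [Algebra R R'] [Module.Finite R R'] [FaithfulSMul R R'] :
    ∃ hK : Spec (CommRingCat.of (FractionRing R')) ⟶ Spec (CommRingCat.of (FractionRing R)),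
      IsPullback hK (Neron.genPt R') (Neron.genPt R)
        (Spec.map (CommRingCat.ofHom (algebraMap R R'))) := by
  haveI : FaithfulSMul R (FractionRing R') := inferInstance
  letI : Algebra (FractionRing R) (FractionRing R') := FractionRing.liftAlgebra R (FractionRing R')
  haveI : IsScalarTower R (FractionRing R) (FractionRing R') :=
    FractionRing.isScalarTower_liftAlgebra R (FractionRing R')
  haveI : Algebra.IsAlgebraic R R' := Algebra.IsAlgebraic.of_finite R R'
  haveI : IsLocalization (Algebra.algebraMapSubmonoid R' R⁰) (FractionRing R') := inferInstance
  have hpo : Algebra.IsPushout R R' (FractionRing R) (FractionRing R') :=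
    (Algebra.isPushout_of_isLocalization (R := R) R⁰ (FractionRing R) R' (FractionRing R'))
  have hpo' := CommRingCat.isPushout_iff_isPushout.mpr hpo
  refine ⟨Spec.map (CommRingCat.ofHom (algebraMap (FractionRing R) (FractionRing R'))), ?_⟩
  exact (isPullback_SpecMap_of_isPushout _ _ _ _ hpo').flip


/-- Let R be a Dedekind domain with fraction field K, let R' be a Dedekind domain finite étale over R
(the integral closure of R in a finite unramified extension K' of K), and let N be a Néron model
over Spec R of its generic fibre N_K. Then the base change N' = N ×_R R' is a Néron model over Spec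
R' of its generic fibre N'_{K'}: it is smooth, separated and of finite type over Spec R', and every
K'-morphism from the generic fibre of a smooth R'-scheme to N'_{K'} extends uniquely to an
R'-morphism into N'. (The published statement concerns the Néron model of an elliptic curve with the
mapping property for rational maps; this row allows any N and tests the mapping property on
morphisms from smooth schemes. The property generally fails for ramified extensions.) -/
theorem result (R R' : Type u) [CommRing R] [IsDedekindDomain R]
    [CommRing R'] [IsDedekindDomain R'] [Algebra R R'] [Module.Finite R R'] [Algebra.Etale R R']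
    (N : Over (Spec (CommRingCat.of R)))
    (hN : Neron.IsNeronModelOf R N ((Neron.genericFibre R).obj N) (Iso.refl _)) :
    Neron.IsNeronModelOf R'
      ((Over.pullback (Spec.map (CommRingCat.ofHom (algebraMap R R')))).obj N)
      ((Neron.genericFibre R').obj ((Over.pullback (Spec.map (CommRingCat.ofHom (algebraMap R R')))).obj N))
      (Iso.refl _) := by
  obtain ⟨hsm, hsep, hft, hqc, hNMP⟩ := hN
  haveI : Etale (Spec.map (CommRingCat.ofHom (algebraMap R R'))) := by
    rw [HasRingHomProperty.Spec_iff (P := @Etale)]
    simpa [RingHom.etale_algebraMap] using (inferInstance : Algebra.Etale R R')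
  refine ⟨?_, ?_, ?_, ?_, ?_⟩
  · show Smooth (pullback.snd N.hom _); infer_instance
  · show IsSeparated (pullback.snd N.hom _); infer_instance
  · show LocallyOfFiniteType (pullback.snd N.hom _); infer_instance
  · show QuasiCompact (pullback.snd N.hom _); infer_instance
  intro Y' hY'
  obtain ⟨hK, sq⟩ := isPullback_genPt R R'
  have hW : Smooth ((Over.map (Spec.map (CommRingCat.ofHom (algebraMap R R')))).obj Y').hom := by
    show Smooth (Y'.hom ≫ Spec.map (CommRingCat.ofHom (algebraMap R R'))); infer_instance
  have hb := hNMP _ hW
  have hb' : Function.Bijective (fun f : (Over.map (Spec.map (CommRingCat.ofHom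
      (algebraMap R R')))).obj Y' ⟶ N => (Over.pullback (Neron.genPt R)).map f) := by
    convert hb using 2
    rw [Iso.refl_hom, Category.comp_id]
  have key := Groth.Agent.Lib.H8NeronBC.bijective_pullback_map sq N Y' hb'
  convert key using 2
  rw [Iso.refl_hom, Category.comp_id]

end Groth.Agent.S11103
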