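import Groth.Statements.S11107
import Groth.Agent.Lib.ExtVal2
import Groth.Agent.Lib.SmoothStalkRegular45

set_option autoImplicit false
universe u
open CategoryTheory AlgebraicGeometry
open Neron

namespace Groth.Agent.S11107

/-- Let R be a Dedekind domain, X → Spec R a smooth morphism, Y → Spec R a proper morphism, U ⊆ X a
dense open subscheme and f : U → Y a morphism over Spec R (a rational map X ⇢ Y over R). Then f
extends, over Spec R, to an open subscheme V ⊇ U of X such that every point of X outside V has a
local ring of Krull dimension at least 2: the locus where the rational map is undefined has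
codimension at least two. (The published statement assumes the rational map dominant; this row does
not.) -/
theorem result {R : Type u} [CommRing R] [IsDedekindDomain R]
    {X Y : Scheme.{u}} (pX : X ⟶ Spec (CommRingCat.of R)) (pY : Y ⟶ Spec (CommRingCat.of R))
    [Smooth pX] [IsProper pY] (U : X.Opens) (hU : Dense (U : Set X))
    (f : (U : Scheme.{u}) ⟶ Y) (hf : f ≫ pY = U.ι ≫ pX) :
    ∃ (V : X.Opens) (hUV : U ≤ V) (g : (V : Scheme.{u}) ⟶ Y),
      g ≫ pY = V.ι ≫ pX ∧ X.homOfLE hUV ≫ g = f ∧
      ∀ x : X, x ∉ V → (2 : WithBot ℕ∞) ≤ ringKrullDim (X.presheaf.stalk x) := by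
  have hp : ValuativeCriterion.Existence pY := by
    have h : UniversallyClosed pY := inferInstance
    rw [UniversallyClosed.eq_valuativeCriterion] at h
    exact h.1
  have hLN : IsLocallyNoetherian X := LocallyOfFiniteType.isLocallyNoetherian pX
  have hreg : ∀ x : X, IsRegularLocalRing (X.presheaf.stalk x) := fun x =>
    Groth.Agent.Lib.SmoothStalkRegular45.isRegularLocalRing_stalk_of_smooth pX x
  have hred : IsReduced X := by
    have : ∀ x : X, _root_.IsReduced (X.presheaf.stalk x) := fun x => by
      have := hreg x
      have := Groth.Agent.Lib.RegularLocal.isDomain (X.presheaf.stalk x)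
      infer_instance
    exact isReduced_of_isReduced_stalk X
  obtain ⟨V, hUV, g, hg1, hg2, hV⟩ := Groth.Agent.Lib.ExtVal.exists_extension_codim_one pY hp pX
    (fun x _ => hreg x) U hU f hf
  refine ⟨V, hUV, g, hg1, hg2, fun x hx => ?_⟩
  by_contra hlt
  rw [not_le] at hlt
  refine hx (hV x ?_)
  generalize ringKrullDim (X.presheaf.stalk x) = d at hlt
  induction d using WithBot.recBotCoe with
  | bot => exact bot_le
  | coe n =>
    have h' : n < 2 := by
      have e2 : (2 : WithBot ℕ∞) = ((2 : ℕ∞) : WithBot ℕ∞) := rfl
      rw [e2] at hlt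
      exact WithBot.coe_lt_coe.mp hlt
    have h'' : n ≤ 1 := by
      have e : (2 : ℕ∞) = 1 + 1 := by norm_num
      rw [e] at h'
      exact (ENat.lt_add_one_iff (by simp)).mp h'
    have e1 : (1 : WithBot ℕ∞) = ((1 : ℕ∞) : WithBot ℕ∞) := rfl
    rw [e1]
    exact WithBot.coe_le_coe.mpr h''

end Groth.Agent.S11107
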