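import Groth.Statements.S11128
import Groth.Agent.Lib.FaithExactAdj66

set_option autoImplicit false
universe w u₁ u₂
open CategoryTheory CategoryTheory.Limits
open CohDer

namespace Groth.Agent.S11128

open Groth.Agent.Lib.FaithExactAdj66 in
/-- Suppose A is an abelian category that has small hom-sets and all small colimits, B is a Grothendieck
abelian category, and F : A ⥤ B is a faithful exact functor with a right adjoint G preserving
filtered colimits. Then A is a Grothendieck abelian category. -/
theorem result
    {A : Type u₁} [Category.{w} A] [Abelian A] [HasColimitsOfSize.{w, w} A]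
    {B : Type u₂} [Category.{w} B] [Abelian B] [IsGrothendieckAbelian.{w} B]
    (F : A ⥤ B) (G : B ⥤ A) (adj : F ⊣ G) [F.Additive] [F.Faithful]
    [PreservesFiniteLimits F] [PreservesFiniteColimits F] [PreservesFilteredColimitsOfSize.{w, w} G] :
    IsGrothendieckAbelian.{w} A := by
  have hU := isSeparator_separator B
  obtain ⟨κ, t, -, ht⟩ := exists_separating_family adj
    (s := fun _ : PUnit.{w+1} => separator B)
    (fun Y Z f g h => hU.def f g (fun u => h PUnit.unit u))
    (fun _ => True) (fun _ _ _ _ => trivial) (fun _ _ => trivial)
  haveI : AB5OfSize.{w, w} A := ab5 adj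
  haveI : HasSeparator A := ⟨⟨∐ t, ObjectProperty.IsSeparating.isSeparator_coproduct
    (fun X Y f g H => ht f g (fun k h => H (t k) ⟨k⟩ h))⟩⟩
  exact {}

end Groth.Agent.S11128
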