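import Groth.Statements.S1113
import Mathlib.Algebra.Homology.DerivedCategory.TStructure

set_option autoImplicit false
universe w v u
open CategoryTheory CategoryTheory.Limits
open CohDer

namespace Groth.Agent.S1113

open DerivedCategory in
theorem chain_zero {A : Type u} [Category.{v} A] [Abelian A] {X Y : CochainComplex A ℤ} (m : ℤ)
    [X.IsStrictlyLE m] [Y.IsStrictlyGE m] (u : X ⟶ Y)
    (h : HomologicalComplex.homologyMap u m = 0) : u = 0 := by
  ext i
  rcases lt_trichotomy i m with hi | rfl | hi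
  · exact (Y.isZero_of_isStrictlyGE m i hi).eq_of_tgt _ _
  · have hX : X.d i (i + 1) = 0 := (X.isZero_of_isStrictlyLE i (i + 1) (by lia)).eq_of_tgt _ _
    have hY : Y.d (i - 1) i = 0 := (Y.isZero_of_isStrictlyGE i (i - 1) (by lia)).eq_of_src _ _
    have : IsIso (X.iCycles i) := X.isIso_iCycles i (i + 1) (by simp) hX
    have : IsIso (Y.pOpcycles i) := Y.isIso_pOpcycles (i - 1) i (by simp) hY
    have e1 : X.iCycles i ≫ u.f i = HomologicalComplex.cyclesMap u i ≫ Y.iCycles i := by simp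
    have e2 : (X.iCycles i ≫ u.f i) ≫ Y.pOpcycles i = 0 := by
      rw [e1, Category.assoc, ← HomologicalComplex.homology_π_ι,
        ← HomologicalComplex.homologyπ_naturality_assoc, h]
      simp
    rw [← cancel_epi (X.iCycles i), ← cancel_mono (Y.pOpcycles i), e2]
    simp
  · exact (X.isZero_of_isStrictlyLE m i hi).eq_of_src _ _

open DerivedCategory in
theorem factor_of_comp_zero {A : Type u} [Category.{v} A] [Abelian A] [HasDerivedCategory.{w} A]
    (L : CochainComplex A ℤ) (m m' : ℤ) (hm : m + 1 = m') {Z : DerivedCategory A}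
    (a : Q.obj L ⟶ Z) (h : Q.map (L.ιTruncLE m) ≫ a = 0) :
    ∃ φ : Q.obj (L.truncGE m') ⟶ Z, Q.map (L.πTruncGE m') ≫ φ = a := by
  have hS := L.shortComplexTruncLE_shortExact m
  obtain ⟨g, hg⟩ := Pretriangulated.Triangle.yoneda_exact₂ _ (triangleOfSES_distinguished hS) a h
  refine ⟨inv (Q.map (L.shortComplexTruncLEX₃ToTruncGE m m' hm)) ≫ g, ?_⟩
  let g' : L ⟶ (L.shortComplexTruncLE m).X₃ := (L.shortComplexTruncLE m).g
  have hg' : a = Q.map g' ≫ g := hg
  have e : L.πTruncGE m' = g' ≫ L.shortComplexTruncLEX₃ToTruncGE m m' hm :=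
    (L.g_shortComplexTruncLEX₃ToTruncGE m m' hm).symm
  rw [e, Functor.map_comp, Category.assoc, IsIso.hom_inv_id_assoc]
  exact hg'.symm

/-- Let K : ℕᵒᵖ ⥤ CochainComplex A ℤ be a sequence of cochain maps … → K₂ → K₁ → K₀ in an abelian
category with Hⁱ(K₀) = 0 for i < 0 and such that for every j < n the map Hʲ(Kⱼ₊₁) → Hʲ(Kⱼ) is zero.
Then in the derived category the composite Kₙ → K₀ factors through the canonical truncation Kₙ →
τ_{≥ n}Kₙ. -/
theorem result {A : Type u} [Category.{v} A] [Abelian A] [HasDerivedCategory.{w} A]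
    (K : ℕᵒᵖ ⥤ CochainComplex A ℤ) (n : ℕ)
    (h0 : ∀ i : ℤ, i < 0 → IsZero ((K.obj (Opposite.op 0)).homology i))
    (hz : ∀ j : ℕ, j < n → HomologicalComplex.homologyMap (K.map (homOfLE (Nat.le_succ j)).op) (j : ℤ) = 0) :
    ∃ φ : DerivedCategory.Q.obj ((K.obj (Opposite.op n)).truncGE (n : ℤ)) ⟶ DerivedCategory.Q.obj (K.obj (Opposite.op 0)),
      DerivedCategory.Q.map ((K.obj (Opposite.op n)).πTruncGE (n : ℤ)) ≫ φ = DerivedCategory.Q.map (K.map (homOfLE (Nat.zero_le n)).op) := by
  induction n with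
  | zero =>
    have : (K.obj (Opposite.op 0)).IsGE ((0 : ℕ) : ℤ) := by
      rw [CochainComplex.isGE_iff]
      intro i hi
      rw [HomologicalComplex.exactAt_iff_isZero_homology]
      exact h0 i (by simpa using hi)
    exact ⟨inv (DerivedCategory.Q.map ((K.obj (Opposite.op 0)).πTruncGE ((0 : ℕ) : ℤ))) ≫
      DerivedCategory.Q.map (K.map (homOfLE (Nat.zero_le 0)).op), by simp⟩
  | succ m ih =>
    obtain ⟨φ, hφ⟩ := ih (fun j hj => hz j (by lia))
    let L := K.obj (Opposite.op (m + 1))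
    let M := K.obj (Opposite.op m)
    let t : L ⟶ M := K.map (homOfLE (Nat.le_succ m)).op
    have ht : K.map (homOfLE (Nat.zero_le (m + 1))).op = t ≫ K.map (homOfLE (Nat.zero_le m)).op := by
      rw [← K.map_comp, ← op_comp]
      rfl
    have hu : L.ιTruncLE (m : ℤ) ≫ t ≫ M.πTruncGE (m : ℤ) = 0 := by
      apply chain_zero (m : ℤ)
      rw [HomologicalComplex.homologyMap_comp, HomologicalComplex.homologyMap_comp, hz m (by lia)]
      simp
    apply factor_of_comp_zero L (m : ℤ) ((m + 1 : ℕ) : ℤ) (by simp)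
    rw [ht, Functor.map_comp, ← hφ, ← Category.assoc, ← Category.assoc, ← Functor.map_comp,
      ← Functor.map_comp, Category.assoc, hu]
    simp

end Groth.Agent.S1113
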