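import Groth.Statements.S11135
import Mathlib.Tactic
import Mathlib.RingTheory.Ideal.Quotient.Operations
import Mathlib.RingTheory.IntegralClosure.IntegrallyClosed
import Mathlib.RingTheory.Localization.FractionRing

set_option autoImplicit false
universe u
open InvTh

namespace Groth.Agent.S11135

section aux

variable {ι : Type u} [Fintype ι] (D : ι → Type u)
    [∀ i, CommRing (D i)] [∀ i, IsDomain (D i)]

open Classical in
/-- support idempotent -/
noncomputable def supp (a : Π i, D i) : Π i, D i := fun i => if a i = 0 then 0 else 1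

variable {D}

theorem mem_nzd_of_forall_ne (s : Π i, D i) (h : ∀ i, s i ≠ 0) : s ∈ nonZeroDivisors (Π i, D i) := by
  rw [mem_nonZeroDivisors_iff_right]
  intro x hx
  funext i
  have := congrFun hx i
  simp only [Pi.mul_apply, Pi.zero_apply] at this
  rcases mul_eq_zero.mp this with h1 | h1
  · exact h1
  · exact absurd h1 (h i)

variable {R : Type u} [CommRing R] (F : Set ((Π i, D i) →+* R))
    (hF : ∀ f ∈ F, ∀ s ∈ nonZeroDivisors (Π i, D i), f s ∈ nonZeroDivisors R)
    (A : Subring (Π i, D i)) (hA : ∀ a, a ∈ A ↔ ∀ f ∈ F, ∀ f' ∈ F, f a = f' a)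

include hF hA in
theorem supp_mem (a : Π i, D i) (ha : a ∈ A) : supp D a ∈ A := by
  classical
  rw [hA]
  have hae : a * supp D a = a := by
    funext i
    simp only [Pi.mul_apply, supp]
    split_ifs with h
    · rw [h, mul_zero]
    · rw [mul_one]
  have hee : supp D a * supp D a = supp D a := by
    funext i
    simp only [Pi.mul_apply, supp]
    split_ifs <;> simp
  have hn : a + (1 - supp D a) ∈ nonZeroDivisors (Π i, D i) := by
    apply mem_nzd_of_forall_ne
    intro i
    simp only [Pi.add_apply, Pi.sub_apply, Pi.one_apply, supp]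
    split_ifs with h
    · rw [h]; simp
    · simpa using h
  have key : ∀ f ∈ F, ∀ f' ∈ F, f (supp D a) = f (supp D a) * f' (supp D a) := by
    intro f hf f' hf'
    have hr : f a = f' a := (hA a).mp ha f hf f' hf'
    have h1 : f a * f (supp D a) = f a := by rw [← map_mul, hae]
    have h2 : f' a * f' (supp D a) = f' a := by rw [← map_mul, hae]
    have h3 : f (supp D a) * f (supp D a) = f (supp D a) := by rw [← map_mul, hee]
    have hnz := hF f hf _ hn
    have hx : (f (supp D a) * (1 - f' (supp D a))) * f (a + (1 - supp D a)) = 0 := by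
      rw [map_add, map_sub, map_one]
      rw [← hr] at h2
      linear_combination (1 - f' (supp D a)) * h1 + (-(1 - f' (supp D a))) * h3 + (-1 : R) * h2
    have := (mem_nonZeroDivisors_iff_right.mp hnz) _ hx
    linear_combination this
  intro f hf f' hf'
  rw [key f hf f' hf', mul_comm, ← key f' hf' f hf]

/-- projection of `A` to the `i`-th factor -/
def proj (i : ι) : A →+* D i := (Pi.evalRingHom D i).comp A.subtype

omit [Fintype ι] [∀ i, IsDomain (D i)] in
@[simp] theorem proj_apply (i : ι) (a : A) : proj A i a = (a : Π i, D i) i := rfl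

/-- kernel of the projection -/
def P (i : ι) : Ideal A := RingHom.ker (proj A i)

omit [Fintype ι] [∀ i, IsDomain (D i)] in
theorem mem_P (i : ι) (a : A) : a ∈ P A i ↔ (a : Π i, D i) i = 0 := by
  simp [P, RingHom.mem_ker]

omit [Fintype ι] in
theorem P_isPrime (i : ι) : (P A i).IsPrime := RingHom.ker_isPrime _

include hF hA in
theorem coprime_of_ne (i j : ι) (h : P A i ≠ P A j) : IsCoprime (P A i) (P A j) := by
  classical
  -- there is an element in one but not the other
  have : (∃ a : A, a ∈ P A i ∧ a ∉ P A j) ∨ (∃ a : A, a ∈ P A j ∧ a ∉ P A i) := by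
    by_contra hcon
    push_neg at hcon
    exact h (le_antisymm (fun a ha => hcon.1 a ha) (fun a ha => hcon.2 a ha))
  rw [Ideal.isCoprime_iff_exists]
  rcases this with ⟨a, hai, haj⟩ | ⟨a, haj, hai⟩
  · rw [mem_P] at hai haj
    refine ⟨⟨supp D a, supp_mem F hF A hA a a.2⟩, ?_, 1 - ⟨supp D a, supp_mem F hF A hA a a.2⟩, ?_, by ring⟩
    · rw [mem_P]; simp [supp, hai]
    · rw [mem_P]; simp [supp, haj]
  · rw [mem_P] at hai haj
    refine ⟨1 - ⟨supp D a, supp_mem F hF A hA a a.2⟩, ?_, ⟨supp D a, supp_mem F hF A hA a a.2⟩, ?_, by ring⟩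
    · rw [mem_P]; simp [supp, hai]
    · rw [mem_P]; simp [supp, haj]

include hF hA in
/-- division lemma -/
theorem mem_of_mul_mem (s n : Π i, D i) (hn : n ∈ A) (hnz : n ∈ nonZeroDivisors (Π i, D i))
    (hsn : s * n ∈ A) : s ∈ A := by
  rw [hA]
  intro f hf f' hf'
  have h1 : f (s * n) = f' (s * n) := (hA _).mp hsn f hf f' hf'
  have h2 : f n = f' n := (hA _).mp hn f hf f' hf'
  rw [map_mul, map_mul, ← h2] at h1
  have h3 : (f s - f' s) * f n = 0 := by linear_combination h1
  have := (mem_nonZeroDivisors_iff_right.mp (hF f hf _ hnz)) _ h3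
  linear_combination this

open Classical in
/-- block idempotent -/
noncomputable def blockIdem (Q : Ideal A) : Π i, D i := fun l => if P A l = Q then 1 else 0

include hF hA in
theorem blockIdem_mem (i₀ : ι) : blockIdem A (P A i₀) ∈ A := by
  classical
  -- for each l outside the block choose an idempotent in A that is 1 on the block and 0 at l
  have key : ∀ l : ι, P A l ≠ P A i₀ → ∃ e : Π i, D i, e ∈ A ∧ e l = 0 ∧
      ∀ l', P A l' = P A i₀ → e l' = 1 := by
    intro l hl
    have hc := coprime_of_ne F hF A hA i₀ l (Ne.symm hl)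
    rw [Ideal.isCoprime_iff_exists] at hc
    obtain ⟨u, hu, v, hv, huv⟩ := hc
    refine ⟨supp D v, supp_mem F hF A hA v v.2, ?_, ?_⟩
    · rw [mem_P] at hv
      simp [supp, hv]
    · intro l' hl'
      have hul' : (u : Π i, D i) l' = 0 := by
        rw [← mem_P, hl']; exact hu
      have hvl' : (v : Π i, D i) l' = 1 := by
        have := congrArg (fun x : A => (x : Π i, D i) l') huv
        simp only [Subring.coe_add, Pi.add_apply, hul', zero_add, Subring.coe_one, Pi.one_apply] at this
        exact this
      simp [supp, hvl']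
  choose e he0 he1 he2 using key
  have : blockIdem A (P A i₀) =
      ∏ l ∈ (Finset.univ.filter (fun l => P A l ≠ P A i₀)).attach,
        e l.1 (Finset.mem_filter.mp l.2).2 := by
    funext l'
    rw [Finset.prod_apply]
    unfold blockIdem
    split_ifs with h
    · symm
      apply Finset.prod_eq_one
      intro l _
      exact he2 l.1 _ l' h
    · symm
      apply Finset.prod_eq_zero (i := ⟨l', Finset.mem_filter.mpr ⟨Finset.mem_univ _, h⟩⟩)
        (Finset.mem_attach _ _)
      exact he1 l' h
  rw [this]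
  apply Subring.prod_mem
  intro l _
  exact he0 _ _

include hF hA in
theorem quot_integrallyClosed [∀ i, IsIntegrallyClosed (D i)] (i₀ : ι) :
    IsIntegrallyClosed (A ⧸ P A i₀) := by
  classical
  haveI := P_isPrime A i₀
  rw [isIntegrallyClosed_iff (FractionRing (A ⧸ P A i₀))]
  intro x hx
  obtain ⟨a', b', hb', rfl⟩ := IsFractionRing.div_surjective (A := A ⧸ P A i₀) x
  obtain ⟨a, rfl⟩ := Ideal.Quotient.mk_surjective a'
  obtain ⟨b, rfl⟩ := Ideal.Quotient.mk_surjective b'
  have hbQ : b ∉ P A i₀ := by
    intro hb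
    have h0 : Ideal.Quotient.mk (P A i₀) b = 0 := Ideal.Quotient.eq_zero_iff_mem.mpr hb
    rw [h0] at hb'
    exact zero_notMem_nonZeroDivisors hb'
  have key : ∀ l : ι, P A l = P A i₀ → ∃ t : D l, t * (b : Π i, D i) l = (a : Π i, D i) l := by
    intro l hl
    let q : (A ⧸ P A i₀) →+* D l := Ideal.Quotient.lift (P A i₀) (proj A l)
      (fun c hc => by rw [← hl] at hc; exact hc)
    have hq_inj : Function.Injective q := by
      rw [injective_iff_map_eq_zero]
      intro c hc
      obtain ⟨c, rfl⟩ := Ideal.Quotient.mk_surjective c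
      rw [Ideal.Quotient.lift_mk] at hc
      rw [Ideal.Quotient.eq_zero_iff_mem, ← hl]
      exact hc
    let g : (A ⧸ P A i₀) →+* FractionRing (D l) := (algebraMap (D l) (FractionRing (D l))).comp q
    have hg : Function.Injective g := (IsFractionRing.injective (D l) (FractionRing (D l))).comp hq_inj
    let φ : FractionRing (A ⧸ P A i₀) →+* FractionRing (D l) := IsFractionRing.lift hg
    have hint : IsIntegral (D l) (φ (algebraMap (A ⧸ P A i₀) (FractionRing (A ⧸ P A i₀))
        (Ideal.Quotient.mk (P A i₀) a) / algebraMap (A ⧸ P A i₀) (FractionRing (A ⧸ P A i₀))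
        (Ideal.Quotient.mk (P A i₀) b))) := by
      refine IsIntegral.map_of_comp_eq q φ ?_ hx
      ext c
      simp only [RingHom.comp_apply, φ, IsFractionRing.lift_algebraMap, g]
    obtain ⟨t, ht⟩ := IsIntegrallyClosed.isIntegral_iff.mp hint
    refine ⟨t, ?_⟩
    apply IsFractionRing.injective (D l) (FractionRing (D l))
    rw [map_mul, ht, map_div₀]
    simp only [φ, IsFractionRing.lift_algebraMap]
    have hgb : g (Ideal.Quotient.mk (P A i₀) b) =
        algebraMap (D l) (FractionRing (D l)) ((b : Π i, D i) l) := rfl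
    have hga : g (Ideal.Quotient.mk (P A i₀) a) =
        algebraMap (D l) (FractionRing (D l)) ((a : Π i, D i) l) := rfl
    rw [hga, hgb]
    have hbl : algebraMap (D l) (FractionRing (D l)) ((b : Π i, D i) l) ≠ 0 := by
      intro h0
      have h1 : (b : Π i, D i) l = 0 :=
        IsFractionRing.injective (D l) (FractionRing (D l)) (by rw [h0, map_zero])
      exact hbQ (by rw [← hl, mem_P]; exact h1)
    field_simp
  choose! t ht using key
  let s : Π i, D i := fun l => if P A l = P A i₀ then t l else 0
  have hε : blockIdem A (P A i₀) ∈ A := blockIdem_mem F hF A hA i₀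
  let n : Π i, D i := (b : Π i, D i) * blockIdem A (P A i₀) + (1 - blockIdem A (P A i₀))
  have hnA : n ∈ A := A.add_mem (A.mul_mem b.2 hε) (A.sub_mem A.one_mem hε)
  have hnz : n ∈ nonZeroDivisors (Π i, D i) := by
    apply mem_nzd_of_forall_ne
    intro l
    simp only [n, blockIdem, Pi.add_apply, Pi.mul_apply, Pi.sub_apply, Pi.one_apply]
    split_ifs with h
    · simp only [mul_one, sub_self, add_zero]
      intro h0
      exact hbQ (by rw [← h, mem_P]; exact h0)
    · simp
  have hsn : s * n = (a : Π i, D i) * blockIdem A (P A i₀) := by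
    funext l
    simp only [s, n, blockIdem, Pi.add_apply, Pi.mul_apply, Pi.sub_apply, Pi.one_apply]
    split_ifs with h
    · simp only [mul_one, sub_self, add_zero]
      exact ht l h
    · simp
  have hsA : s ∈ A := mem_of_mul_mem F hF A hA s n hnA hnz (by rw [hsn]; exact A.mul_mem a.2 hε)
  refine ⟨Ideal.Quotient.mk (P A i₀) ⟨s, hsA⟩, ?_⟩
  have hb0 : algebraMap (A ⧸ P A i₀) (FractionRing (A ⧸ P A i₀)) (Ideal.Quotient.mk (P A i₀) b) ≠ 0 := by
    intro h0
    have h1 : Ideal.Quotient.mk (P A i₀) b = 0 :=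
      IsFractionRing.injective (A ⧸ P A i₀) (FractionRing (A ⧸ P A i₀)) (by rw [h0, map_zero])
    exact hbQ (Ideal.Quotient.eq_zero_iff_mem.mp h1)
  rw [eq_div_iff hb0, ← map_mul, ← map_mul]
  congr 1
  rw [Ideal.Quotient.eq, mem_P]
  show s i₀ * (b : Π i, D i) i₀ - (a : Π i, D i) i₀ = 0
  have hs0 : s i₀ = t i₀ := if_pos rfl
  rw [hs0]
  exact sub_eq_zero.mpr (ht i₀ rfl)

end aux

/-- Suppose S is the product of a finite family of integrally closed domains (a finite product of normal
domains), R is any commutative ring, and F is a family of ring maps S → R each carrying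
non-zero-divisors of S to non-zero-divisors of R. Then the subring A of S on which all members of F
coincide (a ∈ A iff f(a) = f'(a) for all f, f' in F) is ring-isomorphic to a product of finitely
many integrally closed domains. -/
theorem result {ι : Type u} [Fintype ι] (D : ι → Type u)
    [∀ i, CommRing (D i)] [∀ i, IsDomain (D i)] [∀ i, IsIntegrallyClosed (D i)]
    (R : Type u) [CommRing R] (F : Set ((Π i, D i) →+* R))
    (hF : ∀ f ∈ F, ∀ s ∈ nonZeroDivisors (Π i, D i), f s ∈ nonZeroDivisors R)
    (A : Subring (Π i, D i)) (hA : ∀ a, a ∈ A ↔ ∀ f ∈ F, ∀ f' ∈ F, f a = f' a) :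
    ∃ (κ : Type u) (_ : Fintype κ) (E : κ → Type u) (_ : ∀ j, CommRing (E j)) (_ : ∀ j, IsDomain (E j))
      (_ : ∀ j, IsIntegrallyClosed (E j)), Nonempty (A ≃+* Π j, E j) := by
  classical
  let κ : Type u := {Q : Ideal A // Q ∈ Set.range (P A)}
  haveI : Finite κ := (Set.finite_range (P A)).to_subtype
  letI : Fintype κ := Fintype.ofFinite κ
  have hprime : ∀ Q : κ, Q.1.IsPrime := by
    rintro ⟨Q, i, rfl⟩
    exact P_isPrime A i
  refine ⟨κ, inferInstance, fun Q => A ⧸ Q.1, fun Q => inferInstance, fun Q => ?_, fun Q => ?_, ⟨?_⟩⟩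
  · haveI := hprime Q
    exact Ideal.Quotient.isDomain _
  · obtain ⟨Q, i, rfl⟩ := Q
    exact quot_integrallyClosed F hF A hA i
  · have hcop : Pairwise (Function.onFun IsCoprime (fun Q : κ => Q.1)) := by
      rintro ⟨Q, i, rfl⟩ ⟨Q', j, rfl⟩ hne
      exact coprime_of_ne F hF A hA i j (fun h => hne (Subtype.ext h))
    have hinf : (⨅ Q : κ, Q.1) = ⊥ := by
      rw [eq_bot_iff]
      intro a ha
      rw [Ideal.mem_bot]
      apply Subtype.ext
      funext i
      have h1 : a ∈ P A i := (Ideal.mem_iInf.mp ha) ⟨P A i, i, rfl⟩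
      exact (mem_P A i a).mp h1
    exact (RingEquiv.quotientBot A).symm.trans
      ((Ideal.quotEquivOfEq hinf.symm).trans (Ideal.quotientInfRingEquivPiQuotient _ hcop))



end Groth.Agent.S11135
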