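import Groth.Statements.S11136
import Mathlib.RingTheory.Invariant.Basic
import Mathlib.RingTheory.Spectrum.Prime.Topology
import Mathlib.Topology.NoetherianSpace
import Mathlib.RingTheory.Spectrum.Prime.Noetherian

set_option autoImplicit false
universe u v
open InvTh

namespace Groth.Agent.S11136

open scoped Pointwise
open PrimeSpectrum

theorem isOpen_connectedComponent_of_noetherian {X : Type*} [TopologicalSpace X]
    [TopologicalSpace.NoetherianSpace X] (x : X) : IsOpen (connectedComponent x) := by
  have hfin : (irreducibleComponents X).Finite :=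
    TopologicalSpace.NoetherianSpace.finite_irreducibleComponents
  have hcompl : (connectedComponent x)ᶜ =
      ⋃₀ {Z ∈ irreducibleComponents X | Disjoint Z (connectedComponent x)} := by
    ext y
    constructor
    · intro hy
      refine ⟨irreducibleComponent y, ⟨irreducibleComponent_mem_irreducibleComponents y, ?_⟩,
        mem_irreducibleComponent⟩
      rw [Set.disjoint_left]
      intro z hz hzx
      apply hy
      have h1 : irreducibleComponent y ⊆ connectedComponent z :=
        (isIrreducible_irreducibleComponent (x := y)).isPreirreducible.isPreconnected.subset_connectedComponent hz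
      have h2 : connectedComponent z = connectedComponent x := (connectedComponent_eq hzx).symm
      rw [← h2]
      exact h1 mem_irreducibleComponent
    · rintro ⟨Z, ⟨-, hZ⟩, hyZ⟩ hyx
      exact Set.disjoint_left.1 hZ hyZ hyx
  rw [← isClosed_compl_iff, hcompl, Set.sUnion_eq_biUnion]
  refine Set.Finite.isClosed_biUnion (hfin.subset (fun Z hZ => hZ.1)) ?_
  intro Z hZ
  exact isClosed_of_mem_irreducibleComponents Z hZ.1

section

variable (A : Type u) (R : Type v) [CommRing A] [CommRing R] [Algebra A R]
    (G : Type u) [Group G] [MulSemiringAction G R] [SMulCommClass G A R]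

/-- the action of `g` on the prime spectrum -/
noncomputable def φ (g : G) : PrimeSpectrum R → PrimeSpectrum R :=
  PrimeSpectrum.comap (MulSemiringAction.toRingHom G R g)

theorem phi_phi (g h : G) (P : PrimeSpectrum R) : φ R G g (φ R G h P) = φ R G (h * g) P := by
  unfold φ
  rw [← PrimeSpectrum.comap_comp_apply]
  congr 1
  ext r
  simp [mul_smul]

theorem phi_one (P : PrimeSpectrum R) : φ R G 1 P = P := by
  unfold φ
  have : MulSemiringAction.toRingHom G R 1 = RingHom.id R := by
    ext r; simp
  rw [this]
  simp

theorem continuous_phi (g : G) : Continuous (φ R G g) := PrimeSpectrum.continuous_comap _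

theorem pi_phi (g : G) (P : PrimeSpectrum R) :
    PrimeSpectrum.comap (algebraMap A R) (φ R G g P) = PrimeSpectrum.comap (algebraMap A R) P := by
  unfold φ
  rw [← PrimeSpectrum.comap_comp_apply]
  congr 1
  ext a
  simp [smul_algebraMap]

theorem exists_phi_eq [Finite G] [Algebra.IsInvariant A R G] (P Q : PrimeSpectrum R)
    (h : PrimeSpectrum.comap (algebraMap A R) P = PrimeSpectrum.comap (algebraMap A R) Q) :
    ∃ g : G, Q = φ R G g P := by
  have h' : P.asIdeal.under A = Q.asIdeal.under A := congrArg PrimeSpectrum.asIdeal h
  obtain ⟨g, hg⟩ := Algebra.IsInvariant.exists_smul_of_under_eq A R G P.asIdeal Q.asIdeal h'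
  refine ⟨g⁻¹, PrimeSpectrum.ext ?_⟩
  rw [hg]
  ext r
  unfold φ
  simp [Ideal.mem_pointwise_smul_iff_inv_smul_mem]

end

/-- Let a finite group G act on a Noetherian commutative ring R by ring automorphisms, with ring of
invariants A (A → R injective with image the fixed elements). When the prime spectrum of A is
connected, any two connected components of Spec R are exchanged by some element of G: for all points
x, y of Spec R there is g in G whose induced self-map of Spec R carries the connected component of x
onto the connected component of y. -/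
theorem result
    (A : Type u) (R : Type v) [CommRing A] [CommRing R] [Algebra A R] [IsNoetherianRing R]
    (G : Type u) [Group G] [Finite G] [MulSemiringAction G R] [SMulCommClass G A R]
    [Algebra.IsInvariant A R G] [FaithfulSMul A R]
    [ConnectedSpace (PrimeSpectrum A)] (x y : PrimeSpectrum R) :
    ∃ g : G, PrimeSpectrum.comap (MulSemiringAction.toRingHom G R g) '' connectedComponent x =
      connectedComponent y := by
  have hint : Algebra.IsIntegral A R := Algebra.IsInvariant.isIntegral A R G
  have hNS : TopologicalSpace.NoetherianSpace (PrimeSpectrum R) := inferInstance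
  set π := PrimeSpectrum.comap (algebraMap A R) with hπ
  have hπc : IsClosedMap π :=
    PrimeSpectrum.isClosedMap_comap_of_isIntegral _ (algebraMap_isIntegral_iff.2 hint)
  have hπs : Function.Surjective π := Algebra.IsIntegral.comap_surjective A R
  let T : Set (PrimeSpectrum R) := ⋃ g : G, φ R G g '' connectedComponent x
  have himg : ∀ g : G, φ R G g '' connectedComponent x = connectedComponent (φ R G g x) := by
    intro g
    apply subset_antisymm ((continuous_phi R G g).image_connectedComponent_subset x)
    intro z hz
    refine ⟨φ R G g⁻¹ z, ?_, ?_⟩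
    · have := (continuous_phi R G g⁻¹).image_connectedComponent_subset (φ R G g x) ⟨z, hz, rfl⟩
      rwa [phi_phi, mul_inv_cancel, phi_one] at this
    · rw [phi_phi, inv_mul_cancel, phi_one]
  have hTclopen : IsClopen T := by
    refine isClopen_iUnion_of_finite (fun g => ?_)
    rw [himg]
    exact ⟨isClosed_connectedComponent, isOpen_connectedComponent_of_noetherian _⟩
  have hTstable : ∀ (h : G) (P : PrimeSpectrum R), P ∈ T → φ R G h P ∈ T := by
    intro h P hP
    obtain ⟨g, Q, hQ, rfl⟩ := Set.mem_iUnion.1 hP
    exact Set.mem_iUnion.2 ⟨g * h, Q, hQ, (phi_phi R G h g Q).symm⟩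
  have hxT : x ∈ T := Set.mem_iUnion.2 ⟨1, x, mem_connectedComponent, phi_one R G x⟩
  have hcompl : (π '' T)ᶜ = π '' Tᶜ := by
    ext q
    constructor
    · intro hq
      obtain ⟨Q, rfl⟩ := hπs q
      exact ⟨Q, fun hQ => hq ⟨Q, hQ, rfl⟩, rfl⟩
    · rintro ⟨Q, hQ, rfl⟩ ⟨P, hP, hPQ⟩
      obtain ⟨g, rfl⟩ := exists_phi_eq A R G P Q hPQ
      exact hQ (hTstable g P hP)
  have hπT : IsClopen (π '' T) := by
    refine ⟨hπc _ hTclopen.1, ?_⟩
    rw [← isClosed_compl_iff, hcompl]
    exact hπc _ hTclopen.2.isClosed_compl
  have huniv : π '' T = Set.univ := hπT.eq_univ ⟨π x, x, hxT, rfl⟩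
  have hy : π y ∈ π '' T := huniv ▸ Set.mem_univ _
  obtain ⟨P, hP, hPy⟩ := hy
  obtain ⟨g, rfl⟩ := exists_phi_eq A R G P y hPy
  have hyT := hTstable g P hP
  obtain ⟨g', z, hz, hzy⟩ := Set.mem_iUnion.1 hyT
  refine ⟨g', ?_⟩
  change φ R G g' '' connectedComponent x = _
  rw [himg]
  have : φ R G g P ∈ connectedComponent (φ R G g' x) := by
    rw [← himg]; exact ⟨z, hz, hzy⟩
  exact connectedComponent_eq this

end Groth.Agent.S11136
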