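import Groth.Statements.S11140
import Groth.Agent.Lib.H8InvSetup

set_option autoImplicit false
universe u
open TensorProduct
open InvTh

namespace Groth.Agent.S11140


/-- Let k be a field and H a finite-dimensional commutative Hopf algebra over k (the coordinate ring of
a finite k-group scheme G) which is linearly reductive, i.e. every finite-dimensional H-comodule is
semisimple. Let R be a commutative k-algebra of finite type with an H-comodule structure whose
coaction R → R ⊗ H is multiplicative and unital (an action of G on Spec R), and let A be the
k-subalgebra of invariants. If R is a Cohen–Macaulay ring, then so is A, and R is maximal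
Cohen–Macaulay as a module over A: for every prime p of A the localized module R_p over A_p is
Cohen–Macaulay and its support has Krull dimension equal to that of A_p. -/
theorem result (k : Type u) [Field k]
    (H : Type u) [CommRing H] [HopfAlgebra k H] [Module.Finite k H] (hG : HopfRep.IsLinearlyReductive k H)
    (R : Type u) [CommRing R] [Algebra k R] [Algebra.FiniteType k R] [HopfRep.Comod k H R]
    (hmul : ∀ x y : R, HopfRep.Comod.coact (k := k) (A := H) (x * y) =
        HopfRep.Comod.coact (k := k) (A := H) x * HopfRep.Comod.coact (k := k) (A := H) y)
    (hone : HopfRep.Comod.coact (k := k) (A := H) (1 : R) = 1)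
    (A : Subalgebra k R)
    (hA : ∀ a : R, a ∈ A ↔ HopfRep.Comod.coact (k := k) (A := H) a = a ⊗ₜ[k] (1 : H))
    (hR : LocCoh.IsCohenMacaulayRing R) :
    LocCoh.IsCohenMacaulayRing A ∧ ∀ (p : Ideal A) [p.IsPrime],
      LocCoh.IsCohenMacaulayModule (Localization.AtPrime p) (LocalizedModule p.primeCompl R) ∧
        Module.supportDim (Localization.AtPrime p) (LocalizedModule p.primeCompl R) =
          ringKrullDim (Localization.AtPrime p) := by
  haveI : GLin.IsCoactAlg k H R := ⟨hone, hmul⟩
  obtain rfl : A = GLin.invariants k H R :=
    SetLike.ext fun a => (hA a).trans (GLin.mem_invariants_iff k H R a).symm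
  haveI : IsNoetherianRing R := Algebra.FiniteType.isNoetherianRing k R
  haveI := Groth.Agent.Lib.H8InvSetup.finite_invariants k H R
  haveI := Groth.Agent.Lib.H8InvSetup.isNoetherianRing_invariants k H R
  haveI : Algebra.HasGoingDown (GLin.invariants k H R) R :=
    Groth.Agent.Lib.H8InvGD.hasGoingDown_invariants (H := H)
  obtain ⟨E, hE⟩ := Groth.Agent.Lib.H8InvSetup.exists_retraction (R := R) hG
  exact Groth.Agent.Lib.H8InvCM.isCM_of_isCM E hE

end Groth.Agent.S11140
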