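import Groth.Statements.S11141
import Groth.Agent.S11135
import Groth.Agent.Lib.ShearMap18

set_option autoImplicit false
universe u
open TensorProduct
open InvTh

namespace Groth.Agent.S11141

/-- Let k be a field, H a finitely generated commutative Hopf algebra over k (the coordinate ring of a
group scheme affine and of finite type over k), and S a commutative k-algebra which is
ring-isomorphic to a finite product of normal (integrally closed) domains and carries an H-comodule
structure whose coaction S → S ⊗ H is multiplicative and unital. Then the k-subalgebra of invariants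
of S, the elements s whose coaction is s ⊗ 1, is again ring-isomorphic to a finite product of normal
domains. -/
theorem result (k : Type u) [Field k]
    (H : Type u) [CommRing H] [HopfAlgebra k H] [Algebra.FiniteType k H]
    (S : Type u) [CommRing S] [Algebra k S] [HopfRep.Comod k H S]
    (hmul : ∀ x y : S, HopfRep.Comod.coact (k := k) (A := H) (x * y) =
        HopfRep.Comod.coact (k := k) (A := H) x * HopfRep.Comod.coact (k := k) (A := H) y)
    (hone : HopfRep.Comod.coact (k := k) (A := H) (1 : S) = 1)
    {ι : Type u} [Fintype ι] (D : ι → Type u) [∀ i, CommRing (D i)] [∀ i, IsDomain (D i)]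
    [∀ i, IsIntegrallyClosed (D i)] (e : S ≃+* Π i, D i)
    (A : Subalgebra k S)
    (hA : ∀ a : S, a ∈ A ↔ HopfRep.Comod.coact (k := k) (A := H) a = a ⊗ₜ[k] (1 : H)) :
    ∃ (κ : Type u) (_ : Fintype κ) (E : κ → Type u) (_ : ∀ j, CommRing (E j)) (_ : ∀ j, IsDomain (E j))
      (_ : ∀ j, IsIntegrallyClosed (E j)), Nonempty (A ≃+* Π j, E j) := by
  classical
  let ρ : S →+* S ⊗[k] H :=
    { toFun := HopfRep.Comod.coact (k := k) (A := H)
      map_one' := hone
      map_mul' := hmul
      map_zero' := map_zero _
      map_add' := map_add _ }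
  let ι₀ : S →+* S ⊗[k] H := Algebra.TensorProduct.includeLeftRingHom
  let f₁ : (Π i, D i) →+* S ⊗[k] H := ρ.comp e.symm.toRingHom
  let f₂ : (Π i, D i) →+* S ⊗[k] H := ι₀.comp e.symm.toRingHom
  let F : Set ((Π i, D i) →+* S ⊗[k] H) := {f₁, f₂}
  let A' : Subring (Π i, D i) := A.toSubring.comap e.symm.toRingHom
  have hnzd : ∀ s ∈ nonZeroDivisors (Π i, D i), e.symm s ∈ nonZeroDivisors S := by
    intro s hs
    rw [mem_nonZeroDivisors_iff_left] at hs ⊢
    intro x hx
    have h1 : s * e x = 0 := by
      have := congrArg e hx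
      rwa [map_mul, RingEquiv.apply_symm_apply, map_zero] at this
    have h2 := hs _ h1
    exact (map_eq_zero_iff e e.injective).mp h2
  have hF : ∀ f ∈ F, ∀ s ∈ nonZeroDivisors (Π i, D i), f s ∈ nonZeroDivisors (S ⊗[k] H) := by
    intro f hf s hs
    have h0 := Groth.Agent.Lib.ShearMap18.tmul_one_mem_nonZeroDivisors (k := k) (H := H)
      (e.symm s) (hnzd s hs)
    rcases hf with rfl | rfl
    · exact Groth.Agent.Lib.ShearMap18.rho_mem_nonZeroDivisors hmul (e.symm s) h0
    · exact h0
  have hA' : ∀ a, a ∈ A' ↔ ∀ f ∈ F, ∀ f' ∈ F, f a = f' a := by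
    intro a
    have h1 : a ∈ A' ↔ HopfRep.Comod.coact (k := k) (A := H) (e.symm a) =
        (e.symm a) ⊗ₜ[k] (1 : H) := hA (e.symm a)
    rw [h1]
    constructor
    · intro h f hf f' hf'
      have h12 : f₁ a = f₂ a := h
      rcases hf with rfl | rfl <;> rcases hf' with rfl | rfl
      · rfl
      · exact h12
      · exact h12.symm
      · rfl
    · intro h
      exact h f₁ (Or.inl rfl) f₂ (Or.inr rfl)
  obtain ⟨κ, hκ, E, i1, i2, i3, ⟨φ⟩⟩ :=
    Groth.Agent.S11135.result D (S ⊗[k] H) F hF A' hA'
  let ψ : A ≃+* A' :=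
    { toFun := fun a => ⟨e a, by
        change e.symm (e a) ∈ A
        rw [RingEquiv.symm_apply_apply]; exact a.2⟩
      invFun := fun a' => ⟨e.symm a', a'.2⟩
      left_inv := fun a => Subtype.ext (e.symm_apply_apply a)
      right_inv := fun a' => Subtype.ext (e.apply_symm_apply a')
      map_mul' := fun a b => Subtype.ext (map_mul e (a : S) (b : S))
      map_add' := fun a b => Subtype.ext (map_add e (a : S) (b : S)) }
  exact ⟨κ, hκ, E, i1, i2, i3, ⟨ψ.trans φ⟩⟩

end Groth.Agent.S11141
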