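import Groth.Statements.S11142
import Mathlib.AlgebraicGeometry.Morphisms.UniversallyOpen

set_option autoImplicit false
universe u
open CategoryTheory AlgebraicGeometry
open FlatMor

namespace Groth.Agent.S11142

theorem exists_generization_mem_of_dense {Y : Type*} [TopologicalSpace Y] (W : Set Y) (hW : IsOpen W)
    [TopologicalSpace.NoetherianSpace W] [QuasiSober W] (U : Set Y) (hUo : IsOpen U) (hU : Dense U) (y : Y) (hy : y ∈ W) :
    ∃ η ∈ U, η ⤳ y := by
  let y' : W := ⟨y, hy⟩
  have hZ : irreducibleComponent y' ∈ irreducibleComponents W :=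
    irreducibleComponent_mem_irreducibleComponents y'
  obtain ⟨η, hη⟩ := QuasiSober.sober (isIrreducible_irreducibleComponent (x := y'))
    (isClosed_irreducibleComponent (x := y'))
  obtain ⟨o, ho, hone, hoZ⟩ :=
    TopologicalSpace.NoetherianSpace.exists_isOpen_nonempty_subset_irreducibleComponent _ hZ
  have hU' : Dense ((Subtype.val : W → Y) ⁻¹' U) := hU.preimage hW.isOpenMap_subtype_val
  have hUo' : IsOpen ((Subtype.val : W → Y) ⁻¹' U) := hUo.preimage continuous_subtype_val
  obtain ⟨z, hzo, hzU⟩ := hU'.inter_open_nonempty o ho hone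
  have hmem : η ∈ o ∩ (Subtype.val : W → Y) ⁻¹' U :=
    (hη.mem_open_set_iff (ho.inter hUo')).2 ⟨z, hoZ hzo, hzo, hzU⟩
  refine ⟨η.1, hmem.2, ?_⟩
  have h1 : η ⤳ y' := hη.specializes mem_irreducibleComponent
  exact h1.map continuous_subtype_val

/-- For a flat morphism f : X → Y between locally Noetherian schemes, the preimage under f of any dense
open subset of Y is dense in X. -/
theorem result (X Y : Scheme.{u}) [IsLocallyNoetherian X]
    [IsLocallyNoetherian Y] (f : X ⟶ Y) [Flat f] (U : Y.Opens) (hU : Dense (U : Set Y)) :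
    Dense ((f ⁻¹ᵁ U : X.Opens) : Set X) := by
  intro x
  rw [mem_closure_iff]
  intro o ho hxo
  obtain ⟨_, ⟨W, hW, rfl⟩, hyW, -⟩ := Y.isBasis_affineOpens.exists_subset_of_mem_open
    (Set.mem_univ (f x)) isOpen_univ
  have hN : IsNoetherianRing Γ(Y, W) := IsLocallyNoetherian.component_noetherian ⟨W, hW⟩
  have hNS : TopologicalSpace.NoetherianSpace W := noetherianSpace_of_isAffineOpen W hW
  have hQS : QuasiSober W := inferInstance
  obtain ⟨η, hηU, hη⟩ := @exists_generization_mem_of_dense _ _ (W : Set Y) W.isOpen hNS hQS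
    (U : Set Y) U.isOpen hU (f x) hyW
  obtain ⟨x', hx', hfx'⟩ := (Flat.generalizingMap f) hη
  exact ⟨x', hx'.mem_open ho hxo, by
    change f x' ∈ U
    rw [hfx']; exact hηU⟩

end Groth.Agent.S11142
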