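import Groth.Statements.S11147
import Groth.Agent.Lib.MacLane5H44
import Groth.Agent.S3177
import Groth.Agent.S3191

set_option autoImplicit false
universe u
open FrobAlg

namespace Groth.Agent.S11147

open TensorProduct

section

variable (p : ℕ) [Fact p.Prime] (k K : Type u) [Field k] [Field K] [Algebra k K] [CharP k p]
  [CharP K p]

theorem relFrob_tmul (b : K) (a : FrobAlg.Twist p k) :
    FrobAlg.relFrob p k K (b ⊗ₜ a) = b ^ p * algebraMap k K ((FrobAlg.toTwist p k).symm a) := by
  simp only [FrobAlg.relFrob, FrobAlg.frobHom, FrobAlg.inclHom, AlgHom.toRingHom_eq_coe,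
    RingHom.coe_comp, RingHom.coe_coe, Function.comp_apply, Algebra.TensorProduct.lift_tmul]
  rfl

theorem surjective_of_isSeparable [Algebra.IsSeparable k K] :
    Function.Surjective (FrobAlg.relFrob p k K) := by
  intro y
  have hq : ExpChar k p := ExpChar.prime (Fact.out : p.Prime)
  have h1 := Field.span_map_pow_expChar_pow_eq_top_of_isSeparable (F := k) (E := K) p 1
    (v := fun x : K => x) (by simp)
  have hy : y ∈ Submodule.span k (Set.range (fun x : K => x ^ p ^ 1)) := by
    rw [h1]; trivial
  induction hy using Submodule.span_induction with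
  | mem x hx =>
    obtain ⟨z, rfl⟩ := hx
    refine ⟨z ⊗ₜ 1, ?_⟩
    rw [relFrob_tmul]
    simp
  | zero => exact ⟨0, map_zero _⟩
  | add x y _ _ hx hy =>
    obtain ⟨a, rfl⟩ := hx
    obtain ⟨b, rfl⟩ := hy
    exact ⟨a + b, map_add _ _ _⟩
  | smul a x _ hx =>
    obtain ⟨z, rfl⟩ := hx
    refine ⟨(1 ⊗ₜ (FrobAlg.toTwist p k a)) * z, ?_⟩
    rw [map_mul, relFrob_tmul, Algebra.smul_def]
    simp

theorem injective_of_isSeparable [Algebra.IsSeparable k K] :
    Function.Injective (FrobAlg.relFrob p k K) := by
  have h1 : Algebra.FormallyEtale k K := Algebra.FormallyEtale.of_isSeparable k K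
  have h2 : Algebra.FormallySmooth k K := inferInstance
  have h3 : Algebra.IsGeometricallyReduced k K :=
    (Groth.Agent.Lib.MacLane4H44.formallySmooth_iff_isGeometricallyReduced k K).1 h2
  have h4 : IsReduced (FrobAlg.Twist p k) := inferInstanceAs (IsReduced k)
  have h5 : IsReduced (K ⊗[k] FrobAlg.Twist p k) :=
    Groth.Agent.Lib.MacLane5H44.isReduced_tensor_of_isGeometricallyReduced_field k K
      (FrobAlg.Twist p k)
  rw [injective_iff_map_eq_zero]
  intro x hx
  have := (Groth.Agent.S3191.result p k K).2 x hx
  exact IsReduced.eq_zero _ ⟨p, this⟩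

end


/-- Let p be a prime and k ⊆ K fields of characteristic p such that K is finitely generated over k as a
field. Then the relative Frobenius ring homomorphism K ⊗_{k,Frob} k → K, b ⊗ a ↦ b^p a (the
Radu–André homomorphism of k → K), is bijective exactly when K is algebraic over k and every element
of K is separable over k. -/
theorem result (p : ℕ) [Fact p.Prime] (k K : Type u) [Field k]
    [Field K] [Algebra k K] [CharP k p] [CharP K p] (hfg : (⊤ : IntermediateField k K).FG) :
    Function.Bijective (FrobAlg.relFrob p k K) ↔ Algebra.IsSeparable k K := by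
  have hess : Algebra.EssFiniteType k K := IntermediateField.fg_top_iff.1 hfg
  constructor
  · intro h
    have h1 : @Algebra.FormallyUnramified (FrobAlg.BaseChange p k K) K _ _
        (FrobAlg.relFrob p k K).toAlgebra := by
      let := (FrobAlg.relFrob p k K).toAlgebra
      exact Algebra.FormallyUnramified.of_surjective
        (Algebra.ofId (FrobAlg.BaseChange p k K) K) h.2
    have h2 : Algebra.FormallyUnramified k K := (Groth.Agent.S3177.result p k K).2 h1
    exact Algebra.FormallyUnramified.isSeparable k K
  · intro h
    exact ⟨injective_of_isSeparable p k K, surjective_of_isSeparable p k K⟩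

end Groth.Agent.S11147
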