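import Groth.Statements.S11153
import Groth.Agent.Lib.DInjHom

set_option autoImplicit false
universe w v u
open CategoryTheory CategoryTheory.Limits
open CohDer

namespace Groth.Agent.S11153

/-- (i) ⇔ (iii): let A be an abelian category with enough injectives and K a bounded below cochain
complex of objects of A. Then K admits a quasi-isomorphism into a bounded complex of injective
objects of A if and only if there is an integer n₀ such that Hom_{D(A)}(Y[0], K[i]) = 0 for every
object Y of A and every i > n₀. -/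
theorem result {A : Type u} [Category.{v} A] [Abelian A]
    [HasDerivedCategory.{w} A] [EnoughInjectives A]
    (K : CochainComplex A ℤ) (a : ℤ) [K.IsStrictlyGE a] :
    (∃ (I : CochainComplex A ℤ) (b c : ℤ) (f : K ⟶ I), I.IsStrictlyGE b ∧ I.IsStrictlyLE c ∧
        (∀ n : ℤ, Injective (I.X n)) ∧ QuasiIso f) ↔
      ∃ n₀ : ℤ, ∀ (Y : A) (i : ℤ), n₀ < i →
        ∀ φ : (DerivedCategory.singleFunctor A 0).obj Y ⟶ (DerivedCategory.Q.obj K)⟦i⟧, φ = 0 := by
  constructor
  · rintro ⟨I, b, c, f, hb, hc, hI, hf⟩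
    refine ⟨c, fun Y i hi φ => ?_⟩
    have hfiso : IsIso (DerivedCategory.Q.map f) := by
      rw [DerivedCategory.isIso_Q_map_iff_quasiIso]
      exact hf
    have : I.IsKInjective := CochainComplex.isKInjective_of_injective I b
    have hz : ∀ φ' : (DerivedCategory.singleFunctor A 0).obj Y ⟶ (DerivedCategory.Q.obj I)⟦i⟧,
        φ' = 0 := by
      rw [Groth.Agent.Lib.DInjHom.hom_single_shift_iff]
      intro ψ
      exact Groth.Agent.Lib.DInjHom.hom_single_eq_zero_of_isZero I i
        (I.isZero_of_isStrictlyLE c i hi) Y ψ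
    have h1 := hz (φ ≫ (DerivedCategory.Q.map f)⟦i⟧')
    have h2 : φ = (φ ≫ (DerivedCategory.Q.map f)⟦i⟧') ≫ (inv (DerivedCategory.Q.map f))⟦i⟧' := by
      rw [Category.assoc, ← Functor.map_comp, IsIso.hom_inv_id, CategoryTheory.Functor.map_id,
        Category.comp_id]
    rw [h2, h1, zero_comp]
  · rintro ⟨n₀, h⟩
    obtain ⟨J, f, h1, h2, h3, h4⟩ :=
      Groth.Agent.Lib.DInjHom.exists_quasiIso_bounded_injective K a n₀ h
    exact ⟨J, a, n₀, f, h1, h2, h3, h4⟩

end Groth.Agent.S11153
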