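import Groth.Statements.S11159
import Groth.Agent.Lib.DConeRep

set_option autoImplicit false
universe w v u
open CategoryTheory CategoryTheory.Limits CategoryTheory.Pretriangulated
open CohDer

namespace Groth.Agent.S11159

open Groth.Agent.Lib.DConeRep in
lemma rep_iff {A : Type u} [Category.{v} A] [Abelian A] [HasDerivedCategory.{w} A]
    (K : DerivedCategory A) :
    (∃ (I : CochainComplex A ℤ) (b c : ℤ), I.IsStrictlyGE b ∧ I.IsStrictlyLE c ∧
        (∀ n : ℤ, Injective (I.X n)) ∧ Nonempty (K ≅ DerivedCategory.Q.obj I)) ↔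
      Rep (BddInj (C := A)) K := by
  constructor
  · rintro ⟨I, b, c, hb, hc, hI, ⟨e⟩⟩
    refine ⟨I, ⟨⟨b, c, fun i hi => ?_⟩, hI⟩, ⟨e.symm⟩⟩
    rcases hi with hi | hi
    · exact I.isZero_of_isStrictlyGE b i hi
    · exact I.isZero_of_isStrictlyLE c i hi
  · rintro ⟨I, ⟨⟨b, c, hbc⟩, hI⟩, ⟨e⟩⟩
    refine ⟨I, b, c, ?_, ?_, hI, ⟨e.symm⟩⟩
    · rw [CochainComplex.isStrictlyGE_iff]
      exact fun i hi => hbc i (Or.inl hi)
    · rw [CochainComplex.isStrictlyLE_iff]
      exact fun i hi => hbc i (Or.inr hi)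

/-- Let A be an abelian category with enough injectives and X ⟶ Y ⟶ Z ⟶ X⟦1⟧ a distinguished triangle in
D(A). If X and Z are each isomorphic in D(A) to a bounded complex of injective objects of A, then so
is Y. -/
theorem result {A : Type u} [Category.{v} A] [Abelian A]
    [HasDerivedCategory.{w} A] [EnoughInjectives A]
    (T : Triangle (DerivedCategory A)) (hT : T ∈ distTriang (DerivedCategory A))
    (h₁ : (∃ (I : CochainComplex A ℤ) (b c : ℤ), I.IsStrictlyGE b ∧ I.IsStrictlyLE c ∧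
        (∀ n : ℤ, Injective (I.X n)) ∧ Nonempty (T.obj₁ ≅ DerivedCategory.Q.obj I)))
    (h₃ : (∃ (I : CochainComplex A ℤ) (b c : ℤ), I.IsStrictlyGE b ∧ I.IsStrictlyLE c ∧
        (∀ n : ℤ, Injective (I.X n)) ∧ Nonempty (T.obj₃ ≅ DerivedCategory.Q.obj I))) :
    (∃ (I : CochainComplex A ℤ) (b c : ℤ), I.IsStrictlyGE b ∧ I.IsStrictlyLE c ∧
        (∀ n : ℤ, Injective (I.X n)) ∧ Nonempty (T.obj₂ ≅ DerivedCategory.Q.obj I)) := by
  rw [rep_iff] at h₁ h₃ ⊢
  exact Groth.Agent.Lib.DConeRep.rep_obj₂ Groth.Agent.Lib.DConeRep.coneClass_bddInj T hT h₁ h₃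

end Groth.Agent.S11159
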