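import Groth.Statements.S11164
import Groth.Agent.Lib.ModSiteEnoughFlat
import Groth.Agent.Lib.StalkFlatConverse66
import Groth.Agent.Lib.ModSiteKFlatBdd66

set_option autoImplicit false
universe u
open CategoryTheory CategoryTheory.Limits AlgebraicGeometry
attribute [local instance] HasDerivedCategory.standard
open Coherent

namespace Groth.Agent.S11164

/-- Every O_X-module on a scheme X is a quotient of a flat O_X-module; precisely, for every O_X-module F
there are opens U_i of X and an epimorphism ∐ j_{U_i !} O_{U_i} ⟶ F, and such a direct sum of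
extensions by zero of structure sheaves of opens is flat (all its stalks are flat over the local
rings). -/
theorem result {X : Scheme.{u}} (F : X.Modules) :
    ∃ (ι : Type u) (U : ι → X.Opens) (p : (∐ fun i => CxOX.extZeroUnit (U i).ι) ⟶ F),
      Epi p ∧ FlatMod.IsFlat (∐ fun i => CxOX.extZeroUnit (U i).ι) := by
  let F' : ModSite.Mod X.sheaf := F
  let ι := Groth.Agent.Lib.ModSiteFlat.Sec X.sheaf F'
  let U : ι → X.Opens := fun s => s.1
  let e : ∀ i : ι, CxOX.extZeroUnit (U i).ι ≅ ModSite.freeOn X.sheaf (U i) := fun i =>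
    (CxOX.extZeroIsoSite (U i)).app (Coh.structureModule (U i)) ≪≫
      (ModSite.extZero X.sheaf (U i)).mapIso
        (TopologicalSpace.Opens.sheafOfModulesEquivOverInverseUnit (U i) X.ringCatSheaf)
  let E : (∐ fun i => CxOX.extZeroUnit (U i).ι) ≅ (∐ fun i : ι => ModSite.freeOn X.sheaf (U i)) :=
    Sigma.mapIso e
  have hepi : Epi (Groth.Agent.Lib.ModSiteFlat.freeCover X.sheaf F') :=
    Groth.Agent.Lib.ModSiteFlat.instEpiModFreeCover X.sheaf F'
  refine ⟨ι, U, E.hom ≫ Groth.Agent.Lib.ModSiteFlat.freeCover X.sheaf F', ?_, ?_⟩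
  · exact @epi_comp _ _ _ _ _ E.hom inferInstance _ hepi
  · apply Groth.Agent.Lib.StalkFlatConverse66.isFlat_stalkwise_of_siteFlat
    exact Groth.Agent.Lib.ModSiteKFlatBdd66.isFlat_of_iso E.symm
      (Groth.Agent.Lib.ModSiteFlat.isFlat_sigma X.sheaf _
        (fun s => Groth.Agent.Lib.ModSiteFlat.isFlat_freeOn s.1))

end Groth.Agent.S11164
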