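import Groth.Statements.S11165
import Groth.Agent.Lib.RDerEdge
import Groth.Agent.Lib.AffMorAcyclic
import Groth.Agent.Lib.RpushRestrict
import Groth.Agent.S11319
import Mathlib.CategoryTheory.Sites.Pullback

set_option autoImplicit false
universe u
open CategoryTheory CategoryTheory.Limits AlgebraicGeometry
open Coherent

namespace Groth.Agent.S11165

/-- Let f : X ⟶ Y be a separated morphism of schemes, U an open of X on which f restricts to an affine
morphism, i : U ⟶ X the inclusion and F a quasi-coherent O_X-module. Then i_*(F|_U) is acyclic for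
f_*: its higher direct images R^j f_* vanish for j > 0. (The binder asserting injective resolutions
of O_X-modules always holds.) -/
theorem result {X Y : Scheme.{u}} (f : X ⟶ Y) [IsSeparated f]
    (U : X.Opens) [IsAffineHom (U.ι ≫ f)] (F : X.Modules) (hF : Coh.IsQCoh F)
    [HasInjectiveResolutions X.Modules] (j : ℕ) (hj : 0 < j) :
    IsZero ((Coh.Rpush f j).obj ((Scheme.Modules.pushforward U.ι).obj ((Scheme.Modules.restrictFunctor U.ι).obj F))) := by
  obtain ⟨q, rfl⟩ : ∃ q, j = q + 1 := ⟨j - 1, by omega⟩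
  have hFq : F.IsQuasicoherent := hF
  have hG : ((Scheme.Modules.restrictFunctor U.ι).obj F).IsQuasicoherent := inferInstance
  have hUι : IsAffineHom U.ι := IsAffineHom.of_comp U.ι f
  apply Groth.Agent.Lib.RpushRestrict.isZero_of_isZero_toAb
  obtain ⟨e⟩ := Groth.Agent.S11319.result f
    ((Scheme.Modules.pushforward U.ι).obj ((Scheme.Modules.restrictFunctor U.ι).obj F)) (q + 1)
  refine IsZero.of_iso ?_ e
  -- abelian level
  have hpull : PreservesFiniteLimits (CohTop.pull U.ι.base) :=
    Functor.SmallCategories.instPreservesFiniteLimitsSheafSheafPullbackOfRepresentablyFlat _ _ _ _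
  have : (Coh.pushAb U.ι).PreservesInjectiveObjects :=
    Functor.preservesInjectiveObjects_of_adjunction_of_preservesMonomorphisms
      (TopCat.Sheaf.pullbackPushforwardAdjunction AddCommGrpCat.{u} U.ι.base)
  have hacyc : ∀ k : ℕ, IsZero (((Coh.pushAb U.ι).rightDerived (k + 1)).obj
      (Coh.toAb ((Scheme.Modules.restrictFunctor U.ι).obj F))) := fun k =>
    Groth.Agent.Lib.AffMorAcyclic.isZero_RpushAb_succ _
      (Groth.Agent.Lib.AffMorAcyclic.isAcyclicOver_toAb (f := U.ι) _ hG) k
  have hiso := Groth.Agent.Lib.RDerEdge.isIso_edgeIn (Coh.pushAb U.ι) (Coh.pushAb f)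
    (Coh.toAb ((Scheme.Modules.restrictFunctor U.ι).obj F)) hacyc (q + 1)
  have hz : IsZero ((Coh.RpushAb (U.ι ≫ f) (q + 1)).obj
      (Coh.toAb ((Scheme.Modules.restrictFunctor U.ι).obj F))) :=
    Groth.Agent.Lib.AffMorAcyclic.isZero_RpushAb_succ _
      (Groth.Agent.Lib.AffMorAcyclic.isAcyclicOver_toAb (f := U.ι ≫ f) _ hG) q
  let e0 : Coh.pushAb U.ι ⋙ Coh.pushAb f ≅ Coh.pushAb (U.ι ≫ f) := Iso.refl _
  have hz' : IsZero (((Coh.pushAb U.ι ⋙ Coh.pushAb f).rightDerived (q + 1)).obj
      (Coh.toAb ((Scheme.Modules.restrictFunctor U.ι).obj F))) :=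
    hz.of_iso ((RDer.rightDerivedIso e0 (q + 1)).app _)
  exact hz'.of_iso (@asIso _ _ _ _ _ hiso)

end Groth.Agent.S11165
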