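import Mathlib
import Groth.Statements.S11179

set_option autoImplicit false
universe u
open CategoryTheory
attribute [local instance] HasDerivedCategory.standard
open Goren

namespace Groth.Agent.S11179

section Helpers

open CategoryTheory.Limits Pretriangulated

variable {A : Type u} [CommRing A]

/-- Negative Ext groups vanish. -/
theorem hom_shift_eq_zero_of_neg (X Y : ModuleCat.{u} A) (n : ℤ) (hn : n < 0)
    (φ : (DerivedCategory.singleFunctor (ModuleCat.{u} A) 0).obj X ⟶
      ((DerivedCategory.singleFunctor (ModuleCat.{u} A) 0).obj Y)⟦n⟧) : φ = 0 := by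
  have h1 : DerivedCategory.TStructure.t.IsGE
      (((DerivedCategory.singleFunctor (ModuleCat.{u} A) 0).obj Y)⟦n⟧) (-n) :=
    DerivedCategory.TStructure.t.isGE_shift _ 0 n (-n) (by omega)
  exact DerivedCategory.TStructure.t.zero_of_isLE_of_isGE φ 0 (-n) (by omega) inferInstance h1

/-- Positive Ext groups out of a projective vanish. -/
theorem hom_shift_eq_zero_of_pos (P Y : ModuleCat.{u} A) [Projective P] (n : ℤ) (hn : 0 < n)
    (φ : (DerivedCategory.singleFunctor (ModuleCat.{u} A) 0).obj P ⟶
      ((DerivedCategory.singleFunctor (ModuleCat.{u} A) 0).obj Y)⟦n⟧) : φ = 0 := by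
  rw [← cancel_mono (((DerivedCategory.singleFunctors (ModuleCat.{u} A)).shiftIso n (-n) 0
    (by omega)).hom.app _), Limits.zero_comp]
  exact DerivedCategory.from_singleFunctor_obj_eq_zero_of_projective
    (L := (CochainComplex.singleFunctor (ModuleCat.{u} A) (-n)).obj Y) (n := -n) _ (by omega)

/-- Hom in D(A) from `M[0]` to `A[0][i]` for `i = (k : ℕ)` is `Ext^k`. -/
theorem subsingleton_hom_of_injDim (X : ModuleCat.{u} A) (n : ℕ)
    [HasInjectiveDimensionLT X n] (Y : ModuleCat.{u} A) (k : ℕ) (hk : n ≤ k) :
    Subsingleton ((DerivedCategory.singleFunctor (ModuleCat.{u} A) 0).obj Y ⟶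
      ((DerivedCategory.singleFunctor (ModuleCat.{u} A) 0).obj X)⟦(k : ℤ)⟧) := by
  let := HasExt.standard (ModuleCat.{u} A)
  have := HasInjectiveDimensionLT.subsingleton X n k hk Y
  exact (Abelian.Ext.homEquiv (X := Y) (Y := X) (n := k)).symm.subsingleton

/-- finite cohomology of `A[0]`. -/
theorem finite_HD_inD (M : Type u) [AddCommGroup M] [Module A M] [Module.Finite A M] (i : ℤ) :
    Module.Finite A (Dual.HD A (Dual.inD A M) i) := by
  by_cases hi : i = 0
  · subst hi
    let e : (DerivedCategory.homologyFunctor (ModuleCat.{u} A) 0).obj (Dual.inD A M) ≅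
        ModuleCat.of A M :=
      (DerivedCategory.singleFunctorCompHomologyFunctorIso (ModuleCat.{u} A) 0).app
        (ModuleCat.of A M)
    exact Module.Finite.equiv e.toLinearEquiv.symm
  · have hz : IsZero ((DerivedCategory.homologyFunctor (ModuleCat.{u} A) i).obj
        (Dual.inD A M)) := by
      rcases lt_or_gt_of_ne hi with h | h
      · exact DerivedCategory.isZero_of_isGE _ 0 i h
      · exact DerivedCategory.isZero_of_isLE _ 0 i h
    have : Subsingleton (Dual.HD A (Dual.inD A M) i) :=
      ModuleCat.subsingleton_of_isZero hz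
    infer_instance

/-- `A → End_{D(A)}(A[0])` is bijective. -/
theorem toEnd_bijective_self :
    Function.Bijective (fun a : A => a • (𝟙 (Dual.inD A A))) := by
  have key : ∀ a : A, a • (𝟙 (Dual.inD A A)) =
      (DerivedCategory.singleFunctor (ModuleCat.{u} A) 0).map
        (a • 𝟙 (ModuleCat.of A A)) := by
    intro a
    rw [CategoryTheory.Functor.map_smul, CategoryTheory.Functor.map_id]
  constructor
  · intro a b hab
    simp only [key] at hab
    have h := (DerivedCategory.singleFunctor (ModuleCat.{u} A) 0).map_injective hab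
    have h1 := congrArg (fun f => f.hom (1 : A)) h
    simpa using h1
  · intro f
    obtain ⟨g, rfl⟩ := (DerivedCategory.singleFunctor (ModuleCat.{u} A) 0).map_surjective f
    refine ⟨g.hom (1 : A), ?_⟩
    simp only [key]
    congr 1
    ext
    simp

end Helpers

/-- A Noetherian local ring A is Gorenstein (A has finite injective dimension as a module over itself)
if and only if the complex A[0] is a dualizing complex for A (finite injective dimension expressed
by vanishing of maps M[0] → A[i] in D(A) outside a bounded range, finite cohomology, A → End(A[0])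
bijective and no self-maps of nonzero degree). -/
theorem result (A : Type u) [CommRing A] [IsLocalRing A] [IsNoetherianRing A] : LocCoh.IsGorensteinLocalRing A ↔ Dual.IsDualizing A (Dual.inD A A) := by
  constructor
  · intro h
    obtain ⟨n, hn⟩ := h.exists_hasInjectiveDimensionLT
    refine ⟨inferInstance, ⟨0, (n : ℤ), ?_⟩, ?_, ?_, ?_⟩
    · intro M _ _ i hi
      rcases hi with hi | hi
      · exact ⟨fun f g => by
          rw [Groth.Agent.S11179.hom_shift_eq_zero_of_neg _ _ i hi f,
            Groth.Agent.S11179.hom_shift_eq_zero_of_neg _ _ i hi g]⟩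
      · obtain ⟨k, rfl⟩ := Int.eq_ofNat_of_zero_le (by omega : 0 ≤ i)
        exact Groth.Agent.S11179.subsingleton_hom_of_injDim (ModuleCat.of A A) n
          (ModuleCat.of A M) k (by omega)
    · intro i
      exact Groth.Agent.S11179.finite_HD_inD A i
    · exact Groth.Agent.S11179.toEnd_bijective_self
    · intro i hi
      rcases lt_or_gt_of_ne hi with hi | hi
      · exact ⟨fun f g => by
          rw [Groth.Agent.S11179.hom_shift_eq_zero_of_neg _ _ i hi f,
            Groth.Agent.S11179.hom_shift_eq_zero_of_neg _ _ i hi g]⟩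
      · exact ⟨fun f g => by
          rw [Groth.Agent.S11179.hom_shift_eq_zero_of_pos _ _ i hi f,
            Groth.Agent.S11179.hom_shift_eq_zero_of_pos _ _ i hi g]⟩
  · intro h
    obtain ⟨a, b, hab⟩ := h.finite_injective_dimension
    refine { exists_hasInjectiveDimensionLT := ⟨(b + 1).toNat, ?_⟩ }
    let := HasExt.standard (ModuleCat.{u} A)
    rw [hasInjectiveDimensionLT_iff]
    intro i hi Y e
    apply Abelian.Ext.homEquiv.injective
    have := hab Y (i : ℤ) (Or.inr (by omega))
    exact Subsingleton.elim _ _

end Groth.Agent.S11179
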