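import Groth.Statements.S11180
import Groth.Agent.Lib.AdicNoeth
import Mathlib.RingTheory.AdicCompletion.AsTensorProduct
import Mathlib.RingTheory.AdicCompletion.LocalRing
import Mathlib.LinearAlgebra.TensorProduct.Quotient
import Mathlib.RingTheory.Flat.Localization
import Mathlib.RingTheory.Flat.Stability
-- import your own Groth.Agent.* helpers here

set_option autoImplicit false
universe u
open scoped TensorProduct
open CAlg

namespace Groth.Agent.S11180

/-- Let A be a Noetherian ring and M an A-module. If an element m of M is such that 1 ⊗ m = 0 in B ⊗_A M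
for every A-algebra B which is a complete Noetherian local ring, flat over A, then m = 0.
(Equivalently the natural map from M to the limit of the modules B ⊗_A M over all such B is
injective.) -/
theorem result (A : Type u) [CommRing A] [IsNoetherianRing A] (M : Type u) [AddCommGroup M] [Module A M] (m : M) (h : ∀ (B : Type u) [CommRing B] [Algebra A B] [IsNoetherianRing B] [IsLocalRing B], IsAdicComplete (IsLocalRing.maximalIdeal B) B → Module.Flat A B → (1 : B) ⊗ₜ[A] m = 0) : m = 0 := by
  by_contra hm
  -- annihilator of `m`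
  let φ : A →ₗ[A] M := LinearMap.toSpanSingleton A M m
  let N : Ideal A := LinearMap.ker φ
  have hN : N ≠ ⊤ := by
    intro hN
    have : (1 : A) ∈ N := hN ▸ Submodule.mem_top
    apply hm
    simpa [N, φ] using this
  obtain ⟨𝔭, h𝔭max, hN𝔭⟩ := Ideal.exists_le_maximal N hN
  have h𝔭 : 𝔭.IsPrime := h𝔭max.isPrime
  let R := Localization.AtPrime 𝔭
  let B := AdicCompletion (IsLocalRing.maximalIdeal R) R
  have hBN : IsNoetherianRing B := Groth.Agent.Lib.AdicNoeth.isNoetherianRing_adicCompletion _
  have hflatAR : Module.Flat A R := inferInstance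
  have hflatRB : Module.Flat R B := inferInstance
  have hflat : Module.Flat A B := Module.Flat.trans A R B
  have h0 := h B inferInstance hflat
  -- the injection `A ⧸ N → M`
  let ι : (A ⧸ N) →ₗ[A] M := Submodule.liftQ N φ le_rfl
  have hι : Function.Injective ι := by
    rw [← LinearMap.ker_eq_bot]
    exact Submodule.ker_liftQ_eq_bot _ _ _ le_rfl
  have hinj := Module.Flat.lTensor_preserves_injective_linearMap (M := B) ι hι
  have h1 : (1 : B) ⊗ₜ[A] (Ideal.Quotient.mk N 1) = 0 := by
    apply hinj
    rw [map_zero, LinearMap.lTensor_tmul]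
    have : ι (Ideal.Quotient.mk N 1) = m := by
      show Submodule.liftQ N φ le_rfl (Submodule.Quotient.mk 1) = m
      rw [Submodule.liftQ_apply]
      simp [φ]
    rw [this, h0]
  have h2 := congrArg (TensorProduct.tensorQuotEquivQuotSMul B N) h1
  rw [TensorProduct.tensorQuotEquivQuotSMul_tmul_mk, map_zero, one_smul,
    Submodule.Quotient.mk_eq_zero] at h2
  -- `1 ∈ N • ⊤`, hence `1 ∈ 𝔪_B`
  have hle : (N • (⊤ : Submodule A B)) ≤ (IsLocalRing.maximalIdeal B).restrictScalars A := by
    rw [Submodule.smul_le]
    intro a ha b _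
    rw [Submodule.restrictScalars_mem, Algebra.smul_def]
    apply Ideal.mul_mem_right
    have haR : algebraMap A R a ∈ IsLocalRing.maximalIdeal R :=
      (IsLocalization.AtPrime.to_map_mem_maximal_iff R 𝔭 a).mpr (hN𝔭 ha)
    rw [IsScalarTower.algebraMap_apply A R B]
    rw [IsLocalRing.mem_maximalIdeal, mem_nonunits_iff] at haR ⊢
    intro hu
    exact haR (isUnit_of_map_unit (algebraMap R B) _ hu)
  have := hle h2
  rw [Submodule.restrictScalars_mem] at this
  exact (IsLocalRing.maximalIdeal.isMaximal B).ne_top ((Ideal.eq_top_iff_one _).mpr this)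

end Groth.Agent.S11180
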