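import Groth.Statements.S11185
import Groth.Agent.Lib.H87GlDim2
import Groth.Agent.Lib.H29HomFree
import Groth.Agent.Lib.H29DualIso
import Groth.Agent.Lib.H29DualDelta

set_option autoImplicit false
universe u
open CategoryTheory
attribute [local instance] HasDerivedCategory.standard
open Dual

namespace Groth.Agent.S11185

/-- Let A be a Noetherian ring all of whose local rings A_p at primes are regular and whose Krull
dimension is finite. Then the complex A[0] is a dualizing complex for A (finite injective dimension,
finite cohomology, A → End(A[0]) bijective and no self-maps of nonzero degree). -/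
theorem result (A : Type u) [CommRing A] [IsNoetherianRing A] (hreg : ∀ p : PrimeSpectrum A, IsRegularLocalRing (Localization.AtPrime p.asIdeal)) (hdim : ringKrullDim A < ⊤) : Dual.IsDualizing A (Dual.inD A A) := by
  classical
  -- a natural number bound for the Krull dimension
  obtain ⟨D, hD⟩ : ∃ D : ℕ, ringKrullDim A ≤ D := by
    rcases eq_or_ne (ringKrullDim A) ⊥ with h | h
    · exact ⟨0, by rw [h]; exact bot_le⟩
    · obtain ⟨d, hd⟩ := WithBot.ne_bot_iff_exists.mp h
      have hd' : d ≠ ⊤ := by
        rintro rfl
        rw [← hd] at hdim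
        exact (lt_irrefl _ hdim)
      obtain ⟨n, rfl⟩ := ENat.ne_top_iff_exists.mp hd'
      exact ⟨n, by rw [← hd]; rfl⟩
  have hregm : ∀ m : MaximalSpectrum A, IsRegularLocalRing (Localization.AtPrime m.asIdeal) :=
    fun m => hreg ⟨m.asIdeal, m.isMaximal.isPrime⟩
  refine ⟨inferInstance, ⟨0, D, ?_⟩, ?_, ?_, ?_⟩
  · intro M _ _ i hi
    rcases hi with hi | hi
    · -- negative degrees
      have h1 : (Dual.inD A M).IsLE 0 := inferInstance
      have h2 : ((Dual.inD A A)⟦i⟧).IsGE (0 - i) :=
        DerivedCategory.TStructure.t.isGE_shift (Dual.inD A A) 0 i (0 - i) (by omega)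
      refine ⟨fun f g => ?_⟩
      have hz : ∀ f : Dual.inD A M ⟶ (Dual.inD A A)⟦i⟧, f = 0 := fun f =>
        DerivedCategory.TStructure.t.zero f 0 (0 - i) (by omega)
      rw [hz f, hz g]
    · -- degrees above the dimension: projective dimension
      letI : HasExt.{u + 1} (ModuleCat.{u} A) := HasExt.standard _
      obtain ⟨n, rfl⟩ : ∃ n : ℕ, (n : ℤ) = i := ⟨i.toNat, Int.toNat_of_nonneg (by omega)⟩
      haveI := Groth.Agent.Lib.H87GlDim2.hasProjectiveDimensionLT_of_regular hregm D hD
        (ModuleCat.of A M)
      haveI : Subsingleton (Abelian.Ext (ModuleCat.of A M) (ModuleCat.of A A) n) :=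
        HasProjectiveDimensionLT.subsingleton (ModuleCat.of A M) (D + 1) n (by omega) _
      exact (Abelian.Ext.homEquiv (X := ModuleCat.of A M) (Y := ModuleCat.of A A)
        (n := n)).symm.subsingleton
  · intro i
    exact Groth.Agent.Lib.H29DualPrime.finite_HD_inD A A i
  · have h1 : ∀ a : A, a • 𝟙 (Dual.inD A A) =
        (DerivedCategory.singleFunctor (ModuleCat.{u} A) 0).map (a • 𝟙 (ModuleCat.of A A)) := by
      intro a
      rw [Functor.map_smul, CategoryTheory.Functor.map_id]
    constructor
    · intro a a' haa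
      replace haa : a • 𝟙 (Dual.inD A A) = a' • 𝟙 (Dual.inD A A) := haa
      rw [h1, h1] at haa
      have h2 := (DerivedCategory.singleFunctor (ModuleCat.{u} A) 0).map_injective haa
      have h3 := congrArg (fun f : ModuleCat.of A A ⟶ ModuleCat.of A A => f.hom (1 : A)) h2
      simpa using h3
    · intro g
      obtain ⟨f, rfl⟩ := (DerivedCategory.singleFunctor (ModuleCat.{u} A) 0).map_surjective g
      refine ⟨f.hom (1 : A), ?_⟩
      change f.hom (1 : A) • 𝟙 (Dual.inD A A) = _
      rw [h1]
      congr 1
      ext
      simp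
  · intro i hi
    obtain ⟨e⟩ := Groth.Agent.Lib.H29HomFree.nonempty_equiv A (Dual.inD A A) i
    haveI := Groth.Agent.Lib.H29DualPrime.subsingleton_HD_inD A A i hi
    exact e.subsingleton

end Groth.Agent.S11185
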