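import Groth.Statements.S11217
import Mathlib.Algebra.MvPolynomial.PDeriv
import Mathlib.Algebra.MvPolynomial.Derivation

set_option autoImplicit false
universe u
open CategoryTheory MonoidalCategory CartesianMonoidalCategory MonObj GrpObj AlgebraicGeometry
open scoped TensorProduct
open AGF

namespace Groth.Agent.S11217

open MvPolynomial in
theorem mkDerivation_eq_sum {σ : Type*} [Fintype σ] [DecidableEq σ] {R : Type*} [CommSemiring R]
    (F : σ → MvPolynomial σ R) (f : MvPolynomial σ R) :
    mkDerivation R F f = ∑ i, F i * pderiv i f := by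
  induction f using MvPolynomial.induction_on with
  | C a => simp
  | add p q hp hq => simp [hp, hq, mul_add, Finset.sum_add_distrib]
  | mul_X p j hp =>
    rw [Derivation.leibniz, hp, mkDerivation_X]
    simp only [Derivation.leibniz, pderiv_X, smul_eq_mul, mul_add, Finset.sum_add_distrib]
    congr 1
    · rw [Finset.sum_eq_single j]
      · simp [mul_comm]
      · intro i _ hij
        simp [Pi.single_apply, hij]
      · simp
    · rw [Finset.mul_sum]
      refine Finset.sum_congr rfl fun i _ => ?_
      ring

open MvPolynomial in
theorem key {k : Type*} [Field k] [CharZero k] (F : Fin 7 → MvPolynomial (Fin 7) k)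
    (G : Fin 7 → (Fin 7 →₀ ℕ)) (c : Fin 7 → k) (hF : ∀ i, F i = monomial (G i) (c i))
    (f : MvPolynomial (Fin 7) k) (hδ : mkDerivation k F f = 0) (d : Fin 7 →₀ ℕ) (j : Fin 7)
    (hj : 0 < d j) (hcj : c j = 1)
    (hne : ∀ i, i ≠ j → c i = 0 ∨ ¬ (G i ≤ d - Finsupp.single j 1 + G j)) : coeff d f = 0 := by
  classical
  have h0 : coeff (d - Finsupp.single j 1 + G j) (mkDerivation k F f) = 0 := by
    rw [hδ, coeff_zero]
  rw [mkDerivation_eq_sum, coeff_sum, Finset.sum_eq_single j] at h0
  · rw [hF j, coeff_monomial_mul', if_pos le_add_self, hcj, _root_.one_mul, add_tsub_cancel_right,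
      coeff_pderiv] at h0
    have hle : Finsupp.single j 1 ≤ d := by
      rw [Finsupp.single_le_iff]
      exact hj
    rw [tsub_add_cancel_of_le hle] at h0
    rcases mul_eq_zero.mp h0 with h | h
    · exact h
    · exfalso
      exact Nat.cast_add_one_ne_zero (R := k) _ h
  · intro i _ hij
    rw [hF i, coeff_monomial_mul']
    rcases hne i hij with h | h
    · rw [h]; simp
    · rw [if_neg h]
  · simp

open MvPolynomial in
/-- Let k be a field of characteristic zero and m ≥ 2; in the polynomial ring k[x, y, z, s, t, u, v]
(variables 0, …, 6) let δ be the k-derivation with δ(x) = δ(y) = δ(z) = 0, δ(s) = x^(m+1), δ(t) =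
y^(m+1), δ(u) = z^(m+1), δ(v) = (xyz)^m, and grade by total degree in s, t, u, v. If f is
homogeneous of degree n ≥ 1 for this grading and δ(f) = 0, then every coefficient of f, as a
polynomial in s, t, u, v over k[x, y, z], lies in the ideal (x, y, z): every monomial of f has
positive degree in x, y, z. (The published statement allows n = 0, where the constant 1 is a
counterexample; this row assumes n ≥ 1. The published definition of the derivation gives δ(v) =
(xyz)^(m+1), for which the assertion fails: v − (yz)^(m+1)·s is killed by δ and has the monomial v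
with coefficient 1; this row uses δ(v) = (xyz)^m, the exponent of the published action formula and
of the published examples of invariants.) -/
theorem result (k : Type u) [Field k] [CharZero k] (m : ℕ) (hm : 2 ≤ m) (n : ℕ) (hn : 1 ≤ n)
    (f : MvPolynomial (Fin 7) k)
    (hf : MvPolynomial.IsWeightedHomogeneous (![0, 0, 0, 1, 1, 1, 1] : Fin 7 → ℕ) f n)
    (hδ : MvPolynomial.mkDerivation k
      (![0, 0, 0, MvPolynomial.X 0 ^ (m + 1), MvPolynomial.X 1 ^ (m + 1), MvPolynomial.X 2 ^ (m + 1),
        (MvPolynomial.X 0 * MvPolynomial.X 1 * MvPolynomial.X 2) ^ m] : Fin 7 → MvPolynomial (Fin 7) k) f = 0) :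
    ∀ d ∈ f.support, 0 < d 0 + d 1 + d 2 := by
  classical
  intro d hd
  by_contra hlt
  have h0 : d 0 = 0 := by omega
  have h1 : d 1 = 0 := by omega
  have h2 : d 2 = 0 := by omega
  have hcoef : coeff d f ≠ 0 := mem_support_iff.mp hd
  have hw : Finsupp.weight (![0, 0, 0, 1, 1, 1, 1] : Fin 7 → ℕ) d = n := hf hcoef
  have hsum : d 3 + d 4 + d 5 + d 6 = n := by
    rw [← hw, Finsupp.weight_eq_sum]
    simp [Fin.sum_univ_succ]
    ring
  apply hcoef
  set G : Fin 7 → (Fin 7 →₀ ℕ) := ![0, 0, 0, Finsupp.single 0 (m + 1), Finsupp.single 1 (m + 1),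
    Finsupp.single 2 (m + 1), Finsupp.single 0 m + Finsupp.single 1 m + Finsupp.single 2 m] with hG
  set c : Fin 7 → k := ![0, 0, 0, 1, 1, 1, 1] with hc
  have hF : ∀ i, (![0, 0, 0, MvPolynomial.X 0 ^ (m + 1), MvPolynomial.X 1 ^ (m + 1),
      MvPolynomial.X 2 ^ (m + 1), (MvPolynomial.X 0 * MvPolynomial.X 1 * MvPolynomial.X 2) ^ m] :
        Fin 7 → MvPolynomial (Fin 7) k) i = monomial (G i) (c i) := by
    intro i
    fin_cases i
    · simp [hG, hc]
    · simp [hG, hc]
    · simp [hG, hc]
    · simp [hG, hc, X_pow_eq_monomial]
    · simp [hG, hc, X_pow_eq_monomial]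
    · simp [hG, hc, X_pow_eq_monomial]
    · simp [hG, hc, X_pow_eq_monomial, mul_pow, monomial_mul]
  have hcases : 0 < d 3 ∨ 0 < d 4 ∨ 0 < d 5 ∨ 0 < d 6 := by omega
  rcases hcases with hj | hj | hj | hj
  · refine key _ G c hF f hδ d 3 hj (by simp [hc]) ?_
    intro i hi
    fin_cases i
    · left; simp [hc]
    · left; simp [hc]
    · left; simp [hc]
    · exact absurd rfl hi
    · right
      intro hle
      have := hle 1
      simp [hG, h1] at this
    · right
      intro hle
      have := hle 2
      simp [hG, h2] at this
    · right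
      intro hle
      have := hle 1
      simp [hG, h1] at this
      omega
  · refine key _ G c hF f hδ d 4 hj (by simp [hc]) ?_
    intro i hi
    fin_cases i
    · left; simp [hc]
    · left; simp [hc]
    · left; simp [hc]
    · right
      intro hle
      have := hle 0
      simp [hG, h0] at this
    · exact absurd rfl hi
    · right
      intro hle
      have := hle 2
      simp [hG, h2] at this
    · right
      intro hle
      have := hle 0
      simp [hG, h0] at this
      omega
  · refine key _ G c hF f hδ d 5 hj (by simp [hc]) ?_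
    intro i hi
    fin_cases i
    · left; simp [hc]
    · left; simp [hc]
    · left; simp [hc]
    · right
      intro hle
      have := hle 0
      simp [hG, h0] at this
    · right
      intro hle
      have := hle 1
      simp [hG, h1] at this
    · exact absurd rfl hi
    · right
      intro hle
      have := hle 0
      simp [hG, h0] at this
      omega
  · refine key _ G c hF f hδ d 6 hj (by simp [hc]) ?_
    intro i hi
    fin_cases i
    · left; simp [hc]
    · left; simp [hc]
    · left; simp [hc]
    · right
      intro hle
      have := hle 0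
      simp [hG, h0] at this
    · right
      intro hle
      have := hle 1
      simp [hG, h1] at this
    · right
      intro hle
      have := hle 2
      simp [hG, h2] at this
    · exact absurd rfl hi

end Groth.Agent.S11217
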