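import Groth.Statements.S11221
import Mathlib.RingTheory.Ideal.MinimalPrime.Colon

set_option autoImplicit false
universe u
open CategoryTheory MonoidalCategory CartesianMonoidalCategory MonObj GrpObj AlgebraicGeometry
open scoped TensorProduct
open AGF

namespace Groth.Agent.S11221

/-- Let R be a Noetherian integrally closed domain with fraction field K and let p be a prime ideal of R
of height one. Then there is f ∈ K which is not in R but lies in the local ring R_q ⊆ K of every
height-one prime q ≠ p (f = a/b with b ∉ q): a rational function on Spec R with a pole along V(p)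
only. (The published statement is for the coordinate ring of a normal affine variety; this row is
for any Noetherian integrally closed domain, which is all the argument uses.) -/
theorem result (R : Type u) [CommRing R] [IsDomain R] [IsNoetherianRing R] [IsIntegrallyClosed R]
    (p : Ideal R) [p.IsPrime] (hp : p.height = 1) :
    ∃ f : FractionRing R, f ∉ Set.range ⇑(algebraMap R (FractionRing R)) ∧
      ∀ q : Ideal R, q.IsPrime → q.height = 1 → q ≠ p →
        ∃ a b : R, b ∉ q ∧ f * algebraMap R (FractionRing R) b = algebraMap R (FractionRing R) a := by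
  have hpbot : p ≠ ⊥ := Ideal.ne_bot_of_height_eq_one hp
  obtain ⟨a, hap, ha0⟩ := Submodule.exists_mem_ne_zero_of_ne_bot hpbot
  have hle : Ideal.span {a} ≤ p := (Ideal.span_singleton_le_iff_mem _).mpr hap
  have hfin : p.FiniteHeight := ⟨Or.inr (by rw [hp]; exact ENat.one_ne_top)⟩
  have h1 : (1 : ℕ∞) ≤ (Ideal.span {a}).height :=
    Ideal.one_le_height_span_singleton_of_mem_nonZeroDivisors (mem_nonZeroDivisors_of_ne_zero ha0)
  have hmin : p ∈ (Ideal.span {a}).minimalPrimes :=
    Ideal.mem_minimalPrimes_of_height_le hle (hp ▸ h1)
  have hcol : (Ideal.span {a} : Submodule R R).colon {(1 : R)} = Ideal.span {a} := by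
    ext r; simp [Submodule.mem_colon_singleton]
  obtain ⟨b, hb⟩ := Submodule.exists_eq_colon_of_mem_minimalPrimes
    (N := (Ideal.span {a} : Submodule R R)) (x := (1 : R)) (hcol ▸ hmin)
  have hb_not : b ∉ Ideal.span {a} := by
    intro h
    apply Ideal.IsPrime.ne_top' (I := p)
    rw [hb, Ideal.eq_top_iff_one, Submodule.mem_colon_singleton, one_smul]
    exact h
  have haK : algebraMap R (FractionRing R) a ≠ 0 :=
    (map_ne_zero_iff _ (IsFractionRing.injective R (FractionRing R))).mpr ha0
  refine ⟨algebraMap R (FractionRing R) b / algebraMap R (FractionRing R) a, ?_, ?_⟩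
  · rintro ⟨r, hr⟩
    apply hb_not
    rw [Ideal.mem_span_singleton']
    refine ⟨r, ?_⟩
    apply IsFractionRing.injective R (FractionRing R)
    rw [map_mul, hr, div_mul_cancel₀ _ haK]
  · intro q hq hq1 hqp
    have hnle : ¬ p ≤ q := fun hpq =>
      hqp (Ideal.eq_of_le_of_height_le (I := p) (J := q) hpq (by rw [hq1, hp])).symm
    obtain ⟨c, hcp, hcq⟩ := Set.not_subset.mp hnle
    have hcb : c • b ∈ (Ideal.span {a} : Submodule R R) := by
      have : c ∈ (Ideal.span {a} : Submodule R R).colon {b} := hb ▸ hcp
      exact Submodule.mem_colon_singleton.mp this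
    obtain ⟨r, hr⟩ := Ideal.mem_span_singleton'.mp hcb
    refine ⟨r, c, hcq, ?_⟩
    have hr' : algebraMap R (FractionRing R) r * algebraMap R (FractionRing R) a =
        algebraMap R (FractionRing R) c * algebraMap R (FractionRing R) b := by
      rw [← map_mul, ← map_mul, hr, smul_eq_mul]
    rw [div_mul_eq_mul_div, div_eq_iff haK, hr', mul_comm]

end Groth.Agent.S11221
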