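import Groth.Statements.S11223
import Groth.Agent.Lib.AdicNoeth
import Mathlib.RingTheory.MvPolynomial.Ideal
import Mathlib.RingTheory.Nilpotent.Lemmas
import Mathlib.RingTheory.IntegralClosure.IsIntegralClosure.Basic

set_option autoImplicit false
universe u
open CAlg

namespace Groth.Agent.S11223

open MvPolynomial in
/-- Let k be a field, let z_1, ..., z_m be homogeneous polynomials of positive degree in the polynomial
ring k[x_1, ..., x_n], and suppose the radical of the ideal (z_1, ..., z_m) is the ideal (x_1, ...,
x_n) generated by the variables. Then the polynomial ring is integral over the subalgebra generated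
by z_1, ..., z_m. (The published statement is over an algebraically closed field; this row takes any
field, which its proof allows.) -/
theorem result (k : Type u) [Field k] (n m : ℕ)
    (z : Fin m → MvPolynomial (Fin n) k) (d : Fin m → ℕ) (hd : ∀ i, 0 < d i)
    (hz : ∀ i, (z i).IsHomogeneous (d i))
    (hrad : (Ideal.span (Set.range z)).radical =
      Ideal.span (Set.range (MvPolynomial.X : Fin n → MvPolynomial (Fin n) k))) :
    Algebra.IsIntegral (Algebra.adjoin k (Set.range z)) (MvPolynomial (Fin n) k) := by
  classical
  have hfg : (MvPolynomial.idealOfVars (Fin n) k).FG := MvPolynomial.idealOfVars_fg _ _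
  obtain ⟨N, hN⟩ := Ideal.exists_radical_pow_le_of_fg (Ideal.span (Set.range z))
    (by rw [hrad]; exact hfg)
  rw [hrad] at hN
  let S : Set (MvPolynomial (Fin n) k) :=
    (fun s => MvPolynomial.monomial s (1 : k)) '' {s | s.degree < N}
  have hSfin : S.Finite := (Finsupp.finite_of_degree_lt N).image _
  let W : Submodule (Algebra.adjoin k (Set.range z)) (MvPolynomial (Fin n) k) :=
    Submodule.span _ S
  have key : ∀ D (f : MvPolynomial (Fin n) k), f.IsHomogeneous D → f ∈ W := by
    intro D
    induction D using Nat.strong_induction_on with
    | _ D ih =>
      intro f hf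
      by_cases hDN : D < N
      · rw [f.as_sum]
        refine Submodule.sum_mem _ fun s hs => ?_
        have h1 : MvPolynomial.monomial s (MvPolynomial.coeff s f) =
            (algebraMap k (Algebra.adjoin k (Set.range z)) (MvPolynomial.coeff s f)) •
              MvPolynomial.monomial s (1 : k) := by
          rw [algebraMap_smul, MvPolynomial.smul_monomial, smul_eq_mul, mul_one]
        rw [h1]
        refine Submodule.smul_mem _ _ (Submodule.subset_span ⟨s, ?_, rfl⟩)
        have hs' : MvPolynomial.coeff s f ≠ 0 := MvPolynomial.mem_support_iff.mp hs
        have := hf hs'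
        simp only [Set.mem_setOf_eq]
        rw [Finsupp.degree_eq_weight_one]
        exact this ▸ hDN
      · rw [not_lt] at hDN
        have hfm : f ∈ MvPolynomial.idealOfVars (Fin n) k ^ N := by
          rw [MvPolynomial.mem_pow_idealOfVars_iff]
          intro x hx
          have hx' : MvPolynomial.coeff x f ≠ 0 := MvPolynomial.mem_support_iff.mp hx
          have := hf hx'
          rw [Finsupp.degree_eq_weight_one]
          exact this ▸ hDN
        have hfz := hN hfm
        obtain ⟨g, hg⟩ := Ideal.mem_span_range_iff_exists_fun.mp hfz
        have hsum : f = ∑ i, (if d i ≤ D then MvPolynomial.homogeneousComponent (D - d i) (g i)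
            else 0) * z i := by
          have h0 : f = MvPolynomial.homogeneousComponent D f := by
            rw [MvPolynomial.homogeneousComponent_of_mem hf, if_pos rfl]
          conv_lhs => rw [h0, ← hg]
          rw [map_sum]
          refine Finset.sum_congr rfl fun i _ => ?_
          exact Groth.Agent.Lib.AdicNoeth.homogeneousComponent_mul_of_isHomogeneous (hz i) (g i) D
        rw [hsum]
        refine Submodule.sum_mem _ fun i _ => ?_
        split_ifs with h
        · have hlt : D - d i < D := by have := hd i; omega
          have hmem := ih (D - d i) hlt _
            (MvPolynomial.homogeneousComponent_isHomogeneous (D - d i) (g i))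
          have h2 : MvPolynomial.homogeneousComponent (D - d i) (g i) * z i =
              (⟨z i, Algebra.subset_adjoin ⟨i, rfl⟩⟩ : Algebra.adjoin k (Set.range z)) •
                MvPolynomial.homogeneousComponent (D - d i) (g i) := by
            rw [mul_comm]; rfl
          rw [h2]
          exact Submodule.smul_mem _ _ hmem
        · rw [zero_mul]; exact Submodule.zero_mem _
  have hW : W = ⊤ := by
    rw [eq_top_iff]
    intro f _
    rw [← MvPolynomial.sum_homogeneousComponent f]
    exact Submodule.sum_mem _ fun i _ =>
      key i _ (MvPolynomial.homogeneousComponent_isHomogeneous i f)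
  have : Module.Finite (Algebra.adjoin k (Set.range z)) (MvPolynomial (Fin n) k) :=
    ⟨⟨hSfin.toFinset, by rw [Set.Finite.coe_toFinset]; exact hW⟩⟩
  exact Algebra.IsIntegral.of_finite _ _

end Groth.Agent.S11223
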