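import Groth.Statements.S11231
import Mathlib.RingTheory.IntegralClosure.IntegrallyClosed
import Mathlib.RingTheory.Flat.Basic
import Mathlib.RingTheory.Localization.FractionRing

set_option autoImplicit false
universe u
open CategoryTheory MonoidalCategory CartesianMonoidalCategory MonObj GrpObj AlgebraicGeometry
open scoped TensorProduct
open AGF

namespace Groth.Agent.S11231

/-- A subalgebra `S` of an integrally closed domain `A` which is closed under exact division by its
own nonzero elements is integrally closed. -/
theorem isIntegrallyClosed_subalgebra {k A : Type*} [CommRing k] [CommRing A] [IsDomain A]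
    [Algebra k A] [IsIntegrallyClosed A] (S : Subalgebra k A)
    (h : ∀ (y : A) (a b : S), b ≠ 0 → y * (b : A) = (a : A) → y ∈ S) :
    IsIntegrallyClosed S := by
  have hinj : Function.Injective ((algebraMap A (FractionRing A)).comp S.val.toRingHom) :=
    (IsFractionRing.injective A (FractionRing A)).comp Subtype.val_injective
  let φ : FractionRing S →+* FractionRing A := IsFractionRing.lift hinj
  have hφ : ∀ s : S, φ (algebraMap S (FractionRing S) s) = algebraMap A (FractionRing A) (s : A) :=
    fun s => IsFractionRing.lift_algebraMap hinj s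
  refine (isIntegrallyClosed_iff (FractionRing S)).mpr fun {x} hx => ?_
  obtain ⟨a, b, hb, rfl⟩ := IsFractionRing.div_surjective (A := S) x
  have hb0 : b ≠ 0 := nonZeroDivisors.ne_zero hb
  have hbK : algebraMap S (FractionRing S) b ≠ 0 :=
    (map_ne_zero_iff _ (IsFractionRing.injective S (FractionRing S))).mpr hb0
  have hbA : (b : A) ≠ 0 := fun h0 => hb0 (Subtype.ext h0)
  have hbKA : algebraMap A (FractionRing A) (b : A) ≠ 0 :=
    (map_ne_zero_iff _ (IsFractionRing.injective A (FractionRing A))).mpr hbA
  have h1 : IsIntegral A (φ (algebraMap S (FractionRing S) a / algebraMap S (FractionRing S) b)) := by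
    obtain ⟨p, hp, hpx⟩ := hx
    refine ⟨p.map S.val.toRingHom, hp.map _, ?_⟩
    rw [Polynomial.eval₂_map]
    have : (algebraMap A (FractionRing A)).comp S.val.toRingHom =
        φ.comp (algebraMap S (FractionRing S)) := by
      ext s; exact (hφ s).symm
    rw [this, ← Polynomial.hom_eval₂, hpx, map_zero]
  obtain ⟨y, hy⟩ := IsIntegrallyClosed.isIntegral_iff.mp h1
  have hyb : y * (b : A) = (a : A) := by
    apply IsFractionRing.injective A (FractionRing A)
    rw [map_mul, hy, map_div₀, hφ, hφ, div_mul_cancel₀ _ hbKA]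
  have hyS := h y a b hb0 hyb
  refine ⟨⟨y, hyS⟩, ?_⟩
  rw [eq_div_iff hbK, ← map_mul]
  congr 1
  exact Subtype.ext hyb

/-- Let k an algebraically closed field, G a connected reductive linear algebraic group over k, B a
Borel subgroup of G with unipotent radical U (a maximal unipotent subgroup), and let A be a
commutative k-algebra with a rational action of G by algebra automorphisms. If A is an integrally
closed domain then so is A^U. (The published statement is for A normal; its proof reduces to the
case of a domain, which is the case stated here.) -/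
theorem result (k : Type u) [Field k] [IsAlgClosed k]
    (G : Over (Spec (CommRingCat.of k))) [GrpObj G] (hG : Red.IsReductiveOver k G)
    (Bo : Over (Spec (CommRingCat.of k))) [GrpObj Bo] (iB : Bo ⟶ G) (hB : Red.IsBorelOver k iB)
    (U : Over (Spec (CommRingCat.of k))) [GrpObj U] (u : U ⟶ Bo) (hU : Par.IsUnipotentRadical u)
    (A : Type u) [CommRing A] [IsDomain A] [Algebra k A] [IsIntegrallyClosed A]
    (ρ : VecGrp.GMod G A) (hρ : ρ.IsMult) :
    IsIntegrallyClosed ↥(ρ.fixedSubalgebra hρ (u ≫ iB)) := by
  apply isIntegrallyClosed_subalgebra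
  intro y a b hb0 hyb B _ _ h
  have hbA : (b : A) ≠ 0 := fun h0 => hb0 (Subtype.ext h0)
  -- multiplication by `1 ⊗ b` on `B ⊗ A` is injective
  have hmul : Function.Injective (fun x : B ⊗[k] A => x * ((1 : B) ⊗ₜ[k] (b : A))) := by
    have hinj : Function.Injective (LinearMap.mulRight k (b : A)) := by
      intro x x' hxx
      exact mul_right_cancel₀ hbA hxx
    have := Module.Flat.lTensor_preserves_injective_linearMap (M := B) (LinearMap.mulRight k (b : A)) hinj
    have heq : ∀ x : B ⊗[k] A, (LinearMap.mulRight k (b : A)).lTensor B x = x * ((1 : B) ⊗ₜ[k] (b : A)) := by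
      intro x
      induction x using TensorProduct.induction_on with
      | zero => simp
      | tmul c a' =>
        rw [LinearMap.lTensor_tmul, Algebra.TensorProduct.tmul_mul_tmul, _root_.mul_one]
        rfl
      | add x x' hx hx' => rw [map_add, add_mul, hx, hx']
    intro x x' hxx
    apply this
    rw [heq, heq]
    exact hxx
  apply hmul
  change ρ.ρ B (h ≫ u ≫ iB) ((1 : B) ⊗ₜ[k] y) * ((1 : B) ⊗ₜ[k] (b : A)) =
    ((1 : B) ⊗ₜ[k] y) * ((1 : B) ⊗ₜ[k] (b : A))
  have hbfix : ρ.ρ B (h ≫ u ≫ iB) ((1 : B) ⊗ₜ[k] (b : A)) = (1 : B) ⊗ₜ[k] (b : A) := b.2 B h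
  have hafix : ρ.ρ B (h ≫ u ≫ iB) ((1 : B) ⊗ₜ[k] (a : A)) = (1 : B) ⊗ₜ[k] (a : A) := a.2 B h
  conv_lhs => rw [← hbfix]
  rw [← (hρ B (h ≫ u ≫ iB)).1, Algebra.TensorProduct.tmul_mul_tmul, _root_.mul_one, hyb, hafix]

end Groth.Agent.S11231
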