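import Groth.Statements.S11233
import Mathlib

set_option autoImplicit false
universe u
open CAlg

namespace Groth.Agent.S11233

/-- Let k be an algebraically closed field, A an integral domain which is a k-algebra, T an m by m
matrix over A with invertible determinant, and let the additive group k^m act on the polynomial ring
A[y_1, ..., y_m] by the A-algebra maps y_s ↦ y_s + Σ_r h_r T_rs. Then the only invariant polynomials
are the constants: a polynomial fixed by all these substitutions lies in A. -/
theorem result (k : Type u) [Field k] [IsAlgClosed k]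
    (A : Type u) [CommRing A] [IsDomain A] [Algebra k A] (m : ℕ) (T : Matrix (Fin m) (Fin m) A)
    (hT : IsUnit T.det) (f : MvPolynomial (Fin m) A)
    (hf : ∀ h : Fin m → k, MvPolynomial.aeval
      (fun s : Fin m => MvPolynomial.X s + MvPolynomial.C (∑ r : Fin m, algebraMap k A (h r) * T r s)) f = f) :
    ∃ a : A, f = MvPolynomial.C a := by
  classical
  -- notation
  -- Φ : A[y] → (MvPolynomial (Fin m) A)[z],  y_s ↦ y_s + Σ_r z_r T_rs
  let Φ : MvPolynomial (Fin m) A →+* MvPolynomial (Fin m) (MvPolynomial (Fin m) A) :=
    MvPolynomial.eval₂Hom ((MvPolynomial.C : (MvPolynomial (Fin m) A) →+* MvPolynomial (Fin m) (MvPolynomial (Fin m) A)).comp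
      (MvPolynomial.C : A →+* (MvPolynomial (Fin m) A)))
      (fun s => MvPolynomial.C (MvPolynomial.X s) +
        ∑ r : Fin m, MvPolynomial.X r * MvPolynomial.C (MvPolynomial.C (T r s)))
  -- Step 1: Φ f = C f as polynomials in z over (MvPolynomial (Fin m) A)
  have hinj : Function.Injective (fun c : k => (MvPolynomial.C (algebraMap k A c) : (MvPolynomial (Fin m) A))) :=
    (MvPolynomial.C_injective (Fin m) A).comp (algebraMap k A).injective
  have hinf : (Set.range (fun c : k => (MvPolynomial.C (algebraMap k A c) : (MvPolynomial (Fin m) A)))).Infinite :=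
    Set.infinite_range_of_injective hinj
  have step1 : Φ f = MvPolynomial.C f := by
    apply MvPolynomial.funext_set (fun _ => Set.range (fun c : k => (MvPolynomial.C (algebraMap k A c) : (MvPolynomial (Fin m) A))))
      (fun _ => hinf)
    intro x hx
    choose h hh using fun r => hx r (Set.mem_univ r)
    have hx' : x = fun r => (MvPolynomial.C (algebraMap k A (h r)) : (MvPolynomial (Fin m) A)) := by
      funext r; exact (hh r).symm
    rw [MvPolynomial.eval_C]
    have hcomp : (MvPolynomial.eval x).comp Φ =
        (MvPolynomial.aeval (R := A) (fun s : Fin m => (MvPolynomial.X s : (MvPolynomial (Fin m) A)) +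
          MvPolynomial.C (∑ r : Fin m, algebraMap k A (h r) * T r s)) :
            MvPolynomial (Fin m) A →ₐ[A] (MvPolynomial (Fin m) A)).toRingHom := by
      apply MvPolynomial.ringHom_ext
      · intro a
        simp [Φ, MvPolynomial.algebraMap_eq]
      · intro s
        simp only [Φ, RingHom.comp_apply, MvPolynomial.coe_eval₂Hom, MvPolynomial.eval₂_X,
          map_add, map_sum, map_mul, MvPolynomial.eval_C, MvPolynomial.eval_X, hx',
          AlgHom.toRingHom_eq_coe, RingHom.coe_coe, MvPolynomial.aeval_X]
    have := congrArg (fun φ : MvPolynomial (Fin m) A →+* (MvPolynomial (Fin m) A) => φ f) hcomp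
    simp only [RingHom.comp_apply] at this
    rw [this]
    exact hf h
  -- Step 2: evaluate z ↦ y T⁻¹, y ↦ 0
  let ψ₀ : (MvPolynomial (Fin m) A) →+* (MvPolynomial (Fin m) A) := (MvPolynomial.C : A →+* (MvPolynomial (Fin m) A)).comp MvPolynomial.constantCoeff
  let ψ : MvPolynomial (Fin m) (MvPolynomial (Fin m) A) →+* (MvPolynomial (Fin m) A) :=
    MvPolynomial.eval₂Hom ψ₀ (fun r => ∑ s : Fin m, MvPolynomial.X s * MvPolynomial.C (T⁻¹ s r))
  have hψΦ : ψ.comp Φ = RingHom.id _ := by
    apply MvPolynomial.ringHom_ext
    · intro a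
      simp [ψ, Φ, ψ₀]
    · intro s
      simp only [ψ, Φ, ψ₀, RingHom.comp_apply, MvPolynomial.coe_eval₂Hom, MvPolynomial.eval₂_X,
        map_add, map_sum, map_mul, MvPolynomial.eval₂_C, MvPolynomial.constantCoeff_X, map_zero,
        zero_add, MvPolynomial.constantCoeff_C, RingHom.id_apply]
      -- Σ_r (Σ_s' X s' * C (T⁻¹ s' r)) * C (T r s) = X s
      have hTinv : T⁻¹ * T = 1 := Matrix.nonsing_inv_mul T hT
      calc ∑ r : Fin m, (∑ s' : Fin m, (MvPolynomial.X s' : (MvPolynomial (Fin m) A)) * MvPolynomial.C (T⁻¹ s' r)) *
            MvPolynomial.C (T r s)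
          = ∑ s' : Fin m, (MvPolynomial.X s' : (MvPolynomial (Fin m) A)) * MvPolynomial.C ((T⁻¹ * T) s' s) := by
            simp only [Finset.sum_mul, Matrix.mul_apply, map_sum, map_mul, Finset.mul_sum]
            rw [Finset.sum_comm]
            apply Finset.sum_congr rfl
            intro s' _
            apply Finset.sum_congr rfl
            intro r _
            ring
        _ = MvPolynomial.X s := by
            rw [hTinv]
            simp [Matrix.one_apply]
  refine ⟨MvPolynomial.constantCoeff f, ?_⟩
  have h1 : ψ (Φ f) = f := by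
    have := congrArg (fun φ : MvPolynomial (Fin m) A →+* (MvPolynomial (Fin m) A) => φ f) hψΦ
    simpa using this
  rw [step1] at h1
  rw [← h1]
  simp [ψ, ψ₀]

end Groth.Agent.S11233
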