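import Groth.Statements.S11235
import Mathlib

set_option autoImplicit false
universe u
open CAlg

namespace Groth.Agent.S11235

/-- Let k be an algebraically closed field, A a commutative k-algebra, α ∈ k, and M a maximal ideal of
the polynomial ring A[x] containing x - α. Let I ⊆ M be an ideal whose zero set in Spec A[x] is
invariant under the automorphisms x ↦ c·x, c ∈ k nonzero (equivalently: the image of I under each
such A-algebra automorphism has the same radical as I). Then there is a maximal ideal of A[x]
containing I and x. -/
theorem result (k : Type u) [Field k] [IsAlgClosed k]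
    (A : Type u) [CommRing A] [Algebra k A] (α : k)
    (M : Ideal (Polynomial A)) (hM : M.IsMaximal)
    (hα : Polynomial.X - Polynomial.C (algebraMap k A α) ∈ M)
    (I : Ideal (Polynomial A)) (hIM : I ≤ M)
    (hI : ∀ c : kˣ, (I.map (Polynomial.aeval (R := A)
      (algebraMap k A (c : k) • (Polynomial.X : Polynomial A)))).radical = I.radical) :
    ∃ N : Ideal (Polynomial A), N.IsMaximal ∧ I ≤ N ∧ Polynomial.X ∈ N := by
  classical
  letI : Field (Polynomial A ⧸ M) := Ideal.Quotient.field M
  let φ : Polynomial A →+* (Polynomial A ⧸ M) := Ideal.Quotient.mk M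
  let π : A →+* (Polynomial A ⧸ M) := φ.comp Polynomial.C
  have hφX : φ Polynomial.X = π (algebraMap k A α) := by
    have h0 : φ (Polynomial.X - Polynomial.C (algebraMap k A α)) = 0 :=
      Ideal.Quotient.eq_zero_iff_mem.mpr hα
    rw [map_sub, sub_eq_zero] at h0
    exact h0
  have hφ : ∀ g : Polynomial A, φ g = Polynomial.eval₂ π (φ Polynomial.X) g := by
    intro g
    conv_lhs => rw [← Polynomial.eval₂_C_X (p := g)]
    rw [Polynomial.hom_eval₂]
  have hφc : ∀ (a : A) (g : Polynomial A),
      φ (Polynomial.aeval (R := A) (a • (Polynomial.X : Polynomial A)) g) =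
        Polynomial.eval₂ π (π a * φ Polynomial.X) g := by
    intro a g
    rw [Polynomial.aeval_def, Polynomial.hom_eval₂]
    congr 1
    rw [Polynomial.smul_eq_C_mul, map_mul]
    rfl
  have hradM : I.radical ≤ M := (Ideal.IsPrime.radical_le_iff hM.isPrime).mpr hIM
  -- surjectivity of π
  have hπsurj : Function.Surjective π := by
    intro y
    obtain ⟨g, rfl⟩ := Ideal.Quotient.mk_surjective y
    refine ⟨Polynomial.eval (algebraMap k A α) g, ?_⟩
    change π _ = φ g
    rw [hφ g, hφX, Polynomial.eval, Polynomial.hom_eval₂, RingHom.comp_id]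
  -- the candidate maximal ideal
  let ψ : Polynomial A →+* (Polynomial A ⧸ M) := Polynomial.eval₂RingHom π 0
  have hψsurj : Function.Surjective ψ := by
    intro y
    obtain ⟨a, rfl⟩ := hπsurj y
    exact ⟨Polynomial.C a, by simp [ψ]⟩
  refine ⟨RingHom.ker ψ, RingHom.ker_isMaximal_of_surjective ψ hψsurj, ?_, ?_⟩
  swap
  · rw [RingHom.mem_ker]
    simp [ψ]
  intro g hg
  rw [RingHom.mem_ker]
  change Polynomial.eval₂ π 0 g = 0
  -- roots of ḡ
  have hroot : ∀ c : kˣ, Polynomial.eval₂ π (π (algebraMap k A (c : k)) * φ Polynomial.X) g = 0 := by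
    intro c
    rw [← hφc]
    apply Ideal.Quotient.eq_zero_iff_mem.mpr
    apply hradM
    rw [← hI c]
    apply Ideal.le_radical
    exact Ideal.mem_map_of_mem _ hg
  by_cases hα0 : α = 0
  · have h1 := hroot 1
    rw [hφX, hα0, map_zero, map_zero, mul_zero] at h1
    exact h1
  · -- infinitely many roots
    have hmap : Polynomial.map π g = 0 := by
      apply Polynomial.eq_zero_of_infinite_isRoot
      let e : k → (Polynomial A ⧸ M) := fun c => π (algebraMap k A c) * φ Polynomial.X
      have heinj : Function.Injective e := by
        intro c c' hcc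
        simp only [e, hφX] at hcc
        have hinj : Function.Injective (π.comp (algebraMap k A)) := RingHom.injective _
        have h2 : (π.comp (algebraMap k A)) (c * α) = (π.comp (algebraMap k A)) (c' * α) := by
          simp only [RingHom.comp_apply, map_mul]
          exact hcc
        exact mul_right_cancel₀ hα0 (hinj h2)
      have hinf : ({0}ᶜ : Set k).Infinite := (Set.finite_singleton (0 : k)).infinite_compl
      refine (hinf.image heinj.injOn).mono ?_
      rintro _ ⟨c, hc, rfl⟩
      have hc0 : c ≠ 0 := hc
      have := hroot (Units.mk0 c hc0)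
      simp only [Units.val_mk0] at this
      rw [Set.mem_setOf_eq, Polynomial.IsRoot.def, Polynomial.eval_map]
      exact this
    rw [← Polynomial.eval_map, hmap, Polynomial.eval_zero]

end Groth.Agent.S11235
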