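import Groth.Statements.S11238
import Groth.Agent.Lib.Luroth84

set_option autoImplicit false
universe u
open AGF

namespace Groth.Agent.S11238

/-- Over an algebraically closed field k, a unirational variety of dimension one is rational. Field
form: let K be a finitely generated field extension of k of transcendence degree one (K is algebraic
over k(x) for some x ∈ K transcendental over k) admitting a k-embedding into a purely transcendental
extension k(t_1, ..., t_n). Then K = k(t) for some t ∈ K transcendental over k. -/
theorem result (k : Type u) [Field k] [IsAlgClosed k]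
    (K : Type u) [Field K] [Algebra k K] (hfg : (⊤ : IntermediateField k K).FG)
    (x : K) (hx : Transcendental k x) (halg : Algebra.IsAlgebraic ↥(IntermediateField.adjoin k {x}) K)
    (n : ℕ) (φ : K →ₐ[k] FractionRing (MvPolynomial (Fin n) k)) :
    ∃ t : K, Transcendental k t ∧ IntermediateField.adjoin k {t} = ⊤ := by
  obtain ⟨S, hS⟩ := hfg
  obtain ⟨ψ⟩ := Groth.Agent.Lib.Luroth84.exists_algHom_ratFunc S hS x hx halg n φ
  exact Groth.Agent.Lib.Luroth84.exists_adjoin_eq_top_of_algHom_ratFunc x hx ψ

end Groth.Agent.S11238
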