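import Groth.Statements.S11240
import Mathlib.LinearAlgebra.Matrix.Determinant.Basic
import Mathlib.LinearAlgebra.Matrix.Transvection

set_option autoImplicit false
universe u
open AGF

namespace Groth.Agent.S11240


open Matrix MvPolynomial

variable {k : Type u} [Field k] {n m p : ℕ}

/-- the generic matrix -/
noncomputable abbrev Xmat (k : Type u) [Field k] (n m : ℕ) :
    Matrix (Fin n) (Fin m) (MvPolynomial (Fin n × Fin m) k) :=
  Matrix.of fun a c => (MvPolynomial.X (a, c) : MvPolynomial (Fin n × Fin m) k)

lemma generic_minor_ne_zero (r : Fin p → Fin n) (c : Fin p → Fin m)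
    (hr : Function.Injective r) (hc : Function.Injective c) :
    ((Xmat k n m).submatrix r c).det ≠ 0 := by
  classical
  intro h
  let g : Fin n × Fin m → k := fun ab => if ∃ e, r e = ab.1 ∧ c e = ab.2 then 1 else 0
  have h1 := congrArg (MvPolynomial.eval g) h
  rw [RingHom.map_det, map_zero] at h1
  have hid : (MvPolynomial.eval g).mapMatrix ((Xmat k n m).submatrix r c) = 1 := by
    ext e e'
    simp only [RingHom.mapMatrix_apply, map_apply, submatrix_apply, of_apply, eval_X, g,
      Matrix.one_apply]
    by_cases hee : e = e'
    · subst hee
      rw [if_pos ⟨e, rfl, rfl⟩, if_pos rfl]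
    · rw [if_neg hee, if_neg]
      rintro ⟨e'', h1, h2⟩
      exact hee ((hr h1).symm.trans (hc h2))
  rw [hid, det_one] at h1
  exact one_ne_zero h1

lemma transvection_mul_apply (i j : Fin n) (t : MvPolynomial (Fin n × Fin m) k)
    (M : Matrix (Fin n) (Fin m) (MvPolynomial (Fin n × Fin m) k)) (a : Fin n) (c : Fin m) :
    (Matrix.transvection i j t * M) a c = M a c + if a = i then t * M j c else 0 := by
  rw [Matrix.transvection, Matrix.add_mul, Matrix.one_mul, Matrix.add_apply]
  by_cases h : a = i
  · subst h; rw [if_pos rfl, Matrix.single_mul_apply_same]
  · rw [if_neg h, Matrix.single_mul_apply_of_ne _ _ _ _ _ h]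

lemma det_transvection_submatrix (i j : Fin n) (I : Fin p ↪o Fin n) (J : Fin p ↪o Fin m)
    (a0 : Fin p) (ha0 : I a0 = i) (b : k) :
    ((Matrix.transvection i j (MvPolynomial.C b) * Xmat k n m).submatrix I J).det =
      ((Xmat k n m).submatrix I J).det +
        MvPolynomial.C b * (((Xmat k n m).submatrix I J).updateRow a0
          (fun c => (Xmat k n m) j (J c))).det := by
  classical
  have h1 : (Matrix.transvection i j (MvPolynomial.C b) * Xmat k n m).submatrix I J =
      ((Xmat k n m).submatrix I J).updateRow a0
        (((Xmat k n m).submatrix I J) a0 +
          (MvPolynomial.C b : MvPolynomial (Fin n × Fin m) k) •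
            (fun c => (Xmat k n m) j (J c))) := by
    ext e c
    rw [submatrix_apply, transvection_mul_apply]
    by_cases he : e = a0
    · subst he
      rw [updateRow_self, if_pos ha0]
      simp
    · rw [updateRow_ne he, if_neg, add_zero, submatrix_apply]
      intro h
      exact he (I.injective (h.trans ha0.symm))
  rw [h1, det_updateRow_add, det_updateRow_smul, updateRow_eq_self]

theorem result' (k : Type u) [Field k] (n m p : ℕ)
    (i j : Fin n) (hij : i ≠ j) (I : Fin p ↪o Fin n) (J : Fin p ↪o Fin m) :
    (∀ b : k, ((Matrix.transvection i j (MvPolynomial.C b) *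
        (Matrix.of fun a c => (MvPolynomial.X (a, c) : MvPolynomial (Fin n × Fin m) k))).submatrix I J).det =
        ((Matrix.of fun a c => (MvPolynomial.X (a, c) : MvPolynomial (Fin n × Fin m) k)).submatrix I J).det) ↔
      (i ∈ Set.range I → j ∈ Set.range I) := by
  classical
  change (∀ b : k, ((Matrix.transvection i j (MvPolynomial.C b) * Xmat k n m).submatrix I J).det =
    ((Xmat k n m).submatrix I J).det) ↔ _
  constructor
  · rintro h ⟨a0, ha0⟩
    by_contra hj
    have h1 := h 1
    rw [det_transvection_submatrix i j I J a0 ha0, map_one, one_mul] at h1
    have h2 : (((Xmat k n m).submatrix I J).updateRow a0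
          (fun c => (Xmat k n m) j (J c))) =
        (Xmat k n m).submatrix (Function.update I a0 j) J := by
      ext e c
      by_cases he : e = a0
      · subst he; simp
      · simp [updateRow_ne he, Function.update_of_ne he]
    have hinj : Function.Injective (Function.update (I : Fin p → Fin n) a0 j) := by
      intro e e' hee
      by_cases he : e = a0 <;> by_cases he' : e' = a0
      · rw [he, he']
      · exfalso; rw [he, Function.update_self, Function.update_of_ne he'] at hee
        exact hj ⟨e', hee.symm⟩
      · exfalso; rw [he', Function.update_self, Function.update_of_ne he] at hee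
        exact hj ⟨e, hee⟩
      · rw [Function.update_of_ne he, Function.update_of_ne he'] at hee
        exact I.injective hee
    have h3 := generic_minor_ne_zero (k := k) _ _ hinj J.injective
    rw [← h2] at h3
    exact h3 (by simpa using h1)
  · intro h b
    by_cases hi : i ∈ Set.range I
    · obtain ⟨a0, ha0⟩ := hi
      obtain ⟨a1, ha1⟩ := h ⟨a0, ha0⟩
      have hne : a0 ≠ a1 := by
        rintro rfl; exact hij (ha0.symm.trans ha1)
      rw [det_transvection_submatrix i j I J a0 ha0]
      have : (((Xmat k n m).submatrix I J).updateRow a0
          (fun c => (Xmat k n m) j (J c))).det = 0 := by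
        apply det_zero_of_row_eq hne
        ext c
        rw [updateRow_self, updateRow_ne hne.symm, submatrix_apply, ha1]
      rw [this, mul_zero, add_zero]
    · congr 1
      ext e c
      rw [submatrix_apply, transvection_mul_apply, if_neg, add_zero, submatrix_apply]
      intro he
      exact hi ⟨e, he⟩


/-- For a single root subgroup: let k be an algebraically closed field and X = (x_ab) the generic n × m
matrix over the polynomial ring k[x_ab]. Let i ≠ j be row indices and let I (rows) and J (columns)
be strictly increasing sequences of length p. The minor of X with rows I and columns J is invariant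
under replacing X by (1 + b·E_ij)·X for every b ∈ k (the one-parameter unipotent group adding b
times row j to row i) if and only if j occurs in I whenever i does. (The published statement gives
the criterion for the group generated by several such root subgroups, which is the conjunction of
these.) -/
theorem result (k : Type u) [Field k] [IsAlgClosed k] (n m p : ℕ)
    (i j : Fin n) (hij : i ≠ j) (I : Fin p ↪o Fin n) (J : Fin p ↪o Fin m) :
    (∀ b : k, ((Matrix.transvection i j (MvPolynomial.C b) *
        (Matrix.of fun a c => (MvPolynomial.X (a, c) : MvPolynomial (Fin n × Fin m) k))).submatrix I J).det =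
        ((Matrix.of fun a c => (MvPolynomial.X (a, c) : MvPolynomial (Fin n × Fin m) k)).submatrix I J).det) ↔
      (i ∈ Set.range I → j ∈ Set.range I) := by
  exact result' k n m p i j hij I J

end Groth.Agent.S11240
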