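import Groth.Statements.S11243
import Groth.Agent.Lib.RootDBase58

set_option autoImplicit false
universe u v w
open RootD

namespace Groth.Agent.S11243

/-- (b), for a connected group, as a statement about its root datum: let P be a finite reduced
crystallographic root pairing over ℤ with weight lattice M, and b a base of P (simple roots,
determining the positive roots). Then there is an additive map h : M → ℤ which is positive on every
positive root (so that h strictly increases along the dominance order) and non-negative on every
dominant weight, i.e. on every ω ∈ M pairing non-negatively with all simple coroots. (Part (c),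
invariance under the component group of a disconnected group, is not stated.) -/
theorem result {ι : Type u} {M : Type v} {N : Type w}
    [Fintype ι] [AddCommGroup M] [AddCommGroup N]
    (P : RootPairing ι ℤ M N) [P.IsReduced] [P.IsCrystallographic] (b : P.Base) :
    ∃ h : M →+ ℤ, (∀ i : ι, b.IsPos i → 0 < h (P.root i)) ∧
      ∀ ω : M, (∀ j ∈ b.support, 0 ≤ P.toLinearMap ω (P.coroot j)) → 0 ≤ h ω := by
  obtain ⟨h, h1, h2⟩ := Groth.Agent.Lib.RootDBase58.exists_addHom_pos_nonneg P
    (Groth.Agent.Lib.RootDBase58.isSimpleSys_support P b)
  exact ⟨h, fun i hi => h1 i (Groth.Agent.Lib.RootDBase58.mem_posOf_of_isPos P b hi),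
    fun ω hω => h2 ω hω⟩

end Groth.Agent.S11243
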