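import Groth.Statements.S7610
import Groth.Agent.Lib.H30FibBC
import Groth.Agent.Lib.FibreDimAtFormula
import Groth.Agent.Lib.FibreStalkCM33

set_option autoImplicit false
universe u
open CategoryTheory CategoryTheory.Limits AlgebraicGeometry
open Variety

namespace Groth.Agent.S7610
open Groth.Agent.Lib.H30DimField Groth.Agent.Lib.H30DimRel

/-- additivity of local dimension for a flat morphism of schemes locally of finite type over a
field -/
theorem localDim_eq_add_of_flat (k : Type u) [Field k] (P X : Scheme.{u})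
    [P.Over (Spec (CommRingCat.of k))] [LocallyOfFiniteType (P ↘ (Spec (CommRingCat.of k)))]
    [X.Over (Spec (CommRingCat.of k))] [LocallyOfFiniteType (X ↘ (Spec (CommRingCat.of k)))]
    (p : P ⟶ X) (hp : p ≫ (X ↘ (Spec (CommRingCat.of k))) = P ↘ (Spec (CommRingCat.of k)))
    [Flat p] (z : P) :
    FlatMor.localDim P z = FlatMor.localDim X (p z) + FlatMor.fibreDimAt p z := by
  haveI : IsLocallyNoetherian P := isLocallyNoetherian k P
  haveI : IsLocallyNoetherian X := isLocallyNoetherian k X
  haveI := Groth.Agent.Lib.H30FlatDim.lft_of_over k P X p hp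
  rw [localDim_eq k P z, localDim_eq k X (p z),
    Groth.Agent.Lib.FibreStalkCM33.ringKrullDim_stalk_eq_add p z (Flat.stalkMap p z),
    Groth.Agent.Lib.FibreDimAtFormula.fibreDimAt_eq_add p z (rt p z) (trdeg_eq_rt p z)]
  have htd := Groth.Agent.Lib.H30FlatDim.td_eq_add k P X p hp z
  have hnn := td_nonneg k X (p z)
  have h1 : (td k P z).toNat = (td k X (p z)).toNat + rt p z := by omega
  rw [h1]
  push_cast
  abel

/-- the fibre of the structure morphism of a `k`-scheme is the scheme itself, dimensionwise -/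
theorem fibreDimAt_struct (k : Type u) [Field k] (Y : Scheme.{u})
    [Y.Over (Spec (CommRingCat.of k))] [LocallyOfFiniteType (Y ↘ (Spec (CommRingCat.of k)))] (y : Y) :
    FlatMor.fibreDimAt (Y ↘ (Spec (CommRingCat.of k))) y = FlatMor.localDim Y y := by
  unfold FlatMor.fibreDimAt
  have hP : IsPullback ((Y ↘ (Spec (CommRingCat.of k))).fiberι ((Y ↘ (Spec (CommRingCat.of k))) y))
      ((Y ↘ (Spec (CommRingCat.of k))).fiberToSpecResidueField ((Y ↘ (Spec (CommRingCat.of k))) y))
      (Y ↘ (Spec (CommRingCat.of k)))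
      ((Spec (CommRingCat.of k)).fromSpecResidueField ((Y ↘ (Spec (CommRingCat.of k))) y)) :=
    IsPullback.of_hasPullback _ _
  have := Groth.Agent.Lib.H30FibBC.localDim_eq_of_isPullback_field (Y ↘ (Spec (CommRingCat.of k)))
    _ _ _ hP ((Y ↘ (Spec (CommRingCat.of k))).asFiber y)
  rw [this, Scheme.Hom.fiberι_asFiber]

theorem main (k : Type u) [Field k] (X Y : Scheme.{u}) (f : X ⟶ Spec (CommRingCat.of k))
    (g : Y ⟶ Spec (CommRingCat.of k)) [LocallyOfFiniteType f] [LocallyOfFiniteType g]
    (z : ↥(pullback f g)) :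
    FlatMor.localDim ↥(pullback f g) z =
      FlatMor.localDim ↥X (pullback.fst f g z) + FlatMor.localDim ↥Y (pullback.snd f g z) := by
  letI : X.Over (Spec (CommRingCat.of k)) := ⟨f⟩
  letI : Y.Over (Spec (CommRingCat.of k)) := ⟨g⟩
  haveI : LocallyOfFiniteType (X ↘ (Spec (CommRingCat.of k))) := ‹LocallyOfFiniteType f›
  haveI : LocallyOfFiniteType (Y ↘ (Spec (CommRingCat.of k))) := ‹LocallyOfFiniteType g›
  letI : (pullback f g).Over (Spec (CommRingCat.of k)) := ⟨pullback.fst f g ≫ f⟩
  haveI : LocallyOfFiniteType ((pullback f g) ↘ (Spec (CommRingCat.of k))) := by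
    change LocallyOfFiniteType (pullback.fst f g ≫ f)
    infer_instance
  haveI : Flat g := inferInstance
  haveI : Flat (pullback.fst f g) := inferInstance
  rw [localDim_eq_add_of_flat k (pullback f g) X (pullback.fst f g) rfl z]
  congr 1
  have hsq : IsPullback (pullback.snd f g) (pullback.fst f g) g f :=
    (IsPullback.of_hasPullback f g).flip
  rw [Groth.Agent.Lib.H30FibBC.fibreDimAt_eq_of_isPullback g f (pullback.snd f g) (pullback.fst f g) hsq z]
  exact fibreDimAt_struct k Y _


/-- Let X and Y be schemes locally of finite type over a field k and z a point of X ×_k Y lying over x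
in X and y in Y. Then dim_z(X ×_k Y) = dim_x X + dim_y Y (local dimensions of the underlying
topological spaces, in WithBot ℕ∞). -/
theorem result (k : Type u) [Field k] (X : Scheme.{u}) [X.Over (Spec (CommRingCat.of k))] [LocallyOfFiniteType (X ↘ (Spec (CommRingCat.of k)))]
    (Y : Scheme.{u}) [Y.Over (Spec (CommRingCat.of k))] [LocallyOfFiniteType (Y ↘ (Spec (CommRingCat.of k)))]
    (z : ↥(pullback (X ↘ (Spec (CommRingCat.of k))) (Y ↘ (Spec (CommRingCat.of k))))) :
    FlatMor.localDim ↥(pullback (X ↘ (Spec (CommRingCat.of k))) (Y ↘ (Spec (CommRingCat.of k)))) z =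
      FlatMor.localDim ↥X (pullback.fst (X ↘ (Spec (CommRingCat.of k))) (Y ↘ (Spec (CommRingCat.of k))) z) +
        FlatMor.localDim ↥Y (pullback.snd (X ↘ (Spec (CommRingCat.of k))) (Y ↘ (Spec (CommRingCat.of k))) z) := by
  exact main k X Y _ _ z

end Groth.Agent.S7610
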