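import Groth.Statements.S16130
import Groth.Agent.Lib.OrbitSmoothMap45
import Groth.Agent.Lib.GrpDim45
import Groth.Agent.Lib.RedLocClosed45
import Groth.Agent.S7610
import Groth.Agent.S9359

set_option autoImplicit false
universe u
open CategoryTheory MonoidalCategory CartesianMonoidalCategory MonObj GrpObj AlgebraicGeometry CategoryTheory.Limits
open AlgGrp

namespace Groth.Agent.S16130

/-- `dim X = ⨆ localDim` -/
theorem dim_eq_iSup_localDim {X : Type*} [TopologicalSpace X] :
    topologicalKrullDim X = ⨆ x : X, FlatMor.localDim X x := by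
  apply le_antisymm
  · choose U hxU hU using fun x : X => Groth.Agent.Lib.TopKrullDim.exists_open_dim_eq_localDim x
    rw [Groth.Agent.Lib.H77FibDim.dim_eq_iSup_of_isOpen_cover (fun x => (U x : Set X))
      (fun x => (U x).isOpen) (fun x => ⟨x, hxU x⟩)]
    exact iSup_le fun x => (hU x).le.trans (le_iSup (fun x => FlatMor.localDim X x) x)
  · refine iSup_le fun x => ?_
    exact (Groth.Agent.Lib.TopKrullDim.localDim_le_dim_open (X := X) x ⊤ trivial).trans
      (topologicalKrullDim_subspace_le X _)

/-- if `localDim O o + d = D` for all `o` then `dim O + d = D` -/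
theorem dim_add_eq_of_forall {O : Type*} [TopologicalSpace O] [Nonempty O] (d D : WithBot ℕ∞)
    (hd : 0 ≤ d) (h : ∀ o : O, FlatMor.localDim O o + d = D) : topologicalKrullDim O + d = D := by
  rw [dim_eq_iSup_localDim]
  have hnn : ∀ o : O, 0 ≤ FlatMor.localDim O o := Groth.Agent.Lib.TopKrullDim.localDim_nonneg
  obtain ⟨o₀⟩ := ‹Nonempty O›
  induction d using WithBot.recBotCoe with
  | bot => exact absurd hd (by simp)
  | coe d =>
    induction d using ENat.recTopCoe with
    | top =>
      have h0 := h o₀
      have h1 : ∀ x : WithBot ℕ∞, 0 ≤ x → x + ((⊤ : ℕ∞) : WithBot ℕ∞) = ((⊤ : ℕ∞) : WithBot ℕ∞) := by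
        intro x hx
        induction x using WithBot.recBotCoe with
        | bot => exact absurd hx (by simp)
        | coe x => rw [← WithBot.coe_add, add_top]
      rw [h1 _ (hnn o₀)] at h0
      rw [← h0]
      exact h1 _ ((hnn o₀).trans (le_iSup (fun o => FlatMor.localDim O o) o₀))
    | coe n =>
      have := Groth.Agent.S9359.iSup_add_nat (fun o : O => FlatMor.localDim O o) hnn n
      change (⨆ o, FlatMor.localDim O o) + ((n : ℕ) : WithBot ℕ∞) = D
      rw [this]
      have h' : ∀ o : O, FlatMor.localDim O o + ((n : ℕ) : WithBot ℕ∞) = D := h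
      simp only [h']
      exact ciSup_const

open Groth.Agent.Lib.GrpTopPts45 Groth.Agent.Lib.GrpAction Groth.Agent.Lib.OrbitStable45
  Groth.Agent.Lib.OrbitSmooth45 Groth.Agent.Lib.GrpHomAction45 Groth.Agent.Lib.OrbitFlat45


/-- Over an algebraically closed field k, let G be an algebraic group (a smooth k-group scheme of finite
type, not necessarily connected) acting on a variety X (a reduced separated k-scheme of finite
type), and let x be a k-point of X with orbit map α_x : G → X. Then dim G = dim(G · x) + dim(G_x),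
where G · x is the image of α_x with its subspace topology and G_x is the stabilizer, the fibre of
α_x over x; all dimensions are Krull dimensions of topological spaces. (The published statement also
asserts that the irreducible components of G · x are precisely the G⁰-orbits it contains, all of
that dimension; that clause is not stated here.) -/
theorem result (k : Type u) [Field k] [IsAlgClosed k]
    (G X : Over (Spec (CommRingCat.of k))) [GrpObj G] [Smooth G.hom] [QuasiCompact G.hom]
    [IsReduced X.left] [IsSeparated X.hom] [LocallyOfFiniteType X.hom] [QuasiCompact X.hom]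
    (a : AlgGrp.Action G X) (x : 𝟙_ (Over (Spec (CommRingCat.of k))) ⟶ X) :
    topologicalKrullDim ↥G.left =
      topologicalKrullDim ↥(Set.range (a.orbitMap x).left.base) +
        topologicalKrullDim ↥(Limits.pullback (a.orbitMap x).left x.left) := by
  haveI : LocallyOfFiniteType G.hom := inferInstance
  have hlc : IsLocallyClosed (orbit a x) := isLocallyClosed_orbit a x
  obtain ⟨O, j, hj, hred, hrange⟩ := Groth.Agent.Lib.RedLocClosed45.exists_reduced_immersion hlc
  have hO : Set.range j = Set.range (a.orbitMap x).left := hrange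
  obtain ⟨ψ, hψ⟩ := exists_orbitMap_lift a x j hO
  obtain ⟨b, hb⟩ := exists_act_lift a x j hO
  have hsurj := surjective_lift a x j hO ψ hψ
  have hflat := flat_lift a x j ψ hψ b hb
  -- the stabilizer
  let H : Over (Spec (CommRingCat.of k)) := pullback (a.orbitMap x) x
  let s : H ⟶ G := pullback.fst (a.orbitMap x) x
  have hH : IsPullback s (toUnit H) (a.orbitMap x) x := by
    have h := IsPullback.of_hasPullback (a.orbitMap x) x
    rwa [toUnit_unique (pullback.snd (a.orbitMap x) x) (toUnit H)] at h
  obtain ⟨hGrpH, hsHom⟩ := Groth.Agent.Lib.StabGrp45.exists_grpObj_stabilizer a x s hH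
  have sq : IsPullback (fst G H).left ((G ◁ s) ≫ μ[G]).left ψ.left ψ.left :=
    (Groth.Agent.Lib.StabSq45.isPullback_fst_mul_of_isStabilizer a x s hH ψ (io j) hψ).map
      (Over.forget _)
  have hHsch : IsPullback s.left (toUnit H).left (a.orbitMap x).left x.left :=
    hH.map (Over.forget _)
  have hdimH : topologicalKrullDim H.left =
      topologicalKrullDim ↥(Limits.pullback (a.orbitMap x).left x.left) :=
    IsHomeomorph.topologicalKrullDim_eq _ (Scheme.homeoOfIso hHsch.isoPullback).isHomeomorph
  have hdimO : topologicalKrullDim O =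
      topologicalKrullDim ↥(Set.range (a.orbitMap x).left.base) := by
    have h1 : topologicalKrullDim O = topologicalKrullDim ↥(Set.range j) :=
      IsHomeomorph.topologicalKrullDim_eq _ (j.isEmbedding.toHomeomorph).isHomeomorph
    rw [h1, hO]
  rw [← hdimH, ← hdimO]
  letI := hGrpH
  -- finiteness
  haveI hlftx : LocallyOfFiniteType x.left := by
    have h1 : LocallyOfFiniteType (x.left ≫ X.hom) := by
      rw [Over.w x]
      exact inferInstanceAs (LocallyOfFiniteType (𝟙 (Spec (CommRingCat.of k))))
    exact locallyOfFiniteType_of_comp x.left X.hom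
  haveI hlfts : LocallyOfFiniteType s.left :=
    MorphismProperty.of_isPullback (P := @LocallyOfFiniteType) hHsch.flip hlftx
  haveI hlftH : LocallyOfFiniteType H.hom := by
    rw [← Over.w s]; infer_instance
  have hlftO : LocallyOfFiniteType (Oo j).hom := inferInstanceAs (LocallyOfFiniteType (j ≫ X.hom))
  haveI hlftψ : LocallyOfFiniteType ψ.left := by
    have h1 : LocallyOfFiniteType (ψ.left ≫ (Oo j).hom) := by rw [Over.w]; infer_instance
    exact locallyOfFiniteType_of_comp ψ.left (Oo j).hom
  letI : H.left.Over (Spec (CommRingCat.of k)) := ⟨H.hom⟩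
  haveI : LocallyOfFiniteType (H.left ↘ Spec (CommRingCat.of k)) := hlftH
  -- all fibre dimensions of ψ equal dim H
  have hfd : ∀ g : G.left, FlatMor.fibreDimAt ψ.left g = topologicalKrullDim H.left := by
    intro g
    let ζ : G ⟶ G ⊗ H := lift (𝟙 G) (toUnit G ≫ η[H])
    have hζ : ζ ≫ (G ◁ s) ≫ μ[G] = 𝟙 G := by
      rw [Groth.Agent.Lib.KerSq18.whiskerLeft_mul s ζ, lift_fst, lift_snd, Category.assoc,
        IsMonHom.one_hom, ← Hom.one_def, _root_.mul_one]
    have hz : ((G ◁ s) ≫ μ[G]).left (ζ.left g) = g := by
      rw [← Scheme.Hom.comp_apply, ← Over.comp_left, hζ]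
      rfl
    have h1 := Groth.Agent.Lib.H30FibBC.fibreDimAt_eq_of_isPullback ψ.left ψ.left
      ((G ◁ s) ≫ μ[G]).left (fst G H).left sq.flip (ζ.left g)
    have sq2 : IsPullback (snd G H).left (fst G H).left H.hom G.hom :=
      (IsPullback.of_hasPullback G.hom H.hom).flip
    have h2 := Groth.Agent.Lib.H30FibBC.fibreDimAt_eq_of_isPullback H.hom G.hom
      (snd G H).left (fst G H).left sq2 (ζ.left g)
    rw [hz] at h1
    rw [← h1, h2]
    have h3 := Groth.Agent.S7610.fibreDimAt_struct k H.left ((snd G H).left (ζ.left g))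
    exact h3.trans (Groth.Agent.Lib.GrpDim45.localDim_eq_dim H _)
  letI : G.left.Over (Spec (CommRingCat.of k)) := ⟨G.hom⟩
  haveI : LocallyOfFiniteType (G.left ↘ Spec (CommRingCat.of k)) :=
    inferInstanceAs (LocallyOfFiniteType G.hom)
  letI : O.Over (Spec (CommRingCat.of k)) := ⟨(Oo j).hom⟩
  haveI : LocallyOfFiniteType (O ↘ Spec (CommRingCat.of k)) := hlftO
  have hloc : ∀ g : G.left, FlatMor.localDim G.left g =
      FlatMor.localDim O (ψ.left g) + FlatMor.fibreDimAt ψ.left g :=
    fun g => Groth.Agent.S7610.localDim_eq_add_of_flat k G.left O ψ.left (Over.w ψ) g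
  have hall : ∀ o : O, FlatMor.localDim O o + topologicalKrullDim H.left =
      topologicalKrullDim G.left := by
    intro o
    obtain ⟨g, rfl⟩ := hsurj.surj o
    rw [← hfd g, ← hloc g]
    exact Groth.Agent.Lib.GrpDim45.localDim_eq_dim G g
  haveI : Nonempty O := ⟨ψ.left (unitPt G)⟩
  haveI : Nonempty H.left := ⟨unitPt H⟩
  have hHnn : 0 ≤ topologicalKrullDim H.left := Groth.Agent.Lib.TopKrullDim.dim_nonneg_of_nonempty
  exact (dim_add_eq_of_forall _ _ hHnn hall).symm

end Groth.Agent.S16130
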