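import Groth.Statements.S11244
import Groth.Agent.S16130
import Groth.Agent.Lib.H56OpenFibDim2
import Groth.Agent.Lib.LocClosedDim45
import Groth.Agent.Lib.H8LocClosedDim
import Groth.Agent.Lib.ActOpen18
import Groth.Agent.Lib.GrpDimImm45

set_option autoImplicit false
universe u
open CategoryTheory MonoidalCategory CartesianMonoidalCategory MonObj GrpObj AlgebraicGeometry
open scoped TensorProduct
open AGF

namespace Groth.Agent.S11244

/-- the closure of a locally closed subset of a scheme of finite type over a field has the same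
dimension -/
theorem dim_closure_le (k : Type u) [Field k] (X : Scheme.{u}) [X.Over (Spec (CommRingCat.of k))]
    [LocallyOfFiniteType (X ↘ Spec (CommRingCat.of k))] [TopologicalSpace.NoetherianSpace X] {O : Set X}
    (hO : IsLocallyClosed O) :
    topologicalKrullDim ↥(closure O) ≤ topologicalKrullDim ↥O := by
  have hδ := Groth.Agent.Lib.H30DimField.isDimFun k X
  by_cases hne : O.Nonempty
  · generalize hd : topologicalKrullDim ↥O = d
    induction d using WithBot.recBotCoe with
    | bot =>
      have : Nonempty ↥O := hne.to_subtype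
      have h0 : (0 : WithBot ℕ∞) ≤ topologicalKrullDim ↥O :=
        Groth.Agent.Lib.LocClosedDim45.topologicalKrullDim_nonneg_of_nonempty
      rw [hd] at h0
      exact absurd h0 (by simp)
    | coe d =>
      induction d using ENat.recTopCoe with
      | top => exact le_top
      | coe n =>
        refine Groth.Agent.Lib.H8LocClosedDim.dim_le k X (closure O) isClosed_closure.isLocallyClosed n ?_
        intro β hβ
        obtain ⟨ξ, hξO, hξβ⟩ :=
          Groth.Agent.Lib.LocClosedDim45.exists_specializes_of_mem_closure hO hβ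
        have h1 := Groth.Agent.S6462.delta_le_of_specializes hδ hξβ
        have h2 := Groth.Agent.Lib.H8LocClosedDim.td_le_dim k X O hO ξ hξO
        rw [hd] at h2
        have h3 : (Groth.Agent.Lib.H30DimField.td k X ξ).toNat ≤ n := by exact_mod_cast h2
        have h4 := Groth.Agent.Lib.H30DimField.td_nonneg k X ξ
        omega
  · rw [Set.not_nonempty_iff_eq_empty] at hne
    subst hne
    rw [closure_empty]

variable {k : Type u} [Field k] {G X : Over (Spec (CommRingCat.of k))} [GrpObj G]

/-- the orbit-type map of a rational point is the base change of the universal one -/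
theorem isPullback_psi (a : AlgGrp.Action G X) (x : 𝟙_ (Over (Spec (CommRingCat.of k))) ⟶ X) :
    IsPullback (G ◁ x).left (GIT.psi a x).left (GIT.psi a (𝟙 X)).left (X ◁ x).left := by
  have h1 : (GIT.psi a x).left ≫ (snd X (𝟙_ (Over (Spec (CommRingCat.of k))))).left =
      (snd G (𝟙_ (Over (Spec (CommRingCat.of k))))).left := by
    rw [← Over.comp_left]; unfold GIT.psi; rw [lift_snd]
  have h2 : (GIT.psi a (𝟙 X)).left ≫ (snd X X).left = (snd G X).left := by
    rw [← Over.comp_left]; unfold GIT.psi; rw [lift_snd]
  refine IsPullback.of_bot ?_ ?_ (Groth.Agent.Lib.ActOpen18.isPullback_whiskerLeft_snd X x)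
  · rw [h1, h2]
    exact Groth.Agent.Lib.ActOpen18.isPullback_whiskerLeft_snd G x
  · rw [← Over.comp_left, ← Over.comp_left]
    congr 1
    unfold GIT.psi
    apply CartesianMonoidalCategory.hom_ext
    · simp
    · simp

theorem arith (dG : ℕ) (a b : WithBot ℕ∞)
    (h : ((dG : ℕ) : WithBot ℕ∞) = a + b) (r : ℕ) :
    a ≤ ((r : ℕ) : WithBot ℕ∞) ↔ (((dG - r : ℕ) : ℕ) : WithBot ℕ∞) ≤ b := by
  induction a using WithBot.recBotCoe with
  | bot => rw [WithBot.bot_add] at h; exact absurd h (by simp)
  | coe a =>
    induction b using WithBot.recBotCoe with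
    | bot => rw [WithBot.add_bot] at h; exact absurd h (by simp)
    | coe b =>
      induction a using ENat.recTopCoe with
      | top =>
        rw [← WithBot.coe_add, top_add] at h
        exact absurd h (by
          have : ((dG : ℕ) : WithBot ℕ∞) = (((dG : ℕ) : ℕ∞) : WithBot ℕ∞) := rfl
          rw [this, WithBot.coe_inj]
          exact ENat.coe_ne_top dG)
      | coe a =>
        induction b using ENat.recTopCoe with
        | top =>
          rw [← WithBot.coe_add, add_top] at h
          exact absurd h (by
            have : ((dG : ℕ) : WithBot ℕ∞) = (((dG : ℕ) : ℕ∞) : WithBot ℕ∞) := rfl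
            rw [this, WithBot.coe_inj]
            exact ENat.coe_ne_top dG)
        | coe b =>
          have h' : dG = a + b := by exact_mod_cast h
          have e1 : (((a : ℕ) : ℕ∞) : WithBot ℕ∞) ≤ ((r : ℕ) : WithBot ℕ∞) ↔ a ≤ r := by
            have : ((r : ℕ) : WithBot ℕ∞) = (((r : ℕ) : ℕ∞) : WithBot ℕ∞) := rfl
            rw [this, WithBot.coe_le_coe, Nat.cast_le]
          have e2 : (((dG - r : ℕ) : ℕ) : WithBot ℕ∞) ≤ (((b : ℕ) : ℕ∞) : WithBot ℕ∞) ↔
              dG - r ≤ b := by
            have : (((dG - r : ℕ) : ℕ) : WithBot ℕ∞) = ((((dG - r : ℕ) : ℕ) : ℕ∞) : WithBot ℕ∞) :=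
              rfl
            rw [this, WithBot.coe_le_coe, Nat.cast_le]
          rw [e1, e2]
          omega

instance lft_unit : LocallyOfFiniteType (𝟙_ (Over (Spec (CommRingCat.of k)))).hom :=
  inferInstanceAs (LocallyOfFiniteType (𝟙 (Spec (CommRingCat.of k))))

instance lft_tensor (A B : Over (Spec (CommRingCat.of k))) [LocallyOfFiniteType A.hom]
    [LocallyOfFiniteType B.hom] : LocallyOfFiniteType (A ⊗ B).hom := by
  have h1 : LocallyOfFiniteType (fst A B).left :=
    inferInstanceAs (LocallyOfFiniteType (Limits.pullback.fst A.hom B.hom))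
  rw [← Over.w (fst A B)]
  infer_instance

theorem lft_of_over {A B : Over (Spec (CommRingCat.of k))} [LocallyOfFiniteType A.hom] (f : A ⟶ B) :
    LocallyOfFiniteType f.left := by
  have h1 : LocallyOfFiniteType (f.left ≫ B.hom) := by rw [Over.w]; infer_instance
  exact locallyOfFiniteType_of_comp f.left B.hom

/-- the local fibre dimension of the universal orbit map at `(e, x)` is the dimension of the
stabilizer of the rational point `x` -/
theorem fibreDimAt_psi_eq [LocallyOfFiniteType G.hom] [LocallyOfFiniteType X.hom]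
    (a : AlgGrp.Action G X) (x : 𝟙_ (Over (Spec (CommRingCat.of k))) ⟶ X)
    (t : (𝟙_ (Over (Spec (CommRingCat.of k)))).left) :
    haveI := lft_of_over (GIT.psi a (𝟙 X))
    FlatMor.fibreDimAt (GIT.psi a (𝟙 X)).left ((lift (toUnit X ≫ η[G]) (𝟙 X)).left (x.left t)) =
      topologicalKrullDim ↥(Limits.pullback (a.orbitMap x).left x.left) := by
  haveI := lft_of_over (GIT.psi a (𝟙 X))
  haveI := lft_of_over (GIT.psi a x)
  haveI := lft_of_over (a.orbitMap x)
  let H : Over (Spec (CommRingCat.of k)) := Limits.pullback (a.orbitMap x) x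
  let s : H ⟶ G := Limits.pullback.fst (a.orbitMap x) x
  have hH : IsPullback s (toUnit H) (a.orbitMap x) x := by
    have h := IsPullback.of_hasPullback (a.orbitMap x) x
    rwa [toUnit_unique (Limits.pullback.snd (a.orbitMap x) x) (toUnit H)] at h
  obtain ⟨hGrpH, hsHom⟩ := Groth.Agent.Lib.StabGrp45.exists_grpObj_stabilizer a x s hH
  have hHsch : IsPullback s.left (toUnit H).left (a.orbitMap x).left x.left :=
    hH.map (Over.forget _)
  have hdimH : topologicalKrullDim H.left =
      topologicalKrullDim ↥(Limits.pullback (a.orbitMap x).left x.left) :=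
    IsHomeomorph.topologicalKrullDim_eq _ (Scheme.homeoOfIso hHsch.isoPullback).isHomeomorph
  rw [← hdimH]
  letI := hGrpH
  haveI hlftx : LocallyOfFiniteType x.left := lft_of_over x
  haveI hlfts : LocallyOfFiniteType s.left :=
    MorphismProperty.of_isPullback (P := @LocallyOfFiniteType) hHsch.flip hlftx
  haveI hlftH : LocallyOfFiniteType H.hom := by
    rw [← Over.w s]; infer_instance
  letI : H.left.Over (Spec (CommRingCat.of k)) := ⟨H.hom⟩
  haveI : LocallyOfFiniteType (H.left ↘ Spec (CommRingCat.of k)) := hlftH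
  -- step 1
  have htoUnit : (toUnit H).left = H.hom := by
    have := Over.w (toUnit H)
    rw [← this]
    exact (Category.comp_id _).symm
  have h1 : FlatMor.fibreDimAt (toUnit H).left (Groth.Agent.Lib.GrpTopPts45.unitPt H) =
      topologicalKrullDim H.left := by
    have h3 := Groth.Agent.S7610.fibreDimAt_struct k H.left (Groth.Agent.Lib.GrpTopPts45.unitPt H)
    have h4 : FlatMor.fibreDimAt (toUnit H).left (Groth.Agent.Lib.GrpTopPts45.unitPt H) =
        FlatMor.fibreDimAt (H.left ↘ Spec (CommRingCat.of k))
          (Groth.Agent.Lib.GrpTopPts45.unitPt H) := by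
      congr 1
    rw [h4, h3]
    exact Groth.Agent.Lib.GrpDim45.localDim_eq_dim H _
  -- step 2
  have h2 := Groth.Agent.Lib.H30FibBC.fibreDimAt_eq_of_isPullback (a.orbitMap x).left x.left
    s.left (toUnit H).left hHsch (Groth.Agent.Lib.GrpTopPts45.unitPt H)
  -- step 3
  have hcomm : (ρ_ G).inv ≫ GIT.psi a x = a.orbitMap x ≫ (ρ_ X).inv := by
    have e1 : (ρ_ G).inv ≫ (G ◁ x) = lift (𝟙 G) (toUnit G ≫ x) := by
      apply CartesianMonoidalCategory.hom_ext
      · simp
      · simp
    unfold GIT.psi AlgGrp.Action.orbitMap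
    apply CartesianMonoidalCategory.hom_ext
    · simp only [Category.assoc, lift_fst, rightUnitor_inv_fst, Category.comp_id]
      rw [← Category.assoc, e1]
    · simp only [Category.assoc, lift_snd]
      exact toUnit_unique _ _
  haveI : IsIso (ρ_ G).inv.left := (inferInstance : IsIso ((Over.forget _).map (ρ_ G).inv))
  haveI : IsIso (ρ_ X).inv.left := (inferInstance : IsIso ((Over.forget _).map (ρ_ X).inv))
  have hsq3 : IsPullback (ρ_ G).inv.left (a.orbitMap x).left (GIT.psi a x).left (ρ_ X).inv.left :=
    IsPullback.of_horiz_isIso ⟨by rw [← Over.comp_left, ← Over.comp_left, hcomm]⟩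
  have h3 := Groth.Agent.Lib.H30FibBC.fibreDimAt_eq_of_isPullback (GIT.psi a x).left
    (ρ_ X).inv.left (ρ_ G).inv.left (a.orbitMap x).left hsq3
    (s.left (Groth.Agent.Lib.GrpTopPts45.unitPt H))
  -- step 4
  have h4 := Groth.Agent.Lib.H30FibBC.fibreDimAt_eq_of_isPullback (GIT.psi a (𝟙 X)).left
    (X ◁ x).left (G ◁ x).left (GIT.psi a x).left (isPullback_psi a x)
    ((ρ_ G).inv.left (s.left (Groth.Agent.Lib.GrpTopPts45.unitPt H)))
  -- step 5
  have hpt : (G ◁ x).left ((ρ_ G).inv.left (s.left (Groth.Agent.Lib.GrpTopPts45.unitPt H))) =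
      (lift (toUnit X ≫ η[G]) (𝟙 X)).left (x.left t) := by
    have hmor : η[H] ≫ s ≫ (ρ_ G).inv ≫ (G ◁ x) = x ≫ lift (toUnit X ≫ η[G]) (𝟙 X) := by
      rw [← Category.assoc, IsMonHom.one_hom]
      apply CartesianMonoidalCategory.hom_ext
      · simp only [Category.assoc, whiskerLeft_fst, rightUnitor_inv_fst, lift_fst]
        rw [Category.comp_id, ← Category.assoc, toUnit_unique (x ≫ toUnit X) (𝟙 _),
          Category.id_comp]
      · simp only [Category.assoc, whiskerLeft_snd, lift_snd, Category.comp_id]
        rw [← Category.assoc, ← Category.assoc,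
          toUnit_unique ((η[G] ≫ (ρ_ G).inv) ≫ snd G _) (𝟙 _), Category.id_comp]
    have ht : t = IsLocalRing.closedPoint k :=
      Subsingleton.elim (α := PrimeSpectrum k) _ _
    unfold Groth.Agent.Lib.GrpTopPts45.unitPt
    rw [ht]
    rw [← Scheme.Hom.comp_apply, ← Scheme.Hom.comp_apply, ← Scheme.Hom.comp_apply,
      ← Scheme.Hom.comp_apply, ← Over.comp_left, ← Over.comp_left, ← Over.comp_left,
      ← Over.comp_left, hmor]
  rw [← hpt, ← h4, ← h3, ← h2, h1]


/-- Let k be an algebraically closed field, G a linear algebraic group over k (affine, smooth) acting on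
an irreducible variety X over k (reduced, separated, of finite type). For a rational point x of X
let dim G·x be the dimension of the closure of its orbit. Then for every r the set of rational
points x with dim G·x ≤ r is closed: there is a closed subset Z of X whose rational points are
exactly those x. (The second assertion, that the points of maximal orbit dimension form a dense open
subset, follows.) -/
theorem result (k : Type u) [Field k] [IsAlgClosed k]
    (G : Over (Spec (CommRingCat.of k))) [GrpObj G] [IsAffine G.left] [Smooth G.hom]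
    (X : Over (Spec (CommRingCat.of k))) [IrreducibleSpace ↥X.left] [IsReduced X.left]
    [IsSeparated X.hom] [LocallyOfFiniteType X.hom] [QuasiCompact X.hom]
    (a : AlgGrp.Action G X) (r : ℕ) :
    ∃ Z : Set ↥X.left, IsClosed Z ∧
      ∀ x : 𝟙_ (Over (Spec (CommRingCat.of k))) ⟶ X,
        topologicalKrullDim ↥(closure (Set.range ⇑(a.orbitMap x).left.base)) ≤ (r : WithBot ℕ∞) ↔
          Set.range ⇑x.left.base ⊆ Z := by
  haveI : LocallyOfFiniteType G.hom := inferInstance
  haveI : QuasiCompact G.hom := inferInstance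
  obtain ⟨dG, hdG⟩ := Groth.Agent.Lib.GrpDimImm45.exists_nat_dim_eq G
  haveI := lft_of_over (GIT.psi a (𝟙 X))
  refine ⟨(lift (toUnit X ≫ η[G]) (𝟙 X)).left ⁻¹'
    {w | (((dG - r : ℕ) : ℕ) : WithBot ℕ∞) ≤ FlatMor.fibreDimAt (GIT.psi a (𝟙 X)).left w}, ?_, ?_⟩
  · exact (Groth.Agent.Lib.H56OpenDim.isClosed_le_fibreDimAt _ _).preimage
      (lift (toUnit X ≫ η[G]) (𝟙 X)).left.continuous
  · intro x
    have hsum := Groth.Agent.S16130.result k G X a x
    rw [hdG] at hsum
    have hlc : IsLocallyClosed (Set.range ⇑(a.orbitMap x).left.base) :=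
      Groth.Agent.Lib.OrbitStable45.isLocallyClosed_orbit a x
    letI : X.left.Over (Spec (CommRingCat.of k)) := ⟨X.hom⟩
    haveI : LocallyOfFiniteType (X.left ↘ Spec (CommRingCat.of k)) :=
      inferInstanceAs (LocallyOfFiniteType X.hom)
    haveI hXN : IsNoetherian X.left := Groth.Agent.Lib.OrbitStable45.isNoetherian_of_finiteType X
    have hcl : topologicalKrullDim ↥(closure (Set.range ⇑(a.orbitMap x).left.base)) =
        topologicalKrullDim ↥(Set.range ⇑(a.orbitMap x).left.base) := by
      apply le_antisymm (dim_closure_le k X.left hlc)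
      exact (Topology.IsInducing.subtypeVal.of_comp (continuous_inclusion subset_closure)
        continuous_subtype_val).topologicalKrullDim_le
    rw [hcl, arith dG _ _ hsum r]
    constructor
    · intro h
      rintro _ ⟨t, rfl⟩
      change _ ≤ FlatMor.fibreDimAt _ ((lift (toUnit X ≫ η[G]) (𝟙 X)).left (x.left t))
      rw [fibreDimAt_psi_eq a x t]
      exact h
    · intro h
      have h1 := h ⟨IsLocalRing.closedPoint k, rfl⟩
      change _ ≤ FlatMor.fibreDimAt _
        ((lift (toUnit X ≫ η[G]) (𝟙 X)).left (x.left (IsLocalRing.closedPoint k))) at h1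
      rw [fibreDimAt_psi_eq a x] at h1
      exact h1

end Groth.Agent.S11244
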