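import Groth.Statements.S11249
import Mathlib
-- import your own Groth.Agent.* helpers here

set_option autoImplicit false
universe u
open W4bk4grassmannian

namespace Groth.Agent.S11249

open Matrix in
/-- Row-multilinear expansion of a minor of a product (weak Cauchy–Binet). -/
theorem det_mul_submatrix {R : Type*} [CommRing R] {l m n r : ℕ} (a : Matrix (Fin l) (Fin m) R)
    (J : Matrix (Fin m) (Fin n) R) (ρ : Fin r → Fin l) (γ : Fin r → Fin n) :
    ((a * J).submatrix ρ γ).det =
      ∑ σ : Fin r → Fin m, (∏ i, a (ρ i) (σ i)) * (J.submatrix σ γ).det := by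
  have h : (a * J).submatrix ρ γ =
      Matrix.of (fun i => ∑ j, a (ρ i) j • (fun c => J j (γ c))) := by
    ext i c
    simp [Matrix.mul_apply, Finset.sum_apply]
  rw [h]
  change Matrix.detRowAlternating.toMultilinearMap
    (fun i => ∑ j, a (ρ i) j • (fun c => J j (γ c))) = _
  rw [MultilinearMap.map_sum]
  refine Finset.sum_congr rfl fun σ _ => ?_
  rw [MultilinearMap.map_smul_univ]
  rfl

section
open Matrix
variable {K : Type u} [Field K] {d n : ℕ}

lemma exists_minor_ne_zero (A : Matrix (Fin n) (Fin d) K)
    (hA : LinearIndependent K A.transpose) :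
    ∃ θ : Fin d → Fin n, (A.submatrix θ id).det ≠ 0 := by
  have hinj : Function.Injective A.mulVecLin := Matrix.mulVec_injective_iff.2 hA
  obtain ⟨g, hg⟩ := LinearMap.exists_leftInverse_of_injective A.mulVecLin
    (LinearMap.ker_eq_bot.2 hinj)
  set L := LinearMap.toMatrix' g with hL
  have hLA : L * A = 1 := by
    have := congrArg LinearMap.toMatrix' hg
    rwa [LinearMap.toMatrix'_comp, ← Matrix.toLin'_apply', LinearMap.toMatrix'_toLin',
      LinearMap.toMatrix'_id] at this
  by_contra hcon
  push Not at hcon
  have h1 : ((L * A).submatrix id id).det = 0 := by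
    rw [det_mul_submatrix]
    exact Finset.sum_eq_zero fun σ _ => by rw [hcon σ, mul_zero]
  rw [hLA] at h1
  simp at h1

lemma minors_all (A A' : Matrix (Fin n) (Fin d) K) (c : K)
    (h : ∀ θ : {a : Fin d → Fin n // StrictMono a},
      (A.submatrix θ.1 id).det = c * (A'.submatrix θ.1 id).det) (θ : Fin d → Fin n) :
    (A.submatrix θ id).det = c * (A'.submatrix θ id).det := by
  by_cases hθ : Function.Injective θ
  · set σ := Tuple.sort θ with hσ
    have hmono : StrictMono (θ ∘ σ) :=
      (Tuple.monotone_sort θ).strictMono_of_injective (hθ.comp σ.injective)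
    have h0 := h ⟨θ ∘ σ, hmono⟩
    have e1 : ∀ B : Matrix (Fin n) (Fin d) K, (B.submatrix (θ ∘ σ) id).det =
        ((Equiv.Perm.sign σ : ℤˣ) : ℤ) * (B.submatrix θ id).det := by
      intro B
      rw [← Matrix.det_permute σ (B.submatrix θ id)]
      rfl
    simp only at h0
    rw [e1, e1] at h0
    rcases Int.units_eq_one_or (Equiv.Perm.sign σ) with hs | hs
    · rw [hs] at h0
      simpa using h0
    · rw [hs] at h0
      simp only [Units.val_neg, Units.val_one, Int.cast_neg, Int.cast_one, neg_mul, one_mul,
        mul_neg, neg_inj] at h0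
      exact h0
  · rw [Function.Injective] at hθ
    push Not at hθ
    obtain ⟨i, j, hij, hne⟩ := hθ
    rw [Matrix.det_zero_of_row_eq hne (by ext b; simp [hij]),
      Matrix.det_zero_of_row_eq hne (by ext b; simp [hij]), mul_zero]

lemma mul_adjugate_minor (B : Matrix (Fin n) (Fin d) K) (θ0 : Fin d → Fin n) :
    B * (B.submatrix θ0 id).adjugate =
      Matrix.of fun i j => (B.submatrix (Function.update θ0 j i) id).det := by
  ext i j
  have e : (B.submatrix (Function.update θ0 j i) id) = (B.submatrix θ0 id).updateRow j (B i) := by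
    ext a b
    by_cases hab : a = j
    · subst hab; simp
    · simp [Matrix.updateRow_apply, hab]
  rw [Matrix.of_apply, e, ← Matrix.cramer_transpose_apply, Matrix.cramer_eq_adjugate_mulVec,
    ← Matrix.adjugate_transpose, Matrix.mul_apply]
  simp only [Matrix.mulVec, dotProduct, Matrix.transpose_apply]
  exact Finset.sum_congr rfl fun l _ => mul_comm _ _

lemma range_le (A A' : Matrix (Fin n) (Fin d) K) (c : K)
    (h' : ∀ θ : Fin d → Fin n, (A.submatrix θ id).det = c * (A'.submatrix θ id).det)
    (θ0 : Fin d → Fin n) (hθ0 : (A.submatrix θ0 id).det ≠ 0) :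
    LinearMap.range A.mulVecLin ≤ LinearMap.range A'.mulVecLin := by
  set M := A.submatrix θ0 id with hM
  set M' := A'.submatrix θ0 id with hM'
  have hAeq : A * M.adjugate = c • (A' * M'.adjugate) := by
    rw [hM, hM', mul_adjugate_minor A, mul_adjugate_minor A']
    ext i j
    simp [h']
  have hA1 : A * M.adjugate * M = M.det • A := by
    rw [Matrix.mul_assoc, Matrix.adjugate_mul, Matrix.mul_smul, Matrix.mul_one]
  have hA2 : A = A' * ((M.det)⁻¹ • c • (M'.adjugate * M)) := by
    have : M.det • A = A' * (c • (M'.adjugate * M)) := by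
      rw [← hA1, hAeq, Matrix.smul_mul, Matrix.mul_smul, Matrix.mul_assoc]
    rw [Matrix.mul_smul, ← this, smul_smul, inv_mul_cancel₀ hθ0, one_smul]
  rintro _ ⟨v, rfl⟩
  refine ⟨((M.det)⁻¹ • c • (M'.adjugate * M)) *ᵥ v, ?_⟩
  rw [Matrix.mulVecLin_apply, Matrix.mulVecLin_apply, Matrix.mulVec_mulVec, ← hA2]

end

open W4bk4grassmannian in
/-- Injectivity of the Plücker map, in matrix form: let K be a field, A and A' two n × d matrices over K
with linearly independent columns, and suppose there is a nonzero scalar c with det A_θ = c · det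
A'_θ for every strictly increasing d-tuple θ of row indices (A_θ the d × d submatrix on the rows θ).
Then the columns of A and of A' span the same subspace of K^n. (The published statement is over an
algebraically closed field; this row allows any field K.) -/
theorem result (K : Type u) [Field K] (d n : ℕ)
    (A A' : Matrix (Fin n) (Fin d) K) (hA : LinearIndependent K A.transpose)
    (hA' : LinearIndependent K A'.transpose) (c : K) (hc : c ≠ 0)
    (h : ∀ θ : Idx d n, (A.submatrix θ.1 id).det = c * (A'.submatrix θ.1 id).det) :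
    Submodule.span K (Set.range A.transpose) = Submodule.span K (Set.range A'.transpose) := by
  have hall := minors_all A A' c h
  have hall' : ∀ θ : Fin d → Fin n, (A'.submatrix θ id).det = c⁻¹ * (A.submatrix θ id).det := by
    intro θ
    rw [hall θ, ← mul_assoc, inv_mul_cancel₀ hc, one_mul]
  obtain ⟨θ0, hθ0⟩ := exists_minor_ne_zero A hA
  have hθ0' : (A'.submatrix θ0 id).det ≠ 0 := by
    intro h0
    exact hθ0 (by rw [hall θ0, h0, mul_zero])
  have e1 : Submodule.span K (Set.range A.transpose) = LinearMap.range A.mulVecLin :=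
    (Matrix.range_mulVecLin A).symm
  have e2 : Submodule.span K (Set.range A'.transpose) = LinearMap.range A'.mulVecLin :=
    (Matrix.range_mulVecLin A').symm
  rw [e1, e2]
  exact le_antisymm (range_le A A' c hall θ0 hθ0) (range_le A' A c⁻¹ hall' θ0 hθ0')

end Groth.Agent.S11249
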