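import Groth.Statements.S1125
import Groth.Agent.S1124
import Mathlib.AlgebraicGeometry.Morphisms.FlatDescent
import Mathlib.AlgebraicGeometry.Morphisms.UniversallyOpen

set_option autoImplicit false
open CategoryTheory CategoryTheory.Limits AlgebraicGeometry Opposite
universe u
open Desc

namespace Groth.Agent.S1125

theorem isImmersion_of_pullback_fst {X Y Z : Scheme.{u}} (f : X ⟶ Z) (g : Y ⟶ Z)
    [Surjective f] [Flat f] [QuasiCompact f] [UniversallyOpen f]
    [IsImmersion (pullback.fst f g)] : IsImmersion g := by
  have hopen : IsOpenMap f.base := f.isOpenMap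
  have hquot : Topology.IsQuotientMap f.base := hopen.isQuotientMap f.continuous f.surjective
  have hlc : IsLocallyClosed (f.base ⁻¹' Set.range g.base) := by
    rw [← Scheme.Pullback.range_fst]; exact (pullback.fst f g).isLocallyClosed_range
  have hU : IsOpen (coborder (Set.range g.base)) := by
    rw [← hquot.isOpen_preimage, ← coborder_preimage hopen f.continuous]
    exact hlc.isOpen_coborder
  let U : Z.Opens := ⟨coborder (Set.range g.base), hU⟩
  let gU : Y ⟶ U := IsOpenImmersion.lift U.ι g (by simpa [U] using subset_coborder)
  have hgU : gU ≫ U.ι = g := IsOpenImmersion.lift_fac _ _ _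
  let fU := pullback.snd f U.ι
  let h := pullback.fst fU gU
  have h1 : IsImmersion (h ≫ pullback.fst f U.ι) := by
    rw [← pullbackLeftPullbackSndIso_hom_fst]
    have : IsImmersion (pullback.fst f (gU ≫ U.ι)) := by rw [hgU]; infer_instance
    infer_instance
  have h2 : IsImmersion h := IsImmersion.of_comp h (pullback.fst f U.ι)
  have h3 : IsClosed (Set.range h.base) := by
    rw [Scheme.Pullback.range_fst]
    apply IsClosed.preimage fU.continuous
    have : Set.range gU.base = U.ι.base ⁻¹' (Set.range g.base) := by
      rw [← hgU, Scheme.Hom.comp_base, TopCat.coe_comp, Set.range_comp,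
        Set.preimage_image_eq _ U.ι.injective]
    rw [this]
    exact isClosed_preimage_val_coborder
  have h4 : QuasiCompact h := by
    have hce : Topology.IsClosedEmbedding h.base := ⟨h.isEmbedding, h3⟩
    rw [quasiCompact_iff]
    intro V hV hVc
    exact hce.isCompact_preimage hVc
  have := Groth.Agent.S1124.result.{u}
  have h5 := MorphismProperty.of_pullback_fst_of_descendsAlong
    (P := (@IsImmersion ⊓ @QuasiCompact : MorphismProperty Scheme.{u}))
    (Q := @Surjective ⊓ @Flat ⊓ @QuasiCompact) (f := fU) (g := gU)
    ⟨⟨inferInstance, inferInstance⟩, inferInstance⟩ ⟨h2, h4⟩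
  have : IsImmersion gU := h5.1
  rw [← hgU]
  infer_instance

/-- If the base change of a morphism along a flat, surjective morphism locally of finite presentation is
an immersion, then the morphism is an immersion. (Single-cover form of the fppf-local statement;
Zariski-locality on the target gives the covering form.) -/
theorem result :
    MorphismProperty.DescendsAlong (@IsImmersion : MorphismProperty Scheme.{u})
      (@Surjective ⊓ @Flat ⊓ @LocallyOfFinitePresentation : MorphismProperty Scheme.{u}) := by
  apply IsZariskiLocalAtTarget.descendsAlong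
  rintro R X Y f g ⟨⟨h₁, h₂⟩, h₃⟩ H
  obtain ⟨V : X.Opens, hV, e⟩ := f.isOpenMap.exists_opens_image_eq_of_prespectralSpace
    f.continuous (by simp) isOpen_univ isCompact_univ
  have hs : Surjective (V.ι ≫ f) :=
    ⟨fun x ↦ have ⟨y, hyV, e⟩ := e.ge (Set.mem_univ x); ⟨⟨y, hyV⟩, e⟩⟩
  have hqc : QuasiCompact (V.ι ≫ f) :=
    (quasiCompact_iff_compactSpace _).mpr (isCompact_iff_compactSpace.mp hV)
  have : IsImmersion (pullback.fst (V.ι ≫ f) g) := by
    rw [← pullbackRightPullbackFstIso_inv_fst f g V.ι]
    infer_instance
  exact isImmersion_of_pullback_fst (V.ι ≫ f) g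

end Groth.Agent.S1125
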