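import Groth.Statements.S11252
import Groth.Agent.Lib.PlSMT5

set_option autoImplicit false
universe u
open W4bk4grassmannian

namespace Groth.Agent.S11252

open W4bk4grassmannian in
/-- Standard monomial basis for a union of Schubert varieties: let K be an algebraically closed field, 0
< d < n, and I(d,n) the strictly increasing maps Fin d → Fin n ordered entrywise; S = K[X_θ : θ ∈
I(d,n)] is the Plücker polynomial ring and, for τ ∈ I(d,n), J(τ) ⊆ S is the ideal of polynomials
vanishing at the d × d row-minors of every n × d matrix over K whose minors on rows φ ≰ τ are zero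
(the homogeneous ideal of the Schubert variety X(τ) ⊆ G(d,n)). Let τ_1, …, τ_r ∈ I(d,n) and let J =
⋂_i J(τ_i) be the homogeneous ideal of the union ⋃_i X(τ_i). Then the classes in S/J of the
monomials X_{θ_1} ⋯ X_{θ_m} (m ≥ 0) along chains θ_1 ≥ ⋯ ≥ θ_m all of whose members lie below some
τ_i are linearly independent over K and span S/J. -/
theorem result (K : Type u) [Field K] [IsAlgClosed K] (d n : ℕ)
    (hd : 0 < d) (hdn : d < n) (r : ℕ) (τs : Fin r → Idx d n) :
    LinearIndependent K (fun c : (Σ m : ℕ, {c : Fin m → Idx d n // Antitone c ∧ ∃ i, ∀ k, c k ≤ τs i}) =>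
        Ideal.Quotient.mk (⨅ i, schubertVanishing K d n (τs i)) (chainMon K c.2.1)) ∧
      Submodule.span K (Set.range fun c : (Σ m : ℕ, {c : Fin m → Idx d n // Antitone c ∧ ∃ i, ∀ k, c k ≤ τs i}) =>
        Ideal.Quotient.mk (⨅ i, schubertVanishing K d n (τs i)) (chainMon K c.2.1)) = ⊤ := by
  open Groth.Agent.Lib.PlSMT in
  classical
  set J : Ideal (PlRing K d n) := ⨅ i, schubertVanishing K d n (τs i) with hJ
  constructor
  · rw [linearIndependent_iff']
    intro s g hsum i₀ hi₀
    set F : PlRing K d n := ∑ j ∈ s, MvPolynomial.monomial (expo j.2.1) (g j) with hF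
    have hFJ : F ∈ J := by
      rw [← Ideal.Quotient.eq_zero_iff_mem]
      rw [← hsum]
      show Ideal.Quotient.mkₐ K J F = ∑ j ∈ s, g j • Ideal.Quotient.mkₐ K J (chainMon K j.2.1)
      rw [hF, map_sum]
      refine Finset.sum_congr rfl fun j _ => ?_
      rw [← map_smul, chainMon_eq_monomial, MvPolynomial.smul_monomial, smul_eq_mul, mul_one]
    have hsupp : ∀ e ∈ F.support, ∃ j ∈ s, e = expo j.2.1 := by
      intro e he
      have hsub := MvPolynomial.support_sum (s := s)
        (f := fun j => MvPolynomial.monomial (expo j.2.1) (g j)) he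
      rw [Finset.mem_biUnion] at hsub
      obtain ⟨j, hj, hje⟩ := hsub
      have := MvPolynomial.support_monomial_subset hje
      rw [Finset.mem_singleton] at this
      exact ⟨j, hj, this⟩
    have hch : ∀ e ∈ F.support, IsChain (· ≤ ·) (e.support : Set (Idx d n)) := by
      intro e he
      obtain ⟨j, -, rfl⟩ := hsupp e he
      exact isChain_expo j.2.2.1
    obtain ⟨i, hi⟩ := i₀.2.2.2
    have hFi : F ∈ schubertVanishing K d n (τs i) := by
      rw [hJ, Ideal.mem_iInf] at hFJ
      exact hFJ i
    have h0 := coeff_eq_zero_of_mem_schubert K hd (τs i) F hFi hch (expo i₀.2.1)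
      (isStdOn_expo i₀.2.2.1 hi).2
    have hinj : ∀ j ∈ s, expo j.2.1 = expo i₀.2.1 → j = i₀ := by
      intro j _ hje
      have h1 := sigma_eq_of_expo_eq j.2.2.1 i₀.2.2.1 hje
      obtain ⟨m, c, hc⟩ := j
      obtain ⟨m', c', hc'⟩ := i₀
      obtain ⟨rfl, h2⟩ := Sigma.mk.inj_iff.1 h1
      have h3 := eq_of_heq h2
      subst h3
      rfl
    rw [hF, MvPolynomial.coeff_sum] at h0
    simp only [MvPolynomial.coeff_monomial] at h0
    rw [Finset.sum_eq_single_of_mem i₀ hi₀] at h0
    · rwa [if_pos rfl] at h0
    · intro j hj hne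
      rw [if_neg]
      exact fun h => hne (hinj j hj h)
  · have hIJ : plIdealTop (d := d) (n := n) K ≤ J :=
      le_iInf fun i => plIdealTop_le_schubertVanishing K (τs i)
    have htop := span_std_eq_top K J hIJ
    rw [eq_top_iff, ← htop]
    apply Submodule.span_le.2
    rintro _ ⟨⟨m, c, hc⟩, rfl⟩
    by_cases hex : ∃ i, ∀ k, c k ≤ τs i
    · exact Submodule.subset_span ⟨⟨m, c, hc, hex⟩, rfl⟩
    · have hmem : chainMon K c ∈ J := by
        rw [hJ, Ideal.mem_iInf]
        intro i
        have : ¬ ∀ k, c k ≤ τs i := fun h => hex ⟨i, h⟩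
        push Not at this
        obtain ⟨k, hk⟩ := this
        exact chainMon_mem_of_X_mem K c _ k (X_mem_schubertVanishing K hk)
      have : Ideal.Quotient.mk J (chainMon K c) = 0 := Ideal.Quotient.eq_zero_iff_mem.2 hmem
      show Ideal.Quotient.mk J (chainMon K c) ∈ _
      rw [this]
      exact Submodule.zero_mem _

end Groth.Agent.S11252
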