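import Groth.Statements.S11253
import Groth.Agent.Lib.PlSMT5
import Groth.Agent.S11250

set_option autoImplicit false
universe u
open W4bk4grassmannian

namespace Groth.Agent.S11253

open W4bk4grassmannian in
/-- Intersections of Schubert varieties are reduced: let K be an algebraically closed field, 0 < d < n,
and I(d,n) the strictly increasing maps Fin d → Fin n ordered entrywise; S = K[X_θ : θ ∈ I(d,n)] is
the Plücker polynomial ring and, for τ ∈ I(d,n), J(τ) ⊆ S is the ideal of polynomials vanishing at
the d × d row-minors of every n × d matrix over K whose minors on rows φ ≰ τ are zero (the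
homogeneous ideal of the Schubert variety X(τ) ⊆ G(d,n)). Then for all w₁, w₂ ∈ I(d,n) the ideal
J(w₁) + J(w₂) of S is radical. -/
theorem result (K : Type u) [Field K] [IsAlgClosed K] (d n : ℕ)
    (hd : 0 < d) (hdn : d < n) (w₁ w₂ : Idx d n) :
    (schubertVanishing K d n w₁ ⊔ schubertVanishing K d n w₂).IsRadical := by
  open Groth.Agent.Lib.PlSMT in
  have hinf1 : W4bk4grassmannian.inf w₁ w₂ ≤ w₁ := fun t => min_le_left _ _
  have hinf2 : W4bk4grassmannian.inf w₁ w₂ ≤ w₂ := fun t => min_le_right _ _
  have heq : schubertVanishing K d n w₁ ⊔ schubertVanishing K d n w₂ =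
      schubertVanishing K d n (W4bk4grassmannian.inf w₁ w₂) := by
    apply le_antisymm
    · exact sup_le (schubertVanishing_mono K hinf1) (schubertVanishing_mono K hinf2)
    · rw [← Groth.Agent.S11250.result K d n hd hdn (W4bk4grassmannian.inf w₁ w₂)]
      unfold plIdeal
      rw [Ideal.span_le]
      rintro f (⟨i, j, r, hp, rfl⟩ | ⟨φ, hφ, rfl⟩)
      · exact Ideal.mem_sup_left
          (plIdealTop_le_schubertVanishing K w₁ (shuffleRel_mem_plIdealTop K hp))
      · by_cases h1 : φ ≤ w₁
        · have h2 : ¬ φ ≤ w₂ := fun h2 => hφ (fun t => le_min (h1 t) (h2 t))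
          exact Ideal.mem_sup_right (X_mem_schubertVanishing K h2)
        · exact Ideal.mem_sup_left (X_mem_schubertVanishing K h1)
  rw [heq]
  intro f hf
  obtain ⟨k, hk⟩ := hf
  unfold schubertVanishing at hk ⊢
  rw [Ideal.mem_iInf] at hk ⊢
  intro A
  have hkA := hk A
  rw [Ideal.mem_iInf] at hkA ⊢
  intro hA
  have := hkA hA
  rw [RingHom.mem_ker] at this ⊢
  rw [map_pow] at this
  exact pow_eq_zero_iff (n := k) (by
    rintro rfl
    rw [pow_zero] at this
    exact one_ne_zero this) |>.1 this

end Groth.Agent.S11253
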