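import Groth.Statements.S11257
import Mathlib

set_option autoImplicit false
universe u
open W4bk4grassmannian

namespace Groth.Agent.S11257

open RingTheory.Sequence Function in
/-- Lemma L: for a short exact sequence `0 → M' → M → M'' → 0`, if `rs` is weakly regular on `M`
and `rs.dropLast` is weakly regular on `M''`, then `rs` is weakly regular on `M'`. -/
theorem isWeaklyRegular_of_exact {R : Type*} [CommRing R] (rs : List R)
    {M' M M'' : Type*} [AddCommGroup M'] [Module R M'] [AddCommGroup M] [Module R M]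
    [AddCommGroup M''] [Module R M'']
    (i : M' →ₗ[R] M) (p : M →ₗ[R] M'') (hi : Injective i) (hex : Exact i p)
    (hp : Surjective p)
    (hM : IsWeaklyRegular M rs) (hM'' : IsWeaklyRegular M'' rs.dropLast) :
    IsWeaklyRegular M' rs := by
  induction rs generalizing M' M M'' with
  | nil => exact IsWeaklyRegular.nil R M'
  | cons r rs ih =>
    rw [isWeaklyRegular_cons_iff] at hM ⊢
    refine ⟨IsSMulRegular.of_injective i hi hM.1, ?_⟩
    rcases rs with _ | ⟨r', rs'⟩
    · exact IsWeaklyRegular.nil R _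
    · rw [List.dropLast_cons_cons, isWeaklyRegular_cons_iff] at hM''
      have hinj : Injective (QuotSMulTop.map r i) := by
        have h0 : Exact (0 : PUnit →ₗ[R] M') i :=
          (LinearMap.exact_zero_iff_injective PUnit i).mpr hi
        have h1 := QuotSMulTop.map_first_exact_on_four_term_exact_of_isSMulRegular_last
          h0 hex hM''.1
        rw [map_zero] at h1
        exact (LinearMap.exact_zero_iff_injective _ _).mp h1
      exact ih (QuotSMulTop.map r i) (QuotSMulTop.map r p) hinj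
        (QuotSMulTop.map_exact r hex hp) (QuotSMulTop.map_surjective r hp) hM.2 hM''.2

open RingTheory.Sequence in
/-- weak regularity on a product -/
theorem isWeaklyRegular_prod {R : Type*} [CommRing R] (rs : List R)
    {M N : Type*} [AddCommGroup M] [Module R M] [AddCommGroup N] [Module R N]
    (hM : IsWeaklyRegular M rs) (hN : IsWeaklyRegular N rs) :
    IsWeaklyRegular (M × N) rs := by
  constructor
  intro i h
  rw [isSMulRegular_quotient_iff_mem_of_smul_mem]
  rintro ⟨m, n⟩ hmn
  have hm : rs[i] • m ∈ (Ideal.ofList (rs.take i) • ⊤ : Submodule R M) :=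
    Submodule.smul_top_le_comap_smul_top _ (LinearMap.fst R M N) hmn
  have hn : rs[i] • n ∈ (Ideal.ofList (rs.take i) • ⊤ : Submodule R N) :=
    Submodule.smul_top_le_comap_smul_top _ (LinearMap.snd R M N) hmn
  have hm' := mem_of_isSMulRegular_quotient_of_smul_mem (hM.regular_mod_prev i h) hm
  have hn' := mem_of_isSMulRegular_quotient_of_smul_mem (hN.regular_mod_prev i h) hn
  have h1 : ((m, 0) : M × N) ∈ (Ideal.ofList (rs.take i) • ⊤ : Submodule R (M × N)) :=
    Submodule.smul_top_le_comap_smul_top _ (LinearMap.inl R M N) hm'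
  have h2 : ((0, n) : M × N) ∈ (Ideal.ofList (rs.take i) • ⊤ : Submodule R (M × N)) :=
    Submodule.smul_top_le_comap_smul_top _ (LinearMap.inr R M N) hn'
  have : ((m, n) : M × N) = (m, 0) + (0, n) := by simp
  rw [this]
  exact Submodule.add_mem _ h1 h2

/-- Let A be a Noetherian local integral domain with maximal ideal m, I and J ideals of A, d ≥ 1, and
f_1, …, f_d ∈ m. Assume depth A/(I+J) ≥ d - 1, depth A/I ≥ d and depth A/J ≥ d (depths of the
quotients as A-modules), that f_1, …, f_d is a regular sequence on A/I and on A/J, and that f_1, …,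
f_{d-1} is a regular sequence on A/(I+J). Then f_1, …, f_d is a regular sequence on A/(I ∩ J). -/
theorem result (A : Type u) [CommRing A] [IsDomain A]
    [IsNoetherianRing A] [IsLocalRing A] (I J : Ideal A) (d : ℕ) (hd : 0 < d) (f : Fin d → A)
    (hf : ∀ k, f k ∈ IsLocalRing.maximalIdeal A)
    (hIJd : ((d - 1 : ℕ) : ℕ∞) ≤ LocCoh.depth A (A ⧸ (I ⊔ J)))
    (hId : (d : ℕ∞) ≤ LocCoh.depth A (A ⧸ I)) (hJd : (d : ℕ∞) ≤ LocCoh.depth A (A ⧸ J))
    (hI : RingTheory.Sequence.IsRegular (A ⧸ I) (List.ofFn f))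
    (hJ : RingTheory.Sequence.IsRegular (A ⧸ J) (List.ofFn f))
    (hIJ : RingTheory.Sequence.IsRegular (A ⧸ (I ⊔ J)) ((List.ofFn f).take (d - 1))) :
    RingTheory.Sequence.IsRegular (A ⧸ (I ⊓ J)) (List.ofFn f) := by
  classical
  -- the maps
  let i : (A ⧸ (I ⊓ J)) →ₗ[A] (A ⧸ I) × (A ⧸ J) :=
    LinearMap.prod (Ideal.Quotient.factorₐ A (inf_le_left : I ⊓ J ≤ I)).toLinearMap
      (Ideal.Quotient.factorₐ A (inf_le_right : I ⊓ J ≤ J)).toLinearMap
  let p : (A ⧸ I) × (A ⧸ J) →ₗ[A] (A ⧸ (I ⊔ J)) :=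
    (Ideal.Quotient.factorₐ A (le_sup_left : I ≤ I ⊔ J)).toLinearMap ∘ₗ LinearMap.fst A _ _ -
      (Ideal.Quotient.factorₐ A (le_sup_right : J ≤ I ⊔ J)).toLinearMap ∘ₗ LinearMap.snd A _ _
  have hi : Function.Injective i := by
    rw [injective_iff_map_eq_zero]
    intro x hx
    obtain ⟨a, rfl⟩ := Ideal.Quotient.mk_surjective x
    have h1 : (Ideal.Quotient.mk I a) = 0 := congrArg Prod.fst hx
    have h2 : (Ideal.Quotient.mk J a) = 0 := congrArg Prod.snd hx
    rw [Ideal.Quotient.eq_zero_iff_mem] at h1 h2 ⊢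
    exact ⟨h1, h2⟩
  have hp : Function.Surjective p := by
    intro z
    obtain ⟨a, rfl⟩ := Ideal.Quotient.mk_surjective z
    refine ⟨(Ideal.Quotient.mk I a, 0), ?_⟩
    simp [p]
  have hex : Function.Exact i p := by
    intro z
    constructor
    · intro hz
      obtain ⟨x, y⟩ := z
      obtain ⟨a, rfl⟩ := Ideal.Quotient.mk_surjective x
      obtain ⟨b, rfl⟩ := Ideal.Quotient.mk_surjective y
      have h1 : Ideal.Quotient.mk (I ⊔ J) a - Ideal.Quotient.mk (I ⊔ J) b = 0 := hz
      rw [← map_sub, Ideal.Quotient.eq_zero_iff_mem, Submodule.mem_sup] at h1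
      obtain ⟨u, hu, v, hv, huv⟩ := h1
      refine ⟨Ideal.Quotient.mk (I ⊓ J) (a - u), ?_⟩
      refine Prod.ext ?_ ?_
      · show Ideal.Quotient.mk I (a - u) = Ideal.Quotient.mk I a
        rw [Ideal.Quotient.eq]
        simpa using I.neg_mem hu
      · show Ideal.Quotient.mk J (a - u) = Ideal.Quotient.mk J b
        rw [Ideal.Quotient.eq]
        have : a - u - b = v := by linear_combination -huv
        rw [this]; exact hv
    · rintro ⟨x, rfl⟩
      obtain ⟨a, rfl⟩ := Ideal.Quotient.mk_surjective x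
      show Ideal.Quotient.mk (I ⊔ J) a - Ideal.Quotient.mk (I ⊔ J) a = 0
      exact sub_self _
  have hlen : (List.ofFn f).length = d := List.length_ofFn
  have hdrop : (List.ofFn f).dropLast = (List.ofFn f).take (d - 1) := by
    rw [List.dropLast_eq_take, hlen]
  have hprod := isWeaklyRegular_prod (List.ofFn f) hI.toIsWeaklyRegular hJ.toIsWeaklyRegular
  have hW := isWeaklyRegular_of_exact (List.ofFn f) i p hi hex hp hprod
    (hdrop ▸ hIJ.toIsWeaklyRegular)
  have hnt : Nontrivial (A ⧸ (I ⊓ J)) := by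
    have h1 : Nontrivial (A ⧸ I) := hI.nontrivial
    rw [Ideal.Quotient.nontrivial_iff] at h1 ⊢
    intro h
    apply h1
    rw [eq_top_iff, ← h]
    exact inf_le_left
  apply RingTheory.Sequence.IsRegular.of_isWeaklyRegular_of_mem_maximalIdeal _ _ hW
  intro r hr
  rw [List.mem_ofFn] at hr
  obtain ⟨k, rfl⟩ := hr
  exact hf k

end Groth.Agent.S11257
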