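import Groth.Statements.S1126
import Mathlib.AlgebraicGeometry.Morphisms.FlatDescent

set_option autoImplicit false
open CategoryTheory CategoryTheory.Limits AlgebraicGeometry Opposite
universe u
open Desc

namespace Groth.Agent.S1126

open MorphismProperty in
theorem isUnivHomeo_iff {X Y : Scheme.{u}} (f : X ⟶ Y) :
    FlatMor.IsUnivHomeo f ↔ UniversallyOpen f ∧ UniversallyInjective f ∧ Surjective f := by
  constructor
  · intro h
    refine ⟨⟨fun X' Y' i₁ i₂ f' hf => (h i₁ i₂ f' hf).isOpenMap⟩,
      ⟨fun X' Y' i₁ i₂ f' hf => (h i₁ i₂ f' hf).injective⟩, ⟨?_⟩⟩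
    exact (h (𝟙 _) (𝟙 _) f IsPullback.of_id_snd).surjective
  · rintro ⟨h₁, h₂, h₃⟩ X' Y' i₁ i₂ f' hf
    have h₃' : Surjective f' := MorphismProperty.of_isPullback hf.flip h₃
    exact ⟨f'.continuous, h₁.1 i₁ i₂ f' hf, h₂.1 i₁ i₂ f' hf, h₃'.surj⟩

/-- If the base change of a morphism along a quasi-compact flat surjective morphism to its target is a
universal homeomorphism, then the morphism is a universal homeomorphism. (Stated for a single
quasi-compact flat surjective base change; combined with Zariski-locality on the target this gives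
the fpqc-local form.) -/
theorem result :
    MorphismProperty.DescendsAlong (FlatMor.IsUnivHomeo.{u})
      (@Surjective ⊓ @Flat ⊓ @QuasiCompact : MorphismProperty Scheme.{u}) := by
  have : (FlatMor.IsUnivHomeo.{u}).RespectsIso :=
    inferInstanceAs (MorphismProperty.universally _).RespectsIso
  apply MorphismProperty.DescendsAlong.mk'
  intro X Y Z f g _ hf hg
  rw [isUnivHomeo_iff] at hg ⊢
  obtain ⟨h₁, h₂, h₃⟩ := hg
  exact ⟨MorphismProperty.of_pullback_fst_of_descendsAlong (P := @UniversallyOpen)
      (Q := @Surjective ⊓ @Flat ⊓ @QuasiCompact) (f := f) hf h₁,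
    MorphismProperty.of_pullback_fst_of_descendsAlong (P := @UniversallyInjective)
      (Q := @Surjective ⊓ @Flat ⊓ @QuasiCompact) (f := f) hf h₂,
    MorphismProperty.of_pullback_fst_of_descendsAlong (P := @Surjective)
      (Q := @Surjective ⊓ @Flat ⊓ @QuasiCompact) (f := f) hf h₃⟩

end Groth.Agent.S1126
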