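import Groth.Statements.S11262
import Groth.Agent.Lib.SRBasis

set_option autoImplicit false
universe u v
open W4bk4grassmannian

namespace Groth.Agent.S11262

open Finset MvPolynomial Groth.Agent.Lib.SRBasis

section Count

variable {L : Type v} [DecidableEq L]

/-- The indicator exponent vector of a finite set. -/
noncomputable def ind (C : Finset L) : L →₀ ℕ := ∑ a ∈ C, Finsupp.single a 1

lemma ind_apply (C : Finset L) (x : L) : ind C x = if x ∈ C then 1 else 0 := by
  unfold ind
  rw [Finsupp.finsetSum_apply]
  simp only [Finsupp.single_apply]
  rw [Finset.sum_ite_eq' C x]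

/-- Number of exponent vectors with support exactly `C` and total degree `m`. -/
lemma card_support_eq (C : Finset L) (hC : C.Nonempty) (m : ℕ) (hm1 : 1 ≤ m) (S : Finset L)
    (hCS : C ⊆ S) :
    ((S.finsuppAntidiag m).filter fun e => e.support = C).card = Nat.choose (m - 1) (C.card - 1) := by
  classical
  have hc1 : 1 ≤ C.card := Finset.card_pos.2 hC
  by_cases hm : C.card ≤ m
  · have hbij : ((S.finsuppAntidiag m).filter fun e => e.support = C) =
        (C.finsuppAntidiag (m - C.card)).image (fun e' => e' + ind C) := by
      ext e
      simp only [Finset.mem_filter, Finset.mem_finsuppAntidiag, Finset.mem_image]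
      constructor
      · rintro ⟨⟨hsum, hsub⟩, hsupp⟩
        have hge : ∀ x, ind C x ≤ e x := by
          intro x
          rw [ind_apply]
          split_ifs with hx
          · rw [← hsupp, Finsupp.mem_support_iff] at hx
            omega
          · exact Nat.zero_le _
        have hadd : (e - ind C) + ind C = e := by
          refine Finsupp.ext fun x => ?_
          simp only [Finsupp.coe_add, Pi.add_apply, Finsupp.coe_tsub, Pi.sub_apply]
          have := hge x
          omega
        refine ⟨e - ind C, ⟨?_, ?_⟩, hadd⟩
        · have h1 : C.sum e = m := by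
            rw [← hsum]
            apply Finset.sum_subset hCS
            intro x _ hx
            rw [← hsupp, Finsupp.mem_support_iff, not_not] at hx
            exact hx
          have h2 : C.sum (e - ind C) + C.sum (ind C) = C.sum e := by
            rw [← Finset.sum_add_distrib]
            refine Finset.sum_congr rfl fun x _ => ?_
            have := congrArg (fun f => f x) hadd
            simpa using this
          have h3 : C.sum (ind C) = C.card := by
            rw [Finset.card_eq_sum_ones]
            refine Finset.sum_congr rfl fun x hx => ?_
            rw [ind_apply, if_pos hx]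
          have : C.sum (⇑(e - ind C)) = m - C.card := by omega
          exact this
        · intro x hx
          rw [Finsupp.mem_support_iff] at hx
          rw [← hsupp, Finsupp.mem_support_iff]
          intro h0
          apply hx
          simp only [Finsupp.coe_tsub, Pi.sub_apply, h0]
          omega
      · rintro ⟨e', ⟨hsum', hsub'⟩, rfl⟩
        have hsupp : (e' + ind C).support = C := by
          ext x
          rw [Finsupp.mem_support_iff]
          simp only [Finsupp.coe_add, Pi.add_apply, ind_apply]
          constructor
          · intro h
            by_contra hx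
            rw [if_neg hx, add_zero] at h
            exact hx (hsub' (Finsupp.mem_support_iff.2 h))
          · intro hx
            rw [if_pos hx]
            omega
        refine ⟨⟨?_, ?_⟩, hsupp⟩
        · have h1 : S.sum (⇑(e' + ind C)) = C.sum (⇑(e' + ind C)) := by
            symm
            apply Finset.sum_subset hCS
            intro x _ hx
            rw [← hsupp, Finsupp.mem_support_iff, not_not] at hx
            exact hx
          rw [h1]
          simp only [Finsupp.coe_add, Pi.add_apply]
          rw [Finset.sum_add_distrib, hsum']
          have h3 : C.sum (ind C) = C.card := by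
            rw [Finset.card_eq_sum_ones]
            refine Finset.sum_congr rfl fun x hx => ?_
            rw [ind_apply, if_pos hx]
          rw [h3]
          omega
        · rw [hsupp]; exact hCS
    rw [hbij, Finset.card_image_of_injective _ (fun a b h => add_right_cancel h),
      Finset.card_finsuppAntidiag_nat_eq_choose]
    have e1 : C.card + (m - C.card) - 1 = m - 1 := by omega
    rw [e1]
    exact Nat.choose_symm_of_eq_add (n := m - 1) (a := m - C.card) (b := C.card - 1) (by omega)
  · rw [not_le] at hm
    have hlt : m - 1 < C.card - 1 := by omega
    rw [Nat.choose_eq_zero_of_lt hlt, Finset.card_eq_zero, Finset.filter_eq_empty_iff]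
    rintro e he hsupp
    rw [Finset.mem_finsuppAntidiag] at he
    have h1 : C.sum e = m := by
      rw [← he.1]
      apply Finset.sum_subset hCS
      intro x _ hx
      rw [← hsupp, Finsupp.mem_support_iff, not_not] at hx
      exact hx
    have h2 : C.card ≤ C.sum e := by
      rw [Finset.card_eq_sum_ones]
      refine Finset.sum_le_sum fun x hx => ?_
      rw [← hsupp, Finsupp.mem_support_iff] at hx
      omega
    omega

end Count

/-- Hilbert function of the Stanley–Reisner ring of a finite distributive lattice: let K be a field, L a
finite distributive lattice, R = K[x_α : α ∈ L], I ⊆ R the ideal generated by the products x_α x_β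
over the incomparable (skew) pairs α, β, and m ≥ 1. Then the image in R/I of the homogeneous
polynomials of degree m has K-dimension equal to the sum, over the nonempty chains C ⊆ L, of the
binomial coefficient (m - 1 choose |C| - 1). (The published statement is that the degree of R/I
equals the number of maximal chains of L; this row states the Hilbert function from which that
degree is read off.) -/
theorem result (K : Type u) [Field K] (L : Type v) [DistribLattice L]
    [Fintype L] (m : ℕ) (hm : 1 ≤ m) :
    Module.finrank K ((MvPolynomial.homogeneousSubmodule L K m).map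
        (Ideal.Quotient.mkₐ K (Ideal.span {f : MvPolynomial L K | ∃ a b : L, ¬ a ≤ b ∧ ¬ b ≤ a ∧
          f = MvPolynomial.X a * MvPolynomial.X b})).toLinearMap) =
      ∑ᶠ C : {C : Finset L // C.Nonempty ∧ IsChain (fun a b : L => a ≤ b) (↑C : Set L)},
        Nat.choose (m - 1) (C.1.card - 1) := by
  classical
  set I := Ideal.span {f : MvPolynomial L K | ∃ a b : L, ¬ a ≤ b ∧ ¬ b ≤ a ∧
          f = MvPolynomial.X a * MvPolynomial.X b} with hI
  have hIsr : I = srI (σ := L) K := rfl
  -- the index set of the basis
  set Mon : Finset (L →₀ ℕ) := ((Finset.univ : Finset L).finsuppAntidiag m).filter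
    fun e => IsChain (· ≤ ·) (e.support : Set L) with hMon
  have hdeg : ∀ e : L →₀ ℕ, e ∈ (Finset.univ : Finset L).finsuppAntidiag m ↔ e.degree = m := by
    intro e
    rw [Finset.mem_finsuppAntidiag, Finsupp.degree_eq_sum]
    simp
  set v : Mon → (MvPolynomial L K ⧸ I) := fun e => Ideal.Quotient.mkₐ K I (monomial e.1 1) with hv
  have hli : LinearIndependent K v := by
    rw [linearIndependent_iff']
    intro s g hsum e₀ he₀
    set F : MvPolynomial L K := ∑ e ∈ s, monomial e.1 (g e) with hF
    have hFI : F ∈ I := by
      rw [← Ideal.Quotient.eq_zero_iff_mem, ← hsum]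
      show Ideal.Quotient.mkₐ K I F = ∑ e ∈ s, g e • Ideal.Quotient.mkₐ K I (monomial e.1 1)
      rw [hF, map_sum]
      refine Finset.sum_congr rfl fun e _ => ?_
      rw [← map_smul, MvPolynomial.smul_monomial, smul_eq_mul, mul_one]
    have hsupp : ∀ e ∈ F.support, IsChain (· ≤ ·) (e.support : Set L) := by
      intro e he
      have hsub := MvPolynomial.support_sum (s := s) (f := fun e => monomial e.1 (g e)) he
      rw [Finset.mem_biUnion] at hsub
      obtain ⟨j, _, hje⟩ := hsub
      have := MvPolynomial.support_monomial_subset hje
      rw [Finset.mem_singleton] at this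
      rw [this]
      exact (Finset.mem_filter.1 j.2).2
    have hF0 : F = 0 := eq_zero_of_mem_srI_of_chain K (hIsr ▸ hFI) hsupp
    have hc : coeff e₀.1 F = g e₀ := by
      rw [hF, MvPolynomial.coeff_sum]
      simp only [MvPolynomial.coeff_monomial]
      rw [Finset.sum_eq_single_of_mem e₀ he₀]
      · rw [if_pos rfl]
      · intro j _ hne
        rw [if_neg]
        exact fun h => hne (Subtype.ext h)
    rw [hF0, MvPolynomial.coeff_zero] at hc
    exact hc.symm
  have hspan : (MvPolynomial.homogeneousSubmodule L K m).map
        (Ideal.Quotient.mkₐ K I).toLinearMap = Submodule.span K (Set.range v) := by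
    apply le_antisymm
    · rintro _ ⟨f, hf, rfl⟩
      rw [SetLike.mem_coe, MvPolynomial.mem_homogeneousSubmodule] at hf
      show Ideal.Quotient.mkₐ K I f ∈ _
      have hfs := f.as_sum
      rw [hfs, map_sum]
      refine Submodule.sum_mem _ fun e he => ?_
      have hde : e.degree = m := by
        by_contra hne
        exact (MvPolynomial.mem_support_iff.1 he) (hf.coeff_eq_zero hne)
      by_cases hch : IsChain (· ≤ ·) (e.support : Set L)
      · have hmem : e ∈ Mon := Finset.mem_filter.2 ⟨(hdeg e).2 hde, hch⟩
        have : Ideal.Quotient.mkₐ K I (monomial e (coeff e f)) = coeff e f • v ⟨e, hmem⟩ := by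
          rw [hv]
          simp only
          rw [← map_smul, MvPolynomial.smul_monomial, smul_eq_mul, mul_one]
        rw [this]
        exact Submodule.smul_mem _ _ (Submodule.subset_span ⟨_, rfl⟩)
      · have : Ideal.Quotient.mkₐ K I (monomial e (coeff e f)) = 0 :=
          Ideal.Quotient.eq_zero_iff_mem.2 (hIsr ▸ monomial_mem_srI K hch _)
        rw [this]
        exact Submodule.zero_mem _
    · rw [Submodule.span_le]
      rintro _ ⟨e, rfl⟩
      refine ⟨monomial e.1 1, ?_, rfl⟩
      rw [SetLike.mem_coe, MvPolynomial.mem_homogeneousSubmodule]
      exact MvPolynomial.isHomogeneous_monomial _ ((hdeg e.1).1 (Finset.mem_filter.1 e.2).1)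
  rw [hspan, finrank_span_eq_card hli, Fintype.card_coe]
  -- the count
  set Chains : Finset (Finset L) := (Finset.univ : Finset (Finset L)).filter
    fun C => C.Nonempty ∧ IsChain (fun a b : L => a ≤ b) (↑C : Set L) with hChains
  have hmaps : ∀ e ∈ Mon, e.support ∈ Chains := by
    intro e he
    rw [hMon, Finset.mem_filter] at he
    rw [hChains, Finset.mem_filter]
    refine ⟨Finset.mem_univ _, ?_, he.2⟩
    rw [Finsupp.support_nonempty_iff]
    rintro rfl
    have := (hdeg 0).1 he.1
    simp at this
    omega
  rw [Finset.card_eq_sum_card_fiberwise hmaps]
  have hfib : ∀ C ∈ Chains, (Mon.filter fun e => e.support = C).card =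
      Nat.choose (m - 1) (C.card - 1) := by
    intro C hC
    rw [hChains, Finset.mem_filter] at hC
    have : (Mon.filter fun e => e.support = C) =
        (((Finset.univ : Finset L).finsuppAntidiag m).filter fun e => e.support = C) := by
      ext e
      simp only [hMon, Finset.mem_filter]
      constructor
      · rintro ⟨⟨h1, -⟩, h3⟩; exact ⟨h1, h3⟩
      · rintro ⟨h1, h3⟩; exact ⟨⟨h1, h3 ▸ hC.2.2⟩, h3⟩
    rw [this]
    exact card_support_eq C hC.2.1 m hm Finset.univ (Finset.subset_univ _)
  rw [Finset.sum_congr rfl hfib]
  rw [finsum_eq_sum_of_fintype]
  exact Finset.sum_subtype Chains (fun C => by rw [hChains, Finset.mem_filter]; simp)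
    (fun C => Nat.choose (m - 1) (C.card - 1))

end Groth.Agent.S11262
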