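import Groth.Statements.S11269
import Groth.Agent.Lib.H8CM9

set_option autoImplicit false
universe u
open W4bk4grassmannian

namespace Groth.Agent.S11269

/-- Let R be a Noetherian integral domain. Then R satisfies Serre's condition (S_2) (depth R_P ≥ min(2,
dim R_P) for all primes P) if and only if, for every nonzero a ∈ R, every associated prime of the
R-module R/(a) has height one. -/
theorem result (R : Type u) [CommRing R] [IsDomain R]
    [IsNoetherianRing R] :
    LocCoh.HasSk 2 R R ↔
      ∀ a : R, a ≠ 0 → ∀ P : Ideal R, P ∈ associatedPrimes R (R ⧸ Ideal.span {a}) → P.height = 1 := by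
  rw [Groth.Agent.Lib.H8CM.hasSk_self_iff]
  have hregOf : ∀ a : R, a ≠ 0 → IsSMulRegular R a := fun a ha ↦
    (IsRegular.of_ne_zero ha).left.isSMulRegular
  constructor
  · intro h a ha P hP
    have hPprime : P.IsPrime := hP.isPrime
    have haP : a ∈ P := by
      obtain ⟨_, x, hx⟩ := isAssociatedPrime_iff.mp hP
      rw [hx, Submodule.mem_colon_singleton, Submodule.mem_bot]
      obtain ⟨y, rfl⟩ := Ideal.Quotient.mk_surjective x
      have : a • (Ideal.Quotient.mk (Ideal.span {a})) y =
          (Ideal.Quotient.mk (Ideal.span {a})) (a * y) := rfl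
      rw [this, Ideal.Quotient.eq_zero_iff_mem]
      exact Ideal.mul_mem_right _ _ (Ideal.subset_span rfl)
    have h1 := (Groth.Agent.Lib.H8CM.depth_localization_of_mem_associatedPrimes P haP
      (hregOf a ha)).1 hP
    have h2 := h P
    rw [h1] at h2
    have h3 : P.height ≤ 1 := by
      rcases min_le_iff.mp h2 with h | h
      · exfalso
        have : ((2 : ℕ) : ℕ∞) ≤ ((1 : ℕ) : ℕ∞) := by simp at h
        have : (2 : ℕ) ≤ 1 := by exact_mod_cast this
        omega
      · exact h
    have h4 : P.height ≠ 0 := by
      rw [Ne, Ideal.height_eq_zero_iff_eq_bot]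
      rintro rfl
      exact ha (by simpa using haP)
    exact le_antisymm h3 (Order.one_le_iff_ne_zero.mpr h4)
  · intro h P _
    by_cases hP : P = ⊥
    · subst hP
      rw [Ideal.height_bot]
      simp
    · obtain ⟨a, haP, ha⟩ := Submodule.exists_mem_ne_zero_of_ne_bot hP
      obtain ⟨h1, h2⟩ := Groth.Agent.Lib.H8CM.depth_localization_of_mem_associatedPrimes P haP
        (hregOf a ha)
      by_cases hass : P ∈ associatedPrimes R (R ⧸ (show Submodule R R from Ideal.span {a}))
      · rw [h1 hass, h a ha P hass]
        simp
      · exact le_trans (min_le_left _ _) (by simpa using h2 hass)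

end Groth.Agent.S11269
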