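import Groth.Statements.S11271
import Mathlib.LinearAlgebra.Matrix.SchurComplement
import Mathlib.LinearAlgebra.Matrix.ToLin
import Mathlib.LinearAlgebra.Matrix.SpecialLinearGroup
import Mathlib.FieldTheory.IsAlgClosed.Basic
import Mathlib.Algebra.Polynomial.Roots

set_option autoImplicit false
universe u
open W4bk4grassmannian

namespace Groth.Agent.S11271

open Matrix in
/-- A rank-one perturbation of a scalar matrix with determinant one that scales `A`. -/
lemma exists_sl_scale {K : Type u} [Field K] {d n : ℕ} (A : Matrix (Fin n) (Fin d) K)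
    (v : Fin d → K) (hv : v ≠ 0) (hAv : A *ᵥ v = 0) (t : K) (ht : t ≠ 0) :
    ∃ g : Matrix.SpecialLinearGroup (Fin d) K, A * (g : Matrix (Fin d) (Fin d) K) = t • A := by
  classical
  obtain ⟨j₀, hj₀⟩ : ∃ j, v j ≠ 0 := by
    by_contra! H
    exact hv (funext H)
  -- c = t^{-(d-1)} - t
  set c : K := (t⁻¹) ^ (d - 1) - t with hc
  have hd : 0 < d := Fin.pos j₀
  let w : Fin d → K := Pi.single j₀ (v j₀)⁻¹
  have hwv : w ⬝ᵥ v = 1 := by
    simp [w, dotProduct, Pi.single_apply, hj₀]
  let L : Matrix (Fin d) (Fin d) K :=
    t • (1 + replicateCol Unit ((c / t) • v) * replicateRow Unit w)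
  have hdet : L.det = 1 := by
    simp only [L]
    rw [Matrix.det_smul, Matrix.det_one_add_replicateCol_mul_replicateRow, dotProduct_smul, hwv,
      Fintype.card_fin]
    have : t ^ d = t ^ (d - 1) * t := by
      rw [← pow_succ, Nat.sub_add_cancel hd]
    rw [this, smul_eq_mul, _root_.mul_one]
    have h2 : t * (1 + c / t) = t + c := by field_simp
    rw [_root_.mul_assoc, h2, hc]
    rw [add_sub_cancel, ← mul_pow, mul_inv_cancel₀ ht, one_pow]
  refine ⟨⟨L, hdet⟩, ?_⟩
  show A * L = t • A
  simp only [L]
  rw [Matrix.mul_smul, Matrix.mul_add, Matrix.mul_one, ← Matrix.mul_assoc]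
  have h3 : A * replicateCol Unit ((c / t) • v) = 0 := by
    ext i j
    simp only [Matrix.mul_apply, replicateCol_apply, Pi.smul_apply, smul_eq_mul, Matrix.zero_apply]
    have := congrFun hAv i
    simp only [mulVec, dotProduct, Pi.zero_apply] at this
    calc ∑ x, A i x * (c / t * v x) = (c / t) * ∑ x, A i x * v x := by
          rw [Finset.mul_sum]; apply Finset.sum_congr rfl; intro x _; ring
      _ = 0 := by rw [this, mul_zero]
  rw [h3, Matrix.zero_mul, add_zero]

open W4bk4grassmannian in
/-- Semistable matrices are the matrices of full rank: let K be an algebraically closed field, 0 < d <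
n, and let SL_d(K) act on n × d matrices by right multiplication; a matrix A is semistable when the
zero matrix is not in the Zariski closure of its orbit, i.e. when some polynomial in the entries
vanishes at A g for every g ∈ SL_d(K) but not at 0. Then A is semistable if and only if its columns
are linearly independent. -/
theorem result (K : Type u) [Field K]
    [IsAlgClosed K] (d n : ℕ) (hd : 0 < d) (hdn : d < n) (A : Matrix (Fin n) (Fin d) K) :
    LinearIndependent K A.transpose ↔
      ∃ f : MatRing K d n, (∀ g : Matrix.SpecialLinearGroup (Fin d) K,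
        MvPolynomial.eval (fun p : Fin n × Fin d => (A * (g : Matrix (Fin d) (Fin d) K)) p.1 p.2) f = 0) ∧
        MvPolynomial.eval (fun _ : Fin n × Fin d => (0 : K)) f ≠ 0 := by
  classical
  constructor
  · intro hli
    have hinj : Function.Injective A.mulVec := Matrix.mulVec_injective_iff.2 hli
    have hker : LinearMap.ker A.mulVecLin = ⊥ := by
      rw [LinearMap.ker_eq_bot]
      exact hinj
    obtain ⟨g', hg'⟩ := LinearMap.exists_leftInverse_of_injective A.mulVecLin hker
    let B : Matrix (Fin d) (Fin n) K := LinearMap.toMatrix' g'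
    have hBA : B * A = 1 := by
      have h1 : Matrix.toLin' (B * A) = LinearMap.id := by
        rw [Matrix.toLin'_mul, Matrix.toLin'_toMatrix']
        exact hg'
      have h2 := congrArg LinearMap.toMatrix' h1
      rwa [LinearMap.toMatrix'_toLin', LinearMap.toMatrix'_id] at h2
    let X : Matrix (Fin n) (Fin d) (MatRing K d n) := Matrix.of fun i j => MvPolynomial.X (i, j)
    let f : MatRing K d n := Matrix.det (B.map MvPolynomial.C * X) - 1
    have heval : ∀ ρ : Fin n × Fin d → K, MvPolynomial.eval ρ f =
        Matrix.det (B * Matrix.of fun i j => ρ (i, j)) - 1 := by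
      intro ρ
      simp only [f, map_sub, map_one]
      rw [RingHom.map_det]
      congr 2
      ext i j
      simp [Matrix.mul_apply, X]
    refine ⟨f, ?_, ?_⟩
    · intro g
      rw [heval]
      have : (Matrix.of fun i j => (A * (g : Matrix (Fin d) (Fin d) K)) i j) =
          A * (g : Matrix (Fin d) (Fin d) K) := rfl
      rw [this, ← Matrix.mul_assoc, hBA, Matrix.one_mul, g.2, sub_self]
    · rw [heval]
      have : (Matrix.of fun (i : Fin n) (j : Fin d) => (0 : K)) = 0 := rfl
      rw [this, Matrix.mul_zero]
      have : Nonempty (Fin d) := ⟨⟨0, hd⟩⟩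
      rw [Matrix.det_zero]
      simp
  · rintro ⟨f, hf, hf0⟩
    by_contra hli
    apply hf0
    have hninj : ¬ Function.Injective A.mulVecLin := by
      intro h
      exact hli (Matrix.mulVec_injective_iff.1 h)
    rw [injective_iff_map_eq_zero] at hninj
    push Not at hninj
    obtain ⟨v, hAv, hv⟩ := hninj
    have hAv' : A.mulVec v = 0 := hAv
    -- the one-variable polynomial t ↦ f (t A)
    let q : Polynomial K := MvPolynomial.aeval
      (fun p : Fin n × Fin d => Polynomial.C (A p.1 p.2) * Polynomial.X) f
    have hq : ∀ t : K, q.eval t = MvPolynomial.eval (fun p : Fin n × Fin d => t * A p.1 p.2) f := by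
      intro t
      have h1 : (Polynomial.evalRingHom t).comp
          (MvPolynomial.aeval (fun p : Fin n × Fin d =>
            Polynomial.C (A p.1 p.2) * Polynomial.X)).toRingHom =
          MvPolynomial.eval (fun p : Fin n × Fin d => t * A p.1 p.2) := by
        apply MvPolynomial.ringHom_ext
        · intro r
          simp
        · intro p
          simp only [RingHom.comp_apply, AlgHom.toRingHom_eq_coe, RingHom.coe_coe,
            MvPolynomial.aeval_X, Polynomial.coe_evalRingHom, Polynomial.eval_mul,
            Polynomial.eval_C, Polynomial.eval_X, MvPolynomial.eval_X]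
          ring
      exact congrArg (fun φ : MatRing K d n →+* K => φ f) h1
    have hroots : ∀ t : K, t ≠ 0 → q.eval t = 0 := by
      intro t ht
      obtain ⟨g, hg⟩ := exists_sl_scale A v hv hAv' t ht
      rw [hq]
      have := hf g
      rw [hg] at this
      simpa using this
    have hq0 : q = 0 := by
      apply Polynomial.eq_zero_of_infinite_isRoot
      have : {x : K | x ≠ 0} ⊆ {x | q.IsRoot x} := fun t ht => hroots t ht
      refine Set.Infinite.mono this ?_
      have : {x : K | x ≠ 0} = ({0} : Set K)ᶜ := by ext; simp
      rw [this]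
      exact (Set.finite_singleton 0).infinite_compl
    have := hq 0
    rw [hq0, Polynomial.eval_zero] at this
    simpa using this.symm

end Groth.Agent.S11271
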