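import Groth.Statements.S11272
import Groth.Agent.Lib.H8CMOpen
import Groth.Agent.Lib.H8Scaling

set_option autoImplicit false
universe u
open W4bk4grassmannian

namespace Groth.Agent.S11272

/-- Cohen–Macaulayness of localizations is transported by ring isomorphisms. -/
theorem isCM_localization_comap {R R' : Type u} [CommRing R] [CommRing R'] (e : R ≃+* R')
    (q : Ideal R') [q.IsPrime] (Q : Ideal R) [Q.IsPrime] (hQ : Q = q.comap e)
    (h : LocCoh.IsCohenMacaulayLocalRing (Localization.AtPrime Q)) :
    LocCoh.IsCohenMacaulayLocalRing (Localization.AtPrime q) := by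
  subst hQ
  let e' : Localization.AtPrime (q.comap e) ≃+* Localization.AtPrime q :=
    IsLocalization.ringEquivOfRingEquiv
      (Localization.AtPrime (q.comap e)) (Localization.AtPrime q) e
      (e.map_primeCompl_comap_eq q)
  exact Groth.Agent.Lib.CMRingEquiv96.isCohenMacaulayLocalRing_of_ringEquiv
    (R := Localization.AtPrime (q.comap e)) (R' := Localization.AtPrime q) e'


/-- A cone is Cohen–Macaulay iff it is so at its vertex: let K be an algebraically closed field, N a
natural number, S = K[x_1, …, x_N] graded by degree, I ⊆ S a proper ideal generated by homogeneous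
polynomials, and m ⊆ S/I the image of the irrelevant ideal (x_1, …, x_N) (the vertex of the cone
Spec S/I), assumed prime. Then S/I is a Cohen–Macaulay ring if and only if the local ring (S/I)_m is
Cohen–Macaulay. -/
theorem result (K : Type u) [Field K] [IsAlgClosed K] (N : ℕ)
    (I : Ideal (MvPolynomial (Fin N) K))
    (hI : ∃ T : Set (MvPolynomial (Fin N) K), (∀ f ∈ T, ∃ k : ℕ, f.IsHomogeneous k) ∧ I = Ideal.span T)
    (hI' : I ≠ ⊤)
    [hm : ((RingHom.ker (MvPolynomial.constantCoeff : MvPolynomial (Fin N) K →+* K)).map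
      (Ideal.Quotient.mk I)).IsPrime] :
    LocCoh.IsCohenMacaulayRing (MvPolynomial (Fin N) K ⧸ I) ↔
      LocCoh.IsCohenMacaulayLocalRing (Localization.AtPrime
        ((RingHom.ker (MvPolynomial.constantCoeff : MvPolynomial (Fin N) K →+* K)).map
          (Ideal.Quotient.mk I))) := by
  classical
  constructor
  · intro h
    exact h.isCohenMacaulayLocalRing_localization _
  · intro hCM
    obtain ⟨T, hT, hIT⟩ := hI
    haveI : IsRegularRing (MvPolynomial (Fin N) K) := inferInstance
    have hopen := Groth.Agent.Lib.H8CMOpen.isOpen_CMLocus_quotient I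
    obtain ⟨J', hJ'⟩ := (PrimeSpectrum.isClosed_iff_zeroLocus_ideal _).mp hopen.isClosed_compl
    refine ⟨fun p hp => ?_⟩
    by_contra hnot
    have hpZ : (⟨p, hp⟩ : PrimeSpectrum (MvPolynomial (Fin N) K ⧸ I)) ∈
        PrimeSpectrum.zeroLocus (J' : Set (MvPolynomial (Fin N) K ⧸ I)) := by
      rw [← hJ']
      exact hnot
    have hJ'm : J' ≤ (RingHom.ker (MvPolynomial.constantCoeff :
        MvPolynomial (Fin N) K →+* K)).map (Ideal.Quotient.mk I) := by
      intro x hx
      obtain ⟨y, rfl⟩ := Ideal.Quotient.mk_surjective x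
      apply Ideal.mem_map_of_mem
      rw [RingHom.mem_ker]
      haveI hPp : (p.comap (Ideal.Quotient.mk I)).IsPrime := Ideal.comap_isPrime _ _
      refine Groth.Agent.Lib.H8Scaling.constantCoeff_eq_zero_of_forall_scale_mem
        (p.comap (Ideal.Quotient.mk I)) y ?_
      intro c hc
      set e := Ideal.quotientEquiv I I
        ((Groth.Agent.Lib.H8Scaling.scaleEquiv c hc :
          MvPolynomial (Fin N) K ≃ₐ[K] MvPolynomial (Fin N) K) :
          MvPolynomial (Fin N) K ≃+* MvPolynomial (Fin N) K)
        (Groth.Agent.Lib.H8Scaling.map_scaleEquiv_eq hT hIT c hc) with he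
      haveI hp' : (p.comap e).IsPrime := Ideal.comap_isPrime _ _
      have hmem : (⟨p.comap e, hp'⟩ : PrimeSpectrum (MvPolynomial (Fin N) K ⧸ I)) ∈
          PrimeSpectrum.zeroLocus (J' : Set (MvPolynomial (Fin N) K ⧸ I)) := by
        rw [← hJ']
        intro hcm
        exact hnot (isCM_localization_comap e p (p.comap e) rfl hcm)
      have h1 : Ideal.Quotient.mk I y ∈ p.comap e := hmem hx
      rw [Ideal.mem_comap, he, Ideal.quotientEquiv_mk] at h1
      exact h1
    have hmZ : (⟨_, hm⟩ : PrimeSpectrum (MvPolynomial (Fin N) K ⧸ I)) ∈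
        PrimeSpectrum.zeroLocus (J' : Set (MvPolynomial (Fin N) K ⧸ I)) := hJ'm
    rw [← hJ'] at hmZ
    exact hmZ hCM

end Groth.Agent.S11272
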