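import Groth.Statements.S11276
import Groth.Agent.Lib.H8GradedCM
import Groth.Agent.Lib.H8DepthLemma

set_option autoImplicit false
universe u v
open W4bk4grassmannian

namespace Groth.Agent.S11276

/-- With the conclusion at the irrelevant ideal: let K be a field, A a commutative Noetherian K-algebra
graded by ℕ with degree-zero part K, I and J homogeneous ideals of A such that A/I and A/J are
Cohen–Macaulay rings of Krull dimension e and A/(I + J) is a Cohen–Macaulay ring of Krull dimension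
e - 1, where e ≥ 1. Let m be the image in A/(I ∩ J) of the irrelevant ideal A_+ (assumed prime; it
is maximal). Then the local ring (A/(I ∩ J))_m is Cohen–Macaulay of Krull dimension e. (The
published lemma concludes that A/(I ∩ J) itself is Cohen–Macaulay of dimension e; this row states
the conclusion at the irrelevant ideal only, from which the global one follows by the graded
local–global principle.) -/
theorem result (K : Type u) [Field K] (A : Type v) [CommRing A]
    [Algebra K A] [IsNoetherianRing A] (𝒜 : ℕ → Submodule K A) [GradedAlgebra 𝒜]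
    (h0 : ∀ a ∈ 𝒜 0, ∃ c : K, algebraMap K A c = a) (I J : Ideal A) (hI : I.IsHomogeneous 𝒜)
    (hJ : J.IsHomogeneous 𝒜) (e : ℕ) (he : 1 ≤ e)
    (hIcm : LocCoh.IsCohenMacaulayRing (A ⧸ I)) (hJcm : LocCoh.IsCohenMacaulayRing (A ⧸ J))
    (hIJcm : LocCoh.IsCohenMacaulayRing (A ⧸ (I ⊔ J)))
    (hIdim : ringKrullDim (A ⧸ I) = (e : WithBot ℕ∞)) (hJdim : ringKrullDim (A ⧸ J) = (e : WithBot ℕ∞))
    (hIJdim : ringKrullDim (A ⧸ (I ⊔ J)) = ((e - 1 : ℕ) : WithBot ℕ∞))
    [hm : ((HomogeneousIdeal.irrelevant 𝒜).toIdeal.map (Ideal.Quotient.mk (I ⊓ J))).IsPrime] :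
    LocCoh.IsCohenMacaulayLocalRing (Localization.AtPrime
        ((HomogeneousIdeal.irrelevant 𝒜).toIdeal.map (Ideal.Quotient.mk (I ⊓ J)))) ∧
      ringKrullDim (Localization.AtPrime
        ((HomogeneousIdeal.irrelevant 𝒜).toIdeal.map (Ideal.Quotient.mk (I ⊓ J)))) = (e : WithBot ℕ∞) := by
  classical
  set P := (HomogeneousIdeal.irrelevant 𝒜).toIdeal with hP
  have hne_of_dim : ∀ (𝔞 : Ideal A) (d : ℕ), ringKrullDim (A ⧸ 𝔞) = (d : WithBot ℕ∞) → 𝔞 ≠ ⊤ := by
    rintro 𝔞 d hd rfl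
    haveI : Subsingleton (A ⧸ (⊤ : Ideal A)) := Ideal.Quotient.subsingleton_iff.mpr rfl
    rw [ringKrullDim_eq_bot_of_subsingleton] at hd
    exact WithBot.bot_ne_coe hd
  have hIne : I ≠ ⊤ := hne_of_dim I e hIdim
  have hJne : J ≠ ⊤ := hne_of_dim J e hJdim
  have hIJne : I ⊔ J ≠ ⊤ := hne_of_dim (I ⊔ J) (e - 1) hIJdim
  haveI : Nontrivial A := by
    by_contra hA
    rw [not_nontrivial_iff_subsingleton] at hA
    exact hIne (Subsingleton.elim _ _)
  haveI hPmax : P.IsMaximal := Groth.Agent.Lib.H8GradedFT.irrelevant_isMaximal 𝒜 h0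
  have hIP : I ≤ P := Groth.Agent.Lib.H8GradedFT.le_irrelevant 𝒜 h0 hI hIne
  have hJP : J ≤ P := Groth.Agent.Lib.H8GradedFT.le_irrelevant 𝒜 h0 hJ hJne
  have hcomap : ∀ 𝔞 : Ideal A, 𝔞 ≤ P →
      (P.map (Ideal.Quotient.mk 𝔞)).comap (Ideal.Quotient.mk 𝔞) = P := by
    intro 𝔞 h𝔞
    rw [Ideal.comap_map_of_surjective _ Ideal.Quotient.mk_surjective, ← RingHom.ker_eq_comap_bot,
      Ideal.mk_ker, sup_eq_left]
    exact h𝔞
  -- depth of `R/𝔞R` for the three Cohen–Macaulay quotients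
  have key : ∀ (𝔞 : Ideal A), 𝔞.IsHomogeneous 𝒜 → 𝔞 ≠ ⊤ → LocCoh.IsCohenMacaulayRing (A ⧸ 𝔞) →
      ∀ d : ℕ, ringKrullDim (A ⧸ 𝔞) = (d : WithBot ℕ∞) →
      LocCoh.depth (Localization.AtPrime P)
        (Localization.AtPrime P ⧸ 𝔞.map (algebraMap A (Localization.AtPrime P))) = (d : ℕ∞) := by
    intro 𝔞 h𝔞 hne hcm d hd
    have h𝔞P : 𝔞 ≤ P := Groth.Agent.Lib.H8GradedFT.le_irrelevant 𝒜 h0 h𝔞 hne
    haveI hq : (P.map (Ideal.Quotient.mk 𝔞)).IsPrime :=
      Ideal.isPrime_map_quotientMk_of_isPrime h𝔞P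
    have h1 := Groth.Agent.Lib.H8GradedCM.depth_localization_quotient P 𝔞 _ (hcomap 𝔞 h𝔞P)
    haveI : LocCoh.IsCohenMacaulayLocalRing (Localization.AtPrime (P.map (Ideal.Quotient.mk 𝔞))) :=
      LocCoh.IsCohenMacaulayRing.isCohenMacaulayLocalRing_localization _
    have h2 := LocCoh.IsCohenMacaulayLocalRing.supportDim_eq_depth
      (R := Localization.AtPrime (P.map (Ideal.Quotient.mk 𝔞)))
    rw [Module.supportDim_self_eq_ringKrullDim,
      IsLocalization.AtPrime.ringKrullDim_eq_height (P.map (Ideal.Quotient.mk 𝔞)),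
      ← Groth.Agent.Lib.H8GradedCM.ringKrullDim_quotient_eq_height_irrelevant 𝒜 h0 h𝔞 hne, hd] at h2
    rw [← h1]
    exact_mod_cast h2.symm
  have dI := key I hI hIne hIcm e hIdim
  have dJ := key J hJ hJne hJcm e hJdim
  have dIJ := key (I ⊔ J) (hI.sup hJ) hIJne hIJcm (e - 1) hIJdim
  have hdepth : (e : ℕ∞) ≤ LocCoh.depth (Localization.AtPrime P)
      (Localization.AtPrime P ⧸ (I ⊓ J).map (algebraMap A (Localization.AtPrime P))) := by
    rw [IsLocalization.map_inf P.primeCompl (Localization.AtPrime P) I J]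
    refine Groth.Agent.Lib.H8DepthLemma.le_idealDepth_quotient_inf
      (IsLocalRing.maximalIdeal (Localization.AtPrime P)) _ _ e ?_ ?_ ?_
    · exact dI.ge
    · exact dJ.ge
    · rw [← Ideal.map_sup]
      change (e : ℕ∞) ≤ LocCoh.depth (Localization.AtPrime P) _ + 1
      rw [dIJ]
      exact_mod_cast (by omega : e ≤ e - 1 + 1)
  have h3 := Groth.Agent.Lib.H8GradedCM.depth_localization_quotient P (I ⊓ J)
    (P.map (Ideal.Quotient.mk (I ⊓ J))) (hcomap _ (inf_le_left.trans hIP))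
  rw [← h3] at hdepth
  have hdim : ringKrullDim (Localization.AtPrime (P.map (Ideal.Quotient.mk (I ⊓ J)))) ≤
      (e : WithBot ℕ∞) := by
    rw [IsLocalization.AtPrime.ringKrullDim_eq_height (P.map (Ideal.Quotient.mk (I ⊓ J)))]
    refine le_trans (Ideal.height_le_ringKrullDim_of_ne_top hm.ne_top) ?_
    exact Groth.Agent.Lib.H8GradedCM.ringKrullDim_quotient_inf_le I J e hIdim.le hJdim.le
  have hle := Groth.Agent.Lib.DepthRees.depth_le_supportDim
    (R := Localization.AtPrime (P.map (Ideal.Quotient.mk (I ⊓ J))))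
    (Localization.AtPrime (P.map (Ideal.Quotient.mk (I ⊓ J))))
  rw [Module.supportDim_self_eq_ringKrullDim] at hle
  have hde : ((e : ℕ∞) : WithBot ℕ∞) ≤
      ((LocCoh.depth (Localization.AtPrime (P.map (Ideal.Quotient.mk (I ⊓ J))))
        (Localization.AtPrime (P.map (Ideal.Quotient.mk (I ⊓ J)))) : ℕ∞) : WithBot ℕ∞) :=
    WithBot.coe_le_coe.mpr hdepth
  have hdimeq : ringKrullDim (Localization.AtPrime (P.map (Ideal.Quotient.mk (I ⊓ J)))) =
      (e : WithBot ℕ∞) := le_antisymm hdim (le_trans hde hle)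
  refine ⟨?_, hdimeq⟩
  refine { supportDim_eq_depth := ?_ }
  rw [Module.supportDim_self_eq_ringKrullDim]
  refine le_antisymm ?_ hle
  rw [hdimeq]
  exact hde

end Groth.Agent.S11276
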