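import Mathlib
import Groth.Statements.S11277

set_option autoImplicit false
universe u v
open W4bk4grassmannian

namespace Groth.Agent.S11277

section Helpers

open DirectSum

variable {K : Type u} [Field K] {R : Type v} [CommRing R] [Algebra K R]
  (𝒜 : ℕ → Submodule K R) [GradedAlgebra 𝒜]

/-- a finite sum of homogeneous elements of pairwise distinct degrees vanishes only if all terms
vanish. -/
theorem eq_zero_of_sum_eq_zero {ι : Type*} (t : Finset ι) (b : ι → R) (deg : ι → ℕ)
    (hb : ∀ i ∈ t, b i ∈ 𝒜 (deg i)) (hinj : Set.InjOn deg t) (h : ∑ i ∈ t, b i = 0) :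
    ∀ i ∈ t, b i = 0 := by
  classical
  intro j hj
  have h1 : ((decompose 𝒜 (∑ i ∈ t, b i) (deg j) : 𝒜 (deg j)) : R) = 0 := by rw [h]; simp
  rw [decompose_sum, DFinsupp.finsetSum_apply, AddSubmonoidClass.coe_finsetSum,
    Finset.sum_eq_single j] at h1
  · rwa [decompose_of_mem_same 𝒜 (hb j hj)] at h1
  · intro i hi hij
    exact decompose_of_mem_ne 𝒜 (hb i hi) (fun h => hij (hinj hi hj h))
  · intro h; exact absurd hj h

end Helpers

/-- Let K be a field, R = ⊕_{i ≥ 0} R_i an ℕ-graded commutative K-algebra which is an integral domain,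
and s ∈ R_e a homogeneous element of degree e > 0. Let R_(s) ⊆ R[1/s] be the homogeneous
localization (fractions f / s^k with f homogeneous of degree k e). Then the image of s in R[1/s] is
transcendental over R_(s). -/
theorem result (K : Type u) [Field K] (R : Type v) [CommRing R]
    [IsDomain R] [Algebra K R] (𝒜 : ℕ → Submodule K R) [GradedAlgebra 𝒜] (e : ℕ) (he : 0 < e) (s : R)
    (hs : s ∈ 𝒜 e) :
    Transcendental (HomogeneousLocalization.Away 𝒜 s) (algebraMap R (Localization.Away s) s) := by
  classical
  rintro ⟨p, hp0, hp⟩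
  by_cases hs0 : s = 0
  · have : Subsingleton (HomogeneousLocalization.Away 𝒜 s) :=
      HomogeneousLocalization.subsingleton 𝒜 ⟨1, by simp [hs0]⟩
    exact hp0 (Subsingleton.elim _ _)
  set x := algebraMap R (Localization.Away s) s with hx
  choose n a ha hmk using fun i => HomogeneousLocalization.Away.mk_surjective 𝒜 hs (p.coeff i)
  set N := ∑ i ∈ p.support, n i with hN
  have hnN : ∀ i ∈ p.support, n i ≤ N := fun i hi =>
    Finset.single_le_sum (f := n) (fun _ _ => Nat.zero_le _) hi
  -- val (c_i) * x^(n_i) = alg a_i
  have hval : ∀ i, (p.coeff i).val * x ^ n i = algebraMap R (Localization.Away s) (a i) := by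
    intro i
    rw [← hmk i, HomogeneousLocalization.Away.val_mk, hx, ← map_pow, Localization.mk_eq_mk'_apply]
    exact IsLocalization.mk'_spec _ _ _
  -- the key equation in R
  have hsum : ∑ i ∈ p.support, a i * s ^ (i + N - n i) = 0 := by
    have hinj : Function.Injective (algebraMap R (Localization.Away s)) :=
      IsLocalization.injective _ (powers_le_nonZeroDivisors_of_noZeroDivisors hs0)
    apply hinj
    rw [map_zero, map_sum]
    have h1 : (Polynomial.aeval x p) * x ^ N = 0 := by rw [hp, zero_mul]
    rw [Polynomial.aeval_def, Polynomial.eval₂_eq_sum, Polynomial.sum_def, Finset.sum_mul] at h1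
    rw [← h1]
    refine Finset.sum_congr rfl (fun i hi => ?_)
    rw [map_mul, map_pow, ← hval i, HomogeneousLocalization.algebraMap_apply, ← hx, mul_assoc,
      mul_assoc, ← pow_add, ← pow_add]
    congr 2
    have := hnN i hi
    omega
  -- degrees
  have hterm := eq_zero_of_sum_eq_zero 𝒜 p.support (fun i => a i * s ^ (i + N - n i))
    (fun i => (i + N) * e) ?_ ?_ hsum
  · apply hp0
    ext i
    rw [Polynomial.coeff_zero]
    by_cases hi : i ∈ p.support
    · have h1 := hterm i hi
      have h2 : a i = 0 := by
        rcases mul_eq_zero.mp h1 with h | h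
        · exact h
        · exact absurd h (pow_ne_zero _ hs0)
      rw [← hmk i]
      rw [HomogeneousLocalization.Away.val_mk, HomogeneousLocalization.val_zero]
      simp only [h2]
      exact Localization.mk_zero _
    · rw [Polynomial.notMem_support_iff.mp hi]
  · intro i hi
    have h1 : a i * s ^ (i + N - n i) ∈ 𝒜 (n i • e + (i + N - n i) • e) :=
      SetLike.GradedMul.mul_mem (ha i) (SetLike.pow_mem_graded _ hs)
    have h2 : n i • e + (i + N - n i) • e = (i + N) * e := by
      have := hnN i hi
      simp only [smul_eq_mul]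
      rw [← Nat.add_mul]
      congr 1
      omega
    rwa [h2] at h1
  · intro i _ j _ hij
    have := Nat.eq_of_mul_eq_mul_right he hij
    omega

end Groth.Agent.S11277
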