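import Groth.Statements.S11278
import Mathlib.RingTheory.Ideal.UFD
import Mathlib.RingTheory.Polynomial.UniqueFactorization
import Mathlib.GroupTheory.MonoidLocalization.UniqueFactorization
-- import your own Groth.Agent.* helpers here

set_option autoImplicit false
universe u v
open W4bk4grassmannian

namespace Groth.Agent.S11278

open Polynomial HomogeneousLocalization

section Helpers

/-- A finite sum of homogeneous elements of pairwise distinct degrees vanishes only if every term
vanishes. -/
theorem eq_zero_of_sum_eq_zero {K : Type u} [Field K] {R : Type v} [CommRing R] [Algebra K R]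
    (𝒜 : ℕ → Submodule K R) [GradedAlgebra 𝒜] {ι : Type*} (S : Finset ι) (d : ι → ℕ)
    (hd : Set.InjOn d S) (z : ι → R) (hz : ∀ j ∈ S, z j ∈ 𝒜 (d j)) (h : ∑ j ∈ S, z j = 0) :
    ∀ i ∈ S, z i = 0 := by
  classical
  intro i hi
  have := congrArg (GradedRing.proj 𝒜 (d i)) h
  rw [map_sum, map_zero, Finset.sum_eq_single i] at this
  · rwa [GradedRing.proj_apply, DirectSum.decompose_of_mem_same _ (hz i hi)] at this
  · intro j hj hji
    rw [GradedRing.proj_apply, DirectSum.decompose_of_mem_ne _ (hz j hj)
      (fun h => hji (hd hj hi h))]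
  · intro h
    exact absurd hi h

/-- The evaluation homomorphism `R_(s)[X] → R[1/s]`, `X ↦ s`. -/
noncomputable def φ {K : Type u} [Field K] {R : Type v} [CommRing R] [Algebra K R]
    (𝒜 : ℕ → Submodule K R) [GradedAlgebra 𝒜] (s : R) :
    (HomogeneousLocalization.Away 𝒜 s)[X] →+* Localization.Away s :=
  Polynomial.eval₂RingHom (algebraMap (HomogeneousLocalization.Away 𝒜 s) (Localization.Away s))
    (algebraMap R (Localization.Away s) s)

theorem φ_injective {K : Type u} [Field K] {R : Type v} [CommRing R] [IsDomain R] [Algebra K R]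
    (𝒜 : ℕ → Submodule K R) [GradedAlgebra 𝒜] {s : R} (hs : s ∈ 𝒜 1) (hs0 : s ≠ 0) :
    Function.Injective (φ 𝒜 s) := by
  classical
  rw [injective_iff_map_eq_zero]
  intro f hf
  -- clear denominators
  have hev : ∀ᶠ n in Filter.atTop, ∀ j ∈ f.support,
      s ^ n • (f.coeff j).val ∈ algebraMap R (Localization.Away s) '' (𝒜 (n • 1) : Set R) := by
    rw [Filter.eventually_all_finset]
    intro j _
    exact Away.eventually_smul_mem hs (f.coeff j)
  obtain ⟨N, hN⟩ := hev.exists
  have H : ∀ j, ∃ y ∈ 𝒜 (N • 1), algebraMap R (Localization.Away s) y =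
      s ^ N • (f.coeff j).val := by
    intro j
    by_cases hj : j ∈ f.support
    · obtain ⟨y, hy, hy'⟩ := hN j hj
      exact ⟨y, hy, hy'⟩
    · refine ⟨0, zero_mem _, ?_⟩
      rw [Polynomial.notMem_support_iff.mp hj, HomogeneousLocalization.val_zero, smul_zero,
        map_zero]
  choose y hy hy' using H
  have hsum : algebraMap R (Localization.Away s) (∑ j ∈ f.support, y j * s ^ j) = 0 := by
    have h1 : s ^ N • (φ 𝒜 s f) = algebraMap R (Localization.Away s)
        (∑ j ∈ f.support, y j * s ^ j) := by
      change s ^ N • (Polynomial.eval₂ _ _ f) = _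
      rw [Polynomial.eval₂_eq_sum, Polynomial.sum_def, Finset.smul_sum, map_sum]
      refine Finset.sum_congr rfl (fun j _ => ?_)
      rw [map_mul, map_pow, hy' j, HomogeneousLocalization.algebraMap_apply, smul_mul_assoc]
    rw [← h1, hf, smul_zero]
  have hsum' : ∑ j ∈ f.support, y j * s ^ j = 0 :=
    IsLocalization.injective (Localization.Away s)
      (powers_le_nonZeroDivisors_of_noZeroDivisors hs0) (hsum.trans (map_zero _).symm)
  have hz := eq_zero_of_sum_eq_zero 𝒜 f.support (fun j => N • 1 + j • 1)
    (fun a _ b _ hab => by simpa using hab) (fun j => y j * s ^ j)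
    (fun j _ => SetLike.mul_mem_graded (hy j) (SetLike.pow_mem_graded j hs)) hsum'
  refine Polynomial.ext (fun i => ?_)
  rw [Polynomial.coeff_zero]
  by_contra hne
  have hi : i ∈ f.support := Polynomial.mem_support_iff.mpr hne
  have h1 : y i = 0 := by
    have := hz i hi
    exact (mul_eq_zero.mp this).resolve_right (pow_ne_zero _ hs0)
  have h2 : s ^ N • (f.coeff i).val = 0 := by rw [← hy' i, h1, map_zero]
  have h3 : (f.coeff i).val = 0 := by
    rw [Algebra.smul_def] at h2
    exact ((IsLocalization.map_units (Localization.Away s)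
      (⟨s ^ N, N, rfl⟩ : Submonoid.powers s)).mul_right_eq_zero).mp h2
  exact hne (HomogeneousLocalization.val_injective _ (h3.trans (HomogeneousLocalization.val_zero).symm))

theorem exists_φ_eq_algebraMap {K : Type u} [Field K] {R : Type v} [CommRing R] [Algebra K R]
    (𝒜 : ℕ → Submodule K R) [GradedAlgebra 𝒜] {s : R} (hs : s ∈ 𝒜 1) (r : R) :
    ∃ f, φ 𝒜 s f = algebraMap R (Localization.Away s) r := by
  classical
  induction r using DirectSum.Decomposition.inductionOn 𝒜 with
  | zero => exact ⟨0, by rw [map_zero, map_zero]⟩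
  | homogeneous x =>
    rename_i i
    have hx : (x : R) ∈ 𝒜 (i • 1) := by
      rw [smul_eq_mul, mul_one]
      exact x.2
    refine ⟨C (Away.mk 𝒜 hs i x hx) * X ^ i, ?_⟩
    change Polynomial.eval₂ _ _ _ = _
    rw [Polynomial.eval₂_mul, Polynomial.eval₂_C, Polynomial.eval₂_pow, Polynomial.eval₂_X,
      HomogeneousLocalization.algebraMap_apply, Away.val_mk, Localization.mk_eq_mk', ← map_pow]
    exact IsLocalization.mk'_spec (Localization.Away s) (x : R)
      (⟨s ^ i, i, rfl⟩ : Submonoid.powers s)
  | add a b ha hb =>
    obtain ⟨f, hf⟩ := ha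
    obtain ⟨g, hg⟩ := hb
    exact ⟨f + g, by rw [map_add, map_add, hf, hg]⟩

end Helpers

/-- Unique factorization lifts from the homogeneous localization at a prime element of degree one, in
the generality of the published argument: let K be a field, R = ⊕_{i ≥ 0} R_i a Noetherian ℕ-graded
commutative K-algebra which is an integral domain, and s ∈ R_1 a homogeneous element of degree one
which is a prime element of R. If the homogeneous localization R_(s) (degree-zero part of R[1/s])
has unique factorization, then R is a unique factorization domain. (The published statement is the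
case where R is the homogeneous coordinate ring of a Schubert variety, s the Plücker coordinate of
the least index, which is a prime element there, and R_(s) the coordinate ring of the opposite
cell.) -/
theorem result (K : Type u) [Field K] (R : Type v)
    [CommRing R] [IsDomain R] [IsNoetherianRing R] [Algebra K R] (𝒜 : ℕ → Submodule K R) [GradedAlgebra 𝒜]
    (s : R) (hs : s ∈ 𝒜 1) (hp : Prime s)
    (h : UniqueFactorizationMonoid (HomogeneousLocalization.Away 𝒜 s)) :
    UniqueFactorizationMonoid R := by
  classical
  have hs0 : s ≠ 0 := hp.ne_zero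
  haveI : IsDomain (Localization.Away s) := IsLocalization.Away.isDomain _ hs0
  haveI : IsDomain (HomogeneousLocalization.Away 𝒜 s) :=
    Function.Injective.isDomain
      (algebraMap (HomogeneousLocalization.Away 𝒜 s) (Localization.Away s))
      (fun a b hab => HomogeneousLocalization.val_injective _ hab)
  rw [UniqueFactorizationMonoid.iff_of_isLocalizationAway_of_prime hp (Localization.Away s)]
  letI : Algebra (HomogeneousLocalization.Away 𝒜 s)[X] (Localization.Away s) :=
    (φ 𝒜 s).toAlgebra
  have hφX : φ 𝒜 s X = algebraMap R (Localization.Away s) s := by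
    change Polynomial.eval₂ _ _ X = _
    rw [Polynomial.eval₂_X]
  haveI : IsLocalization (Submonoid.powers (X : (HomogeneousLocalization.Away 𝒜 s)[X]))
      (Localization.Away s) := by
    refine ⟨?_, ?_, ?_⟩
    · rintro ⟨_, n, rfl⟩
      change IsUnit (φ 𝒜 s (X ^ n))
      rw [map_pow, hφX, ← map_pow]
      exact IsLocalization.map_units (Localization.Away s) (⟨s ^ n, n, rfl⟩ : Submonoid.powers s)
    · intro z
      obtain ⟨n, r, hz⟩ := IsLocalization.Away.surj s z
      obtain ⟨f, hf⟩ := exists_φ_eq_algebraMap 𝒜 hs r
      refine ⟨(f, ⟨X ^ n, n, rfl⟩), ?_⟩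
      change z * φ 𝒜 s (X ^ n) = φ 𝒜 s f
      rw [map_pow, hφX, hz, hf]
    · intro f g hfg
      exact ⟨1, by rw [φ_injective 𝒜 hs hs0 hfg]⟩
  exact UniqueFactorizationMonoid.of_isLocalization
    (Submonoid.powers (X : (HomogeneousLocalization.Away 𝒜 s)[X])) (Localization.Away s)

end Groth.Agent.S11278
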