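import Groth.Statements.S1128
import Mathlib.RingTheory.Flat.FaithfullyFlat.Algebra

set_option autoImplicit false
open CategoryTheory CategoryTheory.Limits AlgebraicGeometry Opposite
universe u
open Desc

namespace Groth.Agent.S1128

open TensorProduct in
theorem flat_of_flat_comp_faithfullyFlat (R S T : Type*) [CommRing R] [CommRing S] [CommRing T]
    [Algebra R S] [Algebra S T] [Algebra R T] [IsScalarTower R S T]
    [Module.Flat R T] [Module.FaithfullyFlat S T] : Module.Flat R S := by
  rw [Module.Flat.iff_lTensor_preserves_injective_linearMap]
  intro N P _ _ _ _ f hf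
  have h1 : Function.Injective (f.lTensor T) :=
    Module.Flat.lTensor_preserves_injective_linearMap f hf
  have h2 : Function.Injective (f.baseChange S) := by
    rw [← Module.FaithfullyFlat.lTensor_injective_iff_injective S T]
    have key : ∀ x, (AlgebraTensorModule.cancelBaseChange R S S T P) ((f.baseChange S).lTensor T x)
        = f.lTensor T ((AlgebraTensorModule.cancelBaseChange R S S T N) x) := by
      intro x
      induction x using TensorProduct.induction_on with
      | zero => simp
      | tmul t y =>
        induction y using TensorProduct.induction_on with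
        | zero => simp
        | tmul s n => simp
        | add a b ha hb =>
          simp only [LinearMap.lTensor_tmul] at ha hb
          simp [tmul_add, ha, hb]
      | add a b ha hb => simp [ha, hb]
    intro a b hab
    apply (AlgebraTensorModule.cancelBaseChange R S S T N).injective
    apply h1
    rw [← key, ← key, hab]
  exact h2

theorem ringHom_flat_of_comp {R S T : Type u} [CommRing R] [CommRing S] [CommRing T]
    [IsLocalRing S] [IsLocalRing T]
    (φ : R →+* S) (ψ : S →+* T) [IsLocalHom ψ] (hψ : ψ.Flat) (h : (ψ.comp φ).Flat) : φ.Flat := by
  algebraize [φ, ψ, ψ.comp φ]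
  have : IsLocalHom (algebraMap S T) := ‹IsLocalHom ψ›
  have : Module.FaithfullyFlat S T := Module.FaithfullyFlat.of_flat_of_isLocalHom
  exact flat_of_flat_comp_faithfullyFlat R S T

/-- If f is flat and surjective and the composite of f with g is flat, then g is flat; together with
stability of flatness under composition this says flatness is fpqc local on the source. -/
theorem result {X' X Y : Scheme.{u}} (f : X' ⟶ X) (g : X ⟶ Y) [Flat f]
    [Surjective f] [Flat (f ≫ g)] : Flat g := by
  rw [Flat.iff_flat_stalkMap]
  intro x
  obtain ⟨x', rfl⟩ := f.surjective x
  have h1 := Flat.stalkMap (f ≫ g) x'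
  rw [Scheme.Hom.stalkMap_comp] at h1
  have h2 := Flat.stalkMap f x'
  exact ringHom_flat_of_comp _ (f.stalkMap x').hom h2 h1

end Groth.Agent.S1128
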