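import Mathlib
import Groth.Statements.S11280
import Groth.Agent.Lib.CohenSmooth

set_option autoImplicit false
universe u
open Deform

namespace Groth.Agent.S11280

set_option linter.style.haveILetI false
set_option linter.unusedVariables false
open Groth.Agent.Lib.CohenSmooth

section
variable {k : Type u} [Field k]
    {A : Type u} [CommRing A] [Algebra k A] [IsLocalRing A]
    (hres : ∀ a : A, ∃ c : k, a - algebraMap k A c ∈ IsLocalRing.maximalIdeal A)
    {B : Type u} [CommRing B] [Algebra A B] [Algebra k B] [IsScalarTower k A B]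

include hres in
theorem liftKilled (hsm : Algebra.FormallySmooth k (B ⧸ (IsLocalRing.maximalIdeal A).map (algebraMap A B))) :
    LiftKilled (IsLocalRing.maximalIdeal A) B := by
  intro D _ _ N hN hm g
  letI : Algebra k D := Algebra.compHom D (algebraMap k A)
  haveI : IsScalarTower k A D := IsScalarTower.of_algebraMap_eq fun c => rfl
  set mB := (IsLocalRing.maximalIdeal A).map (algebraMap A B) with hmB
  have hkill : ∀ x ∈ mB, (g.restrictScalars k) x = 0 := by
    intro x hx
    have hx' : x ∈ RingHom.ker g.toRingHom := by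
      refine Ideal.map_le_iff_le_comap.mpr ?_ hx
      intro a ha
      rw [Ideal.mem_comap, RingHom.mem_ker]
      change g (algebraMap A B a) = 0
      rw [g.commutes, IsScalarTower.algebraMap_apply A D (D ⧸ N), hm a ha, map_zero]
    exact hx'
  let gbar : (B ⧸ mB) →ₐ[k] D ⧸ N := Ideal.Quotient.liftₐ mB (g.restrictScalars k) hkill
  obtain ⟨l, hl⟩ := Algebra.FormallySmooth.exists_lift (R := k) N ⟨2, hN⟩ gbar
  have hl' : ∀ b : B, Ideal.Quotient.mk N (l (Ideal.Quotient.mk mB b)) = g b := fun b =>
    AlgHom.congr_fun hl (Ideal.Quotient.mk mB b)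
  refine ⟨{ (l.comp (Ideal.Quotient.mkₐ k mB)).toRingHom with commutes' := fun a => ?_ }, ?_⟩
  · obtain ⟨c, hc⟩ := hres a
    have ha : a = algebraMap k A c + (a - algebraMap k A c) := by ring
    change l (Ideal.Quotient.mk mB (algebraMap A B a)) = algebraMap A D a
    rw [ha, map_add, map_add, map_add, map_add, hm _ hc, add_zero,
      Ideal.Quotient.eq_zero_iff_mem.mpr (Ideal.mem_map_of_mem _ hc), map_zero, add_zero,
      ← IsScalarTower.algebraMap_apply k A B, ← IsScalarTower.algebraMap_apply k A D]
    exact (l.comp (Ideal.Quotient.mkₐ k mB)).commutes c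
  · ext b
    exact hl' b

end

theorem bijective_of_congr_id {B : Type u} [CommRing B] (t' : B) (ht2 : t' * t' = 0) (φ : B →+* B)
    (hφt : φ t' = t') (hφ : ∀ b, ∃ z, φ b = b + t' * z) : Function.Bijective φ := by
  have key : ∀ z, φ (t' * z) = t' * z := by
    intro z
    obtain ⟨w, hw⟩ := hφ z
    rw [map_mul, hφt, hw, mul_add, ← mul_assoc, ht2, zero_mul, add_zero]
  constructor
  · rw [injective_iff_map_eq_zero]
    intro b hb
    obtain ⟨z, hz⟩ := hφ b
    have h1 : b = t' * (-z) := by
      rw [hb] at hz
      rw [mul_neg]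
      exact eq_neg_of_add_eq_zero_left hz.symm
    rw [h1, key] at hb
    rw [h1, hb]
  · intro y
    obtain ⟨z, hz⟩ := hφ y
    refine ⟨y - t' * z, ?_⟩
    rw [map_sub, key, hz, add_sub_cancel_right]


/-- Let k be an algebraically closed field, A a local Artinian k-algebra with residue field k and t an
element of the maximal ideal of A annihilated by the maximal ideal, so that A is a small extension
of A/tA. Let B be a flat A-algebra whose closed fibre B/m_A B is a formally smooth k-algebra (an
infinitesimal deformation over A of a formally smooth k-algebra). Then every A-algebra automorphism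
of B/tB is induced by an A-algebra automorphism of B. (The published statement asks the automorphism
of B/tB to induce the identity on B/m_A B; this row does not. The published statement takes the
closed fibre smooth, that is formally smooth and essentially of finite type; this row asks the
closed fibre to be formally smooth over k in the sense of lifting along all square-zero surjections
of commutative k-algebras, with no finiteness condition.) -/
theorem result
    {k : Type u} [Field k] [IsAlgClosed k]
    {A : Type u} [CommRing A] [Algebra k A] [IsLocalRing A] [IsArtinianRing A]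
    (hres : ∀ a : A, ∃ c : k, a - algebraMap k A c ∈ IsLocalRing.maximalIdeal A)
    (t : A) (ht : t ∈ IsLocalRing.maximalIdeal A)
    (htm : ∀ a ∈ IsLocalRing.maximalIdeal A, a * t = 0)
    {B : Type u} [CommRing B] [Algebra A B] [Module.Flat A B] [Algebra k B] [IsScalarTower k A B]
    (hsm : Algebra.FormallySmooth k (B ⧸ (IsLocalRing.maximalIdeal A).map (algebraMap A B)))
    (σ : (B ⧸ Ideal.span {algebraMap A B t}) ≃ₐ[A] (B ⧸ Ideal.span {algebraMap A B t})) :
    ∃ τ : B ≃ₐ[A] B, ∀ b : B,
      Ideal.Quotient.mk (Ideal.span {algebraMap A B t}) (τ b) =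
        σ (Ideal.Quotient.mk (Ideal.span {algebraMap A B t}) b) := by
  have hK := liftKilled hres hsm
  obtain ⟨N, hN⟩ : ∃ N, IsLocalRing.maximalIdeal A ^ N = ⊥ := by
    have := IsArtinianRing.isNilpotent_jacobson_bot (R := A)
    rw [IsLocalRing.jacobson_eq_maximalIdeal ⊥ bot_ne_top] at this
    exact this
  have ht2 : (algebraMap A B t) * (algebraMap A B t) = 0 := by rw [← map_mul, htm t ht, map_zero]
  have hJ2 : Ideal.span {(algebraMap A B t)} ^ 2 = ⊥ := by
    rw [Ideal.span_singleton_pow, pow_two, ht2, Ideal.span_singleton_eq_bot]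
  have hlift : ∀ u : B →ₐ[A] B ⧸ Ideal.span {(algebraMap A B t)},
      ∃ v : B →ₐ[A] B, (Ideal.Quotient.mkₐ A (Ideal.span {(algebraMap A B t)})).comp v = u := by
    intro u
    refine exists_lift_of_pow_smul_eq_zero hK N (Ideal.span {(algebraMap A B t)}) hJ2 (fun a ha j _ => ?_) u
    rw [hN, Ideal.mem_bot] at ha
    rw [ha, map_zero, zero_mul]
  obtain ⟨τ₁, hτ₁⟩ := hlift ((σ : _ →ₐ[A] _).comp (Ideal.Quotient.mkₐ A (Ideal.span {(algebraMap A B t)})))
  obtain ⟨τ₂, hτ₂⟩ := hlift ((σ.symm : _ →ₐ[A] _).comp (Ideal.Quotient.mkₐ A (Ideal.span {(algebraMap A B t)})))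
  have h1 : ∀ b, Ideal.Quotient.mk (Ideal.span {(algebraMap A B t)}) (τ₁ b) = σ (Ideal.Quotient.mk _ b) :=
    fun b => AlgHom.congr_fun hτ₁ b
  have h2 : ∀ b, Ideal.Quotient.mk (Ideal.span {(algebraMap A B t)}) (τ₂ b) = σ.symm (Ideal.Quotient.mk _ b) :=
    fun b => AlgHom.congr_fun hτ₂ b
  have hcongr : ∀ (φ : B →ₐ[A] B), (∀ b, Ideal.Quotient.mk (Ideal.span {(algebraMap A B t)}) (φ b) =
      Ideal.Quotient.mk _ b) → Function.Bijective φ := by
    intro φ hφ
    refine bijective_of_congr_id (algebraMap A B t) ht2 φ.toRingHom (φ.commutes t) (fun b => ?_)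
    obtain ⟨z, hz⟩ := Ideal.mem_span_singleton.mp (Ideal.Quotient.eq.mp (hφ b))
    exact ⟨z, by change φ b = _; rw [← hz]; ring⟩
  have hb₁ : Function.Bijective (τ₂.comp τ₁) := hcongr _ (fun b => by
    change Ideal.Quotient.mk _ (τ₂ (τ₁ b)) = _
    rw [h2, h1, AlgEquiv.symm_apply_apply])
  have hb₂ : Function.Bijective (τ₁.comp τ₂) := hcongr _ (fun b => by
    change Ideal.Quotient.mk _ (τ₁ (τ₂ b)) = _
    rw [h1, h2, AlgEquiv.apply_symm_apply])
  have hbij : Function.Bijective τ₁ := by
    constructor
    · exact Function.Injective.of_comp (f := τ₂) hb₁.1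
    · exact Function.Surjective.of_comp (g := τ₂) hb₂.2
  exact ⟨AlgEquiv.ofBijective τ₁ hbij, h1⟩

end Groth.Agent.S11280
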