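import Mathlib
import Groth.Statements.S11281
import Groth.Agent.Lib.ExalY
import Groth.Agent.Lib.SqZeroHenselLocal

set_option autoImplicit false
universe u
open Deform

namespace Groth.Agent.S11281

set_option linter.unusedSectionVars false
set_option linter.style.haveILetI false

open IsLocalRing
open Groth.Agent.Lib

namespace PartA


section PartA

variable {k : Type u} [Field k] {Λ : Type u} [CommRing Λ] [Algebra k Λ]
  {R : Type u} [CommRing R] [Algebra Λ R] [IsLocalRing R]
  {B : Type u} [CommRing B] [Algebra Λ B] [IsLocalRing B]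

theorem isLocalHom_mk {t : B} (ht : t ∈ maximalIdeal B) :
    IsLocalHom (Ideal.Quotient.mk (Ideal.span {t})) := by
  apply isLocalHom_of_le_jacobson_bot
  rw [IsLocalRing.jacobson_eq_maximalIdeal ⊥ bot_ne_top]
  exact (Ideal.span_singleton_le_iff_mem _).mpr ht

theorem lift_mem_maximalIdeal
    (hB : ∀ b : B, ∃ c : k, b - algebraMap Λ B (algebraMap k Λ c) ∈ maximalIdeal B)
    {t : B} (ht : t ∈ maximalIdeal B) (φ : R →ₐ[Λ] B ⧸ Ideal.span {t})
    {r : R} (hr : r ∈ maximalIdeal R) {b : B} (hb : Ideal.Quotient.mk _ b = φ r) :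
    b ∈ maximalIdeal B := by
  obtain ⟨c, hc⟩ := hB b
  have hloc := isLocalHom_mk ht
  by_cases hc0 : c = 0
  · subst hc0
    simpa using hc
  · exfalso
    have hcu : IsUnit (algebraMap Λ R (algebraMap k Λ c)) :=
      ((Ne.isUnit hc0).map (algebraMap k Λ)).map (algebraMap Λ R)
    have hu : IsUnit (r - algebraMap Λ R (algebraMap k Λ c)) := by
      by_contra hnu
      have h1 : r - algebraMap Λ R (algebraMap k Λ c) ∈ maximalIdeal R := hnu
      have h2 : algebraMap Λ R (algebraMap k Λ c) ∈ maximalIdeal R := by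
        have := (maximalIdeal R).sub_mem hr h1
        simpa using this
      exact h2 hcu
    have hu' := hu.map φ
    rw [map_sub, ← hb, AlgHom.commutes] at hu'
    have h3 : IsUnit (Ideal.Quotient.mk (Ideal.span {t}) (b - algebraMap Λ B (algebraMap k Λ c))) := by
      rw [map_sub]; exact hu'
    exact hc (hloc.map_nonunit _ h3)

/-- multiplication by `t` as a map `B/(t) → B` (well defined when `t * t = 0`). -/
noncomputable def mu (t : B) (htt : t * t = 0) : (B ⧸ Ideal.span {t}) →ₗ[B] B :=
  Submodule.liftQ (Ideal.span {t}) (LinearMap.toSpanSingleton B B t) (by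
    rw [Ideal.span_le]
    intro x hx
    rw [Set.mem_singleton_iff] at hx
    subst hx
    simpa using htt)

theorem mu_mk (t : B) (htt : t * t = 0) (b : B) :
    mu t htt (Ideal.Quotient.mk _ b) = b * t := by
  change Submodule.liftQ _ _ _ (Submodule.Quotient.mk b) = _
  rw [Submodule.liftQ_apply]
  simp

variable (t : B) (htt : t * t = 0) (φ : R →ₐ[Λ] B ⧸ Ideal.span {t})

/-- `r ↦ (lift of φ r) * t`. -/
noncomputable def theta : R →+ B :=
  (mu t htt).toAddMonoidHom.comp (φ : R →+ B ⧸ Ideal.span {t})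

theorem theta_apply (r : R) : theta t htt φ r = mu t htt (φ r) := rfl

theorem theta_eq (r : R) (b : B) (hb : Ideal.Quotient.mk _ b = φ r) :
    theta t htt φ r = b * t := by
  rw [theta_apply, ← hb, mu_mk]

theorem theta_mul (r r' : R) (b : B) (hb : Ideal.Quotient.mk _ b = φ r) :
    theta t htt φ (r * r') = b * theta t htt φ r' := by
  obtain ⟨b', hb'⟩ := Ideal.Quotient.mk_surjective (φ r')
  rw [theta_eq t htt φ r' b' hb', theta_eq t htt φ (r * r') (b * b') (by rw [map_mul, map_mul, hb, hb']),
    mul_assoc]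


include htt in
theorem theta_eq_zero
    (hB : ∀ b : B, ∃ c : k, b - algebraMap Λ B (algebraMap k Λ c) ∈ maximalIdeal B)
    (ht : t ∈ maximalIdeal B) (hann : ∀ b ∈ maximalIdeal B, b * t = 0)
    {r : R} (hr : r ∈ maximalIdeal R) : theta t htt φ r = 0 := by
  obtain ⟨b, hb⟩ := Ideal.Quotient.mk_surjective (φ r)
  rw [theta_eq t htt φ r b hb]
  exact hann b (lift_mem_maximalIdeal hB ht φ hr hb)

/-- the inclusion `κ(R) → B`, `residue r ↦ (lift of φ r) * t`. -/
noncomputable def incl0 (hzero : ∀ r ∈ maximalIdeal R, theta t htt φ r = 0) :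
    ResidueField R →+ B :=
  QuotientAddGroup.lift (maximalIdeal R).toAddSubgroup (theta t htt φ) (fun r hr => hzero r hr)

theorem incl0_residue (hzero : ∀ r ∈ maximalIdeal R, theta t htt φ r = 0) (r : R) :
    incl0 t htt φ hzero (residue R r) = theta t htt φ r := rfl

/-- the fibre product `R ×_{B/(t)} B`. -/
noncomputable def fibE : Subalgebra Λ (R × B) :=
  AlgHom.equalizer (φ.comp (AlgHom.fst Λ R B))
    ((Ideal.Quotient.mkₐ Λ (Ideal.span {t})).comp (AlgHom.snd Λ R B))

theorem mem_fibE (x : R × B) : x ∈ fibE t φ ↔ φ x.1 = Ideal.Quotient.mk _ x.2 := Iff.rfl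

theorem incl0_mem_span (hzero : ∀ r ∈ maximalIdeal R, theta t htt φ r = 0) (z : ResidueField R) :
    incl0 t htt φ hzero z ∈ Ideal.span {t} := by
  obtain ⟨r, rfl⟩ := residue_surjective z
  obtain ⟨b, hb⟩ := Ideal.Quotient.mk_surjective (φ r)
  rw [incl0_residue, theta_eq t htt φ r b hb]
  exact Ideal.mul_mem_left _ _ (Ideal.subset_span rfl)

theorem incl0_injective (ht : t ∈ maximalIdeal B) (ht0 : t ≠ 0)
    (hzero : ∀ r ∈ maximalIdeal R, theta t htt φ r = 0) :
    Function.Injective (incl0 t htt φ hzero) := by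
  rw [injective_iff_map_eq_zero]
  intro z hz
  obtain ⟨r, rfl⟩ := residue_surjective z
  by_contra hne
  have hru : IsUnit r := by
    by_contra hnu
    exact hne ((residue_eq_zero_iff r).mpr hnu)
  obtain ⟨b, hb⟩ := Ideal.Quotient.mk_surjective (φ r)
  have hbu : IsUnit b := by
    have := isLocalHom_mk ht
    apply this.map_nonunit
    rw [hb]; exact hru.map φ
  rw [incl0_residue, theta_eq t htt φ r b hb] at hz
  exact ht0 ((hbu.mul_right_eq_zero).mp hz)


/-- the extension of `R` by its residue field on the fibre product. -/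
noncomputable def extX
    (hB : ∀ b : B, ∃ c : k, b - algebraMap Λ B (algebraMap k Λ c) ∈ maximalIdeal B)
    (ht : t ∈ maximalIdeal B) (ht0 : t ≠ 0) (hann : ∀ b ∈ maximalIdeal B, b * t = 0)
    (hzero : ∀ r ∈ maximalIdeal R, theta t htt φ r = 0) :
    Exal.Ext Λ R (ResidueField R) where
  E := fibE t φ
  proj := (AlgHom.fst Λ R B).comp (fibE t φ).val
  incl :=
    { toFun := fun z => ⟨(0, incl0 t htt φ hzero z), by
        rw [mem_fibE]
        change φ 0 = _
        rw [map_zero, eq_comm, Ideal.Quotient.eq_zero_iff_mem]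
        exact incl0_mem_span t htt φ hzero z⟩
      map_zero' := by
        apply Subtype.ext
        apply Prod.ext <;> simp
      map_add' := fun z z' => by
        apply Subtype.ext
        apply Prod.ext <;> simp }
  isExtension :=
    { proj_surjective := fun r => by
        obtain ⟨b, hb⟩ := Ideal.Quotient.mk_surjective (φ r)
        exact ⟨⟨(r, b), by rw [mem_fibE]; exact hb.symm⟩, rfl⟩
      incl_injective := fun z z' h => by
        have := congrArg (fun e : fibE t φ => e.1.2) h
        exact incl0_injective t htt φ ht ht0 hzero this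
      exact := fun x => by
        obtain ⟨⟨r, b⟩, hx⟩ := x
        rw [mem_fibE] at hx
        change φ r = Ideal.Quotient.mk _ b at hx
        constructor
        · intro hr
          change r = 0 at hr
          subst hr
          rw [map_zero, eq_comm, Ideal.Quotient.eq_zero_iff_mem, Ideal.mem_span_singleton'] at hx
          obtain ⟨s, hs⟩ := hx
          obtain ⟨c, hc⟩ := hB s
          refine ⟨residue R (algebraMap Λ R (algebraMap k Λ c)), ?_⟩
          apply Subtype.ext
          apply Prod.ext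
          · rfl
          · change incl0 t htt φ hzero (residue R _) = b
            rw [incl0_residue, theta_eq t htt φ _ (algebraMap Λ B (algebraMap k Λ c))
              (by rw [AlgHom.commutes]; rfl), ← hs]
            have : (s - algebraMap Λ B (algebraMap k Λ c)) * t = 0 := hann _ hc
            rw [sub_mul, sub_eq_zero] at this
            exact this.symm
        · rintro ⟨z, hz⟩
          have := congrArg (fun e : fibE t φ => e.1.1) hz
          exact this.symm
      mul_incl := fun x z => by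
        obtain ⟨⟨r, b⟩, hx⟩ := x
        rw [mem_fibE] at hx
        change φ r = Ideal.Quotient.mk _ b at hx
        obtain ⟨r', rfl⟩ := residue_surjective z
        apply Subtype.ext
        apply Prod.ext
        · change r * 0 = 0
          exact mul_zero _
        · change b * incl0 t htt φ hzero (residue R r') = incl0 t htt φ hzero (r • residue R r')
          have : r • residue R r' = residue R (r * r') := by
            rw [map_mul]; rfl
          rw [this, incl0_residue, incl0_residue, theta_mul t htt φ r r' b hx.symm] }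


omit htt in
theorem lift_of_trivial
    (ha : ∀ X : Exal.Ext Λ R (ResidueField R), X.IsTrivial)
    (hB : ∀ b : B, ∃ c : k, b - algebraMap Λ B (algebraMap k Λ c) ∈ maximalIdeal B)
    (ht : t ∈ maximalIdeal B) (hann : ∀ b ∈ maximalIdeal B, b * t = 0) :
    ∃ φ' : R →ₐ[Λ] B, (Ideal.Quotient.mkₐ Λ (Ideal.span {t})).comp φ' = φ := by
  by_cases ht0 : t = 0
  · subst ht0
    have hbij : Function.Bijective (Ideal.Quotient.mkₐ Λ (Ideal.span {(0 : B)})) := by
      refine ⟨?_, Ideal.Quotient.mkₐ_surjective _ _⟩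
      rw [injective_iff_map_eq_zero]
      intro b hb
      rw [Ideal.Quotient.mkₐ_eq_mk, Ideal.Quotient.eq_zero_iff_mem, Ideal.mem_span_singleton'] at hb
      obtain ⟨a, rfl⟩ := hb
      exact mul_zero a
    let e := AlgEquiv.ofBijective _ hbij
    refine ⟨(e.symm : _ →ₐ[Λ] B).comp φ, ?_⟩
    ext r
    exact e.apply_symm_apply (φ r)
  · have htt : t * t = 0 := hann t ht
    have hzero : ∀ r ∈ maximalIdeal R, theta t htt φ r = 0 :=
      fun r hr => theta_eq_zero t htt φ hB ht hann hr
    obtain ⟨s, hs⟩ := ha (extX t htt φ hB ht ht0 hann hzero)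
    let s' : R →ₐ[Λ] fibE t φ := s
    refine ⟨(AlgHom.snd Λ R B).comp ((fibE t φ).val.comp s'), ?_⟩
    ext r
    have h1 : ((s' r : fibE t φ) : R × B).1 = r := hs r
    have h2 := (mem_fibE t φ _).mp (s' r).2
    rw [h1] at h2
    exact h2.symm

end PartA

end PartA

namespace PartB


section PartB

variable {Λ : Type u} [CommRing Λ]
  {R : Type u} [CommRing R] [Algebra Λ R] [IsLocalRing R]
  (X : Exal.Ext Λ R (ResidueField R))

/-- the generator of the kernel. -/
noncomputable def eps : X.E := X.incl 1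

theorem proj_eps : X.proj (eps X) = 0 := ExalY.proj_incl X 1

theorem mul_eps (e : X.E) : e * eps X = X.incl (residue R (X.proj e)) := by
  rw [eps, X.isExtension.mul_incl, Algebra.smul_def, mul_one]; rfl

theorem eps_ne_zero : eps X ≠ 0 := by
  intro h
  have : X.incl 1 = X.incl 0 := by rw [map_zero]; exact h
  exact one_ne_zero (X.isExtension.incl_injective this)

theorem sqZero (x y : X.E) (hx : X.proj x = 0) (hy : X.proj y = 0) : x * y = 0 := by
  obtain ⟨z, rfl⟩ := (X.isExtension.exact x).mp hx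
  obtain ⟨z', rfl⟩ := (X.isExtension.exact y).mp hy
  exact ExalY.incl_mul_incl X z z'

theorem proj_surjective : Function.Surjective (X.proj : X.E →+* R) := X.isExtension.proj_surjective

instance isLocalRing_E : IsLocalRing X.E :=
  SqZeroHenselLocal.isLocalRing_of_sqZero (X.proj : X.E →+* R) (proj_surjective X)
    (fun x y hx hy => sqZero X x y hx hy)

theorem mem_maximalIdeal_iff (e : X.E) : e ∈ maximalIdeal X.E ↔ X.proj e ∈ maximalIdeal R :=
  SqZeroHenselLocal.mem_maximalIdeal_iff_of_sqZero (X.proj : X.E →+* R) (proj_surjective X)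
    (fun x y hx hy => sqZero X x y hx hy) e

theorem mul_eps_eq_zero {e : X.E} (he : e ∈ maximalIdeal X.E) : e * eps X = 0 := by
  rw [mul_eps, (residue_eq_zero_iff _).mpr ((mem_maximalIdeal_iff X e).mp he), map_zero]

theorem eps_mem : eps X ∈ maximalIdeal X.E := by
  rw [mem_maximalIdeal_iff, proj_eps]; exact zero_mem _

theorem exists_eq_mul_eps {x : X.E} (hx : X.proj x = 0) : ∃ e, x = e * eps X := by
  obtain ⟨z, rfl⟩ := (X.isExtension.exact x).mp hx
  obtain ⟨r, rfl⟩ := residue_surjective z
  obtain ⟨e, rfl⟩ := X.isExtension.proj_surjective r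
  exact ⟨e, (mul_eps X e).symm⟩

/-- an ideal inside the kernel is zero or contains `eps`. -/
theorem eq_zero_or_eps_mem (J : Ideal X.E) {x : X.E} (hxJ : x ∈ J) (hx : X.proj x = 0) :
    x = 0 ∨ eps X ∈ J := by
  obtain ⟨e, rfl⟩ := exists_eq_mul_eps X hx
  by_cases he : e ∈ maximalIdeal X.E
  · left; exact mul_eps_eq_zero X he
  · right
    have hu : IsUnit e := by
      by_contra h; exact he h
    obtain ⟨u, rfl⟩ := hu
    have : eps X = (↑u⁻¹ : X.E) * (↑u * eps X) := by
      rw [← mul_assoc, Units.inv_mul, one_mul]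
    rw [this]
    exact J.mul_mem_left _ hxJ

theorem ker_inf_fg (J : Ideal X.E) : (J ⊓ RingHom.ker (X.proj : X.E →+* R)).FG := by
  by_cases h : eps X ∈ J
  · have : J ⊓ RingHom.ker (X.proj : X.E →+* R) = Ideal.span {eps X} := by
      apply le_antisymm
      · rintro x ⟨hxJ, hx⟩
        obtain ⟨e, rfl⟩ := exists_eq_mul_eps X hx
        exact Ideal.mem_span_singleton'.mpr ⟨e, rfl⟩
      · rw [Ideal.span_le, Set.singleton_subset_iff]
        exact ⟨h, proj_eps X⟩
    rw [this]
    exact ⟨{eps X}, by simp⟩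
  · have : J ⊓ RingHom.ker (X.proj : X.E →+* R) = ⊥ := by
      rw [eq_bot_iff]
      rintro x ⟨hxJ, hx⟩
      rcases eq_zero_or_eps_mem X J hxJ hx with h0 | h1
      · exact h0
      · exact absurd h1 h
    rw [this]
    exact Submodule.fg_bot


theorem isNoetherianRing_E [IsNoetherianRing R] : IsNoetherianRing X.E := by
  classical
  rw [isNoetherianRing_iff_ideal_fg]
  intro J
  have hfg : (J.map (X.proj : X.E →+* R)).FG := IsNoetherian.noetherian _
  obtain ⟨s, hs⟩ := hfg
  have hpre : ∀ r ∈ s, ∃ e ∈ J, (X.proj : X.E →+* R) e = r := by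
    intro r hr
    have : r ∈ J.map (X.proj : X.E →+* R) := hs ▸ Ideal.subset_span hr
    exact (Ideal.mem_map_iff_of_surjective _ (proj_surjective X)).mp this
  choose! g hgJ hg using hpre
  have hle : Ideal.span (g '' (s : Set R)) ≤ J :=
    Ideal.span_le.mpr (by rintro _ ⟨r, hr, rfl⟩; exact hgJ r hr)
  have key : J = Ideal.span (g '' (s : Set R)) ⊔ (J ⊓ RingHom.ker (X.proj : X.E →+* R)) := by
    apply le_antisymm
    · intro a ha
      have h1 : (X.proj : X.E →+* R) a ∈ Ideal.span (s : Set R) :=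
        hs ▸ Ideal.mem_map_of_mem _ ha
      have h2 : Ideal.span (s : Set R) =
          (Ideal.span (g '' (s : Set R))).map (X.proj : X.E →+* R) := by
        rw [Ideal.map_span]
        congr 1
        ext r; constructor
        · intro hr; exact ⟨g r, ⟨r, hr, rfl⟩, hg r hr⟩
        · rintro ⟨_, ⟨r, hr, rfl⟩, rfl⟩; rw [hg r hr]; exact hr
      rw [h2] at h1
      obtain ⟨b, hb, hab⟩ := (Ideal.mem_map_iff_of_surjective _ (proj_surjective X)).mp h1
      have : a = b + (a - b) := by ring
      rw [this]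
      refine Submodule.add_mem_sup hb ⟨J.sub_mem ha (hle hb), ?_⟩
      change a - b ∈ RingHom.ker (X.proj : X.E →+* R)
      rw [RingHom.mem_ker, map_sub, hab, sub_self]
    · exact sup_le hle inf_le_left
  rw [key]
  refine Submodule.FG.sup ⟨s.image g, ?_⟩ (ker_inf_fg X J)
  rw [Finset.coe_image]


theorem exists_pow_not_mem [IsNoetherianRing R] : ∃ j, eps X ∉ maximalIdeal X.E ^ j := by
  haveI := isNoetherianRing_E X
  have hK := Ideal.iInf_pow_eq_bot_of_isLocalRing (maximalIdeal X.E)
    (IsLocalRing.maximalIdeal.isMaximal _).ne_top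
  by_contra h
  push Not at h
  have : eps X ∈ ⨅ i, maximalIdeal X.E ^ i := by
    rw [Ideal.mem_iInf]; exact h
  rw [hK] at this
  exact eps_ne_zero X this

section Quot

variable (j : ℕ) (hj : eps X ∉ maximalIdeal X.E ^ j)

include hj in
theorem pow_ne_top : maximalIdeal X.E ^ j ≠ ⊤ := by
  intro h; rw [h] at hj; exact hj trivial

include hj in
theorem nontrivial_quot : Nontrivial (X.E ⧸ maximalIdeal X.E ^ j) :=
  Ideal.Quotient.nontrivial_iff.mpr (pow_ne_top X j hj)

include hj in
theorem isLocalRing_quot : IsLocalRing (X.E ⧸ maximalIdeal X.E ^ j) :=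
  haveI := nontrivial_quot X j hj
  IsLocalRing.of_surjective' (Ideal.Quotient.mk _) Ideal.Quotient.mk_surjective

include hj in
theorem map_maximalIdeal :
    haveI := isLocalRing_quot X j hj
    (maximalIdeal X.E).map (Ideal.Quotient.mk (maximalIdeal X.E ^ j)) =
      maximalIdeal (X.E ⧸ maximalIdeal X.E ^ j) := by
  haveI := isLocalRing_quot X j hj
  have := IsLocalHom.of_surjective (Ideal.Quotient.mk (maximalIdeal X.E ^ j))
    Ideal.Quotient.mk_surjective
  ext x
  obtain ⟨x, rfl⟩ := Ideal.Quotient.mk_surjective x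
  simp [sup_eq_left.mpr (le_maximalIdeal (pow_ne_top X j hj))]

include hj in
theorem mk_mem_iff (e : X.E) :
    haveI := isLocalRing_quot X j hj
    Ideal.Quotient.mk (maximalIdeal X.E ^ j) e ∈ maximalIdeal (X.E ⧸ maximalIdeal X.E ^ j) ↔
      e ∈ maximalIdeal X.E := by
  haveI := isLocalRing_quot X j hj
  have := IsLocalHom.of_surjective (Ideal.Quotient.mk (maximalIdeal X.E ^ j))
    Ideal.Quotient.mk_surjective
  simp

include hj in
theorem isArtinianRing_quot [IsNoetherianRing R] :
    IsArtinianRing (X.E ⧸ maximalIdeal X.E ^ j) := by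
  haveI := isNoetherianRing_E X
  haveI := isLocalRing_quot X j hj
  rw [isArtinianRing_iff_isNilpotent_maximalIdeal]
  refine ⟨j, ?_⟩
  rw [← map_maximalIdeal X j hj, ← Ideal.map_pow, Ideal.zero_eq_bot, Ideal.map_eq_bot_iff_le_ker,
    Ideal.mk_ker]

end Quot


theorem trivial_of_lift {k : Type u} [Field k] [Algebra k Λ] [IsNoetherianRing R]
    (hR : ∀ r : R, ∃ c : k, r - algebraMap Λ R (algebraMap k Λ c) ∈ maximalIdeal R)
    (hb : ∀ (B : Type u) [CommRing B] [Algebra Λ B] [IsLocalRing B] [IsArtinianRing B],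
      (∀ b : B, ∃ c : k, b - algebraMap Λ B (algebraMap k Λ c) ∈ maximalIdeal B) →
      ∀ t : B, t ∈ maximalIdeal B → (∀ b ∈ maximalIdeal B, b * t = 0) →
      ∀ φ : R →ₐ[Λ] B ⧸ Ideal.span {t},
        ∃ φ' : R →ₐ[Λ] B, (Ideal.Quotient.mkₐ Λ (Ideal.span {t})).comp φ' = φ) :
    X.IsTrivial := by
  obtain ⟨j, hj⟩ := exists_pow_not_mem X
  haveI hloc := isLocalRing_quot X j hj
  haveI hart := isArtinianRing_quot X j hj
  -- residue field condition
  have hB : ∀ b : X.E ⧸ maximalIdeal X.E ^ j, ∃ c : k,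
      b - algebraMap Λ (X.E ⧸ maximalIdeal X.E ^ j) (algebraMap k Λ c) ∈
        maximalIdeal (X.E ⧸ maximalIdeal X.E ^ j) := by
    intro b
    obtain ⟨e, rfl⟩ := Ideal.Quotient.mk_surjective b
    obtain ⟨c, hc⟩ := hR (X.proj e)
    refine ⟨c, ?_⟩
    have : (Ideal.Quotient.mk (maximalIdeal X.E ^ j) e -
        algebraMap Λ (X.E ⧸ maximalIdeal X.E ^ j) (algebraMap k Λ c)) =
        Ideal.Quotient.mk (maximalIdeal X.E ^ j) (e - algebraMap Λ X.E (algebraMap k Λ c)) := by
      rw [map_sub]; rfl
    rw [this, mk_mem_iff X j hj, mem_maximalIdeal_iff, map_sub, AlgHom.commutes]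
    exact hc
  have ht : Ideal.Quotient.mk (maximalIdeal X.E ^ j) (eps X) ∈
      maximalIdeal (X.E ⧸ maximalIdeal X.E ^ j) := (mk_mem_iff X j hj _).mpr (eps_mem X)
  have hann : ∀ b ∈ maximalIdeal (X.E ⧸ maximalIdeal X.E ^ j),
      b * Ideal.Quotient.mk (maximalIdeal X.E ^ j) (eps X) = 0 := by
    intro b hb'
    obtain ⟨e, rfl⟩ := Ideal.Quotient.mk_surjective b
    rw [mk_mem_iff X j hj] at hb'
    rw [← map_mul, mul_eps_eq_zero X hb', map_zero]
  -- ψ : E → B/(t)
  let ψ : X.E →ₐ[Λ] (X.E ⧸ maximalIdeal X.E ^ j) ⧸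
      Ideal.span {Ideal.Quotient.mk (maximalIdeal X.E ^ j) (eps X)} :=
    (Ideal.Quotient.mkₐ Λ _).comp (Ideal.Quotient.mkₐ Λ (maximalIdeal X.E ^ j))
  have hψ : ∀ x, X.proj x = 0 → ψ x = 0 := by
    intro x hx
    obtain ⟨e, rfl⟩ := exists_eq_mul_eps X hx
    change Ideal.Quotient.mk _ (Ideal.Quotient.mk (maximalIdeal X.E ^ j) (e * eps X)) = 0
    rw [map_mul, map_mul]
    have : Ideal.Quotient.mk (Ideal.span {Ideal.Quotient.mk (maximalIdeal X.E ^ j) (eps X)})
        (Ideal.Quotient.mk (maximalIdeal X.E ^ j) (eps X)) = 0 :=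
      Ideal.Quotient.eq_zero_iff_mem.mpr (Ideal.subset_span rfl)
    rw [this, mul_zero]
  let φ : R →ₐ[Λ] (X.E ⧸ maximalIdeal X.E ^ j) ⧸
      Ideal.span {Ideal.Quotient.mk (maximalIdeal X.E ^ j) (eps X)} :=
    AlgHom.liftOfSurjective X.proj X.isExtension.proj_surjective ψ (fun x hx => hψ x hx)
  have hφ : ∀ e, φ (X.proj e) = ψ e :=
    AlgHom.liftOfSurjective_apply X.proj X.isExtension.proj_surjective ψ (fun x hx => hψ x hx)
  obtain ⟨φ', hφ'⟩ := hb (X.E ⧸ maximalIdeal X.E ^ j) hB _ ht hann φ
  -- existence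
  have hex : ∀ r : R, ∃ e : X.E, X.proj e = r ∧
      Ideal.Quotient.mk (maximalIdeal X.E ^ j) e = φ' r := by
    intro r
    obtain ⟨e₀, he₀⟩ := X.isExtension.proj_surjective r
    have h1 : Ideal.Quotient.mk (Ideal.span {Ideal.Quotient.mk (maximalIdeal X.E ^ j) (eps X)})
        (φ' r - Ideal.Quotient.mk (maximalIdeal X.E ^ j) e₀) = 0 := by
      rw [map_sub]
      have h2 := DFunLike.congr_fun hφ' r
      change Ideal.Quotient.mk _ (φ' r) = φ r at h2
      rw [h2, ← he₀, hφ]
      exact sub_self _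
    rw [Ideal.Quotient.eq_zero_iff_mem, Ideal.mem_span_singleton'] at h1
    obtain ⟨b, hb1⟩ := h1
    obtain ⟨e₁, rfl⟩ := Ideal.Quotient.mk_surjective b
    refine ⟨e₀ + e₁ * eps X, ?_, ?_⟩
    · rw [map_add, map_mul, proj_eps, mul_zero, add_zero, he₀]
    · rw [map_add, map_mul, hb1]; ring
  have huniq : ∀ e e' : X.E, X.proj e = X.proj e' →
      Ideal.Quotient.mk (maximalIdeal X.E ^ j) e = Ideal.Quotient.mk (maximalIdeal X.E ^ j) e' →
      e = e' := by
    intro e e' h1 h2
    have hd1 : X.proj (e - e') = 0 := by rw [map_sub, h1, sub_self]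
    have hd2 : e - e' ∈ maximalIdeal X.E ^ j := Ideal.Quotient.eq.mp h2
    rcases eq_zero_or_eps_mem X _ hd2 hd1 with h0 | h1'
    · exact sub_eq_zero.mp h0
    · exact absurd h1' hj
  choose s hs1 hs2 using hex
  refine ⟨{ toFun := s, map_one' := ?_, map_mul' := ?_, map_zero' := ?_, map_add' := ?_,
            commutes' := ?_ }, hs1⟩
  · apply huniq
    · rw [hs1, map_one]
    · rw [hs2, map_one, map_one]
  · intro r r'
    apply huniq
    · rw [hs1, map_mul, hs1, hs1]
    · rw [hs2, map_mul, map_mul, hs2, hs2]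
  · apply huniq
    · rw [hs1, map_zero]
    · rw [hs2, map_zero, map_zero]
  · intro r r'
    apply huniq
    · rw [hs1, map_add, hs1, hs1]
    · rw [hs2, map_add, map_add, hs2, hs2]
  · intro a
    apply huniq
    · change X.proj (s _) = _
      rw [hs1, AlgHom.commutes]
    · change Ideal.Quotient.mk _ (s _) = _
      rw [hs2, AlgHom.commutes]; rfl

end PartB

end PartB


/-- Let k be an algebraically closed field, Λ a local Noetherian k-algebra with residue field k, and R a
local Noetherian Λ-algebra, with local structure map and residue field k. The following are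
equivalent: (a) every Λ-extension of R by its residue field k is trivial, i.e. the relative
obstruction space o(R/Λ) = Ex_Λ(R, k) vanishes; (b) for every local Artinian Λ-algebra B with
residue field k and every t in the maximal ideal of B annihilated by the maximal ideal, every
Λ-algebra map R → B/tB lifts to a Λ-algebra map R → B (formal smoothness of R over Λ tested on small
extensions of Artinian rings). The test algebras B range over the universe of R. -/
theorem result
    {k : Type u} [Field k] [IsAlgClosed k]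
    {Λ : Type u} [CommRing Λ] [Algebra k Λ] [IsLocalRing Λ] [IsNoetherianRing Λ]
    (hΛ : ∀ a : Λ, ∃ c : k, a - algebraMap k Λ c ∈ IsLocalRing.maximalIdeal Λ)
    {R : Type u} [CommRing R] [Algebra Λ R] [IsLocalRing R] [IsNoetherianRing R]
    [IsLocalHom (algebraMap Λ R)]
    (hR : ∀ r : R, ∃ c : k, r - algebraMap Λ R (algebraMap k Λ c) ∈ IsLocalRing.maximalIdeal R) :
    (∀ X : Exal.Ext Λ R (IsLocalRing.ResidueField R), X.IsTrivial) ↔
    (∀ (B : Type u) [CommRing B] [Algebra Λ B] [IsLocalRing B] [IsArtinianRing B],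
      (∀ b : B, ∃ c : k, b - algebraMap Λ B (algebraMap k Λ c) ∈ IsLocalRing.maximalIdeal B) →
      ∀ t : B, t ∈ IsLocalRing.maximalIdeal B → (∀ b ∈ IsLocalRing.maximalIdeal B, b * t = 0) →
      ∀ φ : R →ₐ[Λ] B ⧸ Ideal.span {t},
        ∃ φ' : R →ₐ[Λ] B, (Ideal.Quotient.mkₐ Λ (Ideal.span {t})).comp φ' = φ) := by
  constructor
  · intro ha B _ _ _ _ hB t ht hann φ
    exact PartA.lift_of_trivial t φ ha hB ht hann
  · intro hb X
    exact PartB.trivial_of_lift X hR hb

end Groth.Agent.S11281
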