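import Groth.Statements.S11282
import Mathlib

set_option autoImplicit false
universe u
open Deform

namespace Groth.Agent.S11282

section helpers
open IsLocalRing

section AR
variable {R : Type*} [CommRing R] [IsLocalRing R] [IsNoetherianRing R]

lemma exists_AR {r : ℕ} (x : Fin r → R) :
    ∃ k : ℕ, ∀ n, k < n → ∀ v : Fin r → R, (∀ i, v i ∈ maximalIdeal R ^ n) →
      ∑ i, v i * x i = 0 →
      v ∈ (maximalIdeal R) • (LinearMap.ker (Fintype.linearCombination R x)) := by
  obtain ⟨k, hk⟩ := Ideal.exists_pow_inf_eq_pow_smul (maximalIdeal R)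
    (LinearMap.ker (Fintype.linearCombination R x))
  refine ⟨k, fun n hn v hv hsum => ?_⟩
  have h1 : v ∈ (maximalIdeal R ^ n • ⊤ ⊓ LinearMap.ker (Fintype.linearCombination R x) :
      Submodule R (Fin r → R)) := by
    refine ⟨?_, ?_⟩
    · have : v = ∑ i, v i • (Pi.single i (1 : R) : Fin r → R) := by
        ext j; simp [Finset.sum_apply, Pi.single_apply]
      rw [this]
      exact Submodule.sum_mem _ (fun i _ => Submodule.smul_mem_smul (hv i) trivial)
    · rw [SetLike.mem_coe, LinearMap.mem_ker, Fintype.linearCombination_apply]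
      simpa [smul_eq_mul] using hsum
  rw [hk n hn.le] at h1
  refine Submodule.smul_mono ?_ inf_le_right h1
  exact Ideal.pow_le_self (by omega)

end AR


lemma core {R E : Type*} [CommRing R] [IsLocalRing R] [CommRing E]
    (p : E →+* R) (hp : Function.Surjective p)
    (hkill : ∀ y κ : E, p y ∈ maximalIdeal R → p κ = 0 → y * κ = 0)
    {r : ℕ} (x : Fin r → R) (hx : Ideal.span (Set.range x) = maximalIdeal R) (n : ℕ) (hn : 1 ≤ n)
    (hAR : ∀ v : Fin r → R, (∀ i, v i ∈ maximalIdeal R ^ n) → ∑ i, v i * x i = 0 →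
      v ∈ (maximalIdeal R) • (LinearMap.ker (Fintype.linearCombination R x))) :
    ∃ I : Ideal E, (∀ y ∈ I, p y = 0 → y = 0) ∧ I.map p = maximalIdeal R ^ (n + 1) := by
  classical
  have hxm : ∀ i, x i ∈ maximalIdeal R := fun i => hx ▸ Ideal.subset_span ⟨i, rfl⟩
  let s : R → E := Function.surjInv hp
  have hs : ∀ a, p (s a) = a := Function.surjInv_eq hp
  let xt : Fin r → E := fun i => s (x i)
  have hxt : ∀ i, p (xt i) = x i := fun i => hs _
  let ϑ : (Fin r → R) → E := fun v => ∑ i, s (v i) * xt i
  -- independence of lifts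
  have L1 : ∀ a : Fin r → E, ∑ i, a i * xt i = ϑ (fun i => p (a i)) := by
    intro a
    refine Finset.sum_congr rfl fun i _ => ?_
    have h0 : xt i * (a i - s (p (a i))) = 0 :=
      hkill _ _ (by rw [hxt]; exact hxm i) (by rw [map_sub, hs, sub_self])
    linear_combination h0
  have hpϑ : ∀ v, p (ϑ v) = ∑ i, v i * x i := by
    intro v
    simp only [ϑ, map_sum, map_mul, hs, hxt]
  have hadd : ∀ v w, ϑ (v + w) = ϑ v + ϑ w := by
    intro v w
    have := L1 (fun i => s (v i) + s (w i))
    simp only [map_add, hs] at this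
    have h2 : (fun i => v i + w i) = v + w := rfl
    rw [h2] at this
    rw [← this]
    simp only [ϑ, add_mul, Finset.sum_add_distrib]
  have hzero : ϑ 0 = 0 := by
    have := hadd 0 0
    rw [add_zero] at this
    exact left_eq_add.mp this
  have hsmul : ∀ (μ : R) (z : Fin r → R), μ ∈ maximalIdeal R →
      z ∈ LinearMap.ker (Fintype.linearCombination R x) → ϑ (μ • z) = 0 := by
    intro μ z hμ hz
    have := L1 (fun i => s μ * s (z i))
    simp only [map_mul, hs] at this
    have h2 : (fun i => μ * z i) = μ • z := rfl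
    rw [h2] at this
    rw [← this]
    have h3 : ∑ i, s μ * s (z i) * xt i = s μ * ϑ z := by
      simp only [ϑ, Finset.mul_sum, mul_assoc]
    rw [h3]
    refine hkill _ _ (by rw [hs]; exact hμ) ?_
    rw [hpϑ]
    rw [LinearMap.mem_ker, Fintype.linearCombination_apply] at hz
    simpa [smul_eq_mul] using hz
  have hvan : ∀ v ∈ (maximalIdeal R) • (LinearMap.ker (Fintype.linearCombination R x)),
      ϑ v = 0 := by
    intro v hv
    refine Submodule.smul_induction_on hv (fun μ hμ z hz => hsmul μ z hμ hz) ?_
    intro v w hv hw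
    rw [hadd, hv, hw, add_zero]
  refine ⟨(maximalIdeal R ^ n).comap p * (maximalIdeal R).comap p, ?_, ?_⟩
  · -- injectivity on I
    have key : ∀ y ∈ (maximalIdeal R ^ n).comap p * (maximalIdeal R).comap p,
        ∃ a : Fin r → E, (∀ i, p (a i) ∈ maximalIdeal R ^ n) ∧ y = ∑ i, a i * xt i := by
      intro y hy
      refine Submodule.mul_induction_on hy ?_ ?_
      · intro b hb y' hy'
        rw [Ideal.mem_comap] at hb hy'
        rw [← hx] at hy'
        obtain ⟨c, hc⟩ := (Ideal.mem_span_range_iff_exists_fun (R := R)).mp hy'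
        refine ⟨fun i => b * s (c i), fun i => ?_, ?_⟩
        · rw [map_mul]; exact Ideal.mul_mem_right _ _ hb
        · have h0 : b * (y' - ∑ i, s (c i) * xt i) = 0 := by
            refine hkill _ _ (Ideal.pow_le_self (by omega) hb) ?_
            rw [map_sub, map_sum, ← hc, sub_eq_zero]
            refine Finset.sum_congr rfl fun i _ => ?_
            rw [map_mul, hs, hxt]
          have h1 : b * ∑ i, s (c i) * xt i = ∑ i, b * s (c i) * xt i := by
            simp only [Finset.mul_sum, mul_assoc]
          rw [← h1]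
          linear_combination h0
      · rintro y₁ y₂ ⟨a₁, h₁, rfl⟩ ⟨a₂, h₂, rfl⟩
        refine ⟨fun i => a₁ i + a₂ i, fun i => ?_, ?_⟩
        · rw [map_add]; exact Ideal.add_mem _ (h₁ i) (h₂ i)
        · simp only [add_mul, Finset.sum_add_distrib]
    intro y hy hpy
    obtain ⟨a, ha, rfl⟩ := key y hy
    rw [L1]
    apply hvan
    apply hAR _ ha
    rw [← hpϑ, ← L1, hpy]
  · rw [Ideal.map_mul, Ideal.map_comap_of_surjective p hp, Ideal.map_comap_of_surjective p hp,
      pow_succ]

end helpers


/-- Let k be an algebraically closed field, Λ a complete local Noetherian k-algebra with residue field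
k, and R a local Noetherian Λ-algebra with local structure map, residue field k and maximal ideal m.
Then for some n the pull-back map o((R/m^(n+1))/Λ) → o(R/Λ) on obstruction spaces is onto: every
Λ-extension 0 → k → E → R → 0 of R by its residue field is the inverse image of a Λ-extension of
R/m^(n+1) by k. Concretely, the middle ring E of every such extension contains an ideal I which
meets the kernel k only in 0 and whose image in R is exactly m^(n+1) (then E/I is an extension of
R/m^(n+1) by k whose inverse image along R → R/m^(n+1) is E). -/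
theorem result
    {k : Type u} [Field k] [IsAlgClosed k]
    {Λ : Type u} [CommRing Λ] [Algebra k Λ] [IsLocalRing Λ] [IsNoetherianRing Λ]
    [IsAdicComplete (IsLocalRing.maximalIdeal Λ) Λ]
    (hΛ : ∀ a : Λ, ∃ c : k, a - algebraMap k Λ c ∈ IsLocalRing.maximalIdeal Λ)
    {R : Type u} [CommRing R] [Algebra Λ R] [IsLocalRing R] [IsNoetherianRing R]
    [IsLocalHom (algebraMap Λ R)]
    (hR : ∀ r : R, ∃ c : k, r - algebraMap Λ R (algebraMap k Λ c) ∈ IsLocalRing.maximalIdeal R) :
    ∃ n : ℕ, ∀ X : Exal.Ext Λ R (IsLocalRing.ResidueField R),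
      ∃ I : Ideal X.E, (∀ x ∈ I, X.proj x = 0 → x = 0) ∧
        Ideal.map X.proj I = IsLocalRing.maximalIdeal R ^ (n + 1) := by
  classical
  obtain ⟨r, x, hx⟩ := Submodule.fg_iff_exists_fin_generating_family.mp
    ((isNoetherianRing_iff_ideal_fg R).mp inferInstance (IsLocalRing.maximalIdeal R))
  obtain ⟨k, hk⟩ := exists_AR x
  refine ⟨k + 1, fun X => ?_⟩
  have hkill : ∀ y κ : X.E, X.proj.toRingHom y ∈ IsLocalRing.maximalIdeal R →
      X.proj.toRingHom κ = 0 → y * κ = 0 := by
    intro y κ hy hκ
    obtain ⟨z, rfl⟩ := (X.isExtension.exact κ).mp hκ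
    rw [X.isExtension.mul_incl]
    have : X.proj y • z = 0 := by
      have hy' : X.proj y ∈ IsLocalRing.maximalIdeal R := hy
      rw [Algebra.smul_def, IsLocalRing.ResidueField.algebraMap_eq,
        (IsLocalRing.residue_eq_zero_iff _).mpr hy', zero_mul]
    rw [this, map_zero]
  exact core X.proj.toRingHom X.isExtension.proj_surjective hkill x hx (k + 1) (by omega)
    (hk (k + 1) (by omega))

end Groth.Agent.S11282
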