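import Mathlib
import Groth.Statements.S11283
import Groth.Agent.Lib.ExtCompletion
import Groth.Agent.Lib.AdicNoeth

set_option autoImplicit false
universe u
open Deform

namespace Groth.Agent.S11283

/-- Let k be an algebraically closed field, Λ a complete local Noetherian k-algebra with residue field
k, R a local Noetherian Λ-algebra with local structure map and residue field k, and R̂ the
completion of R at its maximal ideal. Let L be a simple R-module (a one-dimensional k-vector space
on which R acts through its residue field) carrying a compatible R̂-module structure. Then inverse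
image of Λ-extensions along R → R̂ induces a bijection o(R̂/Λ) → o(R/Λ) on classes of Λ-extensions
by L: two Λ-extensions of R̂ by L whose inverse images over R are equivalent are equivalent, and
every Λ-extension of R by L is equivalent to the inverse image of one of R̂. -/
theorem result
    {k : Type u} [Field k] [IsAlgClosed k]
    {Λ : Type u} [CommRing Λ] [Algebra k Λ] [IsLocalRing Λ] [IsNoetherianRing Λ]
    [IsAdicComplete (IsLocalRing.maximalIdeal Λ) Λ]
    (hΛ : ∀ a : Λ, ∃ c : k, a - algebraMap k Λ c ∈ IsLocalRing.maximalIdeal Λ)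
    {R : Type u} [CommRing R] [Algebra Λ R] [IsLocalRing R] [IsNoetherianRing R]
    [IsLocalHom (algebraMap Λ R)]
    (hR : ∀ r : R, ∃ c : k, r - algebraMap Λ R (algebraMap k Λ c) ∈ IsLocalRing.maximalIdeal R)
    (L : Type u) [AddCommGroup L] [Module (AdicCompletion (IsLocalRing.maximalIdeal R) R) L] [Module R L]
    [IsScalarTower R (AdicCompletion (IsLocalRing.maximalIdeal R) R) L] [IsSimpleModule R L] :
    (∀ X X' : Exal.Ext Λ (AdicCompletion (IsLocalRing.maximalIdeal R) R) L,
        Nonempty ((X.pullback R).Equiv (X'.pullback R)) → Nonempty (X.Equiv X')) ∧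
    (∀ Y : Exal.Ext Λ R L, ∃ X : Exal.Ext Λ (AdicCompletion (IsLocalRing.maximalIdeal R) R) L,
        Nonempty ((X.pullback R).Equiv Y)) := by
  classical
  have fg : (IsLocalRing.maximalIdeal R).FG := (IsLocalRing.maximalIdeal R).fg_of_isNoetherianRing
  have : IsNoetherianRing (AdicCompletion (IsLocalRing.maximalIdeal R) R) :=
    Groth.Agent.Lib.AdicNoeth.isNoetherianRing_adicCompletion _
  have hmem : ∀ (n : ℕ) (x : AdicCompletion (IsLocalRing.maximalIdeal R) R),
      x ∈ IsLocalRing.maximalIdeal (AdicCompletion (IsLocalRing.maximalIdeal R) R) ^ n ↔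
        AdicCompletion.evalₐ (IsLocalRing.maximalIdeal R) n x = 0 := by
    intro n x
    rw [AdicCompletion.maximalIdeal_eq_map, ← Ideal.map_pow, ← Submodule.restrictScalars_mem R,
      ← Ideal.smul_top_eq_map, AdicCompletion.pow_smul_top_eq_ker_eval fg, LinearMap.mem_ker]
    have h : (IsLocalRing.maximalIdeal R ^ n • ⊤ : Ideal R) = IsLocalRing.maximalIdeal R ^ n := by
      ext x; simp
    constructor
    · intro hx
      rw [← AdicCompletion.factor_eval_eq_evalₐ _ x h.le, hx, map_zero]
    · intro hx
      rw [← AdicCompletion.factor_evalₐ_eq_eval _ x h.ge, hx, map_zero]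
  have H1 : ∀ (n : ℕ) (b : AdicCompletion (IsLocalRing.maximalIdeal R) R),
      ∃ r : R, b - algebraMap R _ r ∈
        IsLocalRing.maximalIdeal (AdicCompletion (IsLocalRing.maximalIdeal R) R) ^ n := by
    intro n b
    obtain ⟨r, hr⟩ := Ideal.Quotient.mk_surjective
      (AdicCompletion.evalₐ (IsLocalRing.maximalIdeal R) n b)
    refine ⟨r, ?_⟩
    rw [hmem, map_sub, AdicCompletion.algebraMap_apply, Algebra.algebraMap_self_apply,
      AdicCompletion.evalₐ_of, hr, sub_self]
  have H2 : ∀ (n : ℕ) (r : R), algebraMap R (AdicCompletion (IsLocalRing.maximalIdeal R) R) r ∈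
      IsLocalRing.maximalIdeal (AdicCompletion (IsLocalRing.maximalIdeal R) R) ^ n →
        r ∈ IsLocalRing.maximalIdeal R ^ n := by
    intro n r hr
    rw [hmem, AdicCompletion.algebraMap_apply, Algebra.algebraMap_self_apply,
      AdicCompletion.evalₐ_of, Ideal.Quotient.eq_zero_iff_mem] at hr
    exact hr
  refine ⟨fun X X' ⟨θ⟩ => ?_, fun Y => ?_⟩
  · exact Groth.Agent.Lib.ExtCompletion.pullback_equiv_reflect X X' θ H1 H2
  · exact Groth.Agent.Lib.ExtCompletion.exists_pullback_equiv H1 H2 Y

end Groth.Agent.S11283
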