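import Mathlib
import Groth.Statements.S11285
import Groth.Prelude.Def_Exal

set_option autoImplicit false
universe u
open Deform

namespace Groth.Agent.S11285

set_option linter.unusedSectionVars false
set_option linter.style.haveILetI false
open TensorProduct KaehlerDifferential Algebra


attribute [local instance] Exal.opModule Exal.isCentralScalar_opModule

section

variable {A B : Type u} [CommRing A] [CommRing B] [Algebra A B]
  {N : Type u} [AddCommGroup N] [Module B N] (q : N →ₗ[B] Ω[B⁄A])

/-- the subring `{(b, n) | D b = q n}` of `B ⊕ N`. -/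
def ES : Subring (TrivSqZeroExt B N) where
  carrier := {x | D A B x.fst = q x.snd}
  mul_mem' := by
    intro x y hx hy
    simp only [Set.mem_ofPred_eq] at hx hy ⊢
    rw [TrivSqZeroExt.fst_mul, TrivSqZeroExt.snd_mul, Derivation.leibniz, map_add, map_smul,
      op_smul_eq_smul, map_smul, hx, hy, add_comm]
  one_mem' := by simp
  add_mem' := by
    intro x y hx hy
    simp only [Set.mem_ofPred_eq] at hx hy ⊢
    rw [TrivSqZeroExt.fst_add, TrivSqZeroExt.snd_add, map_add, map_add, hx, hy]
  zero_mem' := by simp
  neg_mem' := by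
    intro x hx
    simp only [Set.mem_ofPred_eq] at hx ⊢
    rw [TrivSqZeroExt.fst_neg, TrivSqZeroExt.snd_neg, map_neg, map_neg, hx]

theorem mem_ES (x : TrivSqZeroExt B N) : x ∈ ES q ↔ D A B x.fst = q x.snd := Iff.rfl

/-- the structure map `A → ES`. -/
def algMap : A →+* ES q where
  toFun a := ⟨TrivSqZeroExt.inl (algebraMap A B a), by simp [mem_ES]⟩
  map_one' := by ext <;> simp
  map_mul' a b := by
    apply Subtype.ext
    simp [TrivSqZeroExt.inl_mul]
  map_zero' := by ext <;> simp
  map_add' a b := by
    apply Subtype.ext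
    simp [TrivSqZeroExt.inl_add]

instance : Algebra A (ES q) := (algMap q).toAlgebra

theorem algebraMap_ES_val (a : A) :
    ((algebraMap A (ES q) a : ES q) : TrivSqZeroExt B N) = TrivSqZeroExt.inl (algebraMap A B a) := rfl

/-- the projection `ES → B`. -/
def proj : ES q →ₐ[A] B where
  toFun x := x.1.fst
  map_one' := rfl
  map_mul' x y := by simp
  map_zero' := rfl
  map_add' x y := by simp
  commutes' a := by
    change (TrivSqZeroExt.inl (algebraMap A B a) : TrivSqZeroExt B N).fst = _
    simp

theorem proj_surjective (hq : Function.Surjective q) : Function.Surjective (proj q) := by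
  intro b
  obtain ⟨n, hn⟩ := hq (D A B b)
  refine ⟨⟨TrivSqZeroExt.inl b + TrivSqZeroExt.inr n, by simp [mem_ES, hn]⟩, ?_⟩
  change (TrivSqZeroExt.inl b + TrivSqZeroExt.inr n : TrivSqZeroExt B N).fst = b
  simp


variable (hq : Function.Surjective q)

/-- the extension `ES → B`. -/
noncomputable def PE : Extension.{u} A B := Extension.ofSurjective (proj q) (proj_surjective q hq)

theorem algebraMap_PE (e : (PE q hq).Ring) : algebraMap (PE q hq).Ring B e = proj q e := rfl

theorem mem_ker_PE (e : (PE q hq).Ring) : e ∈ (PE q hq).ker ↔ (e : ES q).1.fst = 0 := Iff.rfl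

theorem mul_eq_zero_of_mem_ker (x y : (PE q hq).Ring) (hx : x ∈ (PE q hq).ker)
    (hy : y ∈ (PE q hq).ker) : x * y = 0 := by
  rw [mem_ker_PE] at hx hy
  apply Subtype.ext
  apply TrivSqZeroExt.ext
  · change (x : ES q).1.fst * (y : ES q).1.fst = 0
    rw [hx, zero_mul]
  · change (x : ES q).1.fst • (y : ES q).1.snd + MulOpposite.op (y : ES q).1.fst • (x : ES q).1.snd = 0
    rw [hx, hy, zero_smul, MulOpposite.op_zero, zero_smul, add_zero]

theorem ker_sq : (PE q hq).ker ^ 2 = ⊥ := by
  rw [eq_bot_iff, pow_two, Ideal.mul_le]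
  intro x hx y hy
  exact mul_eq_zero_of_mem_ker q hq x y hx hy

section Deriv

variable [Module A N] [IsScalarTower A B N] [Module (PE q hq).Ring N]
  [IsScalarTower (PE q hq).Ring B N] [IsScalarTower A (PE q hq).Ring N]

theorem smul_PE (e : (PE q hq).Ring) (n : N) : e • n = (proj q e) • n := by
  rw [← algebraMap_PE q hq, algebraMap_smul]

/-- the derivation `(b, n) ↦ n`. -/
noncomputable def dN : Derivation A (PE q hq).Ring N :=
  Derivation.mk'
    { toFun := fun e => (e : ES q).1.snd
      map_add' := fun e e' => rfl
      map_smul' := fun a e => by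
        rw [Algebra.smul_def]
        change ((algebraMap A (ES q) a : ES q).1 * (e : ES q).1).snd = a • (e : ES q).1.snd
        rw [algebraMap_ES_val, TrivSqZeroExt.snd_mul, TrivSqZeroExt.snd_inl, TrivSqZeroExt.fst_inl,
          smul_zero, add_zero, algebraMap_smul] }
    (fun e e' => by
      change ((e : ES q).1 * (e' : ES q).1).snd = e • (e' : ES q).1.snd + e' • (e : ES q).1.snd
      rw [TrivSqZeroExt.snd_mul, op_smul_eq_smul, smul_PE, smul_PE]
      rfl)

theorem dN_apply (e : (PE q hq).Ring) : dN q hq e = (e : ES q).1.snd := rfl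

/-- the comparison map `B ⊗ Ω_{E/A} → N`. -/
noncomputable def Psi : (PE q hq).CotangentSpace →ₗ[B] N :=
  LinearMap.liftBaseChange B (dN q hq).liftKaehlerDifferential

theorem Psi_tmul_D (b : B) (e : (PE q hq).Ring) :
    Psi q hq (b ⊗ₜ[(PE q hq).Ring] D A (PE q hq).Ring e) = b • (e : ES q).1.snd := by
  rw [Psi, LinearMap.liftBaseChange_tmul, Derivation.liftKaehlerDifferential_comp_D, dN_apply]

theorem q_Psi (y : (PE q hq).CotangentSpace) : q (Psi q hq y) = (PE q hq).toKaehler y := by
  induction y using TensorProduct.induction_on with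
  | zero => simp
  | add x y hx hy => rw [map_add, map_add, map_add, hx, hy]
  | tmul b w =>
    have hw : w ∈ Submodule.span (PE q hq).Ring (Set.range (D A (PE q hq).Ring)) := by
      rw [KaehlerDifferential.span_range_derivation]; trivial
    induction hw using Submodule.span_induction generalizing b with
    | mem w hw =>
      obtain ⟨e, rfl⟩ := hw
      rw [Psi_tmul_D, map_smul, Extension.toKaehler, KaehlerDifferential.mapBaseChange_tmul,
        KaehlerDifferential.map_D, algebraMap_PE]
      congr 1
      exact ((mem_ES q _).mp (e : ES q).2).symm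
    | zero => simp
    | add x y _ _ hx hy => rw [tmul_add, map_add, map_add, map_add, hx, hy]
    | smul e w _ hw => rw [← smul_tmul]; exact hw _


variable {M : Type u} [AddCommGroup M] [Module B M] (i : M →ₗ[B] N) (hex : Function.Exact i q)

include hex in
theorem inr_mem_ES (m : M) : (TrivSqZeroExt.inr (i m) : TrivSqZeroExt B N) ∈ ES q := by
  rw [mem_ES, TrivSqZeroExt.fst_inr, TrivSqZeroExt.snd_inr, map_zero, hex.apply_apply_eq_zero]

/-- the element `(0, i m)` of the ring. -/
def kerRing (m : M) : (PE q hq).Ring := (⟨TrivSqZeroExt.inr (i m), inr_mem_ES q i hex m⟩ : ES q)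

/-- the element `(0, i m)` of the kernel. -/
def kerElt (m : M) : (PE q hq).ker :=
  ⟨kerRing q hq i hex m, (mem_ker_PE q hq _).mpr (TrivSqZeroExt.fst_inr _ _)⟩

theorem kerElt_val (m : M) :
    (((kerElt q hq i hex m : (PE q hq).ker) : (PE q hq).Ring) : ES q).1 = TrivSqZeroExt.inr (i m) :=
  rfl

/-- `M → I/I²`. -/
noncomputable def phi : M →ₗ[B] (PE q hq).Cotangent where
  toFun m := Extension.Cotangent.mk (kerElt q hq i hex m)
  map_add' m m' := by
    rw [← map_add]
    congr 1
    apply Subtype.ext; apply Subtype.ext
    change TrivSqZeroExt.inr (i (m + m')) = TrivSqZeroExt.inr (i m) + TrivSqZeroExt.inr (i m')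
    rw [map_add, TrivSqZeroExt.inr_add]
  map_smul' b m := by
    obtain ⟨e, rfl⟩ := (PE q hq).algebraMap_surjective b
    rw [RingHom.id_apply]
    conv_rhs => rw [algebraMap_smul, ← map_smul]
    congr 1
    apply Subtype.ext; apply Subtype.ext
    change TrivSqZeroExt.inr (i (proj q e • m)) = (e : ES q).1 * TrivSqZeroExt.inr (i m)
    apply TrivSqZeroExt.ext
    · simp
    · rw [TrivSqZeroExt.snd_mul, TrivSqZeroExt.snd_inr, TrivSqZeroExt.fst_inr, map_smul,
        MulOpposite.op_zero, zero_smul, add_zero]
      rfl

theorem phi_apply (m : M) : phi q hq i hex m = Extension.Cotangent.mk (kerElt q hq i hex m) := rfl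

theorem phi_injective (hi : Function.Injective i) : Function.Injective (phi q hq i hex) := by
  rw [injective_iff_map_eq_zero]
  intro m hm
  rw [phi_apply, Extension.Cotangent.mk_eq_zero_iff, ker_sq, Ideal.mem_bot] at hm
  have h1 : (TrivSqZeroExt.inr (i m) : TrivSqZeroExt B N) = 0 :=
    congrArg (fun e : (PE q hq).Ring => (e : ES q).1) hm
  have h2 : i m = 0 := by
    have := congrArg TrivSqZeroExt.snd h1
    simpa using this
  exact hi (h2.trans (map_zero i).symm)

theorem phi_surjective : Function.Surjective (phi q hq i hex) := by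
  intro y
  obtain ⟨x, rfl⟩ := Extension.Cotangent.mk_surjective y
  have hx0 : ((x : (PE q hq).Ring) : ES q).1.fst = 0 := (mem_ker_PE q hq _).mp x.2
  have hx1 : q ((x : (PE q hq).Ring) : ES q).1.snd = 0 := by
    rw [← (mem_ES q _).mp ((x : (PE q hq).Ring) : ES q).2, hx0, map_zero]
  obtain ⟨m, hm⟩ := (hex _).mp hx1
  refine ⟨m, ?_⟩
  rw [phi_apply]
  congr 1
  apply Subtype.ext; apply Subtype.ext
  change TrivSqZeroExt.inr (i m) = ((x : (PE q hq).Ring) : ES q).1
  apply TrivSqZeroExt.ext
  · rw [TrivSqZeroExt.fst_inr, hx0]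
  · rw [TrivSqZeroExt.snd_inr, hm]

theorem Psi_cotangentComplex_phi (m : M) :
    Psi q hq ((PE q hq).cotangentComplex (phi q hq i hex m)) = i m := by
  rw [phi_apply, Extension.cotangentComplex_mk, Psi_tmul_D, one_smul, kerElt_val,
    TrivSqZeroExt.snd_inr]

include hex in
theorem Psi_bijective (hi : Function.Injective i) : Function.Bijective (Psi q hq) := by
  constructor
  · rw [injective_iff_map_eq_zero]
    intro y hy
    have h1 : (PE q hq).toKaehler y = 0 := by rw [← q_Psi, hy, map_zero]
    obtain ⟨z, rfl⟩ := ((PE q hq).exact_cotangentComplex_toKaehler y).mp h1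
    obtain ⟨m, rfl⟩ := phi_surjective q hq i hex z
    rw [Psi_cotangentComplex_phi] at hy
    have : m = 0 := hi (hy.trans (map_zero i).symm)
    rw [this, map_zero, map_zero]
  · intro n
    obtain ⟨y, hy⟩ := (PE q hq).toKaehler_surjective (q n)
    have h1 : q (n - Psi q hq y) = 0 := by rw [map_sub, q_Psi, hy, sub_self]
    obtain ⟨m, hm⟩ := (hex _).mp h1
    refine ⟨y + (PE q hq).cotangentComplex (phi q hq i hex m), ?_⟩
    rw [map_add, Psi_cotangentComplex_phi, hm]
    abel

end Deriv

end



/-- Let k be an algebraically closed field and A → B a map of finitely generated k-algebras with B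
reduced and smooth over A at every minimal prime of B (the morphism Spec B → Spec A is smooth on a
dense open subset). Let M be a finitely generated projective B-module and 0 → M → N → Ω_{B/A} → 0 an
exact sequence of B-modules (i injective, q surjective, image of i = kernel of q). Then there is an
A-algebra extension E → B with square-zero kernel, together with a B-linear identification of its
kernel with M and a B-linear isomorphism of B ⊗_E Ω_{E/A} with N, carrying the conormal map of the
extension to i and q to the canonical map B ⊗_E Ω_{E/A} → Ω_{B/A}. Together with the injectivity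
statement for such conormal sequences this is the surjectivity half of the identification of Ex_A(B,
M) with Ext^1_B(Ω_{B/A}, M); affine case of the statement for algebraic schemes. The module N ranges
over the universe of B. -/
theorem result
    {k : Type u} [Field k] [IsAlgClosed k]
    {A B : Type u} [CommRing A] [CommRing B] [Algebra k A] [Algebra k B] [Algebra A B]
    [IsScalarTower k A B] [Algebra.FiniteType k A] [Algebra.FiniteType k B] [IsReduced B]
    (hsm : ∀ p : PrimeSpectrum B, p.asIdeal ∈ minimalPrimes B → Algebra.IsSmoothAt A p.asIdeal)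
    (M N : Type u) [AddCommGroup M] [Module B M] [Module.Finite B M] [Module.Projective B M]
    [AddCommGroup N] [Module B N]
    (i : M →ₗ[B] N) (q : N →ₗ[B] Ω[B⁄A]) (hi : Function.Injective i) (hq : Function.Surjective q)
    (hex : Function.Exact i q) :
    ∃ P : Algebra.Extension.{u} A B, P.ker ^ 2 = ⊥ ∧
      ∃ (e₁ : P.Cotangent ≃ₗ[B] M) (e₂ : P.CotangentSpace ≃ₗ[B] N),
        (∀ x, e₂ (P.cotangentComplex x) = i (e₁ x)) ∧ (∀ y, q (e₂ y) = P.toKaehler y) := by
  letI : Module A N := Module.compHom N (algebraMap A B)
  haveI : IsScalarTower A B N := ⟨fun a b n => by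
    change (a • b) • n = algebraMap A B a • (b • n)
    rw [Algebra.smul_def, mul_smul]⟩
  letI : Module (PE q hq).Ring N :=
    Module.compHom N ((proj q : ES q →ₐ[A] B) : ES q →+* B)
  haveI : IsScalarTower (PE q hq).Ring B N := ⟨fun e b n => by
    change (e • b) • n = proj q e • (b • n)
    rw [Algebra.smul_def, mul_smul]
    rfl⟩
  haveI : IsScalarTower A (PE q hq).Ring N := ⟨fun a e n => by
    change proj q ((a • e : (PE q hq).Ring) : ES q) • n = algebraMap A B a • (proj q e • n)
    have h1 : proj q ((a • e : (PE q hq).Ring) : ES q) = algebraMap A B a * proj q e := by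
      have : (a • e : (PE q hq).Ring) = algebraMap A (PE q hq).Ring a * e := Algebra.smul_def a e
      rw [this]
      change proj q ((algebraMap A (ES q) a : ES q) * (show ES q from e)) = _
      rw [map_mul, AlgHom.commutes]
    rw [h1, mul_smul]⟩
  refine ⟨PE q hq, ker_sq q hq,
    (LinearEquiv.ofBijective (phi q hq i hex)
      ⟨phi_injective q hq i hex hi, phi_surjective q hq i hex⟩).symm,
    LinearEquiv.ofBijective (Psi q hq) (Psi_bijective q hq i hex hi), ?_, ?_⟩
  · intro x
    obtain ⟨m, rfl⟩ := phi_surjective q hq i hex x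
    rw [LinearEquiv.ofBijective_apply, Psi_cotangentComplex_phi]
    congr 1
    exact ((LinearEquiv.ofBijective (phi q hq i hex)
      ⟨phi_injective q hq i hex hi, phi_surjective q hq i hex⟩).symm_apply_apply m).symm
  · intro y
    rw [LinearEquiv.ofBijective_apply, q_Psi]

end Groth.Agent.S11285
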