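import Mathlib
import Groth.Statements.S11286
import Groth.Agent.S11284

set_option autoImplicit false
universe u
open Deform

namespace Groth.Agent.S11286

set_option linter.unusedSectionVars false
set_option linter.style.haveILetI false
open TensorProduct KaehlerDifferential Algebra


section

variable {A B : Type u} [CommRing A] [CommRing B] [Algebra A B] (P : Extension.{u} A B)

/-- `e ↦ 1 ⊗ de`. -/
noncomputable def dl (e : P.Ring) : P.CotangentSpace := (1 : B) ⊗ₜ[P.Ring] D A P.Ring e

theorem dl_add (e e' : P.Ring) : dl P (e + e') = dl P e + dl P e' := by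
  simp [dl, tmul_add]

theorem dl_mul (e e' : P.Ring) :
    dl P (e * e') = algebraMap P.Ring B e • dl P e' + algebraMap P.Ring B e' • dl P e := by
  simp only [dl, Derivation.leibniz, tmul_add, tmul_smul, algebraMap_smul]

theorem dl_algebraMap (a : A) : dl P (algebraMap A P.Ring a) = 0 := by
  simp [dl]

theorem dl_one : dl P 1 = 0 := by
  simp [dl]

theorem dl_zero : dl P 0 = 0 := by
  simp [dl]

theorem dl_sub (e e' : P.Ring) : dl P (e - e') = dl P e - dl P e' := by
  simp [dl, tmul_sub]

theorem toKaehler_dl (e : P.Ring) : P.toKaehler (dl P e) = D A B (algebraMap P.Ring B e) := by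
  simp [dl, Extension.toKaehler]

theorem cotangentComplex_mk' (x : P.ker) : P.cotangentComplex (.mk x) = dl P x :=
  Extension.cotangentComplex_mk P x

/-- existence of an element with prescribed image and differential. -/
theorem exists_of_toKaehler (b : B) (n : P.CotangentSpace) (h : P.toKaehler n = D A B b) :
    ∃ e : P.Ring, algebraMap P.Ring B e = b ∧ dl P e = n := by
  obtain ⟨e₀, he₀⟩ := P.algebraMap_surjective b
  have h1 : P.toKaehler (n - dl P e₀) = 0 := by
    rw [map_sub, h, toKaehler_dl, he₀, sub_self]
  obtain ⟨y, hy⟩ := (P.exact_cotangentComplex_toKaehler _).mp h1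
  obtain ⟨x, rfl⟩ := Extension.Cotangent.mk_surjective y
  refine ⟨e₀ + x, ?_, ?_⟩
  · rw [map_add, he₀]
    have : algebraMap P.Ring B x = 0 := x.2
    rw [this, add_zero]
  · rw [dl_add, ← cotangentComplex_mk', hy]; abel

/-- uniqueness when the conormal map is injective and the kernel has square zero. -/
theorem eq_of_dl_eq (hsq : P.ker ^ 2 = ⊥) (hinj : Function.Injective P.cotangentComplex)
    (e e' : P.Ring) (h1 : algebraMap P.Ring B e = algebraMap P.Ring B e')
    (h2 : dl P e = dl P e') : e = e' := by
  have hx : e - e' ∈ P.ker := by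
    change algebraMap P.Ring B (e - e') = 0
    rw [map_sub, h1, sub_self]
  have h3 : P.cotangentComplex (.mk ⟨e - e', hx⟩) = 0 := by
    rw [cotangentComplex_mk']
    change dl P (e - e') = 0
    rw [dl_sub, h2, sub_self]
  have h4 := hinj (h3.trans (map_zero _).symm)
  rw [Extension.Cotangent.mk_eq_zero_iff, hsq] at h4
  exact sub_eq_zero.mp h4

end

section Main

variable {A B : Type u} [CommRing A] [CommRing B] [Algebra A B]

theorem main (P P' : Extension.{u} A B) (hsq : P.ker ^ 2 = ⊥) (hsq' : P'.ker ^ 2 = ⊥)
    (hinj : Function.Injective P.cotangentComplex)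
    (hinj' : Function.Injective P'.cotangentComplex)
    (e₁ : P.Cotangent ≃ₗ[B] P'.Cotangent) (e₂ : P.CotangentSpace ≃ₗ[B] P'.CotangentSpace)
    (h₁ : ∀ x, e₂ (P.cotangentComplex x) = P'.cotangentComplex (e₁ x))
    (h₂ : ∀ y, P'.toKaehler (e₂ y) = P.toKaehler y) :
    ∃ f : P.Hom P', Function.Bijective f.toRingHom ∧
      Extension.Cotangent.map f = e₁.toLinearMap := by
  have hex : ∀ e : P.Ring, ∃ e' : P'.Ring,
      algebraMap P'.Ring B e' = algebraMap P.Ring B e ∧ dl P' e' = e₂ (dl P e) :=
    fun e => exists_of_toKaehler P' _ _ (by rw [h₂, toKaehler_dl])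
  choose g hg1 hg2 using hex
  have huniq := eq_of_dl_eq P' hsq' hinj'
  let gr : P.Ring →+* P'.Ring :=
    { toFun := g
      map_one' := by
        apply huniq
        · rw [hg1, map_one, map_one]
        · rw [hg2, dl_one, dl_one, map_zero]
      map_mul' := fun a b => by
        apply huniq
        · rw [hg1, map_mul, map_mul, hg1, hg1]
        · rw [hg2, dl_mul, dl_mul, map_add, map_smul, map_smul, hg2, hg2, hg1, hg1]
      map_zero' := by
        apply huniq
        · rw [hg1, map_zero, map_zero]
        · rw [hg2, dl_zero, dl_zero, map_zero]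
      map_add' := fun a b => by
        apply huniq
        · rw [hg1, map_add, map_add, hg1, hg1]
        · rw [hg2, dl_add, dl_add, map_add, hg2, hg2] }
  have hgr : ∀ e, gr e = g e := fun _ => rfl
  let f : P.Hom P' :=
    { toRingHom := gr
      toRingHom_algebraMap := fun a => by
        rw [hgr]
        apply huniq
        · rw [hg1, ← IsScalarTower.algebraMap_apply, ← IsScalarTower.algebraMap_apply]
          rfl
        · rw [hg2, dl_algebraMap, dl_algebraMap, map_zero]
      algebraMap_toRingHom := fun x => by
        rw [hgr, hg1]; rfl }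
  refine ⟨f, ⟨?_, ?_⟩, ?_⟩
  · rw [injective_iff_map_eq_zero]
    intro e he
    change g e = 0 at he
    apply eq_of_dl_eq P hsq hinj
    · rw [← hg1, he, map_zero, map_zero]
    · apply e₂.injective
      rw [← hg2, he, dl_zero, dl_zero, map_zero]
  · intro e'
    obtain ⟨e, he1, he2⟩ := exists_of_toKaehler P (algebraMap P'.Ring B e') (e₂.symm (dl P' e'))
      (by rw [← h₂, e₂.apply_symm_apply, toKaehler_dl])
    refine ⟨e, ?_⟩
    change g e = e'
    apply huniq
    · rw [hg1, he1]
    · rw [hg2, he2, e₂.apply_symm_apply]
  · refine LinearMap.ext fun y => ?_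
    obtain ⟨x, rfl⟩ := Extension.Cotangent.mk_surjective y
    apply hinj'
    rw [LinearEquiv.coe_coe, ← h₁, Extension.Cotangent.map_mk, cotangentComplex_mk',
      cotangentComplex_mk']
    exact hg2 x

end Main



/-- Let k be an algebraically closed field and A → B a map of finitely generated k-algebras with B
reduced and smooth over A at every minimal prime of B (the morphism Spec B → Spec A is smooth on a
dense open subset). Let E → B and E' → B be two A-algebra extensions with square-zero kernels I, I',
where I is a finitely generated projective B-module, and suppose their relative conormal sequences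
are isomorphic as extensions of Ω_{B/A}: there are B-linear isomorphisms I ≅ I' and B ⊗_E Ω_{E/A} ≅
B ⊗_{E'} Ω_{E'/A} commuting with the conormal maps and with the canonical maps to Ω_{B/A}. Then
there is a homomorphism of extensions E → E' (a ring map over A and over B) which is bijective and
induces the given isomorphism I ≅ I'. This is the injectivity half of the identification of Ex_A(B,
M) with Ext^1_B(Ω_{B/A}, M); affine case of the statement for algebraic schemes. -/
theorem result
    {k : Type u} [Field k] [IsAlgClosed k]
    {A B : Type u} [CommRing A] [CommRing B] [Algebra k A] [Algebra k B] [Algebra A B]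
    [IsScalarTower k A B] [Algebra.FiniteType k A] [Algebra.FiniteType k B] [IsReduced B]
    (hsm : ∀ p : PrimeSpectrum B, p.asIdeal ∈ minimalPrimes B → Algebra.IsSmoothAt A p.asIdeal)
    (P P' : Algebra.Extension.{u} A B) (hsq : P.ker ^ 2 = ⊥) (hsq' : P'.ker ^ 2 = ⊥)
    [Module.Finite B P.Cotangent] [Module.Projective B P.Cotangent]
    (e₁ : P.Cotangent ≃ₗ[B] P'.Cotangent) (e₂ : P.CotangentSpace ≃ₗ[B] P'.CotangentSpace)
    (h₁ : ∀ x, e₂ (P.cotangentComplex x) = P'.cotangentComplex (e₁ x))
    (h₂ : ∀ y, P'.toKaehler (e₂ y) = P.toKaehler y) :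
    ∃ f : P.Hom P', Function.Bijective f.toRingHom ∧
      Algebra.Extension.Cotangent.map f = e₁.toLinearMap := by
  haveI : Module.Finite B P'.Cotangent := Module.Finite.equiv e₁
  haveI : Module.Projective B P'.Cotangent := Module.Projective.of_equiv e₁
  have hinj : Function.Injective P.cotangentComplex := Groth.Agent.S11284.result (k := k) hsm P hsq
  have hinj' : Function.Injective P'.cotangentComplex := Groth.Agent.S11284.result (k := k) hsm P' hsq'
  exact main P P' hsq hsq' hinj hinj' e₁ e₂ h₁ h₂

end Groth.Agent.S11286
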