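import Mathlib
import Groth.Statements.S11287
import Groth.Agent.Lib.ExtComplete
import Groth.Agent.Lib.H59PowerSeriesCRing2
import Groth.Agent.Lib.H59SchlessCRingQuot

set_option autoImplicit false
universe u
open Deform

namespace Groth.Agent.S11287

/-- Let k be an algebraically closed field, Λ a complete local Noetherian k-algebra with residue field
k, P = Λ[[X_1, …, X_d]] the power series ring, J an ideal of P contained in (X_1, …, X_d)^2, R =
P/J, and L a simple R-module (a copy of the residue field k). Then: (a) for every Λ-extension 0 → L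
→ E → R → 0 the quotient map P → R lifts to a Λ-algebra map u : P → E; (b) for two such extensions
E, E' with lifts u, u', the extensions are equivalent if and only if u and u' send every element of
J to the images of the same element of L (the restrictions J → L of the lifts agree); (c) every
P-linear map J → L is the restriction of a lift for some extension. Thus the classes of Λ-extensions
of R by L correspond bijectively to Hom_P(J, L), the dual of J/m_P J; this is the identification of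
the obstruction space o(R/Λ) for a complete R (the general case reduces to it by passing to the
completion). -/
theorem result
    {k : Type u} [Field k] [IsAlgClosed k]
    {Λ : Type u} [CommRing Λ] [Algebra k Λ] [IsLocalRing Λ] [IsNoetherianRing Λ]
    [IsAdicComplete (IsLocalRing.maximalIdeal Λ) Λ]
    (hΛ : ∀ a : Λ, ∃ c : k, a - algebraMap k Λ c ∈ IsLocalRing.maximalIdeal Λ)
    (d : ℕ) (J : Ideal (MvPowerSeries (Fin d) Λ))
    (hJ : J ≤ Ideal.span (Set.range (MvPowerSeries.X : Fin d → MvPowerSeries (Fin d) Λ)) ^ 2)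
    (L : Type u) [AddCommGroup L] [Module (MvPowerSeries (Fin d) Λ ⧸ J) L] [Module (MvPowerSeries (Fin d) Λ) L]
    [IsScalarTower (MvPowerSeries (Fin d) Λ) (MvPowerSeries (Fin d) Λ ⧸ J) L] [IsSimpleModule (MvPowerSeries (Fin d) Λ ⧸ J) L] :
    (∀ X : Exal.Ext Λ (MvPowerSeries (Fin d) Λ ⧸ J) L,
        ∃ u : MvPowerSeries (Fin d) Λ →ₐ[Λ] X.E, ∀ p, X.proj (u p) = Ideal.Quotient.mk J p) ∧
    (∀ (X X' : Exal.Ext Λ (MvPowerSeries (Fin d) Λ ⧸ J) L) (u : MvPowerSeries (Fin d) Λ →ₐ[Λ] X.E) (u' : MvPowerSeries (Fin d) Λ →ₐ[Λ] X'.E),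
        (∀ p, X.proj (u p) = Ideal.Quotient.mk J p) → (∀ p, X'.proj (u' p) = Ideal.Quotient.mk J p) →
        (Nonempty (X.Equiv X') ↔ ∀ j ∈ J, ∃ z : L, X.incl z = u j ∧ X'.incl z = u' j)) ∧
    (∀ δ : J →ₗ[MvPowerSeries (Fin d) Λ] L, ∃ (X : Exal.Ext Λ (MvPowerSeries (Fin d) Λ ⧸ J) L) (u : MvPowerSeries (Fin d) Λ →ₐ[Λ] X.E),
        (∀ p, X.proj (u p) = Ideal.Quotient.mk J p) ∧ ∀ j : J, X.incl (δ j) = u j) := by
  classical
  -- the residue map `Λ → k`
  have hbij : Function.Bijective (algebraMap k (IsLocalRing.ResidueField Λ)) := by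
    refine ⟨(algebraMap k (IsLocalRing.ResidueField Λ)).injective, fun y => ?_⟩
    obtain ⟨a, rfl⟩ := IsLocalRing.residue_surjective y
    obtain ⟨c, hc⟩ := hΛ a
    refine ⟨c, ?_⟩
    rw [IsScalarTower.algebraMap_apply k Λ (IsLocalRing.ResidueField Λ)]
    symm
    rw [← sub_eq_zero]
    change IsLocalRing.residue Λ a - IsLocalRing.residue Λ (algebraMap k Λ c) = 0
    rw [← map_sub, IsLocalRing.residue_eq_zero_iff]
    exact hc
  let eκ : k ≃+* IsLocalRing.ResidueField Λ := RingEquiv.ofBijective _ hbij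
  let ρ : Λ →+* k := (eκ.symm : IsLocalRing.ResidueField Λ →+* k).comp (IsLocalRing.residue Λ)
  have hρsurj : Function.Surjective ρ := eκ.symm.surjective.comp IsLocalRing.residue_surjective
  letI : Algebra Λ k := ρ.toAlgebra
  -- coefficient rings
  let ΛC : ArtFun.CRing Λ k :=
    { carrier := Λ
      res := Algebra.ofId Λ k
      res_surjective := hρsurj
      isAdicComplete := inferInstance }
  let PC : ArtFun.CRing Λ k := Groth.Agent.Lib.H59PowerSeriesCRing.ps ΛC d
  have hXm : ∀ i, (MvPowerSeries.X i : MvPowerSeries (Fin d) Λ) ∈ IsLocalRing.maximalIdeal PC.carrier :=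
    fun i => Groth.Agent.Lib.H59PowerSeriesCRing.psX_mem_maximalIdeal ΛC d i
  have hspanm : Ideal.span (Set.range (MvPowerSeries.X : Fin d → MvPowerSeries (Fin d) Λ)) ≤
      IsLocalRing.maximalIdeal PC.carrier := by
    refine Ideal.span_le.2 ?_
    rintro _ ⟨i, rfl⟩
    exact hXm i
  have hJm : J ≤ IsLocalRing.maximalIdeal PC.carrier :=
    hJ.trans ((Ideal.pow_le_self two_ne_zero).trans hspanm)
  let RC : ArtFun.CRing Λ k := Groth.Agent.Lib.H59SchlessCRingQuot.quot PC J hJm
  haveI hlocR : IsLocalRing (MvPowerSeries (Fin d) Λ ⧸ J) := RC.isLocalRing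
  haveI hnoeR : IsNoetherianRing (MvPowerSeries (Fin d) Λ ⧸ J) := RC.isNoetherianRing
  haveI hcomR : IsAdicComplete (IsLocalRing.maximalIdeal (MvPowerSeries (Fin d) Λ ⧸ J))
      (MvPowerSeries (Fin d) Λ ⧸ J) := RC.isAdicComplete
  -- elements of `span X` act by zero on `L`
  have hmk_mem : ∀ a ∈ Ideal.span (Set.range (MvPowerSeries.X : Fin d → MvPowerSeries (Fin d) Λ)),
      Ideal.Quotient.mk J a ∈ IsLocalRing.maximalIdeal (MvPowerSeries (Fin d) Λ ⧸ J) := by
    intro a ha
    have h1 : PC.res a = 0 := (ArtFun.CRing.mem_maximalIdeal_iff PC a).1 (hspanm ha)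
    exact (ArtFun.CRing.mem_maximalIdeal_iff RC (Ideal.Quotient.mk J a)).2 h1
  have hkill : ∀ a ∈ Ideal.span (Set.range (MvPowerSeries.X : Fin d → MvPowerSeries (Fin d) Λ)),
      ∀ z : L, Ideal.Quotient.mk J a • z = 0 := fun a ha z =>
    Groth.Agent.Lib.ExtComplete.maximalIdeal_smul_eq_zero _ (hmk_mem a ha) z
  -- two lifts agree on `J`
  have hagree : ∀ (X : Exal.Ext Λ (MvPowerSeries (Fin d) Λ ⧸ J) L)
      (s s' : MvPowerSeries (Fin d) Λ →ₐ[Λ] X.E),
      (∀ p, X.proj (s p) = Ideal.Quotient.mk J p) → (∀ p, X.proj (s' p) = Ideal.Quotient.mk J p) →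
      ∀ j ∈ J, s j = s' j := by
    intro X s s' hs hs' j hj
    have hj2 := hJ hj
    rw [pow_two] at hj2
    refine Submodule.mul_induction_on hj2 ?_ ?_
    · intro a ha b hb
      have h1 : X.proj (s b - s' b) = 0 := by rw [map_sub, hs, hs', sub_self]
      have h2 : X.proj (s a - s' a) = 0 := by rw [map_sub, hs, hs', sub_self]
      obtain ⟨w, hw⟩ := (X.isExtension.exact _).1 h1
      obtain ⟨w', hw'⟩ := (X.isExtension.exact _).1 h2
      have h3 : s (a * b) - s' (a * b) = s a * (s b - s' b) + s' b * (s a - s' a) := by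
        rw [map_mul, map_mul]; ring
      rw [← sub_eq_zero, h3, ← hw, ← hw', X.isExtension.mul_incl, X.isExtension.mul_incl, hs, hs',
        hkill a ha, hkill b hb, map_zero, add_zero]
    · intro a b ha hb
      rw [map_add, map_add, ha, hb]
  -- the `Λ`-module structure on `L`
  letI : Module Λ L := Module.compHom L (algebraMap Λ (MvPowerSeries (Fin d) Λ))
  have hΛsm : ∀ (a : Λ) (z : L), a • z = algebraMap Λ (MvPowerSeries (Fin d) Λ) a • z := fun _ _ => rfl
  haveI : IsScalarTower Λ (MvPowerSeries (Fin d) Λ) L := ⟨fun a p z => by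
    have e1 : a • p = algebraMap Λ (MvPowerSeries (Fin d) Λ) a * p := Algebra.smul_def a p
    rw [e1, mul_smul]
    rfl⟩
  haveI : IsScalarTower Λ (MvPowerSeries (Fin d) Λ ⧸ J) L := ⟨fun a b z => by
    have e1 : a • b = algebraMap Λ (MvPowerSeries (Fin d) Λ ⧸ J) a * b := Algebra.smul_def a b
    have e2 : algebraMap Λ (MvPowerSeries (Fin d) Λ ⧸ J) a =
        algebraMap (MvPowerSeries (Fin d) Λ) (MvPowerSeries (Fin d) Λ ⧸ J)
          (algebraMap Λ (MvPowerSeries (Fin d) Λ) a) := rfl
    rw [e1, mul_smul, e2, algebraMap_smul]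
    rfl⟩
  have hπ : Function.Surjective (algebraMap (MvPowerSeries (Fin d) Λ) (MvPowerSeries (Fin d) Λ ⧸ J)) :=
    Ideal.Quotient.mk_surjective
  have hI : Groth.Agent.Lib.ExalY.I (MvPowerSeries (Fin d) Λ) (MvPowerSeries (Fin d) Λ ⧸ J) = J := by
    change RingHom.ker (algebraMap (MvPowerSeries (Fin d) Λ) (MvPowerSeries (Fin d) Λ ⧸ J)) = J
    rw [Ideal.Quotient.algebraMap_eq, Ideal.mk_ker]
  refine ⟨?_, ?_, ?_⟩
  · -- (a) existence of lifts
    intro X
    haveI hlocE : IsLocalRing X.E := Groth.Agent.Lib.ExtComplete.isLocalRing_E X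
    haveI hnoeL : IsNoetherian (MvPowerSeries (Fin d) Λ ⧸ J) L :=
      Groth.Agent.Lib.ExtComplete.isNoetherian_of_isSimpleModule
    haveI hnoeE : IsNoetherianRing X.E := Groth.Agent.Lib.ExtComplete.isNoetherianRing_E X
    let EC : ArtFun.CRing Λ k :=
      { carrier := X.E
        res := RC.res.comp X.proj
        res_surjective := RC.res_surjective.comp X.isExtension.proj_surjective
        isAdicComplete := Groth.Agent.Lib.ExtComplete.isAdicComplete_E X }
    have hself : ∀ (S : Type u) [CommRing S] [Algebra Λ S] (φ : Λ →ₐ[Λ] S) (a : Λ),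
        φ a = algebraMap Λ S a := by
      intro S _ _ φ a
      have := φ.commutes a
      rwa [Algebra.algebraMap_self_apply] at this
    let g : Λ →ₐ[Λ] X.E := Algebra.ofId Λ X.E
    have hg : EC.res.comp g = ΛC.res := by
      apply AlgHom.ext
      intro a
      rw [hself k (EC.res.comp g) a, hself k ΛC.res a]
    choose x hx using fun i : Fin d => X.isExtension.proj_surjective
      (Ideal.Quotient.mk J (MvPowerSeries.X i : MvPowerSeries (Fin d) Λ))
    have hxm : ∀ i, x i ∈ IsLocalRing.maximalIdeal EC.carrier := by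
      intro i
      rw [ArtFun.CRing.mem_maximalIdeal_iff]
      change RC.res (X.proj (x i)) = 0
      rw [hx i]
      exact Groth.Agent.Lib.H59PowerSeriesCRing.res_psX ΛC d i
    obtain ⟨u, hu, huC, huX⟩ :=
      Groth.Agent.Lib.H59PowerSeriesCRing.exists_hom_complete ΛC d EC g hg x hxm
    refine ⟨u, ?_⟩
    have hcomp : (X.proj.comp u : MvPowerSeries (Fin d) Λ →ₐ[Λ] MvPowerSeries (Fin d) Λ ⧸ J) =
        Groth.Agent.Lib.H59SchlessCRingQuot.quotMk PC J hJm := by
      apply Groth.Agent.Lib.H59PowerSeriesCRing.hom_ext_complete ΛC d RC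
      · exact hu
      · exact Groth.Agent.Lib.H59SchlessCRingQuot.res_comp_quotMk PC J hJm
      · exact Subsingleton.elim (α := Λ →ₐ[Λ] MvPowerSeries (Fin d) Λ ⧸ J) _ _
      · intro i
        change X.proj (u (Groth.Agent.Lib.H59PowerSeriesCRing.psX ΛC d i)) = _
        rw [huX i, hx i]
        rfl
    intro p
    exact DFunLike.congr_fun hcomp p
  · -- (b) equivalence iff same restriction
    intro X X' u u' hu hu'
    have hu2 : ∀ r, X.proj (u r) =
        algebraMap (MvPowerSeries (Fin d) Λ) (MvPowerSeries (Fin d) Λ ⧸ J) r := hu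
    have hu2' : ∀ r, X'.proj (u' r) =
        algebraMap (MvPowerSeries (Fin d) Λ) (MvPowerSeries (Fin d) Λ ⧸ J) r := hu'
    constructor
    · rintro ⟨e⟩ j hj
      have h0 : X.proj (u j) = 0 := by
        rw [hu, Ideal.Quotient.eq_zero_iff_mem]
        exact hj
      obtain ⟨z, hz⟩ := (X.isExtension.exact _).1 h0
      refine ⟨z, hz, ?_⟩
      have h1 := hagree X' ((e.toAlgEquiv : X.E →ₐ[Λ] X'.E).comp u) u'
        (fun p => by
          change X'.proj (e.toAlgEquiv (u p)) = _
          rw [e.proj_apply, hu])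
        hu' j hj
      rw [← h1]
      change X'.incl z = e.toAlgEquiv (u j)
      rw [← hz, e.apply_incl]
    · intro h
      have hv : Groth.Agent.Lib.ExalY.vOf X u hu2 = Groth.Agent.Lib.ExalY.vOf X' u' hu2' := by
        ext y
        have hyJ : (y : MvPowerSeries (Fin d) Λ) ∈ J := hI.le y.2
        obtain ⟨z, hz1, hz2⟩ := h y hyJ
        have e1 : Groth.Agent.Lib.ExalY.vOf X u hu2 y = z := by
          apply X.isExtension.incl_injective
          rw [Groth.Agent.Lib.ExalY.incl_vOf, hz1]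
        have e2 : Groth.Agent.Lib.ExalY.vOf X' u' hu2' y = z := by
          apply X'.isExtension.incl_injective
          rw [Groth.Agent.Lib.ExalY.incl_vOf, hz2]
        rw [e1, e2]
      have c1 := Groth.Agent.Lib.ExalY.compareEquiv X u hu2 hπ _ rfl
      have c2 := Groth.Agent.Lib.ExalY.compareEquiv X' u' hu2' hπ _ hv.symm
      exact ⟨c1.symm.trans c2⟩
  · -- (c) every linear map is realised
    intro δ
    let v : Groth.Agent.Lib.ExalY.I (MvPowerSeries (Fin d) Λ) (MvPowerSeries (Fin d) Λ ⧸ J)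
        →ₗ[MvPowerSeries (Fin d) Λ] L := δ.comp (Submodule.inclusion (le_of_eq hI))
    refine ⟨Groth.Agent.Lib.ExalY.EVext Λ v hπ, Groth.Agent.Lib.ExalY.EV.lift Λ v hπ, ?_, ?_⟩
    · intro p
      exact Groth.Agent.Lib.ExalY.EV.proj_lift Λ v hπ p
    · intro j
      have hjI : (j : MvPowerSeries (Fin d) Λ) ∈
          Groth.Agent.Lib.ExalY.I (MvPowerSeries (Fin d) Λ) (MvPowerSeries (Fin d) Λ ⧸ J) :=
        hI.ge j.2
      have h1 := Groth.Agent.Lib.ExalY.incl_vOf (Groth.Agent.Lib.ExalY.EVext Λ v hπ)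
        (Groth.Agent.Lib.ExalY.EV.lift Λ v hπ) (Groth.Agent.Lib.ExalY.EV.proj_lift Λ v hπ) ⟨j, hjI⟩
      rw [Groth.Agent.Lib.ExalY.vOf_EV] at h1
      have h2 : v ⟨j, hjI⟩ = δ j := by
        change δ (Submodule.inclusion (le_of_eq hI) ⟨j, hjI⟩) = δ j
        congr 1
      rw [h2] at h1
      exact h1

end Groth.Agent.S11287
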