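import Groth.Statements.S11288
import Mathlib

set_option autoImplicit false
universe u
open Deform

namespace Groth.Agent.S11288

open IsLocalRing

/-- Let K be a field, R' a local Artinian K-algebra with residue field K, and t a nonzero element of the
maximal ideal m' of R' with m' t = 0, so that R' → R = R'/(t) is a small extension of R. Then the
extension is trivial, i.e. the projection admits a section which is a K-algebra map, if and only if
t is not in m'^2; equivalently, iff the surjection m'/m'^2 → m_R/m_R^2 induced on cotangent spaces,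
whose kernel is spanned by the class of t, is not bijective. For instance K[t]/(t^(n+1)) →
K[t]/(t^n) is a non-trivial small extension for n ≥ 2. (The published example allows any local
K-algebra with residue field K; the row takes R' Artinian, the case in which the subalgebra
generated by lifts of a basis of the cotangent space maps onto R.) -/
theorem result
    {K : Type u} [Field K]
    {R' : Type u} [CommRing R'] [Algebra K R'] [IsLocalRing R'] [IsArtinianRing R']
    (hres : ∀ a : R', ∃ c : K, a - algebraMap K R' c ∈ IsLocalRing.maximalIdeal R')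
    (t : R') (ht : t ∈ IsLocalRing.maximalIdeal R') (ht0 : t ≠ 0)
    (htm : ∀ a ∈ IsLocalRing.maximalIdeal R', a * t = 0) :
    (∃ s : (R' ⧸ Ideal.span {t}) →ₐ[K] R', ∀ x, Ideal.Quotient.mk (Ideal.span {t}) (s x) = x) ↔
      t ∉ IsLocalRing.maximalIdeal R' ^ 2 := by
  set m := IsLocalRing.maximalIdeal R' with hm
  -- `a * t = c • t` when `a ≡ c mod m`
  have hmul : ∀ (a : R') (c : K), a - algebraMap K R' c ∈ m → a * t = c • t := by
    intro a c hac
    have : a * t = (a - algebraMap K R' c) * t + algebraMap K R' c * t := by ring
    rw [this, htm _ hac, zero_add, Algebra.smul_def]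
  constructor
  · rintro ⟨s, hs⟩ htsq
    -- decomposition `a = s (π a) + λ • t`
    have hdec : ∀ a : R', ∃ l : K, a = s (Ideal.Quotient.mk _ a) + l • t := by
      intro a
      have h1 : a - s (Ideal.Quotient.mk _ a) ∈ Ideal.span {t} := by
        rw [← Ideal.Quotient.eq_zero_iff_mem, map_sub, hs, sub_self]
      obtain ⟨r, hr⟩ := Ideal.mem_span_singleton'.1 h1
      obtain ⟨c, hc⟩ := hres r
      refine ⟨c, ?_⟩
      rw [← hmul r c hc, hr]; ring
    have hrange : ∀ y ∈ m * m, y ∈ (s.range : Subalgebra K R') := by
      intro y hy
      refine Submodule.mul_induction_on hy ?_ ?_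
      · intro a ha b hb
        obtain ⟨l, hl⟩ := hdec a
        obtain ⟨l', hl'⟩ := hdec b
        have ha' : s (Ideal.Quotient.mk _ a) ∈ m := by
          have : s (Ideal.Quotient.mk _ a) = a - l • t := by rw [eq_sub_iff_add_eq]; exact hl.symm
          rw [this]
          exact Ideal.sub_mem _ ha (Submodule.smul_of_tower_mem _ _ ht)
        have hb' : s (Ideal.Quotient.mk _ b) ∈ m := by
          have : s (Ideal.Quotient.mk _ b) = b - l' • t := by
            rw [eq_sub_iff_add_eq]; exact hl'.symm
          rw [this]
          exact Ideal.sub_mem _ hb (Submodule.smul_of_tower_mem _ _ ht)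
        have hab : a * b = s (Ideal.Quotient.mk _ a * Ideal.Quotient.mk _ b) := by
          rw [map_mul]
          conv_lhs => rw [hl, hl']
          have e1 : s (Ideal.Quotient.mk _ a) * (l' • t) = 0 := by
            rw [mul_smul_comm, htm _ ha', smul_zero]
          have e2 : l • t * s (Ideal.Quotient.mk _ b) = 0 := by
            rw [smul_mul_assoc, mul_comm, htm _ hb', smul_zero]
          have e3 : l • t * (l' • t) = 0 := by
            rw [smul_mul_smul_comm, htm _ ht, smul_zero]
          rw [add_mul, mul_add, mul_add, e1, e2, e3]; ring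
        rw [hab]
        exact ⟨_, rfl⟩
      · intro x y hx hy
        exact Subalgebra.add_mem _ hx hy
    obtain ⟨x, hx⟩ := hrange t (by rw [← sq]; exact htsq)
    have hx' : s x = t := hx
    have h0 : x = 0 := by
      have h1 := hs x
      rw [hx'] at h1
      rw [← h1]
      exact Ideal.Quotient.eq_zero_iff_mem.2 (Ideal.mem_span_singleton_self t)
    apply ht0
    rw [← hx', h0, map_zero]
  · intro htsq
    -- the subspace `W = K·1 + m²`
    let W : Submodule K R' := Submodule.span K {(1 : R')} ⊔ (m ^ 2).restrictScalars K
    have htW : t ∉ W := by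
      intro h
      obtain ⟨y, hy, w, hw, hyw⟩ := Submodule.mem_sup.1 h
      obtain ⟨c, rfl⟩ := Submodule.mem_span_singleton.1 hy
      have hw' : w ∈ m ^ 2 := hw
      have hc : c = 0 := by
        by_contra hc
        have h1 : c • (1 : R') ∈ m := by
          have : c • (1 : R') = t - w := by rw [← hyw]; ring
          rw [this]
          exact Ideal.sub_mem _ ht (Ideal.pow_le_self two_ne_zero hw')
        have h2 : IsUnit (c • (1 : R')) := by
          rw [Algebra.smul_def, mul_one]
          exact (IsUnit.mk0 c hc).map (algebraMap K R')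
        exact (mem_nonunits_iff.1 ((mem_maximalIdeal _).1 h1)) h2
      apply htsq
      rw [hc, zero_smul, zero_add] at hyw
      rw [← hyw]; exact hw'
    obtain ⟨f, hft, hfW⟩ := Submodule.exists_dual_map_eq_bot_of_notMem htW inferInstance
    let D : R' →ₗ[K] K := (f t)⁻¹ • f
    have hDt : D t = 1 := by
      change (f t)⁻¹ • f t = 1
      rw [smul_eq_mul, inv_mul_cancel₀ hft]
    have hDW : ∀ w ∈ W, D w = 0 := by
      intro w hw
      have : f w ∈ W.map f := Submodule.mem_map_of_mem hw
      rw [hfW, Submodule.mem_bot] at this
      change (f t)⁻¹ • f w = 0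
      rw [this, smul_zero]
    have hD1 : D 1 = 0 := hDW 1 (Submodule.mem_sup_left (Submodule.mem_span_singleton_self _))
    have hDsq : ∀ w ∈ m ^ 2, D w = 0 := fun w hw => hDW w (Submodule.mem_sup_right hw)
    -- Leibniz rule
    have hleib : ∀ (a b : R') (α β : K), a - algebraMap K R' α ∈ m → b - algebraMap K R' β ∈ m →
        D (a * b) = α * D b + β * D a := by
      intro a b α β ha hb
      have hDa : D a = D (a - algebraMap K R' α) := by
        rw [map_sub, Algebra.algebraMap_eq_smul_one, map_smul, hD1, smul_zero, sub_zero]
      have hDb : D b = D (b - algebraMap K R' β) := by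
        rw [map_sub, Algebra.algebraMap_eq_smul_one, map_smul, hD1, smul_zero, sub_zero]
      have hab : a * b = (α * β) • (1 : R') + α • (b - algebraMap K R' β)
          + β • (a - algebraMap K R' α)
          + (a - algebraMap K R' α) * (b - algebraMap K R' β) := by
        simp only [Algebra.smul_def, map_mul, mul_one]; ring
      have hmm : (a - algebraMap K R' α) * (b - algebraMap K R' β) ∈ m ^ 2 := by
        rw [sq]; exact Ideal.mul_mem_mul ha hb
      rw [hab, map_add, map_add, map_add, map_smul, map_smul, map_smul, hD1, hDsq _ hmm,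
        ← hDa, ← hDb]
      simp only [smul_eq_mul, mul_zero, zero_add, add_zero]
    -- the retraction `σ a = a - D a • t`
    let σl : R' →ₗ[K] R' := LinearMap.id - D.smulRight t
    have hσl : ∀ a, σl a = a - D a • t := fun a => rfl
    have htt : t * t = 0 := htm t ht
    let σ : R' →ₐ[K] R' := AlgHom.ofLinearMap σl
      (by rw [hσl, hD1, zero_smul, sub_zero])
      (by
        intro a b
        obtain ⟨α, hα⟩ := hres a
        obtain ⟨β, hβ⟩ := hres b
        rw [hσl, hσl, hσl, hleib a b α β hα hβ]
        have e1 : a * (D b • t) = (α * D b) • t := by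
          rw [mul_smul_comm, hmul a α hα, smul_smul, mul_comm]
        have e2 : D a • t * b = (β * D a) • t := by
          rw [smul_mul_assoc, mul_comm t b, hmul b β hβ, smul_smul, mul_comm]
        have e3 : D a • t * (D b • t) = 0 := by
          rw [smul_mul_smul_comm, htt, smul_zero]
        rw [sub_mul, mul_sub, mul_sub, e1, e2, e3, add_smul]
        abel)
    have hσ : ∀ a, σ a = a - D a • t := fun a => rfl
    have hσt : ∀ a ∈ Ideal.span {t}, σ a = 0 := by
      intro a ha
      obtain ⟨r, rfl⟩ := Ideal.mem_span_singleton'.1 ha
      rw [map_mul, hσ t, hDt, one_smul, sub_self, mul_zero]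
    refine ⟨Ideal.Quotient.liftₐ (Ideal.span {t}) σ hσt, ?_⟩
    intro x
    obtain ⟨a, rfl⟩ := Ideal.Quotient.mk_surjective x
    rw [Ideal.Quotient.liftₐ_apply, Ideal.Quotient.lift_mk]
    change Ideal.Quotient.mk _ (σ a) = _
    rw [hσ, Ideal.Quotient.eq]
    have : a - D a • t - a = -(D a • t) := by ring
    rw [this]
    refine Submodule.neg_mem _ ?_
    rw [Algebra.smul_def]
    exact Ideal.mul_mem_left _ _ (Ideal.mem_span_singleton_self t)

end Groth.Agent.S11288
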