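import Groth.Statements.S11291
import Groth.Agent.Lib.ExalY
import Mathlib.RingTheory.MvPolynomial.Ideal
import Mathlib.RingTheory.Nakayama
import Mathlib.LinearAlgebra.Dual.Lemmas
import Mathlib.RingTheory.Ideal.Cotangent
import Mathlib.RingTheory.HopkinsLevitzki
import Mathlib.RingTheory.Polynomial.Basic

set_option autoImplicit false
universe u
open Deform

namespace Groth.Agent.S11291

open MvPolynomial IsLocalRing Groth.Agent.Lib.ExalY

section General

/-- A derivation into a module killed by `N` vanishes on `N²`. -/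
theorem der_eq_zero_of_mem_sq {k R M : Type*} [CommRing k] [CommRing R] [Algebra k R] [AddCommGroup M]
    [Module k M] [Module R M] [IsScalarTower k R M] (N : Ideal R)
    (hN : ∀ r ∈ N, ∀ m : M, r • m = 0) (D : Derivation k R M) {f : R} (hf : f ∈ N ^ 2) :
    D f = 0 := by
  rw [pow_two] at hf
  refine Submodule.mul_induction_on hf (fun a ha b hb => ?_) (fun x y hx hy => ?_)
  · rw [D.leibniz, hN a ha, hN b hb, add_zero]
  · rw [map_add, hx, hy, add_zero]

/-- Nakayama: a nonzero ideal of a Noetherian domain has a nonzero linear form to the residue field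
of any maximal ideal. -/
theorem exists_linearMap_ne_zero {R : Type*} [CommRing R] [IsDomain R] [IsNoetherianRing R]
    (N : Ideal R) [hNmax : N.IsMaximal] (I : Ideal R) (hI : I ≠ ⊥) :
    ∃ v : I →ₗ[R] (R ⧸ N), v ≠ 0 := by
  classical
  have hne : (N • ⊤ : Submodule R I) ≠ ⊤ := by
    intro htop
    obtain ⟨r, hr1, hr2⟩ := Submodule.exists_sub_one_mem_and_smul_eq_zero_of_fg_of_le_smul N
      (⊤ : Submodule R I) Module.Finite.fg_top htop.ge
    obtain ⟨x, hxI, hx0⟩ := Submodule.exists_mem_ne_zero_of_ne_bot hI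
    have h1 := hr2 ⟨x, hxI⟩ trivial
    have h2 : r * x = 0 := congrArg Subtype.val h1
    rcases mul_eq_zero.mp h2 with h3 | h3
    · rw [h3, zero_sub] at hr1
      exact hNmax.ne_top ((Ideal.eq_top_iff_one N).mpr (by simpa using N.neg_mem hr1))
    · exact hx0 h3
  obtain ⟨x, hx⟩ : ∃ x : I, x ∉ (N • ⊤ : Submodule R I) := by
    by_contra hcon
    push Not at hcon
    exact hne (eq_top_iff.mpr fun x _ => hcon x)
  let _ : Field (R ⧸ N) := Ideal.Quotient.field N
  have hw : (Submodule.Quotient.mk x : I ⧸ (N • ⊤ : Submodule R I)) ≠ 0 := by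
    rwa [Ne, Submodule.Quotient.mk_eq_zero]
  obtain ⟨φ, hφ⟩ := Module.Projective.exists_dual_ne_zero (R ⧸ N) hw
  refine ⟨(φ.restrictScalars R) ∘ₗ (Submodule.mkQ _), fun h0 => hφ ?_⟩
  have := congrArg (fun f => f x) h0
  simpa using this

end General

section Poly

variable {k : Type*} [Field k] {n : ℕ}

theorem sub_C_constantCoeff_mem (f : MvPolynomial (Fin n) k) :
    f - C (constantCoeff f) ∈ idealOfVars (Fin n) k := by
  rw [← pow_one (idealOfVars (Fin n) k), mem_pow_idealOfVars_iff']
  intro x hx
  have : x = 0 := by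
    have : Finsupp.degree x = 0 := by omega
    exact (Finsupp.degree_eq_zero_iff x).mp this
  subst this
  simp [constantCoeff_eq]

variable {A : Type*} [CommRing A] [Algebra k A] [IsLocalRing A] (a : Fin n → A)
  (ha : ∀ i, a i ∈ maximalIdeal A)

include ha in
theorem idealOfVars_le_comap :
    idealOfVars (Fin n) k ≤ (maximalIdeal A).comap (aeval a : MvPolynomial (Fin n) k →ₐ[k] A) := by
  rw [idealOfVars, Ideal.span_le]
  rintro _ ⟨i, rfl⟩
  change aeval a (X i) ∈ maximalIdeal A
  rw [aeval_X]; exact ha i

include ha in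
theorem mem_idealOfVars_iff (f : MvPolynomial (Fin n) k) :
    f ∈ idealOfVars (Fin n) k ↔ aeval a f ∈ maximalIdeal A := by
  constructor
  · intro hf; exact idealOfVars_le_comap a ha hf
  · intro hf
    have h1 := idealOfVars_le_comap a ha (sub_C_constantCoeff_mem f)
    change aeval a (f - C (constantCoeff f)) ∈ maximalIdeal A at h1
    rw [map_sub, aeval_C] at h1
    have h2 : algebraMap k A (constantCoeff f) ∈ maximalIdeal A := by
      have := (maximalIdeal A).sub_mem hf h1
      simpa using this
    have h3 : constantCoeff f = 0 := by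
      by_contra hne
      have : IsUnit (algebraMap k A (constantCoeff f)) := (IsUnit.mk0 _ hne).map _
      exact (IsLocalRing.mem_maximalIdeal _).mp h2 this
    have := sub_C_constantCoeff_mem f
    rwa [h3, map_zero, sub_zero] at this

end Poly

section Surj

variable {k : Type*} [Field k] {n : ℕ} {A : Type*} [CommRing A] [Algebra k A] [IsLocalRing A]
  (a : Fin n → A)

theorem aeval_surjective
    (hres : ∀ x : A, ∃ c : k, x - algebraMap k A c ∈ maximalIdeal A)
    (hspan : Ideal.span (Set.range a) = maximalIdeal A) (hnil : ∃ j, maximalIdeal A ^ j = ⊥) :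
    Function.Surjective (aeval a : MvPolynomial (Fin n) k →ₐ[k] A) := by
  let _ : Algebra (MvPolynomial (Fin n) k) A := (aeval a : MvPolynomial (Fin n) k →ₐ[k] A).toRingHom.toAlgebra
  have halg : ∀ r : MvPolynomial (Fin n) k, algebraMap (MvPolynomial (Fin n) k) A r = aeval a r :=
    fun _ => rfl
  have hsmul : ∀ (r : MvPolynomial (Fin n) k) (x : A), r • x = aeval a r * x := fun _ _ => rfl
  have ha : ∀ i, a i ∈ maximalIdeal A := fun i => hspan ▸ Ideal.subset_span ⟨i, rfl⟩
  let N : Ideal (MvPolynomial (Fin n) k) := idealOfVars (Fin n) k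
  let S' : Submodule (MvPolynomial (Fin n) k) A := LinearMap.range (Algebra.linearMap (MvPolynomial (Fin n) k) A)
  have h1 : (⊤ : Submodule (MvPolynomial (Fin n) k) A) ≤ S' ⊔ N • ⊤ := by
    intro x _
    obtain ⟨c, hc⟩ := hres x
    rw [← hspan] at hc
    obtain ⟨b, hb⟩ := (Ideal.mem_span_range_iff_exists_fun).mp hc
    have hx : x = algebraMap (MvPolynomial (Fin n) k) A (C c) + ∑ i, (X i : MvPolynomial (Fin n) k) • b i := by
      rw [halg, aeval_C]
      have : ∑ i, (X i : MvPolynomial (Fin n) k) • b i = ∑ i, b i * a i := by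
        refine Finset.sum_congr rfl fun i _ => ?_
        rw [hsmul, aeval_X, mul_comm]
      rw [this, hb]; ring
    rw [hx]
    refine Submodule.add_mem_sup ⟨C c, rfl⟩ (Submodule.sum_mem _ fun i _ => ?_)
    exact Submodule.smul_mem_smul (Ideal.subset_span ⟨i, rfl⟩) trivial
  have hstep : ∀ j : ℕ, (⊤ : Submodule (MvPolynomial (Fin n) k) A) ≤ S' ⊔ (N ^ j) • ⊤ := by
    intro j
    induction j with
    | zero => rw [pow_zero, Ideal.one_eq_top, Submodule.top_smul]; exact le_sup_right
    | succ j ih =>
      have h2 : (N ^ j) • (⊤ : Submodule (MvPolynomial (Fin n) k) A) ≤ S' ⊔ (N ^ (j + 1)) • ⊤ := by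
        calc (N ^ j) • (⊤ : Submodule (MvPolynomial (Fin n) k) A)
            ≤ (N ^ j) • (S' ⊔ N • ⊤) := Submodule.smul_mono le_rfl h1
          _ = (N ^ j) • S' ⊔ (N ^ j) • (N • ⊤) := Submodule.smul_sup _ _ _
          _ ≤ S' ⊔ (N ^ (j + 1)) • ⊤ := by
              refine sup_le_sup Submodule.smul_le_right ?_
              rw [← Submodule.mul_smul, ← pow_succ]
      exact ih.trans (sup_le le_sup_left h2)
  have hle : ∀ j : ℕ, (N ^ j) • (⊤ : Submodule (MvPolynomial (Fin n) k) A) ≤
      (maximalIdeal A ^ j).restrictScalars (MvPolynomial (Fin n) k) := by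
    intro j
    induction j with
    | zero => intro x _; rw [pow_zero, Ideal.one_eq_top]; trivial
    | succ j ih =>
      rw [pow_succ', Submodule.mul_smul]
      refine (Submodule.smul_mono le_rfl ih).trans ?_
      rw [Submodule.smul_le]
      intro r hr x hx
      change r • x ∈ maximalIdeal A ^ (j + 1)
      rw [hsmul, pow_succ']
      exact Ideal.mul_mem_mul (idealOfVars_le_comap a ha hr) hx
  obtain ⟨j, hj⟩ := hnil
  have h3 : (N ^ j) • (⊤ : Submodule (MvPolynomial (Fin n) k) A) = ⊥ := by
    rw [eq_bot_iff]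
    refine (hle j).trans ?_
    rw [hj]
    intro x hx
    exact hx
  have h4 := hstep j
  rw [h3, sup_bot_eq] at h4
  intro x
  obtain ⟨r, hr⟩ := h4 (Submodule.mem_top : x ∈ ⊤)
  exact ⟨r, hr⟩

end Surj

section KerSq

variable {k : Type*} [Field k] {n : ℕ} {A : Type*} [CommRing A] [Algebra k A] [IsLocalRing A]
  (a : Fin n → maximalIdeal A)

theorem ker_le_sq
    (hli : LinearIndependent (ResidueField A) (fun i => (maximalIdeal A).toCotangent (a i)))
    (f : MvPolynomial (Fin n) k)
    (hf : (aeval (fun i => (a i : A)) : MvPolynomial (Fin n) k →ₐ[k] A) f = 0) :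
    f ∈ idealOfVars (Fin n) k ^ 2 := by
  classical
  have ha' : ∀ i, (a i : A) ∈ maximalIdeal A := fun i => (a i).2
  have hfN : f ∈ idealOfVars (Fin n) k := by
    rw [mem_idealOfVars_iff (fun i => (a i : A)) ha', hf]; exact zero_mem _
  obtain ⟨g, hg⟩ := Ideal.mem_span_range_iff_exists_fun.mp hfN
  have hh : ∀ i, g i - C (constantCoeff (g i)) ∈ idealOfVars (Fin n) k :=
    fun i => sub_C_constantCoeff_mem (g i)
  have hπh : ∀ i, aeval (fun i => (a i : A)) (g i - C (constantCoeff (g i))) ∈ maximalIdeal A :=
    fun i => idealOfVars_le_comap (fun i => (a i : A)) ha' (hh i)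
  -- the linear part vanishes in the cotangent space
  let y : maximalIdeal A := ∑ i, algebraMap k A (constantCoeff (g i)) • a i
  have hy : (y : A) ∈ maximalIdeal A ^ 2 := by
    have h1 : (y : A) = ∑ i, algebraMap k A (constantCoeff (g i)) * (a i : A) := by
      simp only [y, Submodule.coe_sum, Submodule.coe_smul, smul_eq_mul]
    have h2 : (0 : A) = ∑ i, aeval (fun i => (a i : A)) (g i) * (a i : A) := by
      rw [← hf, ← hg, map_sum]
      refine Finset.sum_congr rfl fun i _ => ?_
      rw [map_mul, aeval_X]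
    have h3 : (y : A) = -∑ i, aeval (fun i => (a i : A)) (g i - C (constantCoeff (g i))) * (a i : A) := by
      rw [h1, eq_neg_iff_add_eq_zero, ← Finset.sum_add_distrib, h2]
      refine Finset.sum_congr rfl fun i _ => ?_
      rw [map_sub, aeval_C]; ring
    rw [h3, pow_two]
    exact Ideal.neg_mem_iff _ |>.mpr (Ideal.sum_mem _ fun i _ => Ideal.mul_mem_mul (hπh i) (ha' i))
  have hy0 : (maximalIdeal A).toCotangent y = 0 := (Ideal.toCotangent_eq_zero _ _).mpr hy
  have hsum : ∑ i, algebraMap A (ResidueField A) (algebraMap k A (constantCoeff (g i))) •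
      (maximalIdeal A).toCotangent (a i) = 0 := by
    rw [← hy0]
    simp only [y, map_sum, map_smul]
    refine Finset.sum_congr rfl fun i _ => ?_
    exact algebraMap_smul (ResidueField A) _ _
  have hc : ∀ i, constantCoeff (g i) = 0 := by
    intro i
    have h1 := Fintype.linearIndependent_iff.mp hli _ hsum i
    have h2 : algebraMap k A (constantCoeff (g i)) ∈ maximalIdeal A :=
      Ideal.Quotient.eq_zero_iff_mem.mp h1
    by_contra hne
    have : IsUnit (algebraMap k A (constantCoeff (g i))) := (IsUnit.mk0 _ hne).map _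
    exact (IsLocalRing.mem_maximalIdeal _).mp h2 this
  rw [← hg, pow_two]
  refine Ideal.sum_mem _ fun i _ => Ideal.mul_mem_mul ?_ (Ideal.subset_span ⟨i, rfl⟩)
  have := hh i
  rwa [hc i, map_zero, sub_zero] at this

end KerSq

/-- Let k be an algebraically closed field and A a local Artinian k-algebra with residue field k and
non-zero maximal ideal, i.e. A is not k. Then the obstruction space o(A) = Ex_k(A, k) is not zero:
there is a k-extension 0 → k → E → A → 0 of A by its residue field which is not trivial (admits no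
k-algebra section). Equivalently, k is the only formally smooth object among local Artinian
k-algebras with residue field k. -/
theorem result
    {k : Type u} [Field k] [IsAlgClosed k]
    {A : Type u} [CommRing A] [Algebra k A] [IsLocalRing A] [IsArtinianRing A]
    (hres : ∀ a : A, ∃ c : k, a - algebraMap k A c ∈ IsLocalRing.maximalIdeal A)
    (hA : IsLocalRing.maximalIdeal A ≠ ⊥) :
    ∃ X : Exal.Ext k A (IsLocalRing.ResidueField A), ¬ X.IsTrivial := by
  classical
  have hNoeth : IsNoetherianRing A := inferInstance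
  let κ := IsLocalRing.ResidueField A
  let n := Module.finrank κ (IsLocalRing.CotangentSpace A)
  let b : Module.Basis (Fin n) κ (IsLocalRing.CotangentSpace A) := Module.finBasis κ _
  choose a ha using fun i => Ideal.toCotangent_surjective (IsLocalRing.maximalIdeal A) (b i)
  have hli : LinearIndependent κ (fun i => (IsLocalRing.maximalIdeal A).toCotangent (a i)) := by
    have : (fun i => (IsLocalRing.maximalIdeal A).toCotangent (a i)) = b := funext ha
    rw [this]; exact b.linearIndependent
  have ha' : ∀ i, (a i : A) ∈ IsLocalRing.maximalIdeal A := fun i => (a i).2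
  -- the `a i` generate the maximal ideal
  have hspan : Ideal.span (Set.range fun i => (a i : A)) = IsLocalRing.maximalIdeal A := by
    have h1 : Submodule.span A (Set.range a) = ⊤ := by
      rw [← IsLocalRing.CotangentSpace.span_image_eq_top_iff, ← Set.range_comp]
      have : ((IsLocalRing.maximalIdeal A).toCotangent ∘ a) = b := funext ha
      rw [this]; exact b.span_eq
    have h2 := congrArg (Submodule.map (IsLocalRing.maximalIdeal A).subtype) h1
    rw [Submodule.map_span, Submodule.map_top, Submodule.range_subtype, ← Set.range_comp] at h2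
    exact h2
  have hnil : ∃ j, IsLocalRing.maximalIdeal A ^ j = ⊥ := by
    have := IsArtinianRing.isNilpotent_jacobson_bot (R := A)
    rw [IsLocalRing.jacobson_eq_maximalIdeal ⊥ bot_ne_top] at this
    exact this
  have hπ := aeval_surjective (k := k) (fun i => (a i : A)) hres hspan hnil
  -- the algebra structure
  let _ : Algebra (MvPolynomial (Fin n) k) A :=
    (MvPolynomial.aeval (fun i => (a i : A)) : MvPolynomial (Fin n) k →ₐ[k] A).toRingHom.toAlgebra
  have halg : ∀ r : MvPolynomial (Fin n) k, algebraMap (MvPolynomial (Fin n) k) A r =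
      MvPolynomial.aeval (fun i => (a i : A)) r := fun _ => rfl
  have htower : IsScalarTower k (MvPolynomial (Fin n) k) A :=
    IsScalarTower.of_algebraMap_eq fun c => by
      rw [halg, MvPolynomial.algebraMap_eq, MvPolynomial.aeval_C]
  have hπ' : Function.Surjective (algebraMap (MvPolynomial (Fin n) k) A) := hπ
  let N : Ideal (MvPolynomial (Fin n) k) := MvPolynomial.idealOfVars (Fin n) k
  have hNmem : ∀ r, r ∈ N ↔ algebraMap (MvPolynomial (Fin n) k) A r ∈ IsLocalRing.maximalIdeal A :=
    fun r => mem_idealOfVars_iff (fun i => (a i : A)) ha' r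
  have hNmax : N.IsMaximal := by
    have : N = (IsLocalRing.maximalIdeal A).comap (algebraMap (MvPolynomial (Fin n) k) A) := by
      ext r; rw [hNmem, Ideal.mem_comap]
    rw [this]
    exact Ideal.comap_isMaximal_of_surjective _ hπ'
  -- the kernel is nonzero
  have hI : Groth.Agent.Lib.ExalY.I (MvPolynomial (Fin n) k) A ≠ ⊥ := by
    have hn : 0 < n := by
      rw [Nat.pos_iff_ne_zero]
      intro h0
      have hfield : IsField A := IsLocalRing.finrank_cotangentSpace_eq_zero_iff.mp h0
      exact hA (IsLocalRing.isField_iff_maximalIdeal_eq.mp hfield)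
    obtain ⟨j, hj⟩ := hnil
    intro hbot
    have hmem : (MvPolynomial.X ⟨0, hn⟩ : MvPolynomial (Fin n) k) ^ j ∈
        Groth.Agent.Lib.ExalY.I (MvPolynomial (Fin n) k) A := by
      rw [RingHom.mem_ker, map_pow, halg, MvPolynomial.aeval_X]
      have : (a ⟨0, hn⟩ : A) ^ j ∈ IsLocalRing.maximalIdeal A ^ j := Ideal.pow_mem_pow (ha' _) j
      rw [hj] at this
      exact this
    rw [hbot] at hmem
    exact pow_ne_zero j (MvPolynomial.X_ne_zero _) hmem
  obtain ⟨v', hv'⟩ := exists_linearMap_ne_zero N
    (Groth.Agent.Lib.ExalY.I (MvPolynomial (Fin n) k) A) hI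
  -- N kills the residue field
  have hNkill : ∀ r ∈ N, ∀ z : κ, r • z = 0 := by
    intro r hr z
    rw [Algebra.smul_def, IsScalarTower.algebraMap_apply (MvPolynomial (Fin n) k) A κ]
    have : algebraMap A κ (algebraMap (MvPolynomial (Fin n) k) A r) = 0 :=
      Ideal.Quotient.eq_zero_iff_mem.mpr ((hNmem r).mp hr)
    rw [this, zero_mul]
  let ι : (MvPolynomial (Fin n) k ⧸ N) →ₐ[MvPolynomial (Fin n) k] κ :=
    Ideal.Quotient.liftₐ N (Algebra.ofId (MvPolynomial (Fin n) k) κ) (fun r hr => by
      have := hNkill r hr 1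
      rwa [Algebra.smul_def, mul_one] at this)
  have hιinj : Function.Injective ι := by
    let _ : Field (MvPolynomial (Fin n) k ⧸ N) := Ideal.Quotient.field N
    exact RingHom.injective ι.toRingHom
  let v : Groth.Agent.Lib.ExalY.I (MvPolynomial (Fin n) k) A →ₗ[MvPolynomial (Fin n) k] κ :=
    ι.toLinearMap ∘ₗ v'
  have hv : v ≠ 0 := by
    intro h0
    apply hv'
    ext x
    apply hιinj
    have := congrArg (fun f => f x) h0
    simpa [v] using this
  refine ⟨Groth.Agent.Lib.ExalY.EVext k v hπ', fun htriv => hv ?_⟩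
  obtain ⟨D, hD⟩ := Groth.Agent.Lib.ExalY.exists_der_of_isTrivial hπ' v htriv
  ext x
  rw [hD x, LinearMap.zero_apply]
  refine der_eq_zero_of_mem_sq N hNkill D ?_
  exact ker_le_sq a hli x.1 x.2

end Groth.Agent.S11291
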