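import Mathlib
import Groth.Statements.S11292
import Groth.Agent.Lib.ExalY

set_option autoImplicit false
set_option linter.unusedSectionVars false
set_option linter.style.haveILetI false
universe u
open Deform

namespace Groth.Agent.S11292

open Groth.Agent.Lib.ExalY IsLocalRing

attribute [local instance] Exal.opModule Exal.isCentralScalar_opModule

section General

variable {A : Type u} {B M : Type u} [CommRing A] [CommRing B] [Algebra A B] [AddCommGroup M]
  [Module B M] [Module A M] [IsScalarTower A B M]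

/-- two trivial extensions are equivalent. -/
theorem equiv_of_isTrivial (X X' : Exal.Ext A B M) (h : X.IsTrivial) (h' : X'.IsTrivial) :
    Nonempty (X.Equiv X') := by
  obtain ⟨s, hs⟩ := h
  obtain ⟨s', hs'⟩ := h'
  have hπ : Function.Surjective (algebraMap B B) := Function.surjective_id
  have hs1 : ∀ r, X.proj (s r) = algebraMap B B r := hs
  have hs1' : ∀ r, X'.proj (s' r) = algebraMap B B r := hs'
  have hv : vOf X' s' hs1' = vOf X s hs1 := by
    ext x
    have hx : (x : B) = 0 := x.2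
    have hx' : x = 0 := Subtype.ext hx
    rw [hx', map_zero, map_zero]
  exact ⟨(compareEquiv X s hs1 hπ _ rfl).symm.trans (compareEquiv X' s' hs1' hπ _ hv)⟩

end General

section Main

variable {k : Type u} [Field k]
    {Λ : Type u} [CommRing Λ] [Algebra k Λ] [IsLocalRing Λ]
    {R : Type u} [CommRing R] [Algebra Λ R] [Algebra k R] [IsScalarTower k Λ R]
    [IsLocalRing R]

/-- the structure map `Λ → E` of a `Λ`-extension, as a `k`-algebra map into the restricted extension. -/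
noncomputable def gOf (X : Exal.Ext Λ R (ResidueField R)) : Λ →ₐ[k] (X.restrictBase k).E :=
  { (algebraMap Λ X.E : Λ →+* (X.restrictBase k).E) with
    commutes' := fun _ => rfl }

theorem proj_gOf (X : Exal.Ext Λ R (ResidueField R)) (a : Λ) :
    (X.restrictBase k).proj (gOf (k := k) X a) = algebraMap Λ R a :=
  X.proj.commutes a

/-- an extension with a lift of `Λ → R` pulls back to a trivial extension. -/
theorem pullback_isTrivial (Y : Exal.Ext k R (ResidueField R)) (g : Λ →ₐ[k] Y.E)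
    (hg : ∀ a, Y.proj (g a) = algebraMap Λ R a) : (Y.pullback Λ).IsTrivial := by
  refine ⟨AlgHom.codRestrict (AlgHom.prod g (AlgHom.id k Λ)) (Y.fiberProd Λ) ?_, fun a => rfl⟩
  intro a
  change Y.proj (g a) = algebraMap Λ R a
  exact hg a

theorem isTrivial_of (ha : ∀ D : Derivation k Λ (ResidueField R),
      ∃ D' : Derivation k R (ResidueField R), ∀ a : Λ, D' (algebraMap Λ R a) = D a)
    (hb : ∀ Y Y' : Exal.Ext k R (ResidueField R),
      Nonempty ((Y.pullback Λ).Equiv (Y'.pullback Λ)) → Nonempty (Y.Equiv Y'))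
    (X : Exal.Ext Λ R (ResidueField R)) : X.IsTrivial := by
  let Y := X.restrictBase k
  let Y' := Exal.Ext.trivial k R (ResidueField R)
  have h1 : (Y.pullback Λ).IsTrivial := pullback_isTrivial Y (gOf X) (proj_gOf X)
  have h2 : (Y'.pullback Λ).IsTrivial :=
    pullback_isTrivial Y' (trivLift (A := k) (R := Λ) (B := R) (M := ResidueField R)) proj_trivLift
  obtain ⟨eq⟩ := hb Y Y' (equiv_of_isTrivial _ _ h1 h2)
  let s₀ : R →ₐ[k] Y.E := (eq.symm.toAlgEquiv : Y'.E →ₐ[k] Y.E).comp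
    (trivLift (A := k) (R := R) (B := R) (M := ResidueField R))
  have hs₀ : ∀ r, Y.proj (s₀ r) = algebraMap R R r := fun r => by
    change Y.proj (eq.symm.toAlgEquiv _) = _
    rw [eq.symm.proj_apply]
    exact proj_trivLift r
  let g₂ : Λ →ₐ[k] Y.E := s₀.comp (IsScalarTower.toAlgHom k Λ R)
  have hg₂ : ∀ a, Y.proj (g₂ a) = algebraMap Λ R a := fun a => hs₀ _
  let D := derOf Y (gOf X) (proj_gOf X) g₂ hg₂
  obtain ⟨D', hD'⟩ := ha D
  let σ₀ := addDer Y s₀ hs₀ D'
  let σr : R →+* X.E := show R →+* X.E from (σ₀ : R →+* Y.E)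
  refine ⟨{ σr with commutes' := fun a => ?_ }, fun r => proj_addDer Y s₀ hs₀ D' r⟩
  change s₀ (algebraMap Λ R a) + Y.incl (D' (algebraMap Λ R a)) = algebraMap Λ X.E a
  rw [hD', incl_derOf]
  change s₀ (algebraMap Λ R a) + (gOf (k := k) X a - s₀ (algebraMap Λ R a)) = gOf (k := k) X a
  abel


theorem algebraMap_derCarrier (D : Derivation k Λ (ResidueField R)) (a : Λ) :
    algebraMap Λ (Exal.Ext.DerCarrier (C := R) D) a =
      (TrivSqZeroExt.inl (algebraMap Λ R a) + TrivSqZeroExt.inr (D a) :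
        TrivSqZeroExt R (ResidueField R)) := rfl

theorem exists_der_ext (h : ∀ X : Exal.Ext Λ R (ResidueField R), X.IsTrivial)
    (D : Derivation k Λ (ResidueField R)) :
    ∃ D' : Derivation k R (ResidueField R), ∀ a : Λ, D' (algebraMap Λ R a) = D a := by
  obtain ⟨s, hs⟩ := h (Exal.Ext.ofDerivation (C := R) D)
  have hfst : ∀ r, TrivSqZeroExt.fst (s r) = r := hs
  have hmul : ∀ x y : Exal.Ext.DerCarrier (C := R) D, TrivSqZeroExt.snd (x * y) =
      TrivSqZeroExt.fst x • TrivSqZeroExt.snd y + TrivSqZeroExt.fst y • TrivSqZeroExt.snd x := by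
    intro x y
    change TrivSqZeroExt.fst x • TrivSqZeroExt.snd y +
      MulOpposite.op (TrivSqZeroExt.fst y) • TrivSqZeroExt.snd x = _
    rw [op_smul_eq_smul]
  have hcompat : ∀ a : Λ, TrivSqZeroExt.snd (s (algebraMap Λ R a)) = D a := by
    intro a
    have h1 : s (algebraMap Λ R a) = algebraMap Λ (Exal.Ext.ofDerivation (C := R) D).E a := s.commutes a
    rw [h1]
    change TrivSqZeroExt.snd (TrivSqZeroExt.inl (algebraMap Λ R a) + TrivSqZeroExt.inr (D a) :
      TrivSqZeroExt R (ResidueField R)) = D a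
    simp
  have hmul' : ∀ r r' : R, TrivSqZeroExt.snd (s r * s r') =
      TrivSqZeroExt.fst (s r) • TrivSqZeroExt.snd (s r') +
        TrivSqZeroExt.fst (s r') • TrivSqZeroExt.snd (s r) := fun r r' => hmul (s r) (s r')
  let lin : R →ₗ[k] ResidueField R :=
    { toFun := fun r => TrivSqZeroExt.snd (s r)
      map_add' := fun r r' => by rw [map_add]; rfl
      map_smul' := fun c r => by
        rw [RingHom.id_apply, ← algebraMap_smul Λ c r, Algebra.smul_def, map_mul, hmul', hcompat,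
          D.map_algebraMap, smul_zero, add_zero, hfst, ← IsScalarTower.algebraMap_apply,
          algebraMap_smul] }
  refine ⟨Derivation.mk' lin (fun r r' => ?_), hcompat⟩
  change TrivSqZeroExt.snd (s (r * r')) = r • TrivSqZeroExt.snd (s r') + r' • TrivSqZeroExt.snd (s r)
  rw [map_mul, hmul', hfst, hfst]

end Main


section Baer

variable {A₀ Λ R M : Type u} [CommRing A₀] [CommRing Λ] [CommRing R] [Algebra A₀ Λ] [Algebra Λ R]
  [Algebra A₀ R] [IsScalarTower A₀ Λ R] [AddCommGroup M] [Module R M] [Module Λ M]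
  [IsScalarTower Λ R M] (Y Y' : Exal.Ext A₀ R M)

/-- the fibre product `Y.E ×_R Y'.E`. -/
def T : Subalgebra A₀ (Y.E × Y'.E) :=
  AlgHom.equalizer (Y.proj.comp (AlgHom.fst A₀ Y.E Y'.E)) (Y'.proj.comp (AlgHom.snd A₀ Y.E Y'.E))

theorem mem_T {t : Y.E × Y'.E} : t ∈ T Y Y' ↔ Y.proj t.1 = Y'.proj t.2 := Iff.rfl

theorem T_prop (t : T Y Y') : Y.proj t.1.1 = Y'.proj t.1.2 := t.2

/-- the diagonal copy of `M`. -/
def Δ : Ideal (T Y Y') where
  carrier := {t | ∃ z : M, (t : Y.E × Y'.E) = (Y.incl z, Y'.incl z)}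
  add_mem' := by
    rintro a b ⟨z, hz⟩ ⟨z', hz'⟩
    refine ⟨z + z', ?_⟩
    rw [Subalgebra.coe_add, hz, hz', map_add, map_add]
    rfl
  zero_mem' := ⟨0, by rw [map_zero, map_zero]; rfl⟩
  smul_mem' := by
    rintro c t ⟨z, hz⟩
    refine ⟨Y.proj c.1.1 • z, ?_⟩
    rw [smul_eq_mul, Subalgebra.coe_mul, hz]
    apply Prod.ext
    · change c.1.1 * Y.incl z = _
      rw [Y.isExtension.mul_incl]
    · change c.1.2 * Y'.incl z = _
      rw [Y'.isExtension.mul_incl, T_prop]

theorem mem_Δ {t : T Y Y'} : t ∈ Δ Y Y' ↔ ∃ z : M, (t : Y.E × Y'.E) = (Y.incl z, Y'.incl z) := Iff.rfl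

/-- the Baer difference ring. -/
def W : Type u := T Y Y' ⧸ Δ Y Y'

instance : CommRing (W Y Y') := inferInstanceAs (CommRing (T Y Y' ⧸ Δ Y Y'))

instance : Algebra A₀ (W Y Y') := inferInstanceAs (Algebra A₀ (T Y Y' ⧸ Δ Y Y'))

/-- the quotient map `T → W`. -/
def mkW : T Y Y' →ₐ[A₀] W Y Y' := Ideal.Quotient.mkₐ A₀ (Δ Y Y')

theorem mkW_surjective : Function.Surjective (mkW Y Y') := Ideal.Quotient.mk_surjective

theorem mkW_eq_iff {t t' : T Y Y'} : mkW Y Y' t = mkW Y Y' t' ↔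
    ∃ z : M, t.1.1 - t'.1.1 = Y.incl z ∧ t.1.2 - t'.1.2 = Y'.incl z := by
  change Ideal.Quotient.mk (Δ Y Y') t = Ideal.Quotient.mk (Δ Y Y') t' ↔ _
  rw [Ideal.Quotient.eq, mem_Δ]
  constructor
  · rintro ⟨z, hz⟩
    exact ⟨z, congrArg Prod.fst hz, congrArg Prod.snd hz⟩
  · rintro ⟨z, h1, h2⟩
    exact ⟨z, Prod.ext h1 h2⟩

/-- the projection `W → R`. -/
def projW : W Y Y' →ₐ[A₀] R :=
  Ideal.Quotient.liftₐ (Δ Y Y') ((Y.proj.comp (AlgHom.fst A₀ Y.E Y'.E)).comp (T Y Y').val) (by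
    rintro t ⟨z, hz⟩
    change Y.proj (t : Y.E × Y'.E).1 = 0
    rw [hz]
    exact proj_incl Y z)

theorem projW_mk (t : T Y Y') : projW Y Y' (mkW Y Y' t) = Y.proj t.1.1 := rfl

/-- elements of `T` from elements of the kernel. -/
def inT (z : M) : T Y Y' := ⟨(Y.incl z, 0), by rw [mem_T, proj_incl, map_zero]⟩

/-- the inclusion `M → W`. -/
def inclW : M →+ W Y Y' where
  toFun z := mkW Y Y' (inT Y Y' z)
  map_zero' := by
    rw [← map_zero (mkW Y Y')]
    congr 1
    apply Subtype.ext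
    change (Y.incl 0, (0 : Y'.E)) = 0
    rw [map_zero]; rfl
  map_add' z z' := by
    rw [← map_add (mkW Y Y')]
    congr 1
    apply Subtype.ext
    change (Y.incl (z + z'), (0 : Y'.E)) = (Y.incl z, 0) + (Y.incl z', 0)
    rw [map_add, Prod.mk_add_mk, add_zero]

theorem inclW_apply (z : M) : inclW Y Y' z = mkW Y Y' (inT Y Y' z) := rfl

theorem isExtensionW : Exal.IsExtension (projW Y Y') (inclW Y Y') where
  proj_surjective := fun r => by
    obtain ⟨e, he⟩ := Y.isExtension.proj_surjective r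
    obtain ⟨e', he'⟩ := Y'.isExtension.proj_surjective r
    exact ⟨mkW Y Y' ⟨(e, e'), by rw [mem_T, he, he']⟩, he⟩
  incl_injective := by
    rw [injective_iff_map_eq_zero]
    intro z hz
    rw [inclW_apply, ← map_zero (mkW Y Y'), mkW_eq_iff] at hz
    obtain ⟨z', h1, h2⟩ := hz
    have h3 : Y'.incl z' = 0 := by rw [← h2]; change (0 : Y'.E) - 0 = 0; rw [sub_zero]
    have h4 : z' = 0 := Y'.isExtension.incl_injective (by rw [h3, map_zero])
    have h5 : Y.incl z = 0 := by
      have : Y.incl z - 0 = Y.incl z' := h1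
      rw [sub_zero] at this
      rw [this, h4, map_zero]
    exact Y.isExtension.incl_injective (by rw [h5, map_zero])
  exact := fun w => by
    obtain ⟨t, rfl⟩ := mkW_surjective Y Y' w
    rw [projW_mk]
    constructor
    · intro h
      have h' : Y'.proj t.1.2 = 0 := by rw [← T_prop, h]
      obtain ⟨z, hz⟩ := (Y.isExtension.exact _).1 h
      obtain ⟨z', hz'⟩ := (Y'.isExtension.exact _).1 h'
      refine ⟨z - z', ?_⟩
      rw [inclW_apply, mkW_eq_iff]
      refine ⟨-z', ?_, ?_⟩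
      · change Y.incl (z - z') - t.1.1 = _
        rw [← hz, map_sub, map_neg]; abel
      · change (0 : Y'.E) - t.1.2 = _
        rw [← hz', map_neg, zero_sub]
    · rintro ⟨z, hz⟩
      rw [inclW_apply, mkW_eq_iff] at hz
      obtain ⟨z', h1, -⟩ := hz
      have : t.1.1 = Y.incl z - Y.incl z' := by
        have h1' : Y.incl z - t.1.1 = Y.incl z' := h1
        rw [← h1']; abel
      rw [this, map_sub, proj_incl, proj_incl, sub_zero]
  mul_incl := fun w z => by
    obtain ⟨t, rfl⟩ := mkW_surjective Y Y' w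
    rw [projW_mk, inclW_apply, inclW_apply, ← map_mul]
    congr 1
    apply Subtype.ext
    change (t.1.1 * Y.incl z, t.1.2 * (0 : Y'.E)) = (Y.incl (Y.proj t.1.1 • z), 0)
    rw [Y.isExtension.mul_incl, mul_zero]


theorem mkW_eq_zero_iff {t : T Y Y'} : mkW Y Y' t = 0 ↔ t ∈ Δ Y Y' :=
  Ideal.Quotient.eq_zero_iff_mem

section Lam

variable {Y Y'} (φ : (Y.pullback Λ).Equiv (Y'.pullback Λ))

theorem snd_φ (x : (Y.pullback Λ).E) : (φ.toAlgEquiv x).1.2 = x.1.2 := φ.proj_apply x

/-- `(e, a) ↦ (e, π₁ φ(e, a))`. -/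
noncomputable def G : (Y.pullback Λ).E →ₐ[A₀] T Y Y' :=
  AlgHom.codRestrict
    (AlgHom.prod ((AlgHom.fst A₀ Y.E Λ).comp (Y.fiberProd Λ).val)
      (((AlgHom.fst A₀ Y'.E Λ).comp (Y'.fiberProd Λ).val).comp
        (φ.toAlgEquiv : (Y.pullback Λ).E →ₐ[A₀] (Y'.pullback Λ).E)))
    (T Y Y') (fun x => by
      change Y.proj x.1.1 = Y'.proj (φ.toAlgEquiv x).1.1
      have h1 : Y.proj x.1.1 = algebraMap Λ R x.1.2 := x.2
      have h2 : Y'.proj (φ.toAlgEquiv x).1.1 = algebraMap Λ R (φ.toAlgEquiv x).1.2 := (φ.toAlgEquiv x).2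
      rw [h1, h2]
      exact congrArg (algebraMap Λ R) (snd_φ φ x).symm)

theorem G_apply (x : (Y.pullback Λ).E) : (G φ x : Y.E × Y'.E) = (x.1.1, (φ.toAlgEquiv x).1.1) := rfl

theorem ker_le : RingHom.ker (Y.pullback Λ).proj ≤ RingHom.ker ((mkW Y Y').comp (G φ)) := by
  intro x hx
  rw [RingHom.mem_ker] at hx ⊢
  obtain ⟨z, rfl⟩ := ((Y.pullback Λ).isExtension.exact x).1 hx
  change mkW Y Y' (G φ ((Y.pullback Λ).incl z)) = 0
  rw [mkW_eq_zero_iff, mem_Δ]
  refine ⟨z, ?_⟩
  rw [G_apply, φ.apply_incl]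
  rfl

/-- the `Λ`-algebra structure map of `W`. -/
noncomputable def σ : Λ →ₐ[A₀] W Y Y' :=
  AlgHom.liftOfSurjective (Y.pullback Λ).proj (Y.pullback Λ).isExtension.proj_surjective
    ((mkW Y Y').comp (G φ)) (ker_le φ)

theorem σ_proj (x : (Y.pullback Λ).E) : σ φ ((Y.pullback Λ).proj x) = mkW Y Y' (G φ x) :=
  AlgHom.liftOfSurjective_apply _ _ _ _ x

theorem projW_σ (a : Λ) : projW Y Y' (σ φ a) = algebraMap Λ R a := by
  obtain ⟨x, rfl⟩ := (Y.pullback Λ).isExtension.proj_surjective a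
  rw [σ_proj, projW_mk]
  exact x.2

/-- the Baer difference as a `Λ`-extension. -/
noncomputable def Xw : Exal.Ext Λ R M :=
  letI : Algebra Λ (W Y Y') := (σ φ).toRingHom.toAlgebra
  { E := W Y Y'
    proj := { (projW Y Y' : W Y Y' →+* R) with commutes' := fun a => projW_σ φ a }
    incl := inclW Y Y'
    isExtension :=
      { proj_surjective := (isExtensionW Y Y').proj_surjective
        incl_injective := (isExtensionW Y Y').incl_injective
        exact := (isExtensionW Y Y').exact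
        mul_incl := (isExtensionW Y Y').mul_incl } }

theorem equiv_of_trivial (h : (Xw φ).IsTrivial) : Nonempty (Y.Equiv Y') := by
  obtain ⟨s, hs⟩ := h
  have hs' : ∀ r, projW Y Y' (s r) = r := hs
  have hsc : ∀ a : Λ, s (algebraMap Λ R a) = σ φ a := fun a => s.commutes a
  let s' : R →ₐ[A₀] W Y Y' :=
    { toRingHom := (show R →+* W Y Y' from s.toRingHom)
      commutes' := fun c => by
        change s (algebraMap A₀ R c) = algebraMap A₀ (W Y Y') c
        rw [IsScalarTower.algebraMap_apply A₀ Λ R, hsc, (σ φ).commutes] }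
  have hs'' : ∀ r, s' r = s r := fun r => rfl
  let pT : T Y Y' →ₐ[A₀] R := (Y.proj.comp (AlgHom.fst A₀ Y.E Y'.E)).comp (T Y Y').val
  let Γ : Subalgebra A₀ (T Y Y') := AlgHom.equalizer (mkW Y Y') (s'.comp pT)
  have hΓ : ∀ t : T Y Y', t ∈ Γ ↔ mkW Y Y' t = s' (Y.proj t.1.1) := fun t => Iff.rfl
  let π₁ : Γ →ₐ[A₀] Y.E := ((AlgHom.fst A₀ Y.E Y'.E).comp (T Y Y').val).comp Γ.val
  let π₂ : Γ →ₐ[A₀] Y'.E := ((AlgHom.snd A₀ Y.E Y'.E).comp (T Y Y').val).comp Γ.val
  have hπ₁ : ∀ g : Γ, π₁ g = g.1.1.1 := fun g => rfl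
  have hπ₂ : ∀ g : Γ, π₂ g = g.1.1.2 := fun g => rfl
  have hbij : Function.Bijective π₁ := by
    constructor
    · intro g g' hgg'
      rw [hπ₁, hπ₁] at hgg'
      have h1 : mkW Y Y' g.1 = mkW Y Y' g'.1 := by
        rw [(hΓ g.1).1 g.2, (hΓ g'.1).1 g'.2, hgg']
      obtain ⟨z, hz1, hz2⟩ := (mkW_eq_iff Y Y').1 h1
      rw [hgg', sub_self] at hz1
      have hz : z = 0 := Y.isExtension.incl_injective (by rw [← hz1, map_zero])
      rw [hz, map_zero, sub_eq_zero] at hz2
      exact Subtype.ext (Subtype.ext (Prod.ext hgg' hz2))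
    · intro e
      obtain ⟨t₁, ht₁⟩ := mkW_surjective Y Y' (s' (Y.proj e))
      have h1 : Y.proj t₁.1.1 = Y.proj e := by
        rw [← projW_mk, ht₁, hs'', hs']
      obtain ⟨z, hz⟩ := (Y.isExtension.exact (e - t₁.1.1)).1 (by rw [map_sub, h1, sub_self])
      have hmem : (e, t₁.1.2 + Y'.incl z) ∈ T Y Y' := by
        rw [mem_T, map_add, proj_incl, add_zero, ← T_prop, h1]
      have hΓmem : (⟨(e, t₁.1.2 + Y'.incl z), hmem⟩ : T Y Y') ∈ Γ := by
        rw [hΓ, ← ht₁, mkW_eq_iff]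
        refine ⟨z, hz.symm, ?_⟩
        change t₁.1.2 + Y'.incl z - t₁.1.2 = _
        abel
      exact ⟨⟨_, hΓmem⟩, rfl⟩
  let eΓ : Γ ≃ₐ[A₀] Y.E := AlgEquiv.ofBijective π₁ hbij
  let ψ : Y.E →ₐ[A₀] Y'.E := π₂.comp (eΓ.symm : Y.E →ₐ[A₀] Γ)
  refine ⟨equivOfHom Y Y' ψ (fun e => ?_) (fun z => ?_)⟩
  · change Y'.proj (π₂ (eΓ.symm e)) = Y.proj e
    have h1 : π₁ (eΓ.symm e) = e := eΓ.apply_symm_apply e
    rw [hπ₂, ← T_prop, ← hπ₁, h1]
  · have hmem : (Y.incl z, Y'.incl z) ∈ T Y Y' := by rw [mem_T, proj_incl, proj_incl]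
    have hΓmem : (⟨(Y.incl z, Y'.incl z), hmem⟩ : T Y Y') ∈ Γ := by
      rw [hΓ]
      have h0 : mkW Y Y' ⟨(Y.incl z, Y'.incl z), hmem⟩ = 0 := by
        rw [mkW_eq_zero_iff, mem_Δ]; exact ⟨z, rfl⟩
      rw [h0]
      change 0 = s' (Y.proj (Y.incl z))
      rw [proj_incl, map_zero]
    have h1 : eΓ.symm (Y.incl z) = ⟨_, hΓmem⟩ := by
      rw [AlgEquiv.symm_apply_eq]; rfl
    change π₂ (eΓ.symm (Y.incl z)) = Y'.incl z
    rw [h1]
    rfl

end Lam

end Baer



/-- Let k be an algebraically closed field, Λ and R local Noetherian k-algebras with residue field k,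
and Λ → R a local k-algebra homomorphism. Then the relative obstruction space vanishes — every
Λ-extension of R by its residue field k is trivial — if and only if (a) the tangent map t_R → t_Λ is
surjective: every k-derivation of Λ into k extends along Λ → R to a k-derivation of R into k, and
(b) the obstruction map o(R) → o(Λ) given by inverse image is injective on classes: two k-extensions
of R by k whose inverse images over Λ are equivalent are equivalent (R is less obstructed than Λ).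
Here k is the residue field of R, a module over R, Λ and k through the structure maps. -/
theorem result
    {k : Type u} [Field k] [IsAlgClosed k]
    {Λ : Type u} [CommRing Λ] [Algebra k Λ] [IsLocalRing Λ] [IsNoetherianRing Λ]
    (hΛ : ∀ a : Λ, ∃ c : k, a - algebraMap k Λ c ∈ IsLocalRing.maximalIdeal Λ)
    {R : Type u} [CommRing R] [Algebra Λ R] [Algebra k R] [IsScalarTower k Λ R]
    [IsLocalRing R] [IsNoetherianRing R] [IsLocalHom (algebraMap Λ R)]
    (hR : ∀ r : R, ∃ c : k, r - algebraMap k R c ∈ IsLocalRing.maximalIdeal R) :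
    (∀ X : Exal.Ext Λ R (IsLocalRing.ResidueField R), X.IsTrivial) ↔
    ((∀ D : Derivation k Λ (IsLocalRing.ResidueField R),
        ∃ D' : Derivation k R (IsLocalRing.ResidueField R), ∀ a : Λ, D' (algebraMap Λ R a) = D a) ∧
     (∀ Y Y' : Exal.Ext k R (IsLocalRing.ResidueField R),
        Nonempty ((Y.pullback Λ).Equiv (Y'.pullback Λ)) → Nonempty (Y.Equiv Y'))) := by
  constructor
  · intro h
    exact ⟨fun D => exists_der_ext h D, fun Y Y' ⟨φ⟩ => equiv_of_trivial φ (h _)⟩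
  · rintro ⟨ha, hb⟩ X
    exact isTrivial_of ha hb X

end Groth.Agent.S11292
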