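import Groth.Statements.S11294
import Mathlib
-- import your own Groth.Agent.* helpers here

set_option autoImplicit false
universe u
open Deform

namespace Groth.Agent.S11294

open TrivSqZeroExt

section
variable {P : Type u} [CommRing P] (J : Ideal P)

lemma dn_eq (x : DualNumber P) : x = inl x.fst + inr x.snd :=
  (TrivSqZeroExt.inl_fst_add_inr_snd_eq x).symm

lemma eps_mul_eq (a b : P) : (DualNumber.eps : DualNumber P) * (inl a + inr b) = inr a := by
  apply TrivSqZeroExt.ext
  · rw [TrivSqZeroExt.fst_mul, DualNumber.fst_eps, zero_mul, TrivSqZeroExt.fst_inr]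
  · rw [TrivSqZeroExt.snd_mul, DualNumber.fst_eps, DualNumber.snd_eps, zero_smul, zero_add,
      TrivSqZeroExt.snd_inr, TrivSqZeroExt.fst_add, TrivSqZeroExt.fst_inl, TrivSqZeroExt.fst_inr,
      add_zero]
    simp

lemma inl_mul_eq (r a b : P) : (inl r : DualNumber P) * (inl a + inr b) = inl (r * a) + inr (r * b) := by
  apply TrivSqZeroExt.ext <;> simp

/-- the ideal attached to `φ` -/
def idealOf (φ : J →ₗ[P] (P ⧸ J)) : Ideal (DualNumber P) where
  carrier := {x | ∃ h : x.fst ∈ J, Ideal.Quotient.mk J x.snd = φ ⟨x.fst, h⟩}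
  add_mem' := by
    rintro x y ⟨hx, hx'⟩ ⟨hy, hy'⟩
    refine ⟨by simpa using add_mem hx hy, ?_⟩
    have : (⟨(x + y).fst, by simpa using add_mem hx hy⟩ : J) = ⟨x.fst, hx⟩ + ⟨y.fst, hy⟩ :=
      Subtype.ext (by simp)
    rw [this, map_add, ← hx', ← hy', TrivSqZeroExt.snd_add, map_add]
  zero_mem' := by
    refine ⟨by simp, ?_⟩
    have : (⟨(0 : DualNumber P).fst, by simp⟩ : J) = 0 := Subtype.ext (by simp)
    rw [this, map_zero]
    simp
  smul_mem' := by
    rintro y x ⟨hx, hx'⟩
    have h1 : (y • x).fst = y.fst * x.fst := by simp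
    have h2 : (y • x).snd = y.fst * x.snd + y.snd * x.fst := by
      simp [mul_comm]
    have hmem : (y • x).fst ∈ J := by rw [h1]; exact J.mul_mem_left _ hx
    refine ⟨hmem, ?_⟩
    have : (⟨(y • x).fst, hmem⟩ : J) = y.fst • ⟨x.fst, hx⟩ := Subtype.ext (by simp)
    rw [this, map_smul, ← hx', h2, map_add, map_mul]
    have h0 : Ideal.Quotient.mk J (y.snd * x.fst) = 0 :=
      Ideal.Quotient.eq_zero_iff_mem.2 (J.mul_mem_left _ hx)
    rw [h0, add_zero]
    rfl

lemma mem_idealOf (φ : J →ₗ[P] (P ⧸ J)) (a b : P) :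
    (inl a + inr b : DualNumber P) ∈ idealOf J φ ↔
      ∃ h : a ∈ J, Ideal.Quotient.mk J b = φ ⟨a, h⟩ := by
  change (∃ h : (inl a + inr b : DualNumber P).fst ∈ J,
    Ideal.Quotient.mk J (inl a + inr b : DualNumber P).snd = φ ⟨_, h⟩) ↔ _
  have h1 : (inl a + inr b : DualNumber P).fst = a := by simp
  have h2 : (inl a + inr b : DualNumber P).snd = b := by simp
  constructor
  · rintro ⟨h, h'⟩
    refine ⟨h1 ▸ h, ?_⟩
    rw [h2] at h'
    rw [h']
    congr 1
    exact Subtype.ext h1
  · rintro ⟨h, h'⟩
    refine ⟨h1.symm ▸ h, ?_⟩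
    rw [h2, h']
    congr 1
    exact Subtype.ext h1.symm

end

section
variable {P : Type u} [CommRing P]

lemma eps_mul_inl (c : P) : (DualNumber.eps : DualNumber P) * inl c = inr c := by
  have := eps_mul_eq c (0 : P)
  simpa using this

lemma fstHom_eq (x : DualNumber P) : TrivSqZeroExt.fstHom P P P x = x.fst := rfl

end

open TrivSqZeroExt in
/-- Let P be a commutative ring, J an ideal, and P[ε] the ring of dual numbers over P. First-order
embedded deformations of Spec(P/J) in Spec P, namely ideals J' of P[ε] lifting J (the image of J'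
under ε ↦ 0 is J) with P[ε]/J' flat over the dual numbers — flatness being replaced by the condition
that every element of P[ε]/J' annihilated by ε is a multiple of ε (equivalent to flatness over k[ε]
when P is an algebra over a field k) — are in canonical bijection with Hom_P(J, P/J) =
Hom_{P/J}(J/J^2, P/J), the normal module: to φ corresponds the ideal of all a + εb with a in J and b
reducing to φ(a) modulo J. The first clause says this rule defines exactly one ideal for each φ; the
second says an ideal J' is a flat lift of J precisely when its membership is given by this rule for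
some φ. (The published statement is the global one, identifying first-order deformations of a closed
subscheme X of an algebraic scheme Y with H^0(X, N_{X/Y}); this row is the affine computation in its
proof, valid for every commutative ring P.) -/
theorem result (P : Type u) [CommRing P] (J : Ideal P) :
    (∀ φ : J →ₗ[P] (P ⧸ J), ∃! J' : Ideal (DualNumber P),
        ∀ a b : P, (inl a + inr b : DualNumber P) ∈ J' ↔ ∃ h : a ∈ J, Ideal.Quotient.mk J b = φ ⟨a, h⟩) ∧
    (∀ J' : Ideal (DualNumber P),
      (J'.map (TrivSqZeroExt.fstHom P P P) = J ∧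
        ∀ m : DualNumber P ⧸ J', Ideal.Quotient.mk J' DualNumber.eps * m = 0 →
          ∃ m' : DualNumber P ⧸ J', m = Ideal.Quotient.mk J' DualNumber.eps * m') ↔
      ∃ φ : J →ₗ[P] (P ⧸ J), ∀ a b : P,
        (inl a + inr b : DualNumber P) ∈ J' ↔ ∃ h : a ∈ J, Ideal.Quotient.mk J b = φ ⟨a, h⟩) := by
  classical
  refine ⟨fun φ => ⟨idealOf J φ, mem_idealOf J φ, ?_⟩, ?_⟩
  · intro J'' hJ''
    ext x
    rw [dn_eq x, hJ'', mem_idealOf]
  intro J'
  have hsurj : Function.Surjective (TrivSqZeroExt.fstHom P P P) := fun a => ⟨inl a, by simp⟩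
  constructor
  · rintro ⟨hmap, htors⟩
    have hfst : ∀ x ∈ J', x.fst ∈ J := fun x hx => by
      rw [← hmap, ← fstHom_eq]; exact Ideal.mem_map_of_mem _ hx
    have hex : ∀ a ∈ J, ∃ b, (inl a + inr b : DualNumber P) ∈ J' := by
      intro a ha
      rw [← hmap] at ha
      obtain ⟨x, hx, rfl⟩ := (Ideal.mem_map_iff_of_surjective _ hsurj).1 ha
      refine ⟨x.snd, ?_⟩
      rw [fstHom_eq, ← dn_eq]; exact hx
    have hinr : ∀ c, (inr c : DualNumber P) ∈ J' ↔ c ∈ J := by
      intro c
      constructor
      · intro hc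
        have h1 : Ideal.Quotient.mk J' DualNumber.eps * Ideal.Quotient.mk J' (inl c) = 0 := by
          rw [← map_mul, Ideal.Quotient.eq_zero_iff_mem, eps_mul_inl]; exact hc
        obtain ⟨m', hm'⟩ := htors _ h1
        obtain ⟨x', rfl⟩ := Ideal.Quotient.mk_surjective m'
        rw [← map_mul, Ideal.Quotient.eq] at hm'
        have := hfst _ hm'
        simpa using this
      · intro hc
        obtain ⟨d, hd⟩ := hex c hc
        have := J'.mul_mem_left DualNumber.eps hd
        rwa [eps_mul_eq] at this
    choose! β hβ using hex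
    have hwd : ∀ a b, (inl a + inr b : DualNumber P) ∈ J' →
        Ideal.Quotient.mk J b = Ideal.Quotient.mk J (β a) := by
      intro a b hab
      have ha : a ∈ J := by simpa using hfst _ hab
      have h1 : (inr (b - β a) : DualNumber P) ∈ J' := by
        have := sub_mem hab (hβ a ha)
        have e : (inl a + inr b : DualNumber P) - (inl a + inr (β a)) = inr (b - β a) := by
          apply TrivSqZeroExt.ext <;> simp
        rwa [e] at this
      rw [Ideal.Quotient.eq]; exact (hinr _).1 h1
    let φ : J →ₗ[P] (P ⧸ J) :=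
      { toFun := fun a => Ideal.Quotient.mk J (β a)
        map_add' := fun a a' => by
          have h1 := add_mem (hβ a a.2) (hβ a' a'.2)
          have e : (inl (a : P) + inr (β a) : DualNumber P) + (inl (a' : P) + inr (β a')) =
              inl ((a : P) + a') + inr (β a + β a') := by
            apply TrivSqZeroExt.ext <;> simp
          rw [e] at h1
          rw [← map_add]
          exact (hwd _ _ h1).symm
        map_smul' := fun r a => by
          have h1 := J'.mul_mem_left (inl r) (hβ a a.2)
          rw [inl_mul_eq] at h1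
          have := (hwd _ _ h1).symm
          simp only [RingHom.id_apply]
          rw [show ((r • a : J) : P) = r * (a : P) from rfl, this, map_mul]
          rfl }
    refine ⟨φ, fun a b => ⟨fun hab => ⟨by simpa using hfst _ hab, hwd a b hab⟩, ?_⟩⟩
    rintro ⟨ha, hb⟩
    have h1 : (inr (b - β a) : DualNumber P) ∈ J' := (hinr _).2 (Ideal.Quotient.eq.1 hb)
    have h2 := add_mem (hβ a ha) h1
    have e : (inl a + inr (β a) : DualNumber P) + inr (b - β a) = inl a + inr b := by
      apply TrivSqZeroExt.ext <;> simp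
    rwa [e] at h2
  · rintro ⟨φ, hφ⟩
    constructor
    · apply le_antisymm
      · rw [Ideal.map_le_iff_le_comap]
        intro x hx
        rw [dn_eq x, hφ] at hx
        obtain ⟨h, -⟩ := hx
        exact h
      · intro a ha
        obtain ⟨b, hb⟩ := Ideal.Quotient.mk_surjective (φ ⟨a, ha⟩)
        have h1 : (inl a + inr b : DualNumber P) ∈ J' := (hφ a b).2 ⟨ha, hb⟩
        have h2 := Ideal.mem_map_of_mem (TrivSqZeroExt.fstHom P P P) h1
        simpa [fstHom_eq] using h2
    · intro m hm
      obtain ⟨x, rfl⟩ := Ideal.Quotient.mk_surjective m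
      rw [← map_mul, Ideal.Quotient.eq_zero_iff_mem, dn_eq x, eps_mul_eq] at hm
      have hx : x.fst ∈ J := by
        have h1 : (inl 0 + inr x.fst : DualNumber P) ∈ J' := by simpa using hm
        obtain ⟨h0, h⟩ := (hφ 0 x.fst).1 h1
        have h00 : (⟨0, h0⟩ : J) = 0 := rfl
        rw [h00, map_zero, Ideal.Quotient.eq_zero_iff_mem] at h
        exact h
      obtain ⟨b₀, hb₀⟩ := Ideal.Quotient.mk_surjective (φ ⟨x.fst, hx⟩)
      refine ⟨Ideal.Quotient.mk J' (inl (x.snd - b₀)), ?_⟩
      rw [← map_mul, Ideal.Quotient.eq, eps_mul_inl]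
      have e : x - inr (x.snd - b₀) = inl x.fst + inr b₀ := by
        apply TrivSqZeroExt.ext <;> simp
      rw [e]
      exact (hφ _ _).2 ⟨hx, hb₀⟩

end Groth.Agent.S11294
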