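import Groth.Statements.S11298
import Groth.Agent.Lib.DepthRees

set_option autoImplicit false
universe u v
open LocCoh

namespace Groth.Agent.S11298

section Helpers

open RingTheory.Sequence Pointwise

/-- If `x, y` is a weakly regular sequence on `B`, it is weakly regular on `Hom_B(M, B)`. -/
theorem isWeaklyRegular_dual (B : Type u) [CommRing B] (M : Type v) [AddCommGroup M] [Module B M]
    (x y : B) (h : IsWeaklyRegular B [x, y]) : IsWeaklyRegular (M →ₗ[B] B) [x, y] := by
  rw [isWeaklyRegular_cons_iff, isWeaklyRegular_cons_iff] at h ⊢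
  obtain ⟨hx, hy, -⟩ := h
  refine ⟨?_, ?_, IsWeaklyRegular.nil _ _⟩
  · rw [isSMulRegular_iff_right_eq_zero_of_smul]
    intro φ hφ
    ext m
    have : x • φ m = 0 := by rw [← LinearMap.smul_apply, hφ, LinearMap.zero_apply]
    exact hx.right_eq_zero_of_smul this
  · rw [isSMulRegular_quotient_iff_mem_of_smul_mem] at hy ⊢
    intro φ hφ
    obtain ⟨ψ, -, hψ⟩ := (Submodule.mem_smul_pointwise_iff_exists _ _ _).mp hφ
    -- pointwise divisibility
    have hdiv : ∀ m, ∃ b : B, x • b = φ m := by
      intro m
      have h1 : y • φ m ∈ x • (⊤ : Submodule B B) := by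
        refine (Submodule.mem_smul_pointwise_iff_exists _ _ _).mpr ⟨ψ m, trivial, ?_⟩
        rw [← LinearMap.smul_apply, hψ, LinearMap.smul_apply]
      obtain ⟨b, -, hb⟩ := (Submodule.mem_smul_pointwise_iff_exists _ _ _).mp (hy _ h1)
      exact ⟨b, hb⟩
    choose θ hθ using hdiv
    let Θ : M →ₗ[B] B :=
      { toFun := θ
        map_add' := fun m m' => by
          apply hx
          change x • θ (m + m') = x • (θ m + θ m')
          rw [smul_add, hθ, hθ, hθ, map_add]
        map_smul' := fun c m => by
          apply hx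
          change x • θ (c • m) = x • (c • θ m)
          rw [smul_comm x c, hθ, hθ, map_smul] }
    refine (Submodule.mem_smul_pointwise_iff_exists _ _ _).mpr ⟨Θ, trivial, ?_⟩
    ext m
    exact hθ m

end Helpers

/-- Let X = Spec B be an affine Noetherian scheme, Z = V(I) a closed subscheme and G a coherent sheaf,
i.e. a finitely generated B-module M, with dual G^v = Hom_B(M, B). If depth_Z(O_X) ≥ 2 then
depth_Z(G^v) ≥ 2. Here the depth along I of a module N is the supremum of the lengths of N-regular
sequences contained in I (and is infinite when I N = N). (The published statement adds that sections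
of the dual over X and over X minus Z agree; this row omits that clause.) -/
theorem result (B : Type u) [CommRing B] [IsNoetherianRing B]
    (I : Ideal B) (M : Type v) [AddCommGroup M] [Module B M] [Module.Finite B M]
    (h : 2 ≤ LocCoh.idealDepth I B) : 2 ≤ LocCoh.idealDepth I (M →ₗ[B] B) := by
  by_cases hN : I • (⊤ : Submodule B (M →ₗ[B] B)) = ⊤
  · unfold LocCoh.idealDepth
    rw [if_pos hN]
    exact le_top
  by_cases hB : I • (⊤ : Submodule B B) = ⊤
  · exfalso
    apply hN
    have hI : I = ⊤ := by
      rw [smul_eq_mul, Ideal.mul_top] at hB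
      exact hB
    rw [hI]
    exact Submodule.top_smul _
  · have h2 : ((2 : ℕ) : ℕ∞) ≤ LocCoh.idealDepth I B := by exact_mod_cast h
    obtain ⟨rs, hlen, hmem, hreg⟩ :=
      (Groth.Agent.Lib.DepthRees.natCast_le_idealDepth_iff I B hB 2).mp h2
    have goal2 : ((2 : ℕ) : ℕ∞) ≤ LocCoh.idealDepth I (M →ₗ[B] B) := by
      rw [Groth.Agent.Lib.DepthRees.natCast_le_idealDepth_iff I _ hN 2]
      match rs, hlen, hmem, hreg with
      | [x, y], _, hmem, hreg =>
        exact ⟨[x, y], rfl, hmem, isWeaklyRegular_dual B M x y hreg⟩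
    exact_mod_cast goal2

end Groth.Agent.S11298
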