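import Groth.Statements.S11299
import Mathlib.Algebra.Module.Projective
import Mathlib.Tactic

set_option autoImplicit false
universe u
open CAlg

namespace Groth.Agent.S11299


section Abstract

variable {P : Type*} [CommRing P] {H H' : Type*} [AddCommGroup H] [Module P H]
  [AddCommGroup H'] [Module P H']

/-- the map induced on images of `K` in `H / Im`. -/
def mapT (Im K : Submodule P H) (Im' K' : Submodule P H') (g : H →ₗ[P] H')
    (hIm : Im ≤ Im'.comap g) (hK : K ≤ K'.comap g) :
    ↥(Submodule.map Im.mkQ K) →ₗ[P] ↥(Submodule.map Im'.mkQ K') :=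
  (Im.mapQ Im' g hIm).restrict (by
    rintro _ ⟨x, hx, rfl⟩
    exact ⟨g x, hK hx, rfl⟩)

lemma mapT_mk (Im K : Submodule P H) (Im' K' : Submodule P H') (g : H →ₗ[P] H')
    (hIm : Im ≤ Im'.comap g) (hK : K ≤ K'.comap g) (x : H) (hx : Im.mkQ x ∈ Submodule.map Im.mkQ K) :
    ((mapT Im K Im' K' g hIm hK ⟨Im.mkQ x, hx⟩ : ↥(Submodule.map Im'.mkQ K')) : H' ⧸ Im') =
      Im'.mkQ (g x) := rfl

lemma nonempty_equiv (Im K : Submodule P H) (Im' K' : Submodule P H') (g : H →ₗ[P] H')
    (g' : H' →ₗ[P] H)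
    (hIm : Im ≤ Im'.comap g) (hK : K ≤ K'.comap g) (hIm' : Im' ≤ Im.comap g')
    (hK' : K' ≤ K.comap g')
    (h1 : ∀ x ∈ K, g' (g x) - x ∈ Im) (h2 : ∀ y ∈ K', g (g' y) - y ∈ Im') :
    Nonempty (↥(Submodule.map Im.mkQ K) ≃ₗ[P] ↥(Submodule.map Im'.mkQ K')) := by
  refine ⟨LinearEquiv.ofLinearMap (mapT Im K Im' K' g hIm hK) (mapT Im' K' Im K g' hIm' hK') ?_ ?_⟩
  · ext ⟨_, y, hy, rfl⟩
    change Im'.mkQ (g (g' y)) = Im'.mkQ y
    rw [← sub_eq_zero, ← map_sub, Submodule.mkQ_apply, Submodule.Quotient.mk_eq_zero]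
    exact h2 y hy
  · ext ⟨_, x, hx, rfl⟩
    change Im.mkQ (g' (g x)) = Im.mkQ x
    rw [← sub_eq_zero, ← map_sub, Submodule.mkQ_apply, Submodule.Quotient.mk_eq_zero]
    exact h1 x hx

end Abstract

section Concrete

variable {P : Type u} [CommRing P] (J : Ideal P)
variable {F : Type u} [AddCommGroup F] [Module P F] {F' : Type u} [AddCommGroup F'] [Module P F']

/-- the trivial (Koszul) relations -/
abbrev triv (j : F →ₗ[P] P) : Submodule P F :=
  Submodule.span P {y : F | ∃ u v : F, y = j u • v - j v • u}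

/-- restrictions of maps `F → P/J`. -/
abbrev Im (j : F →ₗ[P] P) : Submodule P (↥(LinearMap.ker j) →ₗ[P] P ⧸ J) :=
  LinearMap.range (LinearMap.lcomp P (P ⧸ J) (LinearMap.ker j).subtype)

/-- maps killing the trivial relations -/
abbrev K (j : F →ₗ[P] P) : Submodule P (↥(LinearMap.ker j) →ₗ[P] P ⧸ J) :=
  LinearMap.ker (LinearMap.lcomp P (P ⧸ J)
    (Submodule.comap (LinearMap.ker j).subtype (triv j)).subtype)

variable {j : F →ₗ[P] P} {j' : F' →ₗ[P] P}

/-- map on relation modules induced by a comparison map -/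
def resR (α : F →ₗ[P] F') (hα : j' ∘ₗ α = j) : ↥(LinearMap.ker j) →ₗ[P] ↥(LinearMap.ker j') :=
  α.restrict (fun x hx => by
    rw [LinearMap.mem_ker] at hx ⊢
    rw [← hx, ← hα]
    rfl)

/-- pull back along a comparison map -/
def pull (α : F →ₗ[P] F') (hα : j' ∘ₗ α = j) :
    (↥(LinearMap.ker j') →ₗ[P] P ⧸ J) →ₗ[P] (↥(LinearMap.ker j) →ₗ[P] P ⧸ J) :=
  LinearMap.lcomp P (P ⧸ J) (resR α hα)

lemma pull_Im (α : F →ₗ[P] F') (hα : j' ∘ₗ α = j) :
    Im J j' ≤ (Im J j).comap (pull J α hα) := by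
  rintro _ ⟨ψ, rfl⟩
  exact ⟨ψ ∘ₗ α, by ext x; rfl⟩

lemma map_triv (α : F →ₗ[P] F') (hα : j' ∘ₗ α = j) : (triv j).map α ≤ triv j' := by
  rw [Submodule.map_span_le]
  rintro _ ⟨u, v, rfl⟩
  refine Submodule.subset_span ⟨α u, α v, ?_⟩
  have h : ∀ x, j' (α x) = j x := fun x => by rw [← hα]; rfl
  rw [map_sub, map_smul, map_smul, h, h]

lemma pull_K (α : F →ₗ[P] F') (hα : j' ∘ₗ α = j) :
    K J j' ≤ (K J j).comap (pull J α hα) := by
  intro φ hφ
  rw [Submodule.mem_comap, LinearMap.mem_ker]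
  rw [LinearMap.mem_ker] at hφ
  ext ⟨x, hx⟩
  have hx' : resR α hα x ∈ Submodule.comap (LinearMap.ker j').subtype (triv j') :=
    map_triv α hα ⟨_, hx, rfl⟩
  exact LinearMap.congr_fun hφ ⟨resR α hα x, hx'⟩

lemma pull_sub_mem (α β : F →ₗ[P] F') (hα : j' ∘ₗ α = j) (hβ : j' ∘ₗ β = j)
    (φ : ↥(LinearMap.ker j') →ₗ[P] P ⧸ J) :
    pull J α hα φ - pull J β hβ φ ∈ Im J j := by
  have hmem : ∀ x, (α - β) x ∈ LinearMap.ker j' := by
    intro x
    have h : ∀ (γ : F →ₗ[P] F') (hγ : j' ∘ₗ γ = j) x, j' (γ x) = j x :=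
      fun γ hγ x => by rw [← hγ]; rfl
    rw [LinearMap.mem_ker, LinearMap.sub_apply, map_sub, h α hα, h β hβ, sub_self]
  refine ⟨φ ∘ₗ (α - β).codRestrict (LinearMap.ker j') hmem, ?_⟩
  ext x
  change φ _ = φ (resR α hα x) - φ (resR β hβ x)
  rw [← map_sub]
  rfl

lemma pull_comp {F'' : Type u} [AddCommGroup F''] [Module P F''] {j'' : F'' →ₗ[P] P}
    (α : F →ₗ[P] F') (hα : j' ∘ₗ α = j) (β : F' →ₗ[P] F'') (hβ : j'' ∘ₗ β = j')
    (hβα : j'' ∘ₗ (β ∘ₗ α) = j)
    (φ : ↥(LinearMap.ker j'') →ₗ[P] P ⧸ J) :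
    pull J α hα (pull J β hβ φ) = pull J (β ∘ₗ α) hβα φ := rfl

lemma pull_id (h : j ∘ₗ LinearMap.id = j) (φ : ↥(LinearMap.ker j) →ₗ[P] P ⧸ J) :
    pull J LinearMap.id h φ = φ := rfl

lemma exists_lift [Module.Projective P F] (hj : LinearMap.range j = J)
    (hj' : LinearMap.range j' = J) : ∃ α : F →ₗ[P] F', j' ∘ₗ α = j := by
  have h1 : ∀ x, j x ∈ LinearMap.range j' := fun x => by rw [hj', ← hj]; exact ⟨x, rfl⟩
  let jr : F →ₗ[P] ↥(LinearMap.range j') := j.codRestrict _ h1
  obtain ⟨α, hα⟩ := Module.projective_lifting_property j'.rangeRestrict jr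
    (LinearMap.surjective_rangeRestrict j')
  refine ⟨α, ?_⟩
  ext x
  exact congrArg Subtype.val (LinearMap.congr_fun hα x)

end Concrete

/-- The second cotangent module does not depend on the presentation: let P be a commutative ring, J an
ideal and B = P/J. For a presentation of J, i.e. a finitely generated free P-module F with a
P-linear map j : F → P with image J, let R = ker j be the relation module and R^tr ⊆ R the span of
the trivial relations j(u) • v - j(v) • u; the module T^2 of the presentation is the quotient of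
Hom_B(R/R^tr, B), realised as the P-linear maps R → P/J vanishing on R^tr, by the restrictions to R
of the P-linear maps F → P/J (here: the image of that submodule in the quotient of Hom_P(R, P/J) by
the restrictions). Then for two presentations (F, j) and (F', j') of the same ideal J the two
modules T^2 are isomorphic as P-modules (existence of an isomorphism; the comparison maps depend on
expressing one system of generators through the other). (The published statement takes B essentially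
of finite type over a field and P smooth; this row allows any commutative ring P and ideal J.) -/
theorem result (P : Type u) [CommRing P] (J : Ideal P)
    (F : Type u) [AddCommGroup F] [Module P F] [Module.Free P F] [Module.Finite P F]
    (F' : Type u) [AddCommGroup F'] [Module P F'] [Module.Free P F'] [Module.Finite P F']
    (j : F →ₗ[P] P) (j' : F' →ₗ[P] P) (hj : LinearMap.range j = J) (hj' : LinearMap.range j' = J) :
    Nonempty (↥(Submodule.map
          (LinearMap.range (LinearMap.lcomp P (P ⧸ J) (LinearMap.ker j).subtype)).mkQ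
          (LinearMap.ker (LinearMap.lcomp P (P ⧸ J)
            (Submodule.comap (LinearMap.ker j).subtype
              (Submodule.span P {y : F | ∃ u v : F, y = j u • v - j v • u})).subtype))) ≃ₗ[P]
      ↥(Submodule.map
          (LinearMap.range (LinearMap.lcomp P (P ⧸ J) (LinearMap.ker j').subtype)).mkQ
          (LinearMap.ker (LinearMap.lcomp P (P ⧸ J)
            (Submodule.comap (LinearMap.ker j').subtype
              (Submodule.span P {y : F' | ∃ u v : F', y = j' u • v - j' v • u})).subtype)))) := by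
  obtain ⟨α, hα⟩ := exists_lift (J := J) (j := j) (j' := j') hj hj'
  obtain ⟨β, hβ⟩ := exists_lift (J := J) (j := j') (j' := j) hj' hj
  have hβα : j ∘ₗ (β ∘ₗ α) = j := by rw [← LinearMap.comp_assoc, hβ, hα]
  have hαβ : j' ∘ₗ (α ∘ₗ β) = j' := by rw [← LinearMap.comp_assoc, hα, hβ]
  refine nonempty_equiv (Im J j) (K J j) (Im J j') (K J j') (pull J β hβ) (pull J α hα)
    (pull_Im J β hβ) (pull_K J β hβ) (pull_Im J α hα) (pull_K J α hα) ?_ ?_
  · intro x _
    have := pull_sub_mem J (β ∘ₗ α) LinearMap.id hβα (LinearMap.comp_id j) x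
    rwa [pull_id] at this
  · intro y _
    have := pull_sub_mem J (α ∘ₗ β) LinearMap.id hαβ (LinearMap.comp_id j') y
    rwa [pull_id] at this

end Groth.Agent.S11299
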