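import Groth.Statements.S11301
import Groth.Agent.Lib.H4RegRes
import Groth.Agent.S1647
import Groth.Agent.S0022
import Groth.Agent.Lib.CohFinAmple
import Groth.Agent.Lib.H90Invertible
import Groth.Agent.Lib.H90CohSum
import Groth.Agent.Lib.H90OXModExact
import Groth.Agent.Lib.GradedNoetherian
-- import your own Groth.Agent.* helpers here

set_option autoImplicit false
universe u
open CategoryTheory CategoryTheory.Limits AlgebraicGeometry
open Variety

namespace Groth.Agent.S11301

/-- m-regularity via linear resolutions: in one-step form: let k be an algebraically closed field and F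
a coherent module on P^n_k. Then F is m-regular if and only if there are b ≥ 0 and an epimorphism
O(-m)^b → F (from the direct sum of b copies of O(-m)) whose kernel is (m+1)-regular. (The published
statement is the equivalent characterisation by a resolution ... → O(-m-2)^{b_2} → O(-m-1)^{b_1} →
O(-m)^{b_0} → F → 0; it follows from this one-step form by induction, and conversely.) -/
theorem result (k : Type u) [Field k] [IsAlgClosed k] (n : ℕ)
    (F : (CohB1.ProjSpace n k).Modules) (hF : Coh.IsCoh F) (m : ℤ) :
    Curv2.IsMRegular k n F m ↔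
      ∃ (b : ℕ) (φ : (∐ fun _ : Fin b => Twist.twistProjSpace n k (-m)) ⟶ F),
        Epi φ ∧ Curv2.IsMRegular k n (kernel φ) (m + 1) := by

  have := hF.1
  haveI : IsLocallyNoetherian (CohB1.ProjSpace n k) := by
    haveI : IsNoetherian (AlgebraicGeometry.Proj (CohB1.polyGrading n k)) :=
      Groth.Agent.Lib.GradedNoetherian.proj_isNoetherian (CohB1.polyGrading n k)
    exact inferInstanceAs (IsLocallyNoetherian (AlgebraicGeometry.Proj (CohB1.polyGrading n k)))
  have hcohO : ∀ d : ℤ, Coh.IsCoh (Twist.twistProjSpace n k d) := fun d =>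
    Groth.Agent.Lib.H90Invertible.isCoh_of_isInvertible
      (Groth.Agent.Lib.H4Twist.isInvertible_twistProjSpace n k d)
  constructor
  · intro h
    have hM : Coh.IsCoh (CohB1.tensorMod F (Twist.twistProjSpace n k m)) :=
      Groth.Agent.Lib.CohFinAmple.isCoh_tensorMod hF (hcohO m)
    obtain ⟨b, φ, hφ, hK⟩ := Groth.Agent.Lib.H4RegRes.exists_epi_sigma_regular_kernel n k F hM
      (Groth.Agent.S1647.result k n F hF m h) h
    exact ⟨b, φ, hφ, hK⟩
  · rintro ⟨b, φ, hφ, hK⟩ i hi hin
    haveI := CategoryTheory.Abelian.hasFiniteBiproducts (C := (CohB1.ProjSpace n k).Modules)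
    have hP : Coh.IsCoh (∐ fun _ : Fin b => Twist.twistProjSpace n k (-m)) :=
      Groth.Agent.Lib.CohFinAmple.isCoh_of_iso
        (biproduct.isoCoproduct (fun _ : Fin b => Twist.twistProjSpace n k (-m)))
        (Groth.Agent.Lib.H90CohSum.isCoh_biproduct _ (fun _ => hcohO (-m)))
    have hKcoh : Coh.IsCoh (kernel φ) := Groth.Agent.Lib.H90OXModExact.isCoh_kernel φ hP
    refine Groth.Agent.Lib.H4RegRes.subsingleton_HH_of_epi_sigma n k b (-m) φ (m - i) i (by omega)
      (Or.inr (by omega)) ?_
    by_cases hlt : i + 1 ≤ n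
    · have h1 := hK (i + 1) (by omega) hlt
      exact Groth.Agent.Lib.H4Regularity.subsingleton_HH_congr n k _ (by push_cast; ring) rfl h1
    · have hq : Coh.IsQCoh (CohB1.tensorMod (kernel φ) (Twist.twistProjSpace n k (m - i))) :=
        (Groth.Agent.Lib.CohFinAmple.isCoh_tensorMod hKcoh (hcohO (m - i))).1
      exact Groth.Agent.S0022.result n k _ (i + 1) (by omega)

end Groth.Agent.S11301
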