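import Groth.Statements.S12482
import Mathlib.RingTheory.Regular.RegularSequence
import Mathlib.RingTheory.Ideal.Cotangent
import Mathlib.Tactic

set_option autoImplicit false
universe u
open Dual

namespace Groth.Agent.S12482


/-- `Ideal.ofList (List.ofFn x)` is the span of the range of `x`. -/
lemma ofList_ofFn {A : Type*} [CommRing A] {p : ℕ} (x : Fin p → A) :
    Ideal.ofList (List.ofFn x) = Ideal.span (Set.range x) := by
  unfold Ideal.ofList
  congr 1
  ext a
  simp [List.mem_ofFn]

/-- Relations among the members of a weakly regular sequence have coefficients in the ideal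
generated by the sequence. -/
lemma coeff_mem_of_sum_eq_zero {A : Type*} [CommRing A] (p : ℕ) :
    ∀ (x : Fin p → A), RingTheory.Sequence.IsWeaklyRegular A (List.ofFn x) →
      ∀ c : Fin p → A, ∑ i, c i * x i = 0 → ∀ i, c i ∈ Ideal.span (Set.range x) := by
  induction p with
  | zero => intro x _ c _ i; exact i.elim0
  | succ p ih =>
    intro x hreg c hc
    rw [List.ofFn_succ', List.concat_eq_append,
      RingTheory.Sequence.isWeaklyRegular_append_iff] at hreg
    obtain ⟨hreg1, hreg2⟩ := hreg
    rw [RingTheory.Sequence.isWeaklyRegular_singleton_iff] at hreg2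
    set x' : Fin p → A := fun i => x (Fin.castSucc i) with hx'
    have hJ' : Ideal.ofList (List.ofFn x') = Ideal.span (Set.range x') := ofList_ofFn x'
    have hle : Ideal.span (Set.range x') ≤ Ideal.span (Set.range x) := by
      apply Ideal.span_mono
      rintro _ ⟨i, rfl⟩
      exact ⟨Fin.castSucc i, rfl⟩
    have hlast : x (Fin.last p) ∈ Ideal.span (Set.range x) :=
      Ideal.subset_span ⟨_, rfl⟩
    rw [Fin.sum_univ_castSucc] at hc
    have htop : (Ideal.ofList (List.ofFn x') • ⊤ : Submodule A A) = Ideal.span (Set.range x') := by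
      rw [hJ', smul_eq_mul, Ideal.mul_top]
    -- the last coefficient lies in the span of the previous elements
    have h1 : c (Fin.last p) ∈ Ideal.span (Set.range x') := by
      have hmem : c (Fin.last p) * x (Fin.last p) ∈ Ideal.span (Set.range x') := by
        have : c (Fin.last p) * x (Fin.last p) = -∑ i : Fin p, c (Fin.castSucc i) * x' i := by
          rw [eq_neg_iff_add_eq_zero, add_comm]; exact hc
        rw [this]
        refine neg_mem (Submodule.sum_mem _ fun i _ => ?_)
        exact Ideal.mul_mem_left _ _ (Ideal.subset_span ⟨i, rfl⟩)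
      have hq : x (Fin.last p) • (Submodule.Quotient.mk (c (Fin.last p)) :
          A ⧸ (Ideal.ofList (List.ofFn x') • ⊤ : Submodule A A)) = 0 := by
        rw [← Submodule.Quotient.mk_smul, Submodule.Quotient.mk_eq_zero, htop, smul_eq_mul, mul_comm]
        exact hmem
      have h0 := hreg2 (by rw [hq, smul_zero] :
        x (Fin.last p) • (Submodule.Quotient.mk (c (Fin.last p)) :
          A ⧸ (Ideal.ofList (List.ofFn x') • ⊤ : Submodule A A)) = x (Fin.last p) • 0)
      rw [Submodule.Quotient.mk_eq_zero, htop] at h0
      exact h0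
    obtain ⟨d, hd⟩ := (Ideal.mem_span_range_iff_exists_fun).mp h1
    -- substitute
    have h2 : ∑ i : Fin p, (c (Fin.castSucc i) + d i * x (Fin.last p)) * x' i = 0 := by
      have : ∑ i : Fin p, (c (Fin.castSucc i) + d i * x (Fin.last p)) * x' i =
          ∑ i : Fin p, c (Fin.castSucc i) * x (Fin.castSucc i) +
            (∑ i : Fin p, d i * x' i) * x (Fin.last p) := by
        rw [Finset.sum_mul, ← Finset.sum_add_distrib]
        refine Finset.sum_congr rfl fun i _ => ?_
        simp only [hx']; ring
      rw [this, hd]; exact hc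
    have h3 := ih x' hreg1 _ h2
    intro i
    refine Fin.lastCases ?_ (fun j => ?_) i
    · exact hle h1
    · have := hle (h3 j)
      have h4 : c (Fin.castSucc j) =
          (c (Fin.castSucc j) + d j * x (Fin.last p)) - d j * x (Fin.last p) := by ring
      rw [h4]
      exact sub_mem this (Ideal.mul_mem_left _ _ hlast)

/-- Let `A` be a commutative ring, `x_1, …, x_p` a sequence of elements of `A` such that each `x_i` is a
non-zero-divisor on `A/(x_1, …, x_{i-1})`, and `J` the ideal generated by the `x_i`. Then `J/J²` is
a free `(A/J)`-module with basis the classes of the `x_i`: there is a basis of `J/J²` over `A/J`,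
indexed by `1, …, p`, whose `i`-th vector is the class of `x_i`. (The other assertions of the
published statement, on the Koszul complex and on Ext and Tor against `A/J`, are stated separately.) -/
theorem result (A : Type u) [CommRing A] (p : ℕ) (x : Fin p → A)
    (hreg : RingTheory.Sequence.IsWeaklyRegular A (List.ofFn x)) :
    ∃ b : Module.Basis (Fin p) (A ⧸ Ideal.span (Set.range x)) (Ideal.span (Set.range x)).Cotangent,
      ∀ i, b i = (Ideal.span (Set.range x)).toCotangent ⟨x i, Ideal.subset_span (Set.mem_range_self i)⟩ := by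
  set J := Ideal.span (Set.range x) with hJ
  set v : Fin p → J.Cotangent :=
    fun i => J.toCotangent ⟨x i, Ideal.subset_span (Set.mem_range_self i)⟩ with hv
  -- scalar multiplication by classes
  have hsmul : ∀ (a : A) (m : J.Cotangent), (Ideal.Quotient.mk J a) • m = a • m := by
    intro a m
    exact (algebraMap_smul (A ⧸ J) a m)
  have hli : LinearIndependent (A ⧸ J) v := by
    rw [Fintype.linearIndependent_iff]
    intro g hg i
    choose a ha using fun i => Ideal.Quotient.mk_surjective (g i)
    have h1 : ∑ i, g i • v i = J.toCotangent ⟨∑ i, a i * x i,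
        Submodule.sum_mem _ fun i _ => J.mul_mem_left _ (Ideal.subset_span ⟨i, rfl⟩)⟩ := by
      have : (⟨∑ i, a i * x i, Submodule.sum_mem _ fun i _ =>
          J.mul_mem_left _ (Ideal.subset_span ⟨i, rfl⟩)⟩ : J) =
          ∑ i, a i • (⟨x i, Ideal.subset_span (Set.mem_range_self i)⟩ : J) := by
        ext
        simp
      rw [this, map_sum]
      refine Finset.sum_congr rfl fun i _ => ?_
      rw [map_smul, ← ha i, hsmul]
    rw [h1, Ideal.toCotangent_eq_zero] at hg
    simp only at hg
    -- elements of J^2
    have h2 : ∑ i, a i * x i ∈ J • (Submodule.span A (Set.range x)) := by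
      have : J • (Submodule.span A (Set.range x)) = J ^ 2 := by
        rw [pow_two, smul_eq_mul]
      rw [this]; exact hg
    rw [Submodule.mem_ideal_smul_span_iff_exists_sum] at h2
    obtain ⟨b, hb, hsum⟩ := h2
    rw [Finsupp.sum_fintype _ _ (by simp)] at hsum
    have h3 : ∑ i, (a i - b i) * x i = 0 := by
      simp only [sub_mul, Finset.sum_sub_distrib]
      rw [sub_eq_zero]
      simpa [smul_eq_mul] using hsum.symm
    have h4 := coeff_mem_of_sum_eq_zero p x hreg _ h3 i
    have h5 : a i ∈ J := by
      have : a i = (a i - b i) + b i := by ring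
      rw [this]; exact add_mem h4 (hb i)
    rw [← ha i]
    exact Ideal.Quotient.eq_zero_iff_mem.mpr h5
  have hsp : ⊤ ≤ Submodule.span (A ⧸ J) (Set.range v) := by
    intro m _
    obtain ⟨⟨y, hy⟩, rfl⟩ := J.toCotangent_surjective m
    obtain ⟨c, hc⟩ := (Ideal.mem_span_range_iff_exists_fun).mp hy
    have : (⟨y, hy⟩ : J) = ∑ i, c i • (⟨x i, Ideal.subset_span (Set.mem_range_self i)⟩ : J) := by
      ext
      simp [← hc]
    rw [this, map_sum]
    refine Submodule.sum_mem _ fun i _ => ?_
    rw [map_smul, ← hsmul]
    exact Submodule.smul_mem _ _ (Submodule.subset_span ⟨i, rfl⟩)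
  exact ⟨Module.Basis.mk hli hsp, fun i => by rw [Module.Basis.mk_apply]⟩

end Groth.Agent.S12482
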