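import Groth.Statements.S11302
import Groth.Agent.S12482
import Mathlib.Algebra.MvPolynomial.Derivation
import Mathlib.Tactic

set_option autoImplicit false
universe u
open Deform

namespace Groth.Agent.S11302


section General

variable {P : Type u} [CommRing P] {n : ℕ} (f : Fin n → P)

/-- the generators as elements of the ideal -/
def gen (i : Fin n) : ↥(Ideal.span (Set.range f)) :=
  ⟨f i, Ideal.subset_span (Set.mem_range_self i)⟩

lemma span_gen_eq_top : Submodule.span P (Set.range (gen f)) = ⊤ := by
  rw [eq_top_iff]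
  rintro ⟨y, hy⟩ -
  obtain ⟨c, hc⟩ := (Ideal.mem_span_range_iff_exists_fun).mp hy
  have : (⟨y, hy⟩ : ↥(Ideal.span (Set.range f))) = ∑ i, c i • gen f i := by
    ext
    simp [gen, ← hc]
  rw [this]
  exact Submodule.sum_mem _ fun i _ => Submodule.smul_mem _ _ (Submodule.subset_span ⟨i, rfl⟩)

/-- evaluation of a homomorphism `J → P/J` at the generators. -/
def evalGen : (↥(Ideal.span (Set.range f)) →ₗ[P] (P ⧸ Ideal.span (Set.range f))) →ₗ[P]
    (Fin n → P ⧸ Ideal.span (Set.range f)) where
  toFun φ := fun i => φ (gen f i)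
  map_add' φ ψ := by ext i; simp
  map_smul' a φ := by ext i; simp

lemma evalGen_injective : Function.Injective (evalGen f) := by
  intro φ ψ h
  apply LinearMap.ext_on (span_gen_eq_top f)
  rintro _ ⟨i, rfl⟩
  exact congrFun h i

lemma evalGen_surjective (hreg : RingTheory.Sequence.IsWeaklyRegular P (List.ofFn f)) :
    Function.Surjective (evalGen f) := by
  intro b
  obtain ⟨bas, hbas⟩ := Groth.Agent.S12482.result P n f hreg
  let ψ : (Ideal.span (Set.range f)).Cotangent →ₗ[P ⧸ Ideal.span (Set.range f)]
      (P ⧸ Ideal.span (Set.range f)) := bas.constr (P ⧸ Ideal.span (Set.range f)) b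
  refine ⟨(ψ.restrictScalars P) ∘ₗ (Ideal.span (Set.range f)).toCotangent, ?_⟩
  ext i
  change ψ ((Ideal.span (Set.range f)).toCotangent (gen f i)) = b i
  have : (Ideal.span (Set.range f)).toCotangent (gen f i) = bas i := (hbas i).symm
  rw [this]
  exact bas.constr_basis _ _ _

end General



section Restrict

variable {k : Type u} [CommRing k] {P : Type u} [CommRing P] [Algebra k P] (J : Ideal P)

lemma smul_quot_eq (a : P) (b : P ⧸ J) : a • b = Ideal.Quotient.mk J a * b := by
  rw [Algebra.smul_def]
  rfl

lemma coe_smul_quot_eq_zero (y : J) (b : P ⧸ J) : (y : P) • b = 0 := by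
  rw [smul_quot_eq, Ideal.Quotient.eq_zero_iff_mem.mpr y.2, zero_mul]

/-- restriction of a derivation `P → P/J` to `J` is `P`-linear. -/
def restrictDer (D : Derivation k P (P ⧸ J)) : ↥J →ₗ[P] (P ⧸ J) where
  toFun y := D (y : P)
  map_add' x y := by simp
  map_smul' a y := by
    simp only [Submodule.coe_smul, smul_eq_mul, Derivation.leibniz, RingHom.id_apply]
    rw [coe_smul_quot_eq_zero, add_zero]

@[simp] lemma restrictDer_apply (D : Derivation k P (P ⧸ J)) (y : J) :
    restrictDer J D y = D (y : P) := rfl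

end Restrict

open MvPolynomial in
/-- A derivation of a polynomial ring is determined by partial derivatives. -/
lemma derivation_eq_sum {k : Type u} [CommRing k] {d : ℕ} {M : Type*} [AddCommGroup M] [Module k M]
    [Module (MvPolynomial (Fin d) k) M] [IsScalarTower k (MvPolynomial (Fin d) k) M]
    (D : Derivation k (MvPolynomial (Fin d) k) M) (g : MvPolynomial (Fin d) k) :
    D g = ∑ j, pderiv j g • D (X j) := by
  have h : D = ∑ j, (LinearMap.toSpanSingleton (MvPolynomial (Fin d) k) M (D (X j))).compDer
      (pderiv j) := by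
    apply MvPolynomial.derivation_ext
    intro i
    rw [← Derivation.coeFnAddMonoidHom_apply (∑ j, _), map_sum, Finset.sum_apply]
    simp only [Derivation.coeFnAddMonoidHom_apply, Derivation.coe_comp, LinearMap.coe_comp,
      Function.comp_apply, LinearMap.coe_restrictScalars, Derivation.coeFn_coe,
      LinearMap.toSpanSingleton_apply]
    rw [Finset.sum_eq_single i]
    · rw [pderiv_X_self, one_smul]
    · intro j _ hji
      rw [pderiv_X_of_ne (Ne.symm hji), zero_smul]
    · intro hi; exact absurd (Finset.mem_univ i) hi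
  conv_lhs => rw [h]
  rw [← Derivation.coeFnAddMonoidHom_apply (∑ j, _), map_sum, Finset.sum_apply]
  rfl

open MvPolynomial in
/-- T^1 of a complete intersection; the hypersurface case P/(f, ∂f/∂X_1, ..., ∂f/∂X_d) is n = 1: let k
be an algebraically closed field, P = k[X_1, ..., X_d], f_1, ..., f_n a regular sequence in P (each
f_i a non-zero-divisor modulo the preceding ones), J the ideal they generate and B = P/J. The first
cotangent module T^1_B — the cokernel of Der_k(P, B) → Hom_P(J, B), a derivation being restricted to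
J — is isomorphic, as a P-module, to B^n modulo the B-submodule generated by the d columns
(∂f_1/∂X_j, ..., ∂f_n/∂X_j), j = 1, ..., d, of the Jacobian matrix reduced modulo J, through the map
sending the class of φ : J → B to the class of (φ(f_1), ..., φ(f_n)). (The published formula allows
P to be a localisation of the polynomial ring; this row takes the polynomial ring.) -/
theorem result (k : Type u) [Field k] [IsAlgClosed k] (d n : ℕ)
    (f : Fin n → MvPolynomial (Fin d) k) (hreg : RingTheory.Sequence.IsWeaklyRegular (MvPolynomial (Fin d) k) (List.ofFn f)) :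
    ∃ e : ((↥(Ideal.span (Set.range f)) →ₗ[MvPolynomial (Fin d) k] (MvPolynomial (Fin d) k ⧸ Ideal.span (Set.range f))) ⧸
            Submodule.span (MvPolynomial (Fin d) k)
              {ψ : ↥(Ideal.span (Set.range f)) →ₗ[MvPolynomial (Fin d) k] (MvPolynomial (Fin d) k ⧸ Ideal.span (Set.range f)) |
                ∃ D : Derivation k (MvPolynomial (Fin d) k) (MvPolynomial (Fin d) k ⧸ Ideal.span (Set.range f)), ∀ a : ↥(Ideal.span (Set.range f)), ψ a = D (a : MvPolynomial (Fin d) k)}) ≃ₗ[MvPolynomial (Fin d) k]
          ((Fin n → MvPolynomial (Fin d) k ⧸ Ideal.span (Set.range f)) ⧸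
            Submodule.span (MvPolynomial (Fin d) k ⧸ Ideal.span (Set.range f))
              (Set.range fun j : Fin d => fun i : Fin n => Ideal.Quotient.mk (Ideal.span (Set.range f)) (pderiv j (f i)))),
      ∀ φ : ↥(Ideal.span (Set.range f)) →ₗ[MvPolynomial (Fin d) k] (MvPolynomial (Fin d) k ⧸ Ideal.span (Set.range f)),
        e (Submodule.Quotient.mk φ) =
          Submodule.Quotient.mk (fun i : Fin n => φ ⟨f i, Ideal.subset_span (Set.mem_range_self i)⟩) := by
  classical
  set q := Submodule.span (MvPolynomial (Fin d) k ⧸ Ideal.span (Set.range f))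
    (Set.range fun j : Fin d => fun i : Fin n =>
      Ideal.Quotient.mk (Ideal.span (Set.range f)) (pderiv j (f i))) with hq
  set p := Submodule.span (MvPolynomial (Fin d) k)
    {ψ : ↥(Ideal.span (Set.range f)) →ₗ[MvPolynomial (Fin d) k]
        (MvPolynomial (Fin d) k ⧸ Ideal.span (Set.range f)) |
      ∃ D : Derivation k (MvPolynomial (Fin d) k) (MvPolynomial (Fin d) k ⧸ Ideal.span (Set.range f)),
        ∀ a : ↥(Ideal.span (Set.range f)), ψ a = D (a : MvPolynomial (Fin d) k)} with hp
  -- the map before passing to the quotient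
  let Ψ : (↥(Ideal.span (Set.range f)) →ₗ[MvPolynomial (Fin d) k]
      (MvPolynomial (Fin d) k ⧸ Ideal.span (Set.range f))) →ₗ[MvPolynomial (Fin d) k]
      ((Fin n → MvPolynomial (Fin d) k ⧸ Ideal.span (Set.range f)) ⧸ q) :=
    (q.mkQ.restrictScalars (MvPolynomial (Fin d) k)) ∘ₗ evalGen f
  -- restrictions of derivations go into the column span
  have hder : ∀ D : Derivation k (MvPolynomial (Fin d) k)
      (MvPolynomial (Fin d) k ⧸ Ideal.span (Set.range f)),
      (fun i : Fin n => D (f i)) ∈ q := by
    intro D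
    have : (fun i : Fin n => D (f i)) = ∑ j : Fin d, D (X j) •
        (fun i : Fin n => Ideal.Quotient.mk (Ideal.span (Set.range f)) (pderiv j (f i))) := by
      ext i
      rw [Finset.sum_apply, derivation_eq_sum D (f i)]
      refine Finset.sum_congr rfl fun j _ => ?_
      rw [Pi.smul_apply, smul_eq_mul, mul_comm]
      exact smul_quot_eq _ _ _
    rw [this]
    exact Submodule.sum_mem _ fun j _ => Submodule.smul_mem _ _ (Submodule.subset_span ⟨j, rfl⟩)
  have hle : p ≤ LinearMap.ker Ψ := by
    rw [hp, Submodule.span_le]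
    rintro ψ ⟨D, hD⟩
    rw [SetLike.mem_coe, LinearMap.mem_ker]
    change q.mkQ (evalGen f ψ) = 0
    rw [Submodule.mkQ_apply, Submodule.Quotient.mk_eq_zero]
    have : evalGen f ψ = fun i : Fin n => D (f i) := by
      ext i
      exact hD (gen f i)
    rw [this]
    exact hder D
  -- the column span lies in the image of the restricted derivations
  have hcol : ∀ b ∈ q, ∃ φ ∈ p, evalGen f φ = b := by
    intro b hb
    refine Submodule.span_induction (p := fun b _ => ∃ φ ∈ p, evalGen f φ = b) ?_ ?_ ?_ ?_ hb
    · rintro _ ⟨j, rfl⟩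
      let D : Derivation k (MvPolynomial (Fin d) k)
          (MvPolynomial (Fin d) k ⧸ Ideal.span (Set.range f)) :=
        (Algebra.linearMap (MvPolynomial (Fin d) k)
          (MvPolynomial (Fin d) k ⧸ Ideal.span (Set.range f))).compDer (pderiv j)
      refine ⟨restrictDer _ D, Submodule.subset_span ⟨D, fun a => rfl⟩, ?_⟩
      ext i
      rfl
    · exact ⟨0, zero_mem _, by simp⟩
    · rintro x y _ _ ⟨φ, hφ, rfl⟩ ⟨ψ, hψ, rfl⟩
      exact ⟨φ + ψ, add_mem hφ hψ, map_add _ _ _⟩
    · rintro c x _ ⟨φ, hφ, rfl⟩
      obtain ⟨a, rfl⟩ := Ideal.Quotient.mk_surjective c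
      refine ⟨a • φ, Submodule.smul_mem _ _ hφ, ?_⟩
      rw [map_smul]
      rfl
  have hker : LinearMap.ker Ψ ≤ p := by
    intro φ hφ
    rw [LinearMap.mem_ker] at hφ
    change q.mkQ (evalGen f φ) = 0 at hφ
    rw [Submodule.mkQ_apply, Submodule.Quotient.mk_eq_zero] at hφ
    obtain ⟨φ', hφ', he⟩ := hcol _ hφ
    rw [← evalGen_injective f he]
    exact hφ'
  have hsurj : Function.Surjective Ψ := by
    intro x
    obtain ⟨b, rfl⟩ := Submodule.Quotient.mk_surjective _ x
    obtain ⟨φ, rfl⟩ := evalGen_surjective f hreg b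
    exact ⟨φ, rfl⟩
  have hinj : Function.Injective (p.liftQ Ψ hle) := by
    rw [← LinearMap.ker_eq_bot]
    exact Submodule.ker_liftQ_eq_bot _ _ _ hker
  have hsurj' : Function.Surjective (p.liftQ Ψ hle) := by
    intro x
    obtain ⟨φ, rfl⟩ := hsurj x
    exact ⟨Submodule.Quotient.mk φ, rfl⟩
  refine ⟨LinearEquiv.ofBijective (p.liftQ Ψ hle) ⟨hinj, hsurj'⟩, ?_⟩
  intro φ
  rfl

end Groth.Agent.S11302
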