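import Groth.Statements.S11306
import Mathlib

set_option autoImplicit false
universe u
open TensorProduct
open CAlg

namespace Groth.Agent.S11306

/-- Take a Noetherian local domain A, with residue field k and fraction field K, and let M be a finitely
generated A-module. If k ⊗_A M and K ⊗_A M have the same dimension r (over k and over K
respectively), then M is a free A-module of rank r. -/
theorem result (A : Type u) [CommRing A] [IsDomain A]
    [IsNoetherianRing A] [IsLocalRing A] (M : Type u) [AddCommGroup M] [Module A M] [Module.Finite A M] (r : ℕ)
    (hk : Module.finrank (IsLocalRing.ResidueField A) (IsLocalRing.ResidueField A ⊗[A] M) = r)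
    (hK : Module.finrank (FractionRing A) (FractionRing A ⊗[A] M) = r) :
    Module.Free A M ∧ Module.finrank A M = r := by
  classical
  let b : Module.Basis (Fin r) (IsLocalRing.ResidueField A) (IsLocalRing.ResidueField A ⊗[A] M) :=
    Module.finBasisOfFinrankEq _ _ hk
  have hsurj : Function.Surjective (TensorProduct.mk A (IsLocalRing.ResidueField A) M 1) :=
    TensorProduct.mk_surjective A M _ IsLocalRing.residue_surjective
  choose f hf using fun i => hsurj (b i)
  have hspan : Submodule.span A (Set.range f) = ⊤ :=
    IsLocalRing.span_eq_top_of_tmul_eq_basis f b hf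
  have hspanK : Submodule.span (FractionRing A)
      (Set.range (fun i => (1 : FractionRing A) ⊗ₜ[A] f i)) = ⊤ := by
    have h1 := Submodule.baseChange_span (R := A) (A := FractionRing A) (Set.range f)
    rw [hspan, Submodule.baseChange_top, ← Set.range_comp] at h1
    exact h1.symm
  have hliK : LinearIndependent (FractionRing A) (fun i => (1 : FractionRing A) ⊗ₜ[A] f i) :=
    linearIndependent_of_top_le_span_of_card_eq_finrank hspanK.ge (by simp [hK])
  have hli : LinearIndependent A f := by
    rw [Fintype.linearIndependent_iff]
    intro g hg i
    have h0 : ∑ i, algebraMap A (FractionRing A) (g i) • ((1 : FractionRing A) ⊗ₜ[A] f i) = 0 := by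
      have h2 := congrArg (fun m => (1 : FractionRing A) ⊗ₜ[A] m) hg
      simp only [TensorProduct.tmul_sum, TensorProduct.tmul_zero] at h2
      rw [← h2]
      apply Finset.sum_congr rfl
      intro i _
      rw [TensorProduct.tmul_smul, algebraMap_smul]
    have h3 := Fintype.linearIndependent_iff.mp hliK _ h0 i
    exact (IsFractionRing.injective A (FractionRing A)) (by rw [h3, map_zero])
  let B : Module.Basis (Fin r) A M := Module.Basis.mk hli hspan.ge
  exact ⟨Module.Free.of_basis B, by rw [Module.finrank_eq_card_basis B]; simp⟩

end Groth.Agent.S11306
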