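import Groth.Statements.S1682

set_option autoImplicit false
universe u
open CategoryTheory CategoryTheory.Limits AlgebraicGeometry TopologicalSpace
open SDiv

namespace Groth.Agent.S1682

/-- The unit ideal sheaf is an effective Cartier ideal (it is generated by `1`). -/
theorem isEffCartierIdeal_top (Y : Scheme.{u}) :
    BlowUp.IsEffCartierIdeal (⊤ : Y.IdealSheafData) := by
  intro x
  obtain ⟨_, ⟨U, hU, rfl⟩, hxU, -⟩ := Y.isBasis_affineOpens.exists_subset_of_mem_open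
    (Set.mem_univ x) isOpen_univ
  refine ⟨⟨U, hU⟩, hxU, 1, one_mem _, ?_⟩
  rw [Scheme.IdealSheafData.ideal_top]
  simp

/-- If `g` maps into the complement of the support of `𝓘`, the inverse image ideal is the unit ideal. -/
theorem comap_eq_top {X Y : Scheme.{u}} (𝓘 : X.IdealSheafData) (g : Y ⟶ X)
    (hg : ∀ y : Y, g y ∉ 𝓘.support) : 𝓘.comap g = ⊤ := by
  rw [← Scheme.IdealSheafData.support_eq_bot_iff, Scheme.IdealSheafData.support_comap]
  ext y
  simpa using hg y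

/-- Let b : X' ⟶ X be a blowing-up of X along the quasi-coherent ideal sheaf 𝓘, with centre Z = support
of 𝓘. Then b restricted over the open complement of Z is an isomorphism. -/
theorem result {X X' : Scheme.{u}} (𝓘 : X.IdealSheafData) (b : X' ⟶ X) (hb : BlowUp.IsBlowUp b 𝓘) :
    IsIso (b ∣_ 𝓘.support.compl) := by
  obtain ⟨-, huniv⟩ := hb
  set V : X.Opens := 𝓘.support.compl with hV
  have hVmem : ∀ x : X, x ∈ V ↔ x ∉ 𝓘.support := fun x => Iff.rfl
  -- the inclusion of `V` lifts to the blow-up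
  have h1 : BlowUp.IsEffCartierIdeal (𝓘.comap V.ι) := by
    rw [comap_eq_top 𝓘 V.ι (fun y => (hVmem _).1 y.2)]
    exact isEffCartierIdeal_top _
  obtain ⟨h, hh, -⟩ := huniv V V.ι h1
  -- uniqueness over the preimage of `V`
  have h2 : BlowUp.IsEffCartierIdeal (𝓘.comap ((b ⁻¹ᵁ V).ι ≫ b)) := by
    rw [comap_eq_top 𝓘 ((b ⁻¹ᵁ V).ι ≫ b) (fun y => (hVmem _).1 y.2)]
    exact isEffCartierIdeal_top _
  obtain ⟨g, -, hguniq⟩ := huniv _ ((b ⁻¹ᵁ V).ι ≫ b) h2
  have hrange : Set.range h ⊆ Set.range (b ⁻¹ᵁ V).ι := by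
    rintro _ ⟨v, rfl⟩
    simp only [Scheme.Opens.range_ι, SetLike.mem_coe]
    show b (h v) ∈ V
    have : b (h v) = V.ι v := by
      rw [← hh]; rfl
    rw [this]
    exact v.2
  let h' : (V : Scheme.{u}) ⟶ (b ⁻¹ᵁ V : Scheme.{u}) := IsOpenImmersion.lift (b ⁻¹ᵁ V).ι h hrange
  have hh' : h' ≫ (b ⁻¹ᵁ V).ι = h := IsOpenImmersion.lift_fac _ _ _
  refine ⟨h', ?_, ?_⟩
  · rw [← cancel_mono (b ⁻¹ᵁ V).ι]
    have e1 : ((b ∣_ V) ≫ h') ≫ (b ⁻¹ᵁ V).ι = g := by
      apply hguniq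
      show ((b ∣_ V) ≫ h') ≫ (b ⁻¹ᵁ V).ι ≫ b = (b ⁻¹ᵁ V).ι ≫ b
      rw [Category.assoc, reassoc_of% hh', hh, morphismRestrict_ι]
    have e2 : 𝟙 _ ≫ (b ⁻¹ᵁ V).ι = g := by
      apply hguniq
      rw [Category.id_comp]
    rw [e1, e2]
  · rw [← cancel_mono V.ι, Category.assoc, morphismRestrict_ι, ← Category.assoc, hh', hh,
      Category.id_comp]

end Groth.Agent.S1682
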