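-- Statement S4991.
import Groth.Statements.S4991
import Groth.Agent.Lib.H71GeomRedAt
import Groth.Agent.Lib.SmoothRegular
import Groth.Agent.Lib.H87Serre2
import Mathlib

set_option autoImplicit false
universe u
open CategoryTheory CategoryTheory.Limits AlgebraicGeometry TopologicalSpace
open Unram17

namespace Groth.Agent.S4991

/-- A scheme smooth over the spectrum of a regular ring has regular local rings. -/
theorem regular_stalk_of_smooth_over_regular (R : CommRingCat.{u}) [IsRegularRing R]
    (Z : Scheme.{u}) (g : Z ⟶ Spec R) [Smooth g] (z : Z) :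
    IsRegularLocalRing (Z.presheaf.stalk z) := by
  obtain ⟨_, ⟨V, hV, rfl⟩, hzV, -⟩ :=
    Z.isBasis_affineOpens.exists_subset_of_mem_open (Set.mem_univ z) isOpen_univ
  have hsm : (g.appLE ⊤ V le_top).hom.Smooth :=
    Smooth.smooth_appLE g (isAffineOpen_top _) hV le_top
  algebraize [(g.appLE ⊤ V le_top).hom]
  have hreg : IsRegularRing Γ(Spec R, ⊤) :=
    IsRegularRing.of_ringEquiv (Scheme.ΓSpecIso R).commRingCatIsoToRingEquiv.symm
  let := Z.presheaf.algebra_section_stalk ⟨z, hzV⟩
  have hloc := hV.isLocalization_stalk ⟨z, hzV⟩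
  have := Groth.Agent.Lib.SmoothRegular.isRegularLocalRing_of_smooth
    (K := Γ(Spec R, ⊤)) (hV.primeIdealOf ⟨z, hzV⟩).asIdeal
  exact IsRegularLocalRing.of_ringEquiv (IsLocalization.algEquiv
    (hV.primeIdealOf ⟨z, hzV⟩).asIdeal.primeCompl
    (Localization.AtPrime (hV.primeIdealOf ⟨z, hzV⟩).asIdeal) (Z.presheaf.stalk z)).toRingEquiv

/-- Regularity descends along the stalk map of a flat morphism. -/
theorem regular_stalk_of_flat {W V : Scheme.{u}} (π : W ⟶ V) [Flat π] (w : W)
    (h : IsRegularLocalRing (W.presheaf.stalk w)) :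
    IsRegularLocalRing (V.presheaf.stalk (π w)) := by
  algebraize [(π.stalkMap w).hom]
  have hloc : IsLocalHom (algebraMap (V.presheaf.stalk (π w)) (W.presheaf.stalk w)) :=
    π.toLRSHom.prop w
  have hfl : Module.Flat (V.presheaf.stalk (π w)) (W.presheaf.stalk w) := Flat.stalkMap π w
  have : Module.FaithfullyFlat (V.presheaf.stalk (π w)) (W.presheaf.stalk w) :=
    Module.FaithfullyFlat.of_flat_of_isLocalHom
  have hN : IsNoetherianRing (V.presheaf.stalk (π w)) := by
    rw [isNoetherianRing_iff_ideal_fg]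
    intro I
    exact Ideal.FG.of_FG_map_of_faithfullyFlat (S := W.presheaf.stalk w)
      ((isNoetherianRing_iff_ideal_fg _).mp inferInstance _)
  exact Groth.Agent.Lib.H87Serre2.isRegularLocalRing_of_flat _ (W.presheaf.stalk w)

theorem regular_stalk_of_eq {W : Scheme.{u}} (a b : W) (hab : a = b)
    (h : IsRegularLocalRing (W.presheaf.stalk a)) :
    IsRegularLocalRing (W.presheaf.stalk b) := by
  subst hab; exact h

/-- Smooth ascent of regularity at a point. -/
theorem regular_stalk_of_smooth {X Y : Scheme.{u}} (g : X ⟶ Y) [Smooth g] (x : X)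
    (h : IsRegularLocalRing (Y.presheaf.stalk (g x))) :
    IsRegularLocalRing (X.presheaf.stalk x) := by
  haveI : IsRegularRing (Y.presheaf.stalk (g x)) :=
    Groth.Agent.Lib.H87Serre2.isRegularRing_of_isRegularLocalRing
  obtain ⟨w, hw1, hw2⟩ := Scheme.Pullback.exists_preimage_pullback
    (f := Y.fromSpecStalk (g x)) (g := g) (IsLocalRing.closedPoint (Y.presheaf.stalk (g x))) x
    (by rw [Scheme.fromSpecStalk_closedPoint])
  haveI : Smooth (pullback.fst (Y.fromSpecStalk (g x)) g) :=
    MorphismProperty.of_isPullback (IsPullback.of_hasPullback (Y.fromSpecStalk (g x)) g).flip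
      inferInstance
  have h1 : IsRegularLocalRing ((pullback (Y.fromSpecStalk (g x)) g).presheaf.stalk w) :=
    regular_stalk_of_smooth_over_regular (Y.presheaf.stalk (g x)) _
      (pullback.fst (Y.fromSpecStalk (g x)) g) w
  have hbij := Groth.Agent.Lib.H71GeomRedAt.bijective_stalkMap_snd (Y.fromSpecStalk (g x)) g w
  let e := RingEquiv.ofBijective _ hbij
  have h2 : IsRegularLocalRing
      (X.presheaf.stalk ((pullback.snd (Y.fromSpecStalk (g x)) g) w)) :=
    IsRegularLocalRing.of_ringEquiv e.symm
  exact regular_stalk_of_eq _ _ hw2 h2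

/-- Let Y be locally Noetherian and f : X ⟶ Y locally of finite type, smooth on an open neighbourhood of
a point x with image y. Then the local ring of X at x is regular if and only if the local ring of Y
at y is regular. -/
theorem result {X Y : Scheme.{u}} (f : X ⟶ Y)
    [IsLocallyNoetherian Y] [LocallyOfFiniteType f] (x : ↥X)
    (hx : ∃ U : X.Opens, x ∈ U ∧ Smooth (U.ι ≫ f)) :
    IsRegularLocalRing ↑(X.presheaf.stalk x) ↔ IsRegularLocalRing ↑(Y.presheaf.stalk (f.base x)) := by
  obtain ⟨U, hxU, hsm⟩ := hx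
  let x' : U.toScheme := ⟨x, hxU⟩
  have hx' : U.ι x' = x := rfl
  have hgx : (U.ι ≫ f) x' = f x := by
    rw [Scheme.Hom.comp_apply, hx']
  have hiso : IsIso (U.ι.stalkMap x') := inferInstance
  let e : (X.presheaf.stalk (U.ι x')) ≃+* (U.toScheme.presheaf.stalk x') :=
    (asIso (U.ι.stalkMap x')).commRingCatIsoToRingEquiv
  constructor
  · intro h
    have h1 : IsRegularLocalRing (U.toScheme.presheaf.stalk x') := by
      have h0 : IsRegularLocalRing (X.presheaf.stalk (U.ι x')) := h
      exact IsRegularLocalRing.of_ringEquiv e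
    haveI : Flat (U.ι ≫ f) := inferInstance
    have h2 := regular_stalk_of_flat (U.ι ≫ f) x' h1
    exact regular_stalk_of_eq _ _ hgx h2
  · intro h
    have h1 : IsRegularLocalRing (Y.presheaf.stalk ((U.ι ≫ f) x')) :=
      regular_stalk_of_eq _ _ hgx.symm h
    have h2 := regular_stalk_of_smooth (U.ι ≫ f) x' h1
    have h3 : IsRegularLocalRing (X.presheaf.stalk (U.ι x')) :=
      IsRegularLocalRing.of_ringEquiv e.symm
    exact h3

end Groth.Agent.S4991
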