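import Groth.Statements.S11308
import Mathlib
import Groth.Agent.S2894
import Groth.Agent.S4991
import Groth.Agent.S1682
import Groth.Agent.Lib.H87RegImm
import Groth.Agent.Lib.RegStalkCartier50

set_option autoImplicit false
set_option linter.style.haveILetI false
universe u
open CategoryTheory CategoryTheory.Limits AlgebraicGeometry
open NonsingVar

namespace Groth.Agent.S11308

section helpers

/-- Regularity of the stalk of the target of `b` at a point over the open `V` on which `b` is an
isomorphism transfers to the source. -/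
theorem regular_stalk_of_isIso_restrict' {X X' : Scheme.{u}} (b : X' ⟶ X) (V : X.Opens)
    [IsIso (b ∣_ V)] (x' : X') (hx' : b x' ∈ V)
    (h : IsRegularLocalRing (X.presheaf.stalk (b x'))) :
    IsRegularLocalRing (X'.presheaf.stalk x') := by
  let w : ↥(b ⁻¹ᵁ V) := ⟨x', hx'⟩
  have hiso : IsIso ((b ∣_ V).stalkMap w) := inferInstance
  have hiso' : IsIso (b.stalkMap w.1) :=
    ((MorphismProperty.isomorphisms CommRingCat).arrow_mk_iso_iff
      (morphismRestrictStalkMap b V w)).mp hiso
  have e : X.presheaf.stalk (b x') ≅ X'.presheaf.stalk x' := @asIso _ _ _ _ (b.stalkMap w.1) hiso'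
  exact IsRegularLocalRing.of_ringEquiv e.commRingCatIsoToRingEquiv

/-- a closed immersion of regular schemes is a regular immersion -/
theorem isRegularClosedImmersion_of_regular {X Y : Scheme.{u}} [IsLocallyNoetherian X] (i : Y ⟶ X)
    [IsClosedImmersion i] (hreg : ∀ x : X, IsRegularLocalRing (X.presheaf.stalk x))
    (hregY : ∀ y : Y, IsRegularLocalRing (Y.presheaf.stalk y)) :
    Mor2.IsRegularClosedImmersion i := by
  refine ⟨inferInstance, fun y => ?_⟩
  haveI := hregY y
  have h1 := (Groth.Agent.Lib.H87RegImm.S2889_aux i y).mpr (hreg (i y))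
  obtain ⟨U, hyU, hU, rs, hrs, hker⟩ := (Groth.Agent.Lib.H87RegImm.regNear_iff_exists_regAff i y).mp h1
  exact ⟨U, hU, hyU, rs, hrs, hker⟩

/-- the blowing up of a regular scheme along a regular closed subscheme is regular -/
theorem regular_blowUp {X Y Xt : Scheme.{u}} [IsLocallyNoetherian X] (i : Y ⟶ X)
    [IsClosedImmersion i] (hreg : ∀ x : X, IsRegularLocalRing (X.presheaf.stalk x))
    (hregY : ∀ y : Y, IsRegularLocalRing (Y.presheaf.stalk y))
    (π : Xt ⟶ X) (hπ : BlowUp.IsBlowUp π i.ker) (hft : BlowUp.IsFiniteTypeIdeal i.ker) (z : Xt) :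
    IsRegularLocalRing (Xt.presheaf.stalk z) := by
  have hi := isRegularClosedImmersion_of_regular i hreg hregY
  by_cases hz : π z ∈ i.ker.support
  · -- on the exceptional divisor
    haveI : LocallyOfFiniteType π :=
      (Groth.Agent.Lib.BlowUpProper68.isProper_of_isBlowUp_of_isFiniteTypeIdeal π i.ker hπ
        hft).toLocallyOfFiniteType
    haveI hXt : IsLocallyNoetherian Xt := LocallyOfFiniteType.isLocallyNoetherian π
    have hzE : z ∈ (i.ker.comap π).support := by
      rw [Scheme.IdealSheafData.support_comap]
      exact hz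
    obtain ⟨e, he⟩ : ∃ e : (i.ker.comap π).subscheme, (i.ker.comap π).subschemeι e = z := by
      have : z ∈ Set.range (i.ker.comap π).subschemeι := by
        rw [Scheme.IdealSheafData.range_subschemeι]; exact hzE
      exact this
    have H : i.ker ≤ ((i.ker.comap π).subschemeι ≫ π).ker := by
      rw [← Scheme.IdealSheafData.map_ker, Scheme.IdealSheafData.ker_subschemeι]
      exact Scheme.IdealSheafData.le_map_comap (f := π) (J := i.ker)
    let g : (i.ker.comap π).subscheme ⟶ Y := IsClosedImmersion.lift i _ H
    have hg : g ≫ i = (i.ker.comap π).subschemeι ≫ π := IsClosedImmersion.lift_fac i _ H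
    haveI : Smooth g := Groth.Agent.S2894.result i hi π hπ g hg
    have hreg_e : IsRegularLocalRing ((i.ker.comap π).subscheme.presheaf.stalk e) :=
      Groth.Agent.S4991.regular_stalk_of_smooth g e (hregY (g e))
    have := Groth.Agent.Lib.RegStalkCartier50.regular_stalk_of_cartier (i.ker.comap π) hπ.1 e hreg_e
    exact Groth.Agent.S4991.regular_stalk_of_eq _ _ he this
  · haveI hiso : IsIso (π ∣_ i.ker.support.compl) := Groth.Agent.S1682.result i.ker π hπ
    exact regular_stalk_of_isIso_restrict' π i.ker.support.compl z hz (hreg (π z))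

end helpers

/-- Let k be an algebraically closed field, X a nonsingular variety over k (an integral scheme,
separated and of finite type over k, all of whose local rings are regular), Y a nonsingular closed
subvariety of X (an integral closed subscheme all of whose local rings are regular) with ideal sheaf
I, and π : X~ → X a blowing-up of X with respect to I, characterised by its universal property. Then
X~ is nonsingular: all of its local rings are regular. -/
theorem result (k : Type u) [Field k] [IsAlgClosed k]
    (X : Scheme.{u}) [X.Over (Spec (CommRingCat.of k))] [IsIntegral X] [IsSeparated (X ↘ (Spec (CommRingCat.of k)))]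
    [LocallyOfFiniteType (X ↘ (Spec (CommRingCat.of k)))] [QuasiCompact (X ↘ (Spec (CommRingCat.of k)))]
    (hreg : ∀ x : ↥X, IsRegularLocalRing ↑(X.presheaf.stalk x))
    (Y : Scheme.{u}) (i : Y ⟶ X) [IsClosedImmersion i] [IsIntegral Y]
    (hregY : ∀ y : ↥Y, IsRegularLocalRing ↑(Y.presheaf.stalk y))
    (Xt : Scheme.{u}) (π : Xt ⟶ X) (hπ : BlowUp.IsBlowUp π i.ker) :
    ∀ z : ↥Xt, IsRegularLocalRing ↑(Xt.presheaf.stalk z) := by
  haveI : IsLocallyNoetherian X :=
    LocallyOfFiniteType.isLocallyNoetherian (X ↘ (Spec (CommRingCat.of k)))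
  intro z
  refine regular_blowUp i hreg hregY π hπ ?_ z
  intro V
  haveI : IsNoetherianRing Γ(X, V.1) := IsLocallyNoetherian.component_noetherian V
  exact (isNoetherianRing_iff_ideal_fg _).mp inferInstance _

end Groth.Agent.S11308
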