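import Groth.Statements.S11311
import Groth.Agent.Lib.H56RegSmooth2

set_option autoImplicit false
universe u
open CAlg

namespace Groth.Agent.S11311

/-- Let k be a field and B a local ring containing k whose residue field is k (the composite k → B → B/m
is bijective), and which is a localization of a finitely generated k-algebra (essentially of finite
type over k); let d = dim B. If the module of differentials Ω_{B/k} is free of rank d then B is a
regular local ring. Conversely, if k is perfect and B is a regular local ring, then Ω_{B/k} is free
of rank d. (The published statement assumes k perfect as one of its hypotheses and asserts the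
equivalence; its proof of the first implication does not use perfectness, so that hypothesis is
placed on the converse only.) -/
theorem result (k B : Type u) [Field k] [CommRing B] [Algebra k B]
    [IsLocalRing B] [Algebra.EssFiniteType k B]
    (hres : Function.Bijective (algebraMap k (IsLocalRing.ResidueField B)))
    (d : ℕ) (hd : ringKrullDim B = (d : WithBot ℕ∞)) :
    ((Module.Free B (KaehlerDifferential k B) ∧ Module.finrank B (KaehlerDifferential k B) = d) →
        IsRegularLocalRing B) ∧
      (PerfectField k → IsRegularLocalRing B →
        Module.Free B (KaehlerDifferential k B) ∧ Module.finrank B (KaehlerDifferential k B) = d) := by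
  have hN : IsNoetherianRing B := Algebra.EssFiniteType.isNoetherianRing k B
  have key := Groth.Agent.Lib.H56RegSmooth.finrank_tensor_kaehler_eq k B hres
  constructor
  · rintro ⟨hfree, hrank⟩
    have h1 : Module.finrank (IsLocalRing.ResidueField B)
        (TensorProduct B (IsLocalRing.ResidueField B) (KaehlerDifferential k B)) = d := by
      rw [Module.finrank_baseChange, hrank]
    rw [key] at h1
    rw [isRegularLocalRing_iff, IsLocalRing.spanFinrank_maximalIdeal_eq_finrank_cotangentSpace,
      h1, hd]
  · intro hperf hreg
    have hfsK : Algebra.FormallySmooth k (IsLocalRing.ResidueField B) :=
      .of_equiv (AlgEquiv.ofBijective (Algebra.ofId k (IsLocalRing.ResidueField B)) hres)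
    have hfs : Algebra.FormallySmooth k B :=
      Groth.Agent.Lib.H56RegSmooth.formallySmooth_of_isRegularLocalRing_of_essFiniteType k B
    have hproj : Module.Projective B (KaehlerDifferential k B) := inferInstance
    have hfin : Module.Finite B (KaehlerDifferential k B) := inferInstance
    have hfree : Module.Free B (KaehlerDifferential k B) := Module.free_of_flat_of_isLocalRing
    refine ⟨hfree, ?_⟩
    have h1 : Module.finrank (IsLocalRing.ResidueField B)
        (TensorProduct B (IsLocalRing.ResidueField B) (KaehlerDifferential k B)) =
        Module.finrank B (KaehlerDifferential k B) := Module.finrank_baseChange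
    rw [← h1, key, ← IsLocalRing.spanFinrank_maximalIdeal_eq_finrank_cotangentSpace]
    have := IsRegularLocalRing.spanFinrank_maximalIdeal (R := B)
    rw [hd] at this
    exact_mod_cast this

end Groth.Agent.S11311
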