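import Groth.Statements.S11324
import Groth.Agent.Lib.H43PnExtSh

set_option autoImplicit false
universe u
open CategoryTheory CategoryTheory.Limits AlgebraicGeometry
open ProjDual

namespace Groth.Agent.S11324

/-- Let k be a field, P = P^N_k, ι : X → P a closed immersion, r a natural number with dim X + r ≤ N (so
X has codimension at least r in P), and ω_P = O_P(-N-1). Then for every i < r the Ext sheaf
Ext^i_{O_P}(ι_* O_X, ω_P) — the i-th right derived functor of the internal Hom functor Hom(ι_* O_X,
-) on O_P-modules (its existence and that of injective resolutions are the stated instance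
hypotheses, both true), evaluated at ω_P — is zero. -/
theorem result (k : Type u) [Field k] (N : ℕ)
    {X : Scheme.{u}} (ι : X ⟶ CohB1.ProjSpace N k) [IsClosedImmersion ι] (r : ℕ)
    (hr : topologicalKrullDim ↥X + (r : WithBot ℕ∞) ≤ (N : WithBot ℕ∞))
    [ModSite.HasSheafHom (O := (CohB1.ProjSpace N k).sheaf) ((Scheme.Modules.pushforward ι).obj (Coh.structureModule X))]
    [HasInjectiveResolutions (ModSite.Mod (CohB1.ProjSpace N k).sheaf)] (i : ℕ) (hi : i < r) :
    IsZero ((ModSite.extSh (O := (CohB1.ProjSpace N k).sheaf)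
      ((Scheme.Modules.pushforward ι).obj (Coh.structureModule X)) i).obj
        (Twist.twistProjSpace N k (-((N : ℤ) + 1)))) := by
  by_cases hiN : N < i
  · exact Groth.Agent.Lib.H43PnExtSh.isZero_extSh_of_gt N k ι i hiN
  · rw [not_lt] at hiN
    rw [Groth.Agent.Lib.H43PnExtSh.isZero_extSh_iff N k ι i hiN]
    refine ⟨0, fun m _ => ?_⟩
    have h1 : IsLocallyNoetherian X :=
      Groth.Agent.Lib.H43LocGlobPn.isLocallyNoetherian_of_closedImmersion N k ι
    have h2 : CompactSpace X := Groth.Agent.Lib.H43LocGlobPn.compactSpace_of_closedImmersion N k ι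
    have h3 : IsNoetherian X := {}
    have h4 : TopologicalSpace.NoetherianSpace X.toTopCat :=
      inferInstanceAs (TopologicalSpace.NoetherianSpace X)
    have hdim : topologicalKrullDim X.toTopCat < ((N - i : ℕ) : WithBot ℕ∞) := by
      change topologicalKrullDim ↥X < _
      by_contra hcon
      rw [not_lt] at hcon
      have h5 : ((N - i : ℕ) : WithBot ℕ∞) + (r : WithBot ℕ∞) ≤ (N : WithBot ℕ∞) :=
        le_trans (add_le_add_left hcon _) hr
      have h6 : (N - i) + r ≤ N := by exact_mod_cast h5
      omega
    exact Groth.Agent.Lib.H43GV.main (N - i) X.toTopCat hdim (Coh.toAb _) (N - i) le_rfl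

end Groth.Agent.S11324
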