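import Groth.Statements.S11327
import Groth.Agent.Lib.ModShriekRestr

set_option autoImplicit false
universe u
open CategoryTheory AlgebraicGeometry
open Coherent

namespace Groth.Agent.S11327

/-- Let X be a scheme, U an open subscheme of X and I an injective object of the category of
O_X-modules. Then the restriction I|_U is an injective object of the category of O_U-modules.
(Stated for schemes; the published statement is for an arbitrary ringed space.) -/
theorem result (X : Scheme.{u}) (U : X.Opens) (I : X.Modules)
    (hI : Injective I) : Injective (I.restrict U.ι) := by
  let I' : SheafOfModules.{u} X.ringCatSheaf := I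
  have hI' : Injective I' := hI
  have h1 : Injective ((SheafOfModules.overFunctor.{u} X.ringCatSheaf U).obj I') :=
    @Groth.Agent.Lib.ModShriek.injective_over _ _ _ X.ringCatSheaf U I' hI'
  have h2 : Injective ((Scheme.Modules.overEquiv U).functor.obj
      ((SheafOfModules.overFunctor.{u} X.ringCatSheaf U).obj I')) :=
    Injective.injective_of_adjoint (Scheme.Modules.overEquiv U).symm.toAdjunction _
  exact Injective.of_iso ((Scheme.Modules.overFunctorEquiv U).app I') h2

end Groth.Agent.S11327
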