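import Groth.Statements.S11330
import Groth.Agent.Lib.CurveBpfCrit54
import Groth.Agent.S0002
import Groth.Agent.S3230
import Groth.Agent.S0458

set_option autoImplicit false
universe u
open CategoryTheory CategoryTheory.Limits AlgebraicGeometry
open Curves

namespace Groth.Agent.S11330

/-- Let k be an algebraically closed field and X a curve over k (an integral scheme, proper over k, of
dimension one, with all local rings regular), and L an invertible O_X-module. Then L is generated by
its global sections (a quotient of a free O_X-module) if and only if for every closed point P of X,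
with ideal sheaf I_P ⊆ O_X, dim_k H^0(X, L ⊗ I_P) = dim_k H^0(X, L) - 1. -/
theorem result (k : Type u) [Field k] [IsAlgClosed k] (X : Scheme.{u}) [X.Over (Spec (CommRingCat.of k))]
    [IsIntegral X] [IsProper (X ↘ (Spec (CommRingCat.of k)))] (hdim : topologicalKrullDim X = 1)
    (hreg : ∀ x : X, IsRegularLocalRing (X.presheaf.stalk x)) (L : X.Modules) (hL : PicF.IsInvertible L) :
    Curv2.IsGloballyGenerated L ↔
      ∀ (P : X) (hP : IsClosed ({P} : Set X)),
        Module.finrank k (Coh.HH X (CohB1.tensorMod L (ClSub.idealMod (Scheme.IdealSheafData.vanishingIdeal ⟨{P}, hP⟩))) 0) + 1 = Module.finrank k (Coh.HH X L 0) := by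
  have H : Groth.Agent.Lib.ProperFinHyp.Hyp.{u} := fun A _ _ X _ _ M hM n => Groth.Agent.S0002.result A X M hM n
  have HS : Groth.Agent.Lib.IntNumAlg13.SnapperHyp.{u} := fun k _ X _ _ d hd _ L hL F hF r hr =>
    Groth.Agent.S3230.result k X d hd L hL F hF r hr
  have V : Groth.Agent.Lib.EulerLE48.VanHyp.{u} := fun X _ d hd F p hp =>
    haveI : TopologicalSpace.NoetherianSpace X.toTopCat := inferInstanceAs (TopologicalSpace.NoetherianSpace X)
    Groth.Agent.S0458.result (X := X.toTopCat) d hd (Coh.toAb F) p hp
  rw [Groth.Agent.Lib.CurveBpfCrit54.isGloballyGenerated_iff H HS V k X hdim.le hL]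
  refine forall_congr' fun P => forall_congr' fun hP => ?_
  rw [(Groth.Agent.Lib.CohLES.mapEquivₗ k (Groth.Agent.Lib.OXModTensor.braiding L
    (ClSub.idealMod (Scheme.IdealSheafData.vanishingIdeal ⟨{P}, hP⟩))) 0).finrank_eq]

end Groth.Agent.S11330
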