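import Groth.Statements.S11347
import Groth.Agent.Lib.CurveRuled54
import Groth.Agent.S0002
import Groth.Agent.S3230
import Groth.Agent.S0458

set_option autoImplicit false
universe u
open CategoryTheory CategoryTheory.Limits AlgebraicGeometry
open Curves

namespace Groth.Agent.S11347

/-- Let C be a genus-g curve over an algebraically closed field k (integral, proper over k, of dimension
one, all local rings regular), and E a locally free O_C-module of rank 2 which is normalized —
H^0(C, E) ≠ 0 while H^0(C, E ⊗ M) = 0 for every invertible M with deg M < 0 — and indecomposable —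
not isomorphic to a direct sum of two invertible modules. Then the invariant e = -deg E of the ruled
surface P(E) satisfies -2g ≤ e ≤ 2g - 2; here deg E = χ(E) - 2 χ(O_C). -/
theorem result (k : Type u) [Field k] [IsAlgClosed k] (C : Scheme.{u}) [C.Over (Spec (CommRingCat.of k))]
    [IsIntegral C] [IsProper (C ↘ (Spec (CommRingCat.of k)))] (hdimC : topologicalKrullDim C = 1)
    (hregC : ∀ x : C, IsRegularLocalRing (C.presheaf.stalk x))
    (E : C.Modules) (hE : FlatMod.IsFinLocFreeOfRank 2 E)
    (hn0 : Nontrivial (Coh.HH C E 0))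
    (hneg : ∀ M : C.Modules, PicF.IsInvertible M → Curv2.deg k C M 1 < 0 → Subsingleton (Coh.HH C (CohB1.tensorMod E M) 0))
    (hind : ∀ L₁ L₂ : C.Modules, PicF.IsInvertible L₁ → PicF.IsInvertible L₂ → IsEmpty (E ≅ L₁ ⊞ L₂)) :
    2 - 2 * (Curv2.genus k C : ℤ) ≤ Curv2.deg k C E 2 ∧ Curv2.deg k C E 2 ≤ 2 * (Curv2.genus k C : ℤ) := by
  have H : Groth.Agent.Lib.ProperFinHyp.Hyp.{u} := fun A _ _ X _ _ M hM n => Groth.Agent.S0002.result A X M hM n
  have HS : Groth.Agent.Lib.IntNumAlg13.SnapperHyp.{u} := fun k _ X _ _ d hd _ L hL F hF r hr =>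
    Groth.Agent.S3230.result k X d hd L hL F hF r hr
  have V : Groth.Agent.Lib.EulerLE48.VanHyp.{u} := fun X _ d hd F p hp =>
    haveI : TopologicalSpace.NoetherianSpace X.toTopCat :=
      inferInstanceAs (TopologicalSpace.NoetherianSpace X)
    Groth.Agent.S0458.result (X := X.toTopCat) d hd (Coh.toAb F) p hp
  have hpid := Groth.Agent.Lib.CurveVB67.hpid_of_regular C hdimC.le hregC
  exact Groth.Agent.Lib.CurveRuled54.deg_bounds_of_normalized_indecomposable H HS V k C hdimC hpid hE hn0 hneg hind

end Groth.Agent.S11347
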