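import Groth.Statements.S11352
import Groth.Agent.Lib.CurveLinSum54
import Groth.Agent.Lib.CurveVB67L
import Groth.Agent.S0002
import Groth.Agent.S3230
import Groth.Agent.S0458

set_option autoImplicit false
universe u
open CategoryTheory CategoryTheory.Limits AlgebraicGeometry
open Curves

namespace Groth.Agent.S11352

/-- Let k be an algebraically closed field and X a curve over k (an integral scheme, proper over k, of
dimension one, with all local rings regular), and L, L' invertible O_X-modules each with a nonzero
global section (the sheaves of effective divisors D and E). Then dim |D| + dim |E| ≤ dim |D + E|; in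
terms of sections, dim_k H^0(X, L) + dim_k H^0(X, L') ≤ dim_k H^0(X, L ⊗ L') + 1. -/
theorem result (k : Type u) [Field k] [IsAlgClosed k] (X : Scheme.{u}) [X.Over (Spec (CommRingCat.of k))]
    [IsIntegral X] [IsProper (X ↘ (Spec (CommRingCat.of k)))] (hdim : topologicalKrullDim X = 1)
    (hreg : ∀ x : X, IsRegularLocalRing (X.presheaf.stalk x))
    (L L' : X.Modules) (hL : PicF.IsInvertible L) (hL' : PicF.IsInvertible L')
    (hs : Nontrivial (Coh.HH X L 0)) (hs' : Nontrivial (Coh.HH X L' 0)) :
    Module.finrank k (Coh.HH X L 0) + Module.finrank k (Coh.HH X L' 0) ≤ Module.finrank k (Coh.HH X (CohB1.tensorMod L L') 0) + 1 := by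
  have H : Groth.Agent.Lib.ProperFinHyp.Hyp.{u} := fun A _ _ X _ _ M hM n => Groth.Agent.S0002.result A X M hM n
  have HS : Groth.Agent.Lib.IntNumAlg13.SnapperHyp.{u} := fun k _ X _ _ d hd _ L hL F hF r hr =>
    Groth.Agent.S3230.result k X d hd L hL F hF r hr
  have V : Groth.Agent.Lib.EulerLE48.VanHyp.{u} := fun X _ d hd F p hp =>
    haveI : TopologicalSpace.NoetherianSpace X.toTopCat := inferInstanceAs (TopologicalSpace.NoetherianSpace X)
    Groth.Agent.S0458.result (X := X.toTopCat) d hd (Coh.toAb F) p hp
  have hpid := Groth.Agent.Lib.CurveVB67.hpid_of_regular X hdim.le hreg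
  exact Groth.Agent.Lib.CurveLinSum54.finrank_H0_add_le H HS V k X hdim hpid hL hL' hs hs'

end Groth.Agent.S11352
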