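import Groth.Statements.S11353
import Groth.Agent.Lib.CurveVB67L
import Groth.Agent.S0002
import Groth.Agent.S3230
import Groth.Agent.S0458
import Mathlib
-- import your own Groth.Agent.* helpers here

set_option autoImplicit false
universe u
open CategoryTheory CategoryTheory.Limits AlgebraicGeometry
open Curves

namespace Groth.Agent.S11353

open Groth.Agent.Lib.CurveVB67


/-- Let C be a curve over an algebraically closed field k (integral, proper over k, of dimension one,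
all local rings regular) and E a decomposable locally free sheaf of rank 2 — E ≅ L₁ ⊕ L₂ with L₁, L₂
invertible — which is normalized: H^0(C, E) ≠ 0 while H^0(C, E ⊗ M) = 0 for every invertible M of
negative degree. Then E ≅ O_C ⊕ L for an invertible L with deg L ≤ 0; in particular e = -deg E ≥ 0. -/
theorem result (k : Type u) [Field k] [IsAlgClosed k] (C : Scheme.{u}) [C.Over (Spec (CommRingCat.of k))]
    [IsIntegral C] [IsProper (C ↘ (Spec (CommRingCat.of k)))] (hdimC : topologicalKrullDim C = 1)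
    (hregC : ∀ x : C, IsRegularLocalRing (C.presheaf.stalk x))
    (E L₁ L₂ : C.Modules) (hL₁ : PicF.IsInvertible L₁) (hL₂ : PicF.IsInvertible L₂) (hE : Nonempty (E ≅ L₁ ⊞ L₂))
    (hn0 : Nontrivial (Coh.HH C E 0))
    (hneg : ∀ M : C.Modules, PicF.IsInvertible M → Curv2.deg k C M 1 < 0 → Subsingleton (Coh.HH C (CohB1.tensorMod E M) 0)) :
    ∃ L : C.Modules, PicF.IsInvertible L ∧ Curv2.deg k C L 1 ≤ 0 ∧ Nonempty (E ≅ Coh.structureModule C ⊞ L) := by
  have H : Groth.Agent.Lib.ProperFinHyp.Hyp.{u} :=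
    fun A _ _ X _ _ M hM n => Groth.Agent.S0002.result A X M hM n
  have HS : Groth.Agent.Lib.IntNumAlg13.SnapperHyp.{u} := fun k _ X _ _ d hd _ L hL F hF r hr =>
    Groth.Agent.S3230.result k X d hd L hL F hF r hr
  have V : Groth.Agent.Lib.EulerLE48.VanHyp.{u} := fun X _ d hd F p hp =>
    have : TopologicalSpace.NoetherianSpace X.toTopCat :=
      inferInstanceAs (TopologicalSpace.NoetherianSpace X)
    Groth.Agent.S0458.result (X := X.toTopCat) d hd (Coh.toAb F) p hp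
  have hpid := hpid_of_regular C hdimC.le hregC
  have hO1 := isFinLocFreeOfRank_one_structureModule C
  obtain ⟨φ⟩ := hE
  have hL₁lf := (Groth.Agent.Lib.H90Invertible.isInvertible_iff_isFinLocFreeOfRank_one L₁).mp hL₁
  have hL₂lf := (Groth.Agent.Lib.H90Invertible.isInvertible_iff_isFinLocFreeOfRank_one L₂).mp hL₂
  have hm₁ : Mono ((biprod.inl : L₁ ⟶ L₁ ⊞ L₂) ≫ φ.inv) := mono_comp _ _
  have hm₂ : Mono ((biprod.inr : L₂ ⟶ L₁ ⊞ L₂) ≫ φ.inv) := mono_comp _ _
  have hd₁ := deg_le_zero_of_mono_of_normalized HS V k C hdimC.le hneg hL₁ ((biprod.inl : L₁ ⟶ L₁ ⊞ L₂) ≫ φ.inv)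
  have hd₂ := deg_le_zero_of_mono_of_normalized HS V k C hdimC.le hneg hL₂ ((biprod.inr : L₂ ⟶ L₁ ⊞ L₂) ≫ φ.inv)
  obtain ⟨s, hs⟩ := exists_hom_ne_zero_of_nontrivial_H0 C E (not_subsingleton_iff_nontrivial.mpr hn0)
  by_cases h1 : s ≫ φ.hom ≫ biprod.fst = 0
  · have h2 : s ≫ φ.hom ≫ biprod.snd ≠ 0 := by
      intro h2
      apply hs
      have : s ≫ φ.hom = 0 := by
        apply biprod.hom_ext
        · rw [Category.assoc, h1, zero_comp]
        · rw [Category.assoc, h2, zero_comp]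
      rw [← cancel_mono φ.hom, this, zero_comp]
    have hmono : Mono (s ≫ φ.hom ≫ biprod.snd) := mono_of_ne_zero_of_rank_one k C hpid hO1 hL₂lf _ h2
    have hiso : IsIso (s ≫ φ.hom ≫ biprod.snd) := isIso_of_mono_of_deg_le_zero H k C hdimC.le hL₂lf _ hd₂
    exact ⟨L₁, hL₁, hd₁, ⟨φ ≪≫ biprod.braiding L₁ L₂ ≪≫
      biprod.mapIso (asIso (s ≫ φ.hom ≫ biprod.snd)).symm (Iso.refl L₁)⟩⟩
  · have hmono : Mono (s ≫ φ.hom ≫ biprod.fst) := mono_of_ne_zero_of_rank_one k C hpid hO1 hL₁lf _ h1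
    have hiso : IsIso (s ≫ φ.hom ≫ biprod.fst) := isIso_of_mono_of_deg_le_zero H k C hdimC.le hL₁lf _ hd₁
    exact ⟨L₂, hL₂, hd₂, ⟨φ ≪≫ biprod.mapIso (asIso (s ≫ φ.hom ≫ biprod.fst)).symm (Iso.refl L₂)⟩⟩

end Groth.Agent.S11353
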