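import Groth.Statements.S11358
-- import your own Groth.Agent.* helpers here
import Mathlib
import Groth.Agent.S0342
import Groth.Agent.S0343
import Groth.Agent.S16185
import Groth.Agent.Lib.CohenFactor3
import Groth.Agent.Lib.LocalFlatReg88
import Groth.Agent.Lib.RegularLocal

set_option autoImplicit false
set_option linter.style.haveILetI false
universe u
open CAlg

namespace Groth.Agent.S11358

open RingTheory.Sequence IsLocalRing TensorProduct

/-- The last entry of a weakly regular sequence may be replaced by a power. -/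
theorem isWeaklyRegular_append_pow {A : Type*} [CommRing A] {M : Type*} [AddCommGroup M]
    [Module A M] (l : List A) (b : A) (N : ℕ) (h : IsWeaklyRegular M (l ++ [b])) :
    IsWeaklyRegular M (l ++ [b ^ N]) := by
  rw [isWeaklyRegular_append_iff] at h ⊢
  refine ⟨h.1, ?_⟩
  have h2 := h.2
  rw [isWeaklyRegular_singleton_iff] at h2 ⊢
  exact h2.pow N

/-- Powers of a (weakly) regular sequence in the maximal ideal of a local ring, on a Noetherian
module. -/
theorem isWeaklyRegular_pow_aux {A : Type*} [CommRing A] [IsLocalRing A] {M : Type*}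
    [AddCommGroup M] [Module A M] [IsNoetherian A M] (N : ℕ) (hN : N ≠ 0) :
    ∀ (l2 l1 : List A), (∀ r ∈ l1 ++ l2, r ∈ maximalIdeal A) → IsWeaklyRegular M (l1 ++ l2) →
      IsWeaklyRegular M (l1 ++ l2.map (· ^ N)) := by
  intro l2
  induction l2 with
  | nil =>
    intro l1 _ h
    simpa using h
  | cons b l2 ih =>
    intro l1 hmem h
    have hb : b ∈ maximalIdeal A := hmem b (by simp)
    have hp1 : (l1 ++ b :: l2).Perm ((l1 ++ l2) ++ [b]) :=
      List.perm_middle.trans (List.perm_append_singleton b (l1 ++ l2)).symm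
    have h1 : IsWeaklyRegular M ((l1 ++ l2) ++ [b]) :=
      IsLocalRing.isWeaklyRegular_of_perm_of_subset_maximalIdeal h hp1 hmem
    have h2 : IsWeaklyRegular M ((l1 ++ l2) ++ [b ^ N]) := isWeaklyRegular_append_pow _ b N h1
    have hmem2 : ∀ r ∈ (l1 ++ l2) ++ [b ^ N], r ∈ maximalIdeal A := by
      intro r hr
      rw [List.mem_append, List.mem_singleton] at hr
      rcases hr with hr | rfl
      · refine hmem r ?_
        rw [List.mem_append] at hr ⊢
        rcases hr with hr | hr
        · exact Or.inl hr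
        · exact Or.inr (List.mem_cons_of_mem _ hr)
      · exact Ideal.pow_mem_of_mem _ hb N (Nat.pos_of_ne_zero hN)
    have hp2 : ((l1 ++ l2) ++ [b ^ N]).Perm ((l1 ++ [b ^ N]) ++ l2) := by
      rw [List.append_assoc, List.append_assoc]
      exact List.Perm.append_left l1 List.perm_append_comm
    have h3 : IsWeaklyRegular M ((l1 ++ [b ^ N]) ++ l2) :=
      IsLocalRing.isWeaklyRegular_of_perm_of_subset_maximalIdeal h2 hp2 hmem2
    have h4 := ih (l1 ++ [b ^ N]) (fun r hr => hmem2 r (hp2.mem_iff.mpr hr)) h3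
    simpa [List.append_assoc] using h4

theorem isWeaklyRegular_pow {A : Type*} [CommRing A] [IsLocalRing A] {M : Type*}
    [AddCommGroup M] [Module A M] [IsNoetherian A M] (N : ℕ) (hN : N ≠ 0) (l : List A)
    (hmem : ∀ r ∈ l, r ∈ maximalIdeal A) (h : IsWeaklyRegular M l) :
    IsWeaklyRegular M (l.map (· ^ N)) := by
  have := isWeaklyRegular_pow_aux (M := M) N hN l [] (by simpa using hmem) (by simpa using h)
  simpa using this

/-- Quotient of a Gorenstein local ring by a regular sequence is Gorenstein. -/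
theorem gorenstein_of_surjective_of_ker_eq_ofList : ∀ (n : ℕ) (A : Type u) [CommRing A]
    [LocCoh.IsGorensteinLocalRing A] (rs : List A), rs.length = n →
    (∀ r ∈ rs, r ∈ maximalIdeal A) → IsWeaklyRegular A rs →
    ∀ (C : Type u) [CommRing C] (φ : A →+* C), Function.Surjective φ →
      RingHom.ker φ = Ideal.ofList rs → LocCoh.IsGorensteinLocalRing C := by
  intro n
  induction n with
  | zero =>
    intro A _ _ rs hlen _ _ C _ φ hφ hker
    have hrs : rs = [] := List.eq_nil_of_length_eq_zero hlen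
    subst hrs
    rw [Ideal.ofList_nil] at hker
    have hinj : Function.Injective φ := (RingHom.injective_iff_ker_eq_bot φ).mpr hker
    exact Groth.Agent.S16185.isGorensteinLocalRing_of_ringEquiv
      (RingEquiv.ofBijective φ ⟨hinj, hφ⟩).symm
  | succ n ih =>
    intro A _ _ rs hlen hmem hreg C _ φ hφ hker
    match rs, hlen, hmem, hreg, hker with
    | [], hlen, _, _, _ => simp at hlen
    | r :: rs, hlen, hmem, hreg, hker =>
      have hr : r ∈ maximalIdeal A := hmem r (by simp)
      rw [isWeaklyRegular_cons_iff] at hreg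
      obtain ⟨hr1, hrs1⟩ := hreg
      have hG1 : LocCoh.IsGorensteinLocalRing (A ⧸ Ideal.span {r}) :=
        (Groth.Agent.S0343.result A r hr hr1).mp inferInstance
      have hlocB : IsLocalRing (A ⧸ Ideal.span {r}) := hG1.toIsLocalRing
      have hle : Ideal.span {r} ≤ RingHom.ker φ := by
        rw [hker, Ideal.ofList_cons]
        exact le_sup_left
      let φ₁ : A ⧸ Ideal.span {r} →+* C := Ideal.Quotient.lift (Ideal.span {r}) φ
        (fun a ha => hle ha)
      have hφ₁ : Function.Surjective φ₁ := by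
        intro c
        obtain ⟨a, rfl⟩ := hφ c
        exact ⟨Ideal.Quotient.mk _ a, rfl⟩
      have hker₁ : RingHom.ker φ₁ = Ideal.ofList (rs.map (Ideal.Quotient.mk (Ideal.span {r}))) := by
        rw [Ideal.ker_quotient_lift, hker, ← Ideal.map_ofList, Ideal.ofList_cons, Ideal.map_sup,
          Ideal.map_quotient_self, bot_sup_eq]
      refine ih (A ⧸ Ideal.span {r}) (rs.map (Ideal.Quotient.mk (Ideal.span {r}))) ?_ ?_ ?_ C φ₁
        hφ₁ hker₁
      · simpa using hlen
      · intro x hx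
        rw [List.mem_map] at hx
        obtain ⟨a, ha, rfl⟩ := hx
        have hloc : IsLocalHom (Ideal.Quotient.mk (Ideal.span {r})) :=
          IsLocalHom.of_surjective _ Ideal.Quotient.mk_surjective
        exact map_nonunit (Ideal.Quotient.mk (Ideal.span {r})) a (hmem a (List.mem_cons_of_mem _ ha))
      · rw [← Ideal.Quotient.algebraMap_eq,
          isWeaklyRegular_map_algebraMap_iff (A ⧸ Ideal.span {r}) (A ⧸ Ideal.span {r}) rs]
        have e : QuotSMulTop r A ≃ₗ[A] (A ⧸ Ideal.span {r}) :=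
          Submodule.quotEquivOfEq _ _ (by
            rw [← Submodule.ideal_span_singleton_smul, smul_eq_mul, Ideal.mul_top])
        exact (e.isWeaklyRegular_congr rs).mp hrs1


theorem isAdicComplete_of_pow_eq_bot {B : Type*} [CommRing B] (K : Ideal B) {m : ℕ}
    (hK : K ^ m = ⊥) : IsAdicComplete K B where
  haus' x hx := by
    have := hx m
    rwa [hK, Submodule.bot_smul, SModEq.bot] at this
  prec' f hf := by
    refine ⟨f m, fun n => ?_⟩
    by_cases h : n ≤ m
    · exact hf h
    · have := hf (show m ≤ n by omega)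
      rw [hK, Submodule.bot_smul, SModEq.bot] at this
      rw [this]

theorem exists_maximalIdeal_pow_eq_bot (A : Type*) [CommRing A] [IsLocalRing A]
    [IsArtinianRing A] : ∃ N : ℕ, N ≠ 0 ∧ maximalIdeal A ^ N = ⊥ := by
  have h := IsArtinianRing.isNilpotent_jacobson_bot (R := A)
  rw [IsLocalRing.jacobson_eq_maximalIdeal ⊥ bot_ne_top] at h
  obtain ⟨N, hN⟩ := h
  refine ⟨N + 1, Nat.succ_ne_zero N, ?_⟩
  rw [pow_succ, hN, Ideal.zero_eq_bot, Ideal.bot_mul]

set_option maxHeartbeats 800000 in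
theorem main_abstract (R S P Q : Type u) [CommRing R] [CommRing S] [IsArtinianRing R]
    [IsLocalRing R] [IsArtinianRing S] [IsLocalRing S] [Algebra R S]
    [IsLocalHom (algebraMap R S)]
    [CommRing P] [IsLocalRing P] [IsNoetherianRing P] [CommRing Q] [IsLocalRing Q]
    [IsNoetherianRing Q]
    (ρ : P →+* R) (hρ : Function.Surjective ρ) (σ : Q →+* S) (hσ : Function.Surjective σ)
    (τ : P →+* Q) (hcomm : σ.comp τ = (algebraMap R S).comp ρ) [hτloc : IsLocalHom τ]
    (hflat : τ.Flat)
    [hreg : IsRegularLocalRing (Q ⧸ (maximalIdeal P).map τ)] (m : ℕ)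
    (hdim : ringKrullDim (Q ⧸ (maximalIdeal P).map τ) = (m : WithBot ℕ∞))
    (x : Fin m → Q) (hxm : ∀ j, x j ∈ maximalIdeal Q)
    (hx : maximalIdeal Q ≤ Ideal.span (Set.range x) ⊔ (maximalIdeal P).map τ) :
    ∃ (R' : Type u) (_ : CommRing R') (_ : Algebra R R'), IsArtinianRing R' ∧ IsLocalRing R' ∧
      Module.Flat R R' ∧ IsLocalHom (algebraMap R R') ∧
      LocCoh.IsGorensteinLocalRing (R' ⧸ (IsLocalRing.maximalIdeal R).map (algebraMap R R')) ∧
      ∃ g : R' →ₐ[R] S, Function.Surjective g := by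
  classical
  obtain ⟨NR, hNR0, hNR⟩ := exists_maximalIdeal_pow_eq_bot R
  obtain ⟨N, hN0, hNS⟩ := exists_maximalIdeal_pow_eq_bot S
  -- notation
  set Iτ : Ideal Q := (maximalIdeal P).map τ with hIτ
  let F := Q ⧸ Iτ
  let mkF : Q →+* F := Ideal.Quotient.mk Iτ
  have hρloc : IsLocalHom ρ := IsLocalHom.of_surjective ρ hρ
  have hσloc : IsLocalHom σ := IsLocalHom.of_surjective σ hσ
  -- the sequence
  let xs : List Q := (List.ofFn x).map (· ^ N)
  have hxs_mem : ∀ r ∈ xs, ∃ j, r = x j ^ N := by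
    intro r hr
    simp only [xs, List.mem_map, List.mem_ofFn] at hr
    obtain ⟨_, ⟨j, rfl⟩, rfl⟩ := hr
    exact ⟨j, rfl⟩
  have hxs_mem' : ∀ j, x j ^ N ∈ Ideal.ofList xs := by
    intro j
    refine Ideal.subset_span ?_
    show x j ^ N ∈ xs
    simp only [xs, List.mem_map, List.mem_ofFn]
    exact ⟨x j, ⟨j, rfl⟩, rfl⟩
  -- σ kills the sequence
  have hσx : ∀ j, σ (x j ^ N) = 0 := by
    intro j
    have h1 : σ (x j) ∈ maximalIdeal S := map_nonunit σ _ (hxm j)
    have h2 : σ (x j) ^ N ∈ maximalIdeal S ^ N := Ideal.pow_mem_pow h1 N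
    rw [hNS] at h2
    rw [map_pow]
    exact h2
  -- regular sequence on the fibre
  have hGorF : LocCoh.IsGorensteinLocalRing F := Groth.Agent.S0342.result F
  have hmQF : (maximalIdeal Q).map mkF = maximalIdeal F :=
    IsLocalRing.map_maximalIdeal_of_surjective mkF Ideal.Quotient.mk_surjective
  have hmF : Ideal.span (Set.range (fun j => mkF (x j))) = maximalIdeal F := by
    apply le_antisymm
    · rw [Ideal.span_le]
      rintro _ ⟨j, rfl⟩
      rw [← hmQF]
      exact Ideal.mem_map_of_mem _ (hxm j)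
    · rw [← hmQF]
      refine (Ideal.map_mono hx).trans ?_
      rw [Ideal.map_sup, Ideal.map_span, ← Set.range_comp, Ideal.map_quotient_self, sup_bot_eq]
      exact le_rfl
  have hys0 : IsRegular F (List.ofFn (fun j => mkF (x j))) :=
    Groth.Agent.Lib.RegularLocal.isRegular_ofFn F m hdim _ hmF
  have hys0mem : ∀ r ∈ List.ofFn (fun j => mkF (x j)), r ∈ maximalIdeal F := by
    intro r hr
    rw [List.mem_ofFn] at hr
    obtain ⟨j, rfl⟩ := hr
    rw [← hmQF]
    exact Ideal.mem_map_of_mem _ (hxm j)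
  have hys : IsWeaklyRegular F ((List.ofFn (fun j => mkF (x j))).map (· ^ N)) :=
    isWeaklyRegular_pow N hN0 _ hys0mem hys0.toIsWeaklyRegular
  have hysxs : (List.ofFn (fun j => mkF (x j))).map (· ^ N) = xs.map mkF := by
    simp only [xs, List.map_ofFn]
    congr 1
  rw [hysxs] at hys
  -- flatness of `Q ⧸ (xs)` over `P`
  letI algPQ : Algebra P Q := τ.toAlgebra
  have hflatPQ : Module.Flat P Q := hflat
  have hlocPQ : IsLocalHom (algebraMap P Q) := hτloc
  have hfib : IsWeaklyRegular
      (Q ⧸ ((maximalIdeal P).map (algebraMap P Q) • ⊤ : Submodule Q Q)) xs := by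
    have h1 : IsWeaklyRegular F xs := by
      rw [← isWeaklyRegular_map_algebraMap_iff F F xs]
      exact hys
    let e : (Q ⧸ ((maximalIdeal P).map (algebraMap P Q) • ⊤ : Submodule Q Q)) ≃ₗ[Q] F :=
      Submodule.quotEquivOfEq _ _ (by rw [smul_eq_mul, Ideal.mul_top]; rfl)
    exact (e.isWeaklyRegular_congr xs).mpr h1
  obtain ⟨hxsreg, hxsflat⟩ :=
    Groth.Agent.Lib.LocalFlatReg88.isWeaklyRegular_and_flat_of_fibre (A := P) (B := Q) xs Q hfib
  have hflatT : Module.Flat P (Q ⧸ Ideal.ofList xs) := by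
    have h1 := hxsflat xs.length le_rfl
    rw [List.take_length] at h1
    let e : (Q ⧸ (Ideal.ofList xs • ⊤ : Submodule Q Q)) ≃ₗ[Q] (Q ⧸ Ideal.ofList xs) :=
      Submodule.quotEquivOfEq _ _ (by rw [smul_eq_mul, Ideal.mul_top])
    exact Module.Flat.of_linearEquiv (e.restrictScalars P).symm
  -- the ring `R'`
  letI algPR : Algebra P R := ρ.toAlgebra
  let T' := Q ⧸ Ideal.ofList xs
  let R' := R ⊗[P] T'
  have hflatR' : Module.Flat R R' := inferInstance
  let π : Q →+* R' :=
    (Algebra.TensorProduct.includeRight : T' →ₐ[P] R ⊗[P] T').toRingHom.comp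
      (Ideal.Quotient.mk (Ideal.ofList xs))
  have hπ : Function.Surjective π :=
    (Algebra.TensorProduct.includeRight_surjective T' hρ).comp Ideal.Quotient.mk_surjective
  have hπapp : ∀ y : Q, π y = (1 : R) ⊗ₜ[P] (Ideal.Quotient.mk (Ideal.ofList xs) y) := fun y => rfl
  have hπτ : ∀ p, π (τ p) = algebraMap R R' (ρ p) := by
    intro p
    have h1 : (Ideal.Quotient.mk (Ideal.ofList xs)) (τ p) = algebraMap P T' p := rfl
    show (Algebra.TensorProduct.includeRight : T' →ₐ[P] R ⊗[P] T')
      (Ideal.Quotient.mk _ (τ p)) = _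
    rw [h1, AlgHom.commutes, Algebra.TensorProduct.algebraMap_apply,
      Algebra.TensorProduct.algebraMap_apply]
    rfl
  have hπx : ∀ j, π (x j ^ N) = 0 := by
    intro j
    rw [hπapp, Ideal.Quotient.eq_zero_iff_mem.mpr (hxs_mem' j), TensorProduct.tmul_zero]
  -- the map to `S`
  letI algPS : Algebra P S := ((algebraMap R S).comp ρ).toAlgebra
  haveI : IsScalarTower P R S := IsScalarTower.of_algebraMap_eq (fun _ => rfl)
  let σalg : Q →ₐ[P] S := { σ with commutes' := fun p => RingHom.congr_fun hcomm p }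
  have hσker : ∀ a ∈ Ideal.ofList xs, σalg a = 0 := by
    have h1 : Ideal.ofList xs ≤ RingHom.ker σ := by
      rw [Ideal.span_le]
      intro r hr
      obtain ⟨j, rfl⟩ := hxs_mem r hr
      exact hσx j
    intro a ha
    exact h1 ha
  let σ' : T' →ₐ[P] S := Ideal.Quotient.liftₐ (Ideal.ofList xs) σalg hσker
  let g : R' →ₐ[R] S :=
    Algebra.TensorProduct.lift (Algebra.ofId R S) σ' (fun _ _ => Commute.all _ _)
  have hgπ : ∀ y, g (π y) = σ y := by
    intro y
    rw [hπapp]
    show (Algebra.TensorProduct.lift (Algebra.ofId R S) σ' (fun _ _ => Commute.all _ _))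
      ((1 : R) ⊗ₜ[P] (Ideal.Quotient.mk (Ideal.ofList xs) y)) = σ y
    rw [Algebra.TensorProduct.lift_tmul, map_one, one_mul]
    rfl
  have hg : Function.Surjective g := by
    intro s
    obtain ⟨y, rfl⟩ := hσ s
    exact ⟨π y, hgπ y⟩
  -- `R'` is an Artinian local ring
  haveI hnt : Nontrivial R' := RingHom.domain_nontrivial g.toRingHom
  haveI hlocR' : IsLocalRing R' := IsLocalRing.of_surjective' π hπ
  haveI hnoeR' : IsNoetherianRing R' := isNoetherianRing_of_surjective Q R' π hπ
  have hmR' : (maximalIdeal Q).map π = maximalIdeal R' :=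
    IsLocalRing.map_maximalIdeal_of_surjective π hπ
  have hnilR : ∀ r ∈ maximalIdeal R, IsNilpotent r := fun r hr => ⟨NR, by
    have := Ideal.pow_mem_pow hr NR
    rwa [hNR] at this⟩
  have hρm : ∀ p ∈ maximalIdeal P, ρ p ∈ maximalIdeal R := fun p hp => map_nonunit ρ p hp
  have hle : maximalIdeal R' ≤ nilradical R' := by
    rw [← hmR']
    refine (Ideal.map_mono hx).trans ?_
    rw [Ideal.map_sup, sup_le_iff]
    constructor
    · rw [Ideal.map_span, Ideal.span_le]
      rintro _ ⟨_, ⟨j, rfl⟩, rfl⟩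
      show IsNilpotent (π (x j))
      exact ⟨N, by rw [← map_pow]; exact hπx j⟩
    · rw [hIτ, Ideal.map_map, Ideal.map_le_iff_le_comap]
      intro p hp
      show IsNilpotent ((π.comp τ) p)
      rw [RingHom.comp_apply, hπτ]
      exact (hnilR _ (hρm p hp)).map (algebraMap R R')
  haveI hartR' : IsArtinianRing R' := (isArtinianRing_iff_isNilpotent_maximalIdeal R').mpr
    ((Ideal.FG.isNilpotent_iff_le_nilradical (IsNoetherian.noetherian _)).mpr hle)
  have hlocalg : IsLocalHom (algebraMap R R') := by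
    refine ⟨fun r hr => ?_⟩
    by_contra hnu
    obtain ⟨k, hk⟩ := (hnilR r hnu).map (algebraMap R R')
    have h2 := hr.pow k
    rw [hk] at h2
    exact not_isUnit_zero h2
  -- the closed fibre
  set mR' : Ideal R' := (maximalIdeal R).map (algebraMap R R') with hmR'def
  let ψ : Q →+* R' ⧸ mR' := (Ideal.Quotient.mk mR').comp π
  have hψ : Function.Surjective ψ := Ideal.Quotient.mk_surjective.comp hπ
  have hψτ : ∀ a ∈ Iτ, ψ a = 0 := by
    have h1 : Iτ ≤ RingHom.ker ψ := by
      rw [hIτ, Ideal.map_le_iff_le_comap]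
      intro p hp
      show Ideal.Quotient.mk mR' (π (τ p)) = 0
      rw [hπτ, Ideal.Quotient.eq_zero_iff_mem]
      exact Ideal.mem_map_of_mem _ (hρm p hp)
    exact fun a ha => h1 ha
  let φ : F →+* R' ⧸ mR' := Ideal.Quotient.lift Iτ ψ hψτ
  have hφ : Function.Surjective φ := by
    intro z
    obtain ⟨y, rfl⟩ := hψ z
    exact ⟨mkF y, rfl⟩
  set J : Ideal Q := Iτ ⊔ Ideal.ofList xs with hJ
  let G := Q ⧸ J
  have hkerρ : RingHom.ker ρ ≤ RingHom.ker (algebraMap P G) := by
    intro p hp
    rw [RingHom.mem_ker] at hp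
    have hpm : p ∈ maximalIdeal P := by
      rw [mem_maximalIdeal, mem_nonunits_iff]
      intro hu
      have h1 := hu.map ρ
      rw [hp] at h1
      exact not_isUnit_zero h1
    rw [RingHom.mem_ker]
    show Ideal.Quotient.mk J (τ p) = 0
    rw [Ideal.Quotient.eq_zero_iff_mem]
    exact Ideal.mem_sup_left (Ideal.mem_map_of_mem _ hpm)
  let ρG : R →+* G := RingHom.liftOfSurjective ρ hρ ⟨algebraMap P G, hkerρ⟩
  have hρG : ∀ p, ρG (ρ p) = algebraMap P G p := fun p =>
    RingHom.liftOfSurjective_comp_apply ρ hρ ⟨algebraMap P G, hkerρ⟩ p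
  let ρGalg : R →ₐ[P] G := { ρG with commutes' := fun p => hρG p }
  let fac : T' →ₐ[P] G := Ideal.Quotient.factorₐ P (le_sup_right : Ideal.ofList xs ≤ J)
  let θ : R' →ₐ[P] G := Algebra.TensorProduct.lift ρGalg fac (fun _ _ => Commute.all _ _)
  have hθπ : ∀ y, θ (π y) = Ideal.Quotient.mk J y := by
    intro y
    rw [hπapp]
    show (Algebra.TensorProduct.lift ρGalg fac (fun _ _ => Commute.all _ _))
      ((1 : R) ⊗ₜ[P] (Ideal.Quotient.mk (Ideal.ofList xs) y)) = _
    rw [Algebra.TensorProduct.lift_tmul, map_one, one_mul]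
    rfl
  have hθm : mR' ≤ RingHom.ker θ.toRingHom := by
    rw [hmR'def, Ideal.map_le_iff_le_comap]
    intro r hr
    obtain ⟨p, rfl⟩ := hρ r
    have hp : p ∈ maximalIdeal P := by
      by_contra hnp
      rw [mem_maximalIdeal, mem_nonunits_iff, not_not] at hnp
      exact hr (hnp.map ρ)
    show θ (algebraMap R R' (ρ p)) = 0
    rw [← hπτ, hθπ, Ideal.Quotient.eq_zero_iff_mem]
    exact Ideal.mem_sup_left (Ideal.mem_map_of_mem _ hp)
  have hkerψ : RingHom.ker ψ = J := by
    apply le_antisymm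
    · intro y hy
      have h1 : π y ∈ mR' := Ideal.Quotient.eq_zero_iff_mem.mp hy
      have h2 := hθm h1
      have h3 : θ (π y) = 0 := h2
      rw [hθπ, Ideal.Quotient.eq_zero_iff_mem] at h3
      exact h3
    · rw [hJ, sup_le_iff]
      refine ⟨fun a ha => hψτ a ha, ?_⟩
      rw [Ideal.span_le]
      intro r hr
      obtain ⟨j, rfl⟩ := hxs_mem r hr
      show Ideal.Quotient.mk mR' (π (x j ^ N)) = 0
      rw [hπx, map_zero]
  have hkerφ : RingHom.ker φ = Ideal.ofList (xs.map mkF) := by
    rw [Ideal.ker_quotient_lift, hkerψ, hJ, Ideal.map_sup, Ideal.map_quotient_self, bot_sup_eq,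
      Ideal.map_ofList]
  have hmemF : ∀ r ∈ xs.map mkF, r ∈ maximalIdeal F := by
    intro r hr
    rw [List.mem_map] at hr
    obtain ⟨a, ha, rfl⟩ := hr
    obtain ⟨j, rfl⟩ := hxs_mem a ha
    rw [← hmQF]
    exact Ideal.mem_map_of_mem _ (Ideal.pow_mem_of_mem _ (hxm j) N (Nat.pos_of_ne_zero hN0))
  have hGorK : LocCoh.IsGorensteinLocalRing (R' ⧸ mR') :=
    gorenstein_of_surjective_of_ker_eq_ofList (xs.map mkF).length F (xs.map mkF) rfl hmemF hys
      _ φ hφ hkerφ
  exact ⟨R', inferInstance, inferInstance, hartR', hlocR', hflatR', hlocalg, hGorK, g, hg⟩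


/-- A local homomorphism R → S of Artinian local rings factors as R → R' → S with R' Artinian local, R →
R' flat and local with Gorenstein fibre ring R'/m_R R', and R' → S surjective. -/
theorem result (R S : Type u) [CommRing R] [CommRing S] [IsArtinianRing R] [IsLocalRing R] [IsArtinianRing S] [IsLocalRing S] [Algebra R S] [IsLocalHom (algebraMap R S)] : ∃ (R' : Type u) (_ : CommRing R') (_ : Algebra R R'), IsArtinianRing R' ∧ IsLocalRing R' ∧ Module.Flat R R' ∧ IsLocalHom (algebraMap R R') ∧ LocCoh.IsGorensteinLocalRing (R' ⧸ (IsLocalRing.maximalIdeal R).map (algebraMap R R')) ∧ ∃ g : R' →ₐ[R] S, Function.Surjective g := by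
  classical
  obtain ⟨NR, -, hNR⟩ := exists_maximalIdeal_pow_eq_bot R
  obtain ⟨NS, -, hNS⟩ := exists_maximalIdeal_pow_eq_bot S
  haveI hRc : IsAdicComplete (maximalIdeal R) R := isAdicComplete_of_pow_eq_bot _ hNR
  haveI hSc : IsAdicComplete (maximalIdeal S) S := isAdicComplete_of_pow_eq_bot _ hNS
  obtain ⟨Λ, _, _, q, vA, hΛ, hqA, hvAloc, hvAsurj⟩ := Groth.Agent.Lib.CohenFactor.exists_isCoeff R
  obtain ⟨Λ', _, _, q', vB, hΛ', hqB, hvBloc, hvBsurj⟩ :=
    Groth.Agent.Lib.CohenFactor.exists_isCoeff S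
  have hqq : q' = q := by
    have h1 : CharP (IsLocalRing.ResidueField R) q' :=
      RingHom.charP (IsLocalRing.ResidueField.map (algebraMap R S))
        (RingHom.injective _) q'
    exact CharP.eq (IsLocalRing.ResidueField R) h1 hqA
  subst hqq
  obtain ⟨n, bA, hbA⟩ := (Submodule.fg_iff_exists_fin_generating_family).1
    (IsNoetherian.noetherian (IsLocalRing.maximalIdeal R))
  have hbA' : Ideal.span (Set.range bA) = IsLocalRing.maximalIdeal R := hbA
  obtain ⟨m, bB, hbB⟩ := (Submodule.fg_iff_exists_fin_generating_family).1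
    (IsNoetherian.noetherian (IsLocalRing.maximalIdeal S))
  have hbB' : Ideal.span (Set.range bB) = IsLocalRing.maximalIdeal S := hbB
  have hΛc := hΛ.complete
  obtain ⟨ρ, hρsurj, -, -⟩ := Groth.Agent.Lib.CohenFactor.exists_surjective_of_family Λ R vA
    (fun a ha => map_nonunit vA a ha) hvAsurj bA
    (fun i => hbA' ▸ Ideal.subset_span ⟨i, rfl⟩) (hbA' ▸ le_sup_left)
  obtain ⟨σ, τ, hσsurj, hcomm, -, -, hτX, hτloc, hflat, hreg, hdim⟩ :=
    Groth.Agent.Lib.CohenFactor.exists_factor hΛ hΛ' ρ hρsurj vB hvBsurj bB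
      (fun j => hbB' ▸ Ideal.subset_span ⟨j, rfl⟩)
      (hbB' ▸ le_sup_of_le_left le_sup_left)
  haveI hPreg := Groth.Agent.Lib.CohenFactor.isRegularLocalRing_mvPowerSeries hΛ n
  haveI hQreg := Groth.Agent.Lib.CohenFactor.isRegularLocalRing_mvPowerSeries hΛ' (n + m)
  refine main_abstract R S (MvPowerSeries (Fin n) Λ) (MvPowerSeries (Fin (n + m)) Λ') ρ hρsurj σ
    hσsurj τ hcomm hflat m hdim (fun j => MvPowerSeries.X (Fin.natAdd n j))
    (fun j => Groth.Agent.Lib.CohenFactor.X_mem_maximalIdeal _) ?_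
  rw [Groth.Agent.Lib.CohenFactor.maximalIdeal_mvPowerSeries hΛ' (n + m), sup_le_iff]
  have hqmem : (q' : MvPowerSeries (Fin (n + m)) Λ') ∈
      (maximalIdeal (MvPowerSeries (Fin n) Λ)).map τ := by
    have h1 : (q' : MvPowerSeries (Fin n) Λ) ∈ maximalIdeal (MvPowerSeries (Fin n) Λ) := by
      rw [Groth.Agent.Lib.CohenFactor.maximalIdeal_mvPowerSeries hΛ n]
      exact Ideal.mem_sup_right (Ideal.subset_span rfl)
    have h2 := Ideal.mem_map_of_mem τ h1
    rwa [map_natCast] at h2
  constructor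
  · rw [Ideal.span_le]
    rintro _ ⟨k, rfl⟩
    refine Fin.addCases (fun i => ?_) (fun j => ?_) k
    · refine Ideal.mem_sup_right ?_
      rw [← hτX i]
      exact Ideal.mem_map_of_mem τ (Groth.Agent.Lib.CohenFactor.X_mem_maximalIdeal i)
    · exact Ideal.mem_sup_left (Ideal.subset_span ⟨j, rfl⟩)
  · rw [Ideal.span_le]
    rintro _ rfl
    exact Ideal.mem_sup_right hqmem

end Groth.Agent.S11358
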