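import Groth.Statements.S11360
import Groth.Agent.Lib.H29DualGlue

set_option autoImplicit false
universe u
open CategoryTheory
attribute [local instance] HasDerivedCategory.standard
open Dual

namespace Groth.Agent.S11360

/-- Let A be a Noetherian ring and R an object of D(A) with finite cohomology modules and of finite
injective dimension (isomorphic to a bounded complex of injective modules). If for every prime p of
A the derived base change of R to A_p (the total left derived functor of extension of scalars,
assumed to exist) is a dualizing complex for A_p, then R is a dualizing complex for A. (The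
published statement is for a locally Noetherian scheme and the stalks at all points; this row is the
affine case. Without the global finite injective dimension hypothesis the conclusion fails, e.g. for
a regular Noetherian ring of infinite Krull dimension.) -/
theorem result (A : Type u) [CommRing A] [IsNoetherianRing A] (R : Dual.D A) (hfin : ∀ i : ℤ, Module.Finite A (Dual.HD A R i)) (hfid : DRing.HasFiniteInjDim A R) [∀ p : PrimeSpectrum A, DRing.HasLBaseChange (algebraMap A (Localization.AtPrime p.asIdeal))] (h : ∀ p : PrimeSpectrum A, Dual.IsDualizing (Localization.AtPrime p.asIdeal) ((DRing.LBaseChange (algebraMap A (Localization.AtPrime p.asIdeal))).obj R)) : Dual.IsDualizing A R := by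
  obtain ⟨a, b, E, hE, hEinj, ⟨e⟩⟩ := hfid
  haveI : E.IsStrictlyGE a := by
    rw [CochainComplex.isStrictlyGE_iff]
    exact fun i hi => hE i (Or.inl hi)
  haveI : E.IsStrictlyLE b := by
    rw [CochainComplex.isStrictlyLE_iff]
    exact fun i hi => hE i (Or.inr hi)
  have hEinj' : ∀ i, Injective (E.X i) := fun i => by
    haveI := hEinj i
    exact Module.injective_object_of_injective_module A (E.X i)
  haveI : (DerivedCategory.Q.obj E).IsGE a := (DerivedCategory.isGE_Q_obj_iff _ _).mpr inferInstance
  haveI : (DerivedCategory.Q.obj E).IsLE b := (DerivedCategory.isLE_Q_obj_iff _ _).mpr inferInstance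
  haveI : R.IsGE a := DerivedCategory.TStructure.t.isGE_of_iso e a
  haveI : R.IsLE b := DerivedCategory.TStructure.t.isLE_of_iso e b
  have hbdd : ∃ a b : ℤ, ∀ i : ℤ, (i < a ∨ b < i) → Subsingleton (Dual.HD A R i) := by
    refine ⟨a, b, fun i hi => ?_⟩
    rcases hi with h' | h'
    · exact ModuleCat.subsingleton_of_isZero (R.isZero_of_isGE a i h')
    · exact ModuleCat.subsingleton_of_isZero (R.isZero_of_isLE b i h')
  have hinj : ∃ a b : ℤ, ∀ (M : Type u) [AddCommGroup M] [Module A M] (i : ℤ),
      (i < a ∨ b < i) → Subsingleton (Dual.inD A M ⟶ R⟦i⟧) := by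
    refine ⟨a, b, fun M _ _ i hi => ⟨fun φ ψ => ?_⟩⟩
    have hv := Groth.Agent.Lib.DInjGE.hom_vanishing_of_injective_amplitude E a b hEinj' hE R e
      (ModuleCat.of A M) i hi
    rw [hv φ, hv ψ]
  refine Groth.Agent.Lib.H29DualGlue.isDualizing_of_forall_maximal A R hbdd hfin hinj
    (fun m hm => ?_)
  haveI : DRing.HasLBaseChange (algebraMap A (Localization m.primeCompl)) :=
    (inferInstance : DRing.HasLBaseChange (algebraMap A
      (Localization.AtPrime (⟨m, hm.isPrime⟩ : PrimeSpectrum A).asIdeal)))
  exact Groth.Agent.Lib.H29DualPrime.isDualizing_of_iso _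
    ((Groth.Agent.Lib.H29LBaseLoc.lbaseLocIso m.primeCompl).app R) (h ⟨m, hm.isPrime⟩)

end Groth.Agent.S11360
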