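import Groth.Statements.S11393
import Mathlib

set_option autoImplicit false
universe u
open CategoryTheory CategoryTheory.Limits AlgebraicGeometry TopologicalSpace
open Variety

namespace Groth.Agent.S11393


section Sch

/-- a connected quasi-compact scheme has only trivial idempotent global functions -/
theorem idem_trivial (Y : Scheme.{u}) [CompactSpace Y] [PreconnectedSpace Y]
    (e : Γ(Y, ⊤)) (he : IsIdempotentElem e) : e = 0 ∨ e = 1 := by
  have hdisj : Y.basicOpen e ⊓ Y.basicOpen (1 - e) = ⊥ := by
    rw [← Scheme.basicOpen_mul]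
    have : e * (1 - e) = 0 := by
      rw [mul_sub, mul_one, he.eq, sub_self]
    rw [this, Scheme.basicOpen_zero]
  have hcov : ∀ x : Y, x ∈ Y.basicOpen e ∨ x ∈ Y.basicOpen (1 - e) := by
    intro x
    rw [Scheme.mem_basicOpen_top, Scheme.mem_basicOpen_top]
    apply IsLocalRing.isUnit_or_isUnit_of_add_one
    rw [← map_add, add_sub_cancel, map_one]
  have hclopen : IsClopen (Y.basicOpen e : Set Y) := by
    refine ⟨?_, (Y.basicOpen e).isOpen⟩
    have : (Y.basicOpen e : Set Y) = ((Y.basicOpen (1 - e) : Set Y))ᶜ := by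
      ext x
      constructor
      · intro hx hx'
        have : x ∈ Y.basicOpen e ⊓ Y.basicOpen (1 - e) := ⟨hx, hx'⟩
        rw [hdisj] at this
        exact this
      · intro hx
        exact (hcov x).resolve_right hx
    rw [this]
    exact (Y.basicOpen (1 - e)).isOpen.isClosed_compl
  have hnil : ∀ g : Γ(Y, ⊤), IsIdempotentElem g → Y.basicOpen g = ⊥ → g = 0 := by
    intro g hg h
    have h1 : IsNilpotent g := (Scheme.isNilpotent_iff_basicOpen_eq_bot g).2 h
    obtain ⟨n, hn⟩ := h1
    rcases Nat.eq_zero_or_pos n with rfl | hpos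
    · rw [pow_zero] at hn
      have : g = g * 1 := (mul_one g).symm
      rw [this, hn, mul_zero]
    · rw [← hg.pow_succ_eq (n - 1), Nat.sub_add_cancel hpos, hn]
  rcases isClopen_iff.1 hclopen with h | h
  · left
    apply hnil e he
    ext x
    rw [SetLike.mem_coe] 
    simp [← SetLike.mem_coe, h]
  · right
    have h2 : Y.basicOpen (1 - e) = ⊥ := by
      rw [← hdisj]
      have : Y.basicOpen e = ⊤ := by
        ext x
        simp [h]
      rw [this, top_inf_eq]
    have h3 := hnil (1 - e) he.one_sub h2
    rw [sub_eq_zero] at h3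
    exact h3.symm

end Sch

section Core

/-- integral element over an algebraically closed field in a connected ring is a constant plus a
nilpotent -/
theorem exists_sub_nilpotent {k B : Type*} [Field k] [IsAlgClosed k] [CommRing B] [Nontrivial B]
    [Algebra k B] (hidem : ∀ e : B, IsIdempotentElem e → e = 0 ∨ e = 1) (a : B)
    (ha : IsIntegral k a) : ∃ c : k, IsNilpotent (a - algebraMap k B c) := by
  classical
  set p := minpoly k a with hp
  have hp0 : p ≠ 0 := minpoly.ne_zero ha
  have hdeg : p.degree ≠ 0 := (minpoly.degree_pos ha).ne'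
  obtain ⟨c, hc⟩ := IsAlgClosed.exists_root p hdeg
  obtain ⟨q, hpq, hq⟩ := Polynomial.exists_eq_pow_rootMultiplicity_mul_and_not_dvd p hp0 c
  set e := p.rootMultiplicity c with he
  have he1 : 1 ≤ e := (Polynomial.rootMultiplicity_pos hp0).2 hc
  have hcop : IsCoprime ((Polynomial.X - Polynomial.C c) ^ e) q := by
    apply IsCoprime.pow_left
    exact (Polynomial.irreducible_X_sub_C c).coprime_iff_not_dvd.2 hq
  obtain ⟨u, v, huv⟩ := hcop
  -- evaluate at a
  have h1 : Polynomial.aeval a u * (a - algebraMap k B c) ^ e +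
      Polynomial.aeval a v * Polynomial.aeval a q = 1 := by
    have := congrArg (Polynomial.aeval a) huv
    simpa using this
  have h2 : (a - algebraMap k B c) ^ e * Polynomial.aeval a q = 0 := by
    have := minpoly.aeval k a
    rw [← hp, hpq] at this
    simpa using this
  set E := Polynomial.aeval a v * Polynomial.aeval a q with hE
  have hEid : IsIdempotentElem E := by
    have h3 : E * (1 - E) = 0 := by
      have : 1 - E = Polynomial.aeval a u * (a - algebraMap k B c) ^ e := by
        rw [← h1]; ring
      rw [this, hE]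
      calc Polynomial.aeval a v * Polynomial.aeval a q *
            (Polynomial.aeval a u * (a - algebraMap k B c) ^ e)
          = Polynomial.aeval a v * Polynomial.aeval a u *
            ((a - algebraMap k B c) ^ e * Polynomial.aeval a q) := by ring
        _ = 0 := by rw [h2, mul_zero]
    unfold IsIdempotentElem
    have : E * E = E - E * (1 - E) := by ring
    rw [this, h3, sub_zero]
  rcases hidem E hEid with h0 | h1'
  · -- E = 0 ⇒ q(a) = 0, contradiction with minimality
    exfalso
    have hqa : Polynomial.aeval a q = 0 := by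
      have : Polynomial.aeval a q = Polynomial.aeval a q *
          (Polynomial.aeval a u * (a - algebraMap k B c) ^ e + E) := by
        rw [hE, h1, mul_one]
      rw [this, h0, add_zero]
      calc Polynomial.aeval a q * (Polynomial.aeval a u * (a - algebraMap k B c) ^ e)
          = Polynomial.aeval a u * ((a - algebraMap k B c) ^ e * Polynomial.aeval a q) := by ring
        _ = 0 := by rw [h2, mul_zero]
    have hq0 : q ≠ 0 := by
      rintro rfl
      rw [mul_zero] at hpq
      exact hp0 hpq
    have hle := minpoly.degree_le_of_ne_zero k a hq0 hqa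
    have hlt : q.degree < p.degree := by
      have hnd : p.natDegree = e + q.natDegree := by
        conv_lhs => rw [hpq]
        rw [Polynomial.natDegree_mul (pow_ne_zero _ (Polynomial.X_sub_C_ne_zero c)) hq0,
          Polynomial.natDegree_pow, Polynomial.natDegree_X_sub_C, mul_one]
      rw [Polynomial.degree_eq_natDegree hq0, Polynomial.degree_eq_natDegree hp0]
      exact_mod_cast (by omega : q.natDegree < p.natDegree)
    exact absurd hle (not_le.2 hlt)
  · refine ⟨c, e, ?_⟩
    calc (a - algebraMap k B c) ^ e = (a - algebraMap k B c) ^ e * E := by rw [h1', mul_one]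
      _ = Polynomial.aeval a v * ((a - algebraMap k B c) ^ e * Polynomial.aeval a q) := by
        rw [hE]; ring
      _ = 0 := by rw [h2, mul_zero]

theorem exists_sub_nilpotent' {k B : Type*} [Field k] [IsAlgClosed k] [CommRing B] [Nontrivial B]
    (s : k →+* B) (hint : s.IsIntegral)
    (hidem : ∀ e : B, IsIdempotentElem e → e = 0 ∨ e = 1) (a : B) :
    ∃ c : k, IsNilpotent (a - s c) := by
  let _ := s.toAlgebra
  exact exists_sub_nilpotent hidem a (hint a)

theorem const_unique {k B : Type*} [Field k] [CommRing B] [Nontrivial B]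
    (s : k →+* B) {a : B} {c c' : k} (h : IsNilpotent (a - s c)) (h' : IsNilpotent (a - s c')) :
    c = c' := by
  have h1 : IsNilpotent (s (c' - c)) := by
    have : s (c' - c) = (a - s c) - (a - s c') := by rw [map_sub]; ring
    rw [this]
    exact (Commute.all _ _).isNilpotent_sub h h'
  obtain ⟨n, hn⟩ := h1
  rw [← map_pow] at hn
  have : (c' - c) ^ n = 0 := s.injective (by rw [hn, map_zero])
  have h2 : c' - c = 0 := pow_eq_zero_iff (n := n) (by
    rintro rfl
    rw [pow_zero] at this
    exact one_ne_zero this) |>.1 this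
  exact (sub_eq_zero.1 h2).symm

theorem isUnit_of_sub_nilpotent {k B : Type*} [Field k] [CommRing B]
    (s : k →+* B) {a : B} {c : k} (hc : c ≠ 0) (h : IsNilpotent (a - s c)) : IsUnit a := by
  have : a = s c + (a - s c) := by ring
  rw [this]
  exact h.isUnit_add_left_of_commute ((isUnit_iff_ne_zero.2 hc).map s) (Commute.all _ _)

/-- the limit of a tower of connected integral algebras over an algebraically closed field is local -/
theorem core (k : Type*) [Field k] [IsAlgClosed k] (B : ℕ → Type*) [∀ m, CommRing (B m)]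
    (s : ∀ m, k →+* B m) (τ : ∀ m, B (m + 1) →+* B m)
    (hτ : ∀ m c, τ m (s (m + 1) c) = s m c)
    (hint : ∀ m, (s m).IsIntegral) (hnt : ∀ m, Nontrivial (B m))
    (hidem : ∀ m (e : B m), IsIdempotentElem e → e = 0 ∨ e = 1)
    (L : Type*) [CommRing L] (π : ∀ m, L →+* B m)
    (hπ : ∀ m x, τ m (π (m + 1) x) = π m x)
    (hext : ∀ x y : L, (∀ m, π m x = π m y) → x = y)
    (hex : ∀ b : ∀ m, B m, (∀ m, τ m (b (m + 1)) = b m) → ∃ x : L, ∀ m, π m x = b m) :
    IsLocalRing L ∧ ∀ a : L, ∃ c : k, ∀ m, IsNilpotent (π m a - s m c) := by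
  -- the constant attached to an element
  have hconst : ∀ a : L, ∃ c : k, ∀ m, IsNilpotent (π m a - s m c) := by
    intro a
    have h0 : ∀ m, ∃ c : k, IsNilpotent (π m a - s m c) := fun m =>
      have := hnt m
      exists_sub_nilpotent' (s m) (hint m) (hidem m) (π m a)
    choose c hc using h0
    have hcc : ∀ m, c (m + 1) = c m := by
      intro m
      have := hnt m
      have h1 : IsNilpotent (τ m (π (m + 1) a - s (m + 1) (c (m + 1)))) := (hc (m + 1)).map (τ m)
      rw [map_sub, hπ, hτ] at h1
      exact const_unique (s m) h1 (hc m)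
    have hc0 : ∀ m, c m = c 0 := by
      intro m
      induction m with
      | zero => rfl
      | succ m ih => rw [hcc, ih]
    exact ⟨c 0, fun m => by rw [← hc0 m]; exact hc m⟩
  refine ⟨?_, hconst⟩
  have : Nontrivial L := by
    have := hnt 0
    exact (π 0).domain_nontrivial
  -- units
  have hunit : ∀ a : L, (∀ m, IsUnit (π m a)) → IsUnit a := by
    intro a ha
    choose u hu using ha
    obtain ⟨x, hx⟩ := hex (fun m => ((u m)⁻¹ : (B m)ˣ)) (by
      intro m
      have h1 : τ m (π (m + 1) a) = π m a := hπ m a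
      rw [← hu, ← hu] at h1
      have h2 : (u m : B m) * τ m ((u (m + 1))⁻¹ : (B (m + 1))ˣ) = 1 := by
        rw [← h1, ← map_mul, Units.mul_inv, map_one]
      exact (Units.eq_inv_of_mul_eq_one_left h2))
    refine IsUnit.of_mul_eq_one x (hext _ _ fun m => ?_)
    rw [map_mul, map_one, hx, ← hu, Units.mul_inv]
  apply IsLocalRing.of_isUnit_or_isUnit_one_sub_self
  intro a
  obtain ⟨c, hc⟩ := hconst a
  by_cases hc0 : c = 0
  · right
    apply hunit
    intro m
    have h1 : IsNilpotent (π m (1 - a) - s m 1) := by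
      have : π m (1 - a) - s m 1 = -(π m a - s m c) := by
        rw [hc0, map_sub, map_one, map_one, map_zero]; ring
      rw [this]
      exact (hc m).neg
    exact isUnit_of_sub_nilpotent (s m) one_ne_zero h1
  · left
    apply hunit
    intro m
    exact isUnit_of_sub_nilpotent (s m) hc0 (hc m)

end Core


theorem result' (k : Type u) [Field k] [IsAlgClosed k] (X : Scheme.{u})
    [X.Over (Spec (CommRingCat.of k))] [IsProper (X ↘ (Spec (CommRingCat.of k)))]
    (𝓘 : X.IdealSheafData) (hY : _root_.IsConnected (𝓘.support : Set X)) :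
    IsLocalRing ↑(limit (Functor.ofOpSequence
        (X := fun m : ℕ => Γ((𝓘 ^ (m + 1)).subscheme, ⊤))
        (fun m : ℕ => (Scheme.IdealSheafData.inclusion (Lef.pow_succ_le 𝓘 m)).appTop))) ∧
      ∀ a : ↑(limit (Functor.ofOpSequence
        (X := fun m : ℕ => Γ((𝓘 ^ (m + 1)).subscheme, ⊤))
        (fun m : ℕ => (Scheme.IdealSheafData.inclusion (Lef.pow_succ_le 𝓘 m)).appTop))),
        ∃ c : k, ∀ m : ℕ, IsNilpotent (Sub.sub (α := ↑Γ((𝓘 ^ (m + 1)).subscheme, ⊤))
          ((limit.π (Functor.ofOpSequence
              (X := fun m : ℕ => Γ((𝓘 ^ (m + 1)).subscheme, ⊤))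
              (fun m : ℕ => (Scheme.IdealSheafData.inclusion (Lef.pow_succ_le 𝓘 m)).appTop)) (Opposite.op m)).hom a)
          (((𝓘 ^ (m + 1)).subschemeι ≫ (X ↘ Spec (CommRingCat.of k))).appTop.hom
            ((Scheme.ΓSpecIso (CommRingCat.of k)).inv.hom c))) := by
  set F := Functor.ofOpSequence
        (X := fun m : ℕ => Γ((𝓘 ^ (m + 1)).subscheme, ⊤))
        (fun m : ℕ => (Scheme.IdealSheafData.inclusion (Lef.pow_succ_le 𝓘 m)).appTop) with hF
  -- structure maps
  let f : ∀ m : ℕ, (𝓘 ^ (m + 1)).subscheme ⟶ Spec (CommRingCat.of k) :=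
    fun m => (𝓘 ^ (m + 1)).subschemeι ≫ (X ↘ Spec (CommRingCat.of k))
  let s : ∀ m : ℕ, k →+* Γ((𝓘 ^ (m + 1)).subscheme, ⊤) :=
    fun m => (f m).appTop.hom.comp (Scheme.ΓSpecIso (CommRingCat.of k)).inv.hom
  let τ : ∀ m : ℕ, Γ((𝓘 ^ (m + 1 + 1)).subscheme, ⊤) →+* Γ((𝓘 ^ (m + 1)).subscheme, ⊤) :=
    fun m => (Scheme.IdealSheafData.inclusion (Lef.pow_succ_le 𝓘 m)).appTop.hom
  have hτ : ∀ m c, τ m (s (m + 1) c) = s m c := by
    intro m c
    have h1 : Scheme.IdealSheafData.inclusion (Lef.pow_succ_le 𝓘 m) ≫ f (m + 1) = f m := by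
      simp only [f]
      rw [← Category.assoc, Scheme.IdealSheafData.inclusion_subschemeι]
    have h2 : (f (m + 1)).appTop ≫
        (Scheme.IdealSheafData.inclusion (Lef.pow_succ_le 𝓘 m)).appTop = (f m).appTop := by
      rw [← Scheme.Hom.comp_appTop, h1]
    have h3 := congrArg (fun g => g.hom ((Scheme.ΓSpecIso (CommRingCat.of k)).inv.hom c)) h2
    exact h3
  have hint : ∀ m, (s m).IsIntegral := by
    intro m
    have h1 : (f m).appTop.hom.IsIntegral := isIntegral_appTop_of_universallyClosed (f m)
    exact RingHom.IsIntegral.trans _ _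
      (RingHom.isIntegral_of_surjective _
        ((ConcreteCategory.bijective_of_isIso (Scheme.ΓSpecIso (CommRingCat.of k)).inv).2)) h1
  have hne : ∀ m, Nonempty ((𝓘 ^ (m + 1)).subscheme) := by
    intro m
    obtain ⟨x, hx⟩ := hY.nonempty
    have : x ∈ Set.range (𝓘 ^ (m + 1)).subschemeι := by
      rw [Scheme.IdealSheafData.range_subschemeι]
      exact hx
    obtain ⟨y, -⟩ := this
    exact ⟨y⟩
  have hnt : ∀ m, Nontrivial Γ((𝓘 ^ (m + 1)).subscheme, ⊤) := by
    intro m
    obtain ⟨y⟩ := hne m
    have : Nonempty (⊤ : (𝓘 ^ (m + 1)).subscheme.Opens) := ⟨⟨y, trivial⟩⟩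
    exact Scheme.component_nontrivial _ ⊤
  have hcomp : ∀ m, CompactSpace ((𝓘 ^ (m + 1)).subscheme) := by
    intro m
    exact (quasiCompact_iff_compactSpace (f m)).1 inferInstance
  have hconn : ∀ m, PreconnectedSpace ((𝓘 ^ (m + 1)).subscheme) := by
    intro m
    have hemb : Topology.IsEmbedding (𝓘 ^ (m + 1)).subschemeι :=
      (𝓘 ^ (m + 1)).subschemeι.isEmbedding
    have h1 : _root_.IsPreconnected (Set.range (𝓘 ^ (m + 1)).subschemeι) := by
      rw [Scheme.IdealSheafData.range_subschemeι]
      exact hY.isPreconnected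
    rw [← Set.image_univ, hemb.isInducing.isPreconnected_image] at h1
    exact ⟨h1⟩
  have hidem : ∀ m (e : Γ((𝓘 ^ (m + 1)).subscheme, ⊤)), IsIdempotentElem e → e = 0 ∨ e = 1 := by
    intro m e he
    have := hcomp m
    have := hconn m
    exact idem_trivial _ e he
  -- the limit
  let π : ∀ m : ℕ, ↑(limit F) →+* Γ((𝓘 ^ (m + 1)).subscheme, ⊤) :=
    fun m => (limit.π F (Opposite.op m)).hom
  have hπ : ∀ m x, τ m (π (m + 1) x) = π m x := by
    intro m x
    have h1 := limit.w F (homOfLE (Nat.le_add_right m 1)).op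
    rw [hF, Functor.ofOpSequence_map_homOfLE_succ] at h1
    have h2 := congrArg (fun g => g.hom x) h1
    exact h2
  have hext : ∀ x y : ↑(limit F), (∀ m, π m x = π m y) → x = y := by
    intro x y h
    apply Concrete.limit_ext F x y
    intro j
    exact h j.unop
  have hex : ∀ b : ∀ m, Γ((𝓘 ^ (m + 1)).subscheme, ⊤), (∀ m, τ m (b (m + 1)) = b m) →
      ∃ x : ↑(limit F), ∀ m, π m x = b m := by
    intro b hb
    let G := F ⋙ forget CommRingCat
    let tc : Cone G :=
      { pt := PUnit
        π := NatTrans.ofOpSequence (F := (Functor.const ℕᵒᵖ).obj PUnit) (G := G)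
          (fun m => ↾(fun _ => (b m : G.obj ⟨m⟩))) (by
            intro m
            ext ⟨⟩
            have h1 : F.map (homOfLE (Nat.le_add_right m 1)).op =
                (Scheme.IdealSheafData.inclusion (Lef.pow_succ_le 𝓘 m)).appTop :=
              Functor.ofOpSequence_map_homOfLE_succ _ m
            simp only [Functor.const_obj_obj, Functor.const_obj_map, G, Functor.comp_map, h1]
            exact (hb m).symm) }
    let hl := isLimitOfPreserves (forget CommRingCat) (limit.isLimit F)
    refine ⟨hl.lift tc PUnit.unit, fun m => ?_⟩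
    have := ConcreteCategory.congr_hom (hl.fac tc (Opposite.op m)) PUnit.unit
    exact this
  exact core k (fun m => Γ((𝓘 ^ (m + 1)).subscheme, ⊤)) s τ hτ hint hnt hidem (↑(limit F)) π hπ hext hex


/-- Let X be proper over an algebraically closed field k and 𝓘 a quasi-coherent ideal whose closed
subscheme Y is connected (and nonempty); let Y_m be the closed subscheme of 𝓘^{m+1} and A = lim_m
Γ(Y_m, O_{Y_m}) the ring of formal-regular functions along Y (global sections of the structure sheaf
of the formal completion), formed as the limit in commutative rings along the restriction maps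
Γ(Y_{m+1}, O) → Γ(Y_m, O). Then A is a local ring, and every element a of A differs from the image
of some constant c ∈ k by an element whose image in each Γ(Y_m, O_{Y_m}) is nilpotent (so the
residue field of A is k through the structure map). (The published statement also asserts that A is
a complete local ring; that clause is not included here.) -/
theorem result (k : Type u) [Field k] [IsAlgClosed k] (X : Scheme.{u})
    [X.Over (Spec (CommRingCat.of k))] [IsProper (X ↘ (Spec (CommRingCat.of k)))]
    (𝓘 : X.IdealSheafData) (hY : _root_.IsConnected (𝓘.support : Set X)) :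
    IsLocalRing ↑(limit (Functor.ofOpSequence
        (X := fun m : ℕ => Γ((𝓘 ^ (m + 1)).subscheme, ⊤))
        (fun m : ℕ => (Scheme.IdealSheafData.inclusion (Lef.pow_succ_le 𝓘 m)).appTop))) ∧
      ∀ a : ↑(limit (Functor.ofOpSequence
        (X := fun m : ℕ => Γ((𝓘 ^ (m + 1)).subscheme, ⊤))
        (fun m : ℕ => (Scheme.IdealSheafData.inclusion (Lef.pow_succ_le 𝓘 m)).appTop))),
        ∃ c : k, ∀ m : ℕ, IsNilpotent (Sub.sub (α := ↑Γ((𝓘 ^ (m + 1)).subscheme, ⊤))
          ((limit.π (Functor.ofOpSequence
              (X := fun m : ℕ => Γ((𝓘 ^ (m + 1)).subscheme, ⊤))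
              (fun m : ℕ => (Scheme.IdealSheafData.inclusion (Lef.pow_succ_le 𝓘 m)).appTop)) (Opposite.op m)).hom a)
          (((𝓘 ^ (m + 1)).subschemeι ≫ (X ↘ Spec (CommRingCat.of k))).appTop.hom
            ((Scheme.ΓSpecIso (CommRingCat.of k)).inv.hom c))) := by
  exact result' k X 𝓘 hY

end Groth.Agent.S11393
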