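import Groth.Statements.S11420
import Groth.Agent.Lib.AntiAffRigid18b
import Groth.Agent.Lib.AlgClosedGeom

set_option autoImplicit false
set_option maxHeartbeats 800000
universe u
open CategoryTheory MonoidalCategory CartesianMonoidalCategory MonObj GrpObj AlgebraicGeometry CategoryTheory.Limits
open AlgGrp

namespace Groth.Agent.S11420

open Groth.Agent.Lib.AntiAffRigid18

variable {k : Type u} [Field k] [IsAlgClosed k]

local notation "S" => Spec (CommRingCat.of k)

/-- a proper reduced connected scheme with a rational point is anti-affine. -/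
lemma bijective_of_proper (V : Over S) [IsProper V.hom] [IsReduced V.left] [ConnectedSpace V.left]
    (v₀ : 𝟙_ (Over S) ⟶ V) :
    Function.Bijective ((Scheme.ΓSpecIso (CommRingCat.of k)).inv ≫ V.hom.appTop).hom := by
  have h : IsIso V.hom.appTop :=
    Groth.Agent.Lib.StrongRigid34A.isIso_appTop_of_section V.hom v₀.left (Over.w v₀)
  exact (ConcreteCategory.isIso_iff_bijective _).mp inferInstance

/-- products with a connected group over an algebraically closed field are connected. -/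
lemma connected_tensor (G W : Over S) [LocallyOfFiniteType G.hom] [ConnectedSpace G.left]
    [ConnectedSpace W.left] : ConnectedSpace (G ⊗ W).left := by
  haveI : GeometricallyConnected G.hom :=
    Groth.Agent.Lib.AlgClosedGeom.geometricallyConnected_of_connectedSpace G.hom
  haveI : LocallyOfFinitePresentation G.hom :=
    LocallyOfFinitePresentation.iff_locallyOfFiniteType.mpr inferInstance
  haveI : Flat G.hom := inferInstance
  haveI : UniversallyOpen G.hom := inferInstance
  exact inferInstanceAs (ConnectedSpace ↑(pullback G.hom W.hom))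

lemma lft_tensor (G W : Over S) [LocallyOfFiniteType G.hom] [LocallyOfFiniteType W.hom] :
    LocallyOfFiniteType (G ⊗ W).hom := by
  rw [Over.tensorObj_hom]
  infer_instance

/-- `pr_X (g · (x, y))` does not depend on `y`. -/
theorem act_fst_eq (G X Y : Over S) [GrpObj G] [LocallyOfFiniteType G.hom] [QuasiCompact G.hom]
    [ConnectedSpace G.left] (a : AlgGrp.Action G (X ⊗ Y))
    (x₀ : 𝟙_ (Over S) ⟶ X) (y₀ : 𝟙_ (Over S) ⟶ Y)
    [LocallyOfFiniteType X.hom] [IsSeparated X.hom] [ConnectedSpace X.left]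
    [IsProper Y.hom] [IsReduced Y.left] [ConnectedSpace Y.left] :
    a.act ≫ fst X Y =
      (G ◁ fst X Y) ≫ (G ◁ lift (𝟙 X) (toUnit X ≫ y₀)) ≫ a.act ≫ fst X Y := by
  haveI := connected_tensor G X
  haveI := lft_tensor G X
  let θ : Y ⊗ (G ⊗ X) ⟶ G ⊗ (X ⊗ Y) :=
    lift (snd Y (G ⊗ X) ≫ fst G X) (lift (snd Y (G ⊗ X) ≫ snd G X) (fst Y (G ⊗ X)))
  let θ' : G ⊗ (X ⊗ Y) ⟶ Y ⊗ (G ⊗ X) :=
    lift (snd G (X ⊗ Y) ≫ snd X Y) (lift (fst G (X ⊗ Y)) (snd G (X ⊗ Y) ≫ fst X Y))
  have hθ : θ' ≫ θ = 𝟙 _ := by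
    apply CartesianMonoidalCategory.hom_ext
    · simp [θ, θ']
    · apply CartesianMonoidalCategory.hom_ext <;> simp [θ, θ']
  have h0 : (Y ◁ lift η[G] x₀) ≫ θ ≫ a.act ≫ fst X Y = toUnit _ ≫ x₀ := by
    have e : (Y ◁ lift η[G] x₀) ≫ θ =
        (fst Y (𝟙_ (Over S)) ≫ lift (toUnit Y ≫ x₀) (𝟙 Y)) ≫ (λ_ (X ⊗ Y)).inv ≫
          (η[G] ▷ (X ⊗ Y)) := by
      apply CartesianMonoidalCategory.hom_ext
      · simp only [θ, Category.assoc, lift_fst, whiskerLeft_snd_assoc, whiskerRight_fst,
          leftUnitor_inv_fst_assoc]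
        rw [← Category.assoc, ← Category.assoc]
        congr 1
        exact toUnit_unique _ _
      · apply CartesianMonoidalCategory.hom_ext
        · simp only [θ, Category.assoc, lift_snd, lift_fst, whiskerLeft_snd_assoc,
            whiskerRight_snd, leftUnitor_inv_snd, Category.comp_id]
          rw [toUnit_unique (snd Y (𝟙_ (Over S))) (fst Y (𝟙_ (Over S)) ≫ toUnit Y), Category.assoc]
        · simp [θ]
    rw [← Category.assoc, e]
    simp only [Category.assoc]
    rw [← Category.assoc (η[G] ▷ (X ⊗ Y)), a.one_act, Iso.inv_hom_id_assoc, lift_fst,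
      ← Category.assoc, toUnit_unique (fst Y (𝟙_ (Over S)) ≫ toUnit Y) (toUnit _)]
  have hrig := rigidity_const Y (G ⊗ X) X (bijective_of_proper Y y₀) y₀ (θ ≫ a.act ≫ fst X Y)
    (lift η[G] x₀) x₀ h0
  have e1 : θ' ≫ snd Y (G ⊗ X) = G ◁ fst X Y := by
    apply CartesianMonoidalCategory.hom_ext <;> simp [θ']
  have e2 : sec Y (G ⊗ X) y₀ ≫ θ = G ◁ lift (𝟙 X) (toUnit X ≫ y₀) := by
    unfold sec
    apply CartesianMonoidalCategory.hom_ext
    · simp [θ]
    · apply CartesianMonoidalCategory.hom_ext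
      · simp [θ]
      · simp only [θ, Category.assoc, lift_snd, lift_fst, whiskerLeft_snd_assoc]
        rw [← Category.assoc]
        congr 1
        exact toUnit_unique _ _
  calc a.act ≫ fst X Y = (θ' ≫ θ) ≫ a.act ≫ fst X Y := by rw [hθ, Category.id_comp]
    _ = θ' ≫ (θ ≫ a.act ≫ fst X Y) := by rw [Category.assoc]
    _ = θ' ≫ snd Y (G ⊗ X) ≫ sec Y (G ⊗ X) y₀ ≫ θ ≫ a.act ≫ fst X Y := by rw [← hrig]
    _ = _ := by rw [← Category.assoc, e1, ← Category.assoc (sec Y (G ⊗ X) y₀), e2]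

/-- `pr_Y (g · (x, y))` does not depend on `x`. -/
theorem act_snd_eq (G X Y : Over S) [GrpObj G] [LocallyOfFiniteType G.hom] [QuasiCompact G.hom]
    [ConnectedSpace G.left] (a : AlgGrp.Action G (X ⊗ Y))
    (x₀ : 𝟙_ (Over S) ⟶ X) (y₀ : 𝟙_ (Over S) ⟶ Y)
    [IsProper X.hom] [IsReduced X.left] [ConnectedSpace X.left]
    [LocallyOfFiniteType Y.hom] [IsSeparated Y.hom] [ConnectedSpace Y.left] :
    a.act ≫ snd X Y =
      (G ◁ snd X Y) ≫ (G ◁ lift (toUnit Y ≫ x₀) (𝟙 Y)) ≫ a.act ≫ snd X Y := by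
  haveI := connected_tensor G Y
  haveI := lft_tensor G Y
  let θ : X ⊗ (G ⊗ Y) ⟶ G ⊗ (X ⊗ Y) :=
    lift (snd X (G ⊗ Y) ≫ fst G Y) (lift (fst X (G ⊗ Y)) (snd X (G ⊗ Y) ≫ snd G Y))
  let θ' : G ⊗ (X ⊗ Y) ⟶ X ⊗ (G ⊗ Y) :=
    lift (snd G (X ⊗ Y) ≫ fst X Y) (lift (fst G (X ⊗ Y)) (snd G (X ⊗ Y) ≫ snd X Y))
  have hθ : θ' ≫ θ = 𝟙 _ := by
    apply CartesianMonoidalCategory.hom_ext
    · simp [θ, θ']
    · apply CartesianMonoidalCategory.hom_ext <;> simp [θ, θ']
  have h0 : (X ◁ lift η[G] y₀) ≫ θ ≫ a.act ≫ snd X Y = toUnit _ ≫ y₀ := by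
    have e : (X ◁ lift η[G] y₀) ≫ θ =
        (fst X (𝟙_ (Over S)) ≫ lift (𝟙 X) (toUnit X ≫ y₀)) ≫ (λ_ (X ⊗ Y)).inv ≫
          (η[G] ▷ (X ⊗ Y)) := by
      apply CartesianMonoidalCategory.hom_ext
      · simp only [θ, Category.assoc, lift_fst, whiskerLeft_snd_assoc, whiskerRight_fst,
          leftUnitor_inv_fst_assoc]
        rw [← Category.assoc, ← Category.assoc]
        congr 1
        exact toUnit_unique _ _
      · apply CartesianMonoidalCategory.hom_ext
        · simp [θ]
        · simp only [θ, Category.assoc, lift_snd, lift_fst, whiskerLeft_snd_assoc,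
            whiskerRight_snd, leftUnitor_inv_snd, Category.comp_id]
          rw [toUnit_unique (snd X (𝟙_ (Over S))) (fst X (𝟙_ (Over S)) ≫ toUnit X), Category.assoc]
    rw [← Category.assoc, e]
    simp only [Category.assoc]
    rw [← Category.assoc (η[G] ▷ (X ⊗ Y)), a.one_act, Iso.inv_hom_id_assoc, lift_snd,
      ← Category.assoc, toUnit_unique (fst X (𝟙_ (Over S)) ≫ toUnit X) (toUnit _)]
  have hrig := rigidity_const X (G ⊗ Y) Y (bijective_of_proper X x₀) x₀ (θ ≫ a.act ≫ snd X Y)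
    (lift η[G] y₀) y₀ h0
  have e1 : θ' ≫ snd X (G ⊗ Y) = G ◁ snd X Y := by
    apply CartesianMonoidalCategory.hom_ext <;> simp [θ']
  have e2 : sec X (G ⊗ Y) x₀ ≫ θ = G ◁ lift (toUnit Y ≫ x₀) (𝟙 Y) := by
    unfold sec
    apply CartesianMonoidalCategory.hom_ext
    · simp [θ]
    · apply CartesianMonoidalCategory.hom_ext
      · simp only [θ, Category.assoc, lift_snd, lift_fst, whiskerLeft_snd_assoc]
        rw [← Category.assoc]
        congr 1
        exact toUnit_unique _ _
      · simp [θ]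
  calc a.act ≫ snd X Y = (θ' ≫ θ) ≫ a.act ≫ snd X Y := by rw [hθ, Category.id_comp]
    _ = θ' ≫ (θ ≫ a.act ≫ snd X Y) := by rw [Category.assoc]
    _ = θ' ≫ snd X (G ⊗ Y) ≫ sec X (G ⊗ Y) x₀ ≫ θ ≫ a.act ≫ snd X Y := by rw [← hrig]
    _ = _ := by rw [← Category.assoc, e1, ← Category.assoc (sec X (G ⊗ Y) x₀), e2]

lemma action_ext {G W : Over S} [GrpObj G] (b b' : AlgGrp.Action G W) (h : b.act = b'.act) :
    b = b' := by
  cases b; cases b'
  simp only at h
  subst h
  rfl

/-- the induced action on the first factor. -/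
noncomputable def actFst (G X Y : Over S) [GrpObj G] (a : AlgGrp.Action G (X ⊗ Y))
    (jX : X ⟶ X ⊗ Y) (hj : jX ≫ fst X Y = 𝟙 X)
    (hK : a.act ≫ fst X Y = (G ◁ fst X Y) ≫ (G ◁ jX) ≫ a.act ≫ fst X Y) : AlgGrp.Action G X where
  act := (G ◁ jX) ≫ a.act ≫ fst X Y
  one_act := by
    rw [← Category.assoc, ← whisker_exchange, Category.assoc, ← Category.assoc (η[G] ▷ _),
      a.one_act, ← Category.assoc, leftUnitor_naturality, Category.assoc, hj,
      Category.comp_id]
  mul_act := by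
    have e : (μ[G] ▷ X) ≫ (G ◁ jX) ≫ a.act ≫ fst X Y =
        ((G ⊗ G) ◁ jX) ≫ (α_ G G (X ⊗ Y)).hom ≫ (G ◁ a.act) ≫ (G ◁ fst X Y) ≫ (G ◁ jX) ≫
          a.act ≫ fst X Y := by
      rw [← Category.assoc, ← whisker_exchange, Category.assoc, ← Category.assoc (μ[G] ▷ _),
        a.mul_act]
      simp only [Category.assoc]
      conv_lhs => rw [hK]
    rw [e, ← Category.assoc ((G ⊗ G) ◁ jX), associator_naturality_right]
    simp only [MonoidalCategory.whiskerLeft_comp, Category.assoc]

/-- the induced action on the second factor. -/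
noncomputable def actSnd (G X Y : Over S) [GrpObj G] (a : AlgGrp.Action G (X ⊗ Y))
    (jY : Y ⟶ X ⊗ Y) (hj : jY ≫ snd X Y = 𝟙 Y)
    (hK : a.act ≫ snd X Y = (G ◁ snd X Y) ≫ (G ◁ jY) ≫ a.act ≫ snd X Y) : AlgGrp.Action G Y where
  act := (G ◁ jY) ≫ a.act ≫ snd X Y
  one_act := by
    rw [← Category.assoc, ← whisker_exchange, Category.assoc, ← Category.assoc (η[G] ▷ _),
      a.one_act, ← Category.assoc, leftUnitor_naturality, Category.assoc, hj,
      Category.comp_id]
  mul_act := by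
    have e : (μ[G] ▷ Y) ≫ (G ◁ jY) ≫ a.act ≫ snd X Y =
        ((G ⊗ G) ◁ jY) ≫ (α_ G G (X ⊗ Y)).hom ≫ (G ◁ a.act) ≫ (G ◁ snd X Y) ≫ (G ◁ jY) ≫
          a.act ≫ snd X Y := by
      rw [← Category.assoc, ← whisker_exchange, Category.assoc, ← Category.assoc (μ[G] ▷ _),
        a.mul_act]
      simp only [Category.assoc]
      conv_lhs => rw [hK]
    rw [e, ← Category.assoc ((G ⊗ G) ◁ jY), associator_naturality_right]
    simp only [MonoidalCategory.whiskerLeft_comp, Category.assoc]

end Groth.Agent.S11420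

namespace Groth.Agent.S11420

/-- Over an algebraically closed field k, let X and Y be complete varieties (proper, integral, separated
k-schemes of finite type) and let a connected k-group scheme of finite type G act on X × Y. Then
there are unique actions of G on X and on Y such that the given action is the product action g·(x,
y) = (g·x, g·y). (This is the form, for actions of connected group schemes, of the identification of
the neutral component of the automorphism group scheme of X × Y with the product of those of X and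
Y; the representability of these group schemes is not asserted here.) -/
theorem result (k : Type u) [Field k] [IsAlgClosed k]
    (G X Y : Over (Spec (CommRingCat.of k))) [GrpObj G] [LocallyOfFiniteType G.hom] [QuasiCompact G.hom] [ConnectedSpace ↥G.left]
    [IsProper X.hom] [IsIntegral X.left]
    [IsProper Y.hom] [IsIntegral Y.left]
    (a : AlgGrp.Action G (X ⊗ Y)) :
    ∃ (b : AlgGrp.Action G X) (c : AlgGrp.Action G Y),
      a.act = lift ((G ◁ fst X Y) ≫ b.act) ((G ◁ snd X Y) ≫ c.act) ∧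
      ∀ (b' : AlgGrp.Action G X) (c' : AlgGrp.Action G Y),
        a.act = lift ((G ◁ fst X Y) ≫ b'.act) ((G ◁ snd X Y) ≫ c'.act) → b' = b ∧ c' = c := by
  haveI : Nonempty X.left := inferInstance
  haveI : Nonempty Y.left := inferInstance
  obtain ⟨x₀⟩ := Groth.Agent.Lib.AntiAffRigid18.exists_rational_point X
  obtain ⟨y₀⟩ := Groth.Agent.Lib.AntiAffRigid18.exists_rational_point Y
  have KX := act_fst_eq G X Y a x₀ y₀
  have KY := act_snd_eq G X Y a x₀ y₀
  refine ⟨actFst G X Y a (lift (𝟙 X) (toUnit X ≫ y₀)) (lift_fst _ _) KX,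
    actSnd G X Y a (lift (toUnit Y ≫ x₀) (𝟙 Y)) (lift_snd _ _) KY, ?_, ?_⟩
  · apply CartesianMonoidalCategory.hom_ext
    · rw [lift_fst]; exact KX
    · rw [lift_snd]; exact KY
  · intro b' c' h
    have h1 : a.act ≫ fst X Y = (G ◁ fst X Y) ≫ b'.act := by rw [h, lift_fst]
    have h2 : a.act ≫ snd X Y = (G ◁ snd X Y) ≫ c'.act := by rw [h, lift_snd]
    constructor
    · apply action_ext
      show b'.act = (G ◁ lift (𝟙 X) (toUnit X ≫ y₀)) ≫ a.act ≫ fst X Y
      rw [h1, ← Category.assoc, ← MonoidalCategory.whiskerLeft_comp, lift_fst,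
        MonoidalCategory.whiskerLeft_id, Category.id_comp]
    · apply action_ext
      show c'.act = (G ◁ lift (toUnit Y ≫ x₀) (𝟙 Y)) ≫ a.act ≫ snd X Y
      rw [h2, ← Category.assoc, ← MonoidalCategory.whiskerLeft_comp, lift_snd,
        MonoidalCategory.whiskerLeft_id, Category.id_comp]

end Groth.Agent.S11420
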