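import Groth.Statements.S14578
import Groth.Agent.Lib.AntiAffRigid18b

set_option autoImplicit false
set_option maxHeartbeats 400000
universe u
open CategoryTheory MonoidalCategory CartesianMonoidalCategory MonObj GrpObj AlgebraicGeometry CategoryTheory.Limits
open AlgGrp

namespace Groth.Agent.S14578

/-- Let k be a field, H an anti-affine k-group scheme of finite type (its only global functions are the
constants), G a k-group scheme of finite type and f : H → G a morphism of k-schemes with f(e_H) =
e_G. Then f is a homomorphism. (The second assertion, that f factors through the centre of the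
neutral component of G, is not restated here.) -/
theorem result (k : Type u) [Field k]
    (H G : Over (Spec (CommRingCat.of k))) [GrpObj H] [GrpObj G] [LocallyOfFiniteType H.hom] [QuasiCompact H.hom]
    [LocallyOfFiniteType G.hom] [QuasiCompact G.hom]
    (hH : Function.Bijective ((Scheme.ΓSpecIso (CommRingCat.of k)).inv ≫ H.hom.appTop).hom) (f : H ⟶ G) (hf : η[H] ≫ f = η[G]) : IsMonHom f := by
  haveI := Groth.Agent.Lib.AntiAffRigid18.connectedSpace_of_bijective H hH
  have hsnd1 : ∀ A : Over (Spec (CommRingCat.of k)),
      CartesianMonoidalCategory.snd A (𝟙_ (Over (Spec (CommRingCat.of k)))) ≫ η[G] = 1 := by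
    intro A
    rw [Hom.one_def]
    congr 1
    exact toUnit_unique _ _
  have hφ : (μ[H] ≫ f) * ((CartesianMonoidalCategory.fst H H ≫ f) *
      (CartesianMonoidalCategory.snd H H ≫ f))⁻¹ = 1 := by
    refine Groth.Agent.Lib.AntiAffRigid18.eq_one_of_rigid H H G hH η[H] _ η[H] ?_ ?_
    · rw [MonObj.comp_mul, GrpObj.comp_inv, MonObj.comp_mul, MonObj.mul_one_assoc,
        whiskerLeft_fst_assoc, whiskerLeft_snd_assoc, hf, hsnd1, rightUnitor_hom]
      simp
    · have e1 : Groth.Agent.Lib.AntiAffRigid18.sec H H η[H] ≫ μ[H] = 𝟙 H := by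
        unfold Groth.Agent.Lib.AntiAffRigid18.sec
        rw [← Hom.mul_def, ← Hom.one_def, _root_.one_mul]
      have e2 : Groth.Agent.Lib.AntiAffRigid18.sec H H η[H] ≫ CartesianMonoidalCategory.fst H H ≫ f
          = 1 := by
        unfold Groth.Agent.Lib.AntiAffRigid18.sec
        rw [lift_fst_assoc, Category.assoc, hf, Hom.one_def]
      have e3 : Groth.Agent.Lib.AntiAffRigid18.sec H H η[H] ≫ CartesianMonoidalCategory.snd H H ≫ f
          = f := by
        rw [Groth.Agent.Lib.AntiAffRigid18.sec_snd_assoc]
      rw [MonObj.comp_mul, GrpObj.comp_inv, MonObj.comp_mul, ← Category.assoc, e1, Category.id_comp,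
        e2, e3]
      simp
  rw [mul_inv_eq_one] at hφ
  refine ⟨hf, ?_⟩
  rw [hφ, Hom.mul_def]
  congr 1

end Groth.Agent.S14578
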