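import Groth.Statements.S11421
import Groth.Agent.Lib.AntiAffRigid18b
import Groth.Agent.S14578

set_option autoImplicit false
set_option maxHeartbeats 800000
universe u
open CategoryTheory MonoidalCategory CartesianMonoidalCategory MonObj GrpObj AlgebraicGeometry CategoryTheory.Limits
open AlgGrp

namespace Groth.Agent.S11421

/-- Over an algebraically closed field k, let G be an algebraic group (smooth k-group scheme of finite
type) whose only global functions are the constants, H a connected algebraic group, S a connected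
k-scheme of finite type and f : G × S → H a morphism of k-schemes. Then there are a unique
k-morphism φ : S → H and a unique homomorphism ψ : G → H with f(g, s) = φ(s) · ψ(g) on points. (This
is the decomposition, over a connected base, behind the identification of the functor of morphisms
from G to H with H × Hom_gp(G, H); the published statement is the equivalence of representability of
that functor with anti-affineness of G, whose converse direction is not stated here.) -/
theorem result (k : Type u) [Field k] [IsAlgClosed k]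
    (G H S : Over (Spec (CommRingCat.of k))) [GrpObj G] [Smooth G.hom] [QuasiCompact G.hom]
    (hG : Function.Bijective ((Scheme.ΓSpecIso (CommRingCat.of k)).inv ≫ G.hom.appTop).hom)
    [GrpObj H] [Smooth H.hom] [QuasiCompact H.hom] [ConnectedSpace ↥H.left]
    [LocallyOfFiniteType S.hom] [QuasiCompact S.hom] [ConnectedSpace ↥S.left]
    (f : G ⊗ S ⟶ H) :
    ∃ (φ : S ⟶ H) (ψ : G ⟶ H), IsMonHom ψ ∧ f = (snd G S ≫ φ) * (fst G S ≫ ψ) ∧
      ∀ (φ' : S ⟶ H) (ψ' : G ⟶ H), IsMonHom ψ' → f = (snd G S ≫ φ') * (fst G S ≫ ψ') → φ' = φ ∧ ψ' = ψ := by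
  haveI : Nonempty S.left := inferInstance
  obtain ⟨s₀⟩ := Groth.Agent.Lib.AntiAffRigid18.exists_rational_point S
  haveI : LocallyOfFiniteType G.hom := inferInstance
  haveI : LocallyOfFiniteType H.hom := inferInstance
  have hunit : ∀ A : Over (Spec (CommRingCat.of k)), toUnit A ≫ η[H] = 1 := fun A =>
    (Hom.one_def).symm
  -- the two restrictions of `f`
  set iS : S ⟶ G ⊗ S := Groth.Agent.Lib.AntiAffRigid18.sec G S η[G] with hiS
  set jG : G ⟶ G ⊗ S := lift (𝟙 G) (toUnit G ≫ s₀) with hjG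
  have hjG_fst : jG ≫ fst G S = 𝟙 G := lift_fst _ _
  have hiS_snd : iS ≫ snd G S = 𝟙 S := Groth.Agent.Lib.AntiAffRigid18.sec_snd G S η[G]
  have hiS_fst : iS ≫ fst G S = toUnit S ≫ η[G] := by
    rw [hiS]; unfold Groth.Agent.Lib.AntiAffRigid18.sec; rw [lift_fst]
  set φ : S ⟶ H := iS ≫ f with hφ
  set ψ : G ⟶ H := (toUnit G ≫ s₀ ≫ φ)⁻¹ * (jG ≫ f) with hψ
  -- `ψ` is pointed
  have hpt : η[G] ≫ jG = s₀ ≫ iS := by
    rw [hjG, hiS]
    unfold Groth.Agent.Lib.AntiAffRigid18.sec
    apply CartesianMonoidalCategory.hom_ext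
    · simp only [Category.assoc, lift_fst, Category.comp_id]
      rw [← Category.assoc, toUnit_unique (s₀ ≫ toUnit S) (𝟙 _), Category.id_comp]
    · simp only [Category.assoc, lift_snd, Category.comp_id]
      rw [← Category.assoc, toUnit_unique (η[G] ≫ toUnit G) (𝟙 _), Category.id_comp]
  have hψη : η[G] ≫ ψ = η[H] := by
    rw [hψ, MonObj.comp_mul, GrpObj.comp_inv, ← Category.assoc η[G], ← Category.assoc η[G],
      toUnit_unique (η[G] ≫ toUnit G) (𝟙 _), Category.id_comp, hpt, Category.assoc, ← hφ,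
      inv_mul_cancel, Hom.one_def, toUnit_unique (toUnit (𝟙_ (Over (Spec (CommRingCat.of k))))) (𝟙 _),
      Category.id_comp]
  haveI hmon : IsMonHom ψ := Groth.Agent.S14578.result k G H hG ψ hψη
  -- rigidity
  have hΨ : ((snd G S ≫ φ)⁻¹ * f) * (fst G S ≫ ψ)⁻¹ = 1 := by
    refine Groth.Agent.Lib.AntiAffRigid18.eq_one_of_rigid G S H hG η[G] _ s₀ ?_ ?_
    · have ea : fst G (𝟙_ (Over (Spec (CommRingCat.of k)))) ≫ toUnit G ≫ s₀ ≫ φ
          = snd G (𝟙_ (Over (Spec (CommRingCat.of k)))) ≫ s₀ ≫ φ := by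
        rw [← Category.assoc, toUnit_unique (fst G (𝟙_ _) ≫ toUnit G) (snd G (𝟙_ _))]
      have eb : fst G (𝟙_ (Over (Spec (CommRingCat.of k)))) ≫ jG = G ◁ s₀ := by
        rw [hjG]
        apply CartesianMonoidalCategory.hom_ext
        · simp
        · simp only [Category.assoc, lift_snd, whiskerLeft_snd]
          rw [← Category.assoc, toUnit_unique (fst G (𝟙_ _) ≫ toUnit G) (snd G (𝟙_ _))]
      have e1 : (G ◁ s₀) ≫ fst G S ≫ ψ = ((G ◁ s₀) ≫ snd G S ≫ φ)⁻¹ * ((G ◁ s₀) ≫ f) := by
        rw [hψ, whiskerLeft_fst_assoc, MonObj.comp_mul, GrpObj.comp_inv, whiskerLeft_snd_assoc,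
          ea, ← Category.assoc _ jG f, eb]
      rw [MonObj.comp_mul, MonObj.comp_mul, GrpObj.comp_inv, GrpObj.comp_inv, e1, mul_inv_cancel]
    · rw [← hiS, MonObj.comp_mul, MonObj.comp_mul, GrpObj.comp_inv, GrpObj.comp_inv,
        ← Category.assoc iS, hiS_snd, Category.id_comp, ← hφ, inv_mul_cancel, _root_.one_mul,
        ← Category.assoc iS, hiS_fst, Category.assoc, hψη, hunit, inv_one]
  have hf : f = (snd G S ≫ φ) * (fst G S ≫ ψ) := by
    rw [mul_inv_eq_one] at hΨ
    rw [← hΨ, mul_inv_cancel_left]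
  refine ⟨φ, ψ, hmon, hf, ?_⟩
  intro φ' ψ' hψ' hf'
  have hφ' : φ' = φ := by
    have h1 : φ = iS ≫ ((snd G S ≫ φ') * (fst G S ≫ ψ')) := by rw [← hf']
    rw [MonObj.comp_mul, ← Category.assoc, hiS_snd, Category.id_comp, ← Category.assoc, hiS_fst,
      Category.assoc, IsMonHom.one_hom, hunit, _root_.mul_one] at h1
    exact h1.symm
  refine ⟨hφ', ?_⟩
  subst hφ'
  have h2 : fst G S ≫ ψ' = fst G S ≫ ψ := by
    have := hf'.symm.trans hf
    exact mul_left_cancel this
  have h3 := congrArg (fun t => jG ≫ t) h2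
  simp only [← Category.assoc, hjG_fst, Category.id_comp] at h3
  exact h3

end Groth.Agent.S11421
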