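import Groth.Statements.S11404
import Groth.Agent.S11421
import Groth.Agent.S11420
import Groth.Agent.Lib.H69SchReduced

set_option autoImplicit false
set_option maxHeartbeats 800000
universe u
open CategoryTheory MonoidalCategory CartesianMonoidalCategory MonObj GrpObj AlgebraicGeometry CategoryTheory.Limits
open AlgGrp

namespace Groth.Agent.S11404

/-- composing two decomposed endomorphisms over `S`. -/
theorem comp_decomp (k : Type u) [Field k]
    (A S : Over (Spec (CommRingCat.of k))) [GrpObj A]
    (f₁ f₂ : A ⊗ S ⟶ A ⊗ S) (hf₁ : f₁ ≫ snd A S = snd A S)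
    (g₁ g₂ : S ⟶ A) (h₁ h₂ : A ⟶ A) [IsMonHom h₂]
    (e₁ : f₁ ≫ fst A S = (snd A S ≫ g₁) * (fst A S ≫ h₁))
    (e₂ : f₂ ≫ fst A S = (snd A S ≫ g₂) * (fst A S ≫ h₂)) :
    (f₁ ≫ f₂) ≫ fst A S = (snd A S ≫ (g₂ * (g₁ ≫ h₂))) * (fst A S ≫ (h₁ ≫ h₂)) := by
  rw [Category.assoc, e₂, MonObj.comp_mul, ← Category.assoc f₁, hf₁, ← Category.assoc f₁, e₁,
    MonObj.mul_comp, MonObj.comp_mul, Category.assoc, Category.assoc, _root_.mul_assoc]

end Groth.Agent.S11404

namespace Groth.Agent.S11404

/-- Over an algebraically closed field k, let A be an abelian variety (a proper, smooth, connected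
k-group scheme) and S a connected k-scheme of finite type. For every automorphism f of A × S over S
there are a unique k-morphism g : S → A and a unique group automorphism h of A with f(a, s) = (g(s)
· h(a), s) on points. (This is the functor-of-points form, over a connected base, of the
identification of the automorphism group scheme of A with the semidirect product of A, acting by
translations, and the constant group of group automorphisms; in particular the neutral component is
A.) -/
theorem result (k : Type u) [Field k] [IsAlgClosed k]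
    (A S : Over (Spec (CommRingCat.of k))) [GrpObj A] [IsProper A.hom] [Smooth A.hom] [ConnectedSpace ↥A.left]
    [LocallyOfFiniteType S.hom] [QuasiCompact S.hom] [ConnectedSpace ↥S.left]
    (f : A ⊗ S ≅ A ⊗ S) (hf : f.hom ≫ snd A S = snd A S) :
    ∃ (g : S ⟶ A) (h : A ⟶ A), IsMonHom h ∧ IsIso h ∧
      f.hom ≫ fst A S = (snd A S ≫ g) * (fst A S ≫ h) ∧
      ∀ (g' : S ⟶ A) (h' : A ⟶ A), IsMonHom h' →
        f.hom ≫ fst A S = (snd A S ≫ g') * (fst A S ≫ h') → g' = g ∧ h' = h := by
  haveI : IsReduced A.left := Groth.Agent.Lib.H69SchReduced.isReduced_of_smooth A.hom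
  have hA : Function.Bijective ((Scheme.ΓSpecIso (CommRingCat.of k)).inv ≫ A.hom.appTop).hom :=
    Groth.Agent.S11420.bijective_of_proper A η[A]
  haveI : QuasiCompact A.hom := inferInstance
  have hf' : f.inv ≫ snd A S = snd A S := by rw [Iso.inv_comp_eq, hf]
  obtain ⟨g, h, hh, hdec, huniq⟩ := Groth.Agent.S11421.result k A A S hA (f.hom ≫ fst A S)
  obtain ⟨g', h', hh', hdec', -⟩ := Groth.Agent.S11421.result k A A S hA (f.inv ≫ fst A S)
  obtain ⟨g0, h0, hh0, -, huniq0⟩ := Groth.Agent.S11421.result k A A S hA (fst A S)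
  have htriv : fst A S = (snd A S ≫ (1 : S ⟶ A)) * (fst A S ≫ 𝟙 A) := by
    rw [MonObj.comp_one, _root_.one_mul, Category.comp_id]
  have key1 := comp_decomp k A S f.hom f.inv hf g g' h h' hdec hdec'
  have key2 := comp_decomp k A S f.inv f.hom hf' g' g h' h hdec' hdec
  rw [Iso.hom_inv_id, Category.id_comp] at key1
  rw [Iso.inv_hom_id, Category.id_comp] at key2
  have t0 := (huniq0 1 (𝟙 A) inferInstance htriv).2
  have t1 := (huniq0 _ (h ≫ h') inferInstance key1).2
  have t2 := (huniq0 _ (h' ≫ h) inferInstance key2).2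
  refine ⟨g, h, hh, ⟨h', t1.trans t0.symm, t2.trans t0.symm⟩, hdec, huniq⟩

end Groth.Agent.S11404
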