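import Groth.Statements.S11406
-- import your own Groth.Agent.* helpers here

set_option autoImplicit false
universe u
open CategoryTheory MonoidalCategory CartesianMonoidalCategory MonObj GrpObj AlgebraicGeometry CategoryTheory.Limits
open AlgGrp

namespace Groth.Agent.S11406

/-- Over an algebraically closed field k, let G be an algebraic group (smooth k-group scheme of finite
type) whose only global functions are the constants, let H be a connected algebraic group, let i : N
→ H be the largest connected affine normal algebraic subgroup H_aff of H (a homomorphism and closed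
immersion from a smooth, connected, affine k-group scheme, normal in H, through which every other
such subgroup factors), and let α : H → A be a flat surjective homomorphism with kernel i onto a
proper smooth k-group scheme A (so A = H/H_aff). If two morphisms of k-schemes f, f′ : G → H both
send e_G to e_H and have the same composite with α, then f = f′. (The published assertion is that
such a morphism f is determined by the homomorphism from G/G_aff to H/H_aff which it induces; two
such morphisms induce the same homomorphism exactly when their composites with α agree, because the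
quotient morphism of G is an epimorphism, so the assertion is stated in that form. The remaining
assertions, that f is a homomorphism and that its image is central, are not stated here.) -/
theorem result (k : Type u) [Field k] [IsAlgClosed k]
    (G H : Over (Spec (CommRingCat.of k))) [GrpObj G] [Smooth G.hom] [QuasiCompact G.hom]
    (hG : Function.Bijective ((Scheme.ΓSpecIso (CommRingCat.of k)).inv ≫ G.hom.appTop).hom)
    [GrpObj H] [Smooth H.hom] [QuasiCompact H.hom] [ConnectedSpace ↥H.left]
    (N : Over (Spec (CommRingCat.of k))) [GrpObj N] (i : N ⟶ H) [IsMonHom i] [IsClosedImmersion i.left]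
    [Smooth N.hom] [ConnectedSpace ↥N.left] [IsAffine N.left] (hN : AlgGrp.IsNormalHom i)
    (hNmax : ∀ (N' : Over (Spec (CommRingCat.of k))) [GrpObj N'] (i' : N' ⟶ H) [IsMonHom i'] [IsClosedImmersion i'.left]
      [Smooth N'.hom] [ConnectedSpace ↥N'.left] [IsAffine N'.left], AlgGrp.IsNormalHom i' → ∃ g : N' ⟶ N, g ≫ i = i')
    (A : Over (Spec (CommRingCat.of k))) [GrpObj A] [IsProper A.hom] [Smooth A.hom] (α : H ⟶ A) [IsMonHom α]
    [Surjective α.left] [Flat α.left] (hker : AlgGrp.IsKernel i α)
    (f f' : G ⟶ H) (hf : η[G] ≫ f = η[H]) (hf' : η[G] ≫ f' = η[H]) (hα : f ≫ α = f' ≫ α) :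
    f = f' := by
  -- step 1: `f / f'` maps to `1` in `A`
  have hd : (f / f') ≫ α = toUnit G ≫ η[A] := by
    rw [GrpObj.div_comp, hα, div_self', Hom.one_def]
  -- step 2: factor through the kernel
  let d' : G ⟶ N := hker.lift (f / f') (toUnit G) hd
  have hd' : d' ≫ i = f / f' := hker.lift_fst _ _ _
  -- step 3: `d'` is constant, as `G` has only constant functions and `N` is affine
  have hiso : IsIso G.hom.appTop := by
    have h1 : IsIso ((Scheme.ΓSpecIso (CommRingCat.of k)).inv ≫ G.hom.appTop) :=
      (ConcreteCategory.isIso_iff_bijective _).mpr hG
    exact IsIso.of_isIso_comp_left (Scheme.ΓSpecIso (CommRingCat.of k)).inv G.hom.appTop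
  have hsec : η[G].left ≫ G.hom = 𝟙 _ := by
    have := Over.w η[G]
    simpa using this
  have hsec' : G.hom.appTop ≫ η[G].left.appTop = 𝟙 _ := by
    rw [← Scheme.Hom.comp_appTop, hsec]
    rfl
  have hsec'' : η[G].left.appTop ≫ G.hom.appTop = 𝟙 _ := by
    have : η[G].left.appTop = inv G.hom.appTop := IsIso.eq_inv_of_hom_inv_id hsec'
    rw [this, IsIso.inv_hom_id]
  have key : d' = toUnit G ≫ (η[G] ≫ d') := by
    apply Over.OverMorphism.ext
    apply ext_of_isAffine
    simp only [Over.comp_left, Scheme.Hom.comp_appTop]
    have htu : (toUnit G).left = G.hom := by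
      simp
    rw [htu, Category.assoc, hsec'', Category.comp_id]
  -- step 4: `η[G] ≫ d' = η[N]`
  have h4 : η[G] ≫ d' = η[N] := by
    apply hker.hom_ext
    · rw [Category.assoc, hd', GrpObj.comp_div, hf, hf', div_self', IsMonHom.one_hom,
        MonObj.one_eq_one]
    · exact toUnit_unique _ _
  -- step 5
  have h5 : f / f' = 1 := by
    rw [← hd', key, h4, Category.assoc, IsMonHom.one_hom, Hom.one_def]
  exact div_eq_one.mp h5

end Groth.Agent.S11406
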