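import Groth.Statements.S11418
import Groth.Prelude.Def_ChGrp

set_option autoImplicit false
set_option maxHeartbeats 400000
universe u
open CategoryTheory MonoidalCategory CartesianMonoidalCategory MonObj GrpObj AlgebraicGeometry CategoryTheory.Limits
open AlgGrp

namespace Groth.Agent.S11418

/-- Over an algebraically closed field k, let G be an affine algebraic group (smooth affine k-group
scheme of finite type) and π : X → Y a principal G-bundle of k-schemes of finite type: G acts on X,
π is G-invariant, faithfully flat, and the square formed by the action, the second projection G × X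
→ X and π is cartesian. Then the map θ sending a G-equivariant morphism f : X → G (for the
conjugation action on G, i.e. f(g·x) = g f(x) g⁻¹ on points) to the automorphism x ↦ f(x)·x is a
bijection onto the bundle automorphisms: every G-equivariant automorphism φ of X with π ∘ φ = π
equals θ(f) for exactly one such f. -/
theorem result (k : Type u) [Field k] [IsAlgClosed k]
    (G X Y : Over (Spec (CommRingCat.of k))) [GrpObj G] [Smooth G.hom] [QuasiCompact G.hom] [IsAffine G.left]
    [LocallyOfFiniteType X.hom] [QuasiCompact X.hom] [LocallyOfFiniteType Y.hom] [QuasiCompact Y.hom]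
    (a : AlgGrp.Action G X) (π : X ⟶ Y) (hinv : a.act ≫ π = snd G X ≫ π) [Flat π.left] [Surjective π.left]
    (hcart : IsPullback (snd G X) a.act π π)
    (φ : X ≅ X) (hφ : φ.hom ≫ π = π) (hφeq : (G ◁ φ.hom) ≫ a.act = a.act ≫ φ.hom) :
    ∃! f : X ⟶ G, (∀ (S : Over (Spec (CommRingCat.of k))) (g : S ⟶ G) (x : S ⟶ X),
        lift g x ≫ a.act ≫ f = g * (x ≫ f) * g⁻¹) ∧ φ.hom = lift f (𝟙 X) ≫ a.act := by
  have hw0 : 𝟙 X ≫ π = φ.hom ≫ π := by rw [Category.id_comp, hφ]
  obtain ⟨w, hw1, hw2⟩ : ∃ w : X ⟶ G ⊗ X, w ≫ snd G X = 𝟙 X ∧ w ≫ a.act = φ.hom :=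
    ⟨hcart.lift (𝟙 X) φ.hom hw0, hcart.lift_fst _ _ _, hcart.lift_snd _ _ _⟩
  obtain ⟨f, hf⟩ : ∃ f : X ⟶ G, f = w ≫ fst G X := ⟨_, rfl⟩
  have hwf : w = lift f (𝟙 X) := by
    apply CartesianMonoidalCategory.hom_ext
    · rw [lift_fst, hf]
    · rw [lift_snd, hw1]
  have hφf : φ.hom = lift f (𝟙 X) ≫ a.act := by rw [← hwf, hw2]
  -- freeness
  have hfree : ∀ ⦃S : Over (Spec (CommRingCat.of k))⦄ (c c' : S ⟶ G) (y : S ⟶ X),
      lift c y ≫ a.act = lift c' y ≫ a.act → c = c' := by
    intro S c c' y h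
    have h2 : lift c y = lift c' y := by
      apply hcart.hom_ext
      · rw [lift_snd, lift_snd]
      · exact h
    have := congrArg (· ≫ fst G X) h2
    simpa using this
  -- `φ` on points
  have hφpt : ∀ ⦃S : Over (Spec (CommRingCat.of k))⦄ (y : S ⟶ X),
      y ≫ φ.hom = lift (y ≫ f) y ≫ a.act := by
    intro S y
    rw [hφf, ← Category.assoc, comp_lift, Category.comp_id]
  refine ⟨f, ⟨?_, hφf⟩, ?_⟩
  · intro S g x
    rw [← Category.assoc]
    obtain ⟨y, hy⟩ : ∃ y : S ⟶ X, y = lift g x ≫ a.act := ⟨_, rfl⟩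
    rw [← hy]
    apply hfree _ _ y
    rw [← hφpt y, hy, Category.assoc, ← hφeq, lift_whiskerLeft_assoc, hφpt x,
      ← AlgGrp.Action.lift_mul_act, ← AlgGrp.Action.lift_mul_act, inv_mul_cancel_right]
  · rintro f' ⟨-, hf'⟩
    have h2 : lift f' (𝟙 X) = w := by
      apply hcart.hom_ext
      · rw [lift_snd, hw1]
      · rw [← hf', hw2]
    rw [hf, ← h2, lift_fst]

end Groth.Agent.S11418
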