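import Groth.Statements.S11428
import Groth.Agent.Lib.ClosedAct45

set_option autoImplicit false
universe u
open CategoryTheory MonoidalCategory CartesianMonoidalCategory MonObj GrpObj AlgebraicGeometry Topology
open GIT

namespace Groth.Agent.S11428

/-- If (Y, φ) is a geometric quotient of X by G over S, then Y is separated over S exactly when the
action is separated, i.e. the image of (σ, p₂) : G ×_S X → X ×_S X is closed. -/
theorem result (S : Scheme.{u}) (G X Y : Over S) [GrpObj G]
    (a : AlgGrp.Action G X) (φ : X ⟶ Y) (h : GIT.IsGeomQuot a φ) :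
    IsSeparated Y.hom ↔ IsClosed (Set.range (GIT.psi a (𝟙 X)).left.base) := by
  have hrange := Groth.Agent.Lib.ClosedAct45.range_psi_eq a φ h.inv h.orbit (𝟙 X)
  have hΓ : IsPullback (lift (𝟙 X ≫ φ) (𝟙 X)).left φ.left (Y ◁ φ).left
      (lift (𝟙 Y) (𝟙 Y)).left := by
    refine IsPullback.of_right (h₁₂ := (snd Y X).left) (h₂₂ := (snd Y Y).left) (v₁₃ := φ.left)
      ?_ ?_ (Groth.Agent.Lib.ActOpen18.isPullback_whiskerLeft_snd Y φ).flip
    · have h1 : (lift (𝟙 X ≫ φ) (𝟙 X)).left ≫ (snd Y X).left = 𝟙 _ := by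
        rw [← Over.comp_left, lift_snd]; rfl
      have h2 : (lift (𝟙 Y) (𝟙 Y)).left ≫ (snd Y Y).left = 𝟙 _ := by
        rw [← Over.comp_left, lift_snd]; rfl
      rw [h1, h2]
      exact IsPullback.id_horiz φ.left
    · rw [← Over.comp_left, ← Over.comp_left]
      congr 1
      apply CartesianMonoidalCategory.hom_ext
      · rw [Category.assoc, whiskerLeft_fst, lift_fst, Category.assoc, lift_fst, Category.id_comp,
          Category.comp_id]
      · rw [Category.assoc, whiskerLeft_snd, lift_snd_assoc, Category.assoc, lift_snd,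
          Category.id_comp, Category.comp_id]
  have hΓr := Groth.Agent.Lib.ClosedAct45.range_fst_of_isPullback hΓ
  have hq1 : IsQuotientMap (φ ▷ X).left :=
    h.subm _ _ _ (Groth.Agent.Lib.SchDomProd45.isPullback_whiskerRight_fst X φ)
  have hq2 : IsQuotientMap (Y ◁ φ).left :=
    h.subm _ _ _ (Groth.Agent.Lib.ActOpen18.isPullback_whiskerLeft_snd Y φ)
  change _ ↔ IsClosed (Set.range (GIT.psi a (𝟙 X)).left)
  rw [hrange, hΓr, hq1.isClosed_preimage, hq2.isClosed_preimage]
  have hΔ : (lift (𝟙 Y) (𝟙 Y)).left = Limits.pullback.diagonal Y.hom := rfl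
  rw [hΔ]
  constructor
  · intro hs
    exact (Limits.pullback.diagonal Y.hom).isClosedEmbedding.isClosed_range
  · intro hc
    exact ⟨IsClosedImmersion.of_isPreimmersion _ hc⟩

end Groth.Agent.S11428
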