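import Groth.Statements.S11441
import Groth.Agent.Lib.ClosedAct45

set_option autoImplicit false
universe u
open CategoryTheory MonoidalCategory CartesianMonoidalCategory MonObj GrpObj AlgebraicGeometry Topology
open GIT

namespace Groth.Agent.S11441

/-- If a geometric quotient of X by G over S exists, then the action of G on X is closed (orbits of
geometric points are closed in the geometric fibres). -/
theorem result (S : Scheme.{u}) (G X Y : Over S) [GrpObj G]
    (a : AlgGrp.Action G X) (φ : X ⟶ Y) (h : GIT.IsGeomQuot a φ) : GIT.IsClosedAction a := by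
  intro Ω _ _ T eT f
  rw [Groth.Agent.Lib.ClosedAct45.range_psi_eq a φ h.inv h.orbit f]
  have hsub : Subsingleton T.left := eT.hom.homeomorph.injective.subsingleton
  have hs2 : (lift (f ≫ φ) (𝟙 T)).left ≫ (snd Y T).left = 𝟙 _ := by
    rw [← Over.comp_left, lift_snd]; rfl
  have hci : IsClosedImmersion (lift (f ≫ φ) (𝟙 T)).left :=
    isClosedImmersion_of_comp_eq_id (snd Y T).left _ hs2
  exact (lift (f ≫ φ) (𝟙 T)).left.isClosedEmbedding.isClosed_range.preimage
    (φ ▷ T).left.continuous

end Groth.Agent.S11441
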