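import Groth.Statements.S11445
import Groth.Agent.Lib.DescendMor45b
import Groth.Agent.Lib.GeomCatQuot45

set_option autoImplicit false
universe u
open CategoryTheory MonoidalCategory CartesianMonoidalCategory MonObj GrpObj AlgebraicGeometry Topology
open GIT

namespace Groth.Agent.S11445

/-- Let G act on X over S and let φ : X → Y over S satisfy (i) φ ∘ σ = φ ∘ p₂, (ii) O_Y is the sheaf of
invariant functions (each Γ(U, O_Y) → Γ(φ⁻¹U, O_X) injective with image the invariant sections),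
(iii) the image of every closed invariant subset of X is closed and φ(⋂ W_i) = ⋂ φ(W_i) for every
family of closed invariant subsets. Then (Y, φ) is a categorical quotient of X by G, and φ is
submersive. -/
theorem result (S : Scheme.{u}) (G X Y : Over S) [GrpObj G]
    (a : AlgGrp.Action G X) (φ : X ⟶ Y) (hi : GIT.IsInvariant a φ)
    (hii : ∀ U : Y.left.Opens,
      Function.Injective (φ.left.app U) ∧ Set.range (φ.left.app U) = {f | GIT.IsInvSection a φ U f})
    (hiii : ∀ W : Set X.left, IsClosed W → a.act.left.base '' ((snd G X).left.base ⁻¹' W) ⊆ W →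
      IsClosed (φ.left.base '' W))
    (hiii' : ∀ (J : Type u) (W : J → Set X.left),
      (∀ i, IsClosed (W i) ∧ a.act.left.base '' ((snd G X).left.base ⁻¹' W i) ⊆ W i) →
      φ.left.base '' (⋂ i, W i) = ⋂ i, φ.left.base '' W i) :
    GIT.IsCatQuot a φ ∧ IsQuotientMap φ.left.base := by
  classical
  -- invariance of preimages
  have hinvset : ∀ {Z : Over S} (ψ : X ⟶ Z), GIT.IsInvariant a ψ → ∀ T : Set Z.left,
      a.act.left.base '' ((snd G X).left.base ⁻¹' (ψ.left ⁻¹' T)) ⊆ ψ.left ⁻¹' T := by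
    rintro Z ψ hψ T _ ⟨p, hp, rfl⟩
    change ψ.left (a.act.left p) ∈ T
    have h1 : ψ.left ((snd G X).left p) ∈ T := hp
    rw [← Scheme.Hom.comp_apply, ← hψ.left, Scheme.Hom.comp_apply] at h1
    exact h1
  -- surjectivity from the empty family
  have hsurj : Function.Surjective φ.left := by
    have h0 := hiii' PEmpty.{u+1} (fun i => i.elim) (fun i => i.elim)
    rw [Set.iInter_of_empty, Set.iInter_of_empty, Set.image_univ] at h0
    exact Set.range_eq_univ.mp h0
  have hS : Surjective φ.left := ⟨hsurj⟩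
  have hepi : Epi φ.left := Groth.Agent.S2913.result φ.left (fun U => (hii U).1)
  -- quotient map
  have hq : IsQuotientMap φ.left := by
    rw [isQuotientMap_iff_isClosed]
    refine ⟨hsurj, fun C => ⟨fun hC => hC.preimage φ.left.continuous, fun hC => ?_⟩⟩
    have hcl : IsClosed (φ.left '' (φ.left ⁻¹' C)) := hiii _ hC (hinvset φ hi C)
    rwa [Set.image_preimage_eq C hsurj] at hcl
  refine ⟨⟨hi, fun Z ψ hψ => ?_⟩, hq⟩
  -- the cover
  let Wc : Z.left.affineOpens → Set X.left := fun V => ψ.left ⁻¹' (V.1 : Set Z.left)ᶜ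
  have hWc : ∀ V, IsClosed (Wc V) ∧ a.act.left.base '' ((snd G X).left.base ⁻¹' Wc V) ⊆ Wc V :=
    fun V => ⟨V.1.2.isClosed_compl.preimage ψ.left.continuous, hinvset ψ hψ _⟩
  have hint := hiii' Z.left.affineOpens Wc hWc
  have hempty : ⋂ V, Wc V = ∅ := by
    rw [Set.eq_empty_iff_forall_notMem]
    intro x hx
    obtain ⟨_, ⟨V, hV, rfl⟩, hxV, -⟩ :=
      Z.left.isBasis_affineOpens.exists_subset_of_mem_open (Set.mem_univ (ψ.left x)) isOpen_univ
    exact (Set.mem_iInter.mp hx ⟨V, hV⟩) hxV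
  rw [hempty, Set.image_empty] at hint
  let UW : Z.left.affineOpens → Y.left.Opens := fun V =>
    ⟨(φ.left '' Wc V)ᶜ, (hiii _ (hWc V).1 (hWc V).2).isOpen_compl⟩
  have hcover : TopologicalSpace.IsOpenCover UW := by
    rw [TopologicalSpace.IsOpenCover, eq_top_iff]
    intro y _
    rw [TopologicalSpace.Opens.mem_iSup]
    by_contra hcon
    have : y ∈ ⋂ V, φ.left '' Wc V := by
      rw [Set.mem_iInter]
      intro V
      by_contra hV
      exact hcon ⟨V, hV⟩
    rw [← hint] at this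
    exact this
  have hpre : ∀ V, φ.left ⁻¹ᵁ (UW V) ≤ ψ.left ⁻¹ᵁ V.1 := by
    intro V x hx
    by_contra hxV
    exact hx ⟨x, hxV, rfl⟩
  obtain ⟨χ, hχ⟩ := Groth.Agent.Lib.DescendMor45.exists_descend_of_cover φ.left ψ.left UW
    (fun V => V) hcover hpre hsurj (fun U => (hii U).1) (by
      intro V s
      have hr := (hii (UW V)).2
      have : (ψ.left.appLE V.1 (φ.left ⁻¹ᵁ UW V) (hpre V)).hom s ∈
          {f | GIT.IsInvSection a φ (UW V) f} := by
        change GIT.IsInvSection a φ (UW V) _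
        unfold GIT.IsInvSection
        have e1 : a.act.left ⁻¹ᵁ (φ.left ⁻¹ᵁ UW V) ⊓ (snd G X).left ⁻¹ᵁ (φ.left ⁻¹ᵁ UW V) ≤
            (a.act.left ≫ ψ.left) ⁻¹ᵁ V.1 := by
          intro p hp
          exact hpre V hp.1
        have e2 : a.act.left ⁻¹ᵁ (φ.left ⁻¹ᵁ UW V) ⊓ (snd G X).left ⁻¹ᵁ (φ.left ⁻¹ᵁ UW V) ≤
            ((snd G X).left ≫ ψ.left) ⁻¹ᵁ V.1 := by
          intro p hp
          exact hpre V hp.2
        have c1 : ψ.left.appLE V.1 (φ.left ⁻¹ᵁ UW V) (hpre V) ≫
            a.act.left.appLE (φ.left ⁻¹ᵁ UW V)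
            (a.act.left ⁻¹ᵁ (φ.left ⁻¹ᵁ UW V) ⊓ (snd G X).left ⁻¹ᵁ (φ.left ⁻¹ᵁ UW V))
              inf_le_left =
            (a.act.left ≫ ψ.left).appLE V.1 _ e1 := Scheme.Hom.appLE_comp_appLE _ _ _ _ _ _ _
        have c2 : ψ.left.appLE V.1 (φ.left ⁻¹ᵁ UW V) (hpre V) ≫
            (snd G X).left.appLE (φ.left ⁻¹ᵁ UW V)
            (a.act.left ⁻¹ᵁ (φ.left ⁻¹ᵁ UW V) ⊓ (snd G X).left ⁻¹ᵁ (φ.left ⁻¹ᵁ UW V))
              inf_le_right =
            ((snd G X).left ≫ ψ.left).appLE V.1 _ e2 := Scheme.Hom.appLE_comp_appLE _ _ _ _ _ _ _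
        have c3 := Groth.Agent.Lib.GeomCatQuot45.appLE_congr_hom hψ.left V.1 _ e1
        have l1 := congrArg (fun m => m.hom s) c1
        have l2 := congrArg (fun m => m.hom s) c2
        have l3 := congrArg (fun m => m.hom s) c3
        simp only [CommRingCat.hom_comp, RingHom.comp_apply] at l1 l2 l3
        rw [l1, l2, l3]
      rw [← hr] at this
      exact this)
  have hχ' : χ ≫ Z.hom = Y.hom := by
    rw [← cancel_epi φ.left, ← Category.assoc, hχ, Over.w, Over.w]
  refine ⟨Over.homMk χ hχ', Over.OverMorphism.ext hχ, fun χ' hχ'' => ?_⟩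
  apply Over.OverMorphism.ext
  rw [← cancel_epi φ.left]
  change φ.left ≫ χ'.left = φ.left ≫ χ
  rw [hχ, ← Over.comp_left, hχ'']

end Groth.Agent.S11445
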