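import Groth.Statements.S12205
import Groth.Agent.Lib.TorLES
import Groth.Agent.Lib.FlatCrit
import Mathlib.Algebra.Homology.ShortComplex.ModuleCat
import Mathlib.Tactic

set_option autoImplicit false
universe u
open CategoryTheory
open scoped TensorProduct
open CAlg

namespace Groth.Agent.S12205


section Bridge

open MonoidalCategory Limits Groth.Agent.Lib.TorLES

variable {R : Type u} [CommRing R]

/-- For a short exact sequence `0 → K → F → N → 0` with `F` flat, `Tor₁(N, M) = 0` iff
`K ⊗ M → F ⊗ M` is a monomorphism. -/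
lemma isZero_tor_one_iff {S : ShortComplex (ModuleCat.{u} R)} (hS : S.ShortExact)
    [Module.Flat R S.X₂] (M : ModuleCat.{u} R) :
    IsZero (((Tor (ModuleCat.{u} R) 1).obj S.X₃).obj M) ↔ Mono (S.f ▷ M) := by
  let P := ProjectiveResolution.of M
  have hnat := torZeroIso_hom_naturality S.f M
  have h4 : ((Tor (ModuleCat.{u} R) 0).map S.f).app M =
      (torZeroIso _ M).hom ≫ S.f ▷ M ≫ (torZeroIso _ M).inv := by
    rw [← Category.assoc, ← hnat, Category.assoc, Iso.hom_inv_id, Category.comp_id]
  have h5 : S.f ▷ M =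
      (torZeroIso _ M).inv ≫ ((Tor (ModuleCat.{u} R) 0).map S.f).app M ≫ (torZeroIso _ M).hom := by
    rw [hnat, Iso.inv_hom_id_assoc]
  constructor
  · intro hz
    have hm : Mono (((Tor (ModuleCat.{u} R) 0).map S.f).app M) :=
      (exact₁ P hS 0).mono_g (hz.eq_of_src _ _)
    rw [h5]
    infer_instance
  · intro hm2
    have hz : IsZero (((Tor (ModuleCat.{u} R) (0 + 1)).obj S.X₂).obj M) :=
      isZero_tor_succ_of_flat_left _ _ 0
    have hmono : Mono (δ P hS 0) := (exact₃ P hS 0).mono_g (hz.eq_of_src _ _)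
    have hm3 : Mono (((Tor (ModuleCat.{u} R) 0).map S.f).app M) := by
      rw [h4]
      infer_instance
    have hδ : δ P hS 0 = 0 := by
      rw [← cancel_mono (((Tor (ModuleCat.{u} R) 0).map S.f).app M), δ_comp, zero_comp]
    change IsZero (((Tor (ModuleCat.{u} R) (0 + 1)).obj S.X₃).obj M)
    rw [IsZero.iff_id_eq_zero, ← cancel_mono (δ P hS 0), hδ, comp_zero, comp_zero]

/-- Bridge between Mathlib's categorical `Tor₁` and the elementary predicate `Tor1Zero`. -/
lemma isZero_tor_one_iff_tor1Zero (N M : Type u) [AddCommGroup N] [Module R N]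
    [AddCommGroup M] [Module R M] :
    IsZero (((Tor (ModuleCat.{u} R) 1).obj (ModuleCat.of R N)).obj (ModuleCat.of R M)) ↔
      Groth.Agent.Lib.FlatCrit.Tor1Zero R N M := by
  have hS := projPres_shortExact (ModuleCat.of R N)
  have hF : Module.Flat R (projPres (ModuleCat.of R N)).X₂ := flat_of_projective _
  have h1 : IsZero (((Tor (ModuleCat.{u} R) 1).obj (ModuleCat.of R N)).obj (ModuleCat.of R M)) ↔
      Mono ((projPres (ModuleCat.of R N)).f ▷ (ModuleCat.of R M)) :=
    isZero_tor_one_iff hS (ModuleCat.of R M)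
  rw [h1, ModuleCat.mono_iff_injective]
  have h2 := Groth.Agent.Lib.FlatCrit.tor1Zero_iff_rTensor_injective (R := R) (N := N) (M := M)
    (j := (projPres (ModuleCat.of R N)).f.hom) (q := (projPres (ModuleCat.of R N)).g.hom)
    hS.moduleCat_injective_f
    ((ShortComplex.ShortExact.moduleCat_exact_iff_function_exact _).mp hS.exact)
    hS.moduleCat_surjective_g
  rw [h2]
  rfl

end Bridge

/-- Let I be an ideal of a commutative ring R and M an R-module such that M/IM is flat over R/I and
Tor_1^R(R/I, M) = 0. Then Tor_1^R(N, M) = 0 for every R-module N annihilated by I^m for some m ≥ 0.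
Here Tor_1^R(N, M) is the first left derived functor of N ⊗_R − evaluated at M. -/
theorem result (R : Type u) [CommRing R] (I : Ideal R) (M : Type u)
    [AddCommGroup M] [Module R M] [Module.Flat (R ⧸ I) ((R ⧸ I) ⊗[R] M)]
    (h : Limits.IsZero (((CategoryTheory.Tor (ModuleCat.{u} R) 1).obj (ModuleCat.of R (R ⧸ I))).obj (ModuleCat.of R M)))
    (N : Type u) [AddCommGroup N] [Module R N] (m : ℕ) (hN : ∀ a : R, a ∈ I ^ m → ∀ x : N, a • x = 0) :
    Limits.IsZero (((CategoryTheory.Tor (ModuleCat.{u} R) 1).obj (ModuleCat.of R N)).obj (ModuleCat.of R M)) := by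
  rw [isZero_tor_one_iff_tor1Zero] at h ⊢
  refine Groth.Agent.Lib.FlatCrit.tor1Zero_of_pow_smul_eq_bot I h m N ?_
  rw [eq_bot_iff, Submodule.smul_le]
  intro a ha x _
  rw [hN a ha x]
  exact zero_mem _

end Groth.Agent.S12205
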