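import Groth.Statements.S6313
import Groth.Agent.S12205
import Mathlib.Tactic

set_option autoImplicit false
universe u
open CategoryTheory
open CAlg

namespace Groth.Agent.S6313


open Groth.Agent.Lib.FlatCrit in
/-- Symmetry of the elementary `Tor₁`-vanishing predicate. -/
lemma tor1Zero_comm {R : Type u} [CommRing R] (N M : Type u) [AddCommGroup N] [Module R N]
    [AddCommGroup M] [Module R M] : Tor1Zero R N M ↔ Tor1Zero R M N := by
  rw [tor1Zero_iff_rTensor_injective (M := M) (Submodule.subtype_injective _) (pres_exact R N)
    (pres_surjective R N)]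
  exact (LinearMap.lTensor_inj_iff_rTensor_inj _ _).symm

/-- For a ring R and an R-module M, flatness of M over R is equivalent to the vanishing of Tor₁ᴿ(M, R/I)
for every finitely generated ideal I ⊆ R. -/
theorem result (R : Type u) [CommRing R] (M : Type u) [AddCommGroup M] [Module R M] : Module.Flat R M ↔ ∀ I : Ideal R, I.FG → Limits.IsZero (((CategoryTheory.Tor (ModuleCat.{u} R) 1).obj (ModuleCat.of R M)).obj (ModuleCat.of R (R ⧸ I))) := by
  rw [Module.Flat.iff_rTensor_injective]
  refine forall_congr' fun I => forall_congr' fun hI => ?_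
  rw [Groth.Agent.S12205.isZero_tor_one_iff_tor1Zero, tor1Zero_comm,
    Groth.Agent.Lib.FlatCrit.tor1Zero_quotient_iff]

end Groth.Agent.S6313
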