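import Groth.Statements.S11450
import Groth.Agent.S6313
import Mathlib.RingTheory.Ideal.AssociatedPrime.Finiteness
import Mathlib.Tactic

set_option autoImplicit false
universe u
open CategoryTheory
open DefT

namespace Groth.Agent.S11450


open Groth.Agent.Lib.FlatCrit in
/-- Over a Noetherian ring, `Tor₁(N, M) = 0` for all finite `N` as soon as it holds for the
`A ⧸ p`, `p` prime (prime filtration). -/
lemma tor1Zero_of_finite {A : Type u} [CommRing A] [IsNoetherianRing A] (M : Type u)
    [AddCommGroup M] [Module A M]
    (h : ∀ p : Ideal A, p.IsPrime → Tor1Zero A (A ⧸ p) M)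
    (N : Type u) [AddCommGroup N] [Module A N] [hN : Module.Finite A N] : Tor1Zero A N M := by
  induction hN using IsNoetherianRing.induction_on_isQuotientEquivQuotientPrime A with
  | subsingleton N => exact tor1Zero_of_subsingleton
  | quotient N p e =>
    refine tor1Zero_of_exact (f := (0 : PUnit.{u + 1} →ₗ[A] N)) (g := e.toLinearMap)
      (Function.injective_of_subsingleton _) ?_ e.surjective tor1Zero_of_subsingleton
      (h p.1 p.2)
    intro y
    constructor
    · intro hy
      exact ⟨0, ((LinearEquiv.map_eq_zero_iff e).mp hy).symm⟩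
    · rintro ⟨x, rfl⟩
      simp
  | exact N₁ N₂ N₃ f g hf hg hfg h₁ h₃ => exact tor1Zero_of_exact hf hfg hg h₁ h₃

/-- A module M over a Noetherian commutative ring A is flat if and only if Tor_1^A(M, A/p) vanishes for
every prime ideal p of A. -/
theorem result (A : Type u) [CommRing A]
    [IsNoetherianRing A] (M : Type u) [AddCommGroup M] [Module A M] :
    Module.Flat A M ↔ ∀ p : Ideal A, p.IsPrime →
      Limits.IsZero (((CategoryTheory.Tor (ModuleCat.{u} A) 1).obj (ModuleCat.of A M)).obj (ModuleCat.of A (A ⧸ p))) := by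
  constructor
  · intro hflat p _
    rw [Groth.Agent.S12205.isZero_tor_one_iff_tor1Zero]
    exact Groth.Agent.Lib.FlatCrit.tor1Zero_of_flat_left
  · intro h
    refine Groth.Agent.Lib.FlatCrit.flat_of_forall_tor1Zero fun I _ => ?_
    refine tor1Zero_of_finite M (fun p hp => ?_) (A ⧸ I)
    rw [Groth.Agent.S6313.tor1Zero_comm, ← Groth.Agent.S12205.isZero_tor_one_iff_tor1Zero]
    exact h p hp

end Groth.Agent.S11450
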