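import Mathlib
import Groth.Statements.S11452
import Groth.Agent.Lib.DefSchAff4
import Groth.Agent.Lib.H14SmoothReg

set_option autoImplicit false
universe u
open CategoryTheory AlgebraicGeometry
open DefT

namespace Groth.Agent.S11452

/-- Let k be an algebraically closed field, X an affine scheme of finite type over k whose local rings
are all regular, A a local Artin k-algebra with a k-algebra augmentation e : A → k, and g : X' →
Spec A a flat morphism whose fibre over the k-point Spec k → Spec A given by e is X (with its
structure map to Spec k). Then there is an isomorphism from X' to the trivial deformation X ×_{Spec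
k} Spec A compatible with the projections to Spec A. -/
theorem result (k : Type u) [Field k]
    [IsAlgClosed k] (X : Scheme.{u}) (hX : X ⟶ Spec (CommRingCat.of k)) [IsAffine X]
    [LocallyOfFiniteType hX] (hreg : ∀ x : X, IsRegularLocalRing (X.presheaf.stalk x))
    (A : Type u) [CommRing A] [IsLocalRing A] [IsArtinianRing A] [Algebra k A] (e : A →ₐ[k] k)
    (X' : Scheme.{u}) (g : X' ⟶ Spec (CommRingCat.of A)) [Flat g] (i : X ⟶ X')
    (hsq : IsPullback i hX g (Spec.map (CommRingCat.ofHom e.toRingHom))) :
    ∃ φ : X' ≅ Limits.pullback hX (Spec.map (CommRingCat.ofHom (algebraMap k A))),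
      φ.hom ≫ Limits.pullback.snd hX (Spec.map (CommRingCat.ofHom (algebraMap k A))) = g := by
  let _ : X.Over (Spec (CommRingCat.of k)) := ⟨hX⟩
  have hN : IsNoetherianRing Γ(Spec (CommRingCat.of k), ⊤) :=
    isNoetherianRing_of_ringEquiv k (Scheme.ΓSpecIso (CommRingCat.of k)).symm.commRingCatIsoToRingEquiv
  have hfp : LocallyOfFinitePresentation hX :=
    (HasRingHomProperty.iff_of_isAffine (P := @LocallyOfFinitePresentation)).mpr
      (RingHom.FinitePresentation.of_finiteType.mp
        ((HasRingHomProperty.iff_of_isAffine (P := @LocallyOfFiniteType)).mp inferInstance))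
  have hfp' : LocallyOfFinitePresentation (X ↘ Spec (CommRingCat.of k)) := hfp
  have hsm : Smooth hX := by
    rw [← Scheme.Hom.smoothLocus_eq_top_iff]
    apply top_unique
    intro x _
    exact (Groth.Agent.Lib.H14SmoothReg.mem_smoothLocus_iff_isRegularLocalRing k X x).mpr (hreg x)
  obtain ⟨φ, h1, -⟩ := Groth.Agent.Lib.DefSchAff.exists_iso_of_formallySmooth hX e g inferInstance i hsq
    (Groth.Agent.Lib.DefSchAff.formallySmooth_Γ_of_smooth hX)
  exact ⟨φ, h1⟩

end Groth.Agent.S11452
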