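import Groth.Statements.S11456
import Groth.Agent.Lib.ArtinSocle88
import Groth.Agent.Lib.ArtinianFlatten88

set_option autoImplicit false
universe u
open DefT

namespace Groth.Agent.S11456

section helpers

/-- Nilpotent Nakayama for ideals: `I ≤ K ⊔ 𝔫 * I` with `𝔫` nilpotent implies `I ≤ K`. -/
theorem le_of_le_sup_mul_of_isNilpotent {A : Type*} [CommRing A] (𝔫 I K : Ideal A)
    (h𝔫 : IsNilpotent 𝔫) (h : I ≤ K ⊔ 𝔫 * I) : I ≤ K := by
  obtain ⟨n, hn⟩ := h𝔫
  have key : ∀ i : ℕ, I ≤ K ⊔ 𝔫 ^ i * I := by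
    intro i
    induction i with
    | zero => simp
    | succ i ih =>
      calc I ≤ K ⊔ 𝔫 ^ i * I := ih
        _ ≤ K ⊔ 𝔫 ^ i * (K ⊔ 𝔫 * I) := sup_le_sup_left (Ideal.mul_mono_right h) _
        _ = K ⊔ (𝔫 ^ i * K ⊔ 𝔫 ^ i * (𝔫 * I)) := by rw [Ideal.mul_sup]
        _ ≤ K ⊔ 𝔫 ^ (i + 1) * I := by
          refine sup_le le_sup_left (sup_le ?_ ?_)
          · exact le_trans Ideal.mul_le_right le_sup_left
          · rw [← mul_assoc, ← pow_succ]
            exact le_sup_right
  have := key n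
  rwa [hn, Ideal.zero_eq_bot, Ideal.bot_mul, sup_bot_eq] at this

theorem core (C : Type u) [CommRing C]
    [IsLocalRing C] (hnil : IsNilpotent (IsLocalRing.maximalIdeal C))
    (𝔪 : Ideal C) (hmne : 𝔪 ≠ ⊤)
    (A : Type u) [CommRing A] [Algebra C A] [Module.Flat C A]
    (I : Ideal A) [Module.Flat C (A ⧸ I)] (r : ℕ)
    (b : Fin r → A ⧸ 𝔪.map (algebraMap C A))
    (hb : RingTheory.Sequence.IsRegular (A ⧸ 𝔪.map (algebraMap C A)) (List.ofFn b))
    (hI : I.map (Ideal.Quotient.mk (𝔪.map (algebraMap C A))) = Ideal.span (Set.range b)) :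
    ∃ a : Fin r → A, RingTheory.Sequence.IsRegular A (List.ofFn a) ∧ I = Ideal.span (Set.range a) := by
  -- lift the b i to elements of I
  have hlift : ∀ i, ∃ x ∈ I, Ideal.Quotient.mk (𝔪.map (algebraMap C A)) x = b i := by
    intro i
    have h1 : b i ∈ I.map (Ideal.Quotient.mk (𝔪.map (algebraMap C A))) := by
      rw [hI]
      exact Ideal.subset_span ⟨i, rfl⟩
    rwa [Ideal.mem_map_iff_of_surjective _ Ideal.Quotient.mk_surjective] at h1
  choose a haI hab using hlift
  have hmap : (⇑(Ideal.Quotient.mk (𝔪.map (algebraMap C A))) ∘ a) = b := funext hab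
  refine ⟨a, ?_, ?_⟩
  · rw [Groth.Agent.Lib.ArtinSocle88.isRegular_iff_quotient hnil 𝔪 hmne (List.ofFn a),
      List.map_ofFn, hmap]
    exact hb
  · have hKI : Ideal.span (Set.range a) ≤ I := by
      rw [Ideal.span_le]
      rintro _ ⟨i, rfl⟩
      exact haI i
    refine le_antisymm ?_ hKI
    -- nilpotence of 𝔫
    have h𝔫nil : IsNilpotent (𝔪.map (algebraMap C A)) := by
      obtain ⟨n, hn⟩ := hnil
      refine ⟨n, ?_⟩
      have h2 : 𝔪 ^ n ≤ ⊥ := by
        rw [← Ideal.zero_eq_bot, ← hn]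
        exact Ideal.pow_right_mono (IsLocalRing.le_maximalIdeal hmne) n
      rw [← Ideal.map_pow, Ideal.zero_eq_bot, eq_bot_iff]
      exact le_trans (Ideal.map_mono h2) (by rw [Ideal.map_bot])
    apply le_of_le_sup_mul_of_isNilpotent (𝔪.map (algebraMap C A)) I _ h𝔫nil
    intro x hx
    -- the image of x lies in the image of K
    have hKmap : (Ideal.span (Set.range a)).map (Ideal.Quotient.mk (𝔪.map (algebraMap C A))) =
        Ideal.span (Set.range b) := by
      rw [Ideal.map_span, ← Set.range_comp, hmap]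
    have h1 : Ideal.Quotient.mk (𝔪.map (algebraMap C A)) x ∈
        (Ideal.span (Set.range a)).map (Ideal.Quotient.mk (𝔪.map (algebraMap C A))) := by
      rw [hKmap, ← hI]
      exact Ideal.mem_map_of_mem _ hx
    rw [Ideal.mem_map_iff_of_surjective _ Ideal.Quotient.mk_surjective] at h1
    obtain ⟨y, hyK, hy⟩ := h1
    have hd𝔫 : x - y ∈ 𝔪.map (algebraMap C A) := by
      rw [← Ideal.Quotient.eq_zero_iff_mem, map_sub, hy, sub_self]
    have hdI : x - y ∈ I := I.sub_mem hx (hKI hyK)
    -- flatness: I ⊓ 𝔪 A ≤ 𝔪 I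
    let g : A →ₗ[C] (A ⧸ I) := (Submodule.mkQ I).restrictScalars C
    have hg : Function.Surjective g := Submodule.mkQ_surjective I
    have hker : ∀ z, z ∈ LinearMap.ker g ↔ z ∈ I := by
      intro z
      rw [LinearMap.mem_ker]
      show Submodule.mkQ I z = 0 ↔ _
      rw [Submodule.mkQ_apply, Submodule.Quotient.mk_eq_zero]
    have h2 := Groth.Agent.Lib.ArtinianFlatten88.ker_inf_smul_le g hg 𝔪
    have h3 : x - y ∈ (𝔪 • (⊤ : Submodule C A)) := by
      have := (Groth.Agent.Lib.ArtinSocle88.mem_map_smul_top_iff (S := A) (M := A) 𝔪 (x - y)).mp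
        (by rw [smul_eq_mul, Ideal.mul_top]; exact hd𝔫)
      exact this
    have h4 : x - y ∈ 𝔪 • LinearMap.ker g := h2 ⟨(hker _).mpr hdI, h3⟩
    have h5 : x - y ∈ 𝔪.map (algebraMap C A) * I := by
      refine Submodule.smul_induction_on h4 ?_ ?_
      · intro c hc z hz
        rw [Algebra.smul_def]
        exact Ideal.mul_mem_mul (Ideal.mem_map_of_mem _ hc) ((hker z).mp hz)
      · intro u v hu hv
        exact Ideal.add_mem _ hu hv
    have : x = y + (x - y) := by ring
    rw [this]
    exact Ideal.add_mem _ (Ideal.mem_sup_left hyK) (Ideal.mem_sup_right h5)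

end helpers

/-- Let C be a local Artin ring with maximal ideal m, A a flat C-algebra such that A₀ = A/mA is a
Cohen–Macaulay local ring, and I ⊆ A an ideal with A/I flat over C whose image in A₀ is generated by
a regular sequence b_1, …, b_r on A₀. Then I is generated by r elements a_1, …, a_r forming a
regular sequence on A (so the Koszul complex on the a_i resolves A/I). -/
theorem result (C : Type u) [CommRing C]
    [IsLocalRing C] [IsArtinianRing C] (A : Type u) [CommRing A] [Algebra C A] [Module.Flat C A]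
    [LocCoh.IsCohenMacaulayLocalRing (A ⧸ (IsLocalRing.maximalIdeal C).map (algebraMap C A))]
    (I : Ideal A) [Module.Flat C (A ⧸ I)] (r : ℕ)
    (b : Fin r → A ⧸ (IsLocalRing.maximalIdeal C).map (algebraMap C A))
    (hb : RingTheory.Sequence.IsRegular (A ⧸ (IsLocalRing.maximalIdeal C).map (algebraMap C A)) (List.ofFn b))
    (hI : I.map (Ideal.Quotient.mk ((IsLocalRing.maximalIdeal C).map (algebraMap C A))) = Ideal.span (Set.range b)) :
    ∃ a : Fin r → A, RingTheory.Sequence.IsRegular A (List.ofFn a) ∧ I = Ideal.span (Set.range a) := by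
  exact core C Groth.Agent.Lib.ArtinianFlat.isNilpotent_maximalIdeal (IsLocalRing.maximalIdeal C)
    (Ideal.IsPrime.ne_top inferInstance) A I r b hb hI

end Groth.Agent.S11456
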