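import Groth.Statements.S11458
import Groth.Agent.Lib.H26HBLift
import Groth.Agent.Lib.H26HBDeform
import Groth.Agent.Lib.H26LeftKer
import Groth.Agent.Lib.SmallExtGen18
import Groth.Agent.Lib.SmoothRegular
import Groth.Agent.Lib.CMAscent33

set_option autoImplicit false
universe u
open DefT

namespace Groth.Agent.S11458

/-- Let C be a local Artin ring with maximal ideal m, A a flat C-algebra of finite type whose special
fibre A₀ = A/mA is smooth over C/m, and I ⊆ A an ideal with A/I flat over C whose image I₀ in A₀ has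
height ≥ 2 at every prime containing it (A₀/I₀ of codimension 2) and is generated by the signed
maximal minors of an (r+1) × r matrix φ₀ over A₀ for which 0 → A₀^r → A₀^{r+1} → A₀ (matrix, then
minors) is exact. Then there is an (r+1) × r matrix φ over A whose signed maximal minors generate I
and for which 0 → A^r → A^{r+1} → A is exact, so that 0 → A^r → A^{r+1} → A → A/I → 0 is a
resolution. -/
theorem result (C : Type u) [CommRing C]
    [IsLocalRing C] [IsArtinianRing C] (A : Type u) [CommRing A] [Algebra C A] [Module.Flat C A]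
    [Algebra.FiniteType C A]
    [Algebra.Smooth (C ⧸ IsLocalRing.maximalIdeal C) (A ⧸ (IsLocalRing.maximalIdeal C).map (algebraMap C A))]
    (I : Ideal A) [Module.Flat C (A ⧸ I)]
    (hcodim : ∀ p : Ideal (A ⧸ (IsLocalRing.maximalIdeal C).map (algebraMap C A)), p.IsPrime →
      I.map (Ideal.Quotient.mk ((IsLocalRing.maximalIdeal C).map (algebraMap C A))) ≤ p → (2 : ℕ∞) ≤ p.height)
    (r : ℕ)
    (φ₀ : Matrix (Fin (r + 1)) (Fin r) (A ⧸ (IsLocalRing.maximalIdeal C).map (algebraMap C A)))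
    (h₀ : (Ideal.span (Set.range (fun i : Fin (r + 1) => (-1 : (A ⧸ (IsLocalRing.maximalIdeal C).map (algebraMap C A))) ^ (i : ℕ) * ((φ₀).submatrix i.succAbove id).det)) = I.map (Ideal.Quotient.mk ((IsLocalRing.maximalIdeal C).map (algebraMap C A))) ∧
        Function.Injective (φ₀).mulVecLin ∧
        LinearMap.range (φ₀).mulVecLin = LinearMap.ker (Fintype.linearCombination (A ⧸ (IsLocalRing.maximalIdeal C).map (algebraMap C A)) (fun i : Fin (r + 1) => (-1 : (A ⧸ (IsLocalRing.maximalIdeal C).map (algebraMap C A))) ^ (i : ℕ) * ((φ₀).submatrix i.succAbove id).det)))) :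
    ∃ φ : Matrix (Fin (r + 1)) (Fin r) A, (Ideal.span (Set.range (fun i : Fin (r + 1) => (-1 : A) ^ (i : ℕ) * ((φ).submatrix i.succAbove id).det)) = I ∧
        Function.Injective (φ).mulVecLin ∧
        LinearMap.range (φ).mulVecLin = LinearMap.ker (Fintype.linearCombination A (fun i : Fin (r + 1) => (-1 : A) ^ (i : ℕ) * ((φ).submatrix i.succAbove id).det))) := by
  classical
  have hnil : IsNilpotent (IsLocalRing.maximalIdeal C) :=
    Groth.Agent.Lib.ArtinianFlat.isNilpotent_maximalIdeal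
  obtain ⟨h₀1, h₀2, h₀3⟩ := h₀
  -- 1. generators
  have hlift : ∀ i, ∃ x ∈ I, Ideal.Quotient.mk ((IsLocalRing.maximalIdeal C).map (algebraMap C A)) x =
      Groth.Agent.Lib.H26HBSpread.sm φ₀ i := by
    intro i
    have : Groth.Agent.Lib.H26HBSpread.sm φ₀ i ∈
        I.map (Ideal.Quotient.mk ((IsLocalRing.maximalIdeal C).map (algebraMap C A))) := by
      rw [← h₀1]; exact Ideal.subset_span ⟨i, rfl⟩
    rwa [Ideal.mem_map_iff_of_surjective _ Ideal.Quotient.mk_surjective] at this
  choose f hfI hf using hlift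
  -- 2. `I = span f`
  have hflat : I ⊓ ((IsLocalRing.maximalIdeal C).map (algebraMap C A)) ≤
      ((IsLocalRing.maximalIdeal C).map (algebraMap C A)) * I := fun y hy =>
    Groth.Agent.Lib.SmallExtGen18.mem_mul_of_mem_inf (IsLocalRing.maximalIdeal C) A I hy.1 hy.2
  have hle : Ideal.span (Set.range f) ≤ I := by
    rw [Ideal.span_le]
    rintro _ ⟨i, rfl⟩
    exact hfI i
  have h1 : I ≤ Ideal.span (Set.range f) ⊔
      ((IsLocalRing.maximalIdeal C).map (algebraMap C A)) * I := by
    intro x hx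
    have hmk : Ideal.Quotient.mk ((IsLocalRing.maximalIdeal C).map (algebraMap C A)) x ∈
        Ideal.span (Set.range (Groth.Agent.Lib.H26HBSpread.sm φ₀)) := by
      rw [h₀1]; exact Ideal.mem_map_of_mem _ hx
    obtain ⟨c, hc⟩ := (Ideal.mem_span_range_iff_exists_fun).1 hmk
    choose c' hc' using fun i => Ideal.Quotient.mk_surjective (c i)
    have hs : ∑ i, c' i * f i ∈ Ideal.span (Set.range f) :=
      Ideal.sum_mem _ fun i _ => Ideal.mul_mem_left _ _ (Ideal.subset_span ⟨i, rfl⟩)
    have hdiff : x - ∑ i, c' i * f i ∈ ((IsLocalRing.maximalIdeal C).map (algebraMap C A)) * I := by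
      apply hflat
      refine ⟨I.sub_mem hx (hle hs), ?_⟩
      show _ ∈ (IsLocalRing.maximalIdeal C).map (algebraMap C A)
      rw [← Ideal.Quotient.eq_zero_iff_mem, map_sub, map_sum, ← hc]
      simp only [map_mul, hc', hf, sub_self]
    have : x = ∑ i, c' i * f i + (x - ∑ i, c' i * f i) := by ring
    rw [this]
    exact Submodule.add_mem_sup hs hdiff
  obtain ⟨N, hN⟩ := hnil
  have hMN : ((IsLocalRing.maximalIdeal C).map (algebraMap C A)) ^ N = ⊥ := by
    rw [← Ideal.map_pow, hN, Ideal.zero_eq_bot, Ideal.map_bot]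
  have hI : I = Ideal.span (Set.range f) :=
    le_antisymm (Groth.Agent.Lib.H26HBLift.le_of_le_sup_mul_of_pow_eq_bot _ I _ N hMN h1) hle
  have hnil : IsNilpotent (IsLocalRing.maximalIdeal C) := ⟨N, hN⟩
  -- 3. lift the relations
  have hrel : ∀ j, ∑ i, Ideal.Quotient.mk ((IsLocalRing.maximalIdeal C).map (algebraMap C A)) (f i) *
      φ₀ i j = 0 := by
    intro j
    simp only [hf]
    exact Groth.Agent.Lib.H26HBLift.sum_sm_mul φ₀ j
  obtain ⟨φ, hφmap, hφrel⟩ := Groth.Agent.Lib.H26HBDeform.exists_lift_relations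
    ((IsLocalRing.maximalIdeal C).map (algebraMap C A)) I hflat f hI φ₀ hrel
  -- 5. exactness
  obtain ⟨hinj, hrange, -⟩ := Groth.Agent.Lib.H26HBLift.lift_exact C hnil (IsLocalRing.maximalIdeal C)
    (Ideal.IsPrime.ne_top inferInstance) A r φ (by rw [hφmap]; exact ⟨h₀2, h₀3⟩)
  refine ⟨φ, ?_, hinj, hrange⟩
  -- the left kernel hypothesis
  letI : Field (C ⧸ IsLocalRing.maximalIdeal C) := Ideal.Quotient.field _
  haveI : IsRegularRing (A ⧸ (IsLocalRing.maximalIdeal C).map (algebraMap C A)) :=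
    Groth.Agent.Lib.SmoothRegular.isRegularRing_of_smooth (C ⧸ IsLocalRing.maximalIdeal C)
      (A ⧸ (IsLocalRing.maximalIdeal C).map (algebraMap C A))
  haveI : LocCoh.IsCohenMacaulayRing (A ⧸ (IsLocalRing.maximalIdeal C).map (algebraMap C A)) :=
    Groth.Agent.Lib.CMAscent33.isCohenMacaulayRing_of_isRegularRing _
  have HK : ∀ x : Fin (r + 1) → A,
      (∀ j, ∑ i, x i * φ i j ∈ (IsLocalRing.maximalIdeal C).map (algebraMap C A)) →
      ∃ c : A, ∀ i, x i - c * Groth.Agent.Lib.H26HBSpread.sm φ i ∈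
        (IsLocalRing.maximalIdeal C).map (algebraMap C A) := by
    apply Groth.Agent.Lib.H26HBDeform.hk_of_quotient _ φ
    apply Groth.Agent.Lib.H26LeftKer.exists_eq_mul_of_isCM
    intro q hq hle'
    rw [hφmap] at hle'
    refine hcodim q hq ?_
    rw [← h₀1]
    exact hle'
  have hg : ∀ i, Ideal.Quotient.mk ((IsLocalRing.maximalIdeal C).map (algebraMap C A))
      (Groth.Agent.Lib.H26HBSpread.sm φ i) = Groth.Agent.Lib.H26HBSpread.sm φ₀ i := by
    intro i
    rw [← Groth.Agent.Lib.H26HBSpread.sm_map, hφmap]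
  have hhM : ∀ i, f i - Groth.Agent.Lib.H26HBSpread.sm φ i ∈
      ((IsLocalRing.maximalIdeal C) ^ 1).map (algebraMap C A) := by
    intro i
    rw [pow_one, ← Ideal.Quotient.eq_zero_iff_mem, map_sub, hf, hg, sub_self]
  have hhφ : ∀ j, ∑ i, (f i - Groth.Agent.Lib.H26HBSpread.sm φ i) * φ i j = 0 := by
    intro j
    simp only [sub_mul, Finset.sum_sub_distrib, hφrel j,
      Groth.Agent.Lib.H26HBLift.sum_sm_mul φ j, sub_self]
  obtain ⟨c, hcM, hc⟩ := Groth.Agent.Lib.H26HBLift.lk_full hnil φ HK 1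
    (fun i => f i - Groth.Agent.Lib.H26HBSpread.sm φ i) hhM hhφ
  rw [pow_one] at hcM
  have hcnil : IsNilpotent c := Groth.Agent.Lib.ArtinSocle88.isNilpotent_of_mem_map hnil
    (IsLocalRing.maximalIdeal C) (Ideal.IsPrime.ne_top inferInstance) c hcM
  have hu : IsUnit (1 + c) := hcnil.isUnit_one_add
  have hc' : ∀ i, f i = (1 + c) * Groth.Agent.Lib.H26HBSpread.sm φ i := by
    intro i
    have := hc i
    linear_combination this
  have hfun : f = fun i => (1 + c) * Groth.Agent.Lib.H26HBSpread.sm φ i := funext hc'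
  rw [hI, hfun]
  exact (Groth.Agent.Lib.H26HBDeform.span_range_unit_mul (1 + c) hu _).symm

end Groth.Agent.S11458
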