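import Groth.Statements.S11459
import Groth.Agent.Lib.H26HBDeform
import Groth.Agent.Lib.H26LeftKer
import Groth.Agent.Lib.SmallExtGen18
import Groth.Agent.Lib.SmoothRegular
import Groth.Agent.Lib.CMAscent33

set_option autoImplicit false
universe u
open DefT

namespace Groth.Agent.S11459

/-- Let C' be a local Artin ring, J ⊊ C' a proper ideal annihilated by the maximal ideal, C = C'/J, A' a
flat C'-algebra of finite type with smooth special fibre, A = A'/JA', and φ an (r+1) × r matrix over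
A with 0 → A^r → A^{r+1} → A exact (matrix, then signed maximal minors f_i) A/(f_0, …, f_r) flat
over C, and every prime of A containing (f_0, …, f_r) of height ≥ 2 (codimension 2). Then any ideal
I' ⊆ A' such that A'/I' is flat over C' and the image of I' in A is (f_0, …, f_r) is generated by
the signed maximal minors of some matrix φ' over A' reducing to φ. -/
theorem result (C' : Type u) [CommRing C'] [IsLocalRing C'] [IsArtinianRing C'] (J : Ideal C')
    (hJ : IsLocalRing.maximalIdeal C' * J = ⊥) (hJne : J ≠ ⊤) (A' : Type u) [CommRing A'] [Algebra C' A'] [Module.Flat C' A']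
    [Algebra.FiniteType C' A']
    [Algebra.Smooth (C' ⧸ IsLocalRing.maximalIdeal C') (A' ⧸ (IsLocalRing.maximalIdeal C').map (algebraMap C' A'))]
    (r : ℕ) (φ : Matrix (Fin (r + 1)) (Fin r) (A' ⧸ J.map (algebraMap C' A')))
    (hφ : Function.Injective φ.mulVecLin ∧
      LinearMap.range φ.mulVecLin = LinearMap.ker (Fintype.linearCombination (A' ⧸ J.map (algebraMap C' A')) (fun i : Fin (r + 1) => (-1 : (A' ⧸ J.map (algebraMap C' A'))) ^ (i : ℕ) * ((φ).submatrix i.succAbove id).det)))
    [Module.Flat (C' ⧸ J) ((A' ⧸ J.map (algebraMap C' A')) ⧸ Ideal.span (Set.range (fun i : Fin (r + 1) => (-1 : (A' ⧸ J.map (algebraMap C' A'))) ^ (i : ℕ) * ((φ).submatrix i.succAbove id).det)))]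
    (hcodim : ∀ p : Ideal (A' ⧸ J.map (algebraMap C' A')), p.IsPrime →
      Ideal.span (Set.range (fun i : Fin (r + 1) => (-1 : (A' ⧸ J.map (algebraMap C' A'))) ^ (i : ℕ) * ((φ).submatrix i.succAbove id).det)) ≤ p → (2 : ℕ∞) ≤ p.height)
    (I' : Ideal A') [Module.Flat C' (A' ⧸ I')]
    (hI' : I'.map (Ideal.Quotient.mk (J.map (algebraMap C' A'))) = Ideal.span (Set.range (fun i : Fin (r + 1) => (-1 : (A' ⧸ J.map (algebraMap C' A'))) ^ (i : ℕ) * ((φ).submatrix i.succAbove id).det))) :
    ∃ φ' : Matrix (Fin (r + 1)) (Fin r) A', φ'.map (Ideal.Quotient.mk (J.map (algebraMap C' A'))) = φ ∧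
      I' = Ideal.span (Set.range (fun i : Fin (r + 1) => (-1 : A') ^ (i : ℕ) * ((φ').submatrix i.succAbove id).det)) := by
  classical
  have hnil : IsNilpotent (IsLocalRing.maximalIdeal C') :=
    Groth.Agent.Lib.ArtinianFlat.isNilpotent_maximalIdeal
  have hJm : J ≤ IsLocalRing.maximalIdeal C' := IsLocalRing.le_maximalIdeal hJne
  have hJJ : J * J = ⊥ := le_bot_iff.mp ((Ideal.mul_mono_left hJm).trans hJ.le)
  have hKM : (J.map (algebraMap C' A')) ≤ ((IsLocalRing.maximalIdeal C').map (algebraMap C' A')) := Ideal.map_mono hJm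
  -- generators of `I'`
  obtain ⟨f', hf', hI'f⟩ := Groth.Agent.Lib.SmallExtGen18.exists_generators J A' I' hJJ
    (Groth.Agent.Lib.H26HBSpread.sm φ) hI'
  have hflat : I' ⊓ (J.map (algebraMap C' A')) ≤ (J.map (algebraMap C' A')) * I' := fun y hy =>
    Groth.Agent.Lib.SmallExtGen18.mem_mul_of_mem_inf J A' I' hy.1 hy.2
  have hlap : ∀ (R : Type u) [CommRing R] (ψ : Matrix (Fin (r + 1)) (Fin r) R) (j : Fin r),
      ∑ i, Groth.Agent.Lib.H26HBSpread.sm ψ i * ψ i j = 0 := by
    intro R _ ψ j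
    have h1 := Groth.Agent.Lib.H26HBSpread.linearCombination_mulVec ψ (Pi.single j 1)
    rw [Fintype.linearCombination_apply] at h1
    rw [← h1]
    refine Finset.sum_congr rfl fun i _ => ?_
    simp [Matrix.mulVec_single_one, mul_comm]
  have hrel : ∀ j, ∑ i, Ideal.Quotient.mk (J.map (algebraMap C' A')) (f' i) * φ i j = 0 := by
    intro j
    simp only [hf']
    exact hlap _ φ j
  obtain ⟨φ', hφ'map, hφ'rel⟩ :=
    Groth.Agent.Lib.H26HBDeform.exists_lift_relations (J.map (algebraMap C' A')) I' hflat f' hI'f φ hrel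
  refine ⟨φ', hφ'map, ?_⟩
  have hg' : ∀ i, Ideal.Quotient.mk (J.map (algebraMap C' A')) (Groth.Agent.Lib.H26HBSpread.sm φ' i) =
      Groth.Agent.Lib.H26HBSpread.sm φ i := by
    intro i
    rw [← Groth.Agent.Lib.H26HBSpread.sm_map, hφ'map]
  -- the difference vector
  have hhK : ∀ i, f' i - Groth.Agent.Lib.H26HBSpread.sm φ' i ∈ (J.map (algebraMap C' A')) := by
    intro i
    rw [← Ideal.Quotient.eq_zero_iff_mem, map_sub, hf', hg', sub_self]
  have hhφ : ∀ j, ∑ i, (f' i - Groth.Agent.Lib.H26HBSpread.sm φ' i) * φ' i j ∈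
      (⊥ : Ideal C').map (algebraMap C' A') := by
    intro j
    simp only [sub_mul, Finset.sum_sub_distrib, hφ'rel j, hlap _ φ' j, sub_self]
    exact Ideal.zero_mem _
  -- the left kernel hypothesis
  letI : Field (C' ⧸ IsLocalRing.maximalIdeal C') := Ideal.Quotient.field _
  haveI : IsRegularRing (A' ⧸ ((IsLocalRing.maximalIdeal C').map (algebraMap C' A'))) :=
    Groth.Agent.Lib.SmoothRegular.isRegularRing_of_smooth (C' ⧸ IsLocalRing.maximalIdeal C') (A' ⧸ ((IsLocalRing.maximalIdeal C').map (algebraMap C' A')))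
  haveI : LocCoh.IsCohenMacaulayRing (A' ⧸ ((IsLocalRing.maximalIdeal C').map (algebraMap C' A'))) :=
    Groth.Agent.Lib.CMAscent33.isCohenMacaulayRing_of_isRegularRing (A' ⧸ ((IsLocalRing.maximalIdeal C').map (algebraMap C' A')))
  have HK : ∀ x : Fin (r + 1) → A',
      (∀ j, ∑ i, x i * φ' i j ∈ ((IsLocalRing.maximalIdeal C').map (algebraMap C' A'))) →
      ∃ c : A', ∀ i, x i - c * Groth.Agent.Lib.H26HBSpread.sm φ' i ∈ ((IsLocalRing.maximalIdeal C').map (algebraMap C' A')) := by
    apply Groth.Agent.Lib.H26HBDeform.hk_of_quotient ((IsLocalRing.maximalIdeal C').map (algebraMap C' A')) φ'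
    apply Groth.Agent.Lib.H26LeftKer.exists_eq_mul_of_isCM
    intro q hq hle
    -- transfer the height bound along `A'/(J.map (algebraMap C' A')) → A'/((IsLocalRing.maximalIdeal C').map (algebraMap C' A'))`
    let π : A' ⧸ (J.map (algebraMap C' A')) →+* A' ⧸ ((IsLocalRing.maximalIdeal C').map (algebraMap C' A')) := Ideal.Quotient.factor hKM
    have hπ : ∀ a, π (Ideal.Quotient.mk (J.map (algebraMap C' A')) a) = Ideal.Quotient.mk ((IsLocalRing.maximalIdeal C').map (algebraMap C' A')) a := fun a => rfl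
    have hπs : Function.Surjective π := Ideal.Quotient.factor_surjective hKM
    have hker : RingHom.ker π ≤ nilradical (A' ⧸ (J.map (algebraMap C' A'))) := by
      intro x hx
      obtain ⟨a, rfl⟩ := Ideal.Quotient.mk_surjective x
      rw [RingHom.mem_ker, hπ, Ideal.Quotient.eq_zero_iff_mem] at hx
      have := Groth.Agent.Lib.ArtinSocle88.isNilpotent_of_mem_map hnil
        (IsLocalRing.maximalIdeal C') (Ideal.IsPrime.ne_top inferInstance) a hx
      exact mem_nilradical.mpr (this.map (Ideal.Quotient.mk (J.map (algebraMap C' A'))))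
    have h1 := Groth.Agent.Lib.H26HBDeform.height_comap_le_of_ker_le_nilradical π hπs hker q
    refine le_trans (hcodim (q.comap π) inferInstance ?_) h1
    rw [Ideal.span_le]
    rintro _ ⟨i, rfl⟩
    show π _ ∈ q
    have e : π ((-1 : (A' ⧸ (J.map (algebraMap C' A')))) ^ (i : ℕ) * (φ.submatrix i.succAbove id).det) =
        Groth.Agent.Lib.H26HBSpread.sm (φ'.map (Ideal.Quotient.mk ((IsLocalRing.maximalIdeal C').map (algebraMap C' A')))) i := by
      have := hg' i
      simp only [Groth.Agent.Lib.H26HBSpread.sm] at this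
      rw [← this]
      exact (Groth.Agent.Lib.H26HBSpread.sm_map (Ideal.Quotient.mk ((IsLocalRing.maximalIdeal C').map (algebraMap C' A'))) φ' i).symm
    rw [e]
    exact hle (Ideal.subset_span ⟨i, rfl⟩)
  obtain ⟨c, hcK, hc⟩ := Groth.Agent.Lib.H26HBDeform.lkstep J ⊥ (by rw [hJ]) φ' HK
    (fun i => f' i - Groth.Agent.Lib.H26HBSpread.sm φ' i) hhK hhφ
  have hc' : ∀ i, f' i = (1 + c) * Groth.Agent.Lib.H26HBSpread.sm φ' i := by
    intro i
    have := hc i
    rw [Ideal.map_bot, Ideal.mem_bot] at this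
    linear_combination this
  have hcnil : IsNilpotent c := by
    refine ⟨2, ?_⟩
    have h2 : c * c ∈ (J.map (algebraMap C' A')) * (J.map (algebraMap C' A')) := Ideal.mul_mem_mul hcK hcK
    rw [← Ideal.map_mul, hJJ, Ideal.map_bot, Ideal.mem_bot] at h2
    rw [pow_two, h2]
  have hu : IsUnit (1 + c) := hcnil.isUnit_one_add
  rw [hI'f]
  have hfun : f' = fun i => (1 + c) * Groth.Agent.Lib.H26HBSpread.sm φ' i := funext hc'
  rw [hfun]
  exact Groth.Agent.Lib.H26HBDeform.span_range_unit_mul (1 + c) hu _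

end Groth.Agent.S11459
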