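import Groth.Statements.S11460
import Groth.Agent.S11449
import Groth.Agent.Lib.H26HBSpread
import Groth.Agent.Lib.ClosedImmStalk
import Groth.Agent.Lib.SmoothStalkRegular45
import Groth.Agent.Lib.CMRingEquiv96

set_option autoImplicit false
universe u
open CategoryTheory AlgebraicGeometry
open DefT

namespace Groth.Agent.S11460

open Groth.Agent.Lib in
/-- finitely many germs are defined on a common affine open neighbourhood -/
theorem exists_affineOpen_matrix_germ (X : Scheme.{u}) (x : X) {m n : ℕ}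
    (M : Matrix (Fin m) (Fin n) (X.presheaf.stalk x)) :
    ∃ (U : X.affineOpens) (hx : x ∈ U.1) (φ : Matrix (Fin m) (Fin n) Γ(X, U.1)),
      φ.map (X.presheaf.germ U.1 x hx).hom = M := by
  have h : ∀ ij : Fin m × Fin n, ∃ (V : X.Opens) (hxV : x ∈ V) (s : Γ(X, V)),
      X.presheaf.germ V x hxV s = M ij.1 ij.2 :=
    fun ij => X.presheaf.exists_germ_eq (M ij.1 ij.2)
  choose V hxV s hs using h
  let W : X.Opens := ⟨⋂ ij, (V ij : Set X), isOpen_iInter_of_finite fun ij => (V ij).2⟩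
  have hxW : x ∈ W := Set.mem_iInter.mpr hxV
  obtain ⟨_, ⟨U, hU, rfl⟩, hxU, hUW⟩ := X.isBasis_affineOpens.exists_subset_of_mem_open hxW W.2
  have hUV : ∀ ij, U ≤ V ij := fun ij => (hUW.trans (Set.iInter_subset _ ij))
  refine ⟨⟨U, hU⟩, hxU,
    Matrix.of fun i j => X.presheaf.map (homOfLE (hUV (i, j))).op (s (i, j)), ?_⟩
  ext i j
  simp only [Matrix.map_apply, Matrix.of_apply]
  rw [← hs (i, j)]
  exact X.presheaf.germ_res_apply (homOfLE (hUV (i, j))) x hxU (s (i, j))

/-- Let X be smooth over a field k and Y ⊆ X a closed subscheme which is Cohen–Macaulay of codimension 2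
(all local rings of Y Cohen–Macaulay, and dim O_{X,y} = dim O_{Y,y} + 2 at every point y of Y). Then
each point of Y has an affine open neighbourhood U in X and an (r+1) × r matrix φ of functions on U
whose signed maximal minors f_i generate the ideal of Y ∩ U and give an exact sequence 0 → O(U)^r →
O(U)^{r+1} → O(U), hence a resolution of O_{Y ∩ U} on the affine U. -/
theorem result (k : Type u) [Field k]
    (X Y : Scheme.{u}) (f : X ⟶ Spec (CommRingCat.of k)) [Smooth f] (ι : Y ⟶ X) [IsClosedImmersion ι]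
    (hCM : ∀ y : Y, LocCoh.IsCohenMacaulayLocalRing (Y.presheaf.stalk y))
    (hcodim : ∀ y : Y, ringKrullDim (Y.presheaf.stalk y) + 2 = ringKrullDim (X.presheaf.stalk (ι.base y)))
    (y : Y) :
    ∃ U : X.affineOpens, ι.base y ∈ (U : X.Opens) ∧ ∃ (r : ℕ) (φ : Matrix (Fin (r + 1)) (Fin r) Γ(X, U)),
      (Ideal.span (Set.range (fun i : Fin (r + 1) => (-1 : Γ(X, U)) ^ (i : ℕ) * ((φ).submatrix i.succAbove id).det)) = ι.ker.ideal U ∧
        Function.Injective (φ).mulVecLin ∧
        LinearMap.range (φ).mulVecLin = LinearMap.ker (Fintype.linearCombination Γ(X, U) (fun i : Fin (r + 1) => (-1 : Γ(X, U)) ^ (i : ℕ) * ((φ).submatrix i.succAbove id).det))) := by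
  classical
  haveI hreg : IsRegularLocalRing (X.presheaf.stalk (ι.base y)) :=
    Groth.Agent.Lib.SmoothStalkRegular45.isRegularLocalRing_stalk_of_smooth_field k f (ι.base y)
  set Ix : Ideal (X.presheaf.stalk (ι.base y)) := RingHom.ker (ι.stalkMap y).hom with hIx
  have hsurj : Function.Surjective (ι.stalkMap y).hom := ι.stalkMap_surjective y
  let e : (X.presheaf.stalk (ι.base y) ⧸ Ix) ≃+* Y.presheaf.stalk y :=
    RingHom.quotientKerEquivOfSurjective hsurj
  haveI := hCM y
  haveI : LocCoh.IsCohenMacaulayLocalRing (X.presheaf.stalk (ι.base y) ⧸ Ix) :=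
    Groth.Agent.Lib.CMRingEquiv96.isCohenMacaulayLocalRing_of_ringEquiv e.symm
  have hcodim' : ringKrullDim (X.presheaf.stalk (ι.base y) ⧸ Ix) + 2 =
      ringKrullDim (X.presheaf.stalk (ι.base y)) := by
    rw [ringKrullDim_eq_of_ringEquiv e]; exact hcodim y
  obtain ⟨r, φA, h1, -, h2, h3⟩ := Groth.Agent.S11449.result _ Ix hcodim'
  obtain ⟨U, hxU, φ, hφ⟩ := exists_affineOpen_matrix_germ X (ι.base y) φA
  haveI : IsLocallyNoetherian X := LocallyOfFiniteType.isLocallyNoetherian f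
  haveI : IsNoetherianRing Γ(X, U.1) := IsLocallyNoetherian.component_noetherian U
  letI alg : Algebra Γ(X, U.1) (X.presheaf.stalk (ι.base y)) :=
    X.presheaf.algebra_section_stalk ⟨ι.base y, hxU⟩
  haveI hloc : IsLocalization.AtPrime (X.presheaf.stalk (ι.base y))
      (U.2.primeIdealOf ⟨ι.base y, hxU⟩).asIdeal := U.2.isLocalization_stalk ⟨_, hxU⟩
  have hker : Ix = (ι.ker.ideal U).map (algebraMap Γ(X, U.1) (X.presheaf.stalk (ι.base y))) :=
    Groth.Agent.Lib.ClosedImmStalk.ker_stalkMap_eq_map ι U y hxU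
  have hHB : Groth.Agent.Lib.H26HBSpread.IsHB
      (φ.map (algebraMap Γ(X, U.1) (X.presheaf.stalk (ι.base y))))
      ((ι.ker.ideal U).map (algebraMap Γ(X, U.1) (X.presheaf.stalk (ι.base y)))) := by
    rw [← hker]
    have : φ.map (algebraMap Γ(X, U.1) (X.presheaf.stalk (ι.base y))) = φA := hφ
    rw [this]
    exact ⟨h1, h2, h3⟩
  obtain ⟨s, hs, H⟩ := Groth.Agent.Lib.H26HBSpread.spread
    (U.2.primeIdealOf ⟨_, hxU⟩).asIdeal (X.presheaf.stalk (ι.base y)) φ (ι.ker.ideal U) hHB
  letI algX : Algebra Γ(X, U.1) Γ(X, X.basicOpen s) :=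
    (X.presheaf.map (homOfLE (X.basicOpen_le s)).op).hom.toAlgebra
  haveI locX : IsLocalization.Away s Γ(X, X.basicOpen s) := U.2.isLocalization_basicOpen s
  obtain ⟨g1, g2, g3⟩ := H Γ(X, X.basicOpen s)
  refine ⟨X.affineBasicOpen s, ?_, r,
    φ.map (algebraMap Γ(X, U.1) Γ(X, X.basicOpen s)), ?_, g2, g3⟩
  · exact (Groth.Agent.Lib.ClosedImmStalk.mem_basicOpen_iff_notMem_primeIdealOf
      U.1 U.2 _ hxU s).mpr hs
  · exact g1.trans (ι.ker.map_ideal_basicOpen U s)

end Groth.Agent.S11460
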