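import Groth.Statements.S11461
import Mathlib.RingTheory.Ideal.AssociatedPrime.Finiteness
import Mathlib.RingTheory.Finiteness.Nakayama
import Mathlib.Algebra.Homology.ShortComplex.ModuleCat
import Mathlib.CategoryTheory.Limits.Preserves.Shapes.Zero

set_option autoImplicit false
universe u
open CategoryTheory
open DefT

namespace Groth.Agent.S11461

section
variable {B : Type u} [CommRing B] (F : ModuleCat.{u} B ⥤ ModuleCat.{u} B) [F.Additive] [F.Linear B]

omit [F.Additive] [F.Linear B] in
lemma isZero_of_equiv {N N' : Type u} [AddCommGroup N] [Module B N] [AddCommGroup N'] [Module B N']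
    (e : N ≃ₗ[B] N') (h : Limits.IsZero (F.obj (ModuleCat.of B N'))) :
    Limits.IsZero (F.obj (ModuleCat.of B N)) :=
  h.of_iso (F.mapIso e.toModuleIso)

lemma shortExact_of {N₁ N₂ N₃ : Type u} [AddCommGroup N₁] [Module B N₁] [AddCommGroup N₂]
    [Module B N₂] [AddCommGroup N₃] [Module B N₃] (f : N₁ →ₗ[B] N₂) (g : N₂ →ₗ[B] N₃)
    (hf : Function.Injective f) (hg : Function.Surjective g) (hfg : Function.Exact f g) :
    (ShortComplex.mk (ModuleCat.ofHom f) (ModuleCat.ofHom g)
      (by ext x; exact hfg.apply_apply_eq_zero x)).ShortExact := by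
  refine ShortComplex.ShortExact.mk' ?_ ?_ ?_
  · rw [ShortComplex.ShortExact.moduleCat_exact_iff_function_exact]
    exact hfg
  · exact (ModuleCat.mono_iff_injective _).2 hf
  · exact (ModuleCat.epi_iff_surjective _).2 hg

variable (hex : ∀ S : ShortComplex (ModuleCat.{u} B), S.ShortExact → Module.Finite B S.X₂ → (S.map F).Exact)

include hex in
omit [F.Linear B] in
lemma isZero_of_exact {N₁ N₂ N₃ : Type u} [AddCommGroup N₁] [Module B N₁] [AddCommGroup N₂]
    [Module B N₂] [AddCommGroup N₃] [Module B N₃] [Module.Finite B N₂]
    (f : N₁ →ₗ[B] N₂) (g : N₂ →ₗ[B] N₃)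
    (hf : Function.Injective f) (hg : Function.Surjective g) (hfg : Function.Exact f g)
    (h1 : Limits.IsZero (F.obj (ModuleCat.of B N₁))) (h3 : Limits.IsZero (F.obj (ModuleCat.of B N₃))) :
    Limits.IsZero (F.obj (ModuleCat.of B N₂)) := by
  have ex := hex _ (shortExact_of f g hf hg hfg) (inferInstanceAs (Module.Finite B N₂))
  exact ex.isZero_of_both_zeros (h1.eq_of_src _ _) (h3.eq_of_tgt _ _)

include hex in
lemma key [IsNoetherianRing B] (J : Ideal B)
    (hJ : ∀ q : PrimeSpectrum B, J ≤ q.asIdeal →
      Limits.IsZero (F.obj (ModuleCat.of B (B ⧸ q.asIdeal))))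
    (N : Type u) [AddCommGroup N] [Module B N] (hN : Module.Finite B N) :
    (∀ a ∈ J, ∀ n : N, a • n = 0) → Limits.IsZero (F.obj (ModuleCat.of B N)) := by
  induction hN using IsNoetherianRing.induction_on_isQuotientEquivQuotientPrime B with
  | subsingleton N =>
    intro _
    exact F.map_isZero (ModuleCat.isZero_of_subsingleton _)
  | quotient N p f =>
    intro h
    refine isZero_of_equiv F f (hJ p ?_)
    intro a ha
    have h1 : a • f.symm (1 : B ⧸ p.asIdeal) = 0 := h a ha _
    have h2 : a • (1 : B ⧸ p.asIdeal) = 0 := by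
      have := congrArg f h1
      rwa [map_smul, LinearEquiv.apply_symm_apply, map_zero] at this
    rw [Algebra.smul_def, mul_one] at h2
    exact Ideal.Quotient.eq_zero_iff_mem.1 h2
  | exact N₁ N₂ N₃ f g hf hg hfg h₁ h₃ =>
    intro h
    refine isZero_of_exact F hex f g hf hg hfg (h₁ fun a ha n => hf ?_) (h₃ fun a ha n => ?_)
    · rw [map_smul, h a ha, map_zero]
    · obtain ⟨m, rfl⟩ := hg n
      rw [← map_smul, h a ha, map_zero]

end

/-- Let B be a Noetherian ring and F an additive, B-linear endofunctor of B-modules which preserves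
finite generation and is semi-exact on short exact sequences of finitely generated modules (the
image sequence is exact in the middle). If F kills B/m for every maximal ideal m, then F kills every
finitely generated B-module. (The published statement assumes F only additive; this row assumes F
B-linear, and takes the functor on all B-modules with the hypotheses and the conclusion on the
finitely generated ones.) -/
theorem result (B : Type u) [CommRing B]
    [IsNoetherianRing B] (F : ModuleCat.{u} B ⥤ ModuleCat.{u} B) [F.Additive] [F.Linear B]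
    (hfg : ∀ M : ModuleCat.{u} B, Module.Finite B M → Module.Finite B (F.obj M))
    (hex : ∀ S : ShortComplex (ModuleCat.{u} B), S.ShortExact → Module.Finite B S.X₂ → (S.map F).Exact)
    (h0 : ∀ m : Ideal B, m.IsMaximal → Limits.IsZero (F.obj (ModuleCat.of B (B ⧸ m))))
    (M : ModuleCat.{u} B) (hM : Module.Finite B M) : Limits.IsZero (F.obj M) := by
  have primes : ∀ I : Ideal B, I.IsPrime → Limits.IsZero (F.obj (ModuleCat.of B (B ⧸ I))) := by
    intro I
    induction I using WellFoundedGT.induction with
    | ind p ih =>
    intro hp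
    by_cases hmax : p.IsMaximal
    · exact h0 p hmax
    let Mp : ModuleCat.{u} B := ModuleCat.of B (B ⧸ p)
    have hfin : Module.Finite B (F.obj Mp) := hfg Mp (inferInstanceAs (Module.Finite B (B ⧸ p)))
    -- `p` kills `F (B/p)`
    have hkill : ∀ a ∈ p, ∀ n : F.obj Mp, a • n = 0 := by
      intro a ha n
      have h1 : a • 𝟙 Mp = 0 := by
        apply ModuleCat.hom_ext
        apply LinearMap.ext
        intro m
        change a • m = 0
        obtain ⟨b, rfl⟩ := Ideal.Quotient.mk_surjective m
        rw [Algebra.smul_def]
        change Ideal.Quotient.mk p a * _ = 0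
        rw [Ideal.Quotient.eq_zero_iff_mem.2 ha, zero_mul]
      have h2 : a • 𝟙 (F.obj Mp) = 0 := by
        rw [← F.map_id, ← F.map_smul, h1, F.map_zero]
      have := congrArg (fun φ : F.obj Mp ⟶ F.obj Mp => φ.hom n) h2
      simpa using this
    -- elements outside `p` act surjectively
    have hsurj : ∀ x : B, x ∉ p → Function.Surjective (fun n : F.obj Mp => x • n) := by
      intro x hx
      let fx : (B ⧸ p) →ₗ[B] (B ⧸ p) := LinearMap.lsmul B (B ⧸ p) x
      have hinj : Function.Injective fx := by
        rw [← LinearMap.ker_eq_bot, LinearMap.ker_eq_bot']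
        intro m hm
        change x • m = 0 at hm
        rw [Algebra.smul_def] at hm
        rcases mul_eq_zero.1 hm with h | h
        · exact absurd (Ideal.Quotient.eq_zero_iff_mem.1 h) hx
        · exact h
      let g := (LinearMap.range fx).mkQ
      have hQ : Limits.IsZero (F.obj (ModuleCat.of B ((B ⧸ p) ⧸ LinearMap.range fx))) := by
        refine key F hex (p ⊔ Ideal.span {x}) ?_ _ inferInstance ?_
        · intro q hq
          refine ih q.asIdeal (lt_of_le_of_ne (le_sup_left.trans hq) ?_) q.isPrime
          intro h
          apply hx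
          rw [h]
          exact hq (Ideal.mem_sup_right (Ideal.subset_span rfl))
        · intro a ha n
          obtain ⟨m, rfl⟩ := Submodule.mkQ_surjective _ n
          rw [← map_smul, Submodule.mkQ_apply, Submodule.Quotient.mk_eq_zero]
          obtain ⟨a1, ha1, a2, ha2, rfl⟩ := Submodule.mem_sup.1 ha
          obtain ⟨b, rfl⟩ := Ideal.mem_span_singleton'.1 ha2
          have : a1 • m = 0 := by
            rw [Algebra.smul_def]
            change Ideal.Quotient.mk p a1 * _ = 0
            rw [Ideal.Quotient.eq_zero_iff_mem.2 ha1, zero_mul]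
          rw [add_smul, this, zero_add]
          refine ⟨b • m, ?_⟩
          change x • b • m = (b * x) • m
          rw [smul_smul, mul_comm]
      have ex := hex _ (shortExact_of fx g hinj (Submodule.mkQ_surjective _)
        (LinearMap.exact_map_mkQ_range fx)) (inferInstanceAs (Module.Finite B (B ⧸ p)))
      have hepi : Epi (F.map (ModuleCat.ofHom fx)) := ex.epi_f (hQ.eq_of_tgt _ _)
      have h1 : ModuleCat.ofHom fx = x • 𝟙 Mp := by
        apply ModuleCat.hom_ext
        apply LinearMap.ext
        intro m
        rfl
      rw [h1, F.map_smul, F.map_id] at hepi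
      have := (ModuleCat.epi_iff_surjective _).1 hepi
      intro n
      obtain ⟨n', hn'⟩ := this n
      exact ⟨n', by simpa using hn'⟩
    -- Nakayama
    refine @ModuleCat.isZero_of_subsingleton _ _ _ ?_
    by_contra hsub
    rw [not_subsingleton_iff_nontrivial] at hsub
    have hann : Module.annihilator B (F.obj Mp) ≠ ⊤ := by
      intro h
      rw [Ideal.eq_top_iff_one, Module.mem_annihilator] at h
      obtain ⟨n, hn⟩ := exists_ne (0 : F.obj Mp)
      exact hn (by simpa using h n)
    obtain ⟨m, hm, hle⟩ := Ideal.exists_le_maximal _ hann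
    have hpm : p ≤ m := fun a ha => hle (Module.mem_annihilator.2 (hkill a ha))
    obtain ⟨x, hxm, hxp⟩ : ∃ x ∈ m, x ∉ p := by
      by_contra hcon
      push Not at hcon
      have : p = m := le_antisymm hpm hcon
      exact hmax (this ▸ hm)
    have hle' : (⊤ : Submodule B (F.obj Mp)) ≤ m • ⊤ := by
      intro n _
      obtain ⟨n', rfl⟩ := hsurj x hxp n
      exact Submodule.smul_mem_smul hxm Submodule.mem_top
    obtain ⟨r, hr1, hr2⟩ := Submodule.exists_sub_one_mem_and_smul_eq_zero_of_fg_of_le_smul m ⊤
      (Module.finite_def.1 hfin) hle'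
    have hr : r ∈ m := hle (Module.mem_annihilator.2 fun n => hr2 n Submodule.mem_top)
    apply hm.ne_top
    rw [Ideal.eq_top_iff_one]
    have := m.sub_mem hr hr1
    simpa using this
  exact key F hex ⊥ (fun q _ => primes q.asIdeal q.isPrime) M hM (by
    intro a ha n
    rw [Ideal.mem_bot.1 ha, zero_smul])

end Groth.Agent.S11461
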