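import Groth.Statements.S11462
import Mathlib
import Groth.Agent.Lib.HartogsO
import Groth.Agent.Lib.H14SerreNormal
import Groth.Agent.Lib.ArtinSocle88
import Groth.Agent.Lib.ArtinianFlat
import Groth.Agent.Lib.H26HBDeform
import Groth.Agent.Lib.CMRingEquiv96
import Groth.Agent.Lib.H29Depth
import Groth.Agent.Lib.DepthRees

set_option autoImplicit false
universe u
open CategoryTheory AlgebraicGeometry Opposite
open DefT

namespace Groth.Agent.S11462


open IsLocalRing RingTheory.Sequence in
/-- A Noetherian local ring `B` flat over an Artinian local ring `C` whose special fibre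
`B/𝔪_C B` is a normal domain has depth at least `2` as soon as its dimension is at least `2`. -/
theorem two_le_depth_of_flat_artin (C : Type u) [CommRing C] [IsLocalRing C] [IsArtinianRing C]
    (B : Type u) [CommRing B] [IsLocalRing B] [IsNoetherianRing B] [Algebra C B] [Module.Flat C B]
    (K : Ideal B) (hK : K = (maximalIdeal C).map (algebraMap C B))
    [IsDomain (B ⧸ K)] [IsIntegrallyClosed (B ⧸ K)]
    (hht : 2 ≤ (maximalIdeal B).height) : (2 : ℕ∞) ≤ LocCoh.depth B B := by
  have hnil : IsNilpotent (maximalIdeal C) := Groth.Agent.Lib.ArtinianFlat.isNilpotent_maximalIdeal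
  have hKnil : IsNilpotent K := by
    obtain ⟨n, hn⟩ := hnil
    refine ⟨n, ?_⟩
    rw [hK, ← Ideal.map_pow, hn]
    exact Ideal.map_bot
  have hKtop : K ≠ ⊤ := Ideal.Quotient.nontrivial_iff.mp inferInstance
  haveI : IsLocalRing (B ⧸ K) :=
    IsLocalRing.of_surjective' (Ideal.Quotient.mk K) Ideal.Quotient.mk_surjective
  have hker : RingHom.ker (Ideal.Quotient.mk K) ≤ nilradical B := by
    rw [Ideal.mk_ker]
    intro x hx
    obtain ⟨n, hn⟩ := hKnil
    refine ⟨n, ?_⟩
    have := Ideal.pow_mem_pow hx n
    rw [hn] at this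
    exact this
  haveI hloc : IsLocalHom (Ideal.Quotient.mk K) :=
    IsLocalHom.of_surjective _ Ideal.Quotient.mk_surjective
  have hcomap : (maximalIdeal (B ⧸ K)).comap (Ideal.Quotient.mk K) = maximalIdeal B :=
    ((IsLocalRing.local_hom_TFAE (Ideal.Quotient.mk K)).out 0 4).mp hloc
  have hh := Groth.Agent.Lib.H26HBDeform.height_comap_le_of_ker_le_nilradical
    (Ideal.Quotient.mk K) Ideal.Quotient.mk_surjective hker (maximalIdeal (B ⧸ K))
  rw [hcomap] at hh
  have h2 : (2 : ℕ∞) ≤ LocCoh.depth (B ⧸ K) (B ⧸ K) :=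
    le_trans (le_min le_rfl (hht.trans hh))
      (Groth.Agent.Lib.H14SerreNormal.min_two_height_le_depth_of_normal (B ⧸ K))
  have hIM0 := Groth.Agent.Lib.DepthRees.maximalIdeal_smul_top_ne_top (R := B ⧸ K) (B ⧸ K)
  obtain ⟨rs, hlen, hmem, hreg⟩ :=
    (Groth.Agent.Lib.H29Depth.le_idealDepth_iff (maximalIdeal (B ⧸ K)) (B ⧸ K) hIM0 2).mp h2
  obtain ⟨rs', rfl⟩ : ∃ rs' : List B, rs'.map (Ideal.Quotient.mk K) = rs :=
    List.map_surjective_iff.mpr Ideal.Quotient.mk_surjective rs
  have hIM := Groth.Agent.Lib.DepthRees.maximalIdeal_smul_top_ne_top (R := B) B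
  refine (Groth.Agent.Lib.H29Depth.le_idealDepth_iff (maximalIdeal B) B hIM 2).mpr
    ⟨rs', by simpa using hlen, ?_, ?_⟩
  · intro r hr
    rw [← hcomap]
    exact hmem _ (List.mem_map_of_mem hr)
  · have hw : IsWeaklyRegular (B ⧸ K) rs' :=
      (isWeaklyRegular_map_algebraMap_iff (B ⧸ K) (B ⧸ K) rs').mp hreg.toIsWeaklyRegular
    have hKK : K = (K • ⊤ : Submodule B B) := by
      rw [smul_eq_mul, Ideal.mul_top]
    have hw' : IsWeaklyRegular (B ⧸ ((maximalIdeal C).map (algebraMap C B) • ⊤ : Submodule B B)) rs' := by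
      rw [← hK]
      exact (LinearEquiv.isWeaklyRegular_congr (Submodule.quotEquivOfEq _ _ hKK) rs').mp hw
    have hwB : IsWeaklyRegular B rs' :=
      (Groth.Agent.Lib.ArtinSocle88.isWeaklyRegular_iff_quotient hnil (maximalIdeal C)
        (Ideal.IsPrime.ne_top inferInstance) rs' B).mpr hw'
    exact Groth.Agent.Lib.H29Depth.isRegular_of_isWeaklyRegular (maximalIdeal B) B hIM hwB
      (fun r hr => by rw [← hcomap]; exact hmem _ (List.mem_map_of_mem hr))

/-- Let C be a local Artin ring with maximal ideal m, A a Noetherian C-algebra flat over C such that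
Spec(A/mA) is a normal scheme, and U ⊆ X = Spec A an open subset whose closed complement has
codimension ≥ 2, i.e. every prime of A not in U has height at least 2. Then the restriction map Γ(X,
O_X) → Γ(U, O_X) is bijective. (The published statement assumes only that A is flat over C with
normal special fibre; this row also assumes A Noetherian: for a valuation ring of rank two over a
field, which is normal and flat, the functions on the complement of the closed point are not all
global.) -/
theorem result (C : Type u) [CommRing C]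
    [IsLocalRing C] [IsArtinianRing C] (A : Type u) [CommRing A] [IsNoetherianRing A] [Algebra C A]
    [Module.Flat C A]
    (hnorm : Pi1.IsNormalScheme (Spec (CommRingCat.of (A ⧸ (IsLocalRing.maximalIdeal C).map (algebraMap C A)))))
    (U : (Spec (CommRingCat.of A)).Opens)
    (hU : ∀ p : ↥(Spec (CommRingCat.of A)), p ∉ U → (2 : ℕ∞) ≤ p.asIdeal.height) :
    Function.Bijective ((Spec (CommRingCat.of A)).presheaf.map (homOfLE (le_top : U ≤ ⊤)).op) := by
  haveI : IsNoetherianRing (CommRingCat.of A) := ‹IsNoetherianRing A›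
  refine Groth.Agent.Lib.Hartogs.resO_bijective U ?_ le_top (top_inf_eq U).symm
  intro p hp
  have hht := hU p hp
  haveI hpprime : p.asIdeal.IsPrime := p.isPrime
  have e : Localization.AtPrime p.asIdeal ≃+* ((Spec (CommRingCat.of A)).presheaf.stalk p) :=
    (AlgebraicGeometry.StructureSheaf.stalkIso A p).toRingEquiv
  rw [← Groth.Agent.Lib.CMRingEquiv96.depth_eq e]
  have hnil : IsNilpotent (IsLocalRing.maximalIdeal C) :=
    Groth.Agent.Lib.ArtinianFlat.isNilpotent_maximalIdeal
  have hLp : (IsLocalRing.maximalIdeal C).map (algebraMap C A) ≤ p.asIdeal := by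
    obtain ⟨n, hn⟩ := hnil
    have h1 : ((IsLocalRing.maximalIdeal C).map (algebraMap C A)) ^ n ≤ p.asIdeal := by
      rw [← Ideal.map_pow, hn, Ideal.zero_eq_bot, Ideal.map_bot]
      exact bot_le
    exact Ideal.IsPrime.le_of_pow_le h1
  have hK : ((IsLocalRing.maximalIdeal C).map (algebraMap C A)).map
      (algebraMap A (Localization.AtPrime p.asIdeal)) =
      (IsLocalRing.maximalIdeal C).map (algebraMap C (Localization.AtPrime p.asIdeal)) := by
    rw [Ideal.map_map, ← IsScalarTower.algebraMap_eq]
  -- the prime of the special fibre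
  have hPprime : (p.asIdeal.map (Ideal.Quotient.mk
      ((IsLocalRing.maximalIdeal C).map (algebraMap C A)))).IsPrime :=
    Ideal.map_isPrime_of_surjective Ideal.Quotient.mk_surjective (by rwa [Ideal.mk_ker])
  have hsub : Algebra.algebraMapSubmonoid (A ⧸ (IsLocalRing.maximalIdeal C).map (algebraMap C A))
      p.asIdeal.primeCompl = (p.asIdeal.map (Ideal.Quotient.mk
      ((IsLocalRing.maximalIdeal C).map (algebraMap C A)))).primeCompl := by
    ext y
    constructor
    · rintro ⟨a, ha, rfl⟩
      intro hmem
      apply ha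
      have : a ∈ (p.asIdeal.map (Ideal.Quotient.mk
          ((IsLocalRing.maximalIdeal C).map (algebraMap C A)))).comap (Ideal.Quotient.mk _) := hmem
      rw [Ideal.comap_map_of_surjective _ Ideal.Quotient.mk_surjective,
        ← RingHom.ker_eq_comap_bot, Ideal.mk_ker, sup_eq_left.mpr hLp] at this
      exact this
    · intro hy
      obtain ⟨a, rfl⟩ := Ideal.Quotient.mk_surjective y
      refine ⟨a, ?_, rfl⟩
      intro ha
      exact hy (Ideal.mem_map_of_mem _ ha)
  haveI hlocK : IsLocalization.AtPrime
      (Localization.AtPrime p.asIdeal ⧸ ((IsLocalRing.maximalIdeal C).map (algebraMap C A)).map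
        (algebraMap A (Localization.AtPrime p.asIdeal)))
      (p.asIdeal.map (Ideal.Quotient.mk ((IsLocalRing.maximalIdeal C).map (algebraMap C A)))) := by
    unfold IsLocalization.AtPrime
    rw [← hsub]
    infer_instance
  -- the stalk of the special fibre
  let xbar : ↥(Spec (CommRingCat.of (A ⧸ (IsLocalRing.maximalIdeal C).map (algebraMap C A)))) :=
    ⟨p.asIdeal.map (Ideal.Quotient.mk ((IsLocalRing.maximalIdeal C).map (algebraMap C A))), hPprime⟩
  obtain ⟨hdom, hic⟩ := hnorm xbar
  have e2 : Localization.AtPrime xbar.asIdeal ≃+*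
      ((Spec (CommRingCat.of (A ⧸ (IsLocalRing.maximalIdeal C).map (algebraMap C A)))).presheaf.stalk
        xbar) :=
    (AlgebraicGeometry.StructureSheaf.stalkIso
      (A ⧸ (IsLocalRing.maximalIdeal C).map (algebraMap C A)) xbar).toRingEquiv
  have e3 : Localization.AtPrime xbar.asIdeal ≃ₐ[A ⧸ (IsLocalRing.maximalIdeal C).map (algebraMap C A)]
      (Localization.AtPrime p.asIdeal ⧸ ((IsLocalRing.maximalIdeal C).map (algebraMap C A)).map
        (algebraMap A (Localization.AtPrime p.asIdeal))) :=
    IsLocalization.algEquiv xbar.asIdeal.primeCompl _ _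
  have e4 : ((Spec (CommRingCat.of (A ⧸ (IsLocalRing.maximalIdeal C).map (algebraMap C A)))).presheaf.stalk
        xbar) ≃+* (Localization.AtPrime p.asIdeal ⧸ ((IsLocalRing.maximalIdeal C).map (algebraMap C A)).map
        (algebraMap A (Localization.AtPrime p.asIdeal))) := e2.symm.trans e3.toRingEquiv
  haveI : IsDomain (Localization.AtPrime p.asIdeal ⧸ ((IsLocalRing.maximalIdeal C).map (algebraMap C A)).map
        (algebraMap A (Localization.AtPrime p.asIdeal))) := MulEquiv.isDomain _ e4.symm.toMulEquiv
  haveI : IsIntegrallyClosed (Localization.AtPrime p.asIdeal ⧸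
      ((IsLocalRing.maximalIdeal C).map (algebraMap C A)).map
        (algebraMap A (Localization.AtPrime p.asIdeal))) := IsIntegrallyClosed.of_equiv e4
  haveI : Module.Flat C (Localization.AtPrime p.asIdeal) :=
    Module.Flat.trans C A (Localization.AtPrime p.asIdeal)
  refine two_le_depth_of_flat_artin C (Localization.AtPrime p.asIdeal) _ hK ?_
  have h1 := IsLocalization.AtPrime.ringKrullDim_eq_height p.asIdeal (Localization.AtPrime p.asIdeal)
  rw [← IsLocalRing.maximalIdeal_height_eq_ringKrullDim] at h1
  rw [WithBot.coe_injective h1]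
  exact hht

end Groth.Agent.S11462
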