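import Groth.Statements.S11470

set_option autoImplicit false
universe u
open Curves

namespace Groth.Agent.S11470

open Polynomial

section aux

variable {k : Type u} [Field k]

/-- image of a polynomial -/
noncomputable abbrev ι : k[X] →+* RatFunc k := algebraMap k[X] (RatFunc k)

lemma ι_inj : Function.Injective (ι (k := k)) := RatFunc.algebraMap_injective k

lemma ι_X : ι (k := k) X = RatFunc.X := RatFunc.algebraMap_X

lemma x_ne : (RatFunc.X : RatFunc k) ≠ 0 := RatFunc.X_ne_zero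

lemma x1_ne : (RatFunc.X : RatFunc k) - 1 ≠ 0 := by
  have : ι (k := k) (X - 1) ≠ 0 := by
    intro h
    have := ι_inj (k := k) (h.trans (map_zero _).symm)
    exact X_sub_C_ne_zero (1 : k) (by simpa using this)
  simpa [ι_X] using this

/-- the denominator polynomial -/
noncomputable def D : k[X] := X * (X - 1)

lemma ι_D : ι (k := k) D = RatFunc.X * (RatFunc.X - 1) := by
  simp [D]

lemma ι_D_ne : ι (k := k) D ≠ 0 := by
  rw [ι_D]; exact mul_ne_zero x_ne x1_ne

/-- the numerator polynomial of `j/256` -/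
noncomputable def A : k[X] := X ^ 2 - X + 1

lemma ι_A : ι (k := k) A = RatFunc.X ^ 2 - RatFunc.X + 1 := by
  simp [A]

lemma map_ι (φ : RatFunc k ≃ₐ[k] RatFunc k) (f : k[X]) :
    φ (ι f) = aeval (φ RatFunc.X) f := by
  have : (φ : RatFunc k →ₐ[k] RatFunc k).comp (IsScalarTower.toAlgHom k k[X] (RatFunc k))
      = aeval (φ RatFunc.X) := by
    apply Polynomial.algHom_ext
    simp
  exact DFunLike.congr_fun this f

lemma ι_eq_aeval (f : k[X]) : ι f = aeval (RatFunc.X : RatFunc k) f := by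
  have := Polynomial.aeval_algebraMap_apply (A := k[X]) (B := RatFunc k) (X : k[X]) f
  rw [aeval_X_left_apply, RatFunc.algebraMap_X] at this
  exact this.symm

lemma aeval_inv_mul_pow (f : k[X]) (M : ℕ) (hM : f.natDegree ≤ M) :
    aeval (RatFunc.X : RatFunc k)⁻¹ f * RatFunc.X ^ M = ι (reflect M f) := by
  let _ : Invertible (RatFunc.X : RatFunc k) := invertibleOfNonzero x_ne
  have h := eval₂_reflect_mul_pow (algebraMap k (RatFunc k)) (RatFunc.X : RatFunc k) M
    (reflect M f) (by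
      rw [natDegree_le_iff_coeff_eq_zero]
      intro n hn
      rw [coeff_reflect, revAt_eq_self_of_lt hn]
      exact coeff_eq_zero_of_natDegree_lt (lt_of_le_of_lt hM hn))
  rw [reflect_reflect] at h
  rw [ι_eq_aeval, aeval_def, aeval_def, ← h, invOf_eq_inv]

/-- consequence of `σ`-invariance, as a polynomial identity -/
lemma sigma_rel (σ : RatFunc k ≃ₐ[k] RatFunc k)
    (hσ : σ RatFunc.X = (RatFunc.X : RatFunc k)⁻¹)
    (b : RatFunc k) (f : k[X]) (N : ℕ) (hb : b * ι D ^ N = ι f) (hinv : σ b = b)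
    (M : ℕ) (hM : f.natDegree ≤ M) :
    f * C ((-1 : k) ^ N) * X ^ M = reflect M f * X ^ (3 * N) := by
  apply ι_inj
  have h1 := congrArg σ hb
  rw [map_mul, map_pow, hinv, map_ι, map_ι, hσ] at h1
  have hD : aeval (RatFunc.X : RatFunc k)⁻¹ (D : k[X]) = RatFunc.X⁻¹ * (RatFunc.X⁻¹ - 1) := by
    simp [D]
  rw [hD] at h1
  have h2 := aeval_inv_mul_pow f M hM
  simp only [map_mul, map_pow, map_neg, map_one, ι_X]
  rw [← h2, ← h1, ← hb, ι_D]
  have hx := x_ne (k := k)
  have hx1 := x1_ne (k := k)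
  have key : ((RatFunc.X : RatFunc k)⁻¹ * (RatFunc.X⁻¹ - 1)) * RatFunc.X ^ 3
      = (RatFunc.X * (RatFunc.X - 1)) * (-1) := by
    field_simp
    ring
  rw [pow_mul]
  calc b * (RatFunc.X * (RatFunc.X - 1)) ^ N * (-1) ^ N * RatFunc.X ^ M
      = b * ((RatFunc.X * (RatFunc.X - 1)) * (-1)) ^ N * RatFunc.X ^ M := by
        rw [mul_pow (RatFunc.X * (RatFunc.X - 1)) (-1) N]; ring
    _ = b * (((RatFunc.X : RatFunc k)⁻¹ * (RatFunc.X⁻¹ - 1)) * RatFunc.X ^ 3) ^ N
          * RatFunc.X ^ M := by rw [key]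
    _ = _ := by
        rw [mul_pow ((RatFunc.X : RatFunc k)⁻¹ * (RatFunc.X⁻¹ - 1)) (RatFunc.X ^ 3) N]; ring

lemma sigma_cons (σ : RatFunc k ≃ₐ[k] RatFunc k)
    (hσ : σ RatFunc.X = (RatFunc.X : RatFunc k)⁻¹)
    (b : RatFunc k) (f : k[X]) (N : ℕ) (hb : b * ι D ^ N = ι f) (hinv : σ b = b) :
    f.natDegree ≤ 3 * N ∧ f.coeff (3 * N) = f.coeff 0 * (-1) ^ N := by
  have h := sigma_rel σ hσ b f N hb hinv (f.natDegree + 3 * N) (Nat.le_add_right _ _)
  rw [pow_add, ← mul_assoc] at h
  have E : f * C ((-1 : k) ^ N) * X ^ f.natDegree = reflect (f.natDegree + 3 * N) f :=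
    mul_right_cancel₀ (pow_ne_zero _ X_ne_zero) h
  have hco : ∀ j, (if f.natDegree ≤ j then f.coeff (j - f.natDegree) * (-1) ^ N else 0)
      = f.coeff (revAt (f.natDegree + 3 * N) j) := by
    intro j
    have := congrArg (fun p => coeff p j) E
    simp only [coeff_mul_X_pow', coeff_mul_C, coeff_reflect] at this
    exact this
  have hd : f.natDegree ≤ 3 * N := by
    by_cases hf : f = 0
    · simp [hf]
    by_contra hlt
    have h3 := hco (3 * N)
    rw [if_neg hlt, revAt_le (Nat.le_add_left _ _), Nat.add_sub_cancel] at h3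
    exact hf (leadingCoeff_eq_zero.mp h3.symm)
  refine ⟨hd, ?_⟩
  have h3 := hco f.natDegree
  rw [if_pos le_rfl, Nat.sub_self, revAt_le (Nat.le_add_right _ _), Nat.add_sub_cancel_left] at h3
  exact h3.symm

/-- consequence of `τ`-invariance -/
lemma tau_rel (τ : RatFunc k ≃ₐ[k] RatFunc k)
    (hτ : τ RatFunc.X = 1 - (RatFunc.X : RatFunc k))
    (b : RatFunc k) (f : k[X]) (N : ℕ) (hb : b * ι D ^ N = ι f) (hinv : τ b = b) :
    f.comp (1 - X) = f := by
  apply ι_inj
  have h1 := congrArg τ hb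
  rw [map_mul, map_pow, hinv, map_ι, map_ι, hτ] at h1
  have hD : aeval (1 - RatFunc.X : RatFunc k) (D : k[X]) = ι D := by
    rw [ι_D]; simp [D]; ring
  rw [hD, hb] at h1
  rw [h1, ι_eq_aeval, aeval_comp]
  simp

/-- the `j`-function -/
noncomputable def jr : RatFunc k :=
  (256 : RatFunc k) * ((RatFunc.X : RatFunc k) ^ 2 - RatFunc.X + 1) ^ 3 /
        ((RatFunc.X : RatFunc k) ^ 2 * ((RatFunc.X : RatFunc k) - 1) ^ 2)

lemma jr_mul : jr (k := k) * ι D ^ 2 = ι (C 256 * A ^ 3) := by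
  have hx := x_ne (k := k)
  have hx1 := x1_ne (k := k)
  have h256 : ι (k := k) (C 256) = 256 := by
    rw [RatFunc.algebraMap_C]
    exact map_ofNat (RatFunc.C (K := k)) 256
  rw [map_mul, map_pow, ι_A, ι_D, h256, jr]
  field_simp

lemma sigma_jr (σ : RatFunc k ≃ₐ[k] RatFunc k)
    (hσ : σ RatFunc.X = (RatFunc.X : RatFunc k)⁻¹) : σ jr = jr := by
  have hx := x_ne (k := k)
  have hx1 := x1_ne (k := k)
  have hx2 : (1 : RatFunc k) - RatFunc.X ≠ 0 := by
    intro h; apply hx1; rw [← neg_sub, h, neg_zero]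
  have h256 : σ (256 : RatFunc k) = 256 := by
    rw [show (256 : RatFunc k) = ((256 : ℕ) : RatFunc k) by simp, map_natCast]
  simp only [jr, map_div₀, map_mul, map_pow, map_sub, map_add, map_one, hσ, h256]
  field_simp
  ring

lemma tau_jr (τ : RatFunc k ≃ₐ[k] RatFunc k)
    (hτ : τ RatFunc.X = 1 - (RatFunc.X : RatFunc k)) : τ jr = jr := by
  have hx := x_ne (k := k)
  have hx1 := x1_ne (k := k)
  have hx2 : (1 : RatFunc k) - RatFunc.X ≠ 0 := by
    intro h; apply hx1; rw [← neg_sub, h, neg_zero]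
  have h256 : τ (256 : RatFunc k) = 256 := by
    rw [show (256 : RatFunc k) = ((256 : ℕ) : RatFunc k) by simp, map_natCast]
  simp only [jr, map_div₀, map_mul, map_pow, map_sub, map_add, map_one, hτ, h256]
  rw [show (1 : RatFunc k) - RatFunc.X - 1 = -RatFunc.X by ring]
  field_simp
  ring

lemma exists_rep (b : RatFunc k)
    (hb : b ∈ Algebra.adjoin k ({RatFunc.X, (RatFunc.X : RatFunc k)⁻¹,
      ((RatFunc.X : RatFunc k) - 1)⁻¹} : Set (RatFunc k))) :
    ∃ (f : k[X]) (N : ℕ), b * ι D ^ N = ι f := by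
  have hx := x_ne (k := k)
  have hx1 := x1_ne (k := k)
  induction hb using Algebra.adjoin_induction with
  | mem x hx' =>
    rcases hx' with rfl | rfl | rfl
    · exact ⟨X, 0, by simp⟩
    · refine ⟨X - 1, 1, ?_⟩
      rw [pow_one, ι_D, map_sub, map_one, ι_X]
      field_simp
    · refine ⟨X, 1, ?_⟩
      rw [pow_one, ι_D, ι_X]
      field_simp
  | algebraMap r =>
    refine ⟨C r, 0, ?_⟩
    rw [pow_zero, mul_one]
    exact (RatFunc.algebraMap_C r).symm
  | add x y _ _ hx' hy' =>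
    obtain ⟨f1, N1, h1⟩ := hx'
    obtain ⟨f2, N2, h2⟩ := hy'
    refine ⟨f1 * D ^ N2 + f2 * D ^ N1, N1 + N2, ?_⟩
    rw [map_add, map_mul, map_mul, map_pow, map_pow, ← h1, ← h2, pow_add]
    ring
  | mul x y _ _ hx' hy' =>
    obtain ⟨f1, N1, h1⟩ := hx'
    obtain ⟨f2, N2, h2⟩ := hy'
    refine ⟨f1 * f2, N1 + N2, ?_⟩
    rw [map_mul, ← h1, ← h2, pow_add]
    ring

/-- the target subalgebra -/
noncomputable abbrev J : Subalgebra k (RatFunc k) := Algebra.adjoin k {jr}

lemma jr_mem : jr (k := k) ∈ J := Algebra.subset_adjoin rfl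

lemma natDegree_q : ((1 : k[X]) - X).natDegree = 1 := by
  have : (1 : k[X]) - X = C (-1) * X + C 1 := by simp; ring
  rw [this]; exact natDegree_linear (by simp)

lemma leadingCoeff_q : ((1 : k[X]) - X).leadingCoeff = -1 := by
  have : (1 : k[X]) - X = C (-1) * X + C 1 := by simp; ring
  rw [this]; exact leadingCoeff_linear (by simp)

theorem main (h2 : (2 : k) ≠ 0) (σ τ : RatFunc k ≃ₐ[k] RatFunc k)
    (hσ : σ RatFunc.X = (RatFunc.X : RatFunc k)⁻¹)
    (hτ : τ RatFunc.X = 1 - (RatFunc.X : RatFunc k)) :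
    ∀ (N : ℕ) (f : k[X]) (b : RatFunc k), b * ι D ^ N = ι f → σ b = b → τ b = b → b ∈ J := by
  intro N
  induction N with
  | zero =>
    intro f b hb hs ht
    obtain ⟨hd, -⟩ := sigma_cons σ hσ b f 0 hb hs
    rw [pow_zero, mul_one] at hb
    have hf : f = C (f.coeff 0) := eq_C_of_natDegree_le_zero (by simpa using hd)
    rw [hb, hf, RatFunc.algebraMap_C]
    exact Subalgebra.algebraMap_mem _ _
  | succ N IH =>
    have step1 : ∀ (f : k[X]) (b : RatFunc k), b * ι D ^ (N + 1) = ι f → σ b = b → τ b = b →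
        f.coeff 0 = 0 → b ∈ J := by
      intro f b hb hs ht h0
      have hτf := tau_rel τ hτ b f (N + 1) hb ht
      have hX : X ∣ f := X_dvd_iff.mpr h0
      have hX1 : (X - 1) ∣ f := by
        have h1 : f.eval 1 = 0 := by
          rw [← hτf, eval_comp]
          simp [← coeff_zero_eq_eval_zero, h0]
        have := dvd_iff_isRoot.mpr h1
        simpa using this
      have hcop : IsCoprime (X : k[X]) (X - 1) := ⟨1, -1, by ring⟩
      obtain ⟨g, hg⟩ := hcop.mul_dvd hX hX1
      apply IH g b _ hs ht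
      have : b * ι D ^ N * ι D = ι g * ι D := by
        rw [mul_assoc, ← pow_succ, hb, hg, map_mul, mul_comm]
        rfl
      exact mul_right_cancel₀ ι_D_ne this
    intro f b hb hs ht
    by_cases h0 : f.coeff 0 = 0
    · exact step1 f b hb hs ht h0
    obtain ⟨hd, hc⟩ := sigma_cons σ hσ b f (N + 1) hb hs
    have hτf := tau_rel τ hτ b f (N + 1) hb ht
    have heven : Even (N + 1) := by
      by_contra hodd
      rw [Nat.not_even_iff_odd] at hodd
      have hc' : f.coeff (3 * (N + 1)) = - f.coeff 0 := by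
        rw [hc, hodd.neg_one_pow]; ring
      have hne : f.coeff (3 * (N + 1)) ≠ 0 := by
        rw [hc']; exact neg_ne_zero.mpr h0
      have hnd : f.natDegree = 3 * (N + 1) := le_antisymm hd (le_natDegree_of_ne_zero hne)
      have hlc := congrArg leadingCoeff hτf
      have hodd3 : Odd (3 * (N + 1)) := Odd.mul (by decide) hodd
      rw [leadingCoeff_comp (by rw [natDegree_q]; exact one_ne_zero), leadingCoeff_q, hnd,
        hodd3.neg_one_pow] at hlc
      have hl0 : f.leadingCoeff ≠ 0 := by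
        rw [leadingCoeff, hnd]; exact hne
      have : (2 : k) * f.leadingCoeff = 0 := by
        linear_combination (-1 : k) * hlc
      rcases mul_eq_zero.mp this with h | h
      · exact h2 h
      · exact hl0 h
    obtain ⟨M, hM⟩ := heven
    have h256 : (256 : k) ≠ 0 := by
      have : (256 : k) = 2 ^ 8 := by norm_num
      rw [this]; exact pow_ne_zero _ h2
    set c : k := f.coeff 0 / 256 ^ M with hcdef
    have hb' : (b - algebraMap k (RatFunc k) c * jr ^ M) * ι D ^ (N + 1)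
        = ι (f - C c * (C 256 * A ^ 3) ^ M) := by
      rw [sub_mul, hb, map_sub, map_mul, map_pow, ← jr_mul, RatFunc.algebraMap_C, hM,
        ← two_mul, pow_mul, mul_pow, mul_assoc]
      rfl
    have hmem : b - algebraMap k (RatFunc k) c * jr ^ M ∈ J := by
      refine step1 _ _ hb' ?_ ?_ ?_
      · rw [map_sub, map_mul, map_pow, hs, sigma_jr σ hσ, AlgEquiv.commutes]
      · rw [map_sub, map_mul, map_pow, ht, tau_jr τ hτ, AlgEquiv.commutes]
      · have h256' : (256 : k) ^ M ≠ 0 := pow_ne_zero _ h256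
        simp only [coeff_zero_eq_eval_zero, eval_sub, eval_mul, eval_pow, eval_C, A, eval_add,
          eval_X, eval_one]
        rw [hcdef, coeff_zero_eq_eval_zero]
        field_simp
        ring
    have hbb : b = (b - algebraMap k (RatFunc k) c * jr ^ M)
        + algebraMap k (RatFunc k) c * jr ^ M := by ring
    rw [hbb]
    exact add_mem hmem (mul_mem (Subalgebra.algebraMap_mem _ _) (pow_mem jr_mem _))

lemma jr_mem_B : jr (k := k) ∈ Algebra.adjoin k ({RatFunc.X, (RatFunc.X : RatFunc k)⁻¹,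
      ((RatFunc.X : RatFunc k) - 1)⁻¹} : Set (RatFunc k)) := by
  set B := Algebra.adjoin k ({RatFunc.X, (RatFunc.X : RatFunc k)⁻¹,
      ((RatFunc.X : RatFunc k) - 1)⁻¹} : Set (RatFunc k))
  have hX : (RatFunc.X : RatFunc k) ∈ B := Algebra.subset_adjoin (by simp)
  have hXi : (RatFunc.X : RatFunc k)⁻¹ ∈ B := Algebra.subset_adjoin (by simp)
  have hX1i : ((RatFunc.X : RatFunc k) - 1)⁻¹ ∈ B := Algebra.subset_adjoin (by simp)
  have h256 : (256 : RatFunc k) ∈ B := by
    have : (256 : RatFunc k) = algebraMap k (RatFunc k) 256 := (map_ofNat _ 256).symm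
    rw [this]; exact Subalgebra.algebraMap_mem _ _
  have e : jr (k := k) = 256 * ((RatFunc.X : RatFunc k) ^ 2 - RatFunc.X + 1) ^ 3
      * ((RatFunc.X : RatFunc k)⁻¹) ^ 2 * (((RatFunc.X : RatFunc k) - 1)⁻¹) ^ 2 := by
    rw [jr, div_eq_mul_inv, mul_inv, inv_pow, inv_pow]
    ring
  rw [e]
  exact mul_mem (mul_mem (mul_mem h256 (pow_mem (add_mem (sub_mem (pow_mem hX 2) hX)
    (one_mem _)) 3)) (pow_mem hXi 2)) (pow_mem hX1i 2)

end aux

/-- The algebraic step of its proof: Fix an algebraically closed field k whose characteristic is neither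
2 nor 3, let B ⊆ k(λ) be the k-subalgebra generated by λ, λ⁻¹ and (λ - 1)⁻¹ (the coordinate ring of
the λ-line with 0 and 1 removed), and let σ and τ be the k-algebra automorphisms of k(λ) determined
by σ(λ) = λ⁻¹ and τ(λ) = 1 - λ (they generate the group of order six permuting λ, 1/λ, 1-λ, 1/(1-λ),
λ/(λ-1), (λ-1)/λ). Then the elements of B fixed by σ and τ are exactly the elements of the
k-subalgebra generated by j = 256 (λ² - λ + 1)³ / (λ² (λ - 1)²); in other words the ring of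
invariants of B is the polynomial ring k[j]. -/
theorem result (k : Type u) [Field k] [IsAlgClosed k]
    (h2 : (2 : k) ≠ 0) (h3 : (3 : k) ≠ 0)
    (σ τ : RatFunc k ≃ₐ[k] RatFunc k) (hσ : σ RatFunc.X = (RatFunc.X : RatFunc k)⁻¹)
    (hτ : τ RatFunc.X = 1 - (RatFunc.X : RatFunc k)) (b : RatFunc k) :
    (b ∈ Algebra.adjoin k ({RatFunc.X, (RatFunc.X : RatFunc k)⁻¹, ((RatFunc.X : RatFunc k) - 1)⁻¹} : Set (RatFunc k)) ∧
        σ b = b ∧ τ b = b) ↔
      b ∈ Algebra.adjoin k ({(256 : RatFunc k) * ((RatFunc.X : RatFunc k) ^ 2 - RatFunc.X + 1) ^ 3 /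
        ((RatFunc.X : RatFunc k) ^ 2 * ((RatFunc.X : RatFunc k) - 1) ^ 2)} : Set (RatFunc k)) := by
  constructor
  · rintro ⟨hB, hs, ht⟩
    obtain ⟨f, N, hf⟩ := exists_rep b hB
    exact main h2 σ τ hσ hτ N f b hf hs ht
  · intro hb
    induction hb using Algebra.adjoin_induction with
    | mem x hx =>
      rw [Set.mem_singleton_iff] at hx
      have hx' : x = jr := hx
      rw [hx']
      exact ⟨jr_mem_B, sigma_jr σ hσ, tau_jr τ hτ⟩
    | algebraMap r =>
      exact ⟨Subalgebra.algebraMap_mem _ _, AlgEquiv.commutes _ _, AlgEquiv.commutes _ _⟩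
    | add x y _ _ hx hy =>
      exact ⟨add_mem hx.1 hy.1, by rw [map_add, hx.2.1, hy.2.1], by rw [map_add, hx.2.2, hy.2.2]⟩
    | mul x y _ _ hx hy =>
      exact ⟨mul_mem hx.1 hy.1, by rw [map_mul, hx.2.1, hy.2.1], by rw [map_mul, hx.2.2, hy.2.2]⟩

end Groth.Agent.S11470
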