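import Groth.Statements.S1148
import Mathlib.RingTheory.LocalRing.ResidueField.Fiber
import Mathlib.RingTheory.Ideal.GoingDown
import Mathlib.RingTheory.Ideal.MinimalPrime.Noetherian
import Mathlib.RingTheory.FiniteStability

set_option autoImplicit false
universe u
open Desc

namespace Groth.Agent.S1148

section
variable (A B : Type u) [CommRing A] [CommRing B] [Algebra A B]

/-- the set of minimal primes, as points of the spectrum -/
def minPts (R : Type u) [CommRing R] : Set (PrimeSpectrum R) :=
  {q | q.asIdeal ∈ minimalPrimes R}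

lemma minimalPrimes_eq_image (R : Type u) [CommRing R] :
    minimalPrimes R = PrimeSpectrum.asIdeal '' minPts R := by
  ext I
  constructor
  · intro hI
    exact ⟨⟨I, hI.1.1⟩, hI, rfl⟩
  · rintro ⟨q, hq, rfl⟩
    exact hq

lemma minPts_finite_iff (R : Type u) [CommRing R] :
    (minPts R).Finite ↔ (minimalPrimes R).Finite := by
  rw [minimalPrimes_eq_image]
  constructor
  · intro h
    exact h.image _
  · intro h
    refine Set.Finite.of_finite_image h ?_
    intro x _ y _ hxy
    exact PrimeSpectrum.ext hxy

lemma irred_finite_iff (R : Type u) [CommRing R] :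
    (irreducibleComponents (PrimeSpectrum R)).Finite ↔ (minimalPrimes R).Finite := by
  have e := (minimalPrimes.equivIrreducibleComponents R).toEquiv
  constructor
  · intro h
    have : Finite (irreducibleComponents (PrimeSpectrum R)) := h
    have : Finite ((irreducibleComponents (PrimeSpectrum R))ᵒᵈ) := this
    have h3 : Finite (minimalPrimes R) := Finite.of_equiv _ e.symm
    exact Set.toFinite (minimalPrimes R)
  · intro h
    have : Finite (minimalPrimes R) := h
    have : Finite ((irreducibleComponents (PrimeSpectrum R))ᵒᵈ) := Finite.of_equiv _ e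
    exact (this : Finite (irreducibleComponents (PrimeSpectrum R)))

end

/-- Affine form (finiteness of irreducible components of quasi-compact opens is fppf local; this is the
ascent direction for a morphism of affine schemes). Let A → B be a flat ring map of finite
presentation. If Spec A has finitely many irreducible components, then so does Spec B. -/
theorem result (A B : Type u) [CommRing A] [CommRing B] [Algebra A B]
    [Module.Flat A B] [Algebra.FinitePresentation A B] (h : (irreducibleComponents (PrimeSpectrum A)).Finite) :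
    (irreducibleComponents (PrimeSpectrum B)).Finite := by
  rw [irred_finite_iff, ← minPts_finite_iff] at h ⊢
  have hfib : ∀ p : PrimeSpectrum A, (minPts (p.asIdeal.Fiber B)).Finite := by
    intro p
    rw [minPts_finite_iff]
    have : Algebra.FiniteType p.asIdeal.ResidueField (p.asIdeal.Fiber B) := inferInstance
    have : IsNoetherianRing (p.asIdeal.Fiber B) :=
      Algebra.FiniteType.isNoetherianRing p.asIdeal.ResidueField _
    exact minimalPrimes.finite_of_isNoetherianRing _
  have key : minPts B ⊆ ⋃ p ∈ minPts A,
      (fun Q => ((PrimeSpectrum.preimageOrderIsoFiber A B p).symm Q).1) '' minPts (p.asIdeal.Fiber B) := by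
    intro q hq
    set p : PrimeSpectrum A := PrimeSpectrum.comap (algebraMap A B) q with hp
    have hpmin : p ∈ minPts A := by
      refine ⟨⟨p.2, bot_le⟩, ?_⟩
      rintro p' ⟨hp'prime, -⟩ hle
      have := hp'prime
      have : q.asIdeal.LiesOver p.asIdeal := ⟨rfl⟩
      obtain ⟨P, hPq, hPprime, hPover⟩ :=
        Ideal.exists_ideal_le_liesOver_of_le (p := p') (q := p.asIdeal) q.asIdeal hle
      have hPeq : q.asIdeal ≤ P := hq.2 ⟨hPprime, bot_le⟩ hPq
      have : P = q.asIdeal := le_antisymm hPq hPeq
      subst this
      rw [hPover.over]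
      exact le_of_eq rfl
    simp only [Set.mem_iUnion, Set.mem_image, exists_prop]
    refine ⟨p, hpmin, PrimeSpectrum.preimageOrderIsoFiber A B p ⟨q, rfl⟩, ?_, by simp⟩
    refine ⟨⟨(PrimeSpectrum.preimageOrderIsoFiber A B p ⟨q, rfl⟩).2, bot_le⟩, ?_⟩
    rintro Q' ⟨hQ'prime, -⟩ hle
    set Q'' : PrimeSpectrum (p.asIdeal.Fiber B) := ⟨Q', hQ'prime⟩
    have h1 : Q'' ≤ PrimeSpectrum.preimageOrderIsoFiber A B p ⟨q, rfl⟩ := hle
    have h2 : (PrimeSpectrum.preimageOrderIsoFiber A B p).symm Q'' ≤ ⟨q, rfl⟩ := by
      rw [OrderIso.symm_apply_le]; exact h1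
    have h3 : q.asIdeal ≤ ((PrimeSpectrum.preimageOrderIsoFiber A B p).symm Q'').1.asIdeal :=
      hq.2 ⟨((PrimeSpectrum.preimageOrderIsoFiber A B p).symm Q'').1.2, bot_le⟩ h2
    have h4 : (⟨q, rfl⟩ : (PrimeSpectrum.comap (algebraMap A B)) ⁻¹' {p}) ≤
        (PrimeSpectrum.preimageOrderIsoFiber A B p).symm Q'' := h3
    have h5 : PrimeSpectrum.preimageOrderIsoFiber A B p ⟨q, rfl⟩ ≤ Q'' := by
      rw [← OrderIso.le_symm_apply]; exact h4
    exact h5
  refine Set.Finite.subset ?_ key
  exact Set.Finite.biUnion h (fun p _ => (hfib p).image _)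

end Groth.Agent.S1148
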