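import Groth.Statements.S11482
import Groth.Agent.Lib.CurveVB67R
import Groth.Agent.Lib.CurveVB67K
import Groth.Agent.Lib.CurvePoint54
import Groth.Agent.Lib.CurveH1Van54
import Groth.Agent.Lib.SmoothCurve67
import Groth.Agent.S0002
import Groth.Agent.S12632
import Mathlib
-- import your own Groth.Agent.* helpers here

set_option autoImplicit false
universe u
open CategoryTheory CategoryTheory.Limits AlgebraicGeometry
open Curves

namespace Groth.Agent.S11482

open Groth.Agent.Lib.CurveVB67 Groth.Agent.Lib.OXModTensor Groth.Agent.Lib.TwistEquiv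
open Groth.Agent.Lib.H90Invertible Groth.Agent.Lib.ProperFinHyp

lemma eq_zero_of_iso_comp {C : Type*} [Category C] [HasZeroMorphisms C] {A B C' D : C} (α : A ≅ B) (t : B ⟶ C')
    (β : C' ≅ D) (h : α.hom ≫ t ≫ β.hom = 0) : t = 0 := by
  have h1 : t ≫ β.hom = 0 := by rw [← cancel_epi α.hom, h, comp_zero]
  rw [← cancel_mono β.hom, h1, zero_comp]

section Helpers

variable (H : Hyp.{u}) (k : Type u) [Field k] [IsAlgClosed k] (X : Scheme.{u}) [X.Over (Spec (CommRingCat.of k))]
  [IsIntegral X] [IsProper (X ↘ Spec (CommRingCat.of k))]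
  (hpid : ∀ x : X, IsPrincipalIdealRing (X.presheaf.stalk x))

include hpid in
/-- invertible modules of every degree -/
theorem exists_invertible_deg (hdim : topologicalKrullDim X = 1) (m : ℤ) :
    ∃ M : X.Modules, PicF.IsInvertible M ∧ Curv2.deg k X M 1 = m := by
  obtain ⟨L₁, hL₁, hd₁⟩ := Groth.Agent.Lib.CurvePoint54.exists_invertible_deg_one k X hdim.le
    (Groth.Agent.Lib.CurvePoint54.goodPoints_of_pid k X hdim hpid)
  have key : ∀ n : ℕ, ∃ M : X.Modules, PicF.IsInvertible M ∧ Curv2.deg k X M 1 = (n : ℤ) := by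
    intro n
    refine ⟨CohB1.tensorPow L₁ n, Groth.Agent.Lib.OXModRestrict.isInvertible_tensorPow hL₁ n, ?_⟩
    rw [Groth.Agent.Lib.DegTensor13.deg_tensorPow k hdim.le hL₁ n, hd₁, mul_one]
  rcases Int.eq_nat_or_neg m with ⟨n, rfl | rfl⟩
  · exact key n
  · obtain ⟨M, hM, hd⟩ := key n
    obtain ⟨M', hM', ⟨e⟩⟩ := Groth.Agent.Lib.H78Dual.exists_tensor_inverse hM
    refine ⟨M', hM', ?_⟩
    rw [Groth.Agent.Lib.DegTensor13.deg_eq_neg_of_iso k hdim.le hM ⟨braiding M M' ≪≫ e⟩, hd]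

omit [IsAlgClosed k] [IsIntegral X] [IsProper (X ↘ Spec (CommRingCat.of k))] [X.Over (Spec (CommRingCat.of k))] in
theorem exists_hom_ne_zero_aux {A B E M : X.Modules} [(tensorRightFunctor M).IsEquivalence]
    (α : M ≅ CohB1.tensorMod A M) (β : CohB1.tensorMod B M ≅ E)
    (s : A ⟶ B) (hs : s ≠ 0) : ∃ f : M ⟶ E, f ≠ 0 := by
  refine ⟨α.hom ≫ (tensorRightFunctor M).map s ≫ β.hom, fun h0 => hs ?_⟩
  have h1 : (tensorRightFunctor M).map s = 0 := eq_zero_of_iso_comp α _ β h0
  exact (tensorRightFunctor M).map_injective (h1.trans (Functor.map_zero (tensorRightFunctor M) _ _).symm)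

omit [IsAlgClosed k] [IsIntegral X] [IsProper (X ↘ Spec (CommRingCat.of k))] [X.Over (Spec (CommRingCat.of k))] in
/-- a nonzero section of `E ⊗ M'` gives a nonzero map `M ⟶ E` when `M' ⊗ M ≅ O_X` -/
theorem exists_hom_ne_zero_of_section {E M M' : X.Modules} (e : CohB1.tensorMod M' M ≅ Coh.structureModule X)
    (s : Coh.structureModule X ⟶ CohB1.tensorMod E M') (hs : s ≠ 0) : ∃ f : M ⟶ E, f ≠ 0 := by
  have hT := isEquivalence_tensorRightFunctor (braiding M M' ≪≫ e)
  exact exists_hom_ne_zero_aux X (leftUnitor M).symm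
    (associator E M' M ≪≫ tensorModIso (Iso.refl E) e ≪≫ rightUnitor E) s hs

end Helpers

lemma arithA (dN dQ d g : ℤ) (hd : d = dN + dQ) (h : ¬ (2 * g - 1 ≤ -dQ + dN)) : 2 * dN ≤ d + 2 * g - 2 := by
  lia

lemma arithB (a b c gn : ℕ) (χ χO d g D : ℤ) (hχ : χ = (a : ℤ) - b) (hχO : χO = (c : ℤ) - gn) (hc : c = 1)
    (hg : g = (gn : ℤ)) (hdef : D = χ - ((2 : ℕ) : ℤ) * χO)
    (hD : D = d + ((2 : ℕ) : ℤ) * (-((d + 1 - 2 * g) / 2))) : 0 < a := by
  subst hc hg
  push_cast at hdef hD hχO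
  omega

lemma arithC (d g : ℤ) : d - 2 * g ≤ 2 * ((d + 1 - 2 * g) / 2) := by omega


/-- Fix an algebraically closed field k and a nonsingular projective curve X over k of genus g (smooth,
proper, integral, of dimension one, g = dim H¹(X, O_X)) and E a locally free sheaf of rank 2 and
degree d (degree = χ(E) − 2χ(O_X)) that is indecomposable: in any decomposition E ≅ E₁ ⊕ E₂ one
summand is zero. Then (a) every invertible subsheaf L ⊆ E has 2·deg L ≤ d + 2g − 2, and (b) there is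
an invertible subsheaf L ⊆ E with d − 2g ≤ 2·deg L. (The published statement is that indecomposable
bundles of fixed rank and degree form a bounded family; this row states, in rank two, the degree
bounds for invertible subsheaves on which its proof rests.) -/
theorem result (k : Type u) [Field k] [IsAlgClosed k]
    (X : Scheme.{u}) [X.Over (Spec (CommRingCat.of k))] (hX : Curve.IsSmoothProperCurve k X (X ↘ Spec (CommRingCat.of k)))
    (E : X.Modules) (hE : FlatMod.IsFinLocFreeOfRank 2 E)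
    (hind : ∀ (E₁ E₂ : X.Modules), Nonempty (E ≅ E₁ ⊞ E₂) → IsZero E₁ ∨ IsZero E₂) :
    (∀ (L : X.Modules) (ι : L ⟶ E), PicF.IsInvertible L → Mono ι →
        2 * Curv2.deg k X L 1 ≤ Curv2.deg k X E 2 + 2 * (Curv2.genus k X : ℤ) - 2) ∧
      ∃ (L : X.Modules) (ι : L ⟶ E), PicF.IsInvertible L ∧ Mono ι ∧
        Curv2.deg k X E 2 - 2 * (Curv2.genus k X : ℤ) ≤ 2 * Curv2.deg k X L 1 := by
  obtain ⟨hprop, hsm, hint, hdim⟩ := hX
  have hpid := Groth.Agent.Lib.SmoothCurve67.isPrincipalIdealRing_stalk_of_smooth k X (le_of_eq hdim)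
  have H : Groth.Agent.Lib.ProperFinHyp.Hyp.{u} :=
    fun A _ _ X _ _ M hM n => Groth.Agent.S0002.result A X M hM n
  have h0O := Groth.Agent.Lib.CurveH1Van54.finrank_H0_structure_eq_one H k X
  have hne : Nonempty X := ⟨genericPoint X⟩
  constructor
  · intro L ι hL hι
    obtain ⟨N, g, hgm, hN, hQlf, hdeg⟩ :=
      Groth.Agent.Lib.CurveMaxSub.exists_saturated H k X hpid hdim hL hE ι
    have hN1 : FlatMod.IsFinLocFreeOfRank 1 N := (isInvertible_iff_isFinLocFreeOfRank_one N).mp hN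
    have hQ1 : FlatMod.IsFinLocFreeOfRank 1 (cokernel g) := hQlf
    have hQ : PicF.IsInvertible (cokernel g) := (isInvertible_iff_isFinLocFreeOfRank_one _).mpr hQ1
    have hS : (ShortComplex.mk g (cokernel.π g) (cokernel.condition g)).ShortExact :=
      { exact := ShortComplex.exact_cokernel g }
    have hadd : Curv2.deg k X E 2 = Curv2.deg k X N 1 + Curv2.deg k X (cokernel g) 1 :=
      deg_add H k X _ hS (isCoh_of_rank hN1) (isCoh_of_rank hE) (isCoh_of_rank hQ1) 1 2 1 rfl
    obtain ⟨Q', hQ', ⟨e⟩⟩ := Groth.Agent.Lib.H78Dual.exists_tensor_inverse hQ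
    have hQ'1 : FlatMod.IsFinLocFreeOfRank 1 Q' := (isInvertible_iff_isFinLocFreeOfRank_one Q').mp hQ'
    have hnsplit : ¬ IsSplitEpi (cokernel.π g) := by
      intro hsp
      obtain ⟨⟨s, hs⟩⟩ := hsp
      let sp := ShortComplex.Splitting.ofExactOfSection _ hS.exact s hs hS.mono_f
      rcases hind N (cokernel g) ⟨sp.isoBinaryBiproduct⟩ with hz | hz
      · exact Groth.Agent.Lib.CurveVB54.not_isZero_of_isInvertible hN hz
      · exact Groth.Agent.Lib.CurveVB54.not_isZero_of_isInvertible hQ hz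
    have hH1 : ¬ Subsingleton (Coh.HH X (CohB1.tensorMod Q' N) 1) := fun h1 =>
      hnsplit (Groth.Agent.S12632.isSplitEpi_of_subsingleton X
        (ShortComplex.mk g (cokernel.π g) (cokernel.condition g)) hS Q' e h1)
    have hQN1 : FlatMod.IsFinLocFreeOfRank 1 (CohB1.tensorMod Q' N) := isFinLocFreeOfRank_twist hQ'1 hN
    have hQN : PicF.IsInvertible (CohB1.tensorMod Q' N) := (isInvertible_iff_isFinLocFreeOfRank_one _).mpr hQN1
    have hdQN : Curv2.deg k X (CohB1.tensorMod Q' N) 1 =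
        - Curv2.deg k X (cokernel g) 1 + Curv2.deg k X N 1 := by
      rw [deg_twist H k X hdim.le hQ'1 hN,
        Groth.Agent.Lib.DegTensor13.deg_eq_neg_of_iso k hdim.le hQ ⟨braiding (cokernel g) Q' ≪≫ e⟩]
      push_cast
      ring
    have hnot : ¬ (2 * (Curv2.genus k X : ℤ) - 1 ≤ - Curv2.deg k X (cokernel g) 1 + Curv2.deg k X N 1) := by
      intro hge
      exact hH1 (Groth.Agent.Lib.CurveH1Van54.subsingleton_H1_of_deg_ge H k X hdim.le hQN h0O (by rw [hdQN]; exact hge))
    have := arithA _ _ _ _ hadd hnot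
    lia
  · obtain ⟨M, hM, hdM⟩ := exists_invertible_deg k X hpid hdim
      ((Curv2.deg k X E 2 + 1 - 2 * (Curv2.genus k X : ℤ)) / 2)
    have hM1 : FlatMod.IsFinLocFreeOfRank 1 M := (isInvertible_iff_isFinLocFreeOfRank_one M).mp hM
    obtain ⟨M', hM', ⟨e⟩⟩ := Groth.Agent.Lib.H78Dual.exists_tensor_inverse hM
    have hEM : FlatMod.IsFinLocFreeOfRank 2 (CohB1.tensorMod E M') := isFinLocFreeOfRank_twist hE hM'
    have hEMc : Coh.IsCoh (CohB1.tensorMod E M') := isCoh_of_rank hEM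
    have hq : (CohB1.tensorMod E M').IsQuasicoherent := hEMc.1
    have hdEM : Curv2.deg k X (CohB1.tensorMod E M') 2 = Curv2.deg k X E 2 + ((2 : ℕ) : ℤ) *
        (- ((Curv2.deg k X E 2 + 1 - 2 * (Curv2.genus k X : ℤ)) / 2)) := by
      rw [deg_twist H k X hdim.le hE hM',
        Groth.Agent.Lib.DegTensor13.deg_eq_neg_of_iso k hdim.le hM ⟨braiding M M' ≪≫ e⟩, hdM]
    have hO : (Coh.structureModule X).IsQuasicoherent :=
      (isCoh_of_isInvertible (isInvertible_structureModule X)).1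
    have hχO := Groth.Agent.Lib.RiemannRoch54.euler_eq_sub k X hdim.le (Coh.structureModule X)
    have hχ := Groth.Agent.Lib.RiemannRoch54.euler_eq_sub k X hdim.le (CohB1.tensorMod E M')
    have hpos : 0 < Module.finrank k (Coh.HH X (CohB1.tensorMod E M') 0) :=
      arithB _ _ _ _ _ _ _ _ _ hχ hχO h0O rfl rfl hdEM
    have hnsub : ¬ Subsingleton (Coh.HH X (CohB1.tensorMod E M') 0) := by
      intro hsub
      rw [Module.finrank_zero_of_subsingleton] at hpos
      exact lt_irrefl _ hpos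
    obtain ⟨s, hs⟩ := exists_hom_ne_zero_of_nontrivial_H0 X _ hnsub
    obtain ⟨f, hf⟩ := exists_hom_ne_zero_of_section X e s hs
    have hfm : Mono f := Groth.Agent.Lib.CurveMaxSub.mono_of_ne_zero k X hpid hM hE f hf
    refine ⟨M, f, hM, hfm, ?_⟩
    rw [hdM]
    exact arithC _ _

end Groth.Agent.S11482
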