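import Groth.Statements.S11483
import Groth.Agent.Lib.StableEnd
import Groth.Agent.Lib.SmoothCurve67
import Groth.Agent.S0002

set_option autoImplicit false
universe u
open CategoryTheory CategoryTheory.Limits AlgebraicGeometry
open Curves

namespace Groth.Agent.S11483

/-- Stable bundles are simple. Let X be a nonsingular projective curve over an algebraically closed
field k (smooth, proper, integral, of dimension one) and E a locally free sheaf of rank r on X which
is stable: every locally free subsheaf G of rank s with 0 < s < r has deg G · r < deg E · s (degrees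
computed as χ − rank·χ(O_X)). Then every nonzero endomorphism of E is an isomorphism. (The published
statement concludes that the endomorphisms of E are exactly the scalars; over the algebraically
closed field k this is equivalent, the endomorphism ring being a finite-dimensional division
algebra, and the form stated here avoids the k-linear structure on endomorphisms.) -/
theorem result (k : Type u) [Field k] [IsAlgClosed k] (X : Scheme.{u})
    [X.Over (Spec (CommRingCat.of k))] (hX : Curve.IsSmoothProperCurve k X (X ↘ Spec (CommRingCat.of k))) (r : ℕ)
    (E : X.Modules) (hE : FlatMod.IsFinLocFreeOfRank r E)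
    (hst : ∀ (G : X.Modules) (s : ℕ) (ι : G ⟶ E), Mono ι → FlatMod.IsFinLocFreeOfRank s G → 0 < s → s < r →
      Curv2.deg k X G s * (r : ℤ) < Curv2.deg k X E r * (s : ℤ))
    (φ : E ⟶ E) (hφ : φ ≠ 0) : IsIso φ := by
  obtain ⟨h1, h2, h3, h4⟩ := hX
  haveI := h1
  haveI := h2
  haveI := h3
  have H : Groth.Agent.Lib.ProperFinHyp.Hyp.{u} :=
    fun A _ _ X _ _ M hM n => Groth.Agent.S0002.result A X M hM n
  have hpid := Groth.Agent.Lib.SmoothCurve67.isPrincipalIdealRing_stalk_of_smooth k X (le_of_eq h4)
  exact Groth.Agent.Lib.StableEnd.isIso_of_ne_zero H k X hpid hE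
    (Groth.Agent.Lib.StableEnd.notIso_form_of_lt_form H k X (le_of_eq h4) hE
      (fun G s ι hι hG hs hsr => hst G s ι hι hG hs hsr)) φ hφ

end Groth.Agent.S11483
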