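import Groth.Statements.S11484
import Groth.Agent.Lib.H4SplitTwist
import Groth.Agent.Lib.ProjSpaceFin
import Groth.Agent.Lib.H4ProjSpaceCoh
-- import your own Groth.Agent.* helpers here

set_option autoImplicit false
universe u
open VBPn

namespace Groth.Agent.S11484

open CategoryTheory CategoryTheory.Limits AlgebraicGeometry in
/-- Let k be an algebraically closed field of characteristic zero and n ≥ 2. On P^n_k every short exact
sequence of O-modules whose first term is isomorphic to O(a) and whose third term is isomorphic to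
O(b), for integers a and b, admits a splitting; in particular its middle term is isomorphic to O(a)
⊕ O(b). -/
theorem result (k : Type u) [Field k] [IsAlgClosed k] [CharZero k]
    (n : ℕ) (hn : 2 ≤ n) (a b : ℤ) (S : ShortComplex (CohB1.ProjSpace n k).Modules) (hS : S.ShortExact)
    (ha : Nonempty (S.X₁ ≅ Twist.twistProjSpace n k a)) (hb : Nonempty (S.X₃ ≅ Twist.twistProjSpace n k b)) :
    Nonempty S.Splitting := by

  obtain ⟨e₁⟩ := ha
  obtain ⟨e₃⟩ := hb
  have hcov := Groth.Agent.Lib.ProjSpaceFin.hcov n k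
  obtain ⟨e0⟩ := Groth.Agent.Lib.H4Twist.nonempty_twistZeroIso (CohB1.polyGrading n k)
  -- `O(-b) ⊗ O(b) ≅ O`
  let e : CohB1.tensorMod (Twist.twistProjSpace n k (-b)) (Twist.twistProjSpace n k b) ≅
      Coh.structureModule (CohB1.ProjSpace n k) :=
    Groth.Agent.Lib.H4Twist.twistMulIso_of_cover (CohB1.polyGrading n k) hcov (-b) b ≪≫
      eqToIso (congrArg (Twist.twist (CohB1.polyGrading n k)) (by ring)) ≪≫ e0
  -- `X₃ ⊗ O(-b) ≅ O`
  let e₃' : CohB1.tensorMod S.X₃ (Twist.twistProjSpace n k (-b)) ≅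
      Coh.structureModule (CohB1.ProjSpace n k) :=
    Groth.Agent.Lib.OXModTensor.tensorModIso e₃ (Iso.refl _) ≪≫
      Groth.Agent.Lib.H4Twist.twistMulIso_of_cover (CohB1.polyGrading n k) hcov b (-b) ≪≫
      eqToIso (congrArg (Twist.twist (CohB1.polyGrading n k)) (by ring)) ≪≫ e0
  -- `X₁ ⊗ O(-b) ≅ O(a - b)`
  let e₁' : CohB1.tensorMod S.X₁ (Twist.twistProjSpace n k (-b)) ≅ Twist.twistProjSpace n k (a + -b) :=
    Groth.Agent.Lib.OXModTensor.tensorModIso e₁ (Iso.refl _) ≪≫
      Groth.Agent.Lib.H4Twist.twistMulIso_of_cover (CohB1.polyGrading n k) hcov a (-b)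
  have h1 : Subsingleton (Coh.HH (CohB1.ProjSpace n k) (Twist.twistProjSpace n k (a + -b)) 1) :=
    Groth.Agent.Lib.H4Twist.subsingleton_HH_twist n k (a + -b) 1 one_pos (Or.inl (by omega))
  have h1' : Subsingleton (Coh.HH (CohB1.ProjSpace n k)
      (CohB1.tensorMod S.X₁ (Twist.twistProjSpace n k (-b))) 1) :=
    Groth.Agent.Lib.H4Twist.subsingleton_HH_of_iso e₁' 1
  exact Groth.Agent.Lib.H4Twist.nonempty_splitting_of_twist e S hS e₃'

end Groth.Agent.S11484
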