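import Groth.Statements.S11497
import Mathlib.Algebra.Homology.DerivedCategory.Ext.ExactSequences

set_option autoImplicit false
universe w v u
open CategoryTheory
open VBPn

namespace Groth.Agent.S11497

section
open Abelian
variable {C : Type u} [Category.{v} C] [Abelian C] [HasExt.{w} C]

theorem extend_of_ext {S : ShortComplex C} (hS : S.ShortExact) (Y : C) (h : S.X₁ ⟶ Y)
    (h1 : Subsingleton (Ext S.X₃ Y 1)) : ∃ β : S.X₂ ⟶ Y, S.f ≫ β = h := by
  obtain ⟨x₂, hx₂⟩ := Ext.contravariant_sequence_exact₁ hS Y (Ext.mk₀ h) (n₁ := 1) (by norm_num)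
    (Subsingleton.elim _ _)
  obtain ⟨β, rfl⟩ := (Ext.mk₀_bijective _ _).2 x₂
  rw [Ext.mk₀_comp_mk₀] at hx₂
  exact ⟨β, (Ext.mk₀_bijective _ _).1 hx₂⟩

theorem lift_of_ext {S : ShortComplex C} (hS : S.ShortExact) (X : C) (y : X ⟶ S.X₃)
    (h1 : Subsingleton (Ext X S.X₁ 1)) : ∃ ψ : X ⟶ S.X₂, ψ ≫ S.g = y := by
  obtain ⟨x₂, hx₂⟩ := Ext.covariant_sequence_exact₃ X hS (Ext.mk₀ y) (n₁ := 1) (by norm_num)
    (Subsingleton.elim _ _)
  obtain ⟨ψ, rfl⟩ := (Ext.mk₀_bijective _ _).2 x₂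
  rw [Ext.mk₀_comp_mk₀] at hx₂
  exact ⟨ψ, (Ext.mk₀_bijective _ _).1 hx₂⟩

theorem hom_zero_of_ext {S : ShortComplex C} (hS : S.ShortExact) (Y : C)
    (h0 : ∀ f : S.X₂ ⟶ Y, f = 0) (h1 : Subsingleton (Ext S.X₃ Y 1)) (h : S.X₁ ⟶ Y) : h = 0 := by
  obtain ⟨β, rfl⟩ := extend_of_ext hS Y h h1
  rw [h0 β, Limits.comp_zero]

theorem ext_one_subsingleton {S : ShortComplex C} (hS : S.ShortExact) (Y : C)
    (h1 : Subsingleton (Ext S.X₂ Y 1)) (h2 : Subsingleton (Ext S.X₃ Y 2)) :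
    Subsingleton (Ext S.X₁ Y 1) := by
  refine subsingleton_of_forall_eq 0 fun x₁ => ?_
  obtain ⟨x₂, hx₂⟩ := Ext.contravariant_sequence_exact₁ hS Y x₁ (n₁ := 2) (by norm_num)
    (Subsingleton.elim _ _)
  rw [← hx₂, Subsingleton.elim x₂ 0, Ext.comp_zero]

end

section
open Abelian
variable {C : Type u} [Category.{v} C] [Abelian C] [HasExt.{w} C]

/-- `0 → cycles → X₂ → X₃ → 0`. -/
theorem shortExact_cycles (M : ShortComplex C) [Epi M.g] :
    (ShortComplex.mk M.iCycles M.g M.iCycles_g).ShortExact :=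
  { exact := ShortComplex.exact_of_f_is_kernel _ M.cyclesIsKernel
    mono_f := by dsimp; infer_instance
    epi_g := by dsimp; infer_instance }

/-- `0 → X₁ → cycles → homology → 0`. -/
theorem shortExact_homology (M : ShortComplex C) [Mono M.f] :
    (ShortComplex.mk M.toCycles M.homologyπ M.toCycles_comp_homologyπ).ShortExact :=
  { exact := ShortComplex.exact_of_g_is_cokernel _ M.homologyIsCokernel
    mono_f := by
      dsimp
      have : Mono (M.toCycles ≫ M.iCycles) := by rw [M.toCycles_i]; infer_instance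
      exact mono_of_mono M.toCycles M.iCycles
    epi_g := by dsimp; infer_instance }

end


/-- In an abelian category, let M : A → B → C and M' : A' → B' → C' be monads, i.e. short complexes
whose first map is a monomorphism and whose second map is an epimorphism, with cohomology (homology)
objects E and E'. Suppose Hom(B, A') = 0, Hom(C, B') = 0 and Ext^1(C, A') = Ext^1(B, A') = Ext^1(C,
B') = Ext^2(C, A') = 0. Then the map sending a morphism of monads M → M' to the induced morphism E →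
E' is bijective. The published statement is for monads of vector bundles on a complex manifold X,
with Ext^i(C, A') written H^i(X, C^* ⊗ A'); this row is stated in any abelian category. -/
theorem result {C : Type u} [Category.{v} C] [Abelian C] [HasExt.{w} C]
    (M M' : ShortComplex C) [Mono M.f] [Epi M.g] [Mono M'.f] [Epi M'.g]
    (hBA : ∀ f : M.X₂ ⟶ M'.X₁, f = 0) (hCB : ∀ f : M.X₃ ⟶ M'.X₂, f = 0)
    (hCA₁ : Subsingleton (Abelian.Ext M.X₃ M'.X₁ 1)) (hBA₁ : Subsingleton (Abelian.Ext M.X₂ M'.X₁ 1))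
    (hCB₁ : Subsingleton (Abelian.Ext M.X₃ M'.X₂ 1)) (hCA₂ : Subsingleton (Abelian.Ext M.X₃ M'.X₁ 2)) :
    Function.Bijective (fun φ : M ⟶ M' => ShortComplex.homologyMap φ) := by
  have hS1 := shortExact_cycles M
  have hS2' := shortExact_homology M'
  have hS2 := shortExact_homology M
  have := hS2'.mono_f
  have := hS1.epi_g
  have hKA : ∀ h : M.cycles ⟶ M'.X₁, h = 0 := hom_zero_of_ext hS1 M'.X₁ hBA hCA₁
  have hKA1 : Subsingleton (Abelian.Ext M.cycles M'.X₁ 1) := ext_one_subsingleton hS1 M'.X₁ hBA₁ hCA₂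
  -- uniqueness of maps on cycles
  have huniqψ : ∀ ψ₁ ψ₂ : M.cycles ⟶ M'.cycles, ψ₁ ≫ M'.homologyπ = ψ₂ ≫ M'.homologyπ → ψ₁ = ψ₂ := by
    intro ψ₁ ψ₂ h
    have h0 : (ψ₁ - ψ₂) ≫ M'.homologyπ = 0 := by rw [Preadditive.sub_comp, h, sub_self]
    have := hS2'.exact.lift_f (ψ₁ - ψ₂) h0
    rw [hKA (hS2'.exact.lift (ψ₁ - ψ₂) h0), Limits.zero_comp] at this
    exact sub_eq_zero.mp this.symm
  have huniqβ : ∀ β₁ β₂ : M.X₂ ⟶ M'.X₂, M.iCycles ≫ β₁ = M.iCycles ≫ β₂ → β₁ = β₂ := by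
    intro β₁ β₂ h
    have h0 : M.iCycles ≫ (β₁ - β₂) = 0 := by rw [Preadditive.comp_sub, h, sub_self]
    have := hS1.exact.g_desc (β₁ - β₂) h0
    rw [hCB (hS1.exact.desc (β₁ - β₂) h0), Limits.comp_zero] at this
    exact sub_eq_zero.mp this.symm
  constructor
  · intro φ₁ φ₂ h
    dsimp only at h
    have hψ : ShortComplex.cyclesMap φ₁ = ShortComplex.cyclesMap φ₂ := by
      apply huniqψ
      rw [← ShortComplex.homologyπ_naturality, ← ShortComplex.homologyπ_naturality, h]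
    have hβ : φ₁.τ₂ = φ₂.τ₂ := by
      apply huniqβ
      rw [← ShortComplex.cyclesMap_i, ← ShortComplex.cyclesMap_i, hψ]
    apply ShortComplex.hom_ext
    · rw [← cancel_mono M'.f, φ₁.comm₁₂, φ₂.comm₁₂, hβ]
    · exact hβ
    · rw [← cancel_epi M.g, ← φ₁.comm₂₃, ← φ₂.comm₂₃, hβ]
  · intro ε
    obtain ⟨ψ, hψ⟩ := lift_of_ext hS2' M.cycles (M.homologyπ ≫ ε) hKA1
    dsimp at hψ ψ
    have hα0 : (M.toCycles ≫ ψ) ≫ M'.homologyπ = 0 := by
      rw [Category.assoc, hψ, ← Category.assoc, M.toCycles_comp_homologyπ, Limits.zero_comp]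
    let α : M.X₁ ⟶ M'.X₁ := hS2'.exact.lift (M.toCycles ≫ ψ) hα0
    have hα : α ≫ M'.toCycles = M.toCycles ≫ ψ := hS2'.exact.lift_f _ hα0
    obtain ⟨β, hβ⟩ := extend_of_ext hS1 M'.X₂ (ψ ≫ M'.iCycles) hCB₁
    dsimp at hβ β
    have hγ0 : M.iCycles ≫ (β ≫ M'.g) = 0 := by
      rw [← Category.assoc, hβ, Category.assoc, M'.iCycles_g, Limits.comp_zero]
    let γ : M.X₃ ⟶ M'.X₃ := hS1.exact.desc (β ≫ M'.g) hγ0
    have hγ : M.g ≫ γ = β ≫ M'.g := hS1.exact.g_desc _ hγ0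
    let φ : M ⟶ M' :=
      { τ₁ := α
        τ₂ := β
        τ₃ := γ
        comm₁₂ := by
          rw [← M.toCycles_i, Category.assoc, hβ, ← Category.assoc, ← hα, Category.assoc, M'.toCycles_i]
        comm₂₃ := hγ.symm }
    refine ⟨φ, ?_⟩
    dsimp only
    have hcyc : ShortComplex.cyclesMap φ = ψ := by
      rw [← cancel_mono M'.iCycles, ShortComplex.cyclesMap_i]
      exact hβ
    rw [← cancel_epi M.homologyπ, ShortComplex.homologyπ_naturality, hcyc, hψ]

end Groth.Agent.S11497
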