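import Groth.Statements.S11493
import Groth.Agent.S11497
import Mathlib.Algebra.Homology.DerivedCategory.Ext.ExactSequences
import Mathlib.Algebra.Homology.DerivedCategory.Ext.EnoughProjectives
import Mathlib.Algebra.Category.ModuleCat.Projective
import Mathlib.Algebra.Homology.ShortComplex.ModuleCat
import Mathlib.RingTheory.LocalRing.Module
import Mathlib.Algebra.Exact.Basic

set_option autoImplicit false
universe u
open CategoryTheory
open VBPn

namespace Groth.Agent.S11493

section
open Abelian
variable (A : Type u) [CommRing A] [IsNoetherianRing A] [IsLocalRing A]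

/-- core: a module `M` with `Ext^1(M, A) = 0` which is an extension of a pd ≤ 1 module by `A` is free. -/
theorem free_of_ext_vanish (I M : Type u) [AddCommGroup I] [Module A I] [AddCommGroup M] [Module A M]
    (ι : A →ₗ[A] M) (g : M →ₗ[A] I) (hι : Function.Injective ι) (hex : Function.Exact ι g)
    (hg : Function.Surjective g)
    (q : ℕ) (φ : (Fin q → A) →ₗ[A] I) (hφ : Function.Surjective φ) (hK : Module.Free A (LinearMap.ker φ))
    (hext : Subsingleton (Ext (ModuleCat.of A M) (ModuleCat.of A A) 1)) : Module.Free A M := by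
  classical
  obtain ⟨lam, hlam⟩ := Module.projective_lifting_property g φ hg
  have hlam' : ∀ x, g (lam x) = φ x := fun x => LinearMap.congr_fun hlam x
  let ρ : (A × (Fin q → A)) →ₗ[A] M := ι.coprod lam
  have hρapp : ∀ a x, ρ (a, x) = ι a + lam x := fun a x => by simp [ρ, LinearMap.coprod_apply]
  have hρ : Function.Surjective ρ := by
    intro m
    obtain ⟨x, hx⟩ := hφ (g m)
    have h1 : g (m - lam x) = 0 := by
      rw [map_sub, hlam', hx, sub_self]
    obtain ⟨a, ha⟩ := (hex (m - lam x)).mp h1
    refine ⟨(a, x), ?_⟩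
    rw [hρapp, ha]
    abel
  let N := LinearMap.ker ρ
  have hNmem : ∀ a x, (a, x) ∈ N → ι a + lam x = 0 := by
    intro a x hn
    rw [← hρapp]
    exact LinearMap.mem_ker.mp hn
  -- `N ≃ ker φ`
  have hNx : ∀ n : N, (n : A × (Fin q → A)).2 ∈ LinearMap.ker φ := by
    rintro ⟨⟨a, x⟩, hn⟩
    have hn' : ι a + lam x = 0 := hNmem a x hn
    have h2 : g (ι a + lam x) = 0 := by rw [hn', map_zero]
    rw [map_add, hex.apply_apply_eq_zero, zero_add, hlam'] at h2
    exact LinearMap.mem_ker.mpr h2
  let pr : N →ₗ[A] LinearMap.ker φ :=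
    LinearMap.codRestrict (LinearMap.ker φ) ((LinearMap.snd A A (Fin q → A)).comp N.subtype) hNx
  have hpr : Function.Bijective pr := by
    constructor
    · rw [← LinearMap.ker_eq_bot, Submodule.eq_bot_iff]
      rintro ⟨⟨a, x⟩, hn⟩ h0
      have hx0 : x = 0 := by
        have := congrArg Subtype.val (LinearMap.mem_ker.mp h0)
        exact this
      have hn' : ι a + lam x = 0 := hNmem a x hn
      rw [hx0, map_zero, add_zero] at hn'
      have ha0 : a = 0 := hι (hn'.trans (map_zero ι).symm)
      apply Subtype.ext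
      change (a, x) = 0
      rw [hx0, ha0]
      rfl
    · rintro ⟨x, hx⟩
      have h1 : g (lam x) = 0 := by
        rw [hlam']; exact hx
      obtain ⟨a, ha⟩ := (hex (lam x)).mp h1
      refine ⟨⟨(-a, x), ?_⟩, ?_⟩
      · change ρ (-a, x) = 0
        rw [hρapp, map_neg, ha, neg_add_cancel]
      · apply Subtype.ext
        rfl
  have hNfree : Module.Free A N := Module.Free.of_equiv (LinearEquiv.ofBijective pr hpr).symm
  have hNfin : Module.Finite A N := inferInstance
  -- extension of functionals
  have hS : (ρ.shortComplexKer).ShortExact := LinearMap.shortExact_shortComplexKer hρ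
  let b := Module.Free.chooseBasis A N
  have hextend : ∀ i, ∃ c : (A × (Fin q → A)) →ₗ[A] A, c.comp N.subtype = b.coord i := by
    intro i
    obtain ⟨β, hβ⟩ := Groth.Agent.S11497.extend_of_ext hS (ModuleCat.of A A)
      (ModuleCat.ofHom (b.coord i)) hext
    refine ⟨β.hom, ?_⟩
    have := congrArg ModuleCat.Hom.hom hβ
    simpa using this
  choose c hc using hextend
  let r : (A × (Fin q → A)) →ₗ[A] N := ∑ i, (c i).smulRight (b i)
  have hr : r.comp N.subtype = LinearMap.id := by
    apply LinearMap.ext
    intro n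
    simp only [r, LinearMap.comp_apply, LinearMap.sum_apply, LinearMap.smulRight_apply, LinearMap.id_apply]
    have : ∀ i, c i (N.subtype n) = b.coord i n := fun i => congrArg (fun f => f n) (hc i)
    simp_rw [this]
    exact b.sum_repr n
  have hexact : Function.Exact N.subtype ρ := by
    intro y
    constructor
    · intro hy; exact ⟨⟨y, hy⟩, rfl⟩
    · rintro ⟨n, rfl⟩; exact n.2
  obtain ⟨_, l, hl⟩ := ((hexact.split_tfae').out 1 0 rfl rfl).mp ⟨hρ, r, hr⟩
  have hproj : Module.Projective A M := Module.Projective.of_split l ρ hl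
  have hfinM : Module.Finite A M := Module.Finite.of_surjective ρ hρ
  exact Module.free_of_flat_of_isLocalRing

end

section
open Abelian
variable {C : Type*} [Category C] [Abelian C] [HasExt C]

theorem subsingleton_ext_of_iso_right {X Y Y' : C} (e : Y ≅ Y') (n : ℕ)
    (h : Subsingleton (Ext X Y n)) : Subsingleton (Ext X Y' n) := by
  refine subsingleton_of_forall_eq 0 fun x' => ?_
  have key : x' = (x'.comp (Ext.mk₀ e.inv) (add_zero n)).comp (Ext.mk₀ e.hom) (add_zero n) := by
    rw [Ext.comp_assoc_of_third_deg_zero, Ext.mk₀_comp_mk₀, e.inv_hom_id, Ext.comp_mk₀_id]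
  rw [key, Subsingleton.elim (x'.comp (Ext.mk₀ e.inv) (add_zero n)) 0, Ext.zero_comp]

end


/-- Let A be a Noetherian local ring and I an ideal with a free resolution of length 1, 0 → A^p → A^q →
I → 0 (equivalently: a surjection A^q → I with free kernel). Let 0 → A → M → I → 0 be an extension
with class e ∈ Ext^1(I, A). Then M is free if and only if e generates the A-module Ext^1(I, A); the
A-module structure being through End(A) = A, this says every element of Ext^1(I, A) is the composite
of e with an endomorphism of A. -/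
theorem result (A : Type u) [CommRing A] [IsNoetherianRing A] [IsLocalRing A]
    (I : Ideal A)
    (hres : ∃ (q : ℕ) (φ : (Fin q → A) →ₗ[A] ↥I), Function.Surjective φ ∧ Module.Free A ↥(LinearMap.ker φ))
    (S : ShortComplex (ModuleCat.{u} A)) (hS : S.ShortExact)
    (h₁ : Nonempty (S.X₁ ≅ ModuleCat.of A A)) (h₃ : Nonempty (S.X₃ ≅ ModuleCat.of A ↥I)) :
    Module.Free A S.X₂ ↔
      ∀ x : Abelian.Ext S.X₃ S.X₁ 1, ∃ f : S.X₁ ⟶ S.X₁, hS.extClass.comp (Abelian.Ext.mk₀ f) (add_zero 1) = x := by
  obtain ⟨e₁⟩ := h₁
  obtain ⟨e₃⟩ := h₃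
  have hproj₁ : Projective S.X₁ := Projective.of_iso e₁.symm inferInstance
  have h11 : Subsingleton (Abelian.Ext S.X₁ S.X₁ 1) := Abelian.Ext.subsingleton_of_projective _ _ 0
  -- (A)
  have hA : (∀ x : Abelian.Ext S.X₃ S.X₁ 1, ∃ f : S.X₁ ⟶ S.X₁,
      hS.extClass.comp (Abelian.Ext.mk₀ f) (add_zero 1) = x) ↔ Subsingleton (Abelian.Ext S.X₂ S.X₁ 1) := by
    constructor
    · intro h
      refine subsingleton_of_forall_eq 0 fun y => ?_
      obtain ⟨x, hx⟩ := Abelian.Ext.contravariant_sequence_exact₂ hS S.X₁ y (Subsingleton.elim _ _)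
      obtain ⟨f, rfl⟩ := h x
      rw [← hx]
      exact hS.comp_extClass_assoc _ _
    · intro h x
      obtain ⟨x₁, hx₁⟩ := Abelian.Ext.contravariant_sequence_exact₃ hS S.X₁ x (Subsingleton.elim _ _)
        (n₀ := 0) (by norm_num)
      obtain ⟨f, rfl⟩ := (Abelian.Ext.mk₀_bijective _ _).2 x₁
      exact ⟨f, hx₁⟩
  rw [hA]
  constructor
  · intro hfree
    have : Module.Projective A S.X₂ := inferInstance
    have : Projective S.X₂ := inferInstance
    exact Abelian.Ext.subsingleton_of_projective _ _ 0
  · intro hsub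
    obtain ⟨q, φ, hφ, hK⟩ := hres
    have hinj : Function.Injective S.f.hom := (ModuleCat.mono_iff_injective _).mp hS.mono_f
    have hsurj : Function.Surjective S.g.hom := (ModuleCat.epi_iff_surjective _).mp hS.epi_g
    have hexact : Function.Exact S.f.hom S.g.hom :=
      (ShortComplex.ShortExact.moduleCat_exact_iff_function_exact S).mp hS.exact
    have he₁inj : Function.Injective e₁.inv.hom := (ModuleCat.mono_iff_injective _).mp inferInstance
    have he₁surj : Function.Surjective e₁.inv.hom := (ModuleCat.epi_iff_surjective _).mp inferInstance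
    have he₃inj : Function.Injective e₃.hom.hom := (ModuleCat.mono_iff_injective _).mp inferInstance
    have he₃surj : Function.Surjective e₃.hom.hom := (ModuleCat.epi_iff_surjective _).mp inferInstance
    refine free_of_ext_vanish A ↥I S.X₂ (S.f.hom.comp e₁.inv.hom) (e₃.hom.hom.comp S.g.hom)
      (hinj.comp he₁inj) ?_ (he₃surj.comp hsurj) q φ hφ hK ?_
    · intro y
      simp only [LinearMap.coe_comp, Function.comp_apply]
      constructor
      · intro hy
        have : S.g.hom y = 0 := he₃inj (hy.trans (map_zero _).symm)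
        obtain ⟨a, ha⟩ := (hexact y).mp this
        obtain ⟨a', rfl⟩ := he₁surj a
        exact ⟨a', ha⟩
      · rintro ⟨a, rfl⟩
        simp only [Function.comp_apply]
        rw [hexact.apply_apply_eq_zero, map_zero]
    · exact subsingleton_ext_of_iso_right e₁ 1 hsub

end Groth.Agent.S11493
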