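import Groth.Statements.S11496
import Groth.Agent.Lib.H29Gorenstein
import Groth.Agent.S0342

set_option autoImplicit false
universe u
open CategoryTheory
open VBPn

namespace Groth.Agent.S11496

/-- `ht p + dim A/p ≤ dim A`. -/
theorem height_add_ringKrullDim_quotient_le {A : Type u} [CommRing A] (p : Ideal A) [hp : p.IsPrime] :
    (p.height : WithBot ℕ∞) + ringKrullDim (A ⧸ p) ≤ ringKrullDim A := by
  let P : PrimeSpectrum A := ⟨p, hp⟩
  have hset : PrimeSpectrum.zeroLocus (p : Set A) = Set.Ici P := by
    ext q
    rw [PrimeSpectrum.mem_zeroLocus, Set.mem_Ici]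
    exact Iff.rfl
  have h1 : ringKrullDim (A ⧸ p) = (Order.coheight P : WithBot ℕ∞) := by
    rw [ringKrullDim_quotient, hset, Order.coheight_eq_krullDim_Ici]
  have h2 : p.height = Order.height P := PrimeSpectrum.height_eq_orderHeight P
  rw [h1, h2]
  have : Nonempty (PrimeSpectrum A) := ⟨P⟩
  rw [ringKrullDim, Order.krullDim_eq_iSup_height_add_coheight_of_nonempty]
  rw [← WithBot.coe_add, WithBot.coe_le_coe]
  exact le_iSup (fun a : PrimeSpectrum A => Order.height a + Order.coheight a) P

/-- Let A be a regular local ring, M a finitely generated A-module and i ≥ 0. The support of Ext^i_A(M,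
A) has dimension at most dim A − i: for every prime ideal p of A such that Ext^i over the
localization A_p of M_p into A_p is nonzero (this Ext group is the localization at p of Ext^i_A(M,
A)), one has dim(A/p) + i ≤ dim A. The published statement is for coherent analytic sheaves on an
n-dimensional complex manifold; this row is stated for any regular local ring. -/
theorem result (A : Type u) [CommRing A] [IsRegularLocalRing A]
    (M : Type u) [AddCommGroup M] [Module A M] [Module.Finite A M] (i : ℕ) (p : Ideal A) [p.IsPrime]
    (h : Nontrivial (Abelian.Ext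
      (ModuleCat.of (Localization.AtPrime p) (LocalizedModule p.primeCompl M))
      (ModuleCat.of (Localization.AtPrime p) (Localization.AtPrime p)) i)) :
    ringKrullDim (A ⧸ p) + (i : WithBot ℕ∞) ≤ ringKrullDim A := by
  open CategoryTheory Groth.Agent.Lib.H29Gorenstein in
  have hG : LocCoh.IsGorensteinLocalRing A := Groth.Agent.S0342.result A
  obtain ⟨n, hn⟩ := hG.exists_hasInjectiveDimensionLT
  have hGp : LocCoh.IsGorensteinLocalRing (Localization.AtPrime p) :=
    { exists_hasInjectiveDimensionLT := ⟨n + 1, hasInjectiveDimensionLT_localization A p n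
        (hasInjectiveDimensionLT_of_ge _ n (n + 1) (Nat.le_succ n))⟩ }
  obtain ⟨d, hd, -, hinj⟩ := gorenstein_invariants (Localization.AtPrime p)
  have hid : i ≤ d := by
    by_contra hlt
    rw [not_le] at hlt
    have hsub := HasInjectiveDimensionLT.subsingleton
      (ModuleCat.of (Localization.AtPrime p) (Localization.AtPrime p)) (d + 1) i hlt
      (ModuleCat.of (Localization.AtPrime p) (LocalizedModule p.primeCompl M))
    exact not_subsingleton _ hsub
  rw [IsLocalization.AtPrime.ringKrullDim_eq_height p] at hd
  have key := height_add_ringKrullDim_quotient_le p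
  rw [hd] at key
  have hle : (i : WithBot ℕ∞) ≤ (d : WithBot ℕ∞) := by exact_mod_cast hid
  calc ringKrullDim (A ⧸ p) + (i : WithBot ℕ∞) ≤ ringKrullDim (A ⧸ p) + (d : WithBot ℕ∞) := by
        gcongr
    _ = (d : WithBot ℕ∞) + ringKrullDim (A ⧸ p) := add_comm _ _
    _ ≤ ringKrullDim A := key

end Groth.Agent.S11496
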