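import Groth.Statements.S11499
import Mathlib.RingTheory.Localization.BaseChange
import Mathlib.RingTheory.Localization.Integer
import Mathlib.LinearAlgebra.Dimension.Free
import Mathlib.LinearAlgebra.FiniteDimensional.Basic
import Mathlib.RingTheory.TensorProduct.Finite
-- import your own Groth.Agent.* helpers here

set_option autoImplicit false
universe u
open TensorProduct
open VBPn

namespace Groth.Agent.S11499

/-- Let A be an integral domain with fraction field K and M a finitely generated torsion-free A-module
of rank r (K ⊗_A M is r-dimensional over K). Then there is an injective A-linear map M → A^r. The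
published statement is for torsion-free coherent sheaves on a complex manifold, locally near a
point; this row is its statement for one stalk, over any domain. -/
theorem result (A : Type u) [CommRing A] [IsDomain A]
    (M : Type u) [AddCommGroup M] [Module A M] [Module.Finite A M] [NoZeroSMulDivisors A M] (r : ℕ)
    (hr : Module.finrank (FractionRing A) (FractionRing A ⊗[A] M) = r) :
    ∃ f : M →ₗ[A] (Fin r → A), Function.Injective f := by
  classical
  set K := FractionRing A with hK
  -- the coordinate iso
  have hr' : Module.finrank K (K ⊗[A] M) = Module.finrank K (Fin r → K) := by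
    rw [hr, Module.finrank_fin_fun]
  let e : (K ⊗[A] M) ≃ₗ[K] (Fin r → K) := LinearEquiv.ofFinrankEq _ _ hr'
  -- the localisation map
  let ι : M →ₗ[A] K ⊗[A] M := TensorProduct.mk A K M 1
  have hι : Function.Injective ι := by
    rw [← LinearMap.ker_eq_bot, LinearMap.ker_eq_bot']
    intro m hm
    obtain ⟨s, hs⟩ := (IsLocalizedModule.eq_zero_iff (nonZeroDivisors A) ι).mp hm
    have hs0 : (s : A) ≠ 0 := nonZeroDivisors.ne_zero s.2
    rw [Submonoid.smul_def] at hs
    rcases smul_eq_zero.mp hs with h | h
    · exact absurd h hs0
    · exact h
  let φ : M →ₗ[A] (Fin r → K) := (e.toLinearMap.restrictScalars A).comp ι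
  have hφ : Function.Injective φ := e.injective.comp hι
  -- generators and common denominator
  obtain ⟨n, s, hs⟩ := Module.Finite.exists_fin (R := A) (M := M)
  obtain ⟨d, hd⟩ := IsLocalization.exist_integer_multiples_of_finite (nonZeroDivisors A)
    (fun p : Fin n × Fin r => φ (s p.1) p.2)
  have hd0 : (d : A) ≠ 0 := nonZeroDivisors.ne_zero d.2
  -- the embedding of `A^r` into `K^r`
  let j : (Fin r → A) →ₗ[A] (Fin r → K) :=
    LinearMap.pi fun i => (Algebra.linearMap A K).comp (LinearMap.proj i)
  have hj : Function.Injective j := by
    intro x y hxy
    funext i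
    have := congrFun hxy i
    exact IsFractionRing.injective A K this
  let ψ : M →ₗ[A] (Fin r → K) := (d : A) • φ
  have hψ : Function.Injective ψ := by
    intro x y hxy
    apply hφ
    have h1 : (d : A) • φ x = (d : A) • φ y := hxy
    funext i
    have h2 := congrFun h1 i
    simp only [Pi.smul_apply, Algebra.smul_def] at h2
    exact mul_left_cancel₀ (by simp [hd0]) h2
  have hrange : ∀ m : M, ψ m ∈ LinearMap.range j := by
    intro m
    have hm : m ∈ Submodule.span A (Set.range s) := by rw [hs]; trivial
    induction hm using Submodule.span_induction with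
    | mem x hx =>
      obtain ⟨k, rfl⟩ := hx
      choose a ha using fun i => hd (k, i)
      exact ⟨a, by funext i; simpa [j, ψ] using ha i⟩
    | zero => simp
    | add x y _ _ hx hy => rw [map_add]; exact Submodule.add_mem _ hx hy
    | smul c x _ hx => rw [map_smul]; exact Submodule.smul_mem _ c hx
  let f : M →ₗ[A] (Fin r → A) :=
    (LinearEquiv.ofInjective j hj).symm.toLinearMap.comp (ψ.codRestrict (LinearMap.range j) hrange)
  refine ⟨f, ?_⟩
  intro x y hxy
  apply hψ
  have := (LinearEquiv.ofInjective j hj).symm.injective hxy
  exact congrArg Subtype.val this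

end Groth.Agent.S11499
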