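import Groth.Statements.S11503
import Groth.Agent.Lib.H4Horrocks6
-- import your own Groth.Agent.* helpers here

set_option autoImplicit false
universe u
open VBPn

namespace Groth.Agent.S11503

open CategoryTheory CategoryTheory.Limits AlgebraicGeometry in
/-- Let k be a characteristic-zero algebraically closed field and E a finite locally free O-module of
rank r > 1 on P^n_k. If E has a nonzero section (a nonzero morphism O → E) and its dual has a
nonzero section (a nonzero morphism E → O), then E is not simple: there is an endomorphism of E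
which is not a homothety, i.e. whose underlying map of abelian sheaves is not multiplication by any
scalar c ∈ k. -/
theorem result (k : Type u) [Field k] [IsAlgClosed k] [CharZero k]
    (n r : ℕ) (hr : 1 < r) (E : (CohB1.ProjSpace n k).Modules) (hE : FlatMod.IsFinLocFreeOfRank r E)
    (s : Coh.structureModule (CohB1.ProjSpace n k) ⟶ E) (hs : s ≠ 0)
    (t : E ⟶ Coh.structureModule (CohB1.ProjSpace n k)) (ht : t ≠ 0) :
    ∃ φ : E ⟶ E, ∀ c : k, (SheafOfModules.toSheaf (CohB1.ProjSpace n k).ringCatSheaf).map φ ≠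
      Coh.smulAb E (Coh.toGlobal (CohB1.ProjSpace.toSpec n k) c) := by
  classical
  have hN := Groth.Agent.Lib.H4MumfordStep.isLocallyNoetherian_projSpace (k := k) (n := n)
  have hI := Groth.Agent.Lib.H43PnPairing.isIntegral_projSpace n k
  have h1 := Groth.Agent.Lib.CurveVB67.isFinLocFreeOfRank_one_structureModule (X := CohB1.ProjSpace n k)
  have hOc := Groth.Agent.Lib.CurveVB67.isCoh_of_rank h1
  have hEc := Groth.Agent.Lib.CurveVB67.isCoh_of_rank hE
  have hms : Mono s := Groth.Agent.Lib.H4TF.mono_of_ne_zero hOc hEc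
    (Groth.Agent.Lib.CurveVB67.tf_of_isFinLocFree (Groth.Agent.Lib.CurveVB67.isFinLocFree_of_rank h1))
    (Groth.Agent.Lib.CurveVB67.tf_of_isFinLocFree (Groth.Agent.Lib.CurveVB67.isFinLocFree_of_rank hE))
    (Groth.Agent.Lib.CurveVB67.eq_rk_of_isFinLocFreeOfRank h1).symm s hs
  have hF : (Groth.Agent.Lib.CohLES.toAbF (CohB1.ProjSpace n k)).Faithful :=
    inferInstanceAs (SheafOfModules.toSheaf.{u} (CohB1.ProjSpace n k).ringCatSheaf).Faithful
  refine ⟨t ≫ s, fun c hc => ?_⟩
  change (Groth.Agent.Lib.CohLES.toAbF (CohB1.ProjSpace n k)).map (t ≫ s) = _ at hc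
  by_cases hc0 : c = 0
  · rw [hc0, map_zero, Coh.smulAb_zero] at hc
    have h0 : t ≫ s = 0 :=
      (Groth.Agent.Lib.CohLES.toAbF (CohB1.ProjSpace n k)).map_injective (by rw [hc, Functor.map_zero])
    rw [← zero_comp (f := s), cancel_mono] at h0
    exact ht h0
  · -- `t` is a monomorphism
    have hsplit : (Groth.Agent.Lib.CohLES.toAbF (CohB1.ProjSpace n k)).map t ≫
        ((Groth.Agent.Lib.CohLES.toAbF (CohB1.ProjSpace n k)).map s ≫
          Coh.smulAb E (Coh.toGlobal (CohB1.ProjSpace.toSpec n k) c⁻¹)) = 𝟙 _ := by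
      rw [← Category.assoc, ← Functor.map_comp, hc, ← Coh.smulAb_mul, ← map_mul, inv_mul_cancel₀ hc0,
        map_one, Coh.smulAb_one]
    have hmt' : Mono ((Groth.Agent.Lib.CohLES.toAbF (CohB1.ProjSpace n k)).map t) :=
      mono_of_mono_fac hsplit
    have hmt : Mono t := Functor.mono_of_mono_map _ hmt'
    have hS : (ShortComplex.mk t (cokernel.π t) (cokernel.condition t)).ShortExact :=
      { exact := ShortComplex.exact_cokernel t }
    have hQ : Coh.IsCoh (cokernel t) := by
      have := hEc.1
      exact Groth.Agent.Lib.H90OXModExact.isCoh_cokernel t hOc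
    have h := Groth.Agent.Lib.CurveVB67.rk_add _ hS hEc hQ
    simp only at h
    rw [← Groth.Agent.Lib.CurveVB67.eq_rk_of_isFinLocFreeOfRank h1,
      ← Groth.Agent.Lib.CurveVB67.eq_rk_of_isFinLocFreeOfRank hE] at h
    omega

end Groth.Agent.S11503
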