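import Groth.Statements.S1152
-- import your own Groth.Agent.* helpers here
import Groth.Agent.Lib.AmpleFpqcH3
import Groth.Agent.Lib.FpqcDescent
import Groth.Prelude.Def_LCI2

set_option autoImplicit false
set_option linter.style.haveILetI false
open CategoryTheory CategoryTheory.Limits AlgebraicGeometry Opposite
universe u
open Desc

namespace Groth.Agent.S1152

open Scheme.Modules in
/-- Pullback of modules commutes with restriction to opens `T ≤ q⁻¹ W`. -/
noncomputable def restrictPullbackIso' {P X : Scheme.{u}} (q : P ⟶ X) (W : X.Opens) (T : P.Opens)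
    (e : T ≤ q ⁻¹ᵁ W) (F : X.Modules) :
    ((Scheme.Modules.pullback q).obj F).restrict T.ι ≅
      (Scheme.Modules.pullback (q.resLE W T e)).obj (F.restrict W.ι) :=
  (restrictFunctorIsoPullback T.ι).app ((Scheme.Modules.pullback q).obj F) ≪≫
    (pullbackComp T.ι q).app F ≪≫
    (pullbackCongr (Scheme.Hom.resLE_comp_ι q e).symm).app F ≪≫
    ((pullbackComp (q.resLE W T e) W.ι).app F).symm ≪≫
    (Scheme.Modules.pullback (q.resLE W T e)).mapIso ((restrictFunctorIsoPullback W.ι).app F).symm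

/-- Single quasi-compact flat surjective cover; the converse direction is base change: Let f : X ⟶ S be
a morphism, L an invertible O_X-module, g : S' ⟶ S quasi-compact, flat and surjective, X' = X ×_S S'
with projections to X and S', and L' the pullback of L to X'. If L' is ample on X' relative to S',
then L is ample on X relative to S. -/
theorem result {X S S' : Scheme.{u}} (f : X ⟶ S) (L : X.Modules) (hL : PicF.IsInvertible L)
    (g : S' ⟶ S) [QuasiCompact g] [Flat g] [Surjective g]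
    (h : RelAmple.IsRelAmple (pullback.snd f g) ((Scheme.Modules.pullback (pullback.fst f g)).obj L)) :
    RelAmple.IsRelAmple f L := by
  classical
  have hpb : IsPullback (pullback.fst f g) (pullback.snd f g) f g := IsPullback.of_hasPullback f g
  haveI hqc' : QuasiCompact (pullback.snd f g) := h.1
  haveI hqc : QuasiCompact f :=
    Groth.Agent.Lib.FpqcDescent.quasiCompact_of_isPullback_of_surjective hpb.flip
  refine ⟨hqc, fun V => ?_⟩
  -- a finite affine cover of `g⁻¹ V`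
  have hcpt : IsCompact (X := S') (g ⁻¹ᵁ V.1) :=
    QuasiCompact.isCompact_preimage (f := g) _ V.1.2 V.2.isCompact
  obtain ⟨s, hs, hcov⟩ := isCompact_iff_finite_and_eq_biUnion_affineOpens.mp hcpt
  haveI : Finite ↥s := hs.to_subtype
  have hle : ∀ j : ↥s, (j.1 : S'.Opens) ≤ g ⁻¹ᵁ V.1 := fun j => by
    rw [hcov]; exact le_iSup₂ (f := fun (i : S'.affineOpens) (_ : i ∈ s) => (i : S'.Opens)) j.1 j.2
  have hle' : ∀ j : ↥s, pullback.snd f g ⁻¹ᵁ (j.1 : S'.Opens) ≤ pullback.fst f g ⁻¹ᵁ (f ⁻¹ᵁ V.1) := fun j => by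
    rw [← Scheme.Hom.comp_preimage, hpb.w, Scheme.Hom.comp_preimage]
    exact (pullback.snd f g).preimage_mono (hle j)
  haveI : IsAffine (V.1 : Scheme.{u}) := V.2
  haveI : ∀ j : ↥s, IsAffine ((j.1 : S'.Opens) : Scheme.{u}) := fun j => j.1.2
  haveI : QuasiCompact (f.resLE V.1 (f ⁻¹ᵁ V.1) le_rfl) := by
    rw [Scheme.Hom.resLE_eq_morphismRestrict]; infer_instance
  have hsurj : ∀ y : (V.1 : Scheme.{u}), ∃ (j : ↥s), ∃ z : ((j.1 : S'.Opens) : Scheme.{u}),
      (g.resLE V.1 j.1 (hle j)) z = y := by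
    intro y
    obtain ⟨z, hz⟩ := g.surjective y.1
    have hzV : z ∈ g ⁻¹ᵁ V.1 := by
      change g z ∈ V.1; rw [hz]; exact y.2
    rw [hcov] at hzV
    obtain ⟨i, hzi⟩ := TopologicalSpace.Opens.mem_iSup.1 hzV
    obtain ⟨hi, hzi⟩ := TopologicalSpace.Opens.mem_iSup.1 hzi
    refine ⟨⟨i, hi⟩, ⟨z, hzi⟩, Subtype.ext ?_⟩
    rw [Scheme.Hom.coe_resLE_apply]
    exact hz
  have hLV : PicF.IsInvertible (L.restrict (f ⁻¹ᵁ V.1).ι) :=
    Groth.Agent.Lib.H90Invertible.isInvertible_restrict (f ⁻¹ᵁ V.1).ι hL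
  have hamp : ∀ j : ↥s, CohB1.IsAmple ((Scheme.Modules.pullback
      ((pullback.fst f g).resLE (f ⁻¹ᵁ V.1) (pullback.snd f g ⁻¹ᵁ (j.1 : S'.Opens)) (hle' j))).obj
        (L.restrict (f ⁻¹ᵁ V.1).ι)) := fun j =>
    Groth.Agent.Lib.H78AmpleUnit.isAmple_of_iso
      (restrictPullbackIso' (pullback.fst f g) (f ⁻¹ᵁ V.1) _ (hle' j) L) (h.2 j.1)
  have hpbj : ∀ j : ↥s, IsPullback
      ((pullback.fst f g).resLE (f ⁻¹ᵁ V.1) (pullback.snd f g ⁻¹ᵁ (j.1 : S'.Opens)) (hle' j))
      ((pullback.snd f g).resLE j.1 (pullback.snd f g ⁻¹ᵁ (j.1 : S'.Opens)) le_rfl)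
      (f.resLE V.1 (f ⁻¹ᵁ V.1) le_rfl) (g.resLE V.1 j.1 (hle j)) := fun j =>
    Scheme.Hom.isPullback_resLE hpb (hle j) le_rfl
      (le_antisymm (le_inf (hle' j) le_rfl) inf_le_right)
  exact Groth.Agent.Lib.AmpleFpqcH3.isAmple_of_pullback_family
    (f.resLE V.1 (f ⁻¹ᵁ V.1) le_rfl)
    (S' := fun j : ↥s => ((j.1 : S'.Opens) : Scheme.{u}))
    (X' := fun j : ↥s => ((pullback.snd f g ⁻¹ᵁ (j.1 : S'.Opens) : (pullback f g).Opens) : Scheme.{u}))
    (fun j => g.resLE V.1 j.1 (hle j))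
    (fun j => (pullback.fst f g).resLE (f ⁻¹ᵁ V.1) _ (hle' j))
    (fun j => (pullback.snd f g).resLE j.1 _ le_rfl)
    hpbj hsurj _ hLV hamp

end Groth.Agent.S1152
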