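import Groth.Statements.S11527
import Groth.Agent.Lib.BoschCore76D

set_option autoImplicit false
universe u
open AdicRing

namespace Groth.Agent.S11527

/-- Let R be a base ring of class (N) or (V) for the ideal I, A an R-algebra topologically of finite
type, M a finite A-module and N a submodule of M which is saturated with respect to I: every element
x of M with I^n x contained in N for some n already lies in N. Then N is finitely generated. -/
theorem result
    (R : Type u) [CommRing R] (I : Ideal R) (hR : AdicRing.IsBase R I)
    (A : Type u) [CommRing A] [Algebra R A] (hA : AdicRing.TopFiniteType R I A)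
    (M : Type u) [AddCommGroup M] [Module A M] [Module R M] [IsScalarTower R A M]
    [Module.Finite A M] (N : Submodule A M)
    (hsat : ∀ (x : M) (n : ℕ), (∀ a ∈ I ^ n, a • x ∈ N) → x ∈ N) :
    N.FG := by
  obtain ⟨hc, hN | hV⟩ := hR
  · obtain ⟨hnoeth, -⟩ := hN
    have := Groth.Agent.Lib.BoschCore76.isNoetherianRing_of_topFiniteType I hA
    have : IsNoetherian A M := isNoetherian_of_isNoetherianRing_of_finite A M
    exact IsNoetherian.noetherian N
  · obtain ⟨hdom, hpv, hdim, t, ht, rfl⟩ := hV
    have : ValuationRing R := { cond' := hpv.cond' }
    obtain ⟨htu, hnil⟩ := Groth.Agent.Lib.BoschCore76.isBase_V_unpack t ht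
    apply Groth.Agent.Lib.BoschCore76.fg_of_saturated_V t htu hnil hA M N
    intro x hx
    apply hsat x 1
    intro a ha
    rw [pow_one, Ideal.mem_span_singleton] at ha
    obtain ⟨c, rfl⟩ := ha
    rw [mul_comm, mul_smul, ← algebraMap_smul A c, ← algebraMap_smul A t]
    exact N.smul_mem _ hx

end Groth.Agent.S11527
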