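import Groth.Statements.S11528
import Groth.Agent.Lib.BoschCore76F

set_option autoImplicit false
universe u
open AdicRing

namespace Groth.Agent.S11528

/-- Let R be a base ring of class (N) or (V) for the ideal I, A an R-algebra topologically of finite
type, M a finite A-module and N a submodule of M. Then for some n₀ and all m, the intersection of
I^(m+n₀) M with N lies in I^m N. (The published statement asserts only that the I-adic topology of M
induces that of N; this row states the uniform form: for some n₀ and all m, I^(m+n₀) M ∩ N lies in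
I^m N.) -/
theorem result
    (R : Type u) [CommRing R] (I : Ideal R) (hR : AdicRing.IsBase R I)
    (A : Type u) [CommRing A] [Algebra R A] (hA : AdicRing.TopFiniteType R I A)
    (M : Type u) [AddCommGroup M] [Module A M] [Module R M] [IsScalarTower R A M]
    [Module.Finite A M] (N : Submodule A M) :
    ∃ n₀ : ℕ, ∀ m : ℕ,
      (I ^ (m + n₀) • (⊤ : Submodule R M)) ⊓ N.restrictScalars R ≤ I ^ m • N.restrictScalars R := by
  obtain ⟨hc, hN | hV⟩ := hR
  · obtain ⟨hnoeth, -⟩ := hN
    have hAn : IsNoetherianRing A :=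
      Groth.Agent.Lib.BoschCore76.isNoetherianRing_of_topFiniteType I hA
    obtain ⟨k, hk⟩ := Ideal.exists_pow_inf_eq_pow_smul (I.map (algebraMap R A)) N
    refine ⟨k, fun m => ?_⟩
    have h1 := hk (m + k) (Nat.le_add_left k m)
    rw [Nat.add_sub_cancel] at h1
    have h2 : (I.map (algebraMap R A)) ^ (m + k) • (⊤ : Submodule A M) ⊓ N ≤
        (I.map (algebraMap R A)) ^ m • N := by
      rw [h1]
      exact Submodule.smul_mono le_rfl inf_le_right
    intro z hz
    obtain ⟨hz1, hz2⟩ := hz
    have e1 : ((I.map (algebraMap R A)) ^ (m + k) • (⊤ : Submodule A M)).restrictScalars R =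
        I ^ (m + k) • (⊤ : Submodule R M) := by
      rw [← Ideal.map_pow, Ideal.smul_restrictScalars, Submodule.restrictScalars_top]
    have e2 : ((I.map (algebraMap R A)) ^ m • N).restrictScalars R =
        I ^ m • N.restrictScalars R := by
      rw [← Ideal.map_pow, Ideal.smul_restrictScalars]
    rw [← e2]
    apply h2
    refine ⟨?_, hz2⟩
    have : z ∈ ((I.map (algebraMap R A)) ^ (m + k) • (⊤ : Submodule A M)).restrictScalars R := by
      rw [e1]; exact hz1
    exact this
  · obtain ⟨hdom, hpv, hdim, t, ht, rfl⟩ := hV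
    have : ValuationRing R := { cond' := hpv.cond' }
    obtain ⟨htu, hnil⟩ := Groth.Agent.Lib.BoschCore76.isBase_V_unpack t ht
    obtain ⟨n₀, hn₀⟩ := Groth.Agent.Lib.BoschCore76.exists_pow_smul_mem_V t htu hnil hA M N
    refine ⟨n₀, fun m z hz => ?_⟩
    obtain ⟨hz1, hz2⟩ := hz
    rw [SetLike.mem_coe, Groth.Agent.Lib.BoschCore76.mem_span_pow_smul_top_iff] at hz1
    obtain ⟨y, rfl⟩ := hz1
    have hz2' : (algebraMap R A t) ^ (m + n₀) • y ∈ N := by
      have : t ^ (m + n₀) • y ∈ N := hz2
      rwa [← algebraMap_smul A, map_pow] at this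
    have h3 := hn₀ y ⟨_, hz2'⟩
    have h4 : t ^ (m + n₀) • y = t ^ m • (t ^ n₀ • y) := by rw [pow_add, mul_smul]
    rw [h4]
    apply Submodule.smul_mem_smul (Ideal.pow_mem_pow (Ideal.mem_span_singleton_self t) m)
    show t ^ n₀ • y ∈ N
    rw [← algebraMap_smul A, map_pow]
    exact h3

end Groth.Agent.S11528
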