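import Groth.Statements.S1153
import Groth.Agent.Lib.ProperDescent

set_option autoImplicit false
open CategoryTheory CategoryTheory.Limits AlgebraicGeometry Opposite
universe u
open Desc

namespace Groth.Agent.S1153

open Groth.Agent.Lib.ProperDescent

/-- Let f : X ⟶ Y be locally of finite type, Z a closed subset of X and g : Y' ⟶ Y quasi-compact, flat
and surjective. If the preimage of Z in X ×_Y Y' is proper over Y', then Z is proper over Y. -/
theorem result {X Y Y' : Scheme.{u}} (f : X ⟶ Y) [LocallyOfFiniteType f] (Z : Set X) (hZ : IsClosed Z)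
    (g : Y' ⟶ Y) [QuasiCompact g] [Flat g] [Surjective g]
    (h : ClSub.IsProperOver (pullback.snd f g) ((pullback.fst f g).base ⁻¹' Z)) :
    ClSub.IsProperOver f Z := by
  obtain ⟨hZ', hprop⟩ := h
  refine ⟨hZ, ?_⟩
  set I := Scheme.IdealSheafData.vanishingIdeal ⟨Z, hZ⟩ with hI
  set I' := Scheme.IdealSheafData.vanishingIdeal ⟨(pullback.fst f g).base ⁻¹' Z, hZ'⟩ with hI'
  set i := I.subschemeι with hi
  set i' := I'.subschemeι with hi'
  set p := i ≫ f with hp
  -- the base change of the reduced subscheme, mapping to the fibre product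
  let j : pullback p g ⟶ pullback f g :=
    pullback.map p g f g i (𝟙 Y') (𝟙 Y) (by simp [hp]) (by simp)
  have hj : IsClosedImmersion j :=
    MorphismProperty.pullbackMap (P := @IsClosedImmersion) (f := p) (g := g)
      (f' := f) (g' := g) (i₁ := i) (i₂ := 𝟙 Y') inferInstance inferInstance rfl (by simp)
  have hjsnd : j ≫ pullback.snd f g = pullback.snd p g := by
    simp only [j]
    rw [pullback.lift_snd, Category.comp_id]
  have hrange_i : Set.range i.base = Z := by
    have := Scheme.IdealSheafData.range_subschemeι I
    rw [hI, Scheme.IdealSheafData.coe_support_vanishingIdeal] at this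
    exact this
  have hrange_i' : Set.range i'.base = (pullback.fst f g).base ⁻¹' Z := by
    have := Scheme.IdealSheafData.range_subschemeι I'
    rw [hI', Scheme.IdealSheafData.coe_support_vanishingIdeal] at this
    exact this
  have hrange_j : Set.range j.base = (pullback.fst f g).base ⁻¹' Z := by
    have := Scheme.Pullback.range_map p g f g i (𝟙 Y') (𝟙 Y) (by simp [hp]) (by simp)
    rw [← hrange_i]
    refine this.trans ?_
    have h1 : Set.range (𝟙 Y' : Y' ⟶ Y').base = Set.univ := by
      rw [Set.range_eq_univ]
      exact (𝟙 Y' : Y' ⟶ Y').surjective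
    erw [h1]
    simp
  have hker : j.ker ≤ i'.ker := by
    have h1 : i'.ker = I' := Scheme.IdealSheafData.ker_subschemeι I'
    rw [h1, hI', ← Scheme.IdealSheafData.le_support_iff_le_vanishingIdeal]
    intro x hx
    have h2 := Scheme.Hom.support_ker j
    rw [← SetLike.mem_coe, h2]
    apply subset_closure
    rw [hrange_j]
    exact hx
  let k : I'.subscheme ⟶ pullback p g := IsClosedImmersion.lift j i' hker
  have hk : k ≫ j = i' := IsClosedImmersion.lift_fac j i' hker
  have hkci : IsClosedImmersion k := by
    have : IsClosedImmersion (k ≫ j) := by rw [hk]; infer_instance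
    exact IsClosedImmersion.of_comp k j
  have hksurj : Surjective k := by
    constructor
    intro w
    have hw : j.base w ∈ Set.range i'.base := by
      rw [hrange_i', ← hrange_j]
      exact ⟨w, rfl⟩
    obtain ⟨t, ht⟩ := hw
    refine ⟨t, ?_⟩
    apply j.isClosedEmbedding.injective
    rw [← ht, ← hk]
    rfl
  have hkq : k ≫ pullback.snd p g = i' ≫ pullback.snd f g := by
    rw [← hjsnd, ← Category.assoc, hk]
  have : IsProper (k ≫ pullback.snd p g) := by rw [hkq]; exact hprop
  have hq : IsProper (pullback.snd p g) :=
    isProper_of_comp_surjective_closedImmersion k (pullback.snd p g)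
  exact isProper_of_pullback_snd p g hq

end Groth.Agent.S1153
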