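import Groth.Statements.S11530
import Groth.Agent.Lib.BoschCore76G
import Groth.Agent.S2293

set_option autoImplicit false
universe u
open AdicRing

namespace Groth.Agent.S11530

/-- Let R be a base ring of class (N) or (V) for the ideal I and A an R-algebra which is complete and
separated for the I-adic topology. Then A is topologically of finite presentation over R if and only
if, for every n, the truncation A/I^(n+1)A is an algebra of finite presentation over R/I^(n+1). -/
theorem result
    (R : Type u) [CommRing R] (I : Ideal R) (hR : AdicRing.IsBase R I)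
    (A : Type u) [CommRing A] [Algebra R A] [IsAdicComplete (I.map (algebraMap R A)) A] :
    AdicRing.TopFinitePresentation R I A ↔
      ∀ n : ℕ, (Ideal.quotientMap ((I ^ (n + 1)).map (algebraMap R A)) (algebraMap R A)
        Ideal.le_comap_map).FinitePresentation := by
  have hI : I.FG := by
    obtain ⟨hc, hN | hV⟩ := hR
    · obtain ⟨hnoeth, -⟩ := hN
      exact (isNoetherianRing_iff_ideal_fg R).1 hnoeth I
    · obtain ⟨-, -, -, t, -, rfl⟩ := hV
      exact ⟨{t}, by simp⟩
  constructor
  · rintro ⟨n, φ, hφ, hker⟩ k
    exact Groth.Agent.Lib.BoschCore76.finitePresentation_trunc I φ (k + 1) hI hφ hker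
  · intro hfp
    have hft : (Ideal.quotientMap (I.map (algebraMap R A)) (algebraMap R A)
        Ideal.le_comap_map).FiniteType := by
      have h0 := hfp 0
      have key : ∀ (J : Ideal R) (_ : J = I),
          (Ideal.quotientMap (J.map (algebraMap R A)) (algebraMap R A)
            Ideal.le_comap_map).FinitePresentation →
          (Ideal.quotientMap (I.map (algebraMap R A)) (algebraMap R A)
            Ideal.le_comap_map).FiniteType := by
        rintro J rfl h
        exact RingHom.FiniteType.of_finitePresentation h
      exact key _ (by rw [zero_add, pow_one]) h0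
    obtain ⟨n, φ, hφ⟩ := Groth.Agent.S2293.result R I hI A hft
    refine ⟨n, φ, hφ, ?_⟩
    obtain ⟨hc, hN | hV⟩ := hR
    · obtain ⟨hnoeth, -⟩ := hN
      have := Groth.Agent.Lib.BoschCore76.isNoetherianRing_rpow I n
      exact (isNoetherianRing_iff_ideal_fg _).1 inferInstance _
    · obtain ⟨hdom, hpv, hdim, t, ht, rfl⟩ := hV
      have : ValuationRing R := { cond' := hpv.cond' }
      obtain ⟨htu, hnil⟩ := Groth.Agent.Lib.BoschCore76.isBase_V_unpack t ht
      exact Groth.Agent.Lib.BoschCore76.ker_fg_of_trunc_V t htu hnil φ hφ hfp

end Groth.Agent.S11530
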