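import Groth.Statements.S11531
import Groth.Agent.Lib.BoschCore76H
import Groth.Agent.S11528
import Groth.Agent.S11529

set_option autoImplicit false
universe u
open scoped TensorProduct
open AdicRing

namespace Groth.Agent.S11531

/-- Let R be a base ring of class (N) or (V) for the ideal I, A → B a morphism of R-algebras
topologically of finite type and M a finite B-module. Then M is flat over A if and only if, for
every n, writing A_n = A/I^(n+1)A, the module A_n ⊗_A M is flat over A_n. -/
theorem result
    (R : Type u) [CommRing R] (I : Ideal R) (hR : AdicRing.IsBase R I)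
    (A : Type u) [CommRing A] [Algebra R A] (hA : AdicRing.TopFiniteType R I A)
    (B : Type u) [CommRing B] [Algebra R B] [Algebra A B] [IsScalarTower R A B]
    (hB : AdicRing.TopFiniteType R I B)
    (M : Type u) [AddCommGroup M] [Module B M] [Module A M] [IsScalarTower A B M]
    [Module.Finite B M] :
    Module.Flat A M ↔
      ∀ n : ℕ, Module.Flat (AdicRing.trunc A I n) ((AdicRing.trunc A I n) ⊗[A] M) := by
  constructor
  · intro h n
    infer_instance
  · intro hfl
    apply Groth.Agent.Lib.BoschCore76.flat_of_forall_trunc (I.map (algebraMap R A)) M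
    · intro 𝔞 hfg
      have hfa : Module.Finite A 𝔞 := Module.Finite.iff_fg.mpr hfg
      have hfin : Module.Finite B (M ⊗[A] 𝔞) :=
        Groth.Agent.Lib.BoschCore76.finite_tensorProduct_left M 𝔞
      let _ : Module R (M ⊗[A] 𝔞) := Module.compHom (M ⊗[A] 𝔞) (algebraMap R B)
      have hRB : IsScalarTower R B (M ⊗[A] 𝔞) := IsScalarTower.of_algebraMap_smul (fun _ _ => rfl)
      have hc : IsAdicComplete I (M ⊗[A] 𝔞) := Groth.Agent.S11529.result R I hR B hB (M ⊗[A] 𝔞)
      have hRA : IsScalarTower R A (M ⊗[A] 𝔞) := by
        apply IsScalarTower.of_algebraMap_smul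
        intro r w
        rw [← algebraMap_smul B (algebraMap R A r) w, ← IsScalarTower.algebraMap_apply R A B]
        rfl
      have hH : IsHausdorff (I.map (algebraMap R A)) (M ⊗[A] 𝔞) :=
        IsHausdorff.map_algebraMap_iff.mpr hc.toIsHausdorff
      exact Groth.Agent.Lib.BoschCore76.isHausdorff_of_injective _
        (TensorProduct.comm A 𝔞 M).toLinearMap (TensorProduct.comm A 𝔞 M).injective
    · intro 𝔞 hfg m
      obtain ⟨n₀, hn₀⟩ := Groth.Agent.S11528.result R I hR A hA A 𝔞
      refine ⟨(I ^ (m + n₀ + 1)).map (algebraMap R A), ?_, hfl (m + n₀)⟩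
      rintro y ⟨hy1, hy2⟩
      have hy1' : y ∈ (I ^ (m + n₀)).map (algebraMap R A) :=
        Ideal.map_mono (Ideal.pow_le_pow_right (Nat.le_succ _)) hy1
      have hy3 : y ∈ (I ^ (m + n₀) • (⊤ : Submodule R A)) ⊓ 𝔞.restrictScalars R := by
        refine ⟨?_, hy2⟩
        rw [Ideal.smul_top_eq_map]
        exact hy1'
      have hy4 := hn₀ m hy3
      rw [← Ideal.smul_restrictScalars] at hy4
      rw [← Ideal.map_pow]
      exact hy4

end Groth.Agent.S11531
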