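import Groth.Statements.S11532
import Groth.Agent.S11531

set_option autoImplicit false
universe u
open scoped TensorProduct
open AdicRing

namespace Groth.Agent.S11532

/-- Let R be a base ring of class (N) or (V) for the ideal I, A → B a morphism of R-algebras
topologically of finite type and M a finite B-module. Then M is a faithfully flat A-module exactly
when, for every n, writing A_n = A/I^(n+1)A, the module A_n ⊗_A M is faithfully flat over A_n. -/
theorem result
    (R : Type u) [CommRing R] (I : Ideal R) (hR : AdicRing.IsBase R I)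
    (A : Type u) [CommRing A] [Algebra R A] (hA : AdicRing.TopFiniteType R I A)
    (B : Type u) [CommRing B] [Algebra R B] [Algebra A B] [IsScalarTower R A B]
    (hB : AdicRing.TopFiniteType R I B)
    (M : Type u) [AddCommGroup M] [Module B M] [Module A M] [IsScalarTower A B M]
    [Module.Finite B M] :
    Module.FaithfullyFlat A M ↔
      ∀ n : ℕ, Module.FaithfullyFlat (AdicRing.trunc A I n) ((AdicRing.trunc A I n) ⊗[A] M) := by
  constructor
  · intro h n
    infer_instance
  · intro hfl
    have hflat : Module.Flat A M :=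
      (Groth.Agent.S11531.result R I hR A hA B hB M).mpr (fun n => (hfl n).toFlat)
    refine ⟨fun 𝔪 h𝔪 htop => ?_⟩
    -- `A` is complete, so `𝔍 ≤ 𝔪`
    have hc : IsAdicComplete I A := Groth.Agent.S11529.result R I hR A hA A
    have hcA : IsAdicComplete (I.map (algebraMap R A)) A :=
      (IsAdicComplete.map_algebraMap_iff I A).mpr hc
    have hle : I.map (algebraMap R A) ≤ 𝔪 :=
      (IsAdicComplete.le_jacobson_bot (I.map (algebraMap R A))).trans (sInf_le ⟨bot_le, h𝔪⟩)
    have hK : (I ^ (0 + 1)).map (algebraMap R A) ≤ 𝔪 :=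
      (Ideal.map_mono (Ideal.pow_le_self (Nat.succ_ne_zero 0))).trans hle
    have h0 := (Module.FaithfullyFlat.iff_flat_and_proper_ideal _ _).mp (hfl 0)
    apply h0.2 (𝔪.map (Ideal.Quotient.mk ((I ^ (0 + 1)).map (algebraMap R A))))
    · intro h1
      have : (1 : AdicRing.trunc A I 0) ∈
          𝔪.map (Ideal.Quotient.mk ((I ^ (0 + 1)).map (algebraMap R A))) := by
        rw [h1]; trivial
      obtain ⟨c, hc𝔪, hc1⟩ :=
        (Ideal.mem_map_iff_of_surjective _ Ideal.Quotient.mk_surjective).mp this
      have h2 : c - 1 ∈ (I ^ (0 + 1)).map (algebraMap R A) := by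
        rw [← Ideal.Quotient.eq_zero_iff_mem, map_sub, hc1, map_one, sub_self]
      have h3 : (1 : A) ∈ 𝔪 := by
        have := 𝔪.sub_mem hc𝔪 (hK h2)
        simpa using this
      exact h𝔪.ne_top ((Ideal.eq_top_iff_one _).mpr h3)
    · rw [eq_top_iff]
      rintro x -
      induction x using TensorProduct.induction_on with
      | zero => exact Submodule.zero_mem _
      | tmul a μ =>
        have hμ : μ ∈ 𝔪 • (⊤ : Submodule A M) := by rw [htop]; trivial
        refine Submodule.smul_induction_on (p := fun μ => a ⊗ₜ[A] μ ∈
          (𝔪.map (Ideal.Quotient.mk ((I ^ (0 + 1)).map (algebraMap R A))) •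
            (⊤ : Submodule (AdicRing.trunc A I 0) ((AdicRing.trunc A I 0) ⊗[A] M)))) hμ ?_ ?_
        · intro c hc ν _
          have : a ⊗ₜ[A] (c • ν) =
              (Ideal.Quotient.mk ((I ^ (0 + 1)).map (algebraMap R A)) c) • (a ⊗ₜ[A] ν) := by
            rw [TensorProduct.smul_tmul', ← TensorProduct.smul_tmul]
            congr 1
          rw [this]
          exact Submodule.smul_mem_smul (Ideal.mem_map_of_mem _ hc) trivial
        · intro ν₁ ν₂ h₁ h₂
          rw [TensorProduct.tmul_add]
          exact Submodule.add_mem _ h₁ h₂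
      | add x y hx hy => exact Submodule.add_mem _ hx hy

end Groth.Agent.S11532
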