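import Groth.Statements.S11534
import Groth.Agent.Lib.BoschCore76I
import Groth.Agent.S2293

set_option autoImplicit false
universe u
open AdicRing

namespace Groth.Agent.S11534

/-- Let R be a base ring of class (N) or (V) for the ideal I, A an R-algebra which is complete and
separated for the I-adic topology, and f_1, ..., f_r elements generating the unit ideal of A. Then A
is topologically of finite type over R if and only if each complete localization A⟨f_i⁻¹⟩ is. -/
theorem result
    (R : Type u) [CommRing R] (I : Ideal R) (hR : AdicRing.IsBase R I)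
    (A : Type u) [CommRing A] [Algebra R A] [IsAdicComplete (I.map (algebraMap R A)) A]
    (r : ℕ) (f : Fin r → A) (hf : Ideal.span (Set.range f) = ⊤) :
    AdicRing.TopFiniteType R I A ↔ ∀ i, AdicRing.TopFiniteType R I (AdicRing.CLoc I (f i)) := by
  have hI : I.FG := by
    obtain ⟨hc, hN | hV⟩ := hR
    · obtain ⟨hnoeth, -⟩ := hN
      exact (isNoetherianRing_iff_ideal_fg R).1 hnoeth I
    · obtain ⟨-, -, -, t, -, rfl⟩ := hV
      exact ⟨{t}, by simp⟩
  have key := Groth.Agent.Lib.BoschCore76.finiteType_quot_cloc_iff I f 1 hf hI I (pow_one I).symm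
  constructor
  · rintro ⟨n, φ, hφ⟩ i
    have h1 := Groth.Agent.Lib.BoschCore76.finiteType_trunc' I φ 1 hI hφ I (pow_one I).symm
    have h2 := key.mp h1 i
    have := Groth.Agent.Lib.BoschCore76.cloc_isAdicComplete I (f i) hI
    exact Groth.Agent.S2293.result R I hI (AdicRing.CLoc I (f i)) h2
  · intro h
    have h1 : ∀ i, (Ideal.quotientMap (I.map (algebraMap R (AdicRing.CLoc I (f i))))
        (algebraMap R (AdicRing.CLoc I (f i))) Ideal.le_comap_map).FiniteType := by
      intro i
      obtain ⟨n, φ, hφ⟩ := h i
      exact Groth.Agent.Lib.BoschCore76.finiteType_trunc' I φ 1 hI hφ I (pow_one I).symm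
    exact Groth.Agent.S2293.result R I hI A (key.mpr h1)

end Groth.Agent.S11534
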