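import Groth.Statements.S11533
import Groth.Agent.Lib.BoschCore76K
import Groth.Agent.S11531
import Groth.Agent.S11534

set_option autoImplicit false
universe u
open AdicRing

namespace Groth.Agent.S11533

/-- Let R be a base ring of class (N) or (V) for the ideal I, A an R-algebra topologically of finite
type and f_1, ..., f_r elements of A generating the unit ideal. Then every complete localization
A⟨f_i⁻¹⟩ is flat over A, and the product of the A⟨f_i⁻¹⟩ is faithfully flat over A. -/
theorem result
    (R : Type u) [CommRing R] (I : Ideal R) (hR : AdicRing.IsBase R I)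
    (A : Type u) [CommRing A] [Algebra R A] (hA : AdicRing.TopFiniteType R I A)
    (r : ℕ) (f : Fin r → A) (hf : Ideal.span (Set.range f) = ⊤) :
    (∀ i, Module.Flat A (AdicRing.CLoc I (f i))) ∧
      Module.FaithfullyFlat A (∀ i, AdicRing.CLoc I (f i)) := by
  have hI : I.FG := by
    obtain ⟨hc, hN | hV⟩ := hR
    · obtain ⟨hnoeth, -⟩ := hN
      exact (isNoetherianRing_iff_ideal_fg R).1 hnoeth I
    · obtain ⟨-, -, -, t, -, rfl⟩ := hV
      exact ⟨{t}, by simp⟩
  have hc : IsAdicComplete I A := Groth.Agent.S11529.result R I hR A hA A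
  have hcA : IsAdicComplete (I.map (algebraMap R A)) A :=
    (IsAdicComplete.map_algebraMap_iff I A).mpr hc
  have hflat : ∀ i, Module.Flat A (AdicRing.CLoc I (f i)) := by
    intro i
    have hB : AdicRing.TopFiniteType R I (AdicRing.CLoc I (f i)) :=
      (Groth.Agent.S11534.result R I hR A r f hf).mp hA i
    exact (Groth.Agent.S11531.result R I hR A hA (AdicRing.CLoc I (f i)) hB
      (AdicRing.CLoc I (f i))).mpr
      (fun n => Groth.Agent.Lib.BoschCore76.flat_trunc_tensor_cloc I (f i) (n + 1) hI)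
  refine ⟨hflat, ?_⟩
  have hflatPi : Module.Flat A (∀ i, AdicRing.CLoc I (f i)) :=
    Module.Flat.of_linearEquiv
      (DirectSum.linearEquivFunOnFintype A (Fin r) (fun i => AdicRing.CLoc I (f i))).symm
  refine ⟨fun 𝔪 h𝔪 htop => ?_⟩
  have hle : I.map (algebraMap R A) ≤ 𝔪 :=
    (IsAdicComplete.le_jacobson_bot (I.map (algebraMap R A))).trans (sInf_le ⟨bot_le, h𝔪⟩)
  have hex : ∃ j, f j ∉ 𝔪 := by
    by_contra hcon
    push Not at hcon
    have : Ideal.span (Set.range f) ≤ 𝔪 := by
      rw [Ideal.span_le]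
      rintro _ ⟨j, rfl⟩
      exact hcon j
    rw [hf] at this
    exact h𝔪.ne_top (top_le_iff.mp this)
  obtain ⟨j, hj⟩ := hex
  have hprime : 𝔪.IsPrime := h𝔪.isPrime
  apply Groth.Agent.Lib.BoschCore76.map_cloc_ne_top I (f j) hI 𝔪 hle hj
  have hsurj : Function.Surjective
      (LinearMap.proj j : (∀ i, AdicRing.CLoc I (f i)) →ₗ[A] AdicRing.CLoc I (f j)) :=
    LinearMap.proj_surjective j
  have h1 : 𝔪 • (⊤ : Submodule A (AdicRing.CLoc I (f j))) = ⊤ := by
    have h2 := congrArg (Submodule.map
      (LinearMap.proj j : (∀ i, AdicRing.CLoc I (f i)) →ₗ[A] AdicRing.CLoc I (f j))) htop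
    rw [Submodule.map_smul'', Submodule.map_top, LinearMap.range_eq_top.mpr hsurj] at h2
    exact h2
  rw [Ideal.smul_top_eq_map] at h1
  rw [eq_top_iff]
  intro x _
  have : x ∈ (𝔪.map (algebraMap A (AdicRing.CLoc I (f j)))).restrictScalars A := by
    rw [h1]; trivial
  exact this

end Groth.Agent.S11533
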