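import Groth.Statements.S11535
import Groth.Agent.Lib.BoschCore76I
import Groth.Agent.S11530

set_option autoImplicit false
universe u
open AdicRing

namespace Groth.Agent.S11535

/-- Let R be a base ring of class (N) or (V) for the ideal I, A an R-algebra which is complete and
separated for the I-adic topology, and f_1, ..., f_r elements generating the unit ideal of A. Then A
is topologically of finite presentation over R if and only if each complete localization A⟨f_i⁻¹⟩
is. -/
theorem result
    (R : Type u) [CommRing R] (I : Ideal R) (hR : AdicRing.IsBase R I)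
    (A : Type u) [CommRing A] [Algebra R A] [IsAdicComplete (I.map (algebraMap R A)) A]
    (r : ℕ) (f : Fin r → A) (hf : Ideal.span (Set.range f) = ⊤) :
    AdicRing.TopFinitePresentation R I A ↔
      ∀ i, AdicRing.TopFinitePresentation R I (AdicRing.CLoc I (f i)) := by
  have hI : I.FG := by
    obtain ⟨hc, hN | hV⟩ := hR
    · obtain ⟨hnoeth, -⟩ := hN
      exact (isNoetherianRing_iff_ideal_fg R).1 hnoeth I
    · obtain ⟨-, -, -, t, -, rfl⟩ := hV
      exact ⟨{t}, by simp⟩
  have hcl : ∀ i, IsAdicComplete (I.map (algebraMap R (AdicRing.CLoc I (f i))))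
      (AdicRing.CLoc I (f i)) :=
    fun i => Groth.Agent.Lib.BoschCore76.cloc_isAdicComplete I (f i) hI
  rw [Groth.Agent.S11530.result R I hR A]
  constructor
  · intro h i
    have := hcl i
    rw [Groth.Agent.S11530.result R I hR (AdicRing.CLoc I (f i))]
    intro n
    exact (Groth.Agent.Lib.BoschCore76.finitePresentation_quot_cloc_iff I f (n + 1) hf hI
      (I ^ (n + 1)) rfl).mp (h n) i
  · intro h n
    apply (Groth.Agent.Lib.BoschCore76.finitePresentation_quot_cloc_iff I f (n + 1) hf hI
      (I ^ (n + 1)) rfl).mpr
    intro i
    have := hcl i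
    exact (Groth.Agent.S11530.result R I hR (AdicRing.CLoc I (f i))).mp (h i) n

end Groth.Agent.S11535
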