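import Groth.Statements.S11536
import Groth.Agent.Lib.BoschCore76J
import Groth.Agent.S11535

set_option autoImplicit false
universe u
open AdicRing

namespace Groth.Agent.S11536

/-- Let R be a base ring of class (N) or (V) for the ideal I, A an R-algebra which is complete and
separated for the I-adic topology, and f_1, ..., f_r elements generating the unit ideal of A. Then A
is admissible over R if and only if each complete localization A⟨f_i⁻¹⟩ is. -/
theorem result
    (R : Type u) [CommRing R] (I : Ideal R) (hR : AdicRing.IsBase R I)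
    (A : Type u) [CommRing A] [Algebra R A] [IsAdicComplete (I.map (algebraMap R A)) A]
    (r : ℕ) (f : Fin r → A) (hf : Ideal.span (Set.range f) = ⊤) :
    AdicRing.Admissible R I A ↔ ∀ i, AdicRing.Admissible R I (AdicRing.CLoc I (f i)) := by
  have hI : I.FG := by
    obtain ⟨hc, hN | hV⟩ := hR
    · obtain ⟨hnoeth, -⟩ := hN
      exact (isNoetherianRing_iff_ideal_fg R).1 hnoeth I
    · obtain ⟨-, -, -, t, -, rfl⟩ := hV
      exact ⟨{t}, by simp⟩
  constructor
  · rintro ⟨htfp, htor⟩ i
    have hA : AdicRing.TopFiniteType R I A := by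
      obtain ⟨n, φ, hφ, _⟩ := htfp
      exact ⟨n, φ, hφ⟩
    exact ⟨(Groth.Agent.S11535.result R I hR A r f hf).mp htfp i,
      Groth.Agent.Lib.BoschCore76.noPowTorsion_cloc I (f i) hR hA htor⟩
  · intro h
    exact ⟨(Groth.Agent.S11535.result R I hR A r f hf).mpr (fun i => (h i).1),
      Groth.Agent.Lib.BoschCore76.noPowTorsion_of_cloc I f hI hf (fun i => (h i).2)⟩

end Groth.Agent.S11536
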