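import Groth.Statements.S11537
import Groth.Agent.Lib.BoschCore76R
import Groth.Agent.Lib.BoschCore76S
import Groth.Agent.Lib.BoschCore76H
import Groth.Agent.S11529
import Mathlib.RingTheory.AdicCompletion.AsTensorProduct

set_option autoImplicit false
universe u
open AdicRing

namespace Groth.Agent.S11537

/-- Let R be a base ring of class (N) or (V) for the ideal I, A an R-algebra topologically of finite
type, B a finitely generated A-algebra and M a finite B-module. The canonical map from B̂ ⊗_B M to
M̂, the hats denoting IB-adic completions, is bijective. -/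
theorem result
    (R : Type u) [CommRing R] (I : Ideal R) (hR : AdicRing.IsBase R I)
    (A : Type u) [CommRing A] [Algebra R A] (hA : AdicRing.TopFiniteType R I A)
    (B : Type u) [CommRing B] [Algebra R B] [Algebra A B] [IsScalarTower R A B]
    [Algebra.FiniteType A B]
    (M : Type u) [AddCommGroup M] [Module B M] [Module.Finite B M] :
    Function.Bijective
      (AdicCompletion.ofTensorProduct (I.map (algebraMap R B)) M) := by
  have hR' := hR
  obtain ⟨hc, hN | hV⟩ := hR
  · -- class (N)
    obtain ⟨hnoeth, -⟩ := hN
    have hAn : IsNoetherianRing A :=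
      Groth.Agent.Lib.BoschCore76.isNoetherianRing_of_topFiniteType I hA
    have hBn : IsNoetherianRing B := Algebra.FiniteType.isNoetherianRing A B
    exact AdicCompletion.ofTensorProduct_bijective_of_finite_of_isNoetherian _ M
  · -- class (V)
    obtain ⟨hdom, hpv, hdim, t, ht, rfl⟩ := hV
    have hI : (Ideal.span {t}).FG := ⟨{t}, by simp⟩
    have hBc : AdicRing.TopFiniteType R (Ideal.span {t})
        (Groth.Agent.Lib.BoschCore76.Compl (Ideal.span {t}) B) :=
      Groth.Agent.Lib.BoschCore76.topFiniteType_compl _ hI hA B
    refine ⟨?_, AdicCompletion.ofTensorProduct_surjective_of_finite _ M⟩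
    have hfin : Module.Finite (Groth.Agent.Lib.BoschCore76.Compl (Ideal.span {t}) B)
        (TensorProduct B (Groth.Agent.Lib.BoschCore76.Compl (Ideal.span {t}) B) M) :=
      Groth.Agent.Lib.BoschCore76.finite_tensorProduct_left _ M
    have hc' : IsAdicComplete (Ideal.span {t})
        (TensorProduct B (Groth.Agent.Lib.BoschCore76.Compl (Ideal.span {t}) B) M) :=
      Groth.Agent.S11529.result R (Ideal.span {t}) hR'
        (Groth.Agent.Lib.BoschCore76.Compl (Ideal.span {t}) B) hBc _
    have hH : IsHausdorff (((Ideal.span {t}).map (algebraMap R B)).map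
        (algebraMap B (AdicCompletion ((Ideal.span {t}).map (algebraMap R B)) B)))
        (TensorProduct B (AdicCompletion ((Ideal.span {t}).map (algebraMap R B)) B) M) := by
      rw [Ideal.map_map, ← IsScalarTower.algebraMap_eq R B
        (Groth.Agent.Lib.BoschCore76.Compl (Ideal.span {t}) B)]
      exact IsHausdorff.map_algebraMap_iff.mpr hc'.toIsHausdorff
    exact Groth.Agent.Lib.BoschCore76.ofTensorProduct_injective_of_isHausdorff _ M (hI.map _)

end Groth.Agent.S11537
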