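import Groth.Statements.S11538
import Groth.Agent.Lib.FlatCrit
import Mathlib.RingTheory.Flat.Localization
import Mathlib.RingTheory.Flat.Stability
import Mathlib.RingTheory.Flat.TorsionFree
import Mathlib.RingTheory.Localization.BaseChange

set_option autoImplicit false
universe u v
open scoped TensorProduct
open AdicRing

namespace Groth.Agent.S11538

/-- Let A be a commutative ring, π an element of A which is not a zero divisor and M an A-module. Then M
is flat over A if and only if the π-power torsion of M vanishes, (A/πA) ⊗_A M is flat over A/πA, and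
A[π⁻¹] ⊗_A M is flat over A[π⁻¹]. -/
theorem result
    (A : Type u) [CommRing A] (π : A) (hπ : π ∈ nonZeroDivisors A)
    (M : Type v) [AddCommGroup M] [Module A M] :
    Module.Flat A M ↔
      (∀ (x : M) (n : ℕ), π ^ n • x = 0 → x = 0) ∧
        Module.Flat (A ⧸ Ideal.span {π}) ((A ⧸ Ideal.span {π}) ⊗[A] M) ∧
        Module.Flat (Localization.Away π) ((Localization.Away π) ⊗[A] M) := by
  open Groth.Agent.Lib.FlatCrit in
  constructor
  · intro hflat
    refine ⟨?_, inferInstance, inferInstance⟩
    intro x n hx
    have := Module.Flat.isSMulRegular_of_nonZeroDivisors (M := M) (pow_mem hπ n)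
    exact this (by simp only [hx, smul_zero])
  · rintro ⟨htf, hq, hloc⟩
    classical
    -- Step 1: `Tor₁(A/π, M) = 0`
    have h1 : Tor1Zero A (A ⧸ Ideal.span {π}) M := by
      rw [tor1Zero_quotient_iff, injective_iff_map_eq_zero]
      intro x hx
      have hform : ∀ x : (Ideal.span {π} : Ideal A) ⊗[A] M, ∃ m : M,
          x = (⟨π, Ideal.mem_span_singleton_self π⟩ : (Ideal.span {π} : Ideal A)) ⊗ₜ[A] m := by
        intro x
        induction x with
        | zero => exact ⟨0, by simp⟩
        | tmul a m =>
          obtain ⟨c, hc⟩ := Ideal.mem_span_singleton'.mp a.2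
          refine ⟨c • m, ?_⟩
          rw [TensorProduct.tmul_smul, TensorProduct.smul_tmul']
          congr 1
          exact Subtype.ext (by simp [hc])
        | add x y hx hy =>
          obtain ⟨m, rfl⟩ := hx
          obtain ⟨m', rfl⟩ := hy
          exact ⟨m + m', by rw [TensorProduct.tmul_add]⟩
      obtain ⟨m, rfl⟩ := hform x
      rw [LinearMap.rTensor_tmul] at hx
      have hπm : π • m = 0 := by
        have := congrArg (TensorProduct.lid A M) hx
        simpa using this
      rw [htf m 1 (by simpa using hπm), TensorProduct.tmul_zero]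
    -- Step 2: `π` acts injectively on `𝔞 ⊗ M`
    have hπinj : ∀ (𝔞 : Ideal A) (x : 𝔞 ⊗[A] M), π • x = 0 → x = 0 := by
      intro 𝔞 x hx
      let f : 𝔞 →ₗ[A] 𝔞 := π • LinearMap.id
      have hf : Function.Injective f := by
        intro a b hab
        have h2 : π * (a : A) = π * (b : A) := by
          have := congrArg Subtype.val hab
          simpa [f] using this
        exact Subtype.ext ((mul_cancel_left_mem_nonZeroDivisors hπ).mp h2)
      have hN : (Ideal.span {π} : Ideal A) •
          (⊤ : Submodule A (↥𝔞 ⧸ LinearMap.range f)) = ⊥ := by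
        rw [eq_bot_iff]
        intro y hy
        refine Submodule.smul_induction_on hy ?_ ?_
        · intro r hr n _
          obtain ⟨n, rfl⟩ := Submodule.mkQ_surjective _ n
          obtain ⟨c, rfl⟩ := Ideal.mem_span_singleton'.mp hr
          rw [Submodule.mem_bot, ← map_smul, Submodule.mkQ_apply, Submodule.Quotient.mk_eq_zero]
          exact ⟨c • n, by simp [f, mul_smul, smul_comm c π]⟩
        · intro a b ha hb
          exact Submodule.add_mem _ ha hb
      have hT : Tor1Zero A (↥𝔞 ⧸ LinearMap.range f) M :=
        tor1Zero_of_smul_eq_bot _ h1 _ hN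
      have hinj := rTensor_injective_of_tor1Zero (M := M) hf (LinearMap.exact_map_mkQ_range f)
        (Submodule.mkQ_surjective _) hT
      apply hinj
      rw [map_zero]
      have : f.rTensor M = π • LinearMap.id := by
        simp only [f, LinearMap.rTensor_smul, LinearMap.rTensor_id]
      rw [this, LinearMap.smul_apply, LinearMap.id_apply, hx]
    have hπpow : ∀ (𝔞 : Ideal A) (n : ℕ) (x : 𝔞 ⊗[A] M), π ^ n • x = 0 → x = 0 := by
      intro 𝔞 n
      induction n with
      | zero => intro x hx; simpa using hx
      | succ n ih =>
        intro x hx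
        apply hπinj 𝔞 x
        apply ih
        rw [← mul_smul, ← pow_succ]
        exact hx
    -- Step 3: localization
    have hflatL : Module.Flat A (Localization.Away π ⊗[A] M) :=
      Module.Flat.trans A (Localization.Away π) _
    rw [Module.Flat.iff_rTensor_injective']
    intro 𝔞
    rw [injective_iff_map_eq_zero]
    intro x hx
    let φ : M →ₗ[A] Localization.Away π ⊗[A] M := TensorProduct.mk A (Localization.Away π) M 1
    have h0 : (φ.lTensor 𝔞) x = 0 := by
      apply Module.Flat.rTensor_preserves_injective_linearMap
        (M := Localization.Away π ⊗[A] M) 𝔞.subtype 𝔞.subtype_injective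
      rw [map_zero, ← LinearMap.comp_apply, LinearMap.rTensor_comp_lTensor,
        ← LinearMap.lTensor_comp_rTensor, LinearMap.comp_apply, hx, map_zero]
    have h1' : (TensorProduct.mk A (Localization.Away π) (𝔞 ⊗[A] M) 1) x = 0 := by
      have hcomp : (TensorProduct.mk A (Localization.Away π) (𝔞 ⊗[A] M) 1) =
          (TensorProduct.leftComm A 𝔞 (Localization.Away π) M).toLinearMap ∘ₗ (φ.lTensor 𝔞) := by
        ext a m
        simp [φ]
      rw [hcomp, LinearMap.comp_apply, h0, map_zero]
    obtain ⟨⟨_, n, rfl⟩, hn⟩ := (IsLocalizedModule.eq_zero_iff (Submonoid.powers π)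
      (TensorProduct.mk A (Localization.Away π) (𝔞 ⊗[A] M) 1)).mp h1'
    exact hπpow 𝔞 n x hn

end Groth.Agent.S11538
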