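import Groth.Statements.S11539
import Groth.Agent.Lib.BoschCore76Q
import Groth.Agent.Lib.BoschCore76R
import Groth.Agent.Lib.BoschCore76H
import Groth.Agent.S11529
import Mathlib.RingTheory.AdicCompletion.AsTensorProduct

set_option autoImplicit false
universe u
open AdicRing

namespace Groth.Agent.S11539

/-- Let R be a base ring of class (N) or (V) for the ideal I, A an R-algebra topologically of finite
type and C a finitely generated A-algebra. The I-adic completion of C is then flat over C. -/
theorem result
    (R : Type u) [CommRing R] (I : Ideal R) (hR : AdicRing.IsBase R I)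
    (A : Type u) [CommRing A] [Algebra R A] (hA : AdicRing.TopFiniteType R I A)
    (C : Type u) [CommRing C] [Algebra R C] [Algebra A C] [IsScalarTower R A C]
    [Algebra.FiniteType A C] :
    Module.Flat C (AdicCompletion (I.map (algebraMap R C)) C) := by
  have hR' := hR
  obtain ⟨hc, hN | hV⟩ := hR
  · -- class (N)
    obtain ⟨hnoeth, -⟩ := hN
    have hAn : IsNoetherianRing A :=
      Groth.Agent.Lib.BoschCore76.isNoetherianRing_of_topFiniteType I hA
    have hCn : IsNoetherianRing C := Algebra.FiniteType.isNoetherianRing A C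
    exact AdicCompletion.flat_of_isNoetherian _
  · -- class (V)
    obtain ⟨hdom, hpv, hdim, t, ht, rfl⟩ := hV
    have : ValuationRing R := { cond' := hpv.cond' }
    obtain ⟨htu, hnil⟩ := Groth.Agent.Lib.BoschCore76.isBase_V_unpack t ht
    have hI : (Ideal.span {t}).FG := ⟨{t}, by simp⟩
    have hĈ : AdicRing.TopFiniteType R (Ideal.span {t})
        (Groth.Agent.Lib.BoschCore76.Compl (Ideal.span {t}) C) :=
      Groth.Agent.Lib.BoschCore76.topFiniteType_compl _ hI hA C
    apply Groth.Agent.Lib.BoschCore76.flat_of_forall_trunc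
      ((Ideal.span {t}).map (algebraMap R C))
      (Groth.Agent.Lib.BoschCore76.Compl (Ideal.span {t}) C)
    · intro 𝔞 hfg
      have hfa : Module.Finite C 𝔞 := Module.Finite.iff_fg.mpr hfg
      have hfin : Module.Finite (Groth.Agent.Lib.BoschCore76.Compl (Ideal.span {t}) C)
          (TensorProduct C (Groth.Agent.Lib.BoschCore76.Compl (Ideal.span {t}) C) 𝔞) :=
        Groth.Agent.Lib.BoschCore76.finite_tensorProduct_left _ 𝔞
      have hc' : IsAdicComplete (Ideal.span {t})
          (TensorProduct C (Groth.Agent.Lib.BoschCore76.Compl (Ideal.span {t}) C) 𝔞) :=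
        Groth.Agent.S11529.result R (Ideal.span {t}) hR'
          (Groth.Agent.Lib.BoschCore76.Compl (Ideal.span {t}) C) hĈ _
      have hRC : IsScalarTower R C
          (TensorProduct C (Groth.Agent.Lib.BoschCore76.Compl (Ideal.span {t}) C) 𝔞) :=
        inferInstance
      have hH : IsHausdorff ((Ideal.span {t}).map (algebraMap R C))
          (TensorProduct C (Groth.Agent.Lib.BoschCore76.Compl (Ideal.span {t}) C) 𝔞) :=
        IsHausdorff.map_algebraMap_iff.mpr hc'.toIsHausdorff
      exact Groth.Agent.Lib.BoschCore76.isHausdorff_of_injective _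
        (TensorProduct.comm C 𝔞 (Groth.Agent.Lib.BoschCore76.Compl (Ideal.span {t}) C)).toLinearMap
        (TensorProduct.comm C 𝔞 _).injective
    · intro 𝔞 hfg m
      obtain ⟨n₀, hn₀⟩ := Groth.Agent.Lib.BoschCore76.inf_le_pow_mul_ft_V t htu hnil hA 𝔞
      exact ⟨((Ideal.span {t}) ^ (m + n₀)).map (algebraMap R C), hn₀ m,
        Groth.Agent.Lib.BoschCore76.flat_trunc_tensor_compl _ C (m + n₀) hI⟩

end Groth.Agent.S11539
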