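import Groth.Statements.S1154
import Groth.Agent.Lib.H15PurInsepPic

set_option autoImplicit false
open CategoryTheory CategoryTheory.Limits AlgebraicGeometry Opposite
universe u
open PicF

namespace Groth.Agent.S1154

/-- Let k have characteristic p > 0, let X be quasi-compact and quasi-separated over k whose ring of
global functions is k itself (the structure morphism induces an isomorphism on global sections), let
n be prime to p and k'/k purely inseparable. Then every isomorphism class of invertible modules M on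
X_{k'} with M^n trivial is the pullback of such a class on X (injectivity of this pullback on
classes being a separate fact). -/
theorem result (k : Type u) [Field k] (p : ℕ) [Fact p.Prime] [CharP k p]
    (X : Scheme.{u}) (f : X ⟶ Spec (CommRingCat.of k)) [CompactSpace X] [QuasiSeparatedSpace X]
    (hH0 : IsIso f.appTop) (n : ℕ) (hn : ¬ p ∣ n) (k' : Type u) [Field k'] [Algebra k k'] [IsPurelyInseparable k k'] :
    ∀ d : PicF.Cl (pullback f (Spec.map (CommRingCat.ofHom (algebraMap k k')))), (PicF.IsInvertibleCl d ∧ ∃ M : ((pullback f (Spec.map (CommRingCat.ofHom (algebraMap k k'))))).Modules, PicF.cl M = d ∧ Nonempty (CohB1.tensorPow M n ≅ Coh.structureModule ((pullback f (Spec.map (CommRingCat.ofHom (algebraMap k k'))))))) →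
      ∃ c : PicF.Cl X, (PicF.IsInvertibleCl c ∧ ∃ M : (X).Modules, PicF.cl M = c ∧ Nonempty (CohB1.tensorPow M n ≅ Coh.structureModule (X))) ∧ PicF.pullCl (pullback.fst f (Spec.map (CommRingCat.ofHom (algebraMap k k')))) c = d := by
  intro d ⟨⟨M₀, hM₀d, hM₀⟩, M, hMd, ⟨φ⟩⟩
  haveI : FrobSch.IsCharP X p := Groth.Agent.Lib.H15PurInsepPic.isCharP_of_hom_field k p f
  haveI : FrobSch.IsCharP (pullback f (Spec.map (CommRingCat.ofHom (algebraMap k k')))) p :=
    FrobSch.IsCharP.of_hom (pullback.fst f _) p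
  have hX := Groth.Agent.Lib.H15PurInsepPic.pDense_pullback_fst k p f k'
  have h1 : Groth.Agent.Lib.IsoCls13.cls M₀ ^ n = 1 := by
    rw [Groth.Agent.Lib.H15PurInsepPic.cls_eq_of_cl_eq (hM₀d.trans hMd.symm),
      ← Groth.Agent.Lib.IsoCls13.cls_tensorPow, Groth.Agent.Lib.IsoCls13.cls_eq_of_iso φ]
    rfl
  obtain ⟨N, hN, hNn, hπN⟩ :=
    Groth.Agent.Lib.H15PurInsepPic.exists_torsion_descent hX n hn M₀ hM₀ h1
  refine ⟨PicF.cl N, ⟨⟨N, rfl, hN⟩, N, rfl, ?_⟩, ?_⟩
  · rw [← Groth.Agent.Lib.IsoCls13.cls_tensorPow] at hNn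
    exact Groth.Agent.Lib.IsoCls13.cls_eq_iff.1 hNn
  · exact (Groth.Agent.Lib.H15PurInsepPic.cl_eq_of_cls_eq hπN).trans hM₀d

end Groth.Agent.S1154
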