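import Groth.Statements.S11540
import Groth.Agent.Lib.BoschCore76T
import Groth.Agent.Lib.BoschCore76L
import Groth.Agent.S11539

set_option autoImplicit false
universe u
open AdicRing

namespace Groth.Agent.S11540

/-- Let R be a base ring of class (N) or (V) for the ideal I, A an admissible R-algebra and f_0, ...,
f_r elements of A generating an open ideal, i.e. one containing I^k A for some k. Fix i and let C_i
be the I-adic completion of the chart algebra A[ζ_j ; j ≠ i]/(f_i ζ_j − f_j ; j ≠ i). Then the
I-power torsion of C_i coincides with its f_i-power torsion. (That f_i-power torsion is I-power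
torsion is elementary; the content is the converse.) -/
theorem result
    (R : Type u) [CommRing R] (I : Ideal R) (hR : AdicRing.IsBase R I)
    (A : Type u) [CommRing A] [Algebra R A] (hA : AdicRing.Admissible R I A)
    (r : ℕ) (f : Fin (r + 1) → A) (k : ℕ)
    (hopen : (I ^ k).map (algebraMap R A) ≤ Ideal.span (Set.range f)) (i : Fin (r + 1))
    (x : AdicRing.chartCompl I f i) :
    (∃ n : ℕ, ∀ a ∈ I ^ n, a • x = 0) ↔
      ∃ n : ℕ, algebraMap A (AdicRing.chartCompl I f i) (f i) ^ n * x = 0 := by
  classical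
  have hR' := hR
  obtain ⟨htfp, hnt⟩ := hA
  have hAt : AdicRing.TopFiniteType R I A := by
    obtain ⟨n, φ, hφ, -⟩ := htfp
    exact ⟨n, φ, hφ⟩
  have hIfg : I.FG := Groth.Agent.Lib.BoschCore76.isBase_fg hR
  have hft : Algebra.FiniteType A (AdicRing.chartAlg f i) := inferInstance
  have hflat : Module.Flat (AdicRing.chartAlg f i) (AdicRing.chartCompl I f i) :=
    Groth.Agent.S11539.result R I hR' A hAt (AdicRing.chartAlg f i)
  constructor
  · rintro ⟨n, hn⟩
    obtain ⟨S, hS⟩ : (I ^ n).FG := hIfg.pow
    obtain ⟨k', a, y, hxy, ha⟩ := Groth.Agent.Lib.BoschCore76.exists_smul_eq_of_flat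
      (M := AdicRing.chartCompl I f i) (S.image (algebraMap R (AdicRing.chartAlg f i))) x (by
        intro b hb
        obtain ⟨b₀, hb₀, rfl⟩ := Finset.mem_image.mp hb
        rw [algebraMap_smul]
        exact hn b₀ (hS ▸ Ideal.subset_span hb₀))
    have hm : ∀ j, ∃ m : ℕ, algebraMap A (AdicRing.chartAlg f i) (f i) ^ m * a j = 0 := fun j =>
      Groth.Agent.Lib.BoschCore76.chart_torsion I f i hnt n S hS.symm (a j)
        (fun b hb => ha _ (Finset.mem_image_of_mem _ hb) j)
    choose m hm using hm
    refine ⟨Finset.univ.sup m, ?_⟩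
    rw [hxy, Finset.mul_sum]
    apply Finset.sum_eq_zero
    intro j _
    have hle : m j ≤ Finset.univ.sup m := Finset.le_sup (Finset.mem_univ j)
    obtain ⟨c, hc⟩ := Nat.exists_eq_add_of_le hle
    have h1 : algebraMap A (AdicRing.chartAlg f i) (f i) ^ (Finset.univ.sup m) * a j = 0 := by
      rw [hc, pow_add, mul_comm (_ ^ m j), mul_assoc, hm j, mul_zero]
    rw [IsScalarTower.algebraMap_apply A (AdicRing.chartAlg f i) (AdicRing.chartCompl I f i),
      ← map_pow, ← Algebra.smul_def, smul_smul, h1]
    exact zero_smul (AdicRing.chartAlg f i) (y j)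
  · rintro ⟨n, hn⟩
    refine ⟨k * n, fun a ha => ?_⟩
    have h1 := Groth.Agent.Lib.BoschCore76.chart_map_le I f i k hopen
    have h2 : (I ^ (k * n)).map (algebraMap R (AdicRing.chartAlg f i)) ≤
        Ideal.span {algebraMap A (AdicRing.chartAlg f i) (f i) ^ n} := by
      rw [pow_mul, Ideal.map_pow, ← Ideal.span_singleton_pow]
      exact Ideal.pow_right_mono h1 n
    obtain ⟨d, hd⟩ := Ideal.mem_span_singleton'.mp (h2 (Ideal.mem_map_of_mem _ ha))
    rw [Algebra.smul_def,
      IsScalarTower.algebraMap_apply R (AdicRing.chartAlg f i) (AdicRing.chartCompl I f i), ← hd,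
      map_mul, map_pow,
      ← IsScalarTower.algebraMap_apply A (AdicRing.chartAlg f i) (AdicRing.chartCompl I f i),
      mul_assoc, hn, mul_zero]

end Groth.Agent.S11540
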