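import Groth.Statements.S11541
import Groth.Agent.Lib.BoschCore76Y

set_option autoImplicit false
universe u
open AdicRing

namespace Groth.Agent.S11541

/-- Let R be a complete valuation ring of height one with t a nonzero element generating an ideal of
definition, and B an admissible R-algebra which is a local integral domain of Krull dimension one.
Then B is a finite R-module whose integral closure inside its fraction field is a valuation ring. -/
theorem result
    (R : Type u) [CommRing R] [IsDomain R] [ValuationRing R] [Ring.KrullDimLE 1 R]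
    (t : R) (ht : t ≠ 0) [IsAdicComplete (Ideal.span {t}) R]
    (B : Type u) [CommRing B] [Algebra R B] [IsDomain B] [IsLocalRing B]
    (hB : AdicRing.Admissible R (Ideal.span {t}) B) (hdim : ringKrullDim B = 1) :
    Module.Finite R B ∧ ValuationRing (integralClosure B (FractionRing B)) := by
  classical
  have hBt : AdicRing.TopFiniteType R (Ideal.span {t}) B := by
    obtain ⟨⟨n, φ, hφ, -⟩, -⟩ := hB
    exact ⟨n, φ, hφ⟩
  have hfin : Module.Finite R B :=
    Groth.Agent.Lib.BoschCore76.finite_of_local_dim_one t ht B hBt hB.2 hdim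
  refine ⟨hfin, ?_⟩
  have hnt := hB.2
  have hτ0 : algebraMap R B t ≠ 0 := by
    intro h0
    have h1 : (1 : B) = 0 := by
      apply hnt 1 1
      intro a ha
      rw [pow_one, Ideal.mem_span_singleton] at ha
      obtain ⟨c, rfl⟩ := ha
      rw [Algebra.smul_def, map_mul, h0, zero_mul, zero_mul]
    exact one_ne_zero h1
  have hinjB : Function.Injective (algebraMap R B) := by
    rw [injective_iff_map_eq_zero]
    intro r hr
    by_contra hr0
    obtain ⟨hnu, -⟩ := Groth.Agent.Lib.BoschCore76.isBase_V_unpack t ht
    obtain ⟨k, hk⟩ := Groth.Agent.Lib.BoschCore76.exists_dvd_pow' t hnu r hr0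
    obtain ⟨c, hc⟩ := hk
    have h2 : algebraMap R B t ^ k = 0 := by rw [← map_pow, hc, map_mul, hr, zero_mul]
    exact hτ0 (pow_eq_zero_iff (M₀ := B) (n := k) (by
      rintro rfl
      rw [pow_zero] at h2
      exact one_ne_zero h2) |>.mp h2)
  have hinj : Function.Injective (algebraMap R (FractionRing B)) := by
    rw [IsScalarTower.algebraMap_eq R B (FractionRing B)]
    exact (IsFractionRing.injective B (FractionRing B)).comp hinjB
  have hint : Algebra.IsIntegral R B := Algebra.IsIntegral.of_finite R B
  have halgB : Algebra.IsAlgebraic R B := inferInstance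
  have htf : Module.IsTorsionFree R (FractionRing B) :=
    Module.isTorsionFree_iff_algebraMap_injective.mpr hinj
  have halg : Algebra.IsAlgebraic R (FractionRing B) :=
    (IsFractionRing.isAlgebraic_iff' R B (FractionRing B)).mp halgB
  have key : ∀ x : FractionRing B, x ∈ integralClosure B (FractionRing B) ∨
      x⁻¹ ∈ integralClosure B (FractionRing B) := by
    intro x
    rcases Groth.Agent.Lib.BoschCore76.isIntegral_or_isIntegral_inv_V t ht (FractionRing B) hinj x
      with h | h
    · exact Or.inl h.tower_top
    · exact Or.inr h.tower_top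
  refine @ValuationRing.mk _ _ _ ⟨fun a b => ?_⟩
  by_cases hb : b = 0
  · exact ⟨0, Or.inl (by rw [mul_zero, hb])⟩
  by_cases ha : a = 0
  · exact ⟨0, Or.inr (by rw [mul_zero, ha])⟩
  have hb' : (b : FractionRing B) ≠ 0 := fun h => hb (Subtype.ext h)
  have ha' : (a : FractionRing B) ≠ 0 := fun h => ha (Subtype.ext h)
  rcases key ((a : FractionRing B) / (b : FractionRing B)) with h | h
  · refine ⟨⟨_, h⟩, Or.inr (Subtype.ext ?_)⟩
    show (b : FractionRing B) * ((a : FractionRing B) / (b : FractionRing B)) = a
    rw [mul_div_cancel₀ _ hb']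
  · refine ⟨⟨_, h⟩, Or.inl (Subtype.ext ?_)⟩
    show (a : FractionRing B) * ((a : FractionRing B) / (b : FractionRing B))⁻¹ = b
    rw [inv_div, mul_div_cancel₀ _ ha']

end Groth.Agent.S11541
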