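import Groth.Statements.S11542
import Groth.Agent.Lib.BoschCore76U

set_option autoImplicit false
universe u
open AdicRing

namespace Groth.Agent.S11542

/-- Let R be a complete valuation ring of height one with t a nonzero element generating an ideal of
definition, A and B admissible R-algebras with B a local integral domain of Krull dimension one, f
an element of A and u a surjective R-algebra homomorphism from the complete localization A⟨f⁻¹⟩ onto
B. Then the composite of u with the canonical map A → A⟨f⁻¹⟩ is surjective. -/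
theorem result
    (R : Type u) [CommRing R] [IsDomain R] [ValuationRing R] [Ring.KrullDimLE 1 R]
    (t : R) (ht : t ≠ 0) [IsAdicComplete (Ideal.span {t}) R]
    (A : Type u) [CommRing A] [Algebra R A] (hA : AdicRing.Admissible R (Ideal.span {t}) A) (f : A)
    (B : Type u) [CommRing B] [Algebra R B] [IsDomain B] [IsLocalRing B]
    (hB : AdicRing.Admissible R (Ideal.span {t}) B) (hdim : ringKrullDim B = 1)
    (u : AdicRing.CLoc (Ideal.span {t}) f →ₐ[R] B) (hu : Function.Surjective u) :
    Function.Surjective
      (u.toRingHom.comp (algebraMap A (AdicRing.CLoc (Ideal.span {t}) f))) := by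
  classical
  have hI : (Ideal.span {t}).FG := ⟨{t}, by simp⟩
  have hBt : AdicRing.TopFiniteType R (Ideal.span {t}) B := by
    obtain ⟨⟨n, φ, hφ, -⟩, -⟩ := hB
    exact ⟨n, φ, hφ⟩
  have hfin : Module.Finite R B :=
    Groth.Agent.Lib.BoschCore76.finite_of_local_dim_one t ht B hBt hB.2 hdim
  have hint : Algebra.IsIntegral R B := Algebra.IsIntegral.of_finite R B
  -- the image of `A` as an `R`-subalgebra
  set v : A →ₐ[R] B := u.comp (IsScalarTower.toAlgHom R A (AdicRing.CLoc (Ideal.span {t}) f))
    with hv
  set S : Subalgebra R B := v.range with hS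
  have hintS : Algebra.IsIntegral S B := Algebra.IsIntegral.tower_top R
  -- `f` becomes a unit
  have hfu : IsUnit (algebraMap A (AdicRing.CLoc (Ideal.span {t}) f) f) := by
    rw [IsScalarTower.algebraMap_apply A (Localization.Away f)
      (AdicRing.CLoc (Ideal.span {t}) f)]
    exact (IsLocalization.Away.algebraMap_isUnit f).map _
  obtain ⟨w, hw⟩ := hfu
  have hgy : algebraMap S B ⟨v f, ⟨f, rfl⟩⟩ * u (↑w⁻¹ : AdicRing.CLoc (Ideal.span {t}) f) = 1 := by
    show v f * u _ = 1
    have : v f = u (w : AdicRing.CLoc (Ideal.span {t}) f) := by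
      rw [hw]; rfl
    rw [this, ← map_mul, Units.mul_inv, map_one]
  obtain ⟨z, hz⟩ := Groth.Agent.Lib.BoschCore76.exists_algebraMap_eq_inv_of_isIntegral
    (⟨v f, ⟨f, rfl⟩⟩ : S) _ hgy
  have hyS : u (↑w⁻¹ : AdicRing.CLoc (Ideal.span {t}) f) ∈ S := by
    rw [← hz]; exact z.2
  -- images of the localization lie in `S`
  have hloc : ∀ ℓ : Localization.Away f,
      u (algebraMap (Localization.Away f) (AdicRing.CLoc (Ideal.span {t}) f) ℓ) ∈ S := by
    intro ℓ
    obtain ⟨a, ⟨_, m, rfl⟩, rfl⟩ := IsLocalization.exists_mk'_eq (Submonoid.powers f) ℓ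
    have h1 : IsLocalization.mk' (Localization.Away f) a
        (⟨f ^ m, m, rfl⟩ : Submonoid.powers f) * algebraMap A (Localization.Away f) (f ^ m) =
        algebraMap A (Localization.Away f) a := IsLocalization.mk'_spec _ _ _
    have h2 := congrArg (fun x => u (algebraMap (Localization.Away f)
      (AdicRing.CLoc (Ideal.span {t}) f) x)) h1
    simp only [map_mul] at h2
    rw [← IsScalarTower.algebraMap_apply A (Localization.Away f)
      (AdicRing.CLoc (Ideal.span {t}) f), ← IsScalarTower.algebraMap_apply A (Localization.Away f)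
      (AdicRing.CLoc (Ideal.span {t}) f), map_pow, map_pow, ← hw] at h2
    have h3 : u (algebraMap (Localization.Away f) (AdicRing.CLoc (Ideal.span {t}) f)
        (IsLocalization.mk' (Localization.Away f) a (⟨f ^ m, m, rfl⟩ : Submonoid.powers f))) =
        u (algebraMap A (AdicRing.CLoc (Ideal.span {t}) f) a) *
          u (↑w⁻¹ : AdicRing.CLoc (Ideal.span {t}) f) ^ m := by
      rw [← h2, mul_assoc, ← mul_pow, ← map_mul, Units.mul_inv, map_one, one_pow, mul_one]
    rw [h3]
    exact S.mul_mem ⟨a, rfl⟩ (S.pow_mem hyS m)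
  -- Nakayama
  have hjac : Ideal.span {t} ≤ (⊥ : Ideal R).jacobson := IsAdicComplete.le_jacobson_bot _
  have htop : (⊤ : Submodule R B) ≤ Subalgebra.toSubmodule S := by
    apply Submodule.le_of_le_smul_of_le_jacobson_bot Module.Finite.fg_top hjac
    intro b _
    obtain ⟨c, rfl⟩ := hu b
    obtain ⟨ℓ, hℓ⟩ := Groth.Agent.Lib.BoschCore76.compl_mk_surjective (Ideal.span {t})
      (Localization.Away f) 1 hI (Ideal.Quotient.mk _ c)
    rw [RingHom.comp_apply, Ideal.Quotient.eq, pow_one] at hℓ
    have e : Ideal.map (algebraMap R (AdicRing.CLoc (Ideal.span {t}) f)) (Ideal.span {t}) =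
        Ideal.span {algebraMap R (AdicRing.CLoc (Ideal.span {t}) f) t} := by
      refine (Ideal.map_span (algebraMap R (AdicRing.CLoc (Ideal.span {t}) f)) {t}).trans ?_
      rw [Set.image_singleton]
    have hℓ' : algebraMap (Localization.Away f) (AdicRing.CLoc (Ideal.span {t}) f) ℓ - c ∈
        Ideal.span {algebraMap R (AdicRing.CLoc (Ideal.span {t}) f) t} := by
      rw [← e]; exact hℓ
    obtain ⟨c', hc'⟩ := Ideal.mem_span_singleton'.mp hℓ'
    have hc : c = algebraMap (Localization.Away f) (AdicRing.CLoc (Ideal.span {t}) f) ℓ -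
        t • c' := by
      rw [Algebra.smul_def, mul_comm, hc']; ring
    rw [hc, map_sub, map_smul]
    exact Submodule.sub_mem _ (Submodule.mem_sup_left (hloc ℓ))
      (Submodule.mem_sup_right (Submodule.smul_mem_smul (Ideal.mem_span_singleton_self t) trivial))
  intro b
  have hb : b ∈ S := htop trivial
  obtain ⟨a, ha⟩ := hb
  exact ⟨a, ha⟩

end Groth.Agent.S11542
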