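import Groth.Statements.S11544
import Groth.Agent.Lib.BoschCore76Z

set_option autoImplicit false
universe u
open AdicRing

namespace Groth.Agent.S11544

/-- Let R be a complete valuation ring of height one with t a nonzero element generating an ideal of
definition, K its field of fractions, L an algebraic extension field of K and α an element of L.
Then α is integral over R if and only if the norm of α from K(α) down to K lies in R. -/
theorem result
    (R : Type u) [CommRing R] [IsDomain R] [ValuationRing R] [Ring.KrullDimLE 1 R]
    (t : R) (ht : t ≠ 0) [IsAdicComplete (Ideal.span {t}) R]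
    (L : Type u) [Field L] [Algebra R L] [Algebra (FractionRing R) L]
    [IsScalarTower R (FractionRing R) L] [Algebra.IsAlgebraic (FractionRing R) L] (α : L) :
    IsIntegral R α ↔
      Algebra.norm (FractionRing R) (IntermediateField.AdjoinSimple.gen (FractionRing R) α) ∈
        (algebraMap R (FractionRing R)).range := by
  classical
  have hinjK : Function.Injective (algebraMap R (FractionRing R)) :=
    IsFractionRing.injective R (FractionRing R)
  have hinj : Function.Injective (algebraMap R L) := by
    rw [IsScalarTower.algebraMap_eq R (FractionRing R) L]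
    exact (algebraMap (FractionRing R) L).injective.comp hinjK
  have halgR : Algebra.IsAlgebraic R L :=
    (IsFractionRing.comap_isAlgebraic_iff (K := FractionRing R)).mpr inferInstance
  have hαK : IsIntegral (FractionRing R) α := Algebra.IsIntegral.isIntegral α
  have hnorm : Algebra.norm (FractionRing R)
      (IntermediateField.AdjoinSimple.gen (FractionRing R) α) =
      (-1) ^ (minpoly (FractionRing R) α).natDegree * (minpoly (FractionRing R) α).coeff 0 := by
    have h := Algebra.PowerBasis.norm_gen_eq_coeff_zero_minpoly (IntermediateField.adjoin.powerBasis hαK)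
    rwa [IntermediateField.adjoin.powerBasis_gen, IntermediateField.minpoly_gen,
      IntermediateField.adjoin.powerBasis_dim] at h
  have hm1 : ((-1 : FractionRing R) ^ (minpoly (FractionRing R) α).natDegree) ∈
      (algebraMap R (FractionRing R)).range :=
    pow_mem (neg_mem (one_mem _)) _
  have hrange : Algebra.norm (FractionRing R)
      (IntermediateField.AdjoinSimple.gen (FractionRing R) α) ∈
        (algebraMap R (FractionRing R)).range ↔
      (minpoly (FractionRing R) α).coeff 0 ∈ (algebraMap R (FractionRing R)).range := by
    rw [hnorm]
    constructor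
    · intro h
      have h2 : (minpoly (FractionRing R) α).coeff 0 =
          (-1) ^ (minpoly (FractionRing R) α).natDegree *
          ((-1) ^ (minpoly (FractionRing R) α).natDegree *
            (minpoly (FractionRing R) α).coeff 0) := by
        rw [← mul_assoc, ← mul_pow, neg_one_mul, neg_neg, one_pow, one_mul]
      rw [h2]
      exact mul_mem hm1 h
    · intro h
      exact mul_mem hm1 h
  rw [hrange]
  constructor
  · intro hα
    have h1 : minpoly (FractionRing R) α =
        (minpoly R α).map (algebraMap R (FractionRing R)) :=
      minpoly.isIntegrallyClosed_eq_field_fractions' (FractionRing R) hα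
    rw [h1, Polynomial.coeff_map]
    exact ⟨_, rfl⟩
  · rintro ⟨r, hr⟩
    by_cases hα0 : α = 0
    · rw [hα0]; exact isIntegral_zero
    rcases Groth.Agent.Lib.BoschCore76.isIntegral_or_isIntegral_inv_V t ht L hinj α with h | h
    · exact h
    · have hgK : minpoly (FractionRing R) α⁻¹ =
          (minpoly R α⁻¹).map (algebraMap R (FractionRing R)) :=
        minpoly.isIntegrallyClosed_eq_field_fractions' (FractionRing R) h
      have hkey := Groth.Agent.Lib.BoschCore76.minpoly_coeff_zero_mul_inv α hαK hα0
      rw [hgK, Polynomial.coeff_map, ← hr, ← map_mul] at hkey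
      have hu : r * (minpoly R α⁻¹).coeff 0 = 1 := hinjK (by rw [hkey, map_one])
      have hg0 : Polynomial.aeval α⁻¹ (minpoly R α⁻¹) = 0 := minpoly.aeval R α⁻¹
      have hdiv : Polynomial.aeval α⁻¹ (minpoly R α⁻¹).divX * α⁻¹ +
          algebraMap R L ((minpoly R α⁻¹).coeff 0) = 0 := by
        rw [← hg0]
        conv_rhs => rw [← Polynomial.divX_mul_X_add (minpoly R α⁻¹)]
        rw [map_add, map_mul, Polynomial.aeval_X, Polynomial.aeval_C]
      have hα_eq : α = -(algebraMap R L r * Polynomial.aeval α⁻¹ (minpoly R α⁻¹).divX) := by
        have h3 : algebraMap R L r * algebraMap R L ((minpoly R α⁻¹).coeff 0) = 1 := by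
          rw [← map_mul, hu, map_one]
        have h4 : Polynomial.aeval α⁻¹ (minpoly R α⁻¹).divX * α⁻¹ =
            -algebraMap R L ((minpoly R α⁻¹).coeff 0) := eq_neg_of_add_eq_zero_left hdiv
        have h5 : Polynomial.aeval α⁻¹ (minpoly R α⁻¹).divX =
            -algebraMap R L ((minpoly R α⁻¹).coeff 0) * α := by
          rw [← h4, mul_assoc, inv_mul_cancel₀ hα0, mul_one]
        rw [h5, neg_mul, mul_neg, neg_neg, ← mul_assoc, h3, one_mul]
      have hw : IsIntegral R (Polynomial.aeval α⁻¹ (minpoly R α⁻¹).divX) := by
        have := (Polynomial.aeval (⟨α⁻¹, h⟩ : integralClosure R L) (minpoly R α⁻¹).divX).2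
        rwa [Polynomial.aeval_subalgebra_coe] at this
      rw [hα_eq]
      exact (isIntegral_algebraMap.mul hw).neg

end Groth.Agent.S11544
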