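import Groth.Statements.S11545
import Mathlib

set_option autoImplicit false
universe u
open AdicRing

namespace Groth.Agent.S11545

section helpers

variable {S B : Type*} [CommRing S] [CommRing B] (J : Ideal S) (K : Ideal B)

theorem hpow (g : S →+* B) (hJK : J ≤ K.comap g) (n : ℕ) : J ^ n ≤ (K ^ n).comap g :=
  (Ideal.pow_right_mono hJK n).trans (Ideal.le_comap_pow g n)

theorem eq_of_forall_sub_mem [IsHausdorff K B] (x y : B) (h : ∀ n, x - y ∈ K ^ n) : x = y := by
  rw [← sub_eq_zero]
  apply IsHausdorff.haus (I := K) inferInstance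
  intro n
  rw [SModEq.zero]
  simpa using h n

/-- extension of a ring hom to the completion -/
theorem exists_extend [IsAdicComplete K B] (g : S →+* B) (hJK : J ≤ K.comap g) :
    ∃ ĝ : AdicCompletion J S →+* B, ∀ x, ĝ (algebraMap S (AdicCompletion J S) x) = g x := by
  let fn : ∀ n, AdicCompletion J S →+* B ⧸ K ^ n := fun n =>
    (Ideal.quotientMap (K ^ n) g (hpow J K g hJK n)).comp (AdicCompletion.evalₐ J n).toRingHom
  have compat : ∀ {m n : ℕ} (hle : m ≤ n), (Ideal.Quotient.factorPow K hle).comp (fn n) = fn m := by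
    intro m n hle
    ext y
    obtain ⟨c, rfl⟩ := AdicCompletion.mk_surjective J S y
    simp only [fn, RingHom.coe_comp, Function.comp_apply, AlgHom.toRingHom_eq_coe, RingHom.coe_coe,
      AdicCompletion.evalₐ_mk, Ideal.quotientMap_mk, Ideal.Quotient.factor_mk]
    rw [Ideal.Quotient.eq, ← map_sub]
    apply hpow J K g hJK m
    have := c.property hle
    rw [SModEq.sub_mem] at this
    have h2 : c.val n - c.val m ∈ (J ^ m • ⊤ : Ideal S) := by
      have := (Submodule.neg_mem_iff _).2 this
      simpa using this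
    simpa using h2
  refine ⟨IsAdicComplete.liftRingHom K fn compat, fun x => ?_⟩
  apply eq_of_forall_sub_mem K
  intro n
  rw [← Ideal.Quotient.eq, IsAdicComplete.mk_liftRingHom]
  simp [fn, AdicCompletion.algebraMap_apply]

theorem map_mem_of_mem_smul_top (g : S →+* B) (hJK : J ≤ K.comap g)
    (θ : AdicCompletion J S →+* B)
    (h : ∀ x, θ (algebraMap S (AdicCompletion J S) x) = g x) (n : ℕ)
    (z : AdicCompletion J S) (hz : z ∈ (J ^ n • ⊤ : Submodule S (AdicCompletion J S))) :
    θ z ∈ K ^ n := by
  refine Submodule.smul_induction_on hz ?_ ?_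
  · intro a ha w _
    rw [Algebra.smul_def, map_mul, h]
    exact Ideal.mul_mem_right _ _ (hpow J K g hJK n ha)
  · intro x y hx hy
    rw [map_add]
    exact Ideal.add_mem _ hx hy

theorem ext_of [IsHausdorff K B] (hJ : J.FG) (g : S →+* B) (hJK : J ≤ K.comap g)
    (θ₁ θ₂ : AdicCompletion J S →+* B)
    (h₁ : ∀ x, θ₁ (algebraMap S (AdicCompletion J S) x) = g x)
    (h₂ : ∀ x, θ₂ (algebraMap S (AdicCompletion J S) x) = g x) : θ₁ = θ₂ := by
  ext y
  apply eq_of_forall_sub_mem K
  intro n
  obtain ⟨x, hx⟩ := Submodule.Quotient.mk_surjective _ (AdicCompletion.eval J S n y)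
  have hz : y - algebraMap S (AdicCompletion J S) x ∈
      (J ^ n • ⊤ : Submodule S (AdicCompletion J S)) := by
    rw [AdicCompletion.pow_smul_top_eq_ker_eval hJ, LinearMap.mem_ker, map_sub,
      AdicCompletion.algebraMap_apply, AdicCompletion.eval_of, ← hx]
    simp
  have e : θ₁ y - θ₂ y = θ₁ (y - algebraMap S (AdicCompletion J S) x) -
      θ₂ (y - algebraMap S (AdicCompletion J S) x) := by
    rw [map_sub, map_sub, h₁, h₂]; ring
  rw [e]
  exact Ideal.sub_mem _ (map_mem_of_mem_smul_top J K g hJK θ₁ h₁ n _ hz)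
    (map_mem_of_mem_smul_top J K g hJK θ₂ h₂ n _ hz)

theorem isBase_fg {R : Type u} [CommRing R] {I : Ideal R} (hR : AdicRing.IsBase R I) : I.FG := by
  obtain ⟨_, h | h⟩ := hR
  · have := h.1
    exact IsNoetherian.noetherian I
  · obtain ⟨_, _, _, t, _, rfl⟩ := h
    exact ⟨{t}, by simp⟩

end helpers

/-- Let R be a base ring of class (N) or (V) for the ideal I, A an admissible R-algebra, f_0, ..., f_r
elements generating an open ideal 𝔞 of A, and A_i = C_i/(f_i-power torsion) the i-th chart algebra
of the formal blowing-up of 𝔞. Let B be an R-algebra complete and separated for the I-adic topology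
and φ : A → B an R-algebra homomorphism such that the ideal 𝔞B is generated by φ(f_i), a
non-zero-divisor of B. Then there is exactly one R-algebra homomorphism A_i → B whose composite with
A → A_i is φ. -/
theorem result
    (R : Type u) [CommRing R] (I : Ideal R) (hR : AdicRing.IsBase R I)
    (A : Type u) [CommRing A] [Algebra R A] (hA : AdicRing.Admissible R I A)
    (r : ℕ) (f : Fin (r + 1) → A) (k : ℕ)
    (hopen : (I ^ k).map (algebraMap R A) ≤ Ideal.span (Set.range f)) (i : Fin (r + 1))
    (B : Type u) [CommRing B] [Algebra R B] [IsAdicComplete (I.map (algebraMap R B)) B]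
    (φ : A →ₐ[R] B) (hnzd : φ (f i) ∈ nonZeroDivisors B)
    (hgen : (Ideal.span (Set.range f)).map φ = Ideal.span {φ (f i)}) :
    ∃! ψ : AdicRing.chartAdm I f i →ₐ[R] B,
      ψ.comp (IsScalarTower.toAlgHom R A (AdicRing.chartAdm I f i)) = φ := by
  classical
  -- notation
  set σ := {j : Fin (r + 1) // j ≠ i} with hσ
  set rel : Ideal (MvPolynomial σ A) := Ideal.span (Set.range fun j : σ =>
    MvPolynomial.C (f i) * MvPolynomial.X j - MvPolynomial.C (f j.1)) with hrel
  set J : Ideal (chartAlg f i) := I.map (algebraMap R (chartAlg f i)) with hJ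
  set K : Ideal B := I.map (algebraMap R B) with hK
  -- the b_j
  have hb : ∀ j : σ, ∃ b : B, φ (f j.1) = φ (f i) * b := by
    intro j
    have : φ (f j.1) ∈ Ideal.span {φ (f i)} := by
      rw [← hgen]
      exact Ideal.mem_map_of_mem _ (Ideal.subset_span ⟨j.1, rfl⟩)
    obtain ⟨b, hb⟩ := Ideal.mem_span_singleton'.1 this
    exact ⟨b, by rw [← hb, mul_comm]⟩
  choose b hb using hb
  let g₀ : MvPolynomial σ A →+* B := MvPolynomial.eval₂Hom (φ : A →+* B) b
  have hg₀ : ∀ a ∈ rel, g₀ a = 0 := by
    intro a ha
    have : rel ≤ RingHom.ker g₀ := by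
      rw [hrel, Ideal.span_le]
      rintro _ ⟨j, rfl⟩
      simp [g₀, RingHom.mem_ker, hb j]
    exact this ha
  let g : chartAlg f i →+* B := Ideal.Quotient.lift rel g₀ hg₀
  have hgC : ∀ a : A, g (algebraMap A (chartAlg f i) a) = φ a := by
    intro a
    show g (Ideal.Quotient.mk rel (MvPolynomial.C a)) = φ a
    simp [g, g₀]
  have hgX : ∀ j : σ, g (Ideal.Quotient.mk rel (MvPolynomial.X j)) = b j := by
    intro j
    simp [g, g₀]
  have hgR : ∀ x : R, g (algebraMap R (chartAlg f i) x) = algebraMap R B x := by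
    intro x
    rw [IsScalarTower.algebraMap_apply R A (chartAlg f i), hgC, φ.commutes]
  have hJK : J ≤ K.comap g := by
    rw [hJ, Ideal.map_le_iff_le_comap, Ideal.comap_comap]
    have : g.comp (algebraMap R (chartAlg f i)) = algebraMap R B := RingHom.ext hgR
    rw [this]
    exact Ideal.le_comap_map
  have hJfg : J.FG := (isBase_fg hR).map _
  obtain ⟨ĝ, hĝ⟩ := exists_extend J K g hJK
  have hĝA : ∀ a : A, ĝ (algebraMap A (chartCompl I f i) a) = φ a := by
    intro a
    rw [IsScalarTower.algebraMap_apply A (chartAlg f i) (chartCompl I f i), hĝ, hgC]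
  -- the torsion ideal
  set T : Ideal (chartCompl I f i) := (⨆ n : ℕ, Submodule.torsionBy (chartCompl I f i) (chartCompl I f i)
    (algebraMap A (chartCompl I f i) (f i) ^ n) : Ideal (chartCompl I f i)) with hT
  have hTker : ∀ x ∈ T, ĝ x = 0 := by
    intro x hx
    have : T ≤ RingHom.ker ĝ := by
      rw [hT]
      refine iSup_le fun n y hy => ?_
      rw [Submodule.mem_torsionBy_iff, smul_eq_mul] at hy
      have h2 := congrArg ĝ hy
      rw [map_mul, map_pow, hĝA, map_zero, mul_comm] at h2
      rw [RingHom.mem_ker]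
      exact (mem_nonZeroDivisors_iff_right.1 (pow_mem hnzd n)) _ h2
    exact this hx
  let ψr : chartAdm I f i →+* B := Ideal.Quotient.lift T ĝ hTker
  have hψr : ∀ y : chartCompl I f i, ψr (Ideal.Quotient.mk T y) = ĝ y := fun y => by simp [ψr]
  have hψrA : ∀ a : A, ψr (algebraMap A (chartAdm I f i) a) = φ a := by
    intro a
    rw [IsScalarTower.algebraMap_apply A (chartCompl I f i) (chartAdm I f i)]
    rw [Ideal.Quotient.algebraMap_eq, hψr, hĝA]
  let ψ : chartAdm I f i →ₐ[R] B :=
    { ψr with
      commutes' := fun x => by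
        show ψr (algebraMap R (chartAdm I f i) x) = algebraMap R B x
        rw [IsScalarTower.algebraMap_apply R A (chartAdm I f i), hψrA, φ.commutes] }
  have hψ : ∀ y, ψ y = ψr y := fun _ => rfl
  refine ⟨ψ, ?_, ?_⟩
  · ext a
    simp only [AlgHom.comp_apply, IsScalarTower.coe_toAlgHom', hψ, hψrA]
  · intro ψ' hψ'
    have hψ'A : ∀ a : A, ψ' (algebraMap A (chartAdm I f i) a) = φ a := by
      intro a
      rw [← hψ']
      rfl
    let θ' : chartCompl I f i →+* B := (ψ' : chartAdm I f i →+* B).comp (Ideal.Quotient.mk T)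
    have hθ'A : ∀ a : A, θ' (algebraMap A (chartCompl I f i) a) = φ a := by
      intro a
      have := hψ'A a
      rw [IsScalarTower.algebraMap_apply A (chartCompl I f i) (chartAdm I f i),
        Ideal.Quotient.algebraMap_eq] at this
      exact this
    have hθ' : ∀ x, θ' (algebraMap (chartAlg f i) (chartCompl I f i) x) = g x := by
      have : θ'.comp (algebraMap (chartAlg f i) (chartCompl I f i)) = g := by
        apply Ideal.Quotient.ringHom_ext
        apply MvPolynomial.ringHom_ext
        · intro a
          have h1 := hθ'A a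
          rw [IsScalarTower.algebraMap_apply A (chartAlg f i) (chartCompl I f i)] at h1
          have h2 := hgC a
          simp only [RingHom.comp_apply]
          exact h1.trans h2.symm
        · intro j
          simp only [RingHom.comp_apply]
          rw [hgX]
          apply mul_cancel_left_mem_nonZeroDivisors hnzd |>.1
          rw [← hb j]
          have h1 := hθ'A (f i)
          rw [IsScalarTower.algebraMap_apply A (chartAlg f i) (chartCompl I f i)] at h1
          have h3 := hθ'A (f j.1)
          rw [IsScalarTower.algebraMap_apply A (chartAlg f i) (chartCompl I f i)] at h3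
          rw [← h1, ← h3, ← map_mul, ← map_mul]
          congr 2
          show Ideal.Quotient.mk rel (MvPolynomial.C (f i)) * Ideal.Quotient.mk rel (MvPolynomial.X j) =
            Ideal.Quotient.mk rel (MvPolynomial.C (f j.1))
          rw [← map_mul, Ideal.Quotient.eq]
          exact Ideal.subset_span ⟨j, rfl⟩
      intro x
      rw [← this]
      rfl
    have hθeq : θ' = ĝ := ext_of J K hJfg g hJK θ' ĝ hθ' hĝ
    ext x
    obtain ⟨y, rfl⟩ := Ideal.Quotient.mk_surjective x
    rw [hψ, hψr, ← hθeq]
    rfl

end Groth.Agent.S11545
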