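import Groth.Statements.S11547
import Groth.Agent.Lib.BoschCore76U
import Groth.Agent.S11525

set_option autoImplicit false
universe u
open AdicRing

namespace Groth.Agent.S11547

/-- Let R be a complete valuation ring of height one with t a nonzero element generating an ideal of
definition, φ : A → A' a homomorphism of admissible R-algebras, and u' : A' → B' a surjective
R-algebra homomorphism onto an admissible R-algebra B' which is a local integral domain of Krull
dimension one. Then the image of A in B' is an admissible R-algebra and a local integral domain of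
Krull dimension one. -/
theorem result
    (R : Type u) [CommRing R] [IsDomain R] [ValuationRing R] [Ring.KrullDimLE 1 R]
    (t : R) (ht : t ≠ 0) [IsAdicComplete (Ideal.span {t}) R]
    (A : Type u) [CommRing A] [Algebra R A] (hA : AdicRing.Admissible R (Ideal.span {t}) A)
    (A' : Type u) [CommRing A'] [Algebra R A'] (hA' : AdicRing.Admissible R (Ideal.span {t}) A')
    (φ : A →ₐ[R] A')
    (B' : Type u) [CommRing B'] [Algebra R B'] [IsDomain B'] [IsLocalRing B']
    (hB' : AdicRing.Admissible R (Ideal.span {t}) B') (hdim : ringKrullDim B' = 1)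
    (u' : A' →ₐ[R] B') (hu' : Function.Surjective u') :
    AdicRing.Admissible R (Ideal.span {t}) ((u'.comp φ).range) ∧
      IsLocalRing ((u'.comp φ).range) ∧ ringKrullDim ((u'.comp φ).range) = 1 := by
  classical
  have hR : AdicRing.IsBase R (Ideal.span {t}) := Groth.Agent.Lib.BoschCore76.isBase_V R t ht
  have hBt : AdicRing.TopFiniteType R (Ideal.span {t}) B' := by
    obtain ⟨⟨n, ψ, hψ, -⟩, -⟩ := hB'
    exact ⟨n, ψ, hψ⟩
  have hfin : Module.Finite R B' :=
    Groth.Agent.Lib.BoschCore76.finite_of_local_dim_one t ht B' hBt hB'.2 hdim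
  have hint : Algebra.IsIntegral R B' := Algebra.IsIntegral.of_finite R B'
  have hintS : Algebra.IsIntegral ((u'.comp φ).range) B' := Algebra.IsIntegral.tower_top R
  -- topologically of finite type
  have hSt : AdicRing.TopFiniteType R (Ideal.span {t}) ((u'.comp φ).range) := by
    obtain ⟨⟨n, ψ, hψ, -⟩, -⟩ := hA
    exact ⟨n, (u'.comp φ).rangeRestrict.comp ψ,
      (AlgHom.rangeRestrict_surjective (u'.comp φ)).comp hψ⟩
  have hSnt : AdicRing.NoPowTorsion (Ideal.span {t}) ((u'.comp φ).range) := by
    intro x n hx
    apply Subtype.ext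
    apply hB'.2 (x : B') n
    intro a ha
    have := congrArg Subtype.val (hx a ha)
    exact this
  refine ⟨⟨Groth.Agent.S11525.result R (Ideal.span {t}) hR _ hSt hSnt, hSnt⟩, ?_, ?_⟩
  · -- local
    have hnt : Nontrivial ((u'.comp φ).range) :=
      nontrivial_of_ne (0 : (u'.comp φ).range) 1 (fun h => zero_ne_one (congrArg Subtype.val h))
    have hkey : ∀ a : (u'.comp φ).range, a ∈ nonunits ((u'.comp φ).range) →
        (a : B') ∈ IsLocalRing.maximalIdeal B' := by
      intro a ha
      rw [IsLocalRing.mem_maximalIdeal, mem_nonunits_iff]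
      intro hu
      obtain ⟨w, hw⟩ := hu
      have h1 : algebraMap ((u'.comp φ).range) B' a * (↑w⁻¹ : B') = 1 := by
        show (a : B') * _ = 1
        rw [← hw, Units.mul_inv]
      obtain ⟨z, hz⟩ := Groth.Agent.Lib.BoschCore76.exists_algebraMap_eq_inv_of_isIntegral a _ h1
      apply ha
      refine IsUnit.of_mul_eq_one z ?_
      apply Subtype.ext
      show (a : B') * (z : B') = 1
      have hz' : (z : B') = (↑w⁻¹ : B') := hz
      rw [hz', ← hw, Units.mul_inv]
    apply IsLocalRing.of_nonunits_add
    intro a b ha hb
    have hab : ((a + b : (u'.comp φ).range) : B') ∈ IsLocalRing.maximalIdeal B' := by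
      rw [Subalgebra.coe_add]
      exact Ideal.add_mem _ (hkey a ha) (hkey b hb)
    rw [mem_nonunits_iff]
    intro hu
    rw [IsLocalRing.mem_maximalIdeal, mem_nonunits_iff] at hab
    exact hab (hu.map ((u'.comp φ).range.val))
  · rw [← hdim]
    exact Groth.Agent.Lib.BoschCore76.ringKrullDim_eq_of_isIntegral_of_injective
      (R := (u'.comp φ).range) (S := B') Subtype.val_injective

end Groth.Agent.S11547
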