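import Groth.Statements.S4505
import Groth.Agent.Lib.TensorAModel3H44
import Groth.Agent.Lib.TensorALinH44
import Groth.Agent.Lib.EndEquiv2H44
import Groth.Agent.Lib.ExchangeH44
import Groth.Agent.Lib.TFunMapIsoH44
import Groth.Agent.Lib.LengthCritH44

set_option autoImplicit false
universe u
attribute [local instance] HasDerivedCategory.standard
open Coherent

namespace Groth.Agent.S4505


open AlgebraicGeometry CategoryTheory CohIII Groth.Agent.Lib.EndEquivH44 in
/-- the functorial action of `a • 𝟙` on `H^p(X, F ⊗_A M)` is multiplication by `a` -/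
theorem tensorA_map_smul_apply (A : Type u) [CommRing A] {X : Scheme.{u}}
    [X.Over (Spec (CommRingCat.of A))] (F : X.Modules) (M : ModuleCat.{u} A) (a : A) (p : ℕ)
    (x : Coh.HH X ((tensorAFunctor A F).obj M) p) :
    ((tensorAFunctor A F ⋙ HAb X p).map (a • 𝟙 M)).hom x = a • x := by
  change ((HAb X p).map ((tensorAFunctor A F).map (a • 𝟙 M))).hom x = a • x
  rw [Groth.Agent.Lib.TensorALinH44.tensorAFunctor_map_smul]
  rfl

open AlgebraicGeometry CategoryTheory CohIII Groth.Agent.Lib.EndEquivH44 in
/-- a pointwise endomorphism-equivariant comparison with an `A`-linear functor is `A`-linear -/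
theorem nonempty_linearEquiv (A : Type u) [CommRing A] {X : Scheme.{u}}
    [X.Over (Spec (CommRingCat.of A))] (F : X.Modules) (p : ℕ)
    (T : ModuleCat.{u} A ⥤ ModuleCat.{u} A) [T.Additive] [T.Linear A]
    (e : EndEquiv (tensorAFunctor A F ⋙ HAb X p) (T ⋙ forget₂ (ModuleCat.{u} A) AddCommGrpCat.{u}))
    (M : ModuleCat.{u} A) :
    Nonempty (Coh.HH X ((tensorAFunctor A F).obj M) p ≃ₗ[A] T.obj M) := by
  obtain ⟨e₀, he₀⟩ := e M
  have hsmul : ∀ (a : A) (x : Coh.HH X ((tensorAFunctor A F).obj M) p),
      (show T.obj M from e₀ (a • x)) = a • (show T.obj M from e₀ x) := by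
    intro a x
    rw [← tensorA_map_smul_apply A F M a p x, he₀]
    change (T.map (a • 𝟙 M)).hom (show T.obj M from e₀ x) = a • (show T.obj M from e₀ x)
    rw [Functor.map_smul, CategoryTheory.Functor.map_id]
    rfl
  exact ⟨{ toFun := fun x => (show T.obj M from e₀ x)
           invFun := fun y => e₀.symm y
           left_inv := fun x => e₀.symm_apply_apply x
           right_inv := fun y => e₀.apply_symm_apply y
           map_add' := fun x y => map_add e₀ x y
           map_smul' := fun a x => hsmul a x }⟩

open AlgebraicGeometry CategoryTheory in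
/-- (b) ⇔ (c), for a complex reduced to one sheaf and a local base (so that the point y is the closed
point and O_y = A). Let A be a Noetherian local ring with maximal ideal m and residue field k, X a
proper A-scheme with structure morphism f, F a coherent O_X-module flat over Spec A, and write
T^p(M) = H^p(X, f^*(M~) ⊗ F) for an A-module M. Then the functor T^p takes injections to injections
and surjections to surjections (F is cohomologically flat in degree p) if and only if there is n₀
such that for every n ≥ n₀ one has length_A T^p(A/m^(n+1)) = length_A T^p(k) · length_A (A/m^(n+1))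
(lengths of A-modules, valued in ℕ∞; all are finite here). -/
theorem result (A : Type u) [CommRing A]
    [IsNoetherianRing A] [IsLocalRing A] (X : Scheme.{u}) [X.Over (Spec (CommRingCat.of A))]
    [IsProper (X ↘ Spec (CommRingCat.of A))] (F : X.Modules) (hF : Coh.IsCoh F)
    (hfl : FlatMod.IsFlatOver (X ↘ Spec (CommRingCat.of A)) F) (p : ℕ) :
    ((CohIII.tensorAFunctor A F ⋙ CohIII.HAb X p).PreservesMonomorphisms ∧
        (CohIII.tensorAFunctor A F ⋙ CohIII.HAb X p).PreservesEpimorphisms) ↔
      ∃ n₀ : ℕ, ∀ n : ℕ, n₀ ≤ n →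
        Module.length A (Coh.HH X ((CohIII.tensorAFunctor A F).obj
            (ModuleCat.of A (A ⧸ IsLocalRing.maximalIdeal A ^ (n + 1)))) p) =
          Module.length A (Coh.HH X ((CohIII.tensorAFunctor A F).obj
              (ModuleCat.of A (IsLocalRing.ResidueField A))) p) *
            Module.length A (A ⧸ IsLocalRing.maximalIdeal A ^ (n + 1)) := by
  obtain ⟨L, h1, -, h3, -⟩ := Groth.Agent.Lib.TensorAModel3H44.exists_model A X F hF hfl
  have hflat : ∀ i, Module.Flat A (L.X i) := fun i => haveI := (h1 i).2; inferInstance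
  have hfin : ∀ i, Module.Finite A (L.X i) := fun i => (h1 i).1
  have e := h3 p
  have key := Groth.Agent.Lib.LengthCritH44.exact_iff_length_formula L hflat hfin (p : ℤ) ((p : ℤ) + 1) rfl
  have hmono : (CohIII.tensorAFunctor A F ⋙ CohIII.HAb X p).PreservesMonomorphisms ↔
      (CohIII.TFun L (p : ℤ)).PreservesMonomorphisms := by
    rw [e.preservesMonomorphisms_iff, Groth.Agent.Lib.TFunMapIsoH44.preservesMono_comp_forget₂_iff]
  have hepi : (CohIII.tensorAFunctor A F ⋙ CohIII.HAb X p).PreservesEpimorphisms ↔
      (CohIII.TFun L (p : ℤ)).PreservesEpimorphisms := by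
    rw [e.preservesEpimorphisms_iff, Groth.Agent.Lib.ExchangeH44.preservesEpi_comp_forget₂_iff]
  have hlen : ∀ M : ModuleCat.{u} A,
      Module.length A (Coh.HH X ((CohIII.tensorAFunctor A F).obj M) p) =
        Module.length A ((CohIII.TFun L (p : ℤ)).obj M) := by
    intro M
    obtain ⟨ε⟩ := nonempty_linearEquiv A F p (CohIII.TFun L (p : ℤ)) e M
    exact ε.length_eq
  rw [hmono, hepi, key]
  refine exists_congr fun n₀ => forall_congr' fun n => forall_congr' fun _ => ?_
  rw [hlen, hlen]

end Groth.Agent.S4505
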