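import Groth.Statements.S1162
import Mathlib

set_option autoImplicit false
open CategoryTheory CategoryTheory.Limits AlgebraicGeometry Opposite
universe u
open Desc

namespace Groth.Agent.S1162

/-- A generalizing continuous map sends generic points of irreducible components to generic
points of irreducible components (target quasi-sober). -/
theorem closure_image_mem_irreducibleComponents {P X : Type*} [TopologicalSpace P]
    [TopologicalSpace X] [QuasiSober X] (g : P → X) (hg : Continuous g) (hgen : GeneralizingMap g)
    (ζ : P) (hζ : closure ({ζ} : Set P) ∈ irreducibleComponents P) :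
    closure ({g ζ} : Set X) ∈ irreducibleComponents X := by
  let η := (isIrreducible_irreducibleComponent (x := g ζ)).genericPoint
  have hη : IsGenericPoint η (irreducibleComponent (g ζ)) :=
    IsIrreducible.isGenericPoint_genericPoint _ isClosed_irreducibleComponent
  have hηg : η ⤳ g ζ := hη.specializes mem_irreducibleComponent
  obtain ⟨ζ', hζ', hgζ'⟩ := hgen hηg
  have hsub : closure ({ζ} : Set P) ⊆ closure {ζ'} := by
    rw [← specializes_iff_closure_subset]; exact hζ'
  have heq : closure ({ζ} : Set P) = closure {ζ'} :=
    hζ.eq_of_subset isIrreducible_singleton.closure hsub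
  have hζζ' : ζ ⤳ ζ' := by
    rw [specializes_iff_closure_subset, heq]
  have h1 : g ζ ⤳ η := by
    rw [← hgζ']; exact hζζ'.map hg
  have h2 : closure ({g ζ} : Set X) = closure {η} :=
    subset_antisymm (specializes_iff_closure_subset.mp hηg) (specializes_iff_closure_subset.mp h1)
  rw [h2, hη.def]
  exact irreducibleComponent_mem_irreducibleComponents _

set_option backward.isDefEq.respectTransparency.types false in
set_option backward.defeqAttrib.useBackward true in
theorem aux {X Y : Scheme.{u}} (f : X ⟶ Y) [Flat f] [IsSeparated f]
    (h2 : ∀ ξ : X, closure ({ξ} : Set X) ∈ irreducibleComponents (X : Type u) →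
      Function.Surjective (f.residueFieldMap ξ).hom)
    (h3 : Set.InjOn f.base {ξ : X | closure ({ξ} : Set X) ∈ irreducibleComponents (X : Type u)}) :
    UniversallyInjective f := by
  classical
  rw [UniversallyInjective.iff_diagonal, surjective_iff]
  intro z
  let ζ := (isIrreducible_irreducibleComponent (x := z)).genericPoint
  have hζ : IsGenericPoint ζ (irreducibleComponent z) :=
    IsIrreducible.isGenericPoint_genericPoint _ isClosed_irreducibleComponent
  have hζz : ζ ⤳ z := hζ.specializes mem_irreducibleComponent
  have hζcomp : closure ({ζ} : Set ↥(pullback f f)) ∈ irreducibleComponents ↥(pullback f f) := by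
    rw [hζ.def]; exact irreducibleComponent_mem_irreducibleComponents z
  suffices hmem : ζ ∈ Set.range (pullback.diagonal f).base by
    have hcl : IsClosed (Set.range (pullback.diagonal f).base) :=
      (pullback.diagonal f).isClosedEmbedding.isClosed_range
    exact hζz.mem_closed hcl hmem
  have hc1 := closure_image_mem_irreducibleComponents (pullback.fst f f).base
    (pullback.fst f f).continuous (Flat.generalizingMap _) ζ hζcomp
  have hc2 := closure_image_mem_irreducibleComponents (pullback.snd f f).base
    (pullback.snd f f).continuous (Flat.generalizingMap _) ζ hζcomp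
  have hcond : f.base ((pullback.fst f f).base ζ) = f.base ((pullback.snd f f).base ζ) := by
    rw [← Scheme.Hom.comp_apply, ← Scheme.Hom.comp_apply, pullback.condition]
  have heq : (pullback.fst f f).base ζ = (pullback.snd f f).base ζ := h3 hc1 hc2 hcond
  let φ := (pullback f f).fromSpecResidueField ζ
  have hφ₁ : φ ≫ pullback.fst f f = φ ≫ pullback.snd f f := by
    have hg : (φ ≫ pullback.fst f f) ≫ f = (φ ≫ pullback.snd f f) ≫ f := by
      simp [pullback.condition]
    have hpt : (φ ≫ pullback.fst f f).base (IsLocalRing.closedPoint _) =
        (φ ≫ pullback.snd f f).base (IsLocalRing.closedPoint _) := by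
      rw [Scheme.Hom.comp_apply, Scheme.Hom.comp_apply, Scheme.fromSpecResidueField_apply]
      exact heq
    obtain ⟨e, h⟩ := Scheme.SpecToEquivOfField_eq_iff.mp
      congr((Y.SpecToEquivOfField ((pullback f f).residueField ζ)) $(hg))
    apply (X.SpecToEquivOfField ((pullback f f).residueField ζ)).injective
    dsimp at e h
    have k1 := Scheme.descResidueField_stalkClosedPointTo_comp f (φ ≫ pullback.fst f f)
    have k2 := Scheme.descResidueField_stalkClosedPointTo_comp f (φ ≫ pullback.snd f f)
    have hx1 : (φ ≫ pullback.fst f f).base (IsLocalRing.closedPoint _) =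
        (pullback.fst f f).base ζ := by
      rw [Scheme.Hom.comp_apply, Scheme.fromSpecResidueField_apply]
    have hsurj : Function.Surjective
        (f.residueFieldMap ((φ ≫ pullback.fst f f).base (IsLocalRing.closedPoint _))).hom := by
      apply h2; rw [hx1]; exact hc1
    have hepi : Epi (f.residueFieldMap ((φ ≫ pullback.fst f f).base (IsLocalRing.closedPoint _))) :=
      ConcreteCategory.epi_of_surjective _ hsurj
    rw [Scheme.SpecToEquivOfField_eq_iff]
    refine ⟨hpt, ?_⟩
    refine (cancel_epi (f.residueFieldMap
      ((φ ≫ pullback.fst f f).base (IsLocalRing.closedPoint _)))).mp ?_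
    exact k1.symm.trans (h.trans ((congrArg (fun t => (Scheme.residueFieldCongr e).hom ≫ t) k2).trans
      (f.residueFieldMap_congr'_assoc hpt _).symm))
  have hφ₂ : φ = (φ ≫ pullback.fst f f) ≫ pullback.diagonal f := by cat_disch
  refine ⟨(φ ≫ pullback.fst f f).base (IsLocalRing.closedPoint _), ?_⟩
  rw [← Scheme.Hom.comp_apply, ← hφ₂, Scheme.fromSpecResidueField_apply]


/-- Let f : X ⟶ Y be flat and separated. Write X⁰ for the generic points of the irreducible components
of X. If for every ξ in X⁰ the residue field extension κ(f ξ) ⊆ κ(ξ) is trivial and f is injective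
on X⁰, then f is universally injective. -/
theorem result {X Y : Scheme.{u}} (f : X ⟶ Y) [Flat f] [IsSeparated f]
    (h2 : ∀ ξ : X, closure ({ξ} : Set X) ∈ irreducibleComponents (X : Type u) →
      Function.Surjective (f.residueFieldMap ξ).hom)
    (h3 : Set.InjOn f.base {ξ : X | closure ({ξ} : Set X) ∈ irreducibleComponents (X : Type u)}) :
    UniversallyInjective f := by
  exact aux f h2 h3

end Groth.Agent.S1162
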