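import Groth.Statements.S1163
import Mathlib.RingTheory.Flat.FaithfullyFlat.Algebra
import Mathlib.RingTheory.RingHom.Flat
import Mathlib.RingTheory.RingHom.FaithfullyFlat
-- import your own Groth.Agent.* helpers here

set_option autoImplicit false
open CategoryTheory CategoryTheory.Limits AlgebraicGeometry Opposite
universe u
open Desc

namespace Groth.Agent.S1163

open TensorProduct in
/-- If `A → B → C → D` with `C` flat over `A` and `D` faithfully flat over `B`, then `B` is flat
over `A`. -/
theorem flat_of_flat_of_faithfullyFlat (A B C D : Type u) [CommRing A] [CommRing B] [CommRing C]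
    [CommRing D] [Algebra A B] [Algebra A C] [Algebra B C] [IsScalarTower A B C]
    [Algebra A D] [Algebra B D] [Algebra C D] [IsScalarTower A B D] [IsScalarTower B C D]
    [IsScalarTower A C D]
    [Module.Flat A C] [Module.FaithfullyFlat B D] : Module.Flat A B := by
  rw [Module.Flat.iff_lTensor_preserves_injective_linearMap]
  intro N N' _ _ _ _ f hf
  -- the maps B → C → D as A-linear maps
  let φ : B →ₗ[A] C := (IsScalarTower.toAlgHom A B C).toLinearMap
  let ψ : C →ₗ[A] D := (IsScalarTower.toAlgHom A C D).toLinearMap
  have hψφ : ∀ (M : Type u) [AddCommGroup M] [Module A M],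
      Function.Injective (LinearMap.rTensor M φ) := by
    intro M _ _
    have h1 : Function.Injective (LinearMap.rTensor M (ψ ∘ₗ φ)) := by
      have : (LinearMap.rTensor M (ψ ∘ₗ φ) : B ⊗[A] M → D ⊗[A] M) =
          (TensorProduct.AlgebraTensorModule.cancelBaseChange A B B D M) ∘
            (TensorProduct.mk B D (B ⊗[A] M) 1) := by
        ext x
        induction x using TensorProduct.induction_on with
        | zero => simp
        | tmul b m =>
          simp [φ, ψ, Algebra.smul_def, ← IsScalarTower.algebraMap_apply]
        | add x y hx hy =>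
          simp only [map_add, Function.comp_apply] at hx hy ⊢
          rw [hx, hy]
      rw [this]
      exact (LinearEquiv.injective _).comp (Module.FaithfullyFlat.tensorProduct_mk_injective _)
    rw [LinearMap.rTensor_comp] at h1
    exact Function.Injective.of_comp h1
  have hC : Function.Injective (LinearMap.lTensor C f) :=
    Module.Flat.lTensor_preserves_injective_linearMap f hf
  have hcomm : (LinearMap.rTensor N' φ) ∘ₗ (LinearMap.lTensor B f) =
      (LinearMap.lTensor C f) ∘ₗ (LinearMap.rTensor N φ) := by
    rw [LinearMap.rTensor_comp_lTensor, LinearMap.lTensor_comp_rTensor]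
  have : Function.Injective ((LinearMap.rTensor N' φ) ∘ₗ (LinearMap.lTensor B f)) := by
    rw [hcomm]
    exact hC.comp (hψφ N)
  exact Function.Injective.of_comp this

/-- Ring hom version of `flat_of_flat_of_faithfullyFlat`. -/
theorem ringHom_flat_of_comp (A B C D : Type u) [CommRing A] [CommRing B] [CommRing C]
    [CommRing D] [IsLocalRing B] [IsLocalRing D] (a : A →+* B) (b : B →+* C) (c : C →+* D)
    (h1 : (b.comp a).Flat) (h2 : (c.comp b).Flat) [IsLocalHom (c.comp b)] : a.Flat := by
  let _ := a.toAlgebra
  let _ := b.toAlgebra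
  let _ := c.toAlgebra
  let _ := (b.comp a).toAlgebra
  let _ := (c.comp b).toAlgebra
  let _ := (c.comp (b.comp a)).toAlgebra
  have : IsScalarTower A B C := IsScalarTower.of_algebraMap_eq fun _ => rfl
  have : IsScalarTower A B D := IsScalarTower.of_algebraMap_eq fun _ => rfl
  have : IsScalarTower B C D := IsScalarTower.of_algebraMap_eq fun _ => rfl
  have : IsScalarTower A C D := IsScalarTower.of_algebraMap_eq fun _ => rfl
  have : Module.Flat A C := h1
  have : Module.Flat B D := h2
  have : IsLocalHom (algebraMap B D) := ‹IsLocalHom (c.comp b)›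
  have : Module.FaithfullyFlat B D := Module.FaithfullyFlat.of_flat_of_isLocalHom
  exact flat_of_flat_of_faithfullyFlat A B C D

theorem result {X Y Z Y' : Scheme.{u}} (f : X ⟶ Y) (q : Y ⟶ Z) (g : Y' ⟶ Y) [Flat g] [Surjective g]
    [LocallyOfFinitePresentation g] (l : Y' ⟶ X) (hl : l ≫ f = g) [Flat (f ≫ q)] : Flat q := by
  subst hl
  rw [Flat.iff_flat_stalkMap]
  intro y
  obtain ⟨y', rfl⟩ := (l ≫ f).surjective y
  have h1 : ((f ≫ q).stalkMap (l y')).hom.Flat := Flat.stalkMap _ _
  have h2 : ((l ≫ f).stalkMap y').hom.Flat := Flat.stalkMap _ _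
  have h3 : IsLocalHom ((l ≫ f).stalkMap y').hom := inferInstance
  rw [Scheme.Hom.stalkMap_comp] at h1 h2 h3
  exact ringHom_flat_of_comp _ _ _ _ (q.stalkMap (f (l y'))).hom (f.stalkMap (l y')).hom
    (l.stalkMap y').hom h1 h2

end Groth.Agent.S1163
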