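import Groth.Statements.S1164
import Groth.Agent.S1163
import Mathlib.RingTheory.Unramified.Basic
import Mathlib.RingTheory.Smooth.Flat
import Mathlib.RingTheory.Flat.Localization
import Mathlib.RingTheory.Kaehler.Basic
import Mathlib.RingTheory.TensorProduct.Basic

set_option autoImplicit false
universe u
open Desc

namespace Groth.Agent.S1164

open TensorProduct in
/-- If `E` is an unramified `R`-algebra and `M` is an `E`-module which is flat over `R`, then `M`
is flat over `E`: it is a direct summand of `E ⊗[R] M`. -/
theorem flat_of_unramified (R E M : Type u) [CommRing R] [CommRing E] [Algebra R E]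
    [Algebra.EssFiniteType R E] [Algebra.FormallyUnramified R E]
    [AddCommGroup M] [Module R M] [Module E M] [IsScalarTower R E M] [Module.Flat R M] :
    Module.Flat E M := by
  obtain ⟨e, he, hsp⟩ : ∃ e, IsIdempotentElem e ∧ KaehlerDifferential.ideal R E = E ⊗[R] E ∙ e :=
    (Ideal.isIdempotentElem_iff_of_fg _ (KaehlerDifferential.ideal_fg R E)).mp <|
      (Ideal.cotangent_subsingleton_iff _).mp <| inferInstanceAs <| Subsingleton Ω[E⁄R]
  -- the multiplication kills `e`
  have hμe : Algebra.TensorProduct.lmul' R (S := E) e = 0 := by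
    have : e ∈ KaehlerDifferential.ideal R E := by
      rw [hsp]; exact Ideal.mem_span_singleton_self e
    simpa [KaehlerDifferential.ideal] using this
  -- `(1 - e) * (1 ⊗ a) = (1 - e) * (a ⊗ 1)`
  have hswap : ∀ a : E, (1 - e) * ((1 : E) ⊗ₜ[R] a) = (1 - e) * (a ⊗ₜ[R] (1 : E)) := by
    intro a
    have hmem : ((1 : E) ⊗ₜ[R] a - a ⊗ₜ[R] (1 : E)) ∈ KaehlerDifferential.ideal R E := by
      simp [KaehlerDifferential.ideal]
    rw [hsp, Ideal.mem_span_singleton'] at hmem
    obtain ⟨w, hw⟩ := hmem
    have : (1 - e) * ((1 : E) ⊗ₜ[R] a - a ⊗ₜ[R] (1 : E)) = 0 := by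
      rw [← hw, mul_comm w e, ← mul_assoc, sub_mul, one_mul, he.eq, sub_self, zero_mul]
    rw [mul_sub, sub_eq_zero] at this
    exact this
  -- the action map
  let act : E ⊗[R] M →ₗ[E] M := LinearMap.liftBaseChange E (LinearMap.id : M →ₗ[R] M)
  -- for `m : M`, the map `E → M`, `y ↦ y • m`
  let ψ : M → (E →ₗ[R] M) := fun m => (LinearMap.toSpanSingleton E M m).restrictScalars R
  let Φ : M → (E ⊗[R] E →ₗ[E] E ⊗[R] M) := fun m => LinearMap.baseChange E (ψ m)
  have hΦ_tmul : ∀ m x y, Φ m (x ⊗ₜ y) = x ⊗ₜ (y • m) := by
    intro m x y; simp [Φ, ψ]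
  have hΦ_add : ∀ m m' z, Φ (m + m') z = Φ m z + Φ m' z := by
    intro m m' z
    induction z using TensorProduct.induction_on with
    | zero => simp
    | tmul x y => simp only [hΦ_tmul, smul_add, TensorProduct.tmul_add]
    | add z z' hz hz' => simp only [map_add, hz, hz']; abel
  have hΦ_smul : ∀ (a : E) m z, Φ (a • m) z = Φ m (z * ((1 : E) ⊗ₜ[R] a)) := by
    intro a m z
    induction z using TensorProduct.induction_on with
    | zero => simp
    | tmul x y =>
      simp only [hΦ_tmul, Algebra.TensorProduct.tmul_mul_tmul, mul_one, smul_smul]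
    | add z z' hz hz' => simp only [map_add, add_mul, hz, hz']
  have hactΦ : ∀ m z, act (Φ m z) = (Algebra.TensorProduct.lmul' R (S := E) z) • m := by
    intro m z
    induction z using TensorProduct.induction_on with
    | zero => simp
    | tmul x y =>
      simp only [hΦ_tmul, act, LinearMap.liftBaseChange_tmul, LinearMap.id_coe, id_eq,
        Algebra.TensorProduct.lmul'_apply_tmul, smul_smul]
    | add z z' hz hz' => simp only [map_add, add_smul, hz, hz']
  let i : M →ₗ[E] E ⊗[R] M :=
    { toFun := fun m => Φ m (1 - e)
      map_add' := fun m m' => hΦ_add m m' _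
      map_smul' := fun a m => by
        simp only [RingHom.id_apply]
        rw [hΦ_smul, hswap, ← map_smul]
        congr 1
        rw [mul_comm, Algebra.smul_def]
        rfl }
  refine Module.Flat.of_retract (M := E ⊗[R] M) i act ?_
  ext m
  simp only [LinearMap.coe_comp, Function.comp_apply, LinearMap.id_coe, id_eq]
  change act (Φ m (1 - e)) = m
  rw [hactΦ, map_sub, map_one, hμe, sub_zero, one_smul]

/-- Let R → S be a local homomorphism of local rings. Let R' be a local ring which is a localization at
a prime of an etale R-algebra, with R → R' local, and similarly S' for S, and suppose S' is an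
R'-algebra compatibly with the given maps. Then R → S is flat if and only if R' → S' is flat. (This
is the statement that flatness of a morphism of germs is etale local on source and target together.) -/
theorem result (R S R' S' : Type u) [CommRing R] [CommRing S] [CommRing R'] [CommRing S']
    [IsLocalRing R] [IsLocalRing S] [IsLocalRing R'] [IsLocalRing S']
    [Algebra R S] [IsLocalHom (algebraMap R S)] [Algebra R R'] [IsLocalHom (algebraMap R R')]
    [Algebra S S'] [IsLocalHom (algebraMap S S')] [Algebra R' S'] [Algebra R S']
    [IsScalarTower R R' S'] [IsScalarTower R S S']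
    (E : Type u) [CommRing E] [Algebra R E] [Algebra.Etale R E] (P : Ideal E) [P.IsPrime]
    [Algebra E R'] [IsScalarTower R E R'] [IsLocalization.AtPrime R' P]
    (F : Type u) [CommRing F] [Algebra S F] [Algebra.Etale S F] (Q : Ideal F) [Q.IsPrime]
    [Algebra F S'] [IsScalarTower S F S'] [IsLocalization.AtPrime S' Q] :
    Module.Flat R S ↔ Module.Flat R' S' := by
  have hRE : Module.Flat R E := Algebra.Smooth.flat R E
  have hSF : Module.Flat S F := Algebra.Smooth.flat S F
  have hER' : Module.Flat E R' := IsLocalization.flat R' P.primeCompl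
  have hFS' : Module.Flat F S' := IsLocalization.flat S' Q.primeCompl
  have hRR' : Module.Flat R R' := Module.Flat.trans R E R'
  have hSS' : Module.Flat S S' := Module.Flat.trans S F S'
  constructor
  · intro h
    have hRS' : Module.Flat R S' := Module.Flat.trans R S S'
    let _ : Algebra E S' := ((algebraMap R' S').comp (algebraMap E R')).toAlgebra
    have : IsScalarTower E R' S' := IsScalarTower.of_algebraMap_eq fun _ => rfl
    have : IsScalarTower R E S' := IsScalarTower.of_algebraMap_eq fun x => by
      rw [IsScalarTower.algebraMap_apply R R' S', IsScalarTower.algebraMap_apply R E R']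
      rfl
    have hES' : Module.Flat E S' := flat_of_unramified R E S'
    exact (Module.flat_iff_of_isLocalization R' P.primeCompl S').mpr hES'
  · intro h
    have hRS' : Module.Flat R S' := Module.Flat.trans R R' S'
    have : Module.FaithfullyFlat S S' := Module.FaithfullyFlat.of_flat_of_isLocalHom
    exact Groth.Agent.S1163.flat_of_flat_of_faithfullyFlat R S S' S'

end Groth.Agent.S1164
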