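import Groth.Statements.S1736
import Groth.Agent.Lib.LocCohCdGen
import Groth.Agent.Lib.LocCohIndepBase
import Mathlib.Tactic

set_option autoImplicit false
universe u
open LocCoh

namespace Groth.Agent.S1736

section Helpers

open Groth.Agent.Lib.LocCohConcrete Groth.Agent.Lib.LocCohLES Groth.Agent.Lib.LocCohH0
open Groth.Agent.Lib.LocCohTorsion Groth.Agent.Lib.LocCohVanishing
open Groth.Agent.Lib.H29TorsionInj

section sym

variable {R : Type u} [CommRing R] [IsNoetherianRing R] (I₁ I₂ T : Ideal R)
  (hΓ : ∀ (X : Type u) [AddCommGroup X] [Module R X], LocCoh.IsPowerTorsion T X →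
    ∀ x : X, x ∈ DRing.torsionSub I₁ X ↔ x ∈ DRing.torsionSub I₂ X)

include hΓ in
omit [IsNoetherianRing R] in
theorem step_zero (N : Type u) [AddCommGroup N] [Module R N]
    (hN : LocCoh.IsPowerTorsion T N) (h : Subsingleton (LocCoh.H I₁ 0 N)) :
    Subsingleton (LocCoh.H I₂ 0 N) := by
  refine subsingleton_of_forall_eq 0 fun y => ?_
  apply toGamma_injective I₂ N
  rw [map_zero]
  have hmem : ((toGamma I₂ N y : DRing.torsionSub I₂ N) : N) ∈ DRing.torsionSub I₁ N :=
    (hΓ N hN _).2 (toGamma I₂ N y).2
  obtain ⟨w, hw⟩ := toGamma_surjective I₁ N ⟨_, hmem⟩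
  apply Subtype.ext
  have h1 : ((toGamma I₁ N w : DRing.torsionSub I₁ N) : N) = (toGamma I₂ N y : N) := by rw [hw]
  rw [← h1, Subsingleton.elim w 0, map_zero]
  rfl

include hΓ in
theorem step_one (N : Type u) [AddCommGroup N] [Module R N]
    (hN : LocCoh.IsPowerTorsion T N) (h : Subsingleton (LocCoh.H I₁ 1 N)) :
    Subsingleton (LocCoh.H I₂ 1 N) := by
  obtain ⟨E, _, _, f, hf, hE, hEt⟩ := exists_torsion_injective_embedding T N hN
  let g := (LinearMap.range f).mkQ
  have hg : Function.Surjective g := Submodule.mkQ_surjective _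
  have hfg : Function.Exact f g := LinearMap.exact_map_mkQ_range f
  have hCt : LocCoh.IsPowerTorsion T (E ⧸ LinearMap.range f) :=
    isPowerTorsion_of_surjective _ g hg hEt
  have hE1 : Subsingleton (LocCoh.H I₂ 1 E) := subsingleton_H_of_injective _ E hE 1 one_pos
  refine subsingleton_of_forall_eq 0 fun y => ?_
  obtain ⟨z, rfl⟩ := (exact₁ I₂ f g hf hfg hg 0 y).1 (Subsingleton.elim _ _)
  have hc : ((toGamma I₂ _ z : DRing.torsionSub _ _) : E ⧸ LinearMap.range f) ∈
      DRing.torsionSub I₁ (E ⧸ LinearMap.range f) :=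
    (hΓ _ hCt _).2 (toGamma I₂ _ z).2
  obtain ⟨w', hw'⟩ := toGamma_surjective I₁ (E ⧸ LinearMap.range f) ⟨_, hc⟩
  obtain ⟨v', hv'⟩ := (exact₃ I₁ f g hf hfg hg 0 w').1 (Subsingleton.elim _ _)
  have he : ((toGamma I₁ E v' : DRing.torsionSub I₁ E) : E) ∈ DRing.torsionSub I₂ E :=
    (hΓ _ hEt _).1 (toGamma I₁ E v').2
  obtain ⟨v, hv⟩ := toGamma_surjective I₂ E ⟨_, he⟩
  have key : Hmap I₂ g 0 v = z := by
    apply toGamma_injective I₂ (E ⧸ LinearMap.range f)
    apply Subtype.ext
    rw [toGamma_Hmap, hv]
    have h1 := toGamma_Hmap I₁ g v'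
    rw [hv', hw'] at h1
    exact h1.symm
  rw [← key]
  exact (exact₃ I₂ f g hf hfg hg 0 _).2 ⟨v, rfl⟩

include hΓ in
theorem step_pos : ∀ (i : ℕ), 1 ≤ i → ∀ (N : Type u) [AddCommGroup N] [Module R N],
    LocCoh.IsPowerTorsion T N → Subsingleton (LocCoh.H I₁ i N) →
    Subsingleton (LocCoh.H I₂ i N) := by
  intro i hi
  induction i, hi using Nat.le_induction with
  | base => exact fun N _ _ hN h => step_one I₁ I₂ T hΓ N hN h
  | succ i hi ih =>
    intro N _ _ hN h
    obtain ⟨E, _, _, f, hf, hE, hEt⟩ := exists_torsion_injective_embedding T N hN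
    let g := (LinearMap.range f).mkQ
    have hg : Function.Surjective g := Submodule.mkQ_surjective _
    have hfg : Function.Exact f g := LinearMap.exact_map_mkQ_range f
    have hCt : LocCoh.IsPowerTorsion T (E ⧸ LinearMap.range f) :=
      isPowerTorsion_of_surjective _ g hg hEt
    have hE1 : Subsingleton (LocCoh.H I₁ i E) :=
      subsingleton_H_of_injective _ E hE i (lt_of_lt_of_le one_pos hi)
    have hE2 : Subsingleton (LocCoh.H I₁ (i + 1) E) :=
      subsingleton_H_of_injective _ E hE (i + 1) (Nat.succ_pos i)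
    have hb := Hδ_bijective_of_subsingleton_middle I₁ f g hf hfg hg i
    have hC' : Subsingleton (LocCoh.H I₁ i (E ⧸ LinearMap.range f)) := hb.injective.subsingleton
    have hC : Subsingleton (LocCoh.H I₂ i (E ⧸ LinearMap.range f)) := ih _ hCt hC'
    have hE3 : Subsingleton (LocCoh.H I₂ (i + 1) E) :=
      subsingleton_H_of_injective _ E hE (i + 1) (Nat.succ_pos i)
    refine subsingleton_of_forall_eq 0 fun y => ?_
    obtain ⟨z, rfl⟩ := (exact₁ I₂ f g hf hfg hg i y).1 (Subsingleton.elim _ _)
    rw [Subsingleton.elim z 0, map_zero]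

include hΓ in
theorem step (i : ℕ) (N : Type u) [AddCommGroup N] [Module R N]
    (hN : LocCoh.IsPowerTorsion T N) (h : Subsingleton (LocCoh.H I₁ i N)) :
    Subsingleton (LocCoh.H I₂ i N) := by
  rcases Nat.eq_zero_or_pos i with rfl | hi
  · exact step_zero I₁ I₂ T hΓ N hN h
  · exact step_pos I₁ I₂ T hΓ i hi N hN h

end sym

section dim

variable {A : Type u} [CommRing A]

/-- inverting an element of the Jacobson radical drops the dimension. -/
theorem ringKrullDim_away_lt (d : ℕ) (hd : ringKrullDim A = d) (f : A)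
    (hf : f ∈ (⊥ : Ideal A).jacobson) : ringKrullDim (Localization.Away f) < (d : WithBot ℕ∞) := by
  unfold ringKrullDim
  rw [Order.krullDim_lt_coe_iff]
  intro l
  have hsm : StrictMono (PrimeSpectrum.comap (algebraMap A (Localization.Away f))) := by
    intro p q hpq
    refine lt_of_le_of_ne ?_ ?_
    · exact fun x hx => hpq.le hx
    · intro h
      exact hpq.ne (PrimeSpectrum.localization_comap_injective (Localization.Away f)
        (Submonoid.powers f) h)
  let l' : LTSeries (PrimeSpectrum A) := l.map _ hsm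
  have hlast : f ∉ (RelSeries.last l').asIdeal := by
    intro hmem
    have h1 : RelSeries.last l' =
        PrimeSpectrum.comap (algebraMap A (Localization.Away f)) (RelSeries.last l) :=
      LTSeries.last_map l _ hsm
    rw [h1] at hmem
    have h2 : algebraMap A (Localization.Away f) f ∈ (RelSeries.last l).asIdeal := hmem
    have hu : IsUnit (algebraMap A (Localization.Away f) f) :=
      IsLocalization.map_units (Localization.Away f) (⟨f, Submonoid.mem_powers f⟩ : Submonoid.powers f)
    exact (RelSeries.last l).isPrime.ne_top (Ideal.eq_top_of_isUnit_mem _ h2 hu)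
  obtain ⟨m, hm, hle⟩ := Ideal.exists_le_maximal (RelSeries.last l').asIdeal
    (RelSeries.last l').isPrime.ne_top
  have hfm : f ∈ m := by
    rw [Ideal.jacobson, Ideal.mem_sInf] at hf
    exact hf ⟨bot_le, hm⟩
  let mp : PrimeSpectrum A := ⟨m, hm.isPrime⟩
  have hlt : RelSeries.last l' < mp := by
    refine lt_of_le_of_ne hle ?_
    intro h
    apply hlast
    rw [h]
    exact hfm
  let l'' : LTSeries (PrimeSpectrum A) := l'.snoc mp hlt
  have hlen : ((l''.length : ℕ) : WithBot ℕ∞) ≤ Order.krullDim (PrimeSpectrum A) :=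
    Order.LTSeries.length_le_krullDim l''
  have h3 : l''.length = l.length + 1 := by simp [l'', l']
  have h4 : Order.krullDim (PrimeSpectrum A) = (d : WithBot ℕ∞) := hd
  rw [h4, h3] at hlen
  have h5 : l.length + 1 ≤ d := by exact_mod_cast hlen
  omega

end dim

section single

variable {A : Type u} [CommRing A] [IsNoetherianRing A]

theorem single_step (d : ℕ) (hd : ringKrullDim A = d) (J : Ideal A) (f : A)
    (hf : f ∈ (⊥ : Ideal A).jacobson)
    (h : ∀ (M : Type u) [AddCommGroup M] [Module A M] (i : ℕ), d ≤ i →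
      Subsingleton (LocCoh.H (J ⊔ Ideal.span {f}) i M))
    (M : Type u) [AddCommGroup M] [Module A M] (i : ℕ) (hi : d ≤ i) :
    Subsingleton (LocCoh.H J i M) := by
  have hΓ : ∀ (X : Type u) [AddCommGroup X] [Module A X],
      LocCoh.IsPowerTorsion (Ideal.span {f}) X →
      ∀ x : X, x ∈ DRing.torsionSub (J ⊔ Ideal.span {f}) X ↔ x ∈ DRing.torsionSub J X :=
    fun X _ _ hX x => Groth.Agent.Lib.LocCohCdGen.mem_torsionSub_sup_iff J f hX x
  have htors : ∀ (j : ℕ), d ≤ j → ∀ (N : Type u) [AddCommGroup N] [Module A N],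
      LocCoh.IsPowerTorsion (Ideal.span {f}) N → Subsingleton (LocCoh.H J j N) :=
    fun j hj N _ _ hN => step _ _ _ hΓ j N hN (h N j hj)
  let S := Submonoid.powers f
  let lam : M →ₗ[A] LocalizedModule S M := LocalizedModule.mkLinearMap S M
  have hL : ∀ j, d ≤ j → Subsingleton (LocCoh.H J j (LocalizedModule S M)) := by
    intro j hj
    obtain ⟨φ, -⟩ := Groth.Agent.Lib.LocCohIndepBase.indep_base (R' := Localization.Away f) J j
      (LocalizedModule S M)
    have : Subsingleton (LocCoh.H (J.map (algebraMap A (Localization.Away f))) j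
        (LocalizedModule S M)) := by
      apply subsingleton_H_of_supportDim_lt
      refine lt_of_le_of_lt (Module.supportDim_le_ringKrullDim (Localization.Away f) _) ?_
      refine lt_of_lt_of_le (ringKrullDim_away_lt d hd f hf) ?_
      exact_mod_cast hj
    exact φ.symm.injective.subsingleton
  have hK : LocCoh.IsPowerTorsion (Ideal.span {f}) (LinearMap.ker lam) := by
    rintro ⟨x, hx⟩
    obtain ⟨c, ⟨n, rfl⟩, hc⟩ := LocalizedModule.mem_ker_mkLinearMap_iff.1 hx
    refine ⟨n, fun a ha => ?_⟩
    obtain ⟨r, rfl⟩ := Groth.Agent.Lib.LocCohCdGen.exists_eq_mul_pow f ha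
    apply Subtype.ext
    change (r * f ^ n) • x = 0
    rw [mul_smul, hc, smul_zero]
  have hC : LocCoh.IsPowerTorsion (Ideal.span {f}) (LocalizedModule S M ⧸ LinearMap.range lam) := by
    intro q
    obtain ⟨y, rfl⟩ := Submodule.Quotient.mk_surjective _ q
    induction y using LocalizedModule.induction_on with
    | h m s =>
      obtain ⟨s, n, rfl⟩ := s
      refine ⟨n, fun a ha => ?_⟩
      obtain ⟨r, rfl⟩ := Groth.Agent.Lib.LocCohCdGen.exists_eq_mul_pow f ha
      rw [← Submodule.Quotient.mk_smul, Submodule.Quotient.mk_eq_zero]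
      refine ⟨r • m, ?_⟩
      change LocalizedModule.mk (r • m) 1 = _
      rw [mul_smul, LocalizedModule.smul'_mk, LocalizedModule.smul'_mk]
      have h1 : f ^ n • m = (⟨f ^ n, n, rfl⟩ : S) • m := rfl
      rw [h1, smul_comm r, LocalizedModule.mk_cancel]
  rcases Nat.lt_or_ge d i with hlt | hge
  · apply subsingleton_H_of_supportDim_lt J M i
    refine lt_of_le_of_lt (Module.supportDim_le_ringKrullDim A M) ?_
    rw [hd]
    exact_mod_cast hlt
  obtain rfl : i = d := le_antisymm hge hi
  let ι := (LinearMap.range lam).subtype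
  let π := (LinearMap.range lam).mkQ
  have hιπ : Function.Exact ι π := LinearMap.exact_subtype_mkQ _
  have hι : Function.Injective ι := Submodule.injective_subtype _
  have hπ : Function.Surjective π := Submodule.mkQ_surjective _
  have hu := IsLocalizedModule.map_units (LocalizedModule.mkLinearMap S M)
    (⟨f, Submonoid.mem_powers f⟩ : S)
  have hbij : Function.Bijective (fun m : LocalizedModule S M => f • m) :=
    (Module.End.isUnit_iff _).1 hu
  have hfJ : f ∈ J ⊔ Ideal.span {f} :=
    Ideal.mem_sup_right (Ideal.subset_span (Set.mem_singleton f))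
  have hinj : Function.Injective (Hmap J ι i) := by
    rcases Nat.eq_zero_or_pos i with rfl | hpos
    · exact Hmap_zero_injective J ι hι
    · obtain ⟨k, rfl⟩ := Nat.exists_eq_succ_of_ne_zero hpos.ne'
      have hCk' : Subsingleton (LocCoh.H (J ⊔ Ideal.span {f}) k
          (LocalizedModule S M ⧸ LinearMap.range lam)) := by
        have h1 : Subsingleton (LocCoh.H (J ⊔ Ideal.span {f}) k (LocalizedModule S M)) :=
          Groth.Agent.Lib.LocCohCdGen.subsingleton_H_of_smul_bijective _ f hfJ _ hbij k
        have h2 : Subsingleton (LocCoh.H (J ⊔ Ideal.span {f}) (k + 1) (LinearMap.range lam)) :=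
          h _ (k + 1) le_rfl
        refine subsingleton_of_forall_eq 0 fun y => ?_
        obtain ⟨z, rfl⟩ := (exact₃ (J ⊔ Ideal.span {f}) ι π hι hιπ hπ k y).1
          (Subsingleton.elim _ _)
        rw [Subsingleton.elim z 0, map_zero]
      have hCk : Subsingleton (LocCoh.H J k (LocalizedModule S M ⧸ LinearMap.range lam)) :=
        step _ _ _ hΓ k _ hC hCk'
      exact Hmap_injective_of_subsingleton_right J ι π hι hιπ hπ k
  have hR : Subsingleton (LocCoh.H J i (LinearMap.range lam)) := by
    have := hL i le_rfl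
    exact hinj.subsingleton
  have hKi : Subsingleton (LocCoh.H J i (LinearMap.ker lam)) := htors i le_rfl _ hK
  refine subsingleton_of_forall_eq 0 fun y => ?_
  have h0 : Hmap J lam.rangeRestrict i y = 0 := Subsingleton.elim _ _
  obtain ⟨z, rfl⟩ := (exact₂ J (LinearMap.ker lam).subtype lam.rangeRestrict
    (by
      rw [LinearMap.exact_iff, Submodule.range_subtype]
      ext x
      simp only [LinearMap.mem_ker]
      constructor
      · intro hx
        have := congrArg Subtype.val hx
        exact this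
      · intro hx
        exact Subtype.ext hx)
    (Submodule.injective_subtype _) lam.surjective_rangeRestrict i y).1 h0
  rw [Subsingleton.elim z 0, map_zero]

end single

end Helpers

/-- Let A be a Noetherian ring of finite dimension d and I ⊆ I' ideals with I' contained in the Jacobson
radical of A. If cd(A, I') < d, i.e. H^i_{I'}(M) = 0 for all A-modules M and all i ≥ d, then also
cd(A, I) < d: H^i_I(M) = 0 for all A-modules M and all i ≥ d. -/
theorem result (A : Type u) [CommRing A] [IsNoetherianRing A] (d : ℕ) (hd : ringKrullDim A = d) (I I' : Ideal A) (hII' : I ≤ I') (hJ : I' ≤ (⊥ : Ideal A).jacobson) (h : ∀ (M : Type u) [AddCommGroup M] [Module A M] (i : ℕ), d ≤ i → Subsingleton (LocCoh.H I' i M)) (M : Type u) [AddCommGroup M] [Module A M] (i : ℕ) (hi : d ≤ i) : Subsingleton (LocCoh.H I i M) := by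
  have key : ∀ (s : Finset A), (∀ x ∈ s, x ∈ (⊥ : Ideal A).jacobson) → ∀ J : Ideal A,
      (∀ (M : Type u) [AddCommGroup M] [Module A M] (i : ℕ), d ≤ i →
        Subsingleton (LocCoh.H (J ⊔ Ideal.span (s : Set A)) i M)) →
      (∀ (M : Type u) [AddCommGroup M] [Module A M] (i : ℕ), d ≤ i →
        Subsingleton (LocCoh.H J i M)) := by
    classical
    intro s
    induction s using Finset.induction_on with
    | empty =>
      intro _ J hJ'
      have h0 : J ⊔ Ideal.span ((∅ : Finset A) : Set A) = J := by simp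
      rw [h0] at hJ'
      exact hJ'
    | insert a s ha ih =>
      intro hs J hJ'
      have h1 : J ⊔ Ideal.span ((insert a s : Finset A) : Set A) =
          (J ⊔ Ideal.span {a}) ⊔ Ideal.span (s : Set A) := by
        rw [Finset.coe_insert, Ideal.span_insert, sup_assoc]
      rw [h1] at hJ'
      have h2 := ih (fun x hx => hs x (Finset.mem_insert_of_mem hx)) (J ⊔ Ideal.span {a}) hJ'
      exact single_step d hd J a (hs a (Finset.mem_insert_self a s)) h2
  obtain ⟨s, hs⟩ := (IsNoetherian.noetherian I' : I'.FG)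
  have hI' : I ⊔ Ideal.span (s : Set A) = I' := by
    change I ⊔ Submodule.span A (s : Set A) = I'
    rw [hs]
    exact sup_eq_right.2 hII'
  refine key s (fun x hx => hJ ?_) I ?_ M i hi
  · rw [← hs]
    exact Submodule.subset_span hx
  · rw [hI']
    exact h


end Groth.Agent.S1736
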