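import Groth.Statements.S17763
import Groth.Agent.S0333
import Groth.Agent.S1736
import Groth.Agent.Lib.EquidimCat33

set_option autoImplicit false
universe u
open LocCoh

namespace Groth.Agent.S17763

open IsLocalRing Groth.Agent.Lib

/-- in a Noetherian local ring, an ideal with `dim R/I > 0` lies in a prime `p` with `dim R/p = 1`. -/
theorem exists_prime_dim_one (R : Type u) [CommRing R] [IsNoetherianRing R] [IsLocalRing R]
    (I : Ideal R) (hI : 0 < ringKrullDim (R ⧸ I)) :
    ∃ p : Ideal R, p.IsPrime ∧ I ≤ p ∧ ringKrullDim (R ⧸ p) = 1 := by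
  rw [ringKrullDim_quotient, Order.krullDim_pos_iff] at hI
  obtain ⟨x, y, hxy⟩ := hI
  have hx : x.1.asIdeal ≠ maximalIdeal R := by
    intro h
    have h1 : y.1.asIdeal ≤ maximalIdeal R := le_maximalIdeal y.1.2.ne_top
    have h2 : x.1 < y.1 := hxy
    have h3 : x.1.asIdeal < y.1.asIdeal := h2
    rw [h] at h3
    exact absurd h1 (not_le_of_gt h3)
  let S : Set (Ideal R) := {q | q.IsPrime ∧ I ≤ q ∧ q ≠ maximalIdeal R}
  have hS : S.Nonempty := ⟨x.1.asIdeal, x.1.2, (PrimeSpectrum.mem_zeroLocus _ _).1 x.2, hx⟩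
  obtain ⟨p, ⟨hpp, hIp, hpm⟩, hmax⟩ :=
    (set_has_maximal_iff_noetherian (R := R) (M := R)).2 inferInstance S hS
  refine ⟨p, hpp, hIp, ?_⟩
  let P : PrimeSpectrum R := ⟨p, hpp⟩
  rw [show p = P.asIdeal from rfl, ← EquidimCat33.coheight_eq]
  have hlt : P < closedPoint R :=
    lt_of_le_of_ne (le_maximalIdeal hpp.ne_top) (fun h => hpm (congrArg PrimeSpectrum.asIdeal h))
  have h1 : Order.coheight P ≤ 1 := by
    have : Order.coheight P ≤ ((1 : ℕ) : ℕ∞) := by
      rw [Order.coheight_le_coe_iff]
      intro b hb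
      have hbm : b.asIdeal = maximalIdeal R := by
        by_contra hne
        exact hmax b.asIdeal ⟨b.2, hIp.trans hb.le, hne⟩ hb
      have hbmax : IsMax b := by
        intro c hbc
        have h1 : c.asIdeal ≤ maximalIdeal R := le_maximalIdeal c.2.ne_top
        have h2 : c.asIdeal ≤ b.asIdeal := hbm ▸ h1
        exact h2
      rw [Order.coheight_eq_zero.2 hbmax]
      exact zero_lt_one
    simpa using this
  have h2 : 1 ≤ Order.coheight P := by
    have := Order.coheight_add_one_le hlt
    exact le_trans (by simp) this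
  rw [le_antisymm h1 h2]
  rfl


/-- Let R be a Noetherian local ring of Krull dimension d. Then the following are equivalent: (1)
H^d_I(R) = 0 for every ideal I of R such that R ⧸ I has positive dimension; (2) H^d_p(R) = 0 for
every prime ideal p of R such that R ⧸ p has dimension one. -/
theorem result (R : Type u) [CommRing R] [IsNoetherianRing R] [IsLocalRing R] (d : ℕ) (hd : ringKrullDim R = d) : (∀ I : Ideal R, 0 < ringKrullDim (R ⧸ I) → Subsingleton (LocCoh.H I d R)) ↔ (∀ (p : Ideal R) [p.IsPrime], ringKrullDim (R ⧸ p) = 1 → Subsingleton (LocCoh.H p d R)) := by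
  constructor
  · intro h p _ hp
    exact h p (by rw [hp]; exact zero_lt_one)
  · intro h I hI
    obtain ⟨p, hpp, hIp, hp1⟩ := exists_prime_dim_one R I hI
    have hvan := h p hp1
    have hall : ∀ (M : Type u) [AddCommGroup M] [Module R M] (i : ℕ), d ≤ i →
        Subsingleton (LocCoh.H p i M) := by
      intro M _ _ i hi
      refine Groth.Agent.S0333.result R p d hd R (fun q _ _ hq => ?_) hvan M i hi
      rw [Module.mem_support_iff]
      exact (IsLocalizedModule.iso q.primeCompl
        (Algebra.linearMap R (Localization.AtPrime q))).symm.toEquiv.nontrivial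
    have hJ : p ≤ (⊥ : Ideal R).jacobson := by
      rw [IsLocalRing.jacobson_eq_maximalIdeal ⊥ bot_ne_top]
      exact le_maximalIdeal hpp.ne_top
    exact Groth.Agent.S1736.result R d hd I p hIp hJ hall R d le_rfl

end Groth.Agent.S17763
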