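import Mathlib
import Groth.Agent.Lib.HilbD27b
import Groth.Statements.S1168

set_option autoImplicit false
open CategoryTheory CategoryTheory.Limits AlgebraicGeometry
universe u
open HilbD

namespace Groth.Agent.S1168

/-- Let i : X ⟶ Y be a closed immersion of schemes over S (structure morphisms i ≫ g and g) and suppose
(H, Z) represents the degree-d Hilbert functor of points of Y over S. Then the degree-d Hilbert
functor of points of X over S is representable, and for any representing pair (H', Z') the unique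
S-morphism H' ⟶ H classifying the image of Z' in Y ×_S H' is a closed immersion. -/
theorem result {X Y S : Scheme.{u}} (i : X ⟶ Y) [IsClosedImmersion i] (g : Y ⟶ S)
    (d : ℕ) (H : Over S) (Z : HilbD.Obj g d H) (hZ : HilbD.IsUniversal g d H Z) :
    HilbD.Representable (i ≫ g) d ∧
    ∀ (H' : Over S) (Z' : HilbD.Obj (i ≫ g) d H') (_ : HilbD.IsUniversal (i ≫ g) d H' Z') (m : H' ⟶ H),
      HilbD.pull g m Z.1 = HilbD.push i g H' Z'.1 → IsClosedImmersion m.left := by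
  open Groth.Agent.Lib.HilbD27 in
  obtain ⟨H₀, ι₀, Z₀, hcl, huniv, hpush⟩ := exists_universal_sub i g d H Z hZ
  refine ⟨⟨H₀, Z₀, huniv⟩, ?_⟩
  intro H' Z' hZ' m hm
  -- the comparison maps
  obtain ⟨φ, hφ, -⟩ := huniv H' Z'
  obtain ⟨ψ, hψ, -⟩ := hZ' H₀ Z₀
  have hφ' : HilbD.pull (i ≫ g) φ Z₀.1 = Z'.1 := hφ
  have hψ' : HilbD.pull (i ≫ g) ψ Z'.1 = Z₀.1 := hψ
  have h1 : φ ≫ ψ = 𝟙 H' := by
    obtain ⟨k, -, hk⟩ := hZ' H' Z'
    rw [hk (φ ≫ ψ) (by change HilbD.pull (i ≫ g) (φ ≫ ψ) Z'.1 = Z'.1; rw [pull_comp, hψ', hφ']),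
      hk (𝟙 H') (by change HilbD.pull (i ≫ g) (𝟙 H') Z'.1 = Z'.1; rw [pull_id])]
  have h2 : ψ ≫ φ = 𝟙 H₀ := by
    obtain ⟨k, -, hk⟩ := huniv H₀ Z₀
    rw [hk (ψ ≫ φ) (by change HilbD.pull (i ≫ g) (ψ ≫ φ) Z₀.1 = Z₀.1; rw [pull_comp, hφ', hψ']),
      hk (𝟙 H₀) (by change HilbD.pull (i ≫ g) (𝟙 H₀) Z₀.1 = Z₀.1; rw [pull_id])]
  have hiso : IsIso φ.left := by
    refine ⟨ψ.left, ?_, ?_⟩
    · rw [← Over.comp_left, h1, Over.id_left]
    · rw [← Over.comp_left, h2, Over.id_left]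
  have hm' : m = φ ≫ ι₀ := by
    obtain ⟨k, -, hk⟩ := hZ H' ⟨HilbD.push i g H' Z'.1, isFinLocFreeOfDeg_push i g H' Z'.1 Z'.2⟩
    rw [hk m hm, hk (φ ≫ ι₀) (by
      change HilbD.pull g (φ ≫ ι₀) Z.1 = HilbD.push i g H' Z'.1
      rw [pull_comp, hpush, pull_push, hφ'])]
  rw [hm', Over.comp_left]
  infer_instance

end Groth.Agent.S1168
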