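import Groth.Statements.S6414
-- import your own Groth.Agent.* helpers here

set_option autoImplicit false
open CategoryTheory
universe v₁ u₁ v₂ u₂ v₃ u₃
open FibCat

namespace Groth.Agent.S6414

/-- A morphism that is strongly cartesian with respect to `F : 𝒜 ⥤ ℬ` and whose image is strongly
cartesian with respect to `G : ℬ ⥤ 𝒞` is strongly cartesian with respect to `F ⋙ G`. -/
theorem result {𝒜 : Type u₁} [Category.{v₁} 𝒜] {ℬ : Type u₂} [Category.{v₂} ℬ] {𝒞 : Type u₃} [Category.{v₃} 𝒞] (F : 𝒜 ⥤ ℬ) (G : ℬ ⥤ 𝒞) {x y : 𝒜} (φ : x ⟶ y)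
    [F.IsStronglyCartesian (F.map φ) φ] [G.IsStronglyCartesian (G.map (F.map φ)) (F.map φ)] :
    (F ⋙ G).IsStronglyCartesian ((F ⋙ G).map φ) φ := by
  refine { toIsHomLift := inferInstance, universal_property' := ?_ }
  intro a' g φ' hφ'
  have h1 : G.IsHomLift (g ≫ G.map (F.map φ)) (F.map φ') := by
    have := IsHomLift.eq_of_isHomLift (F ⋙ G) (g ≫ (F ⋙ G).map φ) φ'
    simp only [Functor.comp_map] at this
    rw [this]
    infer_instance
  obtain ⟨h, ⟨hh1, hh2⟩, hh3⟩ := Functor.IsStronglyCartesian.universal_property' (p := G)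
    (f := G.map (F.map φ)) (φ := F.map φ) g (F.map φ')
  have h2 : F.IsHomLift (h ≫ F.map φ) φ' := by rw [hh2]; infer_instance
  obtain ⟨χ, ⟨hχ1, hχ2⟩, hχ3⟩ := Functor.IsStronglyCartesian.universal_property' (p := F)
    (f := F.map φ) (φ := φ) h φ'
  refine ⟨χ, ⟨?_, hχ2⟩, ?_⟩
  · have e1 : h = F.map χ := IsHomLift.eq_of_isHomLift F h χ
    have e2 : g = G.map h := IsHomLift.eq_of_isHomLift G g h
    rw [e2, e1]
    exact IsHomLift.map (F ⋙ G) χ
  · rintro χ' ⟨hχ'1, hχ'2⟩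
    have e : g = (F ⋙ G).map χ' := IsHomLift.eq_of_isHomLift (F ⋙ G) g χ'
    have : F.map χ' = h := hh3 (F.map χ')
      ⟨by rw [e]; exact IsHomLift.map G (F.map χ'), by rw [← F.map_comp, hχ'2]⟩
    exact hχ3 χ' ⟨by rw [← this]; infer_instance, hχ'2⟩

end Groth.Agent.S6414
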