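import Groth.Statements.S5139
-- import your own Groth.Agent.* helpers here

set_option autoImplicit false
open CategoryTheory
universe u v u₂ v₂
open FibCat

namespace Groth.Agent.S5139

section

variable {C : Type u} [Category.{v} C] {𝒳 𝒴 : BasedCategory.{v₂, u₂} C} (F : 𝒳 ⥤ᵇ 𝒴)

/-- The quasi-inverse over `C` built from chosen preimages. -/
noncomputable def invFunctor [F.toFunctor.Full] [F.toFunctor.Faithful]
    (ξ : 𝒴.obj → 𝒳.obj) (e : ∀ η, F.toFunctor.obj (ξ η) ≅ η)
    (he : ∀ η, 𝒴.p.IsHomLift (𝟙 (𝒴.p.obj η)) (e η).hom) : 𝒴 ⥤ᵇ 𝒳 where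
  toFunctor :=
    { obj := ξ
      map := fun {η η'} f => F.toFunctor.preimage ((e η).hom ≫ f ≫ (e η').inv)
      map_id := fun η => by
        apply F.toFunctor.map_injective
        simp
      map_comp := fun f g => by
        apply F.toFunctor.map_injective
        simp }
  w := by
    have hobj : ∀ η, 𝒳.p.obj (ξ η) = 𝒴.p.obj η := fun η => by
      have := he η
      rw [← F.w_obj]
      exact IsHomLift.domain_eq 𝒴.p (𝟙 (𝒴.p.obj η)) (e η).hom
    refine Functor.ext hobj ?_
    intro η η' f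
    have h1 := he η
    have h2 : 𝒴.p.IsHomLift (𝟙 (𝒴.p.obj η')) (e η').inv := by
      have := he η'
      exact IsHomLift.lift_id_inv 𝒴.p _ (e η')
    have h3 : 𝒴.p.IsHomLift (𝒴.p.map f) f := inferInstance
    have h4 : 𝒴.p.IsHomLift (𝟙 (𝒴.p.obj η) ≫ 𝒴.p.map f ≫ 𝟙 (𝒴.p.obj η'))
        ((e η).hom ≫ f ≫ (e η').inv) := inferInstance
    have h5 : 𝒴.p.IsHomLift (𝒴.p.map f) ((e η).hom ≫ f ≫ (e η').inv) := by
      simpa using h4
    have h6 : 𝒴.p.IsHomLift (𝒴.p.map f)
        (F.toFunctor.map (F.toFunctor.preimage ((e η).hom ≫ f ≫ (e η').inv))) := by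
      rw [Functor.map_preimage]; exact h5
    have h7 : 𝒳.p.IsHomLift (𝒴.p.map f)
        (F.toFunctor.preimage ((e η).hom ≫ f ≫ (e η').inv)) :=
      BasedFunctor.isHomLift_map F _ _
    exact IsHomLift.fac' 𝒳.p (𝒴.p.map f) _

end

/-- A functor F : 𝒳 ⟶ 𝒴 over C is an equivalence over C exactly when its underlying functor is fully
faithful and every object η of 𝒴 admits an object ξ of 𝒳 and an isomorphism F ξ ≅ η lying over the
identity of the object of C under η. -/
theorem result {C : Type u} [Category.{v} C]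
    {𝒳 𝒴 : BasedCategory.{v₂, u₂} C} (F : 𝒳 ⥤ᵇ 𝒴) :
    FibCat.IsEquivOver F ↔
      (F.toFunctor.Full ∧ F.toFunctor.Faithful) ∧
        ∀ η : 𝒴.obj, ∃ (ξ : 𝒳.obj) (e : F.toFunctor.obj ξ ≅ η), 𝒴.p.IsHomLift (𝟙 (𝒴.p.obj η)) e.hom := by
  constructor
  · rintro ⟨G, ⟨α⟩, ⟨β⟩⟩
    have α' : F.toFunctor ⋙ G.toFunctor ≅ 𝟭 𝒳.obj := (BasedNatTrans.forgetful _ _).mapIso α
    have β' : G.toFunctor ⋙ F.toFunctor ≅ 𝟭 𝒴.obj := (BasedNatTrans.forgetful _ _).mapIso β
    let E : 𝒳.obj ≌ 𝒴.obj := CategoryTheory.Equivalence.mk F.toFunctor G.toFunctor α'.symm β'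
    have hE : F.toFunctor.IsEquivalence := E.isEquivalence_functor
    refine ⟨⟨inferInstance, inferInstance⟩, fun η => ?_⟩
    refine ⟨G.toFunctor.obj η, ((BasedNatTrans.forgetful _ _).mapIso β).app η, ?_⟩
    exact β.hom.isHomLift' η
  · rintro ⟨⟨hfull, hfaith⟩, h⟩
    choose ξ e he using h
    refine ⟨invFunctor F ξ e he, ⟨?_⟩, ⟨?_⟩⟩
    · refine BasedNatIso.mkNatIso
        (NatIso.ofComponents (fun x => F.toFunctor.preimageIso (e (F.toFunctor.obj x))) ?_) ?_
      · intro x y f
        apply F.toFunctor.map_injective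
        have key : F.toFunctor.map
            (F.toFunctor.preimage ((e (F.toFunctor.obj x)).hom ≫ F.toFunctor.map f ≫
              (e (F.toFunctor.obj y)).inv) ≫ F.toFunctor.preimage (e (F.toFunctor.obj y)).hom) =
            F.toFunctor.map (F.toFunctor.preimage (e (F.toFunctor.obj x)).hom ≫ f) := by
          rw [Functor.map_comp, Functor.map_comp, Functor.map_preimage, Functor.map_preimage,
            Functor.map_preimage, Category.assoc, Category.assoc, Iso.inv_hom_id, Category.comp_id]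
        exact key
      · intro x
        have h1 := he (F.toFunctor.obj x)
        have h2 : 𝒴.p.IsHomLift (𝟙 (𝒳.p.obj x)) (e (F.toFunctor.obj x)).hom := by
          have := F.w_obj x
          rw [← this]; exact h1
        have h3 : 𝒴.p.IsHomLift (𝟙 (𝒳.p.obj x))
            (F.toFunctor.map (F.toFunctor.preimage (e (F.toFunctor.obj x)).hom)) := by
          rw [Functor.map_preimage]; exact h2
        have h4 : 𝒳.p.IsHomLift (𝟙 (𝒳.p.obj x))
            (F.toFunctor.preimage (e (F.toFunctor.obj x)).hom) :=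
          BasedFunctor.isHomLift_map F _ _
        exact h4
    · refine BasedNatIso.mkNatIso (NatIso.ofComponents (fun η => e η) ?_) ?_
      · intro x y f
        have key : F.toFunctor.map (F.toFunctor.preimage ((e x).hom ≫ f ≫ (e y).inv)) ≫ (e y).hom =
            (e x).hom ≫ f := by
          rw [Functor.map_preimage, Category.assoc, Category.assoc, Iso.inv_hom_id, Category.comp_id]
        exact key
      · intro η
        exact he η

end Groth.Agent.S5139
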