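import Groth.Statements.S19381
import Mathlib
import Groth.Agent.Lib.FlatCrit
import Groth.Agent.Lib.FlatInfinitesimal45
import Groth.Agent.S0386

set_option autoImplicit false
universe u
open CategoryTheory CategoryTheory.Limits AlgebraicGeometry
open FlatMor

namespace Groth.Agent.S19381

section helpers
open TensorProduct


variable {A : Type u} [CommRing A] (I : Ideal A)

/-- `Spec Â → Spec A` -/
noncomputable abbrev pHat : Spec (.of (AdicCompletion I A)) ⟶ Spec (.of A) :=
  Spec.map (CommRingCat.ofHom (algebraMap A (AdicCompletion I A)))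

noncomputable abbrev qI : Spec (.of (A ⧸ I)) ⟶ Spec (.of A) :=
  Spec.map (CommRingCat.ofHom (Ideal.Quotient.mk I))

noncomputable abbrev rI : Spec (.of (A ⧸ I)) ⟶ Spec (.of (AdicCompletion I A)) :=
  Spec.map (CommRingCat.ofHom (AdicCompletion.evalOneₐ I).toRingHom)

theorem rI_pHat : rI I ≫ pHat I = qI I := by
  rw [← Spec.map_comp, ← CommRingCat.ofHom_comp, AdicCompletion.evalOneₐ_comp_algebraMap_eq_mk]

/-- A closed subset of `Spec A` missing `V(I)` has empty preimage in `Spec Â`. -/
theorem preimage_eq_empty (hI : I.FG) (T : Set (PrimeSpectrum A)) (hT : IsClosed T)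
    (hTI : ∀ y ∈ T, ¬ I ≤ y.asIdeal) (z : PrimeSpectrum (AdicCompletion I A)) :
    PrimeSpectrum.comap (algebraMap A (AdicCompletion I A)) z ∉ T := by
  intro hz
  obtain ⟨J, rfl⟩ := (PrimeSpectrum.isClosed_iff_zeroLocus_ideal T).mp hT
  obtain ⟨M, hM, hzM⟩ := Ideal.exists_le_maximal z.asIdeal z.2.ne_top
  have hc := AdicCompletion.isAdicComplete_self I hI
  have hjac : I.map (algebraMap A (AdicCompletion I A)) ≤ M :=
    (IsAdicComplete.le_jacobson_bot _).trans (sInf_le ⟨bot_le, hM⟩)
  let y : PrimeSpectrum A := PrimeSpectrum.comap (algebraMap A (AdicCompletion I A)) ⟨M, hM.isPrime⟩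
  have hy : y ∈ PrimeSpectrum.zeroLocus (J : Set A) := by
    rw [PrimeSpectrum.mem_zeroLocus] at hz ⊢
    intro a ha
    have := hz ha
    exact hzM this
  refine hTI y hy ?_
  intro a ha
  exact hjac (Ideal.mem_map_of_mem _ ha)

/-- Points of `V(I)` lift to `Spec Â`. -/
theorem exists_comap_eq (y : PrimeSpectrum A) (hy : I ≤ y.asIdeal) :
    ∃ z : PrimeSpectrum (AdicCompletion I A),
      PrimeSpectrum.comap (algebraMap A (AdicCompletion I A)) z = y := by
  have hy' : y ∈ Set.range (PrimeSpectrum.comap (Ideal.Quotient.mk I)) := by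
    rw [range_comap_of_surjective _ _ Ideal.Quotient.mk_surjective, Ideal.mk_ker]
    exact hy
  obtain ⟨w, rfl⟩ := hy'
  refine ⟨PrimeSpectrum.comap (AdicCompletion.evalOneₐ I).toRingHom w, ?_⟩
  rw [← PrimeSpectrum.comap_comp_apply, AdicCompletion.evalOneₐ_comp_algebraMap_eq_mk]

/-- All points of `X ×_A Â` lie over an open of `X` containing the locus over `V(I)`. -/
theorem fst_mem_of_forall {X : Scheme.{u}} (h : X ⟶ Spec (.of A)) [UniversallyClosed h]
    (hI : I.FG) (U : X.Opens) (hU : ∀ x : X, I ≤ (h x).asIdeal → x ∈ U)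
    (z : ↑(pullback h (pHat I))) : pullback.fst h (pHat I) z ∈ U := by
  by_contra hz
  have hT : IsClosed (h '' ((U : Set X)ᶜ)) := h.isClosedMap _ U.isOpen.isClosed_compl
  refine preimage_eq_empty I hI (h '' ((U : Set X)ᶜ)) hT ?_ (pullback.snd h (pHat I) z) ?_
  · rintro _ ⟨x, hx, rfl⟩ hle
    exact hx (hU x hle)
  · refine ⟨pullback.fst h (pHat I) z, hz, ?_⟩
    rw [← Scheme.Hom.comp_apply, pullback.condition]
    rfl

/-- Transfer of a property from a neighbourhood of the locus over `V(I)` to the base change to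
the completion. -/
theorem pullback_snd_of_open (P : MorphismProperty Scheme.{u}) [IsZariskiLocalAtSource P]
    [P.IsStableUnderBaseChange] {X : Scheme.{u}} (h : X ⟶ Spec (.of A)) [UniversallyClosed h]
    (hI : I.FG) (U : X.Opens) (hU : ∀ x : X, I ≤ (h x).asIdeal → x ∈ U) (hP : P (U.ι ≫ h)) :
    P (pullback.snd h (pHat I)) := by
  have hW : (pullback.fst h (pHat I)) ⁻¹ᵁ U = ⊤ := by
    ext z
    simp only [TopologicalSpace.Opens.coe_top, Set.mem_univ, iff_true]
    exact fst_mem_of_forall I h hI U hU z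
  have hpb := (isPullback_morphismRestrict (pullback.fst h (pHat I)) U).paste_vert
    (IsPullback.of_hasPullback h (pHat I))
  have h1 : P (((pullback.fst h (pHat I)) ⁻¹ᵁ U).ι ≫ pullback.snd h (pHat I)) :=
    P.of_isPullback hpb hP
  refine IsZariskiLocalAtSource.of_iSup_eq_top (P := P)
    (fun _ : Unit => (pullback.fst h (pHat I)) ⁻¹ᵁ U) ?_ fun _ => h1
  rw [hW]
  simp




/-- Flatness at a point descends along a flat morphism. -/
theorem flat_stalkMap_of_flat_comp {X' X S : Scheme.{u}} (g : X' ⟶ X) [Flat g] (f : X ⟶ S)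
    [Flat (g ≫ f)] (x' : X') : (f.stalkMap (g x')).hom.Flat := by
  have h1 := Flat.stalkMap (g ≫ f) x'
  rw [Scheme.Hom.stalkMap_comp] at h1
  have h2 := Flat.stalkMap g x'
  let _ : Algebra (S.presheaf.stalk (f (g x'))) (X.presheaf.stalk (g x')) :=
    (f.stalkMap (g x')).hom.toAlgebra
  let _ : Algebra (X.presheaf.stalk (g x')) (X'.presheaf.stalk x') := (g.stalkMap x').hom.toAlgebra
  let _ : Algebra (S.presheaf.stalk (f (g x'))) (X'.presheaf.stalk x') :=
    (f.stalkMap (g x') ≫ g.stalkMap x').hom.toAlgebra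
  have : IsScalarTower (S.presheaf.stalk (f (g x'))) (X.presheaf.stalk (g x'))
      (X'.presheaf.stalk x') := .of_algebraMap_eq' rfl
  have : Module.Flat (X.presheaf.stalk (g x')) (X'.presheaf.stalk x') := h2
  have : IsLocalHom (algebraMap (X.presheaf.stalk (g x')) (X'.presheaf.stalk x')) :=
    inferInstanceAs (IsLocalHom (g.stalkMap x').hom)
  have := Module.FaithfullyFlat.of_flat_of_isLocalHom (A := X.presheaf.stalk (g x'))
    (B := X'.presheaf.stalk x')
  have : Module.Flat (S.presheaf.stalk (f (g x'))) (X'.presheaf.stalk x') := h1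
  exact Groth.Agent.Lib.FlatCrit.flat_of_faithfullyFlat_of_flat
    (R := S.presheaf.stalk (f (g x'))) (X.presheaf.stalk (g x')) (N := X'.presheaf.stalk x')

/-- Base change of a property along a factorization `q = r ≫ p`. -/
theorem pullback_snd_of_comp (P : MorphismProperty Scheme.{u}) [P.IsStableUnderBaseChange]
    {X Y Y' Y'' : Scheme.{u}} (h : X ⟶ Y) (p : Y' ⟶ Y) (r : Y'' ⟶ Y') (q : Y'' ⟶ Y)
    (hq : r ≫ p = q) (hP : P (pullback.snd h p)) : P (pullback.snd h q) := by
  subst hq
  have h1 : P (pullback.snd (pullback.snd h p) r) := P.pullback_snd _ _ hP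
  have hpb := (IsPullback.of_hasPullback (pullback.snd h p) r).paste_horiz
    (IsPullback.of_hasPullback h p)
  have := hpb.isoPullback_hom_snd
  rw [← this] at h1
  exact (P.cancel_left_of_respectsIso _ _).mp h1





/-- the ring map `A → Γ(X, W)` induced by `h : X ⟶ Spec A` -/
noncomputable def phiW {X : Scheme.{u}} (h : X ⟶ Spec (.of A)) (W : X.Opens) : A →+* Γ(X, W) :=
  (h.appLE ⊤ W (show W ≤ h ⁻¹ᵁ ⊤ from le_top)).hom.comp (Scheme.ΓSpecIso (.of A)).inv.hom

theorem SpecMap_phiW {X : Scheme.{u}} (h : X ⟶ Spec (.of A)) {W : X.Opens} (hW : IsAffineOpen W) :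
    Spec.map (CommRingCat.ofHom (phiW h W)) = hW.fromSpec ≫ h := by
  have h1 := IsAffineOpen.SpecMap_appLE_fromSpec h (isAffineOpen_top (Spec (.of A))) hW
    (show W ≤ h ⁻¹ᵁ ⊤ from le_top)
  rw [← h1]
  have h2 : (isAffineOpen_top (Spec (.of A))).fromSpec =
      Spec.map (Scheme.ΓSpecIso (.of A)).inv := by
    rw [IsAffineOpen.fromSpec_top, Scheme.isoSpec_Spec_inv]
  rw [h2, ← Spec.map_comp]
  rfl

theorem germ_phiW_hom {X : Scheme.{u}} (h : X ⟶ Spec (.of A)) (W : X.Opens) (x : X) (hx : x ∈ W) :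
    ((Scheme.ΓSpecIso (.of A)).inv ≫ h.appLE ⊤ W (show W ≤ h ⁻¹ᵁ ⊤ from le_top)) ≫
      X.presheaf.germ W x hx =
      ((Scheme.ΓSpecIso (.of A)).inv ≫ (Spec (.of A)).presheaf.germ ⊤ (h x)
        (show h x ∈ (⊤ : (Spec (.of A)).Opens) from trivial)) ≫ h.stalkMap x := by
  rw [Category.assoc, Category.assoc, Scheme.Hom.germ_stalkMap, Scheme.Hom.appLE,
    Category.assoc, X.presheaf.germ_res]

theorem germ_phiW {X : Scheme.{u}} (h : X ⟶ Spec (.of A)) (W : X.Opens) (x : X) (hx : x ∈ W)
    (a : A) : X.presheaf.germ W x hx (phiW h W a) =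
      (h.stalkMap x).hom (StructureSheaf.toStalk A (h x) a) :=
  congr($(germ_phiW_hom h W x hx) a)

/-- conversion -/
theorem flat_stalkMap_of_flat {X : Scheme.{u}} (h : X ⟶ Spec (.of A)) (W : X.Opens) (x : X)
    (hx : x ∈ W)
    (hfl : ((X.presheaf.germ W x hx).hom.comp (phiW h W)).Flat) : (h.stalkMap x).hom.Flat := by
  let _ : Algebra A ((Spec (.of A)).presheaf.stalk (h x)) :=
    (StructureSheaf.toStalk A (h x)).hom.toAlgebra
  have hpr : (h x).asIdeal.IsPrime := PrimeSpectrum.isPrime (h x)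
  have hloc : IsLocalization.AtPrime ((Spec (.of A)).presheaf.stalk (h x)) (h x).asIdeal :=
    StructureSheaf.IsLocalization.to_stalk A (h x)
  let _ : Algebra ((Spec (.of A)).presheaf.stalk (h x)) (X.presheaf.stalk x) :=
    (h.stalkMap x).hom.toAlgebra
  let _ : Algebra A (X.presheaf.stalk x) :=
    ((X.presheaf.germ W x hx).hom.comp (phiW h W)).toAlgebra
  have : IsScalarTower A ((Spec (.of A)).presheaf.stalk (h x)) (X.presheaf.stalk x) :=
    .of_algebraMap_eq fun a => germ_phiW h W x hx a
  have key : Module.Flat A (X.presheaf.stalk x) := hfl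
  change Module.Flat ((Spec (.of A)).presheaf.stalk (h x)) (X.presheaf.stalk x)
  exact (Module.flat_iff_of_isLocalization ((Spec (.of A)).presheaf.stalk (h x))
    (h x).asIdeal.primeCompl (X.presheaf.stalk x)).mpr key




/-- (α) -/
theorem flat_tensor_of_flat_pullback_snd {X : Scheme.{u}} (h : X ⟶ Spec (.of A))
    (hfl : Flat (pullback.snd h (qI I))) {W : X.Opens} (hW : IsAffineOpen W) :
    letI := (phiW h W).toAlgebra
    Module.Flat (A ⧸ I) ((A ⧸ I) ⊗[A] Γ(X, W)) := by
  let _ : Algebra A Γ(X, W) := (phiW h W).toAlgebra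
  have hV : hW.fromSpec ≫ h = Spec.map (CommRingCat.ofHom (algebraMap A Γ(X, W))) :=
    (SpecMap_phiW h hW).symm
  have hfst : Flat (pullback.fst (qI I) h) := by
    rw [← pullbackSymmetry_hom_comp_snd]
    infer_instance
  let j := pullback.map (qI I) (Spec.map (CommRingCat.ofHom (algebraMap A Γ(X, W)))) (qI I) h
    (𝟙 _) hW.fromSpec (𝟙 _) (by simp) (by rw [Category.comp_id, hV])
  have hj : IsOpenImmersion j := Scheme.pullback_map_isOpenImmersion _ _ _ _ _ _ _ _ _
  have hcomp : j ≫ pullback.fst (qI I) h = pullback.fst _ _ ≫ 𝟙 _ := pullback.lift_fst _ _ _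
  have h2 : Flat (pullback.fst (qI I) (Spec.map (CommRingCat.ofHom (algebraMap A Γ(X, W))))) := by
    rw [← Category.comp_id (pullback.fst _ _), ← hcomp]
    infer_instance
  have h3 : Flat (Spec.map (CommRingCat.ofHom (algebraMap (A ⧸ I) ((A ⧸ I) ⊗[A] Γ(X, W))))) := by
    rw [← pullbackSpecIso_inv_fst']
    infer_instance
  have h4 : (algebraMap (A ⧸ I) ((A ⧸ I) ⊗[A] Γ(X, W))).Flat :=
    (HasRingHomProperty.Spec_iff (P := @Flat)).mp h3
  exact RingHom.flat_algebraMap_iff.mp h4

/-- (β): `𝔪A ⊗_A M → M` is injective for `A`, `M` flat over the discrete valuation ring `V`. -/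
theorem rTensor_injective_of_flat (V : Type u) [CommRing V] [IsDomain V]
    [IsDiscreteValuationRing V] (A : Type u) [CommRing A] [Algebra V A]
    (M : Type u) [AddCommGroup M] [Module V M] [Module A M] [IsScalarTower V A M]
    [Module.Flat V M] :
    Function.Injective
      (((IsLocalRing.maximalIdeal V).map (algebraMap V A)).subtype.rTensor M) := by
  obtain ⟨ϖ, hϖ⟩ := IsDiscreteValuationRing.exists_irreducible V
  have hmax : IsLocalRing.maximalIdeal V = Ideal.span {ϖ} := hϖ.maximalIdeal_eq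
  set I := (IsLocalRing.maximalIdeal V).map (algebraMap V A) with hI
  have hIspan : I = Ideal.span {algebraMap V A ϖ} := by
    rw [hI, hmax, Ideal.map_span, Set.image_singleton]
  have hmem : algebraMap V A ϖ ∈ I := by rw [hIspan]; exact Ideal.mem_span_singleton_self _
  have hform : ∀ z : ↥I ⊗[A] M, ∃ m : M, z = (⟨algebraMap V A ϖ, hmem⟩ : ↥I) ⊗ₜ[A] m := by
    intro z
    induction z with
    | zero => exact ⟨0, by simp⟩
    | add x y hx hy =>
      obtain ⟨m, rfl⟩ := hx
      obtain ⟨m', rfl⟩ := hy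
      exact ⟨m + m', by rw [TensorProduct.tmul_add]⟩
    | tmul a m =>
      obtain ⟨a, ha⟩ := a
      have ha' := ha
      rw [hIspan, Ideal.mem_span_singleton'] at ha'
      obtain ⟨b, rfl⟩ := ha'
      refine ⟨b • m, ?_⟩
      rw [← TensorProduct.smul_tmul]
      congr 1
  rw [injective_iff_map_eq_zero]
  intro z hz
  obtain ⟨m, rfl⟩ := hform z
  rw [LinearMap.rTensor_tmul] at hz
  have h1 : (TensorProduct.lid A M) ((algebraMap V A ϖ) ⊗ₜ[A] m) = 0 := by
    have : (I.subtype ⟨algebraMap V A ϖ, hmem⟩) = algebraMap V A ϖ := rfl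
    rw [this] at hz
    rw [hz, map_zero]
  rw [TensorProduct.lid_tmul, algebraMap_smul] at h1
  have hreg : IsSMulRegular M ϖ :=
    Module.Flat.isSMulRegular_of_nonZeroDivisors (mem_nonZeroDivisors_of_ne_zero hϖ.ne_zero)
  have hm : m = 0 := hreg (by simp only [h1, smul_zero])
  rw [hm, TensorProduct.tmul_zero]

open Groth.Agent.Lib.FlatInfinitesimal45 in
/-- (γ): flatness of `h` at the points over `V(𝔪A)`. -/
theorem flat_stalkMap_of_mem (V : Type u) [CommRing V] [IsDomain V]
    [IsDiscreteValuationRing V] (A : Type u) [CommRing A] [Algebra V A] [IsNoetherianRing A]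
    {X : Scheme.{u}} (h : X ⟶ Spec (.of A)) [LocallyOfFiniteType h]
    (hfl : Flat (h ≫ Spec.map (CommRingCat.ofHom (algebraMap V A))))
    (hfl0 : Flat (pullback.snd h (qI ((IsLocalRing.maximalIdeal V).map (algebraMap V A)))))
    (x : X) (hx : (IsLocalRing.maximalIdeal V).map (algebraMap V A) ≤ (h x).asIdeal) :
    (h.stalkMap x).hom.Flat := by
  set I := (IsLocalRing.maximalIdeal V).map (algebraMap V A) with hI
  obtain ⟨_, ⟨W, hW, rfl⟩, hxW, -⟩ :=
    X.isBasis_affineOpens.exists_subset_of_mem_open (Set.mem_univ x) isOpen_univ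
  replace hW : IsAffineOpen W := hW
  apply flat_stalkMap_of_flat h W x hxW
  let _ : Algebra A Γ(X, W) := (phiW h W).toAlgebra
  let _ : Algebra Γ(X, W) (X.presheaf.stalk x) := (X.presheaf.germ W x hxW).hom.toAlgebra
  let _ : Algebra A (X.presheaf.stalk x) :=
    ((X.presheaf.germ W x hxW).hom.comp (phiW h W)).toAlgebra
  have hst : IsScalarTower A Γ(X, W) (X.presheaf.stalk x) := .of_algebraMap_eq' rfl
  let _ : Algebra V Γ(X, W) := ((phiW h W).comp (algebraMap V A)).toAlgebra
  have hst2 : IsScalarTower V A Γ(X, W) := .of_algebraMap_eq' rfl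
  have hflV : Module.Flat V Γ(X, W) := by
    have h1 : Spec.map (CommRingCat.ofHom (algebraMap V Γ(X, W))) =
        hW.fromSpec ≫ h ≫ Spec.map (CommRingCat.ofHom (algebraMap V A)) := by
      rw [← Category.assoc, ← SpecMap_phiW h hW, ← Spec.map_comp]
      rfl
    have h2 : Flat (Spec.map (CommRingCat.ofHom (algebraMap V Γ(X, W)))) := by
      rw [h1]; infer_instance
    exact RingHom.flat_algebraMap_iff.mp (Flat.SpecMap_iff.mp h2)
  have hβ : Function.Injective (I.subtype.rTensor Γ(X, W)) :=
    rTensor_injective_of_flat V A Γ(X, W)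
  have hα : Module.Flat (A ⧸ I) ((A ⧸ I) ⊗[A] Γ(X, W)) :=
    flat_tensor_of_flat_pullback_snd I h hfl0 hW
  have hXn : IsLocallyNoetherian X := LocallyOfFiniteType.isLocallyNoetherian h
  have hloc : IsLocalization.AtPrime (X.presheaf.stalk x) (hW.primeIdealOf ⟨x, hxW⟩).asIdeal :=
    hW.isLocalization_stalk ⟨x, hxW⟩
  have hJ : I.map (algebraMap A (X.presheaf.stalk x)) ≤ Ideal.jacobson ⊥ := by
    rw [IsLocalRing.jacobson_eq_maximalIdeal ⊥ bot_ne_top, Ideal.map_le_iff_le_comap]
    intro a ha
    rw [Ideal.mem_comap]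
    change X.presheaf.germ W x hxW (phiW h W a) ∈ _
    rw [germ_phiW]
    have hpr : (h x).asIdeal.IsPrime := PrimeSpectrum.isPrime (h x)
    let _ : Algebra A ((Spec (.of A)).presheaf.stalk (h x)) :=
      (StructureSheaf.toStalk A (h x)).hom.toAlgebra
    have hloc' : IsLocalization.AtPrime ((Spec (.of A)).presheaf.stalk (h x)) (h x).asIdeal :=
      StructureSheaf.IsLocalization.to_stalk A (h x)
    have h1 : StructureSheaf.toStalk A (h x) a ∈
        IsLocalRing.maximalIdeal ((Spec (.of A)).presheaf.stalk (h x)) :=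
      (IsLocalization.AtPrime.to_map_mem_maximal_iff _ (h x).asIdeal a).mpr (hx ha)
    exact map_nonunit (h.stalkMap x).hom _ h1
  have hflat : ∀ n : ℕ, 0 < n → Module.Flat (A ⧸ I ^ n) ((A ⧸ I ^ n) ⊗[A] Γ(X, W)) := fun n _ =>
    Groth.Agent.Lib.FlatCrit.flat_quotient_pow_of_tor1Zero I
      ((Groth.Agent.Lib.FlatCrit.tor1Zero_quotient_iff I).mpr hβ) n
  exact flat_of_flat_quotient_pow_localization (hW.primeIdealOf ⟨x, hxW⟩).asIdeal.primeCompl
    I hJ hflat


end helpers

section helpers2
open TensorProduct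


variable (V : Type u) [CommRing V] [IsDomain V] [IsDiscreteValuationRing V]
  (A : Type u) [CommRing A] [Algebra V A]

theorem flat_comp_of_flat_pullback [Module.Flat V A] [IsNoetherianRing A] {X : Scheme.{u}}
    (h : X ⟶ Spec (.of A))
    (hfl : Flat (pullback.snd h (pHat ((IsLocalRing.maximalIdeal V).map (algebraMap V A))))) :
    Flat (h ≫ Spec.map (CommRingCat.ofHom (algebraMap V A))) := by
  set I := (IsLocalRing.maximalIdeal V).map (algebraMap V A) with hI
  set σ := Spec.map (CommRingCat.ofHom (algebraMap V A)) with hσ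
  have hσfl : Flat σ := Flat.SpecMap_iff.mpr (RingHom.flat_algebraMap_iff.mpr inferInstance)
  have hpfl : Flat (pHat I) :=
    Flat.SpecMap_iff.mpr (RingHom.flat_algebraMap_iff.mpr inferInstance)
  rw [Flat.iff_flat_stalkMap]
  intro x
  by_cases hx : I ≤ (h x).asIdeal
  · obtain ⟨z, hz⟩ := exists_comap_eq I (h x) hx
    obtain ⟨w, hw, -⟩ := Scheme.Pullback.exists_preimage_pullback (f := h) (g := pHat I) x z hz.symm
    have : Flat (pullback.fst h (pHat I) ≫ h ≫ σ) := by
      rw [pullback.condition_assoc]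
      infer_instance
    have := flat_stalkMap_of_flat_comp (pullback.fst h (pHat I)) (h ≫ σ) w
    rwa [hw] at this
  · -- generic fibre
    let K := FractionRing V
    let η : Spec (.of K) ⟶ Spec (.of V) := Spec.map (CommRingCat.ofHom (algebraMap V K))
    have hηfl : Flat η := Flat.SpecMap_iff.mpr (RingHom.flat_algebraMap_iff.mpr inferInstance)
    have hs : ((h ≫ σ) x).asIdeal = ⊥ := by
      by_contra hne
      have hmax : ((h ≫ σ) x).asIdeal = IsLocalRing.maximalIdeal V :=
        IsLocalRing.eq_maximalIdeal (((h ≫ σ) x).2.isMaximal hne)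
      apply hx
      rw [hI, Ideal.map_le_iff_le_comap, ← hmax]
      exact le_of_eq rfl
    let ξ : Spec (.of K) := ⟨⊥, Ideal.isPrime_bot⟩
    have hξ : (h ≫ σ) x = η ξ := by
      apply PrimeSpectrum.ext
      rw [hs]
      change _ = Ideal.comap (algebraMap V K) ⊥
      rw [← RingHom.ker_eq_comap_bot, (RingHom.injective_iff_ker_eq_bot _).mp
        (IsFractionRing.injective V K)]
    obtain ⟨w, hw, -⟩ := Scheme.Pullback.exists_preimage_pullback (f := h ≫ σ) (g := η) x ξ hξ
    have : Flat (pullback.fst (h ≫ σ) η ≫ h ≫ σ) := by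
      rw [pullback.condition]
      infer_instance
    have := flat_stalkMap_of_flat_comp (pullback.fst (h ≫ σ) η) (h ≫ σ) w
    rwa [hw] at this


end helpers2

/-- Over a discrete valuation ring, let V be a henselian discrete valuation ring with maximal ideal 𝔪, A
a smooth V-algebra, Â the 𝔪A-adic completion of A, and h : X → Spec A a proper morphism with
reduction h₀ : X ×_{Spec A} Spec(A/𝔪A) → Spec(A/𝔪A). Then X is flat over V and h₀ is flat if and
only if the base change of h to Spec Â is flat. (The published statement is for an excellent normal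
ring V with a henselian pair (V, V/I) and the projective lift h built from lifted equations, and
also lists the base changes to the weak completion and to the henselization of (A, 𝔪A); it rests on
a lemma asserting 'B flat over V iff B̂ flat over V' for V-algebras B of finite type, which fails
when V has dimension ≥ 2 (V = ℤ_p[[x]], I = (p), B = V[y]/(x, py − 1) ≅ ℚ_p has B̂ = 0), so the
statement is given over a discrete valuation ring and for an arbitrary proper h.) -/
theorem result
    (V : Type u) [CommRing V] [IsDomain V] [IsDiscreteValuationRing V] [HenselianLocalRing V]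
    (A : Type u) [CommRing A] [Algebra V A] [Algebra.Smooth V A]
    (X : Scheme.{u}) (h : X ⟶ Spec (.of A)) [IsProper h] :
    (Flat (h ≫ Spec.map (CommRingCat.ofHom (algebraMap V A))) ∧
        Flat (pullback.snd h (Spec.map (CommRingCat.ofHom
          (Ideal.Quotient.mk ((IsLocalRing.maximalIdeal V).map (algebraMap V A))))))) ↔
      Flat (pullback.snd h (Spec.map (CommRingCat.ofHom
          (algebraMap A (AdicCompletion ((IsLocalRing.maximalIdeal V).map (algebraMap V A)) A))))) := by
  have hflA : Module.Flat V A := Algebra.Smooth.flat V A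
  have hnA : IsNoetherianRing A := Algebra.FiniteType.isNoetherianRing V A
  have hI : ((IsLocalRing.maximalIdeal V).map (algebraMap V A)).FG := IsNoetherian.noetherian _
  constructor
  · rintro ⟨hfl, hfl0⟩
    have hlfp : LocallyOfFinitePresentation h := inferInstance
    let U : X.Opens := ⟨{x | (h.stalkMap x).hom.Flat}, Groth.Agent.S0386.result h⟩
    have hU : ∀ x : X, (IsLocalRing.maximalIdeal V).map (algebraMap V A) ≤ (h x).asIdeal → x ∈ U :=
      fun x hx => flat_stalkMap_of_mem V A h hfl hfl0 x hx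
    have hP : Flat (U.ι ≫ h) := by
      rw [Flat.iff_flat_stalkMap]
      intro x
      rw [Scheme.Hom.stalkMap_comp]
      refine RingHom.Flat.comp ?_ ?_
      · exact x.2
      · exact RingHom.Flat.of_bijective (ConcreteCategory.bijective_of_isIso (U.ι.stalkMap x))
    exact pullback_snd_of_open _ @Flat h hI U hU hP
  · intro hfl
    exact ⟨flat_comp_of_flat_pullback V A h hfl,
      pullback_snd_of_comp @Flat h (pHat _) (rI _) (qI _) (rI_pHat _) hfl⟩

end Groth.Agent.S19381
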