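import Groth.Statements.S1181
-- import your own Groth.Agent.* helpers here
import Groth.Agent.Lib.IdealSheafDesc27
import Groth.Agent.Lib.FpqcDescent
import Groth.Agent.Lib.FlatDescend45

set_option autoImplicit false
open CategoryTheory CategoryTheory.Limits AlgebraicGeometry
universe u
open HilbD

namespace Groth.Agent.S1181

open Groth.Agent.Lib.FpqcDescent Groth.Agent.Lib.FlatDescend45

section helpers

variable {X S : Scheme.{u}} (f : X ⟶ S)

/-- `pull` is `comap` along `XTmap`. -/
theorem pull_eq_comap {T T' : Over S} (m : T' ⟶ T) (I : (PicF.XT f T).IdealSheafData) :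
    HilbD.pull f m I = I.comap (PicF.XTmap f m) := by
  unfold HilbD.pull Scheme.IdealSheafData.comap
  rw [← pullbackSymmetry_hom_comp_fst, Scheme.Hom.ker_comp_of_isIso]

/-- `XTmap` is the base change of the map on the bases. -/
theorem isPullback_XTmap {T T' : Over S} (m : T' ⟶ T) :
    IsPullback (PicF.XTmap f m) (PicF.XTproj f T') (PicF.XTproj f T) m.left := by
  have hbig : IsPullback (pullback.fst f T'.hom) (pullback.snd f T'.hom) f T'.hom :=
    IsPullback.of_hasPullback f T'.hom
  have hright : IsPullback (pullback.fst f T.hom) (pullback.snd f T.hom) f T.hom :=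
    IsPullback.of_hasPullback f T.hom
  have h1 : PicF.XTmap f m ≫ pullback.fst f T.hom = pullback.fst f T'.hom :=
    (pullback.lift_fst _ _ _).trans (Category.comp_id _)
  have h2 : PicF.XTmap f m ≫ pullback.snd f T.hom = pullback.snd f T'.hom ≫ m.left :=
    pullback.lift_snd _ _ _
  refine IsPullback.of_right ?_ h2 hright
  rw [h1, Over.w m]
  exact hbig

end helpers

/-- Let f : X ⟶ S, d a natural number, T an S-scheme and g : T' ⟶ T quasi-compact, flat and surjective,
viewed over S. Let Z' be a closed subscheme of X ×_S T' finite locally free of degree d over T'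
whose two pullbacks to X ×_S (T' ×_T T') coincide. Then there is exactly one closed subscheme of X
×_S T, finite locally free of degree d over T, pulling back to Z'. -/
theorem result {X S : Scheme.{u}} (f : X ⟶ S) (d : ℕ) (T : Over S) {T' : Scheme.{u}} (g : T' ⟶ T.left)
    [QuasiCompact g] [Flat g] [Surjective g] (Z' : HilbD.Obj f d (HilbD.coverOver T g))
    (hZ' : HilbD.pull f (HilbD.overlapFst T g) Z'.1 = HilbD.pull f (HilbD.overlapSnd T g) Z'.1) :
    ∃! I : (PicF.XT f T).IdealSheafData, Mor2.IsFinLocFreeOfDeg d (I.subschemeι ≫ PicF.XTproj f T) ∧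
      HilbD.pull f (HilbD.coverHom T g) I = Z'.1 := by
  classical
  have hGpb := isPullback_XTmap f (HilbD.coverHom T g)
  set G := PicF.XTmap f (HilbD.coverHom T g) with hG
  have hgl : (HilbD.coverHom T g).left = g := rfl
  rw [hgl] at hGpb
  have : Flat G := MorphismProperty.of_isPullback (P := @Flat) hGpb.flip inferInstance
  have : Surjective G := MorphismProperty.of_isPullback (P := @Surjective) hGpb.flip inferInstance
  have : QuasiCompact G :=
    MorphismProperty.of_isPullback (P := @QuasiCompact) hGpb.flip inferInstance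
  have hfpqc : Presieve.ofArrows (fun _ : PUnit.{u+1} => PicF.XT f (HilbD.coverOver T g))
      (fun _ => G) ∈ Scheme.fpqcPrecoverage _ := by
    rw [Presieve.ofArrows_pUnit]
    exact G.singleton_mem_fpqcPrecoverage
  -- the comparison map `X_{T'} ×_{X_T} X_{T'} ⟶ X_{T''}`
  have hw : G ≫ PicF.XTproj f T = PicF.XTproj f (HilbD.coverOver T g) ≫ g := hGpb.w
  have cond1 : (pullback.fst G G ≫ PicF.XTproj f (HilbD.coverOver T g)) ≫ g =
      (pullback.snd G G ≫ PicF.XTproj f (HilbD.coverOver T g)) ≫ g := by
    rw [Category.assoc, Category.assoc, ← hw, pullback.condition_assoc]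
  let τ : pullback G G ⟶ pullback g g :=
    pullback.lift (pullback.fst G G ≫ PicF.XTproj f (HilbD.coverOver T g))
      (pullback.snd G G ≫ PicF.XTproj f (HilbD.coverOver T g)) cond1
  have cond2 : (pullback.fst G G ≫ pullback.fst f (HilbD.coverOver T g).hom) ≫ f =
      τ ≫ (HilbD.overlapOver T g).hom := by
    change _ = τ ≫ ((pullback.fst g g ≫ g) ≫ T.hom)
    rw [Category.assoc, pullback.condition, ← Category.assoc τ, ← Category.assoc τ,
      pullback.lift_fst]
    simp only [Category.assoc]
    rfl
  let ε : pullback G G ⟶ PicF.XT f (HilbD.overlapOver T g) :=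
    pullback.lift (pullback.fst G G ≫ pullback.fst f (HilbD.coverOver T g).hom) τ cond2
  have hGfst : G ≫ pullback.fst f T.hom = pullback.fst f (HilbD.coverOver T g).hom :=
    (pullback.lift_fst _ _ _).trans (Category.comp_id _)
  have hε1 : ε ≫ PicF.XTmap f (HilbD.overlapFst T g) = pullback.fst G G := by
    apply pullback.hom_ext
    · rw [Category.assoc]
      erw [pullback.lift_fst]
      rw [Category.comp_id]
      exact pullback.lift_fst _ _ _
    · rw [Category.assoc]
      erw [pullback.lift_snd]
      rw [← Category.assoc]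
      erw [pullback.lift_snd]
      exact pullback.lift_fst _ _ _
  have hε2 : ε ≫ PicF.XTmap f (HilbD.overlapSnd T g) = pullback.snd G G := by
    apply pullback.hom_ext
    · rw [Category.assoc]
      erw [pullback.lift_fst]
      rw [Category.comp_id]
      erw [pullback.lift_fst]
      rw [← hGfst, pullback.condition_assoc]
    · rw [Category.assoc]
      erw [pullback.lift_snd]
      rw [← Category.assoc]
      erw [pullback.lift_snd]
      exact pullback.lift_snd _ _ _
  have hcompat : Z'.1.comap (pullback.fst G G) = Z'.1.comap (pullback.snd G G) := by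
    rw [← hε1, ← hε2, Scheme.IdealSheafData.comap_comp, Scheme.IdealSheafData.comap_comp,
      ← pull_eq_comap, ← pull_eq_comap, hZ']
  obtain ⟨J, hJ, huniq⟩ := Groth.Agent.Lib.IdealSheafDesc27.existsUnique_comap_eq
    (g := fun _ : PUnit.{u+1} => G) hfpqc (fun _ => Z'.1) (fun _ _ => hcompat)
  have hJ' : J.comap G = Z'.1 := hJ PUnit.unit
  refine ⟨J, ⟨?_, (pull_eq_comap f _ J).trans hJ'⟩, fun I₂ h₂ => huniq I₂ (fun _ => ?_)⟩
  swap
  · exact (pull_eq_comap f _ I₂).symm.trans h₂.2
  -- finite locally free of degree `d` descends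
  have hZ2 := Z'.2
  rw [← hJ'] at hZ2
  set z := J.subschemeι ≫ PicF.XTproj f T with hz
  set q := pullback.fst G J.subschemeι ≫ PicF.XTproj f (HilbD.coverOver T g) with hq
  have hsq : IsPullback q (pullback.snd G J.subschemeι) g z :=
    ((IsPullback.of_hasPullback G J.subschemeι).flip.paste_vert hGpb).flip
  have hwq : (J.comap G).subschemeι ≫ PicF.XTproj f (HilbD.coverOver T g) =
      (J.comapIso G).hom ≫ q := by
    rw [hq, ← Category.assoc, Scheme.IdealSheafData.comapIso_hom_fst]
  rw [hwq] at hZ2
  obtain ⟨⟨hfin, hflat, hfp⟩, hrank⟩ := hZ2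
  have hqe : q = (J.comapIso G).inv ≫ ((J.comapIso G).hom ≫ q) := by
    rw [Iso.inv_hom_id_assoc]
  have hfin' : IsFinite q := by
    rw [hqe]; infer_instance
  have hflat' : Flat q := by
    rw [hqe]; infer_instance
  have hfp' : LocallyOfFinitePresentation q := by
    rw [hqe]; infer_instance
  have hQ : (@Surjective ⊓ @Flat ⊓ @QuasiCompact : MorphismProperty Scheme.{u}) g :=
    ⟨⟨inferInstance, inferInstance⟩, inferInstance⟩
  have hzfin : IsFinite z :=
    MorphismProperty.of_isPullback_of_descendsAlong (P := @IsFinite) hsq hQ hfin'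
  have hzflat : Flat z :=
    MorphismProperty.of_isPullback_of_descendsAlong (P := @Flat) hsq hQ hflat'
  have hzfp : LocallyOfFinitePresentation z :=
    MorphismProperty.of_isPullback_of_descendsAlong (P := @LocallyOfFinitePresentation) hsq hQ hfp'
  refine ⟨⟨hzfin, hzflat, hzfp⟩, fun t => ?_⟩
  obtain ⟨t', rfl⟩ := g.surjective t
  have h1 := hrank t'
  rw [Scheme.Hom.finrank_comp_left_of_isIso] at h1
  rw [← Scheme.Hom.finrank_of_isPullback _ q z g hsq.flip t']
  exact h1

end Groth.Agent.S1181
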