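-- Statement S4733.
import Groth.Statements.S4733
import Groth.Agent.S2690
import Groth.Agent.Lib.H14FlatAscent
import Groth.Agent.Lib.H56FlatLocal
import Groth.Agent.Lib.H87Serre2
import Groth.Agent.Lib.SmoothRegular
import Groth.Agent.Lib.H30NormalSmooth
import Mathlib

set_option autoImplicit false
universe u
open EGA4

namespace Groth.Agent.S4733

section Helpers
open TensorProduct IsLocalRing

/-- Regularity descends along a flat ring map, at primes. -/
theorem regular_descent_atPrime (A B : Type u) [CommRing A] [CommRing B] [Algebra A B]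
    [IsNoetherianRing A] [Module.Flat A B] (Q : Ideal B) [Q.IsPrime]
    (h : IsRegularLocalRing (Localization.AtPrime Q)) :
    IsRegularLocalRing (Localization.AtPrime (Q.under A)) := by
  letI := Localization.AtPrime.algebraOfLiesOver (Q.under A) Q
  haveI := Groth.Agent.Lib.H14FlatAscent.isLocalHom_localization A B Q
  haveI := Groth.Agent.Lib.H14FlatAscent.flat_localization A B Q
  exact Groth.Agent.Lib.H87Serre2.isRegularLocalRing_of_flat
    (Localization.AtPrime (Q.under A)) (Localization.AtPrime Q)

/-- Regularity ascends along a flat ring map at a prime `Q` with `(Q ∩ A) B_Q = Q B_Q`. -/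
theorem regular_ascent_atPrime (A B : Type u) [CommRing A] [CommRing B] [Algebra A B]
    [IsNoetherianRing B] [Module.Flat A B] (Q : Ideal B) [Q.IsPrime]
    (hQ : maximalIdeal (Localization.AtPrime Q) ≤
      (Q.under A).map (algebraMap A (Localization.AtPrime Q)))
    (h : IsRegularLocalRing (Localization.AtPrime (Q.under A))) :
    IsRegularLocalRing (Localization.AtPrime Q) := by
  letI := Localization.AtPrime.algebraOfLiesOver (Q.under A) Q
  haveI := Groth.Agent.Lib.H14FlatAscent.isLocalHom_localization A B Q
  haveI := Groth.Agent.Lib.H14FlatAscent.flat_localization A B Q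
  apply Groth.Agent.Lib.H56FlatLocal.isRegularLocalRing_of_flat_of_map_maximalIdeal
    (A := Localization.AtPrime (Q.under A)) (B := Localization.AtPrime Q)
  apply le_antisymm
  · rw [Ideal.map_le_iff_le_comap]
    intro a ha
    exact map_nonunit _ a ha
  · rw [Groth.Agent.Lib.H14FlatAscent.map_maximalIdeal_eq A B Q]
    exact hQ

/-- Smooth ascent of regularity at a prime. -/
theorem regular_of_smooth_atPrime (A B : Type u) [CommRing A] [CommRing B] [Algebra A B]
    [Algebra.Smooth A B] (Q : Ideal B) [Q.IsPrime]
    (h : IsRegularLocalRing (Localization.AtPrime (Q.under A))) :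
    IsRegularLocalRing (Localization.AtPrime Q) := by
  obtain ⟨q', hq', ⟨e⟩⟩ := Groth.Agent.Lib.H30NormalSmooth.exists_prime_tensor A B Q (Q.under A) rfl
    (Localization.AtPrime (Q.under A)) (Localization.AtPrime Q)
  haveI : IsRegularRing (Localization.AtPrime (Q.under A)) :=
    Groth.Agent.Lib.H87Serre2.isRegularRing_of_isRegularLocalRing
  haveI := Groth.Agent.Lib.SmoothRegular.isRegularLocalRing_of_smooth
    (K := Localization.AtPrime (Q.under A)) (B := Localization.AtPrime (Q.under A) ⊗[A] B) q'
  exact IsRegularLocalRing.of_ringEquiv e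

theorem regular_of_ideal_eq {R : Type u} [CommRing R] (I J : Ideal R) [I.IsPrime] [J.IsPrime]
    (h : I = J) (hI : IsRegularLocalRing (Localization.AtPrime I)) :
    IsRegularLocalRing (Localization.AtPrime J) := by
  subst h; exact hI

/-- A field is flat over any domain mapping injectively into it. -/
theorem flat_field_of_injective (C K : Type u) [CommRing C] [Field K] [Algebra C K]
    (hinj : Function.Injective (algebraMap C K)) : Module.Flat C K := by
  haveI : IsDomain C := hinj.isDomain (algebraMap C K)
  letI : Algebra (FractionRing C) K := (IsFractionRing.lift hinj).toAlgebra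
  haveI : IsScalarTower C (FractionRing C) K := IsScalarTower.of_algebraMap_eq (fun x => by
    rw [RingHom.algebraMap_toAlgebra, IsFractionRing.lift_algebraMap])
  haveI : Module.Flat C (FractionRing C) := IsLocalization.flat _ (nonZeroDivisors C)
  exact Module.Flat.trans C (FractionRing C) K

theorem flat_map (k C K S : Type u) [CommRing k] [CommRing C] [CommRing K] [CommRing S]
    [Algebra k C] [Algebra k K] [Algebra k S] [Algebra C K] [IsScalarTower k C K]
    [Module.Flat C K] :
    (Algebra.TensorProduct.map (IsScalarTower.toAlgHom k C K) (AlgHom.id k S)).toRingHom.Flat := by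
  letI : Algebra (C ⊗[k] S) (K ⊗[k] S) :=
    (Algebra.TensorProduct.map (IsScalarTower.toAlgHom k C K) (AlgHom.id k S)).toRingHom.toAlgebra
  haveI : IsScalarTower C (C ⊗[k] S) (K ⊗[k] S) :=
    IsScalarTower.of_algebraMap_eq (fun x => by
      rw [RingHom.algebraMap_toAlgebra]
      simp [Algebra.TensorProduct.algebraMap_apply])
  have hp : Algebra.IsPushout C K (C ⊗[k] S) (K ⊗[k] S) :=
    Algebra.IsPushout.tensorProduct_tensorProduct k S C K (by
      ext x
      rw [RingHom.algebraMap_toAlgebra]
      simp)
  exact Module.Flat.isBaseChange C (C ⊗[k] S) K (K ⊗[k] S) hp.symm.1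

/-- Core of the limit argument: if `P` is generated by elements coming from a flat `A`-algebra
structure and `A` is regular at the contraction, then `T` is regular at `P`. -/
theorem ascent_core (A T : Type u) [CommRing A] [CommRing T] [IsNoetherianRing T] (φ : A →+* T)
    (hφ : φ.Flat) (P : Ideal T) [P.IsPrime] (s : Set T) (hs : Ideal.span s = P)
    (hrange : s ⊆ Set.range φ)
    (h : IsRegularLocalRing (Localization.AtPrime (P.comap φ))) :
    IsRegularLocalRing (Localization.AtPrime P) := by
  letI : Algebra A T := φ.toAlgebra
  haveI : Module.Flat A T := hφ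
  refine regular_ascent_atPrime A T P ?_ h
  rw [← Localization.AtPrime.map_eq_maximalIdeal, Ideal.map_le_iff_le_comap]
  have key : Ideal.span s ≤ Ideal.comap (algebraMap T (Localization.AtPrime P))
      (Ideal.map (algebraMap A (Localization.AtPrime P)) (Ideal.under A P)) := by
    rw [Ideal.span_le]
    intro z hz
    obtain ⟨a, rfl⟩ := hrange hz
    have ha : a ∈ P.under A := by
      change φ a ∈ P
      rw [← hs]
      exact Ideal.subset_span hz
    have : algebraMap T (Localization.AtPrime P) (φ a) =
        algebraMap A (Localization.AtPrime P) a := by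
      rw [IsScalarTower.algebraMap_apply A T (Localization.AtPrime P)]
      rfl
    rw [SetLike.mem_coe, Ideal.mem_comap, this]
    exact Ideal.mem_map_of_mem _ ha
  rwa [hs] at key

theorem ascent_aux (k S k' : Type u) [Field k] [CommRing S] [Algebra k S] [Field k'] [Algebra k k']
    [Algebra.IsGeometricallyReduced k k'] [IsNoetherianRing (k' ⊗[k] S)]
    (P : Ideal (k' ⊗[k] S)) [P.IsPrime]
    (hreg : IsRegularLocalRing (Localization.AtPrime
      (P.comap (Algebra.TensorProduct.includeRight : S →ₐ[k] k' ⊗[k] S).toRingHom))) :
    IsRegularLocalRing (Localization.AtPrime P) := by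
  classical
  obtain ⟨s, hs⟩ := (isNoetherianRing_iff_ideal_fg _).mp inferInstance P
  obtain ⟨j, hj⟩ := Groth.Agent.S2690.exists_idx_range S s
  haveI := j.smooth
  letI : Algebra (Localization.Away j.g) k' := j.toField.toRingHom.toAlgebra
  haveI : IsScalarTower k (Localization.Away j.g) k' :=
    IsScalarTower.of_algebraMap_eq (fun x => (j.toField.commutes x).symm)
  haveI : Module.Flat (Localization.Away j.g) k' :=
    flat_field_of_injective _ _ j.toField_injective
  have htf : IsScalarTower.toAlgHom k (Localization.Away j.g) k' = j.toField :=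
    AlgHom.ext (fun x => rfl)
  have hflat1 : (j.φ S).Flat := by
    have := flat_map k (Localization.Away j.g) k' S
    rw [htf] at this
    exact this
  -- the map from the smooth `S`-algebra `S ⊗ C`
  let e : S ⊗[k] Localization.Away j.g ≃+* Localization.Away j.g ⊗[k] S :=
    (Algebra.TensorProduct.comm k S (Localization.Away j.g)).toRingEquiv
  have hflat : ((j.φ S).comp e.toRingHom).Flat :=
    RingHom.Flat.comp (RingHom.Flat.of_bijective e.bijective) hflat1
  refine ascent_core (S ⊗[k] Localization.Away j.g) (k' ⊗[k] S) ((j.φ S).comp e.toRingHom) hflat P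
    (s : Set (k' ⊗[k] S)) hs ?_ ?_
  · intro z hz
    obtain ⟨w, rfl⟩ := hj hz
    exact ⟨e.symm w, by simp⟩
  · apply regular_of_smooth_atPrime S (S ⊗[k] Localization.Away j.g)
    refine regular_of_ideal_eq _ _ ?_ hreg
    ext x
    simp only [Ideal.mem_comap, Ideal.under]
    have hx : ((j.φ S).comp e.toRingHom) ((algebraMap S (S ⊗[k] Localization.Away j.g)) x) =
        (Algebra.TensorProduct.includeRight : S →ₐ[k] k' ⊗[k] S).toRingHom x := by
      simp [e, Groth.Agent.S2690.Idx.φ, Algebra.TensorProduct.algebraMap_apply]
    rw [hx]

/-- Transport of localizations at primes along a ring isomorphism. -/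
theorem primeCompl_map_eq {R R' : Type u} [CommRing R] [CommRing R'] (E : R ≃+* R')
    (q : Ideal R) [q.IsPrime] (P : Ideal R') [P.IsPrime] (h : q = P.comap E.toRingHom) :
    q.primeCompl.map E.toMonoidHom = P.primeCompl := by
  ext y
  simp only [Submonoid.mem_map, Ideal.mem_primeCompl_iff]
  constructor
  · rintro ⟨x, hx, rfl⟩
    intro hy
    apply hx
    rw [h]
    exact hy
  · intro hy
    refine ⟨E.symm y, ?_, by simp⟩
    intro hx
    apply hy
    rw [h, Ideal.mem_comap] at hx
    have : E.toRingHom (E.symm y) = y := E.apply_symm_apply y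
    rwa [this] at hx

/-- Transport of localizations at primes along a ring isomorphism. -/
noncomputable def atPrimeEquiv {R R' : Type u} [CommRing R] [CommRing R'] (E : R ≃+* R')
    (q : Ideal R) [q.IsPrime] (P : Ideal R') [P.IsPrime] (h : q = P.comap E.toRingHom) :
    Localization.AtPrime q ≃+* Localization.AtPrime P :=
  IsLocalization.ringEquivOfRingEquiv (M := q.primeCompl) (T := P.primeCompl)
    (Localization.AtPrime q) (Localization.AtPrime P) E (primeCompl_map_eq E q P h)

theorem ascent (k S k' : Type u) [Field k] [CommRing S] [Algebra k S]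
    [Field k'] [Algebra k k'] [IsNoetherianRing (S ⊗[k] k')] (q' : Ideal (S ⊗[k] k')) [q'.IsPrime]
    (hsep : Algebra.IsGeometricallyReduced k k')
    (h : IsRegularLocalRing (Localization.AtPrime (q'.comap (algebraMap S (S ⊗[k] k'))))) :
    IsRegularLocalRing (Localization.AtPrime q') := by
  let E : S ⊗[k] k' ≃+* k' ⊗[k] S := (Algebra.TensorProduct.comm k S k').toRingEquiv
  haveI : IsNoetherianRing (k' ⊗[k] S) := isNoetherianRing_of_ringEquiv _ E
  let P : Ideal (k' ⊗[k] S) := q'.comap E.symm.toRingHom
  haveI : P.IsPrime := Ideal.comap_isPrime _ _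
  have hqP : q' = P.comap E.toRingHom := by
    ext x
    simp [P, Ideal.mem_comap]
  have hP : IsRegularLocalRing (Localization.AtPrime P) := by
    apply ascent_aux k S k' P
    refine regular_of_ideal_eq _ _ ?_ h
    ext x
    simp only [Ideal.mem_comap, P]
    have : E.symm.toRingHom ((Algebra.TensorProduct.includeRight : S →ₐ[k] k' ⊗[k] S).toRingHom x) =
        algebraMap S (S ⊗[k] k') x := by
      simp [E, Algebra.TensorProduct.algebraMap_apply]
    rw [this]
  exact IsRegularLocalRing.of_ringEquiv (atPrimeEquiv E q' P hqP).symm

end Helpers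

open TensorProduct in
/-- For the property 'regular' (affine form): let k be a field, S a Noetherian k-algebra and k' an
extension field of k such that S is of finite type over k or k' is essentially of finite type over
k; let q' be a prime of S ⊗_k k' and q its contraction to S. If (S ⊗_k k')_{q'} is a regular local
ring then so is S_q; conversely, if k' is separable over k (geometrically reduced) and S_q is
regular, then (S ⊗_k k')_{q'} is regular. -/
theorem result (k S k' : Type u) [Field k] [CommRing S] [Algebra k S]
    [IsNoetherianRing S] [Field k'] [Algebra k k'] (hft : Algebra.FiniteType k S ∨ Algebra.EssFiniteType k k')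
    [IsNoetherianRing (S ⊗[k] k')] (q' : Ideal (S ⊗[k] k')) [q'.IsPrime] :
    (IsRegularLocalRing (Localization.AtPrime q') →
        IsRegularLocalRing (Localization.AtPrime (q'.comap (algebraMap S (S ⊗[k] k'))))) ∧
      (Algebra.IsGeometricallyReduced k k' →
        IsRegularLocalRing (Localization.AtPrime (q'.comap (algebraMap S (S ⊗[k] k')))) →
          IsRegularLocalRing (Localization.AtPrime q')) := by
  refine ⟨fun h => ?_, fun hsep h => ascent k S k' q' hsep h⟩
  exact regular_descent_atPrime S (S ⊗[k] k') q' h

end Groth.Agent.S4733
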