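-- Statement S1183.
import Groth.Statements.S1183
import Groth.Agent.S4733
import Groth.Agent.Lib.H56FlatLocal
import Groth.Agent.Lib.SmoothRegular
import Mathlib

set_option autoImplicit false
universe u
open Desc

namespace Groth.Agent.S1183

theorem ascent (A B : Type u) [CommRing A] [CommRing B] [IsNoetherianRing A] [IsNoetherianRing B]
    [Algebra A B] [Algebra.Smooth A B] (k : ℕ) (h : LocCoh.HasRk k A) : LocCoh.HasRk k B := by
  intro Q _ hQ
  haveI : Module.Flat A B := inferInstance
  have h1 : (Q.under A).height ≤ Q.height :=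
    Groth.Agent.Lib.SmoothRegular.height_under_le_of_hasGoingDown Q
  have h2 := h (Q.under A) (h1.trans hQ)
  exact Groth.Agent.S4733.regular_of_smooth_atPrime A B Q h2

theorem descent (A B : Type u) [CommRing A] [CommRing B] [IsNoetherianRing A] [IsNoetherianRing B]
    [Algebra A B] [Module.FaithfullyFlat A B] (k : ℕ) (h : LocCoh.HasRk k B) :
    LocCoh.HasRk k A := by
  intro p _ hp
  obtain ⟨Q', hQ'prime, hQ'over⟩ := Ideal.exists_isPrime_liesOver_of_faithfullyFlat (B := B) p
  have hle : p.map (algebraMap A B) ≤ Q' := by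
    rw [Ideal.map_le_iff_le_comap]
    exact hQ'over.over.le
  obtain ⟨Q, hQmin, hQle⟩ := Ideal.exists_minimalPrimes_le hle
  haveI : Q.IsPrime := hQmin.1.1
  have hQover : Q.under A = p := by
    apply le_antisymm
    · calc Q.under A ≤ Q'.under A := Ideal.comap_mono hQle
        _ = p := hQ'over.over.symm
    · rw [← Ideal.map_le_iff_le_comap]
      exact hQmin.1.2
  haveI : Q.LiesOver p := ⟨hQover.symm⟩
  have hht : Q.height = p.height :=
    Groth.Agent.Lib.H56FlatLocal.height_eq_of_mem_minimalPrimes p Q hQmin
  have h1 := h Q (hht.le.trans hp)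
  have h2 := Groth.Agent.S4733.regular_descent_atPrime A B Q h1
  exact Groth.Agent.S4733.regular_of_ideal_eq _ _ hQover h2

/-- Let A → B be a smooth ring map of Noetherian rings and k a natural number. If A satisfies (R_k) then
so does B; and if moreover A → B is faithfully flat and B satisfies (R_k), then A does. -/
theorem result (A B : Type u) [CommRing A] [CommRing B] [IsNoetherianRing A] [IsNoetherianRing B]
    [Algebra A B] [Algebra.Smooth A B] (k : ℕ) :
    (LocCoh.HasRk k A → LocCoh.HasRk k B) ∧
    (Module.FaithfullyFlat A B → LocCoh.HasRk k B → LocCoh.HasRk k A) := by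
  exact ⟨ascent A B k, fun hff h => descent A B k h⟩

end Groth.Agent.S1183
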