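import Groth.Statements.S1186
import Groth.Agent.Lib.MilnorEtale24c

set_option autoImplicit false
universe u
open Pi1

namespace Groth.Agent.S1186

open Groth.Agent.Lib.Ferrand24 Groth.Agent.Lib.MilnorEtale24 in
open AlgebraicGeometry CategoryTheory CategoryTheory.Limits in
/-- Let i : Z ⟶ X be a closed immersion and j : Z ⟶ Y an integral morphism such that every fibre of j
lies in the preimage under i of some affine open of X, and let a : X ⟶ W, b : Y ⟶ W exhibit W as the
pushout of i and j in the category of schemes. If U is finite étale over X and V is finite étale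
over Y with U ×_X Z ≅ V ×_Y Z over Z, then there is a finite étale cover T of W whose restrictions
to X and to Y are isomorphic to U and to V respectively. (This is the essential-surjectivity part of
an equivalence between finite étale covers of W and the 2-fibre product of the categories of finite
étale covers of X and of Y over that of Z; only the gluing of objects is asserted, and the
compatibility of the two identifications over Z is not asserted.) -/
theorem result {Z X Y W : Scheme.{u}} (i : Z ⟶ X) [IsClosedImmersion i] (j : Z ⟶ Y) [IsIntegralHom j]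
    (h3 : ∀ y : Y, ∃ U : X.Opens, IsAffineOpen U ∧ ∀ z : Z, j.base z = y → i.base z ∈ U)
    (a : X ⟶ W) (b : Y ⟶ W) (hpo : IsPushout i j a b)
    (U : FEt.Cat X) (V : FEt.Cat Y) (e : (FEt.restrict i).obj U ≅ (FEt.restrict j).obj V) :
    ∃ T : FEt.Cat W, Nonempty ((FEt.restrict a).obj T ≅ U) ∧ Nonempty ((FEt.restrict b).obj T ≅ V) := by
  have haff : ∀ y : Y, ∃ U : X.Opens, IsAffineOpen U ∧ j ⁻¹' {y} ⊆ i ⁻¹' (U : Set X) := by
    intro y
    obtain ⟨U₀, hU₀, hz⟩ := h3 y
    exact ⟨U₀, hU₀, fun z hz' => hz z hz'⟩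
  obtain ⟨hX, hY⟩ := exists_charts i j haff
  haveI : IsFinite U.hom := U.prop.1
  haveI : Etale U.hom := U.prop.2
  haveI : IsFinite V.hom := V.prop.1
  haveI : Etale V.hom := V.prop.2
  let ε : pullback U.hom i ≅ pullback V.hom j :=
    (MorphismProperty.Over.forget FEt.prop ⊤ Z ⋙ CategoryTheory.Over.forget Z).mapIso e
  have hε : ε.hom ≫ pullback.snd V.hom j = pullback.snd U.hom i := MorphismProperty.Over.w e.hom
  have hfX : IsPullback (pullback.fst U.hom i) (pullback.snd U.hom i) U.hom i :=
    IsPullback.of_hasPullback U.hom i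
  have hgY : IsPullback (ε.hom ≫ pullback.fst V.hom j) (pullback.snd U.hom i) V.hom j :=
    IsPullback.of_iso (IsPullback.of_hasPullback V.hom j) ε.symm (Iso.refl _) (Iso.refl _)
      (Iso.refl _) (by simp) (by simp [← hε]) (by simp) (by simp)
  haveI : IsClosedImmersion (pullback.fst U.hom i) :=
    MorphismProperty.of_isPullback hfX.flip inferInstance
  obtain ⟨hX', hY'⟩ := charts_pullback U.hom V.hom (pullback.snd U.hom i) hfX.w hgY.w hX hY
  obtain ⟨T, a', b', hpo', -, -, -, -, -⟩ := ferrand hX' hY'
  have hcompat : pullback.fst U.hom i ≫ U.hom ≫ a =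
      (ε.hom ≫ pullback.fst V.hom j) ≫ V.hom ≫ b := by
    rw [← Category.assoc, hfX.w, Category.assoc, hpo.w, ← Category.assoc, ← hgY.w,
      Category.assoc]
  let π : T ⟶ W := hpo'.desc (U.hom ≫ a) (V.hom ≫ b) hcompat
  have ha : a' ≫ π = U.hom ≫ a := hpo'.inl_desc _ _ _
  have hb : b' ≫ π = V.hom ≫ b := hpo'.inr_desc _ _ _
  obtain ⟨hfin, het, pbX, pbY⟩ :=
    finite_etale_of_pushouts hX hY hpo U.hom V.hom (pullback.snd U.hom i) hfX hgY hpo' π ha hb
  refine ⟨MorphismProperty.Over.mk ⊤ π ⟨hfin, het⟩, ⟨?_⟩, ⟨?_⟩⟩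
  · exact MorphismProperty.Over.isoMk pbX.isoPullback.symm pbX.isoPullback_inv_snd
  · exact MorphismProperty.Over.isoMk pbY.isoPullback.symm pbY.isoPullback_inv_snd

end Groth.Agent.S1186
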