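import Groth.Statements.S1188
import Mathlib.CategoryTheory.Galois.Full
import Mathlib.CategoryTheory.Galois.IsFundamentalgroup
import Mathlib.CategoryTheory.Galois.Prorepresentability
import Mathlib.CategoryTheory.Galois.Topology

set_option autoImplicit false
set_option linter.unusedSectionVars false
universe u v w
open CategoryTheory PreGaloisCategory
open Pi1

namespace Groth.Agent.S1188

open Limits

section Aux

variable {C C' : Type u} [Category.{v} C] [Category.{v} C'] [GaloisCategory C] [GaloisCategory C']
    (H : C ⥤ C') (F' : C' ⥤ FintypeCat.{w}) [FiberFunctor F'] [FiberFunctor (H ⋙ F')]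

/-- The whiskering homomorphism is continuous. -/
theorem continuous_autWhisker : Continuous (Pi1X.autWhisker H F') := by
  let _ : ∀ X : C, MulAction (Aut F') ((H ⋙ F').obj X) := fun X =>
    inferInstanceAs (MulAction (Aut F') (F'.obj (H.obj X)))
  have hnatsmul : IsNaturalSMul (H ⋙ F') (Aut F') :=
    ⟨fun σ {X Y} f x => (mulAction_naturality F' σ (H.map f) x).symm⟩
  have hcont : ∀ X : C, ContinuousSMul (Aut F') ((H ⋙ F').obj X) := fun X =>
    inferInstanceAs (ContinuousSMul (Aut F') (F'.obj (H.obj X)))
  have h := toAut_continuous (H ⋙ F') (Aut F')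
  have heq : (Pi1X.autWhisker H F' : Aut F' → Aut (H ⋙ F')) = toAut (H ⋙ F') (Aut F') := by
    funext σ
    apply Iso.ext
    ext X x
    rfl
  rw [heq]
  exact h

end Aux

/-- Let H : C ⥤ C' be an exact functor between Galois categories and F' a fibre functor on C' such that
F' ∘ H is a fibre functor on C; write h : π_1(C', F') → π_1(C, F' ∘ H) for the induced homomorphism
of fundamental groups. Then h is injective if and only if for every connected object X' of C' there
are an object X of C, an object Y' of C', an epimorphism Y' ⟶ X' and a monomorphism Y' ⟶ H(X). -/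
theorem result {C C' : Type u} [Category.{v} C] [Category.{v} C'] [GaloisCategory C] [GaloisCategory C']
    (H : C ⥤ C') [Limits.PreservesFiniteLimits H] [Limits.PreservesFiniteColimits H]
    (F' : C' ⥤ FintypeCat.{w}) [FiberFunctor F'] [FiberFunctor (H ⋙ F')] :
    Function.Injective (Pi1X.autWhisker H F') ↔
      ∀ X' : C', IsConnected X' → ∃ (X : C) (Y' : C') (p : Y' ⟶ X') (q : Y' ⟶ H.obj X), Epi p ∧ Mono q := by
  constructor
  · intro hinj X' hX'
    obtain ⟨x'⟩ := nonempty_fiber_of_isConnected F' X'
    have hcont := continuous_autWhisker H F'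
    have hemb : Topology.IsClosedEmbedding (Pi1X.autWhisker H F') :=
      hcont.isClosedEmbedding hinj
    have hU' : (MulAction.stabilizer (Aut F') x' : Set (Aut F')) ∈ nhds (1 : Aut F') :=
      (stabilizer_isOpen (Aut F') x').mem_nhds (one_mem _)
    rw [hemb.isInducing.nhds_eq_comap, map_one] at hU'
    obtain ⟨W, hW, hWU⟩ := Filter.mem_comap.mp hU'
    obtain ⟨P, _, hP⟩ := (nhds_one_has_basis_stabilizers (H ⋙ F')).mem_iff.mp hW
    obtain ⟨Y', q, y', hy', hcY', hmq⟩ := fiber_in_connected_component F' (H.obj P.obj) P.pt
    have hstab : ∀ σ : Aut F', σ • y' = y' → σ • x' = x' := fun σ hσ => by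
      have h1 : σ ∈ (MulAction.stabilizer (Aut F') x' : Set (Aut F')) := by
        apply hWU
        change Pi1X.autWhisker H F' σ ∈ W
        apply hP
        change σ.hom.app (H.obj P.obj) P.pt = P.pt
        rw [← hy']
        have := congrArg (fun f => f y') (σ.hom.naturality q)
        simp only [FintypeCat.comp_apply] at this
        rw [this]
        exact congrArg _ hσ
      exact h1
    have hex : ∀ z : F'.obj Y', ∃ σ : Aut F', σ • y' = z := fun z =>
      MulAction.exists_smul_eq (Aut F') y' z
    choose s hs using hex
    let ψfun : F'.obj Y' → F'.obj X' := fun z => s z • x'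
    have hequiv : ∀ (τ : Aut F') (z : F'.obj Y'), ψfun (τ • z) = τ • ψfun z := by
      intro τ z
      change s (τ • z) • x' = τ • (s z • x')
      have h1 : ((τ * s z)⁻¹ * s (τ • z)) • y' = y' := by
        rw [mul_smul, hs, inv_smul_eq_iff, mul_smul, hs]
      have h2 := hstab _ h1
      rw [mul_smul, inv_smul_eq_iff, mul_smul] at h2
      exact h2
    let ψ : (functorToAction F').obj Y' ⟶ (functorToAction F').obj X' :=
      { hom := FintypeCat.homMk ψfun
        comm := fun τ => by
          ext z
          exact hequiv τ z }
    obtain ⟨p, hp⟩ := (functorToAction F').map_surjective ψ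
    have hne : Nonempty (F'.obj Y') := ⟨y'⟩
    exact ⟨P.obj, Y', p, q, epi_of_nonempty_of_isConnected F' p, hmq⟩
  · intro hcond
    rw [injective_iff_map_eq_one]
    intro σ hσ
    have h1 : ∀ (X : C) (x : F'.obj (H.obj X)), σ.hom.app (H.obj X) x = x := fun X x => by
      have := congrArg (fun τ : Aut (H ⋙ F') => τ.hom.app X x) hσ
      exact this
    have h2 : ∀ (X' : C') [IsConnected X'] (x' : F'.obj X'), σ.hom.app X' x' = x' := by
      intro X' hX' x'
      obtain ⟨X, Y', p, q, hp, hq⟩ := hcond X' hX'
      obtain ⟨y', rfl⟩ := surjective_on_fiber_of_epi F' p x'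
      have hy : σ.hom.app Y' y' = y' := by
        apply ConcreteCategory.injective_of_mono_of_preservesPullback (F'.map q)
        have := congrArg (fun f => f y') (σ.hom.naturality q)
        simp only [FintypeCat.comp_apply] at this
        rw [← this, h1]
      have := congrArg (fun f => f y') (σ.hom.naturality p)
      simp only [FintypeCat.comp_apply] at this
      rw [this, hy]
    apply Iso.ext
    ext Z z
    obtain ⟨Y, i, y, rfl, hc, hm⟩ := fiber_in_connected_component F' Z z
    have := congrArg (fun f => f y) (σ.hom.naturality i)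
    simp only [FintypeCat.comp_apply] at this
    rw [this, h2 Y y]
    rfl

end Groth.Agent.S1188
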