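import Groth.Statements.S1189
import Mathlib.CategoryTheory.Galois.Decomposition
import Mathlib.CategoryTheory.Galois.Prorepresentability

set_option autoImplicit false
universe u v w
open CategoryTheory PreGaloisCategory
open Pi1

namespace Groth.Agent.S1189

open Limits

section Aux

variable {D : Type u} [Category.{v} D] [GaloisCategory D]
  (F : D ⥤ FintypeCat.{w}) [FiberFunctor F]

/-- The fibre of the terminal object is a subsingleton. -/
theorem subsingleton_fiber_terminal : Subsingleton (F.obj (⊤_ D)) := by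
  have hT : IsTerminal (F.obj (⊤_ D)) :=
    IsTerminal.isTerminalObj F _ terminalIsTerminal
  constructor
  intro a b
  have h1 : (FintypeCat.homMk (fun _ : PUnit.{w+1} => a) : FintypeCat.of PUnit.{w+1} ⟶ F.obj (⊤_ D)) =
      FintypeCat.homMk (fun _ : PUnit.{w+1} => b) := hT.hom_ext _ _
  have := congrArg (fun f => f PUnit.unit) h1
  exact this

/-- Automorphisms of the fibre functor act trivially on finite coproducts of terminal objects. -/
theorem trivial_of_iso {Y : D} {n : ℕ} (e : Y ≅ ∐ fun _ : Fin n => ⊤_ D)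
    (σ : Aut F) (y : F.obj Y) : σ.hom.app Y y = y := by
  have hsub := subsingleton_fiber_terminal F
  let c : Cofan (fun _ : Fin n => ⊤_ D) := Cofan.mk (∐ fun _ : Fin n => ⊤_ D) (Sigma.ι _)
  have hc : IsColimit c := coproductIsCoproduct _
  let s' : IsColimit (F.mapCocone c) := isColimitOfPreserves F hc
  obtain ⟨⟨j⟩, z, h⟩ := Concrete.isColimit_exists_rep _ s' (F.map e.hom y)
  have hz : (F.map (Sigma.ι (fun _ : Fin n => ⊤_ D) j)) z = F.map e.hom y := h
  have h1 : σ.hom.app _ (F.map e.hom y) = F.map e.hom y := by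
    rw [← hz]
    have := congrArg (fun f => f z) (σ.hom.naturality (Sigma.ι (fun _ : Fin n => ⊤_ D) j))
    simp only [FintypeCat.comp_apply] at this
    exact this.trans (by congr 1; exact Subsingleton.elim _ _)
  have h2 := congrArg (fun f => f y) (σ.hom.naturality e.hom)
  simp only [FintypeCat.comp_apply] at h2
  rw [h1] at h2
  have hinj : Function.Injective (F.map e.hom) := by
    have : IsIso (F.map e.hom) := inferInstance
    exact ((ConcreteCategory.isIso_iff_bijective (F.map e.hom)).mp this).1
  exact hinj h2.symm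

/-- A connected object on whose fibre all automorphisms act trivially (through a mono into
an object with trivial action) is terminal. -/
theorem isIso_terminal_from_of_trivial {Y Z : D} [IsConnected Z] (g : Z ⟶ Y) [Mono g]
    (htriv : ∀ (σ : Aut F) (y : F.obj Y), σ.hom.app Y y = y) : IsIso (terminal.from Z) := by
  have hsubT := subsingleton_fiber_terminal F
  have hinj : Function.Injective (F.map g) := ConcreteCategory.injective_of_mono_of_preservesPullback (F.map g)
  have hsubZ : Subsingleton (F.obj Z) := by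
    constructor
    intro a b
    obtain ⟨σ, hσ⟩ := MulAction.exists_smul_eq (Aut F) a b
    have hσ' : σ.hom.app Z a = b := hσ
    apply hinj
    have := congrArg (fun f => f a) (σ.hom.naturality g)
    simp only [FintypeCat.comp_apply] at this
    rw [hσ', htriv] at this
    exact this
  have hne : Nonempty (F.obj Z) := nonempty_fiber_of_isConnected F Z
  have hneT : Nonempty (F.obj (⊤_ D)) := hne.map (F.map (terminal.from Z))
  have : IsIso (F.map (terminal.from Z)) := by
    apply (ConcreteCategory.isIso_iff_bijective (F.map (terminal.from Z))).mpr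
    refine ⟨fun a b _ => Subsingleton.elim a b, fun t => ?_⟩
    obtain ⟨z⟩ := hne
    exact ⟨z, Subsingleton.elim _ _⟩
  exact isIso_of_reflects_iso (terminal.from Z) F

theorem trivial_iff (Y : D) :
    (∀ (σ : Aut F) (y : F.obj Y), σ.hom.app Y y = y) ↔
      ∃ n : ℕ, Nonempty (Y ≅ ∐ fun _ : Fin n => ⊤_ D) := by
  constructor
  · intro htriv
    obtain ⟨ι, f, g, hl, hc, hfin⟩ := has_decomp_connected_components Y
    have hiso : ∀ i, IsIso (terminal.from (f i)) := fun i => by
      have := hc i
      have : Mono (g i) := MonoCoprod.mono_inj _ (Cofan.mk Y g) hl i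
      exact isIso_terminal_from_of_trivial F (g i) htriv
    refine ⟨Nat.card ι, ⟨?_⟩⟩
    let e₁ : ∐ f ≅ Y := colimit.isoColimitCocone ⟨Cofan.mk Y g, hl⟩
    let eq : ι ≃ Fin (Nat.card ι) := Finite.equivFin ι
    let e₂ : ∐ f ≅ ∐ fun _ : Fin (Nat.card ι) => ⊤_ D :=
      Sigma.whiskerEquiv eq (fun j => haveI := hiso j; (asIso (terminal.from (f j))).symm)
    exact e₁.symm ≪≫ e₂
  · rintro ⟨n, ⟨e⟩⟩ σ y
    exact trivial_of_iso F e σ y

end Aux

/-- Let H : C ⥤ C' and H' : C' ⥤ C'' be exact functors between Galois categories and F'' a fibre functor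
on C'' such that F'' ∘ H' and F'' ∘ H' ∘ H are fibre functors; let h' : π_1(C'', F'') → π_1(C', F''
∘ H') and h : π_1(C', F'' ∘ H') → π_1(C, F'' ∘ H' ∘ H) be the induced homomorphisms. Then h ∘ h' is
trivial if and only if for every object X of C the object H'(H(X)) is isomorphic to a finite
coproduct of copies of the final object. -/
theorem result {C C' C'' : Type u} [Category.{v} C] [Category.{v} C'] [Category.{v} C'']
    [GaloisCategory C] [GaloisCategory C'] [GaloisCategory C'']
    (H : C ⥤ C') [Limits.PreservesFiniteLimits H] [Limits.PreservesFiniteColimits H]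
    (H' : C' ⥤ C'') [Limits.PreservesFiniteLimits H'] [Limits.PreservesFiniteColimits H']
    (F'' : C'' ⥤ FintypeCat.{w}) [FiberFunctor F''] [FiberFunctor (H' ⋙ F'')] [FiberFunctor (H ⋙ (H' ⋙ F''))] :
    (∀ σ : Aut F'', Pi1X.autWhisker H (H' ⋙ F'') (Pi1X.autWhisker H' F'' σ) = 1) ↔
      ∀ X : C, ∃ n : ℕ, Nonempty (H'.obj (H.obj X) ≅ ∐ fun _ : Fin n => ⊤_ C'') := by
  have key : (∀ σ : Aut F'', Pi1X.autWhisker H (H' ⋙ F'') (Pi1X.autWhisker H' F'' σ) = 1) ↔
      ∀ X : C, ∀ (σ : Aut F'') (y : F''.obj (H'.obj (H.obj X))),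
        σ.hom.app (H'.obj (H.obj X)) y = y := by
    constructor
    · intro h X σ y
      have h1 := h σ
      have h2 : (Pi1X.autWhisker H (H' ⋙ F'') (Pi1X.autWhisker H' F'' σ)).hom.app X =
          (1 : Aut (H ⋙ (H' ⋙ F''))).hom.app X := by rw [h1]
      have h3 := congrArg (fun f => f y) h2
      exact h3
    · intro h σ
      apply Iso.ext
      ext X y
      exact h X σ y
  rw [key]
  exact forall_congr' fun X => trivial_iff F'' (H'.obj (H.obj X))

end Groth.Agent.S1189
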