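import Groth.Statements.S1190
import Groth.Agent.S1187
import Groth.Agent.S1188
import Groth.Agent.S1189
import Groth.Agent.Lib.GaloisEssSurj
import Mathlib.Topology.Algebra.ClopenNhdofOne

set_option autoImplicit false
set_option linter.unusedSectionVars false
universe u v w
open CategoryTheory PreGaloisCategory
open Pi1

namespace Groth.Agent.S1190

open Limits Groth.Agent.Lib.GaloisEssSurj

section Aux

variable {C C' : Type u} [Category.{v} C] [Category.{v} C'] [GaloisCategory C] [GaloisCategory C']
    (H : C ⥤ C') (F' : C' ⥤ FintypeCat.{w}) [FiberFunctor F'] [FiberFunctor (H ⋙ F')]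

/-- If the kernel of `h` acts trivially on the fibre of `X'` and `h` is surjective then `X'` lies in
the essential image of `H`. -/
theorem exists_iso_of_ker_trivial (hsurj : Function.Surjective (Pi1X.autWhisker H F')) (X' : C')
    (hk : ∀ g : Aut F', Pi1X.autWhisker H F' g = 1 → ∀ s : F'.obj X', g • s = s) :
    ∃ X : C, Nonempty (H.obj X ≅ X') := by
  have hcont := Groth.Agent.S1188.continuous_autWhisker H F'
  -- elements with the same image act in the same way
  have hsame : ∀ a b : Aut F', Pi1X.autWhisker H F' a = Pi1X.autWhisker H F' b →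
      ∀ s : F'.obj X', a • s = b • s := by
    intro a b hab s
    have h1 : Pi1X.autWhisker H F' (b⁻¹ * a) = 1 := by
      rw [map_mul, map_inv, hab, inv_mul_cancel]
    have h2 := hk _ h1 s
    rw [mul_smul, inv_smul_eq_iff] at h2
    exact h2
  -- the induced action of `Aut (H ⋙ F')`
  let S : FintypeCat.{w} := F'.obj X'
  let smulG : Aut (H ⋙ F') → S → S := fun g s => ((hsurj g).choose • (s : F'.obj X') : F'.obj X')
  have hsmulG : ∀ (a : Aut F') (s : F'.obj X'), smulG (Pi1X.autWhisker H F' a) s = a • s := by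
    intro a s
    exact hsame _ _ (hsurj (Pi1X.autWhisker H F' a)).choose_spec s
  let _ : MulAction (Aut (H ⋙ F')) S :=
    { smul := smulG
      one_smul := fun s => by
        change smulG 1 s = s
        have := hsmulG 1 s
        rw [map_one, one_smul] at this
        exact this
      mul_smul := fun g₁ g₂ s => by
        change smulG (g₁ * g₂) s = smulG g₁ (smulG g₂ s)
        obtain ⟨a₁, rfl⟩ := hsurj g₁
        obtain ⟨a₂, rfl⟩ := hsurj g₂
        rw [← map_mul, hsmulG, hsmulG, hsmulG, mul_smul] }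
  have hsmul' : ∀ (a : Aut F') (s : S), (Pi1X.autWhisker H F' a) • s = (a • (s : F'.obj X') : F'.obj X') :=
    hsmulG
  have hqm : Topology.IsQuotientMap (Pi1X.autWhisker H F') :=
    hcont.isClosedMap.isQuotientMap hcont hsurj
  have hopen : ∀ s : S, IsOpen (MulAction.stabilizer (Aut (H ⋙ F')) s : Set (Aut (H ⋙ F'))) := by
    intro s
    rw [← hqm.isOpen_preimage]
    have : (Pi1X.autWhisker H F') ⁻¹' (MulAction.stabilizer (Aut (H ⋙ F')) s : Set (Aut (H ⋙ F'))) =
        (MulAction.stabilizer (Aut F') (s : F'.obj X') : Set (Aut F')) := by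
      ext a
      simp only [Set.mem_preimage, SetLike.mem_coe, MulAction.mem_stabilizer_iff]
      rw [hsmul']
    rw [this]
    exact stabilizer_isOpen (Aut F') (s : F'.obj X')
  obtain ⟨X, e, he⟩ := exists_obj_equiv (H ⋙ F') S hopen
  refine ⟨X, nonempty_iso_of_equivariant F' (H.obj X) X' e (fun a z => ?_)⟩
  have := he (Pi1X.autWhisker H F' a) z
  rw [hsmul'] at this
  exact this

/-- The kernel of the action on a fibre is closed. -/
theorem isClosed_ker_toPermHom (X' : C') :
    IsClosed ((MulAction.toPermHom (Aut F') (F'.obj X')).ker : Set (Aut F')) := by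
  have : ((MulAction.toPermHom (Aut F') (F'.obj X')).ker : Set (Aut F')) =
      ⋂ s : F'.obj X', (MulAction.stabilizer (Aut F') s : Set (Aut F')) := by
    ext g
    simp only [SetLike.mem_coe, MonoidHom.mem_ker, Set.mem_iInter, MulAction.mem_stabilizer_iff]
    rw [Equiv.Perm.ext_iff]
    rfl
  rw [this]
  exact isClosed_iInter (fun s => Subgroup.isClosed_of_isOpen _ (stabilizer_isOpen (Aut F') s))

/-- If every object on whose fibre a closed normal subgroup `N` acts trivially has trivial action of
`g`, then `g ∈ N`. -/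
theorem mem_of_forall_trivial (N : Subgroup (Aut F')) [N.Normal] (hN : IsClosed (N : Set (Aut F')))
    (g : Aut F')
    (hg : ∀ X' : C', (∀ n ∈ N, ∀ s : F'.obj X', n • s = s) → ∀ s : F'.obj X', g • s = s) :
    g ∈ N := by
  by_contra hgN
  have hN' := ProfiniteGrp.closedSubgroup_eq_sInf_open (⟨N, hN⟩ : ClosedSubgroup (Aut F'))
  obtain ⟨V, hVopen, hNV, hgV⟩ : ∃ V : Subgroup (Aut F'),
      IsOpen (V : Set (Aut F')) ∧ N ≤ V ∧ g ∉ V := by
    by_contra hno
    push Not at hno
    apply hgN
    have h1 : g ∈ sInf {V : Subgroup (Aut F') | IsOpen (V : Set (Aut F')) ∧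
        ((⟨N, hN⟩ : ClosedSubgroup (Aut F')) : Subgroup (Aut F')) ≤ V} :=
      Subgroup.mem_sInf.mpr (fun V hV => hno V hV.1 hV.2)
    rw [← hN'] at h1
    exact h1
  have hfin : Finite (Aut F' ⧸ V) := V.quotient_finite_of_isOpen hVopen
  have hfin' : Finite (Shrink.{w} (Aut F' ⧸ V)) := Finite.of_equiv _ (equivShrink _)
  have hft : Fintype (Shrink.{w} (Aut F' ⧸ V)) := Fintype.ofFinite _
  let S : FintypeCat.{w} := FintypeCat.of (Shrink.{w} (Aut F' ⧸ V))
  let eq : Shrink.{w} (Aut F' ⧸ V) ≃ (Aut F' ⧸ V) := (equivShrink _).symm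
  let _ : MulAction (Aut F') S :=
    { smul := fun a s => eq.symm (a • eq s)
      one_smul := fun s => by
        change eq.symm ((1 : Aut F') • eq s) = s
        rw [one_smul, Equiv.symm_apply_apply]
      mul_smul := fun a b s => by
        change eq.symm ((a * b) • eq s) = eq.symm (a • eq (eq.symm (b • eq s)))
        rw [Equiv.apply_symm_apply, mul_smul] }
  have hsmul : ∀ (a : Aut F') (s : S), a • s = eq.symm (a • eq s) := fun a s => rfl
  have hstab : ∀ (b a : Aut F'), b • (eq.symm (a : Aut F' ⧸ V) : S) = eq.symm (a : Aut F' ⧸ V) ↔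
      (b * a)⁻¹ * a ∈ V := by
    intro b a
    rw [hsmul, Equiv.apply_symm_apply, eq.symm.apply_eq_iff_eq, MulAction.Quotient.smul_mk,
      QuotientGroup.eq, smul_eq_mul]
  have hopen : ∀ s : S, IsOpen (MulAction.stabilizer (Aut F') s : Set (Aut F')) := by
    intro s
    obtain ⟨a, ha⟩ := QuotientGroup.mk_surjective (eq s)
    have hs : s = eq.symm (a : Aut F' ⧸ V) := by rw [ha, Equiv.symm_apply_apply]
    have : (MulAction.stabilizer (Aut F') s : Set (Aut F')) =
        (fun b : Aut F' => (b * a)⁻¹ * a) ⁻¹' (V : Set (Aut F')) := by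
      ext b
      rw [SetLike.mem_coe, MulAction.mem_stabilizer_iff, hs, hstab]
      rfl
    rw [this]
    exact hVopen.preimage (by fun_prop)
  obtain ⟨X', e, he⟩ := exists_obj_equiv F' S hopen
  have htrivS : ∀ n ∈ N, ∀ s : S, n • s = s := by
    intro n hn s
    obtain ⟨a, ha⟩ := QuotientGroup.mk_surjective (eq s)
    have hs : s = eq.symm (a : Aut F' ⧸ V) := by rw [ha, Equiv.symm_apply_apply]
    rw [hs, hstab]
    apply hNV
    have := Subgroup.Normal.conj_mem' (inferInstance : N.Normal) n⁻¹ (inv_mem hn) a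
    rw [mul_inv_rev]
    exact this
  have h2 := hg X' (fun n hn z => by
    apply e.injective
    rw [he, htrivS n hn])
  have h3 : g • (eq.symm ((1 : Aut F') : Aut F' ⧸ V) : S) = eq.symm ((1 : Aut F') : Aut F' ⧸ V) := by
    obtain ⟨z, hz⟩ := e.surjective (eq.symm ((1 : Aut F') : Aut F' ⧸ V) : S)
    rw [← hz, ← he, h2]
  rw [hstab, mul_one, mul_one] at h3
  exact hgV (inv_mem_iff.mp h3)

end Aux

/-- Let H : C ⥤ C' and H' : C' ⥤ C'' be exact functors between Galois categories, F'' a fibre functor on
C'' with F'' ∘ H' and F'' ∘ H' ∘ H fibre functors, and h', h the induced homomorphisms of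
fundamental groups. Then: h is surjective, h ∘ h' is trivial and the kernel of h is the closed
normal subgroup generated by the image of h', if and only if H is fully faithful and its essential
image consists exactly of those X' in C' for which H'(X') is a finite coproduct of copies of the
final object. -/
theorem result {C C' C'' : Type u} [Category.{v} C] [Category.{v} C'] [Category.{v} C'']
    [GaloisCategory C] [GaloisCategory C'] [GaloisCategory C'']
    (H : C ⥤ C') [Limits.PreservesFiniteLimits H] [Limits.PreservesFiniteColimits H]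
    (H' : C' ⥤ C'') [Limits.PreservesFiniteLimits H'] [Limits.PreservesFiniteColimits H']
    (F'' : C'' ⥤ FintypeCat.{w}) [FiberFunctor F''] [FiberFunctor (H' ⋙ F'')] [FiberFunctor (H ⋙ (H' ⋙ F''))] :
    (Function.Surjective (Pi1X.autWhisker H (H' ⋙ F'')) ∧
      (∀ σ : Aut F'', Pi1X.autWhisker H (H' ⋙ F'') (Pi1X.autWhisker H' F'' σ) = 1) ∧
      (Pi1X.autWhisker H (H' ⋙ F'')).ker = (Subgroup.normalClosure (Set.range (Pi1X.autWhisker H' F''))).topologicalClosure) ↔
    ((H.Full ∧ H.Faithful) ∧
      ∀ X' : C', (∃ X : C, Nonempty (H.obj X ≅ X')) ↔ ∃ n : ℕ, Nonempty (H'.obj X' ≅ ∐ fun _ : Fin n => ⊤_ C'')) := by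
  have hS1187 := Groth.Agent.S1187.result H (H' ⋙ F'')
  have hS1189 := Groth.Agent.S1189.result H H' F''
  have htriv := fun Y : C'' => Groth.Agent.S1189.trivial_iff F'' Y
  have hcont := Groth.Agent.S1188.continuous_autWhisker H (H' ⋙ F'')
  have hkerClosed : IsClosed ((Pi1X.autWhisker H (H' ⋙ F'')).ker : Set (Aut (H' ⋙ F''))) := by
    have : ((Pi1X.autWhisker H (H' ⋙ F'')).ker : Set (Aut (H' ⋙ F''))) =
        (Pi1X.autWhisker H (H' ⋙ F'')) ⁻¹' {1} := by
      ext g
      rfl
    rw [this]
    exact isClosed_singleton.preimage hcont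
  constructor
  · rintro ⟨hsurj, hcomp, hker⟩
    refine ⟨hS1187.mp hsurj, fun X' => ⟨?_, ?_⟩⟩
    · rintro ⟨X, ⟨e⟩⟩
      obtain ⟨n, ⟨i⟩⟩ := hS1189.mp hcomp X
      exact ⟨n, ⟨(H'.mapIso e).symm ≪≫ i⟩⟩
    · intro hX'
      have ht := (htriv (H'.obj X')).mpr hX'
      apply exists_iso_of_ker_trivial H (H' ⋙ F'') hsurj X'
      intro g hg s
      have hle : (Subgroup.normalClosure (Set.range (Pi1X.autWhisker H' F''))).topologicalClosure ≤
          (MulAction.toPermHom (Aut (H' ⋙ F'')) ((H' ⋙ F'').obj X')).ker := by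
        apply Subgroup.topologicalClosure_minimal _ _ (isClosed_ker_toPermHom (H' ⋙ F'') X')
        apply Subgroup.normalClosure_le_normal
        rintro _ ⟨σ, rfl⟩
        rw [SetLike.mem_coe, MonoidHom.mem_ker, Equiv.Perm.ext_iff]
        intro y
        exact ht σ y
      have hg' : g ∈ (Pi1X.autWhisker H (H' ⋙ F'')).ker := hg
      rw [hker] at hg'
      have := hle hg'
      rw [MonoidHom.mem_ker, Equiv.Perm.ext_iff] at this
      exact this s
  · rintro ⟨hff, hess⟩
    have hsurj := hS1187.mpr hff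
    have hcomp := hS1189.mpr (fun X => (hess (H.obj X)).mp ⟨X, ⟨Iso.refl _⟩⟩)
    refine ⟨hsurj, hcomp, ?_⟩
    apply le_antisymm
    · intro g hg
      have hNclosed : IsClosed ((Subgroup.normalClosure
          (Set.range (Pi1X.autWhisker H' F''))).topologicalClosure : Set (Aut (H' ⋙ F''))) :=
        Subgroup.isClosed_topologicalClosure _
      have hNnormal : ((Subgroup.normalClosure
          (Set.range (Pi1X.autWhisker H' F''))).topologicalClosure).Normal :=
        Subgroup.is_normal_topologicalClosure _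
      apply mem_of_forall_trivial (H' ⋙ F'') _ hNclosed g
      intro X' hN s
      have ht : ∀ (σ : Aut F'') (y : F''.obj (H'.obj X')), σ.hom.app (H'.obj X') y = y := by
        intro σ y
        exact hN (Pi1X.autWhisker H' F'' σ)
          (Subgroup.le_topologicalClosure _ (Subgroup.subset_normalClosure ⟨σ, rfl⟩)) y
      obtain ⟨X, ⟨i⟩⟩ := (hess X').mpr ((htriv (H'.obj X')).mp ht)
      have hiso : IsIso ((H' ⋙ F'').map i.hom) := inferInstance
      obtain ⟨z, rfl⟩ := ((ConcreteCategory.isIso_iff_bijective ((H' ⋙ F'').map i.hom)).mp hiso).2 s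
      have h1 : g • z = z := by
        have := congrArg (fun τ : Aut (H ⋙ (H' ⋙ F'')) => τ.hom.app X z) (show Pi1X.autWhisker H (H' ⋙ F'') g = 1 from hg)
        exact this
      rw [mulAction_naturality, h1]
    · apply Subgroup.topologicalClosure_minimal _ _ hkerClosed
      apply Subgroup.normalClosure_le_normal
      rintro _ ⟨σ, rfl⟩
      exact hcomp σ

end Groth.Agent.S1190
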