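import Groth.Statements.S1191
import Groth.Agent.Lib.FiberAssAvoid88

set_option autoImplicit false
universe u
open FlatMor

namespace Groth.Agent.S1191

open TensorProduct in
/-- For a finitely presented algebra S over R, a finitely presented S-module N and a prime q of S over
p, some element of S outside q maps into every associated prime of the fibre module of N over p that
is not contained in the extension of q to the fibre ring. -/
theorem result {R S : Type u} [CommRing R] [CommRing S] [Algebra R S] [Algebra.FinitePresentation R S]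
    (N : Type u) [AddCommGroup N] [Module S N] [Module R N] [IsScalarTower R S N] [Module.FinitePresentation S N]
    (p : Ideal R) [p.IsPrime] (q : Ideal S) [q.IsPrime] [q.LiesOver p] :
    ∃ g : S, g ∉ q ∧ ∀ r ∈ associatedPrimes (p.Fiber S) (FlatCA.fiberMod p S N),
      ¬ r ≤ FlatCA.fiberIdeal p q → (1 : p.ResidueField) ⊗ₜ[R] g ∈ r := by
  classical
  have hft : Algebra.FiniteType p.ResidueField (p.Fiber S) := inferInstance
  have hnoeth : IsNoetherianRing (p.Fiber S) :=
    Algebra.FiniteType.isNoetherianRing p.ResidueField _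
  let _ : Algebra S (p.Fiber S) := Algebra.TensorProduct.rightAlgebra
  have hmf : Module.Finite (p.Fiber S) (FlatCA.fiberMod p S N) :=
    inferInstanceAs (Module.Finite (p.Fiber S) ((p.Fiber S) ⊗[S] N))
  have hfin := associatedPrimes.finite (p.Fiber S) (FlatCA.fiberMod p S N)
  -- witnesses
  have hw : ∀ r ∈ associatedPrimes (p.Fiber S) (FlatCA.fiberMod p S N),
      ¬ r ≤ FlatCA.fiberIdeal p q → ∃ s : S, s ∉ q ∧ (1 : p.ResidueField) ⊗ₜ[R] s ∈ r := by
    intro r hr hnle
    obtain ⟨x, hxr, hxq⟩ := SetLike.not_le_iff_exists.mp hnle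
    obtain ⟨a, ha, s, hs⟩ := Ideal.Fiber.exists_smul_eq_one_tmul p x
    have hunit : IsUnit (algebraMap R (p.Fiber S) a) := by
      rw [IsScalarTower.algebraMap_apply R p.ResidueField (p.Fiber S)]
      apply IsUnit.map
      rw [isUnit_iff_ne_zero, Ne, Ideal.algebraMap_residueField_eq_zero]
      exact ha
    rw [Algebra.smul_def] at hs
    refine ⟨s, ?_, ?_⟩
    · intro hsq
      apply hxq
      have h1 : (1 : p.ResidueField) ⊗ₜ[R] s ∈ FlatCA.fiberIdeal p q :=
        Ideal.mem_map_of_mem _ hsq
      rw [← hs] at h1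
      exact (Ideal.unit_mul_mem_iff_mem _ hunit).mp h1
    · rw [← hs]
      exact Ideal.mul_mem_left _ _ hxr
  let w : Ideal (p.Fiber S) → S := fun r =>
    if h : r ∈ associatedPrimes (p.Fiber S) (FlatCA.fiberMod p S N) ∧
        ¬ r ≤ FlatCA.fiberIdeal p q then Classical.choose (hw r h.1 h.2) else 1
  have hwq : ∀ r, w r ∉ q := by
    intro r
    by_cases h : r ∈ associatedPrimes (p.Fiber S) (FlatCA.fiberMod p S N) ∧
        ¬ r ≤ FlatCA.fiberIdeal p q
    · simp only [w, dif_pos h]
      exact (Classical.choose_spec (hw r h.1 h.2)).1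
    · simp only [w, dif_neg h]
      exact fun h1 => (inferInstance : q.IsPrime).ne_top ((Ideal.eq_top_iff_one _).mpr h1)
  refine ⟨∏ r ∈ hfin.toFinset, w r, ?_, ?_⟩
  · intro hmem
    obtain ⟨r, -, hr⟩ := Ideal.IsPrime.prod_mem_iff.mp hmem
    exact hwq r hr
  · intro r hr hnle
    have hdvd : w r ∣ ∏ r ∈ hfin.toFinset, w r :=
      Finset.dvd_prod_of_mem _ (hfin.mem_toFinset.mpr hr)
    have hwr : (1 : p.ResidueField) ⊗ₜ[R] (w r) ∈ r := by
      simp only [w, dif_pos (And.intro hr hnle)]
      exact (Classical.choose_spec (hw r hr hnle)).2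
    obtain ⟨c, hc⟩ := hdvd
    rw [hc]
    have : (1 : p.ResidueField) ⊗ₜ[R] (w r * c) =
        ((1 : p.ResidueField) ⊗ₜ[R] (w r)) * ((1 : p.ResidueField) ⊗ₜ[R] c) := by
      rw [Algebra.TensorProduct.tmul_mul_tmul, one_mul]
    rw [this]
    exact Ideal.mul_mem_right _ _ hwr

end Groth.Agent.S1191
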