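import Groth.Statements.S1193
import Groth.Agent.Lib.FiberAssAvoid88

set_option autoImplicit false
universe u
open FlatMor

namespace Groth.Agent.S1193

open IsLocalRing in
/-- Let R be a local ring, S an R-algebra whose closed fibre ring is Noetherian and N an S-module whose
closed fibre module N/𝔪N is finite. Let Σ be the set of elements of S acting injectively on N/𝔪N.
Then a prime of S is disjoint from Σ exactly when it lies inside an associated prime of N/𝔪N (the
primes of the localization at Σ), the localization of S at Σ has finitely many maximal ideals, and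
an ideal of that localization is maximal exactly when it is prime and contracts to a maximal member
of the set of associated primes of N/𝔪N. -/
theorem result {R S : Type u} [CommRing R] [IsLocalRing R] [CommRing S] [Algebra R S]
    (N : Type u) [AddCommGroup N] [Module S N] [Module R N] [IsScalarTower R S N]
    [IsNoetherianRing ((maximalIdeal R).Fiber S)]
    [Module.Finite ((maximalIdeal R).Fiber S) (FlatCA.fiberMod (maximalIdeal R) S N)] :
    (∀ (q : Ideal S) [q.IsPrime], Disjoint (q : Set S) (FlatCA.nzdFiber R S N) ↔
        ∃ q' ∈ associatedPrimes S (FlatCA.fiberMod (maximalIdeal R) S N), q ≤ q') ∧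
    {Q : Ideal (Localization (FlatCA.nzdFiber R S N)) | Q.IsMaximal}.Finite ∧
    (∀ Q : Ideal (Localization (FlatCA.nzdFiber R S N)), Q.IsMaximal ↔ (Q.IsPrime ∧
        Maximal (fun r => r ∈ associatedPrimes S (FlatCA.fiberMod (maximalIdeal R) S N))
          (Q.comap (algebraMap S (Localization (FlatCA.nzdFiber R S N)))))) := by
  let : Algebra S ((maximalIdeal R).Fiber S) := Algebra.TensorProduct.rightAlgebra
  have hφ : Function.Surjective (algebraMap S ((maximalIdeal R).Fiber S)) := by
    intro x
    obtain ⟨s, hs⟩ := TensorProduct.mk_surjective R S (maximalIdeal R).ResidueField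
      (maximalIdeal R).algebraMap_residueField_surjective x
    exact ⟨s, hs⟩
  have : IsScalarTower S ((maximalIdeal R).Fiber S) (FlatCA.fiberMod (maximalIdeal R) S N) :=
    inferInstanceAs (IsScalarTower S ((maximalIdeal R).Fiber S)
      (TensorProduct S ((maximalIdeal R).Fiber S) N))
  refine ⟨?_, ?_, ?_⟩
  · intro q _
    exact Groth.Agent.Lib.FiberAssAvoid88.disjoint_nonZeroSMulDivisors_iff
      (F := (maximalIdeal R).Fiber S) (T := FlatCA.fiberMod (maximalIdeal R) S N) hφ q
  · exact Groth.Agent.Lib.FiberAssAvoid88.finite_isMaximal
      (F := (maximalIdeal R).Fiber S) (FlatCA.fiberMod (maximalIdeal R) S N)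
      (Localization (FlatCA.nzdFiber R S N)) hφ
  · intro Q
    exact Groth.Agent.Lib.FiberAssAvoid88.isMaximal_iff
      (F := (maximalIdeal R).Fiber S) (T := FlatCA.fiberMod (maximalIdeal R) S N)
      (Localization (FlatCA.nzdFiber R S N)) hφ Q

end Groth.Agent.S1193
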