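import Groth.Statements.S2124
import Groth.Agent.S17539
import Groth.Agent.Lib.AdicFree
import Groth.Agent.Lib.UnivInj

set_option autoImplicit false
universe u
open CAlg

namespace Groth.Agent.S2124

/-- Let `R` be Noetherian and `I`-adically complete and `α` any index set. The map from the `I`-adic
completion of the direct sum `⊕_α R` to the product `∏_α R^∧ = ∏_α R`, induced by the coordinate
projections, is universally injective. -/
theorem result {R : Type u} [CommRing R] [IsNoetherianRing R] (I : Ideal R)
    [IsAdicComplete I R] (α : Type u) :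
    CAlgX.UniversallyInjective R
      (LinearMap.pi fun a : α => AdicCompletion.map I (Finsupp.lapply a : (α →₀ R) →ₗ[R] R) :
        AdicCompletion I (α →₀ R) →ₗ[R] (α → AdicCompletion I R)) := by
  classical
  have hI : I.FG := IsNoetherian.noetherian I
  have hjac : I ≤ Ideal.jacobson ⊥ := IsAdicComplete.le_jacobson_bot I
  have hc : IsAdicComplete I (AdicCompletion I R) := AdicCompletion.isAdicComplete hI
  -- the inclusion of decaying functions is universally injective
  have hfp : ∀ (Q : Type u) [AddCommGroup Q] [Module R Q], Module.FinitePresentation R Q →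
      Function.Injective ((W4c5adicflatcompl.decaying I α R).subtype.rTensor Q) := by
    intro Q _ _ hQ
    have hfin : Module.Finite R Q := inferInstance
    have h1 : Function.Injective ((W4c5adicflatcompl.decaying I α R).subtype.lTensor Q) := by
      have := Groth.Agent.Lib.AdicDecaying.theta_injective (M := Q) (Z := α) I hjac
      exact Function.Injective.of_comp this
    have h2 : (W4c5adicflatcompl.decaying I α R).subtype.rTensor Q =
        (TensorProduct.comm R Q (α → R)).toLinearMap ∘ₗ
          (W4c5adicflatcompl.decaying I α R).subtype.lTensor Q ∘ₗ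
          (TensorProduct.comm R (W4c5adicflatcompl.decaying I α R) Q).toLinearMap := by
      ext
      simp
    rw [h2]
    exact (TensorProduct.comm R Q (α → R)).injective.comp
      (h1.comp (TensorProduct.comm R (W4c5adicflatcompl.decaying I α R) Q).injective)
  have heq := Groth.Agent.Lib.UnivInj.equational_of_forall_finitePresentation _ hfp
  -- transport along the identifications
  obtain ⟨hinj, hrange⟩ := Groth.Agent.S17539.result I α R
  let e1 : AdicCompletion I (α →₀ R) ≃ₗ[R]
      W4c5adicflatcompl.decaying I α (AdicCompletion I R) :=
    (LinearEquiv.ofInjective _ hinj).trans (LinearEquiv.ofEq _ _ hrange)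
  let E1 : AdicCompletion I (α →₀ R) ≃ₗ[R] W4c5adicflatcompl.decaying I α R :=
    e1.trans (Groth.Agent.Lib.AdicFree.decayingCongr I α (AdicCompletion.ofLinearEquiv I R).symm)
  let E2 : (α → R) ≃ₗ[R] (α → AdicCompletion I R) :=
    LinearEquiv.piCongrRight (fun _ => AdicCompletion.ofLinearEquiv I R)
  have hfact : (LinearMap.pi fun a : α =>
      AdicCompletion.map I (Finsupp.lapply a : (α →₀ R) →ₗ[R] R) :
        AdicCompletion I (α →₀ R) →ₗ[R] (α → AdicCompletion I R)) =
      E2.toLinearMap ∘ₗ (W4c5adicflatcompl.decaying I α R).subtype ∘ₗ E1.toLinearMap := by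
    apply LinearMap.ext
    intro x
    funext z
    show _ = AdicCompletion.ofLinearEquiv I R ((AdicCompletion.ofLinearEquiv I R).symm
      ((e1 x : α → AdicCompletion I R) z))
    rw [LinearEquiv.apply_symm_apply]
    rfl
  intro Q _ _
  rw [hfact, LinearMap.rTensor_comp, LinearMap.rTensor_comp]
  have hE2 : Function.Injective (E2.toLinearMap.rTensor Q) :=
    (LinearEquiv.rTensor Q E2).injective
  have hE1 : Function.Injective (E1.toLinearMap.rTensor Q) :=
    (LinearEquiv.rTensor Q E1).injective
  exact hE2.comp ((Groth.Agent.Lib.UnivInj.rTensor_injective_of_equational _ heq Q).comp hE1)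

end Groth.Agent.S2124
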