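import Groth.Statements.S6347
import Mathlib.LinearAlgebra.TensorProduct.Pi
import Mathlib.LinearAlgebra.TensorProduct.Finiteness
import Mathlib.RingTheory.Flat.Basic
import Mathlib.RingTheory.Noetherian.Basic

set_option autoImplicit false
universe u
open CAlg

namespace Groth.Agent.S6347

open TensorProduct

section
variable (R : Type u) [CommRing R] (A : Type u)

/-- evaluation map `(A → R) ⊗ Q → (A → Q)`. -/
noncomputable def ev (Q : Type u) [AddCommGroup Q] [Module R Q] :
    (A → R) ⊗[R] Q →ₗ[R] (A → Q) :=
  LinearMap.pi fun a => (TensorProduct.lid R Q).toLinearMap ∘ₗ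
    (LinearMap.proj (R := R) (φ := fun _ : A => R) a).rTensor Q

lemma ev_tmul (Q : Type u) [AddCommGroup Q] [Module R Q] (f : A → R) (q : Q) (a : A) :
    ev R A Q (f ⊗ₜ[R] q) a = f a • q := by
  simp [ev]

lemma ev_natural {Q Q' : Type u} [AddCommGroup Q] [Module R Q] [AddCommGroup Q'] [Module R Q']
    (g : Q →ₗ[R] Q') (t : (A → R) ⊗[R] Q) (a : A) :
    ev R A Q' (g.lTensor (A → R) t) a = g (ev R A Q t a) := by
  induction t using TensorProduct.induction_on with
  | zero => simp
  | tmul f q => simp [ev_tmul]
  | add x y hx hy => simp only [map_add, Pi.add_apply, hx, hy]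

lemma ev_injective [IsNoetherianRing R] (Q : Type u) [AddCommGroup Q] [Module R Q] :
    Function.Injective (ev R A Q) := by
  classical
  rw [injective_iff_map_eq_zero]
  intro t ht
  obtain ⟨F, rfl⟩ := TensorProduct.exists_finsupp_right t
  -- the finite index set
  set s := F.support with hs
  -- the map `(s → R) → Q`
  let π : (s → R) →ₗ[R] Q := Fintype.linearCombination R (fun q : s => (q : Q))
  have hK : (LinearMap.ker π).FG := IsNoetherian.noetherian _
  obtain ⟨m, k, hk⟩ := Submodule.fg_iff_exists_fin_generating_family.mp hK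
  -- the vectors v_a
  have hv : ∀ a : A, (fun q : s => F q a) ∈ LinearMap.ker π := by
    intro a
    rw [LinearMap.mem_ker]
    have := congrFun ht a
    simp only [Finsupp.sum, map_sum, Finset.sum_apply, ev_tmul, Pi.zero_apply] at this
    rw [← this]
    simp only [π, Fintype.linearCombination_apply]
    rw [← Finset.sum_coe_sort s]
  have hc : ∀ a : A, ∃ c : Fin m → R, ∑ l, c l • k l = (fun q : s => F q a) := by
    intro a
    have := hv a
    rw [← hk, Submodule.mem_span_range_iff_exists_fun] at this
    exact this
  choose c hc using hc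
  have hkπ : ∀ l, π (k l) = 0 := by
    intro l
    have : k l ∈ LinearMap.ker π := by
      rw [← hk]; exact Submodule.subset_span ⟨l, rfl⟩
    exact this
  -- rewrite F q
  have hF : ∀ q : s, F q = ∑ l, (k l q) • (fun a => c a l) := by
    intro q
    funext a
    have := congrFun (hc a) q
    simp only [Finset.sum_apply, Pi.smul_apply, smul_eq_mul] at this ⊢
    rw [← this]
    exact Finset.sum_congr rfl fun l _ => mul_comm _ _
  rw [Finsupp.sum, ← Finset.sum_coe_sort s]
  calc ∑ q : s, F q ⊗ₜ[R] (q : Q)
      = ∑ q : s, ∑ l, (fun a => c a l) ⊗ₜ[R] ((k l q) • (q : Q)) := by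
        refine Finset.sum_congr rfl fun q _ => ?_
        rw [hF q, TensorProduct.sum_tmul]
        refine Finset.sum_congr rfl fun l _ => ?_
        rw [TensorProduct.smul_tmul]
    _ = ∑ l, (fun a => c a l) ⊗ₜ[R] (π (k l)) := by
        rw [Finset.sum_comm]
        refine Finset.sum_congr rfl fun l _ => ?_
        rw [← TensorProduct.tmul_sum]
        simp only [π, Fintype.linearCombination_apply]
    _ = 0 := by
        simp [hkπ]

end

/-- Over a Noetherian ring R, the product module R^A (functions from any set A to R) is flat and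
Mittag-Leffler. -/
theorem result (R : Type u) [CommRing R] [IsNoetherianRing R]
    (A : Type u) : Module.Flat R (A → R) ∧ CAlg.IsMittagLeffler R (A → R) := by
  constructor
  · rw [Module.Flat.iff_lTensor_preserves_injective_linearMap]
    intro N N' _ _ _ _ f hf
    rw [injective_iff_map_eq_zero]
    intro t ht
    apply ev_injective R A N
    rw [map_zero]
    funext a
    apply hf
    rw [← ev_natural, ht]
    simp
  · intro ι Q _ _
    rw [injective_iff_map_eq_zero]
    intro t ht
    apply ev_injective R A (∀ i, Q i)
    rw [map_zero]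
    funext a i
    have h1 : ev R A (∀ i, Q i) t a i =
        ev R A (Q i) ((LinearMap.proj i : (∀ i, Q i) →ₗ[R] Q i).lTensor (A → R) t) a := by
      rw [ev_natural]; rfl
    have h2 : ∀ t : (A → R) ⊗[R] (∀ i, Q i),
        (LinearMap.proj i : (∀ i, Q i) →ₗ[R] Q i).lTensor (A → R) t =
        TensorProduct.piRightHom R R (A → R) Q t i := by
      intro t
      induction t using TensorProduct.induction_on with
      | zero => simp
      | tmul f q => simp
      | add x y hx hy => simp only [map_add, Pi.add_apply, hx, hy]
    rw [h1, h2, ht]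
    simp

end Groth.Agent.S6347
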