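import Groth.Statements.S1197
import Groth.Agent.S0550
import Groth.Agent.S2124
import Groth.Agent.S6338
import Groth.Agent.S6347

set_option autoImplicit false
universe u
open FlatMor

namespace Groth.Agent.S1197

/-- Over a Noetherian ring R which is I-adically complete, the I-adic completion of a free module on an
arbitrary index set is a flat and Mittag-Leffler R-module. (Flatness alone, without completeness of
R, is stated separately.) -/
theorem result (R : Type u) [CommRing R] [IsNoetherianRing R] (I : Ideal R) [IsAdicComplete I R] (α : Type u) :
    Module.Flat R (AdicCompletion I (α →₀ R)) ∧ CAlg.IsMittagLeffler R (AdicCompletion I (α →₀ R)) := by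
  refine ⟨Groth.Agent.S0550.result R I α, ?_⟩
  -- the product `α → R^` is Mittag-Leffler since `R^ ≃ R`
  let E2 : (α → AdicCompletion I R) ≃ₗ[R] (α → R) :=
    LinearEquiv.piCongrRight (fun _ => (AdicCompletion.ofLinearEquiv I R).symm)
  have hE2 : CAlgX.UniversallyInjective R E2.toLinearMap := by
    intro Q _ _
    exact (LinearEquiv.rTensor Q E2).injective
  have h1 : CAlg.IsMittagLeffler R (α → AdicCompletion I R) :=
    Groth.Agent.S6338.result R E2.toLinearMap hE2 (Groth.Agent.S6347.result R α).2
  exact Groth.Agent.S6338.result R _ (Groth.Agent.S2124.result I α) h1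

end Groth.Agent.S1197
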