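import Groth.Statements.S1199
import Groth.Agent.Lib.UnivInj
import Groth.Agent.Lib.AdicDecaying
import Mathlib.RingTheory.Filtration
import Mathlib.LinearAlgebra.TensorProduct.RightExactness
import Mathlib.RingTheory.AdicCompletion.Functoriality

set_option autoImplicit false
universe u
open FlatMor

namespace Groth.Agent.S1199

open TensorProduct

section Aux

variable {R S : Type*} [CommRing R] [CommRing S] [Algebra R S]
  (N : Type*) [AddCommGroup N] [Module S N] [Module R N] [IsScalarTower R S N]
  (Q : Type*) [AddCommGroup Q] [Module R Q]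

/-- `N ⊗[R] Q` is finite over `S` when `N` is finite over `S` and `Q` is finite over `R`. -/
theorem finite_tensor [Module.Finite S N] [Module.Finite R Q] : Module.Finite S (N ⊗[R] Q) := by
  classical
  obtain ⟨sN, hsN⟩ := (inferInstance : Module.Finite S N).fg_top
  obtain ⟨sQ, hsQ⟩ := (inferInstance : Module.Finite R Q).fg_top
  refine ⟨⟨Finset.image₂ (fun n q => n ⊗ₜ[R] q) sN sQ, eq_top_iff.mpr ?_⟩⟩
  rintro x -
  induction x with
  | zero => exact zero_mem _
  | add x y hx hy => exact add_mem hx hy
  | tmul n q =>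
    have hn : n ∈ Submodule.span S (sN : Set N) := hsN ▸ Submodule.mem_top
    have hq : q ∈ Submodule.span R (sQ : Set Q) := hsQ ▸ Submodule.mem_top
    induction hn using Submodule.span_induction with
    | mem n hn =>
      induction hq using Submodule.span_induction with
      | mem q hq =>
        refine Submodule.subset_span ?_
        rw [Finset.coe_image₂]
        exact ⟨n, hn, q, hq, rfl⟩
      | zero => rw [tmul_zero]; exact zero_mem _
      | add q q' _ _ hq hq' => rw [tmul_add]; exact add_mem hq hq'
      | smul r q _ hq =>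
        rw [tmul_smul, ← algebraMap_smul S r (n ⊗ₜ[R] q)]
        exact Submodule.smul_mem _ _ hq
    | zero => rw [zero_tmul]; exact zero_mem _
    | add n n' _ _ hn hn' => rw [add_tmul]; exact add_mem hn hn'
    | smul s n _ hn =>
      rw [← smul_tmul']
      exact Submodule.smul_mem _ _ hn

/-- The kernel of `N ⊗ Q → N^ ⊗ Q` lies in all `I ^ n • ⊤`. -/
theorem mem_pow_smul_top_of_rTensor_of_eq_zero (I : Ideal R) (z : N ⊗[R] Q)
    (hz : (AdicCompletion.of I N).rTensor Q z = 0) (n : ℕ) :
    z ∈ (I ^ n • ⊤ : Submodule R (N ⊗[R] Q)) := by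
  have h1 : (Submodule.mkQ (I ^ n • ⊤ : Submodule R N)).rTensor Q z = 0 := by
    have : (Submodule.mkQ (I ^ n • ⊤ : Submodule R N)) =
        (AdicCompletion.eval I N n) ∘ₗ (AdicCompletion.of I N) := by
      ext x
      simp
    rw [this, LinearMap.rTensor_comp, LinearMap.comp_apply, hz, map_zero]
  have hex := rTensor_exact Q (LinearMap.exact_subtype_mkQ (I ^ n • ⊤ : Submodule R N))
    (Submodule.mkQ_surjective _)
  obtain ⟨w, hw⟩ := (hex z).mp h1
  have key : ∀ w : (I ^ n • ⊤ : Submodule R N) ⊗[R] Q,
      (Submodule.subtype _).rTensor Q w ∈ (I ^ n • ⊤ : Submodule R (N ⊗[R] Q)) := by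
    intro w
    induction w with
    | zero => simp
    | add w w' hw hw' => rw [map_add]; exact add_mem hw hw'
    | tmul y q =>
      rw [LinearMap.rTensor_tmul, Submodule.subtype_apply]
      exact Groth.Agent.Lib.AdicDecaying.map_mem_pow_smul_top I
        ((TensorProduct.mk R N Q).flip q) n y.2
  rw [← hw]
  exact key w

/-- The `R`-submodule `I ^ n • ⊤` lies in the `S`-submodule `(I S) ^ n • ⊤`. -/
theorem mem_map_pow_smul_top (I : Ideal R) (n : ℕ) {z : N ⊗[R] Q}
    (hz : z ∈ (I ^ n • ⊤ : Submodule R (N ⊗[R] Q))) :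
    z ∈ ((I.map (algebraMap R S)) ^ n • ⊤ : Submodule S (N ⊗[R] Q)) := by
  refine Submodule.smul_induction_on hz ?_ ?_
  · intro a ha t _
    rw [← algebraMap_smul S a t]
    refine Submodule.smul_mem_smul ?_ Submodule.mem_top
    rw [← Ideal.map_pow]
    exact Ideal.mem_map_of_mem _ ha
  · intro x y hx hy
    exact add_mem hx hy

end Aux

open TensorProduct in
/-- Let R → S be a map of Noetherian rings, I an ideal of R and N a finite S-module. Assume that for
every finite R-module Q and every associated prime q of the S-module N ⊗_R Q the ideal IS + q is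
proper. Then the canonical map from N to its I-adic completion is universally injective as a map of
R-modules. -/
theorem result {R S : Type u} [CommRing R] [CommRing S] [Algebra R S] [IsNoetherianRing R] [IsNoetherianRing S] (I : Ideal R)
    (N : Type u) [AddCommGroup N] [Module S N] [Module R N] [IsScalarTower R S N] [Module.Finite S N]
    (h : ∀ (Q : Type u) [AddCommGroup Q] [Module R Q], Module.Finite R Q →
      ∀ q ∈ associatedPrimes S (N ⊗[R] Q), I.map (algebraMap R S) ⊔ q ≠ ⊤) :
    FlatCA.UnivInj R (AdicCompletion.of I N) := by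
  intro Q' _ _
  refine Groth.Agent.Lib.UnivInj.lTensor_injective_of_equational _
    (Groth.Agent.Lib.UnivInj.equational_of_forall_finitePresentation _ ?_) Q'
  intro Q _ _ hQ
  have hfin : Module.Finite R Q := inferInstance
  have hfinS : Module.Finite S (N ⊗[R] Q) := finite_tensor N Q
  rw [injective_iff_map_eq_zero]
  intro z hz
  have h2 : z ∈ (⨅ n : ℕ, (I.map (algebraMap R S)) ^ n • ⊤ : Submodule S (N ⊗[R] Q)) := by
    rw [Submodule.mem_iInf]
    intro n
    exact mem_map_pow_smul_top N Q I n (mem_pow_smul_top_of_rTensor_of_eq_zero N Q I z hz n)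
  obtain ⟨r, hr⟩ := (Ideal.mem_iInf_smul_pow_eq_bot_iff (I.map (algebraMap R S)) z).mp h2
  by_contra hz0
  obtain ⟨q, hq, hle⟩ := exists_le_isAssociatedPrime_of_isNoetherianRing S z hz0
  have h3 : (1 - (r : S)) ∈ q := by
    apply hle
    rw [Submodule.mem_colon_singleton, sub_smul, one_smul, hr, sub_self]
    exact Submodule.zero_mem _
  refine h Q hfin q hq ?_
  rw [Ideal.eq_top_iff_one]
  have : (1 : S) = (r : S) + (1 - (r : S)) := by ring
  rw [this]
  exact Submodule.add_mem_sup r.2 h3

end Groth.Agent.S1199
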