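import Groth.Statements.S19094
-- import your own Groth.Agent.* helpers here
import Mathlib

set_option autoImplicit false
set_option linter.style.haveILetI false
universe u
open FrobAlg

namespace Groth.Agent.S19094

/-- degree of a ring hom: the rank of the target as a module over the source. -/
noncomputable def rdeg {R S : Type*} [CommRing R] [CommRing S] (φ : R →+* S) : ℕ :=
  @Module.finrank R S _ _ φ.toAlgebra.toModule

lemma rdeg_eq {R S : Type*} [CommRing R] [CommRing S] [inst : Algebra R S] (φ : R →+* S)
    (h : ∀ r, algebraMap R S r = φ r) : rdeg φ = Module.finrank R S := by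
  have : φ.toAlgebra = inst := Algebra.algebra_ext _ _ (fun r => (h r).symm)
  unfold rdeg
  rw [this]

lemma rdeg_comp {R S T : Type*} [Field R] [Field S] [CommRing T] (φ : R →+* S) (ψ : S →+* T) :
    rdeg (ψ.comp φ) = rdeg φ * rdeg ψ := by
  letI := φ.toAlgebra
  letI := ψ.toAlgebra
  letI := (ψ.comp φ).toAlgebra
  haveI : IsScalarTower R S T := IsScalarTower.of_algebraMap_eq (fun x => rfl)
  exact (Module.finrank_mul_finrank R S T).symm

lemma rdeg_equiv {R S : Type*} [Field R] [Field S] (e : R ≃+* S) : rdeg (e : R →+* S) = 1 := by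
  letI := (e : R →+* S).toAlgebra
  let l : R ≃ₗ[R] S :=
    { toFun := e
      map_add' := map_add e
      map_smul' := fun r x => by
        show e (r * x) = e r * e x
        exact map_mul e r x
      invFun := e.symm
      left_inv := e.symm_apply_apply
      right_inv := e.apply_symm_apply }
  show Module.finrank R S = 1
  rw [← l.finrank_eq, Module.finrank_self]

section frob
variable (p : ℕ) [Fact p.Prime]

/-- T0 -/
lemma finrank_fieldRange (K : Type*) [Field K] [CharP K p] :
    Module.finrank (↥(frobenius K p).fieldRange) K = rdeg (frobenius K p) := by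
  have h1 : frobenius K p =
      ((frobenius K p).fieldRange.subtype).comp
        ((frobenius K p).rangeRestrictFieldEquiv : K →+* (frobenius K p).fieldRange) := by
    ext x; rfl
  rw [h1, rdeg_comp, rdeg_equiv, one_mul]
  rw [← h1]
  exact (rdeg_eq _ (fun _ => rfl)).symm

/-- T1 -/
lemma rdeg_frobenius_of_finite (M L : Type*) [Field M] [Field L] [Algebra M L]
    [FiniteDimensional M L] [CharP M p] [CharP L p] :
    rdeg (frobenius L p) = rdeg (frobenius M p) := by
  have h1 : ((frobenius L p).comp (algebraMap M L)) = (algebraMap M L).comp (frobenius M p) := by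
    ext x; simp [frobenius_def]
  have h2 := rdeg_comp (algebraMap M L) (frobenius L p)
  have h3 := rdeg_comp (frobenius M p) (algebraMap M L)
  rw [h1, h3] at h2
  have h4 : rdeg (algebraMap M L) = Module.finrank M L := rdeg_eq _ (fun _ => rfl)
  have h5 : 0 < Module.finrank M L := Module.finrank_pos
  rw [h4] at h2
  rw [mul_comm] at h2
  exact (Nat.eq_of_mul_eq_mul_left h5 h2).symm

/-- T5 -/
lemma rdeg_frobenius_of_equiv (K K' : Type*) [Field K] [Field K'] [CharP K p] [CharP K' p]
    (e : K ≃+* K') : rdeg (frobenius K' p) = rdeg (frobenius K p) := by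
  have h1 : ((frobenius K' p).comp (e : K →+* K')) = (e : K →+* K').comp (frobenius K p) := by
    ext x; simp [frobenius_def]
  have h2 := rdeg_comp (e : K →+* K') (frobenius K' p)
  have h3 := rdeg_comp (frobenius K p) (e : K →+* K')
  rw [h1, h3, rdeg_equiv, one_mul, mul_one] at h2
  exact h2.symm

end frob

/-- T2 generic -/
lemma rdeg_fraction {R S R' S' : Type*} [CommRing R] [CommRing S] [IsDomain R] [IsDomain S]
    [Field R'] [Field S'] [Algebra R R'] [IsFractionRing R R'] [Algebra S S'] [IsFractionRing S S']
    (φ : R →+* S) (φ' : R' →+* S') (hinj : Function.Injective φ)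
    (halg : ∀ s : S, ∃ n : ℕ, 0 < n ∧ s ^ n ∈ φ.range)
    (hcomp : ∀ r, φ' (algebraMap R R' r) = algebraMap S S' (φ r)) : rdeg φ' = rdeg φ := by
  letI := φ.toAlgebra
  letI := φ'.toAlgebra
  letI : Algebra R S' := ((algebraMap S S').comp φ).toAlgebra
  haveI : IsScalarTower R S S' := .of_algebraMap_eq fun _ => rfl
  haveI : IsScalarTower R R' S' := .of_algebraMap_eq fun r => (hcomp r).symm
  haveI : FaithfulSMul R S := (faithfulSMul_iff_algebraMap_injective R S).mpr hinj
  haveI : Algebra.IsIntegral R S := ⟨fun s => by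
    obtain ⟨n, hn, r, hr⟩ := halg s
    refine IsIntegral.of_pow hn ?_
    rw [← hr]
    exact isIntegral_algebraMap⟩
  haveI : Algebra.IsAlgebraic R S := Algebra.IsIntegral.isAlgebraic
  exact IsFractionRing.finrank_eq R R' S S'

lemma rdeg_frobenius_fraction (p : ℕ) [Fact p.Prime] (P E : Type*) [CommRing P] [IsDomain P] [Field E]
    [Algebra P E] [IsFractionRing P E] [CharP P p] [CharP E p] :
    rdeg (frobenius E p) = rdeg (frobenius P p) := by
  refine rdeg_fraction (frobenius P p) (frobenius E p) (frobenius_inj P p) ?_ ?_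
  · intro s
    exact ⟨p, (Fact.out : p.Prime).pos, s, rfl⟩
  · intro r
    simp [frobenius_def]

section T3
variable {F : Type*} [Field F] (p : ℕ) [hp : Fact p.Prime] [CharP F p]
variable {σ : Type*} [Fintype σ]

/-- exponent vector of a function to `Fin p`. -/
noncomputable def ex (a : σ → Fin p) : σ →₀ ℕ := Finsupp.equivFunOnFinite.symm (fun j => (a j : ℕ))

lemma ex_apply (a : σ → Fin p) (j : σ) : ex p a j = (a j : ℕ) := rfl

lemma coeff_pow_mul_monomial (h : MvPolynomial σ F) (e : σ → Fin p) (c : F) (m : σ →₀ ℕ)
    (a : σ → Fin p) :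
    MvPolynomial.coeff (p • m + ex p a) (h ^ p * MvPolynomial.monomial (ex p e) c) =
      if e = a then (MvPolynomial.coeff m h) ^ p * c else 0 := by
  have hp0 : p ≠ 0 := hp.out.ne_zero
  rw [← MvPolynomial.map_frobenius_expand, MvPolynomial.coeff_mul_monomial']
  split_ifs with h1 h2 h2
  · subst h2
    rw [add_tsub_cancel_right, MvPolynomial.coeff_map, MvPolynomial.coeff_expand_smul p hp0,
      frobenius_def]
  · obtain ⟨j, hj⟩ := Function.ne_iff.mp h2
    have hle := h1 j
    rw [Finsupp.add_apply, Finsupp.smul_apply, ex_apply, ex_apply, smul_eq_mul] at hle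
    have hnd : ¬ p ∣ (p • m + ex p a - ex p e) j := by
      rw [Finsupp.tsub_apply, Finsupp.add_apply, Finsupp.smul_apply, ex_apply, ex_apply, smul_eq_mul]
      rintro ⟨c', hc'⟩
      have h3 : p * m j + (a j : ℕ) = p * c' + (e j : ℕ) := by omega
      have h4 := congrArg (· % p) h3
      simp only [Nat.mul_add_mod, Nat.mod_eq_of_lt (a j).2, Nat.mod_eq_of_lt (e j).2] at h4
      exact hj (Fin.ext h4.symm)
    rw [MvPolynomial.coeff_map, MvPolynomial.coeff_expand_of_not_dvd _ hnd, map_zero, zero_mul]
  · subst h2
    exact absurd (le_add_self) h1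
  · rfl

lemma monomial_decomp (n : σ →₀ ℕ) : ∃ (m : σ →₀ ℕ) (a : σ → Fin p), n = p • m + ex p a := by
  refine ⟨n.mapRange (· / p) (by simp), fun j => ⟨n j % p, Nat.mod_lt _ hp.out.pos⟩, ?_⟩
  ext j
  rw [Finsupp.add_apply, Finsupp.smul_apply, ex_apply, Finsupp.mapRange_apply, smul_eq_mul]
  exact (Nat.div_add_mod (n j) p).symm

theorem rdeg_mvPolynomial {F₁ : Type*} [Field F₁] {P₁ : Type*} [CommRing P₁]
    (ψ : F₁ →+* F) (hψ : ∀ x : F, x ∈ ψ.range ↔ ∃ z, z ^ p = x)
    (φ : P₁ →+* MvPolynomial σ F) (hφi : Function.Injective φ)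
    (hφ : ∀ f : MvPolynomial σ F, f ∈ φ.range ↔ ∃ h, h ^ p = f) :
    rdeg φ = p ^ Fintype.card σ * rdeg ψ := by
  classical
  letI := ψ.toAlgebra
  letI := φ.toAlgebra
  let ι := Module.Free.ChooseBasisIndex F₁ F
  let b : Module.Basis ι F₁ F := Module.Free.chooseBasis F₁ F
  let v : ι × (σ → Fin p) → MvPolynomial σ F := fun x => MvPolynomial.monomial (ex p x.2) (b x.1)
  have hsm : ∀ (c : P₁) (f : MvPolynomial σ F), c • f = φ c * f := fun c f => rfl
  have hsmF : ∀ (c : F₁) (x : F), c • x = ψ c * x := fun c x => rfl
  have hH : ∀ c : P₁, ∃ h, h ^ p = φ c := fun c => (hφ (φ c)).mp ⟨c, rfl⟩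
  choose H hH using hH
  have hY : ∀ z : F, ∃ y : F₁, ψ y = z ^ p := fun z => (hψ (z ^ p)).mpr ⟨z, rfl⟩
  choose Y hY using hY
  have hli : LinearIndependent P₁ v := by
    rw [linearIndependent_iff]
    intro l hl
    rw [Finsupp.linearCombination_apply, Finsupp.sum] at hl
    -- rectangular superset
    set s₁ := l.support.image Prod.fst with hs₁
    have hsub : l.support ⊆ s₁ ×ˢ (Finset.univ : Finset (σ → Fin p)) := by
      intro x hx
      rw [Finset.mem_product]
      exact ⟨Finset.mem_image_of_mem _ hx, Finset.mem_univ _⟩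
    have hl2 : ∑ i ∈ s₁, ∑ a : σ → Fin p, l (i, a) • v (i, a) = 0 := by
      rw [← Finset.sum_product (s := s₁) (t := Finset.univ) (f := fun x => l x • v x), ← hl]
      symm
      apply Finset.sum_subset hsub
      intro x _ hx
      rw [Finsupp.notMem_support_iff.mp hx, zero_smul]
    have key : ∀ (a : σ → Fin p) (m : σ →₀ ℕ) (i : ι), i ∈ s₁ →
        MvPolynomial.coeff m (H (l (i, a))) = 0 := by
      intro a m
      have h1 := congrArg (MvPolynomial.coeff (p • m + ex p a)) hl2
      rw [MvPolynomial.coeff_sum, MvPolynomial.coeff_zero] at h1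
      have h2 : ∀ i ∈ s₁, MvPolynomial.coeff (p • m + ex p a)
          (∑ a' : σ → Fin p, l (i, a') • v (i, a')) =
          Y (MvPolynomial.coeff m (H (l (i, a)))) • b i := by
        intro i _
        rw [MvPolynomial.coeff_sum, Finset.sum_eq_single a]
        · rw [hsm, ← hH, coeff_pow_mul_monomial, if_pos rfl, hsmF, hY]
        · intro a' _ ha'
          rw [hsm, ← hH, coeff_pow_mul_monomial, if_neg ha']
        · intro h; exact absurd (Finset.mem_univ _) h
      rw [Finset.sum_congr rfl h2] at h1
      have h3 := linearIndependent_iff'.mp b.linearIndependent s₁ _ h1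
      intro i hi
      have h4 := h3 i hi
      have h5 : (MvPolynomial.coeff m (H (l (i, a)))) ^ p = 0 := by
        rw [← hY, h4, map_zero]
      exact pow_eq_zero_iff (hp.out.ne_zero) |>.mp h5
    ext ⟨i, a⟩
    rw [Finsupp.zero_apply]
    by_cases hx : (i, a) ∈ l.support
    · have hi : i ∈ s₁ := Finset.mem_image_of_mem Prod.fst hx
      have h6 : H (l (i, a)) = 0 := by
        ext m
        rw [MvPolynomial.coeff_zero]
        exact key a m i hi
      apply hφi
      rw [← hH, h6, zero_pow hp.out.ne_zero, map_zero]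
    · exact Finsupp.notMem_support_iff.mp hx
  have hsp : ⊤ ≤ Submodule.span P₁ (Set.range v) := by
    rintro f -
    induction f using MvPolynomial.induction_on' with
    | monomial n c =>
      obtain ⟨m, a, rfl⟩ := monomial_decomp p n
      have hc : c = ∑ i ∈ (b.repr c).support, (b.repr c i) • b i := by
        conv_lhs => rw [← b.linearCombination_repr c, Finsupp.linearCombination_apply, Finsupp.sum]
      rw [hc, map_sum]
      apply Submodule.sum_mem
      intro i _
      obtain ⟨z, hz⟩ := (hψ (ψ (b.repr c i))).mp ⟨_, rfl⟩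
      obtain ⟨g, hg⟩ := (hφ ((MvPolynomial.monomial m z) ^ p)).mpr ⟨_, rfl⟩
      have : MvPolynomial.monomial (p • m + ex p a) ((b.repr c i) • b i) = g • v (i, a) := by
        rw [hsm, hg, hsmF, ← hz, MvPolynomial.monomial_pow, MvPolynomial.monomial_mul]
      rw [this]
      exact Submodule.smul_mem _ _ (Submodule.subset_span ⟨(i, a), rfl⟩)
    | add f g hf hg => exact Submodule.add_mem _ hf hg
  let B := Module.Basis.mk hli hsp
  haveI : Nontrivial P₁ := φ.domain_nontrivial
  have h1 : rdeg φ = Module.finrank P₁ (MvPolynomial σ F) := rfl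
  have h2 : rdeg ψ = Module.finrank F₁ F := rfl
  rw [h1, h2, Module.finrank_eq_nat_card_basis B, Module.finrank_eq_nat_card_basis b, Nat.card_prod,
    Nat.card_eq_fintype_card (α := σ → Fin p), Fintype.card_fun, Fintype.card_fin, mul_comm]

lemma rdeg_frobenius_mvPolynomial [CharP (MvPolynomial σ F) p] :
    rdeg (frobenius (MvPolynomial σ F) p) = p ^ Fintype.card σ * rdeg (frobenius F p) := by
  refine rdeg_mvPolynomial p (frobenius F p) ?_ (frobenius (MvPolynomial σ F) p)
    (frobenius_inj _ p) ?_
  · intro x
    simp [RingHom.mem_range, frobenius_def]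
  · intro f
    simp [RingHom.mem_range, frobenius_def]

end T3

section T6
variable (p : ℕ) [hp : Fact p.Prime] (k : Type*) [Field k] [CharP k p]

lemma coeff_pow_p (g : PowerSeries k) (n : ℕ) :
    PowerSeries.coeff n (g ^ p) = if p ∣ n then (PowerSeries.coeff (n / p) g) ^ p else 0 := by
  have hp0 : p ≠ 0 := hp.out.ne_zero
  have h := MvPowerSeries.map_frobenius_expand (σ := Unit) (R := k) p hp0 (f := g)
  have h2 : g ^ p = PowerSeries.map (frobenius k p) (PowerSeries.expand p hp0 g) := h.symm
  rw [h2, PowerSeries.coeff_map, PowerSeries.coeff_expand]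
  split_ifs
  · rw [frobenius_def]
  · rw [map_zero]

lemma coeff_pow_mul_X_pow (g : PowerSeries k) (i : Fin p) (n : ℕ) :
    PowerSeries.coeff n (g ^ p * (PowerSeries.X : PowerSeries k) ^ (i : ℕ)) =
      if (i : ℕ) = n % p then (PowerSeries.coeff (n / p) g) ^ p else 0 := by
  have hp0 : 0 < p := hp.out.pos
  rw [PowerSeries.coeff_mul_X_pow']
  split_ifs with h1 h2 h2
  · rw [coeff_pow_p]
    have hdvd : p ∣ n - i := by
      rw [h2]
      exact (Nat.modEq_iff_dvd' (Nat.mod_le n p)).mp (Nat.mod_modEq n p)
    rw [if_pos hdvd]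
    have hdiv : (n - i) / p = n / p := by
      rw [h2, Nat.sub_eq_of_eq_add (Nat.div_add_mod n p).symm, Nat.mul_div_cancel_left _ hp0]
    rw [hdiv]
  · rw [coeff_pow_p, if_neg]
    intro hdvd
    apply h2
    have := (Nat.modEq_iff_dvd' h1).mpr hdvd
    have h3 : (i : ℕ) % p = n % p := this
    rw [Nat.mod_eq_of_lt i.2] at h3
    exact h3
  · exfalso
    apply h1
    rw [h2]
    exact Nat.mod_le n p
  · rfl

theorem rdeg_powerSeries [PerfectRing k p] {Q₁ : Type*} [CommRing Q₁]
    (φ : Q₁ →+* PowerSeries k) (hφi : Function.Injective φ)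
    (hφ : ∀ f : PowerSeries k, f ∈ φ.range ↔ ∃ h, h ^ p = f) :
    rdeg φ = p := by
  classical
  letI := φ.toAlgebra
  have hp0 : 0 < p := hp.out.pos
  let v : Fin p → PowerSeries k := fun i => (PowerSeries.X : PowerSeries k) ^ (i : ℕ)
  have hsm : ∀ (c : Q₁) (f : PowerSeries k), c • f = φ c * f := fun c f => rfl
  have hH : ∀ c : Q₁, ∃ h, h ^ p = φ c := fun c => (hφ (φ c)).mp ⟨c, rfl⟩
  choose H hH using hH
  have hli : LinearIndependent Q₁ v := by
    rw [Fintype.linearIndependent_iff]
    intro g hg i
    have key : ∀ m : ℕ, PowerSeries.coeff m (H (g i)) = 0 := by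
      intro m
      have h1 := congrArg (PowerSeries.coeff (m * p + i)) hg
      rw [map_sum, map_zero] at h1
      have hmod : (m * p + (i : ℕ)) % p = i := by
        rw [Nat.mul_add_mod_of_lt i.2]
      have hdiv : (m * p + (i : ℕ)) / p = m := by
        rw [mul_comm, Nat.mul_add_div hp0, Nat.div_eq_of_lt i.2, add_zero]
      rw [Finset.sum_eq_single i] at h1
      · rw [hsm, ← hH, coeff_pow_mul_X_pow, if_pos hmod.symm, hdiv] at h1
        exact (pow_eq_zero_iff hp.out.ne_zero).mp h1
      · intro j _ hj
        rw [hsm, ← hH, coeff_pow_mul_X_pow, if_neg]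
        rw [hmod]
        intro h
        exact hj (Fin.ext h)
      · intro h; exact absurd (Finset.mem_univ _) h
    apply hφi
    rw [← hH, map_zero]
    have : H (g i) = 0 := by
      ext m
      rw [key m, map_zero]
    rw [this, zero_pow hp.out.ne_zero]
  have hsp : ⊤ ≤ Submodule.span Q₁ (Set.range v) := by
    rintro f -
    let g : Fin p → PowerSeries k := fun i =>
      PowerSeries.mk fun m => (frobeniusEquiv k p).symm (PowerSeries.coeff (m * p + i) f)
    have hf : f = ∑ i : Fin p, (g i) ^ p * v i := by
      ext n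
      rw [map_sum]
      rw [Finset.sum_eq_single ⟨n % p, Nat.mod_lt n hp0⟩]
      · rw [coeff_pow_mul_X_pow, if_pos rfl, PowerSeries.coeff_mk]
        rw [frobeniusEquiv_symm_pow_p]
        show PowerSeries.coeff n f = PowerSeries.coeff (n / p * p + n % p) f
        rw [Nat.div_add_mod']
      · intro i _ hi
        rw [coeff_pow_mul_X_pow, if_neg]
        intro h
        apply hi
        exact Fin.ext h
      · intro h
        exact absurd (Finset.mem_univ _) h
    rw [hf]
    apply Submodule.sum_mem
    intro i _
    obtain ⟨c, hc⟩ := (hφ ((g i) ^ p)).mpr ⟨_, rfl⟩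
    rw [← hc, ← hsm]
    exact Submodule.smul_mem _ _ (Submodule.subset_span ⟨i, rfl⟩)
  let B := Module.Basis.mk hli hsp
  haveI : Nontrivial Q₁ := φ.domain_nontrivial
  have h1 : rdeg φ = Module.finrank Q₁ (PowerSeries k) := rfl
  rw [h1, Module.finrank_eq_card_basis B, Fintype.card_fin]

lemma rdeg_frobenius_powerSeries [PerfectRing k p] [CharP (PowerSeries k) p] :
    rdeg (frobenius (PowerSeries k) p) = p := by
  refine rdeg_powerSeries p k (frobenius (PowerSeries k) p) (frobenius_inj _ p) ?_
  intro f
  simp [RingHom.mem_range, frobenius_def]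

end T6

/-- Let p be a prime, k a finite field of characteristic p and K a finitely generated field extension of
the Laurent series field k((t)) of finite transcendence degree d. Then [K : K^p] = p^(d+1), where
K^p ⊆ K is the subfield of p-th powers (the image of the Frobenius). The case of interest is the
residue field of a generic point of a projective strictly semistable scheme of relative dimension d
over k[[t]], which is such an extension. -/
theorem result (p : ℕ) [Fact p.Prime]
    (k : Type u) [Field k] [Finite k] [CharP k p]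
    (K : Type u) [Field K] [Algebra (LaurentSeries k) K] [CharP K p]
    (hfg : (⊤ : IntermediateField (LaurentSeries k) K).FG)
    (d : ℕ) (hd : Algebra.trdeg (LaurentSeries k) K = d) :
    Module.finrank (↥(frobenius K p).fieldRange) K = p ^ (d + 1) := by
  classical
  haveI : CharP (LaurentSeries k) p :=
    charP_of_injective_algebraMap (algebraMap k (LaurentSeries k)).injective p
  haveI : CharP (PowerSeries k) p :=
    charP_of_injective_algebraMap (algebraMap k (PowerSeries k)).injective p
  haveI : PerfectRing k p := inferInstance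
  obtain ⟨s, hs⟩ := exists_isTranscendenceBasis (LaurentSeries k) K
  have hcard : Cardinal.mk s = d := by rw [← hd]; exact hs.cardinalMk_eq_trdeg
  haveI : Finite s := by
    rw [← Cardinal.lt_aleph0_iff_finite, hcard]
    exact Cardinal.nat_lt_aleph0 d
  haveI : Fintype s := Fintype.ofFinite s
  have hcard' : Fintype.card s = d := by
    have := hcard
    rw [Cardinal.mk_fintype] at this
    exact_mod_cast this
  set M := IntermediateField.adjoin (LaurentSeries k) (Set.range ((↑) : s → K)) with hM
  haveI : Algebra.IsAlgebraic M K := hs.isAlgebraic_field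
  haveI : FiniteDimensional M K := by
    obtain ⟨T, hT⟩ := hfg
    have h1 : FiniteDimensional M (IntermediateField.adjoin M (T : Set K)) :=
      IntermediateField.finiteDimensional_adjoin
        (fun x _ => (Algebra.IsAlgebraic.isAlgebraic x).isIntegral)
    have h2 : IntermediateField.adjoin M (T : Set K) = ⊤ := by
      rw [eq_top_iff]
      intro x _
      have : x ∈ (IntermediateField.adjoin M (T : Set K)).restrictScalars (LaurentSeries k) := by
        rw [IntermediateField.restrictScalars_adjoin]
        have : x ∈ IntermediateField.adjoin (LaurentSeries k) (T : Set K) := by rw [hT]; trivial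
        exact IntermediateField.adjoin.mono (LaurentSeries k) _ _ Set.subset_union_right this
      exact this
    rw [h2] at h1
    exact Module.Finite.equiv (IntermediateField.topEquiv (F := M) (E := K)).toLinearEquiv
  haveI : CharP M p := RingHom.charP (algebraMap M K) (algebraMap M K).injective p
  haveI : CharP (MvPolynomial s (LaurentSeries k)) p := inferInstance
  haveI : CharP (FractionRing (MvPolynomial s (LaurentSeries k))) p :=
    charP_of_injective_algebraMap (IsFractionRing.injective (MvPolynomial s (LaurentSeries k))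
      (FractionRing (MvPolynomial s (LaurentSeries k)))) p
  have e : FractionRing (MvPolynomial s (LaurentSeries k)) ≃ₐ[LaurentSeries k] M :=
    hs.1.aevalEquivField
  rw [finrank_fieldRange, rdeg_frobenius_of_finite p M K,
    rdeg_frobenius_of_equiv p (FractionRing (MvPolynomial s (LaurentSeries k))) M e.toRingEquiv,
    rdeg_frobenius_fraction p (MvPolynomial s (LaurentSeries k))
      (FractionRing (MvPolynomial s (LaurentSeries k))),
    rdeg_frobenius_mvPolynomial, hcard', rdeg_frobenius_fraction p (PowerSeries k) (LaurentSeries k),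
    rdeg_frobenius_powerSeries, pow_succ]

end Groth.Agent.S19094
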