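import Groth.Statements.S12056
import Mathlib
-- import your own Groth.Agent.* helpers here

set_option autoImplicit false
open Red

namespace Groth.Agent.S12056

open MvPowerSeries in
theorem mv_subst_ps_subst {R : Type*} [CommRing R] (b : Fin 2 → MvPowerSeries (Fin 2) R)
    (hb : MvPowerSeries.HasSubst b) (a : MvPowerSeries (Fin 2) R) (ha : PowerSeries.HasSubst a)
    (f : PowerSeries R) :
    MvPowerSeries.subst b (PowerSeries.subst a f) = PowerSeries.subst (MvPowerSeries.subst b a) f := by
  unfold PowerSeries.subst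
  rw [MvPowerSeries.subst_comp_subst_apply ha.const hb]

/-- substitution into a series with invertible linear term is injective. -/
theorem subst_injective_of_isUnit {R : Type*} [CommRing R] (P : PowerSeries R)
    (hP : PowerSeries.constantCoeff P = 0) (hP' : IsUnit (PowerSeries.coeff 1 P))
    (A B : MvPowerSeries (Fin 2) R) (hA : PowerSeries.HasSubst A) (hB : PowerSeries.HasSubst B)
    (h : PowerSeries.subst A P = PowerSeries.subst B P) : A = B := by
  have hPs : PowerSeries.HasSubst P := PowerSeries.HasSubst.of_constantCoeff_zero' hP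
  have key : ∀ C : MvPowerSeries (Fin 2) R, PowerSeries.HasSubst C →
      PowerSeries.subst (PowerSeries.subst C P) (P.substInvOfIsUnit hP') = C := by
    intro C hC
    rw [← PowerSeries.subst_comp_subst_apply hPs hC, PowerSeries.subst_substInvOfIsUnit_left P hP hP',
      PowerSeries.subst_X hC]
  rw [← key A hA, ← key B hB, h]

/-- In formal-power-series form, let R be a commutative ring and F ∈ R⟦X⟧ with constant term 1 whose
linear coefficient a is a unit of R. Suppose that in R⟦X₀, X₁⟧ one has F(X₀ + X₁ · F(X₀)) = F(X₀) ·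
F(X₁) (the functional equation F(x + y F(x)) = F(x) F(y)). Then F = 1 + a X. (The published
statement concerns a morphism to the multiplicative group from an open neighbourhood of the zero
section in the additive group over a base scheme, the identity holding on an open neighbourhood of
the origin of the plane on which all terms are defined, with a the derivative at 0; this row states
it for formal power series over a ring.) -/
theorem result (R : Type) [CommRing R] (F : PowerSeries R)
    (h0 : PowerSeries.constantCoeff F = 1) (ha : IsUnit (PowerSeries.coeff 1 F))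
    (hFE : PowerSeries.subst
        (MvPowerSeries.X (0 : Fin 2) + MvPowerSeries.X 1 * PowerSeries.subst (MvPowerSeries.X (0 : Fin 2)) F :
          MvPowerSeries (Fin 2) R) F =
      PowerSeries.subst (MvPowerSeries.X (0 : Fin 2)) F * PowerSeries.subst (MvPowerSeries.X (1 : Fin 2)) F) :
    F = 1 + PowerSeries.C (PowerSeries.coeff 1 F) * PowerSeries.X := by
  classical
  have hX0 : PowerSeries.HasSubst (MvPowerSeries.X (0 : Fin 2) : MvPowerSeries (Fin 2) R) :=
    PowerSeries.HasSubst.X 0
  have hX1 : PowerSeries.HasSubst (MvPowerSeries.X (1 : Fin 2) : MvPowerSeries (Fin 2) R) :=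
    PowerSeries.HasSubst.X 1
  have hA : PowerSeries.HasSubst (MvPowerSeries.X (0 : Fin 2) +
      MvPowerSeries.X 1 * PowerSeries.subst (MvPowerSeries.X (0 : Fin 2)) F : MvPowerSeries (Fin 2) R) :=
    hX0.add hX1.mul_left
  have hB : PowerSeries.HasSubst (MvPowerSeries.X (1 : Fin 2) +
      MvPowerSeries.X 0 * PowerSeries.subst (MvPowerSeries.X (1 : Fin 2)) F : MvPowerSeries (Fin 2) R) :=
    hX1.add hX0.mul_left
  -- the swap substitution
  let sw : Fin 2 → MvPowerSeries (Fin 2) R := fun i => MvPowerSeries.X (Equiv.swap (0 : Fin 2) 1 i)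
  have hsw : MvPowerSeries.HasSubst sw :=
    MvPowerSeries.hasSubst_of_constantCoeff_zero (fun i => by simp [sw])
  have hsw0 : MvPowerSeries.subst sw (MvPowerSeries.X (0 : Fin 2) : MvPowerSeries (Fin 2) R) =
      MvPowerSeries.X 1 := by
    rw [MvPowerSeries.subst_X hsw]; simp [sw]
  have hsw1 : MvPowerSeries.subst sw (MvPowerSeries.X (1 : Fin 2) : MvPowerSeries (Fin 2) R) =
      MvPowerSeries.X 0 := by
    rw [MvPowerSeries.subst_X hsw]; simp [sw]
  have hFE' : PowerSeries.subst
        (MvPowerSeries.X (1 : Fin 2) + MvPowerSeries.X 0 * PowerSeries.subst (MvPowerSeries.X (1 : Fin 2)) F :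
          MvPowerSeries (Fin 2) R) F =
      PowerSeries.subst (MvPowerSeries.X (1 : Fin 2)) F * PowerSeries.subst (MvPowerSeries.X (0 : Fin 2)) F := by
    have h1 := congrArg (MvPowerSeries.subst sw) hFE
    rw [mv_subst_ps_subst sw hsw _ hA, MvPowerSeries.subst_mul hsw, MvPowerSeries.subst_add hsw,
      MvPowerSeries.subst_mul hsw, mv_subst_ps_subst sw hsw _ hX0, mv_subst_ps_subst sw hsw _ hX1,
      hsw0, hsw1] at h1
    exact h1
  -- P = F - 1
  have hP0 : PowerSeries.constantCoeff (F - 1) = 0 := by simp [h0]
  have hP1 : IsUnit (PowerSeries.coeff 1 (F - 1)) := by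
    have : PowerSeries.coeff 1 (F - 1) = PowerSeries.coeff 1 F := by
      rw [map_sub, PowerSeries.coeff_one]; simp
    rw [this]; exact ha
  have hsubP : ∀ C : MvPowerSeries (Fin 2) R, PowerSeries.HasSubst C →
      PowerSeries.subst C (F - 1) = PowerSeries.subst C F - 1 := by
    intro C hC
    rw [sub_eq_add_neg, PowerSeries.subst_add hC, sub_eq_add_neg]
    congr 1
    rw [← PowerSeries.coe_substAlgHom hC, map_neg, map_one]
  have hAB : (MvPowerSeries.X (0 : Fin 2) +
      MvPowerSeries.X 1 * PowerSeries.subst (MvPowerSeries.X (0 : Fin 2)) F : MvPowerSeries (Fin 2) R) =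
      MvPowerSeries.X (1 : Fin 2) + MvPowerSeries.X 0 * PowerSeries.subst (MvPowerSeries.X (1 : Fin 2)) F := by
    apply subst_injective_of_isUnit (F - 1) hP0 hP1 _ _ hA hB
    rw [hsubP _ hA, hsubP _ hB, hFE, hFE', mul_comm]
  -- compare coefficients
  ext n
  rcases n with _ | _ | n
  · simp [h0]
  · simp
  · have he : (Finsupp.single (1 : Fin 2) 1 + Finsupp.single (0 : Fin 2) (n + 2) : Fin 2 →₀ ℕ) =
        Finsupp.single (0 : Fin 2) 1 + (Finsupp.single (0 : Fin 2) (n + 1) + Finsupp.single (1 : Fin 2) 1) := by
      ext i; fin_cases i <;> simp <;> omega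
    have hc := congrArg (MvPowerSeries.coeff (Finsupp.single (1 : Fin 2) 1 + Finsupp.single (0 : Fin 2) (n + 2))) hAB
    rw [map_add, map_add] at hc
    have t1 : MvPowerSeries.coeff (Finsupp.single (1 : Fin 2) 1 + Finsupp.single (0 : Fin 2) (n + 2))
        (MvPowerSeries.X (0 : Fin 2) : MvPowerSeries (Fin 2) R) = 0 := by
      rw [MvPowerSeries.coeff_X, if_neg]
      intro h
      have := DFunLike.congr_fun h (1 : Fin 2)
      simp at this
    have t3 : MvPowerSeries.coeff (Finsupp.single (1 : Fin 2) 1 + Finsupp.single (0 : Fin 2) (n + 2))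
        (MvPowerSeries.X (1 : Fin 2) : MvPowerSeries (Fin 2) R) = 0 := by
      rw [MvPowerSeries.coeff_X, if_neg]
      intro h
      have := DFunLike.congr_fun h (0 : Fin 2)
      simp at this
    have t2 : MvPowerSeries.coeff (Finsupp.single (1 : Fin 2) 1 + Finsupp.single (0 : Fin 2) (n + 2))
        (MvPowerSeries.X (1 : Fin 2) * PowerSeries.subst (MvPowerSeries.X (0 : Fin 2)) F :
          MvPowerSeries (Fin 2) R) = PowerSeries.coeff (n + 2) F := by
      rw [MvPowerSeries.X_def, MvPowerSeries.coeff_add_monomial_mul, one_mul,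
        PowerSeries.coeff_subst_single]
      simp
    have t4 : MvPowerSeries.coeff (Finsupp.single (1 : Fin 2) 1 + Finsupp.single (0 : Fin 2) (n + 2))
        (MvPowerSeries.X (0 : Fin 2) * PowerSeries.subst (MvPowerSeries.X (1 : Fin 2)) F :
          MvPowerSeries (Fin 2) R) = 0 := by
      rw [he, MvPowerSeries.X_def, MvPowerSeries.coeff_add_monomial_mul, one_mul,
        PowerSeries.coeff_subst_single, if_neg]
      intro h
      have := DFunLike.congr_fun h (0 : Fin 2)
      simp at this
    rw [t1, t2, t3, t4, zero_add, zero_add] at hc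
    rw [hc]
    simp [PowerSeries.coeff_one, PowerSeries.coeff_X]

end Groth.Agent.S12056
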