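import Groth.Statements.S12059
import Mathlib
import Groth.Agent.Lib.H8IsQuotBasis
import Groth.Agent.Lib.IsQuotLocal37

set_option autoImplicit false
universe u
open CategoryTheory CategoryTheory.Limits AlgebraicGeometry
open SGA1

namespace Groth.Agent.S12059

open Groth.Agent.Lib.H8IsQuotBasis Groth.Agent.Lib.IsQuotLocal37

/-- Let a finite group G act on a commutative ring A by ring automorphisms σ_g, and let B → A be
injective, G-equivariant for the trivial action on B, with image containing all G-invariants (so B
is the ring of invariants A^G). Let ρ be an action of G on Spec A by scheme automorphisms whose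
automorphisms are exactly the maps Spec(σ_g). Then Spec A ⟶ Spec B is a quotient of Spec A by G, and
the structure sheaf of Spec B is the sheaf of G-invariants of the direct image of the structure
sheaf of Spec A: the map is affine and G-invariant, and for every open U of Spec B the sections of
the structure sheaf of Spec B over U map injectively onto the G-invariant sections of the structure
sheaf of Spec A over the inverse image of U. -/
theorem result (G : Type u) [Group G] [Finite G] (A B : Type u) [CommRing A] [CommRing B]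
    [Algebra B A] [MulSemiringAction G A] [SMulCommClass G B A] [Algebra.IsInvariant B A G] [FaithfulSMul B A]
    (ρ : G →* Aut (Spec (CommRingCat.of A)))
    (hρ : Set.range (fun g : G => (ρ g).hom) =
      Set.range (fun g : G => Spec.map (CommRingCat.ofHom (MulSemiringAction.toRingHom G A g)))) :
    SGA1.IsQuot ρ (Spec.map (CommRingCat.ofHom (algebraMap B A))) := by
  set p := Spec.map (CommRingCat.ofHom (algebraMap B A)) with hp
  have hρ' : ∀ g : G, ∃ h : G,
      (ρ g).hom = Spec.map (CommRingCat.ofHom (MulSemiringAction.toRingHom G A h)) := by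
    intro g
    have : (ρ g).hom ∈ Set.range (fun g : G => (ρ g).hom) := ⟨g, rfl⟩
    rw [hρ] at this
    obtain ⟨h, hh⟩ := this
    exact ⟨h, hh.symm⟩
  have hρ'' : ∀ h : G, ∃ g : G,
      (ρ g).hom = Spec.map (CommRingCat.ofHom (MulSemiringAction.toRingHom G A h)) := by
    intro h
    have : Spec.map (CommRingCat.ofHom (MulSemiringAction.toRingHom G A h)) ∈
        Set.range (fun g : G =>
          Spec.map (CommRingCat.ofHom (MulSemiringAction.toRingHom G A g))) := ⟨h, rfl⟩
    rw [← hρ] at this
    exact this
  have hinv : ∀ g, (ρ g).hom ≫ p = p := by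
    intro g
    obtain ⟨h, hh⟩ := hρ' g
    rw [hh, hp, ← Spec.map_comp]
    congr 1
    ext b
    exact smul_algebraMap h b
  have key : ∀ a : Γ(Spec (CommRingCat.of B), ⊤),
      (Scheme.ΓSpecIso (CommRingCat.of A)).hom (p.appTop a) =
        algebraMap B A ((Scheme.ΓSpecIso (CommRingCat.of B)).hom a) := by
    intro a
    exact congrArg (fun φ => φ.hom a)
      (Scheme.ΓSpecIso_naturality (CommRingCat.ofHom (algebraMap B A)))
  have key2 : ∀ (h : G) (a : Γ(Spec (CommRingCat.of A), ⊤)),
      (Scheme.ΓSpecIso (CommRingCat.of A)).hom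
        ((Spec.map (CommRingCat.ofHom (MulSemiringAction.toRingHom G A h))).appTop a) =
        h • ((Scheme.ΓSpecIso (CommRingCat.of A)).hom a) := by
    intro h a
    exact congrArg (fun φ => φ.hom a)
      (Scheme.ΓSpecIso_naturality (CommRingCat.ofHom (MulSemiringAction.toRingHom G A h)))
  have isoA_inj : Function.Injective ((Scheme.ΓSpecIso (CommRingCat.of A)).hom.hom) :=
    (Scheme.ΓSpecIso (CommRingCat.of A)).commRingCatIsoToRingEquiv.injective
  have isoB_inj : Function.Injective ((Scheme.ΓSpecIso (CommRingCat.of B)).hom.hom) :=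
    (Scheme.ΓSpecIso (CommRingCat.of B)).commRingCatIsoToRingEquiv.injective
  refine isQuot_of_affine_cover ρ p hinv {⊤} ?_ (fun y => ⟨⊤, rfl, trivial⟩) ?_ ?_
  · rintro _ rfl
    exact isAffineOpen_top _
  · rintro _ rfl
    intro a a' haa'
    have h1 := key a
    have h2 := key a'
    have h0 : p.appTop a = p.appTop a' := haa'
    rw [h0] at h1
    exact isoB_inj ((FaithfulSMul.algebraMap_injective B A) (h1.symm.trans h2))
  · rintro _ rfl a ha
    have hfix : ∀ h : G, h • ((Scheme.ΓSpecIso (CommRingCat.of A)).hom a) =
        (Scheme.ΓSpecIso (CommRingCat.of A)).hom a := by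
      intro h
      obtain ⟨g, hg⟩ := hρ'' h
      have h1 := ha g
      rw [appLE_congr_hom hg] at h1
      have h2 : (Spec.map (CommRingCat.ofHom (MulSemiringAction.toRingHom G A h))).appLE
          (p ⁻¹ᵁ ⊤) (p ⁻¹ᵁ ⊤) (hg ▸ SGA1.preimage_le_of_inv ρ p hinv g ⊤) =
          (Spec.map (CommRingCat.ofHom (MulSemiringAction.toRingHom G A h))).appTop :=
        Scheme.Hom.appLE_eq_app _
      rw [h2] at h1
      rw [← key2 h a]
      exact congrArg (Scheme.ΓSpecIso (CommRingCat.of A)).hom.hom h1
    obtain ⟨b, hb⟩ := Algebra.IsInvariant.isInvariant (A := B) (B := A) (G := G) _ hfix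
    refine ⟨(Scheme.ΓSpecIso (CommRingCat.of B)).inv b, ?_⟩
    apply isoA_inj
    show (Scheme.ΓSpecIso (CommRingCat.of A)).hom
      (p.appTop ((Scheme.ΓSpecIso (CommRingCat.of B)).inv b)) =
      (Scheme.ΓSpecIso (CommRingCat.of A)).hom a
    rw [key]
    have h3 : (Scheme.ΓSpecIso (CommRingCat.of B)).hom
        ((Scheme.ΓSpecIso (CommRingCat.of B)).inv b) = b :=
      congrArg (fun φ => φ.hom b) (Scheme.ΓSpecIso (CommRingCat.of B)).inv_hom_id
    rw [h3, hb]

end Groth.Agent.S12059
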