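import Groth.Statements.S1206
import Mathlib.Order.Zorn
import Mathlib.RingTheory.Finiteness.Basic
import Mathlib.RingTheory.LocalRing.MaximalIdeal.Basic
import Mathlib.Tactic.LinearCombination

set_option autoImplicit false
universe u
open FlatMor

namespace Groth.Agent.S1206

/-- Key step: under the covering hypothesis, every nonzero principal ideal contains a member of
the family. -/
theorem exists_le_span (A : Type u) [CommRing A]
    (𝒮 : Set (Ideal A)) (hfg : ∀ I ∈ 𝒮, I.FG) (hmul : ∀ I ∈ 𝒮, ∀ J ∈ 𝒮, I * J ∈ 𝒮)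
    (hcov : ∀ (p : Ideal A), p.IsPrime → p ≠ ⊥ → ∃ I ∈ 𝒮, I ≤ p)
    (hS : 𝒮.Nonempty) (g : A) (hg : g ≠ 0) : ∃ I ∈ 𝒮, I ≤ Ideal.span {g} := by
  by_contra h
  push Not at h
  obtain ⟨M, hgM, hM⟩ : ∃ M, Ideal.span {g} ≤ M ∧ Maximal (fun 𝔞 : Ideal A => ∀ I ∈ 𝒮, ¬ I ≤ 𝔞) M := by
    refine zorn_le_nonempty₀ {𝔞 : Ideal A | ∀ I ∈ 𝒮, ¬ I ≤ 𝔞} ?_ (Ideal.span {g}) h
    intro C hC₁ hC₂ J hJ
    refine ⟨sSup C, ?_, fun _ => le_sSup⟩
    intro I hI hle
    have hcomp := (Submodule.fg_iff_compact I).1 (hfg I hI)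
    rw [CompleteLattice.isCompactElement_iff_le_of_directed_sSup_le] at hcomp
    obtain ⟨K, hK, hIK⟩ := hcomp C ⟨J, hJ⟩ hC₂.directedOn hle
    exact hC₁ hK I hI hIK
  have hMprime : M.IsPrime := by
    refine ⟨?_, ?_⟩
    · intro htop
      obtain ⟨I, hI⟩ := hS
      exact hM.prop I hI (htop ▸ le_top)
    · intro a b hab
      by_contra hcon
      push Not at hcon
      obtain ⟨ha, hb⟩ := hcon
      have h₁ : ¬ (∀ I ∈ 𝒮, ¬ I ≤ M ⊔ Ideal.span {a}) :=
        hM.not_prop_of_gt (Submodule.lt_sup_iff_notMem.2 ha)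
      have h₂ : ¬ (∀ I ∈ 𝒮, ¬ I ≤ M ⊔ Ideal.span {b}) :=
        hM.not_prop_of_gt (Submodule.lt_sup_iff_notMem.2 hb)
      push Not at h₁ h₂
      obtain ⟨I₁, hI₁, hle₁⟩ := h₁
      obtain ⟨I₂, hI₂, hle₂⟩ := h₂
      refine hM.prop (I₁ * I₂) (hmul I₁ hI₁ I₂ hI₂) ?_
      refine (Ideal.mul_mono hle₁ hle₂).trans ?_
      rw [Ideal.sup_mul, Ideal.mul_sup, Ideal.mul_sup]
      refine sup_le (sup_le Ideal.mul_le_left Ideal.mul_le_left) (sup_le Ideal.mul_le_right ?_)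
      rw [Ideal.span_singleton_mul_span_singleton]
      exact (Ideal.span_singleton_le_iff_mem _).2 hab
  have hMne : M ≠ ⊥ := by
    intro hbot
    have : g ∈ M := hgM (Ideal.subset_span rfl)
    rw [hbot] at this
    exact hg (by simpa using this)
  obtain ⟨I, hI, hIM⟩ := hcov M hMprime hMne
  exact hM.prop I hI hIM

/-- Let A be a local domain which is not a field and 𝒮 a set of finitely generated ideals of A, closed
under products, such that the union of the closed sets V(I), I ∈ 𝒮, is exactly the set of nonzero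
primes (every nonzero prime contains a member of 𝒮 and no member is zero). Then the intersection of
all members of 𝒮 is zero. -/
theorem result (A : Type u) [CommRing A] [IsDomain A] [IsLocalRing A] (hA : ¬ IsField A)
    (𝒮 : Set (Ideal A)) (hfg : ∀ I ∈ 𝒮, I.FG) (hmul : ∀ I ∈ 𝒮, ∀ J ∈ 𝒮, I * J ∈ 𝒮)
    (hne : ∀ I ∈ 𝒮, I ≠ ⊥) (hcov : ∀ (p : Ideal A), p.IsPrime → p ≠ ⊥ → ∃ I ∈ 𝒮, I ≤ p) :
    sInf 𝒮 = ⊥ := by
  have hm : IsLocalRing.maximalIdeal A ≠ ⊥ := fun h =>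
    hA (IsLocalRing.isField_iff_maximalIdeal_eq.2 h)
  obtain ⟨I', hI', hI'm⟩ := hcov _ (IsLocalRing.maximalIdeal.isMaximal A).isPrime hm
  rw [eq_bot_iff]
  intro x hx
  rw [Ideal.mem_sInf] at hx
  by_contra hx0
  have hx0' : x ≠ 0 := by simpa using hx0
  have hxm : x ∈ IsLocalRing.maximalIdeal A := hI'm (hx hI')
  obtain ⟨I, hI, hIle⟩ := exists_le_span A 𝒮 hfg hmul hcov ⟨I', hI'⟩ (x ^ 2) (pow_ne_zero 2 hx0')
  obtain ⟨a, ha⟩ := Ideal.mem_span_singleton'.1 (hIle (hx hI))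
  have hunit : a * x = 1 := by
    have h1 : x * (a * x - 1) = 0 := by linear_combination ha
    rcases mul_eq_zero.1 h1 with h | h
    · exact absurd h hx0'
    · exact sub_eq_zero.1 h
  exact (IsLocalRing.mem_maximalIdeal x).1 hxm (IsUnit.of_mul_eq_one a (by rw [mul_comm]; exact hunit))

end Groth.Agent.S1206
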