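import Groth.Statements.S1207
import Groth.Agent.S1206
import Mathlib.RingTheory.Ideal.Quotient.Operations
import Mathlib.RingTheory.Ideal.Maps
import Mathlib.RingTheory.LocalRing.RingHom.Basic

set_option autoImplicit false
universe u
open FlatMor

namespace Groth.Agent.S1207

/-- Let A be a local ring and I, J ideals of A with J finitely generated, J ≠ A, and I ⊆ J^n for all n ≥
1. Then every prime p not containing J which is maximal among the primes not containing J (a closed
point of Spec A ∖ V(J)) contains I. (The published statement leaves the hypothesis J ≠ A implicit;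
for J = A the assertion fails.) -/
theorem result (A : Type u) [CommRing A] [IsLocalRing A] (I J : Ideal A) (hJ : J.FG) (hJ1 : J ≠ ⊤)
    (hI : ∀ n : ℕ, 1 ≤ n → I ≤ J ^ n) (p : Ideal A) [p.IsPrime] (hp : ¬ J ≤ p)
    (hmax : ∀ (p' : Ideal A), p'.IsPrime → p ≤ p' → ¬ J ≤ p' → p' = p) : I ≤ p := by
  have : IsLocalRing (A ⧸ p) :=
    IsLocalRing.of_surjective' (Ideal.Quotient.mk p) Ideal.Quotient.mk_surjective
  have hsurj : Function.Surjective (Ideal.Quotient.mk p) := Ideal.Quotient.mk_surjective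
  have hnf : ¬ IsField (A ⧸ p) := by
    intro hf
    have hpm : p.IsMaximal := Ideal.Quotient.maximal_of_isField p hf
    have : p = IsLocalRing.maximalIdeal A := IsLocalRing.eq_maximalIdeal hpm
    exact hp (this ▸ IsLocalRing.le_maximalIdeal hJ1)
  let 𝒮 : Set (Ideal (A ⧸ p)) := {K | ∃ n : ℕ, 1 ≤ n ∧ K = (J ^ n).map (Ideal.Quotient.mk p)}
  have key : sInf 𝒮 = ⊥ := by
    refine Groth.Agent.S1206.result (A ⧸ p) hnf 𝒮 ?_ ?_ ?_ ?_
    · rintro K ⟨n, -, rfl⟩
      exact (hJ.pow (n := n)).map _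
    · rintro K ⟨n, hn, rfl⟩ K' ⟨m, hm, rfl⟩
      refine ⟨n + m, by omega, ?_⟩
      rw [← Ideal.map_mul, pow_add]
    · rintro K ⟨n, hn, rfl⟩ hbot
      rw [Ideal.map_eq_bot_iff_le_ker, Ideal.mk_ker] at hbot
      exact hp (Ideal.IsPrime.le_of_pow_le hbot)
    · intro q hq hqne
      have hq' : (q.comap (Ideal.Quotient.mk p)).IsPrime := Ideal.comap_isPrime _ q
      have hpq : p ≤ q.comap (Ideal.Quotient.mk p) := by
        intro x hx
        rw [Ideal.mem_comap, Ideal.Quotient.eq_zero_iff_mem.2 hx]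
        exact q.zero_mem
      by_cases hJq : J ≤ q.comap (Ideal.Quotient.mk p)
      · exact ⟨J.map (Ideal.Quotient.mk p), ⟨1, le_rfl, by rw [pow_one]⟩,
          Ideal.map_le_iff_le_comap.2 hJq⟩
      · exfalso
        have h := hmax _ hq' hpq hJq
        apply hqne
        rw [← Ideal.map_comap_of_surjective _ hsurj q, h, Ideal.map_eq_bot_iff_le_ker, Ideal.mk_ker]
  intro x hx
  have hmem : Ideal.Quotient.mk p x ∈ sInf 𝒮 := by
    rw [Ideal.mem_sInf]
    rintro K ⟨n, hn, rfl⟩
    exact Ideal.mem_map_of_mem _ (hI n hn hx)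
  rw [key] at hmem
  exact Ideal.Quotient.eq_zero_iff_mem.1 (by simpa using hmem)

end Groth.Agent.S1207
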