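import Groth.Statements.S12071
import Mathlib.GroupTheory.Archimedean

set_option autoImplicit false
open RootD

namespace Groth.Agent.S12071

open DihedralGroup

theorem sr_notMem (N : Subgroup (DihedralGroup 0)) [hn : N.Normal]
    (hx : DihedralGroup.sr (0 : ZMod 0) ∉ N) (hy : DihedralGroup.sr (1 : ZMod 0) ∉ N) (i : ℤ) :
    (DihedralGroup.sr (i : ZMod 0) : DihedralGroup 0) ∉ N := by
  intro hi
  have hconj : ∀ j : ℤ, (DihedralGroup.sr ((i - j - j : ℤ) : ZMod 0) : DihedralGroup 0) ∈ N := by
    intro j
    have := hn.conj_mem _ hi (DihedralGroup.r (j : ZMod 0))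
    rw [r_mul_sr, inv_r, sr_mul_r] at this
    convert this using 2
    exact sub_eq_add_neg _ _
  have h2 := hconj (i / 2)
  rcases Int.emod_two_eq_zero_or_one i with h0 | h1
  · apply hx
    convert h2 using 2
    change (0 : ℤ) = i - i / 2 - i / 2
    omega
  · apply hy
    convert h2 using 2
    change (1 : ℤ) = i - i / 2 - i / 2
    omega

/-- Let G be the group generated by two elements x, y subject to x² = y² = 1 (the infinite dihedral
group; here Mathlib's DihedralGroup 0 with x = sr 0 and y = sr 1, so that x y = r 1). Then every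
normal subgroup of G containing neither x nor y is generated by an element (x y)^n with n > 0; such
a subgroup is cyclic, generated by r n. (The published statement does not exclude the trivial
subgroup, for which no n > 0 works; this row assumes the subgroup nontrivial.) -/
theorem result (N : Subgroup (DihedralGroup 0)) [N.Normal]
    (hN : N ≠ ⊥) (hx : DihedralGroup.sr (0 : ZMod 0) ∉ N) (hy : DihedralGroup.sr (1 : ZMod 0) ∉ N) :
    ∃ n : ℕ, 0 < n ∧ N = Subgroup.zpowers (DihedralGroup.r (n : ZMod 0)) := by
  have hsr := sr_notMem N hx hy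
  let H : AddSubgroup ℤ :=
    { carrier := {i : ℤ | (DihedralGroup.r (i : ZMod 0) : DihedralGroup 0) ∈ N}
      add_mem' := by
        intro a b ha hb
        have := N.mul_mem ha hb
        rwa [r_mul_r] at this
      zero_mem' := by
        change (DihedralGroup.r (0 : ZMod 0) : DihedralGroup 0) ∈ N
        rw [r_zero]
        exact N.one_mem
      neg_mem' := by
        intro a ha
        have := N.inv_mem ha
        rwa [inv_r] at this }
  have hH : ∀ i : ℤ, i ∈ H ↔ (DihedralGroup.r (i : ZMod 0) : DihedralGroup 0) ∈ N := fun i => Iff.rfl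
  obtain ⟨a, ha⟩ := Int.subgroup_cyclic H
  rw [← AddSubgroup.zmultiples_eq_closure] at ha
  have hmem : ∀ i : ℤ, (DihedralGroup.r (i : ZMod 0) : DihedralGroup 0) ∈ N ↔ a ∣ i := by
    intro i
    rw [← hH, ha, AddSubgroup.mem_zmultiples_iff]
    constructor
    · rintro ⟨k, rfl⟩
      exact ⟨k, by rw [smul_eq_mul, mul_comm]⟩
    · rintro ⟨k, rfl⟩
      exact ⟨k, by rw [smul_eq_mul, mul_comm]⟩
  have ha0 : a ≠ 0 := by
    rintro rfl
    apply hN
    rw [Subgroup.eq_bot_iff_forall]
    intro g hg
    cases g with
    | r i =>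
      have := (hmem i).mp hg
      rw [zero_dvd_iff] at this
      change (DihedralGroup.r (i : ZMod 0) : DihedralGroup 0) = 1
      rw [one_def]
      congr 1
    | sr i => exact absurd hg (hsr i)
  refine ⟨a.natAbs, Int.natAbs_pos.mpr ha0, ?_⟩
  ext g
  rw [Subgroup.mem_zpowers_iff]
  cases g with
  | r i =>
    rw [hmem i, ← Int.natAbs_dvd]
    constructor
    · rintro ⟨k, rfl⟩
      refine ⟨k, ?_⟩
      rw [r_zpow]
      rfl
    · rintro ⟨k, hk⟩
      rw [r_zpow] at hk
      refine ⟨k, ?_⟩
      have := DihedralGroup.r.inj hk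
      exact this.symm
  | sr i =>
    constructor
    · intro hg
      exact absurd hg (hsr i)
    · rintro ⟨k, hk⟩
      rw [r_zpow] at hk
      exact absurd hk (by simp)

end Groth.Agent.S12071
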