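import Groth.Statements.S12076
import Mathlib.LinearAlgebra.RootSystem.Base
import Mathlib.Algebra.Order.Group.Equiv
import Mathlib.Algebra.Order.Group.PiLex

set_option autoImplicit false
open RootD

namespace Groth.Agent.S12076

/-- Let Δ be a system of simple roots (a base b of a root pairing P over ℤ) and Γ₀ the subgroup
generated by the roots. Then Γ₀ has a structure of totally ordered group for which the roots > 0 are
exactly the positive roots defined by Δ and for which the height (the additive function with value 1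
on each simple root) is monotone. The order is given here by its positive cone C ⊆ Γ₀: 0 ∉ C, C + C
⊆ C, and for every x ≠ 0 exactly one of x, −x lies in C (x < y meaning y − x ∈ C). -/
theorem result {ι M N : Type*} [AddCommGroup M] [AddCommGroup N]
    (P : RootPairing ι ℤ M N) [Finite ι] (b : P.Base) :
    ∃ C : Set ↥(Submodule.span ℤ (Set.range P.root)),
      0 ∉ C ∧ (∀ x ∈ C, ∀ y ∈ C, x + y ∈ C) ∧ (∀ x, x ≠ 0 → (x ∈ C ∨ -x ∈ C)) ∧ (∀ x ∈ C, -x ∉ C) ∧
      (∀ i : ι, (⟨P.root i, Submodule.subset_span (Set.mem_range_self i)⟩ : ↥(Submodule.span ℤ (Set.range P.root))) ∈ C ↔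
        b.IsPos i) ∧
      ∀ φ : ↥(Submodule.span ℤ (Set.range P.root)) →+ ℤ,
        (∀ j ∈ b.support, φ ⟨P.root j, Submodule.subset_span (Set.mem_range_self j)⟩ = 1) →
        ∀ x y : ↥(Submodule.span ℤ (Set.range P.root)), y - x ∈ C → φ x ≤ φ y := by
  classical
  set B : Module.Basis b.support ℤ (P.rootSpan ℤ) := b.toWeightBasisInt with hB
  obtain ⟨n, ⟨e⟩⟩ := Finite.exists_equiv_fin b.support
  -- height and lexicographic coordinates
  let ht : (P.rootSpan ℤ) →ₗ[ℤ] ℤ := B.sumCoords
  let co : (P.rootSpan ℤ) →+ Lex (Fin n → ℤ) :=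
    (toLexAddEquiv (Fin n → ℤ)).toAddMonoidHom.comp
      (AddMonoidHom.pi fun a => (B.coord (e.symm a)).toAddMonoidHom)
  have hco_inj : ∀ x, co x = 0 → x = 0 := by
    intro x hx
    apply B.repr.injective
    ext j
    have := congrFun (congrArg ofLex hx) (e j)
    have h0 : (ofLex (0 : Lex (Fin n → ℤ))) (e j) = 0 := rfl
    rw [h0] at this
    simpa [co, Module.Basis.coord_apply] using this
  refine ⟨{x | 0 < ht x ∨ (ht x = 0 ∧ 0 < co x)}, ?_, ?_, ?_, ?_, ?_, ?_⟩
  · rintro (h | ⟨-, h⟩)
    · rw [map_zero] at h; exact lt_irrefl _ h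
    · rw [map_zero] at h; exact lt_irrefl _ h
  · rintro x (hx | ⟨hx, hx'⟩) y (hy | ⟨hy, hy'⟩)
    · left; rw [map_add]; exact add_pos hx hy
    · left; rw [map_add, hy, add_zero]; exact hx
    · left; rw [map_add, hx, zero_add]; exact hy
    · right; exact ⟨by rw [map_add, hx, hy, add_zero], by rw [map_add]; exact add_pos hx' hy'⟩
  · intro x hx
    rcases lt_trichotomy (ht x) 0 with h | h | h
    · right; left; rw [map_neg]; exact neg_pos.mpr h
    · have hc : co x ≠ 0 := fun h0 => hx (hco_inj x h0)
      rcases lt_or_gt_of_ne hc with h' | h'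
      · right; right
        exact ⟨by rw [map_neg, h, neg_zero], by rw [map_neg]; exact neg_pos.mpr h'⟩
      · left; right; exact ⟨h, h'⟩
    · left; left; exact h
  · rintro x (hx | ⟨hx, hx'⟩) (hy | ⟨hy, hy'⟩)
    · rw [map_neg] at hy; linarith
    · rw [map_neg] at hy; linarith
    · rw [map_neg] at hy; linarith
    · rw [map_neg] at hy'
      exact lt_asymm hx' (neg_pos.mp hy')
  · intro i
    set x : P.rootSpan ℤ := ⟨P.root i, Submodule.subset_span (Set.mem_range_self i)⟩ with hx
    have hht : ht x = b.height i := by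
      let f : ι → ℤ := fun j => if h : j ∈ b.support then B.repr x ⟨j, h⟩ else 0
      have hf : ∀ j : b.support, f j = B.repr x j := fun j => by simp [f]
      have h1 : P.root i = ∑ j ∈ b.support, f j • P.root j := by
        have h2 := congrArg (Subtype.val) (B.sum_repr x)
        rw [← Finset.sum_coe_sort b.support (fun j => f j • P.root j)]
        simp only [hf]
        rw [AddSubmonoidClass.coe_finsetSum] at h2
        simp only [SetLike.val_smul, hB, RootPairing.Base.coe_toWeightBasisInt_apply] at h2
        exact h2.symm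
      rw [b.height_eq_sum h1, ← Finset.sum_coe_sort b.support f]
      simp only [hf, ht, Module.Basis.coe_sumCoords_of_fintype]
      rw [LinearMap.sum_apply]
      simp only [Module.Basis.coord_apply]
    show (0 < ht x ∨ (ht x = 0 ∧ 0 < co x)) ↔ b.IsPos i
    rw [hht, RootPairing.Base.isPos_iff]
    constructor
    · rintro (h | ⟨h, -⟩)
      · exact h
      · exact absurd h (b.height_ne_zero i)
    · intro h; exact Or.inl h
  · intro φ hφ x y hxy
    have hφht : ∀ z, φ z = ht z := by
      intro z
      have : φ.toIntLinearMap = ht := by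
        apply B.ext
        intro j
        rw [Module.Basis.sumCoords_self_apply]
        have : B j = ⟨P.root j, Submodule.subset_span (Set.mem_range_self (j : ι))⟩ := by
          apply Subtype.ext
          rw [hB, RootPairing.Base.coe_toWeightBasisInt_apply]
        rw [AddMonoidHom.coe_toIntLinearMap, this]
        exact hφ j j.2
      exact congrArg (fun g : (P.rootSpan ℤ) →ₗ[ℤ] ℤ => g z) this
    rw [hφht, hφht]
    have h0 : 0 ≤ ht (y - x) := by
      rcases hxy with h | ⟨h, -⟩
      · exact h.le
      · exact h.ge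
    rw [map_sub] at h0
    linarith

end Groth.Agent.S12076
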