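import Groth.Statements.S12080
import Mathlib

set_option autoImplicit false
universe u
open TensorProduct
open CAlg

namespace Groth.Agent.S12080

open TensorProduct

/-- An element killed by a power of each member of a set generating the unit ideal is zero. -/
theorem eq_zero_of_forall_pow_smul {R : Type u} [CommRing R] {M : Type u} [AddCommGroup M]
    [Module R M] (s : Set R) (hs : Ideal.span s = ⊤) (z : M)
    (h : ∀ f ∈ s, ∃ n : ℕ, f ^ n • z = 0) : z = 0 := by
  have hI : (Submodule.span R {z}).annihilator = ⊤ := by
    by_contra hne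
    obtain ⟨P, hP, hle⟩ := Ideal.exists_le_maximal _ hne
    have : Ideal.span s ≤ P := by
      rw [Ideal.span_le]
      intro f hf
      obtain ⟨n, hn⟩ := h f hf
      have : f ^ n ∈ P := hle (by
        rw [Submodule.mem_annihilator_span_singleton]; exact hn)
      exact hP.isPrime.mem_of_pow_mem _ this
    rw [hs, top_le_iff] at this
    exact hP.ne_top this
  have : (1 : R) ∈ (Submodule.span R {z}).annihilator := by rw [hI]; trivial
  rw [Submodule.mem_annihilator_span_singleton, one_smul] at this
  exact this

/-- An ideal containing a power of each member of a set generating the unit ideal is the unit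
ideal. -/
theorem eq_top_of_forall_pow_mem {R : Type u} [CommRing R] (s : Set R) (hs : Ideal.span s = ⊤)
    (I : Ideal R) (h : ∀ f ∈ s, ∃ n : ℕ, f ^ n ∈ I) : I = ⊤ := by
  by_contra hne
  obtain ⟨P, hP, hle⟩ := Ideal.exists_le_maximal _ hne
  have : Ideal.span s ≤ P := by
    rw [Ideal.span_le]
    intro f hf
    obtain ⟨n, hn⟩ := h f hf
    exact hP.isPrime.mem_of_pow_mem _ (hle hn)
  rw [hs, top_le_iff] at this
  exact hP.ne_top this

/-- Local structure: if `M_f ≅ R_f` and `M` is finitely presented, there is `m₀ : M` such that a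
power of `f` times any `x` is a multiple of `m₀`, and a functional on `M` sending `m₀` to a power of
`f`. -/
theorem local_gen {R : Type u} [CommRing R] {M : Type u} [AddCommGroup M] [Module R M]
    [Module.FinitePresentation R M] (f : R)
    (e : LocalizedModule.Away f M ≃ₗ[Localization.Away f] Localization.Away f) :
    ∃ m₀ : M, (∀ x : M, ∃ (N : ℕ) (r : R), f ^ N • x = r • m₀) ∧
      ∃ (φ : M →ₗ[R] R) (N : ℕ), φ m₀ = f ^ N := by
  set S := Submonoid.powers f with hS
  set ι := LocalizedModule.mkLinearMap S M with hι
  let e' : LocalizedModule.Away f M ≃ₗ[R] Localization.Away f := e.restrictScalars R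
  let g : M →ₗ[R] Localization.Away f := e'.toLinearMap ∘ₗ ι
  obtain ⟨⟨m₀, t₀⟩, h₀⟩ := IsLocalizedModule.surj S ι (e.symm 1)
  simp only at h₀
  have hg₀ : g m₀ = algebraMap R _ (t₀ : R) := by
    change e' (ι m₀) = _
    rw [← h₀, Submonoid.smul_def, map_smul]
    change (t₀ : R) • e (e.symm 1) = _
    rw [LinearEquiv.apply_symm_apply, Algebra.smul_def, mul_one]
  refine ⟨m₀, ?_, ?_⟩
  · intro x
    obtain ⟨⟨r, t⟩, hc⟩ := IsLocalization.surj S (g x)
    simp only at hc
    have : ι (((t : R) * (t₀ : R)) • x) = ι (r • m₀) := by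
      apply e'.injective
      change g _ = g _
      rw [map_smul, map_smul, hg₀, Algebra.smul_def, Algebra.smul_def, map_mul, ← hc]
      ring
    obtain ⟨v, hv⟩ := IsLocalizedModule.exists_of_eq (S := S) (f := ι) this
    obtain ⟨N, hN⟩ := (Submonoid.mem_powers_iff _ _).1 (v * t * t₀).2
    refine ⟨N, (v : R) * r, ?_⟩
    rw [hN]
    simp only [Submonoid.smul_def] at hv
    simp only [Submonoid.coe_mul]
    rw [mul_assoc, mul_smul, hv, mul_smul]
  · obtain ⟨φ, s₁, hφ⟩ := Module.FinitePresentation.exists_lift_of_isLocalizedModule S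
      (Algebra.linearMap R (Localization.Away f)) g
    have h1 : algebraMap R (Localization.Away f) (φ m₀) =
        algebraMap R (Localization.Away f) ((s₁ : R) * (t₀ : R)) := by
      have := LinearMap.congr_fun hφ m₀
      simp only [LinearMap.coe_comp, Function.comp_apply, Algebra.linearMap_apply,
        LinearMap.smul_apply] at this
      rw [this, hg₀, Submonoid.smul_def, Algebra.smul_def, map_mul]
    obtain ⟨v, hv⟩ := IsLocalization.exists_of_eq (M := S) h1
    obtain ⟨N, hN⟩ := (Submonoid.mem_powers_iff _ _).1 (v * s₁ * t₀).2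
    refine ⟨(v : R) • φ, N, ?_⟩
    rw [hN, LinearMap.smul_apply, smul_eq_mul, hv]
    simp only [Submonoid.coe_mul, mul_assoc]

/-- (1) ⇒ (2): let `M` be a finite locally free `R`-module of rank `1`, i.e. there is a set `s ⊆ R`
generating the unit ideal with `M_f ≅ R_f` as `R_f`-modules for every `f ∈ s`. Then the evaluation
map `Hom_R(M, R) ⊗_R M → R` is bijective, so `M` is invertible with inverse its dual. -/
theorem result (R : Type u) [CommRing R] (M : Type u) [AddCommGroup M]
    [Module R M] (s : Set R) (hs : Ideal.span s = ⊤)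
    (hfree : ∀ f ∈ s, Nonempty (LocalizedModule.Away f M ≃ₗ[Localization.Away f] Localization.Away f)) :
    Module.Invertible R M := by
  have : Module.FinitePresentation R M := by
    refine Module.FinitePresentation.of_localizationSpan s hs fun g => ?_
    obtain ⟨e⟩ := hfree g.1 g.2
    have : Module.Free (Localization.Away g.1) (LocalizedModule.Away g.1 M) :=
      Module.Free.of_equiv e.symm
    have : Module.Finite (Localization.Away g.1) (LocalizedModule.Away g.1 M) :=
      Module.Finite.equiv e.symm
    exact Module.finitePresentation_of_projective _ _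
  -- commutation identity
  have hcomm : ∀ (φ : Module.Dual R M) (m m' : M), φ m • m' = φ m' • m := by
    intro φ m m'
    rw [← sub_eq_zero]
    refine eq_zero_of_forall_pow_smul s hs _ fun f hf => ?_
    obtain ⟨e⟩ := hfree f hf
    obtain ⟨m₀, hgen, -⟩ := local_gen f e
    obtain ⟨N, r, h1⟩ := hgen m
    obtain ⟨N', r', h2⟩ := hgen m'
    refine ⟨N + N', ?_⟩
    have e1 : f ^ (N + N') • (φ m • m') = φ (f ^ N • m) • (f ^ N' • m') := by
      rw [map_smul, smul_eq_mul, pow_add, smul_smul, smul_smul]; ring_nf
    have e2 : f ^ (N + N') • (φ m' • m) = φ (f ^ N' • m') • (f ^ N • m) := by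
      rw [map_smul, smul_eq_mul, pow_add, smul_smul, smul_smul]; ring_nf
    rw [smul_sub, e1, e2, h1, h2, map_smul, map_smul, smul_eq_mul, smul_eq_mul, smul_smul,
      smul_smul, sub_eq_zero]
    ring_nf
  -- surjectivity
  have hsurj : Function.Surjective (contractLeft R M) := by
    rw [← LinearMap.range_eq_top]
    refine eq_top_of_forall_pow_mem s hs (LinearMap.range (contractLeft R M)) fun f hf => ?_
    obtain ⟨e⟩ := hfree f hf
    obtain ⟨m₀, -, φ, N, hφ⟩ := local_gen f e
    exact ⟨N, ⟨φ ⊗ₜ[R] m₀, by rw [contractLeft_apply, hφ]⟩⟩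
  refine ⟨⟨?_, hsurj⟩⟩
  obtain ⟨w, hw⟩ := hsurj 1
  -- left inverse r ↦ r • w
  have hleft : ∀ x : Module.Dual R M ⊗[R] M, contractLeft R M x • w = x := by
    intro x
    induction x using TensorProduct.induction_on with
    | zero => simp
    | add x y hx hy => rw [map_add, add_smul, hx, hy]
    | tmul φ m =>
      rw [contractLeft_apply]
      have key : ∀ w' : Module.Dual R M ⊗[R] M,
          φ m • w' = contractLeft R M w' • (φ ⊗ₜ[R] m) := by
        intro w'
        induction w' using TensorProduct.induction_on with
        | zero => simp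
        | add a b ha hb => rw [smul_add, ha, hb, map_add, add_smul]
        | tmul ψ n =>
          rw [contractLeft_apply]
          have h1 : φ n • ψ = ψ n • φ := by
            ext m'
            have := congrArg ψ (hcomm φ n m')
            rw [map_smul, map_smul, smul_eq_mul, smul_eq_mul] at this
            rw [LinearMap.smul_apply, LinearMap.smul_apply, smul_eq_mul, smul_eq_mul, this]
            ring
          calc φ m • (ψ ⊗ₜ[R] n) = ψ ⊗ₜ[R] (φ m • n) := by rw [TensorProduct.tmul_smul]
            _ = ψ ⊗ₜ[R] (φ n • m) := by rw [hcomm φ m n]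
            _ = (φ n • ψ) ⊗ₜ[R] m := by rw [TensorProduct.tmul_smul, TensorProduct.smul_tmul']
            _ = ψ n • (φ ⊗ₜ[R] m) := by rw [h1, TensorProduct.smul_tmul']
      rw [key w, hw, one_smul]
  intro x y hxy
  rw [← hleft x, ← hleft y, hxy]

end Groth.Agent.S12080
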