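import Groth.Statements.S12081

set_option autoImplicit false
universe u
open TensorProduct
open EtAlg

namespace Groth.Agent.S12081

/-- Let `B' = B ×_A A'` be a fibre square of rings with `A' → A` surjective with kernel `I`, let `J =
Ker(B' → B)`, let `D'` be a `B'`-algebra and `C' = D' ⊗_{B'} A'`. Then the ideal `I C'` is, as a
subset of `C'`, the image of the ideal `J D'` under `D' → C'`; that is, the map `J D' → I C'` is
surjective. -/
theorem result (B' B A' A : Type u) [CommRing B'] [CommRing B] [CommRing A'] [CommRing A]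
    [Algebra B' B] [Algebra B' A'] [Algebra B A] [Algebra A' A] [Algebra B' A] [IsScalarTower B' B A] [IsScalarTower B' A' A]
    (hsq : EtMil.IsFibreSquare B' B A' A)
    (D' C' : Type u) [CommRing D'] [CommRing C'] [Algebra B' D'] [Algebra A' C']
    [Algebra D' C'] [Algebra B' C'] [IsScalarTower B' A' C'] [IsScalarTower B' D' C'] [Algebra.IsPushout B' A' D' C'] :
    (algebraMap D' C') '' ((RingHom.ker (algebraMap B' B)).map (algebraMap B' D') : Set D') =
      ((RingHom.ker (algebraMap A' A)).map (algebraMap A' C') : Set C') := by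
  set J := RingHom.ker (algebraMap B' B) with hJ
  set I := RingHom.ker (algebraMap A' A) with hI
  -- `J` maps into `I`
  have hJI : ∀ j ∈ J, algebraMap B' A' j ∈ I := by
    intro j hj
    rw [hI, RingHom.mem_ker, ← IsScalarTower.algebraMap_apply, IsScalarTower.algebraMap_apply B' B A,
      RingHom.mem_ker.mp hj, map_zero]
  -- every element of `I` comes from `J`
  have hIJ : ∀ i ∈ I, ∃ j ∈ J, algebraMap B' A' j = i := by
    intro i hi
    obtain ⟨j, ⟨hj1, hj2⟩, -⟩ := hsq.2 0 i (by rw [map_zero, RingHom.mem_ker.mp hi])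
    exact ⟨j, RingHom.mem_ker.mpr hj1, hj2⟩
  have hcomm : ∀ b : B', algebraMap D' C' (algebraMap B' D' b) = algebraMap A' C' (algebraMap B' A' b) := by
    intro b
    rw [← IsScalarTower.algebraMap_apply, ← IsScalarTower.algebraMap_apply]
  -- Claim G: the image is stable under multiplication by `g a'`
  have claimG : ∀ (a' : A') (w : D'), w ∈ J.map (algebraMap B' D') →
      ∃ w' ∈ J.map (algebraMap B' D'), algebraMap D' C' w' = algebraMap A' C' a' * algebraMap D' C' w := by
    intro a' w hw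
    rw [Ideal.map] at hw
    refine Submodule.span_induction ?_ ?_ ?_ ?_ hw
    · rintro _ ⟨j, hj, rfl⟩
      obtain ⟨j', hj', hjj'⟩ := hIJ (a' * algebraMap B' A' j) (I.mul_mem_left _ (hJI j hj))
      refine ⟨algebraMap B' D' j', Ideal.mem_map_of_mem _ hj', ?_⟩
      rw [hcomm, hcomm, hjj', map_mul]
    · exact ⟨0, zero_mem _, by simp⟩
    · rintro x y - - ⟨x', hx', hx⟩ ⟨y', hy', hy⟩
      exact ⟨x' + y', add_mem hx' hy', by rw [map_add, map_add, hx, hy, mul_add]⟩
    · rintro d x - ⟨x', hx', hx⟩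
      refine ⟨d * x', Ideal.mul_mem_left _ _ hx', ?_⟩
      rw [smul_eq_mul, map_mul, map_mul, hx]
      ring
  -- the image is stable under multiplication by any element of `C'`
  have claimC : ∀ (c : C') (w : D'), w ∈ J.map (algebraMap B' D') →
      ∃ w' ∈ J.map (algebraMap B' D'), algebraMap D' C' w' = c * algebraMap D' C' w := by
    intro c
    have hbc := (Algebra.IsPushout.out (R := B') (S := A') (R' := D') (S' := C'))
    refine hbc.inductionOn c _ ?_ ?_ ?_ ?_
    · intro w hw
      exact ⟨0, zero_mem _, by simp⟩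
    · intro d w hw
      refine ⟨d * w, Ideal.mul_mem_left _ _ hw, ?_⟩
      rw [map_mul]
      rfl
    · intro a' c₀ ih w hw
      obtain ⟨w₁, hw₁, h₁⟩ := ih w hw
      obtain ⟨w₂, hw₂, h₂⟩ := claimG a' w₁ hw₁
      refine ⟨w₂, hw₂, ?_⟩
      rw [h₂, h₁, Algebra.smul_def, mul_assoc]
    · intro c₁ c₂ ih₁ ih₂ w hw
      obtain ⟨w₁, hw₁, h₁⟩ := ih₁ w hw
      obtain ⟨w₂, hw₂, h₂⟩ := ih₂ w hw
      exact ⟨w₁ + w₂, add_mem hw₁ hw₂, by rw [map_add, h₁, h₂, add_mul]⟩
  apply Set.eq_of_subset_of_subset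
  · rintro _ ⟨w, hw, rfl⟩
    have h1 : algebraMap D' C' w ∈ (J.map (algebraMap B' D')).map (algebraMap D' C') :=
      Ideal.mem_map_of_mem _ hw
    rw [Ideal.map_map] at h1
    have h2 : J.map ((algebraMap D' C').comp (algebraMap B' D')) ≤ I.map (algebraMap A' C') := by
      rw [Ideal.map_le_iff_le_comap]
      intro j hj
      rw [Ideal.mem_comap, RingHom.comp_apply, hcomm]
      exact Ideal.mem_map_of_mem _ (hJI j hj)
    exact h2 h1
  · intro z hz
    rw [SetLike.mem_coe, Ideal.map] at hz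
    refine Submodule.span_induction ?_ ?_ ?_ ?_ hz
    · rintro _ ⟨i, hi, rfl⟩
      obtain ⟨j, hj, rfl⟩ := hIJ i hi
      exact ⟨algebraMap B' D' j, Ideal.mem_map_of_mem _ hj, hcomm j⟩
    · exact ⟨0, zero_mem _, by simp⟩
    · rintro x y - - ⟨x', hx', rfl⟩ ⟨y', hy', rfl⟩
      exact ⟨x' + y', add_mem hx' hy', map_add _ _ _⟩
    · rintro c x - ⟨x', hx', rfl⟩
      obtain ⟨w', hw', h'⟩ := claimC c x' hx'
      exact ⟨w', hw', by rw [h', smul_eq_mul]⟩

end Groth.Agent.S12081
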