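import Groth.Statements.S12082
import Mathlib.Tactic
import Groth.Agent.Lib.H8CM5
import Groth.Agent.Lib.H8CM6
import Groth.Agent.Lib.H8GradedCM
import Groth.Agent.Lib.H8CMOpen

set_option autoImplicit false
universe u
open Synt

namespace Groth.Agent.S12082

open RingTheory.Sequence IsLocalRing in
/-- the general statement over a regular ring. -/
theorem aux (P : Type u) [CommRing P] [IsRegularRing P] (I : Ideal P) (q : Ideal (P ⧸ I))
    [q.IsPrime] (Q : Ideal P) [Q.IsPrime] (hQ : q.comap (Ideal.Quotient.mk I) = Q) (c : ℕ)
    (hc : (c : ℕ∞) + q.height = Q.height)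
    (f : Fin c → Localization.AtPrime Q)
    (hf : ∀ i, f i ∈ I.map (algebraMap P (Localization.AtPrime Q)))
    (hgen : Ideal.span (Set.range f) ⊔
        IsLocalRing.maximalIdeal (Localization.AtPrime Q) *
          I.map (algebraMap P (Localization.AtPrime Q)) =
      I.map (algebraMap P (Localization.AtPrime Q))) :
    RingTheory.Sequence.IsRegular (Localization.AtPrime Q) (List.ofFn f) := by
  haveI : IsNoetherianRing P := inferInstance
  have hIQ : I ≤ Q := by
    intro x hx
    rw [← hQ, Ideal.mem_comap, Ideal.Quotient.eq_zero_iff_mem.mpr hx]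
    exact Ideal.zero_mem _
  haveI : IsRegularLocalRing (Localization.AtPrime Q) :=
    IsRegularRing.isRegularLocalRing_localization Q
  haveI : LocCoh.IsCohenMacaulayLocalRing (Localization.AtPrime Q) :=
    Groth.Agent.Lib.H8CM.isCMLocalRing_of_isRegularLocalRing
  have hJne : I.map (algebraMap P (Localization.AtPrime Q)) ≠ ⊤ :=
    Groth.Agent.Lib.H8CMOpen.map_ne_top I Q hIQ
  have hspan : Ideal.span (Set.range f) = I.map (algebraMap P (Localization.AtPrime Q)) := by
    apply le_antisymm
    · rw [Ideal.span_le]
      rintro _ ⟨i, rfl⟩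
      exact hf i
    · refine Submodule.le_of_le_smul_of_le_jacobson_bot
        (I := maximalIdeal (Localization.AtPrime Q))
        (IsNoetherian.noetherian _) (IsLocalRing.maximalIdeal_le_jacobson ⊥) ?_
      rw [smul_eq_mul]
      exact hgen.ge
  have hofList : Ideal.ofList (List.ofFn f) = I.map (algebraMap P (Localization.AtPrime Q)) := by
    rw [← hspan]
    unfold Ideal.ofList
    congr 1
    ext x
    simp only [List.mem_ofFn, Set.mem_setOf_eq, Set.mem_range]
  have hLmem : ∀ r ∈ List.ofFn f, r ∈ maximalIdeal (Localization.AtPrime Q) := by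
    intro r hr
    have h1 : r ∈ Ideal.ofList (List.ofFn f) := Ideal.subset_span hr
    rw [hofList] at h1
    exact le_maximalIdeal hJne h1
  have hdimR : ringKrullDim (Localization.AtPrime Q) = (Q.height : WithBot ℕ∞) :=
    IsLocalization.AtPrime.ringKrullDim_eq_height Q _
  have hdimJ : ringKrullDim (Localization.AtPrime Q ⧸ I.map (algebraMap P (Localization.AtPrime Q)))
      = (q.height : WithBot ℕ∞) := by
    rw [← Groth.Agent.Lib.H8GradedCM.ringKrullDim_localization_quotient Q I q hQ,
      IsLocalization.AtPrime.ringKrullDim_eq_height q]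
  have hreg : IsWeaklyRegular (Localization.AtPrime Q) (List.ofFn f) := by
    rw [Groth.Agent.Lib.H8CM.isWeaklyRegular_self_iff (List.ofFn f) hLmem, hofList, hdimJ, hdimR,
      List.length_ofFn, ← hc, add_comm]
    push_cast
    rfl
  refine ⟨hreg, ?_⟩
  rw [hofList]
  intro h
  apply hJne
  have : I.map (algebraMap P (Localization.AtPrime Q)) •
      (⊤ : Submodule (Localization.AtPrime Q) (Localization.AtPrime Q)) =
      I.map (algebraMap P (Localization.AtPrime Q)) := by simp
  rw [this] at h
  exact h.symm

/-- Let `S = k[x_1, …, x_n]/I` over a field `k`, `q` a prime of `S` with preimage `q'` in the polynomial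
ring, `c` the natural number with `c + ht(q) = ht(q')`, and `J` the extension of `I` to the local
ring `R = k[x_1, …, x_n]_{q'}`. Any `c` elements of `J` whose images generate `J / q' J` form a
regular sequence in `R`. -/
theorem result (k : Type u) [Field k] (n : ℕ)
    (I : Ideal (MvPolynomial (Fin n) k)) (q : Ideal (MvPolynomial (Fin n) k ⧸ I)) [q.IsPrime] (c : ℕ)
    (hc : (c : ℕ∞) + q.height = (q.comap (Ideal.Quotient.mk I)).height)
    (f : Fin c → Localization.AtPrime (q.comap (Ideal.Quotient.mk I)))
    (hf : ∀ i, f i ∈ I.map (algebraMap _ (Localization.AtPrime (q.comap (Ideal.Quotient.mk I)))))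
    (hgen : Ideal.span (Set.range f) ⊔
        IsLocalRing.maximalIdeal (Localization.AtPrime (q.comap (Ideal.Quotient.mk I))) *
          I.map (algebraMap _ (Localization.AtPrime (q.comap (Ideal.Quotient.mk I)))) =
      I.map (algebraMap _ (Localization.AtPrime (q.comap (Ideal.Quotient.mk I))))) :
    RingTheory.Sequence.IsRegular (Localization.AtPrime (q.comap (Ideal.Quotient.mk I))) (List.ofFn f) := by
  haveI : IsRegularRing (MvPolynomial (Fin n) k) := inferInstance
  exact aux (MvPolynomial (Fin n) k) I q _ rfl c hc f hf hgen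

end Groth.Agent.S12082
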