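import Groth.Statements.S12083
import Mathlib

set_option autoImplicit false
universe u
open CAlg

namespace Groth.Agent.S12083
set_option backward.isDefEq.respectTransparency.types false
set_option linter.style.haveILetI false

open TensorProduct

/-- descent of finite presentation along a surjection -/
lemma fp_of_surjective {S T A' : Type u} [CommRing S] [CommRing T] [CommRing A']
    (π : S →+* T) (hπ : Function.Surjective π) (ψ : T →+* A')
    (N : Type u) [AddCommGroup N] [Module A' N]
    (h : @Module.FinitePresentation S N _ _ (Module.compHom N (ψ.comp π))) :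
    @Module.FinitePresentation T N _ _ (Module.compHom N ψ) := by
  letI mS : Module S N := Module.compHom N (ψ.comp π)
  letI mT : Module T N := Module.compHom N ψ
  letI : Algebra S T := π.toAlgebra
  haveI : IsScalarTower S T N := ⟨fun s t n => by
    show ψ (π s * t) • n = ψ (π s) • (ψ t • n)
    rw [map_mul, mul_smul]⟩
  obtain ⟨m, f, hf⟩ := Module.Finite.exists_fin' S N
  have hker : (LinearMap.ker f).FG := Module.FinitePresentation.fg_ker f hf
  let g : (Fin m → T) →ₗ[T] N := (Pi.basisFun T (Fin m)).constr T (fun i => f (Pi.single i 1))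
  let πm : (Fin m → S) →ₗ[S] (Fin m → T) := (Algebra.linearMap S T).compLeft (Fin m)
  have hπm : Function.Surjective πm := by
    intro v
    choose w hw using fun i => hπ (v i)
    exact ⟨w, funext hw⟩
  have hgf : ∀ s, g (πm s) = f s := by
    intro s
    have h1 : g (πm s) = ∑ i, (πm s i) • f (Pi.single i 1) := by
      simp [g, Module.Basis.constr_apply_fintype]
    rw [h1]
    conv_rhs => rw [← (Pi.basisFun S (Fin m)).sum_repr s, map_sum]
    refine Finset.sum_congr rfl fun i _ => ?_
    rw [map_smul]
    simp only [Pi.basisFun_repr, Pi.basisFun_apply]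
    show (algebraMap S T (s i)) • f (Pi.single i 1) = s i • f (Pi.single i 1)
    rw [algebraMap_smul]
  refine Module.finitePresentation_of_surjective g ?_ ?_
  · intro x
    obtain ⟨s, rfl⟩ := hf x
    exact ⟨πm s, hgf s⟩
  · have hk : (LinearMap.ker g).restrictScalars S = (LinearMap.ker f).map πm := by
      ext v
      simp only [Submodule.restrictScalars_mem, LinearMap.mem_ker, Submodule.mem_map]
      constructor
      · intro hv
        obtain ⟨s, rfl⟩ := hπm v
        exact ⟨s, by rw [← hgf, hv], rfl⟩
      · rintro ⟨s, hs, rfl⟩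
        rw [hgf, hs]
    apply Submodule.FG.of_restrictScalars S
    rw [hk]
    exact hker.map πm

/-- ascent of finite presentation along a surjection of algebras, source f.t., target f.p. -/
lemma fp_of_fp_quotient {R' S T A' : Type u} [CommRing R'] [CommRing S] [CommRing T] [CommRing A']
    [Algebra R' S] [Algebra R' T] [Algebra.FiniteType R' S] [Algebra.FinitePresentation R' T]
    (π : S →ₐ[R'] T) (hπ : Function.Surjective π) (ψ : T →+* A')
    (N : Type u) [AddCommGroup N] [Module A' N]
    (h : @Module.FinitePresentation T N _ _ (Module.compHom N ψ)) :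
    @Module.FinitePresentation S N _ _ (Module.compHom N (ψ.comp π.toRingHom)) := by
  letI mS : Module S N := Module.compHom N (ψ.comp π.toRingHom)
  letI mT : Module T N := Module.compHom N ψ
  letI : Algebra S T := π.toRingHom.toAlgebra
  haveI : IsScalarTower R' S T := IsScalarTower.of_algebraMap_eq fun r => (π.commutes r).symm
  haveI : IsScalarTower S T N := ⟨fun s t n => by
    show ψ (π s * t) • n = ψ (π s) • (ψ t • n)
    rw [map_mul, mul_smul]⟩
  haveI : Algebra.FinitePresentation S T :=
    Algebra.FinitePresentation.of_restrict_scalars_finitePresentation R' S T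
  haveI : Module.Finite S T := Module.Finite.of_surjective (Algebra.linearMap S T) hπ
  haveI : Module.FinitePresentation S T := Module.FinitePresentation.of_finite_of_finitePresentation S T
  haveI : Module.FinitePresentation T N := h
  exact Module.FinitePresentation.trans S N T

/-- base change of relative finite presentation -/
lemma fp_baseChange {R R' P P' A A' : Type u} [CommRing R] [CommRing R'] [CommRing P] [CommRing P']
    [CommRing A] [CommRing A']
    [Algebra R R'] [Algebra R P] [Algebra R' P'] [Algebra P P'] [Algebra R P']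
    [IsScalarTower R R' P'] [IsScalarTower R P P'] [Algebra.IsPushout R R' P P']
    [Algebra R A] [Algebra R' A'] [Algebra A A'] [Algebra R A']
    [IsScalarTower R R' A'] [IsScalarTower R A A'] [Algebra.IsPushout R R' A A']
    (α : P →ₐ[R] A) (α' : P' →ₐ[R'] A')
    (hαα' : ∀ p, α' (algebraMap P P' p) = algebraMap A A' (α p))
    (M : Type u) [AddCommGroup M] [Module A M]
    (hM : @Module.FinitePresentation P M _ _ (Module.compHom M α.toRingHom)) :
    @Module.FinitePresentation P' (A' ⊗[A] M) _ _
      (Module.compHom (A' ⊗[A] M) α'.toRingHom) := by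
  letI mPM : Module P M := Module.compHom M α.toRingHom
  letI mRM : Module R M := Module.compHom M (algebraMap R A)
  haveI : IsScalarTower R A M := ⟨fun r a m => by
    show (r • a) • m = algebraMap R A r • (a • m)
    rw [Algebra.smul_def, mul_smul]⟩
  haveI : IsScalarTower R P M := ⟨fun r p m => by
    show α (r • p) • m = algebraMap R A r • (α p • m)
    rw [map_smul, Algebra.smul_def, mul_smul]⟩
  letI mP'N : Module P' (A' ⊗[A] M) := Module.compHom (A' ⊗[A] M) α'.toRingHom
  letI mPN : Module P (A' ⊗[A] M) :=
    Module.compHom (A' ⊗[A] M) (α'.toRingHom.comp (algebraMap P P'))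
  haveI : IsScalarTower P P' (A' ⊗[A] M) := ⟨fun p p' x => by
    show α' (p • p') • x = α' (algebraMap P P' p) • (α' p' • x)
    rw [Algebra.smul_def, map_mul, mul_smul]⟩
  haveI : Module.FinitePresentation P M := hM
  -- the comparison map
  let g : M →ₗ[P] A' ⊗[A] M :=
    { toFun := fun m => 1 ⊗ₜ m
      map_add' := fun x y => TensorProduct.tmul_add _ _ _
      map_smul' := fun p m => by
        simp only [RingHom.id_apply]
        show (1 : A') ⊗ₜ[A] (α p • m) = α' (algebraMap P P' p) • ((1 : A') ⊗ₜ[A] m)
        rw [hαα', TensorProduct.smul_tmul', ← TensorProduct.smul_tmul, smul_eq_mul, mul_one,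
          Algebra.algebraMap_eq_smul_one] }
  let θ : P' ⊗[P] M →ₗ[P'] A' ⊗[A] M := LinearMap.liftBaseChange P' g
  let eP := Algebra.IsPushout.cancelBaseChange R R' P P' M
  let eA := Algebra.IsPushout.cancelBaseChange R R' A A' M
  have hcomp : ∀ y : R' ⊗[R] M, θ (eP.symm y) = eA.symm y := by
    intro y
    induction y with
    | zero => simp
    | add a b ha hb => rw [map_add, map_add, map_add, ha, hb]
    | tmul r m =>
      rw [Algebra.IsPushout.cancelBaseChange_symm_tmul, Algebra.IsPushout.cancelBaseChange_symm_tmul,
        LinearMap.liftBaseChange_tmul]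
      show α' (algebraMap R' P' r) • ((1 : A') ⊗ₜ[A] m) = _
      rw [α'.commutes, TensorProduct.smul_tmul', smul_eq_mul, mul_one]
  have hθ : Function.Bijective θ := by
    have : (θ : P' ⊗[P] M → A' ⊗[A] M) = eA.symm ∘ eP := by
      funext x
      obtain ⟨y, rfl⟩ := eP.symm.surjective x
      rw [hcomp, Function.comp_apply, LinearEquiv.apply_symm_apply]
    rw [this]
    exact eA.symm.bijective.comp eP.bijective
  exact Module.FinitePresentation.of_equiv (LinearEquiv.ofBijective θ hθ)

attribute [local instance] MvPolynomial.algebraMvPolynomial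


/-- Let `R → A` be a finite type ring map with a surjective presentation `α : R[x_1, …, x_n] → A` and
`M` an `A`-module finitely presented relative to `R` (finitely presented as an `R[x_1, …,
x_n]`-module through `α`). For a ring map `R → R'` let `A' = R' ⊗_R A` (a pushout square) and `γ :
R'[z_1, …, z_k] → A'` any surjective presentation. Then `A' ⊗_A M = R' ⊗_R M` is finitely presented
relative to `R'`, i.e. finitely presented as an `R'[z_1, …, z_k]`-module through `γ`. -/
theorem result {R A R' A' : Type u} [CommRing R] [CommRing A] [CommRing R'] [CommRing A']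
    [Algebra R A] [Algebra R R'] [Algebra A A'] [Algebra R' A'] [Algebra R A'] [IsScalarTower R A A'] [IsScalarTower R R' A']
    [Algebra.IsPushout R A R' A'] [Algebra.FiniteType R A] (M : Type u) [AddCommGroup M] [Module A M] {n k : ℕ}
    (α : MvPolynomial (Fin n) R →ₐ[R] A) (hα : Function.Surjective α)
    (hM : @Module.FinitePresentation (MvPolynomial (Fin n) R) M _ _ (Module.compHom M α.toRingHom))
    (γ : MvPolynomial (Fin k) R' →ₐ[R'] A') (hγ : Function.Surjective γ) :
    @Module.FinitePresentation (MvPolynomial (Fin k) R') (TensorProduct A A' M) _ _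
      (Module.compHom (TensorProduct A A' M) γ.toRingHom) := by
  classical
  haveI : Algebra.IsPushout R R' A A' := Algebra.IsPushout.symm inferInstance
  let α' : MvPolynomial (Fin n) R' →ₐ[R'] A' :=
    MvPolynomial.aeval (fun i => algebraMap A A' (α (MvPolynomial.X i)))
  have hαα' : ∀ p, α' (algebraMap (MvPolynomial (Fin n) R) (MvPolynomial (Fin n) R') p) =
      algebraMap A A' (α p) := by
    intro p
    rw [MvPolynomial.algebraMap_def]
    induction p using MvPolynomial.induction_on with
    | C r =>
      rw [MvPolynomial.map_C, ← MvPolynomial.algebraMap_eq, ← MvPolynomial.algebraMap_eq,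
        AlgHom.commutes, AlgHom.commutes, ← IsScalarTower.algebraMap_apply,
        ← IsScalarTower.algebraMap_apply]
    | add p q hp hq => rw [map_add, map_add, map_add, map_add, hp, hq]
    | mul_X p i hp =>
      rw [map_mul, map_mul, map_mul, map_mul, hp, MvPolynomial.map_X]
      congr 1
      exact MvPolynomial.aeval_X _ i
  have h1 := fp_baseChange α α' hαα' M hM
  have hα' : Function.Surjective α' := by
    intro x
    have hbc : IsBaseChange R' (IsScalarTower.toAlgHom R A A').toLinearMap :=
      (inferInstance : Algebra.IsPushout R R' A A').out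
    induction x using hbc.inductionOn with
    | zero => exact ⟨0, map_zero _⟩
    | tmul a =>
      obtain ⟨p, rfl⟩ := hα a
      exact ⟨_, hαα' p⟩
    | smul r x hx =>
      obtain ⟨p, rfl⟩ := hx
      exact ⟨r • p, map_smul _ _ _⟩
    | add x y hx hy =>
      obtain ⟨p, rfl⟩ := hx
      obtain ⟨q, rfl⟩ := hy
      exact ⟨p + q, map_add _ _ _⟩
  choose pp hpp using fun j : Fin k => hα' (γ (MvPolynomial.X j))
  choose qq hqq using fun i : Fin n => hγ (α' (MvPolynomial.X i))
  let π : MvPolynomial (Fin n ⊕ Fin k) R' →ₐ[R'] MvPolynomial (Fin n) R' :=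
    MvPolynomial.aeval (Sum.elim MvPolynomial.X pp)
  let π' : MvPolynomial (Fin n ⊕ Fin k) R' →ₐ[R'] MvPolynomial (Fin k) R' :=
    MvPolynomial.aeval (Sum.elim qq MvPolynomial.X)
  have hπ : Function.Surjective π := by
    intro p
    refine ⟨MvPolynomial.rename Sum.inl p, ?_⟩
    rw [MvPolynomial.aeval_rename]
    simp
  have hπ' : Function.Surjective π' := by
    intro p
    refine ⟨MvPolynomial.rename Sum.inr p, ?_⟩
    rw [MvPolynomial.aeval_rename]
    simp
  have hcompat : α'.comp π = γ.comp π' := by
    apply MvPolynomial.algHom_ext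
    rintro (i | j)
    · simp [π, π', hqq]
    · simp [π, π', hpp]
  have h2 := fp_of_fp_quotient π hπ α'.toRingHom (A' ⊗[A] M) h1
  have heq : α'.toRingHom.comp π.toRingHom = γ.toRingHom.comp π'.toRingHom := by
    exact RingHom.ext fun x => congr($(hcompat) x)
  rw [heq] at h2
  exact fp_of_surjective π'.toRingHom hπ' γ.toRingHom _ h2

end Groth.Agent.S12083
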