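import Groth.Statements.S12085
import Mathlib
import Groth.Agent.Lib.ColimDescentProps96
import Groth.Agent.Lib.FlatLimDirected88

set_option autoImplicit false
universe u
open TensorProduct
open CAlg

namespace Groth.Agent.S12085

section helpers
open Groth.Agent.Lib.ColimTensor96

/-- The finitely generated subalgebras of a `k`-algebra form a weak filtered colimit system. -/
theorem isWeakColimAlg_fg (k R : Type*) [CommRing k] [CommRing R] [Algebra k R] :
    IsWeakColimAlg (R := k) (fun B : {B : Subalgebra k R // B.FG} => ↥B.1)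
      (fun B => B.1.val) where
  nonempty := ⟨⟨⊥, Subalgebra.fg_bot⟩⟩
  dir B B' := ⟨⟨B.1 ⊔ B'.1, B.2.sup B'.2⟩, Subalgebra.inclusion le_sup_left,
    Subalgebra.inclusion le_sup_right, rfl, rfl⟩
  lift a := ⟨⟨Algebra.adjoin k {a}, by
      have := Subalgebra.fg_adjoin_finset (R := k) ({a} : Finset R)
      simpa using this⟩,
    ⟨a, Algebra.subset_adjoin rfl⟩, rfl⟩
  kill B x hx := ⟨B, AlgHom.id k _, rfl, Subtype.ext hx⟩

end helpers

/-- If `R → S` is G-unramified (of finite presentation and formally unramified), then there are a finite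
type `ℤ`-algebra `R₀`, a ring map `R₀ → R` and a G-unramified ring map `R₀ → S₀` such that `S ≅ R
⊗_{R₀} S₀` as `R`-algebras (existence of an isomorphism). -/
theorem result (R : Type u) [CommRing R] (S : Type u) [CommRing S]
    [Algebra R S] [Algebra.FinitePresentation R S] [Algebra.FormallyUnramified R S] :
    ∃ (R₀ : Type u) (_ : CommRing R₀) (_ : Algebra.FiniteType ℤ R₀) (S₀ : Type u) (_ : CommRing S₀)
      (_ : Algebra R₀ S₀) (_ : Algebra.FinitePresentation R₀ S₀) (_ : Algebra.FormallyUnramified R₀ S₀)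
      (_ : Algebra R₀ R), Nonempty (R ⊗[R₀] S₀ ≃ₐ[R] S) := by
  obtain ⟨k, _, _, S₀, _, _, e, -, hk, hS₀, -⟩ :=
    Groth.Agent.Lib.FlatLimDirected88.exists_model_data (R := R) (S := S) (n := 0) (m := 0)
      (fun i => i.elim0)
  have hkn : IsNoetherianRing k := Algebra.FiniteType.isNoetherianRing ℤ k
  have hfpS₀ : Algebra.FinitePresentation k S₀ := Algebra.FinitePresentation.of_finiteType.mp hS₀
  have hfu : Algebra.FormallyUnramified R (R ⊗[k] S₀) := Algebra.FormallyUnramified.of_equiv e.symm
  have hW := isWeakColimAlg_fg k R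
  obtain ⟨j, u, hu, hj⟩ := Groth.Agent.Lib.ColimDescentProps96.formallyUnramified_descent S₀ hW hfu
    ⟨⊥, Subalgebra.fg_bot⟩
  have hft : Algebra.FiniteType k j.1 := (Subalgebra.fg_iff_finiteType _).mp j.2
  have hftZ : Algebra.FiniteType ℤ j.1 := Algebra.FiniteType.trans hk hft
  refine ⟨j.1, inferInstance, ?_, (j.1 ⊗[k] S₀), inferInstance, inferInstance, inferInstance, hj,
    inferInstance, ⟨?_⟩⟩
  · convert hftZ
  · exact (Algebra.TensorProduct.cancelBaseChange k j.1 R R S₀).trans e

end Groth.Agent.S12085
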