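import Groth.Statements.S12086
import Groth.Agent.Lib.KFlat35

set_option autoImplicit false
universe u
open CategoryTheory CategoryTheory.Limits MonoidalCategory CategoryTheory.Pretriangulated
open DRing

namespace Groth.Agent.S12086

/-- Let `(K₁•, K₂•, K₃•)` be a distinguished triangle in the homotopy category `K(R)` of complexes of
`R`-modules. If two out of the three complexes are K-flat (tensoring with them carries acyclic
complexes to acyclic complexes), then so is the third. -/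
theorem result (R : Type u) [CommRing R]
    (T : Pretriangulated.Triangle (HomotopyCategory (ModuleCat.{u} R) (ComplexShape.up ℤ)))
    (hT : T ∈ Pretriangulated.distinguishedTriangles) :
    ((∀ L : DRing.Cx R, (∀ i : ℤ, IsZero (L.homology i)) → ∀ i : ℤ, IsZero ((L ⊗ T.obj₁.as).homology i)) → (∀ L : DRing.Cx R, (∀ i : ℤ, IsZero (L.homology i)) → ∀ i : ℤ, IsZero ((L ⊗ T.obj₂.as).homology i)) → (∀ L : DRing.Cx R, (∀ i : ℤ, IsZero (L.homology i)) → ∀ i : ℤ, IsZero ((L ⊗ T.obj₃.as).homology i))) ∧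
    ((∀ L : DRing.Cx R, (∀ i : ℤ, IsZero (L.homology i)) → ∀ i : ℤ, IsZero ((L ⊗ T.obj₁.as).homology i)) → (∀ L : DRing.Cx R, (∀ i : ℤ, IsZero (L.homology i)) → ∀ i : ℤ, IsZero ((L ⊗ T.obj₃.as).homology i)) → (∀ L : DRing.Cx R, (∀ i : ℤ, IsZero (L.homology i)) → ∀ i : ℤ, IsZero ((L ⊗ T.obj₂.as).homology i))) ∧
    ((∀ L : DRing.Cx R, (∀ i : ℤ, IsZero (L.homology i)) → ∀ i : ℤ, IsZero ((L ⊗ T.obj₂.as).homology i)) → (∀ L : DRing.Cx R, (∀ i : ℤ, IsZero (L.homology i)) → ∀ i : ℤ, IsZero ((L ⊗ T.obj₃.as).homology i)) → (∀ L : DRing.Cx R, (∀ i : ℤ, IsZero (L.homology i)) → ∀ i : ℤ, IsZero ((L ⊗ T.obj₁.as).homology i))) := by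
  obtain ⟨X, Y, φ, ⟨e⟩⟩ := hT
  -- homotopy equivalences between the vertices and `X`, `Y`, `cone φ`
  have e₁ : HomotopyEquiv T.obj₁.as X :=
    HomotopyCategory.homotopyEquivOfIso (Pretriangulated.Triangle.π₁.mapIso e)
  have e₂ : HomotopyEquiv T.obj₂.as Y :=
    HomotopyCategory.homotopyEquivOfIso (Pretriangulated.Triangle.π₂.mapIso e)
  have e₃ : HomotopyEquiv T.obj₃.as (CochainComplex.mappingCone φ) :=
    HomotopyCategory.homotopyEquivOfIso (Pretriangulated.Triangle.π₃.mapIso e)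
  simp only [← Groth.Agent.Lib.KFlat35.isKFlat_iff]
  rw [Groth.Agent.Lib.KFlat35.isKFlat_iff_of_homotopyEquiv e₁,
    Groth.Agent.Lib.KFlat35.isKFlat_iff_of_homotopyEquiv e₂,
    Groth.Agent.Lib.KFlat35.isKFlat_iff_of_homotopyEquiv e₃]
  exact ⟨fun h1 h2 => Groth.Agent.Lib.KFlat35.isKFlat_mappingCone φ h1 h2,
    fun h1 h3 => Groth.Agent.Lib.KFlat35.isKFlat_tgt_of_cone φ h1 h3,
    fun h2 h3 => Groth.Agent.Lib.KFlat35.isKFlat_src_of_cone φ h2 h3⟩

end Groth.Agent.S12086
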