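import Groth.Statements.S12091
import Mathlib
-- import your own Groth.Agent.* helpers here

set_option autoImplicit false
universe u
open TensorProduct MvPolynomial
open FlatMor

namespace Groth.Agent.S12091

section

variable {A : Type u} [CommRing A] {m : ℕ}

/-- the linear form attached to a coefficient vector. -/
noncomputable def ℓ : (Fin m → A) →ₗ[A] MvPolynomial (Fin m) A where
  toFun k := ∑ j, C (k j) * X j
  map_add' k k' := by
    simp only [Pi.add_apply, map_add, add_mul, Finset.sum_add_distrib]
  map_smul' r k := by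
    simp only [Pi.smul_apply, smul_eq_mul, map_mul, RingHom.id_apply, Finset.smul_sum,
      MvPolynomial.smul_eq_C_mul, mul_assoc]

theorem ℓ_apply (k : Fin m → A) : ℓ k = ∑ j, C (k j) * X j := rfl

theorem ℓ_single (j : Fin m) : ℓ (Pi.single j (1 : A)) = X j := by
  classical
  rw [ℓ_apply, Finset.sum_eq_single j]
  · simp
  · intro i _ hij
    rw [Pi.single_eq_of_ne hij, map_zero, zero_mul]
  · intro h; exact absurd (Finset.mem_univ j) h

theorem pderiv_ℓ (k : Fin m → A) (j : Fin m) : pderiv j (ℓ k) = C (k j) := by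
  classical
  rw [ℓ_apply, map_sum, Finset.sum_eq_single j]
  · simp
  · intro i _ hij
    rw [Derivation.leibniz, pderiv_C, pderiv_X_of_ne hij]
    simp
  · intro h; exact absurd (Finset.mem_univ j) h

variable {M : Type u} [AddCommGroup M] [Module A M] (x : Fin m → M)

theorem aeval_ℓ (f : Fin m → SymmetricAlgebra A M)
    (hf : ∀ j, f j = SymmetricAlgebra.ι A M (x j)) (k : Fin m → A) :
    aeval f (ℓ k) = SymmetricAlgebra.ι A M (Fintype.linearCombination A x k) := by
  rw [ℓ_apply, map_sum, Fintype.linearCombination_apply, map_sum]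
  refine Finset.sum_congr rfl fun j _ => ?_
  rw [map_mul, aeval_C, aeval_X, hf, map_smul, Algebra.smul_def]

/-- key: the kernel of the presentation is generated by the linear forms from relations. -/
theorem ker_le_span (hx : Function.Surjective (Fintype.linearCombination A x))
    (f : Fin m → SymmetricAlgebra A M)
    (hf : ∀ j, f j = SymmetricAlgebra.ι A M (x j)) :
    RingHom.ker (aeval f : MvPolynomial (Fin m) A →ₐ[A] SymmetricAlgebra A M) ≤
      Ideal.span (ℓ '' (LinearMap.ker (Fintype.linearCombination A x) : Set (Fin m → A))) := by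
  set K := LinearMap.ker (Fintype.linearCombination A x) with hK
  set L : Ideal (MvPolynomial (Fin m) A) := Ideal.span (ℓ '' (K : Set (Fin m → A))) with hL
  -- linear map (Fin m → A) → P/L killing K
  let g₀ : (Fin m → A) →ₗ[A] (MvPolynomial (Fin m) A ⧸ L) :=
    (Ideal.Quotient.mkₐ A L).toLinearMap ∘ₗ ℓ
  have hg₀ : K ≤ LinearMap.ker g₀ := by
    intro k hk
    rw [LinearMap.mem_ker]
    change Ideal.Quotient.mk L (ℓ k) = 0
    rw [Ideal.Quotient.eq_zero_iff_mem]
    exact Ideal.subset_span ⟨k, hk, rfl⟩
  let g : M →ₗ[A] (MvPolynomial (Fin m) A ⧸ L) :=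
    (K.liftQ g₀ hg₀) ∘ₗ
      ((Fintype.linearCombination A x).quotKerEquivOfSurjective hx).symm.toLinearMap
  have hg : ∀ k, g (Fintype.linearCombination A x k) = Ideal.Quotient.mk L (ℓ k) := by
    intro k
    have : ((Fintype.linearCombination A x).quotKerEquivOfSurjective hx).symm
        (Fintype.linearCombination A x k) = Submodule.Quotient.mk k := by
      rw [LinearEquiv.symm_apply_eq]
      rfl
    change (K.liftQ g₀ hg₀) (((Fintype.linearCombination A x).quotKerEquivOfSurjective hx).symm
      (Fintype.linearCombination A x k)) = _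
    rw [this, Submodule.liftQ_apply]
    rfl
  let β : SymmetricAlgebra A M →ₐ[A] (MvPolynomial (Fin m) A ⧸ L) := SymmetricAlgebra.lift g
  have hβ : β.comp (aeval f) = Ideal.Quotient.mkₐ A L := by
    refine MvPolynomial.algHom_ext fun j => ?_
    rw [AlgHom.comp_apply, aeval_X, hf]
    change SymmetricAlgebra.lift g (SymmetricAlgebra.ι A M (x j)) = _
    rw [SymmetricAlgebra.lift_ι_apply]
    have : x j = Fintype.linearCombination A x (Pi.single j 1) := by
      simp [Fintype.linearCombination_apply]
    rw [this, hg, ℓ_single]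
    rfl
  intro p hp
  rw [RingHom.mem_ker] at hp
  have := AlgHom.congr_fun hβ p
  rw [AlgHom.comp_apply] at this
  change β (aeval f p) = _ at this
  rw [show (aeval f) p = 0 from hp, map_zero] at this
  exact Ideal.Quotient.eq_zero_iff_mem.1 this.symm


theorem mem_ker_iff (G : Algebra.Generators A (SymmetricAlgebra A M) (Fin m))
    (p : MvPolynomial (Fin m) A) :
    p ∈ G.toExtension.ker ↔ aeval G.val p = 0 := by
  rw [← Algebra.Generators.algebraMap_apply]
  exact RingHom.mem_ker

variable (G : Algebra.Generators A (SymmetricAlgebra A M) (Fin m))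
  (hG : ∀ j, G.val j = SymmetricAlgebra.ι A M (x j))

include hG in
theorem ℓ_mem_ker (k : LinearMap.ker (Fintype.linearCombination A x)) :
    ℓ (k : Fin m → A) ∈ G.toExtension.ker := by
  rw [mem_ker_iff, aeval_ℓ x G.val hG, LinearMap.mem_ker.1 k.2, map_zero]

/-- the `A`-linear map `K → J/J²`. -/
noncomputable def e₀ : LinearMap.ker (Fintype.linearCombination A x) →ₗ[A]
    G.toExtension.Cotangent where
  toFun k := Algebra.Extension.Cotangent.mk ⟨ℓ (k : Fin m → A), ℓ_mem_ker x G hG k⟩
  map_add' k k' := by
    rw [← map_add]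
    congr 1
    exact Subtype.ext (map_add ℓ (k : Fin m → A) (k' : Fin m → A))
  map_smul' r k := by
    rw [RingHom.id_apply, ← LinearMap.map_smul_of_tower]
    congr 1
    exact Subtype.ext (map_smul ℓ r (k : Fin m → A))

theorem e₀_apply (k : LinearMap.ker (Fintype.linearCombination A x)) :
    e₀ x G hG k = Algebra.Extension.Cotangent.mk ⟨ℓ (k : Fin m → A), ℓ_mem_ker x G hG k⟩ := rfl

/-- the `C`-linear map `C ⊗ K → J/J²`. -/
noncomputable def e : SymmetricAlgebra A M ⊗[A] LinearMap.ker (Fintype.linearCombination A x)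
    →ₗ[SymmetricAlgebra A M] G.toExtension.Cotangent :=
  (e₀ x G hG).liftBaseChange (SymmetricAlgebra A M)

theorem e_one_tmul (k : LinearMap.ker (Fintype.linearCombination A x)) :
    e x G hG (1 ⊗ₜ k) = e₀ x G hG k := by
  rw [e, LinearMap.liftBaseChange_one_tmul]

theorem e_tmul (c : SymmetricAlgebra A M) (k : LinearMap.ker (Fintype.linearCombination A x)) :
    e x G hG (c ⊗ₜ k) = c • e₀ x G hG k := by
  rw [e, LinearMap.liftBaseChange_tmul]

theorem mk_smul_eq (c : G.toExtension.Ring)
    (y : G.toExtension.Ring) (hy : y ∈ G.toExtension.ker) (hcy : c * y ∈ G.toExtension.ker) :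
    (Algebra.Extension.Cotangent.mk ⟨c * y, hcy⟩ : G.toExtension.Cotangent) =
      (algebraMap G.toExtension.Ring (SymmetricAlgebra A M) c) •
        Algebra.Extension.Cotangent.mk ⟨y, hy⟩ := by
  have h1 : (⟨c * y, hcy⟩ : G.toExtension.ker) = c • ⟨y, hy⟩ := rfl
  rw [h1, map_smul]
  exact (algebraMap_smul (SymmetricAlgebra A M) c _).symm

theorem mk_add_eq
    (y y' : G.toExtension.Ring) (hy : y ∈ G.toExtension.ker) (hy' : y' ∈ G.toExtension.ker)
    (h : y + y' ∈ G.toExtension.ker) :
    (Algebra.Extension.Cotangent.mk ⟨y + y', h⟩ : G.toExtension.Cotangent) =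
      Algebra.Extension.Cotangent.mk ⟨y, hy⟩ + Algebra.Extension.Cotangent.mk ⟨y', hy'⟩ := by
  rw [← map_add]
  rfl

theorem mk_zero_eq
    (h : (0 : G.toExtension.Ring) ∈ G.toExtension.ker) :
    (Algebra.Extension.Cotangent.mk ⟨0, h⟩ : G.toExtension.Cotangent) = 0 := by
  have : (⟨0, h⟩ : G.toExtension.ker) = 0 := rfl
  rw [this, map_zero]

/-- the generating set, as a subset of the ring of the extension -/
def gens : Set G.toExtension.Ring :=
  (fun k => (ℓ k : MvPolynomial (Fin m) A)) '' (LinearMap.ker (Fintype.linearCombination A x) : Set (Fin m → A))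

include hG in
theorem ker_le_span' (hx : Function.Surjective (Fintype.linearCombination A x)) :
    G.toExtension.ker ≤ Ideal.span (gens x G) := by
  intro y hy
  exact ker_le_span x hx G.val hG (RingHom.mem_ker.2 ((mem_ker_iff G y).1 hy))

include hG in
theorem span_le_ker : Ideal.span (gens x G) ≤ G.toExtension.ker := by
  refine Ideal.span_le.2 ?_
  rintro _ ⟨k, hk, rfl⟩
  exact ℓ_mem_ker x G hG ⟨k, hk⟩

theorem e_surjective (hx : Function.Surjective (Fintype.linearCombination A x)) :
    Function.Surjective (e x G hG) := by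
  intro z
  obtain ⟨⟨y, hy⟩, rfl⟩ := Algebra.Extension.Cotangent.mk_surjective z
  have hy' : y ∈ Ideal.span (gens x G) := ker_le_span' x G hG hx hy
  have hle := span_le_ker x G hG
  revert hy
  refine Submodule.span_induction (p := fun y _ => ∀ hy : y ∈ G.toExtension.ker,
    ∃ a, e x G hG a = Algebra.Extension.Cotangent.mk ⟨y, hy⟩) ?_ ?_ ?_ ?_ hy'
  · rintro _ ⟨k, hk, rfl⟩ hy
    exact ⟨1 ⊗ₜ ⟨k, hk⟩, by rw [e_one_tmul, e₀_apply]⟩
  · intro hy
    exact ⟨0, by rw [map_zero, mk_zero_eq]⟩
  · intro y₁ y₂ h₁ h₂ ih₁ ih₂ hy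
    obtain ⟨a₁, ha₁⟩ := ih₁ (hle h₁)
    obtain ⟨a₂, ha₂⟩ := ih₂ (hle h₂)
    exact ⟨a₁ + a₂, by rw [map_add, ha₁, ha₂, ← mk_add_eq]⟩
  · intro c y₁ h₁ ih₁ hy
    obtain ⟨a₁, ha₁⟩ := ih₁ (hle h₁)
    refine ⟨(algebraMap G.toExtension.Ring (SymmetricAlgebra A M) c) • a₁, ?_⟩
    rw [map_smul, ha₁, ← mk_smul_eq]
    rfl

theorem e_injective (hx : Function.Surjective (Fintype.linearCombination A x))
    [Module.Projective A M] : Function.Injective (e x G hG) := by
  classical
  obtain ⟨s, hs⟩ := Module.projective_lifting_property (Fintype.linearCombination A x)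
    (LinearMap.id : M →ₗ[A] M) hx
  have hs' : ∀ y, Fintype.linearCombination A x (s y) = y := fun y => LinearMap.congr_fun hs y
  let r : (Fin m → A) →ₗ[A] LinearMap.ker (Fintype.linearCombination A x) :=
    LinearMap.codRestrict _ (LinearMap.id - s ∘ₗ (Fintype.linearCombination A x)) (fun a => by
      rw [LinearMap.mem_ker, LinearMap.sub_apply, map_sub, LinearMap.id_apply,
        LinearMap.comp_apply, hs', sub_self])
  have hr : ∀ k : LinearMap.ker (Fintype.linearCombination A x), r (k : Fin m → A) = k := by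
    intro k
    apply Subtype.ext
    change (k : Fin m → A) - s (Fintype.linearCombination A x (k : Fin m → A)) = k
    rw [LinearMap.mem_ker.1 k.2, map_zero, sub_zero]
  let Ξ : (Fin m →₀ SymmetricAlgebra A M) →ₗ[SymmetricAlgebra A M]
      SymmetricAlgebra A M ⊗[A] LinearMap.ker (Fintype.linearCombination A x) :=
    Finsupp.linearCombination (SymmetricAlgebra A M)
      (fun j => (1 : SymmetricAlgebra A M) ⊗ₜ[A] r (Pi.single j 1))
  let D : SymmetricAlgebra A M ⊗[A] LinearMap.ker (Fintype.linearCombination A x)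
      →ₗ[SymmetricAlgebra A M] (Fin m →₀ SymmetricAlgebra A M) :=
    G.cotangentSpaceBasis.repr.toLinearMap ∘ₗ G.toExtension.cotangentComplex ∘ₗ (e x G hG)
  have hD1 : ∀ k : LinearMap.ker (Fintype.linearCombination A x), ∀ j,
      D (1 ⊗ₜ k) j = algebraMap A (SymmetricAlgebra A M) ((k : Fin m → A) j) := by
    intro k j
    change G.cotangentSpaceBasis.repr (G.toExtension.cotangentComplex (e x G hG (1 ⊗ₜ k))) j = _
    rw [e_one_tmul, e₀_apply, Algebra.Extension.cotangentComplex_mk,
      Algebra.Generators.cotangentSpaceBasis_repr_one_tmul]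
    change aeval G.val (pderiv j (ℓ (k : Fin m → A))) = _
    rw [pderiv_ℓ, aeval_C]
  have key1 : ∀ k : LinearMap.ker (Fintype.linearCombination A x),
      Ξ (D (1 ⊗ₜ k)) = 1 ⊗ₜ k := by
    intro k
    change Finsupp.linearCombination (SymmetricAlgebra A M) _ (D (1 ⊗ₜ k)) = _
    rw [Finsupp.linearCombination_apply, Finsupp.sum_fintype]
    swap
    · intro j; exact zero_smul _ _
    simp_rw [hD1 k, algebraMap_smul, ← TensorProduct.tmul_smul, ← map_smul]
    rw [← TensorProduct.tmul_sum, ← map_sum]
    have : ∑ j, (k : Fin m → A) j • (Pi.single j (1 : A) : Fin m → A) = k := by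
      funext i
      simp [Finset.sum_apply, Pi.single_apply]
    rw [this, hr]
  have key : ∀ z, Ξ (D z) = z := by
    intro z
    induction z using TensorProduct.induction_on with
    | zero => rw [map_zero, map_zero]
    | tmul c k =>
      have : c ⊗ₜ[A] k = c • ((1 : SymmetricAlgebra A M) ⊗ₜ[A] k) := by
        rw [TensorProduct.smul_tmul', smul_eq_mul, mul_one]
      rw [this, map_smul, map_smul, key1]
    | add a b ha hb => rw [map_add, map_add, ha, hb]
  intro z z' h
  have : D z = D z' := by
    change G.cotangentSpaceBasis.repr (G.toExtension.cotangentComplex (e x G hG z)) =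
      G.cotangentSpaceBasis.repr (G.toExtension.cotangentComplex (e x G hG z'))
    rw [h]
  rw [← key z, ← key z', this]

end


/-- Let `x_1, …, x_m` generate the `A`-module `M`, let `K ⊆ A^m` be the module of relations, `C =
Sym_A(M)` and `α : A[y_1, …, y_m] → C` the presentation with `y_j ↦ x_j`, with kernel `J`. Then the
`C`-linear map `C ⊗_A K → J/J²` sending `1 ⊗ k` to the class of `Σ_j k_j y_j` is surjective, and it
is bijective when `M` is a projective `A`-module (so that then `J/J² ≅ K ⊗_A C` and the naive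
cotangent complex of `α` is `K ⊗_A C → ⊕_j C dy_j`). (The published statement asserts `J/J² ≅ K ⊗_A
C` for every `M`. For `A = ℤ`, `M = (ℤ/2)²`, `m = 2` and the two unit vectors, `K = 2ℤ²` and the
element `y_2 ⊗ (2, 0) - y_1 ⊗ (0, 2)` of `C ⊗_A K` is non-zero but maps to the class of `y_2 · 2y_1
- y_1 · 2y_2 = 0`; in degree `2` the graded piece of `J/J²` has `8` elements and that of `K ⊗_A C`
has `16`. The published degree-by-degree computation does show that `J` is generated by the linear
forms coming from `K`, which is the surjectivity, and it is valid as written when `0 → K → A^m → M →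
0` splits, which is the projective case.) -/
theorem result (A : Type u) [CommRing A] (M : Type u)
    [AddCommGroup M] [Module A M] (m : ℕ) (x : Fin m → M)
    (hx : Function.Surjective (Fintype.linearCombination A x))
    (G : Algebra.Generators A (SymmetricAlgebra A M) (Fin m))
    (hG : ∀ j, G.val j = SymmetricAlgebra.ι A M (x j)) :
    ∃ e : SymmetricAlgebra A M ⊗[A] (LinearMap.ker (Fintype.linearCombination A x)) →ₗ[SymmetricAlgebra A M]
        G.toExtension.Cotangent,
      (∀ (k : LinearMap.ker (Fintype.linearCombination A x))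
        (hk : (∑ j, C ((k : Fin m → A) j) * X j : MvPolynomial (Fin m) A) ∈ G.toExtension.ker),
        e (1 ⊗ₜ k) = Algebra.Extension.Cotangent.mk ⟨_, hk⟩) ∧
      Function.Surjective e ∧ (Module.Projective A M → Function.Bijective e) := by
  refine ⟨e x G hG, ?_, e_surjective x G hG hx, fun hproj => ⟨?_, e_surjective x G hG hx⟩⟩
  · intro k hk
    rw [e_one_tmul, e₀_apply]
    rfl
  · haveI := hproj
    exact e_injective x G hG hx

end Groth.Agent.S12091
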