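import Groth.Statements.S12093
import Groth.Agent.Lib.TorAmpKFlat35

set_option autoImplicit false
universe u
open CategoryTheory CategoryTheory.Limits MonoidalCategory
attribute [local instance] HasDerivedCategory.standard
open DRing

namespace Groth.Agent.S12093

/-- Let `K•` be a complex of `R`-modules (for which `− ⊗^L_R K•` is assumed to exist) and `a` an
integer. Then `K•` has tor amplitude in `[a, ∞)`, i.e. `H^i(M ⊗^L_R K•) = 0` for every `R`-module
`M` and every `i < a`, if and only if `K•` is quasi-isomorphic to a K-flat complex `E•` (tensoring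
with `E•` preserves acyclic complexes) with flat terms and `E^i = 0` for `i < a`. -/
theorem result (R : Type u) [CommRing R] (a : ℤ) (K : DRing.Cx R)
    [DRing.HasLTensorCx R K] :
    (∀ (M : ModuleCat.{u} R) (i : ℤ), i < a →
        Subsingleton (Dual.HD R ((DRing.LTensorCx R K).obj
          (DRing.toD ((CochainComplex.singleFunctor (ModuleCat.{u} R) 0).obj M))) i)) ↔
      ∃ E : DRing.Cx R, (∀ L : DRing.Cx R, (∀ i : ℤ, IsZero (L.homology i)) → ∀ i : ℤ, IsZero ((L ⊗ E).homology i)) ∧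
        DRing.TermwiseFlat E ∧ (∀ i : ℤ, i < a → IsZero (E.X i)) ∧ Nonempty (DRing.toD E ≅ DRing.toD K) := by
  obtain ⟨n, rfl⟩ : ∃ n : ℤ, a = n + 1 + 1 := ⟨a - 2, by ring⟩
  constructor
  · intro h
    obtain ⟨F, s, hF, hFf, hfl, hs, -⟩ :=
      Groth.Agent.Lib.SemiFreeKProj35.exists_kprojective_resolution K
    haveI := hs
    have hex : ∀ (M : ModuleCat.{u} R) (i : ℤ), i < n + 1 + 1 →
        IsZero ((HomologicalComplex.tensorObj (Groth.Agent.Lib.TorAmpKFlat35.sg M) F).homology i) := by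
      intro M i hi
      obtain ⟨j⟩ := Groth.Agent.Lib.TorAmpKFlat35.nonempty_homology_iso K F hFf
        (asIso (DerivedCategory.Q.map s)) (Groth.Agent.Lib.TorAmpKFlat35.sg M) i
      haveI : Subsingleton ((DerivedCategory.homologyFunctor (ModuleCat.{u} R) i).obj
        ((LTensorCx R K).obj (DerivedCategory.Q.obj (Groth.Agent.Lib.TorAmpKFlat35.sg M)))) :=
        h M i hi
      exact (ModuleCat.isZero_of_subsingleton _).of_iso j.symm
    obtain ⟨E, hE, hEfl, hEz, ⟨e⟩⟩ :=
      Groth.Agent.Lib.TorAmpKFlat35.exists_truncated_rep F hFf hfl n hex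
    exact ⟨E, (Groth.Agent.Lib.KFlat35.isKFlat_iff E).1 hE, hEfl, hEz,
      ⟨e ≪≫ asIso (DerivedCategory.Q.map s)⟩⟩
  · rintro ⟨E, hE, hEfl, hEz, ⟨e⟩⟩ M i hi
    obtain ⟨j⟩ := Groth.Agent.Lib.TorAmpKFlat35.nonempty_homology_iso K E
      ((Groth.Agent.Lib.KFlat35.isKFlat_iff E).2 hE) e (Groth.Agent.Lib.TorAmpKFlat35.sg M) i
    have hz : IsZero ((HomologicalComplex.tensorObj (Groth.Agent.Lib.TorAmpKFlat35.sg M) E).X i) :=
      Groth.Agent.Lib.TorAmpKFlat35.isZero_tensor_X M E i (hEz i hi)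
    have hz' : IsZero ((HomologicalComplex.tensorObj (Groth.Agent.Lib.TorAmpKFlat35.sg M) E).homology i) :=
      ShortComplex.isZero_homology_of_isZero_X₂ _ hz
    exact ModuleCat.subsingleton_of_isZero (hz'.of_iso j)

end Groth.Agent.S12093
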