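import Groth.Statements.S7082
import Groth.Agent.Lib.DTwoTerm3
import Mathlib.Algebra.Category.ModuleCat.EnoughInjectives
import Mathlib.Algebra.Homology.DerivedCategory.Linear

set_option autoImplicit false
universe u
attribute [local instance] HasDerivedCategory.standard
open CategoryTheory
open DRing

namespace Groth.Agent.S7082

/-- (1)⇔(3): let R be a commutative ring, I an ideal and K an object of D(R) whose cohomology vanishes
outside degrees -1 and 0. Then I annihilates Ext^1_R(K, N) = Hom_{D(R)}(K, N[1]) for every R-module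
N if and only if, for every two-term complex E in degrees -1 and 0 with E^0 projective that
represents K, and every a in I, multiplication by a on E^{-1} factors through the differential
E^{-1} → E^0. -/
theorem result {R : Type u} [CommRing R] (I : Ideal R) (K : Dual.D R)
    (hK : ∀ i : ℤ, i ≠ -1 → i ≠ 0 → Subsingleton (Dual.HD R K i)) :
    (∀ (N : Type u) [AddCommGroup N] [Module R N] (a : R), a ∈ I →
        ∀ ξ : K ⟶ (Dual.inD R N)⟦(1 : ℤ)⟧, a • ξ = 0) ↔
      ∀ (E : DRing.Cx R), DRing.VanishesOutside E (-1) 0 → Module.Projective R (E.X 0) →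
        Nonempty (DRing.toD E ≅ K) → ∀ a : R, a ∈ I →
          ∃ h : E.X 0 ⟶ E.X (-1), E.d (-1) 0 ≫ h = a • 𝟙 (E.X (-1)) := by
  constructor
  · intro hyp E hE hE0 ⟨e⟩ a ha
    have h1 : E.IsStrictlyLE 0 := by
      rw [CochainComplex.isStrictlyLE_iff]
      intro i hi
      exact hE i (Or.inr hi)
    have h2 : Projective (E.X 0) := (IsProjective.iff_projective (R := R) (E.X 0)).mp hE0
    have h3 : E.IsStrictlyGE (-1) := by
      rw [CochainComplex.isStrictlyGE_iff]
      intro i hi
      exact hE i (Or.inl hi)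
    obtain ⟨h, hh⟩ := Groth.Agent.Lib.DTwoTerm.exists_factor_of_comp_eq_zero E E (a • 𝟙 E)
      (fun ξ => by
        have h0 := hyp (E.X (-1)) a ha (e.inv ≫ ξ)
        rw [Functor.map_smul, CategoryTheory.Functor.map_id, Linear.smul_comp, Category.id_comp]
        have : a • ξ = e.hom ≫ (a • (e.inv ≫ ξ)) := by
          rw [Linear.comp_smul, Iso.hom_inv_id_assoc]
        rw [this, h0, Limits.comp_zero])
    refine ⟨-h, ?_⟩
    have h4 : (a • 𝟙 E).f (-1) = a • 𝟙 (E.X (-1)) := by simp
    rw [h4] at hh
    rw [Preadditive.comp_neg]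
    exact (eq_neg_of_add_eq_zero_left hh).symm
  · intro hyp N _ _ a ha ξ
    have := Groth.Agent.Lib.ProjResolution.isLE_of_subsingleton R K 0
      (fun i hi => hK i (by lia) (by lia))
    have : DerivedCategory.IsGE K (0 - 1) := Groth.Agent.Lib.ProjResolution.isGE_of_subsingleton R K (0 - 1)
      (fun i hi => hK i (by lia) (by lia))
    obtain ⟨E, h1, h2, h3, ⟨e⟩⟩ := Groth.Agent.Lib.DTwoTerm.exists_twoTerm_rep K 0
    have hE : DRing.VanishesOutside E (-1) 0 := by
      intro i hi
      rcases hi with hi | hi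
      · exact E.isZero_of_isStrictlyGE (0 - 1) i (by lia)
      · exact E.isZero_of_isStrictlyLE 0 i hi
    have hE0 : Module.Projective R (E.X 0) := ModuleCat.projective_of_module_projective (E.X 0)
    obtain ⟨h, hh⟩ := hyp E hE hE0 ⟨e⟩ a ha
    have h0 := Groth.Agent.Lib.DTwoTerm.comp_eq_zero_of_factor E E (a • 𝟙 E) (-h) (by
      have h4 : (a • 𝟙 E).f (-1) = a • 𝟙 (E.X (-1)) := by simp
      rw [h4, Preadditive.comp_neg, hh, add_neg_cancel]) (ModuleCat.of R N) (e.hom ≫ ξ)
    rw [Functor.map_smul, CategoryTheory.Functor.map_id, Linear.smul_comp, Category.id_comp,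
      ← Linear.comp_smul] at h0
    rw [← cancel_epi e.hom, h0, Limits.comp_zero]

end Groth.Agent.S7082
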