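import Groth.Statements.S12094
import Groth.Agent.S7082
import Groth.Agent.Lib.DTwoTerm4
import Groth.Agent.Lib.TwoTermRepD2

set_option autoImplicit false
universe u
open CategoryTheory
attribute [local instance] HasDerivedCategory.standard
open DRing

namespace Groth.Agent.S12094

/-- (1) ⇔ (2): let `I ⊆ R` be an ideal and `K ∈ D(R)` with `H^i(K) = 0` for `i ∉ {-1, 0}`. Then some
power `I^c` annihilates `Ext¹_R(K, N) = Hom_{D(R)}(K, N[1])` for every `R`-module `N` if and only
if, for some `c`, (a) `I^c` annihilates `H^{-1}(K)` and (b) `H^0(K)` is `I^c`-projective, i.e. `I^c`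
annihilates `Ext¹_R(H^0(K), N)` for every `R`-module `N`. -/
theorem result {R : Type u} [CommRing R] (I : Ideal R) (K : Dual.D R)
    (hK : ∀ i : ℤ, i ≠ -1 → i ≠ 0 → Subsingleton (Dual.HD R K i)) :
    (∃ c : ℕ, ∀ (N : Type u) [AddCommGroup N] [Module R N] (a : R), a ∈ I ^ c →
        ∀ ξ : K ⟶ (Dual.inD R N)⟦(1 : ℤ)⟧, a • ξ = 0) ↔
      ∃ c : ℕ, (∀ a : R, a ∈ I ^ c → ∀ x : Dual.HD R K (-1), a • x = 0) ∧
        ∀ (N : Type u) [AddCommGroup N] [Module R N] (a : R), a ∈ I ^ c →
          ∀ ξ : Dual.inD R (Dual.HD R K 0) ⟶ (Dual.inD R N)⟦(1 : ℤ)⟧, a • ξ = 0 := by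
  have hLE := Groth.Agent.Lib.ProjResolution.isLE_of_subsingleton R K 0
    (fun i hi => hK i (by lia) (by lia))
  have hGE : DerivedCategory.IsGE K (-1) :=
    Groth.Agent.Lib.ProjResolution.isGE_of_subsingleton R K (-1)
      (fun i hi => hK i (by lia) (by lia))
  have hGE' : DerivedCategory.IsGE K (0 - 1) := hGE
  obtain ⟨ι, π, δ, hT⟩ := Groth.Agent.Lib.DTwoTerm.exists_triangle K (-1) 0 (by simp)
  constructor
  · rintro ⟨c, hc⟩
    refine ⟨c, ?_, ?_⟩
    · intro a ha x
      have h7082 := (Groth.Agent.S7082.result (I ^ c) K hK).mp hc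
      obtain ⟨E, h1, h2, h3, ⟨e⟩⟩ := Groth.Agent.Lib.DTwoTerm.exists_twoTerm_rep K 0
      have hE : DRing.VanishesOutside E (-1) 0 := by
        intro i hi
        rcases hi with hi | hi
        · exact E.isZero_of_isStrictlyGE (0 - 1) i (by lia)
        · exact E.isZero_of_isStrictlyLE 0 i hi
      have hE0 : Module.Projective R (E.X 0) := ModuleCat.projective_of_module_projective (E.X 0)
      obtain ⟨h, hh⟩ := h7082 E hE hE0 ⟨e⟩ a ha
      let φ := Groth.Agent.Lib.TwoTermRep.homologyEquiv K E e.symm (-2) (-1) 0 (by simp) (by simp)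
      apply φ.injective
      rw [map_smul, map_zero]
      obtain ⟨y, hy⟩ := Submodule.Quotient.mk_surjective _ (φ x)
      rw [← hy]
      have hy0 : a • y = 0 := by
        apply Subtype.ext
        have h5 := congr($(hh).hom y.val)
        have h6 : (E.d (-1) 0).hom y.val = 0 := LinearMap.mem_ker.mp y.2
        simp only [ModuleCat.hom_comp, LinearMap.comp_apply, h6, map_zero, ModuleCat.hom_smul,
          LinearMap.smul_apply, ModuleCat.hom_id, LinearMap.id_apply] at h5
        rw [Submodule.coe_smul, ← h5]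
        rfl
      have hy1 : a • (Submodule.Quotient.mk y : _ ⧸ (HomologicalComplex.sc' E (-2) (-1)
          0).moduleCatToCycles.range) = Submodule.Quotient.mk (a • y) := rfl
      exact hy1.trans ((congrArg Submodule.Quotient.mk hy0).trans (Submodule.Quotient.mk_zero _))
    · intro N _ _ a ha ξ
      have h0 : π ≫ (a • ξ) = 0 := by
        rw [Linear.comp_smul]
        exact hc N a ha (π ≫ ξ)
      obtain ⟨g, hg⟩ := Pretriangulated.Triangle.yoneda_exact₃ _ hT (a • ξ) h0
      rw [hg, Groth.Agent.Lib.DTwoTerm.hom_single_shift_eq_zero _ _ (-1) 0 (by lia) g]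
      exact Limits.comp_zero
  · rintro ⟨c, hc1, hc2⟩
    refine ⟨c + c, ?_⟩
    intro N _ _ a ha ξ
    rw [pow_add] at ha
    refine Submodule.mul_induction_on ha ?_ ?_
    · intro a₁ h₁ a₂ h₂
      have z : a₂ • 𝟙 ((DerivedCategory.homologyFunctor (ModuleCat.{u} R) (-1)).obj K) = 0 := by
        apply ModuleCat.hom_ext
        apply LinearMap.ext
        intro x
        simp only [ModuleCat.hom_smul, LinearMap.smul_apply, ModuleCat.hom_id, LinearMap.id_apply,
          ModuleCat.hom_zero, LinearMap.zero_apply]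
        exact hc1 a₂ h₂ x
      have zι : a₂ • ι = 0 := by
        have : a₂ • ι = (DerivedCategory.singleFunctor (ModuleCat.{u} R) (-1)).map
            (a₂ • 𝟙 ((DerivedCategory.homologyFunctor (ModuleCat.{u} R) (-1)).obj K)) ≫ ι := by
          rw [Functor.map_smul, CategoryTheory.Functor.map_id, Linear.smul_comp, Category.id_comp]
        rw [this, z, Functor.map_zero, Limits.zero_comp]
      have h0 : ι ≫ (a₂ • ξ) = 0 := by
        rw [Linear.comp_smul, ← Linear.smul_comp, zι, Limits.zero_comp]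
      obtain ⟨η, hη⟩ : ∃ η : (DerivedCategory.singleFunctor (ModuleCat.{u} R) 0).obj
          ((DerivedCategory.homologyFunctor (ModuleCat.{u} R) 0).obj K) ⟶
            (Dual.inD R N)⟦(1 : ℤ)⟧, a₂ • ξ = π ≫ η :=
        Pretriangulated.Triangle.yoneda_exact₂ _ hT (a₂ • ξ) h0
      have h3 : a₁ • η = 0 := hc2 N a₁ h₁ η
      rw [mul_smul, hη, ← Linear.comp_smul, h3, Limits.comp_zero]
    · intro x y hx hy
      rw [add_smul, hx, hy, add_zero]

end Groth.Agent.S12094
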