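import Groth.Statements.S12096
import Groth.Agent.Lib.BlowUpAffine82

set_option autoImplicit false
universe u
open BlowUp

namespace Groth.Agent.S12096

/-- Néron's blowup is compatible with localization. For a ring `A`, an ideal `I`, elements `π, a ∈ A`,
`A' = A[I/π] ⊆ A_π` the affine blowup algebra and `(A_a)' = A_a[I A_a/π]` that of the localization,
the canonical map `A' → (A_a)'` (the restriction of `A_π → (A_a)_π`, given here as a datum with that
compatibility) identifies `(A_a)'` with the localization `A'_a`. In Néron's situation (`I` the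
inverse image of the maximal ideal of `Λ`, `π` a uniformizer, `a ∉ I`) this reads: the Néron blowup
of `A_a` is `A'_a`; the identity holds for arbitrary `A, I, π, a`. -/
theorem result (A : Type u) [CommRing A] (I : Ideal A) (π a : A) (hπ : π ∈ I)
    (ψ : BlowUp.affineAlgebra A I π →+*
      BlowUp.affineAlgebra (Localization.Away a) (I.map (algebraMap A (Localization.Away a))) (algebraMap A (Localization.Away a) π))
    (hψ : ∀ x : BlowUp.affineAlgebra A I π,
      ((ψ x : BlowUp.affineAlgebra (Localization.Away a) (I.map (algebraMap A (Localization.Away a))) (algebraMap A (Localization.Away a) π)) :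
          Localization.Away (algebraMap A (Localization.Away a) π)) =
        Localization.awayMap (algebraMap A (Localization.Away a)) π (x : Localization.Away π)) :
    letI := ψ.toAlgebra
    IsLocalization.Away (algebraMap A (BlowUp.affineAlgebra A I π) a)
      (BlowUp.affineAlgebra (Localization.Away a) (I.map (algebraMap A (Localization.Away a))) (algebraMap A (Localization.Away a) π)) := by
  classical
  letI := ψ.toAlgebra
  have hπ' : algebraMap A (Localization.Away a) π ∈ I.map (algebraMap A (Localization.Away a)) :=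
    Ideal.mem_map_of_mem _ hπ
  have hψfrac : ∀ (n : ℕ) (y : A) (hy : y ∈ I ^ n),
      ((ψ ⟨Groth.Agent.Lib.BlowUpAffine82.frac π y n,
        Groth.Agent.Lib.BlowUpAffine82.frac_mem hπ n y hy⟩ :
          BlowUp.affineAlgebra (Localization.Away a) (I.map (algebraMap A (Localization.Away a)))
            (algebraMap A (Localization.Away a) π)) :
        Localization.Away (algebraMap A (Localization.Away a) π)) =
      Groth.Agent.Lib.BlowUpAffine82.frac (algebraMap A (Localization.Away a) π)
        (algebraMap A (Localization.Away a) y) n := by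
    intro n y hy
    rw [hψ]
    exact Groth.Agent.Lib.BlowUpAffine82.awayMap_frac π (algebraMap A (Localization.Away a)) y n
  have hψalg : ∀ b : A, ψ (algebraMap A _ b) =
      algebraMap (Localization.Away a) _ (algebraMap A (Localization.Away a) b) := by
    intro b
    apply Subtype.ext
    rw [hψ]
    exact IsLocalization.map_eq _ _
  refine (isLocalization_iff _ _).2 ⟨?_, ?_, ?_⟩
  · rintro ⟨_, k, rfl⟩
    change IsUnit (ψ (algebraMap A (BlowUp.affineAlgebra A I π) a ^ k))
    rw [map_pow, hψalg]
    exact ((IsLocalization.Away.algebraMap_isUnit a).map _).pow k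
  · rintro ⟨z, hz⟩
    obtain ⟨n, y', hy', rfl⟩ :=
      (Groth.Agent.Lib.BlowUpAffine82.mem_affineAlgebra_iff hπ' z).1 hz
    rw [← Ideal.map_pow, IsLocalization.mem_map_algebraMap_iff (Submonoid.powers a)] at hy'
    obtain ⟨⟨⟨j, hj⟩, ⟨_, k, rfl⟩⟩, hjk⟩ := hy'
    refine ⟨⟨⟨Groth.Agent.Lib.BlowUpAffine82.frac π j n,
      Groth.Agent.Lib.BlowUpAffine82.frac_mem hπ n j hj⟩,
      ⟨algebraMap A (BlowUp.affineAlgebra A I π) a ^ k, k, rfl⟩⟩, ?_⟩
    change _ * ψ (algebraMap A (BlowUp.affineAlgebra A I π) a ^ k) = ψ _
    apply Subtype.ext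
    rw [hψfrac n j hj, map_pow, hψalg]
    change Groth.Agent.Lib.BlowUpAffine82.frac _ y' n *
      (algebraMap (Localization.Away a) (Localization.Away (algebraMap A (Localization.Away a) π))
        (algebraMap A (Localization.Away a) a)) ^ k = _
    simp only at hjk
    rw [← hjk, Groth.Agent.Lib.BlowUpAffine82.frac_mul_algebraMap, map_pow, map_pow]
  · intro x₁ x₂ h
    change ψ x₁ = ψ x₂ at h
    obtain ⟨n, y, hy, hd⟩ :=
      (Groth.Agent.Lib.BlowUpAffine82.mem_affineAlgebra_iff hπ (x₁ - x₂ : _)).1 (x₁ - x₂).2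
    have hd' : x₁ - x₂ = ⟨Groth.Agent.Lib.BlowUpAffine82.frac π y n,
        Groth.Agent.Lib.BlowUpAffine82.frac_mem hπ n y hy⟩ := Subtype.ext hd
    have h0 : Groth.Agent.Lib.BlowUpAffine82.frac (algebraMap A (Localization.Away a) π)
        (algebraMap A (Localization.Away a) y) n = 0 := by
      rw [← hψfrac n y hy, ← hd', map_sub, h, sub_self]
      rfl
    obtain ⟨m, hm⟩ := (Groth.Agent.Lib.BlowUpAffine82.frac_eq_zero_iff _ _ _).1 h0
    rw [← map_pow, ← map_mul, IsLocalization.map_eq_zero_iff (Submonoid.powers a)] at hm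
    obtain ⟨⟨_, k, rfl⟩, hk⟩ := hm
    refine ⟨⟨algebraMap A (BlowUp.affineAlgebra A I π) a ^ k, k, rfl⟩, ?_⟩
    rw [← sub_eq_zero, ← mul_sub, hd']
    apply Subtype.ext
    change algebraMap A (Localization.Away π) a ^ k * Groth.Agent.Lib.BlowUpAffine82.frac π y n = 0
    rw [← map_pow, mul_comm, ← Groth.Agent.Lib.BlowUpAffine82.frac_mul_algebraMap,
      Groth.Agent.Lib.BlowUpAffine82.frac_eq_zero_iff]
    refine ⟨m, ?_⟩
    rw [← hk]
    ring

end Groth.Agent.S12096
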