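import Groth.Statements.S12097
import Groth.Agent.Lib.BlowUpAffine82

set_option autoImplicit false
universe u
open BlowUp

namespace Groth.Agent.S12097

/-- Néron's blowup is compatible with closed immersions. For a surjective ring map `B → A` with kernel
`J`, an ideal `I ⊆ B` containing `π`, and the affine blowup algebras `B' = B[I/π] ⊆ B_π`, `A' =
A[IA/π] ⊆ A_π`, the canonical map `B' → A'` (the restriction of `B_π → A_π`, given as a datum with
that compatibility) is surjective with kernel the elements `x` such that `π^n x ∈ J B'` for some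
`n`: `A'` is the quotient of `B'/JB'` by its `π`-power torsion. In Néron's situation (`I` the
inverse image of the maximal ideal of `Λ`, `π` a uniformizer) this is the printed functoriality; the
identity holds for any surjection. -/
theorem result (B A : Type u) [CommRing B] [CommRing A] [Algebra B A]
    (hq : Function.Surjective (algebraMap B A)) (I : Ideal B) (π : B) (hπ : π ∈ I)
    (ψ : BlowUp.affineAlgebra B I π →+* BlowUp.affineAlgebra A (I.map (algebraMap B A)) (algebraMap B A π))
    (hψ : ∀ x : BlowUp.affineAlgebra B I π,
      ((ψ x : BlowUp.affineAlgebra A (I.map (algebraMap B A)) (algebraMap B A π)) : Localization.Away (algebraMap B A π)) =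
        Localization.awayMap (algebraMap B A) π (x : Localization.Away π)) :
    Function.Surjective ψ ∧
      ∀ x : BlowUp.affineAlgebra B I π, x ∈ RingHom.ker ψ ↔
        ∃ n : ℕ, algebraMap B (BlowUp.affineAlgebra B I π) π ^ n * x ∈
          (RingHom.ker (algebraMap B A)).map (algebraMap B (BlowUp.affineAlgebra B I π)) := by
  classical
  have hπ' : algebraMap B A π ∈ I.map (algebraMap B A) := Ideal.mem_map_of_mem _ hπ
  have hψfrac : ∀ (n : ℕ) (y : B) (hy : y ∈ I ^ n),
      ((ψ ⟨Groth.Agent.Lib.BlowUpAffine82.frac π y n,
        Groth.Agent.Lib.BlowUpAffine82.frac_mem hπ n y hy⟩ :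
          BlowUp.affineAlgebra A (I.map (algebraMap B A)) (algebraMap B A π)) :
        Localization.Away (algebraMap B A π)) =
      Groth.Agent.Lib.BlowUpAffine82.frac (algebraMap B A π) (algebraMap B A y) n := by
    intro n y hy
    rw [hψ]
    exact Groth.Agent.Lib.BlowUpAffine82.awayMap_frac π (algebraMap B A) y n
  have hψalg : ∀ b : B, ((ψ (algebraMap B _ b) :
      BlowUp.affineAlgebra A (I.map (algebraMap B A)) (algebraMap B A π)) :
        Localization.Away (algebraMap B A π)) =
      algebraMap A _ (algebraMap B A b) := by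
    intro b
    rw [hψ]
    exact IsLocalization.map_eq _ _
  constructor
  · rintro ⟨x, hx⟩
    obtain ⟨n, y', hy', rfl⟩ :=
      (Groth.Agent.Lib.BlowUpAffine82.mem_affineAlgebra_iff hπ' x).1 hx
    rw [← Ideal.map_pow] at hy'
    obtain ⟨y, hy, rfl⟩ := (Ideal.mem_map_iff_of_surjective (algebraMap B A) hq).1 hy'
    refine ⟨⟨Groth.Agent.Lib.BlowUpAffine82.frac π y n,
      Groth.Agent.Lib.BlowUpAffine82.frac_mem hπ n y hy⟩, Subtype.ext ?_⟩
    exact hψfrac n y hy
  · rintro ⟨x, hx⟩
    obtain ⟨n, y, hy, rfl⟩ := (Groth.Agent.Lib.BlowUpAffine82.mem_affineAlgebra_iff hπ x).1 hx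
    rw [RingHom.mem_ker]
    constructor
    · intro h0
      have h1 : Groth.Agent.Lib.BlowUpAffine82.frac (algebraMap B A π) (algebraMap B A y) n = 0 := by
        rw [← hψfrac n y hy, h0]
        rfl
      obtain ⟨m, hm⟩ := (Groth.Agent.Lib.BlowUpAffine82.frac_eq_zero_iff _ _ _).1 h1
      refine ⟨n + m, ?_⟩
      have e : algebraMap B (BlowUp.affineAlgebra B I π) π ^ (n + m) *
          (⟨Groth.Agent.Lib.BlowUpAffine82.frac π y n, hx⟩ : BlowUp.affineAlgebra B I π) =
          algebraMap B (BlowUp.affineAlgebra B I π) (π ^ m * y) := by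
        apply Subtype.ext
        change algebraMap B (Localization.Away π) π ^ (n + m) *
          Groth.Agent.Lib.BlowUpAffine82.frac π y n = algebraMap B (Localization.Away π) (π ^ m * y)
        rw [map_mul, ← Groth.Agent.Lib.BlowUpAffine82.frac_mul_pow π y n, map_pow, map_pow, pow_add]
        ring
      rw [e]
      refine Ideal.mem_map_of_mem _ ?_
      rw [RingHom.mem_ker, map_mul, map_pow]
      exact hm
    · rintro ⟨N, hN⟩
      have hJ : (RingHom.ker (algebraMap B A)).map (algebraMap B (BlowUp.affineAlgebra B I π)) ≤
          RingHom.ker ψ := by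
        rw [Ideal.map_le_iff_le_comap]
        intro j hj
        rw [Ideal.mem_comap, RingHom.mem_ker]
        apply Subtype.ext
        rw [hψalg, (RingHom.mem_ker).1 hj, map_zero]
        rfl
      have h0 := hJ hN
      rw [RingHom.mem_ker, map_mul, map_pow] at h0
      have h1 := congrArg Subtype.val h0
      apply Subtype.ext
      change _ = (0 : Localization.Away (algebraMap B A π))
      have h2 : (algebraMap A (Localization.Away (algebraMap B A π)) (algebraMap B A π)) ^ N *
          ((ψ ⟨Groth.Agent.Lib.BlowUpAffine82.frac π y n, hx⟩ :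
            BlowUp.affineAlgebra A (I.map (algebraMap B A)) (algebraMap B A π)) :
              Localization.Away (algebraMap B A π)) = 0 := by
        rw [← hψalg π]
        exact h1
      have hunit : IsUnit ((algebraMap A (Localization.Away (algebraMap B A π))
          (algebraMap B A π)) ^ N) :=
        (IsLocalization.Away.algebraMap_isUnit (algebraMap B A π)).pow N
      exact (hunit.mul_right_eq_zero).1 h2

end Groth.Agent.S12097
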