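import Groth.Statements.S12100
import Groth.Agent.Lib.H43PCohD

set_option autoImplicit false
universe w v u
open CategoryTheory CategoryTheory.Limits
open PCoh

namespace Groth.Agent.S12100

/-- Let C be an abelian category and C₀ a strictly full additive subcategory, quasi-stable under kernels
of epimorphisms and quasi-liftable; let n, i be integers, E a strictly n-pseudo-coherent cochain
complex, F an n-pseudo-coherent cochain complex (isomorphic in D(C) to a strictly n-pseudo-coherent
one) and u : E ⟶ F an i-quasi-isomorphism (an isomorphism on H^j for j > i, an epimorphism on H^i).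
Then u = v ≫ u' with u' : E' ⟶ F a quasi-isomorphism, E' strictly n-pseudo-coherent, and v : E ⟶ E'
a monomorphism in each degree which is an isomorphism in every degree ≥ i. (The source obtains v
equal to the identity in degrees ≥ i; stated here up to isomorphism in those degrees.) -/
theorem result {C : Type u} [Category.{v} C] [Abelian C] [HasDerivedCategory.{w} C]
    (P : ObjectProperty C) [P.IsClosedUnderIsomorphisms] [P.ContainsZero] (hsum : ∀ X Y : C, P X → P Y → P (X ⨯ Y))
    (hqs : PCoh.IsQuasiStableUnderKernels P) (hql : PCoh.IsQuasiLiftable P)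
    (n i : ℤ) (E F : CochainComplex C ℤ) (hE : PCoh.IsStrictPC P n E)
    (hF : ∃ F₀ : CochainComplex C ℤ, PCoh.IsStrictPC P n F₀ ∧ Nonempty (DerivedCategory.Q.obj F₀ ≅ DerivedCategory.Q.obj F))
    (u : E ⟶ F) (hiso : ∀ j : ℤ, i < j → IsIso (HomologicalComplex.homologyMap u j))
    (hepi : Epi (HomologicalComplex.homologyMap u i)) :
    ∃ (E' : CochainComplex C ℤ) (v : E ⟶ E') (u' : E' ⟶ F), v ≫ u' = u ∧ PCoh.IsStrictPC P n E' ∧ QuasiIso u' ∧
      (∀ j : ℤ, Mono (v.f j)) ∧ (∀ j : ℤ, i ≤ j → IsIso (v.f j)) := by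
  by_cases hin : n ≤ i
  · obtain ⟨d, hd⟩ : ∃ d : ℕ, i = n + (d : ℤ) := ⟨(i - n).toNat, by
      rw [Int.toNat_of_nonneg (by lia)]; lia⟩
    subst hd
    obtain ⟨G, v₁, w, hv₁w, hG, hm₁, hi₁, hw⟩ :=
      Groth.Agent.Lib.H43PCohD.descend P hsum hqs hql n F hF d E u hE ⟨hiso, hepi⟩
    obtain ⟨E', v₂, u', hv₂u', hE', hq, hm₂, hi₂⟩ :=
      Groth.Agent.Lib.H43PCohD.exists_factor_qis P n G F hG w hw
    refine ⟨E', v₁ ≫ v₂, u', by rw [Category.assoc, hv₂u', hv₁w], hE', hq, fun j => ?_,
      fun j hj => ?_⟩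
    · have := hm₁ j
      have := hm₂ j
      rw [HomologicalComplex.comp_f]; infer_instance
    · have h1 : IsIso (v₁.f j) := hi₁ j (Or.inr hj)
      have h2 : IsIso (v₂.f j) := hi₂ j (by lia)
      rw [HomologicalComplex.comp_f]; infer_instance
  · obtain ⟨E', v, u', hvu, hq, hm, hi⟩ := Groth.Agent.S5600.result i E F u hiso hepi
    refine ⟨E', v, u', hvu, ?_, hq, hm, hi⟩
    obtain ⟨⟨b, hb⟩, hEP⟩ := hE
    refine ⟨⟨max b i, fun j hj => ?_⟩, fun j hj => ?_⟩
    · have := hi j (by have := le_max_right b i; lia)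
      exact IsZero.of_iso (hb j (lt_of_le_of_lt (le_max_left _ _) hj)) (asIso (v.f j)).symm
    · have := hi j (by lia)
      exact P.prop_of_iso (asIso (v.f j)) (hEP j hj)

end Groth.Agent.S12100
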