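import Groth.Statements.S12105
import Groth.Agent.Lib.GrothSSAdj21
import Groth.Agent.Lib.CohPre4
import Groth.Agent.Lib.RightDerivedPostComp

set_option autoImplicit false
universe u
open CategoryTheory
open CohSite

namespace Groth.Agent.S12105

open CategoryTheory.Limits in
/-- On a small site (C, J), for a presheaf of sets R on C and an abelian sheaf M there is a bounded E_2
spectral sequence of abelian groups with E_2^{p,q} isomorphic to H^p(R, H^q(M)) — the cohomology, in
the topos of presheaves (sheaves for the trivial topology), of the presheaf V ↦ H^q(V, M) with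
respect to R, i.e. the p-th Ext out of the free abelian presheaf on R — for p, q ≥ 0 and zero
otherwise, with abutment data whose filtrations are finite on H^n(aR, M), the cohomology of M with
respect to the sheaf of sets associated to R (n ≥ 0; zero for n < 0). The E_2 identifications and
abutment isomorphisms are asserted to exist only, not pinned to the canonical maps, so edge maps and
functoriality in R and M are not part of this statement. -/
theorem result {C : Type u} [SmallCategory C]
    (J : GrothendieckTopology C) (R : Cᵒᵖ ⥤ Type u) (M : Sheaf J AddCommGrpCat.{u}) :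
    ∃ (E : E₂CohomologicalSpectralSequence AddCommGrpCat.{u})
      (a : SpSeq.Abutment E (fun n : ℤ =>
        if 0 ≤ n then AddCommGrpCat.of (CohCx.HK ((presheafToSheaf J (Type u)).obj R) M n.toNat)
        else AddCommGrpCat.of PUnit.{u + 1})),
      (∀ n, a.IsFinite n) ∧ SpSeq.IsBounded E ∧
      ∀ p q : ℤ, Nonempty ((E.page 2 le_rfl).X (p, q) ≅
        (if 0 ≤ p ∧ 0 ≤ q then
          AddCommGrpCat.of (CohCx.HK (J := (⊥ : GrothendieckTopology C)) ⟨R, Presheaf.isSheaf_bot _⟩
            ⟨M.cohomologyPresheaf q.toNat, Presheaf.isSheaf_bot _⟩ p.toNat)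
         else AddCommGrpCat.of PUnit.{u + 1})) := by
  let e := sheafBotEquivalence (C := C) AddCommGrpCat.{u}
  haveI : e.functor.Additive :=
    inferInstanceAs ((sheafToPresheaf (⊥ : GrothendieckTopology C) AddCommGrpCat.{u}).Additive)
  haveI : e.inverse.Additive := e.toAdjunction.right_adjoint_additive
  let T : Sheaf J AddCommGrpCat.{u} ⥤ Sheaf (⊥ : GrothendieckTopology C) AddCommGrpCat.{u} :=
    sheafToPresheaf J AddCommGrpCat.{u} ⋙ e.inverse
  let L : Sheaf (⊥ : GrothendieckTopology C) AddCommGrpCat.{u} ⥤ Sheaf J AddCommGrpCat.{u} :=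
    e.functor ⋙ presheafToSheaf J AddCommGrpCat.{u}
  let adj : L ⊣ T := e.toAdjunction.comp (sheafificationAdjunction J AddCommGrpCat.{u})
  haveI : T.Additive :=
    inferInstanceAs ((sheafToPresheaf J AddCommGrpCat.{u} ⋙ e.inverse).Additive)
  haveI : L.PreservesMonomorphisms :=
    inferInstanceAs ((e.functor ⋙ presheafToSheaf J AddCommGrpCat.{u}).PreservesMonomorphisms)
  -- `a_⊥ ≅ e.inverse`
  let i₁ : presheafToSheaf (⊥ : GrothendieckTopology C) AddCommGrpCat.{u} ≅ e.inverse :=
    (sheafificationAdjunction (⊥ : GrothendieckTopology C) AddCommGrpCat.{u}).leftAdjointUniq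
      e.symm.toAdjunction
  -- the two free sheaf constructions
  let adj1 := (Adjunction.whiskerRight Cᵒᵖ AddCommGrpCat.adj.{u}).comp
    (sheafificationAdjunction J AddCommGrpCat.{u})
  let adj2 := (sheafificationAdjunction J (Type u)).comp (Sheaf.adjunction J AddCommGrpCat.adj.{u})
  let i₂ := adj1.leftAdjointUniq adj2
  refine Groth.Agent.Lib.GrothSS21.exists_adjoint_ext_spectralSequence adj
    ((presheafToSheaf (⊥ : GrothendieckTopology C) AddCommGrpCat.{u}).obj
      (R ⋙ AddCommGrpCat.free.{u})) M _
    ⟨(presheafToSheaf J AddCommGrpCat.{u}).mapIso (e.functor.mapIso (i₁.app _)) ≪≫ i₂.app R⟩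
    (fun q => ⟨M.cohomologyPresheaf q, Presheaf.isSheaf_bot _⟩) (fun q => ?_)
  obtain ⟨c⟩ := Groth.Agent.Lib.CohPresheafDerived.nonempty_rightDerived_sheafToPresheaf_iso J M q
  exact ⟨((Groth.Agent.Lib.RightDerivedPostComp.rightDerivedPostCompIso
    (sheafToPresheaf J AddCommGrpCat.{u}) e.inverse q).app M).symm ≪≫ e.inverse.mapIso c⟩

end Groth.Agent.S12105
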