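import Groth.Statements.S12109
import Mathlib.CategoryTheory.Limits.Presheaf
import Mathlib.CategoryTheory.Filtered.Final
import Mathlib.CategoryTheory.Elements

set_option autoImplicit false
open CategoryTheory CategoryTheory.Limits
universe u
open SGA4

namespace Groth.Agent.S12109

open Opposite

variable {C : Type u} [SmallCategory C] {C' : Type u} [SmallCategory C'] (u : C ⥤ C')

noncomputable abbrev L : (Cᵒᵖ ⥤ Type u) ⥤ (C'ᵒᵖ ⥤ Type u) := u.op.lan
abbrev R : (C'ᵒᵖ ⥤ Type u) ⥤ (Cᵒᵖ ⥤ Type u) := (Functor.whiskeringLeft Cᵒᵖ C'ᵒᵖ (Type u)).obj u.op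
noncomputable abbrev adj : L u ⊣ R u := u.op.lanAdjunction (Type u)

/-- retract of an iso component is an iso -/
theorem isIso_app_of_retract {G1 G2 : C'ᵒᵖ ⥤ Type u} (φ : G1 ⟶ G2) {X' Y : C'} (i : X' ⟶ Y) (r : Y ⟶ X')
    (hir : i ≫ r = 𝟙 X') (h : IsIso (φ.app (op Y))) : IsIso (φ.app (op X')) := by
  refine ⟨G2.map r.op ≫ inv (φ.app (op Y)) ≫ G1.map i.op, ?_, ?_⟩
  · rw [← Category.assoc, ← φ.naturality r.op, Category.assoc, IsIso.hom_inv_id_assoc, ← G1.map_comp,
      ← op_comp, hir, op_id, G1.map_id]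
  · rw [Category.assoc, Category.assoc, φ.naturality i.op, IsIso.inv_hom_id_assoc, ← G2.map_comp,
      ← op_comp, hir, op_id, G2.map_id]

theorem isIso_counit [u.Full] [u.Faithful]
    (hr : ∀ X' : C', ∃ (X : C) (i : X' ⟶ u.obj X) (r : u.obj X ⟶ X'), i ≫ r = 𝟙 X')
    (G' : C'ᵒᵖ ⥤ Type u) : IsIso ((adj u).counit.app G') := by
  have h1 : IsIso ((R u).map ((adj u).counit.app G')) := by
    have h := (adj u).right_triangle_components G'
    haveI : IsIso ((adj u).unit.app ((R u).obj G')) := inferInstance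
    exact IsIso.of_isIso_fac_left h
  have h2 : ∀ X : C, IsIso (((adj u).counit.app G').app (op (u.obj X))) := by
    intro X
    have := (NatIso.isIso_app_of_isIso ((R u).map ((adj u).counit.app G')) (op X))
    exact this
  rw [NatTrans.isIso_iff_isIso_app]
  intro X'
  obtain ⟨X, i, r, hir⟩ := hr X'.unop
  exact isIso_app_of_retract _ i r hir (h2 X)

instance precomp_faithful [u.Faithful] (G' : C'ᵒᵖ ⥤ Type u) :
    (Functor.Elements.precomp u.op G').Faithful where
  map_injective {x y} f g h := by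
    apply CategoryOfElements.ext
    have h1 : u.op.map f.1 = u.op.map g.1 := congrArg Subtype.val h
    exact u.op.map_injective h1

instance precomp_full [u.Full] (G' : C'ᵒᵖ ⥤ Type u) :
    (Functor.Elements.precomp u.op G').Full where
  map_surjective {x y} h := by
    refine ⟨⟨u.op.preimage h.1, ?_⟩, ?_⟩
    · show G'.map (u.op.map (u.op.preimage h.1)) x.2 = y.2
      rw [Functor.map_preimage]
      exact h.2
    · apply CategoryOfElements.ext
      exact u.op.map_preimage h.1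

theorem isIndObject_restrict [u.Full] [u.Faithful]
    (hr : ∀ X' : C', ∃ (X : C) (i : X' ⟶ u.obj X) (r : u.obj X ⟶ X'), i ≫ r = 𝟙 X')
    (G' : C'ᵒᵖ ⥤ Type u) (hG' : IsIndObject G') : IsIndObject (u.op ⋙ G') := by
  rw [isIndObject_iff]
  constructor
  · haveI : IsFiltered (CostructuredArrow yoneda G') := hG'.isFiltered
    haveI : IsFiltered (G'.Elementsᵒᵖ) :=
      IsFiltered.of_equivalence (CategoryOfElements.costructuredArrowYonedaEquivalence G').symm
    haveI : IsCofiltered G'.Elements := isCofiltered_of_isFiltered_op _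
    haveI : IsCofiltered (u.op ⋙ G').Elements := by
      refine IsCofiltered.of_exists_of_isCofiltered_of_fullyFaithful
        (Functor.Elements.precomp u.op G') ?_
      rintro ⟨W', w⟩
      obtain ⟨Z, i, r, hir⟩ := hr W'.unop
      refine ⟨⟨op Z, G'.map r.op w⟩, ⟨⟨i.op, ?_⟩⟩⟩
      show G'.map i.op (G'.map r.op w) = w
      rw [← Functor.map_comp_apply, ← op_comp, hir, op_id, Functor.map_id_apply]
    haveI : IsFiltered ((u.op ⋙ G').Elementsᵒᵖ) := inferInstance
    exact IsFiltered.of_equivalence (CategoryOfElements.costructuredArrowYonedaEquivalence (u.op ⋙ G'))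
  · exact finallySmall_of_essentiallySmall _

theorem dirBA (hff : u.Full ∧ u.Faithful)
    (hr : ∀ X' : C', ∃ (X : C) (i : X' ⟶ u.obj X) (r : u.obj X ⟶ X'), i ≫ r = 𝟙 X') :
    (∀ (F G : Cᵒᵖ ⥤ Type u), IsIndObject F → IsIndObject G →
        Function.Bijective (fun φ : F ⟶ G => (u.op.lan : (Cᵒᵖ ⥤ Type u) ⥤ (C'ᵒᵖ ⥤ Type u)).map φ)) ∧
      (∀ G' : C'ᵒᵖ ⥤ Type u, IsIndObject G' →
        ∃ F : Cᵒᵖ ⥤ Type u, IsIndObject F ∧
          Nonempty ((u.op.lan : (Cᵒᵖ ⥤ Type u) ⥤ (C'ᵒᵖ ⥤ Type u)).obj F ≅ G')) := by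
  obtain ⟨_, _⟩ := hff
  constructor
  · intro F G _ _
    exact ((adj u).fullyFaithfulLOfIsIsoUnit).map_bijective F G
  · intro G' hG'
    haveI := isIso_counit u hr G'
    exact ⟨u.op ⋙ G', isIndObject_restrict u hr G' hG', ⟨asIso ((adj u).counit.app G')⟩⟩

/-- `L (yoneda X) ≅ yoneda (u X)`, naturally. -/
noncomputable def E : u ⋙ yoneda ≅ yoneda ⋙ L u :=
  Functor.isoWhiskerLeft u uliftYonedaIsoYoneda.{u}.symm ≪≫
    Presheaf.compULiftYonedaIsoULiftYonedaCompLan.{u} u ≪≫
    Functor.isoWhiskerRight uliftYonedaIsoYoneda.{u} (L u)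

theorem yoneda_map_umap {X Y : C} (f : X ⟶ Y) :
    yoneda.map (u.map f) = (E u).hom.app X ≫ (L u).map (yoneda.map f) ≫ (E u).inv.app Y := by
  have h := (E u).hom.naturality f
  simp only [Functor.comp_map] at h
  rw [← Category.assoc, ← h, Category.assoc, Iso.hom_inv_id_app, Category.comp_id]

theorem ff_of_bij
    (hbij : ∀ (F G : Cᵒᵖ ⥤ Type u), IsIndObject F → IsIndObject G →
        Function.Bijective (fun φ : F ⟶ G => (u.op.lan : (Cᵒᵖ ⥤ Type u) ⥤ (C'ᵒᵖ ⥤ Type u)).map φ)) :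
    u.Full ∧ u.Faithful := by
  constructor
  · constructor
    intro X Y h
    obtain ⟨φ, hφ⟩ := (hbij _ _ (isIndObject_yoneda X) (isIndObject_yoneda Y)).2
      ((E u).inv.app X ≫ yoneda.map h ≫ (E u).hom.app Y)
    refine ⟨yoneda.preimage φ, ?_⟩
    apply yoneda.map_injective
    rw [yoneda_map_umap, Functor.map_preimage]
    simp only at hφ
    rw [hφ]
    simp
  · constructor
    intro X Y f g hfg
    apply yoneda.map_injective
    apply (hbij _ _ (isIndObject_yoneda X) (isIndObject_yoneda Y)).1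
    simp only
    have h1 := yoneda_map_umap u f
    have h2 := yoneda_map_umap u g
    rw [hfg] at h1
    rw [h1] at h2
    have h3 := (cancel_epi _).1 h2
    exact ((cancel_mono _).1 h3)

theorem retract_of_ess
    (hess : ∀ G' : C'ᵒᵖ ⥤ Type u, IsIndObject G' →
        ∃ F : Cᵒᵖ ⥤ Type u, IsIndObject F ∧
          Nonempty ((u.op.lan : (Cᵒᵖ ⥤ Type u) ⥤ (C'ᵒᵖ ⥤ Type u)).obj F ≅ G')) (X' : C') :
    ∃ (X : C) (i : X' ⟶ u.obj X) (r : u.obj X ⟶ X'), i ≫ r = 𝟙 X' := by
  obtain ⟨F, hF, ⟨e⟩⟩ := hess (yoneda.obj X') (isIndObject_yoneda X')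
  let P := hF.presentation
  haveI : PreservesColimitsOfSize.{u, u} (L u) := (adj u).leftAdjoint_preservesColimits
  have hc1 : IsColimit ((L u).mapCocone P.cocone) := isColimitOfPreserves (L u) P.coconeIsColimit
  have hc2 : IsColimit (((evaluation _ _).obj (op X')).mapCocone ((L u).mapCocone P.cocone)) :=
    isColimitOfPreserves _ hc1
  obtain ⟨j, t, ht⟩ := Types.jointly_surjective_of_isColimit hc2 (e.inv.app (op X') (𝟙 X'))
  let ρ : yoneda.obj (u.obj (P.F.obj j)) ⟶ yoneda.obj X' :=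
    (E u).hom.app (P.F.obj j) ≫ (L u).map (P.cocone.ι.app j) ≫ e.hom
  let x : X' ⟶ u.obj (P.F.obj j) := ((E u).inv.app (P.F.obj j)).app (op X') t
  refine ⟨P.F.obj j, x, yoneda.preimage ρ, ?_⟩
  have h1 : (yoneda.map (yoneda.preimage ρ)).app (op X') x = x ≫ yoneda.preimage ρ := rfl
  rw [← h1, Functor.map_preimage]
  have ht' : ((L u).map (P.cocone.ι.app j)).app (op X') t = e.inv.app (op X') (𝟙 X') := ht
  have hx : ((E u).hom.app (P.F.obj j)).app (op X') x = t := by
    show (((E u).inv.app (P.F.obj j)).app (op X') ≫ ((E u).hom.app (P.F.obj j)).app (op X')) t = t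
    rw [← NatTrans.comp_app, Iso.inv_hom_id_app]; rfl
  show e.hom.app (op X') (((L u).map (P.cocone.ι.app j)).app (op X')
    (((E u).hom.app (P.F.obj j)).app (op X') x)) = 𝟙 X'
  rw [hx, ht']
  show (e.inv.app (op X') ≫ e.hom.app (op X')) (𝟙 X') = 𝟙 X'
  rw [← NatTrans.comp_app, e.inv_hom_id]; rfl


/-- Let `u : C ⥤ C'` be a functor between small categories and `u_!` the left Kan extension functor on
presheaves of sets, whose restriction to ind-representable presheaves is the induced functor `Ind C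
⥤ Ind C'`. Then `Ind(u)` is an equivalence — `u_!` is bijective on morphisms between
ind-representable presheaves on `C` and every ind-representable presheaf on `C'` is isomorphic to
`u_! F` for some ind-representable `F` — if and only if `u` is full and faithful and every object of
`C'` is a retract (direct factor) of an object `u X`. -/
theorem result
    {C : Type u} [SmallCategory C] {C' : Type u} [SmallCategory C'] (u : C ⥤ C') :
    ((∀ (F G : Cᵒᵖ ⥤ Type u), IsIndObject F → IsIndObject G →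
        Function.Bijective (fun φ : F ⟶ G => (u.op.lan : (Cᵒᵖ ⥤ Type u) ⥤ (C'ᵒᵖ ⥤ Type u)).map φ)) ∧
      (∀ G' : C'ᵒᵖ ⥤ Type u, IsIndObject G' →
        ∃ F : Cᵒᵖ ⥤ Type u, IsIndObject F ∧
          Nonempty ((u.op.lan : (Cᵒᵖ ⥤ Type u) ⥤ (C'ᵒᵖ ⥤ Type u)).obj F ≅ G'))) ↔
    ((u.Full ∧ u.Faithful) ∧
      ∀ X' : C', ∃ (X : C) (i : X' ⟶ u.obj X) (r : u.obj X ⟶ X'), i ≫ r = 𝟙 X') := by
  constructor
  · rintro ⟨hbij, hess⟩
    exact ⟨ff_of_bij u hbij, retract_of_ess u hess⟩
  · rintro ⟨hff, hr⟩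
    exact dirBA u hff hr

end Groth.Agent.S12109
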