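import Groth.Statements.S12112
import Groth.Agent.S11296
import Groth.Agent.Lib.H4ClosedReg
import Groth.Agent.Lib.TwistEquiv
-- import your own Groth.Agent.* helpers here

set_option autoImplicit false
universe u
open CategoryTheory CategoryTheory.Limits AlgebraicGeometry
open Pic13

namespace Groth.Agent.S12112

/-- Let k be an algebraically closed field, i : X ⟶ P^n_k a closed k-immersion, O_X(1) = i^*O(1), and F,
G coherent O_X-modules with a short exact sequence 0 → F(-1) → F → G → 0 and G m-regular. Then (i)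
H^q(X, F(n')) = 0 for q ≥ 2 and n' ≥ m - q; (ii) h^1(F(n' - 1)) ≥ h^1(F(n')) for n' ≥ m - 1, h^1
being the dimension over k; (iii) H^1(X, F(n')) = 0 for n' ≥ (m - 1) + h^1(F(m - 1)); in particular
F is (m + h^1(F(m - 1)))-regular. (The published statement takes F(-1) → F given by a section of
O_X(1); the printed argument uses only the short exact sequence and its twists, so any short exact
sequence of this shape is allowed here.) -/
theorem result (k : Type u) [Field k] [IsAlgClosed k] (n : ℕ) (X : Scheme.{u})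
    [X.Over (Spec (CommRingCat.of k))] (i : X ⟶ CohB1.ProjSpace n k) [IsClosedImmersion i]
    (hi : i ≫ CohB1.ProjSpace.toSpec n k = X ↘ Spec (CommRingCat.of k))
    (F G : X.Modules) (hF : Coh.IsCoh F) (hG : Coh.IsCoh G)
    (f : Pic13.twistOn k i F (-1) ⟶ F) (g : F ⟶ G) (hfg : f ≫ g = 0) (hS : (ShortComplex.mk f g hfg).ShortExact)
    (m : ℤ) (hGm : Pic13.IsMRegular k i G m) :
    (∀ (q : ℕ) (n' : ℤ), 2 ≤ q → m - q ≤ n' → Subsingleton (Coh.HH X (Pic13.twistOn k i F n') q)) ∧
    (∀ n' : ℤ, m - 1 ≤ n' →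
      Module.finrank k (Coh.HH X (Pic13.twistOn k i F n') 1) ≤ Module.finrank k (Coh.HH X (Pic13.twistOn k i F (n' - 1)) 1)) ∧
    (∀ n' : ℤ, (m - 1) + (Module.finrank k (Coh.HH X (Pic13.twistOn k i F (m - 1)) 1) : ℤ) ≤ n' →
      Subsingleton (Coh.HH X (Pic13.twistOn k i F n') 1)) ∧
    Pic13.IsMRegular k i F (m + Module.finrank k (Coh.HH X (Pic13.twistOn k i F (m - 1)) 1)) := by

  have hF' : Coh.IsCoh ((Scheme.Modules.pushforward i).obj F) :=
    Groth.Agent.Lib.H90OXModPushFinite.isCoh_pushforward i F hF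
  obtain ⟨ι, hι, ⟨eG⟩⟩ := Groth.Agent.Lib.H4ClosedReg.exists_mono_twist k n i F G hF hG f g hfg hS
  -- regularity of the cokernel on `P^n`
  have hG' : Curv2.IsMRegular k n (cokernel ι) m := by
    intro q hq _
    obtain ⟨e⟩ := Groth.Agent.Lib.H4ClosedReg.nonempty_linearEquiv_twistOn k n i hi G hG (m - q) q
    have h0 := hGm q hq
    have h2 : Subsingleton (Coh.HH (CohB1.ProjSpace n k)
        (CohB1.tensorMod ((Scheme.Modules.pushforward i).obj G) (Twist.twistProjSpace n k (m - q))) q) :=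
      e.symm.injective.subsingleton
    exact @Groth.Agent.Lib.H4Twist.subsingleton_HH_of_iso _ _ _
      ((Groth.Agent.Lib.TwistEquiv.tensorRightFunctor (Twist.twistProjSpace n k (m - q))).mapIso eG) q h2
  obtain ⟨r1, r2, r3, -⟩ := Groth.Agent.S11296.result k n ((Scheme.Modules.pushforward i).obj F) hF' ι m hG'
  have eq : ∀ (d : ℤ) (q : ℕ), Nonempty (Coh.HH X (Pic13.twistOn k i F d) q ≃ₗ[k]
      Coh.HH (CohB1.ProjSpace n k)
        (CohB1.tensorMod ((Scheme.Modules.pushforward i).obj F) (Twist.twistProjSpace n k d)) q) :=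
    fun d q => Groth.Agent.Lib.H4ClosedReg.nonempty_linearEquiv_twistOn k n i hi F hF d q
  have hfr : ∀ d : ℤ, Module.finrank k (Coh.HH X (Pic13.twistOn k i F d) 1) =
      Module.finrank k (Coh.HH (CohB1.ProjSpace n k)
        (CohB1.tensorMod ((Scheme.Modules.pushforward i).obj F) (Twist.twistProjSpace n k d)) 1) := by
    intro d
    obtain ⟨e⟩ := eq d 1
    exact e.finrank_eq
  have h1 : ∀ (q : ℕ) (n' : ℤ), 2 ≤ q → m - q ≤ n' →
      Subsingleton (Coh.HH X (Pic13.twistOn k i F n') q) := by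
    intro q n' hq hn'
    obtain ⟨e⟩ := eq n' q
    have := r1 q n' hq hn'
    exact e.injective.subsingleton
  have h3 : ∀ n' : ℤ, (m - 1) + (Module.finrank k (Coh.HH X (Pic13.twistOn k i F (m - 1)) 1) : ℤ) ≤ n' →
      Subsingleton (Coh.HH X (Pic13.twistOn k i F n') 1) := by
    intro n' hn'
    obtain ⟨e⟩ := eq n' 1
    rw [hfr (m - 1)] at hn'
    have := r3 n' hn'
    exact e.injective.subsingleton
  refine ⟨h1, ?_, h3, ?_⟩
  · intro n' hn'
    rw [hfr n', hfr (n' - 1)]
    exact r2 n' hn'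
  · intro q hq
    rcases Nat.lt_or_ge q 2 with hlt | hge
    · obtain rfl : q = 1 := by omega
      exact h3 _ (by push_cast; omega)
    · exact h1 q _ hge (by push_cast; omega)

end Groth.Agent.S12112
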