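import Groth.Statements.S8718
import Groth.Agent.Lib.H43LocSplit2
import Groth.Agent.Lib.H43Torsor
import Groth.Agent.Lib.CartPull18

set_option autoImplicit false
set_option maxHeartbeats 400000
universe u
open CategoryTheory CategoryTheory.Limits MonoidalCategory CartesianMonoidalCategory MonObj AlgebraicGeometry
open SGA7

namespace Groth.Agent.S8718

open Groth.Agent.Lib

variable {S : Scheme.{u}}

lemma isLocallyTrivialFor_of_isPullback (K : Precoverage Scheme.{u}) [K.IsStableUnderBaseChange]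
    {X Y X' Y' : Scheme.{u}} {a : X' ⟶ X} {b : X' ⟶ Y'} {c : X ⟶ Y} {d : Y' ⟶ Y}
    (sq : IsPullback a b c d) (h : NonAbH1.IsLocallyTrivialFor K (Over.mk c)) :
    NonAbH1.IsLocallyTrivialFor K (Over.mk b) := by
  obtain ⟨R, hR, hsec⟩ := h
  refine ⟨R.pullbackArrows d, Precoverage.pullbackArrows_mem d hR, ?_⟩
  rintro T g ⟨Z, w, hw⟩
  obtain ⟨s, hs⟩ := hsec w hw
  have hs' : s ≫ c = w := hs
  exact ⟨sq.lift (pullback.fst w d ≫ s) (pullback.snd w d)
    (by rw [Category.assoc, hs', pullback.condition]), sq.lift_snd _ _ _⟩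

variable (K : Precoverage Scheme.{u}) [K.IsStableUnderBaseChange] [K.toGrothendieck.Subcanonical]

lemma locTriv_whiskerRight {A Y : Over S} (j : A ⟶ Y)
    (h : NonAbH1.IsLocallyTrivialFor K (Over.mk j.left : Over Y.left)) (Z : Over S) :
    NonAbH1.IsLocallyTrivialFor K (Over.mk (j ▷ Z).left : Over (Y ⊗ Z).left) := by
  have sq : IsPullback (j ▷ Z).left (fst A Z).left (fst Y Z).left j.left :=
    (CartPull18.isPullback_whiskerRight_fst Z j).map (Over.forget S)
  exact isLocallyTrivialFor_of_isPullback K sq.flip h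

lemma exists_desc_whiskerRight {A Y : Over S} (j : A ⟶ Y)
    (h : NonAbH1.IsLocallyTrivialFor K (Over.mk j.left : Over Y.left)) (Z W : Over S)
    (ψ : A ⊗ Z ⟶ W)
    (hψ : ∀ (T : Over S) (a₁ a₂ : T ⟶ A) (z : T ⟶ Z), a₁ ≫ j = a₂ ≫ j →
      lift a₁ z ≫ ψ = lift a₂ z ≫ ψ) :
    ∃ ρ : Y ⊗ Z ⟶ W, (j ▷ Z) ≫ ρ = ψ := by
  have h' := locTriv_whiskerRight K j h Z
  have hp := IsPullback.of_hasPullback (j ▷ Z) (j ▷ Z)
  refine H43LocSplit2.exists_desc K (j ▷ Z) h' hp ψ ?_
  obtain ⟨p1, hp1⟩ : ∃ p1, p1 = pullback.fst (j ▷ Z) (j ▷ Z) := ⟨_, rfl⟩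
  obtain ⟨p2, hp2⟩ : ∃ p2, p2 = pullback.snd (j ▷ Z) (j ▷ Z) := ⟨_, rfl⟩
  have hc : p1 ≫ (j ▷ Z) = p2 ≫ (j ▷ Z) := by rw [hp1, hp2]; exact pullback.condition
  rw [← hp1, ← hp2]
  have hsnd : p1 ≫ snd A Z = p2 ≫ snd A Z := by
    have := congrArg (fun m => m ≫ snd Y Z) hc
    simpa using this
  have hfst : (p1 ≫ fst A Z) ≫ j = (p2 ≫ fst A Z) ≫ j := by
    have := congrArg (fun m => m ≫ fst Y Z) hc
    simpa using this
  have e1 : p1 = lift (p1 ≫ fst A Z) (p1 ≫ snd A Z) := by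
    rw [← comp_lift, lift_fst_snd, Category.comp_id]
  have e2 : p2 = lift (p2 ≫ fst A Z) (p1 ≫ snd A Z) := by
    rw [hsnd, ← comp_lift, lift_fst_snd, Category.comp_id]
  rw [e1, e2]
  exact hψ _ _ _ _ hfst

lemma epi_whiskerRight {A Y : Over S} (j : A ⟶ Y)
    (h : NonAbH1.IsLocallyTrivialFor K (Over.mk j.left : Over Y.left)) (Z : Over S) :
    Epi (j ▷ Z) :=
  H43LocSplit2.epi K (j ▷ Z) (locTriv_whiskerRight K j h Z)

end Groth.Agent.S8718

namespace Groth.Agent.S8718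

/-- For group schemes over a base scheme S (the representable case on the fppf site): let P and G be
S-group schemes with G commutative, and u : G → E, v : E → P homomorphisms of S-group schemes
forming a sequence 1 → G → E → P → 1 exact for the fppf topology. Suppose every morphism of
S-schemes P ×_S G → G whose restrictions to P × e_G and to e_P × G are trivial is trivial. Then u(G)
is central in E: for all points g of G and x of E with values in any S-scheme, u(g) x = x u(g). If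
moreover P is commutative and every morphism of S-schemes P ×_S P → G trivial on P × e_P and on e_P
× P is trivial, then E is commutative. (The published statement is for sheaves of groups on an
arbitrary topos; this row is its case of representable sheaves on the fppf site of S. Morphisms to G
form a group; trivial means equal to its unit.) -/
theorem result (S : Scheme.{u})
    (P G E : Over S) [GrpObj P] [GrpObj G] [GrpObj E] [IsCommMonObj G]
    (u : G ⟶ E) (v : E ⟶ P) (hex : NonAbH1.IsExactSeq Scheme.fppfPrecoverage u v)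
    (hPG : ∀ f : P ⊗ G ⟶ G, lift (𝟙 P) (toUnit P ≫ η[G]) ≫ f = 1 → lift (toUnit G ≫ η[P]) (𝟙 G) ≫ f = 1 → f = 1) :
    (∀ (T : Over S) (g : T ⟶ G) (x : T ⟶ E), (g ≫ u) * x = x * (g ≫ u)) ∧
      (IsCommMonObj P →
        (∀ f : P ⊗ P ⟶ G, lift (𝟙 P) (toUnit P ≫ η[P]) ≫ f = 1 → lift (toUnit P ≫ η[P]) (𝟙 P) ≫ f = 1 → f = 1) →
          IsCommMonObj E) := by
  obtain ⟨hu, hv, huv, hpb, hloc⟩ := hex
  have hepi : Epi v := Groth.Agent.Lib.H43LocSplit2.epi Scheme.fppfPrecoverage v hloc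
  -- basic facts
  have huv' : ∀ {T : Over S} (g : T ⟶ G), (g ≫ u) ≫ v = 1 := by
    intro T g
    rw [Category.assoc, huv, MonObj.comp_one]
  have hinj : ∀ {T : Over S} (g h : T ⟶ G), g ≫ u = h ≫ u → g = h :=
    fun g h e => Groth.Agent.Lib.H43Torsor.eq_of_comp_eq u v hpb g h e
  have hker : ∀ {T : Over S} (b : T ⟶ E), b ≫ v = 1 → ∃ g' : T ⟶ G, g' ≫ u = b := by
    intro T b hb
    obtain ⟨g', hg'⟩ := Groth.Agent.Lib.H43Torsor.exists_mul_eq u v hpb (1 : T ⟶ E) b
      (by rw [MonObj.one_comp, hb])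
    exact ⟨g', by rw [hg', _root_.one_mul]⟩
  have hdiff : ∀ {T : Over S} (a b : T ⟶ E), a ≫ v = b ≫ v → ∃ g' : T ⟶ G, b = a * (g' ≫ u) :=
    fun a b e => Groth.Agent.Lib.H43Torsor.exists_mul_eq u v hpb a b e
  -- Part 1
  have part1 : ∀ (T : Over S) (g : T ⟶ G) (x : T ⟶ E), (g ≫ u) * x = x * (g ≫ u) := by
    -- conjugation map
    obtain ⟨conj, hconj⟩ : ∃ conj : E ⊗ G ⟶ G,
        conj ≫ u = fst E G * (snd E G ≫ u) * (fst E G)⁻¹ := by
      apply hker
      rw [MonObj.mul_comp, MonObj.mul_comp, GrpObj.inv_comp, huv', _root_.mul_one, mul_inv_cancel]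
    have hconj' : ∀ {T : Over S} (x : T ⟶ E) (g : T ⟶ G),
        (lift x g ≫ conj) ≫ u = x * (g ≫ u) * x⁻¹ := by
      intro T x g
      rw [Category.assoc, hconj, MonObj.comp_mul, MonObj.comp_mul, GrpObj.comp_inv, lift_fst,
        lift_snd_assoc]
    obtain ⟨f, hf⟩ := exists_desc_whiskerRight Scheme.fppfPrecoverage v hloc G G
      (conj * (snd E G)⁻¹) (by
        intro T x₁ x₂ g hx
        obtain ⟨h, rfl⟩ := hdiff x₁ x₂ hx
        apply hinj
        rw [MonObj.comp_mul, MonObj.comp_mul, GrpObj.comp_inv, GrpObj.comp_inv, lift_snd, lift_snd,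
          MonObj.mul_comp, MonObj.mul_comp, hconj', hconj']
        have hc : (h ≫ u) * (g ≫ u) = (g ≫ u) * (h ≫ u) := by
          rw [← MonObj.mul_comp, ← MonObj.mul_comp, mul_comm]
        rw [mul_inv_rev, _root_.mul_assoc x₁ (h ≫ u) (g ≫ u), hc]
        group)
    have hf1 : f = 1 := by
      apply hPG
      · rw [← cancel_epi v]
        have e : v ≫ lift (𝟙 P) (toUnit P ≫ η[G]) = lift (𝟙 E) (toUnit E ≫ η[G]) ≫ (v ▷ G) := by
          apply CartesianMonoidalCategory.hom_ext <;> simp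
        rw [← Category.assoc, e, Category.assoc, hf, MonObj.comp_one]
        apply hinj
        rw [MonObj.comp_mul, GrpObj.comp_inv, lift_snd, MonObj.mul_comp, hconj', MonObj.one_comp,
          GrpObj.inv_comp, ← Hom.one_def, MonObj.one_comp]
        group
      · have e : lift (toUnit G ≫ η[P]) (𝟙 G) = lift (toUnit G ≫ η[E]) (𝟙 G) ≫ (v ▷ G) := by
          apply CartesianMonoidalCategory.hom_ext
          · simp [IsMonHom.one_hom]
          · simp
        rw [e, Category.assoc, hf]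
        apply hinj
        rw [MonObj.comp_mul, GrpObj.comp_inv, lift_snd, MonObj.mul_comp, hconj', MonObj.one_comp,
          GrpObj.inv_comp, ← Hom.one_def]
        group
    intro T g x
    have h1 : lift x g ≫ (v ▷ G) ≫ f = 1 := by rw [hf1, MonObj.comp_one, MonObj.comp_one]
    rw [hf, MonObj.comp_mul, GrpObj.comp_inv, lift_snd] at h1
    have h2 : lift x g ≫ conj = g := by
      have := congrArg (fun m => m * g) h1
      simpa using this
    have h3 := hconj' x g
    rw [h2] at h3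
    -- g≫u = x * (g ≫ u) * x⁻¹
    calc (g ≫ u) * x = (x * (g ≫ u) * x⁻¹) * x := by rw [← h3]
      _ = x * (g ≫ u) := by group
  refine ⟨part1, ?_⟩
  intro hPcomm hPP
  haveI : IsCommMonObj P := hPcomm
  -- commutator map
  obtain ⟨κ, hκ⟩ : ∃ κ : E ⊗ E ⟶ G,
      κ ≫ u = fst E E * snd E E * (fst E E)⁻¹ * (snd E E)⁻¹ := by
    apply hker
    rw [MonObj.mul_comp, MonObj.mul_comp, MonObj.mul_comp, GrpObj.inv_comp, GrpObj.inv_comp,
      mul_comm (fst E E ≫ v) (snd E E ≫ v)]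
    group
  have hκ' : ∀ {T : Over S} (x y : T ⟶ E), (lift x y ≫ κ) ≫ u = x * y * x⁻¹ * y⁻¹ := by
    intro T x y
    rw [Category.assoc, hκ, MonObj.comp_mul, MonObj.comp_mul, MonObj.comp_mul, GrpObj.comp_inv,
      GrpObj.comp_inv, lift_fst, lift_snd]
  -- invariance in the first variable
  have hκ1 : ∀ {T : Over S} (x : T ⟶ E) (h : T ⟶ G) (y : T ⟶ E),
      lift (x * (h ≫ u)) y ≫ κ = lift x y ≫ κ := by
    intro T x h y
    apply hinj
    rw [hκ', hκ']
    have hc := part1 T h y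
    calc x * (h ≫ u) * y * (x * (h ≫ u))⁻¹ * y⁻¹
        = x * ((h ≫ u) * y) * (h ≫ u)⁻¹ * x⁻¹ * y⁻¹ := by group
      _ = x * (y * (h ≫ u)) * (h ≫ u)⁻¹ * x⁻¹ * y⁻¹ := by rw [hc]
      _ = x * y * x⁻¹ * y⁻¹ := by group
  have hκ2 : ∀ {T : Over S} (x : T ⟶ E) (y : T ⟶ E) (h : T ⟶ G),
      lift x (y * (h ≫ u)) ≫ κ = lift x y ≫ κ := by
    intro T x y h
    apply hinj
    rw [hκ', hκ']
    have hc := part1 T h x⁻¹
    calc x * (y * (h ≫ u)) * x⁻¹ * (y * (h ≫ u))⁻¹
        = x * y * ((h ≫ u) * x⁻¹) * (h ≫ u)⁻¹ * y⁻¹ := by group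
      _ = x * y * (x⁻¹ * (h ≫ u)) * (h ≫ u)⁻¹ * y⁻¹ := by rw [hc]
      _ = x * y * x⁻¹ * y⁻¹ := by group
  -- first descent
  obtain ⟨κ₁, hκ₁⟩ := exists_desc_whiskerRight Scheme.fppfPrecoverage v hloc E G κ (by
    intro T x₁ x₂ y hx
    obtain ⟨h, rfl⟩ := hdiff x₁ x₂ hx
    exact (hκ1 x₁ h y).symm)
  have hκ₁' : ∀ {T : Over S} (x y : T ⟶ E), lift (x ≫ v) y ≫ κ₁ = lift x y ≫ κ := by
    intro T x y
    rw [← hκ₁, ← Category.assoc]
    congr 1
    apply CartesianMonoidalCategory.hom_ext <;> simp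
  -- second descent
  obtain ⟨f₂, hf₂⟩ := exists_desc_whiskerRight Scheme.fppfPrecoverage v hloc P G
    ((β_ E P).hom ≫ κ₁) (by
    intro T y₁ y₂ p hy
    obtain ⟨h, rfl⟩ := hdiff y₁ y₂ hy
    have e : ∀ y : T ⟶ E, lift y p ≫ (β_ E P).hom ≫ κ₁ = lift p y ≫ κ₁ := by
      intro y
      rw [← Category.assoc]
      congr 1
      apply CartesianMonoidalCategory.hom_ext <;> simp
    rw [e, e]
    refine Groth.Agent.Lib.H43LocSplit2.hom_ext_of_locally_lift Scheme.fppfPrecoverage v hloc p _ _ ?_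
    intro T' t x hx
    rw [← Category.assoc, ← Category.assoc, comp_lift, comp_lift, ← hx, hκ₁', hκ₁', MonObj.comp_mul,
      ← Category.assoc, hκ2])
  have hf₂' : ∀ {T : Over S} (x y : T ⟶ E), lift (y ≫ v) (x ≫ v) ≫ f₂ = lift x y ≫ κ := by
    intro T x y
    have e : lift (y ≫ v) (x ≫ v) = lift y (x ≫ v) ≫ (v ▷ P) := by
      apply CartesianMonoidalCategory.hom_ext <;> simp
    rw [e, Category.assoc, hf₂, ← Category.assoc]
    have e2 : lift y (x ≫ v) ≫ (β_ E P).hom = lift (x ≫ v) y := by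
      apply CartesianMonoidalCategory.hom_ext <;> simp
    rw [e2, hκ₁']
  have hf₂1 : f₂ = 1 := by
    apply hPP
    · rw [← cancel_epi v, MonObj.comp_one]
      have e : v ≫ lift (𝟙 P) (toUnit P ≫ η[P]) = lift (𝟙 E ≫ v) ((1 : E ⟶ E) ≫ v) := by
        apply CartesianMonoidalCategory.hom_ext
        · simp
        · simp [Hom.one_def, IsMonHom.one_hom]
      rw [← Category.assoc, e, hf₂']
      apply hinj
      rw [hκ', MonObj.one_comp]
      group
    · rw [← cancel_epi v, MonObj.comp_one]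
      have e : v ≫ lift (toUnit P ≫ η[P]) (𝟙 P) = lift ((1 : E ⟶ E) ≫ v) (𝟙 E ≫ v) := by
        apply CartesianMonoidalCategory.hom_ext
        · simp [Hom.one_def, IsMonHom.one_hom]
        · simp
      rw [← Category.assoc, e, hf₂']
      apply hinj
      rw [hκ', MonObj.one_comp]
      group
  rw [isCommMonObj_iff_isMulCommutative]
  intro T
  refine ⟨⟨fun x y => ?_⟩⟩
  have h1 := hf₂' x y
  rw [hf₂1, MonObj.comp_one] at h1
  have h2 := hκ' x y
  rw [← h1, MonObj.one_comp] at h2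
  calc x * y = (x * y * x⁻¹ * y⁻¹) * (y * x) := by group
    _ = y * x := by rw [← h2, _root_.one_mul]

end Groth.Agent.S8718
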