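import Groth.Statements.S12113
import Groth.Agent.S8718

set_option autoImplicit false
set_option maxHeartbeats 400000
universe u
open CategoryTheory CategoryTheory.Limits MonoidalCategory CartesianMonoidalCategory MonObj AlgebraicGeometry
open SGA7

namespace Groth.Agent.S12113

/-- Group schemes, fppf site: over a base scheme S, let P and G be S-group schemes with G commutative,
and let u : G → E, v : E → P and u' : G → E', v' : E' → P be homomorphisms forming sequences 1 → G →
E → P → 1 and 1 → G → E' → P → 1 exact for the fppf topology. Suppose every morphism of S-schemes P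
×_S P → G trivial on P × e_P and on e_P × P is trivial. Let f : E → E' be a morphism of S-schemes
over P (f ≫ v' = v) and under G (u ≫ f = u'), preserving the unit section, and compatible with left
and right translations by G: for all points g of G and x of E with values in any S-scheme, f(u(g) x)
= u'(g) f(x) and f(x u(g)) = f(x) u'(g). Then f is a homomorphism of S-group schemes: such
extensions have no non-multiplicative morphisms of their underlying rigidified bitorsors. (The
published statement is for sheaves of groups on an arbitrary topos and phrased as full faithfulness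
of the functor from extensions to rigidified bitorsors; this row is the case of representable
sheaves on the fppf site of S, with G commutative so that the defect of multiplicativity descends to
P ×_S P as in the printed argument. Morphisms to a group scheme form a group; trivial means equal to
its unit.) -/
theorem result (S : Scheme.{u})
    (P G E E' : Over S) [GrpObj P] [GrpObj G] [GrpObj E] [GrpObj E'] [IsCommMonObj G]
    (u : G ⟶ E) (v : E ⟶ P) (hex : NonAbH1.IsExactSeq Scheme.fppfPrecoverage u v)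
    (u' : G ⟶ E') (v' : E' ⟶ P) (hex' : NonAbH1.IsExactSeq Scheme.fppfPrecoverage u' v')
    (hPP : ∀ c : P ⊗ P ⟶ G, lift (𝟙 P) (toUnit P ≫ η[P]) ≫ c = 1 → lift (toUnit P ≫ η[P]) (𝟙 P) ≫ c = 1 → c = 1)
    (f : E ⟶ E') (hv : f ≫ v' = v) (hu : u ≫ f = u') (h1 : η[E] ≫ f = η[E'])
    (hl : ∀ (T : Over S) (g : T ⟶ G) (x : T ⟶ E), ((g ≫ u) * x) ≫ f = (g ≫ u') * (x ≫ f))
    (hr : ∀ (T : Over S) (g : T ⟶ G) (x : T ⟶ E), (x * (g ≫ u)) ≫ f = (x ≫ f) * (g ≫ u')) :
    IsMonHom f := by
  obtain ⟨hu_, hv_, huv, hpb, hloc⟩ := hex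
  obtain ⟨hu', hv', huv', hpb', hloc'⟩ := hex'
  have hepi : Epi v := Groth.Agent.Lib.H43LocSplit2.epi Scheme.fppfPrecoverage v hloc
  have hUV : ∀ {T : Over S} (g : T ⟶ G), (g ≫ u) ≫ v = 1 := by
    intro T g
    rw [Category.assoc, huv, MonObj.comp_one]
  have hinj' : ∀ {T : Over S} (g h : T ⟶ G), g ≫ u' = h ≫ u' → g = h :=
    fun g h e => Groth.Agent.Lib.H43Torsor.eq_of_comp_eq u' v' hpb' g h e
  have hker' : ∀ {T : Over S} (b : T ⟶ E'), b ≫ v' = 1 → ∃ g' : T ⟶ G, g' ≫ u' = b := by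
    intro T b hb
    obtain ⟨g', hg'⟩ := Groth.Agent.Lib.H43Torsor.exists_mul_eq u' v' hpb' (1 : T ⟶ E') b
      (by rw [MonObj.one_comp, hb])
    exact ⟨g', by rw [hg', _root_.one_mul]⟩
  have hker : ∀ {T : Over S} (b : T ⟶ E), b ≫ v = 1 → ∃ g' : T ⟶ G, g' ≫ u = b := by
    intro T b hb
    obtain ⟨g', hg'⟩ := Groth.Agent.Lib.H43Torsor.exists_mul_eq u v hpb (1 : T ⟶ E) b
      (by rw [MonObj.one_comp, hb])
    exact ⟨g', by rw [hg', _root_.one_mul]⟩
  have hdiff : ∀ {T : Over S} (a b : T ⟶ E), a ≫ v = b ≫ v → ∃ g' : T ⟶ G, b = a * (g' ≫ u) :=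
    fun a b e => Groth.Agent.Lib.H43Torsor.exists_mul_eq u v hpb a b e
  have hfv : ∀ {T : Over S} (x : T ⟶ E), (x ≫ f) ≫ v' = x ≫ v := by
    intro T x
    rw [Category.assoc, hv]
  have hf1 : ∀ {T : Over S}, (1 : T ⟶ E) ≫ f = 1 := by
    intro T
    rw [Hom.one_def, Category.assoc, h1, ← Hom.one_def]
  -- the defect
  obtain ⟨d, hd⟩ : ∃ d : E ⊗ E ⟶ G,
      d ≫ u' = ((fst E E * snd E E) ≫ f) * ((fst E E ≫ f) * (snd E E ≫ f))⁻¹ := by
    apply hker'
    rw [MonObj.mul_comp _ _ v', GrpObj.inv_comp, MonObj.mul_comp _ _ v', hfv, hfv, hfv,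
      MonObj.mul_comp _ _ v, mul_inv_cancel]
  have hd' : ∀ {T : Over S} (x y : T ⟶ E),
      (lift x y ≫ d) ≫ u' = ((x * y) ≫ f) * ((x ≫ f) * (y ≫ f))⁻¹ := by
    intro T x y
    rw [Category.assoc, hd, MonObj.comp_mul, GrpObj.comp_inv, MonObj.comp_mul, ← Category.assoc,
      ← Category.assoc, ← Category.assoc, MonObj.comp_mul, lift_fst, lift_snd]
  have hd1 : ∀ {T : Over S} (x : T ⟶ E) (g : T ⟶ G) (y : T ⟶ E),
      lift (x * (g ≫ u)) y ≫ d = lift x y ≫ d := by
    intro T x g y
    apply hinj'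
    rw [hd', hd']
    obtain ⟨g', hg'⟩ : ∃ g' : T ⟶ G, g' ≫ u = y⁻¹ * (g ≫ u) * y := by
      apply hker
      rw [MonObj.mul_comp, MonObj.mul_comp, GrpObj.inv_comp, hUV, _root_.mul_one, inv_mul_cancel]
    have e1 : x * (g ≫ u) * y = (x * y) * (g' ≫ u) := by
      rw [hg']
      group
    have e2 : y * (g' ≫ u) = (g ≫ u) * y := by
      rw [hg']
      group
    have key : (g ≫ u') * (y ≫ f) = (y ≫ f) * (g' ≫ u') := by
      rw [← hl, ← hr, e2]
    rw [e1, hr, hr, _root_.mul_assoc (x ≫ f) (g ≫ u') (y ≫ f), key]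
    group
  have hd2 : ∀ {T : Over S} (x y : T ⟶ E) (g : T ⟶ G),
      lift x (y * (g ≫ u)) ≫ d = lift x y ≫ d := by
    intro T x y g
    apply hinj'
    rw [hd', hd', ← _root_.mul_assoc x y (g ≫ u), hr, hr]
    group
  -- first descent
  obtain ⟨d₁, hd₁⟩ := Groth.Agent.S8718.exists_desc_whiskerRight Scheme.fppfPrecoverage v hloc E G d
    (by
      intro T x₁ x₂ y hx
      obtain ⟨h, rfl⟩ := hdiff x₁ x₂ hx
      exact (hd1 x₁ h y).symm)
  have hd₁' : ∀ {T : Over S} (x y : T ⟶ E), lift (x ≫ v) y ≫ d₁ = lift x y ≫ d := by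
    intro T x y
    rw [← hd₁, ← Category.assoc]
    congr 1
    apply CartesianMonoidalCategory.hom_ext <;> simp
  -- second descent
  obtain ⟨c, hc⟩ := Groth.Agent.S8718.exists_desc_whiskerRight Scheme.fppfPrecoverage v hloc P G
    ((β_ E P).hom ≫ d₁) (by
    intro T y₁ y₂ p hy
    obtain ⟨h, rfl⟩ := hdiff y₁ y₂ hy
    have e : ∀ y : T ⟶ E, lift y p ≫ (β_ E P).hom ≫ d₁ = lift p y ≫ d₁ := by
      intro y
      rw [← Category.assoc]
      congr 1
      apply CartesianMonoidalCategory.hom_ext <;> simp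
    rw [e, e]
    refine Groth.Agent.Lib.H43LocSplit2.hom_ext_of_locally_lift Scheme.fppfPrecoverage v hloc p _ _ ?_
    intro T' t x hx
    rw [← Category.assoc, ← Category.assoc, comp_lift, comp_lift, ← hx, hd₁', hd₁', MonObj.comp_mul,
      ← Category.assoc, hd2])
  have hc' : ∀ {T : Over S} (x y : T ⟶ E), lift (y ≫ v) (x ≫ v) ≫ c = lift x y ≫ d := by
    intro T x y
    have e : lift (y ≫ v) (x ≫ v) = lift y (x ≫ v) ≫ (v ▷ P) := by
      apply CartesianMonoidalCategory.hom_ext <;> simp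
    rw [e, Category.assoc, hc, ← Category.assoc]
    have e2 : lift y (x ≫ v) ≫ (β_ E P).hom = lift (x ≫ v) y := by
      apply CartesianMonoidalCategory.hom_ext <;> simp
    rw [e2, hd₁']
  have hc1 : c = 1 := by
    apply hPP
    · rw [← cancel_epi v, MonObj.comp_one]
      have e : v ≫ lift (𝟙 P) (toUnit P ≫ η[P]) = lift (𝟙 E ≫ v) ((1 : E ⟶ E) ≫ v) := by
        apply CartesianMonoidalCategory.hom_ext
        · simp
        · simp [Hom.one_def, IsMonHom.one_hom]
      rw [← Category.assoc, e, hc']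
      apply hinj'
      rw [hd', MonObj.one_comp u', hf1]
      simp only [_root_.one_mul, _root_.mul_one, mul_inv_cancel]
    · rw [← cancel_epi v, MonObj.comp_one]
      have e : v ≫ lift (toUnit P ≫ η[P]) (𝟙 P) = lift ((1 : E ⟶ E) ≫ v) (𝟙 E ≫ v) := by
        apply CartesianMonoidalCategory.hom_ext
        · simp [Hom.one_def, IsMonHom.one_hom]
        · simp
      rw [← Category.assoc, e, hc']
      apply hinj'
      rw [hd', MonObj.one_comp u', hf1]
      simp only [_root_.one_mul, _root_.mul_one, mul_inv_cancel]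
  have hmul : ∀ {T : Over S} (x y : T ⟶ E), (x * y) ≫ f = (x ≫ f) * (y ≫ f) := by
    intro T x y
    have h2 := hc' x y
    rw [hc1, MonObj.comp_one] at h2
    have h3 := hd' x y
    rw [← h2, MonObj.one_comp] at h3
    calc (x * y) ≫ f = (((x * y) ≫ f) * ((x ≫ f) * (y ≫ f))⁻¹) * ((x ≫ f) * (y ≫ f)) := by group
      _ = (x ≫ f) * (y ≫ f) := by rw [← h3, _root_.one_mul]
  refine ⟨h1, ?_⟩
  have e1 : μ[E] = fst E E * snd E E := by
    rw [Hom.mul_def, lift_fst_snd, Category.id_comp]
  have e2 : (f ⊗ₘ f) ≫ μ[E'] = (fst E E ≫ f) * (snd E E ≫ f) := by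
    rw [Hom.mul_def]
    congr 1
  rw [e1, e2, hmul]

end Groth.Agent.S12113
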