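import Groth.Statements.S12118
-- import your own Groth.Agent.* helpers here

set_option autoImplicit false
universe u v
open EGA41

namespace Groth.Agent.S12118

/-- Let A be a commutative ring, M an A-module, (M_k)_{k ≥ 0} a decreasing filtration of M by submodules
with M_0 = M and ⋂_k M_k = 0, and f an element of A which is a non-zero-divisor on every graded
piece M_k/M_{k+1} (equivalently on the associated graded module). Then (i) f is a non-zero-divisor
on M, and (ii) M_k ∩ fM = fM_k for every k ≥ 0. -/
theorem result {A : Type u} [CommRing A] {M : Type v} [AddCommGroup M] [Module A M]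
    (F : ℕ → Submodule A M) (hanti : Antitone F) (h0 : F 0 = ⊤) (hsep : ⨅ k, F k = ⊥) (f : A)
    (hreg : ∀ k : ℕ, IsSMulRegular (↥(F k) ⧸ Submodule.comap (F k).subtype (F (k + 1))) f) :
    IsSMulRegular M f ∧ ∀ k : ℕ, F k ⊓ (Ideal.span {f} • (⊤ : Submodule A M)) = Ideal.span {f} • F k := by
  -- key: `f • x ∈ F k → x ∈ F k`
  have key : ∀ (k : ℕ) (x : M), f • x ∈ F k → x ∈ F k := by
    intro k
    induction k with
    | zero => intro x _; rw [h0]; trivial
    | succ k ih =>
      intro x hx
      have hxk : x ∈ F k := ih x (hanti (Nat.le_succ k) hx)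
      have h1 : f • (Submodule.Quotient.mk (p := Submodule.comap (F k).subtype (F (k + 1)))
          (⟨x, hxk⟩ : ↥(F k))) = f • 0 := by
        rw [smul_zero, ← Submodule.Quotient.mk_smul, Submodule.Quotient.mk_eq_zero]
        exact hx
      have h2 := hreg k h1
      rw [Submodule.Quotient.mk_eq_zero] at h2
      exact h2
  refine ⟨?_, fun k => ?_⟩
  · intro x y hxy
    have hxy' : f • x = f • y := hxy
    have hz : f • (x - y) = 0 := by rw [smul_sub, hxy', sub_self]
    have hmem : x - y ∈ ⨅ k, F k := by
      rw [Submodule.mem_iInf]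
      intro k
      apply key k
      rw [hz]
      exact zero_mem _
    rw [hsep, Submodule.mem_bot] at hmem
    exact sub_eq_zero.mp hmem
  · rw [Submodule.ideal_span_singleton_smul, Submodule.ideal_span_singleton_smul]
    apply le_antisymm
    · intro y hy
      obtain ⟨hyk, hyf⟩ := Submodule.mem_inf.mp hy
      rw [Submodule.mem_smul_pointwise_iff_exists] at hyf
      obtain ⟨x, -, rfl⟩ := hyf
      rw [Submodule.mem_smul_pointwise_iff_exists]
      exact ⟨x, key k x hyk, rfl⟩
    · intro y hy
      rw [Submodule.mem_smul_pointwise_iff_exists] at hy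
      obtain ⟨x, hx, rfl⟩ := hy
      refine Submodule.mem_inf.mpr ⟨(F k).smul_mem f hx, ?_⟩
      rw [Submodule.mem_smul_pointwise_iff_exists]
      exact ⟨x, trivial, rfl⟩

end Groth.Agent.S12118
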