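import Groth.Statements.S9011
import Groth.Agent.S0582
import Groth.Agent.Lib.H47FiberMod
import Mathlib.RingTheory.LocalRing.Module

set_option autoImplicit false
universe u
open FlatMor

namespace Groth.Agent.S9011

open IsLocalRing TensorProduct

section alg

variable {R : Type u} [CommRing R] [IsLocalRing R]

/-- elementwise injectivity modulo the maximal ideal -/
def InjModMax {N N' : Type*} [AddCommGroup N] [Module R N] [AddCommGroup N'] [Module R N']
    (φ : N →ₗ[R] N') : Prop :=
  ∀ n, φ n ∈ (maximalIdeal R) • (⊤ : Submodule R N') → n ∈ (maximalIdeal R) • (⊤ : Submodule R N)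

theorem map_mem_smul_top {N N' : Type*} [AddCommGroup N] [Module R N] [AddCommGroup N']
    [Module R N'] (φ : N →ₗ[R] N') {n : N} (hn : n ∈ (maximalIdeal R) • (⊤ : Submodule R N)) :
    φ n ∈ (maximalIdeal R) • (⊤ : Submodule R N') := by
  have : Submodule.map φ ((maximalIdeal R) • (⊤ : Submodule R N)) ≤
      (maximalIdeal R) • (⊤ : Submodule R N') := by
    rw [Submodule.map_smul'']
    exact Submodule.smul_mono le_rfl le_top
  exact this (Submodule.mem_map_of_mem hn)

theorem one_tmul_eq_zero_iff {N : Type*} [AddCommGroup N] [Module R N] (n : N) :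
    (1 : ResidueField R) ⊗ₜ[R] n = 0 ↔ n ∈ (maximalIdeal R) • (⊤ : Submodule R N) := by
  change ((Ideal.Quotient.mk (maximalIdeal R) 1 : R ⧸ maximalIdeal R) ⊗ₜ[R] n = 0) ↔ _
  rw [← (TensorProduct.quotTensorEquivQuotSMul N (maximalIdeal R)).map_eq_zero_iff,
    TensorProduct.quotTensorEquivQuotSMul_mk_tmul, one_smul, Submodule.Quotient.mk_eq_zero]

theorem lTensor_residueField_injective_of_injModMax {N N' : Type*} [AddCommGroup N] [Module R N]
    [AddCommGroup N'] [Module R N'] (φ : N →ₗ[R] N') (h : InjModMax φ) :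
    Function.Injective (φ.lTensor (ResidueField R)) := by
  rw [injective_iff_map_eq_zero]
  intro x hx
  obtain ⟨n, rfl⟩ := TensorProduct.mk_surjective R N (ResidueField R)
    Ideal.Quotient.mk_surjective x
  rw [TensorProduct.mk_apply, LinearMap.lTensor_tmul, one_tmul_eq_zero_iff] at hx
  rw [TensorProduct.mk_apply, one_tmul_eq_zero_iff]
  exact h n hx

/-- (L1) a map from a finite module to a free module which is injective modulo the maximal ideal
is a split injection. -/
theorem exists_leftInverse_of_injModMax {F : Type u} [AddCommGroup F] [Module R F]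
    [Module.Finite R F] {I' : Type u} (ψ : F →ₗ[R] (I' →₀ R)) (h : InjModMax ψ) :
    ∃ ρ : (I' →₀ R) →ₗ[R] F, ρ ∘ₗ ψ = LinearMap.id := by
  classical
  obtain ⟨T, hT⟩ := (Module.Finite.fg_top : (⊤ : Submodule R F).FG)
  let J' : Finset I' := T.biUnion fun t => (ψ t).support
  have hrange : ∀ f, ψ f ∈ Finsupp.supported R R (↑J' : Set I') := by
    intro f
    have hf : f ∈ Submodule.span R (T : Set F) := hT ▸ Submodule.mem_top
    induction hf using Submodule.span_induction with
    | mem t ht =>
      rw [Finsupp.mem_supported]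
      intro i hi
      exact Finset.mem_biUnion.mpr ⟨t, ht, hi⟩
    | zero => rw [map_zero]; exact zero_mem _
    | add a b _ _ ha hb => rw [map_add]; exact add_mem ha hb
    | smul c a _ ha => rw [map_smul]; exact Submodule.smul_mem _ c ha
  let F' := Finsupp.supported R R (↑J' : Set I')
  let ψ' : F →ₗ[R] F' := ψ.codRestrict F' hrange
  have hψ : F'.subtype ∘ₗ ψ' = ψ := LinearMap.subtype_comp_codRestrict _ _ _
  let e : F' ≃ₗ[R] ((↑J' : Set I') →₀ R) := Finsupp.supportedEquivFinsupp (↑J' : Set I')
  let ψ'' : F →ₗ[R] ((↑J' : Set I') →₀ R) := e.toLinearMap ∘ₗ ψ'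
  have hψ'' : InjModMax ψ'' := by
    intro f hf
    apply h f
    have h1 := map_mem_smul_top (F'.subtype ∘ₗ e.symm.toLinearMap) hf
    have h2 : (F'.subtype ∘ₗ e.symm.toLinearMap) (ψ'' f) = ψ f := by
      simp only [ψ'', LinearMap.comp_apply, LinearEquiv.coe_coe, LinearEquiv.symm_apply_apply]
      rw [← LinearMap.comp_apply, hψ]
    rwa [h2] at h1
  obtain ⟨l', hl'⟩ := (IsLocalRing.split_injective_iff_lTensor_residueField_injective ψ'').mpr
    (lTensor_residueField_injective_of_injModMax ψ'' hψ'')
  refine ⟨l' ∘ₗ e.toLinearMap ∘ₗ Finsupp.restrictDom R R (↑J' : Set I'), ?_⟩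
  ext f
  have h3 : Finsupp.restrictDom R R (↑J' : Set I') (ψ f) = ψ' f := by
    rw [← hψ, LinearMap.comp_apply, ← LinearMap.comp_apply (Finsupp.restrictDom R R _),
      Finsupp.restrictDom_comp_subtype, LinearMap.id_apply]
  have h4 := congr($hl' f)
  simp only [LinearMap.comp_apply, LinearMap.id_apply, LinearEquiv.coe_coe, h3] at h4 ⊢
  exact h4

omit [IsLocalRing R] in
/-- every element of `Q ⊗ (I →₀ R)` comes from a finitely supported part. -/
theorem exists_finset_mem_range_lTensor {I : Type u} (Q : Type u) [AddCommGroup Q] [Module R Q]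
    (x : Q ⊗[R] (I →₀ R)) :
    ∃ J : Finset I, x ∈ LinearMap.range
      ((Finsupp.supported R R (↑J : Set I)).subtype.lTensor Q) := by
  classical
  have mono : ∀ {J₁ J₂ : Finset I}, J₁ ⊆ J₂ →
      LinearMap.range ((Finsupp.supported R R (↑J₁ : Set I)).subtype.lTensor Q) ≤
      LinearMap.range ((Finsupp.supported R R (↑J₂ : Set I)).subtype.lTensor Q) := by
    intro J₁ J₂ h12
    have hle : Finsupp.supported R R (↑J₁ : Set I) ≤ Finsupp.supported R R (↑J₂ : Set I) :=
      Finsupp.supported_mono (by exact_mod_cast h12)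
    have : (Finsupp.supported R R (↑J₁ : Set I)).subtype =
        (Finsupp.supported R R (↑J₂ : Set I)).subtype ∘ₗ Submodule.inclusion hle := by
      ext; rfl
    rw [this, LinearMap.lTensor_comp]
    exact LinearMap.range_comp_le_range _ _
  induction x using TensorProduct.induction_on with
  | zero => exact ⟨∅, zero_mem _⟩
  | tmul q f =>
    refine ⟨f.support, ⟨q ⊗ₜ ⟨f, ?_⟩, ?_⟩⟩
    · rw [Finsupp.mem_supported]
    · simp
  | add x y hx hy =>
    obtain ⟨J₁, h₁⟩ := hx
    obtain ⟨J₂, h₂⟩ := hy
    exact ⟨J₁ ∪ J₂, add_mem (mono Finset.subset_union_left h₁) (mono Finset.subset_union_right h₂)⟩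

/-- (L2) a map of free modules over a local ring which is injective modulo the maximal ideal is
universally injective (finsupp form). -/
theorem univInj_finsupp {I I' : Type u} (φ : (I →₀ R) →ₗ[R] (I' →₀ R)) (h : InjModMax φ) :
    FlatCA.UnivInj R φ := by
  classical
  intro Q _ _
  rw [injective_iff_map_eq_zero]
  intro x hx
  obtain ⟨J, y, rfl⟩ := exists_finset_mem_range_lTensor Q x
  let F := Finsupp.supported R R (↑J : Set I)
  let e : F ≃ₗ[R] ((↑J : Set I) →₀ R) := Finsupp.supportedEquivFinsupp (↑J : Set I)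
  -- work with the honest type `(↥J →₀ R)`
  let ψ : ((↑J : Set I) →₀ R) →ₗ[R] (I' →₀ R) := φ ∘ₗ F.subtype ∘ₗ e.symm.toLinearMap
  have hψ : InjModMax ψ := by
    intro f hf
    have h1 := h _ hf
    have h2 := map_mem_smul_top (e.toLinearMap ∘ₗ Finsupp.restrictDom R R (↑J : Set I)) h1
    have h3 : (e.toLinearMap ∘ₗ Finsupp.restrictDom R R (↑J : Set I))
        ((F.subtype ∘ₗ e.symm.toLinearMap) f) = f := by
      simp only [LinearMap.comp_apply, LinearEquiv.coe_coe]
      rw [← LinearMap.comp_apply (Finsupp.restrictDom R R _), Finsupp.restrictDom_comp_subtype,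
        LinearMap.id_apply, LinearEquiv.apply_symm_apply]
    rwa [h3] at h2
  obtain ⟨ρ, hρ⟩ := exists_leftInverse_of_injModMax ψ hψ
  have hy : (e.toLinearMap.lTensor Q) y = 0 := by
    have h1 : (ρ.lTensor Q) ((ψ.lTensor Q) ((e.toLinearMap.lTensor Q) y)) =
        (e.toLinearMap.lTensor Q) y := by
      rw [← LinearMap.comp_apply, ← LinearMap.lTensor_comp, hρ, LinearMap.lTensor_id,
        LinearMap.id_apply]
    rw [← h1]
    have h2 : (ψ.lTensor Q) ((e.toLinearMap.lTensor Q) y) = (φ.lTensor Q) ((F.subtype.lTensor Q) y) := by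
      simp only [← LinearMap.comp_apply, ← LinearMap.lTensor_comp]
      congr 2
      ext f
      simp [ψ]
    rw [h2, hx, map_zero]
  have hinj : Function.Injective (e.toLinearMap.lTensor Q) := by
    have : (e.lTensor Q : Q ⊗[R] F → _) = e.toLinearMap.lTensor Q := rfl
    rw [← this]
    exact (e.lTensor Q).injective
  rw [hinj (hy.trans (map_zero _).symm), map_zero]

/-- (L2) general form for free modules. -/
theorem univInj_of_free {N N' : Type u} [AddCommGroup N] [Module R N] [AddCommGroup N']
    [Module R N'] [Module.Free R N] [Module.Free R N'] (φ : N →ₗ[R] N') (h : InjModMax φ) :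
    FlatCA.UnivInj R φ := by
  let b := Module.Free.chooseBasis R N
  let b' := Module.Free.chooseBasis R N'
  let φ' : (Module.Free.ChooseBasisIndex R N →₀ R) →ₗ[R] (Module.Free.ChooseBasisIndex R N' →₀ R) :=
    b'.repr.toLinearMap ∘ₗ φ ∘ₗ b.repr.symm.toLinearMap
  have hφ' : InjModMax φ' := by
    intro f hf
    have h1 := map_mem_smul_top b'.repr.symm.toLinearMap hf
    have h2 : b'.repr.symm.toLinearMap (φ' f) = φ (b.repr.symm f) := by simp [φ']
    rw [h2] at h1
    have h3 := map_mem_smul_top b.repr.toLinearMap (h _ h1)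
    simpa using h3
  have key := univInj_finsupp φ' hφ'
  intro Q _ _
  have hcomp : φ = b'.repr.symm.toLinearMap ∘ₗ φ' ∘ₗ b.repr.toLinearMap := by
    ext x; simp [φ']
  rw [hcomp, LinearMap.lTensor_comp, LinearMap.lTensor_comp]
  exact ((b'.repr.symm.lTensor Q).injective).comp ((key Q).comp (b.repr.lTensor Q).injective)

end alg

section main

variable {R S : Type u} [CommRing R] [IsLocalRing R] [CommRing S] [Algebra R S] (N : Type u)
  [AddCommGroup N] [Module S N] [Module R N] [IsScalarTower R S N]

open Groth.Agent.Lib.H47FiberMod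

/-- an element acting injectively on the closed fibre module acts injectively modulo `𝔪`. -/
theorem injModMax_lsmul (s : S) (hs : s ∈ FlatCA.nzdFiber R S N) :
    InjModMax ((LinearMap.lsmul S N s).restrictScalars R) := by
  intro n hn
  have hn' : s • n ∈ (maximalIdeal R) • (⊤ : Submodule R N) := hn
  have h1 : FlatCA.toFiberMod (maximalIdeal R) S N (s • n) = 0 := by
    rw [toFiberMod_eq_zero_iff]
    refine ⟨1, fun h1 => (maximalIdeal.isMaximal R).ne_top ((Ideal.eq_top_iff_one _).mpr h1), ?_⟩
    rw [map_one, one_smul, mem_smul_top_iff]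
    exact hn'
  rw [map_smul] at h1
  have h2 : FlatCA.toFiberMod (maximalIdeal R) S N n = 0 :=
    (mem_nonZeroSMulDivisors_iff.mp hs) _ h1
  rw [toFiberMod_eq_zero_iff] at h2
  obtain ⟨r, hr, hrn⟩ := h2
  rw [mem_smul_top_iff, algebraMap_smul] at hrn
  have hu : IsUnit r := by
    by_contra hnu
    exact hr ((mem_maximalIdeal r).mpr hnu)
  obtain ⟨u, rfl⟩ := hu
  have := Submodule.smul_mem ((maximalIdeal R) • (⊤ : Submodule R N)) (↑u⁻¹ : R) hrn
  rwa [smul_smul, Units.inv_mul, one_smul] at this

/-- Part (1). -/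
theorem univInj_lsmul [Module.Projective R N] (s : S) (hs : s ∈ FlatCA.nzdFiber R S N) :
    FlatCA.UnivInj R ((LinearMap.lsmul S N s).restrictScalars R) := by
  have : Module.Free R N := Groth.Agent.S0582.result R N
  exact univInj_of_free _ (injModMax_lsmul N s hs)

omit [IsLocalRing R] in
/-- If every element of a submonoid `Σ ⊆ S` acts `R`-universally injectively on `N`, then
`N → Σ⁻¹ N` is `R`-universally injective. -/
theorem univInj_mkLinearMap (M : Submonoid S)
    (h : ∀ s ∈ M, FlatCA.UnivInj R ((LinearMap.lsmul S N s).restrictScalars R)) :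
    FlatCA.UnivInj R ((LocalizedModule.mkLinearMap M N).restrictScalars R) := by
  intro Q _ _
  rw [LinearMap.lTensor_inj_iff_rTensor_inj, injective_iff_map_eq_zero]
  intro m hm
  have hm' : (TensorProduct.AlgebraTensorModule.rTensor R Q (LocalizedModule.mkLinearMap M N)) m
      = 0 := hm
  obtain ⟨c, hc⟩ := (IsLocalizedModule.eq_zero_iff M
    (TensorProduct.AlgebraTensorModule.rTensor R Q (LocalizedModule.mkLinearMap M N))).mp hm'
  have hcm : ∀ m : N ⊗[R] Q, (c : S) • m =
      (((LinearMap.lsmul S N (c : S)).restrictScalars R).rTensor Q) m := by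
    intro m
    induction m using TensorProduct.induction_on with
    | zero => simp
    | tmul n q => simp [TensorProduct.smul_tmul']
    | add x y hx hy => rw [smul_add, hx, hy, map_add]
  have hinj : Function.Injective (((LinearMap.lsmul S N (c : S)).restrictScalars R).rTensor Q) :=
    (LinearMap.lTensor_inj_iff_rTensor_inj _ _).mp (h c c.2 Q)
  apply hinj
  rw [map_zero, ← hcm]
  exact hc

end main

open IsLocalRing in
/-- For a local ring R with maximal ideal m, an R-algebra S with S/mS Noetherian and an S-module N with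
N/mN finite over S/mS which is projective as an R-module, every element of S that is a
nonzerodivisor on N/mN acts R-universally injectively on N, and the map from N to its localization
at all such elements is R-universally injective. -/
theorem result {R S : Type u} [CommRing R] [IsLocalRing R] [CommRing S] [Algebra R S] (N : Type u) [AddCommGroup N] [Module S N] [Module R N] [IsScalarTower R S N] [IsNoetherianRing ((maximalIdeal R).Fiber S)] [Module.Finite ((maximalIdeal R).Fiber S) (FlatCA.fiberMod (maximalIdeal R) S N)] [Module.Projective R N] : (∀ s ∈ FlatCA.nzdFiber R S N, FlatCA.UnivInj R ((LinearMap.lsmul S N s).restrictScalars R)) ∧ FlatCA.UnivInj R ((LocalizedModule.mkLinearMap (FlatCA.nzdFiber R S N) N).restrictScalars R) := by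
  exact ⟨fun s hs => univInj_lsmul N s hs,
    univInj_mkLinearMap N _ fun s hs => univInj_lsmul N s hs⟩

end Groth.Agent.S9011
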