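import Groth.Statements.S1212
import Groth.Agent.S9011
import Mathlib.RingTheory.Regular.IsSMulRegular
import Mathlib.RingTheory.Ideal.AssociatedPrime.Finiteness

set_option autoImplicit false
universe u
open FlatMor

namespace Groth.Agent.S1212

open TensorProduct IsLocalRing Groth.Agent.Lib.H47FiberMod

open TensorProduct IsLocalRing in
/-- Let R be a local ring, S an R-algebra and N an S-module which is projective as an R-module, such
that the closed fibre ring of S is Noetherian and the closed fibre module of N is finite over it.
Then every prime q of S, over p in R, which is an associated prime (the annihilator of an element)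
of the S-module N ⊗_R κ(p) satisfies q + 𝔪_R S ≠ S. -/
theorem result {R S : Type u} [CommRing R] [IsLocalRing R] [CommRing S] [Algebra R S]
    (N : Type u) [AddCommGroup N] [Module S N] [Module R N] [IsScalarTower R S N] [Module.Projective R N]
    [IsNoetherianRing ((maximalIdeal R).Fiber S)]
    [Module.Finite ((maximalIdeal R).Fiber S) (FlatCA.fiberMod (maximalIdeal R) S N)]
    (p : Ideal R) [p.IsPrime] (q : Ideal S) [q.IsPrime] [q.LiesOver p]
    (hq : q ∈ FlatCA.ass S (N ⊗[R] p.ResidueField)) :
    q ⊔ (maximalIdeal R).map (algebraMap R S) ≠ ⊤ := by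
  classical
  obtain ⟨hqp, m, hm⟩ := hq
  -- Step 1: `q` is disjoint from `Σ`
  have step1 : ∀ s ∈ FlatCA.nzdFiber R S N, s ∉ q := by
    intro s hs hsq
    have hsm : s • m = 0 := by
      rw [hm, Submodule.mem_annihilator_span_singleton] at hsq
      exact hsq
    have hcm : ∀ m : N ⊗[R] p.ResidueField, s • m =
        (((LinearMap.lsmul S N s).restrictScalars R).rTensor p.ResidueField) m := by
      intro m
      induction m using TensorProduct.induction_on with
      | zero => simp
      | tmul n c => simp [TensorProduct.smul_tmul']
      | add x y hx hy => rw [smul_add, hx, hy, map_add]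
    have hinj : Function.Injective
        (((LinearMap.lsmul S N s).restrictScalars R).rTensor p.ResidueField) :=
      (LinearMap.lTensor_inj_iff_rTensor_inj _ _).mp
        (Groth.Agent.S9011.univInj_lsmul N s hs p.ResidueField)
    have hm0 : m = 0 := by
      apply hinj
      rw [map_zero, ← hcm, hsm]
    apply hqp.ne_top
    rw [hm, hm0, Ideal.eq_top_iff_one, Submodule.mem_annihilator_span_singleton, smul_zero]
  -- Step 2: prime avoidance
  let F := (maximalIdeal R).Fiber S
  let Nbar := FlatCA.fiberMod (maximalIdeal R) S N
  let ι : S →+* F :=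
    (Algebra.TensorProduct.includeRight (R := R) (A := (maximalIdeal R).ResidueField) (B := S)).toRingHom
  have hfin : (associatedPrimes F Nbar).Finite := associatedPrimes.finite F Nbar
  have hsub : (q : Set S) ⊆ ⋃ P ∈ (↑hfin.toFinset : Set (Ideal F)), (P.comap ι : Ideal S) := by
    intro s hs
    have hns : s ∉ FlatCA.nzdFiber R S N := fun h => step1 s h hs
    rw [mem_nonZeroSMulDivisors_iff] at hns
    push Not at hns
    obtain ⟨x, hx, hx0⟩ := hns
    have hnr : ι s ∈ {r : F | IsSMulRegular Nbar r}ᶜ := by
      intro hreg
      apply hx0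
      apply hreg
      change ι s • x = ι s • 0
      rw [smul_zero]
      have := smul_eq_includeRight_smul N (maximalIdeal R) s x
      rw [← hx, this]
      rfl
    rw [← biUnion_associatedPrimes_eq_compl_regular F Nbar] at hnr
    simp only [Set.mem_iUnion] at hnr ⊢
    obtain ⟨P, hP, hsP⟩ := hnr
    exact ⟨P, by simpa using hP, hsP⟩
  obtain ⟨P, hP, hqP⟩ := (Ideal.subset_union_prime (f := fun P : Ideal F => P.comap ι) ⊥ ⊥
    (fun P hP _ _ => by
      have : P.IsPrime := ((hfin.mem_toFinset).mp hP).isPrime
      exact Ideal.comap_isPrime ι P)).mp hsub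
  have hPprime : P.IsPrime := ((hfin.mem_toFinset).mp hP).isPrime
  -- Step 3
  have hmS : (maximalIdeal R).map (algebraMap R S) ≤ P.comap ι := by
    rw [Ideal.map_le_iff_le_comap]
    intro a ha
    rw [Ideal.mem_comap, Ideal.mem_comap]
    have : ι (algebraMap R S a) = 0 := by
      change ((1 : (maximalIdeal R).ResidueField) ⊗ₜ[R] (algebraMap R S a) : F) = 0
      rw [Algebra.algebraMap_eq_smul_one, ← TensorProduct.smul_tmul, ← Algebra.algebraMap_eq_smul_one,
        Ideal.algebraMap_residueField_eq_zero.mpr ha, TensorProduct.zero_tmul]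
    rw [this]
    exact zero_mem _
  intro htop
  have hle : q ⊔ (maximalIdeal R).map (algebraMap R S) ≤ P.comap ι := sup_le hqP hmS
  rw [htop] at hle
  exact (Ideal.comap_isPrime ι P).ne_top (top_le_iff.mp hle)

end Groth.Agent.S1212
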