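import Groth.Statements.S12121
import Groth.Agent.Lib.H8Lift
import Groth.Agent.S2668
import Groth.Agent.S2085

set_option autoImplicit false
universe u
open EGA4

namespace Groth.Agent.S12121

open RingTheory.Sequence IsLocalRing Pointwise Module LocCoh Groth.Agent.Lib.H8CM
  Groth.Agent.Lib.H8LocTrans Groth.Agent.Lib.H8Lift

/-- "No embedded primes" in the order-theoretic form is equivalent to `(S_1)`. -/
theorem noEmbedded_iff_hasSk_one {R M : Type u} [CommRing R] [IsNoetherianRing R] [AddCommGroup M]
    [Module R M] [Module.Finite R M] :
    (∀ p ∈ associatedPrimes R M, ∀ q ∈ associatedPrimes R M, p ≤ q → p = q) ↔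
      LocCoh.HasSk 1 R M := by
  rw [← Groth.Agent.S2085.result]
  constructor
  · intro h q hq
    have hann : Module.annihilator R M ≤ q := by
      rw [← Submodule.annihilator_top]; exact IsAssociatedPrime.annihilator_le hq
    haveI : q.IsPrime := hq.isPrime
    obtain ⟨p₀, hp₀, hle⟩ := Ideal.exists_minimalPrimes_le hann
    have hp₀' : p₀ ∈ associatedPrimes R M :=
      Module.associatedPrimes.minimalPrimes_annihilator_subset_associatedPrimes R M hp₀
    rw [← h p₀ hp₀' q hq hle]
    exact hp₀
  · intro h p hp q hq hpq
    have hqmin := h q hq
    have hann : Module.annihilator R M ≤ p := by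
      rw [← Submodule.annihilator_top]; exact IsAssociatedPrime.annihilator_le hp
    exact le_antisymm hpq (hqmin.2 ⟨hp.isPrime, hann⟩ hpq)

theorem depth_congr_prime {A : Type u} [CommRing A] (M : Type u) [AddCommGroup M] [Module A M]
    (q p : Ideal A) [hq : q.IsPrime] [hp : p.IsPrime] (h : q = p) :
    depth (Localization.AtPrime q) (LocalizedModule q.primeCompl M) =
      depth (Localization.AtPrime p) (LocalizedModule p.primeCompl M) := by
  subst h
  rfl

theorem supportDim_congr_prime {A : Type u} [CommRing A] (M : Type u) [AddCommGroup M] [Module A M]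
    (q p : Ideal A) [hq : q.IsPrime] [hp : p.IsPrime] (h : q = p) :
    supportDim (Localization.AtPrime q) (LocalizedModule q.primeCompl M) =
      supportDim (Localization.AtPrime p) (LocalizedModule p.primeCompl M) := by
  subst h
  rfl

/-- `(S_k)` passes to a principal localization. -/
theorem hasSk_away (k : ℕ) (A : Type u) [CommRing A]
    (M : Type u) [AddCommGroup M] [Module A M] (h : LocCoh.HasSk k A M) (g : A) :
    LocCoh.HasSk k (Localization.Away g) (LocalizedModule (Submonoid.powers g) M) := by
  intro Q hQ
  rw [depth_double (Submonoid.powers g) (Localization.Away g)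
      (LocalizedModule.mkLinearMap (Submonoid.powers g) M) Q,
    supportDim_double (Submonoid.powers g) (Localization.Away g)
      (LocalizedModule.mkLinearMap (Submonoid.powers g) M) Q]
  exact h _

theorem arith2 (k r : ℕ) (d : ℕ∞) (s : WithBot ℕ∞) (hd : d + (r : ℕ∞) = r)
    (h1 : min ((1 : ℕ) : WithBot ℕ∞) s ≤ ((d : ℕ∞) : WithBot ℕ∞))
    (hcon : ((((r : ℕ∞)) : ℕ∞) : WithBot ℕ∞) < min (k : WithBot ℕ∞) (s + (r : WithBot ℕ∞))) :
    False := by
  have hd0 : d = 0 := by
    induction d using ENat.recTopCoe with
    | top => simp at hd
    | coe d =>
      have : d + r = r := by exact_mod_cast hd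
      have : d = 0 := by omega
      simp [this]
  subst hd0
  have hs : s ≤ 0 := by
    rcases min_le_iff.mp h1 with h | h
    · exfalso
      have : ((1 : ℕ) : WithBot ℕ∞) = ((1 : ℕ∞) : WithBot ℕ∞) := rfl
      rw [this, WithBot.coe_le_coe] at h
      simp at h
    · simpa using h
  have h2 := lt_of_lt_of_le hcon (min_le_right _ _)
  have h3 : s + (r : WithBot ℕ∞) ≤ 0 + (r : WithBot ℕ∞) := add_le_add_left hs _
  rw [zero_add] at h3
  have h4 : ((r : ℕ∞) : WithBot ℕ∞) = (r : WithBot ℕ∞) := rfl
  rw [h4] at h2
  exact absurd (lt_of_lt_of_le h2 h3) (lt_irrefl _)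

/-- Let A be a Noetherian ring, M a finite A-module (a coherent sheaf on X = Spec A) and k ≥ 1. Then M
has property (S_k) — depth M_p ≥ min(k, dim M_p) at every prime p — if and only if, for every basic
open set D(g) of X, every integer r < k and every M_g-regular sequence f_1, …, f_r in A_g, the
module M_g/(f_1, …, f_r)M_g has no embedded associated primes, i.e. no associated prime of it
strictly contains another one. (The published statement quantifies over all open subsets of a
locally Noetherian scheme; both sides being local, over an affine scheme the basic open sets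
suffice.) -/
theorem result (k : ℕ) (hk : 1 ≤ k) (A : Type u) [CommRing A] [IsNoetherianRing A]
    (M : Type u) [AddCommGroup M] [Module A M] [Module.Finite A M] :
    LocCoh.HasSk k A M ↔
      ∀ (g : A) (rs : List (Localization.Away g)), rs.length < k →
        RingTheory.Sequence.IsWeaklyRegular (LocalizedModule (Submonoid.powers g) M) rs →
        ∀ p ∈ associatedPrimes (Localization.Away g)
            (LocalizedModule (Submonoid.powers g) M ⧸
              (Ideal.ofList rs • (⊤ : Submodule (Localization.Away g) (LocalizedModule (Submonoid.powers g) M)))),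
          ∀ q ∈ associatedPrimes (Localization.Away g)
            (LocalizedModule (Submonoid.powers g) M ⧸
              (Ideal.ofList rs • (⊤ : Submodule (Localization.Away g) (LocalizedModule (Submonoid.powers g) M)))),
            p ≤ q → p = q := by
  constructor
  · intro hSk g rs hlen hreg P hP Q hQ hPQ
    have h1 := hasSk_away k A M hSk g
    have h2 := Groth.Agent.S2668.result k (Localization.Away g)
      (LocalizedModule (Submonoid.powers g) M) h1 rs hreg hlen.le
    have h3 : LocCoh.HasSk 1 (Localization.Away g)
        (LocalizedModule (Submonoid.powers g) M ⧸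
          (Ideal.ofList rs • (⊤ : Submodule (Localization.Away g)
            (LocalizedModule (Submonoid.powers g) M)))) := by
      intro Q' hQ'
      refine le_trans (min_le_min_right _ ?_) (h2 Q')
      have : 1 ≤ k - rs.length := by omega
      exact_mod_cast this
    exact (noEmbedded_iff_hasSk_one.mpr h3) P hP Q hQ hPQ
  · intro hP p hp
    by_contra hcon
    rw [not_le] at hcon
    -- `M_p` is nontrivial
    have hnt : Nontrivial (LocalizedModule p.primeCompl M) := by
      by_contra hnt
      rw [not_nontrivial_iff_subsingleton] at hnt
      rw [depth_eq_top_of_subsingleton] at hcon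
      exact absurd hcon (not_lt.mpr le_top)
    -- the depth is finite
    have hfin : depth (Localization.AtPrime p) (LocalizedModule p.primeCompl M) ≠ ⊤ := by
      intro htop
      rw [htop] at hcon
      exact absurd hcon (not_lt.mpr le_top)
    obtain ⟨r, hr⟩ := ENat.ne_top_iff_exists.mp hfin
    rw [← hr] at hcon
    have hrk : r < k := by
      have h1 := lt_of_lt_of_le hcon (min_le_left _ _)
      have h2 : ((r : ℕ∞) : WithBot ℕ∞) = ((r : ℕ) : WithBot ℕ∞) := rfl
      rw [h2] at h1
      exact_mod_cast h1
    obtain ⟨rs, hlen, hmem, hreg⟩ := exists_list_of_le_depth p r (le_of_eq hr)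
    obtain ⟨g, hg, hregg⟩ := exists_isWeaklyRegular_away p rs hreg
    have hne := hP g (rs.map (algebraMap A (Localization.Away g)))
      (by rw [List.length_map, hlen]; exact hrk) hregg
    have hS1 := noEmbedded_iff_hasSk_one.mp hne
    -- the prime `p' = p A_g`
    have hdisj : Disjoint (Submonoid.powers g : Set A) (p : Set A) := by
      rw [Set.disjoint_left]
      rintro x ⟨n, rfl⟩ hx
      exact hg (hp.mem_of_pow_mem n hx)
    have hp' : (Ideal.map (algebraMap A (Localization.Away g)) p).IsPrime :=
      IsLocalization.isPrime_of_isPrime_disjoint (Submonoid.powers g) _ p hp hdisj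
    have hcomap : (Ideal.map (algebraMap A (Localization.Away g)) p).comap
        (algebraMap A (Localization.Away g)) = p :=
      IsLocalization.comap_map_of_isPrime_disjoint (Submonoid.powers g) _ hp hdisj
    have e1 := (depth_double (Submonoid.powers g) (Localization.Away g)
      (LocalizedModule.mkLinearMap (Submonoid.powers g) M)
      (Ideal.map (algebraMap A (Localization.Away g)) p)).trans
      (depth_congr_prime M _ p hcomap)
    have e2 := (supportDim_double (Submonoid.powers g) (Localization.Away g)
      (LocalizedModule.mkLinearMap (Submonoid.powers g) M)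
      (Ideal.map (algebraMap A (Localization.Away g)) p)).trans
      (supportDim_congr_prime M _ p hcomap)
    haveI hnt' : Nontrivial (LocalizedModule
        (Ideal.map (algebraMap A (Localization.Away g)) p).primeCompl
        (LocalizedModule (Submonoid.powers g) M)) := by
      by_contra hcon'
      rw [not_nontrivial_iff_subsingleton] at hcon'
      have h1 := Module.supportDim_eq_bot_of_subsingleton
        (Localization.AtPrime (Ideal.map (algebraMap A (Localization.Away g)) p))
        (LocalizedModule (Ideal.map (algebraMap A (Localization.Away g)) p).primeCompl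
          (LocalizedModule (Submonoid.powers g) M))
      rw [e2] at h1
      exact Module.supportDim_ne_bot_of_nontrivial _ _ h1
    have hmem' : ∀ x ∈ rs.map (algebraMap A (Localization.Away g)),
        x ∈ Ideal.map (algebraMap A (Localization.Away g)) p := by
      intro x hx
      obtain ⟨x0, hx0, rfl⟩ := List.mem_map.mp hx
      exact Ideal.mem_map_of_mem _ (hmem x0 hx0)
    have hd := depth_localizedModule_quotient_add_length
      (Ideal.map (algebraMap A (Localization.Away g)) p)
      (rs.map (algebraMap A (Localization.Away g))) hregg hmem'
    have hs := supportDim_localizedModule_quotient_add_length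
      (Ideal.map (algebraMap A (Localization.Away g)) p)
      (rs.map (algebraMap A (Localization.Away g))) hregg hmem'
    rw [e1, List.length_map, hlen, ← hr] at hd
    rw [e2, List.length_map, hlen] at hs
    rw [← hs] at hcon
    exact arith2 k r _ _ hd (hS1 (Ideal.map (algebraMap A (Localization.Away g)) p)) hcon

end Groth.Agent.S12121
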