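import Groth.Statements.S12122
import Mathlib.AlgebraicGeometry.Properties

set_option autoImplicit false
universe u
open EGA41

namespace Groth.Agent.S12122

section helpers

open Topology TopologicalSpace

variable {X : Type*} [TopologicalSpace X]

local notation "cons" => constructibleTopology X

/-- Open sets of a prespectral space are open for the constructible topology. -/
lemma isOpen_cons_of_isOpen [PrespectralSpace X] {U : Set X} (hU : IsOpen U) :
    IsOpen[cons] U := by
  rw [@isOpen_iff_forall_mem_open _ (constructibleTopology X) _]
  intro x hx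
  obtain ⟨V, ⟨hVo, hVc⟩, hxV, hVU⟩ :=
    PrespectralSpace.isTopologicalBasis.exists_subset_of_mem_open hx hU
  exact ⟨V, hVU, hVc.isOpen_constructibleTopology_of_isOpen hVo, hxV⟩

/-- The complement of a retrocompact open is open for the constructible topology. -/
lemma isOpen_cons_compl_of_isRetrocompact [PrespectralSpace X] {U : Set X} (hU : IsOpen U)
    (hUr : IsRetrocompact U) : IsOpen[cons] Uᶜ := by
  rw [@isOpen_iff_forall_mem_open _ (constructibleTopology X) _]
  intro x hx
  obtain ⟨V, ⟨hVo, hVc⟩, hxV, -⟩ :=
    PrespectralSpace.isTopologicalBasis.exists_subset_of_mem_open (Set.mem_univ x) isOpen_univ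
  refine ⟨V ∩ (U ∩ V)ᶜ, ?_, ?_, hxV, fun h => hx h.1⟩
  · rintro y ⟨hyV, hyUV⟩ hyU
    exact hyUV ⟨hyU, hyV⟩
  · exact @IsOpen.inter _ (constructibleTopology X) _ _
      (hVc.isOpen_constructibleTopology_of_isOpen hVo)
      (IsCompact.isOpen_constructibleTopology_of_isClosed (by rw [compl_compl]; exact hUr hVc hVo)
        (hU.inter hVo).isClosed_compl)

/-- Constructible sets are clopen for the constructible topology. -/
lemma isOpen_cons_and_compl_of_isConstructible [PrespectralSpace X] {s : Set X}
    (hs : IsConstructible s) : IsOpen[cons] s ∧ IsOpen[cons] sᶜ := by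
  induction hs using IsConstructible.empty_union_induction with
  | open_retrocompact U hUo hUr =>
    exact ⟨isOpen_cons_of_isOpen hUo, isOpen_cons_compl_of_isRetrocompact hUo hUr⟩
  | union s _ t _ hs' ht' =>
    refine ⟨@IsOpen.union _ _ _ (constructibleTopology X) hs'.1 ht'.1, ?_⟩
    rw [Set.compl_union]
    exact @IsOpen.inter _ (constructibleTopology X) _ _ hs'.2 ht'.2
  | compl s _ hs' =>
    refine ⟨hs'.2, ?_⟩
    rw [compl_compl]
    exact hs'.1

lemma isOpen_cons_of_isLocallyConstructible [PrespectralSpace X] [QuasiSeparatedSpace X]
    {E : Set X} (hE : IsLocallyConstructible E) : IsOpen[cons] E ∧ IsOpen[cons] Eᶜ := by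
  constructor
  · rw [@isOpen_iff_forall_mem_open _ (constructibleTopology X) _]
    intro x hx
    obtain ⟨V, ⟨hVo, hVc⟩, hxV, -⟩ :=
      PrespectralSpace.isTopologicalBasis.exists_subset_of_mem_open (Set.mem_univ x) isOpen_univ
    exact ⟨E ∩ V, Set.inter_subset_left,
      (isOpen_cons_and_compl_of_isConstructible (hE.inter_of_isOpen_isCompact hVo hVc)).1,
      hx, hxV⟩
  · rw [@isOpen_iff_forall_mem_open _ (constructibleTopology X) _]
    intro x hx
    obtain ⟨V, ⟨hVo, hVc⟩, hxV, -⟩ :=
      PrespectralSpace.isTopologicalBasis.exists_subset_of_mem_open (Set.mem_univ x) isOpen_univ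
    refine ⟨V ∩ (E ∩ V)ᶜ, ?_, ?_, hxV, fun h => hx h.1⟩
    · rintro y ⟨hyV, hyEV⟩ hyE
      exact hyEV ⟨hyE, hyV⟩
    · exact @IsOpen.inter _ (constructibleTopology X) _ _
        (hVc.isOpen_constructibleTopology_of_isOpen hVo)
        (isOpen_cons_and_compl_of_isConstructible (hE.inter_of_isOpen_isCompact hVo hVc)).2

/-- The inclusion of a compact open is continuous for the constructible topologies. -/
lemma continuous_cons_subtype_val [QuasiSeparatedSpace X] {V : Set X} (hVo : IsOpen V)
    (hVc : IsCompact V) :
    Continuous[constructibleTopology V, constructibleTopology X] (Subtype.val : V → X) := by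
  refine (continuous_generateFrom_iff (t := constructibleTopology V)).mpr ?_
  rintro s (⟨hso, hsc⟩ | ⟨hscl, hsc⟩)
  · apply IsCompact.isOpen_constructibleTopology_of_isOpen
    · rw [Subtype.isCompact_iff, Subtype.image_preimage_coe]
      exact hVc.inter_of_isOpen hsc hVo hso
    · exact hso.preimage continuous_subtype_val
  · apply IsCompact.isOpen_constructibleTopology_of_isClosed
    · rw [← Set.preimage_compl, Subtype.isCompact_iff, Subtype.image_preimage_coe]
      exact hVc.inter_of_isOpen hsc hVo hscl.isOpen_compl
    · exact hscl.preimage continuous_subtype_val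

/-- Elements of the subbasis of the constructible topology of a compact space are constructible. -/
lemma isConstructible_of_mem_subbasis [QuasiSeparatedSpace X] {s : Set X} (hs : s ∈ constructibleTopologySubbasis X) :
    IsConstructible s := by
  rcases hs with ⟨hso, hsc⟩ | ⟨hscl, hsc⟩
  · exact hsc.isConstructible hso
  · have := (hsc.isConstructible hscl.isOpen_compl).compl
    rwa [compl_compl] at this

/-- In a spectral-like compact space, a clopen subset for the constructible topology is
constructible. -/
lemma isConstructible_of_isClopen_cons [CompactSpace X] [QuasiSober X] [PrespectralSpace X]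
    [QuasiSeparatedSpace X] {O : Set X} (hO : IsOpen[cons] O) (hO' : IsOpen[cons] Oᶜ) :
    IsConstructible O := by
  have hcomp : @CompactSpace X (constructibleTopology X) :=
    @Function.Surjective.compactSpace _ _ _ (constructibleTopology X)
      (WithTopology.ofTopology (t := constructibleTopology X))
      (WithTopology.continuous_ofTopology _) _ (WithTopology.ofTopology_surjective _)
  have hOc : @IsCompact X (constructibleTopology X) O :=
    @IsClosed.isCompact X (constructibleTopology X) _ hcomp
      (@IsClosed.mk _ (constructibleTopology X) _ hO')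
  have hbasis := @isTopologicalBasis_of_subbasis X (constructibleTopology X)
    (constructibleTopologySubbasis X) rfl
  -- cover `O` by basic opens
  have hcover : ∀ x : O, ∃ f : Set (Set X), (f.Finite ∧ f ⊆ constructibleTopologySubbasis X) ∧
      (x : X) ∈ ⋂₀ f ∧ ⋂₀ f ⊆ O := by
    intro x
    obtain ⟨B, ⟨f, hf, rfl⟩, hxB, hBO⟩ :=
      @IsTopologicalBasis.exists_subset_of_mem_open X (constructibleTopology X) _ hbasis _ _
        x.2 hO
    exact ⟨f, hf, hxB, hBO⟩
  choose f hf hxf hfO using hcover
  obtain ⟨t, ht⟩ := @IsCompact.elim_finite_subcover X (constructibleTopology X) O O hOc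
    (fun x => ⋂₀ f x)
    (fun x => @IsTopologicalBasis.isOpen X (constructibleTopology X) _ _ hbasis
      ⟨f x, hf x, rfl⟩)
    (fun x hx => Set.mem_iUnion.mpr ⟨⟨x, hx⟩, hxf ⟨x, hx⟩⟩)
  have hOeq : O = ⋃ x ∈ (t : Set O), ⋂₀ f x := by
    apply subset_antisymm
    · exact ht
    · exact Set.iUnion₂_subset fun x _ => hfO x
  rw [hOeq]
  refine IsConstructible.biUnion t.finite_toSet fun x _ => ?_
  exact IsConstructible.sInter (hf x).1 fun s hs => isConstructible_of_mem_subbasis ((hf x).2 hs)

lemma isLocallyConstructible_of_isClopen_cons [QuasiSober X] [PrespectralSpace X]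
    [QuasiSeparatedSpace X] {E : Set X} (hE : IsOpen[cons] E) (hE' : IsOpen[cons] Eᶜ) :
    IsLocallyConstructible E := by
  intro x
  obtain ⟨V, ⟨hVo, hVc⟩, hxV, -⟩ :=
    PrespectralSpace.isTopologicalBasis.exists_subset_of_mem_open (Set.mem_univ x) isOpen_univ
  refine ⟨V, hVo.mem_nhds hxV, hVo, ?_⟩
  have hemb : IsOpenEmbedding (Subtype.val : V → X) := hVo.isOpenEmbedding_subtypeVal
  have : CompactSpace V := isCompact_iff_compactSpace.mp hVc
  have : QuasiSober V := hemb.quasiSober
  have : PrespectralSpace V := hemb.prespectralSpace
  have : QuasiSeparatedSpace V := QuasiSeparatedSpace.of_isOpenEmbedding hemb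
  have hcont := continuous_cons_subtype_val hVo hVc
  apply isConstructible_of_isClopen_cons
  · exact @Continuous.isOpen_preimage _ _ (constructibleTopology V) (constructibleTopology X) _
      hcont _ hE
  · rw [← Set.preimage_compl]
    exact @Continuous.isOpen_preimage _ _ (constructibleTopology V) (constructibleTopology X) _
      hcont _ hE'

end helpers

open AlgebraicGeometry Topology in
/-- Let X be a quasi-separated scheme. A subset E of X is locally constructible if and only if it is
both open and closed for the constructible topology of X. Here the constructible topology is the one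
generated by the quasi-compact open subsets of X and their complements; when X is quasi-separated
its open sets are exactly the ind-constructible subsets, i.e. it is the constructible topology of
the source (for a scheme that is not quasi-separated the two topologies differ, and this row does
not cover that case). -/
theorem result (X : Scheme.{u}) [QuasiSeparatedSpace X] (E : Set X) :
    Topology.IsLocallyConstructible E ↔
      (IsOpen[constructibleTopology X] E ∧ IsClosed[constructibleTopology X] E) := by
  constructor
  · intro hE
    obtain ⟨h1, h2⟩ := isOpen_cons_of_isLocallyConstructible hE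
    exact ⟨h1, @IsClosed.mk _ (constructibleTopology X) _ h2⟩
  · rintro ⟨h1, h2⟩
    exact isLocallyConstructible_of_isClopen_cons h1
      (@IsClosed.isOpen_compl _ (constructibleTopology X) _ h2)

end Groth.Agent.S12122
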