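import Groth.Statements.S12123
import Mathlib.AlgebraicGeometry.Properties
import Mathlib.Topology.Connected.Separation
import Mathlib.Topology.Separation.Hausdorff

set_option autoImplicit false
universe u
open EGA41

namespace Groth.Agent.S12123

section helpers

open Topology TopologicalSpace

variable {X : Type*} [TopologicalSpace X]

/-- A compact open subset of `X` is clopen for the constructible topology. -/
lemma isClopen_preimage_of_isCompact_isOpen {V : Set X} (hVo : IsOpen V) (hVc : IsCompact V) :
    IsClopen ((WithTopology.ofTopology (t := constructibleTopology X)) ⁻¹' V) := by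
  constructor
  · rw [WithTopology.isClosed_iff]
    refine @IsClosed.mk _ (constructibleTopology X) _ ?_
    have : (WithTopology.toTopology (constructibleTopology X) ⁻¹'
        ((WithTopology.ofTopology (t := constructibleTopology X)) ⁻¹' V))ᶜ = Vᶜ := rfl
    rw [this]
    exact IsCompact.isOpen_constructibleTopology_of_isClosed (by rwa [compl_compl])
      hVo.isClosed_compl
  · rw [WithTopology.isOpen_iff]
    exact hVc.isOpen_constructibleTopology_of_isOpen hVo

/-- In a `T0` prespectral space two distinct points are separated by a compact open. -/
lemma exists_compact_open_xor [T0Space X] [PrespectralSpace X] {x y : X} (hxy : x ≠ y) :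
    ∃ V : Set X, IsOpen V ∧ IsCompact V ∧ Xor (x ∈ V) (y ∈ V) := by
  obtain ⟨U, hU, hxor⟩ := exists_isOpen_xor_mem hxy
  rcases hxor with ⟨hx, hy⟩ | ⟨hy, hx⟩
  · obtain ⟨V, ⟨hVo, hVc⟩, hxV, hVU⟩ :=
      PrespectralSpace.isTopologicalBasis.exists_subset_of_mem_open hx hU
    exact ⟨V, hVo, hVc, Or.inl ⟨hxV, fun h => hy (hVU h)⟩⟩
  · obtain ⟨V, ⟨hVo, hVc⟩, hyV, hVU⟩ :=
      PrespectralSpace.isTopologicalBasis.exists_subset_of_mem_open hy hU
    exact ⟨V, hVo, hVc, Or.inr ⟨hyV, fun h => hx (hVU h)⟩⟩

lemma totallySeparatedSpace_withConstructibleTopology [T0Space X] [PrespectralSpace X] :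
    TotallySeparatedSpace (WithConstructibleTopology X) := by
  refine ⟨fun x _ y _ hxy => ?_⟩
  have hxy' : WithTopology.ofTopology x ≠ WithTopology.ofTopology y := fun h =>
    hxy (WithTopology.ofTopology_injective _ h)
  obtain ⟨V, hVo, hVc, hxor⟩ := exists_compact_open_xor hxy'
  have hclopen := isClopen_preimage_of_isCompact_isOpen hVo hVc
  rcases hxor with ⟨hx, hy⟩ | ⟨hy, hx⟩
  · exact ⟨_, _, hclopen.isOpen, hclopen.compl.isOpen, hx, hy, by simp,
      disjoint_compl_right⟩
  · exact ⟨_, _, hclopen.compl.isOpen, hclopen.isOpen, hx, hy, by simp,
      disjoint_compl_left⟩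

/-- A compact open subset of a quasi-separated, quasi-sober, prespectral space is compact for the
constructible topology. -/
lemma isCompact_preimage_of_isCompact_isOpen [QuasiSeparatedSpace X] [QuasiSober X]
    [PrespectralSpace X] {V : Set X} (hVo : IsOpen V) (hVc : IsCompact V) :
    IsCompact ((WithTopology.ofTopology (t := constructibleTopology X)) ⁻¹' V) := by
  have hemb : IsOpenEmbedding (Subtype.val : V → X) := hVo.isOpenEmbedding_subtypeVal
  have : CompactSpace V := isCompact_iff_compactSpace.mp hVc
  have : QuasiSober V := hemb.quasiSober
  have : PrespectralSpace V := hemb.prespectralSpace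
  have : QuasiSeparatedSpace V := QuasiSeparatedSpace.of_isOpenEmbedding hemb
  -- the comparison map
  let j : WithConstructibleTopology V → WithConstructibleTopology X :=
    fun v => WithTopology.toTopology _ ((WithTopology.ofTopology v : V) : X)
  have hj : Continuous j := by
    have h1 : Continuous[constructibleTopology V, constructibleTopology X]
        (Subtype.val : V → X) := by
      refine (continuous_generateFrom_iff (t := constructibleTopology V)).mpr ?_
      rintro s (⟨hso, hsc⟩ | ⟨hscl, hsc⟩)
      · apply IsCompact.isOpen_constructibleTopology_of_isOpen
        · rw [Subtype.isCompact_iff, Subtype.image_preimage_coe]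
          exact hVc.inter_of_isOpen hsc hVo hso
        · exact hso.preimage continuous_subtype_val
      · apply IsCompact.isOpen_constructibleTopology_of_isClosed
        · rw [← Set.preimage_compl, Subtype.isCompact_iff, Subtype.image_preimage_coe]
          exact hVc.inter_of_isOpen hsc hVo hscl.isOpen_compl
        · exact hscl.preimage continuous_subtype_val
    refine ⟨fun s hs => ?_⟩
    rw [WithTopology.isOpen_iff] at hs ⊢
    exact @Continuous.isOpen_preimage _ _ (constructibleTopology V) (constructibleTopology X) _
      h1 _ hs
  have hrange : Set.range j = (WithTopology.ofTopology (t := constructibleTopology X)) ⁻¹' V := by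
    ext w
    constructor
    · rintro ⟨v, rfl⟩
      exact (WithTopology.ofTopology v : V).2
    · intro hw
      exact ⟨WithTopology.toTopology _ ⟨WithTopology.ofTopology w, hw⟩, rfl⟩
  rw [← hrange]
  exact isCompact_range hj

lemma weaklyLocallyCompactSpace_withConstructibleTopology [QuasiSeparatedSpace X] [QuasiSober X]
    [PrespectralSpace X] : WeaklyLocallyCompactSpace (WithConstructibleTopology X) := by
  refine ⟨fun x => ?_⟩
  obtain ⟨V, ⟨hVo, hVc⟩, hxV, -⟩ :=
    PrespectralSpace.isTopologicalBasis.exists_subset_of_mem_open
      (Set.mem_univ (WithTopology.ofTopology x)) isOpen_univ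
  exact ⟨_, isCompact_preimage_of_isCompact_isOpen hVo hVc,
    (isClopen_preimage_of_isCompact_isOpen hVo hVc).isOpen.mem_nhds hxV⟩

end helpers

open AlgebraicGeometry Topology in
/-- Let X be a quasi-separated scheme and X^cons its underlying set with the constructible topology,
generated by the quasi-compact open subsets and their complements (for X quasi-separated this is the
topology whose open sets are the ind-constructible subsets). Then X^cons is a Hausdorff, locally
compact, totally disconnected space. (The published statement also asserts that X^cons is Hausdorff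
only if X is quasi-separated; for the topology used here that converse fails when X is not
quasi-separated, where the two constructible topologies differ, so it is not part of this row.) -/
theorem result (X : Scheme.{u}) [QuasiSeparatedSpace X] :
    T2Space (WithConstructibleTopology X) ∧ LocallyCompactSpace (WithConstructibleTopology X) ∧
      TotallyDisconnectedSpace (WithConstructibleTopology X) := by
  have : TotallySeparatedSpace (WithConstructibleTopology X) :=
    totallySeparatedSpace_withConstructibleTopology
  have : WeaklyLocallyCompactSpace (WithConstructibleTopology X) :=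
    weaklyLocallyCompactSpace_withConstructibleTopology
  exact ⟨inferInstance, inferInstance, inferInstance⟩

end Groth.Agent.S12123
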