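import Groth.Statements.S12124
import Groth.Agent.S4615
import Groth.Agent.Lib.Krull96E
import Groth.Agent.Lib.Krull96F

set_option autoImplicit false
universe u
open CAlg

namespace Groth.Agent.S12124

open Groth.Agent.Lib.Krull96 AlgebraicGeometry in
/-- Core of the proof, with the data of S4615 as hypotheses. -/
theorem core {A : Type u} [CommRing A] [IsDomain A] [IsNoetherianRing A] [IsLocalRing A]
    (C : Subalgebra A (FractionRing A)) (hfin : Module.Finite A C)
    (hrad : ∀ hint : C ≤ integralClosure A (FractionRing A),
        UniversallyInjective (Spec.map (CommRingCat.ofHom (Subalgebra.inclusion hint).toRingHom))) :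
      (∀ (p : Ideal C) [p.IsPrime], p.height = 1 →
        ∃ V : ValuationSubring (FractionRing A), IsDiscreteValuationRing V ∧
          ∀ x : FractionRing A, x ∈ V ↔ ∃ s : C, s ∉ p ∧ IsIntegral C ((s : FractionRing A) * x)) ∧
      (∀ x : FractionRing A, x ∈ integralClosure A (FractionRing A) ↔
        ∀ (p : Ideal C) [p.IsPrime], p.height = 1 → ∃ s : C, s ∉ p ∧ IsIntegral C ((s : FractionRing A) * x)) ∧
      (∀ x : FractionRing A, {p : Ideal C | p.IsPrime ∧ p.height = 1 ∧
        ¬ ∃ s : C, s ∉ p ∧ IsIntegral C ((s : FractionRing A) * x)}.Finite) := by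
  classical
  haveI := hfin
  haveI : IsNoetherianRing C := IsNoetherianRing.of_finite A C
  haveI : Algebra.IsIntegral A C := Algebra.IsIntegral.of_finite A C
  -- integrality over `C` versus over `A`
  have hCA : ∀ z : FractionRing A, IsIntegral C z ↔ IsIntegral A z :=
    fun z => ⟨fun h => isIntegral_trans (A := C) z h, fun h => h.tower_top⟩
  have hint : C ≤ integralClosure A (FractionRing A) := by
    intro x hx
    have : IsIntegral A (⟨x, hx⟩ : C) := Algebra.IsIntegral.isIntegral _
    exact this.map C.val
  obtain ⟨D⟩ := nonempty_kdata_integralClosure A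
  set B : Subring (FractionRing A) := (integralClosure A (FractionRing A)).toSubring with hB
  have hBmem : ∀ z : FractionRing A, z ∈ B ↔ IsIntegral A z := fun z => Iff.rfl
  have hfrac : ∀ y : FractionRing A, ∃ b : B, b ≠ 0 ∧ (b : FractionRing A) * y ∈ B := by
    intro y
    obtain ⟨a, b, rfl⟩ := IsLocalization.exists_mk'_eq (nonZeroDivisors A) y
    refine ⟨⟨algebraMap A (FractionRing A) b.1, isIntegral_algebraMap⟩, ?_, ?_⟩
    · intro h
      have h' : algebraMap A (FractionRing A) b.1 = 0 := congrArg (fun t : B => (t : FractionRing A)) h
      exact (IsFractionRing.to_map_ne_zero_of_mem_nonZeroDivisors b.2) h'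
    · show algebraMap A (FractionRing A) b.1 * IsLocalization.mk' (FractionRing A) a b ∈ B
      rw [mul_comm, IsLocalization.mk'_spec]
      exact isIntegral_algebraMap
  -- the ring map `C → B`
  let g : C →+* B := RingHom.codRestrict C.val.toRingHom B (fun c => hint c.2)
  letI : Algebra C B := g.toAlgebra
  have halg : ∀ c : C, ((algebraMap C B c : B) : FractionRing A) = c := fun c => rfl
  have hginj : Function.Injective (algebraMap C B) := by
    intro c c' h
    exact Subtype.ext (congrArg (fun t : B => (t : FractionRing A)) h)
  haveI : Algebra.IsIntegral C B := by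
    refine ⟨fun y => ?_⟩
    have hy : IsIntegral C (y : FractionRing A) := (hCA _).mpr y.2
    let f : B →ₐ[C] FractionRing A := { B.subtype with commutes' := fun c => rfl }
    exact (isIntegral_algHom_iff f Subtype.val_injective).mp hy
  have hspec : ∀ P Q : Ideal B, P.IsPrime → Q.IsPrime →
      P.comap (algebraMap C B) = Q.comap (algebraMap C B) → P = Q := by
    intro P Q hP hQ hPQ
    haveI := hrad hint
    have hinj := (Spec.map (CommRingCat.ofHom (Subalgebra.inclusion hint).toRingHom)).injective
    let e : integralClosure A (FractionRing A) →+* B :=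
      RingHom.codRestrict (integralClosure A (FractionRing A)).val.toRingHom B (fun x => x.2)
    have he : Function.Surjective e := fun y => ⟨⟨y.1, y.2⟩, rfl⟩
    have hcomp : (algebraMap C B) = e.comp (Subalgebra.inclusion hint).toRingHom := rfl
    let P' : PrimeSpectrum (integralClosure A (FractionRing A)) := ⟨P.comap e, inferInstance⟩
    let Q' : PrimeSpectrum (integralClosure A (FractionRing A)) := ⟨Q.comap e, inferInstance⟩
    have hPQ' : P' = Q' := by
      apply hinj
      show PrimeSpectrum.comap _ P' = PrimeSpectrum.comap _ Q'
      apply PrimeSpectrum.ext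
      show (P.comap e).comap _ = (Q.comap e).comap _
      rw [Ideal.comap_comap, Ideal.comap_comap]
      exact hPQ
    have h2 : P.comap e = Q.comap e := congrArg PrimeSpectrum.asIdeal hPQ'
    exact Ideal.comap_injective_of_surjective e he h2
  refine ⟨?_, ?_, ?_⟩
  · intro p hp hp1
    obtain ⟨P, hP, hPp, hP1⟩ := exists_over_height_one hginj hspec p hp1
    haveI := hP
    obtain ⟨hP0, hP1'⟩ := (height_eq_one_iff P).mp hP1
    obtain ⟨V, hV, hVmem⟩ := D.exists_dvr hfrac P hP0 hP1'
    refine ⟨V, hV, fun x => ?_⟩
    rw [hVmem]
    constructor
    · rintro ⟨s', hs', hs'x⟩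
      obtain ⟨c, hc, t, hct⟩ := exists_mul_eq_algebraMap hspec p hp1 P hPp s' hs'
      refine ⟨c, hc, (hCA _).mpr ?_⟩
      have hck : (c : FractionRing A) = (s' : FractionRing A) * (t : FractionRing A) :=
        congrArg (fun u : B => (u : FractionRing A)) hct
      have : (c : FractionRing A) * x = (t : FractionRing A) * ((s' : FractionRing A) * x) := by
        rw [hck]; ring
      rw [this]
      exact B.mul_mem t.2 hs'x
    · rintro ⟨s, hs, hsx⟩
      refine ⟨algebraMap C B s, ?_, (hCA _).mp hsx⟩
      intro h
      apply hs
      rw [← hPp]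
      exact h
  · intro x
    constructor
    · intro hx p hp hp1
      refine ⟨1, fun h => hp.ne_top ((Ideal.eq_top_iff_one _).mpr h), ?_⟩
      rw [hCA]
      have hx' : _root_.IsIntegral A x := hx
      simpa using hx'
    · intro h
      by_contra hx
      obtain ⟨P, y, π, hP, -, hxP, -, -, -, hP1'⟩ := D.exists_prime hfrac (x := x) hx
      haveI := hP
      have hP0 : P ≠ ⊥ := by
        obtain ⟨b, hb0, hbx⟩ := hfrac x
        intro hbot
        have : b ∈ P := hxP hbx
        rw [hbot, Ideal.mem_bot] at this
        exact hb0 this
      have hP1 : P.height = 1 := (height_eq_one_iff P).mpr ⟨hP0, hP1'⟩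
      have hp1 := height_comap_eq_one hginj hspec P hP1
      obtain ⟨s, hs, hsx⟩ := h (P.comap (algebraMap C B)) hp1
      apply hs
      rw [Ideal.mem_comap]
      apply hxP
      rw [mem_cond]
      exact (hCA _).mp hsx
  · intro x
    obtain ⟨a, b, rfl⟩ := IsLocalization.exists_mk'_eq (nonZeroDivisors A) x
    have hbC0 : (algebraMap A C b.1) ≠ 0 := by
      intro h
      have h' : algebraMap A (FractionRing A) b.1 = 0 := by
        rw [IsScalarTower.algebraMap_apply A C (FractionRing A), h, map_zero]
      exact (IsFractionRing.to_map_ne_zero_of_mem_nonZeroDivisors b.2) h'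
    apply Set.Finite.subset
      (Ideal.finite_minimalPrimes_of_isNoetherianRing C (Ideal.span {algebraMap A C b.1}))
    rintro p ⟨hp, hp1, hno⟩
    haveI := hp
    have hbp : algebraMap A C b.1 ∈ p := by
      by_contra hbp
      apply hno
      refine ⟨algebraMap A C b.1, hbp, (hCA _).mpr ?_⟩
      have : ((algebraMap A C b.1 : C) : FractionRing A) * IsLocalization.mk' (FractionRing A) a b =
          algebraMap A (FractionRing A) a := by
        show algebraMap A (FractionRing A) b.1 * _ = _
        rw [mul_comm, IsLocalization.mk'_spec]
      rw [this]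
      exact isIntegral_algebraMap
    have hle : Ideal.span {algebraMap A C b.1} ≤ p := (Ideal.span_singleton_le_iff_mem _).mpr hbp
    apply Ideal.mem_minimalPrimes_of_height_le hle
    rw [hp1]
    exact Ideal.one_le_height_span_singleton_of_mem_nonZeroDivisors
      (mem_nonZeroDivisors_of_ne_zero hbC0)

/-- Let A be a Noetherian local domain with fraction field K and A' its integral closure in K. Then A'
is a Krull domain whose essential valuation rings come from a finite sub-A-algebra: there is a
sub-A-algebra C of K, finite over A, such that, writing V_p for the integral closure in K of the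
local ring C_p at a height-one prime p of C (the elements x of K with s x integral over C for some s
in C outside p), (a) each V_p is a discrete valuation ring with fraction field K, (b) A' is the
intersection of the V_p over all height-one primes p of C, and (c) every element of K lies in V_p
for all but finitely many p. (The published statement calls C local and also records that A' is
semi-local; this row does not assert that C is local, and the semi-locality of A' is a separate
result.) -/
theorem result {A : Type u} [CommRing A] [IsDomain A] [IsNoetherianRing A] [IsLocalRing A] :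
    ∃ C : Subalgebra A (FractionRing A), Module.Finite A C ∧
      (∀ (p : Ideal C) [p.IsPrime], p.height = 1 →
        ∃ V : ValuationSubring (FractionRing A), IsDiscreteValuationRing V ∧
          ∀ x : FractionRing A, x ∈ V ↔ ∃ s : C, s ∉ p ∧ IsIntegral C ((s : FractionRing A) * x)) ∧
      (∀ x : FractionRing A, x ∈ integralClosure A (FractionRing A) ↔
        ∀ (p : Ideal C) [p.IsPrime], p.height = 1 → ∃ s : C, s ∉ p ∧ IsIntegral C ((s : FractionRing A) * x)) ∧
      (∀ x : FractionRing A, {p : Ideal C | p.IsPrime ∧ p.height = 1 ∧
        ¬ ∃ s : C, s ∉ p ∧ IsIntegral C ((s : FractionRing A) * x)}.Finite) := by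
  obtain ⟨Cα, ⟨hfin, -⟩, -, hrad⟩ := Groth.Agent.S4615.result (A := A) (K' := FractionRing A)
  exact ⟨Cα, hfin, core Cα hfin hrad⟩

end Groth.Agent.S12124
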