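import Groth.Statements.S12127
-- import your own Groth.Agent.* helpers here

set_option autoImplicit false
universe u
open EGA43

namespace Groth.Agent.S12127

section helpers

open Set

variable {X Y : Type u} [TopologicalSpace X] [TopologicalSpace Y]

/-- quasi-constructible: a finite union of locally closed subsets -/
def QC (Z : Set X) : Prop :=
  ∃ T : Set (Set X), T.Finite ∧ (∀ t ∈ T, IsLocallyClosed t) ∧ Z = ⋃₀ T

lemma QC.of_isLocallyClosed {t : Set X} (ht : IsLocallyClosed t) : QC t :=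
  ⟨{t}, finite_singleton t, by simpa using ht, by simp⟩

lemma QC.empty : QC (∅ : Set X) := ⟨∅, finite_empty, by simp, by simp⟩

lemma QC.union {Z Z' : Set X} (h : QC Z) (h' : QC Z') : QC (Z ∪ Z') := by
  obtain ⟨T, hT, hTl, rfl⟩ := h
  obtain ⟨T', hT', hTl', rfl⟩ := h'
  refine ⟨T ∪ T', hT.union hT', ?_, (sUnion_union T T').symm⟩
  rintro t (ht | ht)
  · exact hTl t ht
  · exact hTl' t ht

lemma QC.inter_isLocallyClosed {Z t : Set X} (h : QC Z) (ht : IsLocallyClosed t) :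
    QC (Z ∩ t) := by
  obtain ⟨T, hT, hTl, rfl⟩ := h
  refine ⟨(fun s => s ∩ t) '' T, hT.image _, ?_, ?_⟩
  · rintro _ ⟨s, hs, rfl⟩
    exact (hTl s hs).inter ht
  · ext x
    simp only [mem_inter_iff, mem_sUnion, mem_image, exists_exists_and_eq_and]
    constructor
    · rintro ⟨⟨s, hs, hxs⟩, hxt⟩
      exact ⟨s, hs, hxs, hxt⟩
    · rintro ⟨s, hs, hxs, hxt⟩
      exact ⟨⟨s, hs, hxs⟩, hxt⟩

lemma QC.inter {Z Z' : Set X} (h : QC Z) (h' : QC Z') : QC (Z ∩ Z') := by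
  obtain ⟨T', hT', hTl', rfl⟩ := h'
  induction T', hT' using Set.Finite.induction_on with
  | empty => simpa using QC.empty
  | @insert a T₀ _ _ ih =>
    rw [sUnion_insert, inter_union_distrib_left]
    exact (h.inter_isLocallyClosed (hTl' a (mem_insert a T₀))).union
      (ih fun t ht => hTl' t (mem_insert_of_mem a ht))

lemma QC.compl_of_isLocallyClosed {t : Set X} (ht : IsLocallyClosed t) : QC tᶜ := by
  obtain ⟨U, F, hU, hF, rfl⟩ := ht
  rw [compl_inter]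
  exact (QC.of_isLocallyClosed hU.isClosed_compl.isLocallyClosed).union
    (QC.of_isLocallyClosed hF.isOpen_compl.isLocallyClosed)

lemma QC.sdiff {Z Z' : Set X} (h : QC Z) (h' : QC Z') : QC (Z \ Z') := by
  obtain ⟨T', hT', hTl', rfl⟩ := h'
  induction T', hT' using Set.Finite.induction_on with
  | empty => simpa using h
  | @insert a T₀ _ _ ih =>
    rw [sUnion_insert, ← sdiff_sdiff, sdiff_eq, sdiff_eq, inter_right_comm, ← sdiff_eq]
    exact (ih fun t ht => hTl' t (mem_insert_of_mem a ht)).inter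
      (QC.compl_of_isLocallyClosed (hTl' a (mem_insert a T₀)))

lemma QC.preimage {f : X → Y} (hf : Continuous f) {Z : Set Y} (h : QC Z) : QC (f ⁻¹' Z) := by
  obtain ⟨T, hT, hTl, rfl⟩ := h
  refine ⟨(fun s => f ⁻¹' s) '' T, hT.image _, ?_, ?_⟩
  · rintro _ ⟨s, hs, rfl⟩
    exact (hTl s hs).preimage hf
  · rw [preimage_sUnion, sUnion_image]

/-- the data of a quasi-homeomorphism -/
structure QH (f : X → Y) : Prop where
  cont : Continuous f
  surj : ∀ U' : Set X, IsOpen U' → ∃ U : Set Y, IsOpen U ∧ f ⁻¹' U = U'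
  inj : ∀ U V : Set Y, IsOpen U → IsOpen V → f ⁻¹' U = f ⁻¹' V → U = V

variable {f : X → Y}

lemma QH.subset (hf : QH f) {U V : Set Y} (hU : IsOpen U) (hV : IsOpen V)
    (h : f ⁻¹' U ⊆ f ⁻¹' V) : U ⊆ V := by
  have : U ∩ V = U := hf.inj _ _ (hU.inter hV) hU (by
    rw [preimage_inter]; exact inter_eq_left.mpr h)
  exact inter_eq_left.mp this

lemma QH.surj_closed (hf : QH f) (F' : Set X) (hF' : IsClosed F') :
    ∃ F : Set Y, IsClosed F ∧ f ⁻¹' F = F' := by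
  obtain ⟨U, hU, hUF⟩ := hf.surj F'ᶜ hF'.isOpen_compl
  refine ⟨Uᶜ, hU.isClosed_compl, ?_⟩
  rw [preimage_compl, hUF, compl_compl]

lemma QH.surj_locallyClosed (hf : QH f) (t' : Set X) (ht' : IsLocallyClosed t') :
    ∃ t : Set Y, IsLocallyClosed t ∧ f ⁻¹' t = t' := by
  obtain ⟨U', F', hU', hF', rfl⟩ := ht'
  obtain ⟨U, hU, rfl⟩ := hf.surj U' hU'
  obtain ⟨F, hF, rfl⟩ := hf.surj_closed F' hF'
  exact ⟨U ∩ F, ⟨U, F, hU, hF, rfl⟩, preimage_inter⟩

lemma QH.eq_empty_of_isLocallyClosed (hf : QH f) {t : Set Y} (ht : IsLocallyClosed t)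
    (h : f ⁻¹' t = ∅) : t = ∅ := by
  obtain ⟨U, F, hU, hF, rfl⟩ := ht
  have h1 : f ⁻¹' U ⊆ f ⁻¹' Fᶜ := by
    intro x hxU hxF
    have : x ∈ f ⁻¹' (U ∩ F) := ⟨hxU, hxF⟩
    rw [h] at this
    exact this
  have h2 := hf.subset hU hF.isOpen_compl h1
  ext y
  simp only [mem_inter_iff, mem_empty_iff_false, iff_false, not_and]
  exact fun hyU hyF => h2 hyU hyF

lemma QH.eq_empty_of_QC (hf : QH f) {Z : Set Y} (hZ : QC Z) (h : f ⁻¹' Z = ∅) : Z = ∅ := by
  obtain ⟨T, -, hTl, rfl⟩ := hZ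
  rw [sUnion_eq_empty]
  intro t ht
  apply hf.eq_empty_of_isLocallyClosed (hTl t ht)
  rw [← subset_empty_iff, ← h]
  exact preimage_mono (subset_sUnion_of_mem ht)

/-- key: preimage reflects inclusions between quasi-constructible sets -/
lemma QH.subset_of_QC (hf : QH f) {Z Z' : Set Y} (hZ : QC Z) (hZ' : QC Z')
    (h : f ⁻¹' Z ⊆ f ⁻¹' Z') : Z ⊆ Z' := by
  have := hf.eq_empty_of_QC (hZ.sdiff hZ') (by
    rw [preimage_sdiff]; exact sdiff_eq_empty.mpr h)
  exact sdiff_eq_empty.mp this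

lemma QH.surj_QC (hf : QH f) {Z' : Set X} (hZ' : QC Z') : ∃ Z : Set Y, QC Z ∧ f ⁻¹' Z = Z' := by
  obtain ⟨T', hT', hTl', rfl⟩ := hZ'
  induction T', hT' using Set.Finite.induction_on with
  | empty => exact ⟨∅, QC.empty, by simp⟩
  | @insert a T₀ _ _ ih =>
    obtain ⟨Z₀, hZ₀, hZ₀'⟩ := ih fun t ht => hTl' t (mem_insert_of_mem a ht)
    obtain ⟨t, ht, hta⟩ := hf.surj_locallyClosed a (hTl' a (mem_insert a T₀))
    refine ⟨t ∪ Z₀, (QC.of_isLocallyClosed ht).union hZ₀, ?_⟩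
    rw [preimage_union, hta, hZ₀', sUnion_insert]

/-- local quasi-constructibility in terms of the ambient space -/
def LQC (Z : Set X) : Prop := ∀ x : X, ∃ V : Set X, IsOpen V ∧ x ∈ V ∧ QC (Z ∩ V)

lemma qc_subtype_iff {V : Set X} (hV : IsOpen V) (Z : Set X) :
    (∃ T : Set (Set V), T.Finite ∧ (∀ t ∈ T, IsLocallyClosed t) ∧
      (Subtype.val ⁻¹' Z : Set V) = ⋃₀ T) ↔ QC (Z ∩ V) := by
  constructor
  · rintro ⟨T, hT, hTl, hZT⟩
    refine ⟨(fun t => Subtype.val '' t) '' T, hT.image _, ?_, ?_⟩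
    · rintro _ ⟨t, ht, rfl⟩
      exact (hTl t ht).image Topology.IsInducing.subtypeVal
        (by rw [Subtype.range_coe]; exact hV.isLocallyClosed)
    · have : Z ∩ V = Subtype.val '' (Subtype.val ⁻¹' Z : Set V) := by
        rw [Subtype.image_preimage_coe, inter_comm]
      rw [this, hZT, image_sUnion, sUnion_image]
  · rintro ⟨T, hT, hTl, hZT⟩
    refine ⟨(fun t => (Subtype.val ⁻¹' t : Set V)) '' T, hT.image _, ?_, ?_⟩
    · rintro _ ⟨t, ht, rfl⟩
      exact (hTl t ht).preimage continuous_subtype_val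
    · rw [sUnion_image, ← preimage_sUnion, ← hZT]
      ext ⟨x, hx⟩
      simp

end helpers

section mainproof

open Set

variable {X Y : Type u} [TopologicalSpace X] [TopologicalSpace Y]

lemma lqc_set_eq (X : Type u) [TopologicalSpace X] :
    {Z : Set X | ∀ x : X, ∃ V : Set X, IsOpen V ∧ x ∈ V ∧
      ∃ T : Set (Set V), T.Finite ∧ (∀ t ∈ T, IsLocallyClosed t) ∧
        (Subtype.val ⁻¹' Z : Set V) = ⋃₀ T} = {Z : Set X | LQC Z} := by
  ext Z
  constructor
  · intro h x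
    obtain ⟨V, hV, hxV, hT⟩ := h x
    exact ⟨V, hV, hxV, (qc_subtype_iff hV Z).mp hT⟩
  · intro h x
    obtain ⟨V, hV, hxV, hT⟩ := h x
    exact ⟨V, hV, hxV, (qc_subtype_iff hV Z).mpr hT⟩

lemma part1 {f : X → Y} (hQH : QH f) :
    Set.BijOn (fun Z : Set Y => f ⁻¹' Z) {Z : Set Y | QC Z} {Z : Set X | QC Z} := by
  refine ⟨fun Z hZ => QC.preimage hQH.cont hZ, ?_, fun Z' hZ' => ?_⟩
  · intro Z hZ Z' hZ' h
    have h' : f ⁻¹' Z = f ⁻¹' Z' := h
    exact subset_antisymm (hQH.subset_of_QC hZ hZ' h'.le) (hQH.subset_of_QC hZ' hZ h'.ge)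
  · obtain ⟨Z, hZ, rfl⟩ := hQH.surj_QC hZ'
    exact ⟨Z, hZ, rfl⟩

lemma part2 {f : X → Y} (hQH : QH f) :
    Set.BijOn (fun Z : Set Y => f ⁻¹' Z) {Z : Set Y | LQC Z} {Z : Set X | LQC Z} := by
  refine ⟨fun Z hZ => ?_, ?_, fun Z' hZ' => ?_⟩
  · intro x
    obtain ⟨V, hV, hyV, hQ⟩ := hZ (f x)
    refine ⟨f ⁻¹' V, hV.preimage hQH.cont, hyV, ?_⟩
    rw [← preimage_inter]
    exact hQ.preimage hQH.cont
  · intro Z hZ Z' hZ' h
    have h' : f ⁻¹' Z = f ⁻¹' Z' := h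
    ext y
    obtain ⟨V, hV, hyV, hQ⟩ := hZ y
    obtain ⟨V', hV', hyV', hQ'⟩ := hZ' y
    have hZW : QC (Z ∩ (V ∩ V')) := by
      rw [← inter_assoc]
      exact hQ.inter_isLocallyClosed hV'.isLocallyClosed
    have hZW' : QC (Z' ∩ (V ∩ V')) := by
      rw [inter_comm V V', ← inter_assoc]
      exact hQ'.inter_isLocallyClosed hV.isLocallyClosed
    have hpre : f ⁻¹' (Z ∩ (V ∩ V')) = f ⁻¹' (Z' ∩ (V ∩ V')) := by
      simp only [preimage_inter, h']
    have heq : Z ∩ (V ∩ V') = Z' ∩ (V ∩ V') :=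
      subset_antisymm (hQH.subset_of_QC hZW hZW' hpre.le) (hQH.subset_of_QC hZW' hZW hpre.ge)
    constructor
    · intro hy
      have : y ∈ Z ∩ (V ∩ V') := ⟨hy, hyV, hyV'⟩
      rw [heq] at this
      exact this.1
    · intro hy
      have : y ∈ Z' ∩ (V ∩ V') := ⟨hy, hyV, hyV'⟩
      rw [← heq] at this
      exact this.1
  · have hZ'' : LQC Z' := hZ'
    choose V' hV' hxV' hQ' using hZ''
    choose V hV hVV' using fun x => hQH.surj (V' x) (hV' x)
    choose Zx hZx hZx' using fun x => hQH.surj_QC (hQ' x)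
    have hcover : ⋃ x, V x = univ := by
      apply hQH.inj _ _ (isOpen_iUnion hV) isOpen_univ
      rw [preimage_iUnion, preimage_univ]
      simp_rw [hVV']
      exact eq_univ_of_forall fun x => mem_iUnion.mpr ⟨x, hxV' x⟩
    refine ⟨⋃ x, (Zx x ∩ V x), ?_, ?_⟩
    · intro y
      have hy : y ∈ ⋃ x, V x := by rw [hcover]; trivial
      obtain ⟨x₀, hx₀⟩ := mem_iUnion.mp hy
      refine ⟨V x₀, hV x₀, hx₀, ?_⟩
      have heq : (⋃ x, (Zx x ∩ V x)) ∩ V x₀ = Zx x₀ ∩ V x₀ := by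
        apply subset_antisymm
        · rintro y' ⟨hy', hy'V⟩
          obtain ⟨x, hy'x⟩ := mem_iUnion.mp hy'
          refine ⟨?_, hy'V⟩
          have hsub : Zx x ∩ V x ∩ V x₀ ⊆ Zx x₀ := by
            apply hQH.subset_of_QC
              (((hZx x).inter_isLocallyClosed (hV x).isLocallyClosed).inter_isLocallyClosed
                (hV x₀).isLocallyClosed) (hZx x₀)
            rw [preimage_inter, preimage_inter, hZx', hZx', hVV', hVV']
            rintro z ⟨⟨⟨hz, -⟩, -⟩, hz₀⟩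
            exact ⟨hz, hz₀⟩
          exact hsub ⟨hy'x, hy'V⟩
        · rintro y' ⟨hy', hy'V⟩
          exact ⟨mem_iUnion.mpr ⟨x₀, hy', hy'V⟩, hy'V⟩
      rw [heq]
      exact (hZx x₀).inter_isLocallyClosed (hV x₀).isLocallyClosed
    · show f ⁻¹' (⋃ x, (Zx x ∩ V x)) = Z'
      rw [preimage_iUnion]
      simp_rw [preimage_inter, hZx', hVV']
      apply subset_antisymm
      · exact iUnion_subset fun x => fun z hz => hz.1.1
      · intro z hz
        exact mem_iUnion.mpr ⟨z, ⟨hz, hxV' z⟩, hxV' z⟩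

lemma main (f : X → Y) (hf : Continuous f)
    (hq : Function.Bijective (fun U : TopologicalSpace.Opens Y =>
      (⟨f ⁻¹' (U : Set Y), U.isOpen.preimage hf⟩ : TopologicalSpace.Opens X))) :
    Set.BijOn (fun Z : Set Y => f ⁻¹' Z)
        {Z : Set Y | ∃ T : Set (Set Y), T.Finite ∧ (∀ t ∈ T, IsLocallyClosed t) ∧ Z = ⋃₀ T}
        {Z : Set X | ∃ T : Set (Set X), T.Finite ∧ (∀ t ∈ T, IsLocallyClosed t) ∧ Z = ⋃₀ T} ∧
      Set.BijOn (fun Z : Set Y => f ⁻¹' Z)
        {Z : Set Y | ∀ y : Y, ∃ V : Set Y, IsOpen V ∧ y ∈ V ∧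
          ∃ T : Set (Set V), T.Finite ∧ (∀ t ∈ T, IsLocallyClosed t) ∧ (Subtype.val ⁻¹' Z : Set V) = ⋃₀ T}
        {Z : Set X | ∀ x : X, ∃ V : Set X, IsOpen V ∧ x ∈ V ∧
          ∃ T : Set (Set V), T.Finite ∧ (∀ t ∈ T, IsLocallyClosed t) ∧ (Subtype.val ⁻¹' Z : Set V) = ⋃₀ T} := by
  have hQH : QH f := by
    refine ⟨hf, ?_, ?_⟩
    · intro U' hU'
      obtain ⟨U, hU⟩ := hq.2 ⟨U', hU'⟩
      exact ⟨U, U.isOpen, congrArg (fun W : TopologicalSpace.Opens X => (W : Set X)) hU⟩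
    · intro U V hU hV h
      have := hq.1 (a₁ := ⟨U, hU⟩) (a₂ := ⟨V, hV⟩) (TopologicalSpace.Opens.ext h)
      exact congrArg (fun W : TopologicalSpace.Opens Y => (W : Set Y)) this
  refine ⟨part1 hQH, ?_⟩
  rw [lqc_set_eq X, lqc_set_eq Y]
  exact part2 hQH

end mainproof


/-- Let f : X → Y be a quasi-homeomorphism, i.e. a continuous map such that U ↦ f⁻¹(U) is a bijection
from the open subsets of Y onto the open subsets of X. Call a subset quasi-constructible when it is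
a finite union of locally closed subsets, and locally quasi-constructible when every point of the
space has an open neighbourhood V whose intersection with it is quasi-constructible in V. Then Z ↦
f⁻¹(Z) induces a bijection from the quasi-constructible subsets of Y onto those of X, and from the
locally quasi-constructible subsets of Y onto those of X. -/
theorem result {X Y : Type u}
    [TopologicalSpace X] [TopologicalSpace Y] (f : X → Y) (hf : Continuous f)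
    (hq : Function.Bijective (fun U : TopologicalSpace.Opens Y =>
      (⟨f ⁻¹' (U : Set Y), U.isOpen.preimage hf⟩ : TopologicalSpace.Opens X))) :
    Set.BijOn (fun Z : Set Y => f ⁻¹' Z)
        {Z : Set Y | ∃ T : Set (Set Y), T.Finite ∧ (∀ t ∈ T, IsLocallyClosed t) ∧ Z = ⋃₀ T}
        {Z : Set X | ∃ T : Set (Set X), T.Finite ∧ (∀ t ∈ T, IsLocallyClosed t) ∧ Z = ⋃₀ T} ∧
      Set.BijOn (fun Z : Set Y => f ⁻¹' Z)
        {Z : Set Y | ∀ y : Y, ∃ V : Set Y, IsOpen V ∧ y ∈ V ∧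
          ∃ T : Set (Set V), T.Finite ∧ (∀ t ∈ T, IsLocallyClosed t) ∧ (Subtype.val ⁻¹' Z : Set V) = ⋃₀ T}
        {Z : Set X | ∀ x : X, ∃ V : Set X, IsOpen V ∧ x ∈ V ∧
          ∃ T : Set (Set V), T.Finite ∧ (∀ t ∈ T, IsLocallyClosed t) ∧ (Subtype.val ⁻¹' Z : Set V) = ⋃₀ T} := by
  exact main f hf hq

end Groth.Agent.S12127
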