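import Groth.Statements.S12129
import Groth.Agent.Lib.H30DimField

set_option autoImplicit false
universe u
open EGA2

namespace Groth.Agent.S12129

open AlgebraicGeometry CategoryTheory Groth.Agent.Lib.H30DimField


open AlgebraicGeometry CategoryTheory in
/-- Let X be a scheme of finite type over a field k. Then the local ring of X at every closed point has
dimension one if and only if the irreducible closed subsets of X other than its irreducible
components are exactly the (singletons of) closed points of X — that is, every irreducible closed
subset which is not an irreducible component is a closed point, and no closed point is by itself an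
irreducible component. -/
theorem result (k : Type u) [Field k] (X : Scheme.{u})
    [X.Over (Spec (CommRingCat.of k))] [LocallyOfFiniteType (X ↘ (Spec (CommRingCat.of k)))]
    [QuasiCompact (X ↘ (Spec (CommRingCat.of k)))] :
    (∀ x : X, IsClosed ({x} : Set X) → ringKrullDim (X.presheaf.stalk x) = 1) ↔
      ((∀ F : Set X, IsClosed F → IsIrreducible F → F ∉ irreducibleComponents (X : Type u) →
          ∃ x : X, IsClosed ({x} : Set X) ∧ F = {x}) ∧
        ∀ x : X, IsClosed ({x} : Set X) → ({x} : Set X) ∉ irreducibleComponents (X : Type u)) := by
  haveI := isLocallyNoetherian k X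
  have hδ := isDimFun k X
  constructor
  · intro h
    refine ⟨fun F hFc hFi hFn => ?_, fun x hx hcomp => ?_⟩
    · -- generic point of F
      set η := hFi.genericPoint with hη
      have hηF : closure ({η} : Set X) = F := by
        have := hFi.genericPoint_closure_eq
        rw [hFc.closure_eq] at this
        exact this
      have hηn : ¬ ∀ ξ : X, ξ ⤳ η → ξ = η := by
        intro hmax
        apply hFn
        rw [← hηF]
        exact (closure_mem_irreducibleComponents_iff η).mpr hmax
      obtain ⟨c, -, hηc, hc⟩ := exists_closed_point k X η Set.univ isOpen_univ trivial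
      obtain ⟨U, hU, hyU, hmaxU⟩ := Groth.Agent.S6460.exists_nhd X η
      obtain ⟨ξ, hξ, hξη, -⟩ := hmaxU η hyU
      have hne : ξ ≠ η := by
        intro he
        subst he
        exact hηn hξ
      have h1 := stalk_dim_ge hδ c ξ (hξη.trans hηc)
      rw [h c hc, td_eq_zero_of_isClosed k X c hc, sub_zero] at h1
      have h2 : (td k X ξ).toNat ≤ 1 := by exact_mod_cast h1
      have h3 := (hδ ξ η hξη hne).1
      have h4 := td_nonneg k X η
      have h5 : td k X η = 0 := by omega
      have h6 := isClosed_of_td_eq_zero k X η h5
      refine ⟨η, h6, ?_⟩
      rw [← hηF, h6.closure_eq]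
    · have hmax : ∀ ξ : X, ξ ⤳ x → ξ = x := by
        rw [← closure_mem_irreducibleComponents_iff, hx.closure_eq]
        exact hcomp
      obtain ⟨ξ, -, hξx, hdim⟩ := stalk_dim_exists hδ x
      rw [h x hx, hmax ξ hξx, sub_self] at hdim
      simp at hdim
  · rintro ⟨h1, h2⟩ x hx
    have hx0 := td_eq_zero_of_isClosed k X x hx
    have hnmax : ¬ ∀ ξ : X, ξ ⤳ x → ξ = x := by
      intro hmax
      apply h2 x hx
      rw [← hx.closure_eq]
      exact (closure_mem_irreducibleComponents_iff x).mpr hmax
    obtain ⟨ξ, hξ, hξx, hdim⟩ := stalk_dim_exists hδ x
    have hne : ξ ≠ x := by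
      intro he
      subst he
      exact hnmax hξ
    have h3 := (hδ ξ x hξx hne).1
    have himm : ∀ z : X, ξ ⤳ z → z ⤳ x → z = ξ ∨ z = x := by
      intro z hξz hzx
      by_contra hcon
      push Not at hcon
      have hzn : closure ({z} : Set X) ∉ irreducibleComponents (X : Type u) := by
        rw [closure_mem_irreducibleComponents_iff]
        intro hmax
        exact hcon.1 (hmax ξ hξz).symm
      obtain ⟨c, hc, hFc⟩ := h1 _ isClosed_closure isIrreducible_singleton.closure hzn
      have hzc : z = c := by
        have : z ∈ ({c} : Set X) := by
          rw [← hFc]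
          exact subset_closure rfl
        exact this
      subst hzc
      have : x ∈ ({z} : Set X) := by
        rw [← hFc]
        exact specializes_iff_mem_closure.mp hzx
      exact hcon.2 this.symm
    have h4 := (hδ ξ x hξx hne).2 himm
    rw [hdim, h4, hx0]
    simp

end Groth.Agent.S12129
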