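import Groth.Statements.S1213
-- import your own Groth.Agent.* helpers here
import Mathlib.RingTheory.Nakayama
import Mathlib.RingTheory.FiniteType
import Mathlib.LinearAlgebra.TensorProduct.Finiteness
import Mathlib.Order.CompactlyGenerated.Basic
import Mathlib.RingTheory.Finiteness.Basic
import Mathlib.RingTheory.Jacobson.Ideal

set_option autoImplicit false
universe u
open scoped Classical
open FlatMor

namespace Groth.Agent.S1213

section Aux

open IsLocalRing

variable {R S : Type u} [CommRing R] [IsLocalRing R] [CommRing S] [Algebra R S]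
  (N : Type u) [AddCommGroup N] [Module S N] [Module R N] [IsScalarTower R S N]

/-- The ideal of `S` of the elements mapping `N` into `𝔪 N`. -/
def smallIdeal (R : Type u) {S : Type u} [CommRing R] [IsLocalRing R] [CommRing S] [Algebra R S]
    (N : Type u) [AddCommGroup N] [Module S N] [Module R N] [IsScalarTower R S N] : Ideal S where
  carrier := {g | ∀ y : N, g • y ∈ (maximalIdeal R • ⊤ : Submodule R N)}
  add_mem' := by
    intro a b ha hb y
    rw [add_smul]
    exact Submodule.add_mem _ (ha y) (hb y)
  zero_mem' := by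
    intro y
    rw [zero_smul]
    exact Submodule.zero_mem _
  smul_mem' := by
    intro c g hg y
    rw [smul_eq_mul, mul_comm, mul_smul]
    exact hg (c • y)

theorem map_le_smallIdeal : (maximalIdeal R).map (algebraMap R S) ≤ smallIdeal R N := by
  rw [Ideal.map_le_iff_le_comap]
  intro a ha y
  rw [algebraMap_smul]
  exact Submodule.smul_mem_smul ha Submodule.mem_top

variable {N}

theorem proj_mem (N₁ : Submodule R N) (π : N →ₗ[R] N₁) (y : N)
    (hy : y ∈ (maximalIdeal R • ⊤ : Submodule R N)) :
    π y ∈ (maximalIdeal R • ⊤ : Submodule R N₁) := by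
  refine Submodule.smul_induction_on hy ?_ ?_
  · intro a ha n _
    rw [map_smul]
    exact Submodule.smul_mem_smul ha Submodule.mem_top
  · intro x y hx hy
    rw [map_add]
    exact Submodule.add_mem _ hx hy

theorem compress_bijective (N₁ N₂ : Submodule R N) (h : IsCompl N₁ N₂) [Module.Finite R N₁]
    (f g : S) (hfg : f + g = 1) (hg : g ∈ smallIdeal R N) :
    Function.Bijective ((Submodule.projectionOnto N₁ N₂ h) ∘ₗ
      (DistribSMul.toLinearMap R N f) ∘ₗ N₁.subtype) := by
  apply OrzechProperty.bijective_of_surjective_endomorphism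
  rw [← LinearMap.range_eq_top, eq_top_iff]
  apply Submodule.le_of_le_smul_of_le_jacobson_bot (I := maximalIdeal R) Module.Finite.fg_top
    (IsLocalRing.maximalIdeal_le_jacobson ⊥)
  intro x _
  have hx : x = ((Submodule.projectionOnto N₁ N₂ h) ∘ₗ
      (DistribSMul.toLinearMap R N f) ∘ₗ N₁.subtype) x +
      (Submodule.projectionOnto N₁ N₂ h) (g • (x : N)) := by
    have h1 : (x : N) = f • (x : N) + g • (x : N) := by
      rw [← add_smul, hfg, one_smul]
    have h2 := congrArg (Submodule.projectionOnto N₁ N₂ h) h1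
    rw [Submodule.projectionOnto_apply_left, map_add] at h2
    exact h2
  rw [hx]
  exact Submodule.add_mem_sup (LinearMap.mem_range_self _ x)
    (proj_mem N₁ _ _ (hg (x : N)))

end Aux


open TensorProduct IsLocalRing in
/-- Let R be a local ring, S an R-algebra and N an S-module which, as an R-module, is an internal direct
sum of finite R-submodules. Then for every R-module M and every prime q of S which is the
annihilator of an element of the S-module N ⊗_R M we have q + 𝔪_R S ≠ S. -/
theorem result {R S : Type u} [CommRing R] [IsLocalRing R] [CommRing S] [Algebra R S]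
    (N : Type u) [AddCommGroup N] [Module S N] [Module R N] [IsScalarTower R S N]
    (ι : Type u) (F : ι → Submodule R N) (hF : DirectSum.IsInternal F) (hfin : ∀ i, Module.Finite R (F i))
    (M : Type u) [AddCommGroup M] [Module R M]
    (q : Ideal S) [q.IsPrime] (hq : q ∈ FlatCA.ass S (N ⊗[R] M)) :
    q ⊔ (maximalIdeal R).map (algebraMap R S) ≠ ⊤ := by
  intro htop
  obtain ⟨hqp, z, hz⟩ := hq
  have h1 : (1 : S) ∈ q ⊔ (maximalIdeal R).map (algebraMap R S) := by
    rw [htop]
    trivial
  obtain ⟨f, hf, g, hg, hfg⟩ := Submodule.mem_sup.mp h1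
  have hgJ := map_le_smallIdeal N hg
  have hfz : f • z = 0 := by
    have h2 : f ∈ (Submodule.span S {z}).annihilator := hz ▸ hf
    exact (Submodule.mem_annihilator_span_singleton z f).mp h2
  obtain ⟨M', hM'fin, hzM'⟩ :=
    TensorProduct.exists_finite_submodule_left_of_setFinite {z} (Set.finite_singleton z)
  have hcompact := (Submodule.fg_iff_compact M').mp (Module.Finite.iff_fg.mp hM'fin)
  have htopF : (⨆ i, F i) = ⊤ := hF.submodule_iSup_eq_top
  obtain ⟨J, hJ⟩ := CompleteLattice.IsCompactElement.exists_finset_of_le_iSup (Submodule R N)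
    hcompact F (htopF ▸ le_top)
  have hdisj : Disjoint (⨆ i ∈ (J : Set ι), F i) (⨆ i ∈ ((J : Set ι)ᶜ), F i) :=
    hF.submodule_iSupIndep.disjoint_biSup_biSup' disjoint_compl_right J.finite_toSet
  have hcod : Codisjoint (⨆ i ∈ (J : Set ι), F i) (⨆ i ∈ ((J : Set ι)ᶜ), F i) := by
    rw [codisjoint_iff, ← htopF]
    exact (iSup_split F (fun i => i ∈ (J : Set ι))).symm
  have hcompl : IsCompl (⨆ i ∈ (J : Set ι), F i) (⨆ i ∈ ((J : Set ι)ᶜ), F i) := ⟨hdisj, hcod⟩
  have hJ' : M' ≤ ⨆ i ∈ (J : Set ι), F i := hJ
  have : Module.Finite R (⨆ i ∈ (J : Set ι), F i : Submodule R N) :=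
    Module.Finite.iff_fg.mpr (Submodule.fg_biSup J F (fun i _ => Module.Finite.iff_fg.mp (hfin i)))
  obtain ⟨z₀, hz₀⟩ := hzM' (Set.mem_singleton z)
  have hb := compress_bijective _ _ hcompl f g hfg hgJ
  have hsm : ∀ w : N ⊗[R] M, f • w = (LinearMap.rTensor M (DistribSMul.toLinearMap R N f)) w := by
    intro w
    induction w using TensorProduct.induction_on with
    | zero => simp
    | tmul n m => rw [TensorProduct.smul_tmul', LinearMap.rTensor_tmul]; rfl
    | add x y hx hy => rw [smul_add, hx, hy, map_add]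
  have hz₁ : LinearMap.rTensor M (⨆ i ∈ (J : Set ι), F i : Submodule R N).subtype
      (LinearMap.rTensor M (Submodule.inclusion hJ') z₀) = z := by
    rw [← hz₀, ← LinearMap.comp_apply, ← LinearMap.rTensor_comp, Submodule.subtype_comp_inclusion]
  have h0 : LinearMap.rTensor M ((Submodule.projectionOnto _ _ hcompl) ∘ₗ
      (DistribSMul.toLinearMap R N f) ∘ₗ (⨆ i ∈ (J : Set ι), F i : Submodule R N).subtype)
      (LinearMap.rTensor M (Submodule.inclusion hJ') z₀) = 0 := by
    rw [LinearMap.rTensor_comp, LinearMap.rTensor_comp, LinearMap.comp_apply,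
      LinearMap.comp_apply, hz₁, ← hsm, hfz, map_zero]
  have hz₁0 : LinearMap.rTensor M (Submodule.inclusion hJ') z₀ = 0 := by
    have h3 : LinearMap.rTensor M (LinearEquiv.ofBijective _ hb).symm.toLinearMap
        (LinearMap.rTensor M ((Submodule.projectionOnto _ _ hcompl) ∘ₗ
      (DistribSMul.toLinearMap R N f) ∘ₗ (⨆ i ∈ (J : Set ι), F i : Submodule R N).subtype)
      (LinearMap.rTensor M (Submodule.inclusion hJ') z₀)) =
        LinearMap.rTensor M (Submodule.inclusion hJ') z₀ := by
      rw [← LinearMap.comp_apply, ← LinearMap.rTensor_comp]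
      have h4 : (LinearEquiv.ofBijective _ hb).symm.toLinearMap ∘ₗ
          ((Submodule.projectionOnto _ _ hcompl) ∘ₗ
          (DistribSMul.toLinearMap R N f) ∘ₗ (⨆ i ∈ (J : Set ι), F i : Submodule R N).subtype)
          = LinearMap.id :=
        LinearMap.ext fun n => (LinearEquiv.ofBijective _ hb).symm_apply_apply n
      rw [h4, LinearMap.rTensor_id, LinearMap.id_apply]
    rw [h0, map_zero] at h3
    exact h3.symm
  have hz0 : z = 0 := by rw [← hz₁, hz₁0, map_zero]
  apply hqp.ne_top
  rw [hz, hz0]
  simp [Submodule.annihilator_bot]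

end Groth.Agent.S1213
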