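import Groth.Statements.S12132
import Groth.Agent.Lib.LenLocFin

set_option autoImplicit false
universe u
open AssSch

namespace Groth.Agent.S12132

/-- Let B be a Noetherian local ring (the local ring of X at the generic point z of an irreducible
component Z of the support of F/tF), t an element of its maximal ideal, and M a finite B-module (the
stalk F_z) such that the support of M has positive dimension (Z is not an irreducible component of
Supp F) and M/tM has finite length (z is a maximal point of Supp(F/tF)). Then the length of M/tM is
at least the sum, over the primes p of B minimal over the annihilator of M (the generic points of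
the irreducible components of Supp F through z), of the lengths of the B_p-modules M_p; and the two
are equal if and only if t is a non-zero-divisor on M and for every such p the image of t generates
the maximal ideal of B/p (so that B/p is a discrete valuation ring with uniformizer t). -/
theorem result {B : Type u} [CommRing B] [IsNoetherianRing B]
    [IsLocalRing B] (t : B) (ht : t ∈ IsLocalRing.maximalIdeal B)
    (M : Type u) [AddCommGroup M] [Module B M] [Module.Finite B M]
    (hdim : 0 < Module.supportDim B M)
    (hfin : Module.length B (M ⧸ (Ideal.span {t} • (⊤ : Submodule B M))) ≠ ⊤) :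
    (∑ᶠ p : (Module.annihilator B M).minimalPrimes,
        haveI : p.1.IsPrime := p.2.1.1
        Module.length (Localization.AtPrime p.1) (LocalizedModule p.1.primeCompl M)) ≤
      Module.length B (M ⧸ (Ideal.span {t} • (⊤ : Submodule B M))) ∧
    ((∑ᶠ p : (Module.annihilator B M).minimalPrimes,
        haveI : p.1.IsPrime := p.2.1.1
        Module.length (Localization.AtPrime p.1) (LocalizedModule p.1.primeCompl M)) =
      Module.length B (M ⧸ (Ideal.span {t} • (⊤ : Submodule B M))) ↔
    IsSMulRegular M t ∧
      ∀ p : (Module.annihilator B M).minimalPrimes,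
        Ideal.map (Ideal.Quotient.mk p.1) (IsLocalRing.maximalIdeal B) =
          Ideal.span {Ideal.Quotient.mk p.1 t}) := by
  classical
  set S : Set (Ideal B) := (Module.annihilator B M).minimalPrimes with hSdef
  have hS : ∀ p ∈ S, p.IsPrime := fun p hp => hp.1.1
  have hSfin : S.Finite := Ideal.finite_minimalPrimes_of_isNoetherianRing B _
  have hanti : ∀ p ∈ S, ∀ q ∈ S, p ≤ q → p = q := by
    intro p hp q hq hpq
    exact le_antisymm hpq (hq.2 hp.1 hpq)
  -- maximal ideal is not minimal over Ann M, since dim > 0
  have hmax : IsLocalRing.maximalIdeal B ∉ S := by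
    intro hm
    have : Subsingleton (Module.support B M) := by
      constructor
      rintro ⟨P, hP⟩ ⟨P', hP'⟩
      rw [Subtype.mk.injEq]
      have key : ∀ Q : PrimeSpectrum B, Q ∈ Module.support B M →
          Q.asIdeal = IsLocalRing.maximalIdeal B := by
        intro Q hQ
        have h1 : Module.annihilator B M ≤ Q.asIdeal := Module.mem_support_iff_of_finite.mp hQ
        exact le_antisymm (IsLocalRing.le_maximalIdeal Q.isPrime.ne_top)
          (hm.2 ⟨Q.isPrime, h1⟩ (IsLocalRing.le_maximalIdeal Q.isPrime.ne_top))
      apply PrimeSpectrum.ext
      rw [key P hP, key P' hP']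
    have : Module.supportDim B M ≤ 0 := Order.krullDim_nonpos_of_subsingleton
    exact absurd hdim (not_lt.mpr this)
  rw [Groth.Agent.Lib.LenLocFin.length_quot_eq] at hfin ⊢
  have hsum := Groth.Agent.Lib.LenLocFin.finsum_eq_sum_ell M S hS hSfin
  obtain ⟨h1, h2⟩ := Groth.Agent.Lib.LenLocFin.final t ht M S hS hSfin hanti hmax hfin
  have hsupp : ∀ q : PrimeSpectrum B, q ∈ Module.support B M →
      q.asIdeal ∈ S ∨ q.asIdeal = IsLocalRing.maximalIdeal B := fun q hq =>
    Groth.Agent.Lib.LenLocDim.mem_minimalPrimes_or_eq_maximalIdeal t ht hfin q hq
  refine ⟨by rw [hsum]; exact h1, ?_⟩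
  rw [hsum, h2 hsupp]
  refine and_congr_right (fun _ => ?_)
  constructor
  · intro h p
    apply h p.1 p.2
    haveI : p.1.IsPrime := p.2.1.1
    rw [Groth.Agent.Lib.LenLoc.ell_eq, Ne, Module.length_eq_zero_iff,
      not_subsingleton_iff_nontrivial]
    exact (Module.mem_support_iff (p := ⟨p.1, p.2.1.1⟩)).mp
      (Module.mem_support_iff_of_finite.mpr p.2.1.2)
  · intro h p hp _
    exact h ⟨p, hp⟩

end Groth.Agent.S12132
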