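import Groth.Statements.S12133
import Groth.Agent.Lib.H60Veronese

set_option autoImplicit false
universe u
open EGA2

namespace Groth.Agent.S12133

open CategoryTheory AlgebraicGeometry Opposite in
/-- Let Y be a scheme, 𝒮 a quasi-coherent positively graded O_Y-algebra, and (U_i) a finite cover of Y
by affine open sets such that each graded ring 𝒮(U_i) is an algebra of finite type over O_Y(U_i).
Then there is an integer d > 0 such that for every i: 𝒮(U_i)_{nd} = (𝒮(U_i)_d)^n for all n > 0 (as
additive subgroups of the ring 𝒮(U_i); that is, 𝒮^{(d)} is generated by 𝒮_d), and 𝒮(U_i)_d is a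
finitely generated module over the degree-zero subring 𝒮(U_i)_0. (The published statement says 𝒮_d
is an O_Y-module of finite type; its proof gives finite generation over 𝒮_0, which is what is stated
here — for 𝒮 = O_Y[x][T] with x of degree 0 and T of degree 1 over an affine Y, 𝒮 is of finite type
but 𝒮_1 = O_Y[x] T is not a finitely generated O_Y-module.) -/
theorem result {Y : Scheme.{u}} (𝒮 : RelProj.QCGrAlg Y)
    {ι : Type u} [Finite ι] (U : ι → Y.Opens) (hU : ∀ i, IsAffineOpen (U i)) (hcov : ⨆ i, U i = ⊤)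
    (hft : ∀ i, (𝒮.str.app (op (U i))).hom.FiniteType) :
    ∃ d : ℕ, 0 < d ∧ ∀ i,
      (∀ n : ℕ, 0 < n →
        AddSubgroup.toIntSubmodule (𝒮.deg (U i) (hU i) (n * d)) =
          AddSubgroup.toIntSubmodule (𝒮.deg (U i) (hU i) d) ^ n) ∧
      ∃ T : Finset (𝒮.presheaf.obj (op (U i))),
        (↑T : Set (𝒮.presheaf.obj (op (U i)))) ⊆ (𝒮.deg (U i) (hU i) d : Set (𝒮.presheaf.obj (op (U i)))) ∧
        AddSubgroup.toIntSubmodule (𝒮.deg (U i) (hU i) d) =
          AddSubgroup.toIntSubmodule (𝒮.deg (U i) (hU i) 0) *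
            Submodule.span ℤ (↑T : Set (𝒮.presheaf.obj (op (U i)))) := by
  classical
  have hFT : ∀ i, Algebra.FiniteType (𝒮.deg (U i) (hU i) 0) (𝒮.presheaf.obj (op (U i))) := by
    intro i
    rw [← RingHom.finiteType_algebraMap]
    have e : (𝒮.str.app (op (U i))).hom =
        (algebraMap (𝒮.deg (U i) (hU i) 0) (𝒮.presheaf.obj (op (U i)))).comp
          (𝒮.strZero (U i) (hU i)).hom := by
      ext r; rfl
    have h := hft i
    rw [e] at h
    exact RingHom.FiniteType.of_comp_finiteType h
  have key := fun i ↦ @Groth.Agent.Lib.H60Veronese.exists_D_mul_eq_pow _ _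
    (𝒮.deg (U i) (hU i)) _ (hFT i)
  choose di hdi hdi' using key
  have := Fintype.ofFinite ι
  refine ⟨∏ i, di i, Finset.prod_pos fun i _ ↦ hdi i, fun i ↦ ⟨?_, ?_⟩⟩
  · intro n hn
    have e : ∏ k, di k = (∏ k ∈ Finset.univ.erase i, di k) * di i := by
      rw [mul_comm]; exact (Finset.mul_prod_erase _ _ (Finset.mem_univ i)).symm
    have hk : 0 < ∏ k ∈ Finset.univ.erase i, di k := Finset.prod_pos fun k _ ↦ hdi k
    rw [e]
    exact hdi' i _ hk n hn
  · exact @Groth.Agent.Lib.H60Veronese.exists_finset_D_eq' _ _ (𝒮.deg (U i) (hU i)) _ (hFT i) _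

end Groth.Agent.S12133
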