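import Groth.Statements.S12134
import Groth.Agent.Lib.H77GrStrat

set_option autoImplicit false
universe u
open scoped TensorProduct
open EGA43

namespace Groth.Agent.S12134

open AlgebraicGeometry CategoryTheory in
/-- Suppose A₀ is a Noetherian ring and B₀ is a finitely generated A₀-algebra; fix an ideal J₀ ⊆ B₀ and
a finite B₀-module M₀. Then Spec A₀ admits finitely many affine subschemes S_1, …, S_m — presented
as immersions Spec A_i → Spec A₀ — whose underlying sets are mutually disjoint with union all of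
Spec A₀, such that each S_i is open in S_i ∪ S_{i+1} ∪ … ∪ S_m, and such that for each i, setting
N_i = A_i ⊗_{A₀} M₀, the graded module associated to the J₀-adic filtration on N_i is A_i-flat.
Concretely, for every n the A_i-module J₀ⁿN_i / J₀ⁿ⁺¹N_i is flat, where this quotient is encoded as
the image of J₀ⁿN_i inside N_i / J₀ⁿ⁺¹N_i, and J₀ⁿN_i denotes the image in N_i of A_i ⊗_{A₀} J₀ⁿM₀. -/
theorem result {A₀ : Type u} [CommRing A₀] [IsNoetherianRing A₀]
    {B₀ : Type u} [CommRing B₀] [Algebra A₀ B₀] [Algebra.FiniteType A₀ B₀] (J₀ : Ideal B₀)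
    (M₀ : Type u) [AddCommGroup M₀] [Module B₀ M₀] [Module A₀ M₀] [IsScalarTower A₀ B₀ M₀]
    [Module.Finite B₀ M₀] :
    ∃ (m : ℕ) (A : Fin m → Type u) (_ : ∀ i, CommRing (A i)) (_ : ∀ i, Algebra A₀ (A i)),
      (∀ i, IsImmersion (Spec.map (CommRingCat.ofHom (algebraMap A₀ (A i))))) ∧
      (∀ i j, i ≠ j → Disjoint (Set.range (Spec.map (CommRingCat.ofHom (algebraMap A₀ (A i)))))
        (Set.range (Spec.map (CommRingCat.ofHom (algebraMap A₀ (A j)))))) ∧
      (⋃ i, Set.range (Spec.map (CommRingCat.ofHom (algebraMap A₀ (A i)))) = Set.univ) ∧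
      (∀ i, ∃ U : Set (Spec (CommRingCat.of A₀)), IsOpen U ∧
        U ∩ (⋃ j, ⋃ (_ : i ≤ j), Set.range (Spec.map (CommRingCat.ofHom (algebraMap A₀ (A j))))) =
          Set.range (Spec.map (CommRingCat.ofHom (algebraMap A₀ (A i))))) ∧
      ∀ i (n : ℕ), Module.Flat (A i)
        ↥(Submodule.map
            (LinearMap.range (LinearMap.baseChange (A i)
              ((J₀ ^ (n + 1) • (⊤ : Submodule B₀ M₀)).restrictScalars A₀).subtype)).mkQ
            (LinearMap.range (LinearMap.baseChange (A i)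
              ((J₀ ^ n • (⊤ : Submodule B₀ M₀)).restrictScalars A₀).subtype))) := by
  classical
  obtain ⟨L, hL1, hL2, hL3, hL4⟩ := Groth.Agent.Lib.H77GrStrat.exists_inv J₀ M₀ (⊥ : Ideal A₀)
  refine ⟨L.length, fun i => Groth.Agent.Lib.H77GrStrat.Str (L.get i), fun i => inferInstance,
    fun i => inferInstance, ?_, ?_, ?_, ?_, ?_⟩
  · intro i
    exact Groth.Agent.Lib.H77GrStrat.isImmersion_specMap (L.get i)
  · intro i j hij
    rw [Groth.Agent.Lib.H77GrStrat.range_specMap, Groth.Agent.Lib.H77GrStrat.range_specMap]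
    rw [List.pairwise_iff_get] at hL2
    rcases lt_or_gt_of_ne hij with h | h
    · exact hL2 i j h
    · exact (hL2 j i h).symm
  · simp_rw [Groth.Agent.Lib.H77GrStrat.range_specMap]
    have h1 : (⋃ i : Fin L.length, Groth.Agent.Lib.H77GrStrat.rng (L.get i)) =
        ⋃ x ∈ L, Groth.Agent.Lib.H77GrStrat.rng x := by
      ext Pt
      simp only [Set.mem_iUnion, exists_prop]
      constructor
      · rintro ⟨i, hi⟩
        exact ⟨L.get i, List.get_mem L i, hi⟩
      · rintro ⟨x, hx, hPt⟩
        obtain ⟨i, rfl⟩ := List.get_of_mem hx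
        exact ⟨i, hPt⟩
    exact h1.trans (hL3.trans PrimeSpectrum.zeroLocus_bot)
  · intro i
    obtain ⟨U, hU, hUeq⟩ := hL4 (L.take i) (L.get i) (L.drop (i + 1)) (by
      rw [List.get_eq_getElem, ← List.drop_eq_getElem_cons i.2, List.take_append_drop])
    refine ⟨U, hU, ?_⟩
    simp_rw [Groth.Agent.Lib.H77GrStrat.range_specMap]
    exact (congrArg (fun T => U ∩ T) (Groth.Agent.Lib.H77GrStrat.iUnion_ge_eq L i)).trans hUeq
  · intro i n
    exact hL1 (L.get i) (List.get_mem L i) n

end Groth.Agent.S12134
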