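import Groth.Statements.S12135
import Groth.Agent.Lib.ConsTopProper
import Mathlib.AlgebraicGeometry.Properties

set_option autoImplicit false
universe u
open EGA41

namespace Groth.Agent.S12135

open AlgebraicGeometry Topology in
/-- Let f : X → Y be a morphism of schemes with X and Y quasi-separated, and let X^cons, Y^cons denote
the underlying sets with the constructible topology (generated by the quasi-compact open subsets and
their complements; for quasi-separated schemes the open sets are exactly the ind-constructible
subsets). Then f is quasi-compact if and only if the map X^cons → Y^cons underlying f is proper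
(continuous and universally closed). (The published statement is for arbitrary schemes with the
ind-constructible topology; this row covers the quasi-separated case, where that topology is the one
used here.) -/
theorem result {X Y : Scheme.{u}} [QuasiSeparatedSpace X]
    [QuasiSeparatedSpace Y] (f : X ⟶ Y) :
    QuasiCompact f ↔ @IsProperMap X Y (constructibleTopology X) (constructibleTopology Y) f := by
  constructor
  · intro hf
    have hcont : @Continuous X Y (constructibleTopology X) (constructibleTopology Y) f :=
      ConsTopH85.continuous_cons f.continuous hf.isCompact_preimage
    refine @isProperMap_of_cover X Y (constructibleTopology X) (constructibleTopology Y)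
      ConsTopH85.t2Space_cons f hcont {W | IsOpen W ∧ IsCompact W} ?_ ?_
    · intro y
      obtain ⟨V, ⟨hVo, hVc⟩, hyV, -⟩ :=
        (PrespectralSpace.isTopologicalBasis (X := Y)).exists_subset_of_mem_open
          (Set.mem_univ y) isOpen_univ
      exact ⟨V, ⟨hVo, hVc⟩, hyV⟩
    · rintro W ⟨hWo, hWc⟩
      exact ⟨ConsTopH85.isOpen_cons_of_isCompact_isOpen hWc hWo,
        ConsTopH85.isCompact_cons_of_isCompact_isOpen hWo hWc,
        ConsTopH85.isCompact_cons_of_isCompact_isOpen (hWo.preimage f.continuous)
          (hf.isCompact_preimage W hWo hWc)⟩
  · intro hf
    refine ⟨fun U hUo hUc => ?_⟩
    exact ConsTopH85.isCompact_of_cons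
      (@IsProperMap.isCompact_preimage X Y (constructibleTopology X) (constructibleTopology Y) f hf U
        (ConsTopH85.isCompact_cons_of_isCompact_isOpen hUo hUc))

end Groth.Agent.S12135
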