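import Groth.Statements.S12136
import Mathlib

set_option autoImplicit false
universe u
open TensorProduct KaehlerDifferential
open EGA41

namespace Groth.Agent.S12136

section Helpers

variable {A B : Type u} [CommRing A] [CommRing B] [Algebra A B]

/-- L0: adic formal smoothness gives lifting along any surjection with square-zero kernel. -/
theorem lift_of_surjective {R S : Type u} [CommRing R] [CommRing S] [Algebra R S] {𝔫 : Ideal S}
    (h : CAlgX.IsAdicFormallySmooth R S 𝔫)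
    {A' A'' : Type u} [CommRing A'] [CommRing A''] [Algebra R A'] [Algebra R A'']
    (π : A' →ₐ[R] A'') (hπ : Function.Surjective π)
    (hsq : ∀ x y : A', π x = 0 → π y = 0 → x * y = 0)
    (ψ : S →ₐ[R] A'') (hk : ∃ k : ℕ, ∀ x ∈ 𝔫 ^ k, ψ x = 0) :
    ∃ χ : S →ₐ[R] A', π.comp χ = ψ := by
  let e : (A' ⧸ RingHom.ker π.toRingHom) ≃ₐ[R] A'' := Ideal.quotientKerAlgEquivOfSurjective hπ
  have hJ : (RingHom.ker π.toRingHom) ^ 2 = ⊥ := by
    rw [pow_two, eq_bot_iff, Ideal.mul_le]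
    intro x hx y hy
    rw [Ideal.mem_bot]
    exact hsq x y hx hy
  obtain ⟨k, hk⟩ := hk
  obtain ⟨χ, hχ⟩ := h A' (RingHom.ker π.toRingHom) hJ (e.symm.toAlgHom.comp ψ)
    ⟨k, fun x hx => by
      show e.symm (ψ x) = 0
      rw [hk x hx, map_zero]⟩
  refine ⟨χ, ?_⟩
  ext s
  have h1 : Ideal.Quotient.mk _ (χ s) = e.symm (ψ s) := AlgHom.congr_fun hχ s
  have h2 : e (Ideal.Quotient.mk _ (χ s)) = ψ s := by rw [h1, AlgEquiv.apply_symm_apply]
  rw [← h2]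
  rfl

/-- Lifting a linear map to a base change along a surjective ring map, when the kernel kills the
target. -/
theorem exists_lift_surj {B CQ : Type*} [CommRing B] [CommRing CQ] [Algebra B CQ]
    (hf : Function.Surjective (algebraMap B CQ))
    {M N : Type*} [AddCommGroup M] [Module B M] [AddCommGroup N] [Module B N]
    (hN : ∀ b : B, algebraMap B CQ b = 0 → ∀ y : N, b • y = 0) (v : M →ₗ[B] N) :
    ∃ w : CQ ⊗[B] M →ₗ[B] N, ∀ m, w (1 ⊗ₜ m) = v m := by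
  letI : SMul CQ N := ⟨fun c y => (Function.surjInv hf c) • y⟩
  have hsmul : ∀ (b : B) (y : N), algebraMap B CQ b • y = b • y := by
    intro b y
    show Function.surjInv hf (algebraMap B CQ b) • y = b • y
    rw [← sub_eq_zero, ← sub_smul]
    apply hN
    rw [map_sub, Function.surjInv_eq hf, sub_self]
  letI : Module CQ N := Function.Surjective.moduleLeft (algebraMap B CQ) hf hsmul
  haveI : IsScalarTower B CQ N := ⟨fun b c y => by
    obtain ⟨b', rfl⟩ := hf c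
    rw [Algebra.smul_def, ← map_mul, hsmul, hsmul, mul_smul]⟩
  exact ⟨(v.liftBaseChange CQ).restrictScalars B, fun m => by simp⟩

/-- every element of a base change along a surjection is of the form `1 ⊗ m`. -/
theorem exists_one_tmul {B CQ : Type*} [CommRing B] [CommRing CQ] [Algebra B CQ]
    (hf : Function.Surjective (algebraMap B CQ))
    {M : Type*} [AddCommGroup M] [Module B M] (t : CQ ⊗[B] M) : ∃ m : M, t = 1 ⊗ₜ m := by
  induction t using TensorProduct.induction_on with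
  | zero => exact ⟨0, by simp⟩
  | tmul c m =>
    obtain ⟨b, rfl⟩ := hf c
    refine ⟨b • m, ?_⟩
    rw [TensorProduct.tmul_smul, TensorProduct.smul_tmul', Algebra.smul_def, mul_one]
  | add x y hx hy =>
    obtain ⟨m, rfl⟩ := hx
    obtain ⟨m', rfl⟩ := hy
    exact ⟨m + m', by rw [TensorProduct.tmul_add]⟩


theorem surj_CQ (J : Ideal B) (Q : Ideal (B ⧸ J)) :
    Function.Surjective (algebraMap B ((B ⧸ J) ⧸ Q)) := by
  intro c
  obtain ⟨c', rfl⟩ := Ideal.Quotient.mk_surjective c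
  obtain ⟨b, rfl⟩ := Ideal.Quotient.mk_surjective c'
  exact ⟨b, rfl⟩

theorem algebraMap_CQ_eq_zero (J : Ideal B) (Q : Ideal (B ⧸ J)) (b : B) :
    algebraMap B ((B ⧸ J) ⧸ Q) b = 0 ↔ Ideal.Quotient.mk J b ∈ Q := by
  show Ideal.Quotient.mk Q (Ideal.Quotient.mk J b) = 0 ↔ _
  exact Ideal.Quotient.eq_zero_iff_mem

/-- Key extension lemma (⇐ direction): with a retraction `g` mod `Q`, any `B`-linear map from
`K = ker (B → B/J)` into a `B`-module killed by the preimage of `Q` extends to an `A`-derivation. -/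
theorem exists_derivation (J : Ideal B) (Q : Ideal (B ⧸ J))
    (g : ((B ⧸ J) ⧸ Q) ⊗[B] ((B ⧸ J) ⊗[B] Ω[B⁄A]) →ₗ[(B ⧸ J) ⧸ Q]
          ((B ⧸ J) ⧸ Q) ⊗[B] (RingHom.ker (algebraMap B (B ⧸ J))).Cotangent)
    (hg : g ∘ₗ LinearMap.baseChange ((B ⧸ J) ⧸ Q)
      (KaehlerDifferential.kerCotangentToTensor A B (B ⧸ J)) = LinearMap.id)
    {N : Type*} [AddCommGroup N] [Module B N] [Module A N] [IsScalarTower A B N]
    (hN : ∀ b : B, Ideal.Quotient.mk J b ∈ Q → ∀ y : N, b • y = 0)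
    (v₀ : RingHom.ker (algebraMap B (B ⧸ J)) →ₗ[B] N) :
    ∃ D : Derivation A B N, ∀ x : RingHom.ker (algebraMap B (B ⧸ J)), D x = v₀ x := by
  have hN' : ∀ b : B, algebraMap B ((B ⧸ J) ⧸ Q) b = 0 → ∀ y : N, b • y = 0 :=
    fun b hb => hN b ((algebraMap_CQ_eq_zero J Q b).mp hb)
  have hK : ∀ x : RingHom.ker (algebraMap B (B ⧸ J)), ∀ y : N, (x : B) • y = 0 := by
    intro x y
    apply hN
    have : Ideal.Quotient.mk J (x : B) = 0 := x.2
    rw [this]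
    exact Q.zero_mem
  let v : (RingHom.ker (algebraMap B (B ⧸ J))).Cotangent →ₗ[B] N :=
    Ideal.Cotangent.lift v₀ (fun x y => by
      have : x * y = (x : B) • y := rfl
      rw [this, map_smul, hK])
  obtain ⟨w, hw⟩ := exists_lift_surj (surj_CQ J Q) hN' v
  let ℓ : Ω[B⁄A] →ₗ[B] N :=
    w ∘ₗ (g.restrictScalars B) ∘ₗ (TensorProduct.mk B ((B ⧸ J) ⧸ Q) _ 1) ∘ₗ
      (TensorProduct.mk B (B ⧸ J) Ω[B⁄A] 1)
  refine ⟨ℓ.compDer (KaehlerDifferential.D A B), fun x => ?_⟩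
  show w (g ((1 : (B ⧸ J) ⧸ Q) ⊗ₜ[B] ((1 : B ⧸ J) ⊗ₜ[B] KaehlerDifferential.D A B (x : B)))) = v₀ x
  have h1 : (1 : (B ⧸ J) ⧸ Q) ⊗ₜ[B] ((1 : B ⧸ J) ⊗ₜ[B] KaehlerDifferential.D A B (x : B)) =
      LinearMap.baseChange ((B ⧸ J) ⧸ Q) (KaehlerDifferential.kerCotangentToTensor A B (B ⧸ J))
        (1 ⊗ₜ Ideal.toCotangent _ x) := by
    rw [LinearMap.baseChange_tmul, KaehlerDifferential.kerCotangentToTensor_toCotangent]
  rw [h1]
  have h2 := LinearMap.congr_fun hg ((1 : (B ⧸ J) ⧸ Q) ⊗ₜ[B] Ideal.toCotangent _ x)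
  rw [LinearMap.comp_apply, LinearMap.id_apply] at h2
  rw [h2, hw]
  exact Ideal.Cotangent.lift_toCotangent _ _ _


theorem lift_step_one (I J : Ideal B) (hB : CAlgX.IsAdicFormallySmooth A B I) (Q : Ideal (B ⧸ J))
    (g : ((B ⧸ J) ⧸ Q) ⊗[B] ((B ⧸ J) ⊗[B] Ω[B⁄A]) →ₗ[(B ⧸ J) ⧸ Q]
          ((B ⧸ J) ⧸ Q) ⊗[B] (RingHom.ker (algebraMap B (B ⧸ J))).Cotangent)
    (hg : g ∘ₗ LinearMap.baseChange ((B ⧸ J) ⧸ Q)
      (KaehlerDifferential.kerCotangentToTensor A B (B ⧸ J)) = LinearMap.id)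
    {A' A'' : Type u} [CommRing A'] [CommRing A''] [Algebra A A'] [Algebra A A'']
    (π : A' →ₐ[A] A'') (hπ : Function.Surjective π)
    (hsq : ∀ x y : A', π x = 0 → π y = 0 → x * y = 0)
    (ψ : (B ⧸ J) →ₐ[A] A'')
    (hk : ∃ k : ℕ, ∀ x ∈ (I.map (Ideal.Quotient.mk J)) ^ k, ψ x = 0)
    (h1 : ∀ c ∈ Q, ∀ a' : A', π a' = ψ c → ∀ y : A', π y = 0 → a' * y = 0) :
    ∃ χ : (B ⧸ J) →ₐ[A] A', π.comp χ = ψ := by
  obtain ⟨k, hk⟩ := hk
  obtain ⟨χB, hχB⟩ := lift_of_surjective hB π hπ hsq (ψ.comp (Ideal.Quotient.mkₐ A J))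
    ⟨k, fun x hx => by
      apply hk
      rw [← Ideal.map_pow]
      exact Ideal.mem_map_of_mem _ hx⟩
  have hχB' : ∀ b : B, π (χB b) = ψ (Ideal.Quotient.mk J b) := fun b => AlgHom.congr_fun hχB b
  letI : Algebra B A' := χB.toRingHom.toAlgebra
  haveI : IsScalarTower A B A' := IsScalarTower.of_algebraMap_eq (fun a => (χB.commutes a).symm)
  have halg : ∀ b : B, algebraMap B A' b = χB b := fun b => rfl
  let 𝔨 : Ideal A' := RingHom.ker π.toRingHom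
  have h𝔨 : 𝔨 ^ 2 = ⊥ := by
    rw [pow_two, eq_bot_iff, Ideal.mul_le]
    intro x hx y hy
    rw [Ideal.mem_bot]
    exact hsq x y hx hy
  have hN : ∀ b : B, Ideal.Quotient.mk J b ∈ Q → ∀ y : 𝔨, b • y = 0 := by
    intro b hb y
    apply Subtype.ext
    show b • (y : A') = 0
    rw [Algebra.smul_def, halg]
    exact h1 _ hb (χB b) (hχB' b) y y.2
  have hmem : ∀ x : RingHom.ker (algebraMap B (B ⧸ J)), χB x ∈ 𝔨 := by
    intro x
    show π (χB x) = 0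
    rw [hχB']
    have : Ideal.Quotient.mk J (x : B) = 0 := x.2
    rw [this, map_zero]
  let v₀ : RingHom.ker (algebraMap B (B ⧸ J)) →ₗ[B] 𝔨 :=
    { toFun := fun x => ⟨χB x, hmem x⟩
      map_add' := fun x y => by
        apply Subtype.ext
        simp
      map_smul' := fun b x => by
        apply Subtype.ext
        show χB (b • (x : B)) = b • (χB x)
        rw [smul_eq_mul, map_mul, Algebra.smul_def (R := B) (A := A'), halg] }
  obtain ⟨D, hD⟩ := exists_derivation J Q g hg hN v₀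
  let χ : B →ₐ[A] A' := liftOfDerivationToSquareZero 𝔨 h𝔨 (-D)
  have hχ : ∀ b : B, χ b = -(D b : A') + χB b := by
    intro b
    show ((-D) b : A') + algebraMap B A' b = _
    rw [halg]
    rfl
  have hker : ∀ b ∈ J, χ b = 0 := by
    intro b hb
    have hb' : b ∈ RingHom.ker (algebraMap B (B ⧸ J)) := by
      rw [RingHom.mem_ker]
      exact Ideal.Quotient.eq_zero_iff_mem.mpr hb
    have := congrArg (fun z : 𝔨 => (z : A')) (hD ⟨b, hb'⟩)
    simp only [v₀, LinearMap.coe_mk, AddHom.coe_mk] at this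
    rw [hχ, this]
    simp
  refine ⟨Ideal.Quotient.liftₐ J χ hker, ?_⟩
  ext c
  obtain ⟨b, rfl⟩ := Ideal.Quotient.mk_surjective c
  show π (Ideal.Quotient.liftₐ J χ hker (Ideal.Quotient.mk J b)) = ψ (Ideal.Quotient.mk J b)
  have : Ideal.Quotient.liftₐ J χ hker (Ideal.Quotient.mk J b) = χ b := by
    exact Ideal.Quotient.liftₐ_apply J χ hker _
  rw [this, hχ, map_add, map_neg, hχB']
  have : π (D b : A') = 0 := (D b).2
  rw [this, neg_zero, zero_add]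


theorem lift_step (I J : Ideal B) (hB : CAlgX.IsAdicFormallySmooth A B I) (Q : Ideal (B ⧸ J))
    (g : ((B ⧸ J) ⧸ Q) ⊗[B] ((B ⧸ J) ⊗[B] Ω[B⁄A]) →ₗ[(B ⧸ J) ⧸ Q]
          ((B ⧸ J) ⧸ Q) ⊗[B] (RingHom.ker (algebraMap B (B ⧸ J))).Cotangent)
    (hg : g ∘ₗ LinearMap.baseChange ((B ⧸ J) ⧸ Q)
      (KaehlerDifferential.kerCotangentToTensor A B (B ⧸ J)) = LinearMap.id)
    (N : ℕ) (hN1 : 1 ≤ N) :
    ∀ (A' A'' : Type u) [CommRing A'] [CommRing A''] [Algebra A A'] [Algebra A A'']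
    (π : A' →ₐ[A] A'') (_ : Function.Surjective π)
    (_ : ∀ x y : A', π x = 0 → π y = 0 → x * y = 0)
    (ψ : (B ⧸ J) →ₐ[A] A'')
    (_ : ∃ k : ℕ, ∀ x ∈ (I.map (Ideal.Quotient.mk J)) ^ k, ψ x = 0)
    (_ : ∀ c ∈ Q ^ N, ∀ a' : A', π a' = ψ c → ∀ y : A', π y = 0 → a' * y = 0),
    ∃ χ : (B ⧸ J) →ₐ[A] A', π.comp χ = ψ := by
  induction N, hN1 using Nat.le_induction with
  | base =>
    intro A' A'' _ _ _ _ π hπ hsq ψ hk h1
    rw [pow_one] at h1
    exact lift_step_one I J hB Q g hg π hπ hsq ψ hk h1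
  | succ N hN1 ih =>
    intro A' A'' _ _ _ _ π hπ hsq ψ hk hN
    let J'' : Ideal A' := Ideal.span {z | ∃ c ∈ Q, ∃ a' y : A', π a' = ψ c ∧ π y = 0 ∧ z = a' * y}
    have hJ''le : ∀ z ∈ J'', π z = 0 := by
      intro z hz
      have : J'' ≤ RingHom.ker π.toRingHom := by
        rw [Ideal.span_le]
        rintro z ⟨c, _, a', y, _, hy, rfl⟩
        show π (a' * y) = 0
        rw [map_mul, hy, mul_zero]
      exact this hz
    let π₁ : (A' ⧸ J'') →ₐ[A] A'' := Ideal.Quotient.liftₐ J'' π hJ''le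
    have hπ₁mk : ∀ a' : A', π₁ (Ideal.Quotient.mk J'' a') = π a' := fun a' =>
      Ideal.Quotient.liftₐ_apply J'' π hJ''le _
    have hπ₁ : Function.Surjective π₁ := by
      intro x
      obtain ⟨a', rfl⟩ := hπ x
      exact ⟨Ideal.Quotient.mk J'' a', hπ₁mk a'⟩
    have hsq₁ : ∀ x y : A' ⧸ J'', π₁ x = 0 → π₁ y = 0 → x * y = 0 := by
      intro x y hx hy
      obtain ⟨x, rfl⟩ := Ideal.Quotient.mk_surjective x
      obtain ⟨y, rfl⟩ := Ideal.Quotient.mk_surjective y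
      rw [hπ₁mk] at hx hy
      rw [← map_mul, hsq x y hx hy, map_zero]
    have h1₁ : ∀ c ∈ Q, ∀ a₁ : A' ⧸ J'', π₁ a₁ = ψ c → ∀ y₁ : A' ⧸ J'', π₁ y₁ = 0 →
        a₁ * y₁ = 0 := by
      intro c hc a₁ ha₁ y₁ hy₁
      obtain ⟨a', rfl⟩ := Ideal.Quotient.mk_surjective a₁
      obtain ⟨y, rfl⟩ := Ideal.Quotient.mk_surjective y₁
      rw [hπ₁mk] at ha₁ hy₁
      rw [← map_mul, Ideal.Quotient.eq_zero_iff_mem]
      exact Ideal.subset_span ⟨c, hc, a', y, ha₁, hy₁, rfl⟩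
    obtain ⟨ψ₁, hψ₁⟩ := lift_step_one I J hB Q g hg π₁ hπ₁ hsq₁ ψ hk h1₁
    have hψ₁' : ∀ c, π₁ (ψ₁ c) = ψ c := fun c => AlgHom.congr_fun hψ₁ c
    obtain ⟨k, hk⟩ := hk
    have hk' : ∃ k' : ℕ, ∀ x ∈ (I.map (Ideal.Quotient.mk J)) ^ k', ψ₁ x = 0 := by
      refine ⟨k + k, fun x hx => ?_⟩
      rw [pow_add] at hx
      refine Submodule.mul_induction_on hx ?_ ?_
      · intro m hm n hn
        rw [map_mul]
        apply hsq₁
        · rw [hψ₁', hk m hm]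
        · rw [hψ₁', hk n hn]
      · intro x y hx hy
        rw [map_add, hx, hy, add_zero]
    have hmk_surj : Function.Surjective (Ideal.Quotient.mkₐ A J'') :=
      Ideal.Quotient.mkₐ_surjective A J''
    have hsq' : ∀ x y : A', Ideal.Quotient.mkₐ A J'' x = 0 → Ideal.Quotient.mkₐ A J'' y = 0 →
        x * y = 0 := by
      intro x y hx hy
      have hx' : x ∈ J'' := Ideal.Quotient.eq_zero_iff_mem.mp hx
      have hy' : y ∈ J'' := Ideal.Quotient.eq_zero_iff_mem.mp hy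
      exact hsq x y (hJ''le x hx') (hJ''le y hy')
    have hN' : ∀ c ∈ Q ^ N, ∀ a' : A', Ideal.Quotient.mkₐ A J'' a' = ψ₁ c →
        ∀ z : A', Ideal.Quotient.mkₐ A J'' z = 0 → a' * z = 0 := by
      intro c hc a' ha' z hz
      have hz' : z ∈ J'' := Ideal.Quotient.eq_zero_iff_mem.mp hz
      have hπa' : π a' = ψ c := by
        rw [← hψ₁', ← ha']
        exact (hπ₁mk a').symm
      clear hz
      induction hz' using Submodule.span_induction with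
      | mem z hz =>
        obtain ⟨c'', hc'', a'', y, ha'', hy, rfl⟩ := hz
        rw [← mul_assoc]
        refine hN (c * c'') ?_ (a' * a'') ?_ y hy
        · rw [pow_succ]
          exact Ideal.mul_mem_mul hc hc''
        · rw [map_mul, map_mul, hπa', ha'']
      | zero => rw [mul_zero]
      | add x y _ _ hx hy => rw [mul_add, hx, hy, add_zero]
      | smul r x _ hx => rw [smul_eq_mul, mul_left_comm, hx, mul_zero]
    obtain ⟨χ, hχ⟩ := ih A' (A' ⧸ J'') (Ideal.Quotient.mkₐ A J'') hmk_surj hsq' ψ₁ hk' hN'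
    refine ⟨χ, ?_⟩
    ext c
    have h2 : Ideal.Quotient.mk J'' (χ c) = ψ₁ c := AlgHom.congr_fun hχ c
    show π (χ c) = ψ c
    rw [← hπ₁mk, h2, hψ₁']


theorem backward (I J : Ideal B) (hB : CAlgX.IsAdicFormallySmooth A B I) (Q : Ideal (B ⧸ J))
    (hQ' : ∃ m : ℕ, Q ^ m ≤ I.map (Ideal.Quotient.mk J))
    (g : ((B ⧸ J) ⧸ Q) ⊗[B] ((B ⧸ J) ⊗[B] Ω[B⁄A]) →ₗ[(B ⧸ J) ⧸ Q]
          ((B ⧸ J) ⧸ Q) ⊗[B] (RingHom.ker (algebraMap B (B ⧸ J))).Cotangent)
    (hg : g ∘ₗ LinearMap.baseChange ((B ⧸ J) ⧸ Q)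
      (KaehlerDifferential.kerCotangentToTensor A B (B ⧸ J)) = LinearMap.id) :
    CAlgX.IsAdicFormallySmooth A (B ⧸ J) (I.map (Ideal.Quotient.mk J)) := by
  intro A' _ _ J' hJ' ψ hk
  obtain ⟨m, hm⟩ := hQ'
  obtain ⟨k, hk⟩ := hk
  have hsq : ∀ x y : A', Ideal.Quotient.mkₐ A J' x = 0 → Ideal.Quotient.mkₐ A J' y = 0 →
      x * y = 0 := by
    intro x y hx hy
    have hx' : x ∈ J' := Ideal.Quotient.eq_zero_iff_mem.mp hx
    have hy' : y ∈ J' := Ideal.Quotient.eq_zero_iff_mem.mp hy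
    have : x * y ∈ J' ^ 2 := by
      rw [pow_two]
      exact Ideal.mul_mem_mul hx' hy'
    rw [hJ'] at this
    exact this
  refine lift_step I J hB Q g hg (m * k + 1) (Nat.le_add_left 1 _) A' (A' ⧸ J')
    (Ideal.Quotient.mkₐ A J') (Ideal.Quotient.mkₐ_surjective A J') hsq ψ ⟨k, hk⟩ ?_
  intro c hc a' ha' y hy
  have hc' : c ∈ (I.map (Ideal.Quotient.mk J)) ^ k := by
    have h1 : Q ^ (m * k + 1) ≤ Q ^ (m * k) := Ideal.pow_le_pow_right (Nat.le_succ _)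
    have h2 : Q ^ (m * k) ≤ (I.map (Ideal.Quotient.mk J)) ^ k := by
      rw [pow_mul]
      exact Ideal.pow_right_mono hm k
    exact h2 (h1 hc)
  apply hsq a' y _ hy
  rw [ha', hk c hc']

/-- Artin–Rees corollary for ideals. -/
theorem artin_rees {B : Type*} [CommRing B] [IsNoetherianRing B] (Qt J : Ideal B) :
    ∃ k : ℕ, Qt ^ (k + 1) ⊓ J ≤ Qt * J := by
  obtain ⟨k, hk⟩ := Ideal.exists_pow_inf_eq_pow_smul Qt (M := B) J
  refine ⟨k, ?_⟩
  have h := hk (k + 1) (Nat.le_succ k)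
  rw [Nat.add_sub_cancel_left, pow_one] at h
  intro x hx
  have hx' : x ∈ (Qt ^ (k + 1) • (⊤ : Submodule B B) ⊓ J : Submodule B B) := by
    refine ⟨?_, hx.2⟩
    have : (Qt ^ (k + 1) • (⊤ : Submodule B B)) = Qt ^ (k+1) := by
      simp
    rw [this]
    exact hx.1
  rw [h] at hx'
  have : (Qt • (Qt ^ k • (⊤ : Submodule B B) ⊓ J) : Submodule B B) ≤ Qt • (J : Submodule B B) :=
    Submodule.smul_mono le_rfl inf_le_right
  exact this hx'


/-- decomposition of an element whose class lies in `Q^(k+1)`. -/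
theorem decomp (J : Ideal B) (Q : Ideal (B ⧸ J)) (n : ℕ) (b : B)
    (hb : Ideal.Quotient.mk J b ∈ Q ^ n) :
    ∃ j ∈ J, ∃ q ∈ (Q.comap (Ideal.Quotient.mk J)) ^ n, b = j + q := by
  have h1 : Q ^ n = ((Q.comap (Ideal.Quotient.mk J)) ^ n).map (Ideal.Quotient.mk J) := by
    rw [Ideal.map_pow, Ideal.map_comap_of_surjective _ Ideal.Quotient.mk_surjective]
  rw [h1, Ideal.mem_map_iff_of_surjective _ Ideal.Quotient.mk_surjective] at hb
  obtain ⟨q, hq, hqb⟩ := hb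
  refine ⟨b - q, ?_, q, hq, by ring⟩
  rw [← Ideal.Quotient.eq_zero_iff_mem, map_sub, hqb, sub_self]


/-- preimage of `Q` in `B`. -/
def Qt (J : Ideal B) (Q : Ideal (B ⧸ J)) : Ideal B := Q.comap (Ideal.Quotient.mk J)

theorem mem_Qt (J : Ideal B) (Q : Ideal (B ⧸ J)) (b : B) :
    b ∈ Qt J Q ↔ Ideal.Quotient.mk J b ∈ Q := Iff.rfl

theorem le_Qt (J : Ideal B) (Q : Ideal (B ⧸ J)) : J ≤ Qt J Q := fun x hx => by
  rw [mem_Qt, Ideal.Quotient.eq_zero_iff_mem.mpr hx]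
  exact Q.zero_mem

/-- the ideal defining the test extension. -/
def bb (J : Ideal B) (Q : Ideal (B ⧸ J)) (k : ℕ) : Ideal B := Qt J Q * J ⊔ Qt J Q ^ (k + 1)

theorem mul_le_bb (J : Ideal B) (Q : Ideal (B ⧸ J)) (k : ℕ) : Qt J Q * J ≤ bb J Q k := le_sup_left
theorem pow_le_bb (J : Ideal B) (Q : Ideal (B ⧸ J)) (k : ℕ) : Qt J Q ^ (k + 1) ≤ bb J Q k :=
  le_sup_right

variable (A) in
noncomputable def phiMap (J : Ideal B) (Q : Ideal (B ⧸ J)) (k : ℕ) :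
    B →ₐ[A] (B ⧸ J) ⧸ Q ^ (k + 1) :=
  (Ideal.Quotient.mkₐ A (Q ^ (k + 1))).comp (Ideal.Quotient.mkₐ A J)

theorem phiMap_apply (J : Ideal B) (Q : Ideal (B ⧸ J)) (k : ℕ) (b : B) :
    phiMap A J Q k b = Ideal.Quotient.mk (Q ^ (k + 1)) (Ideal.Quotient.mk J b) := rfl

theorem phiMap_bb (J : Ideal B) (Q : Ideal (B ⧸ J)) (k : ℕ) :
    ∀ a ∈ bb J Q k, phiMap A J Q k a = 0 := by
  intro a ha
  have hle : bb J Q k ≤ RingHom.ker (phiMap A J Q k).toRingHom := by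
    apply sup_le
    · intro x hx
      have hxJ : x ∈ J := Ideal.mul_le_right hx
      show phiMap A J Q k x = 0
      rw [phiMap_apply, Ideal.Quotient.eq_zero_iff_mem.mpr hxJ, map_zero]
    · intro x hx
      show phiMap A J Q k x = 0
      rw [phiMap_apply, Ideal.Quotient.eq_zero_iff_mem]
      have : Ideal.Quotient.mk J x ∈ (Qt J Q ^ (k + 1)).map (Ideal.Quotient.mk J) :=
        Ideal.mem_map_of_mem _ hx
      rw [Ideal.map_pow] at this
      exact Ideal.pow_right_mono Ideal.map_comap_le _ this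
  exact hle ha

variable (A) in
noncomputable def piMap (J : Ideal B) (Q : Ideal (B ⧸ J)) (k : ℕ) :
    (B ⧸ bb J Q k) →ₐ[A] (B ⧸ J) ⧸ Q ^ (k + 1) :=
  Ideal.Quotient.liftₐ (bb J Q k) (phiMap A J Q k) (phiMap_bb J Q k)

theorem piMap_mk (J : Ideal B) (Q : Ideal (B ⧸ J)) (k : ℕ) (b : B) :
    piMap A J Q k (Ideal.Quotient.mk (bb J Q k) b) =
      Ideal.Quotient.mk (Q ^ (k + 1)) (Ideal.Quotient.mk J b) :=
  Ideal.Quotient.liftₐ_apply (bb J Q k) (phiMap A J Q k) (phiMap_bb J Q k) _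

theorem piMap_surjective (J : Ideal B) (Q : Ideal (B ⧸ J)) (k : ℕ) :
    Function.Surjective (piMap A J Q k) := by
  intro c
  obtain ⟨c', rfl⟩ := Ideal.Quotient.mk_surjective c
  obtain ⟨b, rfl⟩ := Ideal.Quotient.mk_surjective c'
  exact ⟨Ideal.Quotient.mk (bb J Q k) b, piMap_mk J Q k b⟩

theorem piMap_ker (J : Ideal B) (Q : Ideal (B ⧸ J)) (k : ℕ) (b : B)
    (hb : piMap A J Q k (Ideal.Quotient.mk (bb J Q k) b) = 0) :
    ∃ j ∈ J, ∃ q ∈ Qt J Q ^ (k + 1), b = j + q := by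
  rw [piMap_mk, Ideal.Quotient.eq_zero_iff_mem] at hb
  exact decomp J Q (k + 1) b hb

theorem piMap_sq (J : Ideal B) (Q : Ideal (B ⧸ J)) (k : ℕ) (x y : B ⧸ bb J Q k)
    (hx : piMap A J Q k x = 0) (hy : piMap A J Q k y = 0) : x * y = 0 := by
  have hQtk_le : Qt J Q ^ (k + 1) ≤ Qt J Q := Ideal.pow_le_self (Nat.succ_ne_zero k)
  obtain ⟨b, rfl⟩ := Ideal.Quotient.mk_surjective x
  obtain ⟨b', rfl⟩ := Ideal.Quotient.mk_surjective y
  obtain ⟨j, hj, q, hq, rfl⟩ := piMap_ker J Q k b hx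
  obtain ⟨j', hj', q', hq', rfl⟩ := piMap_ker J Q k b' hy
  rw [← map_mul, Ideal.Quotient.eq_zero_iff_mem]
  have e : (j + q) * (j' + q') = (j * j' + q' * j + q * j') + q * q' := by ring
  rw [e]
  refine (bb J Q k).add_mem (mul_le_bb J Q k ?_) (pow_le_bb J Q k (Ideal.mul_mem_right _ _ hq))
  refine (Qt J Q * J).add_mem ((Qt J Q * J).add_mem ?_ ?_) ?_
  · exact Ideal.mul_mem_mul (le_Qt J Q hj) hj'
  · exact Ideal.mul_mem_mul (hQtk_le hq') hj
  · exact Ideal.mul_mem_mul (hQtk_le hq) hj'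


theorem exists_chi (I J : Ideal B) (Q : Ideal (B ⧸ J))
    (hQ : ∃ n : ℕ, (I.map (Ideal.Quotient.mk J)) ^ n ≤ Q)
    (hC : CAlgX.IsAdicFormallySmooth A (B ⧸ J) (I.map (Ideal.Quotient.mk J))) (k : ℕ) :
    ∃ χ : (B ⧸ J) →ₐ[A] B ⧸ bb J Q k,
      ∀ c, piMap A J Q k (χ c) = Ideal.Quotient.mk (Q ^ (k + 1)) c := by
  obtain ⟨n, hn⟩ := hQ
  obtain ⟨χ, hχ⟩ := lift_of_surjective hC (piMap A J Q k) (piMap_surjective J Q k)
    (piMap_sq J Q k) (Ideal.Quotient.mkₐ A (Q ^ (k + 1)))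
    ⟨n * (k + 1), fun x hx => by
      rw [pow_mul] at hx
      exact Ideal.Quotient.eq_zero_iff_mem.mpr (Ideal.pow_right_mono hn _ hx)⟩
  exact ⟨χ, fun c => AlgHom.congr_fun hχ c⟩

variable (A) in
/-- kernel of `piMap`. -/
noncomputable def kk (J : Ideal B) (Q : Ideal (B ⧸ J)) (k : ℕ) : Ideal (B ⧸ bb J Q k) :=
  RingHom.ker (piMap A J Q k).toRingHom

theorem mem_kk (J : Ideal B) (Q : Ideal (B ⧸ J)) (k : ℕ) (x : B ⧸ bb J Q k) :
    x ∈ kk A J Q k ↔ piMap A J Q k x = 0 := Iff.rfl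

theorem kk_sq (J : Ideal B) (Q : Ideal (B ⧸ J)) (k : ℕ) : kk A J Q k ^ 2 = ⊥ := by
  rw [pow_two, eq_bot_iff, Ideal.mul_le]
  intro x hx y hy
  rw [Ideal.mem_bot]
  exact piMap_sq J Q k x y hx hy

theorem mem_K_iff (J : Ideal B) (x : B) : x ∈ RingHom.ker (algebraMap B (B ⧸ J)) ↔ x ∈ J := by
  rw [RingHom.mem_ker]
  exact Ideal.Quotient.eq_zero_iff_mem

theorem mk_mem_kk (J : Ideal B) (Q : Ideal (B ⧸ J)) (k : ℕ)
    (x : RingHom.ker (algebraMap B (B ⧸ J))) :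
    Ideal.Quotient.mk (bb J Q k) (x : B) ∈ kk A J Q k := by
  rw [mem_kk, piMap_mk]
  have : Ideal.Quotient.mk J (x : B) = 0 := x.2
  rw [this, map_zero]

variable (A) in
/-- the map `K → kk`. -/
noncomputable def v0 (J : Ideal B) (Q : Ideal (B ⧸ J)) (k : ℕ) :
    RingHom.ker (algebraMap B (B ⧸ J)) →ₗ[B] kk A J Q k where
  toFun := fun x => ⟨Ideal.Quotient.mk (bb J Q k) (x : B), mk_mem_kk J Q k x⟩
  map_add' := fun x y => by
    apply Subtype.ext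
    simp
  map_smul' := fun b x => by
    apply Subtype.ext
    show Ideal.Quotient.mk (bb J Q k) (b • (x : B)) = b • Ideal.Quotient.mk (bb J Q k) (x : B)
    rw [smul_eq_mul, map_mul, Algebra.smul_def]
    rfl

theorem v0_apply (J : Ideal B) (Q : Ideal (B ⧸ J)) (k : ℕ)
    (x : RingHom.ker (algebraMap B (B ⧸ J))) :
    ((v0 A J Q k x : kk A J Q k) : B ⧸ bb J Q k) = Ideal.Quotient.mk (bb J Q k) (x : B) := rfl

theorem v0_mul (J : Ideal B) (Q : Ideal (B ⧸ J)) (k : ℕ)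
    (x y : RingHom.ker (algebraMap B (B ⧸ J))) : v0 A J Q k (x * y) = 0 := by
  apply Subtype.ext
  show Ideal.Quotient.mk (bb J Q k) ((x : B) * (y : B)) = 0
  rw [Ideal.Quotient.eq_zero_iff_mem]
  exact mul_le_bb J Q k (Ideal.mul_mem_mul (le_Qt J Q ((mem_K_iff J _).mp x.2))
    ((mem_K_iff J _).mp y.2))

variable (A) in
noncomputable def vv (J : Ideal B) (Q : Ideal (B ⧸ J)) (k : ℕ) :
    (RingHom.ker (algebraMap B (B ⧸ J))).Cotangent →ₗ[B] kk A J Q k :=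
  Ideal.Cotangent.lift (v0 A J Q k) (v0_mul J Q k)

theorem vv_toCotangent (J : Ideal B) (Q : Ideal (B ⧸ J)) (k : ℕ)
    (x : RingHom.ker (algebraMap B (B ⧸ J))) :
    vv A J Q k (Ideal.toCotangent _ x) = v0 A J Q k x :=
  Ideal.Cotangent.lift_toCotangent _ _ _

theorem kk_torsion (J : Ideal B) (Q : Ideal (B ⧸ J)) (k : ℕ) (b : B)
    (hb : algebraMap B ((B ⧸ J) ⧸ Q) b = 0) (y : kk A J Q k) : b • y = 0 := by
  have hbQt : b ∈ Qt J Q := (algebraMap_CQ_eq_zero J Q b).mp hb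
  obtain ⟨y, hy⟩ := y
  obtain ⟨b', rfl⟩ := Ideal.Quotient.mk_surjective y
  obtain ⟨j, hj, q, hq, rfl⟩ := piMap_ker J Q k b' hy
  apply Subtype.ext
  show b • Ideal.Quotient.mk (bb J Q k) (j + q) = 0
  rw [Algebra.smul_def]
  show Ideal.Quotient.mk (bb J Q k) b * Ideal.Quotient.mk (bb J Q k) (j + q) = 0
  rw [← map_mul, Ideal.Quotient.eq_zero_iff_mem, mul_add]
  exact (bb J Q k).add_mem (mul_le_bb J Q k (Ideal.mul_mem_mul hbQt hj))
    (pow_le_bb J Q k (Ideal.mul_mem_left _ _ hq))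


/-- `1 ⊗ [x] = 0` for `x ∈ Qt * J`. -/
theorem one_tmul_eq_zero (J : Ideal B) (Q : Ideal (B ⧸ J)) (x : B) (hx : x ∈ Qt J Q * J) :
    ∃ hxK : x ∈ RingHom.ker (algebraMap B (B ⧸ J)),
      (1 : (B ⧸ J) ⧸ Q) ⊗ₜ[B] Ideal.toCotangent _ ⟨x, hxK⟩ = 0 := by
  refine Submodule.mul_induction_on hx ?_ ?_
  · intro q hq j hj
    have hjK : j ∈ RingHom.ker (algebraMap B (B ⧸ J)) := (mem_K_iff J j).mpr hj
    refine ⟨Ideal.mul_mem_left _ _ hjK, ?_⟩
    have h1 : (⟨q * j, Ideal.mul_mem_left _ _ hjK⟩ : RingHom.ker (algebraMap B (B ⧸ J))) =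
        q • ⟨j, hjK⟩ := rfl
    have h2 : (q • (1 : (B ⧸ J) ⧸ Q)) = 0 :=
      (Algebra.algebraMap_eq_smul_one q).symm.trans ((algebraMap_CQ_eq_zero J Q q).mpr hq)
    rw [h1, map_smul, TensorProduct.tmul_smul, TensorProduct.smul_tmul', h2,
      TensorProduct.zero_tmul]
  · rintro x y ⟨hx, hx0⟩ ⟨hy, hy0⟩
    refine ⟨Ideal.add_mem _ hx hy, ?_⟩
    have h1 : (⟨x + y, Ideal.add_mem _ hx hy⟩ : RingHom.ker (algebraMap B (B ⧸ J))) =
        ⟨x, hx⟩ + ⟨y, hy⟩ := rfl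
    rw [h1, map_add, TensorProduct.tmul_add, hx0, hy0, add_zero]

theorem exists_iota (J : Ideal B) (Q : Ideal (B ⧸ J)) (k : ℕ)
    (hAR : Qt J Q ^ (k + 1) ⊓ J ≤ Qt J Q * J) :
    ∃ θ : kk A J Q k ≃ₗ[B] ((B ⧸ J) ⧸ Q) ⊗[B] (RingHom.ker (algebraMap B (B ⧸ J))).Cotangent,
      ∀ x : RingHom.ker (algebraMap B (B ⧸ J)),
        θ (v0 A J Q k x) = 1 ⊗ₜ Ideal.toCotangent _ x := by
  obtain ⟨ι, hι⟩ := exists_lift_surj (surj_CQ J Q) (kk_torsion (A := A) J Q k) (vv A J Q k)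
  have hιx : ∀ x : RingHom.ker (algebraMap B (B ⧸ J)),
      ι (1 ⊗ₜ Ideal.toCotangent _ x) = v0 A J Q k x := fun x => by
    rw [hι, vv_toCotangent]
  have hinj : Function.Injective ι := by
    rw [injective_iff_map_eq_zero]
    intro t ht
    obtain ⟨m, rfl⟩ := exists_one_tmul (surj_CQ J Q) t
    obtain ⟨x, rfl⟩ := Ideal.toCotangent_surjective _ m
    rw [hιx] at ht
    have hx0 : Ideal.Quotient.mk (bb J Q k) (x : B) = 0 := congrArg Subtype.val ht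
    rw [Ideal.Quotient.eq_zero_iff_mem] at hx0
    obtain ⟨a, ha, q, hq, haq⟩ := Submodule.mem_sup.mp hx0
    have hxJ : (x : B) ∈ J := (mem_K_iff J _).mp x.2
    have haJ : a ∈ J := Ideal.mul_le_right ha
    have hqJ : q ∈ J := by
      have : q = (x : B) - a := by rw [← haq]; ring
      rw [this]
      exact J.sub_mem hxJ haJ
    have hq' : q ∈ Qt J Q * J := hAR ⟨hq, hqJ⟩
    have hx' : (x : B) ∈ Qt J Q * J := by
      rw [← haq]
      exact Ideal.add_mem _ ha hq'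
    obtain ⟨_, h0⟩ := one_tmul_eq_zero J Q (x : B) hx'
    exact h0
  have hsurj : Function.Surjective ι := by
    rintro ⟨y, hy⟩
    obtain ⟨b', rfl⟩ := Ideal.Quotient.mk_surjective y
    obtain ⟨j, hj, q, hq, rfl⟩ := piMap_ker J Q k b' hy
    refine ⟨1 ⊗ₜ Ideal.toCotangent _ ⟨j, (mem_K_iff J j).mpr hj⟩, ?_⟩
    rw [hιx]
    apply Subtype.ext
    show Ideal.Quotient.mk (bb J Q k) j = Ideal.Quotient.mk (bb J Q k) (j + q)
    rw [map_add, Ideal.Quotient.eq_zero_iff_mem.mpr (pow_le_bb J Q k hq), add_zero]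
  refine ⟨(LinearEquiv.ofBijective ι ⟨hinj, hsurj⟩).symm, fun x => ?_⟩
  rw [LinearEquiv.symm_apply_eq]
  exact (hιx x).symm


theorem exists_der_kk (I J : Ideal B) (Q : Ideal (B ⧸ J))
    (hQ : ∃ n : ℕ, (I.map (Ideal.Quotient.mk J)) ^ n ≤ Q)
    (hC : CAlgX.IsAdicFormallySmooth A (B ⧸ J) (I.map (Ideal.Quotient.mk J))) (k : ℕ) :
    ∃ D : Derivation A B (kk A J Q k), ∀ x : RingHom.ker (algebraMap B (B ⧸ J)),
      D x = v0 A J Q k x := by
  obtain ⟨χ, hχ⟩ := exists_chi I J Q hQ hC k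
  let χ' : B →ₐ[A] B ⧸ bb J Q k := χ.comp (Ideal.Quotient.mkₐ A J)
  have e : (Ideal.Quotient.mkₐ A (kk A J Q k)).comp χ' =
      IsScalarTower.toAlgHom A B ((B ⧸ bb J Q k) ⧸ kk A J Q k) := by
    ext b
    show Ideal.Quotient.mk (kk A J Q k) (χ' b) =
      Ideal.Quotient.mk (kk A J Q k) (Ideal.Quotient.mk (bb J Q k) b)
    rw [Ideal.Quotient.eq, mem_kk, map_sub, piMap_mk]
    show piMap A J Q k (χ (Ideal.Quotient.mk J b)) - _ = 0
    rw [hχ, sub_self]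
  let D₀ : Derivation A B (kk A J Q k) := derivationToSquareZeroOfLift _ (kk_sq J Q k) χ' e
  refine ⟨-D₀, fun x => ?_⟩
  apply Subtype.ext
  have h1 : ((D₀ x : kk A J Q k) : B ⧸ bb J Q k) = χ' x - algebraMap B (B ⧸ bb J Q k) x :=
    derivationToSquareZeroOfLift_apply _ (kk_sq J Q k) χ' e x
  have h2 : χ' (x : B) = 0 := by
    show χ (Ideal.Quotient.mk J (x : B)) = 0
    have : Ideal.Quotient.mk J (x : B) = 0 := x.2
    rw [this, map_zero]
  show -((D₀ x : kk A J Q k) : B ⧸ bb J Q k) = _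
  rw [h1, h2, zero_sub, neg_neg, v0_apply]
  rfl

theorem forward [IsNoetherianRing B] (I J : Ideal B) (Q : Ideal (B ⧸ J))
    (hQ : ∃ n : ℕ, (I.map (Ideal.Quotient.mk J)) ^ n ≤ Q)
    (hC : CAlgX.IsAdicFormallySmooth A (B ⧸ J) (I.map (Ideal.Quotient.mk J))) :
    ∃ g : ((B ⧸ J) ⧸ Q) ⊗[B] ((B ⧸ J) ⊗[B] Ω[B⁄A]) →ₗ[(B ⧸ J) ⧸ Q]
          ((B ⧸ J) ⧸ Q) ⊗[B] (RingHom.ker (algebraMap B (B ⧸ J))).Cotangent,
        g ∘ₗ LinearMap.baseChange ((B ⧸ J) ⧸ Q)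
          (KaehlerDifferential.kerCotangentToTensor A B (B ⧸ J)) = LinearMap.id := by
  obtain ⟨k, hAR⟩ := artin_rees (Qt J Q) J
  obtain ⟨D₁, hD₁⟩ := exists_der_kk I J Q hQ hC k
  obtain ⟨θ, hθ⟩ := exists_iota (A := A) J Q k hAR
  let D : Derivation A B (((B ⧸ J) ⧸ Q) ⊗[B] (RingHom.ker (algebraMap B (B ⧸ J))).Cotangent) :=
    θ.toLinearMap.compDer D₁
  have hD : ∀ x : RingHom.ker (algebraMap B (B ⧸ J)), D x = 1 ⊗ₜ Ideal.toCotangent _ x := by
    intro x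
    show θ (D₁ x) = _
    rw [hD₁, hθ]
  let ℓ : (B ⧸ J) ⊗[B] Ω[B⁄A] →ₗ[B ⧸ J]
      ((B ⧸ J) ⧸ Q) ⊗[B] (RingHom.ker (algebraMap B (B ⧸ J))).Cotangent :=
    (D.liftKaehlerDifferential).liftBaseChange (B ⧸ J)
  let g : ((B ⧸ J) ⧸ Q) ⊗[B] ((B ⧸ J) ⊗[B] Ω[B⁄A]) →ₗ[(B ⧸ J) ⧸ Q]
          ((B ⧸ J) ⧸ Q) ⊗[B] (RingHom.ker (algebraMap B (B ⧸ J))).Cotangent :=
    (ℓ.restrictScalars B).liftBaseChange ((B ⧸ J) ⧸ Q)
  refine ⟨g, ?_⟩
  apply TensorProduct.AlgebraTensorModule.curry_injective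
  ext m
  obtain ⟨x, rfl⟩ := Ideal.toCotangent_surjective _ m
  show g (LinearMap.baseChange ((B ⧸ J) ⧸ Q) (kerCotangentToTensor A B (B ⧸ J))
    (1 ⊗ₜ Ideal.toCotangent _ x)) = 1 ⊗ₜ Ideal.toCotangent _ x
  rw [LinearMap.baseChange_tmul, kerCotangentToTensor_toCotangent]
  show (1 : (B ⧸ J) ⧸ Q) • ℓ (1 ⊗ₜ KaehlerDifferential.D A B (x : B)) = _
  rw [one_smul]
  show (1 : B ⧸ J) • D.liftKaehlerDifferential (KaehlerDifferential.D A B (x : B)) = _
  rw [one_smul, Derivation.liftKaehlerDifferential_comp_D, hD]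

end Helpers

/-- In the Noetherian adic case, which the published statement itself singles out, let A → B be a ring
homomorphism with B Noetherian, I and J ideals of B, and suppose B, with the I-adic topology, is
formally smooth over the discrete ring A. Put C = B/J with the quotient (IC-adic) topology and let Q
be an ideal of definition of C, i.e. an ideal containing a power of IC and a power of which lies in
IC. Then C is formally smooth over A for the IC-adic topology if and only if the C/Q-linear map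
(J/J²) ⊗ (C/Q) → Ω_{B/A} ⊗_B (C/Q), obtained by base change from the conormal map J/J² → Ω_{B/A} ⊗_B
C, x ↦ 1 ⊗ dx, has a C/Q-linear left inverse (is an isomorphism onto a direct summand). Here J is
written as the kernel of B → C and the tensor products are taken over B, which for these C-modules
is the same as over C. (The published statement allows A to be any topological ring with A → B
continuous; this row takes A discrete.) -/
theorem result {A B : Type u} [CommRing A]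
    [CommRing B] [Algebra A B] [IsNoetherianRing B] (I J : Ideal B) (hB : CAlgX.IsAdicFormallySmooth A B I)
    (Q : Ideal (B ⧸ J)) (hQ : ∃ n : ℕ, (I.map (Ideal.Quotient.mk J)) ^ n ≤ Q)
    (hQ' : ∃ m : ℕ, Q ^ m ≤ I.map (Ideal.Quotient.mk J)) :
    CAlgX.IsAdicFormallySmooth A (B ⧸ J) (I.map (Ideal.Quotient.mk J)) ↔
      ∃ g : ((B ⧸ J) ⧸ Q) ⊗[B] ((B ⧸ J) ⊗[B] Ω[B⁄A]) →ₗ[(B ⧸ J) ⧸ Q]
          ((B ⧸ J) ⧸ Q) ⊗[B] (RingHom.ker (algebraMap B (B ⧸ J))).Cotangent,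
        g ∘ₗ LinearMap.baseChange ((B ⧸ J) ⧸ Q) (KaehlerDifferential.kerCotangentToTensor A B (B ⧸ J)) =
          LinearMap.id := by
  constructor
  · intro hC
    exact forward I J Q hQ hC
  · rintro ⟨g, hg⟩
    exact backward I J hB Q hQ' g hg

end Groth.Agent.S12136
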