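import Groth.Statements.S8296
import Groth.Agent.Lib.H60RelCone

set_option autoImplicit false
universe u
open CategoryTheory CategoryTheory.Limits AlgebraicGeometry Opposite TopologicalSpace
open scoped HomogeneousIdeal
noncomputable section
open EGA2

namespace Groth.Agent.S8296

open Groth.Agent.Lib.H60RelCone

section Aux

variable {Y : Scheme.{u}} (𝒮 : RelProj.QCGrAlg Y)
  (h0 : RelCone.StrZeroBij 𝒮) (aug : 𝒮.toQCAlg ⟶ RelSpec.QCAlg.unit Y)
  (haug : RelCone.IsAugmentation 𝒮 aug)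

lemma aug_str (U : Y.Opens) (r : Γ(Y, U)) :
    (aug.hom.app (op U)).hom ((𝒮.str.app (op U)).hom r) = r := by
  have h := aug.comm
  have h2 := congrArg (fun f ↦ (f.app (op U)).hom r) h
  exact h2

include haug in
lemma aug_eq_zero_of_mem_irrelevant (U : Y.Opens) (hU : IsAffineOpen U)
    (x : 𝒮.presheaf.obj (op U)) (hx : x ∈ (HomogeneousIdeal.irrelevant (𝒮.deg U hU)).toIdeal) :
    (aug.hom.app (op U)).hom x = 0 := by
  classical
  rw [← DirectSum.sum_support_decompose (𝒮.deg U hU) x, map_sum]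
  refine Finset.sum_eq_zero fun i _ ↦ ?_
  rcases Nat.eq_zero_or_pos i with h | h
  · subst h
    have : ((DirectSum.decompose (𝒮.deg U hU) x 0 : 𝒮.deg U hU 0) : 𝒮.presheaf.obj (op U)) = 0 := by
      rw [HomogeneousIdeal.mem_iff, HomogeneousIdeal.mem_irrelevant_iff,
        GradedRing.proj_apply] at hx
      exact hx
    rw [this, map_zero]
  · obtain ⟨d, rfl⟩ : ∃ d, i = d + 1 := ⟨i - 1, by omega⟩
    exact haug U hU d _ (SetLike.coe_mem _)

include h0 haug in
lemma mem_irrelevant_of_aug_eq_zero (U : Y.Opens) (hU : IsAffineOpen U)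
    (x : 𝒮.presheaf.obj (op U)) (hx : (aug.hom.app (op U)).hom x = 0) :
    x ∈ (HomogeneousIdeal.irrelevant (𝒮.deg U hU)).toIdeal := by
  classical
  rw [HomogeneousIdeal.mem_iff, HomogeneousIdeal.mem_irrelevant_iff, GradedRing.proj_apply]
  set x0 : 𝒮.presheaf.obj (op U) :=
    ((DirectSum.decompose (𝒮.deg U hU) x 0 : 𝒮.deg U hU 0) : 𝒮.presheaf.obj (op U)) with hx0
  have hirr : x - x0 ∈ (HomogeneousIdeal.irrelevant (𝒮.deg U hU)).toIdeal := by
    rw [HomogeneousIdeal.mem_iff, HomogeneousIdeal.mem_irrelevant_iff, GradedRing.proj_apply,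
      DirectSum.decompose_sub, DirectSum.sub_apply, AddSubgroupClass.coe_sub,
      DirectSum.decompose_of_mem_same _ (SetLike.coe_mem _), sub_self]
  have h1 := aug_eq_zero_of_mem_irrelevant 𝒮 aug haug U hU _ hirr
  rw [map_sub, hx, zero_sub, neg_eq_zero] at h1
  obtain ⟨r, hr⟩ := (h0 U hU).2 (DirectSum.decompose (𝒮.deg U hU) x 0)
  have hr' : (𝒮.str.app (op U)).hom r = x0 := congrArg Subtype.val hr
  rw [← hr', aug_str] at h1
  rw [← hr']
  subst h1
  exact map_zero _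

lemma aug_surjective (U : Y.Opens) : Function.Surjective (aug.hom.app (op U)).hom :=
  fun r ↦ ⟨_, aug_str 𝒮 aug U r⟩

variable (ε : Y ⟶ 𝒮.toQCAlg.spec) (hε : RelCone.IsVertex 𝒮 aug ε)

include h0 haug hε in
/-- A chart point is in the vertex section iff it contains the irrelevant ideal. -/
lemma ι_mem_range_iff (U : Y.Opens) (hU : IsAffineOpen U) (y : Spec (𝒮.presheaf.obj (op U))) :
    (𝒮.toQCAlg.ι U hU).base y ∈ Set.range ε.base ↔ y ∉ RelCone.vertexCompl (𝒮.deg U hU) := by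
  rw [mem_vertexCompl_iff]
  push Not
  have hchart : ∀ t : Spec (Y.presheaf.obj (op U)),
      ε.base (hU.fromSpec.base t) =
        (𝒮.toQCAlg.ι U hU).base ((Spec.map (aug.hom.app (op U))).base t) := by
    intro t
    rw [← Scheme.Hom.comp_apply, ← Scheme.Hom.comp_apply, hε.chart U hU]
    rfl
  constructor
  · rintro ⟨s, hs⟩ f hf
    have hsU : s ∈ U := by
      have h1 := π_ι_mem 𝒮.toQCAlg U hU y
      rw [← hs, ← Scheme.Hom.comp_apply, hε.comp_π] at h1
      exact h1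
    have hsr : s ∈ Set.range hU.fromSpec.base := by rw [hU.range_fromSpec]; exact hsU
    obtain ⟨t, rfl⟩ := hsr
    rw [hchart t] at hs
    have hy := ι_injective 𝒮.toQCAlg U hU hs
    rw [← hy]
    change (aug.hom.app (op U)).hom f ∈ t.asIdeal
    rw [aug_eq_zero_of_mem_irrelevant 𝒮 aug haug U hU f hf]
    exact zero_mem _
  · intro hy
    have hmem : y ∈ Set.range (PrimeSpectrum.comap (aug.hom.app (op U)).hom) := by
      have key : ∀ y : PrimeSpectrum (𝒮.presheaf.obj (op U)),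
          (∀ f ∈ (HomogeneousIdeal.irrelevant (𝒮.deg U hU)).toIdeal, f ∈ y.asIdeal) →
            y ∈ Set.range (PrimeSpectrum.comap (aug.hom.app (op U)).hom) := by
        intro y hy
        rw [range_comap_of_surjective _ _ (aug_surjective 𝒮 aug U),
          PrimeSpectrum.mem_zeroLocus]
        intro f hf
        exact hy f (mem_irrelevant_of_aug_eq_zero 𝒮 h0 aug haug U hU f (RingHom.mem_ker.mp hf))
      exact key y hy
    obtain ⟨t, ht⟩ := hmem
    refine ⟨hU.fromSpec.base t, ?_⟩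
    rw [hchart t]
    exact congrArg _ ht

end Aux

theorem result {Y : Scheme.{u}} (𝒮 : RelProj.QCGrAlg Y)
    (h0 : RelCone.StrZeroBij 𝒮) (aug : 𝒮.toQCAlg ⟶ RelSpec.QCAlg.unit Y) (haug : RelCone.IsAugmentation 𝒮 aug)
    (ε : Y ⟶ 𝒮.toQCAlg.spec) (hε : RelCone.IsVertex 𝒮 aug ε) :
    ((RelCone.pointedCone 𝒮 : 𝒮.toQCAlg.spec.Opens) : Set 𝒮.toQCAlg.spec) = (Set.range ε.base)ᶜ := by
  ext c
  obtain ⟨_, ⟨U, hU, rfl⟩, hsU, -⟩ :=
    Y.isBasis_affineOpens.exists_subset_of_mem_open (Set.mem_univ (𝒮.toQCAlg.π.base c)) isOpen_univ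
  obtain ⟨y, rfl⟩ := exists_chart 𝒮.toQCAlg c U hU hsU
  rw [Set.mem_compl_iff, ι_mem_range_iff 𝒮 h0 aug haug ε hε U hU y, not_not]
  exact ι_mem_pointedCone_iff 𝒮 U hU y

end Groth.Agent.S8296
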