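import Groth.Statements.S8298
import Groth.Agent.S8296
import Groth.Agent.Lib.H60AwayDegOne
import Groth.Agent.Lib.ProjQMapOn

set_option autoImplicit false
universe u
open CategoryTheory CategoryTheory.Limits AlgebraicGeometry Opposite TopologicalSpace
open scoped HomogeneousIdeal
noncomputable section
open EGA2

namespace Groth.Agent.S8298

open Groth.Agent.Lib.H60RelCone Groth.Agent.Lib.H60AwayDegOne Groth.Agent.S8296
open Groth.Agent.Lib.ProjQMapOn Groth.Agent.Lib.ProjQMap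

section Aux

variable {Y PC : Scheme.{u}} (𝒮 𝒮h : RelProj.QCGrAlg Y) (h0 : RelCone.StrZeroBij 𝒮)
  (ι : 𝒮.toQCAlg ⟶ 𝒮h.toQCAlg) (z : 𝒮h.presheaf.obj (op ⊤)) (hz : RelCone.IsPolyOver 𝒮 𝒮h ι z)
  (pC : PC ⟶ Y)
  (chartC : ∀ (U : Y.Opens) (hU : IsAffineOpen U),
    (((pC ⁻¹ᵁ U : PC.Opens) : Scheme.{u}) ≅ Proj (𝒮h.deg U hU)))
  (hPC : RelProj.IsRelProj 𝒮h pC chartC)

include hPC in
/-- The pointed projective cone in a chart. -/
lemma emb_mem_pointedProjCone_iff (U : Y.Opens) (hU : IsAffineOpen U)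
    (x : Proj (𝒮h.deg U hU)) :
    (RelProj.emb pC chartC U hU).base x ∈ RelCone.pointedProjCone 𝒮 hz pC chartC ↔
      x ∈ RelCone.domOpen (RelProj.gradedHomAt ι hz.graded U hU) := by
  constructor
  · intro h
    obtain ⟨⟨V, hV⟩, hmem⟩ := Opens.mem_iSup.mp h
    have hmem' : (RelProj.emb pC chartC U hU).base x ∈ domImg ι hz.graded pC chartC V hV := hmem
    have hU' : (RelProj.emb pC chartC U hU).base x ∈ pC ⁻¹ᵁ U := range_emb_le pC chartC U hU x
    obtain ⟨w, hw, hwx⟩ := domImg_inf_le ι hz.graded hPC V hV U hU ⟨hmem', hU'⟩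
    have : w = x := (RelProj.emb pC chartC U hU).isOpenEmbedding.injective hwx
    rw [← this]
    exact hw
  · intro h
    exact Opens.mem_iSup.mpr ⟨⟨U, hU⟩, x, h, rfl⟩

variable (U : Y.Opens) (hU : IsAffineOpen U)

/-- `awayZToBase ∘ theta = id`. -/
lemma awayZToBase_theta (a : 𝒮.presheaf.obj (op U)) :
    hz.awayZToBase U hU (theta (RelProj.gradedHomAt ι hz.graded U hU)
      (RelCone.restrictTop 𝒮h z U) (hz.deg_z U hU) a) = a := by
  induction a using DirectSum.Decomposition.inductionOn (𝒮.deg U hU) with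
  | zero => simp
  | @homogeneous i m =>
    rw [theta_of_mem _ _ _ i m.1 m.2,
      hz.awayZToBase_of_val U hU _ _ i (val_mk1 (𝒮h.deg U hU) (hz.deg_z U hU) i _ _)]
    exact hz.evalOne_ι U hU m.1
  | add m m' hm hm' => rw [map_add, map_add, hm, hm']

lemma theta_surj : Function.Surjective (theta (RelProj.gradedHomAt ι hz.graded U hU)
    (RelCone.restrictTop 𝒮h z U) (hz.deg_z U hU)) :=
  theta_surjective (RelProj.gradedHomAt ι hz.graded U hU) (ι.hom.app (op U)).hom (fun _ ↦ rfl)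
    (RelCone.restrictTop 𝒮h z U) (hz.deg_z U hU) (hz.bij U hU)

variable (aug : 𝒮.toQCAlg ⟶ RelSpec.QCAlg.unit Y) (haug : RelCone.IsAugmentation 𝒮 aug)

/-- The augmentation over `U`, with target written as `Γ(Y, U)`. -/
def augAt : 𝒮.presheaf.obj (op U) ⟶ Y.presheaf.obj (op U) := aug.hom.app (op U)

/-- The point of `Proj 𝒮h(U)` over `t ∈ Spec O(U)` in the vertex section. -/
def vertexPt (t : Spec (Y.presheaf.obj (op U))) : Proj (𝒮h.deg U hU) :=
  (Proj.awayι (𝒮h.deg U hU) (RelCone.restrictTop 𝒮h z U) (hz.deg_z U hU) one_pos).base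
    ((Spec.map (CommRingCat.ofHom (hz.awayZToBase U hU))).base
      ((Spec.map (augAt 𝒮 U aug)).base t))

include haug in
/-- vertex points are not in the domain of definition of the retraction. -/
lemma vertexPt_notMem (t : Spec (Y.presheaf.obj (op U))) :
    vertexPt 𝒮 𝒮h ι z hz U hU aug t ∉ RelCone.domOpen (RelProj.gradedHomAt ι hz.graded U hU) := by
  classical
  rw [RelCone.mem_domOpen]
  push Not
  intro f hf
  change (RelProj.gradedHomAt ι hz.graded U hU) f ∈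
    (vertexPt 𝒮 𝒮h ι z hz U hU aug t).asHomogeneousIdeal.toIdeal
  rw [← DirectSum.sum_support_decompose (𝒮.deg U hU) f, map_sum]
  refine Ideal.sum_mem _ fun n _ ↦ ?_
  have hfn : ((DirectSum.decompose (𝒮.deg U hU) f n : 𝒮.deg U hU n) : 𝒮.presheaf.obj (op U)) ∈
      (HomogeneousIdeal.irrelevant (𝒮.deg U hU)).toIdeal :=
    (HomogeneousIdeal.irrelevant (𝒮.deg U hU)).isHomogeneous n hf
  set fn : 𝒮.presheaf.obj (op U) :=
    ((DirectSum.decompose (𝒮.deg U hU) f n : 𝒮.deg U hU n) : 𝒮.presheaf.obj (op U)) with hfndef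
  have hfn' : fn ∈ 𝒮.deg U hU n := SetLike.coe_mem _
  change (RelProj.gradedHomAt ι hz.graded U hU) fn ∈
    (vertexPt 𝒮 𝒮h ι z hz U hU aug t).asHomogeneousIdeal
  unfold vertexPt
  refine (mem_awayι_iff_mk1 (hz.deg_z U hU) _
    ((RelProj.gradedHomAt ι hz.graded U hU).2 hfn')).mpr ?_
  change (augAt 𝒮 U aug).hom (hz.awayZToBase U hU (mk1 (𝒮h.deg U hU) (hz.deg_z U hU) n
    ((RelProj.gradedHomAt ι hz.graded U hU) fn) _)) ∈ t.asIdeal
  rw [hz.awayZToBase_of_val U hU _ _ n (val_mk1 (𝒮h.deg U hU) (hz.deg_z U hU) n _ _)]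
  have : hz.evalOne U hU ((RelProj.gradedHomAt ι hz.graded U hU) fn) = fn := hz.evalOne_ι U hU fn
  rw [this]
  have h0' : (augAt 𝒮 U aug).hom fn = 0 := aug_eq_zero_of_mem_irrelevant 𝒮 aug haug U hU fn hfn
  rw [h0']
  exact zero_mem _

/-- `z ∉ x` if `x` contains the image of the irrelevant ideal. -/
lemma z_notMem (x : Proj (𝒮h.deg U hU))
    (hx : x ∉ RelCone.domOpen (RelProj.gradedHomAt ι hz.graded U hU)) :
    RelCone.restrictTop 𝒮h z U ∉ x.asHomogeneousIdeal := by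
  classical
  rw [RelCone.mem_domOpen] at hx
  push Not at hx
  intro hzx
  apply x.not_irrelevant_le
  intro b hb
  obtain ⟨P, rfl⟩ := (hz.bij U hU).surjective b
  -- `b = ι(p₀) + z * (…)`
  have hP : Polynomial.eval₂RingHom (ι.hom.app (op U)).hom (RelCone.restrictTop 𝒮h z U) P =
      (ι.hom.app (op U)).hom (P.coeff 0) +
        RelCone.restrictTop 𝒮h z U * Polynomial.eval₂ (ι.hom.app (op U)).hom
          (RelCone.restrictTop 𝒮h z U) P.divX := by
    conv_lhs => rw [← Polynomial.X_mul_divX_add P]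
    rw [map_add, map_mul]
    simp only [Polynomial.coe_eval₂RingHom, Polynomial.eval₂_X, Polynomial.eval₂_C]
    ring
  set c : 𝒮.presheaf.obj (op U) :=
    ((DirectSum.decompose (𝒮.deg U hU) (P.coeff 0) 0 : 𝒮.deg U hU 0) : 𝒮.presheaf.obj (op U))
    with hc
  have hirr : P.coeff 0 - c ∈ (HomogeneousIdeal.irrelevant (𝒮.deg U hU)).toIdeal := by
    rw [HomogeneousIdeal.mem_iff, HomogeneousIdeal.mem_irrelevant_iff, GradedRing.proj_apply,
      DirectSum.decompose_sub, DirectSum.sub_apply, AddSubgroupClass.coe_sub,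
      DirectSum.decompose_of_mem_same _ (SetLike.coe_mem _), sub_self]
  have h1 : (ι.hom.app (op U)).hom (P.coeff 0 - c) ∈ x.asHomogeneousIdeal.toIdeal :=
    hx _ hirr
  set b := Polynomial.eval₂RingHom (ι.hom.app (op U)).hom (RelCone.restrictTop 𝒮h z U) P with hbdef
  have h2 : b - (ι.hom.app (op U)).hom c ∈ x.asHomogeneousIdeal.toIdeal := by
    have : b - (ι.hom.app (op U)).hom c = (ι.hom.app (op U)).hom (P.coeff 0 - c) +
        RelCone.restrictTop 𝒮h z U * Polynomial.eval₂ (ι.hom.app (op U)).hom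
          (RelCone.restrictTop 𝒮h z U) P.divX := by
      rw [hP, map_sub]; ring
    rw [this]
    exact Ideal.add_mem _ h1 (Ideal.mul_mem_right _ _ hzx)
  have hc0 : (ι.hom.app (op U)).hom c ∈ 𝒮h.deg U hU 0 :=
    hz.graded U hU 0 c (SetLike.coe_mem _)
  have h3 := x.asHomogeneousIdeal.isHomogeneous 0 h2
  rw [DirectSum.decompose_sub, DirectSum.sub_apply, AddSubgroupClass.coe_sub,
    DirectSum.decompose_of_mem_same _ hc0] at h3
  have hb0 : ((DirectSum.decompose (𝒮h.deg U hU) b 0 : 𝒮h.deg U hU 0) :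
      𝒮h.presheaf.obj (op U)) = 0 := by
    have := hb
    rw [HomogeneousIdeal.mem_irrelevant_iff, GradedRing.proj_apply] at this
    exact this
  rw [hb0, zero_sub, neg_mem_iff] at h3
  have : b = (b - (ι.hom.app (op U)).hom c) + (ι.hom.app (op U)).hom c := by ring
  rw [this]
  exact Ideal.add_mem _ h2 h3

include h0 haug in
/-- A point containing the image of the irrelevant ideal is a vertex point. -/
lemma exists_vertexPt (x : Proj (𝒮h.deg U hU))
    (hx : x ∉ RelCone.domOpen (RelProj.gradedHomAt ι hz.graded U hU)) :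
    ∃ t : Spec (Y.presheaf.obj (op U)), vertexPt 𝒮 𝒮h ι z hz U hU aug t = x := by
  classical
  have hzx := z_notMem 𝒮 𝒮h ι z hz U hU x hx
  have hxD : x ∈ Proj.basicOpen (𝒮h.deg U hU) (RelCone.restrictTop 𝒮h z U) :=
    (Proj.mem_basicOpen _ _ _).mpr hzx
  rw [← Proj.opensRange_awayι (𝒮h.deg U hU) _ (hz.deg_z U hU) one_pos] at hxD
  obtain ⟨q, hq⟩ := hxD
  rw [RelCone.mem_domOpen] at hx
  push Not at hx
  -- `q` is in the range of `Spec (aug ∘ awayZToBase)`
  have key : ∀ q' : PrimeSpectrum (HomogeneousLocalization.Away (𝒮h.deg U hU)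
      (RelCone.restrictTop 𝒮h z U)),
      (∀ w, (augAt 𝒮 U aug).hom (hz.awayZToBase U hU w) = 0 → w ∈ q'.asIdeal) →
        q' ∈ Set.range (PrimeSpectrum.comap
          ((augAt 𝒮 U aug).hom.comp (hz.awayZToBase U hU))) := by
    intro q' hq'
    have hsurj : Function.Surjective ((augAt 𝒮 U aug).hom.comp (hz.awayZToBase U hU)) := by
      intro r
      obtain ⟨a, ha⟩ := aug_surjective 𝒮 aug U r
      refine ⟨theta (RelProj.gradedHomAt ι hz.graded U hU) (RelCone.restrictTop 𝒮h z U)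
        (hz.deg_z U hU) a, ?_⟩
      rw [RingHom.comp_apply, awayZToBase_theta]
      exact ha
    rw [range_comap_of_surjective _ _ hsurj, PrimeSpectrum.mem_zeroLocus]
    intro w hw
    exact hq' w (RingHom.mem_ker.mp hw)
  have hq' : ∀ w, (augAt 𝒮 U aug).hom (hz.awayZToBase U hU w) = 0 → w ∈ q.asIdeal := by
    intro w hw
    obtain ⟨a, rfl⟩ := theta_surj 𝒮 𝒮h ι z hz U hU w
    rw [awayZToBase_theta] at hw
    have ha := mem_irrelevant_of_aug_eq_zero 𝒮 h0 aug haug U hU a hw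
    rw [← DirectSum.sum_support_decompose (𝒮.deg U hU) a, map_sum]
    refine Ideal.sum_mem _ fun n _ ↦ ?_
    have han : ((DirectSum.decompose (𝒮.deg U hU) a n : 𝒮.deg U hU n) :
        𝒮.presheaf.obj (op U)) ∈ (HomogeneousIdeal.irrelevant (𝒮.deg U hU)).toIdeal :=
      (HomogeneousIdeal.irrelevant (𝒮.deg U hU)).isHomogeneous n ha
    rw [theta_of_mem _ _ _ n _ (SetLike.coe_mem _),
      ← mem_awayι_iff_mk1 (hz.deg_z U hU) q]
    have := hx _ han
    rw [← hq] at this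
    exact this
  obtain ⟨t, ht⟩ := key q hq'
  refine ⟨t, ?_⟩
  rw [← hq]
  unfold vertexPt
  have ht' : (Spec.map (CommRingCat.ofHom (hz.awayZToBase U hU))).base
      ((Spec.map (augAt 𝒮 U aug)).base t) = q := ht
  rw [ht']

variable (ε : Y ⟶ 𝒮.toQCAlg.spec) (hε : RelCone.IsVertex 𝒮 aug ε)
  (i : 𝒮.toQCAlg.spec ⟶ PC) (hi : RelCone.IsConeImm 𝒮 hz pC chartC i)

include hε hi in
lemma vertex_apply (t : Spec (Y.presheaf.obj (op U))) :
    (ε ≫ i).base (hU.fromSpec.base t) =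
      (RelProj.emb pC chartC U hU).base (vertexPt 𝒮 𝒮h ι z hz U hU aug t) := by
  have h1 : hU.fromSpec ≫ ε ≫ i = Spec.map (augAt 𝒮 U aug) ≫
      Spec.map (CommRingCat.ofHom (hz.awayZToBase U hU)) ≫
        Proj.awayι (𝒮h.deg U hU) (RelCone.restrictTop 𝒮h z U) (hz.deg_z U hU) one_pos ≫
          RelProj.emb pC chartC U hU := by
    have e1 : hU.fromSpec ≫ ε = Spec.map (augAt 𝒮 U aug) ≫ 𝒮.toQCAlg.ι U hU := hε.chart U hU
    rw [reassoc_of% e1, hi U hU]
  have h2 := congrArg (fun g ↦ g.base t) h1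
  exact h2

end Aux

theorem result {Y PC : Scheme.{u}} (𝒮 𝒮h : RelProj.QCGrAlg Y) (h0 : RelCone.StrZeroBij 𝒮)
    (ι : 𝒮.toQCAlg ⟶ 𝒮h.toQCAlg) (z : 𝒮h.presheaf.obj (op ⊤)) (hz : RelCone.IsPolyOver 𝒮 𝒮h ι z)
    (pC : PC ⟶ Y)
    (chartC : ∀ (U : Y.Opens) (hU : IsAffineOpen U), (((pC ⁻¹ᵁ U : PC.Opens) : Scheme.{u}) ≅ Proj (𝒮h.deg U hU)))
    (hPC : RelProj.IsRelProj 𝒮h pC chartC)
    (aug : 𝒮.toQCAlg ⟶ RelSpec.QCAlg.unit Y) (haug : RelCone.IsAugmentation 𝒮 aug)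
    (ε : Y ⟶ 𝒮.toQCAlg.spec) (hε : RelCone.IsVertex 𝒮 aug ε)
    (i : 𝒮.toQCAlg.spec ⟶ PC) (hi : RelCone.IsConeImm 𝒮 hz pC chartC i) :
    ((RelCone.pointedProjCone 𝒮 hz pC chartC : PC.Opens) : Set PC) = (Set.range (ε ≫ i).base)ᶜ := by
  ext c
  rw [Set.mem_compl_iff]
  constructor
  · rintro hc ⟨s, rfl⟩
    obtain ⟨_, ⟨V, hV, rfl⟩, hsV, -⟩ :=
      Y.isBasis_affineOpens.exists_subset_of_mem_open (Set.mem_univ s) isOpen_univ
    have hsr : s ∈ Set.range hV.fromSpec.base := by rw [hV.range_fromSpec]; exact hsV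
    obtain ⟨t, rfl⟩ := hsr
    rw [vertex_apply 𝒮 𝒮h ι z hz pC chartC V hV aug ε hε i hi t] at hc
    have hc' : (RelProj.emb pC chartC V hV).base (vertexPt 𝒮 𝒮h ι z hz V hV aug t) ∈
        RelCone.pointedProjCone 𝒮 hz pC chartC := hc
    rw [emb_mem_pointedProjCone_iff 𝒮 𝒮h ι z hz pC chartC hPC V hV] at hc'
    exact vertexPt_notMem 𝒮 𝒮h ι z hz V hV aug haug t hc'
  · intro hc
    obtain ⟨_, ⟨U, hU, rfl⟩, hsU, -⟩ :=
      Y.isBasis_affineOpens.exists_subset_of_mem_open (Set.mem_univ (pC.base c)) isOpen_univ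
    have hcU : c ∈ pC ⁻¹ᵁ U := hsU
    have hcx := emb_apply_chart pC chartC U hU c hcU
    set x := chartPt pC chartC U hU c hcU with hxdef
    change c ∈ RelCone.pointedProjCone 𝒮 hz pC chartC
    rw [← hcx]
    rw [emb_mem_pointedProjCone_iff 𝒮 𝒮h ι z hz pC chartC hPC U hU]
    by_contra hx
    obtain ⟨t, ht⟩ := exists_vertexPt 𝒮 𝒮h h0 ι z hz U hU aug haug x hx
    apply hc
    refine ⟨hU.fromSpec.base t, ?_⟩
    rw [vertex_apply 𝒮 𝒮h ι z hz pC chartC U hU aug ε hε i hi t, ht]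
    exact hcx

end Groth.Agent.S8298
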