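import Groth.Statements.S8309
import Groth.Agent.S8298
import Groth.Agent.Lib.RelProjMap

set_option autoImplicit false
universe u
open CategoryTheory CategoryTheory.Limits AlgebraicGeometry Opposite TopologicalSpace
open scoped HomogeneousIdeal
noncomputable section
open EGA2

namespace Groth.Agent.S8309

open Groth.Agent.Lib.H60RelCone Groth.Agent.Lib.H60AwayDegOne
open Groth.Agent.Lib.ProjQMapOn Groth.Agent.Lib.ProjQMap
open HomogeneousLocalization

section Alg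

/-- a point of the pointed cone avoids a homogeneous element of positive degree. -/
lemma exists_homogeneous_of_mem_vertexCompl {R : CommRingCat.{u}} (𝒜 : ℕ → AddSubgroup R)
    [GradedRing 𝒜] (y : Spec R) (hy : y ∈ RelCone.vertexCompl 𝒜) :
    ∃ (e : ℕ) (_ : 0 < e) (g : R) (_ : g ∈ 𝒜 e), g ∉ y.asIdeal := by
  classical
  rw [mem_vertexCompl_iff] at hy
  obtain ⟨f, hf, hfy⟩ := hy
  by_contra hcon
  push Not at hcon
  apply hfy
  rw [← DirectSum.sum_support_decompose 𝒜 f]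
  refine Ideal.sum_mem _ fun n _ ↦ ?_
  rcases Nat.eq_zero_or_pos n with rfl | hn
  · have : ((DirectSum.decompose 𝒜 f 0 : 𝒜 0) : R) = 0 := by
      have h := hf
      rw [HomogeneousIdeal.mem_iff, HomogeneousIdeal.mem_irrelevant_iff,
        GradedRing.proj_apply] at h
      exact h
    rw [this]
    exact zero_mem _
  · exact hcon n hn _ (SetLike.coe_mem _)

end Alg

section Aux

variable {Y PC P : Scheme.{u}} (𝒮 𝒮h : RelProj.QCGrAlg Y)
  (ι : 𝒮.toQCAlg ⟶ 𝒮h.toQCAlg) (z : 𝒮h.presheaf.obj (op ⊤)) (hz : RelCone.IsPolyOver 𝒮 𝒮h ι z)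
  (pC : PC ⟶ Y)
  (chartC : ∀ (U : Y.Opens) (hU : IsAffineOpen U),
    (((pC ⁻¹ᵁ U : PC.Opens) : Scheme.{u}) ≅ Proj (𝒮h.deg U hU)))
  (p : P ⟶ Y)
  (chart : ∀ (U : Y.Opens) (hU : IsAffineOpen U),
    (((p ⁻¹ᵁ U : P.Opens) : Scheme.{u}) ≅ Proj (𝒮.deg U hU)))
  (i : 𝒮.toQCAlg.spec ⟶ PC) (hi : RelCone.IsConeImm 𝒮 hz pC chartC i)
  (U : Y.Opens) (hU : IsAffineOpen U)

/-- The point of `Proj 𝒮h(U)` which is the image of `y ∈ Spec 𝒮(U)` under the cone immersion. -/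
def conePt (y : Spec (𝒮.presheaf.obj (op U))) : Proj (𝒮h.deg U hU) :=
  (Proj.awayι (𝒮h.deg U hU) (RelCone.restrictTop 𝒮h z U) (hz.deg_z U hU) one_pos).base
    ((Spec.map (CommRingCat.ofHom (hz.awayZToBase U hU))).base y)

include hi in
lemma i_ι_apply (y : Spec (𝒮.presheaf.obj (op U))) :
    i.base ((𝒮.toQCAlg.ι U hU).base y) =
      (RelProj.emb pC chartC U hU).base (conePt 𝒮 𝒮h ι z hz U hU y) := by
  have h2 := congrArg (fun g ↦ g.base y) (hi U hU)
  exact h2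

lemma mem_conePt_iff (y : Spec (𝒮.presheaf.obj (op U))) {n : ℕ} {b : 𝒮h.presheaf.obj (op U)}
    (hb : b ∈ 𝒮h.deg U hU n) :
    b ∈ (conePt 𝒮 𝒮h ι z hz U hU y).asHomogeneousIdeal ↔ hz.evalOne U hU b ∈ y.asIdeal := by
  unfold conePt
  refine (mem_awayι_iff_mk1 (hz.deg_z U hU) _ hb).trans ?_
  change hz.awayZToBase U hU (mk1 (𝒮h.deg U hU) (hz.deg_z U hU) n b hb) ∈ y.asIdeal ↔ _
  rw [hz.awayZToBase_of_val U hU _ _ n (val_mk1 (𝒮h.deg U hU) (hz.deg_z U hU) n _ _)]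

lemma map_mem_conePt_iff (y : Spec (𝒮.presheaf.obj (op U))) {n : ℕ} {a : 𝒮.presheaf.obj (op U)}
    (ha : a ∈ 𝒮.deg U hU n) :
    (RelProj.gradedHomAt ι hz.graded U hU) a ∈ (conePt 𝒮 𝒮h ι z hz U hU y).asHomogeneousIdeal ↔
      a ∈ y.asIdeal := by
  refine (mem_conePt_iff 𝒮 𝒮h ι z hz U hU y
    ((RelProj.gradedHomAt ι hz.graded U hU).2 ha)).trans ?_
  have : hz.evalOne U hU ((RelProj.gradedHomAt ι hz.graded U hU) a) = a := hz.evalOne_ι U hU a
  exact iff_of_eq (congrArg (fun t ↦ t ∈ y.asIdeal) this)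

lemma conePt_mem_domOpen (y : Spec (𝒮.presheaf.obj (op U)))
    (hy : y ∈ RelCone.vertexCompl (𝒮.deg U hU)) :
    conePt 𝒮 𝒮h ι z hz U hU y ∈ RelCone.domOpen (RelProj.gradedHomAt ι hz.graded U hU) := by
  obtain ⟨e, he, g, hg, hgy⟩ := exists_homogeneous_of_mem_vertexCompl _ y hy
  rw [RelCone.mem_domOpen]
  refine ⟨g, HomogeneousIdeal.mem_irrelevant_of_mem _ he hg, ?_⟩
  intro hcon
  exact hgy ((map_mem_conePt_iff 𝒮 𝒮h ι z hz U hU y hg).mp hcon)

/-- The lifted standard chart of the pointed projective cone. -/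
def liftG {e : ℕ} (he : 0 < e) (g : 𝒮.presheaf.obj (op U)) (hg : g ∈ 𝒮.deg U hU e) :
    Spec (CommRingCat.of (Away (𝒮h.deg U hU) ((RelProj.gradedHomAt ι hz.graded U hU) g))) ⟶
      ((RelCone.pointedProjCone 𝒮 hz pC chartC : PC.Opens) : Scheme.{u}) :=
  IsOpenImmersion.lift (RelCone.pointedProjCone 𝒮 hz pC chartC).ι
    (Proj.awayι (𝒮h.deg U hU) ((RelProj.gradedHomAt ι hz.graded U hU) g)
      ((RelProj.gradedHomAt ι hz.graded U hU).2 hg) he ≫ RelProj.emb pC chartC U hU)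
    (by
      rw [Scheme.Opens.range_ι]
      rintro _ ⟨t, rfl⟩
      rw [Scheme.Hom.comp_base, TopCat.coe_comp, Function.comp_apply]
      refine Opens.mem_iSup.mpr ⟨⟨U, hU⟩, _, ?_, rfl⟩
      refine (RelCone.mem_domOpen (RelProj.gradedHomAt ι hz.graded U hU) _).mpr ?_
      refine ⟨g, HomogeneousIdeal.mem_irrelevant_of_mem _ he hg, ?_⟩
      have hb : (Proj.awayι (𝒮h.deg U hU) ((RelProj.gradedHomAt ι hz.graded U hU) g)
          ((RelProj.gradedHomAt ι hz.graded U hU).2 hg) he).base t ∈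
            Proj.basicOpen (𝒮h.deg U hU) ((RelProj.gradedHomAt ι hz.graded U hU) g) :=
        (Proj.opensRange_awayι (𝒮h.deg U hU) _ _ he).le ⟨t, rfl⟩
      exact (ProjectiveSpectrum.mem_basicOpen _ _ _).mp hb)

lemma liftG_ι {e : ℕ} (he : 0 < e) (g : 𝒮.presheaf.obj (op U)) (hg : g ∈ 𝒮.deg U hU e) :
    liftG 𝒮 𝒮h ι z hz pC chartC U hU he g hg ≫ (RelCone.pointedProjCone 𝒮 hz pC chartC).ι =
      Proj.awayι (𝒮h.deg U hU) ((RelProj.gradedHomAt ι hz.graded U hU) g)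
        ((RelProj.gradedHomAt ι hz.graded U hU).2 hg) he ≫ RelProj.emb pC chartC U hU :=
  IsOpenImmersion.lift_fac _ _ _

instance {e : ℕ} (he : 0 < e) (g : 𝒮.presheaf.obj (op U)) (hg : g ∈ 𝒮.deg U hU e) :
    IsOpenImmersion (liftG 𝒮 𝒮h ι z hz pC chartC U hU he g hg) := by
  have : IsOpenImmersion (liftG 𝒮 𝒮h ι z hz pC chartC U hU he g hg ≫
      (RelCone.pointedProjCone 𝒮 hz pC chartC).ι) := by
    rw [liftG_ι]; infer_instance
  exact IsOpenImmersion.of_comp _ (RelCone.pointedProjCone 𝒮 hz pC chartC).ι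

include hi in
/-- The cone immersion is a morphism over the base. -/
lemma i_over (hPC : RelProj.IsRelProj 𝒮h pC chartC) : i ≫ pC = 𝒮.toQCAlg.π := by
  refine Scheme.hom_ext_of_forall _ _ fun x => ?_
  obtain ⟨_, ⟨V, hV, rfl⟩, hxV, -⟩ := Y.isBasis_affineOpens.exists_subset_of_mem_open
    (Set.mem_univ (𝒮.toQCAlg.π.base x)) isOpen_univ
  have hx : x ∈ (𝒮.toQCAlg.ι V hV).opensRange := by
    rw [← 𝒮.toQCAlg.π_preimage V hV]; exact hxV
  refine ⟨_, hx, ?_⟩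
  rw [← cancel_epi (𝒮.toQCAlg.ι V hV).isoOpensRange.hom]
  rw [Scheme.Hom.isoOpensRange_hom_ι_assoc, Scheme.Hom.isoOpensRange_hom_ι_assoc]
  rw [𝒮.toQCAlg.ι_π, reassoc_of% (hi V hV)]
  rw [emb_comp hPC V hV, Proj.awayι_toSpecZero_assoc, ← Spec.map_comp_assoc,
    ← Spec.map_comp_assoc]
  congr 2
  refine CommRingCat.hom_ext (RingHom.ext fun a => ?_)
  change hz.awayZToBase V hV (fromZeroRingHom (𝒮h.deg V hV) _ ((𝒮h.strZero V hV).hom a)) =
    (𝒮.str.app (op V)).hom a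
  rw [hz.awayZToBase_of_val V hV _ (((𝒮h.strZero V hV).hom a : 𝒮h.deg V hV 0) :
    𝒮h.presheaf.obj (op V)) 0]
  · rw [RelProj.QCGrAlg.strZero_apply_coe]
    have h1 : (𝒮h.str.app (op V)).hom a = (ι.hom.app (op V)).hom ((𝒮.str.app (op V)).hom a) :=
      (congrArg (fun t => (t.app (op V)).hom a) ι.comm).symm
    rw [h1]
    exact hz.evalOne_ι V hV _
  · change Localization.mk _ _ = Localization.mk _ _
    congr 1
    ext
    simp

variable (r : ((RelCone.pointedProjCone 𝒮 hz pC chartC : PC.Opens) : Scheme.{u}) ⟶ P)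
  (hr : ∀ (U : Y.Opens) (hU : IsAffineOpen U) (d : ℕ) (hd : 0 < d) (f : 𝒮.presheaf.obj (op U))
      (hf : f ∈ 𝒮.deg U hU d)
      (g : Spec (CommRingCat.of (HomogeneousLocalization.Away (𝒮h.deg U hU)
          ((RelProj.gradedHomAt ι hz.graded U hU) f))) ⟶
        ((RelCone.pointedProjCone 𝒮 hz pC chartC : PC.Opens) : Scheme.{u})),
      g ≫ (RelCone.pointedProjCone 𝒮 hz pC chartC).ι =
          Proj.awayι (𝒮h.deg U hU) ((RelProj.gradedHomAt ι hz.graded U hU) f)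
            ((RelProj.gradedHomAt ι hz.graded U hU).2 hf) hd ≫ RelProj.emb pC chartC U hU →
        g ≫ r =
          Spec.map (CommRingCat.ofHom (HomogeneousLocalization.Away.map
            (RelProj.gradedHomAt ι hz.graded U hU) f)) ≫
            Proj.awayι (𝒮.deg U hU) f hf hd ≫ RelProj.emb p chart U hU)
  (i' : ((RelCone.pointedCone 𝒮 : 𝒮.toQCAlg.spec.Opens) : Scheme.{u}) ⟶
    ((RelCone.pointedProjCone 𝒮 hz pC chartC : PC.Opens) : Scheme.{u}))
  (hi' : i' ≫ (RelCone.pointedProjCone 𝒮 hz pC chartC).ι = (RelCone.pointedCone 𝒮).ι ≫ i)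

include hr in
lemma liftG_r {e : ℕ} (he : 0 < e) (g : 𝒮.presheaf.obj (op U)) (hg : g ∈ 𝒮.deg U hU e) :
    liftG 𝒮 𝒮h ι z hz pC chartC U hU he g hg ≫ r =
      Spec.map (CommRingCat.ofHom (HomogeneousLocalization.Away.map
        (RelProj.gradedHomAt ι hz.graded U hU) g)) ≫
        Proj.awayι (𝒮.deg U hU) g hg he ≫ RelProj.emb p chart U hU :=
  hr U hU e he g hg _ (liftG_ι 𝒮 𝒮h ι z hz pC chartC U hU he g hg)

include hr in
/-- The retraction is a morphism over the base. -/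
lemma r_over (hP : RelProj.IsRelProj 𝒮 p chart) (hPC : RelProj.IsRelProj 𝒮h pC chartC) :
    r ≫ p = (RelCone.pointedProjCone 𝒮 hz pC chartC).ι ≫ pC := by
  refine Scheme.hom_ext_of_forall _ _ fun x => ?_
  obtain ⟨⟨V, hV⟩, w, hw, hwx⟩ := Opens.mem_iSup.mp x.2
  have hV' : IsAffineOpen V := hV
  have hw' : w ∈ RelCone.domOpen (RelProj.gradedHomAt ι hz.graded V hV') := hw
  obtain ⟨e, he, g, hg, hwg⟩ :=
    exists_homogeneous_of_mem_domOpen (RelProj.gradedHomAt ι hz.graded V hV') w hw'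
  have hwg' : w ∈ (Proj.awayι (𝒮h.deg V hV') ((RelProj.gradedHomAt ι hz.graded V hV') g)
      ((RelProj.gradedHomAt ι hz.graded V hV').2 hg) he).opensRange := by
    rw [Proj.opensRange_awayι]; exact hwg
  obtain ⟨t, ht⟩ := hwg'
  refine ⟨(liftG 𝒮 𝒮h ι z hz pC chartC V hV' he g hg).opensRange, ⟨t, ?_⟩, ?_⟩
  · apply (RelCone.pointedProjCone 𝒮 hz pC chartC).ι.isOpenEmbedding.injective
    have e2 : (RelCone.pointedProjCone 𝒮 hz pC chartC).ι.base
        ((liftG 𝒮 𝒮h ι z hz pC chartC V hV' he g hg).base t) =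
        (RelProj.emb pC chartC V hV').base ((Proj.awayι (𝒮h.deg V hV')
          ((RelProj.gradedHomAt ι hz.graded V hV') g)
          ((RelProj.gradedHomAt ι hz.graded V hV').2 hg) he).base t) :=
      congrArg (fun g ↦ g.base t) (liftG_ι 𝒮 𝒮h ι z hz pC chartC V hV' he g hg)
    refine e2.trans ?_
    exact (congrArg (RelProj.emb pC chartC V hV').base ht).trans hwx
  · rw [← cancel_epi (liftG 𝒮 𝒮h ι z hz pC chartC V hV' he g hg).isoOpensRange.hom]
    rw [Scheme.Hom.isoOpensRange_hom_ι_assoc, Scheme.Hom.isoOpensRange_hom_ι_assoc,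
      ← Category.assoc, liftG_r 𝒮 𝒮h ι z hz pC chartC p chart V hV' r hr he g hg,
      reassoc_of% (liftG_ι 𝒮 𝒮h ι z hz pC chartC V hV' he g hg)]
    simp only [Category.assoc]
    rw [emb_comp hP V hV', emb_comp hPC V hV']
    have e3 := away_toSpecZero_comp (RelProj.gradedHomAt ι hz.graded V hV') (𝒮.strZero V hV')
      (𝒮h.strZero V hV') (Groth.Agent.Lib.RelProjMap.gradedHomAt_str ι hz.graded V hV') he g hg
    exact (reassoc_of% e3) hV'.fromSpec

include hi hr hi' in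
/-- The projection `π = i' ≫ r` on a chart point: it is the homogeneous core. -/
lemma pi_apply (y : Spec (𝒮.presheaf.obj (op U))) (hy : y ∈ RelCone.vertexCompl (𝒮.deg U hU))
    (c' : ((RelCone.pointedCone 𝒮 : 𝒮.toQCAlg.spec.Opens) : Scheme.{u}))
    (hc' : (RelCone.pointedCone 𝒮).ι.base c' = (𝒮.toQCAlg.ι U hU).base y) :
    ∃ x'' : Proj (𝒮.deg U hU), (i' ≫ r).base c' = (RelProj.emb p chart U hU).base x'' ∧
      ∀ (n : ℕ) (a : 𝒮.presheaf.obj (op U)), a ∈ 𝒮.deg U hU n →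
        (a ∈ x''.asHomogeneousIdeal ↔ a ∈ y.asIdeal) := by
  obtain ⟨e, he, g, hg, hgy⟩ := exists_homogeneous_of_mem_vertexCompl _ y hy
  have hψg : (RelProj.gradedHomAt ι hz.graded U hU) g ∉
      (conePt 𝒮 𝒮h ι z hz U hU y).asHomogeneousIdeal := fun hcon ↦
    hgy ((map_mem_conePt_iff 𝒮 𝒮h ι z hz U hU y hg).mp hcon)
  have hmem : conePt 𝒮 𝒮h ι z hz U hU y ∈ (Proj.awayι (𝒮h.deg U hU) _
      ((RelProj.gradedHomAt ι hz.graded U hU).2 hg) he).opensRange := by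
    rw [Proj.opensRange_awayι]
    exact (Proj.mem_basicOpen _ _ _).mpr hψg
  obtain ⟨t, ht⟩ := hmem
  have h1 : i'.base c' = (liftG 𝒮 𝒮h ι z hz pC chartC U hU he g hg).base t := by
    apply (RelCone.pointedProjCone 𝒮 hz pC chartC).ι.isOpenEmbedding.injective
    have e1 : (RelCone.pointedProjCone 𝒮 hz pC chartC).ι.base (i'.base c') =
        i.base ((RelCone.pointedCone 𝒮).ι.base c') :=
      congrArg (fun g ↦ g.base c') hi'
    have e2 : (RelCone.pointedProjCone 𝒮 hz pC chartC).ι.base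
        ((liftG 𝒮 𝒮h ι z hz pC chartC U hU he g hg).base t) =
        (RelProj.emb pC chartC U hU).base ((Proj.awayι (𝒮h.deg U hU)
          ((RelProj.gradedHomAt ι hz.graded U hU) g)
          ((RelProj.gradedHomAt ι hz.graded U hU).2 hg) he).base t) :=
      congrArg (fun g ↦ g.base t) (liftG_ι 𝒮 𝒮h ι z hz pC chartC U hU he g hg)
    rw [e1, e2, hc', i_ι_apply 𝒮 𝒮h ι z hz pC chartC i hi U hU y]
    exact congrArg _ ht.symm
  refine ⟨(Proj.awayι (𝒮.deg U hU) g hg he).base ((Spec.map (CommRingCat.ofHom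
    (HomogeneousLocalization.Away.map (RelProj.gradedHomAt ι hz.graded U hU) g))).base t), ?_, ?_⟩
  · have e3 : (i' ≫ r).base c' = r.base (i'.base c') := rfl
    rw [e3, h1]
    exact congrArg (fun g ↦ g.base t) (liftG_r 𝒮 𝒮h ι z hz pC chartC p chart U hU r hr he g hg)
  · intro n a ha
    have ha' : a ^ e ∈ 𝒮.deg U hU (n • e) := by
      have := SetLike.pow_mem_graded e ha
      rwa [smul_eq_mul, mul_comm] at this
    refine (mem_awayι_iff hg he _ ha').trans ?_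
    change Away.map (RelProj.gradedHomAt ι hz.graded U hU) g
      (Away.mk (𝒮.deg U hU) hg n (a ^ e) ha') ∈ t.asIdeal ↔ _
    rw [Away.map_mk]
    have hb' : ((RelProj.gradedHomAt ι hz.graded U hU) a) ^ e ∈ 𝒮h.deg U hU (n • e) := by
      rw [← map_pow]; exact (RelProj.gradedHomAt ι hz.graded U hU).2 ha'
    have e4 := mem_awayι_iff ((RelProj.gradedHomAt ι hz.graded U hU).2 hg) he t hb'
    have e5 : Away.mk (𝒮h.deg U hU) ((RelProj.gradedHomAt ι hz.graded U hU).2 hg) n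
        ((RelProj.gradedHomAt ι hz.graded U hU) (a ^ e))
        ((RelProj.gradedHomAt ι hz.graded U hU).2 ha') =
        Away.mk (𝒮h.deg U hU) ((RelProj.gradedHomAt ι hz.graded U hU).2 hg) n
          (((RelProj.gradedHomAt ι hz.graded U hU) a) ^ e) hb' := by
      apply HomogeneousLocalization.val_injective
      rw [Away.val_mk, Away.val_mk, map_pow]
    refine (iff_of_eq (congrArg (fun q ↦ q ∈ t.asIdeal) e5)).trans ?_
    refine e4.symm.trans ?_
    have e6 := map_mem_conePt_iff 𝒮 𝒮h ι z hz U hU y ha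
    rw [← ht] at e6
    exact e6

include hi hr hi' in
lemma pi_over (hP : RelProj.IsRelProj 𝒮 p chart) (hPC : RelProj.IsRelProj 𝒮h pC chartC) :
    (i' ≫ r) ≫ p = (RelCone.pointedCone 𝒮).ι ≫ 𝒮.toQCAlg.π := by
  rw [Category.assoc, r_over 𝒮 𝒮h ι z hz pC chartC p chart r hr hP hPC, reassoc_of% hi',
    i_over 𝒮 𝒮h ι z hz pC chartC i hi hPC]

lemma homogeneousIdeal_ext {A : Type u} [CommRing A] {𝒜 : ℕ → AddSubgroup A} [GradedRing 𝒜]
    {I J : HomogeneousIdeal 𝒜}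
    (h : ∀ (n : ℕ) (a : A), a ∈ 𝒜 n → (a ∈ I.toIdeal ↔ a ∈ J.toIdeal)) : I = J := by
  apply HomogeneousIdeal.toIdeal_injective
  ext x
  rw [I.isHomogeneous.mem_iff, J.isHomogeneous.mem_iff]
  exact forall_congr' fun i ↦ h i _ (SetLike.coe_mem _)

include hi hr hi' in
/-- The preimage under `π` of a standard chart of `Proj(𝒮)` is a standard chart of `Spec(𝒮)`. -/
lemma preimage_chart (hP : RelProj.IsRelProj 𝒮 p chart) (hPC : RelProj.IsRelProj 𝒮h pC chartC)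
    {d : ℕ} (hd : 0 < d) (f : 𝒮.presheaf.obj (op U)) (hf : f ∈ 𝒮.deg U hU d) :
    (i' ≫ r) ⁻¹ᵁ ((RelProj.emb p chart U hU) ''ᵁ (Proj.basicOpen (𝒮.deg U hU) f)) =
      (RelCone.pointedCone 𝒮).ι ⁻¹ᵁ
        ((𝒮.toQCAlg.ι U hU) ''ᵁ (PrimeSpectrum.basicOpen f)) := by
  ext c'
  constructor
  · rintro ⟨x', hx'f, hx'⟩
    have hx'2 : (RelProj.emb p chart U hU).base x' = (i' ≫ r).base c' := hx'
    have h1 : (i' ≫ r).base c' ∈ p ⁻¹ᵁ U := by
      rw [← hx'2]; exact range_emb_le p chart U hU x'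
    have h2 : 𝒮.toQCAlg.π.base ((RelCone.pointedCone 𝒮).ι.base c') ∈ U := by
      have e := congrArg (fun g ↦ g.base c')
        (pi_over 𝒮 𝒮h ι z hz pC chartC p chart i hi r hr i' hi' hP hPC)
      have e' : p.base ((i' ≫ r).base c') =
          𝒮.toQCAlg.π.base ((RelCone.pointedCone 𝒮).ι.base c') := e
      rw [← e']
      exact h1
    obtain ⟨y, hy⟩ := exists_chart 𝒮.toQCAlg _ U hU h2
    have hyE : y ∈ RelCone.vertexCompl (𝒮.deg U hU) := by
      refine (ι_mem_pointedCone_iff 𝒮 U hU y).mp ?_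
      rw [hy]; exact c'.2
    obtain ⟨x'', hx'', hmem⟩ :=
      pi_apply 𝒮 𝒮h ι z hz pC chartC p chart i hi U hU r hr i' hi' y hyE c' hy.symm
    have hxx : x'' = x' :=
      (RelProj.emb p chart U hU).isOpenEmbedding.injective (hx''.symm.trans hx'2.symm)
    refine ⟨y, ?_, hy⟩
    intro hfy
    have hfy' : f ∈ y.asIdeal := hfy
    apply (Proj.mem_basicOpen _ _ _).mp hx'f
    rw [← hxx]
    exact (hmem d f hf).mpr hfy'
  · rintro ⟨y, hfy, hy⟩
    have hfy' : f ∉ y.asIdeal := hfy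
    have hyE : y ∈ RelCone.vertexCompl (𝒮.deg U hU) :=
      (mem_vertexCompl_iff _ y).mpr ⟨f, HomogeneousIdeal.mem_irrelevant_of_mem _ hd hf, hfy'⟩
    obtain ⟨x'', hx'', hmem⟩ :=
      pi_apply 𝒮 𝒮h ι z hz pC chartC p chart i hi U hU r hr i' hi' y hyE c' hy.symm
    refine ⟨x'', ?_, hx''.symm⟩
    exact (Proj.mem_basicOpen _ _ _).mpr fun h ↦ hfy' ((hmem d f hf).mp h)

end Aux

/-- The canonical retraction of the pointed affine cone: let 𝒮 be a quasi-coherent positively graded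
O_Y-algebra with 𝒮_0 = O_Y, Ŝ = 𝒮[z] (graded homomorphism ι : 𝒮 → Ŝ and a degree-one global section
z, polynomial over affine opens), C = Spec(𝒮), X = Proj(𝒮) and Ĉ = Proj(Ŝ) with their charts, E ⊆ C
and Ê ⊆ Ĉ the pointed cones, i : C → Ĉ the canonical open immersion and p : Ê → X the canonical
retraction (the morphism which on each affine piece Spec Ŝ(U)_(ι f), f ∈ 𝒮(U) homogeneous of
positive degree, is Spec of 𝒮(U)_(f) → Ŝ(U)_(ι f) followed by the chart of X). Then the image of E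
under i lies in Ê, and for the induced morphism i' : E → Ê the composite π = i' ≫ p : E → X is
affine and surjective. -/
theorem result {Y PC P : Scheme.{u}} (𝒮 𝒮h : RelProj.QCGrAlg Y) (h0 : RelCone.StrZeroBij 𝒮)
    (ι : 𝒮.toQCAlg ⟶ 𝒮h.toQCAlg) (z : 𝒮h.presheaf.obj (op ⊤)) (hz : RelCone.IsPolyOver 𝒮 𝒮h ι z)
    (pC : PC ⟶ Y)
    (chartC : ∀ (U : Y.Opens) (hU : IsAffineOpen U), (((pC ⁻¹ᵁ U : PC.Opens) : Scheme.{u}) ≅ Proj (𝒮h.deg U hU)))
    (hPC : RelProj.IsRelProj 𝒮h pC chartC)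
    (p : P ⟶ Y)
    (chart : ∀ (U : Y.Opens) (hU : IsAffineOpen U), (((p ⁻¹ᵁ U : P.Opens) : Scheme.{u}) ≅ Proj (𝒮.deg U hU)))
    (hP : RelProj.IsRelProj 𝒮 p chart)
    (i : 𝒮.toQCAlg.spec ⟶ PC) (hi : RelCone.IsConeImm 𝒮 hz pC chartC i)
    (r : ((RelCone.pointedProjCone 𝒮 hz pC chartC : PC.Opens) : Scheme.{u}) ⟶ P)
    (hr : (∀ (U : Y.Opens) (hU : IsAffineOpen U) (d : ℕ) (hd : 0 < d) (f : 𝒮.presheaf.obj (op U)) (hf : f ∈ 𝒮.deg U hU d)
        (g : Spec (CommRingCat.of (HomogeneousLocalization.Away (𝒮h.deg U hU) ((RelProj.gradedHomAt ι hz.graded U hU) f))) ⟶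
          ((RelCone.pointedProjCone 𝒮 hz pC chartC : PC.Opens) : Scheme.{u})),
        g ≫ (RelCone.pointedProjCone 𝒮 hz pC chartC).ι =
            Proj.awayι (𝒮h.deg U hU) ((RelProj.gradedHomAt ι hz.graded U hU) f) ((RelProj.gradedHomAt ι hz.graded U hU).2 hf) hd ≫
              RelProj.emb pC chartC U hU →
          g ≫ r =
            Spec.map (CommRingCat.ofHom (HomogeneousLocalization.Away.map (RelProj.gradedHomAt ι hz.graded U hU) f)) ≫
              Proj.awayι (𝒮.deg U hU) f hf hd ≫ RelProj.emb p chart U hU)) :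
    (RelCone.pointedCone 𝒮 : 𝒮.toQCAlg.spec.Opens) ≤ i ⁻¹ᵁ (RelCone.pointedProjCone 𝒮 hz pC chartC) ∧
      ∀ i' : ((RelCone.pointedCone 𝒮 : 𝒮.toQCAlg.spec.Opens) : Scheme.{u}) ⟶ ((RelCone.pointedProjCone 𝒮 hz pC chartC : PC.Opens) : Scheme.{u}),
        i' ≫ (RelCone.pointedProjCone 𝒮 hz pC chartC).ι = (RelCone.pointedCone 𝒮).ι ≫ i →
          IsAffineHom (i' ≫ r) ∧ Function.Surjective (i' ≫ r).base := by
  refine ⟨?_, fun i' hi' ↦ ⟨?_, ?_⟩⟩
  · intro c hc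
    obtain ⟨⟨U, hU⟩, y, hy, rfl⟩ := Opens.mem_iSup.mp hc
    have hU' : IsAffineOpen U := hU
    change i.base ((𝒮.toQCAlg.ι U hU').base y) ∈ RelCone.pointedProjCone 𝒮 hz pC chartC
    rw [i_ι_apply 𝒮 𝒮h ι z hz pC chartC i hi U hU' y]
    exact Opens.mem_iSup.mpr ⟨⟨U, hU⟩, conePt 𝒮 𝒮h ι z hz U hU' y,
      conePt_mem_domOpen 𝒮 𝒮h ι z hz U hU' y hy, rfl⟩
  · apply isAffineHom_of_forall_exists_isAffineOpen
    intro x
    obtain ⟨_, ⟨U, hU, rfl⟩, hxU, -⟩ := Y.isBasis_affineOpens.exists_subset_of_mem_open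
      (Set.mem_univ (p.base x)) isOpen_univ
    have hxU' : x ∈ p ⁻¹ᵁ U := hxU
    have hx' := emb_apply_chart p chart U hU x hxU'
    set x' := chartPt p chart U hU x hxU' with hx'def
    have hcov := (Proj.affineOpenCover (𝒮.deg U hU)).covers x'
    set j := (Proj.affineOpenCover (𝒮.deg U hU)).idx x'
    have hxf : x' ∈ Proj.basicOpen (𝒮.deg U hU) (j.2 : 𝒮.presheaf.obj (op U)) := by
      rw [← Proj.opensRange_awayι (𝒮.deg U hU) _ j.2.2 j.1.2]
      exact hcov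
    refine ⟨(RelProj.emb p chart U hU) ''ᵁ
      (Proj.basicOpen (𝒮.deg U hU) (j.2 : 𝒮.presheaf.obj (op U))), ⟨x', hxf, hx'⟩,
      (Proj.isAffineOpen_basicOpen (𝒮.deg U hU) _ j.2.2 j.1.2).image_of_isOpenImmersion _, ?_⟩
    rw [preimage_chart 𝒮 𝒮h ι z hz pC chartC p chart i hi U hU r hr i' hi' hP hPC j.1.2 _ j.2.2]
    apply IsAffineOpen.preimage_of_isOpenImmersion
    · exact (IsAffineOpen.Spec_basicOpen (j.2 : 𝒮.presheaf.obj (op U))).image_of_isOpenImmersion _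
    · rw [Scheme.Opens.opensRange_ι]
      rintro _ ⟨y, hy, rfl⟩
      have hy' : (j.2 : 𝒮.presheaf.obj (op U)) ∉ y.asIdeal := hy
      exact (ι_mem_pointedCone_iff 𝒮 U hU y).mpr ((mem_vertexCompl_iff _ y).mpr
        ⟨_, HomogeneousIdeal.mem_irrelevant_of_mem _ j.1.2 j.2.2, hy'⟩)
  · intro x
    obtain ⟨_, ⟨U, hU, rfl⟩, hxU, -⟩ := Y.isBasis_affineOpens.exists_subset_of_mem_open
      (Set.mem_univ (p.base x)) isOpen_univ
    have hxU' : x ∈ p ⁻¹ᵁ U := hxU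
    have hx' := emb_apply_chart p chart U hU x hxU'
    set x' := chartPt p chart U hU x hxU' with hx'def
    let y : Spec (𝒮.presheaf.obj (op U)) := ⟨x'.asHomogeneousIdeal.toIdeal, x'.isPrime⟩
    have hy : y ∈ RelCone.vertexCompl (𝒮.deg U hU) := by
      obtain ⟨c, hc, hcx⟩ := SetLike.not_le_iff_exists.mp x'.not_irrelevant_le
      exact (mem_vertexCompl_iff _ y).mpr ⟨c, hc, hcx⟩
    let c' : ((RelCone.pointedCone 𝒮 : 𝒮.toQCAlg.spec.Opens) : Scheme.{u}) :=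
      ⟨(𝒮.toQCAlg.ι U hU).base y, (ι_mem_pointedCone_iff 𝒮 U hU y).mpr hy⟩
    obtain ⟨x'', hx'', hmem⟩ :=
      pi_apply 𝒮 𝒮h ι z hz pC chartC p chart i hi U hU r hr i' hi' y hy c' rfl
    refine ⟨c', ?_⟩
    rw [hx'']
    have hxx : x'' = x' := by
      apply ProjectiveSpectrum.ext
      exact homogeneousIdeal_ext fun n a ha ↦ hmem n a ha
    rw [hxx]
    exact hx'

end Groth.Agent.S8309
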