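import Groth.Statements.S8297
import Groth.Agent.S8309

set_option autoImplicit false
universe u
open CategoryTheory CategoryTheory.Limits AlgebraicGeometry Opposite TopologicalSpace
open scoped HomogeneousIdeal
noncomputable section
open EGA2

namespace Groth.Agent.S8297

open Groth.Agent.Lib.H60RelCone Groth.Agent.Lib.H60AwayDegOne
open Groth.Agent.Lib.ProjQMapOn Groth.Agent.Lib.ProjQMap
open Groth.Agent.S8309 Groth.Agent.S8298
open HomogeneousLocalization

section Aux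

variable {Y PC P : Scheme.{u}} (𝒮 𝒮h : RelProj.QCGrAlg Y)
  (ι : 𝒮.toQCAlg ⟶ 𝒮h.toQCAlg) (z : 𝒮h.presheaf.obj (op ⊤)) (hz : RelCone.IsPolyOver 𝒮 𝒮h ι z)
  (pC : PC ⟶ Y)
  (chartC : ∀ (U : Y.Opens) (hU : IsAffineOpen U),
    (((pC ⁻¹ᵁ U : PC.Opens) : Scheme.{u}) ≅ Proj (𝒮h.deg U hU)))
  (hPC : RelProj.IsRelProj 𝒮h pC chartC)
  (i : 𝒮.toQCAlg.spec ⟶ PC) (hi : RelCone.IsConeImm 𝒮 hz pC chartC i)
  (U : Y.Opens) (hU : IsAffineOpen U)

/-- `theta ∘ awayZToBase = id`. -/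
lemma theta_awayZToBase (w : Away (𝒮h.deg U hU) (RelCone.restrictTop 𝒮h z U)) :
    theta (RelProj.gradedHomAt ι hz.graded U hU) (RelCone.restrictTop 𝒮h z U) (hz.deg_z U hU)
      (hz.awayZToBase U hU w) = w := by
  obtain ⟨a, rfl⟩ := theta_surj 𝒮 𝒮h ι z hz U hU w
  rw [awayZToBase_theta]

include hi hPC in
/-- (L1) the range of the cone immersion in a chart is `D₊(z)`. -/
lemma emb_mem_range_i_iff (x : Proj (𝒮h.deg U hU)) :
    (RelProj.emb pC chartC U hU).base x ∈ Set.range i.base ↔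
      RelCone.restrictTop 𝒮h z U ∉ x.asHomogeneousIdeal := by
  constructor
  · rintro ⟨c₀, hc₀⟩
    have h1 : 𝒮.toQCAlg.π.base c₀ ∈ U := by
      have e := congrArg (fun g ↦ g.base c₀) (i_over 𝒮 𝒮h ι z hz pC chartC i hi hPC)
      have e' : pC.base (i.base c₀) = 𝒮.toQCAlg.π.base c₀ := e
      rw [← e', hc₀]
      exact range_emb_le pC chartC U hU x
    obtain ⟨y, rfl⟩ := exists_chart 𝒮.toQCAlg c₀ U hU h1
    rw [i_ι_apply 𝒮 𝒮h ι z hz pC chartC i hi U hU y] at hc₀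
    have hx : conePt 𝒮 𝒮h ι z hz U hU y = x :=
      (RelProj.emb pC chartC U hU).isOpenEmbedding.injective hc₀
    rw [← hx]
    intro hcon
    have h2 := (mem_conePt_iff 𝒮 𝒮h ι z hz U hU y (hz.deg_z U hU)).mp hcon
    rw [hz.evalOne_z U hU] at h2
    exact y.isPrime.ne_top ((Ideal.eq_top_iff_one _).mpr h2)
  · intro hzx
    have hxD : x ∈ (Proj.awayι (𝒮h.deg U hU) (RelCone.restrictTop 𝒮h z U)
        (hz.deg_z U hU) one_pos).opensRange := by
      rw [Proj.opensRange_awayι]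
      exact (Proj.mem_basicOpen _ _ _).mpr hzx
    obtain ⟨q, hq⟩ := hxD
    let y : Spec (𝒮.presheaf.obj (op U)) :=
      (Spec.map (CommRingCat.ofHom (theta (RelProj.gradedHomAt ι hz.graded U hU)
        (RelCone.restrictTop 𝒮h z U) (hz.deg_z U hU)))).base q
    have hy : (Spec.map (CommRingCat.ofHom (hz.awayZToBase U hU))).base y = q := by
      change (Spec.map (CommRingCat.ofHom (theta (RelProj.gradedHomAt ι hz.graded U hU)
        (RelCone.restrictTop 𝒮h z U) (hz.deg_z U hU))) ≫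
          Spec.map (CommRingCat.ofHom (hz.awayZToBase U hU))).base q = q
      rw [← Spec.map_comp]
      have : CommRingCat.ofHom (hz.awayZToBase U hU) ≫ CommRingCat.ofHom
          (theta (RelProj.gradedHomAt ι hz.graded U hU)
            (RelCone.restrictTop 𝒮h z U) (hz.deg_z U hU)) = 𝟙 _ :=
        CommRingCat.hom_ext (RingHom.ext fun w ↦ theta_awayZToBase 𝒮 𝒮h ι z hz U hU w)
      rw [this, Spec.map_id]
      rfl
    refine ⟨(𝒮.toQCAlg.ι U hU).base y, ?_⟩
    rw [i_ι_apply 𝒮 𝒮h ι z hz pC chartC i hi U hU y]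
    unfold conePt
    rw [hy, hq]

variable (θ : 𝒮h.toQCAlg ⟶ 𝒮.toQCAlg) (hθ : RelProj.IsGradedHom θ) (hιθ : ι ≫ θ = 𝟙 _)
  (hθz : (θ.hom.app (op ⊤)).hom z = 0)
  (hirr : ∀ (U : Y.Opens) (hU : IsAffineOpen U),
    (𝒮.deg U hU)₊ ≤ ((𝒮h.deg U hU)₊).map (RelProj.gradedHomAt θ hθ U hU))
  (p : P ⟶ Y)
  (chart : ∀ (U : Y.Opens) (hU : IsAffineOpen U),
    (((p ⁻¹ᵁ U : P.Opens) : Scheme.{u}) ≅ Proj (𝒮.deg U hU)))
  (hP : RelProj.IsRelProj 𝒮 p chart) (j : P ⟶ PC)
  (hj : RelProj.IsRelProjMap θ hθ hirr chartC chart j)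

include hθz in
lemma theta_z : (θ.hom.app (op U)).hom (RelCone.restrictTop 𝒮h z U) = 0 := by
  have h := congrArg (fun t ↦ t.hom z) (θ.hom.naturality (homOfLE (le_top : U ≤ ⊤)).op)
  have h' : (θ.hom.app (op U)).hom ((𝒮h.presheaf.map (homOfLE (le_top : U ≤ ⊤)).op).hom z) =
      (𝒮.presheaf.map (homOfLE (le_top : U ≤ ⊤)).op).hom ((θ.hom.app (op ⊤)).hom z) := h
  change (θ.hom.app (op U)).hom ((𝒮h.presheaf.map (homOfLE (le_top : U ≤ ⊤)).op).hom z) = 0
  rw [h', hθz, map_zero]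

include hιθ in
lemma theta_iota (a : 𝒮.presheaf.obj (op U)) :
    (θ.hom.app (op U)).hom ((ι.hom.app (op U)).hom a) = a := by
  have h := congrArg (fun t ↦ (t.hom.app (op U)).hom a) hιθ
  exact h

include hz hU hιθ hθz in
/-- `b - ι (θ b)` is a multiple of `z`. -/
lemma sub_iota_theta_mem (b : 𝒮h.presheaf.obj (op U)) :
    ∃ c, b - (ι.hom.app (op U)).hom ((θ.hom.app (op U)).hom b) = RelCone.restrictTop 𝒮h z U * c := by
  obtain ⟨Q, rfl⟩ := (hz.bij U hU).surjective b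
  have hQ : Polynomial.eval₂RingHom (ι.hom.app (op U)).hom (RelCone.restrictTop 𝒮h z U) Q =
      (ι.hom.app (op U)).hom (Q.coeff 0) +
        RelCone.restrictTop 𝒮h z U * Polynomial.eval₂ (ι.hom.app (op U)).hom
          (RelCone.restrictTop 𝒮h z U) Q.divX := by
    conv_lhs => rw [← Polynomial.X_mul_divX_add Q]
    rw [map_add, map_mul]
    simp only [Polynomial.coe_eval₂RingHom, Polynomial.eval₂_X, Polynomial.eval₂_C]
    ring
  refine ⟨Polynomial.eval₂ (ι.hom.app (op U)).hom (RelCone.restrictTop 𝒮h z U) Q.divX, ?_⟩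
  rw [hQ, map_add, map_mul, theta_z 𝒮 𝒮h z U θ hθz, zero_mul, add_zero,
    theta_iota 𝒮 𝒮h ι U θ hιθ]
  ring

include hj in
lemma emb_j : RelProj.emb p chart U hU ≫ j =
    Proj.map (RelProj.gradedHomAt θ hθ U hU) (hirr U hU) ≫ RelProj.emb pC chartC U hU := by
  unfold RelProj.emb
  rw [Category.assoc, hj U hU, Iso.inv_hom_id_assoc]

include hz hj hP hPC hιθ hθz in
/-- (L2) the range of the immersion at infinity in a chart is `V₊(z)`. -/
lemma emb_mem_range_j_iff (x : Proj (𝒮h.deg U hU)) :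
    (RelProj.emb pC chartC U hU).base x ∈ Set.range j.base ↔
      RelCone.restrictTop 𝒮h z U ∈ x.asHomogeneousIdeal := by
  constructor
  · rintro ⟨x₀, hx₀⟩
    have hover := Groth.Agent.Lib.RelProjMap.over θ hθ hirr hPC hP j hj
    have h1 : x₀ ∈ p ⁻¹ᵁ U := by
      have e := congrArg (fun g ↦ g.base x₀) hover
      have e' : pC.base (j.base x₀) = p.base x₀ := e
      change p.base x₀ ∈ U
      rw [← e', hx₀]
      exact range_emb_le pC chartC U hU x
    have hx' := emb_apply_chart p chart U hU x₀ h1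
    set x₀' := chartPt p chart U hU x₀ h1
    have e2 := congrArg (fun g ↦ g.base x₀') (emb_j 𝒮 𝒮h pC chartC U hU θ hθ hirr p chart j hj)
    have e2' : j.base ((RelProj.emb p chart U hU).base x₀') =
        (RelProj.emb pC chartC U hU).base
          ((Proj.map (RelProj.gradedHomAt θ hθ U hU) (hirr U hU)).base x₀') := e2
    rw [hx', hx₀] at e2'
    have hx : x = (Proj.map (RelProj.gradedHomAt θ hθ U hU) (hirr U hU)).base x₀' :=
      (RelProj.emb pC chartC U hU).isOpenEmbedding.injective e2'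
    rw [hx]
    change (RelProj.gradedHomAt θ hθ U hU) (RelCone.restrictTop 𝒮h z U) ∈
      x₀'.asHomogeneousIdeal
    have : (RelProj.gradedHomAt θ hθ U hU) (RelCone.restrictTop 𝒮h z U) = 0 :=
      theta_z 𝒮 𝒮h z U θ hθz
    rw [this]
    exact zero_mem _
  · intro hzx
    have hdom : x ∈ RelCone.domOpen (RelProj.gradedHomAt ι hz.graded U hU) := by
      by_contra hx
      exact z_notMem 𝒮 𝒮h ι z hz U hU x hx hzx
    obtain ⟨f, hf, hfx⟩ := (RelCone.mem_domOpen _ x).mp hdom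
    let x₀' : Proj (𝒮.deg U hU) :=
      ⟨x.asHomogeneousIdeal.comap (RelProj.gradedHomAt ι hz.graded U hU),
        x.isPrime.comap (RelProj.gradedHomAt ι hz.graded U hU),
        fun le ↦ hfx (le hf)⟩
    have hxx : (Proj.map (RelProj.gradedHomAt θ hθ U hU) (hirr U hU)).base x₀' = x := by
      apply ProjectiveSpectrum.ext
      apply HomogeneousIdeal.toIdeal_injective
      ext b
      change (RelProj.gradedHomAt ι hz.graded U hU) ((RelProj.gradedHomAt θ hθ U hU) b) ∈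
        x.asHomogeneousIdeal.toIdeal ↔ b ∈ x.asHomogeneousIdeal.toIdeal
      obtain ⟨c, hc⟩ := sub_iota_theta_mem 𝒮 𝒮h ι z hz U hU θ hιθ hθz b
      have hc' : b - (RelProj.gradedHomAt ι hz.graded U hU) ((RelProj.gradedHomAt θ hθ U hU) b) ∈
          x.asHomogeneousIdeal.toIdeal := by
        change b - (ι.hom.app (op U)).hom ((θ.hom.app (op U)).hom b) ∈ _
        rw [hc]
        exact Ideal.mul_mem_right _ _ hzx
      constructor
      · intro h
        have := Ideal.add_mem _ hc' h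
        rwa [sub_add_cancel] at this
      · intro h
        have := Ideal.sub_mem _ h hc'
        rwa [sub_sub_cancel] at this
    refine ⟨(RelProj.emb p chart U hU).base x₀', ?_⟩
    have e2 := congrArg (fun g ↦ g.base x₀') (emb_j 𝒮 𝒮h pC chartC U hU θ hθ hirr p chart j hj)
    have e2' : j.base ((RelProj.emb p chart U hU).base x₀') =
        (RelProj.emb pC chartC U hU).base
          ((Proj.map (RelProj.gradedHomAt θ hθ U hU) (hirr U hU)).base x₀') := e2
    rw [e2', hxx]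

end Aux

/-- The relation i(C) = Ĉ − j(X): let 𝒮 be a quasi-coherent positively graded O_Y-algebra with 𝒮_0 =
O_Y, Ŝ = 𝒮[z] (given through a graded homomorphism ι : 𝒮 → Ŝ and a global section z of degree one,
the map 𝒮(U)[X] → Ŝ(U), X ↦ z, being bijective over every affine open U), C = Spec(𝒮) the affine
cone, Ĉ = Proj(Ŝ) the projective cone and X = Proj(𝒮), each relative homogeneous spectrum given with
its charts; let i : C → Ĉ be the canonical open immersion (chartwise Spec of Ŝ(U)_(z) → 𝒮(U), z ↦ 1,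
followed by the inclusion of D_+(z)), θ : Ŝ → 𝒮 the graded retraction of ι sending z to 0, and j : X
→ Ĉ the morphism chartwise induced by θ (the immersion of the locus at infinity). Then the
underlying set of the image of i is the complement of the image of j. -/
theorem result {Y PC P : Scheme.{u}} (𝒮 𝒮h : RelProj.QCGrAlg Y) (h0 : RelCone.StrZeroBij 𝒮)
    (ι : 𝒮.toQCAlg ⟶ 𝒮h.toQCAlg) (z : 𝒮h.presheaf.obj (op ⊤)) (hz : RelCone.IsPolyOver 𝒮 𝒮h ι z)
    (pC : PC ⟶ Y)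
    (chartC : ∀ (U : Y.Opens) (hU : IsAffineOpen U), (((pC ⁻¹ᵁ U : PC.Opens) : Scheme.{u}) ≅ Proj (𝒮h.deg U hU)))
    (hPC : RelProj.IsRelProj 𝒮h pC chartC)
    (i : 𝒮.toQCAlg.spec ⟶ PC) (hi : RelCone.IsConeImm 𝒮 hz pC chartC i)
    (θ : 𝒮h.toQCAlg ⟶ 𝒮.toQCAlg) (hθ : RelProj.IsGradedHom θ) (hιθ : ι ≫ θ = 𝟙 _)
    (hθz : (θ.hom.app (op ⊤)).hom z = 0)
    (hirr : ∀ (U : Y.Opens) (hU : IsAffineOpen U),
      (𝒮.deg U hU)₊ ≤ ((𝒮h.deg U hU)₊).map (RelProj.gradedHomAt θ hθ U hU))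
    (p : P ⟶ Y)
    (chart : ∀ (U : Y.Opens) (hU : IsAffineOpen U), (((p ⁻¹ᵁ U : P.Opens) : Scheme.{u}) ≅ Proj (𝒮.deg U hU)))
    (hP : RelProj.IsRelProj 𝒮 p chart) (j : P ⟶ PC) (hj : RelProj.IsRelProjMap θ hθ hirr chartC chart j) :
    Set.range i.base = (Set.range j.base)ᶜ := by
  ext c
  rw [Set.mem_compl_iff]
  obtain ⟨_, ⟨U, hU, rfl⟩, hcU, -⟩ := Y.isBasis_affineOpens.exists_subset_of_mem_open
    (Set.mem_univ (pC.base c)) isOpen_univ
  have hcU' : c ∈ pC ⁻¹ᵁ U := hcU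
  have hcx := emb_apply_chart pC chartC U hU c hcU'
  set x := chartPt pC chartC U hU c hcU' with hxdef
  rw [← hcx, emb_mem_range_i_iff 𝒮 𝒮h ι z hz pC chartC hPC i hi U hU x,
    emb_mem_range_j_iff 𝒮 𝒮h ι z hz pC chartC hPC U hU θ hθ hιθ hθz hirr p chart hP j hj x]

end Groth.Agent.S8297
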