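import Groth.Statements.S8289
import Groth.Agent.S8297
import Mathlib.AlgebraicGeometry.ProjectiveSpectrum.Proper

set_option autoImplicit false
universe u
open CategoryTheory CategoryTheory.Limits AlgebraicGeometry Opposite TopologicalSpace
open scoped HomogeneousIdeal
noncomputable section
open EGA2

namespace Groth.Agent.S8289

open Groth.Agent.Lib.H60RelCone Groth.Agent.Lib.H60AwayDegOne
open Groth.Agent.S8309 Groth.Agent.S8298 Groth.Agent.S8297
open HomogeneousLocalization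

/-! ### Ring-level lemmas -/

section Ring

variable {A σ : Type u} [CommRing A] [SetLike σ A] [AddSubgroupClass σ A] {𝒜 : ℕ → σ}
  [GradedRing 𝒜]
  {B τ : Type u} [CommRing B] [SetLike τ B] [AddSubgroupClass τ B] {ℬ : ℕ → τ} [GradedRing ℬ]
  {A' σ' : Type u} [CommRing A'] [SetLike σ' A'] [AddSubgroupClass σ' A'] {𝒜' : ℕ → σ'}
  [GradedRing 𝒜']
  {B' τ' : Type u} [CommRing B'] [SetLike τ' B'] [AddSubgroupClass τ' B'] {ℬ' : ℕ → τ'}
  [GradedRing ℬ']

/-- `theta` is natural. -/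
lemma awayMap_theta (φ : 𝒜 →+*ᵍ ℬ) (φ' : 𝒜' →+*ᵍ ℬ') (ρA : 𝒜 →+*ᵍ 𝒜') (ρB : ℬ →+*ᵍ ℬ')
    (hcomm : ∀ a, ρB (φ a) = φ' (ρA a)) (z : B) (hz : z ∈ ℬ 1) (a : A) :
    Away.map ρB z (theta φ z hz a) = theta φ' (ρB z) (ρB.2 hz) (ρA a) := by
  induction a using DirectSum.Decomposition.inductionOn 𝒜 with
  | zero => simp
  | @homogeneous i m =>
    rw [theta_of_mem φ z hz i m.1 m.2, theta_of_mem φ' (ρB z) (ρB.2 hz) i (ρA m.1) (ρA.2 m.2)]
    apply val_injective
    unfold mk1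
    rw [Away.map_mk]
    simp only [Away.val_mk, hcomm]
  | add m m' hm hm' => rw [map_add, map_add, map_add, map_add, hm, hm']

/-- Compatibility of the chart morphisms of the cone immersion along restriction. -/
lemma chart_compat (φ : 𝒜 →+*ᵍ ℬ) (φ' : 𝒜' →+*ᵍ ℬ') (ρA : 𝒜 →+*ᵍ 𝒜') (ρB : ℬ →+*ᵍ ℬ')
    (hcomm : ∀ a, ρB (φ a) = φ' (ρA a)) (hρ : (ℬ')₊ ≤ ((ℬ)₊).map ρB)
    (z : B) (hz : z ∈ ℬ 1) (z' : B') (hz' : z' ∈ ℬ' 1) (e : ρB z = z')
    (θ : Away ℬ z →+* A) (hθ : ∀ q, theta φ z hz (θ q) = q) :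
    Spec.map (CommRingCat.ofHom (theta φ' z' hz')) ≫ Spec.map (CommRingCat.ofHom ρA.toRingHom) ≫
      Spec.map (CommRingCat.ofHom θ) ≫ Proj.awayι ℬ z hz one_pos =
    Proj.awayι ℬ' z' hz' one_pos ≫ Proj.map ρB hρ := by
  subst e
  rw [Proj.awayι_comp_map ρB hρ one_pos z hz, ← Spec.map_comp_assoc, ← Spec.map_comp_assoc]
  congr 2
  refine CommRingCat.hom_ext (RingHom.ext fun q => ?_)
  change theta φ' (ρB z) _ (ρA (θ q)) = Away.map ρB z q
  rw [← awayMap_theta φ φ' ρA ρB hcomm z hz, hθ]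

/-- The map `A_(f) → A_(fg)` is injective when `g` is a nonzerodivisor. -/
lemma awayMap_injective {d e : ℕ} {f g x : A} (hf : f ∈ 𝒜 d) (hg : g ∈ 𝒜 e) (hx : x = f * g)
    (hreg : ∀ a : A, g * a = 0 → a = 0) : Function.Injective (awayMap 𝒜 hg hx) := by
  rw [injective_iff_map_eq_zero]
  intro a ha
  obtain ⟨n, b, hb, rfl⟩ := Away.mk_surjective 𝒜 hf a
  rw [awayMap_mk] at ha
  have h1 := congrArg HomogeneousLocalization.val ha
  rw [Away.val_mk, val_zero, Localization.mk_eq_mk', IsLocalization.mk'_eq_zero_iff] at h1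
  obtain ⟨⟨_, m, rfl⟩, hm⟩ := h1
  have hregpow : ∀ (k : ℕ) (a : A), g ^ k * a = 0 → a = 0 := by
    intro k
    induction k with
    | zero => intro a h; simpa using h
    | succ k ih =>
      intro a h
      apply ih
      apply hreg
      rw [← mul_assoc, ← pow_succ']
      exact h
  have h2 : f ^ m * b = 0 := by
    apply hregpow (m + n)
    have : g ^ (m + n) * (f ^ m * b) = x ^ m * (b * g ^ n) := by
      rw [hx, mul_pow, pow_add]; ring
    rw [this]
    exact hm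
  apply val_injective
  rw [Away.val_mk, val_zero, Localization.mk_eq_mk', IsLocalization.mk'_eq_zero_iff]
  exact ⟨⟨f ^ m, m, rfl⟩, h2⟩

end Ring

/-! ### Morphisms out of a relative spectrum -/

section SpecDesc

theorem existsUnique_spec_desc {Y Z : Scheme.{u}} (A : RelSpec.QCAlg Y)
    (g : ∀ (U : Y.Opens) (hU : IsAffineOpen U), Spec (A.presheaf.obj (op U)) ⟶ Z)
    (hg : ∀ (U : Y.Opens) (hU : IsAffineOpen U) (r : Γ(Y, U)),
      Spec.map (A.presheaf.map (homOfLE (Y.basicOpen_le r)).op) ≫ g U hU =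
        g (Y.basicOpen r) (hU.basicOpen r)) :
    ∃! h : A.spec ⟶ Z, ∀ (U : Y.Opens) (hU : IsAffineOpen U), A.ι U hU ≫ h = g U hU := by
  have hg' : ∀ (U : Y.Opens) (hU : IsAffineOpen U) (V : Y.Opens) (hV : IsAffineOpen V) (h : V ≤ U)
      (_ : ∃ r : Γ(Y, U), Y.basicOpen r = V),
      Spec.map (A.presheaf.map (homOfLE h).op) ≫ g U hU = g V hV := by
    rintro U hU V hV h ⟨r, e⟩
    subst e
    exact hg U hU r
  let c : Cocone A.glueData.functor :=
    { pt := Z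
      ι :=
        { app := fun U => g U.1 U.2
          naturality := fun (V U : Y.AffineZariskiSite) i =>
            (hg' U.1 U.2 V.1 V.2 (Scheme.AffineZariskiSite.toOpens_mono i.le) i.le).trans
              (Category.comp_id _).symm } }
  refine ⟨colimit.desc A.glueData.functor c, fun U hU => colimit.ι_desc c ⟨U, hU⟩, ?_⟩
  intro h' hh'
  apply colimit.hom_ext
  intro U
  rw [colimit.ι_desc]
  exact hh' U.1 U.2

end SpecDesc

/-! ### Properties local on the target, checked on charts -/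

section LocalTarget

theorem morphismRestrict_iff_of_chart (P : MorphismProperty Scheme.{u}) [P.RespectsIso]
    {X Z T : Scheme.{u}} (f : X ⟶ Z) (W : Z.Opens) (j : T ⟶ X) [IsOpenImmersion j]
    (hj : j.opensRange = f ⁻¹ᵁ W) (g : T ⟶ W) (hg : g ≫ W.ι = j ≫ f) :
    P (f ∣_ W) ↔ P g := by
  let e : T ≅ (f ⁻¹ᵁ W : X.Opens) := IsOpenImmersion.isoOfRangeEq j (f ⁻¹ᵁ W).ι (by
    rw [Scheme.Opens.range_ι]
    exact congrArg (fun O : X.Opens => (O : Set X)) hj)
  have he : e.hom ≫ (f ⁻¹ᵁ W).ι = j := IsOpenImmersion.isoOfRangeEq_hom_fac _ _ _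
  have : e.hom ≫ f ∣_ W = g := by
    rw [← cancel_mono W.ι, Category.assoc, morphismRestrict_ι, reassoc_of% he, hg]
  rw [← this, P.cancel_left_of_respectsIso]

end LocalTarget

/-! ### Injectivity of restriction on `Proj` -/

section ProjInj

variable {A σ : Type u} [CommRing A] [SetLike σ A] [AddSubgroupClass σ A] (𝒜 : ℕ → σ)
  [GradedRing 𝒜]

lemma presheaf_map_injective {d e : ℕ} {f g : A} (hf : f ∈ 𝒜 d) (hd : 0 < d) (hg : g ∈ 𝒜 e)
    (hreg : ∀ a : A, g * a = 0 → a = 0) (O : (Proj 𝒜).Opens)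
    (eO : O = Proj.basicOpen 𝒜 (f * g)) (hle : O ≤ Proj.basicOpen 𝒜 f) :
    Function.Injective ((Proj 𝒜).presheaf.map (homOfLE hle).op) := by
  subst eO
  have h := Proj.awayMap_awayToSection 𝒜 (f := f) hg (x := f * g) rfl
  have hfg : f * g ∈ 𝒜 (d + e) := SetLike.mul_mem_graded hf hg
  have i1 : IsIso (Proj.awayToSection 𝒜 f) :=
    inferInstanceAs (IsIso (Proj.basicOpenIsoAway 𝒜 f hf hd).hom)
  have i2 : IsIso (Proj.awayToSection 𝒜 (f * g)) :=
    inferInstanceAs (IsIso (Proj.basicOpenIsoAway 𝒜 (f * g) hfg (by omega)).hom)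
  have h' : (Proj 𝒜).presheaf.map (homOfLE hle).op =
      inv (Proj.awayToSection 𝒜 f) ≫ CommRingCat.ofHom (awayMap 𝒜 hg rfl) ≫
        Proj.awayToSection 𝒜 (f * g) := by
    rw [h, IsIso.inv_hom_id_assoc]
  rw [h']
  intro s t hst
  simp only [CommRingCat.hom_comp, RingHom.coe_comp, Function.comp_apply] at hst
  have b2 := (ConcreteCategory.bijective_of_isIso (Proj.awayToSection 𝒜 (f * g))).1
  have b1 := (ConcreteCategory.bijective_of_isIso (inv (Proj.awayToSection 𝒜 f))).1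
  exact b1 (awayMap_injective hf hg rfl hreg (b2 hst))

/-- `app` of an open immersion is restriction followed by an isomorphism. -/
lemma app_eq_map_appIso {X Y : Scheme.{u}} (f : X ⟶ Y) [IsOpenImmersion f] (O : Y.Opens) :
    f.app O = Y.presheaf.map (homOfLE (f.image_preimage_eq_opensRange_inf O ▸ inf_le_right :
      f ''ᵁ f ⁻¹ᵁ O ≤ O)).op ≫ (f.appIso (f ⁻¹ᵁ O)).hom := by
  rw [Scheme.Hom.appIso_hom', Scheme.Hom.map_appLE, Scheme.Hom.app_eq_appLE]

lemma awayι_app_injective {z : A} (hz : z ∈ 𝒜 1) (hreg : ∀ a : A, z * a = 0 → a = 0)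
    {d : ℕ} (hd : 0 < d) {f : A} (hf : f ∈ 𝒜 d) (O : (Proj 𝒜).Opens)
    (eO : O = Proj.basicOpen 𝒜 f) :
    Function.Injective ((Proj.awayι 𝒜 z hz one_pos).app O) := by
  rw [app_eq_map_appIso]
  have hO : (Proj.awayι 𝒜 z hz one_pos) ''ᵁ (Proj.awayι 𝒜 z hz one_pos) ⁻¹ᵁ O =
      Proj.basicOpen 𝒜 (f * z) := by
    rw [Scheme.Hom.image_preimage_eq_opensRange_inf, Proj.opensRange_awayι, eO,
      Proj.basicOpen_mul, inf_comm]
  have hle : (Proj.awayι 𝒜 z hz one_pos) ''ᵁ (Proj.awayι 𝒜 z hz one_pos) ⁻¹ᵁ O ≤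
      Proj.basicOpen 𝒜 f := by
    rw [hO, Proj.basicOpen_mul]; exact inf_le_left
  have h1 := presheaf_map_injective 𝒜 hf hd hz hreg _ hO hle
  subst eO
  intro s t hst
  simp only [CommRingCat.hom_comp, RingHom.coe_comp, Function.comp_apply] at hst
  exact h1 ((ConcreteCategory.bijective_of_isIso
    ((Proj.awayι 𝒜 z hz one_pos).appIso _).hom).1 hst)

instance isAffineHom_awayι {d : ℕ} (hd : 0 < d) {f : A} (hf : f ∈ 𝒜 d) :
    IsAffineHom (Proj.awayι 𝒜 f hf hd) := by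
  have : IsAffineHom (Proj.awayι 𝒜 f hf hd ≫ Proj.toSpecZero 𝒜) := by
    rw [Proj.awayι_toSpecZero]; infer_instance
  exact IsAffineHom.of_comp _ (Proj.toSpecZero 𝒜)

end ProjInj

/-! ### The cone immersion -/

section Main

open Groth.Agent.Lib.ProjQMap

variable {Y PC : Scheme.{u}} (𝒮 Sh : RelProj.QCGrAlg Y)
  (ι : 𝒮.toQCAlg ⟶ Sh.toQCAlg) (z : Sh.presheaf.obj (op ⊤)) (hP : RelCone.IsPolyOver 𝒮 Sh ι z)
  (pC : PC ⟶ Y)
  (chartC : ∀ (U : Y.Opens) (hU : IsAffineOpen U),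
    (((pC ⁻¹ᵁ U : PC.Opens) : Scheme.{u}) ≅ Proj (Sh.deg U hU)))
  (hPC : RelProj.IsRelProj Sh pC chartC)

/-- Any `θ` with the computation rule of the statement is `awayZToBase`. -/
lemma theta_eq (U : Y.Opens) (hU : IsAffineOpen U)
    (θU : CommRingCat.of (Away (Sh.deg U hU) (RelCone.restrictTop Sh z U)) ⟶ 𝒮.presheaf.obj (op U))
    (hθ : ∀ (q : Away (Sh.deg U hU) (RelCone.restrictTop Sh z U)) (k : ℕ)
      (x : 𝒮.presheaf.obj (op U)), x ∈ 𝒮.deg U hU k →
        q.val = Localization.mk ((ι.hom.app (op U)).hom x)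
          ⟨RelCone.restrictTop Sh z U ^ k,
            pow_mem (Submonoid.mem_powers (RelCone.restrictTop Sh z U)) k⟩ →
        θU.hom q = x) :
    θU = CommRingCat.ofHom (hP.awayZToBase U hU) := by
  have h1 : ∀ a, θU.hom (theta (RelProj.gradedHomAt ι hP.graded U hU)
      (RelCone.restrictTop Sh z U) (hP.deg_z U hU) a) = a := by
    intro a
    induction a using DirectSum.Decomposition.inductionOn (𝒮.deg U hU) with
    | zero => simp
    | @homogeneous i m =>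
      rw [theta_of_mem _ _ _ i m.1 m.2]
      exact hθ _ i m.1 m.2 (val_mk1 (Sh.deg U hU) (hP.deg_z U hU) i _ _)
    | add m m' hm hm' => rw [map_add, map_add, hm, hm']
  refine CommRingCat.hom_ext (RingHom.ext fun q => ?_)
  conv_lhs => rw [← theta_awayZToBase 𝒮 Sh ι z hP U hU q]
  exact h1 _

include hP in
lemma z_regular (U : Y.Opens) (hU : IsAffineOpen U) (a : Sh.presheaf.obj (op U))
    (ha : RelCone.restrictTop Sh z U * a = 0) : a = 0 := by
  obtain ⟨p, rfl⟩ := (hP.polyEquiv U hU).surjective a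
  have hX : hP.polyEquiv U hU Polynomial.X = RelCone.restrictTop Sh z U := by
    rw [hP.polyEquiv_apply, Polynomial.eval₂_X]
  rw [← hX, ← map_mul, map_eq_zero_iff _ (hP.polyEquiv U hU).injective] at ha
  rw [Polynomial.isRegular_X.left.mul_left_eq_zero_iff.mp ha, map_zero]

/-- The chart morphism of the cone immersion. -/
def chartMor (U : Y.Opens) (hU : IsAffineOpen U) : Spec (𝒮.presheaf.obj (op U)) ⟶ PC :=
  Spec.map (CommRingCat.ofHom (hP.awayZToBase U hU)) ≫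
    Proj.awayι (Sh.deg U hU) (RelCone.restrictTop Sh z U) (hP.deg_z U hU) one_pos ≫
      RelProj.emb pC chartC U hU

include hPC in
lemma chartMor_res (U : Y.Opens) (hU : IsAffineOpen U) (r : Γ(Y, U)) :
    Spec.map (𝒮.presheaf.map (homOfLE (Y.basicOpen_le r)).op) ≫
        chartMor 𝒮 Sh ι z hP pC chartC U hU =
      chartMor 𝒮 Sh ι z hP pC chartC (Y.basicOpen r) (hU.basicOpen r) := by
  have hV := hU.basicOpen r
  have e : (Sh.res hU hV (Y.basicOpen_le r)) (RelCone.restrictTop Sh z U) =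
      RelCone.restrictTop Sh z (Y.basicOpen r) := by
    change (Sh.presheaf.map (homOfLE (Y.basicOpen_le r)).op).hom
      ((Sh.presheaf.map (homOfLE le_top).op).hom z) = (Sh.presheaf.map (homOfLE le_top).op).hom z
    rw [← CommRingCat.comp_apply, ← Functor.map_comp]
    rfl
  have hc := chart_compat (RelProj.gradedHomAt ι hP.graded U hU)
    (RelProj.gradedHomAt ι hP.graded (Y.basicOpen r) hV) (𝒮.res hU hV (Y.basicOpen_le r))
    (Sh.res hU hV (Y.basicOpen_le r))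
    (fun a => (congrArg (fun t => t.hom a)
      (ι.hom.naturality (homOfLE (Y.basicOpen_le r)).op)).symm)
    (Sh.irrelevant_le_map U hU r) (RelCone.restrictTop Sh z U) (hP.deg_z U hU)
    (RelCone.restrictTop Sh z (Y.basicOpen r)) (hP.deg_z _ hV) e
    (hP.awayZToBase U hU) (theta_awayZToBase 𝒮 Sh ι z hP U hU)
  have hid : Spec.map (CommRingCat.ofHom (hP.awayZToBase (Y.basicOpen r) hV)) ≫
      Spec.map (CommRingCat.ofHom (theta (RelProj.gradedHomAt ι hP.graded (Y.basicOpen r) hV)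
        (RelCone.restrictTop Sh z (Y.basicOpen r)) (hP.deg_z _ hV))) = 𝟙 _ := by
    rw [← Spec.map_comp]
    have : CommRingCat.ofHom (theta (RelProj.gradedHomAt ι hP.graded (Y.basicOpen r) hV)
        (RelCone.restrictTop Sh z (Y.basicOpen r)) (hP.deg_z _ hV)) ≫
        CommRingCat.ofHom (hP.awayZToBase (Y.basicOpen r) hV) = 𝟙 _ :=
      CommRingCat.hom_ext (RingHom.ext fun a => awayZToBase_theta 𝒮 Sh ι z hP _ hV a)
    rw [this, Spec.map_id]
  unfold chartMor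
  rw [← RelProj.map_res_emb hPC U hU r, ← reassoc_of% hc, reassoc_of% hid]
  rfl

include hPC in
lemma existsUnique_i : ∃! i : 𝒮.toQCAlg.spec ⟶ PC, ∀ (U : Y.Opens) (hU : IsAffineOpen U),
    𝒮.toQCAlg.ι U hU ≫ i = chartMor 𝒮 Sh ι z hP pC chartC U hU :=
  existsUnique_spec_desc 𝒮.toQCAlg _ (chartMor_res 𝒮 Sh ι z hP pC chartC hPC)

lemma isIso_awayZToBase (U : Y.Opens) (hU : IsAffineOpen U) :
    IsIso (CommRingCat.ofHom (hP.awayZToBase U hU)) := by
  refine ⟨CommRingCat.ofHom (theta (RelProj.gradedHomAt ι hP.graded U hU)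
    (RelCone.restrictTop Sh z U) (hP.deg_z U hU)), ?_, ?_⟩
  · exact CommRingCat.hom_ext (RingHom.ext fun q => theta_awayZToBase 𝒮 Sh ι z hP U hU q)
  · exact CommRingCat.hom_ext (RingHom.ext fun a => awayZToBase_theta 𝒮 Sh ι z hP U hU a)

/-- The chart morphism, as a morphism into the open `pC⁻¹(U)`. -/
def chartMor' (U : Y.Opens) (hU : IsAffineOpen U) :
    Spec (𝒮.presheaf.obj (op U)) ⟶ ((pC ⁻¹ᵁ U : PC.Opens) : Scheme.{u}) :=
  Spec.map (CommRingCat.ofHom (hP.awayZToBase U hU)) ≫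
    Proj.awayι (Sh.deg U hU) (RelCone.restrictTop Sh z U) (hP.deg_z U hU) one_pos ≫
      (chartC U hU).inv

lemma chartMor'_ι (U : Y.Opens) (hU : IsAffineOpen U) :
    chartMor' 𝒮 Sh ι z hP pC chartC U hU ≫ (pC ⁻¹ᵁ U).ι = chartMor 𝒮 Sh ι z hP pC chartC U hU := by
  unfold chartMor' chartMor RelProj.emb
  simp only [Category.assoc]

instance (U : Y.Opens) (hU : IsAffineOpen U) :
    IsOpenImmersion (chartMor' 𝒮 Sh ι z hP pC chartC U hU) := by
  have := isIso_awayZToBase 𝒮 Sh ι z hP U hU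
  unfold chartMor'
  infer_instance

instance (U : Y.Opens) (hU : IsAffineOpen U) :
    IsAffineHom (chartMor' 𝒮 Sh ι z hP pC chartC U hU) := by
  have := isIso_awayZToBase 𝒮 Sh ι z hP U hU
  unfold chartMor'
  infer_instance

variable (i : 𝒮.toQCAlg.spec ⟶ PC)
  (hi : ∀ (U : Y.Opens) (hU : IsAffineOpen U),
    𝒮.toQCAlg.ι U hU ≫ i = chartMor 𝒮 Sh ι z hP pC chartC U hU)

include hi hPC in
lemma i_over' : i ≫ pC = 𝒮.toQCAlg.π :=
  i_over 𝒮 Sh ι z hP pC chartC i hi hPC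

include hi hPC in
lemma i_preimage (U : Y.Opens) (hU : IsAffineOpen U) :
    (𝒮.toQCAlg.ι U hU).opensRange = i ⁻¹ᵁ (pC ⁻¹ᵁ U) := by
  rw [← Scheme.Hom.comp_preimage, i_over' 𝒮 Sh ι z hP pC chartC hPC i hi, 𝒮.toQCAlg.π_preimage U hU]

include hi hPC in
lemma of_local (P : MorphismProperty Scheme.{u}) [IsZariskiLocalAtTarget P]
    (H : ∀ (U : Y.Opens) (hU : IsAffineOpen U), P (chartMor' 𝒮 Sh ι z hP pC chartC U hU)) : P i := by
  refine IsZariskiLocalAtTarget.of_iSup_eq_top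
    (fun U : Y.affineOpens => pC ⁻¹ᵁ (U : Y.Opens))
    (Groth.Agent.Lib.RelProjMap.iSup_preimage_affineOpens pC) fun U => ?_
  have hU : IsAffineOpen (U : Y.Opens) := U.2
  refine (morphismRestrict_iff_of_chart P i (pC ⁻¹ᵁ (U : Y.Opens)) (𝒮.toQCAlg.ι U.1 hU)
    (i_preimage 𝒮 Sh ι z hP pC chartC hPC i hi U.1 hU)
    (chartMor' 𝒮 Sh ι z hP pC chartC U.1 hU) ?_).mpr (H U.1 hU)
  rw [chartMor'_ι, hi]

include hP in
/-- (K) the chart morphism is injective on sections over the standard affine opens. -/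
lemma chartMor_app_injective (U : Y.Opens) (hU : IsAffineOpen U) {d : ℕ} (hd : 0 < d)
    (f : Sh.presheaf.obj (op U)) (hf : f ∈ Sh.deg U hU d) :
    Function.Injective ((chartMor 𝒮 Sh ι z hP pC chartC U hU).app
      ((RelProj.emb pC chartC U hU) ''ᵁ Proj.basicOpen (Sh.deg U hU) f)).hom := by
  have := isIso_awayZToBase 𝒮 Sh ι z hP U hU
  unfold chartMor
  set a := Spec.map (CommRingCat.ofHom (hP.awayZToBase U hU)) with ha
  set b := Proj.awayι (Sh.deg U hU) (RelCone.restrictTop Sh z U) (hP.deg_z U hU) one_pos with hb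
  set c := RelProj.emb pC chartC U hU with hc
  set W := c ''ᵁ Proj.basicOpen (Sh.deg U hU) f with hW
  have e1 : ∀ s, ((a ≫ b ≫ c).app W).hom s =
      (a.app ((b ≫ c) ⁻¹ᵁ W)).hom (((b ≫ c).app W).hom s) := fun s => rfl
  have e2 : ∀ s, ((b ≫ c).app W).hom s = (b.app (c ⁻¹ᵁ W)).hom ((c.app W).hom s) := fun s => rfl
  have hb' : Function.Injective (b.app (c ⁻¹ᵁ W)).hom :=
    awayι_app_injective (Sh.deg U hU) (hP.deg_z U hU) (z_regular 𝒮 Sh ι z hP U hU) hd hf _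
      (c.preimage_image_eq _)
  have hc' : Function.Injective (c.app W).hom :=
    (ConcreteCategory.bijective_of_isIso (c.app W)).1
  have ha' : Function.Injective (a.app ((b ≫ c) ⁻¹ᵁ W)).hom :=
    (ConcreteCategory.bijective_of_isIso (a.app ((b ≫ c) ⁻¹ᵁ W))).1
  intro s t hst
  rw [e1, e1, e2, e2] at hst
  exact hc' (hb' (ha' hst))

lemma iSup_chart_basicOpen :
    ⨆ j : (Σ U : Y.affineOpens, Σ n : PNat, Sh.deg U.1 U.2 n),
      (RelProj.emb pC chartC j.1.1 j.1.2) ''ᵁ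
        Proj.basicOpen (Sh.deg j.1.1 j.1.2) (j.2.2 : Sh.presheaf.obj (op j.1.1)) = ⊤ := by
  rw [eq_top_iff]
  intro x _
  have hx : x ∈ (⊤ : PC.Opens) := trivial
  rw [← Groth.Agent.Lib.RelProjMap.iSup_preimage_affineOpens pC, Opens.mem_iSup] at hx
  obtain ⟨U, hxU⟩ := hx
  have hy : chartPt pC chartC U.1 U.2 x hxU ∈ (⊤ : (Proj (Sh.deg U.1 U.2)).Opens) := trivial
  rw [← Groth.Agent.Lib.ProjMapImm.iSup_basicOpen_pos, Opens.mem_iSup] at hy
  obtain ⟨s, hs⟩ := hy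
  refine Opens.mem_iSup.mpr ⟨⟨U, s⟩, ?_⟩
  exact ⟨_, hs, emb_apply_chart pC chartC U.1 U.2 x hxU⟩

include hi in
lemma ker_eq_bot : i.ker = ⊥ := by
  rw [eq_bot_iff]
  refine Scheme.IdealSheafData.le_of_iSup_eq_top
    (fun j : (Σ U : Y.affineOpens, Σ n : PNat, Sh.deg U.1 U.2 n) =>
      (⟨(RelProj.emb pC chartC j.1.1 j.1.2) ''ᵁ
        Proj.basicOpen (Sh.deg j.1.1 j.1.2) (j.2.2 : Sh.presheaf.obj (op j.1.1)),
        (Proj.isAffineOpen_basicOpen (Sh.deg j.1.1 j.1.2) _ j.2.2.2 j.2.1.2).image_of_isOpenImmersion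
          _⟩ : PC.affineOpens))
    (iSup_chart_basicOpen Sh pC chartC) fun j => ?_
  obtain ⟨U, n, f⟩ := j
  have hU : IsAffineOpen (U : Y.Opens) := U.2
  have h0 : i.ker ≤ (chartMor 𝒮 Sh ι z hP pC chartC U.1 hU).ker := by
    rw [← hi U.1 hU]
    exact Scheme.Hom.le_ker_comp _ _
  intro s hs
  have h1 := Scheme.Hom.ideal_ker_le _ _ (h0 _ hs)
  have h2 := chartMor_app_injective 𝒮 Sh ι z hP pC chartC U.1 hU n.2 f.1 f.2
  rw [RingHom.mem_ker] at h1
  have : s = 0 := h2 (h1.trans (map_zero _).symm)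
  rw [this]
  exact zero_mem _

include hi hPC in
lemma range_eq (Xz : PC.Opens)
    (hXz : ∀ (U : Y.Opens) (hU : IsAffineOpen U),
      Xz ⊓ pC ⁻¹ᵁ U = (pC ⁻¹ᵁ U).ι ''ᵁ ((chartC U hU).hom ⁻¹ᵁ
        Proj.basicOpen (Sh.deg U hU) (RelCone.restrictTop Sh z U))) :
    Set.range i.base = (Xz : Set PC) := by
  ext c
  obtain ⟨_, ⟨U, hU, rfl⟩, hcU, -⟩ := Y.isBasis_affineOpens.exists_subset_of_mem_open
    (Set.mem_univ (pC.base c)) isOpen_univ
  have hcU' : c ∈ pC ⁻¹ᵁ U := hcU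
  have hcx := emb_apply_chart pC chartC U hU c hcU'
  set x := chartPt pC chartC U hU c hcU' with hxdef
  rw [← hcx]
  change (RelProj.emb pC chartC U hU).base x ∈ Set.range i.base ↔ _
  rw [emb_mem_range_i_iff 𝒮 Sh ι z hP pC chartC hPC i hi U hU x]
  have h1 : (RelProj.emb pC chartC U hU) x ∈ (Xz : Set PC) ↔
      (RelProj.emb pC chartC U hU) x ∈ Xz ⊓ pC ⁻¹ᵁ U :=
    ⟨fun h => ⟨h, range_emb_le pC chartC U hU x⟩, fun h => h.1⟩
  rw [h1, hXz U hU]
  constructor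
  · intro h
    refine ⟨(chartC U hU).inv x, ?_, rfl⟩
    change (chartC U hU).hom ((chartC U hU).inv x) ∈ Proj.basicOpen _ _
    rw [← Scheme.Hom.comp_apply, Iso.inv_hom_id]
    exact (Proj.mem_basicOpen _ _ _).mpr h
  · rintro ⟨y, hy, hyx⟩
    have hyx' : (pC ⁻¹ᵁ U).ι y = (pC ⁻¹ᵁ U).ι ((chartC U hU).inv x) := hyx
    have e : y = (chartC U hU).inv x := (pC ⁻¹ᵁ U).ι.isOpenEmbedding.injective hyx'
    have hy' : (chartC U hU).hom y ∈ Proj.basicOpen (Sh.deg U hU) (RelCone.restrictTop Sh z U) := hy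
    rw [e, ← Scheme.Hom.comp_apply, Iso.inv_hom_id] at hy'
    exact (Proj.mem_basicOpen _ _ _).mp hy'

end Main

/-- The canonical morphism i from the affine cone to the projective cone: let 𝒮 be a quasi-coherent
positively graded O_Y-algebra with 𝒮_0 = O_Y, Ŝ = 𝒮[z] (z of degree one; presented through a graded
homomorphism ι : 𝒮 → Ŝ and a degree-one global section z with 𝒮(U)[X] → Ŝ(U), X ↦ z, bijective on
affine opens), C = Spec(𝒮) and Ĉ = Proj(Ŝ). There is a unique morphism i : C → Ĉ which, on the chart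
Spec 𝒮(U) of C over an affine open U, is Spec of the ring isomorphism Ŝ(U)_(z) ≅ 𝒮(U) (sending x/z^k
to x for x homogeneous of degree k) followed by the inclusion of D_+(z|U) into Proj Ŝ(U) and the
chart of Ĉ; this i is an open immersion, affine, lies over Y, Ĉ is the smallest closed subscheme of
Ĉ containing its image (its kernel ideal sheaf is zero), and its image is the open Ĉ_z where the
section z does not vanish (characterised chartwise by D_+(z|U)). -/
theorem result {Y PC : Scheme.{u}} (𝒮 Sh : RelProj.QCGrAlg Y)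
    (h0 : ∀ (U : Y.Opens) (hU : IsAffineOpen U), Function.Bijective (𝒮.strZero U hU).hom)
    (ι : 𝒮.toQCAlg ⟶ Sh.toQCAlg) (hι : RelProj.IsGradedHom ι) (z : Sh.presheaf.obj (op ⊤))
    (hz : ∀ (U : Y.Opens) (hU : IsAffineOpen U), (Sh.presheaf.map (homOfLE le_top).op).hom z ∈ Sh.deg U hU 1)
    (hpoly : ∀ (U : Y.Opens) (hU : IsAffineOpen U),
      Function.Bijective (Polynomial.eval₂RingHom (ι.hom.app (op U)).hom ((Sh.presheaf.map (homOfLE le_top).op).hom z)))
    (pC : PC ⟶ Y)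
    (chartC : ∀ (U : Y.Opens) (hU : IsAffineOpen U), (((pC ⁻¹ᵁ U : PC.Opens) : Scheme.{u}) ≅ Proj (Sh.deg U hU)))
    (hPC : RelProj.IsRelProj Sh pC chartC)
    (θ : ∀ (U : Y.Opens) (hU : IsAffineOpen U),
      CommRingCat.of (HomogeneousLocalization.Away (Sh.deg U hU) ((Sh.presheaf.map (homOfLE le_top).op).hom z)) ⟶
        𝒮.presheaf.obj (op U))
    (hθ : ∀ (U : Y.Opens) (hU : IsAffineOpen U)
      (q : HomogeneousLocalization.Away (Sh.deg U hU) ((Sh.presheaf.map (homOfLE le_top).op).hom z))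
      (k : ℕ) (x : 𝒮.presheaf.obj (op U)), x ∈ 𝒮.deg U hU k →
        q.val = Localization.mk ((ι.hom.app (op U)).hom x)
          ⟨(Sh.presheaf.map (homOfLE le_top).op).hom z ^ k,
            pow_mem (Submonoid.mem_powers ((Sh.presheaf.map (homOfLE le_top).op).hom z)) k⟩ →
        (θ U hU).hom q = x) :
    (∃! i : 𝒮.toQCAlg.spec ⟶ PC, ∀ (U : Y.Opens) (hU : IsAffineOpen U),
        𝒮.toQCAlg.ι U hU ≫ i =
          Spec.map (θ U hU) ≫
            Proj.awayι (Sh.deg U hU) ((Sh.presheaf.map (homOfLE le_top).op).hom z) (hz U hU) one_pos ≫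
              RelProj.emb pC chartC U hU) ∧
      ∀ i : 𝒮.toQCAlg.spec ⟶ PC, (∀ (U : Y.Opens) (hU : IsAffineOpen U),
        𝒮.toQCAlg.ι U hU ≫ i =
          Spec.map (θ U hU) ≫
            Proj.awayι (Sh.deg U hU) ((Sh.presheaf.map (homOfLE le_top).op).hom z) (hz U hU) one_pos ≫
              RelProj.emb pC chartC U hU) →
        IsOpenImmersion i ∧ IsAffineHom i ∧ i ≫ pC = 𝒮.toQCAlg.π ∧ i.ker = ⊥ ∧
          ∀ Xz : PC.Opens, (∀ (U : Y.Opens) (hU : IsAffineOpen U),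
            Xz ⊓ pC ⁻¹ᵁ U =
              (pC ⁻¹ᵁ U).ι ''ᵁ ((chartC U hU).hom ⁻¹ᵁ
                Proj.basicOpen (Sh.deg U hU) ((Sh.presheaf.map (homOfLE le_top).op).hom z))) →
            Set.range i.base = (Xz : Set PC) := by
  have hP : RelCone.IsPolyOver 𝒮 Sh ι z := ⟨hι, hz, hpoly⟩
  have hθeq : ∀ (U : Y.Opens) (hU : IsAffineOpen U),
      θ U hU = CommRingCat.ofHom (hP.awayZToBase U hU) :=
    fun U hU => theta_eq 𝒮 Sh ι z hP U hU (θ U hU) (hθ U hU)
  have hiff : ∀ i : 𝒮.toQCAlg.spec ⟶ PC,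
      (∀ (U : Y.Opens) (hU : IsAffineOpen U),
        𝒮.toQCAlg.ι U hU ≫ i =
          Spec.map (θ U hU) ≫
            Proj.awayι (Sh.deg U hU) ((Sh.presheaf.map (homOfLE le_top).op).hom z) (hz U hU)
              one_pos ≫ RelProj.emb pC chartC U hU) ↔
      (∀ (U : Y.Opens) (hU : IsAffineOpen U),
        𝒮.toQCAlg.ι U hU ≫ i = chartMor 𝒮 Sh ι z hP pC chartC U hU) := by
    intro i
    constructor
    · intro h U hU
      rw [h U hU, hθeq U hU]
      rfl
    · intro h U hU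
      rw [h U hU, hθeq U hU]
      rfl
  refine ⟨?_, ?_⟩
  · obtain ⟨i, hi, huniq⟩ := existsUnique_i 𝒮 Sh ι z hP pC chartC hPC
    exact ⟨i, (hiff i).2 hi, fun i' hi' => huniq i' ((hiff i').1 hi')⟩
  · intro i hi0
    have hi := (hiff i).1 hi0
    refine ⟨?_, ?_, ?_, ?_, ?_⟩
    · exact of_local 𝒮 Sh ι z hP pC chartC hPC i hi @IsOpenImmersion
        fun U hU => inferInstance
    · exact of_local 𝒮 Sh ι z hP pC chartC hPC i hi @IsAffineHom fun U hU => inferInstance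
    · exact i_over' 𝒮 Sh ι z hP pC chartC hPC i hi
    · exact ker_eq_bot 𝒮 Sh ι z hP pC chartC i hi
    · intro Xz hXz
      exact range_eq 𝒮 Sh ι z hP pC chartC hPC i hi Xz hXz

end Groth.Agent.S8289
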