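import Groth.Statements.S12137
import Groth.Agent.S8289
import Groth.Agent.Lib.TrivGrading
import Mathlib.AlgebraicGeometry.Morphisms.IsIso

set_option autoImplicit false
universe u
open CategoryTheory CategoryTheory.Limits AlgebraicGeometry Opposite TopologicalSpace
open scoped HomogeneousIdeal
noncomputable section
open EGA2

namespace Groth.Agent.S12137

open Groth.Agent.Lib.TrivGrading Groth.Agent.Lib.ProjQMap
open HomogeneousLocalization

section helpers

variable {Y P : Scheme.{u}} (𝒜 : RelSpec.QCAlg Y) (Sh : RelProj.QCGrAlg Y)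
  (ι : 𝒜 ⟶ Sh.toQCAlg) (z : Sh.presheaf.obj (op ⊤))
  (hP : RelCone.IsPolyOver (trivGr 𝒜) Sh ι z)

include hP in
/-- Elements of positive degree of `𝒜[z]` are multiples of `z`. -/
lemma mem_span_of_mem_pos (U : Y.Opens) (hU : IsAffineOpen U) {i : ℕ} (hi : 0 < i)
    (b : Sh.presheaf.obj (op U)) (hb : b ∈ Sh.deg U hU i) :
    b ∈ Ideal.span {RelCone.restrictTop Sh z U} := by
  obtain ⟨p, rfl⟩ := (hP.polyEquiv U hU).surjective b
  have hb' : (DirectSum.decompose (Sh.deg U hU) (hP.polyEquiv U hU p) i :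
      Sh.presheaf.obj (op U)) = hP.polyEquiv U hU p := DirectSum.decompose_of_mem_same _ hb
  rw [← hb', ← GradedRing.proj_apply, hP.polyEquiv_apply, Polynomial.eval₂_eq_sum_range, map_sum]
  refine Ideal.sum_mem _ fun j _ => ?_
  have ht : (ι.hom.app (op U)).hom (p.coeff j) * RelCone.restrictTop Sh z U ^ j ∈
      Sh.deg U hU j := by
    have h1 : (ι.hom.app (op U)).hom (p.coeff j) ∈ Sh.deg U hU 0 :=
      hP.graded U hU 0 _ (mem_trivDeg_zero _)
    have h2 : RelCone.restrictTop Sh z U ^ j ∈ Sh.deg U hU (j • 1) :=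
      SetLike.pow_mem_graded j (hP.deg_z U hU)
    have h3 := SetLike.mul_mem_graded h1 h2
    simpa using h3
  rw [GradedRing.proj_apply]
  by_cases hj : j = i
  · subst hj
    rw [DirectSum.decompose_of_mem_same _ ht]
    exact Ideal.mul_mem_left _ _
      (Ideal.pow_mem_of_mem _ (Ideal.mem_span_singleton_self _) j hi)
  · rw [DirectSum.decompose_of_mem_ne _ ht hj]
    exact zero_mem _

include hP in
lemma z_notMem (U : Y.Opens) (hU : IsAffineOpen U) (x : Proj (Sh.deg U hU)) :
    RelCone.restrictTop Sh z U ∉ x.asHomogeneousIdeal := by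
  intro hz
  apply x.not_irrelevant_le
  rw [HomogeneousIdeal.irrelevant_le]
  intro i hi b hb
  have h1 := mem_span_of_mem_pos 𝒜 Sh ι z hP U hU hi b hb
  have h2 : Ideal.span {RelCone.restrictTop Sh z U} ≤ x.asHomogeneousIdeal.toIdeal :=
    (Ideal.span_singleton_le_iff_mem _).mpr hz
  exact h2 h1

end helpers

/-- Let Y be a scheme, 𝒜 a quasi-coherent O_Y-algebra and Ŝ = 𝒜[T], graded with 𝒜 in degree 0 and T in
degree 1 — presented through a homomorphism of algebras ι : 𝒜 → Ŝ landing in degree 0 and a global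
section z of Ŝ of degree 1 such that, over every affine open U, the map 𝒜(U)[X] → Ŝ(U) sending X to
z is bijective — and let p : P → Y with its charts be the relative homogeneous spectrum Proj(Ŝ). For
each affine open U let θ_U : Ŝ(U)_(z) → 𝒜(U) be the ring isomorphism sending ι(a) z^k / z^k to a.
Then there is a unique morphism i : Spec(𝒜) → P which, on the chart Spec 𝒜(U) of Spec(𝒜) over each
affine open U, is Spec(θ_U) followed by the open immersion of D_+(z|U) into Proj Ŝ(U) and the chart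
of P; moreover i is an isomorphism and lies over Y. In particular Proj(O_Y[T]) is Y. -/
theorem result {Y P : Scheme.{u}} (𝒜 : RelSpec.QCAlg Y) (Sh : RelProj.QCGrAlg Y)
    (ι : 𝒜 ⟶ Sh.toQCAlg)
    (hι : ∀ (U : Y.Opens) (hU : IsAffineOpen U) (a : 𝒜.presheaf.obj (op U)), (ι.hom.app (op U)).hom a ∈ Sh.deg U hU 0)
    (z : Sh.presheaf.obj (op ⊤))
    (hz : ∀ (U : Y.Opens) (hU : IsAffineOpen U), (Sh.presheaf.map (homOfLE le_top).op).hom z ∈ Sh.deg U hU 1)
    (hpoly : ∀ (U : Y.Opens) (hU : IsAffineOpen U),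
      Function.Bijective (Polynomial.eval₂RingHom (ι.hom.app (op U)).hom ((Sh.presheaf.map (homOfLE le_top).op).hom z)))
    (p : P ⟶ Y)
    (chart : ∀ (U : Y.Opens) (hU : IsAffineOpen U), (((p ⁻¹ᵁ U : P.Opens) : Scheme.{u}) ≅ Proj (Sh.deg U hU)))
    (hP : RelProj.IsRelProj Sh p chart)
    (θ : ∀ (U : Y.Opens) (hU : IsAffineOpen U),
      CommRingCat.of (HomogeneousLocalization.Away (Sh.deg U hU) ((Sh.presheaf.map (homOfLE le_top).op).hom z)) ⟶
        𝒜.presheaf.obj (op U))
    (hθ : ∀ (U : Y.Opens) (hU : IsAffineOpen U)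
      (q : HomogeneousLocalization.Away (Sh.deg U hU) ((Sh.presheaf.map (homOfLE le_top).op).hom z))
      (k : ℕ) (a : 𝒜.presheaf.obj (op U)),
        q.val = Localization.mk ((ι.hom.app (op U)).hom a * (Sh.presheaf.map (homOfLE le_top).op).hom z ^ k)
          ⟨(Sh.presheaf.map (homOfLE le_top).op).hom z ^ k,
            pow_mem (Submonoid.mem_powers ((Sh.presheaf.map (homOfLE le_top).op).hom z)) k⟩ →
        (θ U hU).hom q = a) :
    (∃! i : 𝒜.spec ⟶ P, ∀ (U : Y.Opens) (hU : IsAffineOpen U),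
        𝒜.ι U hU ≫ i =
          Spec.map (θ U hU) ≫
            Proj.awayι (Sh.deg U hU) ((Sh.presheaf.map (homOfLE le_top).op).hom z) (hz U hU) one_pos ≫
              RelProj.emb p chart U hU) ∧
      ∀ i : 𝒜.spec ⟶ P, (∀ (U : Y.Opens) (hU : IsAffineOpen U),
        𝒜.ι U hU ≫ i =
          Spec.map (θ U hU) ≫
            Proj.awayι (Sh.deg U hU) ((Sh.presheaf.map (homOfLE le_top).op).hom z) (hz U hU) one_pos ≫
              RelProj.emb p chart U hU) →
        IsIso i ∧ i ≫ p = 𝒜.π := by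
  have hgr : RelProj.IsGradedHom (𝒜 := trivGr 𝒜) (ℬ := Sh) ι := by
    intro U hU d x hx
    rcases (mem_trivGr_deg_iff 𝒜 U hU).1 hx with rfl | rfl
    · exact hι U hU x
    · rw [map_zero]; exact zero_mem _
  have hP' : RelCone.IsPolyOver (trivGr 𝒜) Sh ι z := ⟨hgr, hz, hpoly⟩
  have hθ' : ∀ (U : Y.Opens) (hU : IsAffineOpen U)
      (q : Away (Sh.deg U hU) (RelCone.restrictTop Sh z U)) (k : ℕ)
      (x : 𝒜.presheaf.obj (op U)), x ∈ (trivGr 𝒜).deg U hU k →
        q.val = Localization.mk ((ι.hom.app (op U)).hom x)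
          ⟨RelCone.restrictTop Sh z U ^ k,
            pow_mem (Submonoid.mem_powers (RelCone.restrictTop Sh z U)) k⟩ →
        (θ U hU).hom q = x := by
    intro U hU q k x hx hq
    rcases (mem_trivGr_deg_iff 𝒜 U hU).1 hx with rfl | rfl
    · apply hθ U hU q 0 x
      rw [hq]
      congr 1
      rw [pow_zero, mul_one]
    · have hq0 : q = 0 := by
        apply val_injective
        rw [hq, map_zero, Localization.mk_zero, val_zero]
      rw [hq0, map_zero]
  have hθeq : ∀ (U : Y.Opens) (hU : IsAffineOpen U),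
      θ U hU = CommRingCat.ofHom (hP'.awayZToBase U hU) :=
    fun U hU => Groth.Agent.S8289.theta_eq (trivGr 𝒜) Sh ι z hP' U hU (θ U hU) (hθ' U hU)
  have hiff : ∀ i : 𝒜.spec ⟶ P,
      (∀ (U : Y.Opens) (hU : IsAffineOpen U),
        𝒜.ι U hU ≫ i =
          Spec.map (θ U hU) ≫
            Proj.awayι (Sh.deg U hU) ((Sh.presheaf.map (homOfLE le_top).op).hom z) (hz U hU)
              one_pos ≫ RelProj.emb p chart U hU) ↔
      (∀ (U : Y.Opens) (hU : IsAffineOpen U),
        (trivGr 𝒜).toQCAlg.ι U hU ≫ i =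
          Groth.Agent.S8289.chartMor (trivGr 𝒜) Sh ι z hP' p chart U hU) := by
    intro i
    constructor
    · intro h U hU
      refine (h U hU).trans ?_
      rw [hθeq U hU]
      rfl
    · intro h U hU
      refine (h U hU).trans ?_
      rw [hθeq U hU]
      rfl
  refine ⟨?_, ?_⟩
  · obtain ⟨i, hi, huniq⟩ := Groth.Agent.S8289.existsUnique_i (trivGr 𝒜) Sh ι z hP' p chart hP
    exact ⟨i, (hiff i).2 hi, fun i' hi' => huniq i' ((hiff i').1 hi')⟩
  · intro i hi0
    have hi := (hiff i).1 hi0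
    refine ⟨?_, Groth.Agent.S8289.i_over' (trivGr 𝒜) Sh ι z hP' p chart hP i hi⟩
    rw [isIso_iff_isOpenImmersion_and_surjective]
    refine ⟨Groth.Agent.S8289.of_local (trivGr 𝒜) Sh ι z hP' p chart hP i hi @IsOpenImmersion
      fun U hU => inferInstance, ⟨fun c => ?_⟩⟩
    obtain ⟨_, ⟨U, hU, rfl⟩, hcU, -⟩ := Y.isBasis_affineOpens.exists_subset_of_mem_open
      (Set.mem_univ (p.base c)) isOpen_univ
    have hcU' : c ∈ p ⁻¹ᵁ U := hcU
    have hcx := emb_apply_chart p chart U hU c hcU'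
    rw [← hcx]
    exact (Groth.Agent.S8297.emb_mem_range_i_iff (trivGr 𝒜) Sh ι z hP' p chart hP i hi U hU _).2
      (z_notMem 𝒜 Sh ι z hP' U hU _)

end Groth.Agent.S12137
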