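import Groth.Statements.S12138
import Groth.Agent.Lib.BaseChangeCxH44
import Groth.Agent.Lib.TFunMapIsoH44
import Groth.Agent.Lib.TensorAModel3H44
import Groth.Agent.Lib.EndEquiv2H44
import Groth.Agent.Lib.ExchangeH44
import Groth.Agent.Lib.TFunBC

set_option autoImplicit false
universe u
attribute [local instance] HasDerivedCategory.standard
open Coherent

namespace Groth.Agent.S12138

open AlgebraicGeometry CategoryTheory in
/-- For a complex reduced to one sheaf and affine bases. Let A be a Noetherian ring, X a proper A-scheme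
with structure morphism f, F a coherent O_X-module flat over Spec A, and T^p(M) = H^p(X, f^*(M~) ⊗
F) for A-modules M. Let A' be any commutative A-algebra, X' an A'-scheme with a morphism g' : X' → X
making X' the fibre product X ×_{Spec A} Spec A', F' = g'^* F, and T'^p(M') = H^p(X', f'^*(M'~) ⊗
F') for A'-modules M'. If T^p takes surjections to surjections (resp. injections to injections),
then T'^p does the same. (The converse when Spec A' → Spec A is faithfully flat is a separate
statement; the published statement is for an arbitrary base change of schemes and reduces to this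
affine case.) -/
theorem result (A A' : Type u) [CommRing A] [IsNoetherianRing A]
    [CommRing A'] [Algebra A A'] (X X' : Scheme.{u}) [X.Over (Spec (CommRingCat.of A))]
    [X'.Over (Spec (CommRingCat.of A'))] [IsProper (X ↘ Spec (CommRingCat.of A))] (g' : X' ⟶ X)
    (hsq : IsPullback g' (X' ↘ Spec (CommRingCat.of A')) (X ↘ Spec (CommRingCat.of A))
      (Spec.map (CommRingCat.ofHom (algebraMap A A'))))
    (F : X.Modules) (hF : Coh.IsCoh F) (hfl : FlatMod.IsFlatOver (X ↘ Spec (CommRingCat.of A)) F) (p : ℕ) :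
    ((CohIII.tensorAFunctor A F ⋙ CohIII.HAb X p).PreservesEpimorphisms →
        (CohIII.tensorAFunctor A' ((Scheme.Modules.pullback g').obj F) ⋙ CohIII.HAb X' p).PreservesEpimorphisms) ∧
      ((CohIII.tensorAFunctor A F ⋙ CohIII.HAb X p).PreservesMonomorphisms →
        (CohIII.tensorAFunctor A' ((Scheme.Modules.pullback g').obj F) ⋙ CohIII.HAb X' p).PreservesMonomorphisms) := by
  classical
  haveI : F.IsQuasicoherent := hF.1
  haveI : CompactSpace X :=
    QuasiCompact.compactSpace_of_compactSpace (X ↘ Spec (CommRingCat.of A))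
  obtain ⟨ι, _, U, hcov, hUa⟩ := Groth.Agent.Lib.H90ProperFin.exists_finite_affine_cover X
  have hU : ∀ s : Finset ι, s.Nonempty → IsAffineOpen (⨅ i ∈ s, U i) :=
    Groth.Agent.Lib.TensorAModel3H44.isAffineOpen_biInf (X ↘ Spec (CommRingCat.of A)) U hUa
  haveI : IsAffineHom g' := Groth.Agent.Lib.PullbackSqSecH44.isAffineHom_of_isPullback hsq
  have hcov' : ⨆ i, g' ⁻¹ᵁ U i = ⊤ := by
    rw [← Scheme.Hom.preimage_iSup, hcov]
    rfl
  have hU' := Groth.Agent.Lib.BaseChangeCohSqH44.isAffineOpen_preimage_biInf' g' U hU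
  haveI : ((Scheme.Modules.pullback g').obj F).IsQuasicoherent := inferInstance
  -- the two Čech complexes
  have hflat : ∀ i, Module.Flat A ((Groth.Agent.Lib.TensorACechH44.cechCx A F U).X i) :=
    Groth.Agent.Lib.TensorAModel2H44.flat_cechCx_X A U hfl
      (Groth.Agent.Lib.TensorAModelH44.isAffineOpen_prod U hU)
  have e1 := Groth.Agent.Lib.TensorAModelH44.endEquiv_TFun A F U hcov hU p
  have e2 := Groth.Agent.Lib.TensorAModelH44.endEquiv_TFun A' ((Scheme.Modules.pullback g').obj F)
    (fun i => g' ⁻¹ᵁ U i) hcov' hU' p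
  obtain ⟨e⟩ := Groth.Agent.Lib.BaseChangeCxH44.nonempty_iso_bcCx_cechCx A A' g' F U hsq hU
  have I := Groth.Agent.Lib.TFunMapIsoH44.TFunMapIso e p
  constructor
  · intro hT
    have h1 : (CohIII.TFun (Groth.Agent.Lib.TensorACechH44.cechCx A F U) p).PreservesEpimorphisms :=
      (Groth.Agent.Lib.ExchangeH44.preservesEpi_comp_forget₂_iff _).1 (e1.preservesEpimorphisms_iff.2 hT)
    have h2 : Module.Flat A (Groth.Agent.Lib.TFun.Copc (Groth.Agent.Lib.TensorACechH44.cechCx A F U) (p + 1)) :=
      (Groth.Agent.Lib.TFunBC.preservesEpi_iff _ hflat p (p + 1) rfl).1 h1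
    have h3 : (CohIII.TFun (CohIII.bcCx (algebraMap A A')
        (Groth.Agent.Lib.TensorACechH44.cechCx A F U)) p).PreservesEpimorphisms :=
      (Groth.Agent.Lib.TFunBC.preservesEpi_bcCx_iff A' _ hflat p (p + 1) rfl).2 inferInstance
    have h4 : (CohIII.TFun (Groth.Agent.Lib.TensorACechH44.cechCx A' ((Scheme.Modules.pullback g').obj F)
        (fun i => g' ⁻¹ᵁ U i)) p).PreservesEpimorphisms :=
      Groth.Agent.Lib.ExchangeH44.preservesEpi_of_iso I.symm h3
    exact e2.preservesEpimorphisms_iff.1
      ((Groth.Agent.Lib.ExchangeH44.preservesEpi_comp_forget₂_iff _).2 h4)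
  · intro hT
    have h1 : (CohIII.TFun (Groth.Agent.Lib.TensorACechH44.cechCx A F U) p).PreservesMonomorphisms :=
      (Groth.Agent.Lib.TFunMapIsoH44.preservesMono_comp_forget₂_iff _).1
        (e1.preservesMonomorphisms_iff.2 hT)
    have h2 : Module.Flat A (Groth.Agent.Lib.TFun.Copc (Groth.Agent.Lib.TensorACechH44.cechCx A F U) p) :=
      (Groth.Agent.Lib.TFunBC.preservesMono_iff _ p hflat).1 h1
    have h3 : (CohIII.TFun (CohIII.bcCx (algebraMap A A')
        (Groth.Agent.Lib.TensorACechH44.cechCx A F U)) p).PreservesMonomorphisms :=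
      (Groth.Agent.Lib.TFunBC.preservesMono_bcCx_iff A' _ p hflat).2 inferInstance
    have h4 : (CohIII.TFun (Groth.Agent.Lib.TensorACechH44.cechCx A' ((Scheme.Modules.pullback g').obj F)
        (fun i => g' ⁻¹ᵁ U i)) p).PreservesMonomorphisms :=
      Functor.PreservesMonomorphisms.of_iso I
    exact e2.preservesMonomorphisms_iff.1
      ((Groth.Agent.Lib.TFunMapIsoH44.preservesMono_comp_forget₂_iff _).2 h4)

end Groth.Agent.S12138
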