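import Groth.Statements.S1214
-- import your own Groth.Agent.* helpers here

set_option autoImplicit false
universe u
open FlatMor

namespace Groth.Agent.S1214

section Aux

variable {R : Type u} [CommRing R] (I : Ideal R) {N : Type u} [AddCommGroup N] [Module R N]

/-- An endomorphism that raises the `I`-adic filtration by one step. -/
def Raises (φ : N →ₗ[R] N) : Prop :=
  ∀ (k : ℕ) (x : N), x ∈ (I ^ k • ⊤ : Submodule R N) → φ x ∈ (I ^ (k + 1) • ⊤ : Submodule R N)

variable {I}

theorem raises_pow_mem {φ : N →ₗ[R] N} (hφ : Raises I φ) (n : ℕ) (y : N) :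
    (φ ^ n) y ∈ (I ^ n • ⊤ : Submodule R N) := by
  induction n with
  | zero => simp
  | succ n ih =>
    rw [pow_succ' φ, Module.End.mul_apply]
    exact hφ n _ ih

theorem raises_mem_of_mem {φ : N →ₗ[R] N} (hφ : Raises I φ) (k : ℕ) (x : N)
    (hx : x ∈ (I ^ k • ⊤ : Submodule R N)) : φ x ∈ (I ^ k • ⊤ : Submodule R N) :=
  Submodule.smul_mono_left (Ideal.pow_le_pow_right (Nat.le_succ k)) (hφ k x hx)

theorem injective_one_sub [IsHausdorff I N] {φ : N →ₗ[R] N} (hφ : Raises I φ) :
    Function.Injective (1 - φ : N →ₗ[R] N) := by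
  rw [← LinearMap.ker_eq_bot, eq_bot_iff]
  intro x hx
  rw [LinearMap.mem_ker, LinearMap.sub_apply, Module.End.one_apply, sub_eq_zero] at hx
  rw [Submodule.mem_bot]
  apply IsHausdorff.haus' (I := I) x
  intro n
  rw [SModEq.zero]
  induction n with
  | zero => simp
  | succ n ih =>
    rw [hx]
    exact hφ n x ih

theorem surjective_one_sub [IsAdicComplete I N] {φ : N →ₗ[R] N} (hφ : Raises I φ) :
    Function.Surjective (1 - φ : N →ₗ[R] N) := by
  intro y
  let s : ℕ → N := fun n => (∑ i ∈ Finset.range n, φ ^ i) y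
  have hs : ∀ {m n : ℕ}, m ≤ n → s m ≡ s n [SMOD (I ^ m • ⊤ : Submodule R N)] := by
    intro m n hmn
    obtain ⟨d, rfl⟩ := Nat.exists_eq_add_of_le hmn
    induction d with
    | zero => rfl
    | succ d ih =>
      refine (ih (Nat.le_add_right _ _)).trans ?_
      rw [SModEq.sub_mem]
      have : s (m + d) - s (m + (d + 1)) = - (φ ^ (m + d)) y := by
        simp only [s, ← add_assoc, Finset.sum_range_succ, LinearMap.add_apply]
        abel
      rw [this]
      apply Submodule.neg_mem
      exact Submodule.smul_mono_left (Ideal.pow_le_pow_right (Nat.le_add_right m d))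
        (raises_pow_mem hφ (m + d) y)
  obtain ⟨L, hL⟩ := IsPrecomplete.prec' (I := I) s hs
  refine ⟨L, ?_⟩
  rw [IsHausdorff.eq_iff_smodEq (I := I)]
  intro n
  rw [SModEq.sub_mem]
  have h1 : (1 - φ : N →ₗ[R] N) (s n) = y - (φ ^ n) y := by
    have := mul_neg_geom_sum φ n
    have h2 := congrArg (fun f : N →ₗ[R] N => f y) this
    simpa [s, Module.End.mul_apply] using h2
  have h3 : (1 - φ : N →ₗ[R] N) L - y
      = (1 - φ : N →ₗ[R] N) (L - s n) - (φ ^ n) y := by
    rw [map_sub, h1]
    abel
  rw [h3]
  apply Submodule.sub_mem _ _ (raises_pow_mem hφ n y)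
  have h4 : L - s n ∈ (I ^ n • ⊤ : Submodule R N) := by
    rw [← SModEq.sub_mem]
    exact (hL n).symm
  rw [LinearMap.sub_apply, Module.End.one_apply]
  exact Submodule.sub_mem _ h4 (raises_mem_of_mem hφ n _ h4)

end Aux

section Aux2

variable {R S : Type u} [CommRing R] [CommRing S] [Algebra R S] (I : Ideal R)
  (N : Type u) [AddCommGroup N] [Module S N] [Module R N] [IsScalarTower R S N]

theorem smul_mem_pow_smul_top (k : ℕ) (s : S) (x : N) (hx : x ∈ (I ^ k • ⊤ : Submodule R N)) :
    s • x ∈ (I ^ k • ⊤ : Submodule R N) := by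
  refine Submodule.smul_induction_on hx ?_ ?_
  · intro a ha n _
    rw [smul_comm]
    exact Submodule.smul_mem_smul ha Submodule.mem_top
  · intro x y hx hy
    rw [smul_add]
    exact Submodule.add_mem _ hx hy

/-- The ideal of `S` consisting of the elements whose action raises the filtration. -/
def raisingIdeal : Ideal S where
  carrier := {g | ∀ (k : ℕ) (x : N), x ∈ (I ^ k • ⊤ : Submodule R N) →
    g • x ∈ (I ^ (k + 1) • ⊤ : Submodule R N)}
  add_mem' := by
    intro a b ha hb k x hx
    rw [add_smul]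
    exact Submodule.add_mem _ (ha k x hx) (hb k x hx)
  zero_mem' := by
    intro k x _
    rw [zero_smul]
    exact Submodule.zero_mem _
  smul_mem' := by
    intro c g hg k x hx
    rw [smul_eq_mul, mul_smul]
    exact smul_mem_pow_smul_top I N (k + 1) c _ (hg k x hx)

theorem map_le_raisingIdeal : I.map (algebraMap R S) ≤ raisingIdeal I N := by
  rw [Ideal.map_le_iff_le_comap]
  intro a ha k x hx
  rw [algebraMap_smul, pow_succ', mul_smul]
  exact Submodule.smul_mem_smul ha hx

end Aux2


open TensorProduct in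
/-- Let R → S be a ring map, I an ideal of R and N an S-module which is I-adically complete. Then for
every R-module M and every prime q of S which is the annihilator of an element of the S-module N ⊗_R
M we have q + IS ≠ S. -/
theorem result {R S : Type u} [CommRing R] [CommRing S] [Algebra R S] (I : Ideal R)
    (N : Type u) [AddCommGroup N] [Module S N] [Module R N] [IsScalarTower R S N] [IsAdicComplete I N]
    (M : Type u) [AddCommGroup M] [Module R M]
    (q : Ideal S) [q.IsPrime] (hq : q ∈ FlatCA.ass S (N ⊗[R] M)) :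
    q ⊔ I.map (algebraMap R S) ≠ ⊤ := by
  intro htop
  obtain ⟨hqp, z, hz⟩ := hq
  have h1 : (1 : S) ∈ q ⊔ I.map (algebraMap R S) := by
    rw [htop]
    trivial
  obtain ⟨f, hf, g, hg, hfg⟩ := Submodule.mem_sup.mp h1
  have hgJ := map_le_raisingIdeal I N hg
  let φ : N →ₗ[R] N := DistribSMul.toLinearMap R N g
  have hφ : Raises I φ := fun k x hx => hgJ k x hx
  have hfφ : ∀ n : N, f • n = (1 - φ : N →ₗ[R] N) n := by
    intro n
    have hf' : f = 1 - g := eq_sub_of_add_eq hfg
    rw [hf', sub_smul, one_smul]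
    rfl
  have hfz : f • z = 0 := by
    have h2 : f ∈ (Submodule.span S {z}).annihilator := hz ▸ hf
    exact (Submodule.mem_annihilator_span_singleton z f).mp h2
  let e : N ≃ₗ[R] N :=
    LinearEquiv.ofBijective (1 - φ : N →ₗ[R] N) ⟨injective_one_sub hφ, surjective_one_sub hφ⟩
  have hsm : ∀ w : N ⊗[R] M, f • w = (LinearMap.rTensor M (1 - φ : N →ₗ[R] N)) w := by
    intro w
    induction w using TensorProduct.induction_on with
    | zero => simp
    | tmul n m => rw [TensorProduct.smul_tmul', LinearMap.rTensor_tmul, hfφ]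
    | add x y hx hy => rw [smul_add, hx, hy, map_add]
  have hz0 : z = 0 := by
    have h5 := hsm z
    rw [hfz] at h5
    have h6 : (LinearMap.rTensor M e.symm.toLinearMap)
        ((LinearMap.rTensor M (1 - φ : N →ₗ[R] N)) z) = z := by
      rw [← LinearMap.comp_apply, ← LinearMap.rTensor_comp]
      have h7 : e.symm.toLinearMap ∘ₗ (1 - φ : N →ₗ[R] N) = LinearMap.id := by
        ext n
        exact e.symm_apply_apply n
      rw [h7, LinearMap.rTensor_id, LinearMap.id_apply]
    rw [← h5, map_zero] at h6
    exact h6.symm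
  apply hqp.ne_top
  rw [hz, hz0]
  simp [Submodule.annihilator_bot]

end Groth.Agent.S1214
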