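import Groth.Statements.S12142
-- import your own Groth.Agent.* helpers here

set_option autoImplicit false
universe u
open CategoryTheory CategoryTheory.Limits AlgebraicGeometry TopologicalSpace Opposite
open scoped HomogeneousIdeal
noncomputable section
open EGA2

namespace Groth.Agent.S12142

section chart
variable {S : Scheme.{u}} (A : RelSpec.QCAlg S)

/-- The chart square of a relative spectrum is cartesian. -/
theorem isPullback_chart (U : S.Opens) (hU : IsAffineOpen U) :
    IsPullback (Spec.map (A.str.app (op U))) (A.ι U hU) hU.fromSpec A.π := by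
  refine IsOpenImmersion.isPullback _ _ _ _ (A.ι_π U hU) ?_
  rw [hU.opensRange_fromSpec, A.π_preimage U hU]

end chart

variable {S S' : Scheme.{u}} (g : S' ⟶ S)

/-- Index type of the cover of `S'` by affine opens lying over affine opens of `S`. -/
structure Idx : Type u where
  U : S.Opens
  hU : IsAffineOpen U
  U' : S'.Opens
  hU' : IsAffineOpen U'
  hle : U' ≤ g ⁻¹ᵁ U

/-- The cover of `S'` by the affine opens lying over affine opens of `S`. -/
noncomputable def cov : Scheme.OpenCover.{u} S' where
  I₀ := Idx g
  X i := Spec Γ(S', i.U')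
  f i := i.hU'.fromSpec
  mem₀ := by
    rw [Scheme.presieve₀_mem_precoverage_iff]
    refine ⟨fun x => ?_, fun i => inferInstance⟩
    obtain ⟨U, hxU⟩ := Opens.mem_iSup.mp
      ((iSup_affineOpens_eq_top S).ge (Set.mem_univ (g x)))
    obtain ⟨_, ⟨U', hU'', rfl⟩, hxU', hU'U⟩ := S'.isBasis_affineOpens.exists_subset_of_mem_open
      (show x ∈ ((g ⁻¹ᵁ U.1 : S'.Opens) : Set S') from hxU) (g ⁻¹ᵁ U.1).2
    have hU' : IsAffineOpen U' := hU''
    refine ⟨⟨U.1, U.2, U', hU', hU'U⟩, ?_⟩
    change x ∈ hU'.fromSpec.opensRange
    rw [hU'.opensRange_fromSpec]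
    exact hxU'


/-- Let g : S' → S be a morphism of schemes, A a quasi-coherent O_S-algebra and B = g^*A, presented as a
quasi-coherent O_{S'}-algebra with a g-morphism u : A → g_*B whose squares of rings over affine
opens U' ⊆ g⁻¹(U) are pushouts; let h = Spec(u) : Spec(B) → Spec(A) be the induced morphism of
relative spectra (chartwise Spec of A(U) → B(U')). Then h and the structure morphisms form a
cartesian square: Spec(g^*A) is the fibre product Spec(A) ×_S S'. -/
theorem result {S S' : Scheme.{u}} (g : S' ⟶ S)
    (A : RelSpec.QCAlg S) (B : RelSpec.QCAlg S') (u : RelSpec.QHom g A B) (hu : RelSpec.IsQBaseChange u)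
    (h : B.spec ⟶ A.spec) (hh : RelSpec.IsSpecQMap u h) :
    IsPullback h B.π A.π g := by
  refine (Scheme.isPullback_of_openCover B.π h g A.π (cov g) ?_).flip
  intro i
  obtain ⟨U, hU, U', hU', hle⟩ := i
  have P0 := isPullback_SpecMap_of_isPushout _ _ _ _ (hu U hU U' hU' hle)
  have R := P0.paste_vert (isPullback_chart A U hU)
  rw [← hh U hU U' hU' hle, IsAffineOpen.SpecMap_appLE_fromSpec g hU hU' hle] at R
  have QB := (isPullback_chart B U' hU').flip
  refine IsPullback.of_iso R QB.isoPullback (Iso.refl _) (Iso.refl _) (Iso.refl _) ?_ ?_ ?_ ?_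
  · exact (Category.comp_id _).trans QB.isoPullback_hom_snd.symm
  · refine (Category.comp_id _).trans ?_
    change _ = QB.isoPullback.hom ≫ pullback.fst _ _ ≫ h
    rw [QB.isoPullback_hom_fst_assoc]
  · exact (Category.comp_id _).trans (Category.id_comp _).symm
  · exact (Category.comp_id _).trans (Category.id_comp _).symm

end Groth.Agent.S12142
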