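import Groth.Statements.S12148
import Groth.Agent.Lib.H60ProjQComp

set_option autoImplicit false
universe u
open CategoryTheory CategoryTheory.Limits AlgebraicGeometry TopologicalSpace Opposite
open scoped HomogeneousIdeal
noncomputable section
open EGA2

namespace Groth.Agent.S12148

open Groth.Agent.Lib.ProjQMap Groth.Agent.Lib.ProjQMapOn Groth.Agent.Lib.H60ProjQComp

/-- Let q : X → Y be a morphism, L an invertible O_X-module with 𝒮L = ⊕ L^{⊗n} (whose Proj, with its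
charts, is X), v : 𝒯 → 𝒮 a graded homomorphism of quasi-coherent positively graded O_Y-algebras, ψ♭
= u : 𝒮 → q_*𝒮L a graded q-morphism and ψ'♭ = u' its composite with v; let r = r_{L,ψ} : G(ψ) →
Proj(𝒮) and r' = r_{L,ψ'} : G(ψ') → Proj(𝒯) be the associated morphisms. If v is (TN)-surjective
(there is n with v : 𝒯_k → 𝒮_k surjective for every k ≥ n, on sections over affine opens) and r' is
dominant, then r is dominant. -/
theorem result {Y X P PL P' : Scheme.{u}} (q : X ⟶ Y)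
    (L : X.Modules) (hL : PicF.IsInvertible L) (hLq : Coh.IsQCoh L)
    (𝒮 : RelProj.QCGrAlg Y) (𝒮L : RelProj.QCGrAlg X) (j : L ⟶ 𝒮L.toModule) (hj : RelProj.IsGrSymAlg L 𝒮L j)
    (u : RelProj.QGrHom q 𝒮 𝒮L)
    (p : P ⟶ Y) (chart : ∀ (U : Y.Opens) (hU : IsAffineOpen U), (((p ⁻¹ᵁ U : P.Opens) : Scheme.{u}) ≅ Proj (𝒮.deg U hU)))
    (hP : RelProj.IsRelProj 𝒮 p chart)
    (pL : PL ⟶ X) (chartL : ∀ (U : X.Opens) (hU : IsAffineOpen U), (((pL ⁻¹ᵁ U : PL.Opens) : Scheme.{u}) ≅ Proj (𝒮L.deg U hU)))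
    (hPL : RelProj.IsRelProj 𝒮L pL chartL)
    (r : ((RelProj.domQ u pL chartL : PL.Opens) : Scheme.{u}) ⟶ P)
    (hr : RelProj.IsProjQMapOn u p chart pL chartL (RelProj.domQ u pL chartL) r)
    (𝒯 : RelProj.QCGrAlg Y) (v : 𝒯.toQCAlg ⟶ 𝒮.toQCAlg) (hv : RelProj.IsGradedHom v)
    (u' : RelProj.QGrHom q 𝒯 𝒮L) (hu' : ∀ U : Y.Opens, u'.app U = v.hom.app (op U) ≫ u.app U)
    (p' : P' ⟶ Y) (chart' : ∀ (U : Y.Opens) (hU : IsAffineOpen U), (((p' ⁻¹ᵁ U : P'.Opens) : Scheme.{u}) ≅ Proj (𝒯.deg U hU)))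
    (hP' : RelProj.IsRelProj 𝒯 p' chart')
    (r' : ((RelProj.domQ u' pL chartL : PL.Opens) : Scheme.{u}) ⟶ P')
    (hr' : RelProj.IsProjQMapOn u' p' chart' pL chartL (RelProj.domQ u' pL chartL) r')
    (hTN : ∃ n : ℕ, ∀ k, n ≤ k → ∀ (U : Y.Opens) (hU : IsAffineOpen U), ∀ y ∈ 𝒮.deg U hU k,
      ∃ x ∈ 𝒯.deg U hU k, (v.hom.app (op U)).hom x = y) (hdom : IsDominant r') :
    IsDominant r := by
  obtain ⟨n₀, hn₀⟩ := hTN
  refine ⟨dense_iff_inter_open.mpr fun O hO ⟨x, hxO⟩ ↦ ?_⟩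
  obtain ⟨_, ⟨U, hU, rfl⟩, hxU, -⟩ :=
    Y.isBasis_affineOpens.exists_subset_of_mem_open (Set.mem_univ (p.base x)) isOpen_univ
  have hxU' : x ∈ p ⁻¹ᵁ U := hxU
  have hx₀ := emb_apply_chart p chart U hU x hxU'
  set x₀ := chartPt p chart U hU x hxU'
  let O₀ : (Proj (𝒮.deg U hU)).Opens := (RelProj.emb p chart U hU) ⁻¹ᵁ ⟨O, hO⟩
  have hx₀O : x₀ ∈ O₀ := by
    change (RelProj.emb p chart U hU).base x₀ ∈ O
    rw [hx₀]; exact hxO
  obtain ⟨m, hm, t, ht, hxt, htO⟩ := exists_tn_basicOpen_le (psi v hv U hU) n₀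
    (fun k hk y hy ↦ by
      obtain ⟨a, ha, hay⟩ := hn₀ k hk U hU y hy
      exact ⟨a, ha, (psi_apply v hv U hU a).trans hay⟩) x₀ O₀ hx₀O
  have ht_notin : psi v hv U hU t ∉ x₀.asHomogeneousIdeal := (Proj.mem_basicOpen _ _ _).mp hxt
  let x₀' : Proj (𝒯.deg U hU) :=
    ⟨x₀.asHomogeneousIdeal.comap (psi v hv U hU), x₀.isPrime.comap (psi v hv U hU),
      fun le ↦ ht_notin (le (HomogeneousIdeal.mem_irrelevant_of_mem _ hm ht))⟩
  have hx₀'t : x₀' ∈ Proj.basicOpen (𝒯.deg U hU) t := (Proj.mem_basicOpen _ _ _).mpr ht_notin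
  have hd : DenseRange r'.base := hdom.denseRange
  obtain ⟨_, hy1, ⟨y, rfl⟩⟩ := dense_iff_inter_open.mp hd _
    ((RelProj.emb p' chart' U hU) ''ᵁ Proj.basicOpen (𝒯.deg U hU) t).2 ⟨_, ⟨x₀', hx₀'t, rfl⟩⟩
  obtain ⟨hy', hmem⟩ := (transfer q 𝒮 𝒮L u p chart hP pL chartL hPL r hr 𝒯 v hv u' hu' p' chart'
    hP' r' hr' U hU hm t ht y.1).mp ⟨y.2, hy1⟩
  refine ⟨r.base ⟨y.1, hy'⟩, ?_, ⟨_, rfl⟩⟩
  obtain ⟨w, hw, hwe⟩ := hmem
  rw [← hwe]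
  exact htO hw

end Groth.Agent.S12148
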