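import Groth.Statements.S12149
import Groth.Agent.Lib.H60ProjQComp

set_option autoImplicit false
universe u
open CategoryTheory CategoryTheory.Limits AlgebraicGeometry TopologicalSpace Opposite
open scoped HomogeneousIdeal
noncomputable section
open EGA2

namespace Groth.Agent.S12149

open Groth.Agent.Lib.ProjQMap Groth.Agent.Lib.ProjQMapOn Groth.Agent.Lib.H60ProjQComp

/-- Let q : X → Y be a morphism, L an invertible O_X-module with 𝒮L = ⊕ L^{⊗n} (whose Proj, with its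
charts, is X), v : 𝒯 → 𝒮 a graded homomorphism of quasi-coherent positively graded O_Y-algebras, ψ♭
= u : 𝒮 → q_*𝒮L a graded q-morphism and ψ'♭ = u' its composite with v; let r = r_{L,ψ} : G(ψ) →
Proj(𝒮) and r' = r_{L,ψ'} : G(ψ') → Proj(𝒯) be the associated morphisms. If v is (TN)-injective
(there is n with v injective on 𝒯_k for every k ≥ n, on sections over affine opens) and r is
dominant, then r' is dominant. -/
theorem result {Y X P PL P' : Scheme.{u}} (q : X ⟶ Y)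
    (L : X.Modules) (hL : PicF.IsInvertible L) (hLq : Coh.IsQCoh L)
    (𝒮 : RelProj.QCGrAlg Y) (𝒮L : RelProj.QCGrAlg X) (j : L ⟶ 𝒮L.toModule) (hj : RelProj.IsGrSymAlg L 𝒮L j)
    (u : RelProj.QGrHom q 𝒮 𝒮L)
    (p : P ⟶ Y) (chart : ∀ (U : Y.Opens) (hU : IsAffineOpen U), (((p ⁻¹ᵁ U : P.Opens) : Scheme.{u}) ≅ Proj (𝒮.deg U hU)))
    (hP : RelProj.IsRelProj 𝒮 p chart)
    (pL : PL ⟶ X) (chartL : ∀ (U : X.Opens) (hU : IsAffineOpen U), (((pL ⁻¹ᵁ U : PL.Opens) : Scheme.{u}) ≅ Proj (𝒮L.deg U hU)))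
    (hPL : RelProj.IsRelProj 𝒮L pL chartL)
    (r : ((RelProj.domQ u pL chartL : PL.Opens) : Scheme.{u}) ⟶ P)
    (hr : RelProj.IsProjQMapOn u p chart pL chartL (RelProj.domQ u pL chartL) r)
    (𝒯 : RelProj.QCGrAlg Y) (v : 𝒯.toQCAlg ⟶ 𝒮.toQCAlg) (hv : RelProj.IsGradedHom v)
    (u' : RelProj.QGrHom q 𝒯 𝒮L) (hu' : ∀ U : Y.Opens, u'.app U = v.hom.app (op U) ≫ u.app U)
    (p' : P' ⟶ Y) (chart' : ∀ (U : Y.Opens) (hU : IsAffineOpen U), (((p' ⁻¹ᵁ U : P'.Opens) : Scheme.{u}) ≅ Proj (𝒯.deg U hU)))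
    (hP' : RelProj.IsRelProj 𝒯 p' chart')
    (r' : ((RelProj.domQ u' pL chartL : PL.Opens) : Scheme.{u}) ⟶ P')
    (hr' : RelProj.IsProjQMapOn u' p' chart' pL chartL (RelProj.domQ u' pL chartL) r')
    (hTN : ∃ n : ℕ, ∀ k, n ≤ k → ∀ (U : Y.Opens) (hU : IsAffineOpen U), ∀ x ∈ 𝒯.deg U hU k,
      (v.hom.app (op U)).hom x = 0 → x = 0) (hdom : IsDominant r) :
    IsDominant r' := by
  obtain ⟨n₀, hn₀⟩ := hTN
  refine ⟨dense_iff_inter_open.mpr fun O hO ⟨x, hxO⟩ ↦ ?_⟩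
  obtain ⟨_, ⟨U, hU, rfl⟩, hxU, -⟩ :=
    Y.isBasis_affineOpens.exists_subset_of_mem_open (Set.mem_univ (p'.base x)) isOpen_univ
  have hxU' : x ∈ p' ⁻¹ᵁ U := hxU
  have hx₀ := emb_apply_chart p' chart' U hU x hxU'
  set x₀ := chartPt p' chart' U hU x hxU'
  let O₀ : (Proj (𝒯.deg U hU)).Opens := (RelProj.emb p' chart' U hU) ⁻¹ᵁ ⟨O, hO⟩
  have hx₀O : x₀ ∈ O₀ := by
    change (RelProj.emb p' chart' U hU).base x₀ ∈ O
    rw [hx₀]; exact hxO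
  obtain ⟨e, he, g, hg, hxg, hgO⟩ := exists_homogeneous_basicOpen_le x₀ O₀ hx₀O
  have ht : g ^ (n₀ + 1) ∈ 𝒯.deg U hU ((n₀ + 1) • e) := SetLike.pow_mem_graded _ hg
  have hpos : 0 < (n₀ + 1) • e := by rw [smul_eq_mul]; positivity
  have hbo : Proj.basicOpen (𝒯.deg U hU) (g ^ (n₀ + 1)) = Proj.basicOpen (𝒯.deg U hU) g :=
    Proj.basicOpen_pow (𝒯.deg U hU) g (n₀ + 1) (Nat.succ_pos _)
  have ht_notin : g ^ (n₀ + 1) ∉ x₀.asHomogeneousIdeal := by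
    have : x₀ ∈ Proj.basicOpen (𝒯.deg U hU) (g ^ (n₀ + 1)) := by rw [hbo]; exact hxg
    exact (Proj.mem_basicOpen _ _ _).mp this
  have hvt : ¬ IsNilpotent (psi v hv U hU (g ^ (n₀ + 1))) := by
    rintro ⟨N, hN⟩
    have hN' : psi v hv U hU ((g ^ (n₀ + 1)) ^ (N + 1)) = 0 := by
      rw [map_pow, pow_succ, hN, zero_mul]
    have hdeg : (g ^ (n₀ + 1)) ^ (N + 1) ∈ 𝒯.deg U hU ((N + 1) • ((n₀ + 1) • e)) :=
      SetLike.pow_mem_graded _ ht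
    have hle : n₀ ≤ (N + 1) • ((n₀ + 1) • e) := by
      simp only [smul_eq_mul]
      have h1 : n₀ ≤ (n₀ + 1) * e := by nlinarith
      exact h1.trans (Nat.le_mul_of_pos_left _ (Nat.succ_pos N))
    have h0 := hn₀ _ hle U hU _ hdeg ((psi_apply v hv U hU _).symm.trans hN')
    apply ht_notin
    have hmem : (g ^ (n₀ + 1)) ^ (N + 1) ∈ x₀.asHomogeneousIdeal.toIdeal := by
      rw [h0]; exact Ideal.zero_mem _
    exact x₀.isPrime.mem_of_pow_mem _ hmem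
  obtain ⟨w, hw⟩ := basicOpen_nonempty hpos ((psi v hv U hU).2 ht) hvt
  have hd : DenseRange r.base := hdom.denseRange
  obtain ⟨_, hy1, ⟨y, rfl⟩⟩ := dense_iff_inter_open.mp hd _
    ((RelProj.emb p chart U hU) ''ᵁ Proj.basicOpen (𝒮.deg U hU)
      (psi v hv U hU (g ^ (n₀ + 1)))).2 ⟨_, ⟨w, hw, rfl⟩⟩
  obtain ⟨hy', hmem⟩ := (transfer q 𝒮 𝒮L u p chart hP pL chartL hPL r hr 𝒯 v hv u' hu' p' chart'
    hP' r' hr' U hU hpos (g ^ (n₀ + 1)) ht y.1).mpr ⟨y.2, hy1⟩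
  refine ⟨r'.base ⟨y.1, hy'⟩, ?_, ⟨_, rfl⟩⟩
  obtain ⟨w', hw', hwe⟩ := hmem
  rw [← hwe]
  rw [hbo] at hw'
  exact hgO hw'

end Groth.Agent.S12149
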