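import Groth.Statements.S12152
import Groth.Agent.Lib.H60LineImm
import Groth.Agent.Lib.H60LineSym
import Groth.Agent.S12143

set_option autoImplicit false
universe u
open CategoryTheory CategoryTheory.Limits AlgebraicGeometry TopologicalSpace Opposite
open scoped HomogeneousIdeal
noncomputable section
open EGA2

namespace Groth.Agent.S12152

open Groth.Agent.Lib.H60LineImm Groth.Agent.Lib.H60LineProjQ Groth.Agent.Lib.H60ProjQComp
open Groth.Agent.Lib.ProjQMap HomogeneousLocalization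

/-- A closed immersion `Spec.map φ` comes from a surjective `φ`. -/
lemma surjective_of_isClosedImmersion {R S : CommRingCat.{u}} (φ : R ⟶ S)
    (h : IsClosedImmersion (Spec.map φ)) : Function.Surjective φ.hom := by
  have h2 := (IsClosedImmersion.isAffine_surjective_of_isAffine (Spec.map φ)).2
  have e : φ = (Scheme.ΓSpecIso R).inv ≫ (Spec.map φ).appTop ≫ (Scheme.ΓSpecIso S).hom := by
    rw [Scheme.ΓSpecIso_naturality, Iso.inv_hom_id_assoc]
  rw [e]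
  simp only [CommRingCat.hom_comp, RingHom.coe_comp]
  exact ((ConcreteCategory.bijective_of_isIso (Scheme.ΓSpecIso S).hom).2.comp h2).comp
    (ConcreteCategory.bijective_of_isIso (Scheme.ΓSpecIso R).inv).2

/-- Let q : X → Y be a morphism with Y affine, L an invertible O_X-module with 𝒮L = ⊕ L^{⊗n} (whose Proj
is X), 𝒮 a quasi-coherent positively graded O_Y-algebra with S = Γ(Y, 𝒮), ψ♭ = u : 𝒮 → q_*𝒮L a
graded q-morphism and r = r_{L,ψ} : G(ψ) → P = Proj(𝒮). For a family s_a ∈ S_{n_a} (n_a > 0) put f_a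
= ψ♭(s_a) ∈ Γ(X, L^{⊗n_a}) and let X_{f_a} be the open where f_a does not vanish; conditions: (i)
the X_{f_a} cover X; (ii) the X_{f_a} are affine; (iii) every function t on X_{f_a} is of the form
ψ♭(s') f_a^{-m} with m > 0 and s' ∈ S_{m n_a} (that is, t f_a^m = ψ♭(s') in 𝒮L(X_{f_a})); (v) the
opens D_+(s_a) cover Proj S. Then r is everywhere defined and a closed immersion if and only if
there is a family (s_a) satisfying (i), (ii), (iii) and (v). -/
theorem result {Y X P PL : Scheme.{u}} (q : X ⟶ Y)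
    (L : X.Modules) (hL : PicF.IsInvertible L) (hLq : Coh.IsQCoh L)
    (𝒮 : RelProj.QCGrAlg Y) (𝒮L : RelProj.QCGrAlg X) (j : L ⟶ 𝒮L.toModule) (hj : RelProj.IsGrSymAlg L 𝒮L j)
    (u : RelProj.QGrHom q 𝒮 𝒮L)
    (p : P ⟶ Y) (chart : ∀ (U : Y.Opens) (hU : IsAffineOpen U), (((p ⁻¹ᵁ U : P.Opens) : Scheme.{u}) ≅ Proj (𝒮.deg U hU)))
    (hP : RelProj.IsRelProj 𝒮 p chart)
    (pL : PL ⟶ X) (chartL : ∀ (U : X.Opens) (hU : IsAffineOpen U), (((pL ⁻¹ᵁ U : PL.Opens) : Scheme.{u}) ≅ Proj (𝒮L.deg U hU)))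
    (hPL : RelProj.IsRelProj 𝒮L pL chartL)
    (r : ((RelProj.domQ u pL chartL : PL.Opens) : Scheme.{u}) ⟶ P)
    (hr : RelProj.IsProjQMapOn u p chart pL chartL (RelProj.domQ u pL chartL) r)
    (hY : IsAffineOpen (⊤ : Y.Opens)) :
    (RelProj.domQ u pL chartL = ⊤ ∧ IsClosedImmersion r) ↔
      ∃ (ι : Type u) (n : ι → ℕ) (s : ι → 𝒮.presheaf.obj (op ⊤)) (XT : ι → X.Opens),
        (∀ a, 0 < n a ∧ s a ∈ 𝒮.deg ⊤ hY (n a)) ∧
        (∀ a, XT a = (⨆ V : {V : X.affineOpens //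
          ((𝒮L.deg V.1 V.2 (n a) : AddSubgroup (𝒮L.presheaf.obj (op (V.1 : X.Opens)))) : Set (𝒮L.presheaf.obj (op (V.1 : X.Opens)))) ⊆
            (Ideal.span {(u.appLE ⊤ (V.1 : X.Opens) (le_top.trans (Scheme.Hom.preimage_top q).ge)).hom (s a)} : Set (𝒮L.presheaf.obj (op (V.1 : X.Opens))))},
          (V.1.1 : X.Opens))) ∧
        (⨆ a, XT a) = ⊤ ∧ (∀ a, IsAffineOpen (XT a)) ∧
        (∀ (a : ι) (t : X.presheaf.obj (op (XT a))), ∃ (m : ℕ) (_ : 0 < m) (s' : 𝒮.presheaf.obj (op ⊤)) (_ : s' ∈ 𝒮.deg ⊤ hY (m * n a)),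
            (𝒮L.str.app (op (XT a))).hom t * ((u.appLE ⊤ (XT a) (le_top.trans (Scheme.Hom.preimage_top q).ge)).hom (s a)) ^ m =
              (u.appLE ⊤ (XT a) (le_top.trans (Scheme.Hom.preimage_top q).ge)).hom s') ∧
        (⨆ a, Proj.basicOpen (𝒮.deg ⊤ hY) (s a)) = ⊤ := by
  have hgen := Groth.Agent.Lib.H60LineSym.isGenDegOne L hLq 𝒮L j hj
  have hj1 := Groth.Agent.Lib.H60LineSym.deg_one L 𝒮L j hj
  have hpoly := Groth.Agent.Lib.H60LineSym.bijective_eval₂ L hLq 𝒮L j hj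
  have hiso : IsIso pL := Groth.Agent.S12143.result L hL hLq 𝒮L j hj pL chartL hPL
  constructor
  · rintro ⟨hdom, hcl⟩
    -- `U = ⊤`
    have hsub : Set.range r.base ⊆ Set.range (⊤ : P.Opens).ι.base := by
      rw [Scheme.Opens.range_ι]; exact fun _ _ ↦ trivial
    set r' := IsOpenImmersion.lift (⊤ : P.Opens).ι r hsub with hr'def
    have hr' : r' ≫ (⊤ : P.Opens).ι = r := IsOpenImmersion.lift_fac _ _ _
    have hcl' : IsClosedImmersion r' := by
      have : IsClosedImmersion (r' ≫ (⊤ : P.Opens).ι) := by rw [hr']; exact hcl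
      exact IsClosedImmersion.of_comp r' (⊤ : P.Opens).ι
    have haff : IsAffineHom r' := inferInstance
    refine ⟨{x : ℕ × 𝒮.presheaf.obj (op ⊤) // 0 < x.1 ∧ x.2 ∈ 𝒮.deg ⊤ hY x.1},
      fun a ↦ a.1.1, fun a ↦ a.1.2, fun a ↦ XT q 𝒮 𝒮L u a.1.1 a.1.2, fun a ↦ a.2, fun a ↦ rfl,
      ?_, ?_, ?_, ?_⟩
    · rw [eq_top_iff]
      intro x _
      obtain ⟨n, hn, s, hs, -, hx⟩ := exists_mem_XT q L hL 𝒮 𝒮L j u p chart hP pL chartL hPL hgen
        hj1 hpoly hY r hr hdom ⊤ (fun _ _ ↦ trivial) x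
      exact Opens.mem_iSup.mpr ⟨⟨(n, s), hn, hs⟩, hx⟩
    · intro a
      exact isAffineOpen_XT q L hL 𝒮 𝒮L j u p chart hP pL chartL hPL hgen hj1 hpoly hY a.2.1 a.1.2
        a.2.2 r hr ⊤ r' hr' le_top
    · intro a
      have hXT := isAffineOpen_XT q L hL 𝒮 𝒮L j u p chart hP pL chartL hPL hgen hj1 hpoly hY a.2.1
        a.1.2 a.2.2 r hr ⊤ r' hr' le_top
      have h1 := chart_of q L hL 𝒮 𝒮L j u p chart hP pL chartL hPL hgen hj1 hpoly hY a.2.1 a.1.2
        a.2.2 hXT r hr ⊤ r' hr' le_top @IsClosedImmersion hcl'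
      exact (surjective_awayMap_iff q 𝒮 𝒮L u pL chartL hPL hgen hY a.2.1 a.1.2 a.2.2 hXT).mp
        (surjective_of_isClosedImmersion _ h1)
    · rw [eq_top_iff]
      intro z _
      obtain ⟨e, he, g, hg, hzg, -⟩ := exists_homogeneous_basicOpen_le z ⊤ trivial
      exact Opens.mem_iSup.mpr ⟨⟨(e, g), he, hg⟩, hzg⟩
  · rintro ⟨ι, n, s, XT', h1, h2, hcov, haff, h3, h5⟩
    have hXTeq : XT' = fun a ↦ XT q 𝒮 𝒮L u (n a) (s a) := funext h2
    subst hXTeq
    have hdom : RelProj.domQ u pL chartL = ⊤ := by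
      rw [domQ_eq_top_iff q L hL 𝒮 𝒮L j u pL chartL hPL hgen hj1 hpoly hY]
      intro x
      have hx : x ∈ ⨆ a, XT q 𝒮 𝒮L u (n a) (s a) := by rw [hcov]; trivial
      obtain ⟨a, ha⟩ := Opens.mem_iSup.mp hx
      obtain ⟨V, hV, hxV, hsub⟩ := (mem_XT_iff q 𝒮 𝒮L u (n a) (s a) x).mp ha
      exact ⟨n a, (h1 a).1, s a, (h1 a).2, V, hV, hxV, hsub⟩
    refine ⟨hdom, ?_⟩
    have hsub := range_r_subset q L hL 𝒮 𝒮L j u p chart hP pL chartL hPL hgen hj1 hpoly hY r hr n s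
      (fun a ↦ (h1 a).1) (fun a ↦ (h1 a).2) hcov
    set U : P.Opens := ⨆ a, (RelProj.emb p chart ⊤ hY) ''ᵁ (Proj.basicOpen (𝒮.deg ⊤ hY) (s a))
      with hUdef
    set r' := IsOpenImmersion.lift U.ι r hsub with hr'def
    have hr' : r' ≫ U.ι = r := IsOpenImmersion.lift_fac _ _ _
    have hcl' : IsClosedImmersion r' := by
      refine of_family q L hL 𝒮 𝒮L j u p chart hP pL chartL hPL hgen hj1 hpoly hY r hr n s
        (fun a ↦ (h1 a).1) (fun a ↦ (h1 a).2) haff U r' hr'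
        (fun a ↦ le_iSup (fun a ↦ (RelProj.emb p chart ⊤ hY) ''ᵁ
          (Proj.basicOpen (𝒮.deg ⊤ hY) (s a))) a) le_rfl
        @IsClosedImmersion (fun a ↦ ?_)
      exact IsClosedImmersion.spec_of_surjective _
        ((surjective_awayMap_iff q 𝒮 𝒮L u pL chartL hPL hgen hY (h1 a).1 (s a) (h1 a).2
          (haff a)).mpr (h3 a))
    have hUtop : U = ⊤ := by
      rw [hUdef, ← Scheme.Hom.image_iSup, h5, Scheme.Hom.image_top_eq_opensRange, opensRange_emb]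
      rfl
    have hι : IsIso U.ι := by
      apply isIso_of_isOpenImmersion_of_opensRange_eq_top
      rw [Scheme.Opens.opensRange_ι]; exact hUtop
    rw [← hr']
    infer_instance

end Groth.Agent.S12152
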