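import Groth.Statements.S12154
import Groth.Agent.Lib.H60ProjQComp
import Groth.Agent.S12165

set_option autoImplicit false
universe u
open CategoryTheory CategoryTheory.Limits AlgebraicGeometry TopologicalSpace Opposite
open scoped HomogeneousIdeal
noncomputable section
open EGA2

namespace Groth.Agent.S12154

open Groth.Agent.Lib.ProjQMap Groth.Agent.Lib.ProjQMapOn Groth.Agent.Lib.H60ProjQComp
open Topology

/-- If `f ≫ g` is an open immersion and `g` a closed immersion, then `f` is an open immersion. -/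
lemma isOpenImmersion_of_comp_closed {X Y Z : Scheme.{u}} (f : X ⟶ Y) (g : Y ⟶ Z)
    [IsClosedImmersion g] [IsOpenImmersion (f ≫ g)] : IsOpenImmersion f := by
  have hstalk (x : X) : IsIso (f.stalkMap x) := by
    have e := Scheme.Hom.stalkMap_comp f g x
    have hsurj : Function.Surjective (g.stalkMap (f x)) := g.stalkMap_surjective _
    have hinj : Function.Injective (g.stalkMap (f x)) := by
      have h1 := (ConcreteCategory.bijective_of_isIso ((f ≫ g).stalkMap x)).1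
      have h2 : ⇑(ConcreteCategory.hom ((f ≫ g).stalkMap x)) =
          ⇑(ConcreteCategory.hom (f.stalkMap x)) ∘ ⇑(ConcreteCategory.hom (g.stalkMap (f x))) := by
        rw [e]; rfl
      rw [h2] at h1
      exact Function.Injective.of_comp h1
    have hg : IsIso (g.stalkMap (f x)) :=
      (ConcreteCategory.isIso_iff_bijective _).mpr ⟨hinj, hsurj⟩
    have e2 : f.stalkMap x = inv (g.stalkMap (f x)) ≫ (f ≫ g).stalkMap x := by
      rw [e, IsIso.inv_hom_id_assoc]
    have hfg : IsIso ((f ≫ g).stalkMap x) := inferInstance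
    rw [e2]; exact IsIso.comp_isIso' inferInstance hfg
  refine IsOpenImmersion.of_isIso_stalkMap f ?_
  have hgf : IsOpenEmbedding (f ≫ g).base := (f ≫ g).isOpenEmbedding
  have hg : IsEmbedding g.base := g.isEmbedding
  have hf : IsEmbedding f.base := .of_comp f.continuous g.continuous hgf.isEmbedding
  refine ⟨hf, ?_⟩
  have : Set.range f.base = g.base ⁻¹' Set.range (f ≫ g).base := by
    ext y; constructor
    · rintro ⟨x, rfl⟩; exact ⟨x, rfl⟩
    · rintro ⟨x, hx⟩; exact ⟨x, hg.injective hx⟩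
  rw [this]; exact hgf.isOpen_range.preimage g.continuous

/-- Let q : X → Y be a morphism, L an invertible O_X-module with 𝒮L = ⊕ L^{⊗n} (whose Proj, with its
charts, is X), v : 𝒯 → 𝒮 a graded homomorphism of quasi-coherent positively graded O_Y-algebras, ψ♭
= u : 𝒮 → q_*𝒮L a graded q-morphism and ψ'♭ = u' its composite with v; let r = r_{L,ψ} : G(ψ) →
Proj(𝒮) and r' = r_{L,ψ'} : G(ψ') → Proj(𝒯), with r' everywhere defined and v (TN)-surjective (v :
𝒯_k → 𝒮_k surjective for all large k, on sections over affine opens). If r' is an open immersion, so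
is r; if r' is a closed immersion, so is r. -/
theorem result {Y X P PL P' : Scheme.{u}} (q : X ⟶ Y)
    (L : X.Modules) (hL : PicF.IsInvertible L) (hLq : Coh.IsQCoh L)
    (𝒮 : RelProj.QCGrAlg Y) (𝒮L : RelProj.QCGrAlg X) (j : L ⟶ 𝒮L.toModule) (hj : RelProj.IsGrSymAlg L 𝒮L j)
    (u : RelProj.QGrHom q 𝒮 𝒮L)
    (p : P ⟶ Y) (chart : ∀ (U : Y.Opens) (hU : IsAffineOpen U), (((p ⁻¹ᵁ U : P.Opens) : Scheme.{u}) ≅ Proj (𝒮.deg U hU)))
    (hP : RelProj.IsRelProj 𝒮 p chart)
    (pL : PL ⟶ X) (chartL : ∀ (U : X.Opens) (hU : IsAffineOpen U), (((pL ⁻¹ᵁ U : PL.Opens) : Scheme.{u}) ≅ Proj (𝒮L.deg U hU)))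
    (hPL : RelProj.IsRelProj 𝒮L pL chartL)
    (r : ((RelProj.domQ u pL chartL : PL.Opens) : Scheme.{u}) ⟶ P)
    (hr : RelProj.IsProjQMapOn u p chart pL chartL (RelProj.domQ u pL chartL) r)
    (𝒯 : RelProj.QCGrAlg Y) (v : 𝒯.toQCAlg ⟶ 𝒮.toQCAlg) (hv : RelProj.IsGradedHom v)
    (u' : RelProj.QGrHom q 𝒯 𝒮L) (hu' : ∀ U : Y.Opens, u'.app U = v.hom.app (op U) ≫ u.app U)
    (p' : P' ⟶ Y) (chart' : ∀ (U : Y.Opens) (hU : IsAffineOpen U), (((p' ⁻¹ᵁ U : P'.Opens) : Scheme.{u}) ≅ Proj (𝒯.deg U hU)))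
    (hP' : RelProj.IsRelProj 𝒯 p' chart')
    (r' : ((RelProj.domQ u' pL chartL : PL.Opens) : Scheme.{u}) ⟶ P')
    (hr' : RelProj.IsProjQMapOn u' p' chart' pL chartL (RelProj.domQ u' pL chartL) r')
    (hTN : ∃ n : ℕ, ∀ k, n ≤ k → ∀ (U : Y.Opens) (hU : IsAffineOpen U), ∀ y ∈ 𝒮.deg U hU k,
      ∃ x ∈ 𝒯.deg U hU k, (v.hom.app (op U)).hom x = y)
    (hdef : RelProj.domQ u' pL chartL = ⊤) :
    (IsOpenImmersion r' → IsOpenImmersion r) ∧ (IsClosedImmersion r' → IsClosedImmersion r) := by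
  have hle := domQ_comp_le q 𝒮 𝒮L u pL chartL 𝒯 v hv u' hu'
  have htop : RelProj.domQ u pL chartL = ⊤ := top_le_iff.mp (hdef ▸ hle)
  obtain ⟨π, hπ, -⟩ := (Groth.Agent.S12139.result (𝟙 Y) 𝒯 𝒮 (RelProj.QGrHom.ofHom v hv)
    p' chart' hP' p chart hP).1
  have hrange := range_le_domQ q 𝒮 𝒮L u p chart hP pL chartL hPL r hr 𝒯 v hv u' hu' p' chart' hP'
    r' hr'
  let r₀ := IsOpenImmersion.lift (RelProj.domQ (RelProj.QGrHom.ofHom v hv) p chart).ι
    (PL.homOfLE hle ≫ r) hrange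
  have hr₀ : r₀ ≫ (RelProj.domQ (RelProj.QGrHom.ofHom v hv) p chart).ι = PL.homOfLE hle ≫ r :=
    IsOpenImmersion.lift_fac _ _ _
  have hcomp := comp_eq q 𝒮 𝒮L u p chart pL chartL r hr 𝒯 v hv u' hu' p' chart' r' hr' π hπ r₀ hr₀
  -- `Proj(v)` is a closed immersion
  obtain ⟨hGv, hcl⟩ := Groth.Agent.S12165.result 𝒯 𝒮 v hv hTN p' chart' hP' p chart hP
  have hιiso : IsIso (RelProj.domQ (RelProj.QGrHom.ofHom v hv) p chart).ι := by
    have e : (RelProj.domQ (RelProj.QGrHom.ofHom v hv) p chart).ι =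
        (P.isoOfEq hGv).hom ≫ P.topIso.hom := (P.isoOfEq_hom_ι hGv).symm
    rw [e]; infer_instance
  have hπcl : IsClosedImmersion π := by
    have h := hcl (inv (RelProj.domQ (RelProj.QGrHom.ofHom v hv) p chart).ι ≫ π)
      ⟨hGv, fun U hU U' hU' hle' d hd f hf ↦ by
        have hW := RelProj.range_awayEmb_subset_domQ (RelProj.QGrHom.ofHom v hv) p chart U hU U' hU'
          hle' hd f hf
        have h1 := hπ U hU U' hU' hle' d hd f hf hW
        rw [← h1, ← Category.assoc]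
        congr 1
        rw [IsIso.comp_inv_eq, IsOpenImmersion.lift_fac]⟩
    have e : π = (RelProj.domQ (RelProj.QGrHom.ofHom v hv) p chart).ι ≫
        (inv (RelProj.domQ (RelProj.QGrHom.ofHom v hv) p chart).ι ≫ π) := by
      rw [IsIso.hom_inv_id_assoc]
    rw [e]; infer_instance
  have heq : RelProj.domQ u' pL chartL = RelProj.domQ u pL chartL := hdef.trans htop.symm
  have e : PL.homOfLE hle = (PL.isoOfEq heq).hom := rfl
  have hr_eq : r = (PL.isoOfEq heq).inv ≫ r₀ ≫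
      (RelProj.domQ (RelProj.QGrHom.ofHom v hv) p chart).ι := by
    rw [hr₀, e, Iso.inv_hom_id_assoc]
  constructor
  · intro hopen
    have h1 : IsOpenImmersion (r₀ ≫ π) := by rw [hcomp]; exact hopen
    have h2 : IsOpenImmersion r₀ := isOpenImmersion_of_comp_closed r₀ π
    rw [hr_eq]
    infer_instance
  · intro hclosed
    have h1 : IsClosedImmersion (r₀ ≫ π) := by rw [hcomp]; exact hclosed
    have h2 : IsClosedImmersion r₀ := IsClosedImmersion.of_comp r₀ π
    rw [hr_eq]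
    infer_instance

end Groth.Agent.S12154
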