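import Groth.Statements.S8299
import Groth.Agent.Lib.H60RelCone

set_option autoImplicit false
universe u
open CategoryTheory CategoryTheory.Limits AlgebraicGeometry Opposite TopologicalSpace
open scoped HomogeneousIdeal
noncomputable section
open EGA2

namespace Groth.Agent.S8299

open Groth.Agent.Lib.H60RelCone

/-- For a point `s'` of `Y'`, there are affine opens `U ∋ q s'` and `U' ∋ s'` with `U' ≤ q⁻¹ U`. -/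
lemma exists_affine_pair {Y Y' : Scheme.{u}} (q : Y' ⟶ Y) (s' : Y') :
    ∃ (U : Y.Opens) (_ : IsAffineOpen U) (U' : Y'.Opens) (_ : IsAffineOpen U'),
      U' ≤ q ⁻¹ᵁ U ∧ s' ∈ U' ∧ q.base s' ∈ U := by
  obtain ⟨_, ⟨U, hU, rfl⟩, hsU, -⟩ :=
    Y.isBasis_affineOpens.exists_subset_of_mem_open (Set.mem_univ (q.base s')) isOpen_univ
  have hs' : s' ∈ q ⁻¹ᵁ U := hsU
  obtain ⟨_, ⟨U', hU', rfl⟩, hsU', hle⟩ :=
    Y'.isBasis_affineOpens.exists_subset_of_mem_open hs' (q ⁻¹ᵁ U).2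
  exact ⟨U, hU, U', hU', hle, hsU', hsU⟩

theorem result {Y Y' : Scheme.{u}} (q : Y' ⟶ Y) (𝒮 : RelProj.QCGrAlg Y) (𝒮' : RelProj.QCGrAlg Y')
    (h0 : RelCone.StrZeroBij 𝒮) (h0' : RelCone.StrZeroBij 𝒮')
    (u : 𝒮.presheaf ⟶ q.base _* 𝒮'.presheaf)
    (hu : 𝒮.str ≫ u = q.c ≫ (TopCat.Presheaf.pushforward CommRingCat.{u} q.base).map 𝒮'.str)
    (φ : ∀ (U : Y.Opens) (hU : IsAffineOpen U) (U' : Y'.Opens) (hU' : IsAffineOpen U') (_ : U' ≤ q ⁻¹ᵁ U),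
      𝒮.deg U hU →+*ᵍ 𝒮'.deg U' hU')
    (hφ : ∀ (U : Y.Opens) (hU : IsAffineOpen U) (U' : Y'.Opens) (hU' : IsAffineOpen U') (hle : U' ≤ q ⁻¹ᵁ U),
      (φ U hU U' hU' hle).toRingHom =
        ((u.app (op U) : 𝒮.presheaf.obj (op U) ⟶ 𝒮'.presheaf.obj (op (q ⁻¹ᵁ U))) ≫
          𝒮'.presheaf.map (homOfLE hle).op).hom)
    (Φ : 𝒮'.toQCAlg.spec ⟶ 𝒮.toQCAlg.spec)
    (hΦ : ∀ (U : Y.Opens) (hU : IsAffineOpen U) (U' : Y'.Opens) (hU' : IsAffineOpen U') (hle : U' ≤ q ⁻¹ᵁ U),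
      𝒮'.toQCAlg.ι U' hU' ≫ Φ =
        Spec.map ((u.app (op U) : 𝒮.presheaf.obj (op U) ⟶ 𝒮'.presheaf.obj (op (q ⁻¹ᵁ U))) ≫
          𝒮'.presheaf.map (homOfLE hle).op) ≫ 𝒮.toQCAlg.ι U hU) :
    Φ ⁻¹ᵁ RelCone.pointedCone 𝒮 ≤ RelCone.pointedCone 𝒮' := by
  intro c' hc'
  have hc : Φ.base c' ∈ RelCone.pointedCone 𝒮 := hc'
  obtain ⟨U, hU, U', hU', hle, hsU', -⟩ := exists_affine_pair q (𝒮'.toQCAlg.π.base c')
  obtain ⟨y', rfl⟩ := exists_chart 𝒮'.toQCAlg c' U' hU' hsU'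
  rw [ι_mem_pointedCone_iff]
  have h1 : Φ.base ((𝒮'.toQCAlg.ι U' hU').base y') =
      (𝒮.toQCAlg.ι U hU).base ((Spec.map ((u.app (op U) : 𝒮.presheaf.obj (op U) ⟶
        𝒮'.presheaf.obj (op (q ⁻¹ᵁ U))) ≫ 𝒮'.presheaf.map (homOfLE hle).op)).base y') := by
    rw [← Scheme.Hom.comp_apply, hΦ U hU U' hU' hle]
    rfl
  rw [h1, ι_mem_pointedCone_iff, mem_vertexCompl_iff] at hc
  obtain ⟨f, hf, hfy⟩ := hc
  rw [mem_vertexCompl_iff]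
  refine ⟨φ U hU U' hU' hle f, map_mem_irrelevant _ hf, ?_⟩
  have h2 : (φ U hU U' hU' hle) f = ((u.app (op U) : 𝒮.presheaf.obj (op U) ⟶
      𝒮'.presheaf.obj (op (q ⁻¹ᵁ U))) ≫ 𝒮'.presheaf.map (homOfLE hle).op).hom f :=
    congrArg (fun g : _ →+* _ ↦ g f) (hφ U hU U' hU' hle)
  rw [h2]
  exact hfy

end Groth.Agent.S8299
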