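import Groth.Statements.S12155
import Groth.Agent.Lib.H60ProjQPts
import Groth.Agent.S8298
import Groth.Agent.S8299

set_option autoImplicit false
universe u
open CategoryTheory CategoryTheory.Limits AlgebraicGeometry TopologicalSpace Opposite
open scoped HomogeneousIdeal
noncomputable section
open EGA2

namespace Groth.Agent.S12155

open Groth.Agent.Lib.H60AwayMapEq Groth.Agent.Lib.ProjQMap Groth.Agent.Lib.ProjQMapOn
open Groth.Agent.Lib.H60AwayDegOne Groth.Agent.S12139 Groth.Agent.Lib.H60ProjQPts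
open Groth.Agent.Lib.H60RelCone
open HomogeneousLocalization

section Aux

variable {Y Y' PC PC' : Scheme.{u}} (q : Y' ⟶ Y)
  (𝒮 : RelProj.QCGrAlg Y) (𝒮' : RelProj.QCGrAlg Y')
  (u : RelProj.QGrHom q 𝒮 𝒮')
  (𝒮h : RelProj.QCGrAlg Y) (ι : 𝒮.toQCAlg ⟶ 𝒮h.toQCAlg) (z : 𝒮h.presheaf.obj (op ⊤))
  (hz : RelCone.IsPolyOver 𝒮 𝒮h ι z)
  (𝒮h' : RelProj.QCGrAlg Y') (ι' : 𝒮'.toQCAlg ⟶ 𝒮h'.toQCAlg) (z' : 𝒮h'.presheaf.obj (op ⊤))
  (hz' : RelCone.IsPolyOver 𝒮' 𝒮h' ι' z')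
  (uh : RelProj.QGrHom q 𝒮h 𝒮h')
  (huh : ∀ U : Y.Opens, ι.hom.app (op U) ≫ uh.app U = u.app U ≫ ι'.hom.app (op (q ⁻¹ᵁ U)))
  (huhz : (uh.app ⊤).hom z = RelCone.restrictTop 𝒮h' z' (q ⁻¹ᵁ ⊤))
  (U : Y.Opens) (hU : IsAffineOpen U) (U' : Y'.Opens) (hU' : IsAffineOpen U') (hle : U' ≤ q ⁻¹ᵁ U)

include huh in
/-- (F1) `û ∘ ι = ι' ∘ u` over an affine pair. -/
lemma uh_iota (a : 𝒮.presheaf.obj (op U)) :
    uh.gradedAt U hU U' hU' hle ((RelProj.gradedHomAt ι hz.graded U hU) a) =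
      (RelProj.gradedHomAt ι' hz'.graded U' hU') (u.gradedAt U hU U' hU' hle a) := by
  change (𝒮h'.presheaf.map (homOfLE hle).op).hom ((uh.app U).hom ((ι.hom.app (op U)).hom a)) =
    (ι'.hom.app (op U')).hom ((𝒮'.presheaf.map (homOfLE hle).op).hom ((u.app U).hom a))
  have h1 : (uh.app U).hom ((ι.hom.app (op U)).hom a) =
      (ι'.hom.app (op (q ⁻¹ᵁ U))).hom ((u.app U).hom a) :=
    congrArg (fun t ↦ t.hom a) (huh U)
  rw [h1]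
  exact congrArg (fun t ↦ t.hom ((u.app U).hom a)) (ι'.hom.naturality (homOfLE hle).op).symm

include huhz in
/-- (F2) `û z = z'` over an affine pair. -/
lemma uh_z : uh.gradedAt U hU U' hU' hle (RelCone.restrictTop 𝒮h z U) =
    RelCone.restrictTop 𝒮h' z' U' := by
  have hle_top : U' ≤ q ⁻¹ᵁ (⊤ : Y.Opens) := le_top.trans (Scheme.Hom.preimage_top q).ge
  have h1 := congrArg (fun t ↦ t.hom z)
    (uh.toQHom.map_appLE (U := ⊤) (V := U) (U' := U') le_top hle)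
  have h1' : (uh.appLE U U' hle).hom ((𝒮h.presheaf.map (homOfLE (le_top : U ≤ ⊤)).op).hom z) =
      (uh.appLE ⊤ U' (hle.trans (q.preimage_mono le_top))).hom z := h1
  change (uh.appLE U U' hle).hom ((𝒮h.presheaf.map (homOfLE (le_top : U ≤ ⊤)).op).hom z) = _
  rw [h1']
  change (𝒮h'.presheaf.map (homOfLE _).op).hom ((uh.app ⊤).hom z) = _
  rw [huhz]
  change (𝒮h'.presheaf.map (homOfLE _).op).hom ((𝒮h'.presheaf.map (homOfLE _).op).hom z') =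
    (𝒮h'.presheaf.map (homOfLE _).op).hom z'
  rw [← CommRingCat.comp_apply, ← Functor.map_comp]
  rfl

variable {P' : Scheme.{u}} (p' : P' ⟶ Y')
  (chart' : ∀ (U : Y'.Opens) (hU : IsAffineOpen U),
    (((p' ⁻¹ᵁ U : P'.Opens) : Scheme.{u}) ≅ Proj (𝒮'.deg U hU)))
  (hP' : RelProj.IsRelProj 𝒮' p' chart')

include huh hP' in
/-- (SL) If `Proj(u)` is everywhere defined, a point of `G(ι'(U'))` lies in some `D₊(û (ι a))`. -/
lemma exists_uh_iota_notMem (htop : RelProj.domQ u p' chart' = ⊤) (w : Proj (𝒮h'.deg U' hU'))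
    (hw : w ∈ RelCone.domOpen (RelProj.gradedHomAt ι' hz'.graded U' hU')) :
    ∃ (e : ℕ) (_ : 0 < e) (a : 𝒮.presheaf.obj (op U)) (_ : a ∈ 𝒮.deg U hU e),
      uh.gradedAt U hU U' hU' hle ((RelProj.gradedHomAt ι hz.graded U hU) a) ∉
        w.asHomogeneousIdeal := by
  obtain ⟨f, hf, hfx⟩ := (RelCone.mem_domOpen _ w).mp hw
  let w' : Proj (𝒮'.deg U' hU') :=
    ⟨w.asHomogeneousIdeal.comap (RelProj.gradedHomAt ι' hz'.graded U' hU'),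
      w.isPrime.comap (RelProj.gradedHomAt ι' hz'.graded U' hU'),
      fun le ↦ hfx (le hf)⟩
  have h1 : (RelProj.emb p' chart' U' hU').base w' ∈ RelProj.domQ u p' chart' := by
    rw [htop]; trivial
  rw [emb_mem_domQ_iff q 𝒮 𝒮' u p' chart' hP' U hU U' hU' hle] at h1
  obtain ⟨e, he, a, ha, hwa⟩ :=
    exists_homogeneous_of_mem_domOpen (u.gradedAt U hU U' hU' hle) w' h1
  refine ⟨e, he, a, ha, ?_⟩
  rw [uh_iota q 𝒮 𝒮' u 𝒮h ι z hz 𝒮h' ι' z' hz' uh huh U hU U' hU' hle a]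
  exact (Proj.mem_basicOpen _ _ _).mp hwa

end Aux

/-- Let q : Y' → Y be a morphism, φ : 𝒮 → q_*𝒮' a graded q-morphism of quasi-coherent positively graded
algebras with 𝒮_0 = O_Y, 𝒮'_0 = O_{Y'}, φ̂ : 𝒮[z] → q_*𝒮'[z] its extension with φ̂(z) = z, Ĉ =
Proj(𝒮[z]), Ĉ' = Proj(𝒮'[z]) the projective cones with pointed cones Ê, Ê', and Φ̂ = Proj(φ̂) :
G(φ̂) → Ĉ. Then Φ̂⁻¹(Ê) ⊆ Ê'; moreover if Proj(φ) is everywhere defined on Proj(𝒮'), then Φ̂ is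
everywhere defined on Ĉ' and Φ̂⁻¹(Ê) = Ê'. -/
theorem result {Y Y' PC PC' : Scheme.{u}} (q : Y' ⟶ Y)
    (𝒮 : RelProj.QCGrAlg Y) (𝒮' : RelProj.QCGrAlg Y') (h0 : RelCone.StrZeroBij 𝒮) (h0' : RelCone.StrZeroBij 𝒮')
    (u : RelProj.QGrHom q 𝒮 𝒮')
    (𝒮h : RelProj.QCGrAlg Y) (ι : 𝒮.toQCAlg ⟶ 𝒮h.toQCAlg) (z : 𝒮h.presheaf.obj (op ⊤))
    (hz : RelCone.IsPolyOver 𝒮 𝒮h ι z)
    (pC : PC ⟶ Y) (chartC : ∀ (U : Y.Opens) (hU : IsAffineOpen U), (((pC ⁻¹ᵁ U : PC.Opens) : Scheme.{u}) ≅ Proj (𝒮h.deg U hU)))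
    (hC : RelProj.IsRelProj 𝒮h pC chartC)
    (𝒮h' : RelProj.QCGrAlg Y') (ι' : 𝒮'.toQCAlg ⟶ 𝒮h'.toQCAlg) (z' : 𝒮h'.presheaf.obj (op ⊤))
    (hz' : RelCone.IsPolyOver 𝒮' 𝒮h' ι' z')
    (pC' : PC' ⟶ Y') (chartC' : ∀ (U : Y'.Opens) (hU : IsAffineOpen U), (((pC' ⁻¹ᵁ U : PC'.Opens) : Scheme.{u}) ≅ Proj (𝒮h'.deg U hU)))
    (hC' : RelProj.IsRelProj 𝒮h' pC' chartC')
    (uh : RelProj.QGrHom q 𝒮h 𝒮h')
    (huh : ∀ U : Y.Opens, ι.hom.app (op U) ≫ uh.app U = u.app U ≫ ι'.hom.app (op (q ⁻¹ᵁ U)))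
    (huhz : (uh.app ⊤).hom z = RelCone.restrictTop 𝒮h' z' (q ⁻¹ᵁ ⊤))
    (Φh : ((RelProj.domQ uh pC' chartC' : PC'.Opens) : Scheme.{u}) ⟶ PC)
    (hΦh : RelProj.IsProjQMapOn uh pC chartC pC' chartC' (RelProj.domQ uh pC' chartC') Φh)
    {P' : Scheme.{u}} (p' : P' ⟶ Y') (chart' : ∀ (U : Y'.Opens) (hU : IsAffineOpen U), (((p' ⁻¹ᵁ U : P'.Opens) : Scheme.{u}) ≅ Proj (𝒮'.deg U hU)))
    (hP' : RelProj.IsRelProj 𝒮' p' chart') :
    (RelProj.domQ uh pC' chartC').ι ''ᵁ (Φh ⁻¹ᵁ RelCone.pointedProjCone 𝒮 hz pC chartC) ≤ RelCone.pointedProjCone 𝒮' hz' pC' chartC' ∧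
      (RelProj.domQ u p' chart' = ⊤ →
        RelProj.domQ uh pC' chartC' = ⊤ ∧
          (RelProj.domQ uh pC' chartC').ι ''ᵁ (Φh ⁻¹ᵁ RelCone.pointedProjCone 𝒮 hz pC chartC) = RelCone.pointedProjCone 𝒮' hz' pC' chartC') := by
  -- Part 1
  have part1 : (RelProj.domQ uh pC' chartC').ι ''ᵁ
      (Φh ⁻¹ᵁ RelCone.pointedProjCone 𝒮 hz pC chartC) ≤
        RelCone.pointedProjCone 𝒮' hz' pC' chartC' := by
    rintro _ ⟨x, hx, rfl⟩
    have hx' : Φh.base x ∈ RelCone.pointedProjCone 𝒮 hz pC chartC := hx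
    obtain ⟨k, t, ht⟩ := exists_liftQ q 𝒮h 𝒮h' uh pC' chartC' x
    rw [← ht, v_liftQ_apply q 𝒮h 𝒮h' uh pC chartC pC' chartC' Φh hΦh k.U k.hU k.U' k.hU' k.hle k.hd
      k.f k.hf t, Groth.Agent.S8298.emb_mem_pointedProjCone_iff 𝒮 𝒮h ι z hz pC chartC hC k.U k.hU]
      at hx'
    obtain ⟨e, he, a, ha, hwa⟩ :=
      exists_homogeneous_of_mem_domOpen (RelProj.gradedHomAt ι hz.graded k.U k.hU) _ hx'
    have h0 := (Proj.mem_basicOpen _ _ _).mp hwa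
    have h2 : ¬ (uh.gradedAt k.U k.hU k.U' k.hU' k.hle
        ((RelProj.gradedHomAt ι hz.graded k.U k.hU) a) ∈
        ((Proj.awayι (𝒮h'.deg k.U' k.hU') ((uh.gradedAt k.U k.hU k.U' k.hU' k.hle) k.f)
          ((uh.gradedAt k.U k.hU k.U' k.hU' k.hle).2 k.hf) k.hd).base t).asHomogeneousIdeal) :=
      fun hcon ↦ h0 ((mem_awayι_map_iff (uh.gradedAt k.U k.hU k.U' k.hU' k.hle) k.hd k.hf t
        ((RelProj.gradedHomAt ι hz.graded k.U k.hU).2 ha)).mpr hcon)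
    have h1 : ¬ ((RelProj.gradedHomAt ι' hz'.graded k.U' k.hU')
        (u.gradedAt k.U k.hU k.U' k.hU' k.hle a) ∈
        ((Proj.awayι (𝒮h'.deg k.U' k.hU') ((uh.gradedAt k.U k.hU k.U' k.hU' k.hle) k.f)
          ((uh.gradedAt k.U k.hU k.U' k.hU' k.hle).2 k.hf) k.hd).base t).asHomogeneousIdeal) :=
      fun hcon ↦ h2 ((congrArg (fun y ↦ y ∈ ((Proj.awayι (𝒮h'.deg k.U' k.hU')
        ((uh.gradedAt k.U k.hU k.U' k.hU' k.hle) k.f)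
          ((uh.gradedAt k.U k.hU k.U' k.hU' k.hle).2 k.hf) k.hd).base t).asHomogeneousIdeal)
        (uh_iota q 𝒮 𝒮' u 𝒮h ι z hz 𝒮h' ι' z' hz' uh huh k.U k.hU k.U' k.hU' k.hle a)).mpr hcon)
    change (RelProj.domQ uh pC' chartC').ι.base x ∈ RelCone.pointedProjCone 𝒮' hz' pC' chartC'
    rw [← ht, liftQ_ι_apply]
    refine Opens.mem_iSup.mpr ⟨⟨k.U', k.hU'⟩, _, ?_, rfl⟩
    exact (RelCone.mem_domOpen (RelProj.gradedHomAt ι' hz'.graded k.U' k.hU') _).mpr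
      ⟨u.gradedAt k.U k.hU k.U' k.hU' k.hle a,
        HomogeneousIdeal.mem_irrelevant_of_mem _ he ((u.gradedAt k.U k.hU k.U' k.hU' k.hle).2 ha),
        h1⟩
  refine ⟨part1, fun htop ↦ ?_⟩
  -- Part 2a
  have part2a : RelProj.domQ uh pC' chartC' = ⊤ := by
    apply top_le_iff.mp
    intro c' _
    obtain ⟨U, hU, U', hU', hle, hsU', -⟩ := Groth.Agent.S8299.exists_affine_pair q (pC'.base c')
    have hcU' : c' ∈ pC' ⁻¹ᵁ U' := hsU'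
    have hcw := emb_apply_chart pC' chartC' U' hU' c' hcU'
    set w := chartPt pC' chartC' U' hU' c' hcU'
    change c' ∈ RelProj.domQ uh pC' chartC'
    rw [← hcw]
    refine Opens.mem_iSup.mpr ⟨⟨(⟨U, hU⟩, ⟨U', hU'⟩), hle⟩, w, ?_, rfl⟩
    change w ∈ RelCone.domOpen (uh.gradedAt U hU U' hU' hle)
    by_cases hzw : RelCone.restrictTop 𝒮h' z' U' ∈ w.asHomogeneousIdeal
    · have hdom : w ∈ RelCone.domOpen (RelProj.gradedHomAt ι' hz'.graded U' hU') := by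
        by_contra hcon
        exact Groth.Agent.S8298.z_notMem 𝒮' 𝒮h' ι' z' hz' U' hU' w hcon hzw
      obtain ⟨e, he, a, ha, hwa⟩ := exists_uh_iota_notMem q 𝒮 𝒮' u 𝒮h ι z hz 𝒮h' ι' z' hz' uh huh
        U hU U' hU' hle p' chart' hP' htop w hdom
      exact (RelCone.mem_domOpen _ w).mpr ⟨_, HomogeneousIdeal.mem_irrelevant_of_mem _ he
        ((RelProj.gradedHomAt ι hz.graded U hU).2 ha), hwa⟩
    · refine (RelCone.mem_domOpen _ w).mpr ⟨RelCone.restrictTop 𝒮h z U,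
        HomogeneousIdeal.mem_irrelevant_of_mem _ one_pos (hz.deg_z U hU), ?_⟩
      rw [uh_z q 𝒮h z 𝒮h' z' uh huhz U hU U' hU' hle]
      exact hzw
  refine ⟨part2a, le_antisymm part1 ?_⟩
  -- Part 2b
  intro c' hc'
  have hc'' : c' ∈ RelCone.pointedProjCone 𝒮' hz' pC' chartC' := hc'
  have hcdom : c' ∈ RelProj.domQ uh pC' chartC' := by rw [part2a]; trivial
  let x : ((RelProj.domQ uh pC' chartC' : PC'.Opens) : Scheme.{u}) := ⟨c', hcdom⟩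
  refine ⟨x, ?_, rfl⟩
  change Φh.base x ∈ RelCone.pointedProjCone 𝒮 hz pC chartC
  obtain ⟨U, hU, U', hU', hle, hsU', -⟩ := Groth.Agent.S8299.exists_affine_pair q (pC'.base c')
  have hcU' : c' ∈ pC' ⁻¹ᵁ U' := hsU'
  have hcw := emb_apply_chart pC' chartC' U' hU' c' hcU'
  set w := chartPt pC' chartC' U' hU' c' hcU'
  have hdom : w ∈ RelCone.domOpen (RelProj.gradedHomAt ι' hz'.graded U' hU') := by
    rw [← Groth.Agent.S8298.emb_mem_pointedProjCone_iff 𝒮' 𝒮h' ι' z' hz' pC' chartC' hC' U' hU', hcw]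
    exact hc''
  obtain ⟨e, he, a, ha, hwa⟩ := exists_uh_iota_notMem q 𝒮 𝒮' u 𝒮h ι z hz 𝒮h' ι' z' hz' uh huh
    U hU U' hU' hle p' chart' hP' htop w hdom
  obtain ⟨t, ht⟩ := mem_range_liftQ q 𝒮h 𝒮h' uh pC' chartC' U hU U' hU' hle he
    ((RelProj.gradedHomAt ι hz.graded U hU) a) ((RelProj.gradedHomAt ι hz.graded U hU).2 ha) x w
    hcw hwa
  have e5 := v_liftQ_apply q 𝒮h 𝒮h' uh pC chartC pC' chartC' Φh hΦh U hU U' hU' hle he
    ((RelProj.gradedHomAt ι hz.graded U hU) a) ((RelProj.gradedHomAt ι hz.graded U hU).2 ha) t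
  rw [← ht]
  refine (congrArg (fun y ↦ y ∈ RelCone.pointedProjCone 𝒮 hz pC chartC) e5).mpr ?_
  refine Opens.mem_iSup.mpr ⟨⟨U, hU⟩, _, ?_, rfl⟩
  refine (RelCone.mem_domOpen (RelProj.gradedHomAt ι hz.graded U hU) _).mpr
    ⟨a, HomogeneousIdeal.mem_irrelevant_of_mem _ he ha, ?_⟩
  have hb : (Proj.awayι (𝒮h.deg U hU) ((RelProj.gradedHomAt ι hz.graded U hU) a)
      ((RelProj.gradedHomAt ι hz.graded U hU).2 ha) he).base
        ((Spec.map (CommRingCat.ofHom (Away.map (uh.gradedAt U hU U' hU' hle)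
          ((RelProj.gradedHomAt ι hz.graded U hU) a)))).base t) ∈
      Proj.basicOpen (𝒮h.deg U hU) ((RelProj.gradedHomAt ι hz.graded U hU) a) :=
    (Proj.opensRange_awayι (𝒮h.deg U hU) _ _ he).le ⟨_, rfl⟩
  exact (Proj.mem_basicOpen _ _ _).mp hb

end Groth.Agent.S12155
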