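import Groth.Statements.S12156
import Groth.Agent.S12155

set_option autoImplicit false
universe u
open CategoryTheory CategoryTheory.Limits AlgebraicGeometry TopologicalSpace Opposite
open scoped HomogeneousIdeal
noncomputable section
open EGA2

namespace Groth.Agent.S12156

open Groth.Agent.Lib.H60AwayMapEq Groth.Agent.Lib.ProjQMap Groth.Agent.Lib.ProjQMapOn
open Groth.Agent.Lib.H60AwayDegOne Groth.Agent.S12139 Groth.Agent.Lib.H60ProjQPts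
open Groth.Agent.Lib.H60RelCone Groth.Agent.S12155
open HomogeneousLocalization

section LiftW

variable {S S' PB : Scheme.{u}} {g : S' ⟶ S} {𝒜 : RelProj.QCGrAlg S} {ℬ : RelProj.QCGrAlg S'}
  (w : RelProj.QGrHom g 𝒜 ℬ) (pB : PB ⟶ S')
  (chartB : ∀ (U : S'.Opens) (hU : IsAffineOpen U),
    (((pB ⁻¹ᵁ U : PB.Opens) : Scheme.{u}) ≅ Proj (ℬ.deg U hU)))
  (W : PB.Opens)
  (U : S.Opens) (hU : IsAffineOpen U) (U' : S'.Opens) (hU' : IsAffineOpen U')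
  (hle : U' ≤ g ⁻¹ᵁ U) {d : ℕ} (hd : 0 < d) (f : 𝒜.presheaf.obj (op U)) (hf : f ∈ 𝒜.deg U hU d)
  (hW : Set.range (RelProj.awayEmb w pB chartB U hU U' hU' hle hd f hf).base ⊆
    Set.range W.ι.base)

/-- The standard chart lifted into an open `W` containing it. -/
def liftW : Spec (CommRingCat.of (Away (ℬ.deg U' hU') (w.gradedAt U hU U' hU' hle f))) ⟶
    (W : Scheme.{u}) :=
  IsOpenImmersion.lift W.ι (RelProj.awayEmb w pB chartB U hU U' hU' hle hd f hf) hW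

lemma liftW_ι : liftW w pB chartB W U hU U' hU' hle hd f hf hW ≫ W.ι =
    Proj.awayι (ℬ.deg U' hU') (w.gradedAt U hU U' hU' hle f)
      ((w.gradedAt U hU U' hU' hle).map_mem hf) hd ≫ RelProj.emb pB chartB U' hU' :=
  IsOpenImmersion.lift_fac _ _ _

instance : IsOpenImmersion (liftW w pB chartB W U hU U' hU' hle hd f hf hW) := by
  have : IsOpenImmersion (liftW w pB chartB W U hU U' hU' hle hd f hf hW ≫ W.ι) := by
    rw [liftW_ι]; infer_instance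
  exact IsOpenImmersion.of_comp _ W.ι

end LiftW

section Cone

variable {Y PC : Scheme.{u}} (𝒮 𝒮h : RelProj.QCGrAlg Y)
  (ι : 𝒮.toQCAlg ⟶ 𝒮h.toQCAlg) (z : 𝒮h.presheaf.obj (op ⊤)) (hz : RelCone.IsPolyOver 𝒮 𝒮h ι z)
  (pC : PC ⟶ Y)
  (chartC : ∀ (U : Y.Opens) (hU : IsAffineOpen U),
    (((pC ⁻¹ᵁ U : PC.Opens) : Scheme.{u}) ≅ Proj (𝒮h.deg U hU)))

/-- The standard charts `D₊(ι f)` over the pair `(U, U)` lie in the pointed projective cone. -/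
lemma range_awayEmb_cone (U : Y.Opens) (hU : IsAffineOpen U) {d : ℕ} (hd : 0 < d)
    (f : 𝒮.presheaf.obj (op U)) (hf : f ∈ 𝒮.deg U hU d) :
    Set.range (RelProj.awayEmb (RelProj.QGrHom.ofHom ι hz.graded) pC chartC U hU U hU (le_refl U)
      hd f hf).base ⊆ Set.range (RelCone.pointedProjCone 𝒮 hz pC chartC).ι.base := by
  rw [Scheme.Opens.range_ι]
  rintro _ ⟨t, rfl⟩
  unfold RelProj.awayEmb
  rw [Scheme.Hom.comp_base, TopCat.coe_comp, Function.comp_apply]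
  refine Opens.mem_iSup.mpr ⟨⟨U, hU⟩, _, ?_, rfl⟩
  refine (RelCone.mem_domOpen (RelProj.gradedHomAt ι hz.graded U hU) _).mpr
    ⟨f, HomogeneousIdeal.mem_irrelevant_of_mem _ hd hf, ?_⟩
  have hb : (Proj.awayι (𝒮h.deg U hU) (psi ι hz.graded U hU f)
      ((psi ι hz.graded U hU).map_mem hf) hd).base t ∈
        Proj.basicOpen (𝒮h.deg U hU) (psi ι hz.graded U hU f) :=
    (Proj.opensRange_awayι (𝒮h.deg U hU) _ _ hd).le ⟨t, rfl⟩
  have hb' := (Proj.mem_basicOpen _ _ _).mp hb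
  intro hcon
  apply hb'
  have e : psi ι hz.graded U hU f = (RelProj.gradedHomAt ι hz.graded U hU) f :=
    psi_apply ι hz.graded U hU f
  exact (congrArg (fun y ↦ y ∈ ((Proj.awayι (𝒮h.deg U hU) (psi ι hz.graded U hU f)
      ((psi ι hz.graded U hU).map_mem hf) hd).base t).asHomogeneousIdeal) e).mpr hcon

end Cone

section Main

variable {Y Y' PC PC' : Scheme.{u}} (q : Y' ⟶ Y)
  (𝒮 : RelProj.QCGrAlg Y) (𝒮' : RelProj.QCGrAlg Y')
  (u : RelProj.QGrHom q 𝒮 𝒮')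
  (𝒮h : RelProj.QCGrAlg Y) (ι : 𝒮.toQCAlg ⟶ 𝒮h.toQCAlg) (z : 𝒮h.presheaf.obj (op ⊤))
  (hz : RelCone.IsPolyOver 𝒮 𝒮h ι z)
  (pC : PC ⟶ Y)
  (chartC : ∀ (U : Y.Opens) (hU : IsAffineOpen U),
    (((pC ⁻¹ᵁ U : PC.Opens) : Scheme.{u}) ≅ Proj (𝒮h.deg U hU)))
  (hC : RelProj.IsRelProj 𝒮h pC chartC)
  (𝒮h' : RelProj.QCGrAlg Y') (ι' : 𝒮'.toQCAlg ⟶ 𝒮h'.toQCAlg) (z' : 𝒮h'.presheaf.obj (op ⊤))
  (hz' : RelCone.IsPolyOver 𝒮' 𝒮h' ι' z')
  (pC' : PC' ⟶ Y')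
  (chartC' : ∀ (U : Y'.Opens) (hU : IsAffineOpen U),
    (((pC' ⁻¹ᵁ U : PC'.Opens) : Scheme.{u}) ≅ Proj (𝒮h'.deg U hU)))
  (hC' : RelProj.IsRelProj 𝒮h' pC' chartC')
  (uh : RelProj.QGrHom q 𝒮h 𝒮h')
  (huh : ∀ U : Y.Opens, ι.hom.app (op U) ≫ uh.app U = u.app U ≫ ι'.hom.app (op (q ⁻¹ᵁ U)))
  (Φh : ((RelProj.domQ uh pC' chartC' : PC'.Opens) : Scheme.{u}) ⟶ PC)
  (hΦh : RelProj.IsProjQMapOn uh pC chartC pC' chartC' (RelProj.domQ uh pC' chartC') Φh)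

section Pair

variable (U : Y.Opens) (hU : IsAffineOpen U) (U' : Y'.Opens) (hU' : IsAffineOpen U')
  (hle : U' ≤ q ⁻¹ᵁ U)

include huh in
/-- `û (ι a) = ι' (u a)` over an affine pair, in `psi` form. -/
lemma uh_psi (a : 𝒮.presheaf.obj (op U)) :
    uh.gradedAt U hU U' hU' hle (psi ι hz.graded U hU a) =
      psi ι' hz'.graded U' hU' (u.gradedAt U hU U' hU' hle a) := by
  have e1 : psi ι hz.graded U hU a = (RelProj.gradedHomAt ι hz.graded U hU) a :=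
    psi_apply ι hz.graded U hU a
  have e2 : psi ι' hz'.graded U' hU' (u.gradedAt U hU U' hU' hle a) =
      (RelProj.gradedHomAt ι' hz'.graded U' hU') (u.gradedAt U hU U' hU' hle a) :=
    psi_apply ι' hz'.graded U' hU' _
  exact (congrArg (uh.gradedAt U hU U' hU' hle) e1).trans
    ((uh_iota q 𝒮 𝒮' u 𝒮h ι z hz 𝒮h' ι' z' hz' uh huh U hU U' hU' hle a).trans e2.symm)

include huh in
/-- The ring-level commutative square behind `p̂ ∘ Φ̂ = Proj(φ) ∘ p̂'`. -/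
lemma ring_sq (f : 𝒮.presheaf.obj (op U)) :
    ((awayMapEq (GradedRingHom.id (𝒮h'.deg U' hU'))
        (uh.gradedAt U hU U' hU' hle (psi ι hz.graded U hU f))
        (psi ι' hz'.graded U' hU' (u.gradedAt U hU U' hU' hle f))
        (uh_psi q 𝒮 𝒮' u 𝒮h ι z hz 𝒮h' ι' z' hz' uh huh U hU U' hU' hle f)).comp
      (Away.map (uh.gradedAt U hU U' hU' hle) (psi ι hz.graded U hU f))).comp
        (Away.map (psi ι hz.graded U hU) f) =
    (Away.map (psi ι' hz'.graded U' hU') (u.gradedAt U hU U' hU' hle f)).comp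
      (Away.map (u.gradedAt U hU U' hU' hle) f) := by
  change ((awayMapEq (GradedRingHom.id (𝒮h'.deg U' hU')) _ _
        (uh_psi q 𝒮 𝒮' u 𝒮h ι z hz 𝒮h' ι' z' hz' uh huh U hU U' hU' hle f)).comp
      (awayMapEq (uh.gradedAt U hU U' hU' hle) (psi ι hz.graded U hU f) _ rfl)).comp
        (awayMapEq (psi ι hz.graded U hU) f _ rfl) =
    (awayMapEq (psi ι' hz'.graded U' hU') (u.gradedAt U hU U' hU' hle f) _ rfl).comp
      (awayMapEq (u.gradedAt U hU U' hU' hle) f _ rfl)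
  rw [awayMapEq_comp, awayMapEq_comp, awayMapEq_comp]
  exact awayMapEq_congr _ _
    (fun a ↦ uh_psi q 𝒮 𝒮' u 𝒮h ι z hz 𝒮h' ι' z' hz' uh huh U hU U' hU' hle a) _ _ _

end Pair

variable {P P' : Scheme.{u}} (p : P ⟶ Y)
  (chart : ∀ (U : Y.Opens) (hU : IsAffineOpen U),
    (((p ⁻¹ᵁ U : P.Opens) : Scheme.{u}) ≅ Proj (𝒮.deg U hU)))
  (p' : P' ⟶ Y')
  (chart' : ∀ (U : Y'.Opens) (hU : IsAffineOpen U),
    (((p' ⁻¹ᵁ U : P'.Opens) : Scheme.{u}) ≅ Proj (𝒮'.deg U hU)))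
  (Φ : ((RelProj.domQ u p' chart' : P'.Opens) : Scheme.{u}) ⟶ P)
  (hΦ : RelProj.IsProjQMapOn u p chart p' chart' (RelProj.domQ u p' chart') Φ)
  (r : ((RelCone.pointedProjCone 𝒮 hz pC chartC : PC.Opens) : Scheme.{u}) ⟶ P)
  (hr : RelProj.IsProjQMapOn (RelProj.QGrHom.ofHom ι hz.graded) p chart pC chartC
    (RelCone.pointedProjCone 𝒮 hz pC chartC) r)

section Chart

variable (U : Y.Opens) (hU : IsAffineOpen U) (U' : Y'.Opens) (hU' : IsAffineOpen U')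
  (hle : U' ≤ q ⁻¹ᵁ U) {e : ℕ} (he : 0 < e) (f : 𝒮.presheaf.obj (op U)) (hf : f ∈ 𝒮.deg U hU e)

include huh hΦh hΦ hr in
/-- The commutation `p̂ ∘ Φ̂ = Proj(φ) ∘ p̂'` on a standard chart. -/
lemma chart_comm (T₀ : Scheme.{u})
    (α : T₀ ⟶ Spec (CommRingCat.of (Away (𝒮h'.deg U' hU')
      (psi ι' hz'.graded U' hU' (u.gradedAt U hU U' hU' hle f)))))
    (b₀ : T₀ ⟶ ((RelProj.domQ uh pC' chartC' : PC'.Opens) : Scheme.{u}))
    (c₀ : T₀ ⟶ ((RelCone.pointedProjCone 𝒮 hz pC chartC : PC.Opens) : Scheme.{u}))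
    (d₀ : T₀ ⟶ ((RelProj.domQ u p' chart' : P'.Opens) : Scheme.{u}))
    (hab : α ≫ Proj.awayι (𝒮h'.deg U' hU')
        (psi ι' hz'.graded U' hU' (u.gradedAt U hU U' hU' hle f))
        ((psi ι' hz'.graded U' hU').2 ((u.gradedAt U hU U' hU' hle).2 hf)) he ≫
          RelProj.emb pC' chartC' U' hU' = b₀ ≫ (RelProj.domQ uh pC' chartC').ι)
    (hbc : b₀ ≫ Φh = c₀ ≫ (RelCone.pointedProjCone 𝒮 hz pC chartC).ι)
    (had : α ≫ Spec.map (CommRingCat.ofHom (Away.map (psi ι' hz'.graded U' hU')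
        (u.gradedAt U hU U' hU' hle f))) ≫
        Proj.awayι (𝒮'.deg U' hU') (u.gradedAt U hU U' hU' hle f)
          ((u.gradedAt U hU U' hU' hle).2 hf) he ≫ RelProj.emb p' chart' U' hU' =
      d₀ ≫ (RelProj.domQ u p' chart').ι) :
    c₀ ≫ r = d₀ ≫ Φ := by
  have hpsif : psi ι hz.graded U hU f ∈ 𝒮h.deg U hU e := (psi ι hz.graded U hU).2 hf
  -- (1) `b₀` through the chart of `G(û)`
  have h1 : b₀ = α ≫ Spec.map (CommRingCat.ofHom (awayMapEq (GradedRingHom.id (𝒮h'.deg U' hU'))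
        (uh.gradedAt U hU U' hU' hle (psi ι hz.graded U hU f))
        (psi ι' hz'.graded U' hU' (u.gradedAt U hU U' hU' hle f))
        (uh_psi q 𝒮 𝒮' u 𝒮h ι z hz 𝒮h' ι' z' hz' uh huh U hU U' hU' hle f))) ≫
      liftQ q 𝒮h 𝒮h' uh pC' chartC' U hU U' hU' hle he (psi ι hz.graded U hU f) hpsif := by
    rw [← cancel_mono (RelProj.domQ uh pC' chartC').ι, ← hab, Category.assoc, Category.assoc,
      liftQ_ι q 𝒮h 𝒮h' uh pC' chartC' U hU U' hU' hle he (psi ι hz.graded U hU f) hpsif,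
      ← Category.assoc (Spec.map _), awayι_eq he _ _
        (uh_psi q 𝒮 𝒮' u 𝒮h ι z hz 𝒮h' ι' z' hz' uh huh U hU U' hU' hle f)
        ((uh.gradedAt U hU U' hU' hle).2 hpsif)
        ((psi ι' hz'.graded U' hU').2 ((u.gradedAt U hU U' hU' hle).2 hf))]
  -- (2) `c₀` through the chart of `Ê`
  have hΦk := (isProjQMapOn_iff q 𝒮h 𝒮h' uh pC chartC pC' chartC' Φh).mp hΦh
    ⟨U, hU, U', hU', hle, e, he, psi ι hz.graded U hU f, hpsif⟩
  have h2 : c₀ = α ≫ Spec.map (CommRingCat.ofHom (awayMapEq (GradedRingHom.id (𝒮h'.deg U' hU'))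
        (uh.gradedAt U hU U' hU' hle (psi ι hz.graded U hU f))
        (psi ι' hz'.graded U' hU' (u.gradedAt U hU U' hU' hle f))
        (uh_psi q 𝒮 𝒮' u 𝒮h ι z hz 𝒮h' ι' z' hz' uh huh U hU U' hU' hle f))) ≫
      Spec.map (CommRingCat.ofHom (Away.map (uh.gradedAt U hU U' hU' hle)
        (psi ι hz.graded U hU f))) ≫
      liftW (RelProj.QGrHom.ofHom ι hz.graded) pC chartC
        (RelCone.pointedProjCone 𝒮 hz pC chartC) U hU U hU (le_refl U) he f hf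
        (range_awayEmb_cone 𝒮 𝒮h ι z hz pC chartC U hU he f hf) := by
    rw [← cancel_mono (RelCone.pointedProjCone 𝒮 hz pC chartC).ι, ← hbc, h1, Category.assoc,
      Category.assoc, Category.assoc, Category.assoc, Category.assoc, hΦk, liftW_ι]
    rfl
  -- (3) `d₀` through the chart of `G(u)`
  have h3 : d₀ = α ≫ Spec.map (CommRingCat.ofHom (Away.map (psi ι' hz'.graded U' hU')
        (u.gradedAt U hU U' hU' hle f))) ≫
      liftQ q 𝒮 𝒮' u p' chart' U hU U' hU' hle he f hf := by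
    rw [← cancel_mono (RelProj.domQ u p' chart').ι, ← had, Category.assoc, Category.assoc,
      liftQ_ι q 𝒮 𝒮' u p' chart' U hU U' hU' hle he f hf]
  -- (4), (5) the two composites
  have hrk : liftW (RelProj.QGrHom.ofHom ι hz.graded) pC chartC
        (RelCone.pointedProjCone 𝒮 hz pC chartC) U hU U hU (le_refl U) he f hf
        (range_awayEmb_cone 𝒮 𝒮h ι z hz pC chartC U hU he f hf) ≫ r =
      Spec.map (CommRingCat.ofHom (Away.map (psi ι hz.graded U hU) f)) ≫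
        Proj.awayι (𝒮.deg U hU) f hf he ≫ RelProj.emb p chart U hU :=
    hr U hU U hU (le_refl U) e he f hf _
  have hΦk' := (isProjQMapOn_iff q 𝒮 𝒮' u p chart p' chart' Φ).mp hΦ
    ⟨U, hU, U', hU', hle, e, he, f, hf⟩
  have hΦk'' : liftQ q 𝒮 𝒮' u p' chart' U hU U' hU' hle he f hf ≫ Φ =
      Spec.map (CommRingCat.ofHom (Away.map (u.gradedAt U hU U' hU' hle) f)) ≫
        Proj.awayι (𝒮.deg U hU) f hf he ≫ RelProj.emb p chart U hU := hΦk'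
  have hring := congrArg (fun φ ↦ Spec.map (CommRingCat.ofHom φ))
    (ring_sq q 𝒮 𝒮' u 𝒮h ι z hz 𝒮h' ι' z' hz' uh huh U hU U' hU' hle f)
  simp only [CommRingCat.ofHom_comp, Spec.map_comp, Category.assoc] at hring
  rw [h2, h3, Category.assoc, Category.assoc, Category.assoc, Category.assoc, Category.assoc,
    hrk, hΦk'', reassoc_of% hring]

end Chart

include hC huh hΦh in
/-- Every `T`-point lies in a standard chart `D₊(ι' (u f))` of `Ê'`. -/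
lemma exists_chart (T : Scheme.{u})
    (a : T ⟶ ((RelCone.pointedProjCone 𝒮' hz' pC' chartC' : PC'.Opens) : Scheme.{u}))
    (b : T ⟶ ((RelProj.domQ uh pC' chartC' : PC'.Opens) : Scheme.{u}))
    (c : T ⟶ ((RelCone.pointedProjCone 𝒮 hz pC chartC : PC.Opens) : Scheme.{u}))
    (hab : a ≫ (RelCone.pointedProjCone 𝒮' hz' pC' chartC').ι =
      b ≫ (RelProj.domQ uh pC' chartC').ι)
    (hbc : b ≫ Φh = c ≫ (RelCone.pointedProjCone 𝒮 hz pC chartC).ι) (τ : T) :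
    ∃ (U : Y.Opens) (hU : IsAffineOpen U) (U' : Y'.Opens) (hU' : IsAffineOpen U')
      (hle : U' ≤ q ⁻¹ᵁ U) (e : ℕ) (he : 0 < e) (f : 𝒮.presheaf.obj (op U))
      (hf : f ∈ 𝒮.deg U hU e)
      (t' : Spec (CommRingCat.of (Away (𝒮h'.deg U' hU')
        (psi ι' hz'.graded U' hU' (u.gradedAt U hU U' hU' hle f))))),
      (liftW (RelProj.QGrHom.ofHom ι' hz'.graded) pC' chartC'
        (RelCone.pointedProjCone 𝒮' hz' pC' chartC') U' hU' U' hU' (le_refl U') he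
        (u.gradedAt U hU U' hU' hle f) ((u.gradedAt U hU U' hU' hle).2 hf)
        (range_awayEmb_cone 𝒮' 𝒮h' ι' z' hz' pC' chartC' U' hU' he _
          ((u.gradedAt U hU U' hU' hle).2 hf))).base t' = a.base τ := by
  obtain ⟨k, t, ht⟩ := exists_liftQ q 𝒮h 𝒮h' uh pC' chartC' (b.base τ)
  have hx' : Φh.base (b.base τ) ∈ RelCone.pointedProjCone 𝒮 hz pC chartC := by
    have h2 : Φh.base (b.base τ) =
        (RelCone.pointedProjCone 𝒮 hz pC chartC).ι.base (c.base τ) :=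
      congrArg (fun g ↦ g.base τ) hbc
    rw [h2]; exact (c.base τ).2
  rw [← ht, v_liftQ_apply q 𝒮h 𝒮h' uh pC chartC pC' chartC' Φh hΦh k.U k.hU k.U' k.hU' k.hle k.hd
    k.f k.hf t, Groth.Agent.S8298.emb_mem_pointedProjCone_iff 𝒮 𝒮h ι z hz pC chartC hC k.U k.hU]
    at hx'
  obtain ⟨e, he, f, hf, hwf⟩ :=
    exists_homogeneous_of_mem_domOpen (RelProj.gradedHomAt ι hz.graded k.U k.hU) _ hx'
  have h0 := (Proj.mem_basicOpen _ _ _).mp hwf
  have h2 : ¬ (uh.gradedAt k.U k.hU k.U' k.hU' k.hle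
      ((RelProj.gradedHomAt ι hz.graded k.U k.hU) f) ∈
      ((Proj.awayι (𝒮h'.deg k.U' k.hU') ((uh.gradedAt k.U k.hU k.U' k.hU' k.hle) k.f)
        ((uh.gradedAt k.U k.hU k.U' k.hU' k.hle).2 k.hf) k.hd).base t).asHomogeneousIdeal) :=
    fun hcon ↦ h0 ((mem_awayι_map_iff (uh.gradedAt k.U k.hU k.U' k.hU' k.hle) k.hd k.hf t
      ((RelProj.gradedHomAt ι hz.graded k.U k.hU).2 hf)).mpr hcon)
  have e3 : psi ι' hz'.graded k.U' k.hU' (u.gradedAt k.U k.hU k.U' k.hU' k.hle f) =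
      uh.gradedAt k.U k.hU k.U' k.hU' k.hle ((RelProj.gradedHomAt ι hz.graded k.U k.hU) f) :=
    (psi_apply ι' hz'.graded k.U' k.hU' _).trans
      (uh_iota q 𝒮 𝒮' u 𝒮h ι z hz 𝒮h' ι' z' hz' uh huh k.U k.hU k.U' k.hU' k.hle f).symm
  have h1 : ¬ (psi ι' hz'.graded k.U' k.hU' (u.gradedAt k.U k.hU k.U' k.hU' k.hle f) ∈
      ((Proj.awayι (𝒮h'.deg k.U' k.hU') ((uh.gradedAt k.U k.hU k.U' k.hU' k.hle) k.f)
        ((uh.gradedAt k.U k.hU k.U' k.hU' k.hle).2 k.hf) k.hd).base t).asHomogeneousIdeal) :=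
    fun hcon ↦ h2 ((congrArg (fun y ↦ y ∈ ((Proj.awayι (𝒮h'.deg k.U' k.hU')
      ((uh.gradedAt k.U k.hU k.U' k.hU' k.hle) k.f)
        ((uh.gradedAt k.U k.hU k.U' k.hU' k.hle).2 k.hf) k.hd).base t).asHomogeneousIdeal)
      e3).mp hcon)
  have hmem : (Proj.awayι (𝒮h'.deg k.U' k.hU') ((uh.gradedAt k.U k.hU k.U' k.hU' k.hle) k.f)
        ((uh.gradedAt k.U k.hU k.U' k.hU' k.hle).2 k.hf) k.hd).base t ∈
      (Proj.awayι (𝒮h'.deg k.U' k.hU')
        (psi ι' hz'.graded k.U' k.hU' (u.gradedAt k.U k.hU k.U' k.hU' k.hle f))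
        ((psi ι' hz'.graded k.U' k.hU').2 ((u.gradedAt k.U k.hU k.U' k.hU' k.hle).2 hf))
        he).opensRange := by
    rw [Proj.opensRange_awayι]; exact (Proj.mem_basicOpen _ _ _).mpr h1
  obtain ⟨t', ht'⟩ := hmem
  refine ⟨k.U, k.hU, k.U', k.hU', k.hle, e, he, f, hf, t', ?_⟩
  apply (RelCone.pointedProjCone 𝒮' hz' pC' chartC').ι.isOpenEmbedding.injective
  have e5 : (RelCone.pointedProjCone 𝒮' hz' pC' chartC').ι.base (a.base τ) =
      (RelProj.domQ uh pC' chartC').ι.base (b.base τ) :=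
    congrArg (fun g ↦ g.base τ) hab
  rw [e5, ← ht, liftQ_ι_apply]
  have e6 := congrArg (fun g ↦ g.base t')
    (liftW_ι (RelProj.QGrHom.ofHom ι' hz'.graded) pC' chartC'
      (RelCone.pointedProjCone 𝒮' hz' pC' chartC') k.U' k.hU' k.U' k.hU' (le_refl k.U') he
      (u.gradedAt k.U k.hU k.U' k.hU' k.hle f) ((u.gradedAt k.U k.hU k.U' k.hU' k.hle).2 hf)
      (range_awayEmb_cone 𝒮' 𝒮h' ι' z' hz' pC' chartC' k.U' k.hU' he _
        ((u.gradedAt k.U k.hU k.U' k.hU' k.hle).2 hf)))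
  refine e6.trans ?_
  exact congrArg (RelProj.emb pC' chartC' k.U' k.hU').base ht'

end Main

/-- Let q : Y' → Y be a morphism, φ : 𝒮 → q_*𝒮' a graded q-morphism of quasi-coherent positively graded
algebras with 𝒮_0 = O_Y, 𝒮'_0 = O_{Y'}, φ̂ : 𝒮[z] → q_*𝒮'[z] its extension with φ̂(z) = z, Ĉ =
Proj(𝒮[z]), Ĉ' = Proj(𝒮'[z]) the projective cones with pointed cones Ê, Ê', and Φ̂ = Proj(φ̂) :
G(φ̂) → Ĉ; let X = Proj(𝒮), X' = Proj(𝒮'), Proj(φ) : G(φ) → X on its open of definition G(φ) ⊆ X',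
and p̂ : Ê → X, p̂' : Ê' → X' the canonical retractions. Then p̂'(Φ̂⁻¹(Ê)) ⊆ G(φ) and on Φ̂⁻¹(Ê) the
composites p̂ ∘ Φ̂ and Proj(φ) ∘ p̂' agree (stated on T-valued points: a : T → Ê' and b : T → G(φ̂)
agreeing in Ĉ' with Φ̂ ∘ b = c : T → Ê). -/
theorem result {Y Y' PC PC' : Scheme.{u}} (q : Y' ⟶ Y)
    (𝒮 : RelProj.QCGrAlg Y) (𝒮' : RelProj.QCGrAlg Y') (h0 : RelCone.StrZeroBij 𝒮) (h0' : RelCone.StrZeroBij 𝒮')
    (u : RelProj.QGrHom q 𝒮 𝒮')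
    (𝒮h : RelProj.QCGrAlg Y) (ι : 𝒮.toQCAlg ⟶ 𝒮h.toQCAlg) (z : 𝒮h.presheaf.obj (op ⊤))
    (hz : RelCone.IsPolyOver 𝒮 𝒮h ι z)
    (pC : PC ⟶ Y) (chartC : ∀ (U : Y.Opens) (hU : IsAffineOpen U), (((pC ⁻¹ᵁ U : PC.Opens) : Scheme.{u}) ≅ Proj (𝒮h.deg U hU)))
    (hC : RelProj.IsRelProj 𝒮h pC chartC)
    (𝒮h' : RelProj.QCGrAlg Y') (ι' : 𝒮'.toQCAlg ⟶ 𝒮h'.toQCAlg) (z' : 𝒮h'.presheaf.obj (op ⊤))
    (hz' : RelCone.IsPolyOver 𝒮' 𝒮h' ι' z')
    (pC' : PC' ⟶ Y') (chartC' : ∀ (U : Y'.Opens) (hU : IsAffineOpen U), (((pC' ⁻¹ᵁ U : PC'.Opens) : Scheme.{u}) ≅ Proj (𝒮h'.deg U hU)))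
    (hC' : RelProj.IsRelProj 𝒮h' pC' chartC')
    (uh : RelProj.QGrHom q 𝒮h 𝒮h')
    (huh : ∀ U : Y.Opens, ι.hom.app (op U) ≫ uh.app U = u.app U ≫ ι'.hom.app (op (q ⁻¹ᵁ U)))
    (huhz : (uh.app ⊤).hom z = RelCone.restrictTop 𝒮h' z' (q ⁻¹ᵁ ⊤))
    (Φh : ((RelProj.domQ uh pC' chartC' : PC'.Opens) : Scheme.{u}) ⟶ PC)
    (hΦh : RelProj.IsProjQMapOn uh pC chartC pC' chartC' (RelProj.domQ uh pC' chartC') Φh)
    {P P' : Scheme.{u}} (p : P ⟶ Y) (chart : ∀ (U : Y.Opens) (hU : IsAffineOpen U), (((p ⁻¹ᵁ U : P.Opens) : Scheme.{u}) ≅ Proj (𝒮.deg U hU)))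
    (hP : RelProj.IsRelProj 𝒮 p chart)
    (p' : P' ⟶ Y') (chart' : ∀ (U : Y'.Opens) (hU : IsAffineOpen U), (((p' ⁻¹ᵁ U : P'.Opens) : Scheme.{u}) ≅ Proj (𝒮'.deg U hU)))
    (hP' : RelProj.IsRelProj 𝒮' p' chart')
    (Φ : ((RelProj.domQ u p' chart' : P'.Opens) : Scheme.{u}) ⟶ P)
    (hΦ : RelProj.IsProjQMapOn u p chart p' chart' (RelProj.domQ u p' chart') Φ)
    (r : ((RelCone.pointedProjCone 𝒮 hz pC chartC : PC.Opens) : Scheme.{u}) ⟶ P)
    (hr : RelProj.IsProjQMapOn (RelProj.QGrHom.ofHom ι hz.graded) p chart pC chartC (RelCone.pointedProjCone 𝒮 hz pC chartC) r)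
    (r' : ((RelCone.pointedProjCone 𝒮' hz' pC' chartC' : PC'.Opens) : Scheme.{u}) ⟶ P')
    (hr' : RelProj.IsProjQMapOn (RelProj.QGrHom.ofHom ι' hz'.graded) p' chart' pC' chartC' (RelCone.pointedProjCone 𝒮' hz' pC' chartC') r')
    (T : Scheme.{u}) (a : T ⟶ ((RelCone.pointedProjCone 𝒮' hz' pC' chartC' : PC'.Opens) : Scheme.{u}))
    (b : T ⟶ ((RelProj.domQ uh pC' chartC' : PC'.Opens) : Scheme.{u}))
    (c : T ⟶ ((RelCone.pointedProjCone 𝒮 hz pC chartC : PC.Opens) : Scheme.{u}))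
    (hab : a ≫ (RelCone.pointedProjCone 𝒮' hz' pC' chartC').ι = b ≫ (RelProj.domQ uh pC' chartC').ι) (hbc : b ≫ Φh = c ≫ (RelCone.pointedProjCone 𝒮 hz pC chartC).ι) :
    Set.range (a ≫ r').base ⊆ ((RelProj.domQ u p' chart' : P'.Opens) : Set P') ∧
      ∀ d : T ⟶ ((RelProj.domQ u p' chart' : P'.Opens) : Scheme.{u}),
        a ≫ r' = d ≫ (RelProj.domQ u p' chart').ι → c ≫ r = d ≫ Φ := by
  have key := fun τ ↦ exists_chart q 𝒮 𝒮' u 𝒮h ι z hz pC chartC hC 𝒮h' ι' z' hz' pC' chartC' uh huh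
    Φh hΦh T a b c hab hbc τ
  constructor
  · rintro _ ⟨τ, rfl⟩
    obtain ⟨U, hU, U', hU', hle, e, he, f, hf, t', ht'⟩ := key τ
    have hr'k := hr' U' hU' U' hU' (le_refl U') e he (u.gradedAt U hU U' hU' hle f)
      ((u.gradedAt U hU U' hU' hle).2 hf)
      (range_awayEmb_cone 𝒮' 𝒮h' ι' z' hz' pC' chartC' U' hU' he _
        ((u.gradedAt U hU U' hU' hle).2 hf))
    have e2 : r'.base ((liftW (RelProj.QGrHom.ofHom ι' hz'.graded) pC' chartC'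
        (RelCone.pointedProjCone 𝒮' hz' pC' chartC') U' hU' U' hU' (le_refl U') he
        (u.gradedAt U hU U' hU' hle f) ((u.gradedAt U hU U' hU' hle).2 hf)
        (range_awayEmb_cone 𝒮' 𝒮h' ι' z' hz' pC' chartC' U' hU' he _
          ((u.gradedAt U hU U' hU' hle).2 hf))).base t') =
        (RelProj.emb p' chart' U' hU').base ((Proj.awayι (𝒮'.deg U' hU')
          (u.gradedAt U hU U' hU' hle f) ((u.gradedAt U hU U' hU' hle).2 hf) he).base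
          ((Spec.map (CommRingCat.ofHom (Away.map (psi ι' hz'.graded U' hU')
            (u.gradedAt U hU U' hU' hle f)))).base t')) :=
      congrArg (fun g ↦ g.base t') hr'k
    have e1 : (a ≫ r').base τ = r'.base (a.base τ) := rfl
    rw [e1, ← ht', e2]
    have h3 := RelProj.range_awayEmb_subset_domQ u p' chart' U hU U' hU' hle he f hf
    rw [Scheme.Opens.range_ι] at h3
    exact h3 ⟨_, rfl⟩
  · intro d hd
    refine Groth.Agent.Lib.ImmersionGlue.hom_ext_of_forall_isOpenImmersion _ _ fun τ ↦ ?_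
    obtain ⟨U, hU, U', hU', hle, e, he, f, hf, t', ht'⟩ := key τ
    have hLι := liftW_ι (RelProj.QGrHom.ofHom ι' hz'.graded) pC' chartC'
      (RelCone.pointedProjCone 𝒮' hz' pC' chartC') U' hU' U' hU' (le_refl U') he
      (u.gradedAt U hU U' hU' hle f) ((u.gradedAt U hU U' hU' hle).2 hf)
      (range_awayEmb_cone 𝒮' 𝒮h' ι' z' hz' pC' chartC' U' hU' he _
        ((u.gradedAt U hU U' hU' hle).2 hf))
    set L := liftW (RelProj.QGrHom.ofHom ι' hz'.graded) pC' chartC'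
      (RelCone.pointedProjCone 𝒮' hz' pC' chartC') U' hU' U' hU' (le_refl U') he
      (u.gradedAt U hU U' hU' hle f) ((u.gradedAt U hU U' hU' hle).2 hf)
      (range_awayEmb_cone 𝒮' 𝒮h' ι' z' hz' pC' chartC' U' hU' he _
        ((u.gradedAt U hU U' hU' hle).2 hf)) with hL
    have hr'k : L ≫ r' = Spec.map (CommRingCat.ofHom (Away.map (psi ι' hz'.graded U' hU')
          (u.gradedAt U hU U' hU' hle f))) ≫
        Proj.awayι (𝒮'.deg U' hU') (u.gradedAt U hU U' hU' hle f)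
          ((u.gradedAt U hU U' hU' hle).2 hf) he ≫ RelProj.emb p' chart' U' hU' :=
      hr' U' hU' U' hU' (le_refl U') e he (u.gradedAt U hU U' hU' hle f)
        ((u.gradedAt U hU U' hU' hle).2 hf)
        (range_awayEmb_cone 𝒮' 𝒮h' ι' z' hz' pC' chartC' U' hU' he _
          ((u.gradedAt U hU U' hU' hle).2 hf))
    let T₀ : T.Opens := a ⁻¹ᵁ L.opensRange
    have hτ : τ ∈ T₀ := ⟨t', ht'⟩
    have hrange : Set.range (T₀.ι ≫ a).base ⊆ Set.range L.base := by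
      rintro _ ⟨s, rfl⟩
      exact s.2
    let α := IsOpenImmersion.lift L (T₀.ι ≫ a) hrange
    have hα : α ≫ L = T₀.ι ≫ a := IsOpenImmersion.lift_fac _ _ _
    refine ⟨T₀, T₀.ι, inferInstance, ⟨⟨τ, hτ⟩, rfl⟩, ?_⟩
    rw [← Category.assoc, ← Category.assoc]
    refine chart_comm q 𝒮 𝒮' u 𝒮h ι z hz pC chartC 𝒮h' ι' z' hz' pC' chartC' uh huh Φh hΦh
      p chart p' chart' Φ hΦ r hr U hU U' hU' hle he f hf T₀ α (T₀.ι ≫ b) (T₀.ι ≫ c) (T₀.ι ≫ d)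
      ?_ ?_ ?_
    · rw [Category.assoc, ← hab, ← reassoc_of% hα, hLι]
    · rw [Category.assoc, hbc, Category.assoc]
    · rw [Category.assoc, ← hd, ← reassoc_of% hα, hr'k]

end Groth.Agent.S12156
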