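import Groth.Statements.S12157
import Groth.Agent.S12155

set_option autoImplicit false
universe u
open CategoryTheory CategoryTheory.Limits AlgebraicGeometry TopologicalSpace Opposite
open scoped HomogeneousIdeal
noncomputable section
open EGA2

namespace Groth.Agent.S12157

open Groth.Agent.Lib.H60AwayMapEq Groth.Agent.Lib.ProjQMap Groth.Agent.Lib.ProjQMapOn
open Groth.Agent.Lib.H60AwayDegOne Groth.Agent.S12139 Groth.Agent.Lib.H60ProjQPts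
open Groth.Agent.Lib.H60RelCone Groth.Agent.S12155
open HomogeneousLocalization

section Alg

variable {A B σ τ : Type u} [CommRing A] [SetLike σ A] [AddSubgroupClass σ A]
  [CommRing B] [SetLike τ B] [AddSubgroupClass τ B]
  {𝒜 : ℕ → σ} {ℬ : ℕ → τ} [GradedRing 𝒜] [GradedRing ℬ]

/-- The value of `awayMapEq` on a standard fraction. -/
lemma val_awayMapEq_mk (g : 𝒜 →+*ᵍ ℬ) (s : A) (t : B) (h : g s = t) {d : ℕ} (hs : s ∈ 𝒜 d)
    (n : ℕ) (x : A) (hx : x ∈ 𝒜 (n • d)) :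
    (awayMapEq g s t h (Away.mk 𝒜 hs n x hx)).val =
      Localization.mk (g x) ⟨t ^ n, pow_mem (Submonoid.mem_powers _) n⟩ := by
  subst h
  change (Away.map g s (Away.mk 𝒜 hs n x hx)).val = _
  rw [Away.map_mk, Away.val_mk]

end Alg

section Aux

variable {Y Y' PC PC' : Scheme.{u}} (q : Y' ⟶ Y)
  (𝒮 : RelProj.QCGrAlg Y) (𝒮' : RelProj.QCGrAlg Y')
  (u : RelProj.QGrHom q 𝒮 𝒮')
  (𝒮h : RelProj.QCGrAlg Y) (ι : 𝒮.toQCAlg ⟶ 𝒮h.toQCAlg) (z : 𝒮h.presheaf.obj (op ⊤))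
  (hz : RelCone.IsPolyOver 𝒮 𝒮h ι z)
  (𝒮h' : RelProj.QCGrAlg Y') (ι' : 𝒮'.toQCAlg ⟶ 𝒮h'.toQCAlg) (z' : 𝒮h'.presheaf.obj (op ⊤))
  (hz' : RelCone.IsPolyOver 𝒮' 𝒮h' ι' z')
  (uh : RelProj.QGrHom q 𝒮h 𝒮h')
  (huh : ∀ U : Y.Opens, ι.hom.app (op U) ≫ uh.app U = u.app U ≫ ι'.hom.app (op (q ⁻¹ᵁ U)))
  (huhz : (uh.app ⊤).hom z = RelCone.restrictTop 𝒮h' z' (q ⁻¹ᵁ ⊤))
  (U : Y.Opens) (hU : IsAffineOpen U) (U' : Y'.Opens) (hU' : IsAffineOpen U') (hle : U' ≤ q ⁻¹ᵁ U)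

include huh huhz in
/-- "set `z = 1`" commutes with `û` and `u`. -/
lemma evalOne_uh (x : 𝒮h.presheaf.obj (op U)) :
    hz'.evalOne U' hU' (uh.gradedAt U hU U' hU' hle x) =
      u.gradedAt U hU U' hU' hle (hz.evalOne U hU x) := by
  obtain ⟨p, rfl⟩ := (hz.polyEquiv U hU).surjective x
  induction p using Polynomial.induction_on' with
  | add p q hp hq => simp only [map_add, hp, hq]
  | monomial n a =>
    have e1 : hz.polyEquiv U hU (Polynomial.monomial n a) =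
        (RelProj.gradedHomAt ι hz.graded U hU) a * RelCone.restrictTop 𝒮h z U ^ n := by
      rw [RelCone.IsPolyOver.polyEquiv_apply, Polynomial.eval₂_monomial]
      rfl
    rw [e1, map_mul, map_pow, map_mul, map_pow, map_mul, map_pow, map_mul, map_pow,
      uh_iota q 𝒮 𝒮' u 𝒮h ι z hz 𝒮h' ι' z' hz' uh huh U hU U' hU' hle a,
      uh_z q 𝒮h z 𝒮h' z' uh huhz U hU U' hU' hle, hz.evalOne_z, hz'.evalOne_z]
    have e2 : hz'.evalOne U' hU' ((RelProj.gradedHomAt ι' hz'.graded U' hU')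
        (u.gradedAt U hU U' hU' hle a)) = u.gradedAt U hU U' hU' hle a :=
      hz'.evalOne_ι U' hU' _
    have e3 : hz.evalOne U hU ((RelProj.gradedHomAt ι hz.graded U hU) a) = a :=
      hz.evalOne_ι U hU _
    rw [e2, e3, map_one, one_pow]

include huh huhz in
/-- The ring-level commutative square behind `Φ̂ ∘ i' = i ∘ Φ`. -/
lemma ring_sq :
    ((hz'.awayZToBase U' hU').comp
      (awayMapEq (GradedRingHom.id (𝒮h'.deg U' hU'))
        (uh.gradedAt U hU U' hU' hle (RelCone.restrictTop 𝒮h z U))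
        (RelCone.restrictTop 𝒮h' z' U') (uh_z q 𝒮h z 𝒮h' z' uh huhz U hU U' hU' hle))).comp
        (Away.map (uh.gradedAt U hU U' hU' hle) (RelCone.restrictTop 𝒮h z U)) =
    (u.appLE U U' hle).hom.comp (hz.awayZToBase U hU) := by
  ext ξ
  obtain ⟨n, x, hx, rfl⟩ := Away.mk_surjective _ (hz.deg_z U hU) ξ
  rw [RingHom.comp_apply, RingHom.comp_apply, RingHom.comp_apply, Away.map_mk,
    hz.awayZToBase_of_val U hU _ x n (Away.val_mk _ _ _ _ _)]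
  refine (hz'.awayZToBase_of_val U' hU' _ (uh.gradedAt U hU U' hU' hle x) n
    (val_awayMapEq_mk (GradedRingHom.id (𝒮h'.deg U' hU'))
      (uh.gradedAt U hU U' hU' hle (RelCone.restrictTop 𝒮h z U)) (RelCone.restrictTop 𝒮h' z' U')
      (uh_z q 𝒮h z 𝒮h' z' uh huhz U hU U' hU' hle)
      ((uh.gradedAt U hU U' hU' hle).2 (hz.deg_z U hU)) n (uh.gradedAt U hU U' hU' hle x)
      _)).trans ?_
  exact evalOne_uh q 𝒮 𝒮' u 𝒮h ι z hz 𝒮h' ι' z' hz' uh huh huhz U hU U' hU' hle x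

end Aux

/-- Let q : Y' → Y be a morphism, φ : 𝒮 → q_*𝒮' a graded q-morphism of quasi-coherent positively graded
algebras with 𝒮_0 = O_Y, 𝒮'_0 = O_{Y'}, φ̂ : 𝒮[z] → q_*𝒮'[z] its extension with φ̂(z) = z, Ĉ =
Proj(𝒮[z]), Ĉ' = Proj(𝒮'[z]) the projective cones with pointed cones Ê, Ê', and Φ̂ = Proj(φ̂) :
G(φ̂) → Ĉ; let Φ = Spec(φ) : C' = Spec(𝒮') → C = Spec(𝒮) be the morphism of affine cones and i : C →
Ĉ, i' : C' → Ĉ' the canonical open immersions. Then i'(C') ⊆ G(φ̂) and the square formed by Φ, i', i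
and Φ̂ commutes. -/
theorem result {Y Y' PC PC' : Scheme.{u}} (q : Y' ⟶ Y)
    (𝒮 : RelProj.QCGrAlg Y) (𝒮' : RelProj.QCGrAlg Y') (h0 : RelCone.StrZeroBij 𝒮) (h0' : RelCone.StrZeroBij 𝒮')
    (u : RelProj.QGrHom q 𝒮 𝒮')
    (𝒮h : RelProj.QCGrAlg Y) (ι : 𝒮.toQCAlg ⟶ 𝒮h.toQCAlg) (z : 𝒮h.presheaf.obj (op ⊤))
    (hz : RelCone.IsPolyOver 𝒮 𝒮h ι z)
    (pC : PC ⟶ Y) (chartC : ∀ (U : Y.Opens) (hU : IsAffineOpen U), (((pC ⁻¹ᵁ U : PC.Opens) : Scheme.{u}) ≅ Proj (𝒮h.deg U hU)))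
    (hC : RelProj.IsRelProj 𝒮h pC chartC)
    (𝒮h' : RelProj.QCGrAlg Y') (ι' : 𝒮'.toQCAlg ⟶ 𝒮h'.toQCAlg) (z' : 𝒮h'.presheaf.obj (op ⊤))
    (hz' : RelCone.IsPolyOver 𝒮' 𝒮h' ι' z')
    (pC' : PC' ⟶ Y') (chartC' : ∀ (U : Y'.Opens) (hU : IsAffineOpen U), (((pC' ⁻¹ᵁ U : PC'.Opens) : Scheme.{u}) ≅ Proj (𝒮h'.deg U hU)))
    (hC' : RelProj.IsRelProj 𝒮h' pC' chartC')
    (uh : RelProj.QGrHom q 𝒮h 𝒮h')
    (huh : ∀ U : Y.Opens, ι.hom.app (op U) ≫ uh.app U = u.app U ≫ ι'.hom.app (op (q ⁻¹ᵁ U)))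
    (huhz : (uh.app ⊤).hom z = RelCone.restrictTop 𝒮h' z' (q ⁻¹ᵁ ⊤))
    (Φh : ((RelProj.domQ uh pC' chartC' : PC'.Opens) : Scheme.{u}) ⟶ PC)
    (hΦh : RelProj.IsProjQMapOn uh pC chartC pC' chartC' (RelProj.domQ uh pC' chartC') Φh)
    (Φc : 𝒮'.toQCAlg.spec ⟶ 𝒮.toQCAlg.spec) (hΦc : RelSpec.IsSpecQMap u.toQHom Φc)
    (i : 𝒮.toQCAlg.spec ⟶ PC) (hi : RelCone.IsConeImm 𝒮 hz pC chartC i)
    (i' : 𝒮'.toQCAlg.spec ⟶ PC') (hi' : RelCone.IsConeImm 𝒮' hz' pC' chartC' i') :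
    Set.range i'.base ⊆ ((RelProj.domQ uh pC' chartC' : PC'.Opens) : Set PC') ∧
      ∀ i'' : 𝒮'.toQCAlg.spec ⟶ ((RelProj.domQ uh pC' chartC' : PC'.Opens) : Scheme.{u}),
        i'' ≫ (RelProj.domQ uh pC' chartC').ι = i' → i'' ≫ Φh = Φc ≫ i := by
  -- the chart description of `i'`
  have hchart : ∀ (U : Y.Opens) (hU : IsAffineOpen U) (U' : Y'.Opens) (hU' : IsAffineOpen U')
      (hle : U' ≤ q ⁻¹ᵁ U),
      𝒮'.toQCAlg.ι U' hU' ≫ i' =
        (Spec.map (CommRingCat.ofHom (hz'.awayZToBase U' hU')) ≫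
          Spec.map (CommRingCat.ofHom (awayMapEq (GradedRingHom.id (𝒮h'.deg U' hU'))
            (uh.gradedAt U hU U' hU' hle (RelCone.restrictTop 𝒮h z U))
            (RelCone.restrictTop 𝒮h' z' U') (uh_z q 𝒮h z 𝒮h' z' uh huhz U hU U' hU' hle)))) ≫
          liftQ q 𝒮h 𝒮h' uh pC' chartC' U hU U' hU' hle one_pos (RelCone.restrictTop 𝒮h z U)
            (hz.deg_z U hU) ≫ (RelProj.domQ uh pC' chartC').ι := by
    intro U hU U' hU' hle
    rw [hi' U' hU', liftQ_ι, Category.assoc, ← Category.assoc (Spec.map (CommRingCat.ofHom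
      (awayMapEq _ _ _ _))), awayι_eq one_pos _ _ (uh_z q 𝒮h z 𝒮h' z' uh huhz U hU U' hU' hle)
        ((uh.gradedAt U hU U' hU' hle).2 (hz.deg_z U hU)) (hz'.deg_z U' hU')]
  constructor
  · rintro _ ⟨x, rfl⟩
    obtain ⟨U, hU, U', hU', hle, hsU', -⟩ :=
      Groth.Agent.S8299.exists_affine_pair q (𝒮'.toQCAlg.π.base x)
    obtain ⟨y, rfl⟩ := exists_chart 𝒮'.toQCAlg x U' hU' hsU'
    have e1 : i'.base ((𝒮'.toQCAlg.ι U' hU').base y) =
        (RelProj.domQ uh pC' chartC').ι.base ((liftQ q 𝒮h 𝒮h' uh pC' chartC' U hU U' hU' hle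
          one_pos (RelCone.restrictTop 𝒮h z U) (hz.deg_z U hU)).base
          ((Spec.map (CommRingCat.ofHom (hz'.awayZToBase U' hU')) ≫
          Spec.map (CommRingCat.ofHom (awayMapEq (GradedRingHom.id (𝒮h'.deg U' hU'))
            (uh.gradedAt U hU U' hU' hle (RelCone.restrictTop 𝒮h z U))
            (RelCone.restrictTop 𝒮h' z' U')
            (uh_z q 𝒮h z 𝒮h' z' uh huhz U hU U' hU' hle)))).base y)) :=
      congrArg (fun g ↦ g.base y) (hchart U hU U' hU' hle)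
    rw [e1]
    exact Subtype.prop _
  · intro i'' hi''
    refine Groth.Agent.Lib.ImmersionGlue.hom_ext_of_forall_isOpenImmersion _ _ fun x ↦ ?_
    obtain ⟨U, hU, U', hU', hle, hsU', -⟩ :=
      Groth.Agent.S8299.exists_affine_pair q (𝒮'.toQCAlg.π.base x)
    obtain ⟨y, hy⟩ := exists_chart 𝒮'.toQCAlg x U' hU' hsU'
    refine ⟨_, 𝒮'.toQCAlg.ι U' hU', inferInstance, ⟨y, hy⟩, ?_⟩
    have h1 : 𝒮'.toQCAlg.ι U' hU' ≫ i'' =
        (Spec.map (CommRingCat.ofHom (hz'.awayZToBase U' hU')) ≫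
          Spec.map (CommRingCat.ofHom (awayMapEq (GradedRingHom.id (𝒮h'.deg U' hU'))
            (uh.gradedAt U hU U' hU' hle (RelCone.restrictTop 𝒮h z U))
            (RelCone.restrictTop 𝒮h' z' U') (uh_z q 𝒮h z 𝒮h' z' uh huhz U hU U' hU' hle)))) ≫
          liftQ q 𝒮h 𝒮h' uh pC' chartC' U hU U' hU' hle one_pos (RelCone.restrictTop 𝒮h z U)
            (hz.deg_z U hU) := by
      rw [← cancel_mono (RelProj.domQ uh pC' chartC').ι, Category.assoc, hi'', Category.assoc]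
      exact hchart U hU U' hU' hle
    have hΦk := (isProjQMapOn_iff q 𝒮h 𝒮h' uh pC chartC pC' chartC' Φh).mp hΦh
      ⟨U, hU, U', hU', hle, 1, one_pos, RelCone.restrictTop 𝒮h z U, hz.deg_z U hU⟩
    have hΦk' : liftQ q 𝒮h 𝒮h' uh pC' chartC' U hU U' hU' hle one_pos (RelCone.restrictTop 𝒮h z U)
          (hz.deg_z U hU) ≫ Φh =
        Spec.map (CommRingCat.ofHom (Away.map (uh.gradedAt U hU U' hU' hle)
          (RelCone.restrictTop 𝒮h z U))) ≫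
        Proj.awayι (𝒮h.deg U hU) (RelCone.restrictTop 𝒮h z U) (hz.deg_z U hU) one_pos ≫
          RelProj.emb pC chartC U hU := hΦk
    have hring := congrArg (fun φ ↦ Spec.map (CommRingCat.ofHom φ))
      (ring_sq q 𝒮 𝒮' u 𝒮h ι z hz 𝒮h' ι' z' hz' uh huh huhz U hU U' hU' hle)
    simp only [CommRingCat.ofHom_comp, Spec.map_comp, Category.assoc, CommRingCat.ofHom_hom]
      at hring
    have hΦc' : 𝒮'.toQCAlg.ι U' hU' ≫ Φc =
        Spec.map (u.appLE U U' hle) ≫ 𝒮.toQCAlg.ι U hU := hΦc U hU U' hU' hle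
    have hL : 𝒮'.toQCAlg.ι U' hU' ≫ i'' ≫ Φh =
        Spec.map (CommRingCat.ofHom (hz'.awayZToBase U' hU')) ≫
          Spec.map (CommRingCat.ofHom (awayMapEq (GradedRingHom.id (𝒮h'.deg U' hU'))
            (uh.gradedAt U hU U' hU' hle (RelCone.restrictTop 𝒮h z U))
            (RelCone.restrictTop 𝒮h' z' U') (uh_z q 𝒮h z 𝒮h' z' uh huhz U hU U' hU' hle))) ≫
          Spec.map (CommRingCat.ofHom (Away.map (uh.gradedAt U hU U' hU' hle)
            (RelCone.restrictTop 𝒮h z U))) ≫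
          Proj.awayι (𝒮h.deg U hU) (RelCone.restrictTop 𝒮h z U) (hz.deg_z U hU) one_pos ≫
            RelProj.emb pC chartC U hU := by
      rw [← Category.assoc, h1, Category.assoc, Category.assoc, hΦk']
    have hR : 𝒮'.toQCAlg.ι U' hU' ≫ Φc ≫ i =
        Spec.map (u.appLE U U' hle) ≫ Spec.map (CommRingCat.ofHom (hz.awayZToBase U hU)) ≫
          Proj.awayι (𝒮h.deg U hU) (RelCone.restrictTop 𝒮h z U) (hz.deg_z U hU) one_pos ≫
            RelProj.emb pC chartC U hU := by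
      rw [← Category.assoc, hΦc', Category.assoc, hi U hU]
    rw [hL, hR, reassoc_of% hring]

end Groth.Agent.S12157
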