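import Groth.Statements.S12158
import Groth.Agent.S12155

set_option autoImplicit false
universe u
open CategoryTheory CategoryTheory.Limits AlgebraicGeometry TopologicalSpace Opposite
open scoped HomogeneousIdeal
noncomputable section
open EGA2

namespace Groth.Agent.S12158

open Groth.Agent.Lib.H60AwayMapEq Groth.Agent.Lib.ProjQMap Groth.Agent.Lib.ProjQMapOn
open Groth.Agent.Lib.H60AwayDegOne Groth.Agent.S12139 Groth.Agent.Lib.H60ProjQPts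
open Groth.Agent.Lib.H60RelCone Groth.Agent.S12155
open HomogeneousLocalization

section Alg

variable {A₁ A₂ B₁ B₂ σ₁ σ₂ τ₁ τ₂ : Type u}
  [CommRing A₁] [SetLike σ₁ A₁] [AddSubgroupClass σ₁ A₁]
  [CommRing A₂] [SetLike σ₂ A₂] [AddSubgroupClass σ₂ A₂]
  [CommRing B₁] [SetLike τ₁ B₁] [AddSubgroupClass τ₁ B₁]
  [CommRing B₂] [SetLike τ₂ B₂] [AddSubgroupClass τ₂ B₂]
  {𝒜h : ℕ → σ₁} {𝒜 : ℕ → σ₂} {ℬh : ℕ → τ₁} {ℬ : ℕ → τ₂}
  [GradedRing 𝒜h] [GradedRing 𝒜] [GradedRing ℬh] [GradedRing ℬ]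

/-- The ring-level commutative square behind `Φ̂ ∘ j' = j ∘ Proj(φ)`. -/
lemma ring_sq (θ : 𝒜h →+*ᵍ 𝒜) (θ' : ℬh →+*ᵍ ℬ) (uh : 𝒜h →+*ᵍ ℬh) (u : 𝒜 →+*ᵍ ℬ)
    (hsq : ∀ x, θ' (uh x) = u (θ x)) (F : A₁) (f : A₂) (F' : B₁)
    (h1 : θ F = f) (h2 : uh F = F') (h3 : θ' F' = u f) :
    (((awayMapEq (GradedRingHom.id ℬ) (θ' F') (u f) h3).comp (Away.map θ' F')).comp
        (awayMapEq (GradedRingHom.id ℬh) (uh F) F' h2)).comp (Away.map uh F) =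
      ((Away.map u f).comp (awayMapEq (GradedRingHom.id 𝒜) (θ F) f h1)).comp (Away.map θ F) := by
  change (((awayMapEq (GradedRingHom.id ℬ) (θ' F') (u f) h3).comp
        (awayMapEq θ' F' _ rfl)).comp
        (awayMapEq (GradedRingHom.id ℬh) (uh F) F' h2)).comp (awayMapEq uh F _ rfl) =
      ((awayMapEq u f _ rfl).comp (awayMapEq (GradedRingHom.id 𝒜) (θ F) f h1)).comp
        (awayMapEq θ F _ rfl)
  rw [awayMapEq_comp, awayMapEq_comp, awayMapEq_comp, awayMapEq_comp, awayMapEq_comp]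
  exact awayMapEq_congr _ _ (fun a ↦ hsq a) _ _ _

end Alg

section One

variable {Y : Scheme.{u}} (𝒮 : RelProj.QCGrAlg Y)
  (𝒮h : RelProj.QCGrAlg Y) (ι : 𝒮.toQCAlg ⟶ 𝒮h.toQCAlg) (z : 𝒮h.presheaf.obj (op ⊤))
  (hz : RelCone.IsPolyOver 𝒮 𝒮h ι z)
  (θ : 𝒮h.toQCAlg ⟶ 𝒮.toQCAlg) (hθ : RelProj.IsGradedHom θ) (hθι : ι ≫ θ = 𝟙 _)
  (hθz : (θ.hom.app (op ⊤)).hom z = 0)
  (U : Y.Opens) (hU : IsAffineOpen U)

include hθz in
lemma theta_z : psi θ hθ U hU (RelCone.restrictTop 𝒮h z U) = 0 := by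
  rw [psi_apply]
  have h := congrArg (fun t ↦ t.hom z) (θ.hom.naturality (homOfLE (le_top : U ≤ ⊤)).op)
  have h' : (θ.hom.app (op U)).hom ((𝒮h.presheaf.map (homOfLE (le_top : U ≤ ⊤)).op).hom z) =
      (𝒮.presheaf.map (homOfLE (le_top : U ≤ ⊤)).op).hom ((θ.hom.app (op ⊤)).hom z) := h
  change (θ.hom.app (op U)).hom ((𝒮h.presheaf.map (homOfLE (le_top : U ≤ ⊤)).op).hom z) = 0
  rw [h', hθz, map_zero]

include hθι in
lemma theta_iota (a : 𝒮.presheaf.obj (op U)) :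
    psi θ hθ U hU ((RelProj.gradedHomAt ι hz.graded U hU) a) = a := by
  rw [psi_apply]
  exact congrArg (fun t ↦ (t.hom.app (op U)).hom a) hθι


variable {PC P : Scheme.{u}} (pC : PC ⟶ Y)
  (chartC : ∀ (U : Y.Opens) (hU : IsAffineOpen U),
    (((pC ⁻¹ᵁ U : PC.Opens) : Scheme.{u}) ≅ Proj (𝒮h.deg U hU)))
  (p : P ⟶ Y)
  (chart : ∀ (U : Y.Opens) (hU : IsAffineOpen U),
    (((p ⁻¹ᵁ U : P.Opens) : Scheme.{u}) ≅ Proj (𝒮.deg U hU)))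
  (jX : P ⟶ PC) (hjX : RelProj.IsProjQMap (RelProj.QGrHom.ofHom θ hθ) pC chartC p chart jX)
  {d₀ : ℕ} (hd₀ : 0 < d₀) (f : 𝒮.presheaf.obj (op U)) (hf : f ∈ 𝒮.deg U hU d₀)

include hjX in
/-- The immersion at infinity `j` on a standard chart `D₊(f)`. -/
lemma chart_j0 :
    Proj.awayι (𝒮.deg U hU) f hf hd₀ ≫ RelProj.emb p chart U hU ≫ jX =
      Spec.map (CommRingCat.ofHom (awayMapEq (GradedRingHom.id (𝒮.deg U hU))
          (psi θ hθ U hU ((RelProj.gradedHomAt ι hz.graded U hU) f)) f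
          (theta_iota 𝒮 𝒮h ι z hz θ hθ hθι U hU f))) ≫
      Spec.map (CommRingCat.ofHom (Away.map (psi θ hθ U hU)
          ((RelProj.gradedHomAt ι hz.graded U hU) f))) ≫
      Proj.awayι (𝒮h.deg U hU) ((RelProj.gradedHomAt ι hz.graded U hU) f)
        ((RelProj.gradedHomAt ι hz.graded U hU).2 hf) hd₀ ≫ RelProj.emb pC chartC U hU := by
  have hF : (RelProj.gradedHomAt ι hz.graded U hU) f ∈ 𝒮h.deg U hU d₀ :=
    (RelProj.gradedHomAt ι hz.graded U hU).2 hf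
  have hj := hjX.2 U hU U hU (le_refl U) d₀ hd₀ _ hF
  have hj' : Proj.awayι (𝒮.deg U hU) (psi θ hθ U hU ((RelProj.gradedHomAt ι hz.graded U hU) f))
        ((psi θ hθ U hU).2 hF) hd₀ ≫ RelProj.emb p chart U hU ≫ jX =
      Spec.map (CommRingCat.ofHom (Away.map (psi θ hθ U hU)
          ((RelProj.gradedHomAt ι hz.graded U hU) f))) ≫
        Proj.awayι (𝒮h.deg U hU) ((RelProj.gradedHomAt ι hz.graded U hU) f) hF hd₀ ≫
          RelProj.emb pC chartC U hU := by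
    rw [← Category.assoc]; exact hj
  rw [← hj', reassoc_of% (awayι_eq hd₀ _ _ (theta_iota 𝒮 𝒮h ι z hz θ hθ hθι U hU f)
      ((psi θ hθ U hU).2 hF) hf)]

end One

section Aux

variable {Y Y' : Scheme.{u}} (q : Y' ⟶ Y)
  (𝒮 : RelProj.QCGrAlg Y) (𝒮' : RelProj.QCGrAlg Y')
  (u : RelProj.QGrHom q 𝒮 𝒮')
  (𝒮h : RelProj.QCGrAlg Y) (ι : 𝒮.toQCAlg ⟶ 𝒮h.toQCAlg) (z : 𝒮h.presheaf.obj (op ⊤))
  (hz : RelCone.IsPolyOver 𝒮 𝒮h ι z)
  (𝒮h' : RelProj.QCGrAlg Y') (ι' : 𝒮'.toQCAlg ⟶ 𝒮h'.toQCAlg) (z' : 𝒮h'.presheaf.obj (op ⊤))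
  (hz' : RelCone.IsPolyOver 𝒮' 𝒮h' ι' z')
  (uh : RelProj.QGrHom q 𝒮h 𝒮h')
  (huh : ∀ U : Y.Opens, ι.hom.app (op U) ≫ uh.app U = u.app U ≫ ι'.hom.app (op (q ⁻¹ᵁ U)))
  (huhz : (uh.app ⊤).hom z = RelCone.restrictTop 𝒮h' z' (q ⁻¹ᵁ ⊤))
  (θ : 𝒮h.toQCAlg ⟶ 𝒮.toQCAlg) (hθ : RelProj.IsGradedHom θ) (hθι : ι ≫ θ = 𝟙 _)
  (hθz : (θ.hom.app (op ⊤)).hom z = 0)
  (θ' : 𝒮h'.toQCAlg ⟶ 𝒮'.toQCAlg) (hθ' : RelProj.IsGradedHom θ') (hθι' : ι' ≫ θ' = 𝟙 _)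
  (hθz' : (θ'.hom.app (op ⊤)).hom z' = 0)
  (U : Y.Opens) (hU : IsAffineOpen U) (U' : Y'.Opens) (hU' : IsAffineOpen U') (hle : U' ≤ q ⁻¹ᵁ U)

include hz hz' huh huhz hθι hθz hθι' hθz' in
/-- "kill `z`" commutes with `û` and `u`. -/
lemma theta_uh (x : 𝒮h.presheaf.obj (op U)) :
    psi θ' hθ' U' hU' (uh.gradedAt U hU U' hU' hle x) =
      u.gradedAt U hU U' hU' hle (psi θ hθ U hU x) := by
  obtain ⟨p, rfl⟩ := (hz.polyEquiv U hU).surjective x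
  induction p using Polynomial.induction_on' with
  | add p q hp hq => simp only [map_add, hp, hq]
  | monomial n a =>
    have e1 : hz.polyEquiv U hU (Polynomial.monomial n a) =
        (RelProj.gradedHomAt ι hz.graded U hU) a * RelCone.restrictTop 𝒮h z U ^ n := by
      rw [RelCone.IsPolyOver.polyEquiv_apply, Polynomial.eval₂_monomial]
      rfl
    rw [e1, map_mul, map_pow, map_mul, map_pow, map_mul, map_pow, map_mul, map_pow,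
      uh_iota q 𝒮 𝒮' u 𝒮h ι z hz 𝒮h' ι' z' hz' uh huh U hU U' hU' hle a,
      uh_z q 𝒮h z 𝒮h' z' uh huhz U hU U' hU' hle,
      theta_z 𝒮 𝒮h z θ hθ hθz U hU, theta_z 𝒮' 𝒮h' z' θ' hθ' hθz' U' hU',
      theta_iota 𝒮 𝒮h ι z hz θ hθ hθι U hU, theta_iota 𝒮' 𝒮h' ι' z' hz' θ' hθ' hθι' U' hU']
    rcases n with _ | n
    · simp
    · simp

end Aux

section Main

variable {Y Y' PC PC' : Scheme.{u}} (q : Y' ⟶ Y)
  (𝒮 : RelProj.QCGrAlg Y) (𝒮' : RelProj.QCGrAlg Y')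
  (u : RelProj.QGrHom q 𝒮 𝒮')
  (𝒮h : RelProj.QCGrAlg Y) (ι : 𝒮.toQCAlg ⟶ 𝒮h.toQCAlg) (z : 𝒮h.presheaf.obj (op ⊤))
  (hz : RelCone.IsPolyOver 𝒮 𝒮h ι z)
  (𝒮h' : RelProj.QCGrAlg Y') (ι' : 𝒮'.toQCAlg ⟶ 𝒮h'.toQCAlg) (z' : 𝒮h'.presheaf.obj (op ⊤))
  (hz' : RelCone.IsPolyOver 𝒮' 𝒮h' ι' z')
  (pC' : PC' ⟶ Y')
  (chartC' : ∀ (U : Y'.Opens) (hU : IsAffineOpen U),
    (((pC' ⁻¹ᵁ U : PC'.Opens) : Scheme.{u}) ≅ Proj (𝒮h'.deg U hU)))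
  (uh : RelProj.QGrHom q 𝒮h 𝒮h')
  (huh : ∀ U : Y.Opens, ι.hom.app (op U) ≫ uh.app U = u.app U ≫ ι'.hom.app (op (q ⁻¹ᵁ U)))
  {P' : Scheme.{u}} (p' : P' ⟶ Y')
  (chart' : ∀ (U : Y'.Opens) (hU : IsAffineOpen U),
    (((p' ⁻¹ᵁ U : P'.Opens) : Scheme.{u}) ≅ Proj (𝒮'.deg U hU)))
  (θ' : 𝒮h'.toQCAlg ⟶ 𝒮'.toQCAlg) (hθ' : RelProj.IsGradedHom θ') (hθι' : ι' ≫ θ' = 𝟙 _)
  (jX' : P' ⟶ PC')
  (hjX' : RelProj.IsProjQMap (RelProj.QGrHom.ofHom θ' hθ') pC' chartC' p' chart' jX')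
  (U : Y.Opens) (hU : IsAffineOpen U) (U' : Y'.Opens) (hU' : IsAffineOpen U') (hle : U' ≤ q ⁻¹ᵁ U)
  {d₀ : ℕ} (hd₀ : 0 < d₀) (f : 𝒮.presheaf.obj (op U)) (hf : f ∈ 𝒮.deg U hU d₀)

include hjX' in
/-- The immersion at infinity `j'` on a standard chart of `G(u)`. -/
lemma chart_j :
    liftQ q 𝒮 𝒮' u p' chart' U hU U' hU' hle hd₀ f hf ≫ (RelProj.domQ u p' chart').ι ≫ jX' =
      Spec.map (CommRingCat.ofHom (awayMapEq (GradedRingHom.id (𝒮'.deg U' hU'))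
          (psi θ' hθ' U' hU' ((RelProj.gradedHomAt ι' hz'.graded U' hU')
            (u.gradedAt U hU U' hU' hle f)))
          (u.gradedAt U hU U' hU' hle f)
          (theta_iota 𝒮' 𝒮h' ι' z' hz' θ' hθ' hθι' U' hU' _))) ≫
      Spec.map (CommRingCat.ofHom (Away.map (psi θ' hθ' U' hU')
          ((RelProj.gradedHomAt ι' hz'.graded U' hU') (u.gradedAt U hU U' hU' hle f)))) ≫
      Spec.map (CommRingCat.ofHom (awayMapEq (GradedRingHom.id (𝒮h'.deg U' hU'))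
          (uh.gradedAt U hU U' hU' hle ((RelProj.gradedHomAt ι hz.graded U hU) f))
          ((RelProj.gradedHomAt ι' hz'.graded U' hU') (u.gradedAt U hU U' hU' hle f))
          (uh_iota q 𝒮 𝒮' u 𝒮h ι z hz 𝒮h' ι' z' hz' uh huh U hU U' hU' hle f))) ≫
      liftQ q 𝒮h 𝒮h' uh pC' chartC' U hU U' hU' hle hd₀ ((RelProj.gradedHomAt ι hz.graded U hU) f)
        ((RelProj.gradedHomAt ι hz.graded U hU).2 hf) ≫ (RelProj.domQ uh pC' chartC').ι := by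
  have hF' : (RelProj.gradedHomAt ι' hz'.graded U' hU') (u.gradedAt U hU U' hU' hle f) ∈
      𝒮h'.deg U' hU' d₀ :=
    (RelProj.gradedHomAt ι' hz'.graded U' hU').2 ((u.gradedAt U hU U' hU' hle).2 hf)
  have hj := hjX'.2 U' hU' U' hU' (le_refl U') d₀ hd₀ _ hF'
  have hj' : Proj.awayι (𝒮'.deg U' hU') (psi θ' hθ' U' hU' ((RelProj.gradedHomAt ι' hz'.graded U' hU')
        (u.gradedAt U hU U' hU' hle f))) ((psi θ' hθ' U' hU').2 hF') hd₀ ≫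
        RelProj.emb p' chart' U' hU' ≫ jX' =
      Spec.map (CommRingCat.ofHom (Away.map (psi θ' hθ' U' hU')
          ((RelProj.gradedHomAt ι' hz'.graded U' hU') (u.gradedAt U hU U' hU' hle f)))) ≫
        Proj.awayι (𝒮h'.deg U' hU') ((RelProj.gradedHomAt ι' hz'.graded U' hU')
          (u.gradedAt U hU U' hU' hle f)) hF' hd₀ ≫ RelProj.emb pC' chartC' U' hU' := by
    rw [← Category.assoc]; exact hj
  rw [reassoc_of% (liftQ_ι q 𝒮 𝒮' u p' chart' U hU U' hU' hle hd₀ f hf),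
    liftQ_ι q 𝒮h 𝒮h' uh pC' chartC' U hU U' hU' hle hd₀ ((RelProj.gradedHomAt ι hz.graded U hU) f)
        ((RelProj.gradedHomAt ι hz.graded U hU).2 hf),
    reassoc_of% (awayι_eq hd₀ _ _
      (uh_iota q 𝒮 𝒮' u 𝒮h ι z hz 𝒮h' ι' z' hz' uh huh U hU U' hU' hle f)
      ((uh.gradedAt U hU U' hU' hle).2 ((RelProj.gradedHomAt ι hz.graded U hU).2 hf)) hF'),
    ← hj', reassoc_of% (awayι_eq hd₀ _ _
      (theta_iota 𝒮' 𝒮h' ι' z' hz' θ' hθ' hθι' U' hU' (u.gradedAt U hU U' hU' hle f))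
      ((psi θ' hθ' U' hU').2 hF') ((u.gradedAt U hU U' hU' hle).2 hf))]

end Main

/-- Let q : Y' → Y be a morphism, φ : 𝒮 → q_*𝒮' a graded q-morphism of quasi-coherent positively graded
algebras with 𝒮_0 = O_Y, 𝒮'_0 = O_{Y'}, φ̂ : 𝒮[z] → q_*𝒮'[z] its extension with φ̂(z) = z, Ĉ =
Proj(𝒮[z]), Ĉ' = Proj(𝒮'[z]) the projective cones with pointed cones Ê, Ê', and Φ̂ = Proj(φ̂) :
G(φ̂) → Ĉ; let Proj(φ) : G(φ) → X = Proj(𝒮) be the morphism induced by φ on G(φ) ⊆ X' = Proj(𝒮'),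
and j : X → Ĉ, j' : X' → Ĉ' the canonical closed immersions at infinity (Proj of the graded
retractions 𝒮[z] → 𝒮, 𝒮'[z] → 𝒮' killing z). Then j'(G(φ)) ⊆ G(φ̂) and the square formed by Proj(φ),
j', j and Φ̂ commutes. -/
theorem result {Y Y' PC PC' : Scheme.{u}} (q : Y' ⟶ Y)
    (𝒮 : RelProj.QCGrAlg Y) (𝒮' : RelProj.QCGrAlg Y') (h0 : RelCone.StrZeroBij 𝒮) (h0' : RelCone.StrZeroBij 𝒮')
    (u : RelProj.QGrHom q 𝒮 𝒮')
    (𝒮h : RelProj.QCGrAlg Y) (ι : 𝒮.toQCAlg ⟶ 𝒮h.toQCAlg) (z : 𝒮h.presheaf.obj (op ⊤))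
    (hz : RelCone.IsPolyOver 𝒮 𝒮h ι z)
    (pC : PC ⟶ Y) (chartC : ∀ (U : Y.Opens) (hU : IsAffineOpen U), (((pC ⁻¹ᵁ U : PC.Opens) : Scheme.{u}) ≅ Proj (𝒮h.deg U hU)))
    (hC : RelProj.IsRelProj 𝒮h pC chartC)
    (𝒮h' : RelProj.QCGrAlg Y') (ι' : 𝒮'.toQCAlg ⟶ 𝒮h'.toQCAlg) (z' : 𝒮h'.presheaf.obj (op ⊤))
    (hz' : RelCone.IsPolyOver 𝒮' 𝒮h' ι' z')
    (pC' : PC' ⟶ Y') (chartC' : ∀ (U : Y'.Opens) (hU : IsAffineOpen U), (((pC' ⁻¹ᵁ U : PC'.Opens) : Scheme.{u}) ≅ Proj (𝒮h'.deg U hU)))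
    (hC' : RelProj.IsRelProj 𝒮h' pC' chartC')
    (uh : RelProj.QGrHom q 𝒮h 𝒮h')
    (huh : ∀ U : Y.Opens, ι.hom.app (op U) ≫ uh.app U = u.app U ≫ ι'.hom.app (op (q ⁻¹ᵁ U)))
    (huhz : (uh.app ⊤).hom z = RelCone.restrictTop 𝒮h' z' (q ⁻¹ᵁ ⊤))
    (Φh : ((RelProj.domQ uh pC' chartC' : PC'.Opens) : Scheme.{u}) ⟶ PC)
    (hΦh : RelProj.IsProjQMapOn uh pC chartC pC' chartC' (RelProj.domQ uh pC' chartC') Φh)
    {P P' : Scheme.{u}} (p : P ⟶ Y) (chart : ∀ (U : Y.Opens) (hU : IsAffineOpen U), (((p ⁻¹ᵁ U : P.Opens) : Scheme.{u}) ≅ Proj (𝒮.deg U hU)))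
    (hP : RelProj.IsRelProj 𝒮 p chart)
    (p' : P' ⟶ Y') (chart' : ∀ (U : Y'.Opens) (hU : IsAffineOpen U), (((p' ⁻¹ᵁ U : P'.Opens) : Scheme.{u}) ≅ Proj (𝒮'.deg U hU)))
    (hP' : RelProj.IsRelProj 𝒮' p' chart')
    (Φ : ((RelProj.domQ u p' chart' : P'.Opens) : Scheme.{u}) ⟶ P)
    (hΦ : RelProj.IsProjQMapOn u p chart p' chart' (RelProj.domQ u p' chart') Φ)
    (θ : 𝒮h.toQCAlg ⟶ 𝒮.toQCAlg) (hθ : RelProj.IsGradedHom θ) (hθι : ι ≫ θ = 𝟙 _)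
    (hθz : (θ.hom.app (op ⊤)).hom z = 0)
    (jX : P ⟶ PC) (hjX : RelProj.IsProjQMap (RelProj.QGrHom.ofHom θ hθ) pC chartC p chart jX)
    (θ' : 𝒮h'.toQCAlg ⟶ 𝒮'.toQCAlg) (hθ' : RelProj.IsGradedHom θ') (hθι' : ι' ≫ θ' = 𝟙 _)
    (hθz' : (θ'.hom.app (op ⊤)).hom z' = 0)
    (jX' : P' ⟶ PC') (hjX' : RelProj.IsProjQMap (RelProj.QGrHom.ofHom θ' hθ') pC' chartC' p' chart' jX')
    (T : Scheme.{u}) (d : T ⟶ ((RelProj.domQ u p' chart' : P'.Opens) : Scheme.{u}))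
    (e : T ⟶ ((RelProj.domQ uh pC' chartC' : PC'.Opens) : Scheme.{u}))
    (hde : d ≫ (RelProj.domQ u p' chart').ι ≫ jX' = e ≫ (RelProj.domQ uh pC' chartC').ι) :
    jX'.base '' ((RelProj.domQ u p' chart' : P'.Opens) : Set P') ⊆ ((RelProj.domQ uh pC' chartC' : PC'.Opens) : Set PC') ∧ e ≫ Φh = d ≫ Φ ≫ jX := by
  constructor
  · rintro _ ⟨x', hx', rfl⟩
    obtain ⟨k, t, ht⟩ := exists_liftQ q 𝒮 𝒮' u p' chart' (⟨x', hx'⟩ : (RelProj.domQ u p' chart' :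
      P'.Opens))
    have e1 := congrArg (fun g ↦ g.base t) (chart_j q 𝒮 𝒮' u 𝒮h ι z hz 𝒮h' ι' z' hz' pC' chartC'
      uh huh p' chart' θ' hθ' hθι' jX' hjX' k.U k.hU k.U' k.hU' k.hle k.hd k.f k.hf)
    have e2 : jX'.base x' = (liftQ q 𝒮 𝒮' u p' chart' k.U k.hU k.U' k.hU' k.hle k.hd k.f k.hf ≫
        (RelProj.domQ u p' chart').ι ≫ jX').base t := by
      change jX'.base x' = jX'.base ((RelProj.domQ u p' chart').ι.base
        ((liftQ q 𝒮 𝒮' u p' chart' k.U k.hU k.U' k.hU' k.hle k.hd k.f k.hf).base t))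
      rw [ht]
      rfl
    rw [e2]
    refine (congrArg (fun y ↦ y ∈ ((RelProj.domQ uh pC' chartC' : PC'.Opens) : Set PC')) e1).mpr ?_
    simp only [Scheme.Hom.comp_base, TopCat.coe_comp, Function.comp_apply]
    exact Subtype.prop _
  · refine Groth.Agent.Lib.ImmersionGlue.hom_ext_of_forall_isOpenImmersion _ _ fun τ ↦ ?_
    obtain ⟨k, t, ht⟩ := exists_liftQ q 𝒮 𝒮' u p' chart' (d.base τ)
    obtain ⟨U, hU, U', hU', hle, d₀, hd₀, f, hf⟩ := k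
    have ht' : (liftQ q 𝒮 𝒮' u p' chart' U hU U' hU' hle hd₀ f hf).base t = d.base τ := ht
    set L := liftQ q 𝒮 𝒮' u p' chart' U hU U' hU' hle hd₀ f hf with hL
    let T₀ : T.Opens := d ⁻¹ᵁ L.opensRange
    have hτ : τ ∈ T₀ := ⟨t, ht'⟩
    have hrange : Set.range (T₀.ι ≫ d).base ⊆ Set.range L.base := by
      rintro _ ⟨s, rfl⟩
      exact s.2
    let α := IsOpenImmersion.lift L (T₀.ι ≫ d) hrange
    have hα : α ≫ L = T₀.ι ≫ d := IsOpenImmersion.lift_fac _ _ _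
    refine ⟨T₀, T₀.ι, inferInstance, ⟨⟨τ, hτ⟩, rfl⟩, ?_⟩
    have hcj := chart_j q 𝒮 𝒮' u 𝒮h ι z hz 𝒮h' ι' z' hz' pC' chartC'
      uh huh p' chart' θ' hθ' hθι' jX' hjX' U hU U' hU' hle hd₀ f hf
    rw [← hL] at hcj
    have hF : (RelProj.gradedHomAt ι hz.graded U hU) f ∈ 𝒮h.deg U hU d₀ :=
      (RelProj.gradedHomAt ι hz.graded U hU).2 hf
    -- `T₀.ι ≫ e` through the chart of `G(û)`
    have h1 : T₀.ι ≫ e = α ≫
        Spec.map (CommRingCat.ofHom (awayMapEq (GradedRingHom.id (𝒮'.deg U' hU'))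
          (psi θ' hθ' U' hU' ((RelProj.gradedHomAt ι' hz'.graded U' hU')
            (u.gradedAt U hU U' hU' hle f)))
          (u.gradedAt U hU U' hU' hle f)
          (theta_iota 𝒮' 𝒮h' ι' z' hz' θ' hθ' hθι' U' hU' _))) ≫
        Spec.map (CommRingCat.ofHom (Away.map (psi θ' hθ' U' hU')
          ((RelProj.gradedHomAt ι' hz'.graded U' hU') (u.gradedAt U hU U' hU' hle f)))) ≫
        Spec.map (CommRingCat.ofHom (awayMapEq (GradedRingHom.id (𝒮h'.deg U' hU'))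
          (uh.gradedAt U hU U' hU' hle ((RelProj.gradedHomAt ι hz.graded U hU) f))
          ((RelProj.gradedHomAt ι' hz'.graded U' hU') (u.gradedAt U hU U' hU' hle f))
          (uh_iota q 𝒮 𝒮' u 𝒮h ι z hz 𝒮h' ι' z' hz' uh huh U hU U' hU' hle f))) ≫
        liftQ q 𝒮h 𝒮h' uh pC' chartC' U hU U' hU' hle hd₀
          ((RelProj.gradedHomAt ι hz.graded U hU) f) hF := by
      rw [← cancel_mono (RelProj.domQ uh pC' chartC').ι, Category.assoc, ← hde,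
        ← reassoc_of% hα, hcj]
      simp only [Category.assoc]
    have hΦk := (isProjQMapOn_iff q 𝒮h 𝒮h' uh pC chartC pC' chartC' Φh).mp hΦh
      ⟨U, hU, U', hU', hle, d₀, hd₀, (RelProj.gradedHomAt ι hz.graded U hU) f, hF⟩
    have hΦk' : liftQ q 𝒮h 𝒮h' uh pC' chartC' U hU U' hU' hle hd₀
          ((RelProj.gradedHomAt ι hz.graded U hU) f) hF ≫ Φh =
        Spec.map (CommRingCat.ofHom (Away.map (uh.gradedAt U hU U' hU' hle)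
          ((RelProj.gradedHomAt ι hz.graded U hU) f))) ≫
        Proj.awayι (𝒮h.deg U hU) ((RelProj.gradedHomAt ι hz.graded U hU) f) hF hd₀ ≫
          RelProj.emb pC chartC U hU := hΦk
    have hΦu := (isProjQMapOn_iff q 𝒮 𝒮' u p chart p' chart' Φ).mp hΦ
      ⟨U, hU, U', hU', hle, d₀, hd₀, f, hf⟩
    have hΦu' : L ≫ Φ =
        Spec.map (CommRingCat.ofHom (Away.map (u.gradedAt U hU U' hU' hle) f)) ≫
          Proj.awayι (𝒮.deg U hU) f hf hd₀ ≫ RelProj.emb p chart U hU := hΦu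
    have hring := congrArg (fun φ ↦ Spec.map (CommRingCat.ofHom φ))
      (ring_sq (psi θ hθ U hU) (psi θ' hθ' U' hU') (uh.gradedAt U hU U' hU' hle)
        (u.gradedAt U hU U' hU' hle)
        (theta_uh q 𝒮 𝒮' u 𝒮h ι z hz 𝒮h' ι' z' hz' uh huh huhz θ hθ hθι hθz θ' hθ' hθι' hθz'
          U hU U' hU' hle)
        ((RelProj.gradedHomAt ι hz.graded U hU) f) f
        ((RelProj.gradedHomAt ι' hz'.graded U' hU') (u.gradedAt U hU U' hU' hle f))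
        (theta_iota 𝒮 𝒮h ι z hz θ hθ hθι U hU f)
        (uh_iota q 𝒮 𝒮' u 𝒮h ι z hz 𝒮h' ι' z' hz' uh huh U hU U' hU' hle f)
        (theta_iota 𝒮' 𝒮h' ι' z' hz' θ' hθ' hθι' U' hU' _))
    simp only [CommRingCat.ofHom_comp, Spec.map_comp, Category.assoc] at hring
    have hR : T₀.ι ≫ d ≫ Φ ≫ jX = α ≫
        Spec.map (CommRingCat.ofHom (Away.map (u.gradedAt U hU U' hU' hle) f)) ≫
        Spec.map (CommRingCat.ofHom (awayMapEq (GradedRingHom.id (𝒮.deg U hU))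
          (psi θ hθ U hU ((RelProj.gradedHomAt ι hz.graded U hU) f)) f
          (theta_iota 𝒮 𝒮h ι z hz θ hθ hθι U hU f))) ≫
        Spec.map (CommRingCat.ofHom (Away.map (psi θ hθ U hU)
          ((RelProj.gradedHomAt ι hz.graded U hU) f))) ≫
        Proj.awayι (𝒮h.deg U hU) ((RelProj.gradedHomAt ι hz.graded U hU) f) hF hd₀ ≫
          RelProj.emb pC chartC U hU := by
      rw [← reassoc_of% hα, reassoc_of% hΦu', chart_j0 𝒮 𝒮h ι z hz θ hθ hθι U hU pC chartC p chart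
        jX hjX hd₀ f hf]
    rw [← Category.assoc, h1, hR]
    simp only [Category.assoc]
    rw [hΦk', reassoc_of% hring]

end Groth.Agent.S12158
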