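import Groth.Statements.S12159
import Groth.Agent.Lib.H60ProjQComp
import Groth.Agent.S12143

set_option autoImplicit false
universe u
open CategoryTheory CategoryTheory.Limits AlgebraicGeometry TopologicalSpace Opposite
open scoped HomogeneousIdeal
noncomputable section
open EGA2

namespace Groth.Agent.S12159

open Groth.Agent.Lib.ProjQMap Groth.Agent.Lib.ProjQMapOn Groth.Agent.Lib.H60ProjQComp

section Aux

variable {Y X PL : Scheme.{u}} (q : X ⟶ Y)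
  (𝒮 : RelProj.QCGrAlg Y) (𝒮L : RelProj.QCGrAlg X) (u : RelProj.QGrHom q 𝒮 𝒮L)
  (pL : PL ⟶ X)
  (chartL : ∀ (U : X.Opens) (hU : IsAffineOpen U),
    (((pL ⁻¹ᵁ U : PL.Opens) : Scheme.{u}) ≅ Proj (𝒮L.deg U hU)))
  (Λ : Type u)
  (𝒮i : Λ → RelProj.QCGrAlg Y) (φ : ∀ i, (𝒮i i).toQCAlg ⟶ 𝒮.toQCAlg)
  (hφ : ∀ i, RelProj.IsGradedHom (φ i))
  (hsurj : ∀ (U : Y.Opens), IsAffineOpen U → ∀ x : 𝒮.presheaf.obj (op U),
    ∃ (i : Λ) (y : (𝒮i i).presheaf.obj (op U)), ((φ i).hom.app (op U)).hom y = x)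
  (ui : ∀ i, RelProj.QGrHom q (𝒮i i) 𝒮L)
  (hui : ∀ i (U : Y.Opens), (ui i).app U = (φ i).hom.app (op U) ≫ u.app U)

include hφ hsurj hui in
/-- `G(u)` is the union of the `G(u_i)`. -/
lemma domQ_le_iSup : RelProj.domQ u pL chartL ≤ ⨆ i, RelProj.domQ (ui i) pL chartL := by
  intro x' hx'
  obtain ⟨⟨⟨⟨U, hU⟩, ⟨V, hV⟩⟩, hle⟩, w, hw, hwx⟩ := Opens.mem_iSup.mp hx'
  have hU₁ : IsAffineOpen U := hU
  have hV₁ : IsAffineOpen V := hV
  have hle₁ : V ≤ q ⁻¹ᵁ U := hle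
  have hw' : w ∈ RelCone.domOpen (u.gradedAt U hU₁ V hV₁ hle₁) := hw
  obtain ⟨e, he, f, hf, hwf⟩ := exists_homogeneous_of_mem_domOpen _ w hw'
  obtain ⟨i, y, hy⟩ := hsurj U hU₁ f
  have hwx' : (RelProj.emb pL chartL V hV₁).base w = x' := hwx
  refine Opens.mem_iSup.mpr ⟨i, ?_⟩
  rw [← hwx']
  set ye : (𝒮i i).presheaf.obj (op U) :=
    ((DirectSum.decompose ((𝒮i i).deg U hU₁) y e : (𝒮i i).deg U hU₁ e) :
      (𝒮i i).presheaf.obj (op U)) with hye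
  have hyem : ye ∈ (𝒮i i).deg U hU₁ e := SetLike.coe_mem _
  have hφye : psi (φ i) (hφ i) U hU₁ ye = f := by
    rw [hye, GradedRingHom.map_directSumDecompose, psi_apply, hy,
      DirectSum.decompose_of_mem_same _ hf]
  refine mem_domQ_of_notMem q (𝒮i i) 𝒮L (ui i) pL chartL U hU₁ V hV₁ hle₁ he ye hyem w ?_
  rw [comp_gradedAt q 𝒮 𝒮L u (𝒮i i) (φ i) (hφ i) (ui i) (hui i) U hU₁ V hV₁ hle₁ ye, hφye]
  exact (Proj.mem_basicOpen _ _ _).mp hwf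

end Aux

/-- Let Y be a quasi-compact scheme, q : X → Y a quasi-compact morphism, L an invertible O_X-module with
𝒮L = ⊕ L^{⊗n} (whose Proj is X), 𝒮 = colim 𝒮^i a filtered colimit of quasi-coherent positively
graded O_Y-algebras along graded homomorphisms φ_i : 𝒮^i → 𝒮 (colimit taken on sections over affine
opens), ψ♭ = u : 𝒮 → q_*𝒮L a graded q-morphism and ψ_i♭ = u ∘ φ_i. Then r_{L,ψ} is everywhere
defined if and only if some r_{L,ψ_i} is everywhere defined, and in that case r_{L,ψ_j} is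
everywhere defined for all j ≥ i. -/
theorem result {Y X P PL : Scheme.{u}} (q : X ⟶ Y)
    (L : X.Modules) (hL : PicF.IsInvertible L) (hLq : Coh.IsQCoh L)
    (𝒮 : RelProj.QCGrAlg Y) (𝒮L : RelProj.QCGrAlg X) (j : L ⟶ 𝒮L.toModule) (hj : RelProj.IsGrSymAlg L 𝒮L j)
    (u : RelProj.QGrHom q 𝒮 𝒮L)
    (p : P ⟶ Y) (chart : ∀ (U : Y.Opens) (hU : IsAffineOpen U), (((p ⁻¹ᵁ U : P.Opens) : Scheme.{u}) ≅ Proj (𝒮.deg U hU)))
    (hP : RelProj.IsRelProj 𝒮 p chart)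
    (pL : PL ⟶ X) (chartL : ∀ (U : X.Opens) (hU : IsAffineOpen U), (((pL ⁻¹ᵁ U : PL.Opens) : Scheme.{u}) ≅ Proj (𝒮L.deg U hU)))
    (hPL : RelProj.IsRelProj 𝒮L pL chartL)
    [CompactSpace Y] [QuasiCompact q]
    (Λ : Type u) [Preorder Λ] [IsDirected Λ (· ≤ ·)] [Nonempty Λ]
    (𝒮i : Λ → RelProj.QCGrAlg Y) (φ : ∀ i, (𝒮i i).toQCAlg ⟶ 𝒮.toQCAlg) (hφ : ∀ i, RelProj.IsGradedHom (φ i))
    (t : ∀ i j, i ≤ j → ((𝒮i i).toQCAlg ⟶ (𝒮i j).toQCAlg)) (ht : ∀ i j (h : i ≤ j), RelProj.IsGradedHom (t i j h))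
    (hφt : ∀ i j (h : i ≤ j), t i j h ≫ φ j = φ i)
    (hsurj : ∀ (U : Y.Opens), IsAffineOpen U → ∀ x : 𝒮.presheaf.obj (op U),
      ∃ (i : Λ) (y : (𝒮i i).presheaf.obj (op U)), ((φ i).hom.app (op U)).hom y = x)
    (hker : ∀ (U : Y.Opens), IsAffineOpen U → ∀ (i : Λ) (y : (𝒮i i).presheaf.obj (op U)),
      ((φ i).hom.app (op U)).hom y = 0 → ∃ (j : Λ) (h : i ≤ j), ((t i j h).hom.app (op U)).hom y = 0)
    (ui : ∀ i, RelProj.QGrHom q (𝒮i i) 𝒮L) (hui : ∀ i (U : Y.Opens), (ui i).app U = (φ i).hom.app (op U) ≫ u.app U) :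
    (RelProj.domQ u pL chartL = ⊤ ↔ ∃ i, RelProj.domQ (ui i) pL chartL = ⊤) ∧
      ∀ i, RelProj.domQ (ui i) pL chartL = ⊤ → ∀ j, i ≤ j → RelProj.domQ (ui j) pL chartL = ⊤ := by
  have hmono : ∀ i j, i ≤ j → RelProj.domQ (ui i) pL chartL ≤ RelProj.domQ (ui j) pL chartL := by
    intro i j hij
    refine domQ_comp_le q (𝒮i j) 𝒮L (ui j) pL chartL (𝒮i i) (t i j hij) (ht i j hij) (ui i) ?_
    intro U
    rw [hui i U, hui j U, ← hφt i j hij]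
    rfl
  have hle_u : ∀ i, RelProj.domQ (ui i) pL chartL ≤ RelProj.domQ u pL chartL := fun i ↦
    domQ_comp_le q 𝒮 𝒮L u pL chartL (𝒮i i) (φ i) (hφ i) (ui i) (hui i)
  have hunion := domQ_le_iSup q 𝒮 𝒮L u pL chartL Λ 𝒮i φ hφ hsurj ui hui
  have hiso : IsIso pL := Groth.Agent.S12143.result L hL hLq 𝒮L j hj pL chartL hPL
  haveI : CompactSpace X := QuasiCompact.compactSpace_of_compactSpace q
  haveI : CompactSpace PL := QuasiCompact.compactSpace_of_compactSpace pL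
  refine ⟨⟨fun h ↦ ?_, fun ⟨i, hi⟩ ↦ top_le_iff.mp (hi ▸ hle_u i)⟩, fun i hi j hij ↦
    top_le_iff.mp (hi ▸ hmono i j hij)⟩
  have hcov : (Set.univ : Set PL) ⊆ ⋃ i, (RelProj.domQ (ui i) pL chartL : Set PL) := by
    intro x' _
    have hx' : x' ∈ RelProj.domQ u pL chartL := by rw [h]; trivial
    obtain ⟨i, hi⟩ := Opens.mem_iSup.mp (hunion hx')
    exact Set.mem_iUnion.mpr ⟨i, hi⟩
  have hdir : Directed (· ⊆ ·) fun i ↦ (RelProj.domQ (ui i) pL chartL : Set PL) := by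
    intro i j
    obtain ⟨k, hik, hjk⟩ := exists_ge_ge i j
    exact ⟨k, hmono i k hik, hmono j k hjk⟩
  obtain ⟨i, hi⟩ := isCompact_univ.elim_directed_cover
    (fun i ↦ (RelProj.domQ (ui i) pL chartL : Set PL))
    (fun i ↦ (RelProj.domQ (ui i) pL chartL).isOpen) hcov hdir
  exact ⟨i, top_le_iff.mp fun x' _ ↦ hi (Set.mem_univ x')⟩

end Groth.Agent.S12159
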