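import Groth.Statements.S12160
import Groth.Agent.Lib.H60ProjQComp

set_option autoImplicit false
universe u
open CategoryTheory CategoryTheory.Limits AlgebraicGeometry TopologicalSpace Opposite
open scoped HomogeneousIdeal
noncomputable section
open EGA2

namespace Groth.Agent.S12160

open Groth.Agent.Lib.ProjQMap Groth.Agent.Lib.ProjQMapOn Groth.Agent.Lib.H60ProjQComp

section Aux

variable {Y P : Scheme.{u}} {𝒮 : RelProj.QCGrAlg Y} {p : P ⟶ Y}
  {chart : ∀ (U : Y.Opens) (hU : IsAffineOpen U),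
    (((p ⁻¹ᵁ U : P.Opens) : Scheme.{u}) ≅ Proj (𝒮.deg U hU))}

/-- Density in a relative Proj is tested on the standard opens `D₊(f)` of the charts, `f` not
nilpotent. -/
lemma denseRange_iff {Z : Type*} (ρ : Z → P) :
    DenseRange ρ ↔ ∀ (U : Y.Opens) (hU : IsAffineOpen U) (e : ℕ) (_ : 0 < e)
      (f : 𝒮.presheaf.obj (op U)) (_ : f ∈ 𝒮.deg U hU e), ¬ IsNilpotent f →
        ∃ z, ρ z ∈ (RelProj.emb p chart U hU) ''ᵁ Proj.basicOpen (𝒮.deg U hU) f := by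
  constructor
  · intro h U hU e he f hf hnil
    obtain ⟨z₀, hz₀⟩ := basicOpen_nonempty he hf hnil
    obtain ⟨z, hz⟩ := h.exists_mem_open
      ((RelProj.emb p chart U hU) ''ᵁ Proj.basicOpen (𝒮.deg U hU) f).isOpen ⟨_, ⟨z₀, hz₀, rfl⟩⟩
    exact ⟨z, hz⟩
  · intro h
    refine dense_iff_inter_open.mpr fun O hO hOne ↦ ?_
    obtain ⟨z, hz⟩ := hOne
    obtain ⟨_, ⟨U, hU, rfl⟩, hzU, -⟩ := Y.isBasis_affineOpens.exists_subset_of_mem_open
      (Set.mem_univ (p.base z)) isOpen_univ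
    have hzU' : z ∈ p ⁻¹ᵁ U := hzU
    have hz₀ := emb_apply_chart p chart U hU z hzU'
    set z₀ := chartPt p chart U hU z hzU' with hz₀def
    have hz₀O : z₀ ∈ (RelProj.emb p chart U hU) ⁻¹ᵁ (⟨O, hO⟩ : P.Opens) := by
      change (RelProj.emb p chart U hU).base z₀ ∈ O
      rw [hz₀]; exact hz
    obtain ⟨e, he, g, hg, hz₀g, hgO⟩ := exists_homogeneous_basicOpen_le z₀ _ hz₀O
    have hgnil : ¬ IsNilpotent g := by
      rintro ⟨k, hk⟩
      apply (Proj.mem_basicOpen _ _ _).mp hz₀g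
      refine z₀.isPrime.mem_of_pow_mem k ?_
      rw [hk]; exact zero_mem _
    obtain ⟨z', z₁, hz₁g, hz₁⟩ := h U hU e he g hg hgnil
    refine ⟨ρ z', ?_, ⟨z', rfl⟩⟩
    have : (RelProj.emb p chart U hU).base z₁ ∈ O := hgO hz₁g
    rw [← hz₁]
    exact this

end Aux

/-- Let Y be a quasi-compact scheme, q : X → Y a quasi-compact morphism, L an invertible O_X-module with
𝒮L = ⊕ L^{⊗n} (whose Proj is X), 𝒮 = colim 𝒮^i a filtered colimit of quasi-coherent positively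
graded O_Y-algebras along graded homomorphisms φ_i : 𝒮^i → 𝒮 (colimit taken on sections over affine
opens), ψ♭ = u : 𝒮 → q_*𝒮L a graded q-morphism and ψ_i♭ = u ∘ φ_i; let r = r_{L,ψ} : G(ψ) → Proj(𝒮)
and r_i = r_{L,ψ_i} : G(ψ_i) → Proj(𝒮^i). If all the r_i are dominant then r is dominant; the
converse holds when the φ_i are injective. -/
theorem result {Y X P PL : Scheme.{u}} (q : X ⟶ Y)
    (L : X.Modules) (hL : PicF.IsInvertible L) (hLq : Coh.IsQCoh L)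
    (𝒮 : RelProj.QCGrAlg Y) (𝒮L : RelProj.QCGrAlg X) (j : L ⟶ 𝒮L.toModule) (hj : RelProj.IsGrSymAlg L 𝒮L j)
    (u : RelProj.QGrHom q 𝒮 𝒮L)
    (p : P ⟶ Y) (chart : ∀ (U : Y.Opens) (hU : IsAffineOpen U), (((p ⁻¹ᵁ U : P.Opens) : Scheme.{u}) ≅ Proj (𝒮.deg U hU)))
    (hP : RelProj.IsRelProj 𝒮 p chart)
    (pL : PL ⟶ X) (chartL : ∀ (U : X.Opens) (hU : IsAffineOpen U), (((pL ⁻¹ᵁ U : PL.Opens) : Scheme.{u}) ≅ Proj (𝒮L.deg U hU)))
    (hPL : RelProj.IsRelProj 𝒮L pL chartL)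
    [CompactSpace Y] [QuasiCompact q]
    (r : ((RelProj.domQ u pL chartL : PL.Opens) : Scheme.{u}) ⟶ P)
    (hr : RelProj.IsProjQMapOn u p chart pL chartL (RelProj.domQ u pL chartL) r)
    (Λ : Type u) [Preorder Λ] [IsDirected Λ (· ≤ ·)] [Nonempty Λ]
    (𝒮i : Λ → RelProj.QCGrAlg Y) (φ : ∀ i, (𝒮i i).toQCAlg ⟶ 𝒮.toQCAlg) (hφ : ∀ i, RelProj.IsGradedHom (φ i))
    (t : ∀ i j, i ≤ j → ((𝒮i i).toQCAlg ⟶ (𝒮i j).toQCAlg)) (ht : ∀ i j (h : i ≤ j), RelProj.IsGradedHom (t i j h))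
    (hφt : ∀ i j (h : i ≤ j), t i j h ≫ φ j = φ i)
    (hsurj : ∀ (U : Y.Opens), IsAffineOpen U → ∀ x : 𝒮.presheaf.obj (op U),
      ∃ (i : Λ) (y : (𝒮i i).presheaf.obj (op U)), ((φ i).hom.app (op U)).hom y = x)
    (hker : ∀ (U : Y.Opens), IsAffineOpen U → ∀ (i : Λ) (y : (𝒮i i).presheaf.obj (op U)),
      ((φ i).hom.app (op U)).hom y = 0 → ∃ (j : Λ) (h : i ≤ j), ((t i j h).hom.app (op U)).hom y = 0)
    (ui : ∀ i, RelProj.QGrHom q (𝒮i i) 𝒮L) (hui : ∀ i (U : Y.Opens), (ui i).app U = (φ i).hom.app (op U) ≫ u.app U)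
    (Pi : Λ → Scheme.{u}) (pi : ∀ i, Pi i ⟶ Y)
    (charti : ∀ i (U : Y.Opens) (hU : IsAffineOpen U), ((((pi i) ⁻¹ᵁ U : (Pi i).Opens) : Scheme.{u}) ≅ Proj ((𝒮i i).deg U hU)))
    (hPi : ∀ i, RelProj.IsRelProj (𝒮i i) (pi i) (charti i))
    (ri : ∀ i, ((RelProj.domQ (ui i) pL chartL : PL.Opens) : Scheme.{u}) ⟶ Pi i)
    (hri : ∀ i, RelProj.IsProjQMapOn (ui i) (pi i) (charti i) pL chartL (RelProj.domQ (ui i) pL chartL) (ri i)) :
    ((∀ i, IsDominant (ri i)) → IsDominant r) ∧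
      ((∀ i (U : Y.Opens), IsAffineOpen U → Function.Injective ((φ i).hom.app (op U)).hom) →
        IsDominant r → ∀ i, IsDominant (ri i)) := by
  constructor
  · intro hdom
    refine ⟨(denseRange_iff (p := p) (chart := chart) r.base).mpr ?_⟩
    intro U hU e he f hf hnil
    obtain ⟨i, y, hy⟩ := hsurj U hU f
    set ye : (𝒮i i).presheaf.obj (op U) :=
      ((DirectSum.decompose ((𝒮i i).deg U hU) y e : (𝒮i i).deg U hU e) :
        (𝒮i i).presheaf.obj (op U)) with hye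
    have hyem : ye ∈ (𝒮i i).deg U hU e := SetLike.coe_mem _
    have hφye : psi (φ i) (hφ i) U hU ye = f := by
      rw [hye, GradedRingHom.map_directSumDecompose, psi_apply, hy,
        DirectSum.decompose_of_mem_same _ hf]
    have hnil' : ¬ IsNilpotent ye := by
      rintro ⟨k, hk⟩
      apply hnil
      refine ⟨k, ?_⟩
      rw [← hφye, ← map_pow, hk, map_zero]
    obtain ⟨z, hz⟩ := (denseRange_iff (p := pi i) (chart := charti i) (ri i).base).mp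
      (hdom i).denseRange U hU e he ye hyem hnil'
    obtain ⟨hy', hr'⟩ := (transfer q 𝒮 𝒮L u p chart hP pL chartL hPL r hr (𝒮i i) (φ i) (hφ i)
      (ui i) (hui i) (pi i) (charti i) (hPi i) (ri i) (hri i) U hU he ye hyem z.1).mp ⟨z.2, hz⟩
    rw [hφye] at hr'
    exact ⟨⟨z.1, hy'⟩, hr'⟩
  · intro hinj hdom i
    refine ⟨(denseRange_iff (p := pi i) (chart := charti i) (ri i).base).mpr ?_⟩
    intro U hU e he y hy hnil
    have hf : psi (φ i) (hφ i) U hU y ∈ 𝒮.deg U hU e := (psi (φ i) (hφ i) U hU).2 hy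
    have hnil' : ¬ IsNilpotent (psi (φ i) (hφ i) U hU y) := by
      rintro ⟨k, hk⟩
      apply hnil
      refine ⟨k, hinj i U hU ?_⟩
      rw [map_zero, map_pow, ← psi_apply (φ i) (hφ i) U hU y]
      exact hk
    obtain ⟨z, hz⟩ := (denseRange_iff (p := p) (chart := chart) r.base).mp hdom.denseRange
      U hU e he _ hf hnil'
    obtain ⟨hy', hr'⟩ := (transfer q 𝒮 𝒮L u p chart hP pL chartL hPL r hr (𝒮i i) (φ i) (hφ i)
      (ui i) (hui i) (pi i) (charti i) (hPi i) (ri i) (hri i) U hU he y hy z.1).mpr ⟨z.2, hz⟩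
    exact ⟨⟨z.1, hy'⟩, hr'⟩

end Groth.Agent.S12160
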