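import Groth.Statements.S12163
-- import your own Groth.Agent.* helpers here

set_option autoImplicit false
universe u
open CategoryTheory CategoryTheory.Limits AlgebraicGeometry TopologicalSpace Opposite
open scoped HomogeneousIdeal
noncomputable section
open EGA2

namespace Groth.Agent.S12163

/-- Let φ : 𝒜 → ℬ be a graded homomorphism of quasi-coherent positively graded O_Y-algebras and PB =
Proj(ℬ) with its charts. If every point of Y has an affine neighbourhood U over which the irrelevant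
ideal of ℬ(U) is contained in the ideal generated by φ(𝒜(U)_+), then the open of definition G(φ) of
Proj(φ) is all of PB. (The published condition asks 𝒮_+ to be generated by the image as a module
over the functions on U; generation as an ideal, used here, is implied by it.) -/
theorem result {Y PB : Scheme.{u}} (𝒜 ℬ : RelProj.QCGrAlg Y)
    (φ : 𝒜.toQCAlg ⟶ ℬ.toQCAlg) (hφ : RelProj.IsGradedHom φ)
    (pB : PB ⟶ Y) (chartB : ∀ (U : Y.Opens) (hU : IsAffineOpen U), (((pB ⁻¹ᵁ U : PB.Opens) : Scheme.{u}) ≅ Proj (ℬ.deg U hU)))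
    (hB : RelProj.IsRelProj ℬ pB chartB)
    (hcov : ∀ y : Y, ∃ (U : Y.Opens) (hU : IsAffineOpen U), y ∈ U ∧
      (ℬ.deg U hU)₊ ≤ ((𝒜.deg U hU)₊).map (RelProj.gradedHomAt φ hφ U hU)) :
    RelProj.domQ (RelProj.QGrHom.ofHom φ hφ) pB chartB = ⊤ := by
  rw [eq_top_iff]
  intro x _
  obtain ⟨U, hU, hyU, hle⟩ := hcov (pB x)
  have hx : x ∈ pB ⁻¹ᵁ U := hyU
  have hUU : U ≤ (𝟙 Y : Y ⟶ Y) ⁻¹ᵁ U := le_rfl
  let z : Proj (ℬ.deg U hU) := (chartB U hU).hom ⟨x, hx⟩
  have hz : (RelProj.emb pB chartB U hU) z = x := by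
    change ((chartB U hU).inv ≫ (pB ⁻¹ᵁ U).ι) ((chartB U hU).hom ⟨x, hx⟩) = x
    rw [← Scheme.Hom.comp_apply, Iso.hom_inv_id_assoc]
    rfl
  have hzdom : z ∈ RelCone.domOpen ((RelProj.QGrHom.ofHom φ hφ).gradedAt U hU U hU hUU) := by
    rw [RelCone.mem_domOpen]
    by_contra hcon
    push Not at hcon
    apply z.not_irrelevant_le
    refine le_trans hle ?_
    rw [HomogeneousIdeal.map_le_iff_le_comap]
    intro a ha
    have h1 := hcon a ha
    have h2 : (RelProj.QGrHom.ofHom φ hφ).gradedAt U hU U hU hUU a =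
        RelProj.gradedHomAt φ hφ U hU a := by
      change ((RelSpec.QHom.ofHom φ).appLE U U hUU).hom a = (φ.hom.app (op U)).hom a
      rw [RelSpec.QHom.ofHom_appLE]
      have e : φ.hom.app (op U) ≫ ℬ.presheaf.map (homOfLE hUU).op = φ.hom.app (op U) :=
        (congrArg (fun t => φ.hom.app (op U) ≫ t) (ℬ.presheaf.map_id (op U))).trans
          (Category.comp_id _)
      exact congrArg (fun f => (CommRingCat.Hom.hom f) a) e
    rw [h2] at h1
    exact h1
  exact Opens.mem_iSup.mpr ⟨⟨(⟨U, hU⟩, ⟨U, hU⟩), hUU⟩, ⟨z, hzdom, hz⟩⟩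

end Groth.Agent.S12163
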