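import Groth.Statements.S12164
import Groth.Agent.S12142
import Groth.Agent.Lib.SymQCAlgUniv
import Groth.Agent.Lib.PullbackSectionsUniv

set_option autoImplicit false
universe u
open CategoryTheory CategoryTheory.Limits AlgebraicGeometry TopologicalSpace Opposite
open scoped HomogeneousIdeal
noncomputable section
open EGA2

namespace Groth.Agent.S12164

open AlgebraicGeometry.Scheme AlgebraicGeometry.Scheme.Modules Groth.Agent.Lib.SymQCAlg

/-- Let g : S' → S be a morphism, E a quasi-coherent O_S-module, A = Sym(E) and B = Sym(g^*E) the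
symmetric algebras (given by their universal properties among quasi-coherent algebras, with
structure maps j : E → A and j' : g^*E → B), u : A → g_*B the g-morphism of algebras extending the
adjunction unit E → g_*g^*E followed by g_*(j'), and h = Spec(u) : V(g^*E) = Spec(B) → V(E) =
Spec(A). Then h identifies V(g^*E) with the base change V(E) ×_S S'. -/
theorem result {S S' : Scheme.{u}} (g : S' ⟶ S)
    (E : S.Modules) (hE : Coh.IsQCoh E) (A : RelSpec.QCAlg S) (j : E ⟶ A.toModule) (hA : RelSpec.IsSymAlg E A j)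
    (B : RelSpec.QCAlg S') (j' : (Scheme.Modules.pullback g).obj E ⟶ B.toModule)
    (hB : RelSpec.IsSymAlg ((Scheme.Modules.pullback g).obj E) B j')
    (u : RelSpec.QHom g A B)
    (hu : ∀ (U : S.Opens) (x : Γ(E, U)),
      (u.app U).hom ((j.app U) x) =
        (j'.app (g ⁻¹ᵁ U)) (((Scheme.Modules.pullbackPushforwardAdjunction g).unit.app E).app U x))
    (h : B.spec ⟶ A.spec) (hh : RelSpec.IsSpecQMap u h) :
    IsPullback h B.π A.π g := by
  haveI : E.IsQuasicoherent := hE
  haveI : ((Scheme.Modules.pullback g).obj E).IsQuasicoherent :=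
    Groth.Agent.Lib.H72PullbackQCoh.isQuasicoherent_pullback g E
  refine Groth.Agent.S12142.result g A B u ?_ h hh
  intro U hU U' hU' hle
  have comm : g.appLE U U' hle ≫ B.str.app (op U') = A.str.app (op U) ≫ u.appLE U U' hle :=
    (u.str_appLE U U' hle).symm
  -- the key compatibility: `u` on `j` is `j'` on the unit
  have hkey : ∀ m : Γ(E, U), (u.appLE U U' hle).hom (appAdd E A j U m) =
      appAdd _ B j' U' (Groth.Agent.Lib.UnitBaseChange.unitSecFun g E hle m) := by
    intro m
    change (B.presheaf.map (homOfLE hle).op).hom ((u.app U).hom (show A.presheaf.obj (op U) from j.app U m)) = _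
    rw [hu U m]
    exact app_res ((Scheme.Modules.pullback g).obj E) B j' (g ⁻¹ᵁ U) U' hle _
  have hstr : ∀ r : Γ(S, U), (u.appLE U U' hle).hom ((A.str.app (op U)).hom r) =
      (B.str.app (op U')).hom ((g.appLE U U' hle).hom r) := fun r => congr($(comm.symm) r)
  -- existence of the descent map
  have hex : ∀ s : PushoutCocone (g.appLE U U' hle) (A.str.app (op U)),
      ∃ (lam : Γ((Scheme.Modules.pullback g).obj E, U') →+ s.pt)
        (Λ : B.presheaf.obj (op U') →+* s.pt),
        (∀ (t : Γ(S', U')) (y : Γ((Scheme.Modules.pullback g).obj E, U')), lam (t • y) = s.inl.hom t * lam y) ∧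
        (∀ m : Γ(E, U), lam (Groth.Agent.Lib.UnitBaseChange.unitSecFun g E hle m) =
          s.inr.hom (appAdd E A j U m)) ∧
        (∀ r : Γ(S', U'), Λ ((B.str.app (op U')).hom r) = s.inl.hom r) ∧
        ∀ y : Γ((Scheme.Modules.pullback g).obj E, U'), Λ (appAdd _ B j' U' y) = lam y := by
    intro s
    have hc : ∀ r : Γ(S, U), s.inl.hom ((g.appLE U U' hle).hom r) = s.inr.hom ((A.str.app (op U)).hom r) :=
      fun r => congr($(s.condition) r)
    obtain ⟨lam, hlam1, hlam2⟩ := Groth.Agent.Lib.PullbackSectionsUniv.exists_addHom g E hU' hU hle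
      s.inl.hom (s.inr.hom.toAddMonoidHom.comp (appAdd E A j U)) (fun r m => by
        change s.inr.hom (appAdd E A j U (r • m)) = _ * s.inr.hom (appAdd E A j U m)
        rw [appAdd_smul, map_mul, hc])
    obtain ⟨Λ, hΛ1, hΛ2⟩ := exists_ringHom ((Scheme.Modules.pullback g).obj E) B j' hB U' hU'
      s.inl.hom lam hlam1
    exact ⟨lam, Λ, hlam1, hlam2, hΛ1, hΛ2⟩
  choose lam Λ hlam1 hlam2 hΛ1 hΛ2 using hex
  refine ⟨⟨comm⟩, ⟨PushoutCocone.IsColimit.mk comm (fun s => CommRingCat.ofHom (Λ s)) ?_ ?_ ?_⟩⟩
  · intro s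
    ext r
    exact hΛ1 s r
  · intro s
    apply CommRingCat.hom_ext
    refine ringHom_ext_of_isSymAlg E A j hA U hU (fun r => ?_) (fun m => ?_)
    · change Λ s ((u.appLE U U' hle).hom ((A.str.app (op U)).hom r)) = s.inr.hom _
      rw [hstr, hΛ1]
      exact congr($(s.condition) r)
    · change Λ s ((u.appLE U U' hle).hom (appAdd E A j U m)) = s.inr.hom (appAdd E A j U m)
      rw [hkey, hΛ2, hlam2]
  · intro s m' h1 h2
    apply CommRingCat.hom_ext
    refine ringHom_ext_of_isSymAlg ((Scheme.Modules.pullback g).obj E) B j' hB U' hU' (fun r => ?_)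
      (fun y => ?_)
    · change m'.hom ((B.str.app (op U')).hom r) = Λ s ((B.str.app (op U')).hom r)
      rw [hΛ1]
      exact congr($h1 r)
    · change m'.hom (appAdd _ B j' U' y) = Λ s (appAdd _ B j' U' y)
      rw [hΛ2]
      have hext : m'.hom.toAddMonoidHom.comp (appAdd _ B j' U') = lam s := by
        refine Groth.Agent.Lib.PullbackSectionsUniv.addHom_ext g E hU' hU hle s.inl.hom _ _ ?_ (hlam1 s) ?_
        · intro t y
          change m'.hom (appAdd _ B j' U' (t • y)) = _ * m'.hom (appAdd _ B j' U' y)
          rw [appAdd_smul, map_mul]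
          congr 1
          exact congr($h1 t)
        · intro m
          change m'.hom (appAdd _ B j' U' _) = _
          rw [hlam2, ← hkey]
          exact congr($h2 _)
      exact congr($hext y)

end Groth.Agent.S12164
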