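import Groth.Statements.S12193
import Groth.Agent.S10193
import Groth.Agent.S9966
import Groth.Agent.Lib.H69SchImageRed
import Groth.Agent.Lib.H69AlgSpLocST2
import Groth.Agent.Lib.H69AlgSpReduced

set_option autoImplicit false
universe u
open CategoryTheory CategoryTheory.Limits AlgebraicGeometry
open AlgSp

namespace Groth.Agent.S12193

/-- Let X be a reduced algebraic space over S, f : X → Y a morphism of algebraic spaces over S, and Z →
Y the scheme theoretic image of f. Then forming the scheme theoretic image commutes with etale base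
change: for every etale morphism V → Y of algebraic spaces and cartesian squares X ×_Y V, Z ×_Y V,
the closed subspace Z ×_Y V → V is the scheme theoretic image of X ×_Y V → V. -/
theorem result {S : Scheme.{u}} {X Y Z V XV ZV : AlgSp.Space S} (f : X ⟶ Y)
    (i : Z ⟶ Y) (hX : AlgSp.IsReducedSp X.obj) (hZ : AlgSp.IsSchImage f.hom i.hom) (b : V ⟶ Y)
    (hb : AlgSp.IsEtaleMor b.hom) (f₁ : XV ⟶ X) (fV : XV ⟶ V) (i₁ : ZV ⟶ Z) (iV : ZV ⟶ V)
    (sqX : IsPullback f₁.hom fV.hom f.hom b.hom) (sqZ : IsPullback i₁.hom iV.hom i.hom b.hom) :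
    AlgSp.IsSchImage fV.hom iV.hom := by
  have hXp := X.property
  have hYp := Y.property
  have hZp := Z.property
  have hVp := V.property
  have hXVp := XV.property
  have hZVp := ZV.property
  -- `b` is open on points
  have hbopen : IsOpenMap (AlgSp.Points.map b.hom) := by
    obtain ⟨A, q, hqe, hqs⟩ := hVp.atlas
    have hqb : AlgSp.RepWith @Etale (q ≫ b.hom) := hb q hqe
    intro O hO
    have h1 : AlgSp.Points.map b.hom '' O =
        AlgSp.Points.map (q ≫ b.hom) '' (AlgSp.Points.map q ⁻¹' O) := by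
      ext y
      constructor
      · rintro ⟨v, hv, rfl⟩
        obtain ⟨a, rfl⟩ := Groth.Agent.Lib.AlgSpQC.surjective_map_of_repWith_surjective hqs v
        exact ⟨a, hv, by rw [AlgSp.Points.map_comp]⟩
      · rintro ⟨a, ha, rfl⟩
        exact ⟨AlgSp.Points.map q a, ha, by rw [AlgSp.Points.map_comp]⟩
    rw [h1]
    exact Groth.Agent.Lib.AlgSpQC.isOpenMap_map_of_repWith_etale hqb _
      (hO.preimage (AlgSp.Points.continuous_map q))
  -- reducedness
  have hXVr : AlgSp.IsReducedSp XV.obj :=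
    Groth.Agent.Lib.H69AlgSpReduced.isReducedSp_of_smooth hXVp f₁.hom
      (Groth.Agent.Lib.H69AlgSpLocST2.locP_smooth_of_isEtaleMor hXp
        (Groth.Agent.Lib.H69AlgSpLocST2.isEtaleMor_fst hXp hYp hVp sqX hb)) hX
  have hZred := Groth.Agent.S9966.result f i hX hZ
  have hZVr : AlgSp.IsReducedSp ZV.obj :=
    Groth.Agent.Lib.H69AlgSpReduced.isReducedSp_of_smooth hZVp i₁.hom
      (Groth.Agent.Lib.H69AlgSpLocST2.locP_smooth_of_isEtaleMor hZp
        (Groth.Agent.Lib.H69AlgSpLocST2.isEtaleMor_fst hZp hYp hVp sqZ hb)) hZred.2.2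
  have hiV : AlgSp.RepWith @IsClosedImmersion iV.hom :=
    Groth.Agent.Lib.AlgSpBasic.repWith_snd_of_isPullback _ sqZ hZ.1
  obtain ⟨f', hf'⟩ := hZ.2.1
  refine ⟨hiV, ⟨sqZ.lift (f₁.hom ≫ f') fV.hom (by rw [Category.assoc, hf', sqX.w]),
    sqZ.lift_snd _ _ _⟩, ?_⟩
  rintro Z' i' hZ' hi' ⟨f'', hf''⟩
  obtain ⟨Z₀, i₀, hZ₀, hZ₀img⟩ := Groth.Agent.Lib.H69SchImage.exists_isSchImage hVp fV.hom
  obtain ⟨k₀, hk₀⟩ := hZ₀img.2.2 i' hZ' hi' ⟨f'', hf''⟩
  have hred₀ := Groth.Agent.Lib.H69SchImageRed.isRedInduced_of_reduced hXVp hVp fV.hom i₀ hXVr hZ₀img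
  have hrange : Set.range (AlgSp.Points.map iV.hom) ⊆ Set.range (AlgSp.Points.map i₀) := by
    have h1 := Groth.Agent.Lib.AlgSpPoints.preimage_image_eq_of_isPullback' sqZ Set.univ
    have h2 := Groth.Agent.Lib.AlgSpPoints.preimage_image_eq_of_isPullback' sqX Set.univ
    rw [Set.image_univ, Set.preimage_univ, Set.image_univ] at h1 h2
    rw [← h1, hZred.2.1, hbopen.preimage_closure_eq_closure_preimage (AlgSp.Points.continuous_map b.hom),
      h2, hred₀.2.1]
  let Z₀' : AlgSp.Space S := ⟨Z₀, hZ₀⟩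
  let i₀' : Z₀' ⟶ V := ObjectProperty.homMk i₀
  obtain ⟨g, hg⟩ := (Groth.Agent.S10193.result (X := V) (Y := ZV) (Z := Z₀') i₀' hZ₀img.1 hZVr iV).2 hrange
  refine ⟨g.hom ≫ k₀, ?_⟩
  rw [Category.assoc, hk₀]
  exact congrArg (fun k => k.hom) hg

end Groth.Agent.S12193
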