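import Groth.Statements.S12209
import Mathlib.RingTheory.Flat.EquationalCriterion
import Mathlib.Data.Finset.Order

set_option autoImplicit false
universe u
open CAlg

namespace Groth.Agent.S12209

/-- Let (R_i) be a system of commutative rings over a nonempty directed preorder, with colimit R, and
let M be an R-module which is flat as an R_i-module for every i (the R_i-module structure being
restriction of scalars along R_i → R). Then M is flat as an R-module. -/
theorem result {ι : Type u} [Preorder ι] [Nonempty ι] [IsDirectedOrder ι]
    (G : ι → Type u) [∀ i, CommRing (G i)] (f : ∀ i j, i ≤ j → G i →+* G j)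
    [DirectedSystem G fun i j h => f i j h]
    (M : Type u) [AddCommGroup M] [Module (Ring.DirectLimit G fun i j h => f i j h) M]
    (hflat : ∀ i, letI : Module (G i) M := Module.compHom M (Ring.DirectLimit.of G (fun i j h => f i j h) i);
      Module.Flat (G i) M) :
    Module.Flat (Ring.DirectLimit G fun i j h => f i j h) M := by
  classical
  rw [Module.Flat.iff_forall_isTrivialRelation]
  intro l φ x hrel
  -- lift the coefficients to a common stage
  choose ik yk hyk using fun k => Ring.DirectLimit.exists_of (G := G)
    (f := fun i j h => f i j h) (φ k)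
  obtain ⟨j, hj⟩ := (Finset.univ.image ik).exists_le
  have hle : ∀ k, ik k ≤ j := fun k => hj _ (Finset.mem_image_of_mem _ (Finset.mem_univ k))
  let φ' : Fin l → G j := fun k => f (ik k) j (hle k) (yk k)
  have hφ' : ∀ k, Ring.DirectLimit.of G (fun i j h => f i j h) j (φ' k) = φ k := by
    intro k
    rw [← hyk k]
    exact Ring.DirectLimit.of_f (hle k) (yk k)
  letI inst : Module (G j) M :=
    Module.compHom M (Ring.DirectLimit.of G (fun i j h => f i j h) j)
  have hfl : Module.Flat (G j) M := hflat j
  have hsmul : ∀ (r : G j) (m : M),
      r • m = (Ring.DirectLimit.of G (fun i j h => f i j h) j r) • m := fun _ _ => rfl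
  have hrel' : ∑ k, φ' k • x k = 0 := by
    rw [← hrel]
    refine Finset.sum_congr rfl fun k _ => ?_
    rw [hsmul, hφ']
  obtain ⟨κ, a, y, hxy, ha⟩ := Module.Flat.iff_forall_isTrivialRelation.mp hfl hrel'
  refine ⟨κ, fun k m => Ring.DirectLimit.of G (fun i j h => f i j h) j (a k m), y, ?_, ?_⟩
  · intro k
    rw [hxy k]
    refine Finset.sum_congr rfl fun m _ => ?_
    rw [hsmul]
  · intro m
    have := congrArg (Ring.DirectLimit.of G (fun i j h => f i j h) j) (ha m)
    rw [map_sum, map_zero] at this
    rw [← this]
    refine Finset.sum_congr rfl fun k _ => ?_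
    rw [map_mul, hφ']

end Groth.Agent.S12209
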