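import Groth.Statements.S12210
import Groth.Agent.Lib.AffineComplDim9
-- import your own Groth.Agent.* helpers here

set_option autoImplicit false
set_option linter.style.haveILetI false
universe u
open CategoryTheory CategoryTheory.Limits AlgebraicGeometry
open Divisors

namespace Groth.Agent.S12210

open Groth.Agent.Lib.AffineComplDim9

/-- If `ξ` lies in the closure of an open `U` of a locally Noetherian scheme but not in `U`, the
local ring at `ξ` has positive dimension (variant of `ringKrullDim_stalk_ne_zero_of_dense`). -/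
theorem ringKrullDim_stalk_ne_zero_of_mem_closure (X : Scheme.{u}) [IsLocallyNoetherian X]
    (U : X.Opens) (ξ : X) (hξ : ξ ∉ U) (hcl : ξ ∈ closure (U : Set X)) :
    ringKrullDim (X.presheaf.stalk ξ) ≠ 0 := by
  obtain ⟨_, ⟨W, hW, rfl⟩, hξW, -⟩ :=
    X.isBasis_affineOpens.exists_subset_of_mem_open (Set.mem_univ ξ) isOpen_univ
  haveI : IsNoetherianRing Γ(X, W) := IsLocallyNoetherian.component_noetherian ⟨W, hW⟩
  let p : PrimeSpectrum Γ(X, W) := hW.primeIdealOf ⟨ξ, hξW⟩
  have hp : hW.fromSpec p = ξ := hW.fromSpec_primeIdealOf ⟨ξ, hξW⟩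
  letI : Algebra Γ(X, W) (X.presheaf.stalk ξ) :=
    TopCat.Presheaf.algebra_section_stalk X.presheaf ⟨ξ, hξW⟩
  haveI : IsLocalization.AtPrime (X.presheaf.stalk ξ) p.asIdeal :=
    hW.isLocalization_stalk ⟨ξ, hξW⟩
  rw [IsLocalization.AtPrime.ringKrullDim_eq_height p.asIdeal (X.presheaf.stalk ξ)]
  intro h0
  have h0' : p.asIdeal.height = 0 := by exact_mod_cast h0
  have hmin : p.asIdeal ∈ minimalPrimes Γ(X, W) := Ideal.height_eq_zero_iff.mp h0'
  obtain ⟨f, hfp, hf⟩ := exists_not_mem_forall_le Γ(X, W) p.asIdeal hmin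
  haveI : IsOpenImmersion hW.fromSpec := hW.isOpenImmersion_fromSpec
  have hopen : IsOpen (hW.fromSpec '' (PrimeSpectrum.basicOpen f : Set (PrimeSpectrum Γ(X, W)))) :=
    hW.fromSpec.isOpenEmbedding.isOpenMap _ (PrimeSpectrum.basicOpen f).2
  have hmem : ξ ∈ hW.fromSpec '' (PrimeSpectrum.basicOpen f : Set (PrimeSpectrum Γ(X, W))) :=
    ⟨p, hfp, hp⟩
  obtain ⟨y, ⟨q, hqf, rfl⟩, hyU⟩ := mem_closure_iff.mp hcl _ hopen hmem
  have hpq : p.asIdeal ≤ q.asIdeal := hf q.asIdeal q.2 hqf
  have hs : p ⤳ q := (PrimeSpectrum.le_iff_specializes p q).mp hpq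
  have hs' : hW.fromSpec p ⤳ hW.fromSpec q := hs.map hW.fromSpec.continuous
  rw [hp] at hs'
  exact hξ (hs'.mem_open U.2 hyU)

/-- Let X be locally Noetherian and U an open subscheme whose inclusion is an affine morphism. If ξ is a
point outside U which is maximal under generization among points outside U (a generic point of an
irreducible component of the complement) and ξ lies in the closure of U, then the local ring of X at
ξ has dimension exactly one. (The case X separated and U an affine open is the corresponding special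
case, since then the inclusion of U is affine.) -/
theorem result (X : Scheme.{u}) [IsLocallyNoetherian X]
    (U : X.Opens) [IsAffineHom U.ι] (ξ : X) (hξ : ξ ∉ U) (hgen : ∀ y : X, y ∉ U → y ⤳ ξ → y = ξ)
    (hcl : ξ ∈ closure (U : Set X)) :
    ringKrullDim (X.presheaf.stalk ξ) = 1 := by
  have h1 := ringKrullDim_stalk_le_one X U ξ hξ hgen
  have h0 := ringKrullDim_stalk_ne_zero_of_mem_closure X U ξ hξ hcl
  have hnn : (0 : WithBot ℕ∞) ≤ ringKrullDim (X.presheaf.stalk ξ) := ringKrullDim_nonneg_of_nontrivial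
  apply le_antisymm h1
  obtain ⟨n, hn⟩ : ∃ n : ℕ∞, ringKrullDim (X.presheaf.stalk ξ) = (n : WithBot ℕ∞) := by
    cases h : ringKrullDim (X.presheaf.stalk ξ) with
    | bot => rw [h] at hnn; exact absurd hnn (by simp)
    | coe n => exact ⟨n, rfl⟩
  rw [hn] at h0 ⊢
  have hn0 : n ≠ 0 := fun h => h0 (by rw [h]; rfl)
  have : (1 : ℕ∞) ≤ n := Order.one_le_iff_pos.mpr (pos_iff_ne_zero.mpr hn0)
  exact_mod_cast this

end Groth.Agent.S12210
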