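import Groth.Statements.S12215
import Groth.Agent.Lib.AssPoints

set_option autoImplicit false
universe u
open CategoryTheory CategoryTheory.Limits AlgebraicGeometry
open Divisors

namespace Groth.Agent.S12215


open Groth.Agent.Lib.QCohStalk Groth.Agent.Lib.AssPoints

variable (A : CommRingCat.{u}) (M : ModuleCat.{u} A)

/-- the ring isomorphism `Γ(Spec A, ⊤) ≅ A` -/
noncomputable abbrev φ : Γ(Spec A, ⊤) →+* A := (Scheme.ΓSpecIso A).hom.hom

noncomputable abbrev φi : A →+* Γ(Spec A, ⊤) := (Scheme.ΓSpecIso A).inv.hom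

lemma φ_φi (a : A) : φ A (φi A a) = a := by
  change ((Scheme.ΓSpecIso A).inv ≫ (Scheme.ΓSpecIso A).hom).hom a = a
  rw [Iso.inv_hom_id]; rfl

lemma φi_φ (b : Γ(Spec A, ⊤)) : φi A (φ A b) = b := by
  change ((Scheme.ΓSpecIso A).hom ≫ (Scheme.ΓSpecIso A).inv).hom b = b
  rw [Iso.hom_inv_id]; rfl

/-- the prime of `Γ(Spec A, ⊤)` of the point `p` is the preimage of `p` -/
lemma primeIdealOf_top (p : Spec A) :
    ((isAffineOpen_top (Spec A)).primeIdealOf ⟨p, trivial⟩).asIdeal = p.asIdeal.comap (φ A) := by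
  have h1 := (isAffineOpen_top (Spec A)).fromSpec_primeIdealOf ⟨p, trivial⟩
  rw [IsAffineOpen.fromSpec_top, Scheme.isoSpec_Spec_inv] at h1
  set q := (isAffineOpen_top (Spec A)).primeIdealOf ⟨p, trivial⟩ with hq
  have h1' : p = (Spec.map (Scheme.ΓSpecIso A).inv) q := h1.symm
  have h2 : p.asIdeal = q.asIdeal.comap (φi A) := by
    rw [h1']; rfl
  rw [h2]
  ext b
  simp only [Ideal.mem_comap, φi_φ]

/-- the comparison `M → Γ(M~, ⊤)` -/
noncomputable abbrev ψ : M →ₗ[A] Γ(tilde M, ⊤) := (tilde.toOpen M ⊤).hom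

lemma ψ_bijective : Function.Bijective (ψ A M) :=
  ConcreteCategory.bijective_of_isIso (tilde.toOpen M ⊤)

lemma smul_top (a : A) (x : Γ(tilde M, ⊤)) : a • x = (φi A a) • x := by
  rw [Scheme.Modules.smul_Spec_def]
  congr 1

lemma ann_ψ (m : M) :
    ann Γ(Spec A, ⊤) (ψ A M m) = ((Submodule.span A {m}).annihilator).comap (φ A) := by
  ext b
  rw [mem_ann, Ideal.mem_comap, Submodule.mem_annihilator_span_singleton]
  have hb : b • ψ A M m = ψ A M (φ A b • m) := by
    rw [map_smul, smul_top, φi_φ]
  rw [hb]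
  constructor
  · intro h
    exact (ψ_bijective A M).1 (h.trans (map_zero _).symm)
  · intro h
    rw [h, map_zero]

theorem result' (p : Spec A) :
    p.asIdeal ∈ FlatCA.weakAss A M ↔ Curv2.IsWeakAssPoint (tilde M) p := by
  have hφs : Function.Surjective (φ A) := fun a => ⟨φi A a, φ_φi A a⟩
  have htop := isAffineOpen_top (Spec A)
  let y : (⊤ : (Spec A).Opens) := ⟨p, trivial⟩
  have hloc : IsLocAt (tilde M) htop y := isLocAt_of_isQuasicoherent (tilde M) htop y
  constructor
  · rintro ⟨m, hm⟩
    refine isWeakAssPoint_of_minimal (tilde M) htop y hloc (ψ A M m) ?_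
    rw [ann_ψ, primeIdealOf_top]
    exact Ideal.minimalPrimes_comap_of_surjective hφs hm
  · intro h
    obtain ⟨s, hs⟩ := exists_minimal_of_isWeakAssPoint (tilde M) htop y hloc h
    obtain ⟨m, rfl⟩ := (ψ_bijective A M).2 s
    rw [ann_ψ, primeIdealOf_top, Ideal.comap_minimalPrimes_eq_of_surjective hφs] at hs
    obtain ⟨P, hP, hPp⟩ := hs
    have : P = p.asIdeal := Ideal.comap_injective_of_surjective (φ A) hφs hPp
    exact ⟨m, this ▸ hP⟩


/-- Let M be a module over a ring A, M~ the associated quasi-coherent module on Spec A and p a prime of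
A. Then p is weakly associated to M — p is minimal among the prime ideals containing the annihilator
of some element of M — if and only if the point p of Spec A is weakly associated to M~, i.e. some
element of the stalk of M~ at p has annihilator whose radical is the maximal ideal of the local
ring. -/
theorem result (A : CommRingCat.{u}) (M : ModuleCat.{u} A) (p : Spec A) :
    p.asIdeal ∈ FlatCA.weakAss A M ↔ Curv2.IsWeakAssPoint (tilde M) p := by
  exact result' A M p

end Groth.Agent.S12215
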