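import Groth.Statements.S1224
import Mathlib.RingTheory.Ideal.GoingUp
import Mathlib.RingTheory.LocalRing.ResidueField.Fiber
import Mathlib.RingTheory.IsTensorProduct
import Mathlib.RingTheory.IntegralClosure.Algebra.Basic

set_option autoImplicit false
universe u
open FlatMor

namespace Groth.Agent.S1224

open scoped TensorProduct

attribute [local instance] Algebra.TensorProduct.rightAlgebra

section step2

variable {A' B' N' : Type u} [CommRing A'] [CommRing B'] [Algebra A' B']
  [AddCommGroup N'] [Module B' N']

/-- An element of `B'` killing `N'` lies in every prime `P` over `t'` whose fibre ideal is an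
associated prime of the fibre module. -/
theorem mem_of_smul_eq_zero (t' : Ideal A') [t'.IsPrime] (P : Ideal B') [hP : P.IsPrime]
    [hPover : P.LiesOver t']
    (hass : FlatCA.fiberIdeal t' P ∈ associatedPrimes (t'.Fiber B') (FlatCA.fiberMod t' B' N'))
    (b' : B') (hb' : ∀ n' : N', b' • n' = 0) : b' ∈ P := by
  -- the image of `b'` in the fibre ring kills the fibre module
  have hkill : ∀ y : FlatCA.fiberMod t' B' N',
      ((Algebra.TensorProduct.includeRight (R := A') (A := t'.ResidueField) (B := B')) b') • y
        = 0 := by
    intro y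
    revert y
    change ∀ y : (t'.Fiber B') ⊗[B'] N',
      ((Algebra.TensorProduct.includeRight (R := A') (A := t'.ResidueField) (B := B')) b') • y = 0
    intro y
    induction y using TensorProduct.induction_on with
    | zero => simp
    | tmul x n' =>
      rw [TensorProduct.smul_tmul', smul_eq_mul, mul_comm]
      have : x * (Algebra.TensorProduct.includeRight (R := A') (A := t'.ResidueField) (B := B')) b'
          = b' • x := by
        rw [Algebra.smul_def, mul_comm]
        rfl
      rw [this, TensorProduct.smul_tmul, hb', TensorProduct.tmul_zero]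
    | add y z hy hz => rw [smul_add, hy, hz, add_zero]
  -- so it lies in the associated prime `fiberIdeal t' P`
  have hc : (Algebra.TensorProduct.includeRight (R := A') (A := t'.ResidueField) (B := B')) b'
      ∈ FlatCA.fiberIdeal t' P := by
    obtain ⟨_, y₀, hy₀⟩ := hass
    rw [hy₀]
    apply Ideal.le_radical
    rw [Submodule.mem_colon_singleton, Submodule.mem_bot]
    exact hkill y₀
  -- contract along the order isomorphism between primes over `t'` and primes of the fibre
  let 𝔓 := PrimeSpectrum.primesOverOrderIsoFiber A' B' t' ⟨P, hP, hPover⟩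
  have h𝔓 : 𝔓.asIdeal.comap (Algebra.TensorProduct.includeRight
      (R := A') (A := t'.ResidueField) (B := B')) = P := by
    have h1 := (PrimeSpectrum.primesOverOrderIsoFiber A' B' t').symm_apply_apply ⟨P, hP, hPover⟩
    have h2 := PrimeSpectrum.coe_primesOverOrderIsoFiber_symm_apply (R := A') (S := B') (p := t') 𝔓
    rw [h1] at h2
    exact h2.symm
  have hle : FlatCA.fiberIdeal t' P ≤ 𝔓.asIdeal := by
    unfold FlatCA.fiberIdeal
    rw [Ideal.map_le_iff_le_comap]
    exact h𝔓.symm.le
  have : b' ∈ 𝔓.asIdeal.comap (Algebra.TensorProduct.includeRight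
      (R := A') (A := t'.ResidueField) (B := B')) := hle hc
  rwa [h𝔓] at this

end step2

section step3

variable {A B A' B' : Type u} [CommRing A] [CommRing B] [Algebra A B] [CommRing A'] [CommRing B']
  [Algebra A A'] [Algebra B B'] [Algebra A' B'] [Algebra A B'] [IsScalarTower A B B']
  [IsScalarTower A A' B']

/-- If `B ⧸ I` is finite over `A` then `B' ⧸ I B'` is integral over `A'`, for a pushout square. -/
theorem isIntegral_quotient (hpush : Algebra.IsPushout A B A' B') (I : Ideal B)
    [Module.Finite A (B ⧸ I)] :
    Algebra.IsIntegral A' (B' ⧸ I.map (algebraMap B B')) := by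
  let ψ : (B ⧸ I) →ₐ[A] (B' ⧸ I.map (algebraMap B B')) :=
    Ideal.quotientMapₐ (I.map (algebraMap B B')) (IsScalarTower.toAlgHom A B B')
      Ideal.le_comap_map
  have hb : ∀ b : B, IsIntegral A' (Ideal.Quotient.mk (I.map (algebraMap B B'))
      (algebraMap B B' b)) := by
    intro b
    have h1 : IsIntegral A (Ideal.Quotient.mk I b) := Algebra.IsIntegral.isIntegral _
    have h2 : IsIntegral A (ψ (Ideal.Quotient.mk I b)) := h1.map ψ
    exact h2.tower_top
  have hall : ∀ x : B', IsIntegral A' (Ideal.Quotient.mk (I.map (algebraMap B B')) x) := by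
    intro x
    refine hpush.symm.out.inductionOn x _ ?_ ?_ ?_ ?_
    · rw [map_zero]
      exact isIntegral_zero
    · intro b
      exact hb b
    · intro a' y hy
      have : Ideal.Quotient.mk (I.map (algebraMap B B')) (a' • y)
          = a' • Ideal.Quotient.mk (I.map (algebraMap B B')) y := rfl
      rw [this]
      exact IsIntegral.smul a' hy
    · intro y z hy hz
      rw [map_add]
      exact hy.add hz
  constructor
  intro q
  obtain ⟨x, rfl⟩ := Ideal.Quotient.mk_surjective q
  exact hall x

end step3

/-- Ring form, X = Spec B affine, where proper support means finite support: let B be a finite type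
A-algebra and N a finite B-module such that B modulo the annihilator of N is finite over A. Then N
is universally pure relative to Spec A. -/
theorem result {A B : Type u} [CommRing A] [CommRing B] [Algebra A B] [Algebra.FiniteType A B]
    (N : Type u) [AddCommGroup N] [Module B N] [Module A N] [IsScalarTower A B N] [Module.Finite B N]
    [Module.Finite A (B ⧸ Module.annihilator B N)] : FlatCA.IsUnivPure A B N := by
  intro p _ A' B' N' _ _ _ _ _ _ _ _ _ _ _ _ _ _ f t' t _ _ P _ himp
  obtain ⟨hpush, hbc, hle, hover, hPover, hass, hno⟩ := himp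
  set I : Ideal B := Module.annihilator B N with hI
  -- Step 2: `I B' ≤ P`
  have hIP : I.map (algebraMap B B') ≤ P := by
    rw [Ideal.map_le_iff_le_comap]
    intro b hb
    rw [Ideal.mem_comap]
    apply mem_of_smul_eq_zero (N' := N') t' P hass
    intro n'
    refine hbc.inductionOn n' _ ?_ ?_ ?_ ?_
    · rw [smul_zero]
    · intro m
      rw [algebraMap_smul, ← map_smul, Module.mem_annihilator.mp hb m, map_zero]
    · intro s n hn
      rw [smul_comm, hn, smul_zero]
    · intro n₁ n₂ h₁ h₂
      rw [smul_add, h₁, h₂, add_zero]
  -- Step 3: integrality of the quotient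
  have hint : Algebra.IsIntegral A' (B' ⧸ I.map (algebraMap B B')) := isIntegral_quotient hpush I
  -- Step 4: going up
  set J : Ideal B' := I.map (algebraMap B B') with hJ
  have hcomap : (P.map (Ideal.Quotient.mk J)).comap (algebraMap A' (B' ⧸ J)) ≤ t := by
    intro x hx
    apply hle
    rw [Ideal.mem_comap] at hx
    have hx' : algebraMap A' B' x ∈ (P.map (Ideal.Quotient.mk J)).comap (Ideal.Quotient.mk J) := hx
    rw [Ideal.comap_map_of_surjective _ Ideal.Quotient.mk_surjective, ← RingHom.ker_eq_comap_bot,
      Ideal.mk_ker, sup_eq_left.mpr hIP] at hx'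
    rw [hPover.over]
    exact hx'
  obtain ⟨Q', hQ'le, hQ'prime, hQ'over⟩ :=
    Ideal.exists_ideal_over_prime_of_isIntegral t (P.map (Ideal.Quotient.mk J)) hcomap
  have hP'prime : (Q'.comap (Ideal.Quotient.mk J)).IsPrime := Ideal.comap_isPrime _ _
  apply hno (Q'.comap (Ideal.Quotient.mk J))
  · exact (Ideal.le_comap_map).trans (Ideal.comap_mono hQ'le)
  · constructor
    rw [← hQ'over]
    rfl

end Groth.Agent.S1224
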