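import Groth.Statements.S1246
import Mathlib
import Groth.Agent.Lib.PurityQF7
import Groth.Agent.S1217

set_option autoImplicit false
universe u
open FlatMor

namespace Groth.Agent.S1246

section helpers

open scoped TensorProduct
open Groth.Agent.Lib.PurityBC7 Groth.Agent.Lib.PurityQF7

attribute [local instance] Algebra.TensorProduct.rightAlgebra

theorem main_generic {A B : Type u} [CommRing A] [CommRing B] [Algebra A B] [Algebra.FiniteType A B]
    (N : Type u) [AddCommGroup N] [Module B N] (p : Ideal A) [p.IsPrime]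
    (A₁ B₁ N₁ : Type u) [CommRing A₁] [CommRing B₁] [Algebra A A₁] [Algebra B B₁]
    [Algebra A₁ B₁] [Algebra A B₁] [IsScalarTower A B B₁] [IsScalarTower A A₁ B₁]
    [AddCommGroup N₁] [Module B₁ N₁] [Module B N₁] [IsScalarTower B B₁ N₁] [Module A₁ N₁]
    [IsScalarTower A₁ B₁ N₁] (f₁ : N →ₗ[B] N₁) (t₁' t₁ : Ideal A₁) [t₁'.IsPrime] [t₁.IsPrime]
    (P₁ : Ideal B₁) [P₁.IsPrime] (himp : FlatCA.IsImpurity A B N p A₁ B₁ N₁ f₁ t₁' t₁ P₁)
    (R' V : Type u) [CommRing R'] [CommRing V] [Algebra A R'] [Algebra R' V] [Algebra A₁ V]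
    [Algebra A V] [IsScalarTower A R' V] [IsScalarTower A A₁ V]
    [Module.Flat A₁ V] [Algebra.IsIntegral R' V]
    (P : Ideal R') [P.IsPrime] [hPp : P.LiesOver p]
    (v : Ideal V) [v.IsPrime] [hvP : v.LiesOver P] [hvt₁ : v.LiesOver t₁]
    (huniq : ∀ w : Ideal V, w.IsPrime → w.LiesOver P → w = v)
    (hnhd : FlatCA.IsEtaleNhd A R' p P) :
    FlatCA.HasImpurity A B N p (fun A' _ _ t => ∃ _ : t.IsPrime, FlatCA.IsEtaleNhd A A' p t) := by
  have hle := himp.2.2.1
  haveI hover₁ : t₁.LiesOver p := himp.2.2.2.1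
  -- going down
  obtain ⟨v', hv'le, hv'prime, hv'over⟩ :=
    Ideal.exists_ideal_le_liesOver_of_le (p := t₁') (q := t₁) v hle
  haveI := hv'prime
  haveI := hv'over
  haveI : v.LiesOver p := ⟨by
    rw [hPp.over, hvP.over, Ideal.under_under]⟩
  -- transfer to V
  have hid : IsBaseChange B (LinearMap.id : N →ₗ[B] N) :=
    IsBaseChange.ofEquiv (LinearEquiv.refl B N)
  apply Groth.Agent.S1217.key_mid N p A B N inferInstance LinearMap.id hid p A₁ B₁ N₁ f₁ t₁' t₁ P₁
    himp V v' v hv'le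
  intro BV NV _ _ _ _ _ _ _ _ _ _ _ _ fV PV _ himpV
  -- push down to R'
  have hpushR' : Algebra.IsPushout A B R' (R' ⊗[A] B) := TensorProduct.isPushout'
  have hk : IsBaseChange (R' ⊗[A] B) (TensorProduct.mk B (R' ⊗[A] B) N 1) :=
    TensorProduct.isBaseChange B N _
  haveI : IsScalarTower R' (R' ⊗[A] B) ((R' ⊗[A] B) ⊗[B] N) := inferInstance
  obtain ⟨s, hs, P'', hP'', himp'⟩ := pushdown_generic N p R' (R' ⊗[A] B) ((R' ⊗[A] B) ⊗[B] N)
    hpushR' _ hk V BV NV fV v' v PV himpV P huniq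
  exact ⟨R', R' ⊗[A] B, (R' ⊗[A] B) ⊗[B] N, inferInstance, inferInstance, inferInstance,
    inferInstance, inferInstance, inferInstance, inferInstance, inferInstance, inferInstance,
    inferInstance, inferInstance, inferInstance, inferInstance, inferInstance, _, s, P, hs,
    inferInstance, P'', hP'', himp', ⟨inferInstance, hnhd⟩⟩


theorem main_mid {A B : Type u} [CommRing A] [CommRing B] [Algebra A B] [Algebra.FiniteType A B]
    (N : Type u) [AddCommGroup N] [Module B N] (p : Ideal A) [p.IsPrime]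
    (A₁ B₁ N₁ : Type u) [CommRing A₁] [CommRing B₁] [Algebra A A₁] [Algebra B B₁]
    [Algebra A₁ B₁] [Algebra A B₁] [IsScalarTower A B B₁] [IsScalarTower A A₁ B₁]
    [AddCommGroup N₁] [Module B₁ N₁] [Module B N₁] [IsScalarTower B B₁ N₁] [Module A₁ N₁]
    [IsScalarTower A₁ B₁ N₁] (f₁ : N →ₗ[B] N₁) (t₁' t₁ : Ideal A₁) [t₁'.IsPrime] [t₁.IsPrime]
    (P₁ : Ideal B₁) [P₁.IsPrime] (himp : FlatCA.IsImpurity A B N p A₁ B₁ N₁ f₁ t₁' t₁ P₁)
    (R' : Type u) [CommRing R'] [Algebra A R'] [hét : Algebra.Etale A R']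
    (P : Ideal R') [P.IsPrime] [hPp : P.LiesOver p]
    (e : R' ⊗[A] A₁) (P' : Ideal (R' ⊗[A] A₁)) [P'.IsPrime] [P'.LiesOver P]
    (hP'q : P'.comap Algebra.TensorProduct.includeRight.toRingHom = t₁) (heP' : e ∉ P')
    (hbij : Function.Bijective (Ideal.ResidueField.mapₐ p P (Algebra.ofId _ _) (P.over_def p)))
    (huniq : ∀ P'' : Ideal (R' ⊗[A] A₁), P''.IsPrime → P''.LiesOver P → e ∉ P'' → P'' = P')
    (V : Type u) [CommRing V] [Algebra (R' ⊗[A] A₁) V] [IsLocalization.Away e V]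
    [Algebra R' V] [IsScalarTower R' (R' ⊗[A] A₁) V] [Algebra A₁ V]
    [IsScalarTower A₁ (R' ⊗[A] A₁) V]
    [Algebra A V] [IsScalarTower A R' V] [IsScalarTower A A₁ V]
    [Module.Finite R' V] :
    FlatCA.HasImpurity A B N p (fun A' _ _ t => ∃ _ : t.IsPrime, FlatCA.IsEtaleNhd A A' p t) := by
  have hdisj : Disjoint (Submonoid.powers e : Set (R' ⊗[A] A₁)) (P' : Set (R' ⊗[A] A₁)) := by
    rwa [Ideal.disjoint_powers_iff_notMem_of_isPrime]
  haveI hvprime : (P'.map (algebraMap (R' ⊗[A] A₁) V)).IsPrime :=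
    IsLocalization.isPrime_of_isPrime_disjoint (.powers e) _ _ ‹_› hdisj
  have hvcomap : (P'.map (algebraMap (R' ⊗[A] A₁) V)).comap (algebraMap (R' ⊗[A] A₁) V) = P' :=
    IsLocalization.comap_map_of_isPrime_disjoint (.powers e) V ‹P'.IsPrime› hdisj
  haveI hvP' : (P'.map (algebraMap (R' ⊗[A] A₁) V)).LiesOver P' := ⟨hvcomap.symm⟩
  haveI hvP : (P'.map (algebraMap (R' ⊗[A] A₁) V)).LiesOver P :=
    Ideal.LiesOver.trans _ P' P
  haveI hP't₁ : P'.LiesOver t₁ := ⟨hP'q.symm⟩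
  haveI hvt₁ : (P'.map (algebraMap (R' ⊗[A] A₁) V)).LiesOver t₁ :=
    Ideal.LiesOver.trans _ P' t₁
  haveI : Module.Flat A R' := Algebra.Smooth.flat A R'
  haveI : Module.Flat A₁ (R' ⊗[A] A₁) :=
    Module.Flat.isBaseChange (R := A) (S := A₁) (M := R') (N := R' ⊗[A] A₁)
      (TensorProduct.isPushout' : Algebra.IsPushout A A₁ R' (R' ⊗[A] A₁)).out
  haveI : Module.Flat (R' ⊗[A] A₁) V := IsLocalization.flat V (.powers e)
  haveI : Module.Flat A₁ V := Module.Flat.trans A₁ (R' ⊗[A] A₁) V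
  haveI : Algebra.IsIntegral R' V := Algebra.IsIntegral.of_finite R' V
  refine main_generic N p A₁ B₁ N₁ f₁ t₁' t₁ P₁ himp R' V P (P'.map (algebraMap (R' ⊗[A] A₁) V))
    ?_ ⟨hét, hPp, hbij⟩
  intro w hw hwP
  have hwc : w.comap (algebraMap (R' ⊗[A] A₁) V) = P' := by
    haveI : (w.comap (algebraMap (R' ⊗[A] A₁) V)).IsPrime := Ideal.comap_isPrime _ _
    haveI : w.LiesOver (w.comap (algebraMap (R' ⊗[A] A₁) V)) := ⟨rfl⟩
    apply huniq _ inferInstance ⟨by
      rw [hwP.over, Ideal.under_def, Ideal.under_def, Ideal.comap_comap,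
        ← IsScalarTower.algebraMap_eq]⟩
    intro he
    have hu : IsUnit (algebraMap (R' ⊗[A] A₁) V e) := IsLocalization.Away.algebraMap_isUnit e
    exact hw.ne_top (Ideal.eq_top_of_isUnit_mem _ he hu)
  rw [← IsLocalization.map_comap (.powers e) V w]
  exact congrArg _ hwc


theorem main {A B : Type u} [CommRing A] [CommRing B] [Algebra A B] [Algebra.FiniteType A B]
    (N : Type u) [AddCommGroup N] [Module B N] (p : Ideal A) [p.IsPrime]
    (h : FlatCA.HasImpurity A B N p (fun A' _ _ t => ∃ _ : t.IsPrime,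
      Algebra.FiniteType A A' ∧ Algebra.QuasiFiniteAt A t)) :
    FlatCA.HasImpurity A B N p (fun A' _ _ t => ∃ _ : t.IsPrime, FlatCA.IsEtaleNhd A A' p t) := by
  obtain ⟨A₁, B₁, N₁, _, _, _, _, _, _, _, _, _, _, _, _, _, _, f₁, t₁', t₁, _, _, P₁, _, himp,
    _, hft, hqf⟩ := h
  haveI : t₁.LiesOver p := himp.2.2.2.1
  obtain ⟨R', _, _, hét, P, _, _, e, he, P', _, _, hP'q, heP', hbij, hfin, huniq⟩ :=
    Algebra.exists_etale_isIdempotentElem_forall_liesOver_eq p t₁
  exact main_mid N p A₁ B₁ N₁ f₁ t₁' t₁ P₁ himp R' P e P' hP'q heP' hbij huniq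
    (Localization.Away e)

end helpers

/-- Ring form, X = Spec B affine: let B be a finite type A-algebra, N a finite B-module and p a prime of
A. If there is an impurity of N above p whose base change A → A' is of finite type and quasi-finite
at the point t, then there is an impurity of N above p for which (A', t) is an elementary étale ring
map at p. -/
theorem result {A B : Type u} [CommRing A] [CommRing B] [Algebra A B] [Algebra.FiniteType A B]
    (N : Type u) [AddCommGroup N] [Module B N] [Module.Finite B N] (p : Ideal A) [p.IsPrime]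
    (h : FlatCA.HasImpurity A B N p (fun A' _ _ t => ∃ _ : t.IsPrime, Algebra.FiniteType A A' ∧ Algebra.QuasiFiniteAt A t)) :
    FlatCA.HasImpurity A B N p (fun A' _ _ t => ∃ _ : t.IsPrime, FlatCA.IsEtaleNhd A A' p t) := by
  exact main N p h

end Groth.Agent.S1246
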