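import Groth.Statements.S1226
import Mathlib
import Groth.Agent.S1246

set_option autoImplicit false
universe u
open FlatMor

namespace Groth.Agent.S1226

section helpers

open scoped TensorProduct

theorem quasiFiniteAt_trans {A A' A'' : Type u} [CommRing A] [CommRing A'] [CommRing A'']
    [Algebra A A'] [Algebra A' A''] [Algebra A A''] [IsScalarTower A A' A'']
    (p' : Ideal A') [p'.IsPrime] (t : Ideal A'') [t.IsPrime] [t.LiesOver p']
    [Algebra.QuasiFiniteAt A p'] [Algebra.QuasiFinite A' A''] : Algebra.QuasiFiniteAt A t := by
  letI := Localization.AtPrime.algebraOfLiesOver p' t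
  haveI : Algebra.QuasiFinite A' (Localization.AtPrime t) := inferInstance
  haveI : Algebra.QuasiFinite (Localization.AtPrime p') (Localization.AtPrime t) :=
    Algebra.QuasiFinite.of_restrictScalars A' _ _
  exact Algebra.QuasiFinite.trans A (Localization.AtPrime p') (Localization.AtPrime t)

theorem main {A B : Type u} [CommRing A] [CommRing B] [Algebra A B] [Algebra.FiniteType A B]
    (N : Type u) [AddCommGroup N] [Module B N] [Module.Finite B N] (p : Ideal A) [p.IsPrime]
    (A' B' N' : Type u) [CommRing A'] [CommRing B'] [Algebra A A'] [Algebra B B'] [Algebra A' B']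
    [Algebra A B']
    [IsScalarTower A B B'] [IsScalarTower A A' B'] [Algebra.IsPushout A B A' B']
    [AddCommGroup N'] [Module B' N'] [Module B N'] [IsScalarTower B B' N'] (g : N →ₗ[B] N')
    (hg : IsBaseChange B' g)
    (p' : Ideal A') [p'.IsPrime] [hp' : p'.LiesOver p] [Algebra.FiniteType A A']
    [Algebra.QuasiFiniteAt A p']
    (h : FlatCA.IsPureAlong A B N p) : FlatCA.IsPureAlong A' B' N' p' := by
  intro A'' B'' N'' _ _ _ _ _ _ _ _ _ _ _ _ _ _ f t' t _ _ P _ hnhd himp
  obtain ⟨hpush, hbc, hle, hover, hPover, hass, hcl⟩ := himp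
  letI : Algebra A A'' := ((algebraMap A' A'').comp (algebraMap A A')).toAlgebra
  letI : Algebra B B'' := ((algebraMap B' B'').comp (algebraMap B B')).toAlgebra
  letI : Algebra A B'' := ((algebraMap A'' B'').comp (algebraMap A A'')).toAlgebra
  haveI : IsScalarTower A A' A'' := .of_algebraMap_eq fun _ => rfl
  haveI : IsScalarTower B B' B'' := .of_algebraMap_eq fun _ => rfl
  haveI : IsScalarTower A A'' B'' := .of_algebraMap_eq fun _ => rfl
  have e1 : ∀ x : A, algebraMap A B'' x = algebraMap B' B'' (algebraMap A B' x) := by
    intro x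
    change algebraMap A'' B'' (algebraMap A' A'' (algebraMap A A' x)) = _
    rw [← IsScalarTower.algebraMap_apply A' A'' B'', IsScalarTower.algebraMap_apply A' B' B'',
      ← IsScalarTower.algebraMap_apply A A' B']
  haveI : IsScalarTower A B' B'' := .of_algebraMap_eq e1
  haveI : IsScalarTower A B B'' := .of_algebraMap_eq fun x => by
    rw [e1, IsScalarTower.algebraMap_apply A B B']
    rfl
  letI : Module B N'' := Module.compHom N'' (algebraMap B B')
  haveI : IsScalarTower B B' N'' := ⟨fun b b' n => by
    change (b • b') • n = algebraMap B B' b • (b' • n)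
    rw [Algebra.smul_def, mul_smul]⟩
  haveI : IsScalarTower B B'' N'' := ⟨fun b b'' n => by
    change (b • b'') • n = algebraMap B B' b • (b'' • n)
    rw [Algebra.smul_def, mul_smul, IsScalarTower.algebraMap_apply B B' B'',
      ← algebraMap_smul B'' (algebraMap B B' b) (b'' • n)]⟩
  have himp' : FlatCA.IsImpurity A B N p A'' B'' N'' ((f.restrictScalars B).comp g) t' t P := by
    refine ⟨?_, ?_, hle, ?_, hPover, hass, hcl⟩
    · have h1 : Algebra.IsPushout A A' B B' := Algebra.IsPushout.symm inferInstance
      have h2 : Algebra.IsPushout A' A'' B' B'' := Algebra.IsPushout.symm hpush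
      have h3 : Algebra.IsPushout A A'' B B'' :=
        (Algebra.IsPushout.comp_iff A A' B B' (T := A'') (T' := B'')).mpr h2
      exact Algebra.IsPushout.symm h3
    · exact IsBaseChange.comp hg hbc
    · exact Ideal.LiesOver.trans t p' p
  haveI : Algebra.Etale A' A'' := hnhd.1
  haveI : Algebra.FiniteType A' A'' := inferInstance
  haveI : Algebra.FiniteType A A'' := Algebra.FiniteType.trans ‹Algebra.FiniteType A A'› ‹_›
  haveI : t.LiesOver p' := hover
  have hqf : Algebra.QuasiFiniteAt A t := quasiFiniteAt_trans p' t
  obtain ⟨A₃, B₃, N₃, _, _, _, _, _, _, _, _, _, _, _, _, _, _, f₃, t₃', t₃, _, _, P₃, _, himp₃,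
    _, hnhd₃⟩ := Groth.Agent.S1246.result N p ⟨A'', B'', N'', inferInstance, inferInstance,
      inferInstance, inferInstance, inferInstance, inferInstance, inferInstance, inferInstance,
      inferInstance, inferInstance, inferInstance, inferInstance, inferInstance, inferInstance,
      _, t', t, inferInstance, inferInstance, P, inferInstance, himp', inferInstance,
      inferInstance, hqf⟩
  exact h A₃ B₃ N₃ f₃ t₃' t₃ P₃ hnhd₃ himp₃

end helpers

/-- Ring form, X = Spec B affine: let B be a finite type A-algebra, N a finite B-module and p a prime of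
A; let A' be an A-algebra with a prime p' over p such that A' is of finite type over A and
quasi-finite at p', and let B', N' be the base changes of B, N. If N is pure along the fibre over p
then N' is pure along the fibre over p'. -/
theorem result {A B : Type u} [CommRing A] [CommRing B] [Algebra A B] [Algebra.FiniteType A B]
    (N : Type u) [AddCommGroup N] [Module B N] [Module.Finite B N] (p : Ideal A) [p.IsPrime]
    (A' B' N' : Type u) [CommRing A'] [CommRing B'] [Algebra A A'] [Algebra B B'] [Algebra A' B'] [Algebra A B']
    [IsScalarTower A B B'] [IsScalarTower A A' B'] [Algebra.IsPushout A B A' B']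
    [AddCommGroup N'] [Module B' N'] [Module B N'] [IsScalarTower B B' N'] (f : N →ₗ[B] N') (hf : IsBaseChange B' f)
    (p' : Ideal A') [p'.IsPrime] [p'.LiesOver p] [Algebra.FiniteType A A'] [Algebra.QuasiFiniteAt A p']
    (h : FlatCA.IsPureAlong A B N p) : FlatCA.IsPureAlong A' B' N' p' := by
  exact main N p A' B' N' f hf p' h

end Groth.Agent.S1226
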