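import Groth.Statements.S9008
import Mathlib

set_option autoImplicit false
universe u
open FlatMor

namespace Groth.Agent.S9008

theorem etaleNhd_self (A' : Type u) [CommRing A'] (t : Ideal A') [t.IsPrime] :
    FlatCA.IsEtaleNhd A' A' t t := by
  have h : t.LiesOver t := ⟨rfl⟩
  refine ⟨inferInstance, ⟨h, ?_⟩⟩
  have : Ideal.ResidueField.mapₐ t t (Algebra.ofId A' A') h.over = AlgHom.id _ _ := by
    ext
  rw [this]
  exact Function.bijective_id

theorem backward {A B : Type u} [CommRing A] [CommRing B] [Algebra A B] (N : Type u) [AddCommGroup N] [Module B N] (p : Ideal A) [p.IsPrime]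
    (H : ∀ (A' B' N' : Type u) [CommRing A'] [CommRing B'] [Algebra A A'] [Algebra B B'] [Algebra A' B'] [Algebra A B'] [IsScalarTower A B B'] [IsScalarTower A A' B'] [Algebra.IsPushout A B A' B'] [AddCommGroup N'] [Module B' N'] [Module B N'] [IsScalarTower B B' N'] (g : N →ₗ[B] N'), IsBaseChange B' g → ∀ (p' : Ideal A') [p'.IsPrime], p'.LiesOver p → FlatCA.IsPureAlong A' B' N' p') :
    FlatCA.IsUnivPureAlong A B N p := by
  intro A' B' N' _ _ _ _ _ _ _ _ _ _ _ _ _ _ f t' t _ _ P _ himp
  obtain ⟨hpush, hbc, hle, hover, hPover, hass, hcl⟩ := himp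
  have hpure := H A' B' N' f hbc t hover
  refine hpure A' B' N' LinearMap.id t' t P (etaleNhd_self A' t) ⟨inferInstance, ?_, hle, ⟨rfl⟩, hPover, hass, hcl⟩
  exact IsBaseChange.ofEquiv (LinearEquiv.refl B' N')

theorem forward {A B : Type u} [CommRing A] [CommRing B] [Algebra A B] (N : Type u) [AddCommGroup N] [Module B N] (p : Ideal A) [p.IsPrime]
    (H : FlatCA.IsUnivPureAlong A B N p)
    (A' B' N' : Type u) [CommRing A'] [CommRing B'] [Algebra A A'] [Algebra B B'] [Algebra A' B'] [Algebra A B'] [IsScalarTower A B B'] [IsScalarTower A A' B'] [Algebra.IsPushout A B A' B'] [AddCommGroup N'] [Module B' N'] [Module B N'] [IsScalarTower B B' N'] (g : N →ₗ[B] N') (hg : IsBaseChange B' g) (p' : Ideal A') [p'.IsPrime] (hp' : p'.LiesOver p) : FlatCA.IsPureAlong A' B' N' p' := by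
  intro A'' B'' N'' _ _ _ _ _ _ _ _ _ _ _ _ _ _ f t' t _ _ P _ hnhd himp
  obtain ⟨hpush, hbc, hle, hover, hPover, hass, hcl⟩ := himp
  letI : Algebra A A'' := ((algebraMap A' A'').comp (algebraMap A A')).toAlgebra
  letI : Algebra B B'' := ((algebraMap B' B'').comp (algebraMap B B')).toAlgebra
  letI : Algebra A B'' := ((algebraMap A'' B'').comp (algebraMap A A'')).toAlgebra
  haveI : IsScalarTower A A' A'' := .of_algebraMap_eq fun _ => rfl
  haveI : IsScalarTower B B' B'' := .of_algebraMap_eq fun _ => rfl
  haveI : IsScalarTower A A'' B'' := .of_algebraMap_eq fun _ => rfl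
  have e1 : ∀ x : A, algebraMap A B'' x = algebraMap B' B'' (algebraMap A B' x) := by
    intro x
    change algebraMap A'' B'' (algebraMap A' A'' (algebraMap A A' x)) = _
    rw [← IsScalarTower.algebraMap_apply A' A'' B'', IsScalarTower.algebraMap_apply A' B' B'',
      ← IsScalarTower.algebraMap_apply A A' B']
  haveI : IsScalarTower A B' B'' := .of_algebraMap_eq e1
  haveI : IsScalarTower A B B'' := .of_algebraMap_eq fun x => by
    rw [e1, IsScalarTower.algebraMap_apply A B B']
    rfl
  letI : Module B N'' := Module.compHom N'' (algebraMap B B')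
  haveI : IsScalarTower B B' N'' := ⟨fun b b' n => by
    change (b • b') • n = algebraMap B B' b • (b' • n)
    rw [Algebra.smul_def, mul_smul]⟩
  haveI : IsScalarTower B B'' N'' := ⟨fun b b'' n => by
    change (b • b'') • n = algebraMap B B' b • (b'' • n)
    rw [Algebra.smul_def, mul_smul, IsScalarTower.algebraMap_apply B B' B'',
      ← algebraMap_smul B'' (algebraMap B B' b) (b'' • n)]⟩
  refine H A'' B'' N'' ((f.restrictScalars B).comp g) t' t P ⟨?_, ?_, hle, ?_, hPover, hass, hcl⟩
  · have h1 : Algebra.IsPushout A A' B B' := Algebra.IsPushout.symm inferInstance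
    have h2 : Algebra.IsPushout A' A'' B' B'' := Algebra.IsPushout.symm hpush
    have h3 : Algebra.IsPushout A A'' B B'' := (Algebra.IsPushout.comp_iff A A' B B' (T := A'') (T' := B'')).mpr h2
    exact Algebra.IsPushout.symm h3
  · exact IsBaseChange.comp hg hbc
  · exact Ideal.LiesOver.trans t p' p



/-- For Spec B → Spec A affine of finite type: a finite B-module is universally pure along the fibre
over a prime p of A exactly when every base change of it along a ring map A → A' is pure along the
fibre over every prime of A' above p. -/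
theorem result {A B : Type u} [CommRing A] [CommRing B] [Algebra A B] [Algebra.FiniteType A B] (N : Type u) [AddCommGroup N] [Module B N] [Module.Finite B N] (p : Ideal A) [p.IsPrime] : FlatCA.IsUnivPureAlong A B N p ↔ ∀ (A' B' N' : Type u) [CommRing A'] [CommRing B'] [Algebra A A'] [Algebra B B'] [Algebra A' B'] [Algebra A B'] [IsScalarTower A B B'] [IsScalarTower A A' B'] [Algebra.IsPushout A B A' B'] [AddCommGroup N'] [Module B' N'] [Module B N'] [IsScalarTower B B' N'] (g : N →ₗ[B] N'), IsBaseChange B' g → ∀ (p' : Ideal A') [p'.IsPrime], p'.LiesOver p → FlatCA.IsPureAlong A' B' N' p' := by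
  constructor
  · intro H A' B' N' _ _ _ _ _ _ _ _ _ _ _ _ _ g hg p' _ hp'
    exact forward N p H A' B' N' g hg p' hp'
  · intro H
    exact backward N p H

end Groth.Agent.S9008
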