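import Groth.Statements.S1222
import Mathlib
import Groth.Agent.Lib.PurityBC7
import Groth.Agent.Lib.SupportBaseChange
import Groth.Agent.S1226
import Groth.Agent.S1224
import Groth.Agent.S9008

set_option autoImplicit false
universe u
open FlatMor

namespace Groth.Agent.S1222

section helpers

open scoped TensorProduct
open Groth.Agent.Lib.PurityBC7 Groth.Agent.Lib.SupportBaseChange

attribute [local instance] Algebra.TensorProduct.rightAlgebra

/-- Lemma 1: finite fibre support ⇒ finitely many primes of `B/Ann N` over `p`. -/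
theorem finite_primesOver_quot {A B : Type u} [CommRing A] [CommRing B] [Algebra A B]
    (N : Type u) [AddCommGroup N] [Module B N] [Module A N] [IsScalarTower A B N]
    [Module.Finite B N] (p : Ideal A) [p.IsPrime]
    (hfin : (Module.support (p.Fiber B) (FlatCA.fiberMod p B N)).Finite) :
    (p.primesOver (B ⧸ Module.annihilator B N)).Finite := by
  let g : PrimeSpectrum (p.Fiber B) → Ideal (B ⧸ Module.annihilator B N) := fun Q =>
    (Q.asIdeal.comap (fiberIncl (B := B) p)).map (Ideal.Quotient.mk (Module.annihilator B N))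
  refine (hfin.image g).subset ?_
  rintro q' ⟨hq'prime, hq'over⟩
  haveI := hq'prime
  set q := q'.comap (Ideal.Quotient.mk (Module.annihilator B N)) with hqdef
  haveI : q.IsPrime := Ideal.comap_isPrime _ _
  haveI : q.LiesOver p := ⟨by
    rw [hq'over.over, hqdef, Ideal.under_def, Ideal.under_def, Ideal.comap_comap]
    rfl⟩
  obtain ⟨h1, h2⟩ := fiberIdeal_isPrime_comap p q
  refine ⟨⟨FlatCA.fiberIdeal p q, h1⟩, ?_, ?_⟩
  · change (⟨FlatCA.fiberIdeal p q, h1⟩ : PrimeSpectrum (p.Fiber B)) ∈
      Module.support (p.Fiber B) ((p.Fiber B) ⊗[B] N)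
    rw [mem_support_baseChange_iff, Module.mem_support_iff_of_finite]
    change Module.annihilator B N ≤ (FlatCA.fiberIdeal p q).comap (algebraMap B (p.Fiber B))
    have : (FlatCA.fiberIdeal p q).comap (algebraMap B (p.Fiber B)) = q := h2
    rw [this, hqdef]
    intro x hx
    rw [Ideal.mem_comap, Ideal.Quotient.eq_zero_iff_mem.mpr hx]
    exact Ideal.zero_mem _
  · change ((FlatCA.fiberIdeal p q).comap (fiberIncl (B := B) p)).map _ = q'
    rw [h2, hqdef]
    exact Ideal.map_comap_of_surjective _ Ideal.Quotient.mk_surjective q'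

theorem quasiFinite_quot {A B : Type u} [CommRing A] [CommRing B] [Algebra A B]
    [Algebra.FiniteType A B]
    (N : Type u) [AddCommGroup N] [Module B N] [Module A N] [IsScalarTower A B N]
    [Module.Finite B N]
    (hfin : ∀ (p : Ideal A) [p.IsPrime],
      (Module.support (p.Fiber B) (FlatCA.fiberMod p B N)).Finite) :
    Algebra.QuasiFinite A (B ⧸ Module.annihilator B N) := by
  rw [Algebra.QuasiFinite.iff_finite_primesOver]
  intro p hp
  exact finite_primesOver_quot N p (hfin p)


/-- Lemma 2: global form of Zariski's main theorem for quasi-finite algebras of finite type. -/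
theorem exists_finite_subalgebra {A C : Type u} [CommRing A] [CommRing C] [Algebra A C]
    [Algebra.FiniteType A C] [Algebra.QuasiFinite A C] :
    ∃ F : Subalgebra A C, F.toSubmodule.FG ∧ ∃ s : Finset C, (∀ x ∈ s, x ∈ F) ∧
      Ideal.span (s : Set C) = ⊤ ∧ ∀ x ∈ s, ∀ c : C, ∃ m : ℕ, x ^ m * c ∈ F := by
  classical
  have H : ∀ q : PrimeSpectrum C, ∃ S' : Subalgebra A C, S'.toSubmodule.FG ∧ ∃ r : S',
      r.1 ∉ q.asIdeal ∧ Function.Bijective (Localization.awayMap S'.val.toRingHom r) := fun q =>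
    Algebra.QuasiFiniteAt.exists_fg_and_exists_notMem_and_awayMap_bijective q.asIdeal
  choose S' hS' r hrq hbij using H
  have hspan : Ideal.span (Set.range fun q => (r q).1) = ⊤ := by
    by_contra h
    obtain ⟨m, hm, hle⟩ := Ideal.exists_le_maximal _ h
    exact hrq ⟨m, hm.isPrime⟩ (hle (Ideal.subset_span ⟨_, rfl⟩))
  obtain ⟨s, hs, hs1⟩ := (Ideal.span_eq_top_iff_finite _).mp hspan
  have hs' : ∀ x : s, ∃ q, (r q).1 = x.1 := fun x => hs x.2
  choose qx hqx using hs'
  choose G hG using hS'
  have hint : ∀ q, ∀ x ∈ S' q, IsIntegral A x := fun q x hx =>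
    IsIntegral.of_mem_of_fg (S' q) ⟨G q, hG q⟩ x hx
  let T : Set C := ⋃ x : s, (G (qx x) : Set C)
  have hTfin : T.Finite := Set.finite_iUnion fun x => (G (qx x)).finite_toSet
  have hGsub : ∀ q, (G q : Set C) ⊆ S' q := fun q y hy => by
    have : y ∈ (S' q).toSubmodule := by
      rw [← hG q]; exact Submodule.subset_span hy
    exact this
  have hTint : ∀ y ∈ T, IsIntegral A y := by
    intro y hy
    simp only [T, Set.mem_iUnion] at hy
    obtain ⟨x, hy⟩ := hy
    exact hint (qx x) y (hGsub _ hy)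
  have hle : ∀ x : s, S' (qx x) ≤ Algebra.adjoin A T := by
    intro x y hy
    have hy' : y ∈ (S' (qx x)).toSubmodule := hy
    rw [← hG (qx x)] at hy'
    have h2 : Submodule.span A (G (qx x) : Set C) ≤ (Algebra.adjoin A T).toSubmodule := by
      rw [Submodule.span_le]
      intro z hz
      apply Algebra.subset_adjoin
      simp only [T, Set.mem_iUnion]
      exact ⟨x, hz⟩
    exact h2 hy'
  refine ⟨Algebra.adjoin A T, fg_adjoin_of_finite hTfin hTint, s, ?_, hs1, ?_⟩
  · intro x hx
    apply hle ⟨x, hx⟩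
    have h3 : ((r (qx ⟨x, hx⟩)) : C) = x := hqx ⟨x, hx⟩
    have h4 := (r (qx ⟨x, hx⟩)).2
    rwa [h3] at h4
  · intro x hx c
    obtain ⟨b, m, hb⟩ := Localization.awayMap_surjective_iff.mp (hbij (qx ⟨x, hx⟩)).2 c
    refine ⟨m, ?_⟩
    have h3 : ((r (qx ⟨x, hx⟩)) : C) = x := hqx ⟨x, hx⟩
    have : x ^ m * c = (b : C) := by
      have hb' : (b : C) = ((r (qx ⟨x, hx⟩)) : C) ^ m * c := hb
      rw [hb', h3]
    rw [this]
    exact hle ⟨x, hx⟩ b.2

/-- Lemma 3: if every prime of `F` is a contraction from `C` then `C` is finite. -/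
theorem finite_of_forall_exists_comap {A C : Type u} [CommRing A] [CommRing C] [Algebra A C]
    (F : Subalgebra A C) (hF : F.toSubmodule.FG) (s : Finset C) (hsF : ∀ x ∈ s, x ∈ F)
    (hs1 : Ideal.span (s : Set C) = ⊤) (hpow : ∀ x ∈ s, ∀ c : C, ∃ m : ℕ, x ^ m * c ∈ F)
    (hall : ∀ r : Ideal F, r.IsPrime → ∃ q : Ideal C, q.IsPrime ∧ q.comap (algebraMap F C) = r) :
    Module.Finite A C := by
  have htop : F = ⊤ := by
    rw [eq_top_iff]
    intro c _
    let J : Ideal F :=
      { carrier := {a | (a : C) * c ∈ F}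
        add_mem' := fun {a b} ha hb => by
          simp only [Set.mem_setOf_eq, Subalgebra.coe_add, add_mul] at *
          exact F.add_mem ha hb
        zero_mem' := by simp
        smul_mem' := fun a b hb => by
          simp only [Set.mem_setOf_eq, smul_eq_mul, Subalgebra.coe_mul, mul_assoc] at *
          exact F.mul_mem a.2 hb }
    by_cases hJ : J = ⊤
    · have : (1 : F) ∈ J := hJ ▸ Submodule.mem_top
      simpa [J] using this
    · exfalso
      obtain ⟨m, hm, hle⟩ := Ideal.exists_le_maximal _ hJ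
      obtain ⟨q, hq, hqm⟩ := hall m hm.isPrime
      have hex : ∃ x ∈ s, x ∉ q := by
        by_contra hcon
        push_neg at hcon
        have : Ideal.span (s : Set C) ≤ q := Ideal.span_le.mpr fun x hx => hcon x hx
        rw [hs1] at this
        exact hq.ne_top (top_le_iff.mp this)
      obtain ⟨x, hx, hxq⟩ := hex
      obtain ⟨k, hk⟩ := hpow x hx c
      have hxk : (⟨x, hsF x hx⟩ : F) ^ k ∈ J := by
        change ((⟨x, hsF x hx⟩ : F) ^ k : F).1 * c ∈ F
        simpa using hk
      have hxm : (⟨x, hsF x hx⟩ : F) ∈ m := hm.isPrime.mem_of_pow_mem _ (hle hxk)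
      rw [← hqm] at hxm
      exact hxq hxm
  rw [Module.finite_def, ← Algebra.top_toSubmodule, ← htop]
  exact hF


theorem mem_support_of_isBaseChange {B B₁ : Type u} [CommRing B] [CommRing B₁] [Algebra B B₁]
    {N N₁ : Type u} [AddCommGroup N] [Module B N] [Module.Finite B N] [AddCommGroup N₁]
    [Module B₁ N₁] [Module B N₁] [IsScalarTower B B₁ N₁]
    (f : N →ₗ[B] N₁) (hf : IsBaseChange B₁ f) (x : PrimeSpectrum B₁) :
    x ∈ Module.support B₁ N₁ ↔
      PrimeSpectrum.comap (algebraMap B B₁) x ∈ Module.support B N := by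
  rw [← mem_support_baseChange_iff N x, LinearEquiv.support_eq hf.equiv]

/-- A prime in the fibre, minimal in the support of `N₁`, gives an associated prime of the fibre
module. -/
theorem fiberIdeal_mem_ass_of_minimal {F B₁ : Type u} [CommRing F] [CommRing B₁] [Algebra F B₁]
    [Algebra.FiniteType F B₁]
    (N₁ : Type u) [AddCommGroup N₁] [Module B₁ N₁] [Module.Finite B₁ N₁]
    [Module F N₁] [IsScalarTower F B₁ N₁]
    (r₀ : Ideal F) [r₀.IsPrime] (Q : Ideal B₁) [Q.IsPrime] [Q.LiesOver r₀]
    (hQann : Module.annihilator B₁ N₁ ≤ Q)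
    (hQmin : ∀ Q' : Ideal B₁, Q'.IsPrime → Module.annihilator B₁ N₁ ≤ Q' → Q' ≤ Q → Q ≤ Q') :
    FlatCA.fiberIdeal r₀ Q ∈ associatedPrimes (r₀.Fiber B₁) (FlatCA.fiberMod r₀ B₁ N₁) := by
  obtain ⟨h1, h2⟩ := fiberIdeal_isPrime_comap r₀ Q
  haveI : IsNoetherianRing (r₀.Fiber B₁) :=
    Algebra.FiniteType.isNoetherianRing r₀.ResidueField (r₀.Fiber B₁)
  change FlatCA.fiberIdeal r₀ Q ∈ associatedPrimes (r₀.Fiber B₁) ((r₀.Fiber B₁) ⊗[B₁] N₁)
  apply Module.associatedPrimes.minimalPrimes_annihilator_subset_associatedPrimes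
  have key : ∀ (𝔮 : Ideal (r₀.Fiber B₁)) (h𝔮 : 𝔮.IsPrime),
      Module.annihilator (r₀.Fiber B₁) ((r₀.Fiber B₁) ⊗[B₁] N₁) ≤ 𝔮 ↔
        Module.annihilator B₁ N₁ ≤ 𝔮.comap (fiberIncl (B := B₁) r₀) := by
    intro 𝔮 h𝔮
    rw [← Module.mem_support_iff_of_finite (p := ⟨𝔮, h𝔮⟩), mem_support_baseChange_iff,
      Module.mem_support_iff_of_finite]
    rfl
  refine ⟨⟨h1, (key _ h1).mpr (by rw [h2]; exact hQann)⟩, ?_⟩
  rintro 𝔮 ⟨h𝔮, h𝔮ann⟩ h𝔮le
  haveI := h𝔮
  have h3 : Q ≤ 𝔮.comap (fiberIncl (B := B₁) r₀) := by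
    apply hQmin _ (Ideal.comap_isPrime _ _) ((key 𝔮 h𝔮).mp h𝔮ann)
    rw [← h2]
    exact Ideal.comap_mono h𝔮le
  calc FlatCA.fiberIdeal r₀ Q ≤ FlatCA.fiberIdeal r₀ (𝔮.comap (fiberIncl (B := B₁) r₀)) :=
        Ideal.map_mono h3
    _ = 𝔮 := fiberIdeal_comap r₀ 𝔮


theorem not_isPureAlong_of_missing_prime {A B : Type u} [CommRing A] [CommRing B] [Algebra A B]
    [Algebra.FiniteType A B]
    (N : Type u) [AddCommGroup N] [Module B N] [Module.Finite B N]
    (C : Type u) [CommRing C] [Algebra A C] [Algebra B C] [IsScalarTower A B C]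
    (hsurj : Function.Surjective (algebraMap B C))
    (hker : RingHom.ker (algebraMap B C) = Module.annihilator B N)
    (F : Type u) [CommRing F] [Algebra A F] [Module.Finite A F] [Algebra F C]
    [IsScalarTower A F C]
    (hinj : Function.Injective (algebraMap F C))
    (r : Ideal F) [r.IsPrime] (hr : ∀ q : Ideal C, q.IsPrime → q.comap (algebraMap F C) ≠ r)
    (B₁ N₁ : Type u) [CommRing B₁] [Algebra B B₁] [Algebra F B₁] [Algebra A B₁]
    [IsScalarTower A B B₁] [IsScalarTower A F B₁]
    (hpush : Algebra.IsPushout A B F B₁)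
    [AddCommGroup N₁] [Module B₁ N₁] [Module B N₁] [IsScalarTower B B₁ N₁]
    [Module F N₁] [IsScalarTower F B₁ N₁]
    (f : N →ₗ[B] N₁) (hf : IsBaseChange B₁ f) :
    ¬ FlatCA.IsPureAlong F B₁ N₁ r := by
  intro hpure
  -- minimal primes
  obtain ⟨r₀, hr₀min, hr₀le⟩ := Ideal.exists_minimalPrimes_le (bot_le : (⊥ : Ideal F) ≤ r)
  haveI hr₀prime : r₀.IsPrime := hr₀min.1.1
  obtain ⟨q₁, hq₁prime, hq₁⟩ :=
    Ideal.exists_comap_eq_of_mem_minimalPrimes_of_injective hinj r₀ hr₀min
  obtain ⟨q₀, hq₀min, hq₀le⟩ := Ideal.exists_minimalPrimes_le (bot_le : (⊥ : Ideal C) ≤ q₁)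
  haveI hq₀prime : q₀.IsPrime := hq₀min.1.1
  have hq₀F : q₀.comap (algebraMap F C) = r₀ := by
    apply le_antisymm
    · rw [← hq₁]; exact Ideal.comap_mono hq₀le
    · exact hr₀min.2 ⟨Ideal.comap_isPrime _ _, bot_le⟩
        (by rw [← hq₁]; exact Ideal.comap_mono hq₀le)
  -- the map μ : B₁ → C
  haveI := hpush
  let μ : B₁ →ₐ[A] C := Algebra.pushoutDesc B₁ (IsScalarTower.toAlgHom A B C)
    (IsScalarTower.toAlgHom A F C) (fun _ _ => Commute.all _ _)
  have hμB : ∀ b, μ (algebraMap B B₁ b) = algebraMap B C b := fun b =>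
    Algebra.pushoutDesc_left B₁ _ _ _ b
  have hμF : ∀ x, μ (algebraMap F B₁ x) = algebraMap F C x := fun x =>
    Algebra.pushoutDesc_right B₁ _ _ _ x
  have hμsurj : Function.Surjective μ := fun c => by
    obtain ⟨b, rfl⟩ := hsurj c
    exact ⟨_, hμB b⟩
  set Q : Ideal B₁ := q₀.comap μ.toRingHom with hQ
  haveI hQprime : Q.IsPrime := Ideal.comap_isPrime _ _
  have hcompF : ∀ I : Ideal C, (I.comap μ.toRingHom).comap (algebraMap F B₁) =
      I.comap (algebraMap F C) := by
    intro I
    rw [Ideal.comap_comap]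
    congr 1
    ext x
    exact hμF x
  have hcompB : ∀ I : Ideal C, (I.comap μ.toRingHom).comap (algebraMap B B₁) =
      I.comap (algebraMap B C) := by
    intro I
    rw [Ideal.comap_comap]
    congr 1
    ext x
    exact hμB x
  have hQF : Q.comap (algebraMap F B₁) = r₀ := by rw [hQ, hcompF, hq₀F]
  have hQB : Q.comap (algebraMap B B₁) = q₀.comap (algebraMap B C) := by rw [hQ, hcompB]
  haveI : Q.LiesOver r₀ := ⟨hQF.symm⟩
  -- finiteness
  haveI : Algebra.FiniteType F B₁ :=
    Algebra.FiniteType.equiv (inferInstance : Algebra.FiniteType F (F ⊗[A] B))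
      (Algebra.IsPushout.equiv A F B B₁ (h := hpush.symm))
  haveI : Module.Finite B₁ N₁ := Module.Finite.equiv hf.equiv
  haveI : Algebra.IsIntegral B B₁ := Algebra.IsPushout.isIntegral' A B F B₁
  -- annihilator description
  have hann : ∀ (Q' : Ideal B₁) (hQ' : Q'.IsPrime), Module.annihilator B₁ N₁ ≤ Q' ↔
      Module.annihilator B N ≤ Q'.comap (algebraMap B B₁) := by
    intro Q' hQ'
    rw [← Module.mem_support_iff_of_finite (p := ⟨Q', hQ'⟩), mem_support_of_isBaseChange f hf,
      Module.mem_support_iff_of_finite]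
    rfl
  have hkerle : ∀ I : Ideal C, Module.annihilator B N ≤ I.comap (algebraMap B C) := by
    intro I
    rw [← hker]
    exact Ideal.comap_mono bot_le
  have hQann : Module.annihilator B₁ N₁ ≤ Q := by
    rw [hann Q hQprime, hQB]
    exact hkerle _
  have hQmin : ∀ Q' : Ideal B₁, Q'.IsPrime → Module.annihilator B₁ N₁ ≤ Q' → Q' ≤ Q →
      Q ≤ Q' := by
    intro Q' hQ' hQ'ann hQ'le
    haveI := hQ'
    have h1 : Module.annihilator B N ≤ Q'.comap (algebraMap B B₁) := (hann Q' hQ').mp hQ'ann
    haveI : (Q'.comap (algebraMap B B₁)).IsPrime := Ideal.comap_isPrime _ _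
    have hk : RingHom.ker (algebraMap B C) ≤ Q'.comap (algebraMap B B₁) := by rw [hker]; exact h1
    haveI hq''prime : ((Q'.comap (algebraMap B B₁)).map (algebraMap B C)).IsPrime :=
      Ideal.map_isPrime_of_surjective hsurj hk
    have h2 : (Q'.comap (algebraMap B B₁)).map (algebraMap B C) ≤ q₀ := by
      rw [Ideal.map_le_iff_le_comap, ← hQB]
      exact Ideal.comap_mono hQ'le
    have h3 : q₀ ≤ (Q'.comap (algebraMap B B₁)).map (algebraMap B C) :=
      hq₀min.2 ⟨hq''prime, bot_le⟩ h2
    have h4 : Q.comap (algebraMap B B₁) ≤ Q'.comap (algebraMap B B₁) := by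
      rw [hQB]
      calc q₀.comap (algebraMap B C)
          ≤ ((Q'.comap (algebraMap B B₁)).map (algebraMap B C)).comap (algebraMap B C) :=
            Ideal.comap_mono h3
        _ = Q'.comap (algebraMap B B₁) := by
            rw [Ideal.comap_map_of_surjective _ hsurj, sup_eq_left]
            exact hk
    rcases lt_or_eq_of_le hQ'le with hlt | heq
    · exact absurd h4 (not_le_of_gt (Ideal.IsIntegral.comap_lt_comap (R := B) hlt))
    · exact heq.ge
  have hass := fiberIdeal_mem_ass_of_minimal N₁ r₀ Q hQann hQmin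
  -- the impurity
  refine hpure F B₁ N₁ LinearMap.id r₀ r Q (Groth.Agent.S9008.etaleNhd_self F r)
    ⟨inferInstance, IsBaseChange.ofEquiv (LinearEquiv.refl B₁ N₁), hr₀le, ⟨rfl⟩, inferInstance,
      hass, ?_⟩
  intro Q' hQ' hle hover
  have hk : RingHom.ker μ.toRingHom ≤ Q' := by
    refine le_trans ?_ hle
    rw [hQ]
    exact Ideal.comap_mono bot_le
  have hμsurj' : Function.Surjective μ.toRingHom := hμsurj
  haveI hQ''prime : (Q'.map μ.toRingHom).IsPrime := Ideal.map_isPrime_of_surjective hμsurj' hk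
  apply hr (Q'.map μ.toRingHom) hQ''prime
  have hk' : Ideal.comap μ.toRingHom ⊥ ≤ Q' := hk
  rw [← hcompF, Ideal.comap_map_of_surjective μ.toRingHom hμsurj', sup_eq_left.mpr hk']
  exact hover.over.symm


theorem false_of_missing_prime {A B : Type u} [CommRing A] [CommRing B] [Algebra A B]
    [Algebra.FiniteType A B]
    (N : Type u) [AddCommGroup N] [Module B N] [Module.Finite B N]
    (hpure : FlatCA.IsPure A B N)
    (C : Type u) [CommRing C] [Algebra A C] [Algebra B C] [IsScalarTower A B C]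
    (hsurj : Function.Surjective (algebraMap B C))
    (hker : RingHom.ker (algebraMap B C) = Module.annihilator B N)
    (F : Type u) [CommRing F] [Algebra A F] [Module.Finite A F] [Algebra F C]
    [IsScalarTower A F C]
    (hinj : Function.Injective (algebraMap F C))
    (r : Ideal F) [r.IsPrime] (hr : ∀ q : Ideal C, q.IsPrime → q.comap (algebraMap F C) ≠ r)
    (B₁ N₁ : Type u) [CommRing B₁] [Algebra B B₁] [Algebra F B₁] [Algebra A B₁]
    [IsScalarTower A B B₁] [IsScalarTower A F B₁]
    (hpush : Algebra.IsPushout A B F B₁)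
    [AddCommGroup N₁] [Module B₁ N₁] [Module B N₁] [IsScalarTower B B₁ N₁]
    [Module F N₁] [IsScalarTower F B₁ N₁]
    (f : N →ₗ[B] N₁) (hf : IsBaseChange B₁ f) : False := by
  haveI := hpush
  have h1 : FlatCA.IsPureAlong F B₁ N₁ r :=
    Groth.Agent.S1226.result N (r.under A) F B₁ N₁ f hf r (hpure (r.under A))
  exact not_isPureAlong_of_missing_prime N C hsurj hker F hinj r hr B₁ N₁ hpush f hf h1

theorem false_of_missing_prime' {A B : Type u} [CommRing A] [CommRing B] [Algebra A B]
    [Algebra.FiniteType A B]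
    (N : Type u) [AddCommGroup N] [Module B N] [Module.Finite B N]
    (hpure : FlatCA.IsPure A B N)
    (C : Type u) [CommRing C] [Algebra A C] [Algebra B C] [IsScalarTower A B C]
    (hsurj : Function.Surjective (algebraMap B C))
    (hker : RingHom.ker (algebraMap B C) = Module.annihilator B N)
    (F : Type u) [CommRing F] [Algebra A F] [Module.Finite A F] [Algebra F C]
    [IsScalarTower A F C]
    (hinj : Function.Injective (algebraMap F C))
    (r : Ideal F) [r.IsPrime] (hr : ∀ q : Ideal C, q.IsPrime → q.comap (algebraMap F C) ≠ r) :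
    False := by
  have hpush : Algebra.IsPushout A B F (F ⊗[A] B) := TensorProduct.isPushout'
  have hk : IsBaseChange (F ⊗[A] B) (TensorProduct.mk B (F ⊗[A] B) N 1) :=
    TensorProduct.isBaseChange B N _
  exact false_of_missing_prime N hpure C hsurj hker F hinj r hr (F ⊗[A] B)
    ((F ⊗[A] B) ⊗[B] N) hpush _ hk

theorem finite_of_isPure {A B : Type u} [CommRing A] [CommRing B] [Algebra A B]
    [Algebra.FiniteType A B]
    (N : Type u) [AddCommGroup N] [Module B N] [Module A N] [IsScalarTower A B N]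
    [Module.Finite B N]
    (hfin : ∀ (p : Ideal A) [p.IsPrime],
      (Module.support (p.Fiber B) (FlatCA.fiberMod p B N)).Finite)
    (hpure : FlatCA.IsPure A B N) : Module.Finite A (B ⧸ Module.annihilator B N) := by
  haveI : Algebra.QuasiFinite A (B ⧸ Module.annihilator B N) := quasiFinite_quot N hfin
  obtain ⟨F, hF, s, hsF, hs1, hpow⟩ :=
    exists_finite_subalgebra (A := A) (C := B ⧸ Module.annihilator B N)
  apply finite_of_forall_exists_comap F hF s hsF hs1 hpow
  intro r hr
  by_contra hcon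
  push_neg at hcon
  haveI := hr
  haveI : Module.Finite A F := ⟨(Submodule.fg_top _).mpr hF⟩
  exact false_of_missing_prime' N hpure (B ⧸ Module.annihilator B N)
    Ideal.Quotient.mk_surjective Ideal.mk_ker F Subtype.val_injective r (fun q hq => hcon q hq)

theorem main {A B : Type u} [CommRing A] [CommRing B] [Algebra A B] [Algebra.FiniteType A B]
    (N : Type u) [AddCommGroup N] [Module B N] [Module A N] [IsScalarTower A B N]
    [Module.Finite B N]
    (hfin : ∀ (p : Ideal A) [p.IsPrime],
      (Module.support (p.Fiber B) (FlatCA.fiberMod p B N)).Finite) :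
    [FlatCA.IsPure A B N, Module.Finite A (B ⧸ Module.annihilator B N),
      FlatCA.IsUnivPure A B N].TFAE := by
  tfae_have 1 → 2 := fun h => finite_of_isPure N hfin h
  tfae_have 2 → 3 := fun h => by
    haveI := h
    exact Groth.Agent.S1224.result N
  tfae_have 3 → 1 := fun h p hp A' B' N' _ _ _ _ _ _ _ _ _ _ _ _ _ _ f t' t _ _ P _ _ =>
    h p A' B' N' f t' t P
  tfae_finish

end helpers

/-- Ring form, X = Spec B affine hence separated over Spec A: let B be a finite type A-algebra and N a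
finite B-module such that for every prime p of A the fibre module of N over p has finite support.
Then the following are equivalent: N is pure relative to Spec A; the scheme-theoretic support of N,
namely B modulo the annihilator of N, is finite over A; N is universally pure relative to Spec A. -/
theorem result {A B : Type u} [CommRing A] [CommRing B] [Algebra A B] [Algebra.FiniteType A B]
    (N : Type u) [AddCommGroup N] [Module B N] [Module A N] [IsScalarTower A B N] [Module.Finite B N]
    (hfin : ∀ (p : Ideal A) [p.IsPrime], (Module.support (p.Fiber B) (FlatCA.fiberMod p B N)).Finite) :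
    [FlatCA.IsPure A B N, Module.Finite A (B ⧸ Module.annihilator B N), FlatCA.IsUnivPure A B N].TFAE := by
  exact main N hfin

end Groth.Agent.S1222
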