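import Groth.Statements.S12226
import Groth.Agent.Lib.HartogsConverse
import Groth.Agent.S14995
import Groth.Prelude.Def_ZClos
-- import your own Groth.Agent.* helpers here

set_option autoImplicit false
universe u
open CategoryTheory CategoryTheory.Limits AlgebraicGeometry TopologicalSpace
open LocCoh

namespace Groth.Agent.S12226

open Groth.Agent.Lib Groth.Agent.Lib.QCohStalk

theorem res_bijective_congr {X : Scheme.{u}} (E : X.Modules) {V W W' : X.Opens} (hW : W ≤ V)
    (hW' : W' ≤ V) (h : W = W') (hb : Function.Bijective (res E hW)) :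
    Function.Bijective (res E hW') := by
  subst h
  exact hb

/-- `j_* j^* F` has bijective restriction maps `Γ(V, -) → Γ(V ⊓ U, -)`. -/
theorem res_bijective_resPush {X : Scheme.{u}} (U : X.Opens) (F : X.Modules) (V : X.Opens) :
    Function.Bijective (res ((Scheme.Modules.pushforward U.ι).obj (F.restrict U.ι))
      (inf_le_left : V ⊓ U ≤ V)) := by
  have h1 := ZClos.isIso_unit_resPush (le_refl U) F
  rw [Scheme.Modules.Hom.isIso_iff_isIso_app] at h1
  have h2 := h1 V
  rw [ZClos.resPushUnit_app_app, ConcreteCategory.isIso_iff_bijective] at h2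
  refine res_bijective_congr _ (U.ι.image_preimage_le V) inf_le_left ?_ h2
  rw [ZClos.ι_image_preimage, inf_comm]

/-- Let j : U → X be the inclusion of an open subscheme of a Noetherian scheme X and F a coherent
O_X-module such that F' = j_*(F|_U) is coherent. Then (a) for every point x of X outside U the stalk
F'_x has depth at least 2 over O_{X,x}, and (b) F → F' is the unique map with these properties: for
every coherent O_X-module G and every map φ : F → G whose restriction to U is an isomorphism and
such that depth(G_x) ≥ 2 for all x outside U, there is exactly one map ψ : G → F' whose composite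
with φ is the canonical map F → j_*(F|_U), and this ψ is an isomorphism. (The compatibility of this
construction with flat base change is not part of this statement.) -/
theorem result (X : Scheme.{u}) [IsNoetherian X] (U : X.Opens)
    (F : X.Modules) (hF : Coh.IsCoh F) (hF' : Coh.IsCoh ((Coh.push U.ι).obj (F.restrict U.ι))) :
    (∀ x : ↥X, x ∉ U → (2 : ℕ∞) ≤ LocCoh.depth (X.presheaf.stalk x)
        (((Coh.push U.ι).obj (F.restrict U.ι)).presheaf.stalk x)) ∧
    ∀ (G : X.Modules) (hG : Coh.IsCoh G) (φ : F ⟶ G),
      IsIso ((Scheme.Modules.restrictFunctor U.ι).map φ) →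
      (∀ x : ↥X, x ∉ U → (2 : ℕ∞) ≤ LocCoh.depth (X.presheaf.stalk x) (G.presheaf.stalk x)) →
        (∃! ψ : G ⟶ (Coh.push U.ι).obj (F.restrict U.ι),
            φ ≫ ψ = (Scheme.Modules.restrictAdjunction U.ι).unit.app F) ∧
          ∀ ψ : G ⟶ (Coh.push U.ι).obj (F.restrict U.ι),
            φ ≫ ψ = (Scheme.Modules.restrictAdjunction U.ι).unit.app F → IsIso ψ := by
  haveI : IsLocallyNoetherian X := inferInstance
  refine ⟨fun x hx => ?_, ?_⟩
  · exact HartogsConverse.two_le_depth_of_res_bijective _ hF' U
      (fun V => res_bijective_resPush U F V) x hx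
  · intro G hG φ hφ hdepth
    haveI := hφ
    haveI := Groth.Agent.S14995.isIso_unit X G hG U hdepth
    let adj := Scheme.Modules.restrictAdjunction U.ι
    let N := (Scheme.Modules.restrictFunctor U.ι).obj F
    have key : ∀ ψ : G ⟶ (Coh.push U.ι).obj (F.restrict U.ι),
        φ ≫ ψ = adj.unit.app F →
        ψ = adj.unit.app G ≫ (Scheme.Modules.pushforward U.ι).map
          (inv ((Scheme.Modules.restrictFunctor U.ι).map φ)) := by
      intro ψ hψ
      have h1 := congrArg (adj.homEquiv F N).symm hψ
      rw [Adjunction.homEquiv_naturality_left_symm] at h1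
      have h2 : (adj.homEquiv F N).symm (adj.unit.app F) = 𝟙 _ := by
        rw [Equiv.symm_apply_eq, Adjunction.homEquiv_unit]
        simp
      rw [h2] at h1
      have h3 : (adj.homEquiv G N).symm ψ = inv ((Scheme.Modules.restrictFunctor U.ι).map φ) := by
        rw [← cancel_epi ((Scheme.Modules.restrictFunctor U.ι).map φ), h1, IsIso.hom_inv_id]
      rw [Equiv.symm_apply_eq, Adjunction.homEquiv_unit] at h3
      exact h3
    have hex : φ ≫ (adj.unit.app G ≫ (Scheme.Modules.pushforward U.ι).map
        (inv ((Scheme.Modules.restrictFunctor U.ι).map φ))) = adj.unit.app F := by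
      have hnat := adj.unit.naturality φ
      simp only [Functor.id_obj, Functor.id_map, Functor.comp_obj, Functor.comp_map] at hnat
      rw [← Category.assoc, hnat, Category.assoc, ← Functor.map_comp, IsIso.hom_inv_id,
        CategoryTheory.Functor.map_id, Category.comp_id]
    refine ⟨⟨_, hex, fun ψ hψ => key ψ hψ⟩, fun ψ hψ => ?_⟩
    rw [key ψ hψ]
    infer_instance

end Groth.Agent.S12226
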