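import Groth.Statements.S12228
import Mathlib.Algebra.Homology.DerivedCategory.Fractions
import Mathlib.Algebra.Homology.HomotopyCategory.Plus
import Mathlib.Algebra.Homology.HomotopyCategory.Acyclic

set_option autoImplicit false
universe w v u
open CategoryTheory CategoryTheory.Limits
open CohDer

namespace Groth.Agent.S12228

open CochainComplex in
theorem isStrictlyLE_mappingCone {A : Type u} [Category.{v} A] [Abelian A]
    {K L : CochainComplex A ℤ} (f : K ⟶ L)
    (n₁ n₂ n : ℤ) [K.IsStrictlyLE n₁] [L.IsStrictlyLE n₂] (hn₁ : n₁ ≤ n + 1)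
    (hn₂ : n₂ ≤ n) :
    (mappingCone f).IsStrictlyLE n := by
  rw [isStrictlyLE_iff]
  intro i hi
  simp only [mappingCone.isZero_X_iff]
  exact ⟨K.isZero_of_isStrictlyLE n₁ _ (by omega), L.isZero_of_isStrictlyLE n₂ _ (by omega)⟩

open CochainComplex HomotopyCategory Pretriangulated in
/-- Part 2, on the level of chosen representatives. -/
theorem part2 {A : Type u} [Category.{v} A] [Abelian A] [HasDerivedCategory.{w} A]
    (Kc Lc : CochainComplex A ℤ) (b a' b' : ℤ) [Kc.IsStrictlyLE b]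
    [Lc.IsStrictlyGE a'] [Lc.IsStrictlyLE b']
    (f₁ f₂ : (quotient A (ComplexShape.up ℤ)).obj Kc ⟶ (quotient A (ComplexShape.up ℤ)).obj Lc)
    (h : DerivedCategory.Qh.map f₁ = DerivedCategory.Qh.map f₂) :
    ∃ (L' : CochainComplex A ℤ) (_ : L'.IsStrictlyGE (a' - 1)) (_ : L'.IsStrictlyLE (max b b'))
      (t : Lc ⟶ L'), quasiIso A (ComplexShape.up ℤ) ((quotient _ _).map t) ∧
        f₁ ≫ (quotient _ _).map t = f₂ ≫ (quotient _ _).map t := by
  rw [MorphismProperty.map_eq_iff_postcomp DerivedCategory.Qh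
    (quasiIso A (ComplexShape.up ℤ))] at h
  obtain ⟨Z, t, ht, eq⟩ := h
  rw [quasiIso_eq_trW_subcategoryAcyclic, ObjectProperty.trW_iff'] at ht
  obtain ⟨Y, y, δ, hT, hY⟩ := ht
  have hg : (f₁ - f₂) ≫ t = 0 := by rw [Preadditive.sub_comp, eq, sub_self]
  obtain ⟨v, hv⟩ := Triangle.coyoneda_exact₂ _ hT (f₁ - f₂) hg
  obtain ⟨(Yc : CochainComplex A ℤ), rfl⟩ := HomotopyCategory.quotient_obj_surjective Y
  obtain ⟨vc, rfl⟩ := (quotient _ _).map_surjective v
  obtain ⟨yc, rfl⟩ := (quotient _ _).map_surjective y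
  rw [quotient_obj_mem_subcategoryAcyclic_iff_acyclic] at hY
  -- truncate above
  have hKB : Kc.IsStrictlyLE (max b b') := Kc.isStrictlyLE_of_le b _ (le_max_left _ _)
  have hLB : Lc.IsStrictlyLE (max b b') := Lc.isStrictlyLE_of_le b' _ (le_max_right _ _)
  let vc' : Kc ⟶ Yc.truncLE (max b b') :=
    inv (Kc.ιTruncLE (max b b')) ≫ truncLEMap vc (max b b')
  have hvc' : vc' ≫ Yc.ιTruncLE (max b b') = vc := by
    dsimp only [vc']
    rw [Category.assoc, ιTruncLE_naturality, IsIso.inv_hom_id_assoc]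
  let y₁ : Yc.truncLE (max b b') ⟶ Lc := Yc.ιTruncLE (max b b') ≫ yc
  -- truncate below
  let Y₂ : CochainComplex A ℤ := (Yc.truncLE (max b b')).truncGE a'
  let y₂ : Y₂ ⟶ Lc := truncGEMap y₁ a' ≫ inv (Lc.πTruncGE a')
  have hy₂ : (Yc.truncLE (max b b')).πTruncGE a' ≫ y₂ = y₁ := by
    dsimp only [y₂]
    rw [← Category.assoc, πTruncGE_naturality, Category.assoc, IsIso.hom_inv_id,
      Category.comp_id]
  have hY₂ : Y₂.Acyclic := (hY.truncLE _).truncGE _
  have hY₂ge : Y₂.IsStrictlyGE a' := inferInstance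
  have hY₂le : Y₂.IsStrictlyLE (max b b') := inferInstance
  refine ⟨mappingCone y₂, isStrictlyGE_mappingCone y₂ a' a' (a' - 1) (by omega) (by omega),
    isStrictlyLE_mappingCone y₂ (max b b') (max b b') (max b b') (by omega) le_rfl,
    mappingCone.inr y₂, ?_, ?_⟩
  · rw [quasiIso_eq_trW_subcategoryAcyclic]
    exact ObjectProperty.trW.mk' _ (mappingCone_triangleh_distinguished y₂)
      ((quotient_obj_mem_subcategoryAcyclic_iff_acyclic _).mpr hY₂)
  · have hv' : f₁ - f₂ = (quotient A (ComplexShape.up ℤ)).map vc ≫ (quotient _ _).map yc := hv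
    rw [← sub_eq_zero, ← Preadditive.sub_comp, hv']
    have h0 : (quotient _ _).map y₂ ≫ (quotient _ _).map (mappingCone.inr y₂) = 0 :=
      comp_distTriang_mor_zero₁₂ _ (mappingCone_triangleh_distinguished y₂)
    have h1 : (quotient A (ComplexShape.up ℤ)).map vc ≫ (quotient _ _).map yc =
        (quotient _ _).map vc' ≫ (quotient _ _).map ((Yc.truncLE (max b b')).πTruncGE a') ≫
          (quotient _ _).map y₂ := by
      rw [← Functor.map_comp, ← Functor.map_comp, ← Functor.map_comp, hy₂]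
      dsimp only [y₁]
      rw [← Category.assoc, hvc']
    rw [h1, Category.assoc, Category.assoc, h0, comp_zero, comp_zero]

/-- Full faithfulness of Kᵇ(A)[Qis⁻¹] → Dᵇ(A), written in terms of roofs. Let A be an abelian category
and K, L bounded complexes (zero outside a finite range of degrees), viewed in the homotopy
category. Then every morphism Qh(K) → Qh(L) in the derived category is Qh(f) ≫ Qh(t)⁻¹ for some map
f : K → L' and quasi-isomorphism t : L → L' of K(A) with L' again bounded; and two maps f₁, f₂ : K →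
L of K(A) become equal in D(A) only if f₁ ≫ t = f₂ ≫ t for some quasi-isomorphism t : L → L' with L'
bounded. -/
theorem result {A : Type u} [Category.{v} A] [Abelian A] [HasDerivedCategory.{w} A]
    (K L : HomotopyCategory A (ComplexShape.up ℤ)) (a b a' b' : ℤ) [CochainComplex.IsStrictlyGE K.as a] [CochainComplex.IsStrictlyLE K.as b]
    [CochainComplex.IsStrictlyGE L.as a'] [CochainComplex.IsStrictlyLE L.as b'] :
    (∀ φ : DerivedCategory.Qh.obj K ⟶ DerivedCategory.Qh.obj L,
      ∃ (L' : HomotopyCategory A (ComplexShape.up ℤ)) (m n : ℤ) (_ : CochainComplex.IsStrictlyGE L'.as m) (_ : CochainComplex.IsStrictlyLE L'.as n) (f : K ⟶ L') (t : L ⟶ L'),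
        HomotopyCategory.quasiIso A (ComplexShape.up ℤ) t ∧ φ ≫ DerivedCategory.Qh.map t = DerivedCategory.Qh.map f) ∧
    (∀ f₁ f₂ : K ⟶ L, DerivedCategory.Qh.map f₁ = DerivedCategory.Qh.map f₂ →
      ∃ (L' : HomotopyCategory A (ComplexShape.up ℤ)) (m n : ℤ) (_ : CochainComplex.IsStrictlyGE L'.as m) (_ : CochainComplex.IsStrictlyLE L'.as n) (t : L ⟶ L'),
        HomotopyCategory.quasiIso A (ComplexShape.up ℤ) t ∧ f₁ ≫ t = f₂ ≫ t) := by
  obtain ⟨(Kc : CochainComplex A ℤ), rfl⟩ := HomotopyCategory.quotient_obj_surjective K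
  obtain ⟨(Lc : CochainComplex A ℤ), rfl⟩ := HomotopyCategory.quotient_obj_surjective L
  have hK1 : CochainComplex.IsStrictlyLE Kc b :=
    ‹CochainComplex.IsStrictlyLE ((HomotopyCategory.quotient A (ComplexShape.up ℤ)).obj Kc).as b›
  have hL1 : CochainComplex.IsStrictlyGE Lc a' :=
    ‹CochainComplex.IsStrictlyGE ((HomotopyCategory.quotient A (ComplexShape.up ℤ)).obj Lc).as a'›
  have hL2 : CochainComplex.IsStrictlyLE Lc b' :=
    ‹CochainComplex.IsStrictlyLE ((HomotopyCategory.quotient A (ComplexShape.up ℤ)).obj Lc).as b'›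
  have hKB : Kc.IsStrictlyLE (max b b') := Kc.isStrictlyLE_of_le b _ (le_max_left _ _)
  have hLB : Lc.IsStrictlyLE (max b b') := Lc.isStrictlyLE_of_le b' _ (le_max_right _ _)
  constructor
  · intro φ
    obtain ⟨Y', hY'1, hY'2, g, s, hs, hfac⟩ :=
      DerivedCategory.left_fac_of_isStrictlyLE_of_isStrictlyGE (X := Kc) (Y := Lc) a'
        (max b b') φ
    refine ⟨(HomotopyCategory.quotient _ _).obj Y', a', max b b', hY'1, hY'2,
      (HomotopyCategory.quotient _ _).map g, (HomotopyCategory.quotient _ _).map s, ?_, ?_⟩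
    · rw [HomotopyCategory.quotient_map_mem_quasiIso_iff, HomologicalComplex.mem_quasiIso_iff,
        ← DerivedCategory.isIso_Q_map_iff_quasiIso]
      exact hs
    · have key : (DerivedCategory.Q.map g ≫ inv (DerivedCategory.Q.map s)) ≫
          DerivedCategory.Q.map s = DerivedCategory.Q.map g := by
        rw [Category.assoc, IsIso.inv_hom_id, Category.comp_id]
      rw [hfac]
      exact key
  · intro f₁ f₂ h
    obtain ⟨L', h1, h2, t, ht, heq⟩ := part2 Kc Lc b a' b' f₁ f₂ h
    exact ⟨(HomotopyCategory.quotient _ _).obj L', a' - 1, max b b', h1, h2,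
      (HomotopyCategory.quotient _ _).map t, ht, heq⟩

end Groth.Agent.S12228
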