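import Groth.Statements.S1223
import Mathlib

set_option autoImplicit false
universe u
open FlatMor

namespace Groth.Agent.S1223

section helpers

open scoped TensorProduct
open CategoryTheory AlgebraicGeometry

attribute [local instance] Algebra.TensorProduct.rightAlgebra

/-- The fibre ring of a ring map with geometrically integral fibres is a domain. -/
theorem isDomain_fiber {A' B' : Type u} [CommRing A'] [CommRing B'] [Algebra A' B']
    (h : FlatCA.GeomIntegralFibres A' B') (t : Ideal A') [t.IsPrime] :
    IsDomain (t.Fiber B') := by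
  have h1 : geometrically IsIntegral (Spec.map (CommRingCat.ofHom (algebraMap A' B'))) :=
    h.geometrically_isIntegral
  have hpb := isPullback_SpecMap_of_isPushout _ _ _ _
    (CommRingCat.isPushout_tensorProduct A' t.ResidueField B')
  have h2 : IsIntegral (Spec (CommRingCat.of (t.ResidueField ⊗[A'] B'))) :=
    h1 _ _ _ hpb.flip
  exact (affine_isIntegral_iff _).mp h2

/-- Geometric integrality of fibres is stable under base change (ring form). -/
theorem geomIntegralFibres_baseChange {A B A' B' : Type u} [CommRing A] [CommRing B] [Algebra A B]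
    [CommRing A'] [CommRing B'] [Algebra A A'] [Algebra B B'] [Algebra A' B'] [Algebra A B']
    [IsScalarTower A B B'] [IsScalarTower A A' B'] (hpush : Algebra.IsPushout A B A' B')
    (h : FlatCA.GeomIntegralFibres A B) : FlatCA.GeomIntegralFibres A' B' := by
  have hpb := isPullback_SpecMap_of_isPushout _ _ _ _
    (CommRingCat.isPushout_of_isPushout A B A' B')
  exact MorphismProperty.of_isPullback (P := @GeometricallyIntegral) hpb h

/-- Flatness is stable under base change (pushout form). -/
theorem flat_baseChange {A B A' B' : Type u} [CommRing A] [CommRing B] [Algebra A B]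
    [CommRing A'] [CommRing B'] [Algebra A A'] [Algebra B B'] [Algebra A' B'] [Algebra A B']
    [IsScalarTower A B B'] [IsScalarTower A A' B'] (hpush : Algebra.IsPushout A B A' B')
    [Module.Flat A B] : Module.Flat A' B' :=
  Module.Flat.isBaseChange (R := A) (S := A') (M := B) (N := B') hpush.symm.out

/-- For a flat algebra, the kernel of the map to the fibre ring over `t` is `t B'`. -/
theorem mem_map_of_tmul_eq_zero {A' B' : Type u} [CommRing A'] [CommRing B'] [Algebra A' B']
    [Module.Flat A' B'] (t : Ideal A') [t.IsPrime] (x : B')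
    (hx : (1 : t.ResidueField) ⊗ₜ[A'] x = 0) : x ∈ t.map (algebraMap A' B') := by
  -- the map `(A'/t) ⊗ B' → κ(t) ⊗ B'` is injective
  have hinj : Function.Injective (algebraMap (A' ⧸ t) t.ResidueField) :=
    FaithfulSMul.algebraMap_injective _ _
  let φ : (A' ⧸ t) →ₗ[A'] t.ResidueField :=
    (IsScalarTower.toAlgHom A' (A' ⧸ t) t.ResidueField).toLinearMap
  have hφ : Function.Injective φ := hinj
  have h2 : Function.Injective (φ.rTensor B') :=
    Module.Flat.rTensor_preserves_injective_linearMap φ hφ
  have h3 : (1 : A' ⧸ t) ⊗ₜ[A'] x = 0 := by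
    apply h2
    rw [LinearMap.rTensor_tmul, map_zero]
    have : φ 1 = 1 := map_one (algebraMap (A' ⧸ t) t.ResidueField)
    rw [this]
    exact hx
  have h4 : (Submodule.Quotient.mk x : B' ⧸ (t • (⊤ : Submodule A' B'))) = 0 := by
    rw [← TensorProduct.quotTensorEquivQuotSMul_mk_one_tmul, h3, map_zero]
  rw [Submodule.Quotient.mk_eq_zero, Ideal.smul_top_eq_map] at h4
  exact h4

/-- If the fibre ring is a domain and `N' ≅ B'`, an associated prime of the fibre module is zero. -/
theorem fiberIdeal_eq_bot {A' B' N' : Type u} [CommRing A'] [CommRing B'] [Algebra A' B']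
    [AddCommGroup N'] [Module B' N'] (e : N' ≃ₗ[B'] B')
    (t : Ideal A') [t.IsPrime] [IsDomain (t.Fiber B')] (I : Ideal (t.Fiber B'))
    (hass : I ∈ associatedPrimes (t.Fiber B') (FlatCA.fiberMod t B' N')) : I = ⊥ := by
  -- the fibre module is isomorphic to the fibre ring
  let E : FlatCA.fiberMod t B' N' ≃ₗ[t.Fiber B'] t.Fiber B' :=
    (TensorProduct.AlgebraTensorModule.congr (LinearEquiv.refl (t.Fiber B') (t.Fiber B')) e) ≪≫ₗ
      (TensorProduct.AlgebraTensorModule.rid B' (t.Fiber B') (t.Fiber B'))
  obtain ⟨hprime, y, hy⟩ := hass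
  rw [eq_bot_iff]
  intro c hc
  rw [hy] at hc
  obtain ⟨n, hn⟩ := hc
  rw [Submodule.mem_colon_singleton, Submodule.mem_bot] at hn
  have hy0 : y ≠ 0 := by
    rintro rfl
    apply hprime.ne_top
    rw [hy, eq_top_iff]
    intro z _
    apply Ideal.le_radical
    rw [Submodule.mem_colon_singleton, Submodule.mem_bot, smul_zero]
  have hEy : E y ≠ 0 := by
    intro h0
    exact hy0 (E.map_eq_zero_iff.mp h0)
  have h1 : c ^ n * E y = 0 := by
    rw [← smul_eq_mul, ← map_smul, hn, map_zero]
  rcases mul_eq_zero.mp h1 with h2 | h2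
  · exact (Submodule.mem_bot _).mpr (eq_zero_of_pow_eq_zero h2)
  · exact absurd h2 hEy

theorem main {A B : Type u} [CommRing A] [CommRing B] [Algebra A B] [Algebra.FiniteType A B] [Module.Flat A B]
    (h : FlatCA.GeomIntegralFibres A B) : FlatCA.IsUnivPure A B B := by
  intro p _ A' B' N' _ _ _ _ _ _ _ _ _ _ _ _ _ _ f t' t _ _ P _ himp
  obtain ⟨hpush, hbc, hle, hover, hPover, hass, hno⟩ := himp
  have hgi : FlatCA.GeomIntegralFibres A' B' := geomIntegralFibres_baseChange hpush h
  haveI : Module.Flat A' B' := flat_baseChange hpush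
  haveI := isDomain_fiber hgi t'
  haveI := isDomain_fiber hgi t
  -- N' ≅ B'
  let e : N' ≃ₗ[B'] B' := hbc.equiv.symm ≪≫ₗ (TensorProduct.AlgebraTensorModule.rid B B' B')
  have hbot := fiberIdeal_eq_bot e t' _ hass
  -- P ≤ t' B'
  have hP1 : P ≤ t'.map (algebraMap A' B') := by
    intro x hx
    apply mem_map_of_tmul_eq_zero t' x
    have hmem : (Algebra.TensorProduct.includeRight (R := A') (A := t'.ResidueField) (B := B')) x
        ∈ FlatCA.fiberIdeal t' P := Ideal.mem_map_of_mem _ hx
    rw [hbot] at hmem
    exact hmem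
  -- a prime over t
  let 𝔓 : PrimeSpectrum (t.Fiber B') := ⟨⊥, Ideal.isPrime_bot⟩
  obtain ⟨P', hP'prime, hP'over⟩ := (PrimeSpectrum.primesOverOrderIsoFiber A' B' t).symm 𝔓
  haveI := hP'prime
  apply hno P'
  · refine hP1.trans ((Ideal.map_mono hle).trans ?_)
    rw [Ideal.map_le_iff_le_comap]
    exact hP'over.over.le
  · exact hP'over

end helpers

/-- Ring form, X = Spec B affine: a finite type, flat A-algebra B with geometrically integral fibres is
universally pure relative to Spec A. -/
theorem result {A B : Type u} [CommRing A] [CommRing B] [Algebra A B] [Algebra.FiniteType A B] [Module.Flat A B]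
    (h : FlatCA.GeomIntegralFibres A B) : FlatCA.IsUnivPure A B B := by
  exact main h

end Groth.Agent.S1223
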