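import Groth.Statements.S12230

set_option autoImplicit false
universe v u
open CategoryTheory
open FibCat

namespace Groth.Agent.S12230


open Functor

section Gen

variable {𝒮 : Type*} [Category 𝒮] {𝒳 : Type*} [Category 𝒳] (p : 𝒳 ⥤ 𝒮)

theorem isHomLift_comp_iff {𝒜 : Type*} [Category 𝒜] (G : 𝒜 ⥤ 𝒳) {R S : 𝒮} {a b : 𝒜}
    (f : R ⟶ S) (φ : a ⟶ b) : (G ⋙ p).IsHomLift f φ ↔ p.IsHomLift f (G.map φ) := by
  constructor
  · intro h
    subst_hom_lift (G ⋙ p) f φ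
    exact Functor.IsHomLift.map (G.map φ)
  · intro h
    obtain rfl : p.obj (G.obj a) = R := IsHomLift.domain_eq p f (G.map φ)
    obtain rfl : p.obj (G.obj b) = S := IsHomLift.codomain_eq p f (G.map φ)
    obtain rfl : f = p.map (G.map φ) := IsHomLift.eq_of_isHomLift p f (G.map φ)
    exact Functor.IsHomLift.map (p := G ⋙ p) φ

theorem isHomLift_id_of_eq {R R' : 𝒮} (h : R' = R) {a b : 𝒳} (φ : a ⟶ b)
    [p.IsHomLift (𝟙 R) φ] : p.IsHomLift (𝟙 R') φ := by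
  subst h; infer_instance

/-- If `φ` lifts an identity and `ψ ≫ φ` lifts `g`, then `ψ` lifts `g`. -/
theorem isHomLift_of_comp_lift_id {R S : 𝒮} (g : R ⟶ S) {a b c : 𝒳} (ψ : a ⟶ b) (φ : b ⟶ c)
    [p.IsHomLift (𝟙 S) φ] [p.IsHomLift g (ψ ≫ φ)] : p.IsHomLift g ψ := by
  have hb : p.obj b = S := IsHomLift.domain_eq p (𝟙 S) φ
  have ha : p.obj a = R := IsHomLift.domain_eq p g (ψ ≫ φ)
  apply IsHomLift.of_fac' p g ψ ha hb
  have h1 := IsHomLift.fac' p g (ψ ≫ φ)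
  have h2 := IsHomLift.fac' p (𝟙 S) φ
  rw [p.map_comp, h2] at h1
  simp only [Category.id_comp, ← Category.assoc] at h1
  rw [cancel_mono] at h1
  rw [← Category.assoc, ← h1, Category.assoc, eqToHom_trans, eqToHom_refl, Category.comp_id]

end Gen

variable {C : Type u} [Category.{v} C] {𝒳 𝒴 : BasedCategory.{v, max u v} C}

/-- Objects of the factorisation category: `(x, y, f : y ⟶ F x)` with `f` vertical. -/
structure Obj (F : 𝒳 ⥤ᵇ 𝒴) : Type (max u v) where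
  x : 𝒳.obj
  y : 𝒴.obj
  f : y ⟶ F.obj x
  hf : 𝒴.p.IsHomLift (𝟙 (𝒳.p.obj x)) f

attribute [instance] Obj.hf

variable {F : 𝒳 ⥤ᵇ 𝒴}

theorem Obj.hy (A : Obj F) : 𝒴.p.obj A.y = 𝒳.p.obj A.x :=
  IsHomLift.domain_eq 𝒴.p (𝟙 (𝒳.p.obj A.x)) A.f

/-- Morphisms of the factorisation category. -/
@[ext]
structure Hom (A B : Obj F) : Type v where
  a : A.x ⟶ B.x
  b : A.y ⟶ B.y
  w : A.f ≫ F.map a = b ≫ B.f

instance : Category.{v} (Obj F) where
  Hom := Hom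
  id A := ⟨𝟙 _, 𝟙 _, by simp⟩
  comp φ ψ := ⟨φ.a ≫ ψ.a, φ.b ≫ ψ.b, by
    rw [Functor.map_comp, ← Category.assoc, φ.w, Category.assoc, ψ.w, Category.assoc]⟩
  id_comp φ := by apply Hom.ext <;> simp
  comp_id φ := by apply Hom.ext <;> simp
  assoc φ ψ χ := by apply Hom.ext <;> simp

@[simp] theorem id_a (A : Obj F) : Hom.a (𝟙 A) = 𝟙 A.x := rfl
@[simp] theorem id_b (A : Obj F) : Hom.b (𝟙 A) = 𝟙 A.y := rfl
@[simp] theorem comp_a {A B D : Obj F} (φ : A ⟶ B) (ψ : B ⟶ D) :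
    Hom.a (φ ≫ ψ) = Hom.a φ ≫ Hom.a ψ := rfl
@[simp] theorem comp_b {A B D : Obj F} (φ : A ⟶ B) (ψ : B ⟶ D) :
    Hom.b (φ ≫ ψ) = Hom.b φ ≫ Hom.b ψ := rfl

theorem hom_ext {A B : Obj F} {φ ψ : A ⟶ B} (ha : Hom.a φ = Hom.a ψ) (hb : Hom.b φ = Hom.b ψ) :
    φ = ψ := Hom.ext ha hb

theorem hom_w {A B : Obj F} (φ : A ⟶ B) : A.f ≫ F.map (Hom.a φ) = Hom.b φ ≫ B.f := Hom.w φ

variable (F)

/-- `(x, y, f) ↦ x`. -/
abbrev wFun : Obj F ⥤ 𝒳.obj where
  obj A := A.x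
  map φ := Hom.a φ

/-- `(x, y, f) ↦ y`. -/
abbrev vFun : Obj F ⥤ 𝒴.obj where
  obj A := A.y
  map φ := Hom.b φ

/-- `x ↦ (x, F x, 𝟙)`. -/
abbrev uFun : 𝒳.obj ⥤ Obj F where
  obj x := ⟨x, F.obj x, 𝟙 _, IsHomLift.id (F.w_obj x)⟩
  map a := ⟨a, F.map a, by simp⟩

variable {F}

instance isHomLift_b {A B : Obj F} (φ : A ⟶ B) {R S : C} (g : R ⟶ S)
    [𝒳.p.IsHomLift g (Hom.a φ)] : 𝒴.p.IsHomLift g (Hom.b φ) := by
  have : 𝒴.p.IsHomLift g (Hom.b φ ≫ B.f) := by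
    rw [← hom_w]
    obtain rfl : 𝒳.p.obj A.x = R := IsHomLift.domain_eq 𝒳.p g (Hom.a φ)
    infer_instance
  obtain rfl : 𝒳.p.obj B.x = S := IsHomLift.codomain_eq 𝒳.p g (Hom.a φ)
  exact isHomLift_of_comp_lift_id 𝒴.p g (Hom.b φ) B.f

theorem isHomLift_a {A B : Obj F} (φ : A ⟶ B) {R S : C} (g : R ⟶ S)
    [𝒴.p.IsHomLift g (Hom.b φ)] : 𝒳.p.IsHomLift g (Hom.a φ) := by
  obtain rfl : 𝒳.p.obj A.x = R := A.hy.symm.trans (IsHomLift.domain_eq 𝒴.p g (Hom.b φ))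
  obtain rfl : 𝒳.p.obj B.x = S := B.hy.symm.trans (IsHomLift.codomain_eq 𝒴.p g (Hom.b φ))
  have h1 := IsHomLift.fac 𝒴.p g (Hom.b φ)
  have h2 := IsHomLift.fac 𝒴.p (𝒳.p.map (Hom.a φ)) (Hom.b φ)
  obtain rfl : g = 𝒳.p.map (Hom.a φ) := h1.trans h2.symm
  infer_instance

variable (F)

/-- The factorisation category as a based category over `C`, via `(x, y, f) ↦ p x`. -/
abbrev X' : BasedCategory.{v, max u v} C where
  obj := Obj F
  category := inferInstance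
  p := wFun F ⋙ 𝒳.p

/-- The based functor `w`. -/
def wB : X' F ⥤ᵇ 𝒳 where
  toFunctor := wFun F
  w := rfl

/-- The based functor `u`. -/
def uB : 𝒳 ⥤ᵇ X' F where
  toFunctor := uFun F
  w := rfl

/-- The based functor `v`. -/
def vB : X' F ⥤ᵇ 𝒴 where
  toFunctor := vFun F
  w := by
    refine Functor.ext (fun A => Obj.hy A) (fun A B φ => ?_)
    have : ∀ {A B : Obj F} (φ : A ⟶ B), 𝒴.p.map (Hom.b φ) =
        eqToHom A.hy ≫ 𝒳.p.map (Hom.a φ) ≫ eqToHom B.hy.symm := fun φ =>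
      IsHomLift.fac' 𝒴.p (𝒳.p.map (Hom.a φ)) (Hom.b φ)
    exact this φ

theorem uB_comp_vB : BasedFunctor.comp (uB F) (vB F) = F := rfl

variable {F}

theorem isHomLift_X'_iff {A B : Obj F} (φ : A ⟶ B) {R S : C} (g : R ⟶ S) :
    (X' F).p.IsHomLift g φ ↔ 𝒳.p.IsHomLift g (Hom.a φ) :=
  isHomLift_comp_iff 𝒳.p (wFun F) g φ

/-- (*) A morphism of `𝒳'` whose two components are strongly cartesian over `g` is strongly
cartesian over `g`. -/
theorem isStronglyCartesian_of_components (hF : FibCat.PreservesStronglyCartesian F)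
    {A B : Obj F} (Φ : A ⟶ B) {R S : C} (g : R ⟶ S)
    [h1 : 𝒳.p.IsStronglyCartesian g (Hom.a Φ)] [h2 : 𝒴.p.IsStronglyCartesian g (Hom.b Φ)] :
    (X' F).p.IsStronglyCartesian g Φ := by
  have h3 : 𝒴.p.IsStronglyCartesian g (F.map (Hom.a Φ)) := hF g _ h1
  obtain rfl : 𝒳.p.obj A.x = R := IsHomLift.domain_eq 𝒳.p g (Hom.a Φ)
  refine { toIsHomLift := (isHomLift_X'_iff Φ g).2 inferInstance, universal_property' := ?_ }
  intro A' k Ψ hΨ
  change Obj F at A'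
  change 𝒳.p.obj A'.x ⟶ 𝒳.p.obj A.x at k
  change A' ⟶ B at Ψ
  have hΨa : 𝒳.p.IsHomLift (k ≫ g) (Hom.a Ψ) := (isHomLift_X'_iff Ψ _).1 hΨ
  have hΨb : 𝒴.p.IsHomLift (k ≫ g) (Hom.b Ψ) := inferInstance
  let χa : A'.x ⟶ A.x := IsStronglyCartesian.map 𝒳.p g (Hom.a Φ) (g := k) rfl (Hom.a Ψ)
  let χb : A'.y ⟶ A.y := IsStronglyCartesian.map 𝒴.p g (Hom.b Φ) (g := k) rfl (Hom.b Ψ)
  have hχa : χa ≫ Hom.a Φ = Hom.a Ψ := IsStronglyCartesian.fac 𝒳.p g (Hom.a Φ) rfl (Hom.a Ψ)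
  have hχb : χb ≫ Hom.b Φ = Hom.b Ψ := IsStronglyCartesian.fac 𝒴.p g (Hom.b Φ) rfl (Hom.b Ψ)
  have hw : A'.f ≫ F.map χa = χb ≫ A.f := by
    apply IsStronglyCartesian.ext 𝒴.p g (F.map (Hom.a Φ)) k
    rw [Category.assoc, ← Functor.map_comp, hχa, hom_w, Category.assoc, hom_w,
      ← Category.assoc, hχb]
  have key : ∀ (χ' : A' ⟶ A), (X' F).p.IsHomLift k χ' → χ' ≫ Φ = Ψ → χ' = ⟨χa, χb, hw⟩ := by
    intro χ' hχ'1 hχ'2
    have : 𝒳.p.IsHomLift k (Hom.a χ') := (isHomLift_X'_iff χ' k).1 hχ'1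
    apply hom_ext
    · exact IsStronglyCartesian.map_uniq 𝒳.p g (Hom.a Φ) rfl (Hom.a Ψ) (Hom.a χ')
        (by rw [← comp_a, hχ'2])
    · exact IsStronglyCartesian.map_uniq 𝒴.p g (Hom.b Φ) rfl (Hom.b Ψ) (Hom.b χ')
        (by rw [← comp_b, hχ'2])
  refine ⟨⟨χa, χb, hw⟩, ⟨(isHomLift_X'_iff _ k).2 (by dsimp only; infer_instance), ?_⟩, ?_⟩
  · exact hom_ext hχa hχb
  · exact fun χ' h => key χ' h.1 h.2

/-- The lifted object: given `A`, `g : R ⟶ p A.x`, `a : x' ⟶ A.x` over `g` with `F a` strongly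
cartesian, and `b : y' ⟶ A.y` over `g`, the object `(x', y', f')` with `f' ≫ F a = b ≫ A.f`. -/
noncomputable abbrev liftObj (A : Obj F) {R : C} (g : R ⟶ 𝒳.p.obj A.x) {x' : 𝒳.obj} (a : x' ⟶ A.x)
    [𝒳.p.IsHomLift g a] [𝒴.p.IsStronglyCartesian g (F.map a)] {y' : 𝒴.obj} (b : y' ⟶ A.y)
    [𝒴.p.IsHomLift g b] : Obj F where
  x := x'
  y := y'
  f := IsStronglyCartesian.map 𝒴.p g (F.map a) (g := 𝟙 R) (f' := g) (Category.id_comp g).symm
    (b ≫ A.f)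
  hf := isHomLift_id_of_eq 𝒴.p (IsHomLift.domain_eq 𝒳.p g a) _

/-- The lifted morphism `(a, b) : liftObj ⟶ A`. -/
noncomputable def liftHom (A : Obj F) {R : C} (g : R ⟶ 𝒳.p.obj A.x) {x' : 𝒳.obj} (a : x' ⟶ A.x)
    [𝒳.p.IsHomLift g a] [𝒴.p.IsStronglyCartesian g (F.map a)] {y' : 𝒴.obj} (b : y' ⟶ A.y)
    [𝒴.p.IsHomLift g b] : liftObj A g a b ⟶ A :=
  ⟨a, b, IsStronglyCartesian.fac 𝒴.p g (F.map a) (Category.id_comp g).symm (b ≫ A.f)⟩

theorem exists_isStronglyCartesian_X' [𝒳.p.IsFibered] [𝒴.p.IsFibered]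
    (hF : FibCat.PreservesStronglyCartesian F) (A : Obj F) {R : C} (g : R ⟶ 𝒳.p.obj A.x) :
    ∃ (A' : Obj F) (Φ : A' ⟶ A), (X' F).p.IsStronglyCartesian g Φ ∧
      𝒳.p.IsStronglyCartesian g (Hom.a Φ) ∧ 𝒴.p.IsStronglyCartesian g (Hom.b Φ) := by
  let a := IsPreFibered.pullbackMap (p := 𝒳.p) (rfl : 𝒳.p.obj A.x = _) g
  let b := IsPreFibered.pullbackMap (p := 𝒴.p) A.hy g
  have ha : 𝒳.p.IsStronglyCartesian g a := inferInstance
  have hb : 𝒴.p.IsStronglyCartesian g b := inferInstance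
  have hFa : 𝒴.p.IsStronglyCartesian g (F.map a) := hF g a ha
  have h1 : 𝒳.p.IsStronglyCartesian g (Hom.a (liftHom A g a b)) := ha
  have h2 : 𝒴.p.IsStronglyCartesian g (Hom.b (liftHom A g a b)) := hb
  exact ⟨liftObj A g a b, liftHom A g a b, isStronglyCartesian_of_components hF _ g, h1, h2⟩

theorem isFibered_X' [𝒳.p.IsFibered] [𝒴.p.IsFibered]
    (hF : FibCat.PreservesStronglyCartesian F) : (X' F).p.IsFibered := by
  apply Functor.IsFibered.of_exists_isStronglyCartesian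
  intro A R g
  obtain ⟨A', Φ, h, -, -⟩ := exists_isStronglyCartesian_X' hF A g
  exact ⟨A', Φ, h⟩

/-- (**) A strongly cartesian morphism of `𝒳'` has strongly cartesian components. -/
theorem components_of_isStronglyCartesian [𝒳.p.IsFibered] [𝒴.p.IsFibered]
    (hF : FibCat.PreservesStronglyCartesian F) {A B : Obj F} (Φ : A ⟶ B) {R S : C} (g : R ⟶ S)
    (hΦ : (X' F).p.IsStronglyCartesian g Φ) :
    𝒳.p.IsStronglyCartesian g (Hom.a Φ) ∧ 𝒴.p.IsStronglyCartesian g (Hom.b Φ) := by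
  have h0 : 𝒳.p.IsHomLift g (Hom.a Φ) := (isHomLift_X'_iff Φ g).1 inferInstance
  obtain rfl : 𝒳.p.obj B.x = S := IsHomLift.codomain_eq 𝒳.p g (Hom.a Φ)
  obtain ⟨A₀, Φ₀, h, h1, h2⟩ := exists_isStronglyCartesian_X' hF B g
  let e : A ≅ A₀ := IsCartesian.domainUniqueUpToIso (X' F).p g Φ₀ Φ
  have he : e.hom ≫ Φ₀ = Φ := IsCartesian.fac (X' F).p g Φ₀ Φ
  have he1 : (X' F).p.IsHomLift (𝟙 R) e.hom := by
    rw [IsCartesian.domainUniqueUpToIso_hom]; infer_instance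
  have he2 : 𝒳.p.IsHomLift (𝟙 R) (Hom.a e.hom) := (isHomLift_X'_iff e.hom _).1 he1
  have he3 : 𝒴.p.IsHomLift (𝟙 R) (Hom.b e.hom) := inferInstance
  obtain ⟨ea, hea⟩ : ∃ ea : A.x ≅ A₀.x, ea.hom = Hom.a e.hom :=
    ⟨⟨Hom.a e.hom, Hom.a e.inv, by rw [← comp_a, e.hom_inv_id, id_a],
      by rw [← comp_a, e.inv_hom_id, id_a]⟩, rfl⟩
  obtain ⟨eb, heb⟩ : ∃ eb : A.y ≅ A₀.y, eb.hom = Hom.b e.hom :=
    ⟨⟨Hom.b e.hom, Hom.b e.inv, by rw [← comp_b, e.hom_inv_id, id_b],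
      by rw [← comp_b, e.inv_hom_id, id_b]⟩, rfl⟩
  have hia : 𝒳.p.IsHomLift (𝟙 R) ea.hom := by rw [hea]; exact he2
  have hib : 𝒴.p.IsHomLift (𝟙 R) eb.hom := by rw [heb]; exact he3
  constructor
  · have : 𝒳.p.IsStronglyCartesian (𝟙 R ≫ g) (ea.hom ≫ Hom.a Φ₀) := inferInstance
    rw [Category.id_comp, hea, ← comp_a, he] at this
    exact this
  · have : 𝒴.p.IsStronglyCartesian (𝟙 R ≫ g) (eb.hom ≫ Hom.b Φ₀) := inferInstance
    rw [Category.id_comp, heb, ← comp_b, he] at this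
    exact this

variable (F)

/-- The adjunction `w ⊣ u`. -/
def adj : wFun F ⊣ uFun F :=
  Adjunction.mkOfHomEquiv
    { homEquiv := fun A x =>
        { toFun := fun a => ⟨a, A.f ≫ F.map a, (Category.comp_id _).symm⟩
          invFun := fun φ => Hom.a φ
          left_inv := fun a => rfl
          right_inv := fun φ => hom_ext rfl ((hom_w φ).trans (Category.comp_id _)) }
      homEquiv_naturality_left_symm := fun f g => rfl
      homEquiv_naturality_right := fun f g => by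
        apply hom_ext
        · rfl
        · change _ ≫ F.map (f ≫ g) = (_ ≫ F.map f) ≫ F.map g
          rw [Functor.map_comp, Category.assoc] }

instance : (uFun F).Faithful where
  map_injective h := congrArg Hom.a h

instance : (uFun F).Full where
  map_surjective φ := ⟨Hom.a φ, hom_ext rfl (by
    have := hom_w φ
    change 𝟙 _ ≫ F.map (Hom.a φ) = Hom.b φ ≫ 𝟙 _ at this
    rw [Category.id_comp, Category.comp_id] at this
    exact this)⟩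

variable {F}

theorem vFun_isHomLift_iff {A B : Obj F} (k : A.y ⟶ B.y) (φ : A ⟶ B) :
    (vFun F).IsHomLift k φ ↔ Hom.b φ = k := by
  constructor
  · intro h
    exact (IsHomLift.eq_of_isHomLift (vFun F) k φ).symm
  · rintro rfl
    exact Functor.IsHomLift.map (p := vFun F) φ

theorem isFibered_vFun [𝒳.p.IsFibered] [𝒴.p.IsFibered]
    (hF : FibCat.PreservesStronglyCartesian F) : (vFun F).IsFibered := by
  apply Functor.IsFibered.of_exists_isStronglyCartesian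
  intro A y' h
  change y' ⟶ A.y at h
  let g : 𝒴.p.obj y' ⟶ 𝒳.p.obj A.x := 𝒴.p.map h ≫ eqToHom A.hy
  have hh : 𝒴.p.IsHomLift g h := inferInstance
  let a := IsPreFibered.pullbackMap (p := 𝒳.p) (rfl : 𝒳.p.obj A.x = _) g
  have ha : 𝒳.p.IsStronglyCartesian g a := inferInstance
  have hFa : 𝒴.p.IsStronglyCartesian g (F.map a) := hF g a ha
  refine ⟨liftObj A g a h, liftHom A g a h, ?_⟩
  refine { toIsHomLift := (vFun_isHomLift_iff (A := liftObj A g a h) h _).2 rfl,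
           universal_property' := ?_ }
  intro A'' k Ψ hΨ
  change A''.y ⟶ y' at k
  have hΨb : Hom.b Ψ = k ≫ h := (vFun_isHomLift_iff (B := A) (k ≫ h) Ψ).1 hΨ
  let g' : 𝒳.p.obj A''.x ⟶ 𝒴.p.obj y' := eqToHom A''.hy.symm ≫ 𝒴.p.map k
  have hk : 𝒴.p.IsHomLift g' k := inferInstance
  have hΨb' : 𝒴.p.IsHomLift (g' ≫ g) (Hom.b Ψ) := by rw [hΨb]; infer_instance
  have hΨa : 𝒳.p.IsHomLift (g' ≫ g) (Hom.a Ψ) := isHomLift_a Ψ _
  let α : A''.x ⟶ _ := IsStronglyCartesian.map 𝒳.p g a (g := g') rfl (Hom.a Ψ)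
  have hα : α ≫ a = Hom.a Ψ := IsStronglyCartesian.fac 𝒳.p g a rfl (Hom.a Ψ)
  have hw : A''.f ≫ F.map α = k ≫ (liftObj A g a h).f := by
    apply IsStronglyCartesian.ext 𝒴.p g (F.map a) g'
    rw [Category.assoc, ← Functor.map_comp, hα, hom_w, hΨb, Category.assoc, Category.assoc]
    congr 1
    exact (IsStronglyCartesian.fac 𝒴.p g (F.map a) (Category.id_comp g).symm (h ≫ A.f)).symm
  have key : ∀ (χ' : A'' ⟶ liftObj A g a h), (vFun F).IsHomLift k χ' →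
      χ' ≫ liftHom A g a h = Ψ → χ' = ⟨α, k, hw⟩ := by
    intro χ' hχ'1 hχ'2
    have hb : Hom.b χ' = k := (vFun_isHomLift_iff (B := liftObj A g a h) k χ').1 hχ'1
    have : 𝒴.p.IsHomLift g' (Hom.b χ') := by rw [hb]; infer_instance
    have : 𝒳.p.IsHomLift g' (Hom.a χ') := isHomLift_a χ' g'
    apply hom_ext
    · exact IsStronglyCartesian.map_uniq 𝒳.p g a rfl (Hom.a Ψ) (Hom.a χ')
        (by rw [← hχ'2]; rfl)
    · exact hb
  refine ⟨⟨α, k, hw⟩, ⟨(vFun_isHomLift_iff (B := liftObj A g a h) k _).2 rfl, ?_⟩, ?_⟩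
  · exact hom_ext hα hΨb.symm
  · exact fun χ' h => key χ' h.1 h.2


/-- Let C be a category and F : 𝒳 → 𝒴 a 1-morphism of fibred categories over C. Then there are a fibred
category 𝒳' over C and 1-morphisms of fibred categories u : 𝒳 → 𝒳', v : 𝒳' → 𝒴, w : 𝒳' → 𝒳 over C
with F = v ∘ u such that u is fully faithful with w as its left adjoint, and v : 𝒳' → 𝒴 makes 𝒳' a
fibred category over 𝒴. (Stated for 𝒳, 𝒴 whose morphisms live in the universe of the morphisms of C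
and whose objects live one universe level up, the size of categories of C-data; the adjunction w ⊣ u
is of the underlying functors.) -/
theorem result {C : Type u} [Category.{v} C]
    {𝒳 𝒴 : BasedCategory.{v, max u v} C} [𝒳.p.IsFibered] [𝒴.p.IsFibered]
    (F : 𝒳 ⥤ᵇ 𝒴) (hF : FibCat.PreservesStronglyCartesian F) :
    ∃ (𝒳' : BasedCategory.{v, max u v} C) (u : 𝒳 ⥤ᵇ 𝒳') (v : 𝒳' ⥤ᵇ 𝒴) (w : 𝒳' ⥤ᵇ 𝒳),
      𝒳'.p.IsFibered ∧ FibCat.PreservesStronglyCartesian u ∧ FibCat.PreservesStronglyCartesian v ∧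
        FibCat.PreservesStronglyCartesian w ∧ BasedFunctor.comp u v = F ∧
        u.toFunctor.Full ∧ u.toFunctor.Faithful ∧ Nonempty (w.toFunctor ⊣ u.toFunctor) ∧
        v.toFunctor.IsFibered := by
  refine ⟨X' F, uB F, vB F, wB F, isFibered_X' hF, ?_, ?_, ?_, uB_comp_vB F,
    inferInstanceAs (uFun F).Full, inferInstanceAs (uFun F).Faithful, ⟨adj F⟩, isFibered_vFun hF⟩
  · intro R S g a b φ hφ
    have h1 : 𝒳.p.IsStronglyCartesian g (Hom.a ((uFun F).map φ)) := hφ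
    have h2 : 𝒴.p.IsStronglyCartesian g (Hom.b ((uFun F).map φ)) := hF g φ hφ
    exact isStronglyCartesian_of_components hF ((uFun F).map φ) g
  · intro R S g A B Φ hΦ
    exact (components_of_isStronglyCartesian hF Φ g hΦ).2
  · intro R S g A B Φ hΦ
    exact (components_of_isStronglyCartesian hF Φ g hΦ).1

end Groth.Agent.S12230
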