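import Groth.Statements.S12237
import Groth.Agent.Lib.H56IndEtale
import Groth.Agent.Lib.H56ShNormal

set_option autoImplicit false
universe u
open Hensel

namespace Groth.Agent.S12237

/-- Let R be a local ring and R^sh a strict henselization of R, characterised by its universal property
(henselian local, residue field a separable closure of that of R, local structure map, unique
factorization of local homomorphisms into henselian local rings along a prescribed compatible map of
residue fields). Then R^sh is ind-étale over R: the R-algebra R^sh is a filtered colimit, in the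
category of R-algebras, of étale R-algebras. -/
theorem result (R : Type u) [CommRing R] [IsLocalRing R]
    (Rsh : Type u) [CommRing Rsh] [IsLocalRing Rsh] [Algebra R Rsh] [IsLocalHom (algebraMap R Rsh)]
    [Hensel.IsStrictHenselization R Rsh] : EtPBC.IsIndEtale R Rsh := by
  have hff : Module.FaithfullyFlat R Rsh :=
    Groth.Agent.Lib.StrictHenselization.faithfullyFlat_of_isStrictHenselization R Rsh
  refine Groth.Agent.Lib.H56IndEtale.isIndEtale_of_gen_of_ker
    (fun b => Groth.Agent.Lib.H56ShGen.isEtaleGen_of_isStrictHenselization R Rsh b) ?_
  intro E _ _ _ φ w hw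
  have h0 := Groth.Agent.Lib.H56ShNormal.algebraMap_eq_zero_of_map_eq_zero φ w hw
  obtain ⟨⟨t, ht⟩, htw⟩ := (IsLocalization.map_eq_zero_iff
    (Groth.Agent.Lib.HznNormal96.nbhdPrime φ).primeCompl _ w).1 h0
  refine ⟨t, ?_, htw⟩
  by_contra hnu
  exact ht hnu

end Groth.Agent.S12237
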