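import Groth.Statements.S12724
import Groth.Agent.Lib.ArtFunFactor
import Groth.Agent.Lib.ArtFunFibre
import Groth.Agent.Lib.ArtFunBasic

set_option autoImplicit false
universe u v
open CategoryTheory
open ArtFun

namespace Groth.Agent.S12724

/-- For functors, condition (S1) on a functor F on Artinian local Λ-algebras with residue field k
(surjectivity of F(A₁ ×_A A₂) → F(A₁) ×_{F(A)} F(A₂) for A₂ → A surjective) is equivalent to the
same condition restricted to small extensions A₂ → A. -/
theorem result {Λ : Type u} {k : Type u} [CommRing Λ] [Field k] [Algebra Λ k]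
    [IsNoetherianRing Λ] [Module.Finite Λ k]
    (F : ArtFun.Art Λ k ⥤ Type v) : ArtFun.S1 F ↔ ArtFun.Hbar F := by
  constructor
  · intro h1 B A A' A'' p' p'' f' f'' h hs
    exact h1 p' p'' f' f'' h hs.1
  · intro hbar B A A' A'' p' p'' f' f'' h hf
    suffices H : Function.Surjective f'' ∧ ∀ (A' B : ArtFun.Art Λ k) (f' : A' ⟶ A) (p' : B ⟶ A')
        (p'' : B ⟶ A'') (h : ArtFun.Art.IsFibreProd p' p'' f' f''),
        Function.Surjective (ArtFun.cmp F h) from H.2 A' B f' p' p'' h
    refine Groth.Agent.Lib.ArtFunFactor.surjection_induction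
      (P := fun {A'' A} f'' => Function.Surjective f'' ∧
        ∀ (A' B : ArtFun.Art Λ k) (f' : A' ⟶ A) (p' : B ⟶ A')
        (p'' : B ⟶ A'') (h : ArtFun.Art.IsFibreProd p' p'' f' f''),
        Function.Surjective (ArtFun.cmp F h)) ?_ ?_ ?_ f'' hf
    · -- bijective maps
      intro A'' A f'' hbij
      refine ⟨hbij.2, fun A' B f' p' p'' h x => ?_⟩
      have hp'bij : Function.Bijective p' := by
        constructor
        · intro b₁ b₂ hb
          have hb' : p' b₁ = p' b₂ := hb
          apply h.inj _ _ hb'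
          apply hbij.1
          have e1 := h.w_apply b₁
          have e2 := h.w_apply b₂
          exact e1.symm.trans ((congrArg f' hb').trans e2)
        · exact Groth.Agent.Lib.ArtFunBasic.surjective_fst_of_isFibreProd h hbij.2
      obtain ⟨ν', -, hν'2⟩ := Groth.Agent.Lib.ArtFunFactor.exists_inv_of_bijective p' hp'bij
      obtain ⟨ν'', hν''1, -⟩ := Groth.Agent.Lib.ArtFunFactor.exists_inv_of_bijective f'' hbij
      have hinj : Function.Injective (F.map f'') := by
        intro a b hab
        have := congrArg (F.map ν'') hab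
        rwa [← Functor.map_comp_apply, ← Functor.map_comp_apply, hν''1,
          Functor.map_id_apply, Functor.map_id_apply] at this
      refine ⟨F.map ν' x.1.1, ?_⟩
      have h1 : F.map p' (F.map ν' x.1.1) = x.1.1 := by
        rw [← Functor.map_comp_apply, hν'2, Functor.map_id_apply]
      apply ArtFun.FibProd.ext
      · exact h1
      · change F.map p'' (F.map ν' x.1.1) = x.1.2
        apply hinj
        rw [← Functor.map_comp_apply, ← h.w, Functor.map_comp_apply, h1]
        exact x.2
    · -- small extensions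
      intro A'' A f'' hs
      exact ⟨hs.1, fun A' B f' p' p'' h => hbar p' p'' f' f'' h hs⟩
    · -- composition
      intro A'' A₁ A ν μ hν hμ
      refine ⟨fun a => ?_, fun A' B f' p' p'' h x => ?_⟩
      · obtain ⟨a₁, ha₁⟩ := hμ.1 a
        obtain ⟨a'', ha''⟩ := hν.1 a₁
        exact ⟨a'', by change μ (ν a'') = a; rw [ha'', ha₁]⟩
      obtain ⟨B₁, q', q₁, h₁⟩ :=
        Groth.Agent.Lib.ArtFunFibre.exists_isFibreProd_of_surjective f' μ hμ.1
      -- the map `B → B₁`
      obtain ⟨θ, hθ1, hθ2⟩ := Groth.Agent.Lib.ArtFunBasic.exists_lift_of_isFibreProd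
        (R := B) (resR := B.res) h₁ ⟨p'.toAlgHom, p'.res_comp⟩
        ⟨(p'' ≫ ν).toAlgHom, (p'' ≫ ν).res_comp⟩ (by
          apply Subtype.ext
          change f'.toAlgHom.comp p'.toAlgHom = μ.toAlgHom.comp (p'' ≫ ν).toAlgHom
          have := congrArg ArtFun.Art.Hom.toAlgHom h.w
          exact this)
      let r : B ⟶ B₁ := ⟨θ.1, θ.2⟩
      have hr1 : r ≫ q' = p' := by
        apply ArtFun.Art.hom_ext
        exact congrArg Subtype.val hθ1
      have hr2 : r ≫ q₁ = p'' ≫ ν := by
        apply ArtFun.Art.hom_ext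
        exact congrArg Subtype.val hθ2
      have hr1a : ∀ b, q' (r b) = p' b := fun b => by
        rw [← ArtFun.Art.comp_apply, hr1]
      have hr2a : ∀ b, q₁ (r b) = ν (p'' b) := fun b => by
        rw [← ArtFun.Art.comp_apply, hr2, ArtFun.Art.comp_apply]
      have h₂ : ArtFun.Art.IsFibreProd r p'' q₁ ν := by
        refine ⟨hr2, ?_, ?_⟩
        · intro b₁ b₂ e1 e2
          apply h.inj _ _ _ e2
          rw [← hr1a, ← hr1a, e1]
        · intro b₁ a'' e
          have e' : f' (q' b₁) = (ν ≫ μ) a'' := by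
            rw [h₁.w_apply, e, ArtFun.Art.comp_apply]
          obtain ⟨b, hb1, hb2⟩ := h.surj (q' b₁) a'' e'
          refine ⟨b, ?_, hb2⟩
          apply h₁.inj
          · rw [hr1a, hb1]
          · rw [hr2a, hb2, e]
      have hx₁ : F.map f' x.1.1 = F.map μ (F.map ν x.1.2) := by
        rw [x.2, Functor.map_comp_apply]
      obtain ⟨z₁, hz₁⟩ := hμ.2 A' B₁ f' q' q₁ h₁ ⟨(x.1.1, F.map ν x.1.2), hx₁⟩
      have hz₁1 : F.map q' z₁ = x.1.1 := congrArg (fun t => t.1.1) hz₁
      have hz₁2 : F.map q₁ z₁ = F.map ν x.1.2 := congrArg (fun t => t.1.2) hz₁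
      obtain ⟨z, hz⟩ := hν.2 B₁ B q₁ r p'' h₂ ⟨(z₁, x.1.2), hz₁2⟩
      have hz1 : F.map r z = z₁ := congrArg (fun t => t.1.1) hz
      have hz2 : F.map p'' z = x.1.2 := congrArg (fun t => t.1.2) hz
      refine ⟨z, ?_⟩
      apply ArtFun.FibProd.ext
      · change F.map p' z = x.1.1
        rw [← hr1, Functor.map_comp_apply, hz1, hz₁1]
      · exact hz2

end Groth.Agent.S12724
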