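import Groth.Statements.S12253
import Groth.Agent.S12732
import Groth.Agent.S12731
import Groth.Agent.S12724
import Groth.Agent.Lib.H71Schlessinger

set_option autoImplicit false
universe u v
open CategoryTheory
open Deform

namespace Groth.Agent.S12253

/-- Let k be an algebraically closed field, Λ a complete local Noetherian k-algebra with residue field k
and F a set-valued functor on local Artinian Λ-algebras with residue field k such that F(k) is a
single point, with its k-vector-space structure on F(k[ε]) given as data compatible with ε ↦ cε and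
(ε₁, ε₂) ↦ (ε, ε). Then F is prorepresentable by a complete local Noetherian Λ-algebra with residue
field k if and only if F is left exact, i.e. the comparison map F(A' ×_A A'') → F(A') ×_{F(A)}
F(A'') is bijective for every fibre-product square, and F(k[ε]) is finite-dimensional. -/
theorem result
    {k Λ : Type u} [Field k] [IsAlgClosed k] [CommRing Λ] [IsLocalRing Λ] [IsNoetherianRing Λ]
    [IsAdicComplete (IsLocalRing.maximalIdeal Λ) Λ] [Algebra k Λ] [Algebra Λ k] [IsScalarTower k Λ k]
    (F : ArtFun.Art Λ k ⥤ Type v) [ArtFun.TangentStr F] (h0 : ArtFun.H0 F) :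
    ArtFun.IsProrepresentable F ↔ (ArtFun.IsLeftExact F ∧ ArtFun.Hfin F) := by
  have hsurj : Function.Surjective (algebraMap Λ k) := fun c =>
    ⟨algebraMap k Λ c, by rw [← IsScalarTower.algebraMap_apply k Λ k]; rfl⟩
  have hfin : Module.Finite Λ k := Module.Finite.of_surjective (Algebra.linearMap Λ k) hsurj
  have hk : Subsingleton (Derivation Λ k k) := ⟨fun D₁ D₂ => by
    ext c
    obtain ⟨l, rfl⟩ := hsurj c
    rw [Derivation.map_algebraMap, Derivation.map_algebraMap]⟩
  constructor
  · rintro ⟨⟨R, ξ, hξ⟩⟩
    exact ⟨Groth.Agent.Lib.H71Schlessinger.isLeftExact_of_isUniversal ξ hξ,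
      Groth.Agent.S12731.hfin_of_miniversal F R ξ (hξ _).2⟩
  · rintro ⟨hleft, h3⟩
    have hbar : ArtFun.Hbar F := fun B A A' A'' p' p'' f' f'' h _ => (hleft p' p'' f' f'' h).2
    have h2 : ArtFun.Heps F := fun B A' p' p'' h => hleft p' p'' _ _ h
    have hsq : ArtFun.HSq F := fun B A A' p₁ p₂ f h _ => hleft p₁ p₂ f f h
    have h1 : ArtFun.S1 F := (Groth.Agent.S12724.result F).2 hbar
    have hhull := Groth.Agent.S12732.result hk F h0 h1 h2 h3
    exact Groth.Agent.Lib.H71Schlessinger.isProrepresentable_of_hasHull hhull h0 hsq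

end Groth.Agent.S12253
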