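import Mathlib
import Groth.Statements.S12256
import Groth.Agent.Lib.NodeDef5

set_option autoImplicit false
universe u
open CategoryTheory CategoryTheory.Limits AlgebraicGeometry
open Deform
open ArtFun ArtFun.Art Groth.Agent.Lib.NodeDef Groth.Agent.Lib.DefSchAff

namespace Groth.Agent.S12256

/-- Let k be an algebraically closed field and C = Spec k[x, y]/(xy) the union of the two coordinate
axes in the affine plane. Then the local moduli functor Def_C, of isomorphism classes of
deformations of C over local Artinian k-algebras with residue field k, is not prorepresentable by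
any complete local Noetherian k-algebra with residue field k. -/
theorem result
    {k : Type u} [Field k] [IsAlgClosed k] :
    ¬ ArtFun.IsProrepresentable (ArtFun.defFunctor (Λ := k)
      (Spec (CommRingCat.of (MvPolynomial (Fin 2) k ⧸
        Ideal.span {(MvPolynomial.X 0 * MvPolynomial.X 1 : MvPolynomial (Fin 2) k)})))
      (Spec.map (CommRingCat.ofHom (algebraMap k (MvPolynomial (Fin 2) k ⧸
        Ideal.span {(MvPolynomial.X 0 * MvPolynomial.X 1 : MvPolynomial (Fin 2) k)}))))) := by
  rintro ⟨P⟩
  have hbij := P.universal
  -- the universal first order deformation and the trivial deformation over `k`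
  obtain ⟨ρε, hρε⟩ := (hbij (Art.dual k k)).2
    (nodeFamily (Art.dual k k) epsD res_epsD).cl
  obtain ⟨φ0, hφ0⟩ := (hbij (Art.base k k)).2
    (nodeFamily (Art.base k k) 0 (map_zero _)).cl
  -- the two maps to the test ring
  have e1 : P.family.app (testRing k) (HomSet.map (testHom sD sD_sq sD_fst) ρε) =
      (nodeFamily (testRing k) sD res_sD).cl := by
    rw [P.family.natural, hρε, defFunctor_map_cl]
    exact Quotient.sound (nonempty_iso_baseChange_nodeFamily (testHom sD sD_sq sD_fst) epsD
      res_epsD sD res_sD (testHom_eps sD sD_sq sD_fst))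
  have e2 : P.family.app (testRing k) (HomSet.map (testHom sD' sD'_sq sD'_fst) ρε) =
      (nodeFamily (testRing k) sD' res_sD').cl := by
    rw [P.family.natural, hρε, defFunctor_map_cl]
    exact Quotient.sound (nonempty_iso_baseChange_nodeFamily (testHom sD' sD'_sq sD'_fst) epsD
      res_epsD sD' res_sD' (testHom_eps sD' sD'_sq sD'_fst))
  have e3 : (nodeFamily (testRing k) sD res_sD).cl = (nodeFamily (testRing k) sD' res_sD').cl :=
    Quotient.sound (nonempty_iso_nodeFamily_unit (testRing k) sD res_sD uD res_uD sD' res_sD'
      sD'_eq)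
  have e4 : HomSet.map (testHom sD sD_sq sD_fst) ρε = HomSet.map (testHom sD' sD'_sq sD'_fst) ρε :=
    (hbij (testRing k)).1 (e1.trans (e3.trans e2.symm))
  have hsnd : ∀ r, (ρε.1 r : DualNumber k).snd = 0 := by
    intro r
    apply eq_zero_of_testHom_eq
    exact congrArg (fun φ : HomSet P.ring.carrier P.ring.res (testRing k) => φ.1 r) e4
  -- hence the universal first order deformation is trivial
  have e5 : ρε = HomSet.map (Art.baseToDual (Λ := k) (k := k)) φ0 := by
    apply Subtype.ext
    apply AlgHom.ext
    intro r
    have h1 : (ρε.1 r : DualNumber k).fst = P.ring.res r :=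
      congrArg (fun f : P.ring.carrier →ₐ[k] k => f r) ρε.2
    have h2 : φ0.1 r = P.ring.res r :=
      congrArg (fun f : P.ring.carrier →ₐ[k] k => f r) φ0.2
    change (ρε.1 r : DualNumber k) = algebraMap k (DualNumber k) (φ0.1 r)
    rw [h2, ← h1]
    have h3 : ∀ d : DualNumber k, d.snd = 0 → d = algebraMap k (DualNumber k) d.fst := by
      intro d hd
      rw [TrivSqZeroExt.algebraMap_eq_inl]
      apply TrivSqZeroExt.ext
      · rw [TrivSqZeroExt.fst_inl]
      · rw [hd, TrivSqZeroExt.snd_inl]
    exact h3 _ (hsnd r)
  have e6 : (nodeFamily (Art.dual k k) epsD res_epsD).cl =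
      (nodeFamily (Art.dual k k) 0 (map_zero _)).cl := by
    rw [← hρε, e5, P.family.natural, hφ0, defFunctor_map_cl]
    exact Quotient.sound (nonempty_iso_baseChange_nodeFamily (Art.baseToDual (Λ := k) (k := k))
      0 (map_zero _) 0 (map_zero _) (map_zero _))
  exact not_iso_nodeFamily_eps (Quotient.exact e6)

end Groth.Agent.S12256
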