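import Groth.Statements.S12258
import Mathlib.CategoryTheory.Limits.Types.Products
import Mathlib.CategoryTheory.Limits.FunctorCategory.Basic
import Mathlib.CategoryTheory.Limits.Shapes.BinaryProducts

set_option autoImplicit false
universe u v
open CategoryTheory CategoryTheory.Limits
open Deform

namespace Groth.Agent.S12258

lemma types_cone_exists (K : Discrete Limits.WalkingPair ⥤ Type v) (c : Limits.Cone K)
    (h : Limits.IsLimit c) (x : K.obj ⟨Limits.WalkingPair.left⟩) (y : K.obj ⟨Limits.WalkingPair.right⟩) :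
    ∃ z : c.pt, c.π.app ⟨Limits.WalkingPair.left⟩ z = x ∧ c.π.app ⟨Limits.WalkingPair.right⟩ z = y := by
  let s : Limits.Cone K :=
    { pt := PUnit.{v+1}
      π := Discrete.natTrans (fun j => match j with
        | ⟨Limits.WalkingPair.left⟩ => TypeCat.ofHom fun _ => x
        | ⟨Limits.WalkingPair.right⟩ => TypeCat.ofHom fun _ => y) }
  refine ⟨h.lift s PUnit.unit, ?_, ?_⟩
  · exact ConcreteCategory.congr_hom (h.fac s ⟨Limits.WalkingPair.left⟩) PUnit.unit
  · exact ConcreteCategory.congr_hom (h.fac s ⟨Limits.WalkingPair.right⟩) PUnit.unit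

lemma types_cone_ext (K : Discrete Limits.WalkingPair ⥤ Type v) (c : Limits.Cone K)
    (h : Limits.IsLimit c) (z z' : c.pt)
    (h1 : c.π.app ⟨Limits.WalkingPair.left⟩ z = c.π.app ⟨Limits.WalkingPair.left⟩ z')
    (h2 : c.π.app ⟨Limits.WalkingPair.right⟩ z = c.π.app ⟨Limits.WalkingPair.right⟩ z') : z = z' := by
  let f : PUnit.{v+1} ⟶ c.pt := TypeCat.ofHom fun _ => z
  let g : PUnit.{v+1} ⟶ c.pt := TypeCat.ofHom fun _ => z'
  have hfg : f = g := by
    apply h.hom_ext
    rintro ⟨j | j⟩
    · ext u; exact h1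
    · ext u; exact h2
  exact ConcreteCategory.congr_hom hfg PUnit.unit

/-- Let k be an algebraically closed field, Λ a complete local Noetherian k-algebra with residue field
k, and F, G set-valued functors on local Artinian Λ-algebras with residue field k, each with
one-point value at k. If F and G are smooth functors, i.e. F(B) → F(A) and G(B) → G(A) are
surjective for every surjection B → A, then the product functor F × G is smooth. -/
theorem result
    {k Λ : Type u} [Field k] [IsAlgClosed k] [CommRing Λ] [IsLocalRing Λ] [IsNoetherianRing Λ]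
    [IsAdicComplete (IsLocalRing.maximalIdeal Λ) Λ] [Algebra k Λ] [Algebra Λ k] [IsScalarTower k Λ k]
    {F G : ArtFun.Art Λ k ⥤ Type v}
    (hF : ArtFun.H0 F) (hG : ArtFun.H0 G) (sF : ArtFun.IsSmoothFunctor F) (sG : ArtFun.IsSmoothFunctor G) :
    ArtFun.IsSmoothFunctor (F ⨯ G) := by
  intro B A μ hμ p
  have limA : IsLimit (((evaluation _ _).obj A).mapCone (BinaryFan.mk (Limits.prod.fst : F ⨯ G ⟶ F) Limits.prod.snd)) :=
    isLimitOfPreserves _ (prodIsProd F G)
  have limB : IsLimit (((evaluation _ _).obj B).mapCone (BinaryFan.mk (Limits.prod.fst : F ⨯ G ⟶ F) Limits.prod.snd)) :=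
    isLimitOfPreserves _ (prodIsProd F G)
  obtain ⟨x', hx'⟩ := sF μ hμ ((Limits.prod.fst : F ⨯ G ⟶ F).app A p)
  obtain ⟨y', hy'⟩ := sG μ hμ ((Limits.prod.snd : F ⨯ G ⟶ G).app A p)
  obtain ⟨q, hq1, hq2⟩ := types_cone_exists _ _ limB x' y'
  refine ⟨q, ?_⟩
  apply types_cone_ext _ _ limA
  · change (Limits.prod.fst : F ⨯ G ⟶ F).app A ((F ⨯ G).map μ q) = (Limits.prod.fst : F ⨯ G ⟶ F).app A p
    rw [NatTrans.naturality_apply, ← hx']
    exact congrArg _ hq1
  · change (Limits.prod.snd : F ⨯ G ⟶ G).app A ((F ⨯ G).map μ q) = (Limits.prod.snd : F ⨯ G ⟶ G).app A p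
    rw [NatTrans.naturality_apply, ← hy']
    exact congrArg _ hq2

end Groth.Agent.S12258
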