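import Mathlib
import Groth.Statements.S12263
import Groth.Agent.Lib.DefSchAff1
import Groth.Agent.Lib.DefSchRigid1

set_option autoImplicit false
universe u
open CategoryTheory CategoryTheory.Limits AlgebraicGeometry
open Deform

namespace Groth.Agent.S12263

/-- Let k be an algebraically closed field and B₀ a finitely generated commutative k-algebra. Suppose
T^1_{B₀} = 0 in the form: every k-algebra extension of B₀ by the B₀-module B₀ (square-zero kernel)
is trivial. Then B₀ is rigid: every deformation of Spec B₀ over a local Artinian k-algebra A with
residue field k (a scheme flat over Spec A together with a cartesian square exhibiting Spec B₀ as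
the fibre over the closed point) is isomorphic, over Spec A and under Spec B₀, to the product
deformation Spec B₀ ×_k Spec A. (The published statement is for a k-algebra B₀, Noetherian by the
standing convention; this row takes B₀ finitely generated over k, the case covered by the results on
algebraic schemes that its proof cites. It also asserts a semiuniversal formal element when T^1_{B₀}
is finite-dimensional, in particular for isolated singularities; those clauses are instances of
results on all algebraic schemes and are not repeated here. The first-order deformations of B₀
correspond to the k-algebra extensions of B₀ by B₀, the trivial deformation to the trivial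
extension.) -/
theorem result
    {k : Type u} [Field k] [IsAlgClosed k] (B₀ : Type u) [CommRing B₀] [Algebra k B₀] [Algebra.FiniteType k B₀]
    (hT : ∀ E : Exal.Ext k B₀ B₀, E.IsTrivial) (A : ArtFun.Art k k)
    (ξ : ArtFun.DefSch (Spec (CommRingCat.of B₀)) (Spec.map (CommRingCat.ofHom (algebraMap k B₀))) A) :
    Nonempty (ξ.Iso (ArtFun.DefSch.trivial (Spec (CommRingCat.of B₀))
      (Spec.map (CommRingCat.ofHom (algebraMap k B₀))) inferInstance A)) := by
  open Groth.Agent.Lib.DefSchAff in
  let φ : A →+* Γ(ξ.total, ⊤) := algA ξ
  let _ : Algebra k Γ(ξ.total, ⊤) := (φ.comp (algebraMap k A)).toAlgebra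
  let π : Γ(ξ.total, ⊤) →ₐ[k] B₀ :=
    { proj ξ with
      commutes' := fun c => by
        change proj ξ (algA ξ (algebraMap k A c)) = algebraMap k B₀ c
        rw [proj_algA, AlgHom.commutes]
        rfl }
  have hker : ∀ r : Γ(ξ.total, ⊤), π r = 0 ↔ r ∈ (IsLocalRing.maximalIdeal A).map φ := by
    intro r
    rw [← ker_proj ξ, RingHom.mem_ker]
    rfl
  obtain ⟨s, hs⟩ := Groth.Agent.Lib.DefSchRigid.exists_section φ π (flat_algA ξ)
    (proj_surjective ξ) hker hT
  exact nonempty_iso_trivial_of_section ξ inferInstance s.toRingHom hs (fun c => s.commutes c)

end Groth.Agent.S12263
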