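import Mathlib
import Groth.Statements.S12264
import Groth.Agent.Lib.Unobs5
import Groth.Agent.Lib.NodeDef3

set_option autoImplicit false
universe u
open CategoryTheory CategoryTheory.Limits AlgebraicGeometry
open Deform

namespace Groth.Agent.S12264

/-- Let k be an algebraically closed field and B₀ a k-algebra given with a finite presentation P =
k[X_i]/(f_s) (finitely many variables and relations), and let T² = T²(B₀/k, B₀) be the second
cotangent module computed from P (classes of B₀-linear maps on the relation module modulo trivial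
relations, modulo those extending to the free module on the relations). Suppose T² = 0. Then Spec B₀
is unobstructed: for every small extension A' → A of local Artinian k-algebras with residue field k
the map Def_{B₀}(A') → Def_{B₀}(A) between isomorphism classes of deformations (schemes flat over
the Artinian base with Spec B₀ as closed fibre) is surjective. (The published statement says that
T²_{B₀} is an obstruction space for Def_{B₀}, for B₀ the quotient of any smooth k-algebra that is a
localisation of a polynomial ring: each deformation over A has an obstruction in T²_{B₀} attached to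
each small extension of A, vanishing exactly when a lifting exists; this row states the consequence
for T²_{B₀} = 0 and a polynomial presentation.) -/
theorem result
    {k : Type u} [Field k] [IsAlgClosed k] (B₀ : Type u) [CommRing B₀] [Algebra k B₀] {ι σ : Type u} [Finite ι] [Finite σ]
    (P : Algebra.Presentation k B₀ ι σ)
    (hT2 : Subsingleton (CotT.T2 P B₀))
    {A' A : ArtFun.Art k k} (p : A' ⟶ A) (hp : ArtFun.Art.IsSmallExt p) :
    Function.Surjective ((ArtFun.defFunctor (Λ := k) (Spec (CommRingCat.of B₀)) (Spec.map (CommRingCat.ofHom (algebraMap k B₀)))).map p) := by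
  classical
  intro qξ
  induction qξ using Quotient.inductionOn with
  | h ξ =>
  have _ : Fintype σ := Fintype.ofFinite σ
  -- the small extension data
  obtain ⟨hps, hne, ⟨t, ht⟩, hmul⟩ := hp
  have ht' : RingHom.ker (p.toAlgHom : A' →+* A) = Ideal.span {t} := ht
  have hnilA : IsNilpotent (IsLocalRing.maximalIdeal A) :=
    Groth.Agent.Lib.ArtinianFlat.isNilpotent_maximalIdeal
  have hnilA' : IsNilpotent (IsLocalRing.maximalIdeal A') :=
    Groth.Agent.Lib.ArtinianFlat.isNilpotent_maximalIdeal
  have hresp : A.res.comp p.toAlgHom = A'.res := p.res_comp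
  let D : Groth.Agent.Lib.Unobs.SmallData k A' A :=
    { p := p.toAlgHom
      res := A.res
      t := t
      p_surj := hps
      ker_res := Groth.Agent.Lib.DefSchAff.ker_res A
      ker_res' := by
        rw [hresp]
        exact Groth.Agent.Lib.DefSchAff.ker_res A'
      nilA := hnilA
      nilA' := hnilA'
      ker_p := ht'
      t_ne := by
        intro h0
        apply hne
        rw [ht, h0]
        exact Submodule.span_zero_singleton A'.carrier
      t_mul := by
        intro a ha
        have h1 : a * t ∈ IsLocalRing.maximalIdeal A' * RingHom.ker p.toAlgHom :=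
          Ideal.mul_mem_mul ha (by rw [ht]; exact Submodule.mem_span_singleton_self t)
        rw [hmul] at h1
        exact h1 }
  obtain ⟨R', instR', φ', π', ρ, hfl', hπ's, hker', hcomm', hρφ, hπρ⟩ :=
    Groth.Agent.Lib.Unobs.exists_lift_of_T2 P D (Groth.Agent.Lib.DefSchAff.algA ξ)
      (Groth.Agent.Lib.DefSchAff.flat_algA ξ) (Groth.Agent.Lib.DefSchAff.proj ξ)
      (Groth.Agent.Lib.DefSchAff.proj_algA ξ) (Groth.Agent.Lib.DefSchAff.proj_surjective ξ)
      (Groth.Agent.Lib.DefSchAff.ker_proj ξ) hT2
  have hcomm'' : ∀ a, π' (φ' a) = algebraMap k B₀ (A'.res a) := fun a => by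
    rw [hcomm' a]
    congr 1
    exact congrArg (fun f : A' →ₐ[k] k => f a) hresp
  let ξ' := Groth.Agent.Lib.DefSchAff.ofRing R' φ' hfl' π' hcomm'' hπ's hker'
  refine ⟨ξ'.cl, ?_⟩
  rw [ArtFun.defFunctor_map_cl]
  apply Quotient.sound
  let ψ : ξ.total ⟶ Spec (CommRingCat.of R') := ξ.total.toSpecΓ ≫ Spec.map (CommRingCat.ofHom ρ)
  refine Groth.Agent.Lib.DefSchAff.nonempty_iso_baseChange p ξ' ξ ψ ?_ ?_
  · change (ξ.total.toSpecΓ ≫ Spec.map (CommRingCat.ofHom ρ)) ≫ Spec.map (CommRingCat.ofHom φ') =
      ξ.f ≫ Spec.map (CommRingCat.ofHom p.toAlgHom.toRingHom)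
    rw [Groth.Agent.Lib.DefSchAff.f_eq ξ, Category.assoc, Category.assoc, ← Spec.map_comp,
      ← Spec.map_comp]
    congr 2
    refine CommRingCat.hom_ext (RingHom.ext fun a => ?_)
    exact hρφ a
  · change ξ.i ≫ ξ.total.toSpecΓ ≫ Spec.map (CommRingCat.ofHom ρ) =
      Spec.map (CommRingCat.ofHom π')
    rw [← Category.assoc, Groth.Agent.Lib.DefSchAff.i_toSpecΓ ξ, Category.assoc, ← Spec.map_comp,
      ← Spec.map_comp]
    congr 1
    refine CommRingCat.hom_ext (RingHom.ext fun r => ?_)
    exact hπρ r

end Groth.Agent.S12264
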