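import Mathlib
import Groth.Statements.S12268
import Groth.Agent.Lib.HullDimB
import Groth.Agent.Lib.HullDimD
import Groth.Agent.Lib.HullDimE
import Groth.Agent.Lib.HullDimF

set_option autoImplicit false
universe u
open CategoryTheory CategoryTheory.Limits AlgebraicGeometry
open Deform

namespace Groth.Agent.S12268

/-- Let k be an algebraically closed field and B₀ a k-algebra with a finite presentation P =
k[X_i]/(f_s); let T¹ = T¹(B₀/k, B₀) and T² = T²(B₀/k, B₀) be the first and second cotangent modules
computed from P, and assume T¹ is finite-dimensional over k. Then for every semiuniversal formal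
deformation of Spec B₀ — a complete local Noetherian k-algebra R̄ with residue field k carrying a
miniversal family for the functor Def_{B₀} of isomorphism classes of deformations — one has dim R̄ ≤
dim_k T¹; if T² is finite-dimensional as well, dim_k T¹ ≤ dim R̄ + dim_k T²; and dim R̄ = dim_k T¹
holds exactly when Spec B₀ is unobstructed, i.e. Def_{B₀}(B) → Def_{B₀}(A) is surjective for every
surjection B → A of local Artinian k-algebras with residue field k. (The published statement writes
the lower bound as dim_k T¹ − dim_k T² ≤ dim R̄, empty when T² is infinite-dimensional, and allows a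
localisation of the polynomial ring as ambient algebra.) -/
theorem result
    {k : Type u} [Field k] [IsAlgClosed k] (B₀ : Type u) [CommRing B₀] [Algebra k B₀] {ι σ : Type u} [Finite ι] [Finite σ]
    (P : Algebra.Presentation k B₀ ι σ)
    [Module.Finite k (CotT.T1 P B₀)] (H : ArtFun.Hull (ArtFun.defFunctor (Λ := k) (Spec (CommRingCat.of B₀)) (Spec.map (CommRingCat.ofHom (algebraMap k B₀))))) :
    ringKrullDim H.ring.carrier ≤ ((Module.finrank k (CotT.T1 P B₀) : ℕ∞) : WithBot ℕ∞) ∧
      (Module.Finite k (CotT.T2 P B₀) →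
        ((Module.finrank k (CotT.T1 P B₀) : ℕ∞) : WithBot ℕ∞) ≤
          ringKrullDim H.ring.carrier + ((Module.finrank k (CotT.T2 P B₀) : ℕ∞) : WithBot ℕ∞)) ∧
      (ringKrullDim H.ring.carrier = ((Module.finrank k (CotT.T1 P B₀) : ℕ∞) : WithBot ℕ∞) ↔
        ArtFun.IsSmoothFunctor (ArtFun.defFunctor (Λ := k) (Spec (CommRingCat.of B₀)) (Spec.map (CommRingCat.ofHom (algebraMap k B₀))))) := by
  classical
  have h0 : ArtFun.H0 (Groth.Agent.Lib.DefGlue.DF k B₀ (k := k)) := Groth.Agent.Lib.DefGlue.h0_DF
  have h2 : ArtFun.Heps (Groth.Agent.Lib.DefGlue.DF k B₀ (k := k)) := Groth.Agent.Lib.DefGlue.heps_DF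
  letI TF : ArtFun.TangentStr (Groth.Agent.Lib.DefGlue.DF k B₀ (k := k)) :=
    Groth.Agent.Lib.H59TangentStr.tangentStr h0 h2
  letI TR : ArtFun.TangentStr (ArtFun.hR H.ring.carrier H.ring.res) :=
    Groth.Agent.Lib.H59TangentStr.tangentStr (Groth.Agent.Lib.H59Pushout.h0_hR H.ring)
      (Groth.Agent.Lib.H59Pushout.heps_hR H.ring)
  have hvers : ArtFun.IsVersal H.family := H.miniversal.1
  -- the embedding dimension is `dim T¹`
  have e1 : Module.finrank k (ArtFun.TangentSpace (ArtFun.hR H.ring.carrier H.ring.res)) =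
      Module.finrank k (ArtFun.TangentSpace (Groth.Agent.Lib.DefGlue.DF k B₀ (k := k))) :=
    Groth.Agent.Lib.HullDim.finrank_tangent_eq_of_miniversal
      (Groth.Agent.Lib.H59Pushout.h0_hR H.ring) (Groth.Agent.Lib.H59Pushout.heps_hR H.ring)
      H.family H.miniversal.2
  have e2 : Module.finrank k (ArtFun.TangentSpace (ArtFun.hR H.ring.carrier H.ring.res)) =
      Module.finrank (IsLocalRing.ResidueField H.ring.carrier)
        (IsLocalRing.CotangentSpace H.ring.carrier) :=
    Groth.Agent.Lib.HullDim.finrank_tangent_hR H.ring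
  have e3 : Module.finrank k (ArtFun.TangentSpace (Groth.Agent.Lib.DefGlue.DF k B₀ (k := k))) =
      Module.finrank k (CotT.T1 P B₀) :=
    Groth.Agent.Lib.DefTan.finrank_tangent_DF k P h0 h2
  have hd : Module.finrank (IsLocalRing.ResidueField H.ring.carrier)
      (IsLocalRing.CotangentSpace H.ring.carrier) = Module.finrank k (CotT.T1 P B₀) := by
    rw [← e2, e1, e3]
  have hcast : ∀ n : ℕ, ((n : ℕ∞) : WithBot ℕ∞) = (n : WithBot ℕ∞) := fun n => rfl
  have hupper := Groth.Agent.Lib.HullDim.ringKrullDim_le_finrank_cotangentSpace H.ring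
  rw [hd] at hupper
  refine ⟨by rw [hcast]; exact hupper, ?_, ?_⟩
  · intro hfin
    have hwop : Groth.Agent.Lib.HullDim.WOP (Groth.Agent.Lib.DefGlue.DF k B₀ (k := k))
        (Module.finrank k (CotT.T2 P B₀)) := by
      intro C' C p hp hlt u
      exact Groth.Agent.Lib.HullDim.exists_hyperplane_lift_DF B₀ P p hp hlt u
    have hlow := Groth.Agent.Lib.HullDim.finrank_cotangentSpace_le_of_wop H.ring _
      (hwop.of_versal H.family hvers)
    rw [hd] at hlow
    rw [hcast, hcast]
    exact hlow
  · rw [hcast]
    constructor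
    · intro hdim
      rw [← hd] at hdim
      obtain ⟨u, husurj, hker⟩ := Groth.Agent.Lib.H59ObsDim.exists_presentation_finrank H.ring
      have hinj := Groth.Agent.Lib.HullDim.injective_of_dim_eq H.ring u husurj hdim
      have hsm := Groth.Agent.Lib.HullDim.isSmoothFunctor_hR_of_bijective H.ring u ⟨hinj, husurj⟩
      exact Groth.Agent.Lib.HullDim.isSmoothFunctor_of_versal h0 H.ring H.family hvers hsm
    · intro hsm
      have hwop := (Groth.Agent.Lib.HullDim.WOP.of_smooth hsm).of_versal H.family hvers
      have hlow := Groth.Agent.Lib.HullDim.finrank_cotangentSpace_le_of_wop H.ring 0 hwop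
      rw [Nat.cast_zero, add_zero, hd] at hlow
      exact le_antisymm hupper hlow

end Groth.Agent.S12268
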