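import Groth.Statements.S1227
-- import your own Groth.Agent.* helpers here
import Mathlib.LinearAlgebra.TensorProduct.RightExactness

set_option autoImplicit false
universe u
open FlatMor

namespace Groth.Agent.S1227

open TensorProduct in
/-- Let u be a surjective linear map from a projective A-module M to an A-module N. Then there is an
ideal I of A such that for every A-algebra B, the base change u ⊗ 1 from B ⊗ M to B ⊗ N is bijective
if and only if the image of I in B is zero. -/
theorem result {A : Type u} [CommRing A] {M N : Type u} [AddCommGroup M] [Module A M] [Module.Projective A M]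
    [AddCommGroup N] [Module A N] (u : M →ₗ[A] N) (hu : Function.Surjective u) :
    ∃ I : Ideal A, ∀ (B : Type u) [CommRing B] [Algebra A B],
      Function.Bijective (u.baseChange B) ↔ I.map (algebraMap A B) = ⊥ := by
  obtain ⟨s, hs⟩ := Module.projective_def'.mp (inferInstance : Module.Projective A M)
  refine ⟨Ideal.span {a | ∃ k ∈ LinearMap.ker u, ∃ j : M, a = s k j}, ?_⟩
  intro B _ _
  constructor
  · intro hbij
    rw [Ideal.map_span, Ideal.span_eq_bot]
    rintro _ ⟨a, ⟨k, hk, j, rfl⟩, rfl⟩
    have h1 : (1 : B) ⊗ₜ[A] k = 0 := by
      apply hbij.1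
      simp [LinearMap.baseChange_tmul, LinearMap.mem_ker.mp hk]
    have h2 := congrArg ((TensorProduct.rid A B).toLinearMap ∘ₗ
      ((Finsupp.lapply j ∘ₗ s).lTensor B)) h1
    simpa [Algebra.smul_def, mul_comm] using h2
  · intro hI
    have hI' : ∀ k ∈ LinearMap.ker u, ∀ j : M, algebraMap A B (s k j) = 0 := by
      intro k hk j
      have : algebraMap A B (s k j) ∈ Ideal.map (algebraMap A B)
          (Ideal.span {a | ∃ k ∈ LinearMap.ker u, ∃ j : M, a = s k j}) :=
        Ideal.mem_map_of_mem _ (Ideal.subset_span ⟨k, hk, j, rfl⟩)
      rw [hI] at this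
      simpa using this
    have hk0 : ∀ k ∈ LinearMap.ker u, (1 : B) ⊗ₜ[A] k = 0 := by
      intro k hk
      have hk' : k = Finsupp.linearCombination A id (s k) := by
        conv_lhs => rw [← LinearMap.id_apply (R := A) k, ← hs]
        rfl
      rw [hk', Finsupp.linearCombination_apply, Finsupp.sum, TensorProduct.tmul_sum]
      apply Finset.sum_eq_zero
      intro j _
      rw [id, TensorProduct.tmul_smul, TensorProduct.smul_tmul', Algebra.smul_def, hI' k hk j]
      simp
    refine ⟨?_, LinearMap.baseChange_surjective B hu⟩
    · have key : ∀ w : B ⊗[A] (LinearMap.ker u), (LinearMap.ker u).subtype.lTensor B w = 0 := by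
        intro w
        induction w using TensorProduct.induction_on with
        | zero => simp
        | tmul b k =>
          rw [LinearMap.lTensor_tmul]
          have : b ⊗ₜ[A] ((LinearMap.ker u).subtype k) = b • ((1 : B) ⊗ₜ[A] (k : M)) := by
            simp [TensorProduct.smul_tmul']
          rw [this, hk0 k k.2, smul_zero]
        | add x y hx hy =>
          rw [map_add, hx, hy, add_zero]
      rw [← LinearMap.ker_eq_bot, eq_bot_iff]
      intro z hz
      have hex : Function.Exact ((LinearMap.ker u).subtype.lTensor B) (u.lTensor B) :=
        lTensor_exact B (LinearMap.exact_subtype_ker_map u) hu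
      have hz' : u.lTensor B z = 0 := by
        simpa [LinearMap.baseChange_eq_ltensor] using hz
      obtain ⟨w, rfl⟩ := (hex z).mp hz'
      rw [Submodule.mem_bot]
      exact key w

end Groth.Agent.S1227
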