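import Groth.Statements.S12284
import Mathlib.Algebra.Module.SnakeLemma
import Mathlib.Algebra.Module.Projective
import Mathlib.Tactic

set_option autoImplicit false
universe u w m
open scoped TensorProduct
open DefT

namespace Groth.Agent.S12284

open Function CotT

section hom

variable {B : Type*} [CommRing B] {L : Type*} [AddCommGroup L] [Module B L]
  {M' M M'' : Type*} [AddCommGroup M'] [Module B M'] [AddCommGroup M] [Module B M]
  [AddCommGroup M''] [Module B M'']
  (f : M' →ₗ[B] M) (g : M →ₗ[B] M'')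

lemma comp_inj (hf : Injective f) {a a' : L →ₗ[B] M'} (h : f ∘ₗ a = f ∘ₗ a') : a = a' := by
  ext x
  exact hf (LinearMap.congr_fun h x)

lemma comp_eq_zero (hf : Injective f) {a : L →ₗ[B] M'} (h : f ∘ₗ a = 0) : a = 0 := by
  apply comp_inj f hf
  rw [h, LinearMap.comp_zero]

include g in
lemma exists_lift_of_comp_eq_zero (hf : Injective f) (hfg : Exact f g) (φ : L →ₗ[B] M)
    (h : g ∘ₗ φ = 0) : ∃ a : L →ₗ[B] M', f ∘ₗ a = φ := by
  have hmem : ∀ x, φ x ∈ LinearMap.range f := fun x => (hfg (φ x)).1 (LinearMap.congr_fun h x)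
  refine ⟨(LinearEquiv.ofInjective f hf).symm.toLinearMap ∘ₗ
    LinearMap.codRestrict (LinearMap.range f) φ hmem, ?_⟩
  ext x
  have := (LinearEquiv.ofInjective f hf).apply_symm_apply ⟨φ x, hmem x⟩
  exact congrArg Subtype.val this

lemma gf_zero (hfg : Exact f g) : g ∘ₗ f = 0 := by
  ext x
  exact (hfg (f x)).2 ⟨x, rfl⟩

lemma exists_proj_lift [Module.Projective B L] (hg : Surjective g) (φ : L →ₗ[B] M'') :
    ∃ ψ : L →ₗ[B] M, g ∘ₗ ψ = φ :=
  Module.projective_lifting_property g φ hg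

end hom

section main

variable {A B : Type u} [CommRing A] [CommRing B] [Algebra A B] {ι σ : Type w}
  (P : Algebra.Presentation A B ι σ)

instance : Module.Projective B (L0 P) := Module.Projective.of_basis P.cotangentSpaceBasis

instance : Module.Projective B (L1 P) := Module.Projective.of_basis (L1basis P)

variable {M' M M'' : Type m} [AddCommGroup M'] [Module B M'] [AddCommGroup M] [Module B M]
  [AddCommGroup M''] [Module B M'']
  (f : M' →ₗ[B] M) (g : M →ₗ[B] M'')

lemma T0map_coe {N N' : Type m} [AddCommGroup N] [Module B N] [AddCommGroup N'] [Module B N']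
    (h : N →ₗ[B] N') (φ : T0 P N) : ((T0map P h φ : T0 P N') : L0 P →ₗ[B] N') = h ∘ₗ (φ : L0 P →ₗ[B] N) :=
  rfl

lemma cocycles1Map_coe {N N' : Type m} [AddCommGroup N] [Module B N] [AddCommGroup N'] [Module B N']
    (h : N →ₗ[B] N') (c : cocycles1 P N) :
    ((cocycles1Map P h c : cocycles1 P N') : L1 P →ₗ[B] N') = h ∘ₗ (c : L1 P →ₗ[B] N) :=
  rfl

lemma T1map_mk {N N' : Type m} [AddCommGroup N] [Module B N] [AddCommGroup N'] [Module B N']
    (h : N →ₗ[B] N') (c : cocycles1 P N) :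
    T1map P h (Submodule.Quotient.mk c) = Submodule.Quotient.mk (cocycles1Map P h c) :=
  rfl

lemma T2map_mk {N N' : Type m} [AddCommGroup N] [Module B N] [AddCommGroup N'] [Module B N']
    (h : N →ₗ[B] N') (c : L2 P →ₗ[B] N) :
    T2map P h (Submodule.Quotient.mk c) = Submodule.Quotient.mk (h ∘ₗ c) :=
  rfl

lemma mem_cocycles1 {N : Type m} [AddCommGroup N] [Module B N] (c : L1 P →ₗ[B] N) :
    c ∈ cocycles1 P N ↔ c ∘ₗ d2 P = 0 := by
  rw [LinearMap.mem_ker, d2Star_apply]

lemma mem_T0 {N : Type m} [AddCommGroup N] [Module B N] (c : L0 P →ₗ[B] N) :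
    c ∈ LinearMap.ker (d1Star P N) ↔ c ∘ₗ d1 P = 0 := by
  rw [LinearMap.mem_ker, d1Star_apply]

lemma T0_injective (hf : Injective f) : Injective (T0map P f) := by
  intro φ φ' h
  apply Subtype.ext
  apply comp_inj f hf
  exact congrArg Subtype.val h

lemma T0_exact (hf : Injective f) (hfg : Exact f g) : Exact (T0map P f) (T0map P g) := by
  intro φ
  constructor
  · intro h
    have h1 : g ∘ₗ (φ : L0 P →ₗ[B] M) = 0 := congrArg Subtype.val h
    obtain ⟨a, ha⟩ := exists_lift_of_comp_eq_zero f g hf hfg _ h1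
    have ha' : a ∈ LinearMap.ker (d1Star P M') := by
      rw [mem_T0]
      apply comp_eq_zero f hf
      rw [← LinearMap.comp_assoc, ha]
      exact (mem_T0 P _).1 φ.2
    exact ⟨⟨a, ha'⟩, Subtype.ext ha⟩
  · rintro ⟨a, rfl⟩
    apply Subtype.ext
    rw [T0map_coe, T0map_coe, ← LinearMap.comp_assoc, gf_zero f g hfg, LinearMap.zero_comp]
    rfl

lemma T1_exact (hf : Injective f) (hg : Surjective g) (hfg : Exact f g) :
    Exact (T1map P f) (T1map P g) := by
  intro x
  constructor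
  · intro h
    obtain ⟨c, rfl⟩ := Submodule.Quotient.mk_surjective _ x
    rw [T1map_mk, Submodule.Quotient.mk_eq_zero] at h
    obtain ⟨b'', hb''⟩ := h
    rw [Submodule.subtype_apply, cocycles1Map_coe, d1Star_apply] at hb''
    obtain ⟨b, hb⟩ := exists_proj_lift g hg b''
    -- c' = c - b ∘ d1
    have h1 : g ∘ₗ ((c : L1 P →ₗ[B] M) - b ∘ₗ d1 P) = 0 := by
      rw [LinearMap.comp_sub, ← LinearMap.comp_assoc, hb, hb'', sub_self]
    obtain ⟨a, ha⟩ := exists_lift_of_comp_eq_zero f g hf hfg _ h1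
    have ha' : a ∈ cocycles1 P M' := by
      rw [mem_cocycles1]
      apply comp_eq_zero f hf
      rw [← LinearMap.comp_assoc, ha, LinearMap.sub_comp, (mem_cocycles1 P _).1 c.2,
        LinearMap.comp_assoc, d1_comp_d2, LinearMap.comp_zero, sub_self]
    refine ⟨Submodule.Quotient.mk ⟨a, ha'⟩, ?_⟩
    rw [T1map_mk, Submodule.Quotient.eq]
    refine ⟨-b, ?_⟩
    rw [d1Star_apply]
    change _ = (f ∘ₗ a) - (c : L1 P →ₗ[B] M)
    rw [ha]
    simp
  · rintro ⟨y, rfl⟩
    obtain ⟨a, rfl⟩ := Submodule.Quotient.mk_surjective _ y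
    rw [T1map_mk, T1map_mk]
    have : cocycles1Map P g (cocycles1Map P f a) = 0 := by
      apply Subtype.ext
      rw [cocycles1Map_coe, cocycles1Map_coe, ← LinearMap.comp_assoc, gf_zero f g hfg,
        LinearMap.zero_comp]
      rfl
    rw [this]
    rfl

lemma T2_exact (hf : Injective f) (hg : Surjective g) (hfg : Exact f g) :
    Exact (T2map P f) (T2map P g) := by
  intro x
  constructor
  · intro h
    obtain ⟨c, rfl⟩ := Submodule.Quotient.mk_surjective _ x
    rw [T2map_mk, Submodule.Quotient.mk_eq_zero] at h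
    obtain ⟨b'', hb''⟩ := h
    rw [d2Star_apply] at hb''
    obtain ⟨b, hb⟩ := exists_proj_lift g hg b''
    have h1 : g ∘ₗ (c - b ∘ₗ d2 P) = 0 := by
      rw [LinearMap.comp_sub, ← LinearMap.comp_assoc, hb, hb'', sub_self]
    obtain ⟨a, ha⟩ := exists_lift_of_comp_eq_zero f g hf hfg _ h1
    refine ⟨Submodule.Quotient.mk a, ?_⟩
    rw [T2map_mk, Submodule.Quotient.eq, ha]
    refine ⟨-b, ?_⟩
    rw [d2Star_apply]
    simp
  · rintro ⟨y, rfl⟩
    obtain ⟨a, rfl⟩ := Submodule.Quotient.mk_surjective _ y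
    rw [T2map_mk, T2map_mk, ← LinearMap.comp_assoc, gf_zero f g hfg, LinearMap.zero_comp]
    rfl

/-! ### first snake diagram -/

/-- `d₁^*` with values in the cocycles. -/
noncomputable def d1Z (N : Type m) [AddCommGroup N] [Module B N] : (L0 P →ₗ[B] N) →ₗ[B] cocycles1 P N :=
  LinearMap.codRestrict (cocycles1 P N) (d1Star P N) (fun φ => by
    rw [mem_cocycles1, d1Star_apply, LinearMap.comp_assoc, d1_comp_d2, LinearMap.comp_zero])

lemma d1Z_coe (N : Type m) [AddCommGroup N] [Module B N] (φ : L0 P →ₗ[B] N) :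
    ((d1Z P N φ : cocycles1 P N) : L1 P →ₗ[B] N) = φ ∘ₗ d1 P := rfl

lemma exact_llcomp (L : Type*) [AddCommGroup L] [Module B L] (hf : Injective f) (hfg : Exact f g) :
    Exact (LinearMap.llcomp B L M' M f : (L →ₗ[B] M') →ₗ[B] (L →ₗ[B] M))
      (LinearMap.llcomp B L M M'' g : (L →ₗ[B] M) →ₗ[B] (L →ₗ[B] M'')) := by
  intro φ
  constructor
  · intro h
    obtain ⟨a, ha⟩ := exists_lift_of_comp_eq_zero f g hf hfg φ h
    exact ⟨a, ha⟩
  · rintro ⟨a, rfl⟩
    change g ∘ₗ (f ∘ₗ a) = (0 : L →ₗ[B] M'')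
    rw [← LinearMap.comp_assoc, gf_zero f g hfg, LinearMap.zero_comp]

lemma exact_cocycles1Map (hf : Injective f) (hfg : Exact f g) :
    Exact (cocycles1Map P f) (cocycles1Map P g) := by
  intro c
  constructor
  · intro h
    have h1 : g ∘ₗ (c : L1 P →ₗ[B] M) = 0 := congrArg Subtype.val h
    obtain ⟨a, ha⟩ := exists_lift_of_comp_eq_zero f g hf hfg _ h1
    have ha' : a ∈ cocycles1 P M' := by
      rw [mem_cocycles1]
      apply comp_eq_zero f hf
      rw [← LinearMap.comp_assoc, ha]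
      exact (mem_cocycles1 P _).1 c.2
    exact ⟨⟨a, ha'⟩, Subtype.ext ha⟩
  · rintro ⟨a, rfl⟩
    apply Subtype.ext
    rw [cocycles1Map_coe, cocycles1Map_coe, ← LinearMap.comp_assoc, gf_zero f g hfg,
      LinearMap.zero_comp]
    rfl

lemma exact_subtype_d1Z (N : Type m) [AddCommGroup N] [Module B N] :
    Exact (LinearMap.ker (d1Star P N)).subtype (d1Z P N) := by
  intro φ
  constructor
  · intro h
    have : φ ∈ LinearMap.ker (d1Star P N) := by
      rw [mem_T0]
      exact congrArg Subtype.val h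
    exact ⟨⟨φ, this⟩, rfl⟩
  · rintro ⟨a, rfl⟩
    apply Subtype.ext
    rw [d1Z_coe]
    exact (mem_T0 P _).1 a.2

lemma exact_d1Z_mkQ (N : Type m) [AddCommGroup N] [Module B N] :
    Exact (d1Z P N) (coboundaries1 P N).mkQ := by
  intro c
  rw [Submodule.mkQ_apply, Submodule.Quotient.mk_eq_zero]
  constructor
  · rintro ⟨b, hb⟩
    exact ⟨b, Subtype.ext hb⟩
  · rintro ⟨b, rfl⟩
    exact ⟨b, rfl⟩

lemma exists_delta0 (hf : Injective f) (hg : Surjective g) (hfg : Exact f g) :
    ∃ δ₀ : T0 P M'' →ₗ[B] T1 P M', Exact (T0map P g) δ₀ ∧ Exact δ₀ (T1map P f) := by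
  have h₁ : (cocycles1Map P f).comp (d1Z P M') = (d1Z P M).comp (LinearMap.llcomp B (L0 P) M' M f) := by
    ext φ : 1
    apply Subtype.ext
    rfl
  have h₂ : (cocycles1Map P g).comp (d1Z P M) = (d1Z P M'').comp (LinearMap.llcomp B (L0 P) M M'' g) := by
    ext φ : 1
    apply Subtype.ext
    rfl
  have hf₂ : Surjective (LinearMap.llcomp B (L0 P) M M'' g) := fun φ => exists_proj_lift g hg φ
  have hg₁ : Injective (cocycles1Map P f) := by
    intro c c' h
    apply Subtype.ext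
    apply comp_inj f hf
    exact congrArg Subtype.val h
  refine ⟨SnakeLemma.δ' (d1Z P M') (d1Z P M) (d1Z P M'')
    (LinearMap.llcomp B (L0 P) M' M f) (LinearMap.llcomp B (L0 P) M M'' g)
    (exact_llcomp f g (L0 P) hf hfg) (cocycles1Map P f) (cocycles1Map P g)
    (exact_cocycles1Map P f g hf hfg) h₁ h₂ (LinearMap.ker (d1Star P M'')).subtype
    (exact_subtype_d1Z P M'') (coboundaries1 P M').mkQ (exact_d1Z_mkQ P M') hf₂ hg₁, ?_, ?_⟩
  · refine SnakeLemma.exact_δ'_right (d1Z P M') (d1Z P M) (d1Z P M'')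
      (LinearMap.llcomp B (L0 P) M' M f) (LinearMap.llcomp B (L0 P) M M'' g)
      (exact_llcomp f g (L0 P) hf hfg) (cocycles1Map P f) (cocycles1Map P g)
      (exact_cocycles1Map P f g hf hfg) h₁ h₂ (LinearMap.ker (d1Star P M)).subtype
      (exact_subtype_d1Z P M) (LinearMap.ker (d1Star P M'')).subtype
      (exact_subtype_d1Z P M'') (coboundaries1 P M').mkQ (exact_d1Z_mkQ P M') hf₂ hg₁
      (T0map P g) ?_ (Submodule.subtype_injective _)
    ext φ : 1
    rfl
  · refine SnakeLemma.exact_δ'_left (d1Z P M') (d1Z P M) (d1Z P M'')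
      (LinearMap.llcomp B (L0 P) M' M f) (LinearMap.llcomp B (L0 P) M M'' g)
      (exact_llcomp f g (L0 P) hf hfg) (cocycles1Map P f) (cocycles1Map P g)
      (exact_cocycles1Map P f g hf hfg) h₁ h₂ (LinearMap.ker (d1Star P M'')).subtype
      (exact_subtype_d1Z P M'') (coboundaries1 P M').mkQ (exact_d1Z_mkQ P M')
      (coboundaries1 P M).mkQ (exact_d1Z_mkQ P M) hf₂ hg₁
      (T1map P f) ?_ (Submodule.mkQ_surjective _)
    ext c : 1
    rfl

/-! ### second snake diagram -/

/-- `C¹ / B¹`. -/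
abbrev Q1 (N : Type m) [AddCommGroup N] [Module B N] : Type _ :=
  (L1 P →ₗ[B] N) ⧸ LinearMap.range (d1Star P N)

/-- map induced on `C¹/B¹`. -/
noncomputable def Q1map {N N' : Type m} [AddCommGroup N] [Module B N] [AddCommGroup N'] [Module B N']
    (h : N →ₗ[B] N') : Q1 P N →ₗ[B] Q1 P N' :=
  Submodule.mapQ _ _ (LinearMap.llcomp B (L1 P) N N' h) (by
    rintro _ ⟨ψ, rfl⟩
    exact ⟨h ∘ₗ ψ, by rw [d1Star_apply, d1Star_apply, LinearMap.comp_assoc]; rfl⟩)

lemma Q1map_mk {N N' : Type m} [AddCommGroup N] [Module B N] [AddCommGroup N'] [Module B N']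
    (h : N →ₗ[B] N') (c : L1 P →ₗ[B] N) :
    Q1map P h (Submodule.Quotient.mk c) = Submodule.Quotient.mk (h ∘ₗ c) := rfl

/-- `d₂^*` on `C¹/B¹`. -/
noncomputable def d2Q (N : Type m) [AddCommGroup N] [Module B N] : Q1 P N →ₗ[B] (L2 P →ₗ[B] N) :=
  Submodule.liftQ _ (d2Star P N) (by
    rintro _ ⟨ψ, rfl⟩
    rw [LinearMap.mem_ker, ← LinearMap.comp_apply, d2Star_comp_d1Star, LinearMap.zero_apply])

lemma d2Q_mk (N : Type m) [AddCommGroup N] [Module B N] (c : L1 P →ₗ[B] N) :
    d2Q P N (Submodule.Quotient.mk c) = c ∘ₗ d2 P := rfl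

/-- the inclusion `T¹ → C¹/B¹`. -/
noncomputable def incl (N : Type m) [AddCommGroup N] [Module B N] : T1 P N →ₗ[B] Q1 P N :=
  Submodule.mapQ (coboundaries1 P N) (LinearMap.range (d1Star P N)) (cocycles1 P N).subtype le_rfl

lemma incl_mk (N : Type m) [AddCommGroup N] [Module B N] (c : cocycles1 P N) :
    incl P N (Submodule.Quotient.mk c) = Submodule.Quotient.mk (c : L1 P →ₗ[B] N) := rfl

lemma incl_injective (N : Type m) [AddCommGroup N] [Module B N] : Injective (incl P N) := by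
  rw [injective_iff_map_eq_zero]
  intro x hx
  obtain ⟨c, rfl⟩ := Submodule.Quotient.mk_surjective _ x
  rw [incl_mk, Submodule.Quotient.mk_eq_zero] at hx
  rw [Submodule.Quotient.mk_eq_zero]
  exact hx

lemma exact_incl_d2Q (N : Type m) [AddCommGroup N] [Module B N] :
    Exact (incl P N) (d2Q P N) := by
  intro x
  obtain ⟨c, rfl⟩ := Submodule.Quotient.mk_surjective _ x
  rw [d2Q_mk]
  constructor
  · intro h
    exact ⟨Submodule.Quotient.mk ⟨c, (mem_cocycles1 P c).2 h⟩, rfl⟩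
  · rintro ⟨y, hy⟩
    obtain ⟨z, rfl⟩ := Submodule.Quotient.mk_surjective _ y
    rw [incl_mk] at hy
    have h1 := congrArg (d2Q P N) hy
    rw [d2Q_mk, d2Q_mk] at h1
    rw [← h1]
    exact (mem_cocycles1 P _).1 z.2

lemma exact_d2Q_toT2 (N : Type m) [AddCommGroup N] [Module B N] :
    Exact (d2Q P N) (LinearMap.range (d2Star P N)).mkQ := by
  intro y
  rw [Submodule.mkQ_apply, Submodule.Quotient.mk_eq_zero]
  constructor
  · rintro ⟨c, rfl⟩
    exact ⟨Submodule.Quotient.mk c, rfl⟩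
  · rintro ⟨x, rfl⟩
    obtain ⟨c, rfl⟩ := Submodule.Quotient.mk_surjective _ x
    exact ⟨c, rfl⟩

lemma exact_Q1map (hf : Injective f) (hg : Surjective g) (hfg : Exact f g) :
    Exact (Q1map P f) (Q1map P g) := by
  intro x
  constructor
  · intro h
    obtain ⟨c, rfl⟩ := Submodule.Quotient.mk_surjective _ x
    rw [Q1map_mk, Submodule.Quotient.mk_eq_zero] at h
    obtain ⟨b'', hb''⟩ := h
    rw [d1Star_apply] at hb''
    obtain ⟨b, hb⟩ := exists_proj_lift g hg b''
    have h1 : g ∘ₗ (c - b ∘ₗ d1 P) = 0 := by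
      rw [LinearMap.comp_sub, ← LinearMap.comp_assoc, hb, hb'', sub_self]
    obtain ⟨a, ha⟩ := exists_lift_of_comp_eq_zero f g hf hfg _ h1
    refine ⟨Submodule.Quotient.mk a, ?_⟩
    rw [Q1map_mk, Submodule.Quotient.eq, ha]
    refine ⟨-b, ?_⟩
    rw [d1Star_apply]
    simp
  · rintro ⟨y, rfl⟩
    obtain ⟨a, rfl⟩ := Submodule.Quotient.mk_surjective _ y
    rw [Q1map_mk, Q1map_mk, ← LinearMap.comp_assoc, gf_zero f g hfg, LinearMap.zero_comp]
    rfl

lemma exists_delta1 (hf : Injective f) (hg : Surjective g) (hfg : Exact f g) :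
    ∃ δ₁ : T1 P M'' →ₗ[B] T2 P M', Exact (T1map P g) δ₁ ∧ Exact δ₁ (T2map P f) := by
  have h₁ : (LinearMap.llcomp B (L2 P) M' M f).comp (d2Q P M') = (d2Q P M).comp (Q1map P f) := by
    apply Submodule.linearMap_qext
    ext c : 1
    rfl
  have h₂ : (LinearMap.llcomp B (L2 P) M M'' g).comp (d2Q P M) = (d2Q P M'').comp (Q1map P g) := by
    apply Submodule.linearMap_qext
    ext c : 1
    rfl
  have hf₂ : Surjective (Q1map P g) := by
    intro x
    obtain ⟨c'', rfl⟩ := Submodule.Quotient.mk_surjective _ x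
    obtain ⟨c, hc⟩ := exists_proj_lift g hg c''
    exact ⟨Submodule.Quotient.mk c, by rw [Q1map_mk, hc]⟩
  have hg₁ : Injective (LinearMap.llcomp B (L2 P) M' M f : (L2 P →ₗ[B] M') →ₗ[B] (L2 P →ₗ[B] M)) :=
    fun a a' h => comp_inj f hf h
  refine ⟨SnakeLemma.δ' (d2Q P M') (d2Q P M) (d2Q P M'')
    (Q1map P f) (Q1map P g) (exact_Q1map P f g hf hg hfg)
    (LinearMap.llcomp B (L2 P) M' M f) (LinearMap.llcomp B (L2 P) M M'' g)
    (exact_llcomp f g (L2 P) hf hfg) h₁ h₂ (incl P M'') (exact_incl_d2Q P M'')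
    (LinearMap.range (d2Star P M')).mkQ (exact_d2Q_toT2 P M') hf₂ hg₁, ?_, ?_⟩
  · refine SnakeLemma.exact_δ'_right (d2Q P M') (d2Q P M) (d2Q P M'')
      (Q1map P f) (Q1map P g) (exact_Q1map P f g hf hg hfg)
      (LinearMap.llcomp B (L2 P) M' M f) (LinearMap.llcomp B (L2 P) M M'' g)
      (exact_llcomp f g (L2 P) hf hfg) h₁ h₂ (incl P M) (exact_incl_d2Q P M)
      (incl P M'') (exact_incl_d2Q P M'')
      (LinearMap.range (d2Star P M')).mkQ (exact_d2Q_toT2 P M') hf₂ hg₁
      (T1map P g) ?_ (incl_injective P M'')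
    apply Submodule.linearMap_qext
    ext c : 1
    rfl
  · refine SnakeLemma.exact_δ'_left (d2Q P M') (d2Q P M) (d2Q P M'')
      (Q1map P f) (Q1map P g) (exact_Q1map P f g hf hg hfg)
      (LinearMap.llcomp B (L2 P) M' M f) (LinearMap.llcomp B (L2 P) M M'' g)
      (exact_llcomp f g (L2 P) hf hfg) h₁ h₂ (incl P M'') (exact_incl_d2Q P M'')
      (LinearMap.range (d2Star P M')).mkQ (exact_d2Q_toT2 P M')
      (LinearMap.range (d2Star P M)).mkQ (exact_d2Q_toT2 P M) hf₂ hg₁
      (T2map P f) ?_ (Submodule.mkQ_surjective _)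
    ext c : 1
    rfl

end main

/-- Let A → B be a ring homomorphism, P a presentation of B over A with cotangent complex L₂ → L₁ → L₀,
and 0 → M' → M → M'' → 0 a short exact sequence of B-modules (f : M' → M injective, g : M → M''
surjective, image of f = kernel of g). Write T^i(N) for the i-th cohomology of Hom_B(L•, N) and
T^i(f), T^i(g) for the maps induced by composition. Then T^0(f) is injective, the sequences T^i(M')
→ T^i(M) → T^i(M'') are exact for i = 0, 1, 2, and there are B-linear connecting maps δ₀ : T^0(M'')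
→ T^1(M') and δ₁ : T^1(M'') → T^2(M') such that the nine-term sequence 0 → T^0(M') → T^0(M) →
T^0(M'') → T^1(M') → T^1(M) → T^1(M'') → T^2(M') → T^2(M) → T^2(M'') is exact. (The connecting maps
are asserted to exist with this exactness; the text does not single them out otherwise.) -/
theorem result
    (A B : Type u) [CommRing A] [CommRing B] [Algebra A B] (ι σ : Type w)
    (P : Algebra.Presentation A B ι σ)
    (M' M M'' : Type m) [AddCommGroup M'] [Module B M'] [AddCommGroup M] [Module B M] [AddCommGroup M''] [Module B M'']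
    (f : M' →ₗ[B] M) (g : M →ₗ[B] M'') (hf : Function.Injective f) (hg : Function.Surjective g)
    (hfg : Function.Exact f g) :
    Function.Injective (CotT.T0map P f) ∧ Function.Exact (CotT.T0map P f) (CotT.T0map P g) ∧
      Function.Exact (CotT.T1map P f) (CotT.T1map P g) ∧ Function.Exact (CotT.T2map P f) (CotT.T2map P g) ∧
      ∃ (δ₀ : CotT.T0 P M'' →ₗ[B] CotT.T1 P M') (δ₁ : CotT.T1 P M'' →ₗ[B] CotT.T2 P M'),
        Function.Exact (CotT.T0map P g) δ₀ ∧ Function.Exact δ₀ (CotT.T1map P f) ∧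
        Function.Exact (CotT.T1map P g) δ₁ ∧ Function.Exact δ₁ (CotT.T2map P f) := by
  obtain ⟨δ₀, h0a, h0b⟩ := exists_delta0 P f g hf hg hfg
  obtain ⟨δ₁, h1a, h1b⟩ := exists_delta1 P f g hf hg hfg
  exact ⟨T0_injective P f hf, T0_exact P f g hf hfg, T1_exact P f g hf hg hfg,
    T2_exact P f g hf hg hfg, δ₀, δ₁, h0a, h0b, h1a, h1b⟩

end Groth.Agent.S12284
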