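import Mathlib
import Groth.Statements.S12285
import Groth.Agent.Lib.CotTComp

set_option autoImplicit false
universe u w m
open scoped TensorProduct
open DefT

namespace Groth.Agent.S12285

set_option linter.unusedVariables false
set_option linter.unusedSectionVars false

open CotT Groth.Agent.Lib.CotTPull Groth.Agent.Lib.CotTComp

section Transport

variable {X Y Y' Z : Type*} [Zero Y] [Zero Y'] [Zero Z] (U : X → Y) (V : Y → Z) (OF : X → Y') (TO : Y' → Z)
  (Φ : Y → Y') (Ψ : Y' → Y)

theorem transport_inj (h2 : ∀ x, Φ (U x) = OF x) (hOF : Function.Injective OF) : Function.Injective U := by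
  intro x x' h
  apply hOF
  rw [← h2, ← h2, h]

theorem transport_exact (h2 : ∀ x, Φ (U x) = OF x) (h3 : ∀ y, TO (Φ y) = V y) (h4a : ∀ y, Ψ (Φ y) = y)
    (hex : Function.Exact OF TO) : Function.Exact U V := by
  intro y
  rw [← h3, hex (Φ y)]
  constructor
  · rintro ⟨x, hx⟩
    refine ⟨x, ?_⟩
    rw [← h4a (U x), h2, hx, h4a]
  · rintro ⟨x, rfl⟩
    exact ⟨x, (h2 x).symm⟩

theorem transport_exact_right {W : Type*} [Zero W] (δ : Z → W) (h3 : ∀ y, TO (Φ y) = V y)
    (h4b : ∀ z, Φ (Ψ z) = z) (hex : Function.Exact TO δ) : Function.Exact V δ := by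
  intro z
  rw [hex z]
  constructor
  · rintro ⟨y', rfl⟩
    exact ⟨Ψ y', by rw [← h3, h4b]⟩
  · rintro ⟨y, rfl⟩
    exact ⟨Φ y, h3 y⟩

theorem transport_exact_left {W : Type*} (δ : W → X) (h2 : ∀ x, Φ (U x) = OF x) (h4a : ∀ y, Ψ (Φ y) = y)
    (hΦ0 : Φ 0 = 0) (hex : Function.Exact δ OF) : Function.Exact δ U := by
  intro x
  rw [← hex x, ← h2]
  constructor
  · intro h
    rw [h, hΦ0]
  · intro h
    rw [← h4a (U x), h, ← hΦ0, h4a]

end Transport

section Canon

variable (A B C : Type u) [CommRing A] [CommRing B] [CommRing C] [Algebra A B] [Algebra B C] [Algebra A C]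
  [IsScalarTower A B C]

/-- `A[y_c, x_b] → A[x_c]`: `y_c ↦ x_c`, `x_b ↦ x_{φ(b)}`. -/
noncomputable def bHom :
    Algebra.Generators.Hom ((canon B C).comp (canon A B)).toGenerators (canon A C).toGenerators where
  val := Sum.elim (fun c => MvPolynomial.X c) (fun β => MvPolynomial.X (algebraMap B C β))
  aeval_val i := by
    rcases i with c | β
    · change MvPolynomial.aeval (canon A C).val (MvPolynomial.X c) = _
      rw [MvPolynomial.aeval_X]
      rfl
    · change MvPolynomial.aeval (canon A C).val (MvPolynomial.X (algebraMap B C β)) = _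
      rw [MvPolynomial.aeval_X]
      rfl

/-- the comparison morphism `(canon B C).comp (canon A B) → canon A C` over the identity square. -/
noncomputable def bMor : PresHom ((canon B C).comp (canon A B)) (canon A C) :=
  toCanon _ (bHom A B C)

lemma b_toC_ringHom (r : (canon A B).toExtension.Ring) :
    (bMor A B C).ringHom ((toC (canon A B) (canon B C)).ringHom r) = (canonHom A B A C).ringHom r := by
  have key : ((bHom A B C).toAlgHom).comp
      (((canon B C).toGenerators.toComp (canon A B).toGenerators).toAlgHom) =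
      (Algebra.Generators.defaultHom (canon A B).toGenerators (canon A C).toGenerators).toAlgHom := by
    apply MvPolynomial.algHom_ext
    intro β
    rw [AlgHom.comp_apply, Algebra.Generators.Hom.toAlgHom_X, Algebra.Generators.Hom.toAlgHom_X]
    change (bHom A B C).toAlgHom (MvPolynomial.X (Sum.inr β)) = _
    rw [Algebra.Generators.Hom.toAlgHom_X]
    rfl
  exact DFunLike.congr_fun key r

lemma b_toC_relVal (s : CanonRels A B) :
    (bMor A B C).relModMap ((toC (canon A B) (canon B C)).relVal s) = (canonHom A B A C).relVal s := by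
  change (bMor A B C).relModMap (Finsupp.single (Sum.inr s) 1) = _
  rw [PresHom.relModMap_single, map_one, one_smul]
  have e : (bMor A B C).ringHom (rel ((canon B C).comp (canon A B)) (Sum.inr s)) =
      (canonHom A B A C).ringHom (rel (canon A B) s) := by
    rw [← b_toC_ringHom]
    congr 1
    exact congrFun (rel_comp_eq (canon A B) (canon B C)) (Sum.inr s)
  change Finsupp.single (⟨(bMor A B C).ringHom (rel ((canon B C).comp (canon A B)) (Sum.inr s)), _⟩ :
    CanonRels A C) 1 = Finsupp.single (⟨(canonHom A B A C).ringHom (rel (canon A B) s), _⟩ : CanonRels A C) 1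
  congr 1
  exact Subtype.ext e

end Canon

/-- Let A → B → C be ring homomorphisms and M a C-module. Compute T^i(C/B, M), T^i(C/A, M) and T^i(B/A,
M) from the choice-free presentations (every element a variable, every kernel element a relation),
and let T^i(C/B, M) → T^i(C/A, M) and T^i(C/A, M) → T^i(B/A, M) be the maps induced by the morphisms
of presentations given by A → B over the identity of C and by B → C over the identity of A. Then
T^0(C/B, M) → T^0(C/A, M) is injective, the sequences T^i(C/B, M) → T^i(C/A, M) → T^i(B/A, M) are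
exact for i = 0, 1, 2, and there are additive connecting maps δ₀ : T^0(B/A, M) → T^1(C/B, M) and δ₁
: T^1(B/A, M) → T^2(C/B, M) making the nine-term sequence 0 → T^0(C/B) → T^0(C/A) → T^0(B/A) →
T^1(C/B) → T^1(C/A) → T^1(B/A) → T^2(C/B) → T^2(C/A) → T^2(B/A) exact. (The connecting maps are
asserted to exist with this exactness only, and only as additive maps; the published statement is an
exact sequence of C-modules, with C-linear connecting maps.) -/
theorem result
    (A B C : Type u) [CommRing A] [CommRing B] [CommRing C] [Algebra A B] [Algebra B C] [Algebra A C]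
    [IsScalarTower A B C] (M : Type u) [AddCommGroup M] [Module C M] [Module B M] [IsScalarTower B C M] :
    Function.Injective ((CotT.canonHom A C B C).T0pull M) ∧
    Function.Exact ((CotT.canonHom A C B C).T0pull M) ((CotT.canonHom A B A C).T0pull M) ∧
    Function.Exact ((CotT.canonHom A C B C).T1pull M) ((CotT.canonHom A B A C).T1pull M) ∧
    Function.Exact ((CotT.canonHom A C B C).T2pull M) ((CotT.canonHom A B A C).T2pull M) ∧
    ∃ (δ₀ : CotT.T0 (CotT.canon A B) M →+ CotT.T1 (CotT.canon B C) M)
      (δ₁ : CotT.T1 (CotT.canon A B) M →+ CotT.T2 (CotT.canon B C) M),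
      Function.Exact ((CotT.canonHom A B A C).T0pull M) δ₀ ∧ Function.Exact δ₀ ((CotT.canonHom A C B C).T1pull M) ∧
      Function.Exact ((CotT.canonHom A B A C).T1pull M) δ₁ ∧ Function.Exact δ₁ ((CotT.canonHom A C B C).T2pull M) := by
  have N := comp_nine_term (canon A B) (canon B C) M
  have ha := exists_presHom (P := canon A C) (P' := (canon B C).comp (canon A B)) default
  -- triangle `Qc → PC → Q` against `ofC`
  have h2_0 : ∀ x, (bMor A B C).T0pull M ((canonHom A C B C).T0pull M x) =
      (ofC (canon A B) (canon B C)).T0pull M x := fun x =>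
    T0pull_triangle (bMor A B C) (canonHom A C B C) (ofC (canon A B) (canon B C)) M (fun _ => rfl) x
  have h2_1 : ∀ x, (bMor A B C).T1pull M ((canonHom A C B C).T1pull M x) =
      (ofC (canon A B) (canon B C)).T1pull M x := fun x =>
    T1pull_triangle (bMor A B C) (canonHom A C B C) (ofC (canon A B) (canon B C)) M (fun _ => rfl)
      (fun _ => rfl) x
  have h2_2 : ∀ x, (bMor A B C).T2pull M ((canonHom A C B C).T2pull M x) =
      (ofC (canon A B) (canon B C)).T2pull M x := fun x =>
    T2pull_triangle (bMor A B C) (canonHom A C B C) (ofC (canon A B) (canon B C)) (fun _ => rfl) M x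
  -- triangle `P → Qc → PC` against `canonHom A B A C`
  have h3_0 : ∀ y, (toC (canon A B) (canon B C)).T0pull M ((bMor A B C).T0pull M y) =
      (canonHom A B A C).T0pull M y := fun y =>
    T0pull_triangle (toC (canon A B) (canon B C)) (bMor A B C) (canonHom A B A C) M (fun _ => rfl) y
  have h3_1 : ∀ y, (toC (canon A B) (canon B C)).T1pull M ((bMor A B C).T1pull M y) =
      (canonHom A B A C).T1pull M y := fun y =>
    T1pull_triangle (toC (canon A B) (canon B C)) (bMor A B C) (canonHom A B A C) M (fun _ => rfl)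
      (fun _ => rfl) y
  have h3_2 : ∀ y, (toC (canon A B) (canon B C)).T2pull M ((bMor A B C).T2pull M y) =
      (canonHom A B A C).T2pull M y := fun y =>
    T2pull_strict (toC (canon A B) (canon B C)) (bMor A B C) (canonHom A B A C) M (fun _ => rfl)
      (b_toC_ringHom A B C) (b_toC_relVal A B C) y
  -- `PC → Qc → PC` against the identity
  have h4a_0 : ∀ y, ha.choose.T0pull M ((bMor A B C).T0pull M y) = y := fun y =>
    (T0pull_triangle ha.choose (bMor A B C) (PresHom.id (canon A C)) M (fun _ => rfl) y).trans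
      (T0pull_id (canon A C) M y)
  have h4a_1 : ∀ y, ha.choose.T1pull M ((bMor A B C).T1pull M y) = y := fun y =>
    (T1pull_triangle ha.choose (bMor A B C) (PresHom.id (canon A C)) M (fun _ => rfl) (fun _ => rfl) y).trans
      (T1pull_id (canon A C) M y)
  have h4a_2 : ∀ y, ha.choose.T2pull M ((bMor A B C).T2pull M y) = y := fun y =>
    (T2pull_triangle ha.choose (bMor A B C) (PresHom.id (canon A C)) (fun _ => rfl) M y).trans
      (T2pull_id (canon A C) M y)
  -- `Qc → PC → Qc` against the identity
  have h4b_0 : ∀ z, (bMor A B C).T0pull M (ha.choose.T0pull M z) = z := fun z =>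
    (T0pull_triangle (bMor A B C) ha.choose (PresHom.id ((canon B C).comp (canon A B))) M (fun _ => rfl) z).trans
      (T0pull_id _ M z)
  have h4b_1 : ∀ z, (bMor A B C).T1pull M (ha.choose.T1pull M z) = z := fun z =>
    (T1pull_triangle (bMor A B C) ha.choose (PresHom.id ((canon B C).comp (canon A B))) M (fun _ => rfl)
      (fun _ => rfl) z).trans (T1pull_id _ M z)
  have h4b_2 : ∀ z, (bMor A B C).T2pull M (ha.choose.T2pull M z) = z := fun z =>
    (T2pull_triangle (bMor A B C) ha.choose (PresHom.id ((canon B C).comp (canon A B))) (fun _ => rfl) M z).trans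
      (T2pull_id _ M z)
  refine ⟨transport_inj _ _ _ h2_0 N.1,
    transport_exact _ _ _ _ _ _ h2_0 h3_0 h4a_0 N.2.1,
    transport_exact _ _ _ _ _ _ h2_1 h3_1 h4a_1 N.2.2.1,
    transport_exact _ _ _ _ _ _ h2_2 h3_2 h4a_2 N.2.2.2.1, ?_⟩
  exact N.2.2.2.2.elim fun δ₀ h => h.elim fun δ₁ h' =>
    ⟨δ₀, δ₁,
      transport_exact_right _ _ _ _ δ₀ h3_0 h4b_0 h'.1,
      transport_exact_left _ _ _ _ δ₀ h2_1 h4a_1 (map_zero _) h'.2.1,
      transport_exact_right _ _ _ _ δ₁ h3_1 h4b_1 h'.2.2.1,
      transport_exact_left _ _ _ _ δ₁ h2_2 h4a_2 (map_zero _) h'.2.2.2⟩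

end Groth.Agent.S12285
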