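import Groth.Statements.S12286
-- import your own Groth.Agent.* helpers here

set_option autoImplicit false
universe u w m
open scoped TensorProduct
open DefT

namespace Groth.Agent.S12286

/-- Let A → B be a ring homomorphism, P a presentation of B over A and M a B-module. The canonical
B-linear map from the A-derivations Der_A(B, M) = Hom_B(Ω_{B/A}, M) to T^0(B/A, M) (the kernel of
Hom_B(L₀, M) → Hom_B(L₁, M), L₀ = B ⊗_R Ω_{R/A}), sending a derivation D to b ⊗ dr ↦ b·D(r̄), is
bijective. -/
theorem result
    (A B : Type u) [CommRing A] [CommRing B] [Algebra A B] (ι σ : Type w) (P : Algebra.Presentation A B ι σ)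
    (M : Type m) [AddCommGroup M] [Module B M] [Module A M] [IsScalarTower A B M] :
    Function.Bijective (CotT.derToT0 P M) := by
  constructor
  · intro D D' h
    have h1 : CotT.derLift P M D = CotT.derLift P M D' := congrArg Subtype.val h
    apply Derivation.ext_of_adjoin_eq_top (Set.range P.val)
    · rw [Algebra.adjoin_range_eq_range_aeval, AlgHom.range_eq_top]
      exact P.aeval_val_surjective
    · rintro _ ⟨i, rfl⟩
      rw [← CotT.derLift_basis P M D i, ← CotT.derLift_basis P M D' i, h1]
  · rintro ⟨φ, hφ⟩
    rw [LinearMap.mem_ker, CotT.d1Star_apply] at hφ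
    have hA : φ ∘ₗ P.toExtension.cotangentComplex = 0 := by
      ext x
      obtain ⟨⟨a, ha⟩, rfl⟩ := Algebra.Extension.Cotangent.mk_surjective x
      have ha' : a ∈ LinearMap.range (CotT.jmap P) := by
        rw [CotT.range_jmap]; exact ha
      obtain ⟨f, rfl⟩ := ha'
      have h2 := LinearMap.congr_fun hφ ((1 : B) ⊗ₜ f)
      simp only [LinearMap.comp_apply, CotT.d1, CotT.toCot_tmul, one_smul, LinearMap.zero_apply] at h2
      exact h2
    have hker : LinearMap.ker P.toExtension.toKaehler ≤ LinearMap.ker φ := by
      intro x hx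
      rw [LinearMap.mem_ker] at hx
      obtain ⟨y, rfl⟩ := (P.toExtension.exact_cotangentComplex_toKaehler x).mp hx
      exact LinearMap.congr_fun hA y
    let e := LinearMap.quotKerEquivOfSurjective P.toExtension.toKaehler
      P.toExtension.toKaehler_surjective
    let ψ : Ω[B⁄A] →ₗ[B] M := ((LinearMap.ker P.toExtension.toKaehler).liftQ φ hker) ∘ₗ e.symm.toLinearMap
    have hψ : ∀ x, ψ (P.toExtension.toKaehler x) = φ x := by
      intro x
      change ((LinearMap.ker P.toExtension.toKaehler).liftQ φ hker) (e.symm (P.toExtension.toKaehler x)) = φ x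
      have : e.symm (P.toExtension.toKaehler x) = Submodule.Quotient.mk x := by
        rw [LinearEquiv.symm_apply_eq]
        rfl
      rw [this, Submodule.liftQ_apply]
    refine ⟨ψ.compDer (KaehlerDifferential.D A B), ?_⟩
    apply Subtype.ext
    change CotT.derLift P M (ψ.compDer (KaehlerDifferential.D A B)) = φ
    refine (P.cotangentSpaceBasis).ext fun i => ?_
    rw [CotT.derLift_basis, ← hψ, Algebra.Generators.toKaehler_cotangentSpaceBasis]
    rfl

end Groth.Agent.S12286
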