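import Groth.Statements.S12287
import Groth.Agent.Lib.CotTMor
import Groth.Agent.Lib.CotTIndep01

set_option autoImplicit false
universe u w m
open scoped TensorProduct
open DefT

namespace Groth.Agent.S12287

section aux

open CotT

lemma subsingleton_tensor {R B N : Type*} [CommRing R] [CommRing B] [Algebra R B] [AddCommMonoid N] [Module R N]
    [Subsingleton N] : Subsingleton (B ⊗[R] N) := by
  refine ⟨fun x y => ?_⟩
  have h0 : ∀ z : B ⊗[R] N, z = 0 := by
    intro z
    induction z using TensorProduct.induction_on with
    | zero => rfl
    | tmul b n => rw [Subsingleton.elim n 0, TensorProduct.tmul_zero]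
    | add x y hx hy => rw [hx, hy, add_zero]
  rw [h0 x, h0 y]

variable {A B : Type u} [CommRing A] [CommRing B] [Algebra A B] {κ : Type u}

/-- the presentation of a polynomial algebra with no relations. -/
noncomputable def P0 (e : MvPolynomial κ A ≃ₐ[A] B) : Algebra.Presentation A B κ PEmpty.{u + 1} where
  __ := Algebra.Generators.ofAlgHom e.toAlgHom e.surjective
  relation := PEmpty.elim
  span_range_relation_eq_ker := by
    simp only [Set.range_eq_empty, Ideal.span_empty]
    symm
    rw [Algebra.Generators.ker_eq_ker_aeval_val, ← RingHom.injective_iff_ker_eq_bot]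
    have : (MvPolynomial.aeval (Algebra.Generators.ofAlgHom e.toAlgHom e.surjective).val :
        MvPolynomial κ A →ₐ[A] B) = e.toAlgHom := by
      ext i
      simp [Algebra.Generators.ofAlgHom, Algebra.Generators.ofSurjective]
    change Function.Injective (MvPolynomial.aeval (Algebra.Generators.ofAlgHom e.toAlgHom e.surjective).val)
    rw [this]
    exact e.injective

variable (e : MvPolynomial κ A ≃ₐ[A] B) (M : Type u) [AddCommGroup M] [Module B M]

lemma subsingleton_L1 : Subsingleton (L1 (P0 e)) := subsingleton_tensor

lemma subsingleton_T1 : Subsingleton (T1 (P0 e) M) := by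
  have := subsingleton_L1 e
  exact (Submodule.mkQ_surjective _).subsingleton

lemma subsingleton_T2 : Subsingleton (T2 (P0 e) M) := by
  have : Subsingleton (B ⊗[(P0 e).toExtension.Ring] relKer (P0 e)) := subsingleton_tensor
  have : Subsingleton (L2 (P0 e)) := (Submodule.mkQ_surjective _).subsingleton
  exact (Submodule.mkQ_surjective _).subsingleton

end aux

/-- Let B be an A-algebra that is isomorphic over A to a polynomial ring A[x_j] in some set of
variables. Then for every B-module M the modules T^1(B/A, M) and T^2(B/A, M), computed from the
choice-free presentation of B over A (every element of B a variable, every element of the kernel a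
relation), are zero. -/
theorem result
    (A B : Type u) [CommRing A] [CommRing B] [Algebra A B] (κ : Type u) (e : MvPolynomial κ A ≃ₐ[A] B)
    (M : Type u) [AddCommGroup M] [Module B M] :
    Subsingleton (CotT.T1 (CotT.canon A B) M) ∧ Subsingleton (CotT.T2 (CotT.canon A B) M) := by
  constructor
  · exact (Groth.Agent.Lib.CotTIndep.T1equiv (CotT.canon A B) (P0 e) M).toEquiv.subsingleton_congr.mpr
      (subsingleton_T1 e M)
  · obtain ⟨f⟩ := Groth.Agent.Lib.CotTMor.nonempty_T2equiv (CotT.canon A B) (P0 e) M
    exact f.toEquiv.subsingleton_congr.mpr (subsingleton_T2 e M)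

end Groth.Agent.S12287
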