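import Mathlib
import Groth.Statements.S12290
import Groth.Agent.Lib.SmoothT1
import Groth.Agent.Lib.SmoothT2
import Groth.Agent.Lib.H56RegSmooth
import Groth.Agent.Lib.MacLane4H44
import Groth.Agent.Lib.MacLane5H44

set_option autoImplicit false
universe u w m
open scoped TensorProduct
open DefT

namespace Groth.Agent.S12290

section aux

variable (k B : Type u) [Field k] [CommRing B] [Algebra k B] [Algebra.FiniteType k B]

theorem formallySmooth_residueField [PerfectField k] (q : Ideal B) [q.IsPrime] :
    Algebra.FormallySmooth k q.ResidueField :=
  (Groth.Agent.Lib.MacLane4H44.formallySmooth_iff_isGeometricallyReduced k q.ResidueField).mpr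
    (Groth.Agent.Lib.MacLane5H44.isGeometricallyReduced_of_perfectField k q.ResidueField)

theorem finitePresentation : Algebra.FinitePresentation k B :=
  Algebra.FinitePresentation.of_finiteType.mp inferInstance

/-- regular at all primes iff formally smooth, over a perfect field. -/
theorem regular_iff_formallySmooth [PerfectField k] :
    (∀ (p : Ideal B) [p.IsPrime], IsRegularLocalRing (Localization.AtPrime p)) ↔
      Algebra.FormallySmooth k B := by
  have hfp := finitePresentation k B
  rw [← Algebra.smoothLocus_eq_univ_iff]
  constructor
  · intro h
    rw [Set.eq_univ_iff_forall]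
    intro p
    haveI := h p.asIdeal
    haveI := formallySmooth_residueField k B p.asIdeal
    exact Groth.Agent.Lib.H56RegSmooth.isSmoothAt_of_isRegularLocalRing k B p.asIdeal
  · intro h p hp
    have hp' : (⟨p, hp⟩ : PrimeSpectrum B) ∈ Algebra.smoothLocus k B := h ▸ Set.mem_univ _
    exact Groth.Agent.Lib.H56RegSmooth.isRegularLocalRing_of_isSmoothAt p hp'

end aux

/-- Let k be an algebraically closed field and B a finitely generated k-algebra, X = Spec B. Then X is
nonsingular (localizing B at any prime ideal gives a regular local ring) exactly when T^1(B/k, M)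
vanishes for every B-module M; and when X is nonsingular, T^2(B/k, M) vanishes too, for every
B-module M. Here T^1, T^2 are computed from the choice-free presentation of B over k. -/
theorem result
    (k B : Type u) [Field k] [IsAlgClosed k] [CommRing B] [Algebra k B] [Algebra.FiniteType k B] :
    ((∀ (p : Ideal B) [p.IsPrime], IsRegularLocalRing (Localization.AtPrime p)) ↔
      ∀ (M : Type u) [AddCommGroup M] [Module B M], Subsingleton (CotT.T1 (CotT.canon k B) M)) ∧
    ((∀ (p : Ideal B) [p.IsPrime], IsRegularLocalRing (Localization.AtPrime p)) →
      ∀ (M : Type u) [AddCommGroup M] [Module B M], Subsingleton (CotT.T2 (CotT.canon k B) M)) := by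
  haveI : PerfectField k := inferInstance
  have hfp := finitePresentation k B
  refine ⟨?_, ?_⟩
  · rw [regular_iff_formallySmooth k B]
    exact Groth.Agent.Lib.SmoothT1.formallySmooth_iff_T1 (CotT.canon k B)
  · intro hreg M _ _
    haveI : Algebra.FormallySmooth k B := (regular_iff_formallySmooth k B).mp hreg
    let P := (Algebra.Presentation.ofFinitePresentation k B).reindex
      (Equiv.ulift.{u}) (Equiv.ulift.{u})
    haveI : Module.Projective B P.toExtension.Cotangent := Groth.Agent.Lib.SmoothT1.projective_cotangent P
    have h2 : Subsingleton (CotT.T2 P M) := Groth.Agent.Lib.SmoothT2.subsingleton_T2_of_regular P hreg M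
    obtain ⟨e⟩ := Groth.Agent.Lib.CotTMor.nonempty_T2equiv (CotT.canon k B) P M
    exact e.toEquiv.subsingleton_congr.mpr h2

end Groth.Agent.S12290
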