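import Mathlib
import Groth.Statements.S12291
import Groth.Agent.Lib.T2Comp
import Groth.Agent.Lib.T2CI
import Groth.Agent.Lib.SmoothT1
import Groth.Agent.Lib.SmoothT2
import Groth.Agent.Lib.CotTMor
import Groth.Agent.Lib.H87RegIdeal2
import Groth.Agent.S12288

set_option autoImplicit false
universe u w m
open scoped TensorProduct
open DefT

namespace Groth.Agent.S12291

set_option linter.unusedVariables false
set_option linter.unusedSectionVars false

/-- `T²(B/k) = 0` for all modules iff `T²(Q) = 0` for all modules, `Q` a variable-free presentation of `B = A/I` over `A`,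
when `A/k` is formally smooth with `T²(A/k) = 0`. -/
theorem T2_iff (k A : Type u) [Field k] [CommRing A] [Algebra k A] [Algebra.FormallySmooth k A]
    (hT2 : Subsingleton (CotT.T2 (CotT.canon k A) (CotT.L2 (CotT.canon k A)))) (I : Ideal A)
    {J : Type u} (Q : Algebra.Presentation A (A ⧸ I) PEmpty.{u+1} J) :
    (∀ (M : Type u) [AddCommGroup M] [Module (A ⧸ I) M], Subsingleton (CotT.T2 (CotT.canon k (A ⧸ I)) M)) ↔
      ∀ (M : Type u) [AddCommGroup M] [Module (A ⧸ I) M], Subsingleton (CotT.T2 Q M) := by
  rw [← Groth.Agent.Lib.T2Comp.T2_comp_iff (CotT.canon k A) Q hT2]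
  constructor
  · intro h M _ _
    obtain ⟨e⟩ := Groth.Agent.Lib.CotTMor.nonempty_T2equiv (CotT.canon k (A ⧸ I)) (Q.comp (CotT.canon k A)) M
    exact e.symm.toEquiv.subsingleton_congr.mpr (h M)
  · intro h M _ _
    obtain ⟨e⟩ := Groth.Agent.Lib.CotTMor.nonempty_T2equiv (CotT.canon k (A ⧸ I)) (Q.comp (CotT.canon k A)) M
    exact e.toEquiv.subsingleton_congr.mpr (h M)


/-- Let k be an algebraically closed field and A a regular local k-algebra with residue field k such
that T^1(A/k, N) = 0 and T^2(A/k, N) = 0 for all A-modules N; let I be a proper ideal of A and B =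
A/I. Then B is cut out of A as a local complete intersection — meaning I is generated by some list
of r elements with r + dim B = dim A, i.e. by dim A − dim B elements — exactly when T^2(B/k, M)
vanishes for each B-module M. The T^i are computed from the choice-free presentations. (The
published statement assumes only that A is a regular local k-algebra with residue field k; its proof
uses the vanishing of T^1(A/k, −) and T^2(A/k, −), which holds when A is essentially of finite type
over k and which this row carries as a hypothesis.) -/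
theorem result
    (k A : Type u) [Field k] [IsAlgClosed k] [CommRing A] [IsRegularLocalRing A] [Algebra k A]
    (hres : Function.Surjective (algebraMap k (IsLocalRing.ResidueField A)))
    (hT : ∀ (N : Type u) [AddCommGroup N] [Module A N],
      Subsingleton (CotT.T1 (CotT.canon k A) N) ∧ Subsingleton (CotT.T2 (CotT.canon k A) N))
    (I : Ideal A) (hI : I ≠ ⊤) :
    (∃ rs : List A, Ideal.ofList rs = I ∧ (rs.length : WithBot ℕ∞) + ringKrullDim (A ⧸ I) = ringKrullDim A) ↔
      ∀ (M : Type u) [AddCommGroup M] [Module (A ⧸ I) M], Subsingleton (CotT.T2 (CotT.canon k (A ⧸ I)) M) := by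
  have hs : Function.Surjective (algebraMap A (A ⧸ I)) := Ideal.Quotient.mk_surjective
  have hker : RingHom.ker (algebraMap A (A ⧸ I)) = I := Ideal.mk_ker
  have : Algebra.FormallySmooth k A :=
    (Groth.Agent.Lib.SmoothT1.formallySmooth_iff_T1 (CotT.canon k A)).mpr (fun N _ _ => (hT N).1)
  have hT2A : Subsingleton (CotT.T2 (CotT.canon k A) (CotT.L2 (CotT.canon k A))) := (hT _).2
  constructor
  · rintro ⟨rs, hrs, hdim⟩
    have h1 := Groth.Agent.Lib.H87RegIdeal2.spanFinrank_cotangent_le_length I rs hrs
    have h2 : (((⊤ : Submodule (A ⧸ I) I.Cotangent).spanFinrank : WithBot ℕ∞) + ringKrullDim (A ⧸ I)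
        ≤ ringKrullDim A) := by
      rw [← hdim]
      gcongr
    obtain ⟨rs', hrs', hreg⟩ := (Groth.Agent.Lib.H87RegIdeal2.regular_iff_spanFinrank_cotangent I hI).mpr h2
    have hI' : RingHom.ker (algebraMap A (A ⧸ I)) = Ideal.span (Set.range (Subtype.val : I → A)) := by
      rw [hker, Subtype.range_coe]
      exact (Ideal.span_eq I).symm
    refine (T2_iff k A hT2A I (Groth.Agent.Lib.SmoothT2.presOfSurj hs (Subtype.val : I → A) hI')).mpr ?_
    intro M _ _
    have h3 : Subsingleton (CotT.T2 (CotT.canon A (A ⧸ I)) M) :=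
      Groth.Agent.S12288.result A (A ⧸ I) hs rs' hreg (by rw [hker, hrs']) M
    obtain ⟨e⟩ := Groth.Agent.Lib.CotTMor.nonempty_T2equiv (CotT.canon A (A ⧸ I))
      (Groth.Agent.Lib.SmoothT2.presOfSurj hs (Subtype.val : I → A) hI') M
    exact e.symm.toEquiv.subsingleton_congr.mpr h3
  · intro h
    obtain ⟨rs, hof, hreg⟩ := Groth.Agent.Lib.T2CI.exists_isRegular_of_T2 hs (by rw [hker]; exact hI)
      (fun {σ} _ r hI' => (T2_iff k A hT2A I (Groth.Agent.Lib.SmoothT2.presOfSurj hs r hI')).mp h _)
    rw [hker] at hof
    refine ⟨rs, hof, ?_⟩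
    have h4 := ringKrullDim_add_length_eq_ringKrullDim_of_isRegular rs hreg
    rw [hof] at h4
    rw [add_comm]
    exact h4

end Groth.Agent.S12291
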