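import Groth.Statements.S12295
import Groth.Agent.Lib.CotTMor

set_option autoImplicit false
universe u w m
open scoped TensorProduct
open DefT

namespace Groth.Agent.S12295

/-- Let k be a commutative ring, B a k-algebra and P a presentation of B over k with polynomial ring R =
k[x_i] (any set of variables), so that B = R/I; let P' be a presentation of B over R with no
polynomial variables (R itself mapping onto B, with chosen generators of I), and M a B-module. Then
T^2(B/R, M), computed from P', and T^2(B/k, M), computed from P, are isomorphic B-modules.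
(Existence of a B-linear isomorphism only; the published statement has finitely many variables over
a field and notes that any base ring works.) -/
theorem result
    (k B : Type u) [CommRing k] [CommRing B] [Algebra k B] (ι σ ι' σ' : Type w)
    (P : Algebra.Presentation k B ι σ) [IsEmpty ι']
    (P' : Algebra.Presentation P.toExtension.Ring B ι' σ')
    (M : Type m) [AddCommGroup M] [Module B M] :
    Nonempty (CotT.T2 P' M ≃ₗ[B] CotT.T2 P M) := by
  classical
  -- the two ring maps
  let f : P'.toExtension.Ring →+* P.toExtension.Ring :=
    (MvPolynomial.aeval (R := P.toExtension.Ring) (fun i : ι' => (isEmptyElim i : P.toExtension.Ring)) :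
      MvPolynomial ι' P.toExtension.Ring →ₐ[P.toExtension.Ring] P.toExtension.Ring).toRingHom
  let g : P.toExtension.Ring →+* P'.toExtension.Ring :=
    (MvPolynomial.C : P.toExtension.Ring →+* MvPolynomial ι' P.toExtension.Ring)
  have hC : ∀ r : P'.toExtension.Ring, ∃ a : P.toExtension.Ring, r = g a := by
    intro r
    obtain ⟨a, ha⟩ := MvPolynomial.C_surjective ι' (R := P.toExtension.Ring) r
    exact ⟨a, ha.symm⟩
  have hfg : ∀ a, f (g a) = a := by
    intro a
    change MvPolynomial.aeval _ (MvPolynomial.C a) = a
    rw [MvPolynomial.aeval_C]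
    rfl
  have hgf : ∀ r, g (f r) = r := by
    intro r
    obtain ⟨a, rfl⟩ := hC r
    rw [hfg]
  have hg : ∀ a, algebraMap P'.toExtension.Ring B (g a) = algebraMap P.toExtension.Ring B a := by
    intro a
    change algebraMap P'.toExtension.Ring B (algebraMap P.toExtension.Ring P'.toExtension.Ring a) = _
    rw [← IsScalarTower.algebraMap_apply]
  have hf : ∀ r, algebraMap P.toExtension.Ring B (f r) = algebraMap P'.toExtension.Ring B r := by
    intro r
    obtain ⟨a, rfl⟩ := hC r
    rw [hfg, hg]
  obtain ⟨m, hm⟩ := Groth.Agent.Lib.CotTMor.RMor.exists_of_ringHom (P := P) (P' := P') g hg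
  obtain ⟨m', hm'⟩ := Groth.Agent.Lib.CotTMor.RMor.exists_of_ringHom (P := P') (P' := P) f hf
  refine ⟨(Groth.Agent.Lib.CotTMor.T2equiv M m m' 0 ?_ ?_ 0 ?_ ?_).symm⟩
  · intro r; rw [hm, hm', hfg]; simp
  · intro r r'; simp
  · intro r; rw [hm, hm', hgf]; simp
  · intro r r'; simp

end Groth.Agent.S12295
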