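import Mathlib
import Groth.Statements.S12297
import Groth.Agent.S12290
import Groth.Agent.Lib.LocSmoothSub
import Groth.Agent.Lib.CanonTransfer

set_option autoImplicit false
universe u w m
open scoped TensorProduct
open DefT

namespace Groth.Agent.S12297

/-- Let k be an algebraically closed field, B a finitely generated k-algebra, m a maximal ideal of B and
B_m the localization, a local k-algebra with residue field k. Then B_m is a regular local ring if
and only if T^1(B_m/k, M) = 0 for all B_m-modules M, and in that case T^2(B_m/k, M) = 0 for all M as
well; the T^i are computed from the choice-free presentation of B_m over k. (The published statement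
is for a local k-algebra with residue field k, k algebraically closed, proved by localization from
the finitely generated case; this row states it for the localizations of finitely generated
k-algebras at maximal ideals, the case that proof covers.) -/
theorem result
    (k B : Type u) [Field k] [IsAlgClosed k] [CommRing B] [Algebra k B] [Algebra.FiniteType k B]
    (m : Ideal B) [m.IsMaximal] :
    (IsRegularLocalRing (Localization.AtPrime m) ↔
      ∀ (M : Type u) [AddCommGroup M] [Module (Localization.AtPrime m) M],
        Subsingleton (CotT.T1 (CotT.canon k (Localization.AtPrime m)) M)) ∧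
    (IsRegularLocalRing (Localization.AtPrime m) →
      ∀ (M : Type u) [AddCommGroup M] [Module (Localization.AtPrime m) M],
        Subsingleton (CotT.T2 (CotT.canon k (Localization.AtPrime m)) M)) := by
  classical
  haveI : PerfectField k := inferInstance
  haveI hres := Groth.Agent.S12290.formallySmooth_residueField k B m
  have hiff : IsRegularLocalRing (Localization.AtPrime m) ↔
      Algebra.FormallySmooth k (Localization.AtPrime m) :=
    (Groth.Agent.Lib.H56RegSmooth.isSmoothAt_iff_isRegularLocalRing k B m).symm
  refine ⟨?_, ?_⟩
  · rw [hiff]
    exact Groth.Agent.Lib.SmoothT1.formallySmooth_iff_T1 (CotT.canon k (Localization.AtPrime m))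
  · intro hreg M _ _
    haveI : Algebra.FormallySmooth k (Localization.AtPrime m) := hiff.mp hreg
    haveI : Module.Projective (Localization.AtPrime m)
        (CotT.canon k (Localization.AtPrime m)).toExtension.Cotangent :=
      Groth.Agent.Lib.SmoothT1.projective_cotangent (CotT.canon k (Localization.AtPrime m))
    refine Groth.Agent.Lib.T2Syz.subsingleton_T2_of_syz (CotT.canon k (Localization.AtPrime m)) ?_ M
    intro q hq hc
    let V : Finset (Localization.AtPrime m) := q.support.biUnion
      (fun ρ => MvPolynomial.vars (ρ.1 : MvPolynomial (Localization.AtPrime m) k) ∪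
        MvPolynomial.vars (q ρ : MvPolynomial (Localization.AtPrime m) k))
    obtain ⟨C', hV, hft, hfs⟩ := Groth.Agent.Lib.LocSmoothSub.exists_smooth_subalgebra (k := k) m V
    have hreg' : ∀ (p : Ideal C') [p.IsPrime], IsRegularLocalRing (Localization.AtPrime p) :=
      (Groth.Agent.S12290.regular_iff_formallySmooth k C').mpr hfs
    have hT2 := (Groth.Agent.S12290.result k C').2 hreg' (CotT.L2 (CotT.canon k C'))
    have hsyz' : ∀ q' : CotT.relMod (CotT.canon k C'), q' ∈ CotT.relKer (CotT.canon k C') →
        (∀ s, q' s ∈ (CotT.canon k C').toExtension.ker) → q' ∈ CotT.trivRel (CotT.canon k C') :=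
      fun q' hq' hc' => Groth.Agent.Lib.T2Syz.mem_trivRel_of_subsingleton_T2 (CotT.canon k C') hT2 q' hq' hc'
    have hrange : (↑V : Set (Localization.AtPrime m)) ⊆ Set.range (algebraMap C' (Localization.AtPrime m)) := by
      intro x hx
      exact ⟨⟨x, hV hx⟩, rfl⟩
    refine Groth.Agent.Lib.CanonTransfer.transfer (C' := C') Subtype.val_injective hsyz' q hq hc ?_
    intro ρ hρ
    constructor
    · intro x hx
      apply hrange
      rw [Finset.mem_coe, Finset.mem_biUnion]
      exact ⟨ρ, hρ, Finset.mem_union_left _ hx⟩
    · intro x hx
      apply hrange
      rw [Finset.mem_coe, Finset.mem_biUnion]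
      exact ⟨ρ, hρ, Finset.mem_union_right _ hx⟩

end Groth.Agent.S12297
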