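import Groth.Statements.S12300
import Groth.Agent.Lib.ArtFunBasic

set_option autoImplicit false
universe u v
open CategoryTheory
open ArtFun

namespace Groth.Agent.S12300

/-- Let k be an algebraically closed field, F a set-valued functor on local Artinian k-algebras with
residue field k, and (R, ξ) a universal family for F (R complete local Noetherian with residue field
k and h_R → F bijective on every object). Let S be a complete local Noetherian k-algebra with
residue field k and g₁, g₂ : R → S two k-algebra maps compatible with the augmentations along which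
ξ induces the same formal family over S. Then g₁ = g₂: a formal family over S is induced from ξ by
at most one map R → S. (Coefficient rings are taken Noetherian here.) -/
theorem result
    {k : Type u} [Field k] [IsAlgClosed k] {F : ArtFun.Art k k ⥤ Type v}
    (R : ArtFun.CRing k k) (ξ : ArtFun.Family R.carrier R.res F) (hξ : ArtFun.IsUniversal ξ)
    (S : ArtFun.CRing k k) (g₁ g₂ : R.carrier →ₐ[k] S.carrier)
    (hg₁ : S.res.comp g₁ = R.res) (hg₂ : S.res.comp g₂ = R.res)
    (h : (ξ.along g₁ hg₁).toFormalElt = (ξ.along g₂ hg₂).toFormalElt) :
    g₁ = g₂ := by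
  apply Groth.Agent.Lib.ArtFunBasic.algHom_eq_of_forall_trunc_eq S g₁ g₂
  intro n
  have h1 : (ξ.along g₁ hg₁).toFormalElt.elt n = (ξ.along g₂ hg₂).toFormalElt.elt n := by rw [h]
  rw [Groth.Agent.Lib.ArtFunBasic.toFormalElt_along_elt, Groth.Agent.Lib.ArtFunBasic.toFormalElt_along_elt] at h1
  have h2 := (hξ (S.trunc n)).1 h1
  exact congrArg Subtype.val h2

end Groth.Agent.S12300
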