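import Groth.Statements.S12301
import Groth.Agent.Lib.ArtFunFormal

set_option autoImplicit false
universe u v
open CategoryTheory
open ArtFun

namespace Groth.Agent.S12301

/-- Let k be an algebraically closed field, f : F₁ → F₂ a morphism of set-valued functors on local
Artinian k-algebras with residue field k, (R₁, ξ₁) a family for F₁ and (R₂, ξ₂) a versal family for
F₂, where R₁, R₂ are complete local Noetherian k-algebras with residue field k and versal is meant
in the strong sense: h_{R₂} → F₂ is surjective on every object and has the lifting property along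
surjections. Then there is a k-algebra map φ : R₂ → R₁, compatible with the augmentations, such that
for every local Artinian A and every u : R₁ → A the element of F₂(A) given by ξ₂ at u ∘ φ equals the
image under f of the element of F₁(A) given by ξ₁ at u; in other words composition with φ, h_{R₁} →
h_{R₂}, covers f. (The published statement assumes (R₁, ξ₁) versal as well; this row asks nothing of
ξ₁, which is all the argument uses, and takes the coefficient rings Noetherian.) -/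
theorem result
    {k : Type u} [Field k] [IsAlgClosed k] {F₁ F₂ : ArtFun.Art k k ⥤ Type v} (f : F₁ ⟶ F₂)
    (R₁ : ArtFun.CRing k k) (ξ₁ : ArtFun.Family R₁.carrier R₁.res F₁)
    (R₂ : ArtFun.CRing k k) (ξ₂ : ArtFun.Family R₂.carrier R₂.res F₂) (hξ₂ : ArtFun.IsVersal ξ₂)
    (hsurj : ∀ A : ArtFun.Art k k, Function.Surjective (ξ₂.app A)) :
    ∃ (φ : R₂.carrier →ₐ[k] R₁.carrier) (hφ : R₁.res.comp φ = R₂.res),
      ∀ (A : ArtFun.Art k k) (u : ArtFun.HomSet R₁.carrier R₁.res A),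
        (ξ₂.along φ hφ).app A u = f.app A (ξ₁.app A u) := by
  let y : ∀ n : ℕ, F₂.obj (R₁.trunc n) := fun n => f.app _ (ξ₁.app _ (R₁.truncHom n))
  have hy : ∀ n, F₂.map (R₁.truncMap n) (y (n + 1)) = y n := by
    intro n
    change F₂.map (R₁.truncMap n) (f.app _ (ξ₁.app _ (R₁.truncHom (n + 1)))) =
      f.app _ (ξ₁.app _ (R₁.truncHom n))
    rw [← NatTrans.naturality_apply f, ← ξ₁.natural, ArtFun.CRing.truncMap_truncHom]
  have hsurjT : ∀ n, Function.Surjective (R₁.truncMap n) := by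
    intro n x
    obtain ⟨a, rfl⟩ := Ideal.Quotient.mk_surjective x
    exact ⟨Ideal.Quotient.mk _ a, rfl⟩
  have step : ∀ (n : ℕ)
      (ψ : {ψ : ArtFun.HomSet R₂.carrier R₂.res (R₁.trunc n) // ξ₂.app _ ψ = y n}),
      ∃ ψ' : {ψ' : ArtFun.HomSet R₂.carrier R₂.res (R₁.trunc (n + 1)) // ξ₂.app _ ψ' = y (n + 1)},
        ArtFun.HomSet.map (R₁.truncMap n) ψ'.1 = ψ.1 := by
    intro n ψ
    obtain ⟨ψ', h1, h2⟩ := hξ₂ (R₁.truncMap n) (hsurjT n) ψ.1 (y (n + 1)) (by rw [hy n, ψ.2])
    exact ⟨⟨ψ', h2⟩, h1⟩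
  choose next hnext using step
  obtain ⟨ψ0, hψ0⟩ := hsurj (R₁.trunc 0) (y 0)
  let Ψ : ∀ n : ℕ, {ψ : ArtFun.HomSet R₂.carrier R₂.res (R₁.trunc n) // ξ₂.app _ ψ = y n} :=
    fun n => Nat.rec ⟨ψ0, hψ0⟩ (fun n ih => next n ih) n
  have hΨ : ∀ n, ArtFun.HomSet.map (R₁.truncMap n) (Ψ (n + 1)).1 = (Ψ n).1 :=
    fun n => hnext n (Ψ n)
  obtain ⟨φ, hφ, hφn⟩ := Groth.Agent.Lib.ArtFunFormal.exists_algHom_of_compatible R₁
    (fun n => (Ψ n).1) hΨ
  refine ⟨φ, hφ, ?_⟩
  intro A u
  obtain ⟨n, ubar, rfl⟩ := Groth.Agent.Lib.ArtFunFormal.exists_factor_trunc R₁ A u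
  have h1 : (ξ₂.along φ hφ).app A (ArtFun.HomSet.map ubar (R₁.truncHom n)) =
      ξ₂.app A (ArtFun.HomSet.map ubar (Ψ n).1) := by
    change ξ₂.app A _ = ξ₂.app A _
    congr 1
    apply Subtype.ext
    change (ubar.toAlgHom.comp (R₁.truncHom n).1).comp φ = ubar.toAlgHom.comp (Ψ n).1.1
    rw [AlgHom.comp_assoc, hφn n]
  rw [h1, ξ₂.natural, (Ψ n).2, ξ₁.natural]
  exact (NatTrans.naturality_apply f ubar _).symm

end Groth.Agent.S12301
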