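import Groth.Statements.S12304
import Groth.Agent.Lib.H59CompletionCRing
import Mathlib.AlgebraicGeometry.Stalk
import Mathlib.AlgebraicGeometry.Noetherian

set_option autoImplicit false
universe u
open CategoryTheory CategoryTheory.Limits AlgebraicGeometry
open ArtFun

namespace Groth.Agent.S12304

section Aux

open IsLocalRing Groth.Agent.Lib.H59ObsGensArt

variable {k : Type u} [Field k] {M : Scheme.{u}}

/-- transport of a local map out of a stalk along an equality of points. -/
theorem exists_of_eq {R : CommRingCat.{u}} {y x : M} (h : y = x) (f : M.presheaf.stalk y ⟶ R)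
    (hf : IsLocalHom f.hom) :
    ∃ f' : M.presheaf.stalk x ⟶ R, IsLocalHom f'.hom ∧
      Spec.map f' ≫ M.fromSpecStalk x = Spec.map f ≫ M.fromSpecStalk y := by
  subst h
  exact ⟨f, hf, rfl⟩

/-- local maps out of a stalk are determined by the induced morphisms. -/
theorem fromSpecStalk_cancel {R : CommRingCat.{u}} [IsLocalRing R] {x : M}
    (f₁ f₂ : M.presheaf.stalk x ⟶ R) (h₁ : IsLocalHom f₁.hom) (h₂ : IsLocalHom f₂.hom)
    (h : Spec.map f₁ ≫ M.fromSpecStalk x = Spec.map f₂ ≫ M.fromSpecStalk x) : f₁ = f₂ := by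
  have e1 : (SpecToEquivOfLocalRing M R).symm ⟨x, f₁, h₁⟩ =
      (SpecToEquivOfLocalRing M R).symm ⟨x, f₂, h₂⟩ := h
  have e2 := (SpecToEquivOfLocalRing M R).symm.injective e1
  have e3 := eq_of_heq (Sigma.mk.inj_iff.1 e2).2
  exact congrArg Subtype.val e3

variable (m : M ⟶ Spec (CommRingCat.of k)) (x₀ : Spec (CommRingCat.of k) ⟶ M)
variable (x : M) [Algebra k (M.presheaf.stalk x)] (ρ : (M.presheaf.stalk x) →ₐ[k] k)

/-- the morphism attached to an augmentation-compatible map out of the stalk. -/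
noncomputable def Φ (A : Art k k) (ψ : HomSet (M.presheaf.stalk x) ρ A) : Art.spec A ⟶ M :=
  Spec.map (CommRingCat.ofHom ψ.1.toRingHom) ≫ M.fromSpecStalk x

theorem isLocalHom_of_homSet {S : Type u} [CommRing S] [IsLocalRing S] [Algebra k S] (σ : S →ₐ[k] k)
    (A : Art k k) (ψ : HomSet S σ A) : IsLocalHom ψ.1.toRingHom := by
  constructor
  intro a ha
  by_contra hna
  have h1 : a ∈ maximalIdeal S := (IsLocalRing.mem_maximalIdeal a).2 hna
  have h2 := Groth.Agent.Lib.H59CompletionCRing.map_mem_maximalIdeal σ A ψ a h1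
  exact (IsLocalRing.mem_maximalIdeal _).1 h2 ha

theorem isLocalHom_aug {S : Type u} [CommRing S] [IsLocalRing S] [Algebra k S] (σ : S →ₐ[k] k) :
    IsLocalHom σ.toRingHom := by
  constructor
  intro a ha
  by_contra hna
  have h1 : a ∈ maximalIdeal S := (IsLocalRing.mem_maximalIdeal a).2 hna
  have h2 : σ a = 0 := (mem_maximalIdeal_iff_aug σ a).1 h1
  have h3 : IsUnit (σ a) := ha
  rw [h2] at h3
  exact not_isUnit_zero h3

variable (hκ : Spec.map (CommRingCat.ofHom (algebraMap k (M.presheaf.stalk x))) =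
    M.fromSpecStalk x ≫ m)
variable (hρ : Spec.map (CommRingCat.ofHom ρ.toRingHom) ≫ M.fromSpecStalk x = x₀)

include hκ in
theorem Φ_comp_m (A : Art k k) (ψ : HomSet (M.presheaf.stalk x) ρ A) :
    Φ x ρ A ψ ≫ m = Art.specMap (Art.ofBase A) := by
  rw [Φ, Category.assoc, ← hκ, ← Spec.map_comp, ← CommRingCat.ofHom_comp]
  congr 2
  exact ψ.1.comp_algebraMap

include hρ in
theorem specRes_comp_Φ (A : Art k k) (ψ : HomSet (M.presheaf.stalk x) ρ A) :
    Art.specRes A ≫ Φ x ρ A ψ = x₀ := by
  rw [Φ, ← Category.assoc, ← Spec.map_comp, ← CommRingCat.ofHom_comp, ← hρ]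
  congr 3
  exact congrArg AlgHom.toRingHom ψ.2

theorem Φ_map {A B : Art k k} (h : A ⟶ B) (ψ : HomSet (M.presheaf.stalk x) ρ A) :
    Φ x ρ B (HomSet.map h ψ) = Art.specMap h ≫ Φ x ρ A ψ := by
  rw [Φ, Φ, ← Category.assoc, ← Spec.map_comp, ← CommRingCat.ofHom_comp]
  rfl

theorem Φ_injective (A : Art k k) : Function.Injective (Φ x ρ A) := by
  intro ψ₁ ψ₂ h
  have h1 := fromSpecStalk_cancel (R := CommRingCat.of A) (CommRingCat.ofHom ψ₁.1.toRingHom)
    (CommRingCat.ofHom ψ₂.1.toRingHom) (isLocalHom_of_homSet ρ A ψ₁) (isLocalHom_of_homSet ρ A ψ₂) h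
  apply Subtype.ext
  apply AlgHom.ext
  intro a
  have h2 := congrArg (fun f => f.hom a) h1
  exact h2

include hκ hρ in
theorem Φ_surjective (A : Art k k) (g : Art.spec A ⟶ M)
    (h1 : g ≫ m = Art.specMap (Art.ofBase A)) (h2 : Art.specRes A ≫ g = x₀) :
    ∃ ψ : HomSet (M.presheaf.stalk x) ρ A, Φ x ρ A ψ = g := by
  have hρloc : IsLocalHom (CommRingCat.ofHom ρ.toRingHom).hom := isLocalHom_aug ρ
  have hresloc : IsLocalHom (CommRingCat.ofHom A.res.toRingHom).hom := isLocalHom_aug A.res
  -- the image of the closed point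
  have hx : x₀ (closedPoint (CommRingCat.of k)) = x := by
    rw [← hρ, Scheme.Hom.comp_apply, Spec_closedPoint, Scheme.fromSpecStalk_closedPoint]
  have hy : g (closedPoint (CommRingCat.of A)) = x := by
    rw [← hx, ← h2, Scheme.Hom.comp_apply, Spec_closedPoint]
  obtain ⟨f', hf'loc, hf'⟩ := exists_of_eq hy (Scheme.stalkClosedPointTo g) inferInstance
  rw [Scheme.Spec_stalkClosedPointTo_fromSpecStalk] at hf'
  -- `f'` is a `k`-algebra map
  have halg : CommRingCat.ofHom (algebraMap k (M.presheaf.stalk x)) ≫ f' =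
      CommRingCat.ofHom (algebraMap k A) := by
    apply Spec.map_injective
    rw [Spec.map_comp, hκ, ← Category.assoc, hf', h1]
    rfl
  let ψ₀ : (M.presheaf.stalk x) →ₐ[k] A :=
    { f'.hom with
      commutes' := fun c => by
        have := congrArg (fun f => f.hom c) halg
        exact this }
  have hres : A.res.comp ψ₀ = ρ := by
    have hcomp : f' ≫ CommRingCat.ofHom A.res.toRingHom = CommRingCat.ofHom ρ.toRingHom := by
      refine fromSpecStalk_cancel (R := CommRingCat.of k) _ _ ?_ hρloc ?_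
      · exact RingHom.isLocalHom_comp _ _
      · rw [Spec.map_comp, Category.assoc, hf', h2, hρ]
    apply AlgHom.ext
    intro a
    have := congrArg (fun f => f.hom a) hcomp
    exact this
  refine ⟨⟨ψ₀, hres⟩, ?_⟩
  rw [Φ]
  exact hf'

end Aux


/-- Let k be an algebraically closed field, M a locally Noetherian k-scheme and x₀ : Spec k → M a
k-rational point. For a local Artinian k-algebra A with residue field k consider the k-morphisms
Spec A → M whose restriction along the closed point Spec k → Spec A is x₀ (the local functor of M at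
x₀, a morphism A → B acting by composition with Spec B → Spec A). This functor is pro-representable:
there are a complete local Noetherian k-algebra R with residue field k and bijections, natural in A,
between the augmentation-compatible k-algebra maps R → A and these morphisms. (The published
statement is phrased for the fine moduli scheme M of a moduli problem, whose local functor at the
point of a given object is this one; M is taken locally Noetherian here so that the coefficient ring
is Noetherian.) -/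
theorem result
    {k : Type u} [Field k] [IsAlgClosed k] (M : Scheme.{u}) (m : M ⟶ Spec (CommRingCat.of k))
    [IsLocallyNoetherian M] (x₀ : Spec (CommRingCat.of k) ⟶ M) (hx₀ : x₀ ≫ m = 𝟙 _) :
    ∃ (R : ArtFun.CRing k k)
      (e : ∀ A : ArtFun.Art k k, ArtFun.HomSet R.carrier R.res A ≃
        {g : ArtFun.Art.spec A ⟶ M // g ≫ m = ArtFun.Art.specMap (ArtFun.Art.ofBase A) ∧ ArtFun.Art.specRes A ≫ g = x₀}),
      ∀ (A B : ArtFun.Art k k) (h : A ⟶ B) (φ : ArtFun.HomSet R.carrier R.res A),
        ((e B) (ArtFun.HomSet.map h φ)).1 = ArtFun.Art.specMap h ≫ ((e A) φ).1 := by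
  classical
  let x : M := x₀ (IsLocalRing.closedPoint (CommRingCat.of k))
  let f₀ : M.presheaf.stalk x ⟶ CommRingCat.of k := Scheme.stalkClosedPointTo x₀
  have hf₀ : Spec.map f₀ ≫ M.fromSpecStalk x = x₀ := Scheme.Spec_stalkClosedPointTo_fromSpecStalk x₀
  let κ : CommRingCat.of k ⟶ M.presheaf.stalk x := Spec.preimage (M.fromSpecStalk x ≫ m)
  have hκ : Spec.map κ = M.fromSpecStalk x ≫ m := Spec.map_preimage _
  have hκf : κ ≫ f₀ = 𝟙 _ := by
    apply Spec.map_injective
    rw [Spec.map_comp, hκ, ← Category.assoc, hf₀, hx₀, Spec.map_id]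
  let alg : Algebra k (M.presheaf.stalk x) := κ.hom.toAlgebra
  let ρ : (M.presheaf.stalk x) →ₐ[k] k :=
    { f₀.hom with
      commutes' := fun c => by
        have := congrArg (fun f => f.hom c) hκf
        exact this }
  have hκ' : Spec.map (CommRingCat.ofHom (algebraMap k (M.presheaf.stalk x))) =
      M.fromSpecStalk x ≫ m := hκ
  have hρ : Spec.map (CommRingCat.ofHom ρ.toRingHom) ≫ M.fromSpecStalk x = x₀ := hf₀
  refine ⟨Groth.Agent.Lib.H59CompletionCRing.compCRing (M.presheaf.stalk x) ρ,
    fun A => (Groth.Agent.Lib.H59CompletionCRing.restrictEquiv (M.presheaf.stalk x) ρ A).trans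
      (Equiv.ofBijective (fun ψ => ⟨Φ x ρ A ψ, Φ_comp_m m x ρ hκ' A ψ, specRes_comp_Φ x₀ x ρ hρ A ψ⟩)
        ⟨?_, ?_⟩), ?_⟩
  · intro ψ₁ ψ₂ h
    exact Φ_injective x ρ A (congrArg Subtype.val h)
  · rintro ⟨g, h1, h2⟩
    obtain ⟨ψ, hψ⟩ := Φ_surjective m x₀ x ρ hκ' hρ A g h1 h2
    exact ⟨ψ, Subtype.ext hψ⟩
  · intro A B h φ
    change Φ x ρ B (Groth.Agent.Lib.H59CompletionCRing.restrictEquiv (M.presheaf.stalk x) ρ B
      (HomSet.map h φ)) = _
    rw [Groth.Agent.Lib.H59CompletionCRing.restrictEquiv_map, Φ_map]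
    rfl

end Groth.Agent.S12304
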