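import Mathlib
import Groth.Statements.S12306
import Groth.Agent.S12305
import Groth.Agent.Lib.RigidSmooth

set_option autoImplicit false
universe u
open CotT

namespace Groth.Agent.S12306

set_option linter.style.haveILetI false
set_option linter.unusedVariables false

open Groth.Agent.Lib.LocSplit Groth.Agent.Lib.RigidSmooth

/-- Let k be an algebraically closed field and B₀ a finitely generated k-algebra which is not smooth
over k and is rigid, in the sense that the cotangent module T¹(B₀/k, B₀) (from the choice-free
presentation) vanishes. Let A be a finitely generated k-algebra which is a domain, smooth over k of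
Krull dimension one, t ∈ A an element generating a maximal ideal, and B a finitely generated flat
A-algebra, a k-algebra compatibly with A, whose fibre B/tB is k-isomorphic to B₀. Then this family
does not smooth Spec B₀: there is a prime of B not containing t at which B is not smooth over A.
(The published statement asserts that a singular rigid scheme admits no smoothing by any flat
family; this row states it for flat families with affine total space over an affine nonsingular
curve whose point is cut out by one equation.) -/
theorem result
    {k : Type u} [Field k] [IsAlgClosed k] (B₀ : Type u) [CommRing B₀] [Algebra k B₀] [Algebra.FiniteType k B₀]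
    (hsing : ¬ Algebra.Smooth k B₀) (hrigid : Subsingleton (CotT.T1 (CotT.canon k B₀) B₀))
    (A B : Type u) [CommRing A] [CommRing B] [IsDomain A] [Algebra k A] [Algebra.FiniteType k A]
    [Algebra.Smooth k A] (hdim : ringKrullDim A = 1) (t : A) (ht : (Ideal.span {t}).IsMaximal)
    [Algebra A B] [Algebra.FiniteType A B] [Module.Flat A B] [Algebra k B] [IsScalarTower k A B]
    (e : (B ⧸ Ideal.span {algebraMap A B t}) ≃ₐ[k] B₀) :
    ∃ q : PrimeSpectrum B, algebraMap A B t ∉ q.asIdeal ∧ q ∉ Algebra.smoothLocus A B := by
  by_contra hcon
  push Not at hcon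
  apply hsing
  haveI : IsNoetherianRing A := Algebra.FiniteType.isNoetherianRing k A
  haveI : Algebra.FinitePresentation A B := Algebra.FinitePresentation.of_finiteType.mp inferInstance
  let P := (Algebra.Presentation.ofFinitePresentation A B).reindex (Equiv.ulift.{u}) (Equiv.ulift.{u})
  haveI : Module.Finite B P.toExtension.Cotangent := Algebra.Extension.Cotangent.finite P.fg_ker
  haveI : Module.Free B P.toExtension.CotangentSpace := Module.Free.of_basis P.cotangentSpaceBasis
  haveI : Module.Finite B P.toExtension.CotangentSpace := Module.Finite.of_basis P.cotangentSpaceBasis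
  haveI : Module.FinitePresentation B P.toExtension.CotangentSpace :=
    Module.finitePresentation_of_projective _ _
  -- Step 0: a retraction of the conormal map up to a power of `t`
  have h1 := (Groth.Agent.S12305.smooth_iff (A := A) (algebraMap A B t)).mp hcon
  rw [Groth.Agent.S12305.H1_subsingleton_iff P.toGenerators (algebraMap A B t)] at h1
  obtain ⟨n₀, g, hg⟩ := exists_retract_of_loc (algebraMap A B t) P.toExtension.cotangentComplex
    P.toExtension.toKaehler P.toExtension.exact_cotangentComplex_toKaehler
    P.toExtension.toKaehler_surjective h1.1 h1.2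
  have hg' : ∀ c, g (P.toGenerators.toExtension.cotangentComplex c) = algebraMap A B (t ^ n₀) • c := by
    intro c
    have := LinearMap.congr_fun hg c
    rw [map_pow]
    exact this
  -- the residue field of `A` at `t` is `k`
  haveI := ht
  have hresA : ∀ a : A, ∃ c : k, a - algebraMap k A c ∈ Ideal.span {t} := by
    letI := Ideal.Quotient.field (Ideal.span {t})
    haveI : Module.Finite k (A ⧸ Ideal.span {t}) := finite_of_finite_type_of_isJacobsonRing k _
    haveI : Algebra.IsIntegral k (A ⧸ Ideal.span {t}) := Algebra.IsIntegral.of_finite k _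
    have hb := IsAlgClosed.algebraMap_bijective_of_isIntegral (k := k) (K := A ⧸ Ideal.span {t})
    intro a
    obtain ⟨c, hc⟩ := hb.2 (Ideal.Quotient.mk _ a)
    refine ⟨c, ?_⟩
    rw [← Ideal.Quotient.eq_zero_iff_mem, map_sub, sub_eq_zero, ← hc]
    rfl
  -- `t` is a non-zero non-unit
  have ht0 : t ≠ 0 := by
    rintro rfl
    have hbot : (⊥ : Ideal A).IsMaximal := by
      have : Ideal.span {(0 : A)} = ⊥ := Ideal.span_singleton_eq_bot.mpr rfl
      rw [← this]; exact ht
    have hF := Ring.isField_iff_maximal_bot.mpr hbot
    rw [ringKrullDim_eq_zero_of_isField hF] at hdim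
    exact zero_ne_one hdim
  have htA : t ^ n₀ ∉ Ideal.span {t ^ (n₀ + 1)} := by
    intro hmem
    obtain ⟨a, ha⟩ := Ideal.mem_span_singleton.mp hmem
    have h2 : t ^ n₀ * (1 - t * a) = 0 := by
      rw [mul_sub, mul_one, sub_eq_zero, ← mul_assoc, ← pow_succ]
      exact ha
    rcases mul_eq_zero.mp h2 with h | h
    · exact pow_ne_zero n₀ ht0 h
    · have h3 : t * a = 1 := (sub_eq_zero.mp h).symm
      exact ht.ne_top (Ideal.eq_top_of_isUnit_mem _ (Ideal.mem_span_singleton_self t) (IsUnit.of_mul_eq_one a h3))
  have htB : ∀ b : B, algebraMap A B t * b = 0 → b = 0 := by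
    intro b hb
    have hreg : IsSMulRegular B (algebraMap A B t) := IsSMulRegular.of_flat (IsSMulRegular.of_ne_zero ht0)
    exact hreg (by change algebraMap A B t • b = algebraMap A B t • 0; rw [smul_eq_mul, hb, smul_zero])
  -- the reduction `B → B₀`
  let ρ : B →ₐ[k] B₀ := (e : _ →ₐ[k] B₀).comp (Ideal.Quotient.mkₐ k (Ideal.span {algebraMap A B t}))
  have hρ : Function.Surjective ρ := e.surjective.comp Ideal.Quotient.mk_surjective
  have hker : ∀ b, ρ b = 0 ↔ ∃ b', b = algebraMap A B t * b' := by
    intro b
    change e (Ideal.Quotient.mk _ b) = 0 ↔ _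
    rw [map_eq_zero_iff _ e.injective, Ideal.Quotient.eq_zero_iff_mem, Ideal.mem_span_singleton]
    rfl
  have hrig := isTrivial_of_subsingleton_T1 k B₀ hrigid
  have hfs : Algebra.FormallySmooth k B₀ :=
    formallySmooth_of_rigid t hresA htB ρ hρ hker n₀ hrig htA P.toGenerators g hg'
  exact ⟨hfs, Algebra.FinitePresentation.of_finiteType.mp inferInstance⟩

end Groth.Agent.S12306
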