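import Mathlib
import Groth.Statements.S12310
import Groth.Agent.Lib.UnobsG6
import Groth.Agent.Lib.LCIT2
import Groth.Agent.Lib.LCIComp

set_option autoImplicit false
universe u
open CategoryTheory AlgebraicGeometry
open SGA7

namespace Groth.Agent.S12310

/-- Suppose Λ is a Noetherian local ring, complete for its maximal-ideal-adic topology, whose residue
field is k (so Λ → k is surjective), and work with functors defined on local Artinian Λ-algebras
having residue field k. Take a finite-type k-algebra A₀ that is a local complete intersection over k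
(meaning it admits a presentation as a quotient of a polynomial algebra in finitely many variables
whose kernel is Koszul-regular), and put X₀ = Spec A₀. Then X₀ has a smooth deformation functor (the
functor of isomorphism classes of schemes flat over Spec A whose closed fibre is X₀): given any
surjection A' → A, each deformation over A can be lifted to one over A'. -/
theorem result (Λ k : Type u) [CommRing Λ] [IsLocalRing Λ] [IsNoetherianRing Λ]
    [IsAdicComplete (IsLocalRing.maximalIdeal Λ) Λ] [Field k] [Algebra Λ k]
    (hk : Function.Surjective (algebraMap Λ k))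
    (A₀ : Type u) [CommRing A₀] [Algebra k A₀] (hA : LCI.IsLCI k A₀) :
    ArtFun.IsSmoothFunctor (ArtFun.defFunctor (Λ := Λ) (Spec (CommRingCat.of A₀))
      (Spec.map (CommRingCat.ofHom (algebraMap k A₀)))) := by
  classical
  obtain ⟨hft, n, f, hfs, hKR⟩ := hA
  -- the polynomial ring on a universe-lifted index type
  let ι : Type u := ULift.{u} (Fin n)
  let e : MvPolynomial ι k ≃ₐ[k] MvPolynomial (Fin n) k := MvPolynomial.renameEquiv k Equiv.ulift
  let val : ι → A₀ := fun i => f (MvPolynomial.X i.down)
  have haev : (MvPolynomial.aeval val : MvPolynomial ι k →ₐ[k] A₀) = f.comp (e : _ →ₐ[k] _) := by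
    apply MvPolynomial.algHom_ext
    intro i
    rw [MvPolynomial.aeval_X, AlgHom.comp_apply]
    change _ = f (MvPolynomial.renameEquiv k Equiv.ulift (MvPolynomial.X i))
    rw [MvPolynomial.renameEquiv_apply, MvPolynomial.rename_X]
    rfl
  have hsurj : Function.Surjective (MvPolynomial.aeval (R := k) val) := by
    rw [haev]
    exact hfs.comp e.surjective
  let G : Algebra.Generators k A₀ ι := Algebra.Generators.ofSurjective val hsurj
  have hker : G.ker = (RingHom.ker f.toRingHom).comap (e.toRingEquiv : MvPolynomial ι k →+* _) := by
    rw [G.ker_eq_ker_aeval_val]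
    ext x
    rw [RingHom.mem_ker, Ideal.mem_comap, RingHom.mem_ker]
    change MvPolynomial.aeval val x = 0 ↔ f (e x) = 0
    rw [haev]
    rfl
  have hKR' : LCI.IsKoszulRegularIdeal G.ker := by
    rw [hker]
    exact Groth.Agent.Lib.LCIComp.isKoszulRegularIdeal_comap_ringEquiv e.toRingEquiv _ hKR
  have hfg : G.ker.FG := (inferInstance : IsNoetherianRing (MvPolynomial ι k)).noetherian _
  obtain ⟨s, hs⟩ := hfg
  let σ : Type u := {x : MvPolynomial ι k // x ∈ s}
  let P : Algebra.Presentation k A₀ ι σ :=
    { G with
      relation := fun x => x.1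
      span_range_relation_eq_ker := by
        have : Set.range (fun x : σ => (x.1 : MvPolynomial ι k)) = (s : Set (MvPolynomial ι k)) :=
          Subtype.range_coe
        rw [this]
        exact hs }
  have hKR'' : LCI.IsKoszulRegularIdeal P.toExtension.ker := hKR'
  have hT2 : Subsingleton (CotT.T2 P A₀) :=
    Groth.Agent.Lib.LCIT2.subsingleton_T2_of_isKoszulRegularIdeal P hKR'' A₀
  exact Groth.Agent.Lib.UnobsG.isSmoothFunctor_of_T2 A₀ P hT2

end Groth.Agent.S12310
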