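import Groth.Statements.S12314
-- import your own Groth.Agent.* helpers here

set_option autoImplicit false
universe u
open CategoryTheory CategoryTheory.Limits AlgebraicGeometry MonObj
open SGA7

namespace Groth.Agent.S12314

section helpers

variable {S : Scheme.{u}} {A C : Over S} [GrpObj A] [IsCommMonObj A] [GrpObj C] [IsCommMonObj C]
  {l : ℕ} {T : Over S}

/-- `z_m = l^j • z_{m+j}`. -/
theorem component_eq_pow_smul (z : AbDual.TateMod C l T) (m j : ℕ) :
    (z : ℕ → Additive (T ⟶ C)) m = (l ^ j) • (z : ℕ → Additive (T ⟶ C)) (m + j) := by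
  induction j with
  | zero => simp
  | succ j ih =>
    rw [ih, pow_succ, mul_smul, ← add_assoc, z.compat]

/-- The Tate module has no `n`-torsion for `n > 0` (for a prime `l`). -/
theorem eq_zero_of_nsmul_eq_zero (hl : l.Prime) (z : AbDual.TateMod C l T) (n : ℕ) (hn : 0 < n)
    (h : ∀ m, n • (z : ℕ → Additive (T ⟶ C)) m = 0) : z = 0 := by
  apply AbDual.TateMod.ext
  intro m
  rw [component_eq_pow_smul z m n]
  set x := (z : ℕ → Additive (T ⟶ C)) (m + n) with hx
  have h1 : addOrderOf x ∣ n := addOrderOf_dvd_of_nsmul_eq_zero (h (m + n))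
  have h2 : addOrderOf x ∣ l ^ (m + n) := addOrderOf_dvd_of_nsmul_eq_zero (z.torsion (m + n))
  obtain ⟨i, -, hi⟩ := (Nat.dvd_prime_pow hl).mp h2
  have hle : l ^ i ≤ n := by rw [← hi]; exact Nat.le_of_dvd hn h1
  have hlt : l ^ i < l ^ n := lt_of_le_of_lt hle (Nat.lt_pow_self hl.one_lt)
  have hin : i ≤ n := le_of_lt ((Nat.pow_lt_pow_iff_right hl.one_lt).mp hlt)
  have hdvd : addOrderOf x ∣ l ^ n := by rw [hi]; exact pow_dvd_pow l hin
  exact addOrderOf_dvd_iff_nsmul_eq_zero.mp hdvd

theorem tateMap_comp_component (u : C ⟶ A) [IsMonHom u] (v : A ⟶ C) [IsMonHom v] (n : ℕ)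
    (huv : u ≫ v = (𝟙 C) ^ n) (z : AbDual.TateMod C l T) (m : ℕ) :
    ((AbDual.tateMap (l := l) (T := T) v (AbDual.tateMap (l := l) (T := T) u z) : AbDual.TateMod C l T) :
      ℕ → Additive (T ⟶ C)) m = n • (z : ℕ → Additive (T ⟶ C)) m := by
  change Additive.ofMul ((((z : ℕ → Additive (T ⟶ C)) m).toMul ≫ u) ≫ v) = _
  rw [Category.assoc, huv, MonObj.comp_pow, Category.comp_id]
  rfl

end helpers


/-- Let R be a henselian discrete valuation ring with fraction field K and residue field k, Ω a
separable closure of K, W a valuation subring of Ω lying over R, A and C abelian varieties over K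
(proper, geometrically integral commutative group schemes), and u : C → A an isogeny, in the form:
there are a homomorphism v : A → C and an integer n > 0 with v ∘ u = n and u ∘ v = n. Let ℓ be a
prime invertible in k and consider the ℓ-adic Tate modules of the Ω-points of C and A; call an
element fixed when all its components are fixed by the inertia group at W (for such ℓ the fixed part
is the inertia invariants). Then T_ℓ(u) maps the fixed part of T_ℓ(C) into the fixed part of T_ℓ(A)
and induces an isogeny between them: T_ℓ(u) is injective, and n times every fixed element of T_ℓ(A)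
is the image of a fixed element of T_ℓ(C). (The case of a prime equal to the residue characteristic,
where the fixed part is defined through the Néron model, is not stated.) -/
theorem result (R K Ω : Type u) [CommRing R] [IsDomain R] [IsDiscreteValuationRing R] [HenselianLocalRing R]
    [Field K] [Algebra R K] [IsFractionRing R K] [Field Ω] [Algebra K Ω] [IsSepClosure K Ω]
    (W : ValuationSubring Ω) (hW : SGA7.LiesOver K R W)
    (A C : Over (Spec (CommRingCat.of K))) [GrpObj A] [IsCommMonObj A] [IsProper A.hom] [GeometricallyIntegral A.hom]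
    [GrpObj C] [IsCommMonObj C] [IsProper C.hom] [GeometricallyIntegral C.hom]
    (u : C ⟶ A) [IsMonHom u] (v : A ⟶ C) [IsMonHom v] (n : ℕ) (hn : 0 < n)
    (huv : u ≫ v = (𝟙 C) ^ n) (hvu : v ≫ u = (𝟙 A) ^ n)
    (l : ℕ) (hl : l.Prime) (hlp : (l : IsLocalRing.ResidueField R) ≠ 0) :
    (∀ z : AbDual.TateMod C l (SGA7.pt Ω),
      (∀ (τ : Ω ≃ₐ[K] Ω) (m : ℕ), SGA7.IsInertia W τ →
        SGA7.galAct τ (AbDual.TateMod.component C l (SGA7.pt Ω) m z).toMul =
          (AbDual.TateMod.component C l (SGA7.pt Ω) m z).toMul) →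
      (∀ (τ : Ω ≃ₐ[K] Ω) (m : ℕ), SGA7.IsInertia W τ →
        SGA7.galAct τ (AbDual.TateMod.component A l (SGA7.pt Ω) m (AbDual.tateMap u z)).toMul =
          (AbDual.TateMod.component A l (SGA7.pt Ω) m (AbDual.tateMap u z)).toMul)) ∧
    (∀ z : AbDual.TateMod C l (SGA7.pt Ω), AbDual.tateMap (l := l) (T := SGA7.pt Ω) u z = 0 → z = 0) ∧
    (∀ y : AbDual.TateMod A l (SGA7.pt Ω),
      (∀ (τ : Ω ≃ₐ[K] Ω) (m : ℕ), SGA7.IsInertia W τ →
        SGA7.galAct τ (AbDual.TateMod.component A l (SGA7.pt Ω) m y).toMul =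
          (AbDual.TateMod.component A l (SGA7.pt Ω) m y).toMul) →
      ∃ z : AbDual.TateMod C l (SGA7.pt Ω),
        (∀ (τ : Ω ≃ₐ[K] Ω) (m : ℕ), SGA7.IsInertia W τ →
        SGA7.galAct τ (AbDual.TateMod.component C l (SGA7.pt Ω) m z).toMul =
          (AbDual.TateMod.component C l (SGA7.pt Ω) m z).toMul) ∧
        AbDual.tateMap (l := l) (T := SGA7.pt Ω) u z = n • y) := by
  have fixed_map : ∀ {P Q : Over (Spec (CommRingCat.of K))} [GrpObj P] [IsCommMonObj P] [GrpObj Q] [IsCommMonObj Q]
      (w : P ⟶ Q) [IsMonHom w] (z : AbDual.TateMod P l (SGA7.pt Ω)),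
      (∀ (τ : Ω ≃ₐ[K] Ω) (m : ℕ), SGA7.IsInertia W τ →
        SGA7.galAct τ (AbDual.TateMod.component P l (SGA7.pt Ω) m z).toMul =
          (AbDual.TateMod.component P l (SGA7.pt Ω) m z).toMul) →
      (∀ (τ : Ω ≃ₐ[K] Ω) (m : ℕ), SGA7.IsInertia W τ →
        SGA7.galAct τ (AbDual.TateMod.component Q l (SGA7.pt Ω) m (AbDual.tateMap w z)).toMul =
          (AbDual.TateMod.component Q l (SGA7.pt Ω) m (AbDual.tateMap w z)).toMul) := by
    intro P Q _ _ _ _ w _ z hz τ m hτ
    rw [AbDual.tateMap_component]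
    have := hz τ m hτ
    unfold SGA7.galAct at this ⊢
    rw [← Category.assoc, this]
  refine ⟨fun z hz => fixed_map u z hz, ?_, ?_⟩
  · intro z hz
    apply eq_zero_of_nsmul_eq_zero hl z n hn
    intro m
    rw [← tateMap_comp_component u v n huv z m, hz, map_zero]
    rfl
  · intro y hy
    refine ⟨AbDual.tateMap v y, fixed_map v y hy, ?_⟩
    apply AbDual.TateMod.ext
    intro m
    rw [tateMap_comp_component v u n hvu y m]
    rfl

end Groth.Agent.S12314
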