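import Groth.Statements.S12316
import Groth.Agent.Lib.H59ArtFunTorsor
import Groth.Agent.Lib.ArtFunFactor
import Groth.Agent.Lib.ArtFunBasic

set_option autoImplicit false
universe u v
open CategoryTheory
open SGA7

namespace Groth.Agent.S12316

open ArtFun.Art in
/-- a morphism of functors injective on tangent spaces is injective on all objects (source with H0, Hbar and
injective `Heps`, target with injective comparison for the squares of small extensions). -/
theorem injective_app_of_tangent_injective {Λ : Type u} {k : Type u} [CommRing Λ] [Field k]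
    [Algebra Λ k] [IsNoetherianRing Λ] [Module.Finite Λ k] {G H : ArtFun.Art Λ k ⥤ Type v}
    (η : G ⟶ H) (hG0 : Subsingleton (G.obj (base Λ k))) (hGbar : ArtFun.Hbar G)
    (hGeps : ∀ ⦃P B : ArtFun.Art Λ k⦄ (p : P ⟶ B) (q : P ⟶ dual Λ k)
      (h : IsFibreProd p q (toBase B) (toBase (dual Λ k))), Function.Injective (ArtFun.cmp G h))
    (hHsq : ∀ ⦃P B A : ArtFun.Art Λ k⦄ (p₁ p₂ : P ⟶ B) (μ : B ⟶ A) (h : IsFibreProd p₁ p₂ μ μ),
      IsSmallExt μ → Function.Injective (ArtFun.cmp H h))
    (htan : Function.Injective (η.app (dual Λ k))) (A : ArtFun.Art Λ k) :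
    Function.Injective (η.app A) := by
  have key : ∀ {B A : ArtFun.Art Λ k} (μ : B ⟶ A), Function.Surjective μ →
      ∀ x x' : G.obj B, G.map μ x = G.map μ x' → η.app B x = η.app B x' → x = x' := by
    intro B A μ hμ
    refine Groth.Agent.Lib.ArtFunFactor.surjection_induction
      (P := fun {B A} μ => ∀ x x' : G.obj B, G.map μ x = G.map μ x' →
        η.app B x = η.app B x' → x = x') ?_ ?_ ?_ μ hμ
    · intro B A μ hμ x x' h _
      obtain ⟨ν, h1, _⟩ := Groth.Agent.Lib.ArtFunFactor.exists_inv_of_bijective μ hμ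
      have := congrArg (G.map ν) h
      rwa [← Functor.map_comp_apply, ← Functor.map_comp_apply, h1, Functor.map_id_apply,
        Functor.map_id_apply] at this
    · intro B A μ hμ x x' h1 h2
      exact Groth.Agent.Lib.H59ArtFunTorsor.eq_of_tangent_injective (F := G) (G := H)
        (fun A => η.app A) (fun f x => NatTrans.naturality_apply η f x) hGbar hGeps hHsq htan μ hμ
        x x' h1 h2
    · intro C B A ν μ hν hμ x x' h1 h2
      apply hν x x' _ h2
      apply hμ
      · rw [← Functor.map_comp_apply, ← Functor.map_comp_apply]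
        exact h1
      · rw [NatTrans.naturality_apply, NatTrans.naturality_apply, h2]
  intro x x' h
  exact key (toBase A) (Groth.Agent.Lib.ArtFunBasic.toBase_surjective A) x x'
    (Subsingleton.elim _ _) h

/-- Suppose Λ is a Noetherian local ring, complete for its maximal ideal, whose residue field is k (so Λ
→ k is surjective), and work with functors defined on the category of local Artinian Λ-algebras
having residue field k. Take morphisms φ : F → G and ψ : G → H of such functors. Assume that each of
F(k), G(k), H(k) consists of a single point; that for G the comparison map on fibre products A₁ ×_A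
A₂ is surjective as soon as A₂ → A is surjective, and is bijective for products of the form A' ×_k
k[ε]; that for H the comparison map is bijective on every fibre product A₁ ×_A A₂ with A₂ → A
surjective; and that the induced map on tangent spaces G(k[ε]) → H(k[ε]) coming from ψ is injective.
Under these assumptions, φ ≫ ψ is smooth if and only if both φ and ψ are smooth. (The published
statement is for functors of cofibred groupoids with G semi-homogeneous and H homogeneous; this row
is the case of set-valued functors.) -/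
theorem result (Λ k : Type u) [CommRing Λ] [IsLocalRing Λ] [IsNoetherianRing Λ]
    [IsAdicComplete (IsLocalRing.maximalIdeal Λ) Λ] [Field k] [Algebra Λ k]
    (hk : Function.Surjective (algebraMap Λ k))
    {F G H : ArtFun.Art Λ k ⥤ Type v} (φ : F ⟶ G) (ψ : G ⟶ H)
    (hF : ArtFun.H0 F) (hG : ArtFun.H0 G ∧ ArtFun.S1 G ∧ ArtFun.Heps G) (hH0 : ArtFun.H0 H)
    (hH : ∀ ⦃B A A' A'' : ArtFun.Art Λ k⦄ (p' : B ⟶ A') (p'' : B ⟶ A'') (f' : A' ⟶ A) (f'' : A'' ⟶ A)
      (h : ArtFun.Art.IsFibreProd p' p'' f' f''), Function.Surjective f'' → Function.Bijective (ArtFun.cmp H h))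
    (hψ : Function.Injective (ArtFun.TangentSpace.map ψ)) :
    ArtFun.IsSmooth (φ ≫ ψ) ↔ (ArtFun.IsSmooth φ ∧ ArtFun.IsSmooth ψ) := by
  have hfin : Module.Finite Λ k := Module.Finite.of_surjective (Algebra.linearMap Λ k) hk
  constructor
  · intro hs
    -- ψ is injective on all objects
    have hψinj : ∀ A : ArtFun.Art Λ k, Function.Injective (ψ.app A) :=
      injective_app_of_tangent_injective ψ hG.1.2
        (fun B A A' A'' p' p'' f' f'' h hf'' => hG.2.1 p' p'' f' f'' h hf''.1)
        (fun P B p q h => (hG.2.2 p q h).1)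
        (fun P B A p₁ p₂ μ h hμ => (hH p₁ p₂ μ μ h hμ.1).1) hψ
    -- the composite is surjective on all objects
    have hcsurj : ∀ (A : ArtFun.Art Λ k) (z : H.obj A), ∃ x : F.obj A, ψ.app A (φ.app A x) = z := by
      intro A z
      obtain ⟨⟨x₀⟩, _⟩ := hF
      have hH0 := hH0.2
      obtain ⟨x, hx⟩ := hs (ArtFun.Art.toBase A) (Groth.Agent.Lib.ArtFunBasic.toBase_surjective A)
        ⟨(x₀, z), Subsingleton.elim _ _⟩
      exact ⟨x, congrArg (fun t => t.1.2) hx⟩
    have hφsurj : ∀ (A : ArtFun.Art Λ k) (y : G.obj A), ∃ x : F.obj A, φ.app A x = y := by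
      intro A y
      obtain ⟨x, hx⟩ := hcsurj A (ψ.app A y)
      exact ⟨x, hψinj A hx⟩
    constructor
    · intro B A μ hμ t
      have hc : (φ ≫ ψ).app A t.1.1 = H.map μ (ψ.app B t.1.2) := by
        change ψ.app A (φ.app A t.1.1) = H.map μ (ψ.app B t.1.2)
        rw [t.2, NatTrans.naturality_apply]
      obtain ⟨x', hx'⟩ := hs μ hμ ⟨(t.1.1, ψ.app B t.1.2), hc⟩
      have hx'1 : F.map μ x' = t.1.1 := congrArg (fun t => t.1.1) hx'
      have hx'2 : ψ.app B (φ.app B x') = ψ.app B t.1.2 := congrArg (fun t => t.1.2) hx'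
      refine ⟨x', ?_⟩
      apply Subtype.ext
      apply Prod.ext
      · exact hx'1
      · exact hψinj B hx'2
    · intro B A μ hμ t
      obtain ⟨x, hx⟩ := hφsurj A t.1.1
      have hc : (φ ≫ ψ).app A x = H.map μ t.1.2 := by
        change ψ.app A (φ.app A x) = H.map μ t.1.2
        rw [hx, t.2]
      obtain ⟨x', hx'⟩ := hs μ hμ ⟨(x, t.1.2), hc⟩
      have hx'1 : F.map μ x' = x := congrArg (fun t => t.1.1) hx'
      have hx'2 : ψ.app B (φ.app B x') = t.1.2 := congrArg (fun t => t.1.2) hx'
      refine ⟨φ.app B x', ?_⟩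
      apply Subtype.ext
      apply Prod.ext
      · change G.map μ (φ.app B x') = t.1.1
        rw [← NatTrans.naturality_apply, hx'1, hx]
      · exact hx'2
  · rintro ⟨hφs, hψs⟩ B A μ hμ t
    have ht : ψ.app A (φ.app A t.1.1) = H.map μ t.1.2 := t.2
    obtain ⟨y', hy'⟩ := hψs μ hμ ⟨(φ.app A t.1.1, t.1.2), ht⟩
    have hy'1 : G.map μ y' = φ.app A t.1.1 := congrArg (fun t => t.1.1) hy'
    have hy'2 : ψ.app B y' = t.1.2 := congrArg (fun t => t.1.2) hy'
    obtain ⟨x', hx'⟩ := hφs μ hμ ⟨(t.1.1, y'), hy'1.symm⟩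
    have hx'1 : F.map μ x' = t.1.1 := congrArg (fun t => t.1.1) hx'
    have hx'2 : φ.app B x' = y' := congrArg (fun t => t.1.2) hx'
    refine ⟨x', ?_⟩
    apply Subtype.ext
    apply Prod.ext
    · exact hx'1
    · change ψ.app B (φ.app B x') = t.1.2
      rw [hx'2, hy'2]

end Groth.Agent.S12316
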