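import Groth.Statements.S12320
import Groth.Agent.Lib.H59ArtFunTorsor
import Groth.Agent.Lib.H59ArtFunVersal
import Groth.Agent.Lib.ArtFunBasic
import Groth.Agent.Lib.H59ArtFunDualSmall

set_option autoImplicit false
universe u v
open CategoryTheory
open SGA7

namespace Groth.Agent.S12320

/-- Suppose Λ is a Noetherian local ring, complete for its maximal ideal, whose residue field is k (so
that Λ → k is onto), and work with functors defined on the category of local Artinian Λ-algebras
having residue field k. Take such a functor F for which F(k) is a singleton, for which the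
comparison map F(A₁ ×_A A₂) → F(A₁) ×_{F(A)} F(A₂) is surjective as soon as A₂ → A is surjective,
and for which this map is bijective in the case A' ×_k k[ε]. Call an element a ∈ F(R) versal for
small prolongations of the base point when, given any object R₀ whose augmentation R₀ → k is a small
extension and any b ∈ F(R₀), some morphism R → R₀ sends a to b. Assume a ∈ F(R) has this versality
property, that π₁ : R₁ → R is a small extension together with a₁ ∈ F(R₁) whose image is a, and that
g : R' → R is a morphism together with a' ∈ F(R') whose image is a. Then a morphism f : R' → R₁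
satisfying f ≫ π₁ = g and sending a' to a₁ exists exactly when some morphism f : R' → R₁ satisfying
f ≫ π₁ = g exists at all. (The published statement concerns semi-homogeneous cofibred groupoids;
this row treats only the set-valued functor case.) -/
theorem result (Λ k : Type u) [CommRing Λ] [IsLocalRing Λ] [IsNoetherianRing Λ]
    [IsAdicComplete (IsLocalRing.maximalIdeal Λ) Λ] [Field k] [Algebra Λ k]
    (hk : Function.Surjective (algebraMap Λ k))
    (F : ArtFun.Art Λ k ⥤ Type v) (hF : ArtFun.H0 F ∧ ArtFun.S1 F ∧ ArtFun.Heps F)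
    {R R₁ R' : ArtFun.Art Λ k} (π₁ : R₁ ⟶ R) (hπ : ArtFun.Art.IsSmallExt π₁) (g : R' ⟶ R)
    (a : F.obj R) (a₁ : F.obj R₁) (a' : F.obj R') (h₁ : F.map π₁ a₁ = a) (h' : F.map g a' = a)
    (hvers : ∀ (R₀ : ArtFun.Art Λ k), ArtFun.Art.IsSmallExt (ArtFun.Art.toBase R₀) →
      ∀ b : F.obj R₀, ∃ φ : R ⟶ R₀, F.map φ a = b) :
    (∃ f : R' ⟶ R₁, f ≫ π₁ = g ∧ F.map f a' = a₁) ↔ (∃ f : R' ⟶ R₁, f ≫ π₁ = g) := by
  have hfin : Module.Finite Λ k := Module.Finite.of_surjective (Algebra.linearMap Λ k) hk
  constructor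
  · rintro ⟨f, hf, _⟩
    exact ⟨f, hf⟩
  · rintro ⟨f₀, hf₀⟩
    -- morphisms out of R' as elements of h_{R'}
    let toHom : ∀ A : ArtFun.Art Λ k, ArtFun.HomSet R'.carrier R'.res A → (R' ⟶ A) :=
      fun A θ => ArtFun.Art.homMk θ.1 θ.2
    let ofHom : ∀ A : ArtFun.Art Λ k, (R' ⟶ A) → ArtFun.HomSet R'.carrier R'.res A :=
      fun A f => ⟨f.toAlgHom, f.res_comp⟩
    have htoHom_map : ∀ {A B : ArtFun.Art Λ k} (h : A ⟶ B) (θ : ArtFun.HomSet R'.carrier R'.res A),
        toHom B (ArtFun.HomSet.map h θ) = toHom A θ ≫ h := fun h θ => rfl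
    have hsmall_dual : ArtFun.Art.IsSmallExt (ArtFun.Art.toBase (ArtFun.Art.dual Λ k)) :=
      Groth.Agent.Lib.H59ArtFunDualSmall.isSmallExt_toBase_dual
    have htan : Function.Surjective (fun θ : ArtFun.HomSet R'.carrier R'.res (ArtFun.Art.dual Λ k) =>
        F.map (toHom _ θ) a') := by
      intro v
      obtain ⟨φ, hφ⟩ := hvers (ArtFun.Art.dual Λ k) hsmall_dual v
      refine ⟨ofHom _ (g ≫ φ), ?_⟩
      change F.map (g ≫ φ) a' = v
      rw [Functor.map_comp_apply, h', hφ]
    obtain ⟨z, hz1, hz2⟩ := Groth.Agent.Lib.H59ArtFunTorsor.exists_adjust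
      (F := ArtFun.hR R'.carrier R'.res) (G := F)
      (fun A θ => F.map (toHom A θ) a')
      (fun {A B} f θ => by
        change F.map (toHom B (ArtFun.HomSet.map f θ)) a' = F.map f (F.map (toHom A θ) a')
        rw [htoHom_map, Functor.map_comp_apply])
      (Groth.Agent.Lib.ArtFunBasic.homSet_base_subsingleton)
      (fun P B p q h => Groth.Agent.Lib.H59ArtFunVersal.hR_cmp_surjective h)
      (fun B A A' A'' p' p'' f' f'' h hf'' => hF.2.1 p' p'' f' f'' h hf''.1)
      (fun P B p q h => (hF.2.2 p q h).1)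
      htan π₁ hπ (ofHom _ f₀) a₁ (by
        change F.map π₁ (F.map f₀ a') = F.map π₁ a₁
        rw [← Functor.map_comp_apply, hf₀, h', h₁])
    refine ⟨toHom _ z, ?_, hz2⟩
    have hz1' : ArtFun.HomSet.map π₁ z = ArtFun.HomSet.map π₁ (ofHom _ f₀) := hz1
    have := congrArg (toHom R) hz1'
    rw [htoHom_map, htoHom_map] at this
    rw [this]
    exact hf₀

end Groth.Agent.S12320
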