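import Groth.Statements.S12321
import Groth.Agent.S12320
import Groth.Agent.Lib.H59SchlessSmooth2
import Groth.Agent.Lib.H59SchlessNextLift
import Groth.Agent.Lib.H59SchlessMinGens
import Groth.Agent.Lib.ArtFunSurj

set_option autoImplicit false
universe u v
open CategoryTheory
open SGA7

namespace Groth.Agent.S12321

/-- Suppose Λ is a Noetherian local ring that is complete, and k is its residue field, so the map Λ → k
is surjective. We look at functors on the category of local Artinian Λ-algebras whose residue field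
is k. Take such a functor F for which F(k) is a single point, the comparison map F(A₁ ×_A A₂) →
F(A₁) ×_{F(A)} F(A₂) is surjective whenever A₂ → A is surjective, and this map is bijective for A'
×_k k[ε]. Call an element a ∈ F(R) versal for small prolongations of the base point when, for each
object R₀ whose augmentation R₀ → k is a small extension and each b ∈ F(R₀), some morphism R → R₀
sends a to b. Assume a ∈ F(R) has this property. Then one can find an object R', a morphism q : R' →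
R and an element a' ∈ F(R') whose image is a, satisfying the following. First, q is surjective and
the maximal ideal annihilates its kernel. Second, q induces an isomorphism m_{R'}/(m_{R'}² + m_Λ R')
→ m_R/(m_R² + m_Λ R) between relative cotangent spaces (only injectivity is stated; surjectivity
comes for free). Third, a' is versal for small prolongations of a: given any small extension π₁ : R₁
→ R and any a₁ ∈ F(R₁) with image a, there is f : R' → R₁ satisfying f ≫ π₁ = q and sending a' to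
a₁. (The published statement concerns semi-homogeneous cofibred groupoids; this row treats the case
of set-valued functors.) -/
theorem result (Λ k : Type u) [CommRing Λ] [IsLocalRing Λ] [IsNoetherianRing Λ]
    [IsAdicComplete (IsLocalRing.maximalIdeal Λ) Λ] [Field k] [Algebra Λ k]
    (hk : Function.Surjective (algebraMap Λ k))
    (F : ArtFun.Art Λ k ⥤ Type v) (hF : ArtFun.H0 F ∧ ArtFun.S1 F ∧ ArtFun.Heps F)
    (R : ArtFun.Art Λ k) (a : F.obj R)
    (hvers : ∀ (R₀ : ArtFun.Art Λ k), ArtFun.Art.IsSmallExt (ArtFun.Art.toBase R₀) →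
      ∀ b : F.obj R₀, ∃ φ : R ⟶ R₀, F.map φ a = b) :
    ∃ (R' : ArtFun.Art Λ k) (q : R' ⟶ R) (a' : F.obj R'), F.map q a' = a ∧
      ArtFun.Art.IsSemismallExt q ∧
      (∀ x' : R', x' ∈ IsLocalRing.maximalIdeal (R' : Type u) →
        q x' ∈ (IsLocalRing.maximalIdeal (R : Type u)) ^ 2 ⊔ (IsLocalRing.maximalIdeal Λ).map (algebraMap Λ R) →
        x' ∈ (IsLocalRing.maximalIdeal (R' : Type u)) ^ 2 ⊔ (IsLocalRing.maximalIdeal Λ).map (algebraMap Λ R')) ∧
      ∀ (R₁ : ArtFun.Art Λ k) (π₁ : R₁ ⟶ R), ArtFun.Art.IsSmallExt π₁ →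
        ∀ a₁ : F.obj R₁, F.map π₁ a₁ = a → ∃ f : R' ⟶ R₁, f ≫ π₁ = q ∧ F.map f a' = a₁ := by
  classical
  have hF' := hF
  obtain ⟨h0, h1, h2⟩ := hF
  have hfin : Module.Finite Λ k := Module.Finite.of_surjective (Algebra.linearMap Λ k) hk
  have hkerΛ : RingHom.ker (algebraMap Λ k) = IsLocalRing.maximalIdeal Λ :=
    IsLocalRing.eq_maximalIdeal (RingHom.ker_isMaximal_of_surjective _ hk)
  obtain ⟨d, x, hxm, hgen, hind⟩ := Groth.Agent.Lib.H59SchlessMinGens.exists_min_gens
    (R := (R : Type u)) ((IsLocalRing.maximalIdeal (R : Type u)) ^ 2 ⊔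
      (IsLocalRing.maximalIdeal Λ).map (algebraMap Λ R))
  obtain ⟨S, X, hS, hXres, huniv, hmS⟩ :=
    Groth.Agent.Lib.H59SchlessSmooth.exists_smooth_classical (Λ := Λ) (k := k) hk d
  rw [hkerΛ] at hmS
  obtain ⟨σ, hσX⟩ := huniv R x (fun i => (ArtFun.Art.mem_maximalIdeal_iff R _).1 (hxm i))
  have hcompl := S.isAdicComplete
  have hσres : ∀ t, R.res (σ.1 t) = S.res t := fun t =>
    Groth.Agent.Lib.ArtFunBasic.homSet_res_apply σ t
  have hσm : ∀ t, t ∈ IsLocalRing.maximalIdeal S.carrier ↔ σ.1 t ∈ IsLocalRing.maximalIdeal (R : Type u) := by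
    intro t
    rw [ArtFun.Art.mem_maximalIdeal_iff, hσres, ArtFun.CRing.mem_maximalIdeal_iff]
  have hmapm : (IsLocalRing.maximalIdeal S.carrier).map (σ.1 : S.carrier →+* R) ≤
      IsLocalRing.maximalIdeal (R : Type u) := by
    rw [Ideal.map_le_iff_le_comap]
    intro t ht
    exact (hσm t).1 ht
  have hmapΛ : ((IsLocalRing.maximalIdeal Λ).map (algebraMap Λ S.carrier)).map (σ.1 : S.carrier →+* R) =
      (IsLocalRing.maximalIdeal Λ).map (algebraMap Λ R) := by
    rw [Ideal.map_map]
    congr 1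
    ext l
    exact σ.1.commutes l
  -- σ is surjective
  have hσsurj : Function.Surjective σ.1 := by
    apply ((Groth.Agent.Lib.ArtFunSurj.tfae_surjective S.res R.res S.res_surjective
      R.res_surjective σ.1 σ.2).out 2 0).1
    apply le_antisymm
    · refine sup_le (sup_le ?_ hmapm) (Ideal.pow_le_self two_ne_zero)
      rw [hkerΛ, Ideal.map_le_iff_le_comap]
      intro l hl
      rw [Ideal.mem_comap, ArtFun.Art.mem_maximalIdeal_iff, AlgHom.commutes, ← hkerΛ] at *
      exact hl
    · refine hgen.trans (sup_le ?_ (sup_le le_sup_right ?_))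
      · refine le_trans ?_ (le_sup_right.trans le_sup_left)
        rw [Ideal.span_le]
        rintro _ ⟨i, rfl⟩
        rw [← hσX i]
        refine Ideal.mem_map_of_mem _ ?_
        rw [ArtFun.CRing.mem_maximalIdeal_iff]
        exact hXres i
      · rw [hkerΛ]
        exact le_sup_left.trans le_sup_left
  have hXm : ∀ i, X i ∈ IsLocalRing.maximalIdeal S.carrier := fun i =>
    (ArtFun.CRing.mem_maximalIdeal_iff S _).2 (hXres i)
  -- the kernel of σ lies in m_S² + m_Λ S
  have hkerσ : RingHom.ker σ.1 ≤ IsLocalRing.maximalIdeal S.carrier ^ 2 ⊔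
      (IsLocalRing.maximalIdeal Λ).map (algebraMap Λ S.carrier) := by
    intro t ht
    have htm : t ∈ IsLocalRing.maximalIdeal S.carrier :=
      Groth.Agent.Lib.H59SchlessQuot.ker_le_maximalIdeal σ ht
    rw [hmS] at htm
    obtain ⟨t₁, ht₁, u, hu, rfl⟩ := Submodule.mem_sup.1 htm
    obtain ⟨c, rfl⟩ := (Ideal.mem_span_range_iff_exists_fun).1 ht₁
    have h0 : σ.1 (∑ i, c i * X i + u) = 0 := ht
    rw [map_add, map_sum] at h0
    have hσu : σ.1 u ∈ (IsLocalRing.maximalIdeal Λ).map (algebraMap Λ R) := by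
      rw [← hmapΛ]
      exact Ideal.mem_map_of_mem _ hu
    have hsum : ∑ i, σ.1 (c i) * x i ∈ (IsLocalRing.maximalIdeal (R : Type u)) ^ 2 ⊔
        (IsLocalRing.maximalIdeal Λ).map (algebraMap Λ R) := by
      have : ∑ i, σ.1 (c i) * x i = - σ.1 u := by
        rw [eq_neg_iff_add_eq_zero, ← h0]
        congr 1
        apply Finset.sum_congr rfl
        intro i _
        rw [map_mul, hσX]
      rw [this]
      exact Submodule.mem_sup_right (neg_mem hσu)
    have hc := hind (fun i => σ.1 (c i)) hsum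
    refine Submodule.add_mem_sup ?_ hu
    apply Submodule.sum_mem
    intro i _
    rw [sq]
    exact Ideal.mul_mem_mul ((hσm _).2 (hc i)) (hXm i)
  -- the next stage
  let s : Groth.Agent.Lib.H59SchlessStep.Stage S F := ⟨R, σ, hσsurj, a⟩
  obtain ⟨s', hnext⟩ := Groth.Agent.Lib.H59SchlessStep.exists_next h1 s
  have hnext' := hnext
  obtain ⟨⟨q, hq1, hq2⟩, hmK, hminimal⟩ := hnext
  have hqσ : ∀ t, q (s'.σ.1 t) = σ.1 t := fun t =>
    congrArg (fun φ : ArtFun.HomSet S.carrier S.res R => φ.1 t) hq1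
  have hσ'res : ∀ t, s'.A.res (s'.σ.1 t) = S.res t := fun t =>
    Groth.Agent.Lib.ArtFunBasic.homSet_res_apply s'.σ t
  have hσ'm : ∀ t, t ∈ IsLocalRing.maximalIdeal S.carrier ↔
      s'.σ.1 t ∈ IsLocalRing.maximalIdeal (s'.A : Type u) := by
    intro t
    rw [ArtFun.Art.mem_maximalIdeal_iff, hσ'res, ArtFun.CRing.mem_maximalIdeal_iff]
  refine ⟨s'.A, q, s'.x, hq2, ⟨?_, ?_⟩, ?_, ?_⟩
  · intro r
    obtain ⟨t, rfl⟩ := hσsurj r
    exact ⟨s'.σ.1 t, hqσ t⟩
  · rw [eq_bot_iff, Ideal.mul_le]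
    intro b hb c hc
    obtain ⟨tb, rfl⟩ := s'.surj b
    obtain ⟨tc, rfl⟩ := s'.surj c
    have h1 : tb ∈ IsLocalRing.maximalIdeal S.carrier := (hσ'm tb).2 hb
    have h2 : tc ∈ s.ker := by
      have : q (s'.σ.1 tc) = 0 := hc
      rw [hqσ] at this
      exact this
    rw [Ideal.mem_bot, ← map_mul]
    exact hmK (Ideal.mul_mem_mul h1 h2)
  · intro x' hx' hqx'
    obtain ⟨t, rfl⟩ := s'.surj x'
    rw [hqσ] at hqx'
    have hmapσ : (IsLocalRing.maximalIdeal S.carrier ^ 2 ⊔
        (IsLocalRing.maximalIdeal Λ).map (algebraMap Λ S.carrier)).map (σ.1 : S.carrier →+* R) =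
        (IsLocalRing.maximalIdeal (R : Type u)) ^ 2 ⊔
          (IsLocalRing.maximalIdeal Λ).map (algebraMap Λ R) := by
      rw [Ideal.map_sup, Ideal.map_pow, hmapΛ]
      congr 2
      refine le_antisymm hmapm ?_
      intro r hr
      obtain ⟨t', rfl⟩ := hσsurj r
      exact Ideal.mem_map_of_mem _ ((hσm t').2 hr)
    rw [← hmapσ] at hqx'
    obtain ⟨t₂, ht₂, ht₂'⟩ := (Ideal.mem_map_iff_of_surjective (σ.1 : S.carrier →+* R) hσsurj).1 hqx'
    have hdiff : t - t₂ ∈ RingHom.ker σ.1 := by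
      rw [RingHom.mem_ker, map_sub, sub_eq_zero]
      exact ht₂'.symm
    have ht : t ∈ IsLocalRing.maximalIdeal S.carrier ^ 2 ⊔
        (IsLocalRing.maximalIdeal Λ).map (algebraMap Λ S.carrier) := by
      have : t = (t - t₂) + t₂ := by ring
      rw [this]
      exact Ideal.add_mem _ (hkerσ hdiff) ht₂
    have hmapσ' : (IsLocalRing.maximalIdeal S.carrier ^ 2 ⊔
        (IsLocalRing.maximalIdeal Λ).map (algebraMap Λ S.carrier)).map (s'.σ.1 : S.carrier →+* s'.A) ≤
        (IsLocalRing.maximalIdeal (s'.A : Type u)) ^ 2 ⊔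
          (IsLocalRing.maximalIdeal Λ).map (algebraMap Λ s'.A) := by
      rw [Ideal.map_sup, Ideal.map_pow, Ideal.map_map]
      refine sup_le_sup (Ideal.pow_right_mono ?_ 2) (le_of_eq ?_)
      · rw [Ideal.map_le_iff_le_comap]
        intro t' ht'
        exact (hσ'm t').1 ht'
      · congr 1
        ext l
        exact s'.σ.1.commutes l
    exact hmapσ' (Ideal.mem_map_of_mem _ ht)
  · intro R₁ π₁ hπ₁ a₁ ha₁
    obtain ⟨f₀, hf₀⟩ := Groth.Agent.Lib.H59SchlessNextLift.next_lift h1 hS (s := s) (s' := s') hnext'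
      π₁ hπ₁ (𝟙 R) a₁ (by rw [ha₁]; exact (Functor.map_id_apply F R a).symm)
    have hf₀q : f₀ ≫ π₁ = q := by
      apply Groth.Agent.Lib.H59SchlessQuot.factor_unique s'.σ s'.surj
      rw [hf₀, hq1]
      exact Groth.Agent.Lib.H59ArtFunVersal.homSet_map_id _
    exact (Groth.Agent.S12320.result Λ k hk F hF' π₁ hπ₁ q a a₁ s'.x ha₁ hq2 hvers).2 ⟨f₀, hf₀q⟩

end Groth.Agent.S12321
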