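import Groth.Statements.S1234
import Groth.Agent.Lib.WeakAssEtale88
import Groth.Agent.Lib.WeakAssFinite88
import Groth.Agent.Lib.H56ShNormal
import Groth.Agent.Lib.StrictHenselizationMax
import Groth.Agent.Lib.HenselizationUP
import Groth.Agent.Lib.HenselizationFlat

set_option autoImplicit false
universe u
open FlatMor

namespace Groth.Agent.S1234

section W

open FlatCA Groth.Agent.Lib.WeakAss IsLocalRing TensorProduct

variable {R : Type u} [CommRing R] [IsLocalRing R] {S : Type u} [CommRing S] [IsLocalRing S]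
  [Algebra R S] [IsLocalHom (algebraMap R S)] [Module.Flat R S]
  (N : Type u) [AddCommGroup N] [Module R N]

theorem forward (hmap : Ideal.map (algebraMap R S) (maximalIdeal R) = maximalIdeal S)
    (h : maximalIdeal R ∈ weakAss R N) : maximalIdeal S ∈ weakAss S (S ⊗[R] N) := by
  have hff : Module.FaithfullyFlat R S := Module.FaithfullyFlat.of_flat_of_isLocalHom
  obtain ⟨x, hx⟩ := h
  change maximalIdeal R ∈ (annOf R x).minimalPrimes at hx
  rw [maximalIdeal_mem_minimalPrimes_iff] at hx
  refine ⟨(1 : S) ⊗ₜ[R] x, ?_⟩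
  change maximalIdeal S ∈ (annOf S ((1 : S) ⊗ₜ[R] x)).minimalPrimes
  rw [maximalIdeal_mem_minimalPrimes_iff]
  apply le_antisymm
  · have hx0 : x ≠ 0 := by
      intro h0
      have h1 : annOf R x = ⊤ := annOf_eq_top_iff.mpr h0
      rw [h1, Ideal.radical_top] at hx
      exact (maximalIdeal.isMaximal R).ne_top hx.symm
    have hz0 : (1 : S) ⊗ₜ[R] x ≠ 0 := by
      intro h0
      have hinj := Module.FaithfullyFlat.tensorProduct_mk_injective (A := R) (B := S) N
      exact hx0 (hinj (by rw [TensorProduct.mk_apply, h0, map_zero]))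
    have hne : annOf S ((1 : S) ⊗ₜ[R] x) ≠ ⊤ := fun h => hz0 (annOf_eq_top_iff.mp h)
    have hne' : (annOf S ((1 : S) ⊗ₜ[R] x)).radical ≠ ⊤ := by
      rwa [Ne, Ideal.radical_eq_top]
    exact IsLocalRing.le_maximalIdeal hne'
  · rw [← hmap, Ideal.map_le_iff_le_comap]
    intro r hr
    rw [← hx] at hr
    obtain ⟨n, hn⟩ := hr
    rw [mem_annOf] at hn
    show algebraMap R S r ∈ (annOf S ((1 : S) ⊗ₜ[R] x)).radical
    refine ⟨n, ?_⟩
    rw [mem_annOf, ← map_pow, algebraMap_smul, ← TensorProduct.tmul_smul, hn,
      TensorProduct.tmul_zero]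

theorem backward
    (het : ∀ T : Finset S, ∃ (E : Type u) (_ : CommRing E) (_ : Algebra R E)
      (_ : Algebra.Etale R E) (φ : E →ₐ[R] S), ∀ x ∈ T, x ∈ φ.range)
    (h : maximalIdeal S ∈ weakAss S (S ⊗[R] N)) : maximalIdeal R ∈ weakAss R N := by
  classical
  obtain ⟨z, hz⟩ := h
  change maximalIdeal S ∈ (annOf S z).minimalPrimes at hz
  rw [maximalIdeal_mem_minimalPrimes_iff] at hz
  obtain ⟨T, hT⟩ := TensorProduct.exists_finset z
  obtain ⟨E, _, _, hE, φ, hφ⟩ := het (T.image Prod.fst)
  letI algES : Algebra E S := (φ : E →+* S).toAlgebra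
  have htower : IsScalarTower R E S :=
    IsScalarTower.of_algebraMap_eq (fun r => (φ.commutes r).symm)
  have hflatE : Module.Flat E S :=
    Groth.Agent.Lib.DiagFlat.flat_of_flat_lmul' (Algebra.WeaklyEtale.flat_lmul' R E) S
  have halg : ∀ e : E, algebraMap E S e = φ e := fun _ => rfl
  -- the comparison map
  have hFa : ∀ w : E ⊗[R] N,
      annOf S (TensorProduct.AlgebraTensorModule.cancelBaseChange R E S S N ((1 : S) ⊗ₜ[E] w))
        ≤ (annOf E w).map (algebraMap E S) := by
    intro w b hb
    rw [mem_annOf, ← map_smul] at hb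
    have hb' : b • ((1 : S) ⊗ₜ[E] w) = 0 :=
      (TensorProduct.AlgebraTensorModule.cancelBaseChange R E S S N).injective
        (by rw [hb, map_zero])
    exact Groth.Agent.Lib.WeakAssFinite88.annOf_one_tmul_le (A := E) (B := S) w
      (mem_annOf.mpr hb')
  have hFb : ∀ (e : E) (w : E ⊗[R] N),
      algebraMap E S e • TensorProduct.AlgebraTensorModule.cancelBaseChange R E S S N
          ((1 : S) ⊗ₜ[E] w)
        = TensorProduct.AlgebraTensorModule.cancelBaseChange R E S S N
          ((1 : S) ⊗ₜ[E] (e • w)) := by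
    intro e w
    rw [← map_smul, algebraMap_smul, TensorProduct.tmul_smul]
  have hrange : ∀ (T : Finset (S × N)), (∀ i ∈ T, i.1 ∈ φ.range) →
      ∃ w : E ⊗[R] N, TensorProduct.AlgebraTensorModule.cancelBaseChange R E S S N
        ((1 : S) ⊗ₜ[E] w) = T.sum fun i => i.1 ⊗ₜ[R] i.2 := by
    intro T
    refine Finset.induction_on T ?_ ?_
    · intro _
      exact ⟨0, by rw [TensorProduct.tmul_zero, map_zero, Finset.sum_empty]⟩
    · intro i T hi ih hT
      obtain ⟨w, hw⟩ := ih (fun j hj => hT j (Finset.mem_insert_of_mem hj))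
      obtain ⟨e, he⟩ := hT i (Finset.mem_insert_self i T)
      replace he : φ e = i.1 := he
      refine ⟨e ⊗ₜ[R] i.2 + w, ?_⟩
      rw [TensorProduct.tmul_add, map_add, hw, Finset.sum_insert hi,
        TensorProduct.AlgebraTensorModule.cancelBaseChange_tmul, Algebra.smul_def, mul_one,
        halg, he]
  obtain ⟨z', hz'⟩ : ∃ w : E ⊗[R] N,
      TensorProduct.AlgebraTensorModule.cancelBaseChange R E S S N ((1 : S) ⊗ₜ[E] w) = z := by
    rw [hT]
    exact hrange T (fun i hi => hφ _ (Finset.mem_image_of_mem _ hi))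
  -- the prime `q`
  have hqprime : ((maximalIdeal S).comap (algebraMap E S)).IsPrime := Ideal.comap_isPrime _ _
  have hqover : ((maximalIdeal S).comap (algebraMap E S)).LiesOver (maximalIdeal R) := by
    constructor
    have h1 : maximalIdeal R = (maximalIdeal S).under R :=
      (maximalIdeal S).over_def (maximalIdeal R)
    rw [h1]
    show Ideal.comap (algebraMap R S) (maximalIdeal S)
      = Ideal.comap (algebraMap R E) (Ideal.comap (algebraMap E S) (maximalIdeal S))
    rw [Ideal.comap_comap, ← IsScalarTower.algebraMap_eq]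
  have hq : (maximalIdeal S).comap (algebraMap E S) ∈ (annOf E z').minimalPrimes := by
    refine ⟨⟨hqprime, ?_⟩, ?_⟩
    · intro e he
      rw [mem_annOf] at he
      show algebraMap E S e ∈ maximalIdeal S
      rw [← hz]
      apply Ideal.le_radical
      rw [mem_annOf, ← hz', hFb, he, TensorProduct.tmul_zero, map_zero]
    · rintro q' ⟨hq'prime, hq'le⟩ hq'q e he
      have h1 : algebraMap E S e ∈ (annOf S z).radical := by rw [hz]; exact he
      obtain ⟨n, hn⟩ := h1
      rw [← map_pow, mem_annOf, ← hz', hFb] at hn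
      have h2 : annOf S (TensorProduct.AlgebraTensorModule.cancelBaseChange R E S S N
          ((1 : S) ⊗ₜ[E] (e ^ n • z'))) = ⊤ := annOf_eq_top_iff.mpr hn
      have h3 : (annOf E (e ^ n • z')).map (algebraMap E S) = ⊤ :=
        top_le_iff.mp (h2 ▸ hFa _)
      have h4 : ¬ annOf E (e ^ n • z') ≤ (maximalIdeal S).comap (algebraMap E S) := by
        intro hle
        have h5 : (annOf E (e ^ n • z')).map (algebraMap E S) ≤ maximalIdeal S :=
          Ideal.map_le_iff_le_comap.mpr hle
        rw [h3] at h5
        exact (maximalIdeal.isMaximal S).ne_top (top_le_iff.mp h5)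
      obtain ⟨t, ht, htq⟩ := SetLike.not_le_iff_exists.mp h4
      rw [mem_annOf, smul_smul] at ht
      have h5 : t * e ^ n ∈ q' := hq'le (mem_annOf.mpr ht)
      rcases hq'prime.mem_or_mem h5 with h | h
      · exact absurd (hq'q h) htq
      · exact hq'prime.mem_of_pow_mem n h
  have hqw : (maximalIdeal S).comap (algebraMap E S) ∈ weakAss E (E ⊗[R] N) := ⟨z', hq⟩
  exact (Groth.Agent.Lib.WeakAssEtale88.mem_weakAss_baseChange_iff_of_etale N (maximalIdeal R)
    ((maximalIdeal S).comap (algebraMap E S))).mp hqw

end W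

open TensorProduct IsLocalRing in
/-- Ring form, S = Spec A: let M be an A-module and p a prime of A; let Ah be a henselization and Ash a
strict henselization of the local ring A_p. The following are equivalent: p is a weakly associated
prime of M; the maximal ideal of A_p is a weakly associated prime of M_p; the maximal ideal of Ah is
a weakly associated prime of Ah ⊗ M_p; the maximal ideal of Ash is a weakly associated prime of Ash
⊗ M_p. -/
theorem result {A : Type u} [CommRing A] (M : Type u) [AddCommGroup M] [Module A M] (p : Ideal A) [p.IsPrime]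
    (Ah Ash : Type u) [CommRing Ah] [IsLocalRing Ah] [CommRing Ash] [IsLocalRing Ash]
    [Algebra (Localization.AtPrime p) Ah] [IsLocalHom (algebraMap (Localization.AtPrime p) Ah)] [Hensel.IsHenselization (Localization.AtPrime p) Ah]
    [Algebra (Localization.AtPrime p) Ash] [IsLocalHom (algebraMap (Localization.AtPrime p) Ash)] [Hensel.IsStrictHenselization (Localization.AtPrime p) Ash] :
    [p ∈ FlatCA.weakAss A M,
     maximalIdeal (Localization.AtPrime p) ∈ FlatCA.weakAss (Localization.AtPrime p) (LocalizedModule p.primeCompl M),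
     maximalIdeal Ah ∈ FlatCA.weakAss Ah (Ah ⊗[Localization.AtPrime p] LocalizedModule p.primeCompl M),
     maximalIdeal Ash ∈ FlatCA.weakAss Ash (Ash ⊗[Localization.AtPrime p] LocalizedModule p.primeCompl M)].TFAE := by
  have hffh : Module.FaithfullyFlat (Localization.AtPrime p) Ah :=
    Groth.Agent.Lib.HenselizationFlat.faithfullyFlat_of_isHenselization (Localization.AtPrime p) Ah
  have hflath : Module.Flat (Localization.AtPrime p) Ah := inferInstance
  have hffs : Module.FaithfullyFlat (Localization.AtPrime p) Ash :=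
    Groth.Agent.Lib.StrictHenselization.faithfullyFlat_of_isStrictHenselization
      (Localization.AtPrime p) Ash
  have hflats : Module.Flat (Localization.AtPrime p) Ash := inferInstance
  tfae_have 1 ↔ 2 :=
    (Groth.Agent.Lib.WeakAss.mem_weakAss_iff_isAssociatedPrime_localization M p).trans
      Groth.Agent.Lib.WeakAss.maximalIdeal_mem_weakAss_iff.symm
  tfae_have 2 ↔ 3 := by
    constructor
    · exact forward (LocalizedModule p.primeCompl M)
        (Groth.Agent.Lib.HenselizationUP.map_maximalIdeal_eq (Localization.AtPrime p) Ah)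
    · refine backward (LocalizedModule p.primeCompl M) (fun T => ?_)
      obtain ⟨E, i1, i2, hE, -, φ, hφ⟩ :=
        Groth.Agent.Lib.LocalEtaleNbhd.exists_etale_of_finset (Localization.AtPrime p) Ah T
      exact ⟨E, i1, i2, hE, φ, hφ⟩
  tfae_have 2 ↔ 4 := by
    constructor
    · exact forward (LocalizedModule p.primeCompl M)
        (Groth.Agent.Lib.StrictHenselizationMax.map_maximalIdeal_eq (Localization.AtPrime p) Ash)
    · exact backward (LocalizedModule p.primeCompl M) (fun T =>
        Groth.Agent.Lib.H56ShGen.exists_etale_of_finset (Localization.AtPrime p) Ash T)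
  tfae_finish

end Groth.Agent.S1234
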