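import Groth.Statements.S12417
import Mathlib.AlgebraicGeometry.Morphisms.Affine
import Mathlib.AlgebraicGeometry.Morphisms.QuasiCompact

set_option autoImplicit false
universe u
open CategoryTheory AlgebraicGeometry
open Props

namespace Groth.Agent.S12417

theorem inf_affine_of_le (X : Scheme.{u}) (W U V : X.Opens) (hW : IsAffineOpen W)
    (hU : IsAffineOpen U) (hV : IsAffineOpen V) (hUW : U ≤ W) (hVW : V ≤ W) :
    IsAffineOpen (U ⊓ V) := by
  have : IsAffineHom (Limits.pullback.diagonal (𝟙 X)) := inferInstance
  exact isAffineHom_diagonal_iff.mp this W hW U (by simpa using hUW) V (by simpa using hVW) hU hV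

/-- A compact open is a finite union of affine opens, indexed by `Fin n`. -/
theorem exists_fin_affine_cover (X : Scheme.{u}) (U : X.Opens) (hU : IsCompact (U : Set X)) :
    ∃ (n : ℕ) (V : Fin n → X.Opens), (∀ i, IsAffineOpen (V i)) ∧ ⨆ i, V i = U := by
  classical
  obtain ⟨s, hs, rfl⟩ := isCompact_iff_finite_and_eq_biUnion_affineOpens.mp hU
  let t := hs.toFinset
  let e := t.equivFin
  refine ⟨t.card, fun i => ((e.symm i : t) : X.affineOpens).1, fun i => ((e.symm i : t) : X.affineOpens).2, ?_⟩
  apply le_antisymm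
  · apply iSup_le
    intro i
    have hmem : ((e.symm i : t) : X.affineOpens) ∈ s := hs.mem_toFinset.mp (e.symm i).2
    exact le_iSup₂_of_le ((e.symm i : t) : X.affineOpens) hmem le_rfl
  · apply iSup₂_le
    intro j hj
    have hjt : j ∈ t := hs.mem_toFinset.mpr hj
    refine le_iSup_of_le (e ⟨j, hjt⟩) ?_
    simp

/-- Let X be a quasi-compact quasi-separated scheme and P a property of opens of X such that (a) P holds
for every affine open, and (b) whenever a quasi-compact open U has a finite affine open covering U =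
V_1 ∪ … ∪ V_n with P holding for every intersection V_i ∩ V_j, P holds for U. Then P holds for every
quasi-compact open of X. -/
theorem result (X : Scheme.{u}) [CompactSpace X] [QuasiSeparatedSpace X]
    (P : X.Opens → Prop) (ha : ∀ U : X.Opens, IsAffineOpen U → P U)
    (hb : ∀ (U : X.Opens) (n : ℕ) (V : Fin n → X.Opens), IsCompact (U : Set X) →
      (∀ i, IsAffineOpen (V i)) → ⨆ i, V i = U → (∀ i j, P (V i ⊓ V j)) → P U)
    (U : X.Opens) (hU : IsCompact (U : Set X)) : P U := by
  have stepA : ∀ (W V : X.Opens), IsAffineOpen W → V ≤ W → IsCompact (V : Set X) → P V := by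
    intro W V hW hVW hV
    obtain ⟨n, Vf, hVf, hsup⟩ := exists_fin_affine_cover X V hV
    have hle : ∀ i, Vf i ≤ W := fun i => le_trans (le_trans (le_iSup Vf i) hsup.le) hVW
    exact hb V n Vf hV hVf hsup fun i j =>
      ha _ (inf_affine_of_le X W (Vf i) (Vf j) hW (hVf i) (hVf j) (hle i) (hle j))
  obtain ⟨n, Vf, hVf, hsup⟩ := exists_fin_affine_cover X U hU
  refine hb U n Vf hU hVf hsup fun i j => ?_
  refine stepA (Vf i) _ (hVf i) inf_le_left ?_
  exact QuasiSeparatedSpace.inter_isCompact _ _ (Vf i).2 (hVf i).isCompact (Vf j).2 (hVf j).isCompact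

end Groth.Agent.S12417
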