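import Groth.Statements.S12419
import Groth.Agent.Lib.FlatTopInduced88

set_option autoImplicit false
universe u
open TensorProduct
open CAlg

namespace Groth.Agent.S12419

/-- Let A → B be a local homomorphism of Noetherian local rings, m the maximal ideal of A, and φ : A →
A' a ring homomorphism to a semi-local Noetherian ring A' with Jacobson radical r', such that
φ⁻¹(r') = m and such that every power m^n contains φ⁻¹(r'^N) for some N. Then B is flat over A if
and only if A' ⊗_A B is flat over A'. (Given φ⁻¹(r') = m, the condition on powers says that the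
m-adic topology of A is induced by the r'-adic topology of A', equivalently that the induced
homomorphism of adic completions is injective, which is how the published statement phrases this
hypothesis.) -/
theorem result (A B A' : Type u) [CommRing A] [CommRing B]
    [CommRing A'] [IsNoetherianRing A] [IsLocalRing A] [IsNoetherianRing B] [IsLocalRing B]
    [Algebra A B] [IsLocalHom (algebraMap A B)] [IsNoetherianRing A'] [Finite (MaximalSpectrum A')]
    [Algebra A A']
    (hrad : (Ideal.jacobson (⊥ : Ideal A')).comap (algebraMap A A') = IsLocalRing.maximalIdeal A)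
    (htop : ∀ n : ℕ, ∃ N : ℕ,
      ((Ideal.jacobson (⊥ : Ideal A')) ^ N).comap (algebraMap A A') ≤ (IsLocalRing.maximalIdeal A) ^ n) :
    Module.Flat A B ↔ Module.Flat A' (A' ⊗[A] B) := by
  constructor
  · intro h
    infer_instance
  · intro h
    have hfield : Module.Flat (A ⧸ IsLocalRing.maximalIdeal A)
        ((A ⧸ IsLocalRing.maximalIdeal A) ⊗[A] B) := by
      let _ : Field (A ⧸ IsLocalRing.maximalIdeal A) := Ideal.Quotient.field _
      infer_instance
    have hfam : ∀ _ : Unit, Module.Flat A' (A' ⊗[A] B) := fun _ => h
    refine Groth.Agent.Lib.FlatTopInduced88.flat_of_family_topology_induced B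
      (fun _ : Unit => A') (IsLocalRing.maximalIdeal A) ?_
      (fun _ => Ideal.jacobson (⊥ : Ideal A')) ?_ ?_
    · intro 𝔞 x hx
      refine Groth.Agent.Lib.FlatCrit.eq_zero_of_forall_mem_pow_smul_top (S := B) (M := B)
        (IsLocalRing.maximalIdeal A) ?_ x hx
      rw [IsLocalRing.jacobson_eq_maximalIdeal ⊥ bot_ne_top]
      exact IsLocalRing.map_maximalIdeal_le (algebraMap A B)
    · intro _
      exact hrad.ge
    · intro n
      obtain ⟨N, hN⟩ := htop n
      exact ⟨N, (iInf_le _ ()).trans hN⟩

end Groth.Agent.S12419
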