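import Groth.Statements.S12421
import Mathlib.LinearAlgebra.TensorProduct.Associator

set_option autoImplicit false
universe u
open TensorProduct
open Desc

namespace Groth.Agent.S12421

section
variable (R A : Type u) [CommRing R] [CommRing A] [Algebra R A]

/-- contraction `b ⊗ (c ⊗ z) ↦ (b * c) ⊗ z`. -/
noncomputable def contr (N : Type u) [AddCommGroup N] [Module R N] :
    A ⊗[R] (A ⊗[R] N) →ₗ[R] A ⊗[R] N :=
  (LinearMap.rTensor N (LinearMap.mul' R A)) ∘ₗ (TensorProduct.assoc R A A N).symm.toLinearMap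

@[simp] lemma contr_tmul (N : Type u) [AddCommGroup N] [Module R N] (b c : A) (z : N) :
    contr R A N (b ⊗ₜ[R] (c ⊗ₜ[R] z)) = (b * c) ⊗ₜ[R] z := by
  simp [contr]

variable (M : Type u) [AddCommGroup M] [Module R M]

/-- homotopy `a ⊗ (m ⊗ (r ⊗ n)) ↦ (a * r) ⊗ (m ⊗ n)`. -/
noncomputable def htpy (N : Type u) [AddCommGroup N] [Module R N] :
    A ⊗[R] (M ⊗[R] (A ⊗[R] N)) →ₗ[R] A ⊗[R] (M ⊗[R] N) :=
  contr R A (M ⊗[R] N) ∘ₗ LinearMap.lTensor A (TensorProduct.leftComm R M A N).toLinearMap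

@[simp] lemma htpy_tmul (N : Type u) [AddCommGroup N] [Module R N] (a r : A) (m : M) (z : N) :
    htpy R A M N (a ⊗ₜ[R] (m ⊗ₜ[R] (r ⊗ₜ[R] z))) = (a * r) ⊗ₜ[R] (m ⊗ₜ[R] z) := by
  simp [htpy]

/-- the first differential -/
noncomputable def d1 : M ⊗[R] A →ₗ[R] M ⊗[R] (A ⊗[R] A) :=
  LinearMap.lTensor M (Algebra.TensorProduct.includeRight : A →ₐ[R] A ⊗[R] A).toLinearMap -
    LinearMap.lTensor M (Algebra.TensorProduct.includeLeft : A →ₐ[R] A ⊗[R] A).toLinearMap

/-- the second differential -/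
noncomputable def d2 : M ⊗[R] (A ⊗[R] A) →ₗ[R] M ⊗[R] (A ⊗[R] (A ⊗[R] A)) :=
  LinearMap.lTensor M
      (Algebra.TensorProduct.includeRight : A ⊗[R] A →ₐ[R] A ⊗[R] (A ⊗[R] A)).toLinearMap -
    LinearMap.lTensor M
      (Algebra.TensorProduct.map (AlgHom.id R A)
        (Algebra.TensorProduct.includeRight : A →ₐ[R] A ⊗[R] A)).toLinearMap +
    LinearMap.lTensor M
      (Algebra.TensorProduct.map (AlgHom.id R A)
        (Algebra.TensorProduct.includeLeft : A →ₐ[R] A ⊗[R] A)).toLinearMap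

lemma d2_comp_d1 : d2 R A M ∘ₗ d1 R A M = 0 := by
  ext m r
  simp [d1, d2]

lemma htpy_identity :
    htpy R A M (A ⊗[R] A) ∘ₗ LinearMap.lTensor A (d2 R A M) +
      LinearMap.lTensor A (d1 R A M) ∘ₗ htpy R A M A = LinearMap.id := by
  ext a m r1 r2
  simp [d1, d2]

end

/-- Let R → R' be faithfully flat and M an R-module. With δ¹ : M ⊗ R' → M ⊗ (R' ⊗ R'), m ⊗ r ↦ m ⊗ (1 ⊗
r) − m ⊗ (r ⊗ 1), and δ² : M ⊗ (R' ⊗ R') → M ⊗ (R' ⊗ (R' ⊗ R')), m ⊗ x ↦ m ⊗ (1 ⊗ x) − m ⊗ (ins₁ x)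
+ m ⊗ (ins₂ x), where ins₁ (r₁ ⊗ r₂) = r₁ ⊗ (1 ⊗ r₂) and ins₂ (r₁ ⊗ r₂) = r₁ ⊗ (r₂ ⊗ 1), the
sequence M ⊗ R' → M ⊗ R'^{⊗2} → M ⊗ R'^{⊗3} is exact: the kernel of δ² is the image of δ¹. (The
published statement asserts exactness of the whole complex; this row states exactness at M ⊗ R′ ⊗ R′
only.) -/
theorem result (R R' : Type u) [CommRing R] [CommRing R'] [Algebra R R']
    [Module.FaithfullyFlat R R'] (M : Type u) [AddCommGroup M] [Module R M] :
    Function.Exact
      (LinearMap.lTensor M (Algebra.TensorProduct.includeRight : R' →ₐ[R] R' ⊗[R] R').toLinearMap -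
        LinearMap.lTensor M
          (Algebra.TensorProduct.includeLeft : R' →ₐ[R] R' ⊗[R] R').toLinearMap)
      (LinearMap.lTensor M
          (Algebra.TensorProduct.includeRight : R' ⊗[R] R' →ₐ[R] R' ⊗[R] (R' ⊗[R] R')).toLinearMap -
        LinearMap.lTensor M
          (Algebra.TensorProduct.map (AlgHom.id R R')
            (Algebra.TensorProduct.includeRight : R' →ₐ[R] R' ⊗[R] R')).toLinearMap +
        LinearMap.lTensor M
          (Algebra.TensorProduct.map (AlgHom.id R R')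
            (Algebra.TensorProduct.includeLeft : R' →ₐ[R] R' ⊗[R] R')).toLinearMap) := by
  change Function.Exact (d1 R R' M) (d2 R R' M)
  rw [← Module.FaithfullyFlat.lTensor_exact_iff_exact R R']
  intro y
  constructor
  · intro hy
    refine ⟨htpy R R' M R' y, ?_⟩
    have := LinearMap.congr_fun (htpy_identity R R' M) y
    simp only [LinearMap.add_apply, LinearMap.comp_apply, LinearMap.id_apply] at this
    rw [hy, map_zero, zero_add] at this
    exact this
  · rintro ⟨z, rfl⟩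
    have : LinearMap.lTensor R' (d2 R R' M) ∘ₗ LinearMap.lTensor R' (d1 R R' M) = 0 := by
      rw [← LinearMap.lTensor_comp, d2_comp_d1, LinearMap.lTensor_zero]
    exact LinearMap.congr_fun this z

end Groth.Agent.S12421
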