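import Groth.Statements.S12423
import Groth.Agent.S12422
import Groth.Agent.Lib.H87ConormalSmooth2
import Groth.Agent.Lib.H87LocFreeExact
import Groth.Agent.Lib.Fitting82U
import Groth.Agent.Lib.OmegaDer81E

set_option autoImplicit false
universe u
open CategoryTheory CategoryTheory.Limits AlgebraicGeometry
open NonsingVar

namespace Groth.Agent.S12423

/-- Let k be an algebraically closed field, X a nonsingular variety over k (integral, separated and of
finite type over k, all local rings regular) of dimension n, i : Y → X an irreducible closed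
subscheme of dimension q with ideal sheaf I, (Ω_X, d_X) and (Ω_Y, d_Y) sheaves of differentials of X
and Y over k (universal derivations), and φ : I/I² → i^*Ω_X the canonical map from the conormal
sheaf (class of a local section s of I ↦ pullback of d_X s). Then Y is nonsingular if and only if
(1) Ω_Y is locally free and (2) φ is a monomorphism (the conormal sequence 0 → I/I² → i^*Ω_X → Ω_Y →
0 is exact on the left too). Moreover in that case I/I² is locally free of rank n − q, the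
codimension of Y. (The clause that I is then locally generated by n − q sections is not restated.) -/
theorem result (k : Type u) [Field k]
    [IsAlgClosed k] (n q : ℕ)
    (X : Scheme.{u}) [X.Over (Spec (CommRingCat.of k))] [IsIntegral X] [IsSeparated (X ↘ (Spec (CommRingCat.of k)))]
    [LocallyOfFiniteType (X ↘ (Spec (CommRingCat.of k)))] [QuasiCompact (X ↘ (Spec (CommRingCat.of k)))]
    (hreg : ∀ x : ↥X, IsRegularLocalRing ↑(X.presheaf.stalk x))
    (hn : topologicalKrullDim ↥X = (n : WithBot ℕ∞))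
    (Y : Scheme.{u}) (i : Y ⟶ X) [IsClosedImmersion i] [IrreducibleSpace ↥Y]
    (hq : topologicalKrullDim ↥Y = (q : WithBot ℕ∞))
    (ΩX : X.Modules) (dX : OmegaSh.Der (X ↘ (Spec (CommRingCat.of k))) ΩX) (hX : OmegaSh.IsUniversal dX)
    (ΩY : Y.Modules) (dY : OmegaSh.Der (i ≫ (X ↘ (Spec (CommRingCat.of k)))) ΩY) (hY : OmegaSh.IsUniversal dY)
    (φ : Omega.conormal i ⟶ (Scheme.Modules.pullback i).obj ΩX) (hφ : OmegaSh.IsConormalDiff i dX φ) :
    ((∀ y : ↥Y, IsRegularLocalRing ↑(Y.presheaf.stalk y)) ↔ (FlatMod.IsFinLocFree ΩY ∧ Mono φ)) ∧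
      ((∀ y : ↥Y, IsRegularLocalRing ↑(Y.presheaf.stalk y)) →
        FlatMod.IsFinLocFreeOfRank (n - q) (Omega.conormal i)) := by
  letI : Y.Over (Spec (CommRingCat.of k)) := ⟨i ≫ (X ↘ (Spec (CommRingCat.of k)))⟩
  haveI : IsLocallyNoetherian (Spec (CommRingCat.of k)) := inferInstance
  haveI : LocallyOfFinitePresentation (X ↘ (Spec (CommRingCat.of k))) := inferInstance
  haveI : LocallyOfFiniteType (i ≫ (X ↘ (Spec (CommRingCat.of k)))) := inferInstance
  haveI : LocallyOfFinitePresentation (i ≫ (X ↘ (Spec (CommRingCat.of k)))) := inferInstance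
  haveI : IsSeparated (i ≫ (X ↘ (Spec (CommRingCat.of k)))) := inferInstance
  haveI : QuasiCompact (i ≫ (X ↘ (Spec (CommRingCat.of k)))) := inferInstance
  haveI : LocallyOfFiniteType (Y ↘ (Spec (CommRingCat.of k))) :=
    (inferInstance : LocallyOfFiniteType (i ≫ (X ↘ (Spec (CommRingCat.of k)))))
  haveI : LocallyOfFinitePresentation (Y ↘ (Spec (CommRingCat.of k))) :=
    (inferInstance : LocallyOfFinitePresentation (i ≫ (X ↘ (Spec (CommRingCat.of k)))))
  haveI : IsSeparated (Y ↘ (Spec (CommRingCat.of k))) :=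
    (inferInstance : IsSeparated (i ≫ (X ↘ (Spec (CommRingCat.of k)))))
  haveI : QuasiCompact (Y ↘ (Spec (CommRingCat.of k))) :=
    (inferInstance : QuasiCompact (i ≫ (X ↘ (Spec (CommRingCat.of k)))))
  -- `X` is smooth over `k`
  haveI hXsm : Smooth (X ↘ (Spec (CommRingCat.of k))) := by
    rw [← Scheme.Hom.smoothLocus_eq_top_iff]
    ext y
    simp only [TopologicalSpace.Opens.coe_top, Set.mem_univ, iff_true, SetLike.mem_coe]
    exact (Groth.Agent.Lib.H14SmoothReg.mem_smoothLocus_iff_isRegularLocalRing k X y).mpr (hreg y)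
  have hΩX : FlatMod.IsFinLocFreeOfRank n ΩX :=
    (Groth.Agent.S12422.result k n X hn ΩX dX hX).mpr hreg
  obtain ⟨c, hc, -⟩ := Groth.Agent.Lib.OmegaDer81.existsUnique_isDiffCompat i
    (𝟙 (Spec (CommRingCat.of k))) (Category.comp_id _) dX hX dY
  obtain ⟨w, hex, hepi⟩ := Groth.Agent.Lib.Conormal81.second_sequence_exact
    (X ↘ (Spec (CommRingCat.of k))) i dX dY φ c hX hY hφ hc
  -- regular ⇔ smooth for `Y`
  have hA : (∀ y : ↥Y, IsRegularLocalRing ↑(Y.presheaf.stalk y)) →
      Smooth (i ≫ (X ↘ (Spec (CommRingCat.of k)))) := by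
    intro hregY
    rw [← Scheme.Hom.smoothLocus_eq_top_iff]
    ext y
    simp only [TopologicalSpace.Opens.coe_top, Set.mem_univ, iff_true, SetLike.mem_coe]
    exact (Groth.Agent.Lib.H14SmoothReg.mem_smoothLocus_iff_isRegularLocalRing k Y y).mpr (hregY y)
  have hB : Smooth (i ≫ (X ↘ (Spec (CommRingCat.of k)))) →
      ∀ y : ↥Y, IsRegularLocalRing ↑(Y.presheaf.stalk y) := by
    intro hsm y
    rw [← Groth.Agent.Lib.H14SmoothReg.mem_smoothLocus_iff_isRegularLocalRing k Y y]
    have : (i ≫ (X ↘ (Spec (CommRingCat.of k)))).smoothLocus = ⊤ :=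
      Scheme.Hom.smoothLocus_eq_top _
    change y ∈ (i ≫ (X ↘ (Spec (CommRingCat.of k)))).smoothLocus
    rw [this]
    trivial
  refine ⟨⟨fun hregY => ?_, fun ⟨hfree, hmono⟩ => ?_⟩, fun hregY => ?_⟩
  · haveI := hA hregY
    refine ⟨fun y => ?_, Groth.Agent.Lib.H87ConormalSmooth.mono_conormalDiff_of_smooth i
      (X ↘ (Spec (CommRingCat.of k))) dX φ hX hφ⟩
    obtain ⟨U, m, hyU, hiso, -⟩ := Groth.Agent.Lib.H87SmoothRank.exists_free_omega_of_smooth
      (i ≫ (X ↘ (Spec (CommRingCat.of k)))) ΩY dY hY y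
    exact ⟨U, m, hyU, hiso⟩
  · apply hB
    rw [HasRingHomProperty.iff_exists_appLE (P := @Smooth)
      (RingHom.Smooth.stableUnderComposition.stableUnderCompositionWithLocalizationAway
        RingHom.Smooth.holdsForLocalizationAway).left]
    intro y
    obtain ⟨_, ⟨(UY : X.Opens), hUY, rfl⟩, hyU, -⟩ :=
      X.isBasis_affineOpens.exists_subset_of_mem_open (Set.mem_univ (i y)) isOpen_univ
    have hgood : Groth.Agent.Lib.Conormal81.IsGoodChart i UY := by
      refine ⟨hUY, fun z _ => ?_⟩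
      change z ∈ coborder (Set.range i)
      rw [(i.isClosedEmbedding.isClosed_range).coborder_eq]
      trivial
    have hV := isAffineOpen_top (Spec (CommRingCat.of k))
    have hWa : IsAffineOpen (i ⁻¹ᵁ UY) := hgood.isAffineOpen_preimage
    have e : UY ≤ (X ↘ (Spec (CommRingCat.of k))) ⁻¹ᵁ ⊤ := le_top
    have e' : i ⁻¹ᵁ UY ≤ (i ≫ (X ↘ (Spec (CommRingCat.of k)))) ⁻¹ᵁ ⊤ := i.preimage_mono e
    refine ⟨⟨⊤, hV⟩, ⟨i ⁻¹ᵁ UY, hWa⟩, hyU, e', ?_⟩
    obtain ⟨-, h2⟩ := Groth.Agent.Lib.H87ConormalSmooth.chart_both i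
      (X ↘ (Spec (CommRingCat.of k))) dX φ hX hφ hgood hV e
    letI algCB : Algebra Γ(Spec (CommRingCat.of k), ⊤) Γ(X, UY) :=
      ((X ↘ (Spec (CommRingCat.of k))).appLE ⊤ UY e).hom.toAlgebra
    letI algCA : Algebra Γ(Spec (CommRingCat.of k), ⊤) Γ(Y, i ⁻¹ᵁ UY) :=
      ((i ≫ (X ↘ (Spec (CommRingCat.of k)))).appLE ⊤ (i ⁻¹ᵁ UY) e').hom.toAlgebra
    have hFSB : Algebra.FormallySmooth Γ(Spec (CommRingCat.of k), ⊤) Γ(X, UY) :=
      ((X ↘ (Spec (CommRingCat.of k))).smooth_appLE hV hUY e).1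
    have hproj : Module.Projective Γ(Y, i ⁻¹ᵁ UY)
        Ω[Γ(Y, i ⁻¹ᵁ UY)⁄Γ(Spec (CommRingCat.of k), ⊤)] := by
      obtain ⟨ε, -⟩ := Groth.Agent.Lib.OmegaDer81.exists_linearEquiv_sections
        (i ≫ (X ↘ (Spec (CommRingCat.of k)))) dY hWa hV e' hY
      haveI := Groth.Agent.Lib.Fitting82.projective_sections_of_isFinLocFree ΩY hfree hWa
      exact Module.Projective.of_equiv ε.symm
    have hinj : Function.Injective (φ.app (i ⁻¹ᵁ UY)) :=
      Groth.Agent.Lib.H90OXModSections.injective_app_of_mono φ _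
    have hFSA := h2 hFSB hproj hinj
    exact ⟨hFSA, (i ≫ (X ↘ (Spec (CommRingCat.of k)))).finitePresentation_appLE hV hWa e'⟩
  · haveI := hA hregY
    haveI hmono : Mono φ := Groth.Agent.Lib.H87ConormalSmooth.mono_conormalDiff_of_smooth i
      (X ↘ (Spec (CommRingCat.of k))) dX φ hX hφ
    have hΩY : FlatMod.IsFinLocFreeOfRank q ΩY :=
      (Groth.Agent.S12422.result k q Y hq ΩY dY hY).mpr hregY
    have hpull : FlatMod.IsFinLocFreeOfRank n ((Scheme.Modules.pullback i).obj ΩX) :=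
      Groth.Agent.Lib.H90Invertible.isFinLocFreeOfRank_pullback i hΩX
    have hS : (ShortComplex.mk φ c w).ShortExact := ShortComplex.ShortExact.mk hex
    exact Groth.Agent.Lib.H87LocFreeExact.isFinLocFreeOfRank_of_shortExact hS hpull hΩY

end Groth.Agent.S12423
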