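import Groth.Statements.S12430
import Groth.Agent.Lib.CurveVB67L
import Groth.Agent.S0002
import Groth.Agent.S3230
import Groth.Agent.S0458
import Mathlib
-- import your own Groth.Agent.* helpers here

set_option autoImplicit false
universe u
open CategoryTheory CategoryTheory.Limits AlgebraicGeometry
open Curves

namespace Groth.Agent.S12430

open Groth.Agent.Lib.CurveVB67


/-- Let C be a curve over an algebraically closed field k (integral, proper over k, of dimension one,
all local rings regular) and E a locally free O_C-module of rank 2 which is normalized — H^0(C, E) ≠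
0 while H^0(C, E ⊗ M) = 0 for every invertible O_C-module M of negative degree. Then for every
nonzero morphism s : O_C → E the cokernel of s is an invertible O_C-module (so E is an extension of
an invertible module by O_C). -/
theorem result (k : Type u) [Field k] [IsAlgClosed k] (C : Scheme.{u}) [C.Over (Spec (CommRingCat.of k))]
    [IsIntegral C] [IsProper (C ↘ (Spec (CommRingCat.of k)))] (hdimC : topologicalKrullDim C = 1)
    (hregC : ∀ x : C, IsRegularLocalRing (C.presheaf.stalk x))
    (E : C.Modules) (hE : FlatMod.IsFinLocFreeOfRank 2 E)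
    (hE0 : Nontrivial (Coh.HH C E 0))
    (hEneg : ∀ M : C.Modules, PicF.IsInvertible M → Curv2.deg k C M 1 < 0 → Subsingleton (Coh.HH C (CohB1.tensorMod E M) 0))
    (s : Coh.structureModule C ⟶ E) (hs : s ≠ 0) :
    PicF.IsInvertible (cokernel s) := by
  have H : Groth.Agent.Lib.ProperFinHyp.Hyp.{u} :=
    fun A _ _ X _ _ M hM n => Groth.Agent.S0002.result A X M hM n
  have HS : Groth.Agent.Lib.IntNumAlg13.SnapperHyp.{u} := fun k _ X _ _ d hd _ L hL F hF r hr =>
    Groth.Agent.S3230.result k X d hd L hL F hF r hr
  have V : Groth.Agent.Lib.EulerLE48.VanHyp.{u} := fun X _ d hd F p hp =>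
    have : TopologicalSpace.NoetherianSpace X.toTopCat :=
      inferInstanceAs (TopologicalSpace.NoetherianSpace X)
    Groth.Agent.S0458.result (X := X.toTopCat) d hd (Coh.toAb F) p hp
  have hpid := hpid_of_regular C hdimC.le hregC
  have hO1 := isFinLocFreeOfRank_one_structureModule C
  have hOc : Coh.IsCoh (Coh.structureModule C) := isCoh_of_rank hO1
  have hsm : Mono s := mono_of_ne_zero_of_rank_one k C hpid hO1 hE s hs
  have hrkO : 1 = rk (Coh.structureModule C) := eq_rk_of_isFinLocFreeOfRank hO1
  obtain ⟨L, g', j, hg', hj, hjg, hLc, hLlf, hQlf, -, -, -⟩ := exists_sat H k C hpid hdimC hE s hOc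
  rw [← hrkO] at hLlf hQlf
  have hLinv : PicF.IsInvertible L :=
    (Groth.Agent.Lib.H90Invertible.isInvertible_iff_isFinLocFreeOfRank_one L).mpr hLlf
  have hdL := deg_le_zero_of_mono_of_normalized HS V k C hdimC.le hEneg hLinv g'
  have hiso : IsIso j := isIso_of_mono_of_deg_le_zero H k C hdimC.le hLlf j hdL
  have e : cokernel s ≅ cokernel g' := by
    subst hjg
    exact cokernelEpiComp j g'
  rw [Groth.Agent.Lib.H90Invertible.isInvertible_iff_isFinLocFreeOfRank_one]
  intro x
  obtain ⟨U, hU, ⟨t⟩⟩ := hQlf x
  exact ⟨U, hU, ⟨(Scheme.Modules.restrictFunctor U.ι).mapIso e ≪≫ t⟩⟩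

end Groth.Agent.S12430
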