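import Groth.Statements.S12437
import Mathlib
-- import your own Groth.Agent.* helpers here

set_option autoImplicit false
universe u
open Cubic

namespace Groth.Agent.S12437

section
open MvPolynomial
set_option linter.style.haveILetI false

theorem esymm_cons_aux {A : Type*} [CommRing A] (x : A) (s : Multiset A) (j : ℕ) :
    (x ::ₘ s).esymm (j + 1) = s.esymm (j + 1) + x * s.esymm j := by
  unfold Multiset.esymm
  rw [Multiset.powersetCard_cons, Multiset.map_add, Multiset.sum_add, Multiset.map_map]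
  congr 1
  have : (Multiset.prod ∘ Multiset.cons x) = fun t : Multiset A => x * t.prod := by
    funext t; simp
  rw [this, Multiset.sum_map_mul_left]

theorem univ_map_cons {A : Type*} {n : ℕ} (x : A) (g : Fin n → A) :
    (Finset.univ : Finset (Fin (n + 1))).val.map (Fin.cons x g : Fin (n + 1) → A) =
      x ::ₘ (Finset.univ : Finset (Fin n)).val.map g := by
  rw [Fin.univ_succ]
  simp [Function.comp_def]

theorem esymm_cons' {A : Type*} [CommRing A] {n : ℕ} (x : A) (g : Fin n → A) (j : ℕ) :
    ((Finset.univ : Finset (Fin (n + 1))).val.map (Fin.cons x g : Fin (n + 1) → A)).esymm (j + 1) =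
      ((Finset.univ : Finset (Fin n)).val.map g).esymm (j + 1) +
        x * ((Finset.univ : Finset (Fin n)).val.map g).esymm j := by
  rw [univ_map_cons, esymm_cons_aux]

theorem map_esymm_aux {A B : Type*} [CommRing A] [CommRing B] (φ : A →+* B) (s : Multiset A)
    (j : ℕ) : φ (s.esymm j) = (s.map φ).esymm j := by
  simp only [Multiset.esymm, map_multiset_sum, Multiset.map_map, Multiset.powersetCard_map]
  congr 1
  refine Multiset.map_congr rfl (fun t _ => ?_)
  simp [map_multiset_prod]

theorem finSucc_esymm (R : Type*) [CommRing R] (n j : ℕ) :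
    finSuccEquiv R n (esymm (Fin (n + 1)) R (j + 1)) =
      Polynomial.C (esymm (Fin n) R (j + 1)) + Polynomial.X * Polynomial.C (esymm (Fin n) R j) := by
  have h1 : (finSuccEquiv R n : MvPolynomial (Fin (n + 1)) R →ₐ[R] _) =
      aeval (Fin.cons Polynomial.X (fun i : Fin n => Polynomial.C (X i)) :
        Fin (n + 1) → Polynomial (MvPolynomial (Fin n) R)) := by
    apply MvPolynomial.algHom_ext
    intro i
    refine Fin.cases ?_ (fun i => ?_) i
    · simp [finSuccEquiv_X_zero]
    · simp [finSuccEquiv_X_succ]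
  have h2 : finSuccEquiv R n (esymm (Fin (n + 1)) R (j + 1)) =
      (finSuccEquiv R n : MvPolynomial (Fin (n + 1)) R →ₐ[R] _) (esymm (Fin (n + 1)) R (j + 1)) :=
    rfl
  rw [h2, h1, aeval_esymm_eq_multiset_esymm, esymm_cons']
  have h3 : ∀ m, ((Finset.univ : Finset (Fin n)).val.map
      (fun i : Fin n => (Polynomial.C (X i) : Polynomial (MvPolynomial (Fin n) R)))).esymm m =
      Polynomial.C (esymm (Fin n) R m) := by
    intro m
    rw [esymm_eq_multiset_esymm, map_esymm_aux, Multiset.map_map]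
    rfl
  rw [h3, h3]

theorem esymm_fin2_one (k : Type*) [CommRing k] : esymm (Fin 2) k 1 = X 0 + X 1 := by
  rw [esymm_one, Fin.sum_univ_two]

theorem esymm_fin2_two (k : Type*) [CommRing k] : esymm (Fin 2) k 2 = X 0 * X 1 := by
  rw [MvPolynomial.esymm]
  have : (Finset.univ : Finset (Fin 2)).powersetCard 2 = {Finset.univ} := by decide
  rw [this]
  simp

theorem isRelPrime_aux (k : Type*) [Field k] :
    IsRelPrime (X 0 + X 1 : MvPolynomial (Fin 2) k) (X 0 * X 1) := by
  have h01 : IsRelPrime (X 0 : MvPolynomial (Fin 2) k) (X 1) := by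
    rw [(X_prime (R := k) (i := (0 : Fin 2))).irreducible.isRelPrime_iff_not_dvd, X_dvd_X]
    decide
  have h2 : IsRelPrime ((X 0 : MvPolynomial (Fin 2) k) ^ 2) (X 1 ^ 2) := h01.pow
  intro d hd1 hd2
  refine h2 ?_ ?_
  · have : (X 0 : MvPolynomial (Fin 2) k) ^ 2 = X 0 * (X 0 + X 1) - X 0 * X 1 := by ring
    rw [this]
    exact dvd_sub (Dvd.dvd.mul_left hd1 _) hd2
  · have : (X 1 : MvPolynomial (Fin 2) k) ^ 2 = X 1 * (X 0 + X 1) - X 0 * X 1 := by ring
    rw [this]
    exact dvd_sub (Dvd.dvd.mul_left hd1 _) hd2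

theorem esymm2_prime (k : Type*) [Field k] : Prime (esymm (Fin 3) k 2) := by
  have e : finSuccEquiv k 2 (esymm (Fin 3) k 2) =
      Polynomial.C (X 0 + X 1 : MvPolynomial (Fin 2) k) * Polynomial.X +
        Polynomial.C (X 0 * X 1 : MvPolynomial (Fin 2) k) := by
    rw [finSucc_esymm k 2 1, esymm_fin2_one, esymm_fin2_two]
    ring
  have hne : (X 0 + X 1 : MvPolynomial (Fin 2) k) ≠ 0 := by
    intro h
    have := congrArg (MvPolynomial.eval (![1, 0] : Fin 2 → k)) h
    simp at this
  have hirr := Polynomial.irreducible_C_mul_X_add_C hne (isRelPrime_aux k)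
  rw [← e] at hirr
  have hp : Prime (finSuccEquiv k 2 (esymm (Fin 3) k 2)) :=
    UniqueFactorizationMonoid.irreducible_iff_prime.mp hirr
  exact (MulEquiv.prime_iff (finSuccEquiv k 2)).mp hp

theorem esymm_fin3_one (k : Type*) [CommRing k] : esymm (Fin 3) k 1 = X 0 + X 1 + X 2 := by
  rw [esymm_one, Fin.sum_univ_three]

theorem esymm_fin3_two (k : Type*) [CommRing k] :
    esymm (Fin 3) k 2 = X 0 * X 1 + X 0 * X 2 + X 1 * X 2 := by
  rw [MvPolynomial.esymm]
  have : (Finset.univ : Finset (Fin 3)).powersetCard 2 = {{0,1},{0,2},{1,2}} := by decide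
  rw [this]
  rw [Finset.sum_insert (by decide), Finset.sum_insert (by decide), Finset.sum_singleton]
  rw [Finset.prod_insert (by decide), Finset.prod_insert (by decide), Finset.prod_insert (by decide)]
  simp
  ring

theorem esymm_fin3_three (k : Type*) [CommRing k] : esymm (Fin 3) k 3 = X 0 * X 1 * X 2 := by
  rw [MvPolynomial.esymm]
  have : (Finset.univ : Finset (Fin 3)).powersetCard 3 = {Finset.univ} := by decide
  rw [this]
  simp [Fin.prod_univ_three]

theorem esymm_fin3_four (k : Type*) [CommRing k] : esymm (Fin 3) k 4 = 0 := by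
  rw [MvPolynomial.esymm]
  have : (Finset.univ : Finset (Fin 3)).powersetCard 4 = ∅ := by decide
  rw [this]
  simp

theorem esymm2_not_dvd (k : Type*) [Field k] [CharZero k] :
    ¬ esymm (Fin 3) k 2 ∣ esymm (Fin 3) k 3 := by
  rintro ⟨g, hg⟩
  have := congrArg (MvPolynomial.eval (![2, 2, -1] : Fin 3 → k)) hg
  rw [esymm_fin3_two, esymm_fin3_three] at this
  simp at this
  norm_num at this

/-- the quartic hypersurface polynomial -/
noncomputable def F4 (k : Type*) [CommRing k] : MvPolynomial (Fin 4) k :=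
  esymm (Fin 4) k 1 * esymm (Fin 4) k 4 - esymm (Fin 4) k 2 * esymm (Fin 4) k 3

theorem F4_def (k : Type*) [CommRing k] : F4 k =
    esymm (Fin 4) k 1 * esymm (Fin 4) k 4 - esymm (Fin 4) k 2 * esymm (Fin 4) k 3 := rfl

theorem finSucc_F4 (k : Type*) [CommRing k] :
    finSuccEquiv k 3 (F4 k) =
      Polynomial.C (esymm (Fin 3) k 3 - esymm (Fin 3) k 1 * esymm (Fin 3) k 2) * Polynomial.X ^ 2 +
      Polynomial.C (-(esymm (Fin 3) k 2) ^ 2) * Polynomial.X +
      Polynomial.C (-(esymm (Fin 3) k 2 * esymm (Fin 3) k 3)) := by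
  unfold F4
  rw [map_sub, map_mul, map_mul, finSucc_esymm k 3 0, finSucc_esymm k 3 3, finSucc_esymm k 3 1,
    finSucc_esymm k 3 2, esymm_fin3_four, esymm_zero]
  simp only [map_sub, map_mul, map_neg, map_pow, map_zero, map_one]
  ring

theorem F4_prime (k : Type*) [Field k] [CharZero k] : Prime (F4 k) := by
  set a := esymm (Fin 3) k 1 with ha
  set b := esymm (Fin 3) k 2 with hb
  set c := esymm (Fin 3) k 3 with hc
  have hbp : Prime b := esymm2_prime k
  have hbc : ¬ b ∣ c := esymm2_not_dvd k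
  have hA : ¬ b ∣ c - a * b := by
    intro h
    apply hbc
    have : c = (c - a * b) + a * b := by ring
    rw [this]
    exact dvd_add h (Dvd.intro_left _ rfl)
  have hA0 : c - a * b ≠ 0 := by
    intro h; apply hA; rw [h]; exact dvd_zero _
  have hb0 : b ≠ 0 := hbp.ne_zero
  set P : Polynomial (MvPolynomial (Fin 3) k) :=
    Polynomial.C (c - a * b) * Polynomial.X ^ 2 + Polynomial.C (-b ^ 2) * Polynomial.X +
      Polynomial.C (-(b * c)) with hP
  have hdeg : P.degree = 2 := Polynomial.degree_quadratic hA0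
  have hc0 : P.coeff 0 = -(b * c) := by
    simp only [hP, Polynomial.coeff_add, Polynomial.coeff_C_mul, Polynomial.coeff_X_pow,
      Polynomial.coeff_X, Polynomial.coeff_C]
    norm_num
  have hc1 : P.coeff 1 = -b ^ 2 := by
    simp only [hP, Polynomial.coeff_add, Polynomial.coeff_C_mul, Polynomial.coeff_X_pow,
      Polynomial.coeff_X, Polynomial.coeff_C]
    norm_num
  have hc2 : P.coeff 2 = c - a * b := by
    simp only [hP, Polynomial.coeff_add, Polynomial.coeff_C_mul, Polynomial.coeff_X_pow,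
      Polynomial.coeff_X, Polynomial.coeff_C]
    norm_num
  have hirr : Irreducible P := by
    refine Polynomial.irreducible_of_eisenstein_criterion (P := Ideal.span {b})
      ((Ideal.span_singleton_prime hb0).mpr hbp) ?_ ?_ ?_ ?_ ?_
    · rw [hP, Polynomial.leadingCoeff_quadratic hA0, Ideal.mem_span_singleton]
      exact hA
    · intro n hn
      rw [hdeg] at hn
      have hn' : n < 2 := by exact_mod_cast hn
      rw [Ideal.mem_span_singleton]
      interval_cases n
      · rw [hc0]; exact (Dvd.intro _ rfl).neg_right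
      · rw [hc1]; exact (Dvd.intro _ (sq b).symm).neg_right
    · rw [hdeg]; norm_num
    · rw [hc0, Ideal.span_singleton_pow, Ideal.mem_span_singleton, dvd_neg, sq]
      intro h
      exact hbc ((mul_dvd_mul_iff_left hb0).mp h)
    · rw [Polynomial.isPrimitive_iff_isUnit_of_C_dvd]
      intro r hr
      rw [Polynomial.C_dvd_iff_dvd_coeff] at hr
      have hr2 : r ∣ c - a * b := hc2 ▸ hr 2
      have hr1 : r ∣ b ^ 2 := by
        have := hr 1
        rw [hc1, dvd_neg] at this
        exact this
      by_contra hru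
      have hr0 : r ≠ 0 := by
        rintro rfl
        exact hA0 (zero_dvd_iff.mp hr2)
      obtain ⟨π, hπ, hπr⟩ := WfDvdMonoid.exists_irreducible_factor hru hr0
      have hπp : Prime π := UniqueFactorizationMonoid.irreducible_iff_prime.mp hπ
      have hπb : π ∣ b := hπp.dvd_of_dvd_pow (dvd_trans hπr hr1)
      obtain ⟨u, hu⟩ := hπb
      rcases hbp.irreducible.isUnit_or_isUnit hu with h | h
      · exact hπ.not_isUnit h
      · apply hA
        refine dvd_trans ?_ (dvd_trans hπr hr2)
        obtain ⟨u', rfl⟩ := h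
        exact ⟨↑u'⁻¹, by rw [hu, mul_assoc, Units.mul_inv, mul_one]⟩
  have hp : Prime (finSuccEquiv k 3 (F4 k)) := by
    rw [finSucc_F4]
    exact UniqueFactorizationMonoid.irreducible_iff_prime.mp hirr
  exact (MulEquiv.prime_iff (finSuccEquiv k 3)).mp hp

theorem aeval_esymm_cons {k A : Type*} [CommRing k] [CommRing A] [Algebra k A] {n : ℕ} (x : A)
    (z : Fin n → A) (j : ℕ) :
    aeval (Fin.cons x z : Fin (n + 1) → A) (esymm (Fin (n + 1)) k (j + 1)) =
      aeval z (esymm (Fin n) k (j + 1)) + x * aeval z (esymm (Fin n) k j) := by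
  rw [aeval_esymm_eq_multiset_esymm, aeval_esymm_eq_multiset_esymm, aeval_esymm_eq_multiset_esymm,
    esymm_cons']

theorem aeval_esymm_cons_zero {k A : Type*} [CommRing k] [CommRing A] [Algebra k A] {n : ℕ}
    (z : Fin n → A) : aeval z (esymm (Fin n) k 0) = 1 := by
  rw [esymm_zero, map_one]

/-- esymm in the last four variables -/
noncomputable def eTail (k : Type*) [CommRing k] (j : ℕ) : MvPolynomial (Fin 5) k :=
  aeval (fun i : Fin 4 => (X i.succ : MvPolynomial (Fin 5) k)) (esymm (Fin 4) k j)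

theorem esymm5_succ (k : Type*) [CommRing k] (j : ℕ) :
    esymm (Fin 5) k (j + 1) = eTail k (j + 1) + X 0 * eTail k j := by
  have h := aeval_esymm_cons (k := k) (X 0 : MvPolynomial (Fin 5) k)
    (fun i : Fin 4 => (X i.succ : MvPolynomial (Fin 5) k)) j
  have h2 : (Fin.cons (X 0 : MvPolynomial (Fin 5) k)
      (fun i : Fin 4 => (X i.succ : MvPolynomial (Fin 5) k)) : Fin 5 → MvPolynomial (Fin 5) k) = X := by
    funext i
    refine Fin.cases ?_ (fun i => ?_) i <;> simp
  rw [h2, aeval_X_left, AlgHom.id_apply] at h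
  exact h

theorem eTail_zero (k : Type*) [CommRing k] : eTail k 0 = 1 := by
  unfold eTail; rw [esymm_zero, map_one]

theorem eTail_F4 (k : Type*) [CommRing k] :
    aeval (fun i : Fin 4 => (X i.succ : MvPolynomial (Fin 5) k)) (F4 k) =
      eTail k 1 * esymm (Fin 5) k 4 - eTail k 3 * esymm (Fin 5) k 2 := by
  unfold F4
  rw [map_sub, map_mul, map_mul, esymm5_succ k 3, esymm5_succ k 1]
  unfold eTail
  ring

theorem esymm_fin4_one (k : Type*) [CommRing k] : esymm (Fin 4) k 1 = X 0 + X 1 + X 2 + X 3 := by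
  rw [esymm_one, Fin.sum_univ_four]

theorem esymm_fin4_three (k : Type*) [CommRing k] :
    esymm (Fin 4) k 3 = X 0 * X 1 * X 2 + X 0 * X 1 * X 3 + X 0 * X 2 * X 3 + X 1 * X 2 * X 3 := by
  rw [MvPolynomial.esymm]
  have : (Finset.univ : Finset (Fin 4)).powersetCard 3 = {{0,1,2},{0,1,3},{0,2,3},{1,2,3}} := by
    decide
  rw [this]
  rw [Finset.sum_insert (by decide), Finset.sum_insert (by decide), Finset.sum_insert (by decide),
    Finset.sum_singleton]
  rw [Finset.prod_insert (by decide), Finset.prod_insert (by decide), Finset.prod_insert (by decide),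
    Finset.prod_insert (by decide), Finset.prod_insert (by decide), Finset.prod_insert (by decide),
    Finset.prod_insert (by decide), Finset.prod_insert (by decide)]
  simp
  ring

theorem esymm_fin4_four (k : Type*) [CommRing k] : esymm (Fin 4) k 4 = X 0 * X 1 * X 2 * X 3 := by
  rw [MvPolynomial.esymm]
  have : (Finset.univ : Finset (Fin 4)).powersetCard 4 = {Finset.univ} := by decide
  rw [this]
  simp [Fin.prod_univ_four]

theorem F4_not_dvd_e1 (k : Type*) [Field k] [CharZero k] : ¬ F4 k ∣ esymm (Fin 4) k 1 := by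
  rintro ⟨g, hg⟩
  have := congrArg (MvPolynomial.eval (![2, -1, 0, 0] : Fin 4 → k)) hg
  unfold F4 at this
  rw [esymm_fin4_one, esymm_fin4_three, esymm_fin4_four] at this
  simp at this
  norm_num at this

set_option maxHeartbeats 800000 in
theorem chart (k : Type*) [Field k] [CharZero k] :
    ∃ Q : Ideal (MvPolynomial (Fin 5) k), Q.IsPrime ∧
      Ideal.span ({esymm (Fin 5) k 2, esymm (Fin 5) k 4} : Set (MvPolynomial (Fin 5) k)) ≤ Q ∧
      ∀ f ∈ Q, ∃ N : ℕ, (esymm (Fin 5) k 1 - X 0) ^ N * f ∈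
        Ideal.span ({esymm (Fin 5) k 2, esymm (Fin 5) k 4} : Set (MvPolynomial (Fin 5) k)) := by
  set I : Ideal (MvPolynomial (Fin 5) k) :=
    Ideal.span ({esymm (Fin 5) k 2, esymm (Fin 5) k 4} : Set (MvPolynomial (Fin 5) k)) with hI
  have hσ2 : esymm (Fin 5) k 2 ∈ I := Ideal.subset_span (by simp)
  have hσ4 : esymm (Fin 5) k 4 ∈ I := Ideal.subset_span (by simp)
  -- the domain B = k[z]/(F4)
  have hF0 : F4 k ≠ 0 := (F4_prime k).ne_zero
  haveI hFp : (Ideal.span {F4 k}).IsPrime := (Ideal.span_singleton_prime hF0).mpr (F4_prime k)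
  set B := MvPolynomial (Fin 4) k ⧸ Ideal.span {F4 k} with hB
  set mkB : MvPolynomial (Fin 4) k →ₐ[k] B := Ideal.Quotient.mkₐ k (Ideal.span {F4 k}) with hmkB
  set e1 : B := mkB (esymm (Fin 4) k 1) with he1
  have he1ne : e1 ≠ 0 := by
    intro h
    rw [he1, hmkB, Ideal.Quotient.mkₐ_eq_mk, Ideal.Quotient.eq_zero_iff_mem,
      Ideal.mem_span_singleton] at h
    exact F4_not_dvd_e1 k h
  -- the localization L = B[1/e1]
  set L := Localization.Away e1 with hL
  haveI : IsDomain L := IsLocalization.isDomain_localization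
    (powers_le_nonZeroDivisors_of_noZeroDivisors he1ne)
  set ι : MvPolynomial (Fin 4) k →ₐ[k] L := (IsScalarTower.toAlgHom k B L).comp mkB with hι
  set inv : L := IsLocalization.Away.invSelf e1 with hinv
  have hinv1 : ι (esymm (Fin 4) k 1) * inv = 1 := by
    have := IsLocalization.Away.mul_invSelf (S := L) e1
    exact this
  have hιF : ι (F4 k) = 0 := by
    have : mkB (F4 k) = 0 := by
      rw [hmkB, Ideal.Quotient.mkₐ_eq_mk, Ideal.Quotient.eq_zero_iff_mem]
      exact Ideal.mem_span_singleton_self _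
    rw [hι, AlgHom.comp_apply, this, map_zero]
  have hιaeval : ∀ p, aeval (fun i : Fin 4 => ι (X i)) p = ι p := by
    intro p
    exact (AlgHom.congr_fun (MvPolynomial.aeval_unique ι) p).symm
  set θ₀ : L := -(ι (esymm (Fin 4) k 2)) * inv with hθ₀
  set Θ : MvPolynomial (Fin 5) k →ₐ[k] L := aeval (Fin.cons θ₀ (fun i : Fin 4 => ι (X i))) with hΘ
  have hΘe : ∀ j, Θ (esymm (Fin 5) k (j + 1)) =
      ι (esymm (Fin 4) k (j + 1)) + θ₀ * ι (esymm (Fin 4) k j) := by
    intro j
    rw [hΘ, aeval_esymm_cons, hιaeval, hιaeval]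
  have hΘ2 : Θ (esymm (Fin 5) k 2) = 0 := by
    rw [hΘe 1, hθ₀]
    have : -(ι (esymm (Fin 4) k 2)) * inv * ι (esymm (Fin 4) k 1) =
        -(ι (esymm (Fin 4) k 2)) * (ι (esymm (Fin 4) k 1) * inv) := by ring
    rw [this, hinv1]; ring
  have hΘ4 : Θ (esymm (Fin 5) k 4) = 0 := by
    rw [hΘe 3, hθ₀]
    have : ι (esymm (Fin 4) k 4) + -(ι (esymm (Fin 4) k 2)) * inv * ι (esymm (Fin 4) k 3) =
        inv * ι (F4 k) + (1 - ι (esymm (Fin 4) k 1) * inv) * ι (esymm (Fin 4) k 4) := by
      have hF : ι (F4 k) = ι (esymm (Fin 4) k 1) * ι (esymm (Fin 4) k 4) -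
          ι (esymm (Fin 4) k 2) * ι (esymm (Fin 4) k 3) := by
        have h0 := congrArg ι (F4_def k)
        rw [map_sub, map_mul, map_mul] at h0
        exact h0
      rw [hF]; ring
    rw [this, hιF, hinv1]; ring
  refine ⟨RingHom.ker (Θ : MvPolynomial (Fin 5) k →+* L), RingHom.ker_isPrime _, ?_, ?_⟩
  · rw [hI, Ideal.span_le]
    intro x hx
    simp only [Set.mem_insert_iff, Set.mem_singleton_iff] at hx
    rcases hx with rfl | rfl
    · exact hΘ2
    · exact hΘ4
  · intro f hf
    rw [RingHom.mem_ker] at hf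
    -- the localization L' = (k[y]/I)[1/D₀]
    set mk5 : MvPolynomial (Fin 5) k →ₐ[k] MvPolynomial (Fin 5) k ⧸ I :=
      Ideal.Quotient.mkₐ k I with hmk5
    set d : MvPolynomial (Fin 5) k ⧸ I := mk5 (esymm (Fin 5) k 1 - X 0) with hd
    set L' := Localization.Away d with hL'
    set κ : MvPolynomial (Fin 5) k →ₐ[k] L' :=
      (IsScalarTower.toAlgHom k (MvPolynomial (Fin 5) k ⧸ I) L').comp mk5 with hκ
    have hκI : ∀ x ∈ I, κ x = 0 := by
      intro x hx
      have : mk5 x = 0 := by
        rw [hmk5, Ideal.Quotient.mkₐ_eq_mk, Ideal.Quotient.eq_zero_iff_mem]; exact hx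
      rw [hκ, AlgHom.comp_apply, this, map_zero]
    set γ : MvPolynomial (Fin 4) k →ₐ[k] MvPolynomial (Fin 5) k :=
      aeval (fun i : Fin 4 => (X i.succ : MvPolynomial (Fin 5) k)) with hγ
    have hD : esymm (Fin 5) k 1 - X 0 = eTail k 1 := by
      rw [esymm5_succ k 0, eTail_zero]; ring
    have hγe : ∀ j, γ (esymm (Fin 4) k j) = eTail k j := fun j => rfl
    have hκγF : (κ.comp γ) (F4 k) = 0 := by
      rw [AlgHom.comp_apply, hγ, eTail_F4, map_sub, map_mul, map_mul, hκI _ hσ2, hκI _ hσ4]
      ring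
    have hlift : ∀ a ∈ Ideal.span {F4 k}, (κ.comp γ) a = 0 := by
      intro a ha
      obtain ⟨c, rfl⟩ := Ideal.mem_span_singleton.mp ha
      rw [map_mul, hκγF, zero_mul]
    set Ξ₀ : B →ₐ[k] L' := Ideal.Quotient.liftₐ (Ideal.span {F4 k}) (κ.comp γ) hlift with hΞ₀
    have hΞ₀mk : ∀ p, Ξ₀ (mkB p) = κ (γ p) := by
      intro p
      have := AlgHom.congr_fun (Ideal.Quotient.liftₐ_comp (Ideal.span {F4 k}) (κ.comp γ) hlift) p
      exact this
    have hκD : κ (esymm (Fin 5) k 1 - X 0) =
        algebraMap (MvPolynomial (Fin 5) k ⧸ I) L' d := rfl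
    have hunit : IsUnit ((Ξ₀ : B →+* L') e1) := by
      show IsUnit (Ξ₀ e1)
      rw [he1, hΞ₀mk, hγe, ← hD, hκD]
      exact IsLocalization.Away.algebraMap_isUnit d
    set Ξ : L →+* L' := IsLocalization.Away.lift e1 (g := (Ξ₀ : B →+* L')) hunit with hΞ
    have hΞalg : ∀ b : B, Ξ (algebraMap B L b) = Ξ₀ b := by
      intro b
      exact IsLocalization.Away.lift_eq e1 hunit b
    have hΞι : ∀ p, Ξ (ι p) = κ (γ p) := by
      intro p
      have : ι p = algebraMap B L (mkB p) := rfl
      rw [this, hΞalg, hΞ₀mk]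
    have hΞinv : Ξ inv * κ (eTail k 1) = 1 := by
      have h1 := congrArg Ξ hinv1
      rw [map_mul, map_one, hΞι, hγe] at h1
      rw [mul_comm]; exact h1
    have hu1 : IsUnit (κ (eTail k 1)) := by
      rw [← hD, hκD]; exact IsLocalization.Away.algebraMap_isUnit d
    have hΞΘ : (Ξ.comp (Θ : MvPolynomial (Fin 5) k →+* L)) = (κ : MvPolynomial (Fin 5) k →+* L') := by
      refine MvPolynomial.ringHom_ext (fun r => ?_) (fun i => ?_)
      · simp only [RingHom.comp_apply, RingHom.coe_coe, MvPolynomial.algHom_C]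
        have : algebraMap k L r = algebraMap B L (algebraMap k B r) :=
          IsScalarTower.algebraMap_apply k B L r
        rw [this, hΞalg, AlgHom.commutes]
      · simp only [RingHom.comp_apply, RingHom.coe_coe]
        refine Fin.cases ?_ (fun i => ?_) i
        · have h1 : Θ (X 0) = θ₀ := by rw [hΘ, aeval_X, Fin.cons_zero]
          rw [h1, hθ₀, map_mul, map_neg, hΞι, hγe]
          refine hu1.mul_right_cancel ?_
          rw [mul_assoc, hΞinv, mul_one, ← map_mul]
          have h2 : (X 0 : MvPolynomial (Fin 5) k) * eTail k 1 = esymm (Fin 5) k 2 - eTail k 2 := by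
            rw [esymm5_succ k 1]; ring
          rw [h2, map_sub, hκI _ hσ2, zero_sub]
        · have h1 : Θ (X i.succ) = ι (X i) := by rw [hΘ, aeval_X, Fin.cons_succ]
          rw [h1, hΞι, hγ, aeval_X]
    have hκf : κ f = 0 := by
      have := RingHom.congr_fun hΞΘ f
      simp only [RingHom.comp_apply, RingHom.coe_coe] at this
      have hf' : Θ f = 0 := hf
      rw [← this, hf', map_zero]
    have hκf' : algebraMap (MvPolynomial (Fin 5) k ⧸ I) L' (mk5 f) = 0 := hκf
    rw [IsLocalization.map_eq_zero_iff (Submonoid.powers d) L'] at hκf'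
    obtain ⟨⟨m, N, rfl⟩, hm⟩ := hκf'
    refine ⟨N, ?_⟩
    simp only at hm
    rw [hd, ← map_pow, ← map_mul, hmk5, Ideal.Quotient.mkₐ_eq_mk,
      Ideal.Quotient.eq_zero_iff_mem] at hm
    exact hm

theorem esymm_fin4_two (k : Type*) [CommRing k] :
    esymm (Fin 4) k 2 = X 0 * X 1 + X 0 * X 2 + X 0 * X 3 + X 1 * X 2 + X 1 * X 3 + X 2 * X 3 := by
  rw [MvPolynomial.esymm]
  have : (Finset.univ : Finset (Fin 4)).powersetCard 2 =
      {{0,1},{0,2},{0,3},{1,2},{1,3},{2,3}} := by decide
  rw [this]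
  rw [Finset.sum_insert (by decide), Finset.sum_insert (by decide), Finset.sum_insert (by decide),
    Finset.sum_insert (by decide), Finset.sum_insert (by decide), Finset.sum_singleton]
  rw [Finset.prod_insert (by decide), Finset.prod_insert (by decide), Finset.prod_insert (by decide),
    Finset.prod_insert (by decide), Finset.prod_insert (by decide), Finset.prod_insert (by decide)]
  simp
  ring

/-- the base point `(2,2,-1,0,0)` -/
def pt0 (k : Type*) [Field k] : Fin 5 → k := Fin.cons 2 (![2, -1, 0, 0] : Fin 4 → k)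

theorem pt0_esymm (k : Type*) [Field k] :
    aeval (pt0 k) (esymm (Fin 5) k 1) = 3 ∧ aeval (pt0 k) (esymm (Fin 5) k 2) = 0 ∧
      aeval (pt0 k) (esymm (Fin 5) k 4) = 0 := by
  have h1 : aeval (![2, -1, 0, 0] : Fin 4 → k) (esymm (Fin 4) k 1) = 1 := by
    rw [esymm_fin4_one]; simp; norm_num
  have h2 : aeval (![2, -1, 0, 0] : Fin 4 → k) (esymm (Fin 4) k 2) = -2 := by
    rw [esymm_fin4_two]; simp
  have h3 : aeval (![2, -1, 0, 0] : Fin 4 → k) (esymm (Fin 4) k 3) = 0 := by
    rw [esymm_fin4_three]; simp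
  have h4 : aeval (![2, -1, 0, 0] : Fin 4 → k) (esymm (Fin 4) k 4) = 0 := by
    rw [esymm_fin4_four]; simp
  unfold pt0
  refine ⟨?_, ?_, ?_⟩
  · rw [aeval_esymm_cons, h1, aeval_esymm_cons_zero]; norm_num
  · rw [aeval_esymm_cons, h2, h1]; norm_num
  · rw [aeval_esymm_cons, h4, h3]; norm_num

theorem pt0_D (k : Type*) [Field k] [CharZero k] (j : Fin 5) :
    aeval (pt0 k) (esymm (Fin 5) k 1 - X j) ≠ 0 := by
  rw [map_sub, (pt0_esymm k).1, aeval_X]
  unfold pt0
  fin_cases j <;> simp <;> norm_num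

theorem mem_zeroLocus_aux (k : Type*) [Field k] (x : Fin 5 → k)
    (h2 : aeval x (esymm (Fin 5) k 2) = 0) (h4 : aeval x (esymm (Fin 5) k 4) = 0) :
    x ∈ zeroLocus k (Ideal.span ({esymm (Fin 5) k 2, esymm (Fin 5) k 4} :
      Set (MvPolynomial (Fin 5) k))) := by
  rw [mem_zeroLocus_iff]
  have : Ideal.span ({esymm (Fin 5) k 2, esymm (Fin 5) k 4} : Set (MvPolynomial (Fin 5) k)) ≤
      RingHom.ker (aeval x : MvPolynomial (Fin 5) k →ₐ[k] k) := by
    rw [Ideal.span_le]
    intro p hp
    simp only [Set.mem_insert_iff, Set.mem_singleton_iff] at hp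
    rcases hp with rfl | rfl
    · exact h2
    · exact h4
  intro p hp
  exact this hp

theorem aeval_smul_esymm (k : Type*) [Field k] (t : k) (x : Fin 5 → k) (m : ℕ) :
    aeval (t • x) (esymm (Fin 5) k m) = t ^ m * aeval x (esymm (Fin 5) k m) := by
  rw [aeval_esymm_eq_multiset_esymm, aeval_esymm_eq_multiset_esymm, ← smul_eq_mul,
    Multiset.pow_smul_esymm, Multiset.map_map]
  rfl

set_option maxHeartbeats 800000 in
theorem main_aux (k : Type*) [Field k] [IsAlgClosed k] [CharZero k] :
    (Ideal.span ({esymm (Fin 5) k 2, esymm (Fin 5) k 4} :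
      Set (MvPolynomial (Fin 5) k))).radical.IsPrime := by
  obtain ⟨Q, hQp, hIQ, hQ⟩ := chart k
  set I : Ideal (MvPolynomial (Fin 5) k) :=
    Ideal.span ({esymm (Fin 5) k 2, esymm (Fin 5) k 4} : Set (MvPolynomial (Fin 5) k)) with hI
  have hp0 : pt0 k ∈ zeroLocus k I :=
    mem_zeroLocus_aux k _ (pt0_esymm k).2.1 (pt0_esymm k).2.2
  -- symmetry: charts at every index
  have hcharts : ∀ j : Fin 5, ∀ f ∈ Q, ∃ N : ℕ, (esymm (Fin 5) k 1 - X j) ^ N * f ∈ I := by
    intro j f hf
    set τ : Equiv.Perm (Fin 5) := Equiv.swap 0 j with hτ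
    set ρ : MvPolynomial (Fin 5) k →ₐ[k] MvPolynomial (Fin 5) k := rename τ with hρ
    have hρe : ∀ m, ρ (esymm (Fin 5) k m) = esymm (Fin 5) k m := fun m => rename_esymm _ _ m τ
    have hρρ : ∀ p, ρ (ρ p) = p := by
      intro p
      rw [hρ, rename_rename]
      have : (τ : Fin 5 → Fin 5) ∘ τ = id := by
        funext i; simp [hτ]
      rw [this, rename_id_apply]
    have hρI : ∀ x ∈ I, ρ x ∈ I := by
      have : I ≤ Ideal.comap (ρ : MvPolynomial (Fin 5) k →+* MvPolynomial (Fin 5) k) I := by
        rw [hI, Ideal.span_le]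
        intro p hp
        simp only [Set.mem_insert_iff, Set.mem_singleton_iff] at hp
        rcases hp with rfl | rfl
        · rw [SetLike.mem_coe, Ideal.mem_comap]
          show ρ _ ∈ _
          rw [hρe]; exact Ideal.subset_span (by simp)
        · rw [SetLike.mem_coe, Ideal.mem_comap]
          show ρ _ ∈ _
          rw [hρe]; exact Ideal.subset_span (by simp)
      intro x hx
      exact this hx
    have hρD0 : ρ (esymm (Fin 5) k 1 - X 0) = esymm (Fin 5) k 1 - X j := by
      rw [map_sub, hρe, hρ, rename_X, hτ, Equiv.swap_apply_left]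
    have hρDj : ρ (esymm (Fin 5) k 1 - X j) = esymm (Fin 5) k 1 - X 0 := by
      rw [map_sub, hρe, hρ, rename_X, hτ, Equiv.swap_apply_right]
    -- the transported prime
    set Qj : Ideal (MvPolynomial (Fin 5) k) :=
      Ideal.comap (ρ : MvPolynomial (Fin 5) k →+* MvPolynomial (Fin 5) k) Q with hQj
    haveI : Qj.IsPrime := Ideal.comap_isPrime _ Q
    have hIQj : I ≤ Qj := fun x hx => hIQ (hρI x hx)
    have hQjN : ∀ g ∈ Qj, ∃ N : ℕ, (esymm (Fin 5) k 1 - X j) ^ N * g ∈ I := by
      intro g hg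
      obtain ⟨N, hN⟩ := hQ (ρ g) hg
      refine ⟨N, ?_⟩
      have := hρI _ hN
      rw [map_mul, map_pow, hρD0, hρρ] at this
      exact this
    obtain ⟨N, hN⟩ := hQ f hf
    have h1 : (esymm (Fin 5) k 1 - X 0) ^ N * f ∈ Qj := hIQj hN
    rcases Ideal.IsPrime.mem_or_mem ‹Qj.IsPrime› h1 with h | h
    · exfalso
      have h2 := Ideal.IsPrime.mem_of_pow_mem ‹Qj.IsPrime› _ h
      obtain ⟨M, hM⟩ := hQjN _ h2
      have h3 := hp0 _ hM
      rw [map_mul, map_pow] at h3
      rcases mul_eq_zero.mp h3 with h4 | h4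
      · exact pow_ne_zero M (pt0_D k j) h4
      · exact pt0_D k 0 h4
    · exact hQjN f h
  have hrad : I.radical = Q := by
    refine le_antisymm ((Ideal.IsPrime.radical_le_iff hQp).mpr hIQ) ?_
    intro f hf
    rw [← vanishingIdeal_zeroLocus_eq_radical (K := k), mem_vanishingIdeal_iff]
    -- nonzero points
    have hnz : ∀ x ∈ zeroLocus k I, x ≠ 0 → aeval x f = 0 := by
      intro x hx hx0
      have hex : ∃ j, aeval x (esymm (Fin 5) k 1 - X j) ≠ 0 := by
        by_contra hall
        push Not at hall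
        apply hx0
        have hxj : ∀ j, x j = aeval x (esymm (Fin 5) k 1) := by
          intro j
          have := hall j
          rw [map_sub, aeval_X, sub_eq_zero] at this
          exact this.symm
        have hs : aeval x (esymm (Fin 5) k 1) = ∑ j, x j := by
          rw [esymm_one, map_sum]
          simp
        have hs0 : aeval x (esymm (Fin 5) k 1) = 0 := by
          have h5 : aeval x (esymm (Fin 5) k 1) = 5 * aeval x (esymm (Fin 5) k 1) := by
            conv_lhs => rw [hs]
            rw [Finset.sum_congr rfl (fun j _ => hxj j)]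
            simp
          have h4 : (4 : k) * aeval x (esymm (Fin 5) k 1) = 0 := by linear_combination -h5
          rcases mul_eq_zero.mp h4 with h | h
          · norm_num at h
          · exact h
        funext j
        rw [hxj j, hs0]
        rfl
      obtain ⟨j, hj⟩ := hex
      obtain ⟨N, hN⟩ := hcharts j f hf
      have := hx _ hN
      rw [map_mul, map_pow] at this
      exact (mul_eq_zero.mp this).resolve_left (pow_ne_zero N hj)
    intro x hx
    by_cases hx0 : x = 0
    · subst hx0
      -- cone argument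
      set g : Polynomial k :=
        aeval (fun i : Fin 5 => Polynomial.C (pt0 k i) * Polynomial.X) f with hg
      have hgt : ∀ t : k, Polynomial.eval t g = aeval (t • pt0 k) f := by
        intro t
        have h1 := AlgHom.congr_fun (comp_aeval (R := k)
          (f := fun i : Fin 5 => Polynomial.C (pt0 k i) * Polynomial.X)
          (Polynomial.aeval t : Polynomial k →ₐ[k] k)) f
        rw [AlgHom.comp_apply] at h1
        rw [hg, ← Polynomial.coe_aeval_eq_eval, h1]
        congr 2
        funext i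
        rw [map_mul, Polynomial.aeval_C, Polynomial.aeval_X, Pi.smul_apply, smul_eq_mul, mul_comm]
        rfl
      have hroot : ∀ t : k, t ≠ 0 → Polynomial.IsRoot g t := by
        intro t ht
        rw [Polynomial.IsRoot, hgt]
        refine hnz _ ?_ ?_
        · refine mem_zeroLocus_aux k _ ?_ ?_
          · rw [aeval_smul_esymm, (pt0_esymm k).2.1, mul_zero]
          · rw [aeval_smul_esymm, (pt0_esymm k).2.2, mul_zero]
        · intro h
          have := congrFun h 0
          simp [pt0] at this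
          exact ht this
      have hg0 : g = 0 := by
        refine Polynomial.eq_zero_of_infinite_isRoot g ?_
        refine Set.Infinite.mono (s := ({0} : Set k)ᶜ) ?_ (Set.finite_singleton 0).infinite_compl
        intro t ht
        exact hroot t ht
      have := hgt 0
      rw [hg0, Polynomial.eval_zero, zero_smul] at this
      exact this.symm
    · exact hnz x hx hx0
  rw [hrad]
  exact hQp

end

/-- Over an algebraically closed field k of characteristic zero, the closed subscheme V(σ₂, σ₄) of A^5_k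
cut out by the elementary symmetric polynomials of degrees 2 and 4 in five variables — the affine
cone over the surface H = V_+(σ₂, σ₄) ⊂ P^4_k — is irreducible: the radical of the ideal (σ₂, σ₄) of
k[X_0, …, X_4] is a prime ideal. -/
theorem result (k : Type u) [Field k] [IsAlgClosed k] [CharZero k] :
    (Ideal.span ({MvPolynomial.esymm (Fin 5) k 2, MvPolynomial.esymm (Fin 5) k 4} :
      Set (MvPolynomial (Fin 5) k))).radical.IsPrime := by
  exact main_aux k

end Groth.Agent.S12437
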