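import Groth.Statements.S12439
import Groth.Agent.Lib.RefinedNN57e
-- import your own Groth.Agent.* helpers here

set_option autoImplicit false
universe u
open Variety

namespace Groth.Agent.S12439

section
open Groth.Agent.Lib.RefinedNN57 MvPolynomial

/-- part (1): refined Noether normalization adapted to a chain of primes -/
theorem part1 (k A : Type u) [Field k]
    [CommRing A] [IsDomain A] [Algebra k A] [Algebra.FiniteType k A] (d : ℕ)
    (hd : ringKrullDim A = (d : WithBot ℕ∞))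
    (r : ℕ) (q : Fin r → PrimeSpectrum A) (hq : Monotone q) (h : Fin r → ℕ) (hh : ∀ i, h i ≤ d)
    (hdim : ∀ i, ringKrullDim (A ⧸ (q i).asIdeal) = ((d - h i : ℕ) : WithBot ℕ∞)) :
    ∃ φ : MvPolynomial (Fin d) k →ₐ[k] A, φ.toRingHom.Finite ∧ Function.Injective φ ∧
      ∀ i, (q i).asIdeal.comap φ = I k d (h i) := by
  obtain ⟨s, ψ, hψinj, hψfin⟩ := exists_finite_inj_algHom_of_fg k A
  have hψint : ψ.toRingHom.IsIntegral := RingHom.Finite.to_isIntegral hψfin
  have hsd : s = d := by
    have h1 : ringKrullDim (MvPolynomial (Fin s) k) = ringKrullDim A := by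
      letI := ψ.toRingHom.toAlgebra
      have : Algebra.IsIntegral (MvPolynomial (Fin s) k) A := ⟨hψint⟩
      exact Groth.Agent.Lib.FTDim.ringKrullDim_eq_of_isIntegral_of_injective hψinj
    rw [dimP, hd] at h1
    exact_mod_cast h1
  subst hsd
  obtain ⟨θ, hθint, hθinj, hθc⟩ := exists_adapted_poly k s r
    (fun i => (q i).asIdeal.comap ψ) (fun i => Ideal.comap_isPrime ψ _)
    (fun a b hab => Ideal.comap_mono (hq hab)) h hh (fun i => by
      rw [← hdim i]
      exact ringKrullDim_quotient_comap_of_isIntegral ψ.toRingHom hψint (q i).asIdeal)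
  refine ⟨ψ.comp θ, ?_, hψinj.comp hθinj, fun i => ?_⟩
  · exact RingHom.Finite.comp hψfin (finite_of_isIntegral k θ hθint)
  · rw [comap_algHom_comp]
    exact hθc i

/-- part (2): extension of the chain -/
theorem part2 (k A : Type u) [Field k]
    [CommRing A] [IsDomain A] [Algebra k A] (d : ℕ)
    (r : ℕ) (q : Fin r → PrimeSpectrum A) (hq : Monotone q) (h : Fin r → ℕ) (hh : ∀ i, h i ≤ d)
    (φ : MvPolynomial (Fin d) k →ₐ[k] A) (hfin : φ.toRingHom.Finite) (hinj : Function.Injective φ)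
    (hc : ∀ i, (q i).asIdeal.comap φ = I k d (h i)) :
    ∃ Q : ℕ → PrimeSpectrum A,
      (∀ j, j ≤ d → (Q j).asIdeal.comap φ = I k d j) ∧
      (∀ j, j < d → Q j < Q (j + 1)) ∧ (∀ i, Q (h i) = q i) := by
  letI := φ.toRingHom.toAlgebra
  have hint : Algebra.IsIntegral (MvPolynomial (Fin d) k) A := ⟨RingHom.Finite.to_isIntegral hfin⟩
  obtain ⟨Q, hQ1, hQ2, hQ3⟩ := exists_chain_abstract (R := MvPolynomial (Fin d) k) (A := A) hinj d
    (fun j => I k d j) (fun j => I_isPrime k d j) (fun a b hab => I_mono k d hab)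
    (fun j hj => (I_lt k d hj).ne) (I_zero k d) (fun a => isIntegrallyClosed_quot k _) r q hq h hc
  exact ⟨Q, hQ1, hQ2, fun i => hQ3 i (hh i)⟩

end

/-- Let k be a field, A an integral domain which is a finitely generated k-algebra of Krull dimension d,
and q_{h(1)} ⊊ … ⊊ q_{h(r)} a chain of prime ideals with dim A/q_{h(i)} = d − h(i), where 0 ≤ h(i) ≤
d. Then (1) there is a finite injective k-algebra homomorphism φ : k[T_1, …, T_d] → A with
φ⁻¹(q_{h(i)}) = (T_1, …, T_{h(i)}) for every i (variables indexed from 0 below: the ideal generated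
by the T_l with l < h(i)); and (2) for every such φ the given chain extends to a chain of primes q_0
⊊ … ⊊ q_d of A with φ⁻¹(q_j) = (T_1, …, T_j) for all j ≤ d. -/
theorem result (k A : Type u) [Field k]
    [CommRing A] [IsDomain A] [Algebra k A] [Algebra.FiniteType k A] (d : ℕ) (hd : ringKrullDim A = (d : WithBot ℕ∞))
    (r : ℕ) (q : Fin r → PrimeSpectrum A) (hq : StrictMono q) (h : Fin r → ℕ) (hh : ∀ i, h i ≤ d)
    (hdim : ∀ i, ringKrullDim (A ⧸ (q i).asIdeal) = ((d - h i : ℕ) : WithBot ℕ∞)) :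
    (∃ φ : MvPolynomial (Fin d) k →ₐ[k] A, φ.toRingHom.Finite ∧ Function.Injective φ ∧
      ∀ i, (q i).asIdeal.comap φ = Ideal.span (MvPolynomial.X '' {l : Fin d | (l : ℕ) < h i})) ∧
    (∀ φ : MvPolynomial (Fin d) k →ₐ[k] A, φ.toRingHom.Finite → Function.Injective φ →
      (∀ i, (q i).asIdeal.comap φ = Ideal.span (MvPolynomial.X '' {l : Fin d | (l : ℕ) < h i})) →
      ∃ Q : ℕ → PrimeSpectrum A,
        (∀ j, j ≤ d → (Q j).asIdeal.comap φ = Ideal.span (MvPolynomial.X '' {l : Fin d | (l : ℕ) < j})) ∧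
        (∀ j, j < d → Q j < Q (j + 1)) ∧ (∀ i, Q (h i) = q i)) := by
  refine ⟨part1 k A d hd r q hq.monotone h hh hdim, fun φ hfin hinj hc => ?_⟩
  exact part2 k A d r q hq.monotone h hh φ hfin hinj hc

end Groth.Agent.S12439
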