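import Groth.Statements.S1244
import Mathlib.AlgebraicGeometry.ZariskisMainTheorem

set_option autoImplicit false
universe u
open FlatMor

namespace Groth.Agent.S1244

section ring

variable {A : Type u} [CommRing A] {A' : ℕ → Type u} [∀ n, CommRing (A' n)]
  {φ : ∀ n, A' (n + 1) →+* A' n} {π : ∀ n, A →+* A' n}

lemma isUnit_of_map_of_nil {R S : Type*} [CommRing R] [CommRing S] (ψ : R →+* S)
    (hs : Function.Surjective ψ) (hn : ∀ x ∈ RingHom.ker ψ, IsNilpotent x) (r : R)
    (hr : IsUnit (ψ r)) : IsUnit r := by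
  obtain ⟨v, hv⟩ := hs (hr.unit⁻¹ : Sˣ)
  have h1 : ψ (r * v - 1) = 0 := by
    rw [map_sub, map_mul, hv, map_one, IsUnit.mul_val_inv, sub_self]
  have h2 : IsNilpotent (r * v - 1) := hn _ h1
  have h3 : IsUnit (r * v) := by
    have := h2.isUnit_add_one
    rwa [sub_add_cancel] at this
  exact isUnit_of_mul_isUnit_left h3

include φ in
/-- An element of the limit which maps to a unit of `A' 0` is a unit. -/
lemma isUnit_of_isUnit_pi_zero (hlim : FlatCA.IsRingLimit A A' φ π)
    (hsurj : ∀ n, Function.Surjective (φ n)) (hnil : ∀ n, ∀ x ∈ RingHom.ker (φ n), IsNilpotent x)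
    (j : A) (hj : IsUnit (π 0 j)) : IsUnit j := by
  obtain ⟨hcomp, hinj, hex⟩ := hlim
  have hu : ∀ n, IsUnit (π n j) := by
    intro n
    induction n with
    | zero => exact hj
    | succ n ih =>
      refine isUnit_of_map_of_nil (φ n) (hsurj n) (hnil n) _ ?_
      have := congrArg (fun ψ => ψ j) (hcomp n)
      simp only [RingHom.comp_apply] at this
      rwa [this]
  obtain ⟨y, hy⟩ := hex (fun n => ((hu n).unit⁻¹ : (A' n)ˣ)) (by
    intro n
    have h1 : φ n (π (n + 1) j) = π n j := by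
      have := congrArg (fun ψ => ψ j) (hcomp n)
      simpa only [RingHom.comp_apply] using this
    have h2 : φ n ((hu (n + 1)).unit⁻¹ : (A' (n + 1))ˣ) * π n j = 1 := by
      rw [← h1, ← map_mul, IsUnit.val_inv_mul, map_one]
    have h3 : ((hu n).unit⁻¹ : (A' n)ˣ) * π n j = (1 : A' n) := IsUnit.val_inv_mul (hu n)
    calc φ n ((hu (n + 1)).unit⁻¹ : (A' (n + 1))ˣ)
        = φ n ((hu (n + 1)).unit⁻¹ : (A' (n + 1))ˣ) * (π n j * ((hu n).unit⁻¹ : (A' n)ˣ)) := by
          rw [IsUnit.mul_val_inv, mul_one]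
      _ = ((hu n).unit⁻¹ : (A' n)ˣ) := by rw [← mul_assoc, h2, one_mul])
  refine IsUnit.of_mul_eq_one y (hinj _ _ fun n => ?_)
  rw [map_mul, hy, map_one, IsUnit.mul_val_inv]

include φ in
lemma surjective_pi (hlim : FlatCA.IsRingLimit A A' φ π)
    (hsurj : ∀ n, Function.Surjective (φ n)) : Function.Surjective (π 0) := by
  obtain ⟨hcomp, hinj, hex⟩ := hlim
  intro a0
  -- build a compatible sequence
  let step : ∀ n, A' n → A' (n + 1) := fun n a => (hsurj n a).choose
  have hstep : ∀ n a, φ n (step n a) = a := fun n a => (hsurj n a).choose_spec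
  let x : ∀ n, A' n := fun n => Nat.rec a0 (fun n a => step n a) n
  obtain ⟨a, ha⟩ := hex x (fun n => hstep n (x n))
  exact ⟨a, ha 0⟩

include φ in
/-- Compatible ring maps into the `A' n` from an `A`-algebra give a retraction. -/
lemma exists_retraction (hlim : FlatCA.IsRingLimit A A' φ π) {C : Type u} [CommRing C]
    (ι : A →+* C) (ρ : ∀ n, C →+* A' n) (hρ : ∀ n, (φ n).comp (ρ (n + 1)) = ρ n)
    (hρι : ∀ n, (ρ n).comp ι = π n) :
    ∃ r : C →+* A, (∀ n, (π n).comp r = ρ n) ∧ r.comp ι = RingHom.id A := by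
  obtain ⟨hcomp, hinj, hex⟩ := hlim
  have hc : ∀ c : C, ∃ a : A, ∀ n, π n a = ρ n c := fun c =>
    hex (fun n => ρ n c) (fun n => by
      have := congrArg (fun ψ => ψ c) (hρ n); simpa only [RingHom.comp_apply] using this)
  choose r hr using hc
  let R : C →+* A :=
    { toFun := r
      map_one' := hinj _ _ fun n => by rw [hr, map_one, map_one]
      map_mul' := fun x y => hinj _ _ fun n => by rw [hr, map_mul, map_mul, hr, hr]
      map_zero' := hinj _ _ fun n => by rw [hr, map_zero, map_zero]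
      map_add' := fun x y => hinj _ _ fun n => by rw [hr, map_add, map_add, hr, hr] }
  refine ⟨R, fun n => RingHom.ext fun c => hr c n, RingHom.ext fun a => hinj _ _ fun n => ?_⟩
  change π n (r (ι a)) = π n a
  rw [hr]
  have := congrArg (fun ψ => ψ a) (hρι n)
  simpa only [RingHom.comp_apply] using this

end ring

section geom
open AlgebraicGeometry CategoryTheory

variable {A : Type u} [CommRing A] {A' : ℕ → Type u} [∀ n, CommRing (A' n)]
  {φ : ∀ n, A' (n + 1) →+* A' n} {π : ∀ n, A →+* A' n}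

lemma surjective_SpecMap_of_nil {R S : Type u} [CommRing R] [CommRing S] (ψ : R →+* S)
    (hs : Function.Surjective ψ) (hn : ∀ x ∈ RingHom.ker ψ, IsNilpotent x) :
    Function.Surjective (Spec.map (CommRingCat.ofHom ψ)) := by
  intro (p : PrimeSpectrum R)
  have := p.isPrime
  have hker : RingHom.ker ψ ≤ p.asIdeal := fun x hx => by
    obtain ⟨k, hk⟩ := hn x hx
    exact p.isPrime.mem_of_pow_mem k (hk ▸ p.asIdeal.zero_mem)
  have hp : (p.asIdeal.map ψ).IsPrime := Ideal.map_isPrime_of_surjective hs hker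
  refine ⟨(⟨p.asIdeal.map ψ, hp⟩ : PrimeSpectrum S), ?_⟩
  apply PrimeSpectrum.ext
  change (p.asIdeal.map ψ).comap ψ = p.asIdeal
  rw [Ideal.comap_map_of_surjective ψ hs, sup_eq_left]
  exact hker

include φ in
/-- An open subset of `Spec A` containing the image of `Spec (A' 0)` is everything. -/
lemma eq_univ_of_range_comap_subset (hlim : FlatCA.IsRingLimit A A' φ π)
    (hsurj : ∀ n, Function.Surjective (φ n)) (hnil : ∀ n, ∀ x ∈ RingHom.ker (φ n), IsNilpotent x)
    (O : Set (PrimeSpectrum A)) (hOo : IsOpen O)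
    (hO : Set.range (PrimeSpectrum.comap (π 0)) ⊆ O) : O = Set.univ := by
  have hcl : IsClosed Oᶜ := hOo.isClosed_compl
  obtain ⟨J, hJ⟩ := (PrimeSpectrum.isClosed_iff_zeroLocus_ideal _).mp hcl
  have hmap : J.map (π 0) = ⊤ := by
    by_contra hne
    obtain ⟨m, hm, hle⟩ := Ideal.exists_le_maximal _ hne
    let q : PrimeSpectrum (A' 0) := ⟨m, hm.isPrime⟩
    have h1 : PrimeSpectrum.comap (π 0) q ∈ O := hO ⟨q, rfl⟩
    have h2 : PrimeSpectrum.comap (π 0) q ∈ PrimeSpectrum.zeroLocus (J : Set A) := by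
      rw [PrimeSpectrum.mem_zeroLocus]
      intro x hx
      change π 0 x ∈ m
      exact hle (Ideal.mem_map_of_mem _ hx)
    rw [← hJ] at h2
    exact h2 h1
  have h1 : (1 : A' 0) ∈ J.map (π 0) := by rw [hmap]; trivial
  obtain ⟨j, hjJ, hj⟩ := (Ideal.mem_map_iff_of_surjective (π 0) (surjective_pi hlim hsurj)).mp h1
  have hju : IsUnit j := isUnit_of_isUnit_pi_zero hlim hsurj hnil j (hj ▸ isUnit_one)
  have hJtop : J = ⊤ := Ideal.eq_top_of_isUnit_mem _ hjJ hju
  rw [hJtop] at hJ
  simpa using hJ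

include φ in
lemma opens_eq_top (hlim : FlatCA.IsRingLimit A A' φ π)
    (hsurj : ∀ n, Function.Surjective (φ n)) (hnil : ∀ n, ∀ x ∈ RingHom.ker (φ n), IsNilpotent x)
    (O : (Spec (CommRingCat.of A)).Opens)
    (hO : Set.range (Spec.map (CommRingCat.ofHom (π 0))) ⊆ (O : Set (Spec (CommRingCat.of A)))) :
    O = ⊤ := by
  have := eq_univ_of_range_comap_subset hlim hsurj hnil (O : Set (Spec (CommRingCat.of A)))
    O.isOpen (by rintro _ ⟨q, rfl⟩; exact hO ⟨q, rfl⟩)
  exact TopologicalSpace.Opens.ext this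

/-- A compact subset of a scheme is contained in a quasi-compact open. -/
lemma exists_isCompact_opens_of_isCompact {T : Scheme.{u}} (K : Set T) (hK : IsCompact K) :
    ∃ W : T.Opens, K ⊆ W ∧ IsCompact (W : Set T) := by
  have hcov : ∀ t : T, ∃ U : T.Opens, IsAffineOpen U ∧ t ∈ U := fun t => by
    obtain ⟨_, ⟨U, hU, rfl⟩, htU, -⟩ :=
      T.isBasis_affineOpens.exists_subset_of_mem_open (Set.mem_univ t) isOpen_univ
    exact ⟨U, hU, htU⟩
  choose U hU htU using hcov
  obtain ⟨s, hs⟩ := hK.elim_finite_subcover (fun t => (U t : Set T)) (fun t => (U t).isOpen)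
    (fun t _ => Set.mem_iUnion.mpr ⟨t, htU t⟩)
  refine ⟨⨆ t ∈ s, U t, ?_, ?_⟩
  · intro t ht
    obtain ⟨i, hi⟩ := Set.mem_iUnion.mp (hs ht)
    obtain ⟨his, hti⟩ := Set.mem_iUnion.mp hi
    exact TopologicalSpace.Opens.mem_iSup.mpr ⟨i, TopologicalSpace.Opens.mem_iSup.mpr ⟨his, hti⟩⟩
  · have : ((⨆ t ∈ s, U t : T.Opens) : Set T) = ⋃ t ∈ s, (U t : Set T) := by
      simp
    rw [this]
    exact s.isCompact_biUnion fun t _ => (hU t).isCompact

include φ in
theorem main (hlim : FlatCA.IsRingLimit A A' φ π)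
    (hsurj : ∀ n, Function.Surjective (φ n)) (hnil : ∀ n, ∀ x ∈ RingHom.ker (φ n), IsNilpotent x)
    {T : Scheme.{u}} (h : T ⟶ Spec (CommRingCat.of A)) [Mono h] [LocallyOfFiniteType h]
    (hsec : ∀ n, ∃ g : Spec (CommRingCat.of (A' n)) ⟶ T,
      g ≫ h = Spec.map (CommRingCat.ofHom (π n))) :
    IsIso h := by
  have hcomp := hlim.1
  choose g hg using hsec
  -- compatibility of the sections
  have hgc : ∀ n, Spec.map (CommRingCat.ofHom (φ n)) ≫ g (n + 1) = g n := by
    intro n
    rw [← cancel_mono h, Category.assoc, hg, hg, ← Spec.map_comp, ← CommRingCat.ofHom_comp,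
      hcomp n]
  -- all sections have the same image
  have hrange : ∀ n, Set.range (g n) ⊆ Set.range (g 0) := by
    intro n
    induction n with
    | zero => exact subset_rfl
    | succ n ih =>
      refine subset_trans ?_ ih
      rintro _ ⟨p, rfl⟩
      obtain ⟨q, rfl⟩ := surjective_SpecMap_of_nil (φ n) (hsurj n) (hnil n) p
      exact ⟨q, by rw [← hgc n, Scheme.Hom.comp_apply]⟩
  -- a quasi-compact open containing the images
  obtain ⟨W, hW0, hWc⟩ := exists_isCompact_opens_of_isCompact (Set.range (g 0))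
    (isCompact_range (g 0).continuous)
  have : CompactSpace W := isCompact_iff_compactSpace.mp hWc
  let g' : ∀ n, Spec (CommRingCat.of (A' n)) ⟶ W.toScheme := fun n =>
    IsOpenImmersion.lift W.ι (g n) (by
      rw [Scheme.Opens.range_ι]; exact (hrange n).trans hW0)
  have hg' : ∀ n, g' n ≫ W.ι = g n := fun n => IsOpenImmersion.lift_fac _ _ _
  have hg'c : ∀ n, Spec.map (CommRingCat.ofHom (φ n)) ≫ g' (n + 1) = g' n := by
    intro n
    rw [← cancel_mono W.ι, Category.assoc, hg', hg', hgc]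
  let k : W.toScheme ⟶ Spec (CommRingCat.of A) := W.ι ≫ h
  have hk : ∀ n, g' n ≫ k = Spec.map (CommRingCat.ofHom (π n)) := by
    intro n
    rw [← hg n, ← hg' n, Category.assoc]
  have : Mono k := mono_comp _ _
  have : LocallyOfFiniteType k := inferInstance
  have : QuasiCompact k := inferInstance
  have : IsOpenImmersion k.toNormalization := inferInstance
  have : IsAffineHom k.fromNormalization := inferInstance
  have : IsAffine k.normalization := isAffine_of_isAffineHom k.fromNormalization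
  let e : k.normalization ≅ Spec Γ(k.normalization, ⊤) := k.normalization.isoSpec
  -- translate to rings
  obtain ⟨ι, hι⟩ := Spec.map_surjective (e.inv ≫ k.fromNormalization)
  have hρex : ∀ n, ∃ ρ : Γ(k.normalization, ⊤) ⟶ CommRingCat.of (A' n),
      Spec.map ρ = g' n ≫ k.toNormalization ≫ e.hom := fun n => Spec.map_surjective _
  choose ρ hρ using hρex
  have hρc : ∀ n, ρ (n + 1) ≫ CommRingCat.ofHom (φ n) = ρ n := by
    intro n
    apply Spec.map_injective
    rw [Spec.map_comp, hρ, hρ, ← Category.assoc, hg'c]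
  have hρι : ∀ n, ι ≫ ρ n = CommRingCat.ofHom (π n) := by
    intro n
    apply Spec.map_injective
    rw [Spec.map_comp, hρ, hι, Category.assoc, Category.assoc, Iso.hom_inv_id_assoc,
      k.toNormalization_fromNormalization, hk]
  obtain ⟨r, hr1, hr2⟩ := exists_retraction hlim ι.hom (fun n => (ρ n).hom)
    (fun n => by
      have := congrArg CommRingCat.Hom.hom (hρc n)
      simpa using this)
    (fun n => by
      have := congrArg CommRingCat.Hom.hom (hρι n)
      simpa using this)
  let σ' : Spec (CommRingCat.of A) ⟶ k.normalization := Spec.map (CommRingCat.ofHom r) ≫ e.inv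
  have hσ'1 : σ' ≫ k.fromNormalization = 𝟙 _ := by
    dsimp only [σ']
    rw [Category.assoc, ← hι, ← Spec.map_comp]
    have : ι ≫ CommRingCat.ofHom r = 𝟙 _ := by
      ext a
      exact congrArg (fun ψ => ψ a) hr2
    rw [this, Spec.map_id]
  have hσ'2 : Spec.map (CommRingCat.ofHom (π 0)) ≫ σ' = g' 0 ≫ k.toNormalization := by
    dsimp only [σ']
    rw [← Category.assoc, ← Spec.map_comp]
    have : CommRingCat.ofHom r ≫ CommRingCat.ofHom (π 0) = ρ 0 := by
      ext a
      exact congrArg (fun ψ => ψ a) (hr1 0)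
    rw [this, hρ, Category.assoc, Category.assoc, Iso.hom_inv_id, Category.comp_id]
  -- the section lands in `W`
  have hO : σ' ⁻¹ᵁ k.toNormalization.opensRange = ⊤ := by
    refine opens_eq_top hlim hsurj hnil _ ?_
    rintro _ ⟨q, rfl⟩
    change σ' (Spec.map (CommRingCat.ofHom (π 0)) q) ∈ Set.range k.toNormalization
    rw [← Scheme.Hom.comp_apply, hσ'2, Scheme.Hom.comp_apply]
    exact ⟨_, rfl⟩
  have hσ'r : Set.range σ' ⊆ Set.range k.toNormalization := by
    rintro _ ⟨p, rfl⟩
    have : p ∈ σ' ⁻¹ᵁ k.toNormalization.opensRange := by rw [hO]; trivial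
    exact this
  let σ : Spec (CommRingCat.of A) ⟶ W.toScheme := IsOpenImmersion.lift k.toNormalization σ' hσ'r
  have hσ : σ ≫ k.toNormalization = σ' := IsOpenImmersion.lift_fac _ _ _
  have hs : (σ ≫ W.ι) ≫ h = 𝟙 _ := by
    rw [Category.assoc]
    change σ ≫ k = _
    rw [← k.toNormalization_fromNormalization, ← Category.assoc, hσ, hσ'1]
  refine ⟨σ ≫ W.ι, ?_, hs⟩
  rw [← cancel_mono h, Category.assoc, hs, Category.comp_id, Category.id_comp]

end geom


open AlgebraicGeometry CategoryTheory in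
/-- Let A be the limit of an inverse system of rings (A_n) indexed by the natural numbers whose
transition maps are surjective with locally nilpotent kernels. Let T → Spec A be a monomorphism of
schemes which is locally of finite type. If each Spec A_n → Spec A factors through T, then T → Spec
A is an isomorphism. -/
theorem result {A : Type u} [CommRing A] (A' : ℕ → Type u) [∀ n, CommRing (A' n)]
    (φ : ∀ n, A' (n + 1) →+* A' n) (π : ∀ n, A →+* A' n) (hlim : FlatCA.IsRingLimit A A' φ π)
    (hsurj : ∀ n, Function.Surjective (φ n)) (hnil : ∀ n, ∀ x ∈ RingHom.ker (φ n), IsNilpotent x)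
    {T : Scheme.{u}} (h : T ⟶ Spec (CommRingCat.of A)) [Mono h] [LocallyOfFiniteType h]
    (hsec : ∀ n, ∃ g : Spec (CommRingCat.of (A' n)) ⟶ T, g ≫ h = Spec.map (CommRingCat.ofHom (π n))) :
    IsIso h :=
  main hlim hsurj hnil h hsec

end Groth.Agent.S1244
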