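import Groth.Statements.S12443
import Mathlib.Topology.Sheaves.Functors
import Mathlib.CategoryTheory.Monad.Adjunction

set_option autoImplicit false
universe u
open CategoryTheory TopologicalSpace
open ShSp

namespace Groth.Agent.S12443

open TopCat

/-- For an open embedding, `j⁻¹ (j '' V) = V` as a natural isomorphism of functors on opens. -/
noncomputable def functorMapIso {U X : TopCat.{u}} {j : U ⟶ X} (hj : Topology.IsOpenEmbedding j) :
    hj.functor ⋙ Opens.map j ≅ 𝟭 (Opens U) :=
  NatIso.ofComponents (fun V => eqToIso (by
    ext x
    simp only [Functor.comp_obj, Functor.id_obj, Opens.map_coe, IsOpenMap.coe_functor_obj]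
    rw [Set.preimage_image_eq _ hj.injective])) (fun _ => Subsingleton.elim _ _)

set_option backward.isDefEq.respectTransparency false in
/-- The composite of pushforward and naive pullback along an open embedding is the identity. -/
noncomputable def pushforwardSheafPullbackIso {U X : TopCat.{u}} {j : U ⟶ X}
    (hj : Topology.IsOpenEmbedding j) :
    TopCat.Sheaf.pushforward (Type u) j ⋙ hj.sheafPullback (Type u) ≅ 𝟭 (U.Sheaf (Type u)) :=
  NatIso.ofComponents (fun F =>
    (fullyFaithfulSheafToPresheaf _ _).preimageIso
      ((Functor.associator _ _ _).symm ≪≫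
        Functor.isoWhiskerRight (NatIso.op (functorMapIso hj)).symm F.obj ≪≫
          Functor.leftUnitor _)) (by
    intro F G α
    apply (fullyFaithfulSheafToPresheaf _ _).map_injective
    rw [Functor.map_comp, Functor.map_comp]
    simp only [Functor.FullyFaithful.preimageIso_hom]
    ext V x
    simp [Topology.IsOpenEmbedding.sheafPullback, TopCat.Sheaf.pushforward,
      Functor.sheafPushforwardContinuous])

/-- Let j : U → X be the inclusion of an open subset (an open embedding) and F a sheaf of sets on U.
Then the counit j⁻¹ j_* F → F is an isomorphism, i.e. j⁻¹ j_* is the identity on sheaves on U. -/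
theorem result {U X : TopCat.{u}} (j : U ⟶ X) (hj : Topology.IsOpenEmbedding j)
    (F : U.Sheaf (Type u)) :
    IsIso ((TopCat.Sheaf.pullbackPushforwardAdjunction (Type u) j).counit.app F) := by
  have : IsIso (TopCat.Sheaf.pullbackPushforwardAdjunction (Type u) j).counit :=
    (TopCat.Sheaf.pullbackPushforwardAdjunction (Type u) j).isIso_counit_of_iso
      (Functor.isoWhiskerLeft _ (hj.sheafPullbackIso (Type u)) ≪≫ pushforwardSheafPullbackIso hj)
  infer_instance

end Groth.Agent.S12443
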