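import Groth.Statements.S12448
import Mathlib.Algebra.Category.Grp.LeftExactFunctor
import Mathlib.CategoryTheory.Sites.Abelian
import Mathlib.CategoryTheory.Sites.Limits
import Mathlib.Algebra.Category.Grp.AB
import Mathlib.Algebra.Category.Grp.Abelian

set_option autoImplicit false
universe u
open CategoryTheory CategoryTheory.Limits
open CohSite

namespace Groth.Agent.S12448

noncomputable section

variable {C D : Type u} [SmallCategory C] [SmallCategory D]
    (J : GrothendieckTopology C) (K : GrothendieckTopology D) (u : D ⥤ C) [u.IsContinuous K J]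

abbrev UC : Sheaf J AddCommGrpCat.{u} ⥤ Sheaf J (Type u) := sheafCompose J (forget AddCommGrpCat.{u})
abbrev UD : Sheaf K AddCommGrpCat.{u} ⥤ Sheaf K (Type u) := sheafCompose K (forget AddCommGrpCat.{u})
abbrev LS : Sheaf K (Type u) ⥤ Sheaf J (Type u) := u.sheafPullback (Type u) K J
abbrev RS : Sheaf J (Type u) ⥤ Sheaf K (Type u) := u.sheafPushforwardContinuous (Type u) K J
abbrev RA : Sheaf J AddCommGrpCat.{u} ⥤ Sheaf K AddCommGrpCat.{u} :=
  u.sheafPushforwardContinuous AddCommGrpCat.{u} K J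
abbrev LA : Sheaf K AddCommGrpCat.{u} ⥤ Sheaf J AddCommGrpCat.{u} :=
  u.sheafPullback AddCommGrpCat.{u} K J

instance instPresUD : PreservesLimitsOfSize.{u,u} (sheafCompose K (forget AddCommGrpCat.{u})) := by
  have : PreservesLimitsOfSize.{u,u} (sheafCompose K (forget AddCommGrpCat.{u}) ⋙ sheafToPresheaf K (Type u)) :=
    inferInstanceAs (PreservesLimitsOfSize.{u,u} (sheafToPresheaf K AddCommGrpCat.{u} ⋙ (Functor.whiskeringRight Dᵒᵖ _ _).obj (forget AddCommGrpCat.{u})))
  exact preservesLimits_of_reflects_of_preserves _ (sheafToPresheaf K (Type u))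

instance instBiprod : HasFiniteBiproducts (Sheaf K AddCommGrpCat.{u}) := Abelian.hasFiniteBiproducts

/-- `Φ A = ` underlying presheaf of `L_Set (U_D A)`. -/
abbrev Φ : Sheaf K AddCommGrpCat.{u} ⥤ (Cᵒᵖ ⥤ Type u) :=
  UD K ⋙ LS J K u ⋙ sheafToPresheaf J (Type u)

variable [hu : PreservesFiniteLimits (u.sheafPullback (Type u) K J)]

instance (c : Cᵒᵖ) : PreservesFiniteLimits ((Φ J K u).flip.obj c) := by
  have : (Φ J K u).flip.obj c = UD K ⋙ LS J K u ⋙ sheafToPresheaf J (Type u) ⋙ (evaluation _ _).obj c := rfl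
  rw [this]
  infer_instance

/-- the left exact functors `A ↦ (L_Set U_D A)(c)`. -/
def Ψ : Cᵒᵖ ⥤ (Sheaf K AddCommGrpCat.{u} ⥤ₗ Type u) :=
  ObjectProperty.lift _ (Φ J K u).flip (fun c => by
    rw [leftExactFunctor_iff]; infer_instance)

abbrev E := AddCommGrpCat.leftExactFunctorForgetEquivalence (Sheaf K AddCommGrpCat.{u})

def G₀ : Sheaf K AddCommGrpCat.{u} ⥤ (Cᵒᵖ ⥤ AddCommGrpCat.{u}) :=
  (Ψ J K u ⋙ (E K).inverse ⋙ LeftExactFunctor.forget _ _).flip

example (A : Sheaf K AddCommGrpCat.{u}) :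
    (G₀ J K u).obj A ⋙ forget AddCommGrpCat.{u} = (Φ J K u).obj A := rfl

theorem G₀_isSheaf (A : Sheaf K AddCommGrpCat.{u}) : Presheaf.IsSheaf J ((G₀ J K u).obj A) := by
  rw [Presheaf.isSheaf_iff_isSheaf_forget J _ (forget AddCommGrpCat.{u})]
  exact ((LS J K u).obj ((UD K).obj A)).property

def G : Sheaf K AddCommGrpCat.{u} ⥤ Sheaf J AddCommGrpCat.{u} :=
  ObjectProperty.lift _ (G₀ J K u) (G₀_isSheaf J K u)

example : G J K u ⋙ UC J ⋙ sheafToPresheaf J (Type u) = Φ J K u := rfl

theorem G_comp_UC : G J K u ⋙ UC J = UD K ⋙ LS J K u := rfl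

instance : PreservesFiniteLimits (G J K u) := by
  have h1 : PreservesFiniteLimits (G J K u ⋙ sheafToPresheaf J AddCommGrpCat.{u}) := by
    constructor
    intro I _ _
    apply preservesLimitsOfShape_of_evaluation
    intro c
    have : PreservesFiniteLimits ((G J K u ⋙ sheafToPresheaf J AddCommGrpCat.{u}) ⋙ (evaluation _ _).obj c) :=
      (((Ψ J K u ⋙ (E K).inverse).obj c).property : _)
    infer_instance
  constructor
  intro I _ _
  exact preservesLimitsOfShape_of_reflects_of_preserves _ (sheafToPresheaf J AddCommGrpCat.{u})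

/-- the function on sections underlying a natural transformation of underlying set-sheaves -/
def appFun {𝒜 : Type*} [Category 𝒜]
    {F₁ F₂ : 𝒜 ⥤ Sheaf J AddCommGrpCat.{u}}
    (α : F₁ ⋙ UC J ⟶ F₂ ⋙ UC J) (A : 𝒜) (c : Cᵒᵖ) :
    (F₁.obj A).obj.obj c → (F₂.obj A).obj.obj c :=
  fun x => (α.app A).hom.app c x

omit hu in
theorem nat_apply {𝒜 : Type*} [Category 𝒜]
    {F₁ F₂ : 𝒜 ⥤ Sheaf J AddCommGrpCat.{u}}
    (α : F₁ ⋙ UC J ⟶ F₂ ⋙ UC J) {A B : 𝒜} (f : B ⟶ A) (c : Cᵒᵖ) (w : (F₁.obj B).obj.obj c) :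
    appFun J α A c ((F₁.map f).hom.app c w) = (F₂.map f).hom.app c (appFun J α B c w) := by
  have h := α.naturality f
  have h2 := congrArg (fun t => t.hom.app c) h
  exact congrArg (fun (t : ((F₁ ⋙ UC J).obj B).obj.obj c ⟶ ((F₂ ⋙ UC J).obj A).obj.obj c) => t w) h2

omit hu in
theorem sheafHom_add_apply {P Q : Sheaf J AddCommGrpCat.{u}} (f g : P ⟶ Q) (c : Cᵒᵖ) (w : P.obj.obj c) :
    (f + g).hom.app c w = f.hom.app c w + g.hom.app c w := rfl

omit hu in
theorem map_add_of_natTrans {𝒜 : Type*} [Category 𝒜] [Preadditive 𝒜] [HasBinaryBiproducts 𝒜]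
    (F₁ F₂ : 𝒜 ⥤ Sheaf J AddCommGrpCat.{u}) [F₁.Additive] [F₂.Additive]
    (α : F₁ ⋙ UC J ⟶ F₂ ⋙ UC J) (A : 𝒜) (c : Cᵒᵖ) (x y : (F₁.obj A).obj.obj c) :
    appFun J α A c (x + y) = appFun J α A c x + appFun J α A c y := by
  let z : (F₁.obj (A ⊞ A)).obj.obj c :=
    (F₁.map biprod.inl).hom.app c x + (F₁.map biprod.inr).hom.app c y
  have comp_apply : ∀ {X Y Z : 𝒜} (f : X ⟶ Y) (g : Y ⟶ Z) (w : (F₁.obj X).obj.obj c),
      (F₁.map g).hom.app c ((F₁.map f).hom.app c w) = (F₁.map (f ≫ g)).hom.app c w := by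
    intro X Y Z f g w
    rw [F₁.map_comp]; rfl
  have hfst : (F₁.map biprod.fst).hom.app c z = x := by
    simp only [z, map_add, comp_apply]
    simp
  have hsnd : (F₁.map biprod.snd).hom.app c z = y := by
    simp only [z, map_add, comp_apply]
    simp
  have hsum : (F₁.map (biprod.fst + biprod.snd)).hom.app c z = x + y := by
    rw [F₁.map_add, sheafHom_add_apply, hfst, hsnd]
  rw [← hsum, nat_apply, F₂.map_add, sheafHom_add_apply, ← nat_apply, ← nat_apply, hfst, hsnd]

section Lift

variable {𝒜 : Type*} [Category 𝒜] [Preadditive 𝒜] [HasBinaryBiproducts 𝒜]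
    {F₁ F₂ : 𝒜 ⥤ Sheaf J AddCommGrpCat.{u}} [F₁.Additive] [F₂.Additive]
    (α : F₁ ⋙ UC J ⟶ F₂ ⋙ UC J)

/-- a natural transformation between the underlying set-sheaves of additive functors is additive -/
def liftApp (A : 𝒜) : F₁.obj A ⟶ F₂.obj A :=
  ObjectProperty.homMk
    { app := fun c => AddCommGrpCat.ofHom
        (AddMonoidHom.mk' (appFun J α A c) (map_add_of_natTrans J F₁ F₂ α A c))
      naturality := fun c c' g => by
        ext x
        have h := (α.app A).hom.naturality g
        exact congrArg (fun (t : ((F₁ ⋙ UC J).obj A).obj.obj c ⟶ ((F₂ ⋙ UC J).obj A).obj.obj c') => t x) h }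

omit hu in
theorem UC_map_liftApp (A : 𝒜) : (UC J).map (liftApp J α A) = α.app A := by
  apply Sheaf.hom_ext
  ext c x
  rfl

/-- the lifted natural transformation -/
def liftNat : F₁ ⟶ F₂ where
  app := liftApp J α
  naturality := fun A B f => by
    apply (UC J).map_injective
    rw [Functor.map_comp, Functor.map_comp, UC_map_liftApp, UC_map_liftApp]
    exact α.naturality f

end Lift

instance : (G J K u).Additive := by
  haveI : (G J K u).PreservesZeroMorphisms := Functor.preservesZeroMorphisms_of_preserves_terminal_object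
  exact Functor.additive_of_preserves_binary_products _

instance : (RA J K u).Additive := ⟨rfl⟩

abbrev adjS : LS J K u ⊣ RS J K u := u.sheafAdjunctionContinuous (Type u) K J

def unitSet : 𝟭 (Sheaf K AddCommGrpCat.{u}) ⋙ UD K ⟶ (G J K u ⋙ RA J K u) ⋙ UD K :=
  Functor.whiskerLeft (UD K) (adjS J K u).unit

def counitSet : (RA J K u ⋙ G J K u) ⋙ UC J ⟶ 𝟭 (Sheaf J AddCommGrpCat.{u}) ⋙ UC J :=
  Functor.whiskerLeft (UC J) (adjS J K u).counit

def adjG : G J K u ⊣ RA J K u where
  unit := liftNat K (unitSet J K u)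
  counit := liftNat J (counitSet J K u)
  left_triangle_components A := by
    apply (UC J).map_injective
    rw [Functor.map_comp]
    erw [UC_map_liftApp J (counitSet J K u) ((G J K u).obj A)]
    have h1 : (UC J).map ((G J K u).map ((liftNat K (unitSet J K u)).app A)) =
        (LS J K u).map ((UD K).map ((liftNat K (unitSet J K u)).app A)) := rfl
    rw [h1]
    erw [UC_map_liftApp K (unitSet J K u) A]
    exact (adjS J K u).left_triangle_components ((UD K).obj A)
  right_triangle_components B := by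
    apply (UD K).map_injective
    rw [Functor.map_comp]
    erw [UC_map_liftApp K (unitSet J K u) ((RA J K u).obj B)]
    have h1 : (UD K).map ((RA J K u).map ((liftNat J (counitSet J K u)).app B)) =
        (RS J K u).map ((UC J).map ((liftNat J (counitSet J K u)).app B)) := rfl
    rw [h1]
    erw [UC_map_liftApp J (counitSet J K u) B]
    exact (adjS J K u).right_triangle_components ((UC J).obj B)

end


/-- For a morphism of topoi given by a continuous functor u : D ⥤ C between small sites whose pullback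
on sheaves of sets is exact, the pullback functor f⁻¹ on abelian sheaves, Ab(D) → Ab(C) (left
adjoint of u_*, so right exact in any case), preserves finite limits, i.e. is exact. -/
theorem result {C D : Type u} [SmallCategory C] [SmallCategory D]
    (J : GrothendieckTopology C) (K : GrothendieckTopology D) (u : D ⥤ C) [u.IsContinuous K J]
    (hu : PreservesFiniteLimits (u.sheafPullback (Type u) K J)) :
    PreservesFiniteLimits (u.sheafPullback AddCommGrpCat.{u} K J) := by
  haveI := hu
  exact preservesFiniteLimits_of_natIso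
    (Adjunction.leftAdjointUniq (adjG J K u) (u.sheafAdjunctionContinuous AddCommGrpCat.{u} K J))

end Groth.Agent.S12448
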