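import Groth.Statements.S1245
import Mathlib
import Groth.Agent.S1296

set_option autoImplicit false
universe u
open FlatMor

namespace Groth.Agent.S1245

section helpers

open scoped TensorProduct
open Groth.Agent.Lib.PurityBC7

attribute [local instance] Algebra.TensorProduct.rightAlgebra

theorem exists_closed_point {A : Type u} [CommRing A] (p : Ideal A) [p.IsPrime]
    (A' : Type u) [CommRing A'] [Algebra A A'] [Algebra.FiniteType A A']
    (t : Ideal A') [t.IsPrime] [t.LiesOver p] (s : A') (hs : s ∉ t) :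
    ∃ (t₁ : Ideal A') (_ : t₁.IsPrime), t ≤ t₁ ∧ t₁.LiesOver p ∧ s ∉ t₁ ∧
      (FlatCA.fiberIdeal p t₁).IsMaximal := by
  obtain ⟨h1, h2⟩ := fiberIdeal_isPrime_comap p t
  haveI : IsJacobsonRing (p.Fiber A') := isJacobsonRing_of_finiteType (A := p.ResidueField)
  have hσ : fiberIncl (B := A') p s ∉ FlatCA.fiberIdeal p t := fun h => hs (by
    rw [← h2]
    exact Ideal.mem_comap.mpr h)
  have hj : (FlatCA.fiberIdeal p t).jacobson = FlatCA.fiberIdeal p t :=
    IsJacobsonRing.out inferInstance h1.isRadical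
  have hex : ∃ 𝔪 : Ideal (p.Fiber A'), FlatCA.fiberIdeal p t ≤ 𝔪 ∧ 𝔪.IsMaximal ∧
      fiberIncl (B := A') p s ∉ 𝔪 := by
    by_contra hcon
    push_neg at hcon
    apply hσ
    rw [← hj, Ideal.jacobson, Ideal.mem_sInf]
    rintro 𝔪 ⟨hle, hmax⟩
    exact hcon 𝔪 hle hmax
  obtain ⟨𝔪, hle, hmax, hσm⟩ := hex
  haveI := hmax.isPrime
  refine ⟨𝔪.comap (fiberIncl (B := A') p), Ideal.comap_isPrime _ _, ?_, ?_, hσm, ?_⟩
  · rw [← h2]
    exact Ideal.comap_mono hle
  · have h3 := ((PrimeSpectrum.primesOverOrderIsoFiber A A' p).symm ⟨𝔪, inferInstance⟩).2.2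
    rw [PrimeSpectrum.coe_primesOverOrderIsoFiber_symm_apply] at h3
    exact h3
  · rw [fiberIdeal_comap]
    exact hmax

theorem exists_fp_nbhd {A A' : Type u} [CommRing A] [CommRing A'] [Algebra A A']
    (T' : Finset A') :
    ∃ (S : Type u) (_ : CommRing S) (_ : Algebra A S) (_ : Algebra.FinitePresentation A S)
      (θ : S →ₐ[A] A'), ∀ x ∈ T', ∃ s : S, θ s = x :=
  ⟨MvPolynomial T' A, inferInstance, inferInstance, inferInstance,
    MvPolynomial.aeval (fun z : T' => (z : A')), fun z hz =>
      ⟨MvPolynomial.X ⟨z, hz⟩, MvPolynomial.aeval_X _ _⟩⟩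

theorem main {A B : Type u} [CommRing A] [CommRing B] [Algebra A B] [Algebra.FiniteType A B]
    (N : Type u) [AddCommGroup N] [Module B N] (p : Ideal A) [p.IsPrime]
    (h : FlatCA.HasImpurity A B N p (fun _ _ _ _ => True)) :
    FlatCA.HasImpurity A B N p (fun A' _ _ t => Algebra.FinitePresentation A A' ∧
      (FlatCA.fiberIdeal p t).IsMaximal) := by
  classical
  obtain ⟨A', B', N', _, _, _, _, _, _, _, _, _, _, _, _, _, _, f, t', t, _, _, P, _, himp, -⟩ := h
  have himp' := himp
  obtain ⟨hpush, hbc, hle, hover, hPover, hass, hcl⟩ := himp'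
  obtain ⟨s, hs, hsmem⟩ := Groth.Agent.S1296.exists_witness t P hcl
  obtain ⟨x, hx, y, hy, hxy⟩ := Submodule.mem_sup.mp hsmem
  obtain ⟨a, ha, hsum⟩ := Groth.Agent.S1296.exists_decomp hpush t y hy
  obtain ⟨S, _, _, hfp, θ, hθ⟩ := exists_fp_nbhd (A := A) (insert s (a.support.image a))
  obtain ⟨s₁, hs₁⟩ := hθ s (Finset.mem_insert_self _ _)
  have hlift : ∀ b ∈ a.support, ∃ y : S, θ y = a b := fun b hb =>
    hθ _ (Finset.mem_insert_of_mem (Finset.mem_image_of_mem a hb))
  choose! c hc using hlift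
  letI : Algebra S A' := θ.toRingHom.toAlgebra
  haveI : IsScalarTower A S A' := .of_algebraMap_eq fun x => (θ.commutes x).symm
  have hpushS : Algebra.IsPushout A B S (S ⊗[A] B) := TensorProduct.isPushout'
  have hk : IsBaseChange (S ⊗[A] B) (TensorProduct.mk B (S ⊗[A] B) N 1) :=
    TensorProduct.isBaseChange B N _
  haveI : IsScalarTower S (S ⊗[A] B) ((S ⊗[A] B) ⊗[B] N) := inferInstance
  have hc' : ∀ b ∈ a.support, algebraMap S A' (c b) ∈ t := by
    intro b hb
    change θ (c b) ∈ t
    rw [hc b hb]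
    exact ha b
  have hx' : algebraMap A' B' (algebraMap S A' s₁) -
      ∑ b ∈ a.support, algebraMap A' B' (algebraMap S A' (c b)) * algebraMap B B' b ∈ P := by
    have h1 : ∑ b ∈ a.support, algebraMap A' B' (algebraMap S A' (c b)) * algebraMap B B' b
        = y := by
      rw [← hsum, Finsupp.sum]
      apply Finset.sum_congr rfl
      intro b hb
      change algebraMap A' B' (θ (c b)) * _ = _
      rw [hc b hb]
    have h2 : algebraMap S A' s₁ = s := hs₁
    rw [h1, h2, ← hxy, add_sub_cancel_right]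
    exact hx
  have hs₁' : algebraMap S A' s₁ ∉ t := by
    change θ s₁ ∉ t
    rw [hs₁]
    exact hs
  obtain ⟨P'', hP'', himp₁⟩ := Groth.Agent.S1296.pushdown_limit N p S (S ⊗[A] B)
    ((S ⊗[A] B) ⊗[B] N) hpushS _ hk A' B' N' f t' t P himp s₁ hs₁' a.support c hc' hx'
  -- move to a closed point of the fibre
  obtain ⟨hpush₁, hbc₁, hle₁, hover₁, hPover₁, hass₁, hcl₁⟩ := himp₁
  obtain ⟨s₂, hs₂, hs₂mem⟩ := Groth.Agent.S1296.exists_witness (t.under S) P'' hcl₁
  haveI := hover₁
  obtain ⟨t₁, ht₁prime, hle₂, hover₂, hs₂', hmax⟩ := exists_closed_point p S (t.under S) s₂ hs₂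
  haveI := ht₁prime
  refine ⟨S, S ⊗[A] B, (S ⊗[A] B) ⊗[B] N, inferInstance, inferInstance, inferInstance,
    inferInstance, inferInstance, inferInstance, inferInstance, inferInstance, inferInstance,
    inferInstance, inferInstance, inferInstance, inferInstance, inferInstance, _, t'.under S,
    t₁, inferInstance, inferInstance, P'', hP'',
    ⟨hpush₁, hbc₁, le_trans hle₁ hle₂, hover₂, hPover₁, hass₁, ?_⟩, hfp, hmax⟩
  intro P' hP' hleP' hoverP'
  apply hs₂'
  have h1 : (t.under S).map (algebraMap S (S ⊗[A] B)) ≤ P' := by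
    rw [Ideal.map_le_iff_le_comap]
    intro z hz
    have : z ∈ t₁ := hle₂ hz
    rw [hoverP'.over] at this
    exact this
  have h2 : algebraMap S (S ⊗[A] B) s₂ ∈ P' := (sup_le hleP' h1) hs₂mem
  rw [hoverP'.over]
  exact h2

end helpers

/-- Ring form, X = Spec B affine, base change rings affine: let B be a finite type A-algebra, N a finite
B-module and p a prime of A. If there is an impurity of N above p, then there is one whose base
change A → A' is of finite presentation and whose point t is a closed point of the fibre of Spec A'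
over p (the extension of t to the fibre ring is maximal). -/
theorem result {A B : Type u} [CommRing A] [CommRing B] [Algebra A B] [Algebra.FiniteType A B]
    (N : Type u) [AddCommGroup N] [Module B N] [Module.Finite B N] (p : Ideal A) [p.IsPrime]
    (h : FlatCA.HasImpurity A B N p (fun _ _ _ _ => True)) :
    FlatCA.HasImpurity A B N p (fun A' _ _ t => Algebra.FinitePresentation A A' ∧ (FlatCA.fiberIdeal p t).IsMaximal) := by
  exact main N p h

end Groth.Agent.S1245
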