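import Groth.Statements.S12450
-- import your own Groth.Agent.* helpers here

set_option autoImplicit false
universe u
open CategoryTheory CategoryTheory.Limits
open ModSite

namespace Groth.Agent.S12450

universe v₁ v₂ v₃ u₁ u₂ u₃ w w'

/-- If `L ⊣ i` is a reflective localization (counit iso) and `L ⋙ G` preserves the colimit of `F ⋙ i`,
then `G` preserves the colimit of `F`. -/
theorem preservesColimit_of_reflective {P : Type u₁} [Category.{v₁} P] {S : Type u₂} [Category.{v₂} S]
    {T : Type u₃} [Category.{v₃} T]
    {L : P ⥤ S} {i : S ⥤ P} (adj : L ⊣ i) [IsIso adj.counit] (G : S ⥤ T)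
    {K : Type w} [Category.{w'} K] (F : K ⥤ S) [HasColimit (F ⋙ i)]
    [PreservesColimit (F ⋙ i) (L ⋙ G)] :
    PreservesColimit F G := by
  have : L.IsLeftAdjoint := ⟨_, ⟨adj⟩⟩
  let c₀ := colimit.cocone (F ⋙ i)
  have h₀ : IsColimit c₀ := colimit.isColimit _
  have h₁ : IsColimit (L.mapCocone c₀) := isColimitOfPreserves L h₀
  let e : (F ⋙ i) ⋙ L ≅ F :=
    Functor.associator _ _ _ ≪≫ Functor.isoWhiskerLeft F (asIso adj.counit) ≪≫ F.rightUnitor
  let c : Cocone F := (Cocone.precompose e.inv).obj (L.mapCocone c₀)
  have hc : IsColimit c := (IsColimit.precomposeInvEquiv e _).symm h₁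
  apply preservesColimit_of_preserves_colimit_cocone hc
  have h₂ : IsColimit ((L ⋙ G).mapCocone c₀) := isColimitOfPreserves (L ⋙ G) h₀
  have h₃ : IsColimit (G.mapCocone (L.mapCocone c₀)) := h₂
  refine IsColimit.ofIsoColimit ?_ (Functor.mapCoconePrecompose (H := G) (α := e.inv)).symm
  exact (IsColimit.precomposeInvEquiv (Functor.isoWhiskerRight e G) _).symm h₃

/-- For a small ringed site (C, O) the forgetful functor Mod(O) → Ab(C) commutes with colimits, i.e.
preserves all small colimits. (Existence of limits and colimits in Mod(O) and commutation of the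
forgetful functor with limits hold by construction; exactness of filtered colimits is a separate
statement.) -/
theorem result {C : Type u} [SmallCategory C] {J : GrothendieckTopology C}
    (O : Sheaf J CommRingCat.{u}) :
    PreservesColimitsOfSize.{u, u} (SheafOfModules.toSheaf.{u} (ModSite.ringSh O) : ModSite.Mod O ⥤ Sheaf J AddCommGrpCat.{u}) := by
  constructor
  intro K _
  constructor
  intro F
  have : PreservesColimit
      (F ⋙ SheafOfModules.forget (ringSh O) ⋙ PresheafOfModules.restrictScalars (𝟙 (ringSh O).obj))
      (PresheafOfModules.sheafification (𝟙 (ringSh O).obj) ⋙ SheafOfModules.toSheaf (ringSh O)) :=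
    preservesColimit_of_natIso _
      (PresheafOfModules.sheafificationCompToSheaf (𝟙 (ringSh O).obj)).symm
  exact preservesColimit_of_reflective
    (PresheafOfModules.sheafificationAdjunction (𝟙 (ModSite.ringSh O).obj)) _ F

end Groth.Agent.S12450
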