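import Groth.Statements.S12452
import Mathlib.Topology.Sheaves.SheafCondition.UniqueGluing
import Mathlib.Topology.Sheaves.SheafCondition.Sites

set_option autoImplicit false
universe u
open CategoryTheory TopologicalSpace Opposite
open ShSp

namespace Groth.Agent.S12452


open TopCat

section
variable {X Y : TopCat.{u}} (f : X ⟶ Y) (F : X.Sheaf (Type u)) (G : Y.Sheaf (Type u))
    {BX : Set (Opens X)} (hBX : Opens.IsBasis BX) {BY : Set (Opens Y)} (hBY : Opens.IsBasis BY)
    (φ : ∀ (V : BY) (U : BX), (U : Opens X) ≤ (Opens.map f).obj V →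
      (G.presheaf.obj (op (V : Opens Y)) → F.presheaf.obj (op (U : Opens X))))
    (hφ : ∀ (V V' : BY) (U U' : BX) (hUV : (U : Opens X) ≤ (Opens.map f).obj V)
      (hU'V' : (U' : Opens X) ≤ (Opens.map f).obj V') (hV : (V' : Opens Y) ≤ V) (hU : (U' : Opens X) ≤ U)
      (s : G.presheaf.obj (op (V : Opens Y))),
      F.presheaf.map (homOfLE hU).op (φ V U hUV s) = φ V' U' hU'V' (G.presheaf.map (homOfLE hV).op s))

include hBX in
/-- Sections of `F` agreeing on all members of the basis below `W` are equal. -/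
theorem ext_basis (W : Opens X) (s t : F.presheaf.obj (op W))
    (h : ∀ (U : BX) (hU : (U : Opens X) ≤ W), F.presheaf.map (homOfLE hU).op s = F.presheaf.map (homOfLE hU).op t) :
    s = t := by
  refine TopCat.Sheaf.eq_of_locally_eq' F (fun i : {U : BX // (U : Opens X) ≤ W} => (i.1 : Opens X)) W
    (fun i => homOfLE i.2) ?_ s t (fun i => h i.1 i.2)
  intro x hx
  obtain ⟨U, hU, hxU, hUW⟩ := Opens.isBasis_iff_nbhd.mp hBX hx
  exact Opens.mem_iSup.mpr ⟨⟨⟨U, hU⟩, hUW⟩, hxU⟩

include hBX hφ in
theorem exists_glue (V : BY) (s : G.presheaf.obj (op (V : Opens Y))) :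
    ∃! t : F.presheaf.obj (op ((Opens.map f).obj V)),
      ∀ (U : BX) (hU : (U : Opens X) ≤ (Opens.map f).obj V), F.presheaf.map (homOfLE hU).op t = φ V U hU s := by
  have hcomp : TopCat.Presheaf.IsCompatible F.1
      (fun i : {U : BX // (U : Opens X) ≤ (Opens.map f).obj V} => (i.1 : Opens X))
      (fun i => φ V i.1 i.2 s) := by
    intro i j
    refine ext_basis F hBX _ _ _ (fun U hU => ?_)
    have h1 : (U : Opens X) ≤ i.1 := hU.trans inf_le_left
    have h2 : (U : Opens X) ≤ j.1 := hU.trans inf_le_right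
    have e1 := hφ V V i.1 U i.2 (h1.trans i.2) le_rfl h1 s
    have e2 := hφ V V j.1 U j.2 (h2.trans j.2) le_rfl h2 s
    have l1 : F.presheaf.map (homOfLE hU).op (F.1.map (Opens.infLELeft _ _).op (φ V i.1 i.2 s)) =
        F.presheaf.map (homOfLE h1).op (φ V i.1 i.2 s) := by
      rw [← Functor.map_comp_apply]; rfl
    have l2 : F.presheaf.map (homOfLE hU).op (F.1.map (Opens.infLERight _ _).op (φ V j.1 j.2 s)) =
        F.presheaf.map (homOfLE h2).op (φ V j.1 j.2 s) := by
      rw [← Functor.map_comp_apply]; rfl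
    rw [l1, l2, e1, e2]
  have hcov : (Opens.map f).obj V ≤ ⨆ i : {U : BX // (U : Opens X) ≤ (Opens.map f).obj V}, (i.1 : Opens X) := by
    intro x hx
    obtain ⟨U, hU, hxU, hUW⟩ := Opens.isBasis_iff_nbhd.mp hBX hx
    exact Opens.mem_iSup.mpr ⟨⟨⟨U, hU⟩, hUW⟩, hxU⟩
  obtain ⟨t, ht, htu⟩ := TopCat.Sheaf.existsUnique_gluing' F _ ((Opens.map f).obj V)
    (fun i => homOfLE i.2) hcov _ hcomp
  refine ⟨t, fun U hU => ht ⟨U, hU⟩, fun t' ht' => htu t' (fun i => ht' i.1 i.2)⟩

include hBX hBY hφ in
theorem main :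
    ∃! ψ : G ⟶ (TopCat.Sheaf.pushforward (Type u) f).obj F,
      ∀ (V : BY) (U : BX) (hUV : (U : Opens X) ≤ (Opens.map f).obj V) (s : G.presheaf.obj (op (V : Opens Y))),
        F.presheaf.map (homOfLE hUV).op (ψ.1.app (op (V : Opens Y)) s) = φ V U hUV s := by
  choose t ht htu using exists_glue f F G hBX φ hφ
  let B : BY → Opens Y := fun V => V.1
  have hB : Opens.IsBasis (Set.range B) := by
    have : Set.range B = BY := Subtype.range_coe
    rw [this]; exact hBY
  let F' : TopCat.Sheaf (Type u) Y := (TopCat.Sheaf.pushforward (Type u) f).obj F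
  let α : (inducedFunctor B).op ⋙ G.1 ⟶ (inducedFunctor B).op ⋙ F'.1 :=
    { app := fun V => TypeCat.ofHom (fun s => t V.unop s)
      naturality := by
        intro V V' g
        ext s
        have hle : B V'.unop ≤ B V.unop := leOfHom ((inducedFunctor B).map g.unop)
        change t V'.unop (G.presheaf.map (homOfLE hle).op s) =
          F.presheaf.map (homOfLE ((Opens.map f).monotone hle)).op (t V.unop s)
        symm
        apply htu
        intro U hU
        rw [← Functor.map_comp_apply]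
        have e1 := ht V.unop s U (hU.trans ((Opens.map f).monotone hle))
        have e2 := hφ V.unop V'.unop U U (hU.trans ((Opens.map f).monotone hle)) hU hle le_rfl s
        have e3 : F.presheaf.map (homOfLE (le_refl (U : Opens X))).op
            (φ V.unop U (hU.trans ((Opens.map f).monotone hle)) s) =
            φ V.unop U (hU.trans ((Opens.map f).monotone hle)) s := by
          have : (homOfLE (le_refl (U : Opens X))).op = 𝟙 _ := rfl
          rw [this, F.presheaf.map_id]; rfl
        rw [← e2, e3]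
        exact e1 }
  let β : G.1 ⟶ F'.1 := TopCat.Sheaf.restrictHomEquivHom G.1 F' hB α
  have hβ : ∀ V : BY, β.app (op (B V)) = α.app (op V) := fun V =>
    TopCat.Sheaf.extend_hom_app G.1 F' hB α V
  refine ⟨⟨β⟩, ?_, ?_⟩
  · intro V U hUV s
    change F.presheaf.map (homOfLE hUV).op (β.app (op (B V)) s) = _
    rw [hβ V]
    exact ht V s U hUV
  · intro ψ' hψ'
    apply CategoryTheory.Sheaf.hom_ext
    refine TopCat.Sheaf.hom_ext G.1 F' hB (fun V => ?_)
    ext s
    change ψ'.1.app (op (V : Opens Y)) s = β.app (op (B V)) s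
    rw [hβ V]
    exact htu V s _ (fun U hU => hψ' V U hU s)

end

/-- For sheaves of sets, let f : X → Y be a continuous map, F a sheaf of sets on X, G a sheaf of sets on
Y, and B_X, B_Y bases for the topologies of X and Y. Suppose given, for every V in B_Y and U in B_X
with U ⊆ f⁻¹V, a map φ_V^U : G(V) → F(U), compatibly with restrictions. Then there is exactly one
morphism of sheaves ψ : G → f_*F (an f-map G → F) such that G(V) → F(f⁻¹V) → F(U) equals φ_V^U for
every such pair. -/
theorem result {X Y : TopCat.{u}} (f : X ⟶ Y) (F : X.Sheaf (Type u)) (G : Y.Sheaf (Type u))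
    {BX : Set (Opens X)} (hBX : Opens.IsBasis BX) {BY : Set (Opens Y)} (hBY : Opens.IsBasis BY)
    (φ : ∀ (V : BY) (U : BX), (U : Opens X) ≤ (Opens.map f).obj V →
      (G.presheaf.obj (op (V : Opens Y)) → F.presheaf.obj (op (U : Opens X))))
    (hφ : ∀ (V V' : BY) (U U' : BX) (hUV : (U : Opens X) ≤ (Opens.map f).obj V)
      (hU'V' : (U' : Opens X) ≤ (Opens.map f).obj V') (hV : (V' : Opens Y) ≤ V) (hU : (U' : Opens X) ≤ U)
      (s : G.presheaf.obj (op (V : Opens Y))),
      F.presheaf.map (homOfLE hU).op (φ V U hUV s) = φ V' U' hU'V' (G.presheaf.map (homOfLE hV).op s)) :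
    ∃! ψ : G ⟶ (TopCat.Sheaf.pushforward (Type u) f).obj F,
      ∀ (V : BY) (U : BX) (hUV : (U : Opens X) ≤ (Opens.map f).obj V) (s : G.presheaf.obj (op (V : Opens Y))),
        F.presheaf.map (homOfLE hUV).op (ψ.1.app (op (V : Opens Y)) s) = φ V U hUV s := by
  exact main f F G hBX hBY φ hφ

end Groth.Agent.S12452
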