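import Groth.Statements.S12456
import Groth.Agent.Lib.UnivThickLocal24
import Groth.Agent.Lib.H4FirstOrderBC

set_option autoImplicit false
universe u
open CategoryTheory AlgebraicGeometry
open OmegaSh

namespace Groth.Agent.S12456

/-- Sections killed by a first order thickening multiply to zero (on any open). -/
theorem mul_eq_zero_of_app_eq_zero {T T' : Scheme.{u}} (j : T ⟶ T')
    (hj : MoreMor.IsFirstOrderThickening j) (W : T'.Opens) (x y : Γ(T', W))
    (hx : (j.app W).hom x = 0) (hy : (j.app W).hom y = 0) : x * y = 0 := by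
  obtain ⟨⟨hcl, -⟩, hsq⟩ := hj
  apply T'.IsSheaf.section_ext
  intro t ht
  obtain ⟨_, ⟨V, hV : IsAffineOpen V, rfl⟩, htV, hVW⟩ :=
    T'.isBasis_affineOpens.exists_subset_of_mem_open ht W.2
  have hVW' : V ≤ W := hVW
  refine ⟨V, hVW', htV, ?_⟩
  rw [map_zero, map_mul]
  have key : ∀ z : Γ(T', W), (j.app W).hom z = 0 →
      (T'.presheaf.map (homOfLE hVW').op).hom z ∈ j.ker.ideal ⟨V, hV⟩ := by
    intro z hz
    rw [Scheme.Hom.ker_apply, RingHom.mem_ker]
    have := congrArg (fun φ => (CommRingCat.Hom.hom φ) z) (j.naturality (homOfLE hVW').op)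
    simp only [CommRingCat.hom_comp, RingHom.comp_apply] at this
    rw [this, hz, map_zero]
  have h2 : (T'.presheaf.map (homOfLE hVW').op).hom x * (T'.presheaf.map (homOfLE hVW').op).hom y ∈
      (j.ker * j.ker).ideal ⟨V, hV⟩ := by
    rw [Scheme.IdealSheafData.ideal_mul]
    exact Ideal.mul_mem_mul (key x hx) (key y hy)
  rw [hsq] at h2
  simpa using h2

/-- If `I` dies on `T` and `T ⟶ T'` is a first order thickening then `I * I` dies on `T'`. -/
theorem mul_le_ker {Y T T' : Scheme.{u}} (j : T ⟶ T') (hj : MoreMor.IsFirstOrderThickening j)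
    (b : T' ⟶ Y) (I : Y.IdealSheafData) (hI : I ≤ (j ≫ b).ker) : I * I ≤ b.ker := by
  rw [Scheme.Hom.ker, Scheme.IdealSheafData.le_ofIdeals_iff]
  intro V
  show I.ideal V * I.ideal V ≤ RingHom.ker (b.app V.1).hom
  rw [Ideal.mul_le]
  intro x hx y hy
  rw [RingHom.mem_ker, map_mul]
  have key : ∀ z ∈ I.ideal V, (j.app (b ⁻¹ᵁ V.1)).hom ((b.app V.1).hom z) = 0 := by
    intro z hz
    have h1 := Scheme.Hom.ideal_ker_le (j ≫ b) V (hI V hz)
    rw [RingHom.mem_ker, Scheme.Hom.comp_app] at h1
    exact h1
  exact mul_eq_zero_of_app_eq_zero j hj _ _ _ (key x hx) (key y hy)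

theorem comap_subschemeι_self {Y : Scheme.{u}} (J : Y.IdealSheafData) :
    J.comap J.subschemeι = ⊥ := by
  have h1 := Scheme.IdealSheafData.ker_fst_of_isClosedImmersion J.subschemeι J.subschemeι
  rw [Scheme.IdealSheafData.ker_subschemeι] at h1
  rw [← h1]
  exact Scheme.Hom.ker_eq_bot_of_isIso _

theorem isFirstOrderThickening_inclusion {Y : Scheme.{u}} (I : Y.IdealSheafData)
    (h : I ^ 2 ≤ I) : MoreMor.IsFirstOrderThickening (Scheme.IdealSheafData.inclusion h) := by
  have hcomp : Scheme.IdealSheafData.inclusion h ≫ (I ^ 2).subschemeι = I.subschemeι :=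
    Scheme.IdealSheafData.inclusion_subschemeι h
  have hcl : IsClosedImmersion (Scheme.IdealSheafData.inclusion h) := by
    have : IsClosedImmersion (Scheme.IdealSheafData.inclusion h ≫ (I ^ 2).subschemeι) := by
      rw [hcomp]; infer_instance
    exact IsClosedImmersion.of_comp_isClosedImmersion _ (I ^ 2).subschemeι
  refine ⟨⟨hcl, ⟨?_⟩⟩, ?_⟩
  · intro z
    have hz : (I ^ 2).subschemeι z ∈ Set.range I.subschemeι := by
      rw [Scheme.IdealSheafData.range_subschemeι, ← Scheme.IdealSheafData.support_pow I 2 (by norm_num),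
        ← Scheme.IdealSheafData.range_subschemeι]
      exact ⟨z, rfl⟩
    obtain ⟨w, hw⟩ := hz
    refine ⟨w, (I ^ 2).subschemeι.isClosedEmbedding.injective ?_⟩
    rw [← hw]
    exact congrArg (fun φ : I.subscheme ⟶ Y => φ w) hcomp
  · have hk : (Scheme.IdealSheafData.inclusion h).ker = I.comap (I ^ 2).subschemeι := by
      have h1 : (Scheme.IdealSheafData.inclusion h).ker =
          ((Scheme.IdealSheafData.inclusion h ≫ (I ^ 2).subschemeι).ker).comap
            (I ^ 2).subschemeι := by
        rw [Scheme.Hom.ker_comp, Groth.Agent.Lib.H4FirstOrderBC.comap_map_of_isClosedImmersion]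
      rw [h1, hcomp, Scheme.IdealSheafData.ker_subschemeι]
    rw [hk, ← Groth.Agent.Lib.IdealSheafComap.comap_mul, ← pow_two, comap_subschemeι_self]


/-- Let i : Z → X be an immersion, written as the closed subscheme of an open U ⊆ X cut out by an ideal
sheaf I followed by the inclusion of U. Then the first order infinitesimal neighbourhood of Z in X —
the closed subscheme of U cut out by I² — together with Z ⊂ V(I²) and V(I²) → U → X is a universal
first order thickening of Z over X. (The inequality I² ≤ I is carried as an argument h; it always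
holds.) -/
theorem result {X : Scheme.{u}} (U : X.Opens) (I : (U : Scheme.{u}).IdealSheafData)
    (h : I ^ 2 ≤ I) :
    OmegaSh.IsUnivThickening (I.subschemeι ≫ U.ι) (Scheme.IdealSheafData.inclusion h)
      ((I ^ 2).subschemeι ≫ U.ι) := by
  have h0 : OmegaSh.IsUnivThickening I.subschemeι (Scheme.IdealSheafData.inclusion h)
      (I ^ 2).subschemeι := by
    refine ⟨isFirstOrderThickening_inclusion I h, Scheme.IdealSheafData.inclusion_subschemeι h,
      fun T T' j b a hj hw => ?_⟩
    have hle : (I ^ 2).subschemeι.ker ≤ b.ker := by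
      rw [Scheme.IdealSheafData.ker_subschemeι, pow_two]
      refine mul_le_ker j hj b I ?_
      rw [hw]
      have := Scheme.Hom.le_ker_comp a I.subschemeι
      rwa [Scheme.IdealSheafData.ker_subschemeι] at this
    refine ⟨IsClosedImmersion.lift (I ^ 2).subschemeι b hle,
      ⟨?_, IsClosedImmersion.lift_fac _ _ _⟩, ?_⟩
    · rw [← cancel_mono (I ^ 2).subschemeι, Category.assoc, IsClosedImmersion.lift_fac,
        Category.assoc, Scheme.IdealSheafData.inclusion_subschemeι, hw]
    · rintro c ⟨-, h2⟩
      rw [← cancel_mono (I ^ 2).subschemeι, h2, IsClosedImmersion.lift_fac]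
  exact Groth.Agent.Lib.UnivThickLocal24.isUnivThickening_comp_openImmersion _ _ _ h0 U.ι

end Groth.Agent.S12456
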