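import Groth.Statements.S12460
import Mathlib.AlgebraicGeometry.AffineScheme
import Mathlib.AlgebraicGeometry.Morphisms.FiniteType
import Mathlib.RingTheory.RegularLocalRing.Defs

set_option autoImplicit false
universe u
open CategoryTheory AlgebraicGeometry
open Props

namespace Groth.Agent.S12460

section Aux
open IsLocalRing TopologicalSpace


/-- regularity of the stalk at the image of a prime of an affine open. -/
theorem isRegular_stalk_fromSpec_iff {Y : Scheme.{u}} {V : Y.Opens} (hV : IsAffineOpen V)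
    (p : PrimeSpectrum Γ(Y, V)) :
    IsRegularLocalRing (Y.presheaf.stalk (hV.fromSpec p)) ↔ p ∈ EGA4.regLocus Γ(Y, V) := by
  have hpV : hV.fromSpec p ∈ V := (hV.isoSpec.inv _).2
  letI : Algebra Γ(Y, V) (Y.presheaf.stalk (hV.fromSpec p)) :=
    TopCat.Presheaf.algebra_section_stalk Y.presheaf ⟨hV.fromSpec p, hpV⟩
  haveI : IsLocalization.AtPrime (Y.presheaf.stalk (hV.fromSpec p)) p.asIdeal :=
    hV.isLocalization_stalk' p hpV
  let e : Y.presheaf.stalk (hV.fromSpec p) ≃+* Localization.AtPrime p.asIdeal :=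
    (IsLocalization.algEquiv p.asIdeal.primeCompl (Y.presheaf.stalk (hV.fromSpec p))
      (Localization.AtPrime p.asIdeal)).toRingEquiv
  constructor
  · intro h
    exact IsRegularLocalRing.of_ringEquiv e
  · intro h
    have : IsRegularLocalRing (Localization.AtPrime p.asIdeal) := h
    exact IsRegularLocalRing.of_ringEquiv e.symm

/-- the regular locus of `Γ(Y, V)` is the preimage of the regular locus of `Y`. -/
theorem regLocus_eq_preimage {Y : Scheme.{u}} {V : Y.Opens} (hV : IsAffineOpen V) :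
    EGA4.regLocus Γ(Y, V) =
      hV.fromSpec ⁻¹' {y : Y | IsRegularLocalRing (Y.presheaf.stalk y)} := by
  ext p
  exact (isRegular_stalk_fromSpec_iff hV p).symm

theorem isOpen_regLocus_of_isOpen {Y : Scheme.{u}} {V : Y.Opens} (hV : IsAffineOpen V)
    (h : IsOpen {y : Y | IsRegularLocalRing (Y.presheaf.stalk y)}) :
    IsOpen (EGA4.regLocus Γ(Y, V)) := by
  rw [regLocus_eq_preimage hV]
  exact h.preimage hV.fromSpec.continuous

theorem isOpen_inter_of_isOpen_regLocus {Y : Scheme.{u}} {V : Y.Opens} (hV : IsAffineOpen V)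
    (h : IsOpen (EGA4.regLocus Γ(Y, V))) :
    IsOpen ((V : Set Y) ∩ {y : Y | IsRegularLocalRing (Y.presheaf.stalk y)}) := by
  have : (V : Set Y) ∩ {y : Y | IsRegularLocalRing (Y.presheaf.stalk y)} =
      hV.fromSpec '' (EGA4.regLocus Γ(Y, V)) := by
    rw [regLocus_eq_preimage hV, Set.image_preimage_eq_inter_range, hV.range_fromSpec,
      Set.inter_comm]
  rw [this]
  exact hV.fromSpec.isOpenEmbedding.isOpenMap _ h


/-- The regular locus is invariant under ring isomorphisms. -/
theorem mem_regLocus_comap_ringEquiv {R S : Type u} [CommRing R] [CommRing S] (e : R ≃+* S)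
    (q : PrimeSpectrum S) :
    PrimeSpectrum.comap (e : R →+* S) q ∈ EGA4.regLocus R ↔ q ∈ EGA4.regLocus S := by
  have e' : Localization.AtPrime (PrimeSpectrum.comap (e : R →+* S) q).asIdeal ≃+*
      Localization.AtPrime q.asIdeal :=
    Localization.localRingEquiv _ q.asIdeal e rfl
  constructor
  · intro h
    have : IsRegularLocalRing (Localization.AtPrime
      (PrimeSpectrum.comap (e : R →+* S) q).asIdeal) := h
    exact IsRegularLocalRing.of_ringEquiv e'
  · intro h
    have : IsRegularLocalRing (Localization.AtPrime q.asIdeal) := h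
    exact IsRegularLocalRing.of_ringEquiv e'.symm


end Aux

/-- (1) ⇔ (3) ⇔ (4): let X be a locally Noetherian scheme. Then X is J-2 — for every morphism Y → X
locally of finite type the set of points y with O_{Y,y} a regular local ring is open in Y — if and
only if for every affine open U of X the ring Γ(X, U) is J-2 (every finite type algebra over it has
open regular locus), if and only if every point of X lies in such an affine open. (Schemes Y over X
are taken in the universe of X.) -/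
theorem result (X : Scheme.{u}) [IsLocallyNoetherian X] :
    ((∀ (Y : Scheme.{u}) (g : Y ⟶ X), LocallyOfFiniteType g →
        IsOpen {y : Y | IsRegularLocalRing (Y.presheaf.stalk y)}) ↔
      ∀ U : X.affineOpens, EGA4.IsJ2 Γ(X, U)) ∧
    ((∀ (Y : Scheme.{u}) (g : Y ⟶ X), LocallyOfFiniteType g →
        IsOpen {y : Y | IsRegularLocalRing (Y.presheaf.stalk y)}) ↔
      ∀ x : X, ∃ U : X.affineOpens, x ∈ (U : X.Opens) ∧ EGA4.IsJ2 Γ(X, U)) := by
  have hJA : (∀ (Y : Scheme.{u}) (g : Y ⟶ X), LocallyOfFiniteType g →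
        IsOpen {y : Y | IsRegularLocalRing (Y.presheaf.stalk y)}) →
      ∀ U : X.affineOpens, EGA4.IsJ2 Γ(X, U) := by
    intro hJ U S _ _ hft
    have hU : IsAffineOpen U.1 := U.2
    let Y : Scheme.{u} := Spec (CommRingCat.of S)
    let g : Y ⟶ X := Spec.map (CommRingCat.ofHom (algebraMap Γ(X, U) S)) ≫ hU.fromSpec
    haveI : LocallyOfFiniteType (Spec.map (CommRingCat.ofHom (algebraMap Γ(X, U) S))) := by
      rw [HasRingHomProperty.Spec_iff (P := @LocallyOfFiniteType)]
      exact RingHom.finiteType_algebraMap.mpr hft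
    have hg : LocallyOfFiniteType g := by
      show LocallyOfFiniteType (Spec.map (CommRingCat.ofHom (algebraMap Γ(X, U) S)) ≫ hU.fromSpec)
      infer_instance
    have h1 := hJ Y g hg
    have h2 := isOpen_regLocus_of_isOpen (isAffineOpen_top Y) h1
    let e : Γ(Y, ⊤) ≃+* S := (Scheme.ΓSpecIso (CommRingCat.of S)).commRingCatIsoToRingEquiv
    have h3 : EGA4.regLocus S = PrimeSpectrum.comap (e : Γ(Y, ⊤) →+* S) ⁻¹' EGA4.regLocus Γ(Y, ⊤) := by
      ext q
      exact (mem_regLocus_comap_ringEquiv e q).symm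
    rw [h3]
    exact h2.preimage (PrimeSpectrum.continuous_comap _)
  have hAB : (∀ U : X.affineOpens, EGA4.IsJ2 Γ(X, U)) →
      ∀ x : X, ∃ U : X.affineOpens, x ∈ (U : X.Opens) ∧ EGA4.IsJ2 Γ(X, U) := by
    intro hA x
    obtain ⟨_, ⟨U, hU, rfl⟩, hxU, -⟩ :=
      X.isBasis_affineOpens.exists_subset_of_mem_open (Set.mem_univ x) isOpen_univ
    exact ⟨⟨U, hU⟩, hxU, hA ⟨U, hU⟩⟩
  have hBJ : (∀ x : X, ∃ U : X.affineOpens, x ∈ (U : X.Opens) ∧ EGA4.IsJ2 Γ(X, U)) →
      (∀ (Y : Scheme.{u}) (g : Y ⟶ X), LocallyOfFiniteType g →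
        IsOpen {y : Y | IsRegularLocalRing (Y.presheaf.stalk y)}) := by
    intro hB Y g hg
    rw [isOpen_iff_forall_mem_open]
    intro y hy
    obtain ⟨U, hxU, hJ2⟩ := hB (g y)
    obtain ⟨_, ⟨V, hV, rfl⟩, hyV, hVU⟩ :=
      Y.isBasis_affineOpens.exists_subset_of_mem_open (show y ∈ g ⁻¹ᵁ U.1 from hxU) (g ⁻¹ᵁ U.1).2
    letI : Algebra Γ(X, U) Γ(Y, V) := (g.appLE U.1 V hVU).hom.toAlgebra
    have hft : Algebra.FiniteType Γ(X, U) Γ(Y, V) := by
      rw [← RingHom.finiteType_algebraMap]
      exact g.finiteType_appLE U.2 hV hVU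
    have h1 := hJ2 Γ(Y, V) hft
    refine ⟨_, Set.inter_subset_right, isOpen_inter_of_isOpen_regLocus hV h1, hyV, hy⟩
  exact ⟨⟨hJA, fun hA => hBJ (hAB hA)⟩, ⟨fun hJ => hAB (hJA hJ), hBJ⟩⟩

end Groth.Agent.S12460
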