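import Groth.Statements.S7652
import Groth.Agent.Lib.TotalFrac
import Mathlib.RingTheory.HopkinsLevitzki
import Mathlib.RingTheory.Length
import Mathlib.RingTheory.FiniteLength
import Mathlib.RingTheory.Spectrum.Prime.RingHom
import Mathlib.RingTheory.Localization.AtPrime.Basic
import Mathlib.RingTheory.KrullDimension.NonZeroDivisors
import Mathlib.Algebra.Module.Torsion.Basic

set_option autoImplicit false
set_option maxHeartbeats 400000
universe u
open CategoryTheory CategoryTheory.Limits AlgebraicGeometry
open Variety

namespace Groth.Agent.S7652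

open Groth.Agent.Lib.TotalFrac

section Parts12

variable {A : Type u} [CommRing A]

lemma finite_Cq (hN : CAlg.IsNagata A) (p : MinPrime A) : Module.Finite A (Cq A p) := by
  have h1 : Module.Finite (A ⧸ p.1) (Cq A p) :=
    hN.2 p.1 (FractionRing (A ⧸ p.1)) inferInstance
  have h2 : Module.Finite A (A ⧸ p.1) :=
    Module.Finite.of_surjective (Algebra.linearMap A (A ⧸ p.1)) Ideal.Quotient.mk_surjective
  exact Module.Finite.trans (A ⧸ p.1) (Cq A p)

lemma finite_closure [IsReduced A] (hN : CAlg.IsNagata A) :
    Module.Finite A (integralClosure A (FractionRing A)) := by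
  have := hN.1
  have : ∀ p : MinPrime A, Module.Finite A (Cq A p) := finite_Cq hN
  have : Module.Finite A (∀ p : MinPrime A, Cq A p) := Module.Finite.pi
  exact Module.Finite.equiv (integralClosureEquivPi A).symm.toLinearEquiv

lemma normal_Cq (p : MinPrime A) (Q : Ideal (Cq A p)) [Q.IsPrime] :
    IsDomain (Localization.AtPrime Q) ∧ IsIntegrallyClosed (Localization.AtPrime Q) := by
  have h0 : IsIntegrallyClosed (Cq A p) :=
    integralClosure.isIntegrallyClosedOfFiniteExtension (FractionRing (A ⧸ p.1))
  have h1 : IsDomain (Localization.AtPrime Q) :=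
    IsLocalization.isDomain_localization (Ideal.primeCompl_le_nonZeroDivisors Q)
  exact ⟨h1, isIntegrallyClosed_of_isLocalization _ Q.primeCompl
    (Ideal.primeCompl_le_nonZeroDivisors Q)⟩

lemma normal_of_equiv_pi {ι : Type*} [Finite ι] {R : Type*} [CommRing R] {B : ι → Type*}
    [∀ i, CommRing (B i)] (e : R ≃+* (∀ i, B i))
    (h : ∀ (i : ι) (Q : Ideal (B i)) [Q.IsPrime],
      IsDomain (Localization.AtPrime Q) ∧ IsIntegrallyClosed (Localization.AtPrime Q))
    (P : Ideal R) [hPp : P.IsPrime] :
    IsDomain (Localization.AtPrime P) ∧ IsIntegrallyClosed (Localization.AtPrime P) := by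
  let P'' : PrimeSpectrum (∀ i, B i) := PrimeSpectrum.comap e.symm.toRingHom ⟨P, hPp⟩
  obtain ⟨p, Q, hQ⟩ := PrimeSpectrum.exists_comap_evalRingHom_eq P''
  have hQ' : Q.asIdeal.comap (Pi.evalRingHom B p) = P''.asIdeal :=
    congrArg PrimeSpectrum.asIdeal hQ
  have hP : P = P''.asIdeal.comap e := by
    change P = (P.comap e.symm.toRingHom).comap e
    rw [← Ideal.comap_coe e, Ideal.comap_comap]
    have : e.symm.toRingHom.comp (e : _ →+* _) = RingHom.id _ := by
      ext x; simp
    rw [this, Ideal.comap_id]
  have hP' : P = (Q.asIdeal.comap (Pi.evalRingHom B p)).comap e := by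
    rw [hQ']; exact hP
  let e1 : Localization.AtPrime P ≃+*
      Localization.AtPrime (Q.asIdeal.comap (Pi.evalRingHom B p)) :=
    Localization.localRingEquiv P _ e hP'
  let e2 : Localization.AtPrime (Q.asIdeal.comap (Pi.evalRingHom B p))
      ≃+* Localization.AtPrime Q.asIdeal :=
    RingEquiv.ofBijective (Localization.AtPrime.mapPiEvalRingHom Q.asIdeal)
      (Localization.AtPrime.mapPiEvalRingHom_bijective Q.asIdeal)
  let e3 : Localization.AtPrime P ≃+* Localization.AtPrime Q.asIdeal := e1.trans e2
  obtain ⟨hd, hic⟩ := h p Q.asIdeal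
  exact ⟨e3.toMulEquiv.isDomain _, IsIntegrallyClosed.of_equiv e3.symm⟩

lemma normal_loc [IsNoetherianRing A] [IsReduced A]
    (P : PrimeSpectrum (integralClosure A (FractionRing A))) :
    IsDomain (Localization.AtPrime P.asIdeal) ∧
      IsIntegrallyClosed (Localization.AtPrime P.asIdeal) :=
  normal_of_equiv_pi (integralClosureEquivPi A).toRingEquiv
    (fun p Q _ => normal_Cq p Q) P.asIdeal

end Parts12

section Part3

open scoped nonZeroDivisors

lemma length_lt_top_of_smul_mem {A : Type*} [CommRing A] [IsNoetherianRing A]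
    [Ring.KrullDimLE 1 A] {M : Type*} [AddCommGroup M] [Module A M] [Module.Finite A M]
    (N : Submodule A M) (g : A) (hg : g ∈ A⁰) (h : ∀ x : M, g • x ∈ N) :
    Module.length A (M ⧸ N) < ⊤ := by
  have hart : IsArtinianRing (A ⧸ Ideal.span {g}) := by
    rw [isArtinianRing_iff_krullDimLE_zero, Ring.KrullDimLE, Order.krullDimLE_iff,
      ← ENat.WithBot.add_le_add_one_right_iff, Nat.cast_zero, zero_add]
    exact (ringKrullDim_quotient_succ_le_of_nonZeroDivisor hg).trans
      (Order.KrullDimLE.krullDim_le)
  have htor : Module.IsTorsionBySet A (M ⧸ N) (Ideal.span {g} : Set A) := by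
    rw [Module.isTorsionBySet_span_singleton_iff]
    intro q
    obtain ⟨x, rfl⟩ := Submodule.Quotient.mk_surjective N q
    rw [← Submodule.Quotient.mk_smul, Submodule.Quotient.mk_eq_zero]
    exact h x
  let _ : Module (A ⧸ Ideal.span {g}) (M ⧸ N) := htor.module
  have : IsScalarTower A (A ⧸ Ideal.span {g}) (M ⧸ N) := htor.isScalarTower
  have : Module.Finite (A ⧸ Ideal.span {g}) (M ⧸ N) :=
    Module.Finite.of_restrictScalars_finite A _ _
  have : IsArtinian (A ⧸ Ideal.span {g}) (M ⧸ N) := isArtinian_of_fg_of_artinian'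
  have : IsArtinian A (M ⧸ N) :=
    isArtinian_of_surjective_algebraMap (R := A ⧸ Ideal.span {g}) Ideal.Quotient.mk_surjective
  exact Module.length_ne_top.lt_top

lemma exists_smul_mem_range {A : Type*} [CommRing A] (K : Type*) [CommRing K] [Algebra A K]
    [IsLocalization A⁰ K] (B : Subalgebra A K) [Module.Finite A B] :
    ∃ g ∈ A⁰, ∀ x : B, g • x ∈ LinearMap.range (Algebra.linearMap A B) := by
  classical
  obtain ⟨S, hS⟩ := (Module.Finite.fg_top : (⊤ : Submodule A B).FG)
  have hx : ∀ x : B, ∃ s : A⁰, ∃ a : A, (s : A) • x = algebraMap A B a := by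
    intro x
    obtain ⟨⟨a, s⟩, h⟩ := IsLocalization.surj A⁰ (x : K)
    refine ⟨s, a, Subtype.ext ?_⟩
    change (s : A) • (x : K) = algebraMap A K a
    rw [Algebra.smul_def, mul_comm]; exact h
  choose s a hsa using hx
  refine ⟨∏ x ∈ S, (s x : A), Submonoid.prod_mem _ (fun x _ => (s x).2), ?_⟩
  have hle : (⊤ : Submodule A B) ≤ Submodule.comap (LinearMap.lsmul A B (∏ x ∈ S, (s x : A)))
      (LinearMap.range (Algebra.linearMap A B)) := by
    rw [← hS, Submodule.span_le]
    intro x hx
    change (∏ y ∈ S, (s y : A)) • x ∈ LinearMap.range (Algebra.linearMap A B)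
    rw [← Finset.mul_prod_erase S _ hx, mul_comm, mul_smul, hsa x]
    exact ⟨(∏ y ∈ S.erase x, (s y : A)) * a x, by simp [Algebra.smul_def]⟩
  intro x
  exact hle trivial

end Part3

/-- For a reduced local Nagata ring (A, m) of Krull dimension one, write A' for the integral closure of
A in its total fraction ring. Then A' is a finite A-module, every localization of A' at a prime is
an integrally closed domain, and the quotient A'/A is an A-module of finite length. (The published
statement also says that A' is Nagata, which follows from the finiteness of A' over A; this row does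
not restate it.) -/
theorem result (A : Type u) [CommRing A] [IsLocalRing A]
    [IsReduced A] (hN : CAlg.IsNagata A) (hdim : ringKrullDim A = 1) :
    Module.Finite A (integralClosure A (FractionRing A)) ∧
      (∀ p : PrimeSpectrum (integralClosure A (FractionRing A)),
        IsDomain (Localization.AtPrime p.asIdeal) ∧ IsIntegrallyClosed (Localization.AtPrime p.asIdeal)) ∧
      Curv2.deltaInv A < ⊤ := by
  have hNoeth : IsNoetherianRing A := hN.1
  have hfin : Module.Finite A (integralClosure A (FractionRing A)) := finite_closure hN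
  refine ⟨hfin, fun P => normal_loc P, ?_⟩
  have : Ring.KrullDimLE 1 A := Ring.krullDimLE_iff.2 hdim.le
  obtain ⟨g, hg, h⟩ :=
    exists_smul_mem_range (FractionRing A) (integralClosure A (FractionRing A))
  exact length_lt_top_of_smul_mem _ g hg h

end Groth.Agent.S7652
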