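import Groth.Statements.S7655
import Groth.Agent.Lib.BrnchSum98

set_option autoImplicit false
universe u
open CategoryTheory CategoryTheory.Limits AlgebraicGeometry
open Variety

namespace Groth.Agent.S7655

open IsLocalRing Groth.Agent.Lib.BrnchSum98

set_option maxHeartbeats 400000

section Length

variable {A : Type*} [CommRing A] [IsLocalRing A] {A' : Type*} [CommRing A'] [Algebra A A']

/-- `length_A (A'/m_A A') ≤ length_A (A'/A) + 1`. -/
theorem length_quotient_le :
    Module.length A (A' ⧸ (maximalIdeal A).map (algebraMap A A')) ≤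
      Module.length A (A' ⧸ LinearMap.range (Algebra.linearMap A A')) + 1 := by
  set I := (maximalIdeal A).map (algebraMap A A') with hI
  let h : A →ₗ[A] (A' ⧸ I) := Algebra.linearMap A (A' ⧸ I)
  have hh : ∀ a : A, h a = Ideal.Quotient.mk I (algebraMap A A' a) := fun a => rfl
  have hker : (maximalIdeal A : Submodule A A) ≤ LinearMap.ker h := by
    intro a ha
    rw [LinearMap.mem_ker, hh, Ideal.Quotient.eq_zero_iff_mem]
    exact Ideal.mem_map_of_mem _ ha
  have hsimple : IsSimpleModule A (A ⧸ maximalIdeal A) :=
    isSimpleModule_iff_quot_maximal.mpr ⟨maximalIdeal A, inferInstance, ⟨LinearEquiv.refl A _⟩⟩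
  have h1 : Module.length A (LinearMap.range h) ≤ 1 := by
    have hr : LinearMap.range (Submodule.liftQ (maximalIdeal A) h hker) = LinearMap.range h :=
      Submodule.range_liftQ _ _ _
    rw [← hr]
    calc Module.length A (LinearMap.range (Submodule.liftQ (maximalIdeal A) h hker))
        ≤ Module.length A (A ⧸ maximalIdeal A) :=
          Module.length_le_of_surjective (Submodule.liftQ (maximalIdeal A) h hker).rangeRestrict
            (LinearMap.surjective_rangeRestrict _)
      _ = 1 := Module.length_eq_one A _
  have h2 : Module.length A ((A' ⧸ I) ⧸ LinearMap.range h) ≤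
      Module.length A (A' ⧸ LinearMap.range (Algebra.linearMap A A')) := by
    let π : A' →ₗ[A] (A' ⧸ I) := (Ideal.Quotient.mkₐ A I).toLinearMap
    have hπ : ∀ x : A', π x = Ideal.Quotient.mk I x := fun x => rfl
    let g : A' →ₗ[A] ((A' ⧸ I) ⧸ LinearMap.range h) := (LinearMap.range h).mkQ ∘ₗ π
    have hg : LinearMap.range (Algebra.linearMap A A') ≤ LinearMap.ker g := by
      rintro _ ⟨a, rfl⟩
      rw [LinearMap.mem_ker]
      show (LinearMap.range h).mkQ (π (Algebra.linearMap A A' a)) = 0
      rw [Submodule.mkQ_apply, Submodule.Quotient.mk_eq_zero]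
      exact ⟨a, rfl⟩
    have hgs : Function.Surjective g :=
      (Submodule.mkQ_surjective _).comp (Ideal.Quotient.mkₐ_surjective A I)
    refine Module.length_le_of_surjective
      (Submodule.liftQ (LinearMap.range (Algebra.linearMap A A')) g hg) ?_
    rw [← LinearMap.range_eq_top, Submodule.range_liftQ, LinearMap.range_eq_top]
    exact hgs
  have hadd : Module.length A (A' ⧸ I) =
      Module.length A (LinearMap.range h) + Module.length A ((A' ⧸ I) ⧸ LinearMap.range h) :=
    Module.length_eq_add_of_exact (LinearMap.range h).subtype (LinearMap.range h).mkQ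
      (Submodule.subtype_injective _) (Submodule.mkQ_surjective _)
      (LinearMap.exact_subtype_mkQ _)
  rw [hadd, add_comm]
  exact add_le_add h2 h1

theorem card_homOver_le_length [Module.Finite A A'] {Ω : Type*} [Field Ω]
    [Algebra (ResidueField A) Ω] :
    ENat.card (HomOver (algebraMap A A') ((algebraMap (ResidueField A) Ω).comp (residue A))) ≤
      Module.length A (A' ⧸ (maximalIdeal A).map (algebraMap A A')) := by
  set I := (maximalIdeal A).map (algebraMap A A') with hI
  let φκ : ResidueField A →+* A' ⧸ I :=
    Ideal.Quotient.lift (maximalIdeal A) ((Ideal.Quotient.mk I).comp (algebraMap A A'))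
      (fun a ha => by
        rw [RingHom.comp_apply, Ideal.Quotient.eq_zero_iff_mem]
        exact Ideal.mem_map_of_mem _ ha)
  letI algκ : Algebra (ResidueField A) (A' ⧸ I) := φκ.toAlgebra
  have hφκ : ∀ a : A, algebraMap (ResidueField A) (A' ⧸ I) (residue A a)
      = Ideal.Quotient.mk I (algebraMap A A' a) := fun a => rfl
  haveI tower : IsScalarTower A (ResidueField A) (A' ⧸ I) :=
    IsScalarTower.of_algebraMap_eq (fun a => by
      rw [ResidueField.algebraMap_eq, hφκ]; rfl)
  haveI hfinA : Module.Finite A (A' ⧸ I) := inferInstance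
  haveI hfinκ : Module.Finite (ResidueField A) (A' ⧸ I) :=
    Module.Finite.of_restrictScalars_finite A _ _
  have hχ : ∀ χ : HomOver (algebraMap A A') ((algebraMap (ResidueField A) Ω).comp (residue A)),
      ∀ x ∈ I, χ.1 x = 0 := by
    intro χ x hx
    have hle : I ≤ RingHom.ker χ.1 := by
      rw [hI, Ideal.map_le_iff_le_comap]
      intro a ha
      rw [Ideal.mem_comap, RingHom.mem_ker]
      have h3 := RingHom.congr_fun χ.2 a
      rw [RingHom.comp_apply] at h3
      rw [h3, RingHom.comp_apply, (residue_eq_zero_iff a).mpr ha, map_zero]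
    exact hle hx
  let F : HomOver (algebraMap A A') ((algebraMap (ResidueField A) Ω).comp (residue A)) →
      ((A' ⧸ I) →ₐ[ResidueField A] Ω) := fun χ =>
    { Ideal.Quotient.lift I χ.1 (hχ χ) with
      commutes' := fun k => by
        obtain ⟨a, rfl⟩ := residue_surjective k
        show Ideal.Quotient.lift I χ.1 (hχ χ) (algebraMap (ResidueField A) (A' ⧸ I) (residue A a))
          = algebraMap (ResidueField A) Ω (residue A a)
        rw [hφκ, Ideal.Quotient.lift_mk]
        exact RingHom.congr_fun χ.2 a }
  have hF : ∀ χ x, F χ (Ideal.Quotient.mk I x) = χ.1 x := fun χ x => rfl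
  have hFinj : Function.Injective F := by
    intro χ₁ χ₂ h12
    apply Subtype.ext
    ext x
    rw [← hF χ₁ x, ← hF χ₂ x, h12]
  have hcard : ENat.card (HomOver (algebraMap A A')
      ((algebraMap (ResidueField A) Ω).comp (residue A)))
      ≤ ENat.card ((A' ⧸ I) →ₐ[ResidueField A] Ω) := ENat.card_le_card_of_injective hFinj
  refine hcard.trans ?_
  rw [ENat.card_eq_coe_natCard,
    Module.length_eq_of_surjective (S := A) (R := ResidueField A) (M := A' ⧸ I)
      (by rw [ResidueField.algebraMap_eq]; exact residue_surjective),
    Module.length_eq_finrank]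
  exact_mod_cast card_algHom_le_finrank (ResidueField A) (A' ⧸ I) Ω

end Length


/-- Let (A, m) be a reduced Nagata local ring of dimension one. Then the δ-invariant of A is at least
the number of geometric branches of A minus one. -/
theorem result (A : Type u) [CommRing A] [IsLocalRing A]
    [IsReduced A] (hN : CAlg.IsNagata A) (hdim : ringKrullDim A = 1) :
    Brnch.numGeomBranches A ≤ Curv2.deltaInv A + 1 := by
  classical
  have hNoeth : IsNoetherianRing A := hN.1
  have hfin : (minimalPrimes A).Finite := minimalPrimes.finite_of_isNoetherianRing A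
  by_cases hδ : Curv2.deltaInv A = ⊤
  · rw [hδ, top_add]; exact le_top
  unfold Curv2.deltaInv at hδ ⊢
  have hflen := Module.length_ne_top_iff.mp hδ
  haveI hQfin : Module.Finite A (↥(integralClosure A (FractionRing A)) ⧸
      LinearMap.range (Algebra.linearMap A ↥(integralClosure A (FractionRing A)))) := by
    haveI := (isFiniteLength_iff_isNoetherian_isArtinian.mp hflen).1
    infer_instance
  haveI hA'fin : Module.Finite A ↥(integralClosure A (FractionRing A)) :=
    Module.Finite.of_submodule_quotient
      (LinearMap.range (Algebra.linearMap A ↥(integralClosure A (FractionRing A))))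
  have h1 : Brnch.numGeomBranches A = ENat.card (HomOver (fA A) (Brnch.toClosure A)) := by
    unfold Brnch.numGeomBranches
    rw [if_pos hfin]
    exact card_sigma_emb A
  have hεinj : Function.Injective (Ideal.Quotient.mk (nilradical A)) := by
    rw [RingHom.injective_iff_ker_eq_bot, Ideal.mk_ker, nilradical_eq_zero, Ideal.zero_eq_bot]
  let ε : A ≃+* CAlg2.red A :=
    RingEquiv.ofBijective (Ideal.Quotient.mk (nilradical A)) ⟨hεinj, Ideal.Quotient.mk_surjective⟩
  let E : integralClosure A (FractionRing A) ≃+* CAlg2.normRed A := icEquiv ε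
  have hE : ∀ a : A, E (algebraMap A (integralClosure A (FractionRing A)) a) = fA A a := by
    intro a
    show icEquiv ε (algebraMap A (integralClosure A (FractionRing A)) a) = fA A a
    rw [icEquiv_algebraMap]
    rfl
  have hcomp : ((E.symm : CAlg2.normRed A ≃+* integralClosure A (FractionRing A)) :
      CAlg2.normRed A →+* integralClosure A (FractionRing A)).comp (fA A)
      = algebraMap A (integralClosure A (FractionRing A)) := by
    refine RingHom.ext fun a => ?_
    rw [RingHom.comp_apply, ← hE a]
    exact E.symm_apply_apply _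
  have h2 : ENat.card (HomOver (fA A) (Brnch.toClosure A)) =
      ENat.card (HomOver (algebraMap A (integralClosure A (FractionRing A)))
        (Brnch.toClosure A)) := by
    rw [← hcomp]
    exact ENat.card_congr (homOverCongr E.symm (fA A) (Brnch.toClosure A))
  rw [h1, h2]
  exact (card_homOver_le_length (A := A) (A' := ↥(integralClosure A (FractionRing A)))
    (Ω := AlgebraicClosure (ResidueField A))).trans length_quotient_le

end Groth.Agent.S7655
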