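import Groth.Statements.S12463
import Groth.Agent.S7652
import Groth.Agent.S7651
import Groth.Agent.S7655
import Groth.Agent.S4861
import Groth.Agent.Lib.BrnchSum98
import Groth.Agent.Lib.TotalFrac

set_option autoImplicit false
universe u
open Variety

namespace Groth.Agent.S12463

open IsLocalRing Groth.Agent.Lib.BrnchSum98

set_option maxHeartbeats 400000

section Field

variable {κ : Type*} [Field κ] {B : Type*} [CommRing B] [Algebra κ B] [Module.Finite κ B]
  {Ω : Type*} [Field Ω] [Algebra κ Ω]

theorem ker_isMaximal (σ : B →ₐ[κ] Ω) : (RingHom.ker (σ : B →+* Ω)).IsMaximal := by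
  haveI : IsArtinianRing B := IsArtinianRing.of_finite κ B
  haveI : (RingHom.ker (σ : B →+* Ω)).IsPrime := RingHom.ker_isPrime _
  exact IsArtinianRing.isMaximal_of_isPrime _

theorem eq_zero_of_forall_algHom (hcard : Nat.card (B →ₐ[κ] Ω) = Module.finrank κ B) (b : B)
    (hb : ∀ σ : B →ₐ[κ] Ω, σ b = 0) : b = 0 := by
  classical
  haveI : Fintype (B →ₐ[κ] Ω) := Fintype.ofFinite _
  have hli := linearIndependent_algHom_toLinearMap κ B Ω
  have hfr : Module.finrank Ω (B →ₗ[κ] Ω) = Module.finrank κ B :=
    Module.finrank_linearMap_self κ Ω B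
  have hspan : Submodule.span Ω
      (Set.range (AlgHom.toLinearMap : (B →ₐ[κ] Ω) → B →ₗ[κ] Ω)) = ⊤ :=
    hli.span_eq_top_of_card_eq_finrank' (by rw [hfr, ← hcard, Nat.card_eq_fintype_card])
  have hall : ∀ φ : B →ₗ[κ] Ω, φ b = 0 := by
    intro φ
    have hφ : φ ∈ Submodule.span Ω
        (Set.range (AlgHom.toLinearMap : (B →ₐ[κ] Ω) → B →ₗ[κ] Ω)) := by
      rw [hspan]; trivial
    induction hφ using Submodule.span_induction with
    | mem x hx => obtain ⟨σ, rfl⟩ := hx; exact hb σ
    | zero => rfl
    | add x y _ _ hx hy => rw [LinearMap.add_apply, hx, hy, add_zero]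
    | smul c x _ hx => rw [LinearMap.smul_apply, hx, smul_zero]
  rw [← Module.forall_dual_apply_eq_zero_iff κ b]
  intro f
  have h1 := hall ((Algebra.linearMap κ Ω).comp f)
  rw [LinearMap.comp_apply, Algebra.linearMap_apply] at h1
  exact (algebraMap κ Ω).injective (by rw [h1, map_zero])

theorem ker_injective [IsSepClosed κ] (σ σ' : B →ₐ[κ] Ω)
    (h : RingHom.ker (σ : B →+* Ω) = RingHom.ker (σ' : B →+* Ω)) : σ = σ' := by
  haveI hmax0 := ker_isMaximal σ
  obtain ⟨n, hn⟩ : ∃ n : Ideal B, n = RingHom.ker (σ : B →+* Ω) := ⟨_, rfl⟩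
  rw [← hn] at h hmax0
  haveI hmax : n.IsMaximal := hmax0
  letI : Field (B ⧸ n) := Ideal.Quotient.field n
  haveI : Algebra.IsAlgebraic κ (B ⧸ n) := Algebra.IsAlgebraic.of_finite κ (B ⧸ n)
  haveI : IsPurelyInseparable κ (B ⧸ n) := inferInstance
  let τ : (B ⧸ n) →+* Ω := Ideal.Quotient.lift n (σ : B →+* Ω)
    (fun x hx => by rw [hn] at hx; exact hx)
  let τ' : (B ⧸ n) →+* Ω := Ideal.Quotient.lift n (σ' : B →+* Ω)
    (fun x hx => by rw [h] at hx; exact hx)
  have heq : τ.comp (algebraMap κ (B ⧸ n)) = τ'.comp (algebraMap κ (B ⧸ n)) := by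
    ext c
    show τ (Ideal.Quotient.mk n (algebraMap κ B c)) = τ' (Ideal.Quotient.mk n (algebraMap κ B c))
    show σ (algebraMap κ B c) = σ' (algebraMap κ B c)
    rw [σ.commutes, σ'.commutes]
  have hττ' : τ = τ' := IsPurelyInseparable.injective_comp_algebraMap κ (B ⧸ n) Ω heq
  ext x
  exact RingHom.congr_fun hττ' (Ideal.Quotient.mk n x)

theorem exists_sub_mem_of_card_eq [IsSepClosed κ]
    (hcard : Nat.card (B →ₐ[κ] Ω) = Module.finrank κ B)
    (n : Ideal B) (hn : n.IsMaximal) (b : B) : ∃ c : κ, b - algebraMap κ B c ∈ n := by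
  classical
  haveI : IsArtinianRing B := IsArtinianRing.of_finite κ B
  haveI : Fintype (MaximalSpectrum B) := Fintype.ofFinite _
  haveI : Fintype (B →ₐ[κ] Ω) := Fintype.ofFinite _
  have hk : Function.Injective (fun σ : B →ₐ[κ] Ω =>
      (⟨RingHom.ker (σ : B →+* Ω), ker_isMaximal σ⟩ : MaximalSpectrum B)) := by
    intro σ σ' h
    exact ker_injective σ σ' (congrArg MaximalSpectrum.asIdeal h)
  have hcardle : Module.finrank κ B ≤ Fintype.card (MaximalSpectrum B) := by
    rw [← hcard, Nat.card_eq_fintype_card]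
    exact Fintype.card_le_of_injective _ hk
  let ψ : B →ₗ[κ] (∀ n : MaximalSpectrum B, B ⧸ n.asIdeal) :=
    LinearMap.pi (fun n => (Ideal.Quotient.mkₐ κ n.asIdeal).toLinearMap)
  have hψ : Function.Surjective ψ := by
    intro y
    choose x hx using fun n => Ideal.Quotient.mk_surjective (y n)
    obtain ⟨r, hr⟩ := Ideal.exists_forall_sub_mem_ideal
      (I := fun n : MaximalSpectrum B => n.asIdeal)
      (fun n n' hne => Ideal.isCoprime_of_isMaximal (MaximalSpectrum.ext_iff.ne.mp hne)) x
    refine ⟨r, funext fun n => ?_⟩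
    show Ideal.Quotient.mk n.asIdeal r = y n
    rw [← hx n]
    exact Ideal.Quotient.eq.mpr (hr n)
  have hsum : ∑ n : MaximalSpectrum B, Module.finrank κ (B ⧸ n.asIdeal) ≤ Module.finrank κ B := by
    rw [← Module.finrank_pi_fintype κ]
    exact LinearMap.finrank_le_finrank_of_surjective hψ
  have hpos : ∀ n : MaximalSpectrum B, 1 ≤ Module.finrank κ (B ⧸ n.asIdeal) := by
    intro n
    haveI : Nontrivial (B ⧸ n.asIdeal) := Ideal.Quotient.nontrivial_iff.mpr n.isMaximal.ne_top
    exact Module.finrank_pos
  have hone : ∀ n : MaximalSpectrum B, Module.finrank κ (B ⧸ n.asIdeal) = 1 := by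
    have hs : ∑ _n : MaximalSpectrum B, (1 : ℕ) =
        ∑ n : MaximalSpectrum B, Module.finrank κ (B ⧸ n.asIdeal) := by
      apply le_antisymm
      · exact Finset.sum_le_sum fun n _ => hpos n
      · rw [Finset.sum_const, Finset.card_univ, smul_eq_mul, mul_one]
        exact hsum.trans hcardle
    intro n
    exact ((Finset.sum_eq_sum_iff_of_le fun n _ => hpos n).mp hs n (Finset.mem_univ n)).symm
  have h1 := hone ⟨n, hn⟩
  haveI : Nontrivial (B ⧸ n) := Ideal.Quotient.nontrivial_iff.mpr hn.ne_top
  obtain ⟨c, hc⟩ := (finrank_eq_one_iff_of_nonzero' (1 : B ⧸ n) one_ne_zero).mp h1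
    (Ideal.Quotient.mk n b)
  refine ⟨c, Ideal.Quotient.eq.mp ?_⟩
  rw [← hc, Algebra.smul_def, mul_one]
  rfl

end Field

theorem enat_aux (δ l1 l2 k : ℕ∞) (hδ : δ ≠ ⊤) (h1 : l1 ≤ 1) (hk : δ = k + l2)
    (heq : δ + 1 ≤ l1 + l2) : k = 0 := by
  have hl2 : l2 ≠ ⊤ := fun h => hδ (by rw [hk, h, add_top])
  have hk' : k ≠ ⊤ := fun h => hδ (by rw [hk, h, top_add])
  have hl1 : l1 ≠ ⊤ := ne_top_of_le_ne_top (by simp) h1
  lift δ to ℕ using hδ
  lift l1 to ℕ using hl1
  lift l2 to ℕ using hl2
  lift k to ℕ using hk'
  norm_cast at *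
  omega

section Length

variable {A : Type*} [CommRing A] [IsLocalRing A] {A' : Type*} [CommRing A'] [Algebra A A']

theorem mem_range_of_length_le
    (hfin : Module.length A (A' ⧸ LinearMap.range (Algebra.linearMap A A')) ≠ ⊤)
    (hle : Module.length A (A' ⧸ LinearMap.range (Algebra.linearMap A A')) + 1 ≤
      Module.length A (A' ⧸ (maximalIdeal A).map (algebraMap A A')))
    (x : A') (hx : x ∈ (maximalIdeal A).map (algebraMap A A')) :
    x ∈ (algebraMap A A').range := by
  set I := (maximalIdeal A).map (algebraMap A A') with hI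
  let h : A →ₗ[A] (A' ⧸ I) := Algebra.linearMap A (A' ⧸ I)
  have hh : ∀ a : A, h a = Ideal.Quotient.mk I (algebraMap A A' a) := fun a => rfl
  have hker : (maximalIdeal A : Submodule A A) ≤ LinearMap.ker h := by
    intro a ha
    rw [LinearMap.mem_ker, hh, Ideal.Quotient.eq_zero_iff_mem]
    exact Ideal.mem_map_of_mem _ ha
  have hsimple : IsSimpleModule A (A ⧸ maximalIdeal A) :=
    isSimpleModule_iff_quot_maximal.mpr ⟨maximalIdeal A, inferInstance, ⟨LinearEquiv.refl A _⟩⟩
  have h1 : Module.length A (LinearMap.range h) ≤ 1 := by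
    have hr : LinearMap.range (Submodule.liftQ (maximalIdeal A) h hker) = LinearMap.range h :=
      Submodule.range_liftQ _ _ _
    rw [← hr]
    calc Module.length A (LinearMap.range (Submodule.liftQ (maximalIdeal A) h hker))
        ≤ Module.length A (A ⧸ maximalIdeal A) :=
          Module.length_le_of_surjective (Submodule.liftQ (maximalIdeal A) h hker).rangeRestrict
            (LinearMap.surjective_rangeRestrict _)
      _ = 1 := Module.length_eq_one A _
  let π : A' →ₗ[A] (A' ⧸ I) := (Ideal.Quotient.mkₐ A I).toLinearMap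
  have hπ : ∀ x : A', π x = Ideal.Quotient.mk I x := fun x => rfl
  let g : A' →ₗ[A] ((A' ⧸ I) ⧸ LinearMap.range h) := (LinearMap.range h).mkQ ∘ₗ π
  have hg : LinearMap.range (Algebra.linearMap A A') ≤ LinearMap.ker g := by
    rintro _ ⟨a, rfl⟩
    rw [LinearMap.mem_ker]
    show (LinearMap.range h).mkQ (π (Algebra.linearMap A A' a)) = 0
    rw [Submodule.mkQ_apply, Submodule.Quotient.mk_eq_zero]
    exact ⟨a, rfl⟩
  have hgs : Function.Surjective g :=
    (Submodule.mkQ_surjective _).comp (Ideal.Quotient.mkₐ_surjective A I)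
  let ψ : (A' ⧸ LinearMap.range (Algebra.linearMap A A')) →ₗ[A]
      ((A' ⧸ I) ⧸ LinearMap.range h) :=
    Submodule.liftQ (LinearMap.range (Algebra.linearMap A A')) g hg
  have hψs : Function.Surjective ψ := by
    rw [← LinearMap.range_eq_top, Submodule.range_liftQ, LinearMap.range_eq_top]
    exact hgs
  have hadd : Module.length A (A' ⧸ I) =
      Module.length A (LinearMap.range h) + Module.length A ((A' ⧸ I) ⧸ LinearMap.range h) :=
    Module.length_eq_add_of_exact (LinearMap.range h).subtype (LinearMap.range h).mkQ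
      (Submodule.subtype_injective _) (Submodule.mkQ_surjective _)
      (LinearMap.exact_subtype_mkQ _)
  have hk : Module.length A (A' ⧸ LinearMap.range (Algebra.linearMap A A')) =
      Module.length A (LinearMap.ker ψ) + Module.length A ((A' ⧸ I) ⧸ LinearMap.range h) :=
    Module.length_eq_add_of_exact (LinearMap.ker ψ).subtype ψ
      (Submodule.subtype_injective _) hψs (LinearMap.exact_subtype_ker_map ψ)
  have hzero : Module.length A (LinearMap.ker ψ) = 0 :=
    enat_aux _ _ _ _ hfin h1 hk (by rw [← hadd]; exact hle)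
  have hsub : Subsingleton (LinearMap.ker ψ) := Module.length_eq_zero_iff.mp hzero
  have hxk : (Submodule.Quotient.mk x : A' ⧸ LinearMap.range (Algebra.linearMap A A')) ∈
      LinearMap.ker ψ := by
    rw [LinearMap.mem_ker]
    show (LinearMap.range h).mkQ (π x) = 0
    rw [hπ, (Ideal.Quotient.eq_zero_iff_mem).mpr hx, map_zero]
  have h0 : (⟨_, hxk⟩ : LinearMap.ker ψ) = 0 := Subsingleton.elim _ _
  have h0' : (Submodule.Quotient.mk x : A' ⧸ LinearMap.range (Algebra.linearMap A A')) = 0 :=
    congrArg Subtype.val h0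
  rw [Submodule.Quotient.mk_eq_zero] at h0'
  obtain ⟨a, ha⟩ := h0'
  exact ⟨a, ha⟩

end Length

section Main

variable {A : Type*} [CommRing A] [IsLocalRing A] [IsSepClosed (ResidueField A)]
  {A' : Type*} [CommRing A'] [Algebra A A'] [Module.Finite A A']
  {Ω : Type*} [Field Ω] [Algebra (ResidueField A) Ω]

theorem main_aux
    (hfin : Module.length A (A' ⧸ LinearMap.range (Algebra.linearMap A A')) ≠ ⊤)
    (hle : Module.length A (A' ⧸ LinearMap.range (Algebra.linearMap A A')) + 1 ≤
      ENat.card (HomOver (algebraMap A A') ((algebraMap (ResidueField A) Ω).comp (residue A)))) :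
    (∀ x ∈ (maximalIdeal A).map (algebraMap A A'), x ∈ (algebraMap A A').range) ∧
    (∀ m' : Ideal A', m'.IsMaximal → (maximalIdeal A).map (algebraMap A A') ≤ m' →
      ∀ x : A', ∃ a : A, x - algebraMap A A' a ∈ m') ∧
    (∀ b : A', (∀ m' : Ideal A', m'.IsMaximal → b ∈ m') →
      b ∈ (maximalIdeal A).map (algebraMap A A')) := by
  set I := (maximalIdeal A).map (algebraMap A A') with hI
  let φκ : ResidueField A →+* A' ⧸ I :=
    Ideal.Quotient.lift (maximalIdeal A) ((Ideal.Quotient.mk I).comp (algebraMap A A'))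
      (fun a ha => by
        rw [RingHom.comp_apply, Ideal.Quotient.eq_zero_iff_mem]
        exact Ideal.mem_map_of_mem _ ha)
  letI algκ : Algebra (ResidueField A) (A' ⧸ I) := φκ.toAlgebra
  have hφκ : ∀ a : A, algebraMap (ResidueField A) (A' ⧸ I) (residue A a)
      = Ideal.Quotient.mk I (algebraMap A A' a) := fun a => rfl
  haveI tower : IsScalarTower A (ResidueField A) (A' ⧸ I) :=
    IsScalarTower.of_algebraMap_eq (fun a => by
      rw [ResidueField.algebraMap_eq, hφκ]; rfl)
  haveI hfinA : Module.Finite A (A' ⧸ I) := inferInstance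
  haveI hfinκ : Module.Finite (ResidueField A) (A' ⧸ I) :=
    Module.Finite.of_restrictScalars_finite A _ _
  have hχ : ∀ χ : HomOver (algebraMap A A') ((algebraMap (ResidueField A) Ω).comp (residue A)),
      ∀ x ∈ I, χ.1 x = 0 := by
    intro χ x hx
    have hle' : I ≤ RingHom.ker χ.1 := by
      rw [hI, Ideal.map_le_iff_le_comap]
      intro a ha
      rw [Ideal.mem_comap, RingHom.mem_ker]
      have h3 := RingHom.congr_fun χ.2 a
      rw [RingHom.comp_apply] at h3
      rw [h3, RingHom.comp_apply, (residue_eq_zero_iff a).mpr ha, map_zero]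
    exact hle' hx
  let F : HomOver (algebraMap A A') ((algebraMap (ResidueField A) Ω).comp (residue A)) →
      ((A' ⧸ I) →ₐ[ResidueField A] Ω) := fun χ =>
    { Ideal.Quotient.lift I χ.1 (hχ χ) with
      commutes' := fun k => by
        obtain ⟨a, rfl⟩ := residue_surjective k
        show Ideal.Quotient.lift I χ.1 (hχ χ) (algebraMap (ResidueField A) (A' ⧸ I) (residue A a))
          = algebraMap (ResidueField A) Ω (residue A a)
        rw [hφκ, Ideal.Quotient.lift_mk]
        exact RingHom.congr_fun χ.2 a }
  have hF : ∀ χ x, F χ (Ideal.Quotient.mk I x) = χ.1 x := fun χ x => rfl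
  have hFinj : Function.Injective F := by
    intro χ₁ χ₂ h12
    apply Subtype.ext
    ext x
    rw [← hF χ₁ x, ← hF χ₂ x, h12]
  have hc1 : ENat.card (HomOver (algebraMap A A')
      ((algebraMap (ResidueField A) Ω).comp (residue A)))
      ≤ ENat.card ((A' ⧸ I) →ₐ[ResidueField A] Ω) := ENat.card_le_card_of_injective hFinj
  have hlen : Module.length A (A' ⧸ I) =
      (Module.finrank (ResidueField A) (A' ⧸ I) : ℕ∞) := by
    rw [Module.length_eq_of_surjective (S := A) (R := ResidueField A) (M := A' ⧸ I)
      (by rw [ResidueField.algebraMap_eq]; exact residue_surjective), Module.length_eq_finrank]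
  have hc2 : Nat.card ((A' ⧸ I) →ₐ[ResidueField A] Ω) ≤
      Module.finrank (ResidueField A) (A' ⧸ I) :=
    card_algHom_le_finrank (ResidueField A) (A' ⧸ I) Ω
  have hc3 : Module.length A (A' ⧸ I) ≤
      Module.length A (A' ⧸ LinearMap.range (Algebra.linearMap A A')) + 1 :=
    Groth.Agent.S7655.length_quotient_le
  have hcardeq : Nat.card ((A' ⧸ I) →ₐ[ResidueField A] Ω) =
      Module.finrank (ResidueField A) (A' ⧸ I) := by
    refine le_antisymm hc2 ?_
    have h5 : (Module.finrank (ResidueField A) (A' ⧸ I) : ℕ∞) ≤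
        (Nat.card ((A' ⧸ I) →ₐ[ResidueField A] Ω) : ℕ∞) := by
      rw [← hlen, ← ENat.card_eq_coe_natCard]
      exact hc3.trans (hle.trans hc1)
    exact_mod_cast h5
  have hlenge : Module.length A (A' ⧸ LinearMap.range (Algebra.linearMap A A')) + 1 ≤
      Module.length A (A' ⧸ I) := by
    rw [hlen]
    refine (hle.trans hc1).trans ?_
    rw [ENat.card_eq_coe_natCard]
    exact_mod_cast hc2
  refine ⟨fun x hx => mem_range_of_length_le hfin hlenge x hx, ?_, ?_⟩
  · intro m' hm' hIm' x
    have hn : (m'.map (Ideal.Quotient.mk I)).IsMaximal := by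
      refine (Ideal.map_eq_top_or_isMaximal_of_surjective _
        Ideal.Quotient.mk_surjective hm').resolve_left ?_
      intro htop
      have h1 : (1 : A' ⧸ I) ∈ m'.map (Ideal.Quotient.mk I) := by rw [htop]; trivial
      obtain ⟨y, hy, hy1⟩ := (Ideal.mem_map_iff_of_surjective (Ideal.Quotient.mk I)
        Ideal.Quotient.mk_surjective).mp h1
      have h2 : y - 1 ∈ I := Ideal.Quotient.eq.mp (by rw [hy1, map_one])
      have h3 := m'.sub_mem hy (hIm' h2)
      rw [sub_sub_cancel] at h3
      exact hm'.ne_top ((Ideal.eq_top_iff_one _).mpr h3)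
    obtain ⟨c, hc⟩ := exists_sub_mem_of_card_eq hcardeq _ hn (Ideal.Quotient.mk I x)
    obtain ⟨a, rfl⟩ := residue_surjective c
    refine ⟨a, ?_⟩
    rw [hφκ, ← map_sub] at hc
    obtain ⟨y, hy, hyx⟩ := (Ideal.mem_map_iff_of_surjective (Ideal.Quotient.mk I)
      Ideal.Quotient.mk_surjective).mp hc
    have h2 : y - (x - algebraMap A A' a) ∈ I := Ideal.Quotient.eq.mp hyx
    have h3 := m'.sub_mem hy (hIm' h2)
    rw [sub_sub_cancel] at h3
    exact h3
  · intro b hb
    rw [← Ideal.Quotient.eq_zero_iff_mem]
    apply eq_zero_of_forall_algHom hcardeq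
    intro σ
    haveI := ker_isMaximal σ
    have hm' : ((RingHom.ker (σ : (A' ⧸ I) →+* Ω)).comap (Ideal.Quotient.mk I)).IsMaximal :=
      Ideal.comap_isMaximal_of_surjective (Ideal.Quotient.mk I) Ideal.Quotient.mk_surjective
    have h4 := hb _ hm'
    rw [Ideal.mem_comap, RingHom.mem_ker] at h4
    exact h4

theorem residue_surjective_of_forall {R : Type*} [CommRing R] (p : Ideal R) [hp : p.IsMaximal]
    {A : Type*} [CommRing A] [Algebra A R]
    (h : ∀ x : R, ∃ a : A, x - algebraMap A R a ∈ p) :
    Function.Surjective (⇑(IsLocalRing.residue (Localization.AtPrime p)) ∘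
      ⇑(algebraMap R (Localization.AtPrime p)) ∘ ⇑(algebraMap A R)) := by
  intro z
  obtain ⟨y, rfl⟩ := IsLocalRing.residue_surjective z
  obtain ⟨x, s, rfl⟩ := IsLocalization.exists_mk'_eq p.primeCompl y
  obtain ⟨t, i, hi, hti⟩ := hp.exists_inv (Ideal.mem_primeCompl_iff.mp s.2)
  obtain ⟨a, ha⟩ := h (x * t)
  refine ⟨a, ?_⟩
  simp only [Function.comp_apply]
  rw [← sub_eq_zero, ← map_sub, IsLocalRing.residue_eq_zero_iff]
  have hsR : algebraMap R (Localization.AtPrime p) (s : R) ∉
      maximalIdeal (Localization.AtPrime p) := by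
    rw [IsLocalization.AtPrime.to_map_mem_maximal_iff _ p]
    exact Ideal.mem_primeCompl_iff.mp s.2
  refine ((inferInstance : (maximalIdeal (Localization.AtPrime p)).IsPrime).mem_or_mem
    ?_).resolve_right hsR
  rw [sub_mul, IsLocalization.mk'_spec, ← map_mul, ← map_sub,
    IsLocalization.AtPrime.to_map_mem_maximal_iff _ p]
  have h8 : algebraMap A R a * (s : R) - x
      = -((x * t - algebraMap A R a) * (s : R)) - x * i := by
    linear_combination x * hti
  rw [h8]
  exact p.sub_mem (p.neg_mem (p.mul_mem_right _ ha)) (p.mul_mem_left _ hi)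

end Main

set_option maxHeartbeats 1600000


/-- Let (A, m) be a strictly henselian reduced Nagata local ring of dimension one with δ-invariant equal
to the number of geometric branches minus one, and A' the integral closure of A in its total ring of
fractions. Then A is a wedge of discrete valuation rings: for every maximal ideal m' of A' the
localization A'_{m'} is a discrete valuation ring whose residue field is the image of A, and A
consists exactly of the elements of A' congruent to an element of A modulo every maximal ideal of A'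
(the displayed inclusion; the reverse inclusion is trivial). (The inequality δ ≥ branches − 1 of the
published statement holds for every reduced Nagata local ring of dimension one and is not restated.) -/
theorem result (A : Type u) [CommRing A] [HenselianLocalRing A]
    [IsSepClosed (IsLocalRing.ResidueField A)] [IsReduced A] (hN : CAlg.IsNagata A) (hdim : ringKrullDim A = 1)
    (heq : Curv2.deltaInv A + 1 = Brnch.numGeomBranches A) :
    (∀ m' : MaximalSpectrum ↥(integralClosure A (FractionRing A)),
        (∃ _ : IsDomain (Localization.AtPrime m'.asIdeal), IsDiscreteValuationRing (Localization.AtPrime m'.asIdeal)) ∧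
        Function.Surjective (⇑(IsLocalRing.residue (Localization.AtPrime m'.asIdeal)) ∘
          ⇑(algebraMap ↥(integralClosure A (FractionRing A)) (Localization.AtPrime m'.asIdeal)) ∘
          ⇑(algebraMap A ↥(integralClosure A (FractionRing A))))) ∧
    ∀ a' : ↥(integralClosure A (FractionRing A)),
      (∃ a : A, ∀ m' : MaximalSpectrum ↥(integralClosure A (FractionRing A)),
          a' - algebraMap A _ a ∈ m'.asIdeal) →
      a' ∈ (algebraMap A ↥(integralClosure A (FractionRing A))).range := by
  classical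
  have hNoeth : IsNoetherianRing A := hN.1
  have hfinmin : (minimalPrimes A).Finite := minimalPrimes.finite_of_isNoetherianRing A
  obtain ⟨hA'fin, hnorm, hδlt⟩ := Groth.Agent.S7652.result A hN hdim
  haveI := hA'fin
  haveI hint : Algebra.IsIntegral A ↥(integralClosure A (FractionRing A)) :=
    Algebra.IsIntegral.of_finite A _
  have h1 : Brnch.numGeomBranches A = ENat.card (HomOver (fA A) (Brnch.toClosure A)) := by
    unfold Brnch.numGeomBranches
    rw [if_pos hfinmin]
    exact card_sigma_emb A
  have hεinj : Function.Injective (Ideal.Quotient.mk (nilradical A)) := by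
    rw [RingHom.injective_iff_ker_eq_bot, Ideal.mk_ker, nilradical_eq_zero, Ideal.zero_eq_bot]
  let ε : A ≃+* CAlg2.red A :=
    RingEquiv.ofBijective (Ideal.Quotient.mk (nilradical A)) ⟨hεinj, Ideal.Quotient.mk_surjective⟩
  let E : integralClosure A (FractionRing A) ≃+* CAlg2.normRed A := icEquiv ε
  have hE : ∀ a : A, E (algebraMap A (integralClosure A (FractionRing A)) a) = fA A a := by
    intro a
    show icEquiv ε (algebraMap A (integralClosure A (FractionRing A)) a) = fA A a
    rw [icEquiv_algebraMap]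
    rfl
  have hcomp : ((E.symm : CAlg2.normRed A ≃+* integralClosure A (FractionRing A)) :
      CAlg2.normRed A →+* integralClosure A (FractionRing A)).comp (fA A)
      = algebraMap A (integralClosure A (FractionRing A)) := by
    refine RingHom.ext fun a => ?_
    rw [RingHom.comp_apply, ← hE a]
    exact E.symm_apply_apply _
  have h2 : ENat.card (HomOver (fA A) (Brnch.toClosure A)) =
      ENat.card (HomOver (algebraMap A (integralClosure A (FractionRing A)))
        (Brnch.toClosure A)) := by
    rw [← hcomp]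
    exact ENat.card_congr (homOverCongr E.symm (fA A) (Brnch.toClosure A))
  have hfinlen : Module.length A (↥(integralClosure A (FractionRing A)) ⧸
      LinearMap.range (Algebra.linearMap A ↥(integralClosure A (FractionRing A)))) ≠ ⊤ :=
    hδlt.ne
  have hle : Module.length A (↥(integralClosure A (FractionRing A)) ⧸
      LinearMap.range (Algebra.linearMap A ↥(integralClosure A (FractionRing A)))) + 1 ≤
      ENat.card (HomOver (algebraMap A (integralClosure A (FractionRing A)))
        (Brnch.toClosure A)) := by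
    rw [← h2, ← h1]
    exact heq.le
  obtain ⟨hC1, hC2, hC3⟩ := main_aux (A := A) (A' := ↥(integralClosure A (FractionRing A)))
    (Ω := AlgebraicClosure (ResidueField A)) hfinlen hle
  have hIm : ∀ m' : MaximalSpectrum ↥(integralClosure A (FractionRing A)),
      (maximalIdeal A).map (algebraMap A ↥(integralClosure A (FractionRing A))) ≤ m'.asIdeal := by
    intro m'
    rw [Ideal.map_le_iff_le_comap]
    have hmax : (m'.asIdeal.comap (algebraMap A ↥(integralClosure A (FractionRing A)))).IsMaximal :=
      Ideal.isMaximal_comap_of_isIntegral_of_isMaximal m'.asIdeal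
    exact (IsLocalRing.eq_maximalIdeal hmax).ge
  have hdimA' : ringKrullDim ↥(integralClosure A (FractionRing A)) ≤ ringKrullDim A :=
    Order.krullDim_le_of_strictMono
      (fun I : PrimeSpectrum ↥(integralClosure A (FractionRing A)) =>
        (⟨Ideal.comap (algebraMap A ↥(integralClosure A (FractionRing A))) I.asIdeal,
          inferInstance⟩ : PrimeSpectrum A))
      (fun I J hIJ => by
        have : I.asIdeal < J.asIdeal := hIJ
        exact Ideal.IsIntegral.comap_lt_comap (R := A) this)
  haveI hNoethA' : IsNoetherianRing ↥(integralClosure A (FractionRing A)) :=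
    Algebra.FiniteType.isNoetherianRing A _
  refine ⟨fun m' => ⟨?_, ?_⟩, ?_⟩
  · obtain ⟨hdomR, hicR⟩ := hnorm ⟨m'.asIdeal, m'.isMaximal.isPrime⟩
    refine ⟨hdomR, ?_⟩
    haveI : IsNoetherianRing (Localization.AtPrime m'.asIdeal) :=
      IsLocalization.isNoetherianRing m'.asIdeal.primeCompl _ inferInstance
    obtain ⟨f, hfm, hfmin⟩ := Groth.Agent.S7651.exists_avoid hdim
    have hfreg : f ∈ nonZeroDivisors A :=
      Groth.Agent.Lib.TotalFrac.mem_nonZeroDivisors_iff_forall_notMem.mpr
        (fun q => hfmin q.1 q.2)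
    have hfR_mem : algebraMap ↥(integralClosure A (FractionRing A))
        (Localization.AtPrime m'.asIdeal)
        (algebraMap A ↥(integralClosure A (FractionRing A)) f) ∈
        maximalIdeal (Localization.AtPrime m'.asIdeal) :=
      (IsLocalization.AtPrime.to_map_mem_maximal_iff _ m'.asIdeal _).mpr
        (hIm m' (Ideal.mem_map_of_mem _ hfm))
    have hfR_ne : algebraMap ↥(integralClosure A (FractionRing A))
        (Localization.AtPrime m'.asIdeal)
        (algebraMap A ↥(integralClosure A (FractionRing A)) f) ≠ 0 := by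
      intro h0
      rw [IsLocalization.map_eq_zero_iff m'.asIdeal.primeCompl] at h0
      obtain ⟨s, hs⟩ := h0
      have hunit : IsUnit (algebraMap A (FractionRing A) f) :=
        IsLocalization.map_units (FractionRing A) (⟨f, hfreg⟩ : nonZeroDivisors A)
      have hs' : ((s : ↥(integralClosure A (FractionRing A))) : FractionRing A) *
          algebraMap A (FractionRing A) f = 0 := by
        have h5 := congrArg Subtype.val hs
        exact h5
      have h6 : ((s : ↥(integralClosure A (FractionRing A))) : FractionRing A) = 0 :=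
        hunit.mul_left_eq_zero.mp hs'
      have hs0 : (s : ↥(integralClosure A (FractionRing A))) = 0 := Subtype.ext h6
      exact s.2 (hs0 ▸ zero_mem _)
    have hnf : ¬ IsField (Localization.AtPrime m'.asIdeal) := by
      intro hf
      have h7 := IsLocalRing.isField_iff_maximalIdeal_eq.mp hf
      rw [h7] at hfR_mem
      exact hfR_ne ((Submodule.mem_bot _).mp hfR_mem)
    have hm0 : maximalIdeal (Localization.AtPrime m'.asIdeal) ≠ ⊥ :=
      fun h0 => hnf (IsLocalRing.isField_iff_maximalIdeal_eq.2 h0)
    have hdimR : ringKrullDim (Localization.AtPrime m'.asIdeal) ≤ 1 := by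
      rw [IsLocalization.AtPrime.ringKrullDim_eq_height m'.asIdeal (Localization.AtPrime m'.asIdeal)]
      exact ((Ideal.height_le_ringKrullDim_of_ne_top m'.isMaximal.ne_top).trans hdimA').trans
        hdim.le
    have huniq : ∃! P : Ideal (Localization.AtPrime m'.asIdeal), P ≠ ⊥ ∧ P.IsPrime := by
      refine ⟨maximalIdeal _, ⟨hm0, inferInstance⟩, ?_⟩
      rintro P ⟨hP0, hP⟩
      have := Groth.Agent.S4861.isMaximal_of_dim_le_one
        (B := Localization.AtPrime m'.asIdeal) hdimR P hP0
      exact IsLocalRing.eq_maximalIdeal this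
    have htfae := (IsDiscreteValuationRing.TFAE (Localization.AtPrime m'.asIdeal) hnf).out 3 0
    exact htfae.1 ⟨hicR, huniq⟩
  · exact residue_surjective_of_forall m'.asIdeal (fun x => hC2 m'.asIdeal m'.isMaximal (hIm m') x)
  · rintro a' ⟨a, ha⟩
    have hb : a' - algebraMap A _ a ∈
        (maximalIdeal A).map (algebraMap A ↥(integralClosure A (FractionRing A))) :=
      hC3 _ (fun m' hm' => ha ⟨m', hm'⟩)
    obtain ⟨a₀, ha₀⟩ := hC1 _ hb
    exact ⟨a₀ + a, by rw [map_add, ha₀]; ring⟩

end Groth.Agent.S12463
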