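import Groth.Statements.S1247
import Mathlib
import Groth.Agent.S1245
import Groth.Agent.Lib.PurityGen7

set_option autoImplicit false
universe u
open FlatMor

namespace Groth.Agent.S1247

section helpers

open scoped TensorProduct
open Groth.Agent.Lib.PurityBC7 Groth.Agent.Lib.PurityGen7

theorem prime_induction {R : Type u} [CommRing R] [IsNoetherianRing R]
    (C : ∀ (I : Ideal R) [I.IsPrime], Prop)
    (h : ∀ (I : Ideal R) [I.IsPrime], (∀ (J : Ideal R) [J.IsPrime], I < J → C J) → C I) :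
    ∀ (I : Ideal R) [I.IsPrime], C I := by
  intro I
  induction I using WellFoundedGT.induction with
  | ind I ih =>
    intro hI
    exact h I (fun J _ hlt => ih J hlt)

/-- the quasi-finite case. -/
theorem qf_case {A B : Type u} [CommRing A] [CommRing B] [Algebra A B] [Algebra.FiniteType A B]
    (N : Type u) [AddCommGroup N] [Module B N] (p : Ideal A) [p.IsPrime]
    (A' B' N' : Type u) [CommRing A'] [CommRing B'] [Algebra A A'] [Algebra B B'] [Algebra A' B']
    [Algebra A B'] [IsScalarTower A B B'] [IsScalarTower A A' B']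
    [AddCommGroup N'] [Module B' N'] [Module B N'] [IsScalarTower B B' N'] [Module A' N']
    [IsScalarTower A' B' N'] (f : N →ₗ[B] N') (t' t : Ideal A') [t'.IsPrime] [t.IsPrime]
    (P : Ideal B') [P.IsPrime] (himp : FlatCA.IsImpurity A B N p A' B' N' f t' t P)
    (hmax : (FlatCA.fiberIdeal p t).IsMaximal)
    (hex : ∀ (𝔯 : Ideal A') [𝔯.IsPrime], t' ≤ 𝔯 → 𝔯 < t → ¬ 𝔯.LiesOver p)
    (D : Type u) [CommRing D] [Algebra A' D] [Algebra A D] [IsScalarTower A A' D]
    [Algebra.FiniteType A D] (hsurj : Function.Surjective (algebraMap A' D))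
    (hker : RingHom.ker (algebraMap A' D) = t') :
    FlatCA.HasImpurity A B N p (fun A' _ _ t => ∃ _ : t.IsPrime,
      Algebra.FiniteType A A' ∧ Algebra.QuasiFiniteAt A t) := by
  have hle := himp.2.2.1
  haveI hover : t.LiesOver p := himp.2.2.2.1
  have hkert : RingHom.ker (algebraMap A' D) ≤ t := hker.le.trans hle
  have hc : ∀ J : Ideal A', t' ≤ J → (J.map (algebraMap A' D)).comap (algebraMap A' D) = J := by
    intro J hJ
    rw [Ideal.comap_map_of_surjective _ hsurj, ← RingHom.ker_eq_comap_bot, hker, sup_eq_left]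
    exact hJ
  haveI h𝔪prime : (t.map (algebraMap A' D)).IsPrime := Ideal.map_isPrime_of_surjective hsurj hkert
  haveI h𝔪t : (t.map (algebraMap A' D)).LiesOver t := ⟨(hc t hle).symm⟩
  haveI h𝔪p : (t.map (algebraMap A' D)).LiesOver p := Ideal.LiesOver.trans _ t p
  haveI h𝔪'prime : (t'.map (algebraMap A' D)).IsPrime :=
    Ideal.map_isPrime_of_surjective hsurj hker.le
  haveI h𝔪't' : (t'.map (algebraMap A' D)).LiesOver t' := ⟨(hc t' le_rfl).symm⟩
  have hcomap_over : ∀ (𝔮 : Ideal D) [𝔮.IsPrime], 𝔮.LiesOver p →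
      (𝔮.comap (algebraMap A' D)).LiesOver p := by
    intro 𝔮 _ h𝔮
    refine ⟨?_⟩
    rw [Ideal.under_def, Ideal.comap_comap, ← IsScalarTower.algebraMap_eq, ← Ideal.under_def]
    exact h𝔮.over
  have hmaxD : ∀ (𝔮 : Ideal D) [𝔮.IsPrime], t.map (algebraMap A' D) ≤ 𝔮 → 𝔮.LiesOver p →
      𝔮 = t.map (algebraMap A' D) := by
    intro 𝔮 _ h1 h2
    have h3 : t ≤ 𝔮.comap (algebraMap A' D) := by
      rw [← hc t hle]
      exact Ideal.comap_mono h1
    have h4 := eq_of_fiberIdeal_isMaximal p t hmax (𝔮.comap (algebraMap A' D)) h3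
      (hcomap_over 𝔮 h2)
    rw [← h4, Ideal.map_comap_of_surjective _ hsurj]
  have hminD : ∀ (𝔮 : Ideal D) [𝔮.IsPrime], 𝔮 ≤ t.map (algebraMap A' D) → 𝔮.LiesOver p →
      𝔮 = t.map (algebraMap A' D) := by
    intro 𝔮 _ h1 h2
    have h3 : 𝔮.comap (algebraMap A' D) ≤ t := by
      rw [← hc t hle]
      exact Ideal.comap_mono h1
    have h5 : t' ≤ 𝔮.comap (algebraMap A' D) := by
      rw [← hker, RingHom.ker_eq_comap_bot]
      exact Ideal.comap_mono bot_le
    rcases eq_or_lt_of_le h3 with h4 | h4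
    · rw [← h4, Ideal.map_comap_of_surjective _ hsurj]
    · exact absurd (hcomap_over 𝔮 h2) (hex _ h5 h4)
  have hqf : Algebra.QuasiFiniteAt A (t.map (algebraMap A' D)) :=
    quasiFiniteAt_of_isolated p _ hmaxD hminD
  have hid : IsBaseChange B (LinearMap.id : N →ₗ[B] N) :=
    IsBaseChange.ofEquiv (LinearEquiv.refl B N)
  apply Groth.Agent.S1217.key_mid N p A B N inferInstance LinearMap.id hid p A' B' N' f t' t P
    himp D (t'.map (algebraMap A' D)) (t.map (algebraMap A' D)) (Ideal.map_mono hle)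
  intro BV NV _ _ _ _ _ _ _ _ _ _ _ _ fV PV _ himpV
  exact ⟨D, BV, NV, inferInstance, inferInstance, inferInstance, inferInstance, inferInstance,
    inferInstance, inferInstance, inferInstance, inferInstance, inferInstance, inferInstance,
    inferInstance, inferInstance, inferInstance, fV, t'.map (algebraMap A' D),
    t.map (algebraMap A' D), inferInstance, inferInstance, PV, inferInstance, himpV,
    inferInstance, inferInstance, hqf⟩

theorem induct {A B : Type u} [CommRing A] [IsNoetherianRing A] [CommRing B] [Algebra A B]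
    [Algebra.FiniteType A B]
    (N : Type u) [AddCommGroup N] [Module B N] [Module.Finite B N] (p : Ideal A) [p.IsPrime]
    (A' B' N' : Type u) [CommRing A'] [CommRing B'] [Algebra A A'] [Algebra B B'] [Algebra A' B']
    [Algebra A B'] [IsScalarTower A B B'] [IsScalarTower A A' B']
    [AddCommGroup N'] [Module B' N'] [Module B N'] [IsScalarTower B B' N'] [Module A' N']
    [IsScalarTower A' B' N'] [Algebra.FiniteType A A'] (f : N →ₗ[B] N') (t : Ideal A') [t.IsPrime]
    (hmax : (FlatCA.fiberIdeal p t).IsMaximal) :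
    ∀ (t' : Ideal A') [t'.IsPrime], ∀ (P : Ideal B') [P.IsPrime],
      FlatCA.IsImpurity A B N p A' B' N' f t' t P →
      FlatCA.HasImpurity A B N p (fun A' _ _ t => ∃ _ : t.IsPrime,
        Algebra.FiniteType A A' ∧ Algebra.QuasiFiniteAt A t) := by
  haveI : IsNoetherianRing A' := Algebra.FiniteType.isNoetherianRing A A'
  refine prime_induction _ ?_
  intro t' _ ih P _ himp
  have himp' := himp
  obtain ⟨hpush, hf, hle, hover, hPover, hass, hcl⟩ := himp'
  haveI := hover
  haveI := hPover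
  haveI : Algebra.FiniteType A' B' :=
    Algebra.FiniteType.equiv (inferInstance : Algebra.FiniteType A' (A' ⊗[A] B))
      (Algebra.IsPushout.equiv A A' B B' (h := hpush.symm))
  haveI : Module.Finite B' N' := Module.Finite.equiv hf.equiv
  by_cases hdeg : t'.LiesOver p
  · exact (not_isImpurity_of_liesOver N p A' B' N' f t' t P himp).elim
  by_cases hex : ∃ (𝔯 : Ideal A') (_ : 𝔯.IsPrime), t' ≤ 𝔯 ∧ 𝔯 < t ∧ 𝔯.LiesOver p
  · obtain ⟨𝔯, h𝔯prime, ht'𝔯, h𝔯t, h𝔯over⟩ := hex
    have ht'𝔯' : t' < 𝔯 := lt_of_le_of_ne ht'𝔯 (fun h => hdeg (h ▸ h𝔯over))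
    obtain ⟨G, hG, hall⟩ := genAss_rel (N' := N') t' P hass
    obtain ⟨𝔮₁, h𝔮₁prime, hlt, h𝔮₁t, hG𝔮₁⟩ := exists_prime_between t' 𝔯 t ht'𝔯' h𝔯t G hG
    haveI := h𝔮₁prime
    obtain ⟨P₁, hP₁prime, hPP₁, hP₁over, hass₁⟩ := hall 𝔮₁ hlt.le hG𝔮₁
    haveI := hP₁prime
    exact ih 𝔮₁ hlt P₁ ⟨hpush, hf, h𝔮₁t, hover, hP₁over, hass₁,
      fun P' _ hle' => hcl P' (hPP₁.trans hle')⟩
  · have hex' : ∀ (𝔯 : Ideal A') [𝔯.IsPrime], t' ≤ 𝔯 → 𝔯 < t → ¬ 𝔯.LiesOver p :=
      fun 𝔯 h𝔯 h1 h2 h3 => hex ⟨𝔯, h𝔯, h1, h2, h3⟩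
    haveI : Algebra.FiniteType A (A' ⧸ t') :=
      Algebra.FiniteType.of_surjective (Ideal.Quotient.mkₐ A t') (Ideal.Quotient.mkₐ_surjective A t')
    exact qf_case N p A' B' N' f t' t P himp hmax hex' (A' ⧸ t') Ideal.Quotient.mk_surjective
      (by rw [Ideal.Quotient.algebraMap_eq]; exact Ideal.mk_ker)

theorem main {A B : Type u} [CommRing A] [IsNoetherianRing A] [CommRing B] [Algebra A B]
    [Algebra.FiniteType A B]
    (N : Type u) [AddCommGroup N] [Module B N] [Module.Finite B N] (p : Ideal A) [p.IsPrime]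
    (h : FlatCA.HasImpurity A B N p (fun _ _ _ _ => True)) :
    FlatCA.HasImpurity A B N p (fun A' _ _ t => ∃ _ : t.IsPrime,
      Algebra.FiniteType A A' ∧ Algebra.QuasiFiniteAt A t) := by
  obtain ⟨A', B', N', _, _, _, _, _, _, _, _, _, _, _, _, _, _, f, t', t, _, _, P, _, himp, hfp,
    hmax⟩ := Groth.Agent.S1245.result N p h
  haveI := hfp
  haveI : Algebra.FiniteType A A' := inferInstance
  exact induct N p A' B' N' f t hmax t' P himp

end helpers

/-- Ring form, X = Spec B and S = Spec A affine with A Noetherian: let B be a finite type A-algebra, N a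
finite B-module and p a prime of A. If there is an impurity of N above p then there is one whose
base change A → A' is of finite type and quasi-finite at the point t. -/
theorem result {A B : Type u} [CommRing A] [IsNoetherianRing A] [CommRing B] [Algebra A B] [Algebra.FiniteType A B]
    (N : Type u) [AddCommGroup N] [Module B N] [Module.Finite B N] (p : Ideal A) [p.IsPrime]
    (h : FlatCA.HasImpurity A B N p (fun _ _ _ _ => True)) :
    FlatCA.HasImpurity A B N p (fun A' _ _ t => ∃ _ : t.IsPrime, Algebra.FiniteType A A' ∧ Algebra.QuasiFiniteAt A t) := by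
  exact main N p h

end Groth.Agent.S1247
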