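import Groth.Statements.S12472
import Groth.Agent.Lib.H60GrSym
import Groth.Agent.Lib.H60CanonPhi
import Groth.Agent.Lib.RelProjExists
import Groth.Agent.Lib.H60RelTwistExists
import Groth.Agent.Lib.H60LineSym
import Groth.Agent.Lib.RelTwistInv
import Groth.Agent.Lib.RelTwistEpi
import Groth.Agent.Lib.H90InvertibleFP
import Groth.Agent.Lib.H90InvertiblePullback
import Groth.Agent.Lib.H72PullbackDescent
import Groth.Agent.Lib.H90PushStalkLocal
import Groth.Agent.S12143

set_option autoImplicit false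
universe u
open CategoryTheory CategoryTheory.Limits AlgebraicGeometry TopologicalSpace Opposite
open scoped HomogeneousIdeal
open EGA2

namespace Groth.Agent.S12472


open Groth.Agent.Lib.ModStalkLin in
/-- An epimorphism between invertible modules is an isomorphism. -/
theorem isIso_of_epi_of_isInvertible {X : Scheme.{u}} {M N : X.Modules} (hM : PicF.IsInvertible M)
    (hN : PicF.IsInvertible N) (φ : M ⟶ N) [Epi φ] : IsIso φ := by
  rw [Groth.Agent.Lib.H72PullbackDescent.isIso_iff_stalkLin_bijective]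
  intro x
  have hs := stalkLin_surjective_of_epi φ x
  obtain ⟨m, hm⟩ := Groth.Agent.Lib.H90PushStalkLocal.exists_stalk_bijective_of_isInvertible hM x
  obtain ⟨n, hn⟩ := Groth.Agent.Lib.H90PushStalkLocal.exists_stalk_bijective_of_isInvertible hN x
  obtain ⟨c, hc⟩ := hn.2 (stalkLin φ x m)
  obtain ⟨m', hm'⟩ := hs n
  obtain ⟨b, hb⟩ := hm.2 m'
  simp only at hc hb
  have h1 : (b * c) • n = (1 : X.presheaf.stalk x) • n := by
    rw [mul_smul, hc, ← map_smul, hb, hm', one_smul]
  have hbc : b * c = 1 := hn.1 h1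
  refine ⟨?_, hs⟩
  rw [injective_iff_map_eq_zero]
  intro z hz
  obtain ⟨a, rfl⟩ := hm.2 z
  simp only at hz ⊢
  rw [map_smul, ← hc, smul_smul] at hz
  have h2 : a * c = 0 := hn.1 (by simpa using hz)
  have h3 : a = 0 := by
    calc a = a * (b * c) := by rw [hbc, mul_one]
      _ = (a * c) * b := by ring
      _ = 0 := by rw [h2, zero_mul]
  rw [h3, zero_smul]

theorem main (Y : Scheme.{u}) (L : Y.Modules) (hL : PicF.IsInvertible L) :
    RelProj.IsRelVeryAmple (𝟙 Y) L := by
  have hLq : Coh.IsQCoh L := Groth.Agent.Lib.H90Invertible.isQCoh_of_isInvertible hL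
  haveI : L.IsQuasicoherent := hLq
  have hj := Groth.Agent.Lib.H60GrSym.isGrSymAlg L
  have hP := Groth.Agent.Lib.RelProjExists.isRelProj (Groth.Agent.Lib.H60GrSym.grSymAlg L)
  obtain ⟨O1, lam, hO1⟩ := Groth.Agent.Lib.H60RelTwistExists.exists_relTwist hP 1
  have hgen := Groth.Agent.Lib.H60LineSym.isGenDegOne L hLq _ _ hj
  haveI : IsIso (Groth.Agent.Lib.RelProjExists.relProjHom (Groth.Agent.Lib.H60GrSym.grSymAlg L)) :=
    Groth.Agent.S12143.result L hL hLq _ _ hj _ _ hP
  obtain ⟨φ, hφ⟩ := Groth.Agent.Lib.H60CanonPhi.exists_phi hP L _ hj hO1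
  haveI : Epi (((Scheme.Modules.pullbackPushforwardAdjunction
      (Groth.Agent.Lib.RelProjExists.relProjHom (Groth.Agent.Lib.H60GrSym.grSymAlg L))).homEquiv L O1).symm φ) :=
    Groth.Agent.Lib.RelTwistEpi.epi_adjoint L hLq _ hj hO1 φ hφ
  have hiso := isIso_of_epi_of_isInvertible
    (Groth.Agent.Lib.H90Invertible.isInvertible_pullback
      (Groth.Agent.Lib.RelProjExists.relProjHom (Groth.Agent.Lib.H60GrSym.grSymAlg L)) hL)
    (Groth.Agent.Lib.RelTwistInv.isInvertible_relTwist_of_gen hgen 1 hO1)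
    (((Scheme.Modules.pullbackPushforwardAdjunction
      (Groth.Agent.Lib.RelProjExists.relProjHom (Groth.Agent.Lib.H60GrSym.grSymAlg L))).homEquiv L O1).symm φ)
  refine ⟨L, hLq, _, _, hj, _, _, _, hP, O1, lam, hO1,
    inv (Groth.Agent.Lib.RelProjExists.relProjHom (Groth.Agent.Lib.H60GrSym.grSymAlg L)),
    inferInstance, IsIso.inv_hom_id _, ⟨?_⟩⟩
  set p := Groth.Agent.Lib.RelProjExists.relProjHom (Groth.Agent.Lib.H60GrSym.grSymAlg L) with hp
  exact (Scheme.Modules.pullbackId Y).symm.app L ≪≫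
    (Scheme.Modules.pullbackCongr (IsIso.inv_hom_id p).symm).app L ≪≫
    (Scheme.Modules.pullbackComp (inv p) p).symm.app L ≪≫
    (Scheme.Modules.pullback (inv p)).mapIso (@asIso _ _ _ _ _ hiso)

/-- Let Y be a scheme and L an invertible O_Y-module. Then L is very ample relative to the identity
morphism of Y: there are a quasi-coherent O_Y-module E and a Y-immersion i of Y into the projective
bundle P(E) with L isomorphic to i^*O_{P(E)}(1). -/
theorem result (Y : Scheme.{u}) (L : Y.Modules) (hL : PicF.IsInvertible L) :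
    RelProj.IsRelVeryAmple (𝟙 Y) L := by
  exact main Y L hL

end Groth.Agent.S12472
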