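import Groth.Statements.S12476
import Groth.Agent.Lib.H60BundleBC

set_option autoImplicit false
universe u
open CategoryTheory CategoryTheory.Limits AlgebraicGeometry TopologicalSpace Opposite
open scoped HomogeneousIdeal
open EGA2

namespace Groth.Agent.S12476


theorem main {X Y Z : Scheme.{u}} (f : X ⟶ Y) (g : Y ⟶ Z) (L : X.Modules)
    (hva : RelProj.IsRelVeryAmple (f ≫ g) L) : RelProj.IsRelVeryAmple f L := by
  obtain ⟨E, hE, 𝒮, j, hj, P, p, chart, hP, O1, lam, hO1, i, hi, hip, ⟨e⟩⟩ := hva
  obtain ⟨hE', 𝒮', j', hj', P', p', chart', hP', O1', lam', hO1', h, hpb, ⟨e'⟩⟩ :=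
    Groth.Agent.Lib.H60BundleBC.exists_baseChange g E hE 𝒮 j hj p chart hP O1 lam hO1
  have h1 : hpb.lift i f hip ≫ h = i := hpb.lift_fst _ _ _
  have h2 : hpb.lift i f hip ≫ p' = f := hpb.lift_snd _ _ _
  haveI : IsImmersion (hpb.lift i f hip ≫ h) := by rw [h1]; exact hi
  haveI : IsImmersion (hpb.lift i f hip) := IsImmersion.of_comp (hpb.lift i f hip) h
  refine ⟨(Scheme.Modules.pullback g).obj E, hE', 𝒮', j', hj', P', p', chart', hP', O1', lam', hO1',
    hpb.lift i f hip, inferInstance, h2, ⟨?_⟩⟩
  exact e ≪≫ (Scheme.Modules.pullbackCongr h1.symm).app O1 ≪≫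
    ((Scheme.Modules.pullbackComp (hpb.lift i f hip) h).app O1).symm ≪≫
    (Scheme.Modules.pullback (hpb.lift i f hip)).mapIso e'

/-- Let f : X → Y and g : Y → Z be morphisms of schemes and L an invertible O_X-module which is very
ample relative to the composite X → Y → Z (isomorphic to the inverse image of O(1) along a
Z-immersion of X into the projective bundle of a quasi-coherent O_Z-module). Then L is very ample
relative to f. -/
theorem result {X Y Z : Scheme.{u}} (f : X ⟶ Y) (g : Y ⟶ Z) (L : X.Modules)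
    (hL : PicF.IsInvertible L) (hva : RelProj.IsRelVeryAmple (f ≫ g) L) : RelProj.IsRelVeryAmple f L := by
  exact main f g L hva

end Groth.Agent.S12476
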