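import Groth.Statements.S5734
import Groth.Agent.S8263
import Groth.Agent.Lib.RelTwistEpi
import Groth.Agent.Lib.H60RelTwistMap
import Groth.Agent.Lib.H90QCohLimits

set_option autoImplicit false
universe u
open CategoryTheory CategoryTheory.Limits AlgebraicGeometry TopologicalSpace Opposite
open scoped HomogeneousIdeal
open EGA2

namespace Groth.Agent.S5734


/-- The copairing of two closed immersions with disjoint ranges is a closed immersion. -/
theorem isClosedImmersion_coprod_desc {X Y Z : Scheme.{u}} (f : X ⟶ Z) (g : Y ⟶ Z)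
    [IsClosedImmersion f] [IsClosedImmersion g]
    (h : ∀ (x : X) (y : Y), f.base x ≠ g.base y) : IsClosedImmersion (coprod.desc f g) := by
  have hs : SurjectiveOnStalks (coprod.desc f g) := by
    rw [IsZariskiLocalAtSource.iff_of_openCover (P := @SurjectiveOnStalks) (coprodOpenCover.{u, u} X Y)]
    rintro (⟨⟩ | ⟨⟩)
    · change SurjectiveOnStalks (coprod.inl ≫ coprod.desc f g)
      rw [coprod.inl_desc]; infer_instance
    · change SurjectiveOnStalks (coprod.inr ≫ coprod.desc f g)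
      rw [coprod.inr_desc]; infer_instance
  have hc : Topology.IsClosedEmbedding (coprod.desc f g).base := by
    have h1 : Topology.IsClosedEmbedding (Sum.elim f.base g.base) := by
      refine Topology.IsClosedEmbedding.sumElim f.isClosedEmbedding g.isClosedEmbedding ?_
      rintro (a | a) (b | b) hab
      · exact congrArg _ (f.isClosedEmbedding.injective hab)
      · exact absurd hab (h a b)
      · exact absurd hab.symm (h b a)
      · exact congrArg _ (g.isClosedEmbedding.injective hab)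
    have h2 : ((coprod.desc f g).base : ↥(X ⨿ Y) → Z) = Sum.elim f.base g.base ∘ (coprodMk X Y).symm := by
      funext z
      obtain ⟨(a | a), rfl⟩ := (coprodMk X Y).surjective z
      · rw [Function.comp_apply, Homeomorph.symm_apply_apply, coprodMk_inl, ← Scheme.Hom.comp_apply,
          coprod.inl_desc]; rfl
      · rw [Function.comp_apply, Homeomorph.symm_apply_apply, coprodMk_inr, ← Scheme.Hom.comp_apply,
          coprod.inr_desc]; rfl
    rw [h2]
    exact h1.comp (coprodMk X Y).symm.isClosedEmbedding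
  exact { toSurjectiveOnStalks := hs, isClosedEmbedding := hc }

/-- A homomorphism from any quasi-coherent algebra to the symmetric algebra of `E` through which the structure map of `E`
factors (up to a sectionwise surjection) is surjective over affine opens. -/
theorem surjective_of_factor {Y : Scheme.{u}} {E' E : Y.Modules} (hE : Coh.IsQCoh E)
    (A : RelSpec.QCAlg Y) (j : E' ⟶ A.toModule)
    (𝒮E : RelProj.QCGrAlg Y) (jE : E ⟶ 𝒮E.toModule) (hjE : RelProj.IsGrSymAlg E 𝒮E jE)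
    (π : A ⟶ 𝒮E.toQCAlg) (r : E' ⟶ E) (hr : ∀ U : Y.Opens, Function.Surjective (r.app U))
    (hjπ : j ≫ RelSpec.QCAlg.Hom.toModuleMap π = r ≫ jE)
    (U : Y.Opens) (hU : IsAffineOpen U) : Function.Surjective (π.hom.app (op U)).hom := by
  haveI : E.IsQuasicoherent := hE
  obtain ⟨e, he1, he2⟩ := Groth.Agent.Lib.SymQCAlg.exists_ringEquiv E 𝒮E.toQCAlg jE hjE.1 U hU
  have key : ∀ z : SymmetricAlgebra Γ(Y, U) Γ(E, U), e.symm z ∈ (π.hom.app (op U)).hom.range := by
    intro z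
    induction z using SymmetricAlgebra.induction with
    | algebraMap a =>
      rw [← he1 a, RingEquiv.symm_apply_apply]
      refine ⟨(A.str.app (op U)).hom a, ?_⟩
      have h0 := NatTrans.congr_app π.comm (op U)
      rw [NatTrans.comp_app] at h0
      rw [← h0]; rfl
    | ι x =>
      rw [← he2 x, RingEquiv.symm_apply_apply]
      obtain ⟨x', rfl⟩ := hr U x
      refine ⟨(show A.presheaf.obj (op U) from j.app U x'), ?_⟩
      have h1 := congrArg (fun ψ => Scheme.Modules.Hom.app ψ U x') hjπ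
      exact h1
    | mul a b ha hb => rw [map_mul]; exact mul_mem ha hb
    | add a b ha hb => rw [map_add]; exact add_mem ha hb
  intro y
  have := key (e y)
  rwa [RingEquiv.symm_apply_apply] at this

open Groth.Agent.Lib.RelTildeVal2 Groth.Agent.Lib.RelTwistEpi in
theorem main {Y PE PF P : Scheme.{u}} (E F : Y.Modules)
    (hE : Coh.IsQCoh E) (hF : Coh.IsQCoh F) (𝒮E 𝒮F 𝒮 : RelProj.QCGrAlg Y)
    (jE : E ⟶ 𝒮E.toModule) (hjE : RelProj.IsGrSymAlg E 𝒮E jE)
    (jF : F ⟶ 𝒮F.toModule) (hjF : RelProj.IsGrSymAlg F 𝒮F jF)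
    (j : E ⊞ F ⟶ 𝒮.toModule) (hj : RelProj.IsGrSymAlg (E ⊞ F) 𝒮 j)
    (πE : 𝒮.toQCAlg ⟶ 𝒮E.toQCAlg) (hπE : RelProj.IsGradedHom πE)
    (hjπE : j ≫ RelSpec.QCAlg.Hom.toModuleMap πE = biprod.fst ≫ jE)
    (πF : 𝒮.toQCAlg ⟶ 𝒮F.toQCAlg) (hπF : RelProj.IsGradedHom πF)
    (hjπF : j ≫ RelSpec.QCAlg.Hom.toModuleMap πF = biprod.snd ≫ jF)
    (hirrE : ∀ (U : Y.Opens) (hU : IsAffineOpen U),
      (𝒮E.deg U hU)₊ ≤ ((𝒮.deg U hU)₊).map (RelProj.gradedHomAt πE hπE U hU))
    (hirrF : ∀ (U : Y.Opens) (hU : IsAffineOpen U),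
      (𝒮F.deg U hU)₊ ≤ ((𝒮.deg U hU)₊).map (RelProj.gradedHomAt πF hπF U hU))
    (p : P ⟶ Y) (pE : PE ⟶ Y) (pF : PF ⟶ Y)
    (chart : ∀ (U : Y.Opens) (hU : IsAffineOpen U), ((p ⁻¹ᵁ U : P.Opens) : Scheme.{u}) ≅ Proj (𝒮.deg U hU))
    (chartE : ∀ (U : Y.Opens) (hU : IsAffineOpen U), ((pE ⁻¹ᵁ U : PE.Opens) : Scheme.{u}) ≅ Proj (𝒮E.deg U hU))
    (chartF : ∀ (U : Y.Opens) (hU : IsAffineOpen U), ((pF ⁻¹ᵁ U : PF.Opens) : Scheme.{u}) ≅ Proj (𝒮F.deg U hU))
    (hP : RelProj.IsRelProj 𝒮 p chart) (hPE : RelProj.IsRelProj 𝒮E pE chartE) (hPF : RelProj.IsRelProj 𝒮F pF chartF)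
    (hE' : PE ⟶ P) (hhE : RelProj.IsRelProjMap πE hπE hirrE chart chartE hE')
    (hF' : PF ⟶ P) (hhF : RelProj.IsRelProjMap πF hπF hirrF chart chartF hF') :
    IsClosedImmersion (coprod.desc hE' hF') := by
  haveI : E.IsQuasicoherent := hE
  haveI : F.IsQuasicoherent := hF
  have hEF : Coh.IsQCoh (E ⊞ F) := Groth.Agent.Lib.H90QCohLimits.isQuasicoherent_biprod E F
  have hfst : ∀ U : Y.Opens, Function.Surjective ((biprod.fst : E ⊞ F ⟶ E).app U) := by
    intro U x
    refine ⟨(biprod.inl : E ⟶ E ⊞ F).app U x, ?_⟩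
    have h1 := congrArg (fun ψ => Scheme.Modules.Hom.app ψ U x) (biprod.inl_fst (X := E) (Y := F))
    exact h1
  have hsnd : ∀ U : Y.Opens, Function.Surjective ((biprod.snd : E ⊞ F ⟶ F).app U) := by
    intro U x
    refine ⟨(biprod.inr : F ⟶ E ⊞ F).app U x, ?_⟩
    have h1 := congrArg (fun ψ => Scheme.Modules.Hom.app ψ U x) (biprod.inr_snd (X := E) (Y := F))
    exact h1
  haveI : IsClosedImmersion hE' :=
    Groth.Agent.S8263.result πE hπE
      (surjective_of_factor hE 𝒮.toQCAlg j 𝒮E jE hjE πE biprod.fst hfst hjπE)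
      hirrE p pE chart chartE hP hPE hE' hhE
  haveI : IsClosedImmersion hF' :=
    Groth.Agent.S8263.result πF hπF
      (surjective_of_factor hF 𝒮.toQCAlg j 𝒮F jF hjF πF biprod.snd hsnd hjπF)
      hirrF p pF chart chartF hP hPF hF' hhF
  refine isClosedImmersion_coprod_desc hE' hF' fun a b hab => ?_
  obtain ⟨U, hU, hzU, -⟩ := exists_isAffineOpen_mem_and_subset (x := p.base (hE'.base a)) (U := ⊤) trivial
  have hoE : hE' ≫ p = pE := Groth.Agent.Lib.RelProjMap.over πE hπE hirrE hP hPE hE' hhE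
  have hoF : hF' ≫ p = pF := Groth.Agent.Lib.RelProjMap.over πF hπF hirrF hP hPF hF' hhF
  have haU : a ∈ pE ⁻¹ᵁ U := by rw [← hoE]; exact hzU
  have hbU : b ∈ pF ⁻¹ᵁ U := by
    rw [← hoF]
    change p.base (hF'.base b) ∈ U
    rw [← hab]; exact hzU
  obtain ⟨yE, rfl⟩ := exists_emb_eq (p := pE) (chart := chartE) U hU haU
  obtain ⟨yF, rfl⟩ := exists_emb_eq (p := pF) (chart := chartF) U hU hbU
  have cE := Groth.Agent.Lib.H60RelTwistMap.emb_comm hhE U hU
  have cF := Groth.Agent.Lib.H60RelTwistMap.emb_comm hhF U hU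
  have e1 : hE'.base ((RelProj.emb pE chartE U hU).base yE) = (RelProj.emb p chart U hU).base
      (ProjectiveSpectrum.comap (RelProj.gradedHomAt πE hπE U hU) (hirrE U hU) yE) :=
    congrArg (fun g => g.base yE) cE
  have e2 : hF'.base ((RelProj.emb pF chartF U hU).base yF) = (RelProj.emb p chart U hU).base
      (ProjectiveSpectrum.comap (RelProj.gradedHomAt πF hπF U hU) (hirrF U hU) yF) :=
    congrArg (fun g => g.base yF) cF
  have hw : ProjectiveSpectrum.comap (RelProj.gradedHomAt πE hπE U hU) (hirrE U hU) yE =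
      ProjectiveSpectrum.comap (RelProj.gradedHomAt πF hπF U hU) (hirrF U hU) yF :=
    (RelProj.emb p chart U hU).isOpenEmbedding.injective (e1.symm.trans (hab.trans e2))
  obtain ⟨f, ⟨x, rfl⟩, hfw⟩ := exists_notMem_of_closure (𝒜 := 𝒮.deg U hU)
    (Set.range (fun x : Γ(E ⊞ F, U) => (show 𝒮.presheaf.obj (op U) from j.app U x)))
    (by rintro _ ⟨x, rfl⟩; exact hj.2 U hU x) (closure_range_j (E ⊞ F) hEF 𝒮 j hj U hU)
    (ProjectiveSpectrum.comap (RelProj.gradedHomAt πE hπE U hU) (hirrE U hU) yE)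
  apply hfw
  dsimp only
  have hx : x = (biprod.inl : E ⟶ E ⊞ F).app U ((biprod.fst : E ⊞ F ⟶ E).app U x) +
      (biprod.inr : F ⟶ E ⊞ F).app U ((biprod.snd : E ⊞ F ⟶ F).app U x) := by
    have h1 := congrArg (fun ψ => Scheme.Modules.Hom.app ψ U x) (biprod.total (X := E) (Y := F))
    exact h1.symm
  rw [hx, map_add]
  refine Ideal.add_mem _ ?_ ?_
  · rw [hw]
    change (πF.hom.app (op U)).hom _ ∈ yF.asHomogeneousIdeal
    have h0 : (πF.hom.app (op U)).hom (show 𝒮.presheaf.obj (op U) from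
        j.app U ((biprod.inl : E ⟶ E ⊞ F).app U ((biprod.fst : E ⊞ F ⟶ E).app U x))) = 0 := by
      have h1 := congrArg (fun ψ => Scheme.Modules.Hom.app ψ U
        ((biprod.inl : E ⟶ E ⊞ F).app U ((biprod.fst : E ⊞ F ⟶ E).app U x))) hjπF
      refine h1.trans ?_
      have h2 := congrArg (fun ψ => Scheme.Modules.Hom.app ψ U ((biprod.fst : E ⊞ F ⟶ E).app U x))
        (biprod.inl_snd (X := E) (Y := F))
      change jF.app U ((biprod.snd : E ⊞ F ⟶ F).app U ((biprod.inl : E ⟶ E ⊞ F).app U _)) = 0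
      have h3 : (biprod.snd : E ⊞ F ⟶ F).app U ((biprod.inl : E ⟶ E ⊞ F).app U
          ((biprod.fst : E ⊞ F ⟶ E).app U x)) = 0 := h2
      rw [h3, map_zero]
    rw [h0]
    exact zero_mem _
  · change (πE.hom.app (op U)).hom _ ∈ yE.asHomogeneousIdeal
    have h0 : (πE.hom.app (op U)).hom (show 𝒮.presheaf.obj (op U) from
        j.app U ((biprod.inr : F ⟶ E ⊞ F).app U ((biprod.snd : E ⊞ F ⟶ F).app U x))) = 0 := by
      have h1 := congrArg (fun ψ => Scheme.Modules.Hom.app ψ U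
        ((biprod.inr : F ⟶ E ⊞ F).app U ((biprod.snd : E ⊞ F ⟶ F).app U x))) hjπE
      refine h1.trans ?_
      have h2 := congrArg (fun ψ => Scheme.Modules.Hom.app ψ U ((biprod.snd : E ⊞ F ⟶ F).app U x))
        (biprod.inr_fst (X := E) (Y := F))
      change jE.app U ((biprod.fst : E ⊞ F ⟶ E).app U ((biprod.inr : F ⟶ E ⊞ F).app U _)) = 0
      have h3 : (biprod.fst : E ⊞ F ⟶ E).app U ((biprod.inr : F ⟶ E ⊞ F).app U
          ((biprod.snd : E ⊞ F ⟶ F).app U x)) = 0 := h2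
      rw [h3, map_zero]
    rw [h0]
    exact zero_mem _

/-- Let E and F be quasi-coherent O_Y-modules with graded symmetric algebras 𝒮E, 𝒮F and let 𝒮 be the
graded symmetric algebra of E ⊕ F; let πE : 𝒮 → 𝒮E and πF : 𝒮 → 𝒮F be the graded algebra
homomorphisms induced by the two projections of E ⊕ F (compatible with the structure maps from E ⊕
F, E and F), the irrelevant ideal of the target being generated by the image of that of the source
over every affine open (so that the induced morphisms of homogeneous spectra are everywhere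
defined). Let P(E ⊕ F), P(E), P(F) be the projective bundles with their charts and hE : P(E) → P(E ⊕
F), hF : P(F) → P(E ⊕ F) the morphisms chartwise induced by πE and πF. Then the morphism P(E) ⨿ P(F)
→ P(E ⊕ F) which restricts to hE and hF is a closed immersion: the disjoint union of P(E) and P(F)
is a closed subscheme of P(E ⊕ F). -/
theorem result {Y PE PF P : Scheme.{u}} (E F : Y.Modules)
    (hE : Coh.IsQCoh E) (hF : Coh.IsQCoh F) (𝒮E 𝒮F 𝒮 : RelProj.QCGrAlg Y)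
    (jE : E ⟶ 𝒮E.toModule) (hjE : RelProj.IsGrSymAlg E 𝒮E jE)
    (jF : F ⟶ 𝒮F.toModule) (hjF : RelProj.IsGrSymAlg F 𝒮F jF)
    (j : E ⊞ F ⟶ 𝒮.toModule) (hj : RelProj.IsGrSymAlg (E ⊞ F) 𝒮 j)
    (πE : 𝒮.toQCAlg ⟶ 𝒮E.toQCAlg) (hπE : RelProj.IsGradedHom πE)
    (hjπE : j ≫ RelSpec.QCAlg.Hom.toModuleMap πE = biprod.fst ≫ jE)
    (πF : 𝒮.toQCAlg ⟶ 𝒮F.toQCAlg) (hπF : RelProj.IsGradedHom πF)
    (hjπF : j ≫ RelSpec.QCAlg.Hom.toModuleMap πF = biprod.snd ≫ jF)
    (hirrE : ∀ (U : Y.Opens) (hU : IsAffineOpen U),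
      (𝒮E.deg U hU)₊ ≤ ((𝒮.deg U hU)₊).map (RelProj.gradedHomAt πE hπE U hU))
    (hirrF : ∀ (U : Y.Opens) (hU : IsAffineOpen U),
      (𝒮F.deg U hU)₊ ≤ ((𝒮.deg U hU)₊).map (RelProj.gradedHomAt πF hπF U hU))
    (p : P ⟶ Y) (pE : PE ⟶ Y) (pF : PF ⟶ Y)
    (chart : ∀ (U : Y.Opens) (hU : IsAffineOpen U), ((p ⁻¹ᵁ U : P.Opens) : Scheme.{u}) ≅ Proj (𝒮.deg U hU))
    (chartE : ∀ (U : Y.Opens) (hU : IsAffineOpen U), ((pE ⁻¹ᵁ U : PE.Opens) : Scheme.{u}) ≅ Proj (𝒮E.deg U hU))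
    (chartF : ∀ (U : Y.Opens) (hU : IsAffineOpen U), ((pF ⁻¹ᵁ U : PF.Opens) : Scheme.{u}) ≅ Proj (𝒮F.deg U hU))
    (hP : RelProj.IsRelProj 𝒮 p chart) (hPE : RelProj.IsRelProj 𝒮E pE chartE) (hPF : RelProj.IsRelProj 𝒮F pF chartF)
    (hE' : PE ⟶ P) (hhE : RelProj.IsRelProjMap πE hπE hirrE chart chartE hE')
    (hF' : PF ⟶ P) (hhF : RelProj.IsRelProjMap πF hπF hirrF chart chartF hF') :
    IsClosedImmersion (coprod.desc hE' hF') := by
  exact main E F hE hF 𝒮E 𝒮F 𝒮 jE hjE jF hjF j hj πE hπE hjπE πF hπF hjπF hirrE hirrF p pE pF chart chartE chartF hP hPE hPF hE' hhE hF' hhF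

end Groth.Agent.S5734
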