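import Groth.Statements.S12477
import Groth.Agent.Lib.H60BundleSurj
import Groth.Agent.Lib.H60CoprodImm
import Groth.Agent.Lib.RelProjExists
import Groth.Agent.Lib.H60RelTwistExists
import Groth.Agent.Lib.H90QCohLimits
import Groth.Agent.S5734

set_option autoImplicit false
universe u
open CategoryTheory CategoryTheory.Limits AlgebraicGeometry TopologicalSpace Opposite
open scoped HomogeneousIdeal
open EGA2

namespace Groth.Agent.S12477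


theorem forward {X X' Y : Scheme.{u}} (f'' : X ⨿ X' ⟶ Y) (L'' : (X ⨿ X').Modules)
    (h : RelProj.IsRelVeryAmple f'' L'') :
    RelProj.IsRelVeryAmple (coprod.inl ≫ f'') ((Scheme.Modules.pullback (coprod.inl : X ⟶ X ⨿ X')).obj L'') ∧
      RelProj.IsRelVeryAmple (coprod.inr ≫ f'') ((Scheme.Modules.pullback (coprod.inr : X' ⟶ X ⨿ X')).obj L'') := by
  obtain ⟨E, hE, 𝒮, j, hj, P, p, chart, hP, O1, lam, hO1, i, hi, hip, ⟨e⟩⟩ := h
  refine ⟨⟨E, hE, 𝒮, j, hj, P, p, chart, hP, O1, lam, hO1, coprod.inl ≫ i, inferInstance,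
    by rw [Category.assoc, hip], ⟨(Scheme.Modules.pullback _).mapIso e ≪≫
      (Scheme.Modules.pullbackComp coprod.inl i).app O1⟩⟩,
    ⟨E, hE, 𝒮, j, hj, P, p, chart, hP, O1, lam, hO1, coprod.inr ≫ i, inferInstance,
    by rw [Category.assoc, hip], ⟨(Scheme.Modules.pullback _).mapIso e ≪≫
      (Scheme.Modules.pullbackComp coprod.inr i).app O1⟩⟩⟩

theorem surjective_fst_app {Y : Scheme.{u}} (E₁ E₂ : Y.Modules) (U : Y.Opens) :
    Function.Surjective ((biprod.fst : E₁ ⊞ E₂ ⟶ E₁).app U) := by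
  intro x
  refine ⟨(biprod.inl : E₁ ⟶ E₁ ⊞ E₂).app U x, ?_⟩
  have h := congrArg (fun φ : E₁ ⟶ E₁ => φ.app U x) (biprod.inl_fst (X := E₁) (Y := E₂))
  simp only [Scheme.Modules.Hom.comp_app, Scheme.Modules.Hom.id_app] at h
  exact h

theorem surjective_snd_app {Y : Scheme.{u}} (E₁ E₂ : Y.Modules) (U : Y.Opens) :
    Function.Surjective ((biprod.snd : E₁ ⊞ E₂ ⟶ E₂).app U) := by
  intro x
  refine ⟨(biprod.inr : E₂ ⟶ E₁ ⊞ E₂).app U x, ?_⟩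
  have h := congrArg (fun φ : E₂ ⟶ E₂ => φ.app U x) (biprod.inr_snd (X := E₁) (Y := E₂))
  simp only [Scheme.Modules.Hom.comp_app, Scheme.Modules.Hom.id_app] at h
  exact h

open Groth.Agent.Lib.H60GrSym Groth.Agent.Lib.SymQCAlg in
theorem backward {X X' Y : Scheme.{u}} (f'' : X ⨿ X' ⟶ Y) (L'' : (X ⨿ X').Modules)
    (h₁ : RelProj.IsRelVeryAmple (coprod.inl ≫ f'') ((Scheme.Modules.pullback (coprod.inl : X ⟶ X ⨿ X')).obj L''))
    (h₂ : RelProj.IsRelVeryAmple (coprod.inr ≫ f'') ((Scheme.Modules.pullback (coprod.inr : X' ⟶ X ⨿ X')).obj L'')) :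
    RelProj.IsRelVeryAmple f'' L'' := by
  obtain ⟨E₁, hE₁, 𝒮₁, j₁, hj₁, P₁, p₁, chart₁, hP₁, O1₁, lam₁, hO1₁, i₁, hi₁, hip₁, ⟨e₁⟩⟩ := h₁
  obtain ⟨E₂, hE₂, 𝒮₂, j₂, hj₂, P₂, p₂, chart₂, hP₂, O1₂, lam₂, hO1₂, i₂, hi₂, hip₂, ⟨e₂⟩⟩ := h₂
  haveI : E₁.IsQuasicoherent := hE₁
  haveI : E₂.IsQuasicoherent := hE₂
  haveI hEq : (E₁ ⊞ E₂).IsQuasicoherent := Groth.Agent.Lib.H90QCohLimits.isQuasicoherent_biprod E₁ E₂
  have hP := Groth.Agent.Lib.RelProjExists.isRelProj (grSymAlg (E₁ ⊞ E₂))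
  obtain ⟨O1, lam, hO1⟩ := Groth.Agent.Lib.H60RelTwistExists.exists_relTwist hP 1
  obtain ⟨π₁, hπ₁, hirr₁, g₁, hjπ₁, hg₁, hci₁, hov₁, hiso₁⟩ :=
    Groth.Agent.Lib.H60BundleSurj.exists_map (E₁ ⊞ E₂) hE₁ biprod.fst
      (fun U _ => surjective_fst_app E₁ E₂ U) 𝒮₁ j₁ hj₁ _ _ hP p₁ chart₁ hP₁
  obtain ⟨π₂, hπ₂, hirr₂, g₂, hjπ₂, hg₂, hci₂, hov₂, hiso₂⟩ :=
    Groth.Agent.Lib.H60BundleSurj.exists_map (E₁ ⊞ E₂) hE₂ biprod.snd
      (fun U _ => surjective_snd_app E₁ E₂ U) 𝒮₂ j₂ hj₂ _ _ hP p₂ chart₂ hP₂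
  have hcl : IsClosedImmersion (coprod.desc g₁ g₂) :=
    Groth.Agent.S5734.result E₁ E₂ hE₁ hE₂ 𝒮₁ 𝒮₂ (grSymAlg (E₁ ⊞ E₂)) j₁ hj₁ j₂ hj₂
      (Groth.Agent.Lib.SymQCAlg.j (E₁ ⊞ E₂)) (isGrSymAlg (E₁ ⊞ E₂)) π₁ hπ₁ hjπ₁ π₂ hπ₂ hjπ₂ hirr₁ hirr₂
      _ p₁ p₂ _ chart₁ chart₂ hP hP₁ hP₂ g₁ hg₁ g₂ hg₂
  -- the ranges of `g₁` and `g₂` are disjoint
  have hne : ∀ (x : P₁) (y : P₂), g₁.base x ≠ g₂.base y := by
    intro x y hxy
    have hinj := hcl.isClosedEmbedding.injective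
    have h1 : (coprod.desc g₁ g₂).base ((coprod.inl : P₁ ⟶ P₁ ⨿ P₂).base x) = g₁.base x := by
      rw [← Scheme.Hom.comp_apply, coprod.inl_desc]
    have h2 : (coprod.desc g₁ g₂).base ((coprod.inr : P₂ ⟶ P₁ ⨿ P₂).base y) = g₂.base y := by
      rw [← Scheme.Hom.comp_apply, coprod.inr_desc]
    have h3 := hinj ((h1.trans hxy).trans h2.symm)
    rw [← coprodMk_inl, ← coprodMk_inr] at h3
    exact Sum.inl_ne_inr ((coprodMk P₁ P₂).injective h3)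
  haveI := hci₁
  haveI := hci₂
  haveI := hi₁
  haveI := hi₂
  have himm : IsImmersion (coprod.desc (i₁ ≫ g₁) (i₂ ≫ g₂)) := by
    refine Groth.Agent.Lib.H60CoprodImm.isImmersion_coprod_desc (i₁ ≫ g₁) (i₂ ≫ g₂)
      (Set.range g₁.base) (Set.range g₂.base) g₁.isClosedEmbedding.isClosed_range
      g₂.isClosedEmbedding.isClosed_range ?_ ?_ ?_
    · rw [Set.disjoint_left]
      rintro z ⟨x, rfl⟩ ⟨y, hy⟩
      exact hne x y hy.symm
    · rintro z ⟨x, rfl⟩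
      exact ⟨i₁.base x, rfl⟩
    · rintro z ⟨x, rfl⟩
      exact ⟨i₂.base x, rfl⟩
  have hcomm : coprod.desc (i₁ ≫ g₁) (i₂ ≫ g₂) ≫
      Groth.Agent.Lib.RelProjExists.relProjHom (grSymAlg (E₁ ⊞ E₂)) = f'' := by
    apply coprod.hom_ext
    · rw [coprod.inl_desc_assoc, Category.assoc, hov₁, hip₁]
    · rw [coprod.inr_desc_assoc, Category.assoc, hov₂, hip₂]
  obtain ⟨t₁⟩ := hiso₁ 1 O1 lam hO1 O1₁ lam₁ hO1₁
  obtain ⟨t₂⟩ := hiso₂ 1 O1 lam hO1 O1₂ lam₂ hO1₂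
  have hcompl := isCompl_opensRange_inl_inr X X'
  obtain ⟨ι⟩ := Groth.Agent.Lib.H60CoprodImm.nonempty_iso_of_pullback_iso
    (coprod.inl : X ⟶ X ⨿ X') (coprod.inr : X' ⟶ X ⨿ X') hcompl.inf_eq_bot hcompl.sup_eq_top
    (M := L'') (N := (Scheme.Modules.pullback (coprod.desc (i₁ ≫ g₁) (i₂ ≫ g₂))).obj O1)
    (e₁ ≪≫ (Scheme.Modules.pullback i₁).mapIso t₁.symm ≪≫ (Scheme.Modules.pullbackComp i₁ g₁).app O1 ≪≫
      (Scheme.Modules.pullbackCongr (coprod.inl_desc (i₁ ≫ g₁) (i₂ ≫ g₂)).symm).app O1 ≪≫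
      ((Scheme.Modules.pullbackComp coprod.inl (coprod.desc (i₁ ≫ g₁) (i₂ ≫ g₂))).app O1).symm)
    (e₂ ≪≫ (Scheme.Modules.pullback i₂).mapIso t₂.symm ≪≫ (Scheme.Modules.pullbackComp i₂ g₂).app O1 ≪≫
      (Scheme.Modules.pullbackCongr (coprod.inr_desc (i₁ ≫ g₁) (i₂ ≫ g₂)).symm).app O1 ≪≫
      ((Scheme.Modules.pullbackComp coprod.inr (coprod.desc (i₁ ≫ g₁) (i₂ ≫ g₂))).app O1).symm)
  exact ⟨E₁ ⊞ E₂, hEq, grSymAlg (E₁ ⊞ E₂), Groth.Agent.Lib.SymQCAlg.j (E₁ ⊞ E₂), isGrSymAlg (E₁ ⊞ E₂),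
    _, _, _, hP, O1, lam, hO1, coprod.desc (i₁ ≫ g₁) (i₂ ≫ g₂), himm, hcomm, ⟨ι⟩⟩

/-- Let X and X' be schemes with disjoint union X ⨿ X', let f'' : X ⨿ X' → Y be a morphism (given by a
morphism f on X and a morphism f' on X') and L'' an invertible module on X ⨿ X' (given by an
invertible O_X-module L and an invertible O_{X'}-module L'). Then L'' is very ample relative to f''
(isomorphic to the inverse image of O(1) along a Y-immersion of X into the projective bundle P(E) of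
a quasi-coherent O_Y-module E) if and only if L, the inverse image of L'' on X, is very ample
relative to f and L', the inverse image of L'' on X', is very ample relative to f'. -/
theorem result {X X' Y : Scheme.{u}} (f'' : X ⨿ X' ⟶ Y) (L'' : (X ⨿ X').Modules)
    (hL'' : PicF.IsInvertible L'') :
    RelProj.IsRelVeryAmple f'' L'' ↔
      RelProj.IsRelVeryAmple (coprod.inl ≫ f'') ((Scheme.Modules.pullback (coprod.inl : X ⟶ X ⨿ X')).obj L'') ∧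
        RelProj.IsRelVeryAmple (coprod.inr ≫ f'') ((Scheme.Modules.pullback (coprod.inr : X' ⟶ X ⨿ X')).obj L'') := by
  exact ⟨forward f'' L'', fun h => backward f'' L'' h.1 h.2⟩

end Groth.Agent.S12477
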