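import Groth.Statements.S1248
import Mathlib
import Groth.Agent.S1296
import Groth.Agent.Lib.HenselizationNbhd61

set_option autoImplicit false
universe u
open FlatMor

namespace Groth.Agent.S1248

section helpers

open scoped TensorProduct
open IsLocalRing
open Groth.Agent.Lib.HenselizationNbhd61

attribute [local instance] Algebra.TensorProduct.rightAlgebra

/-- Finitely many elements of the henselization come from one étale algebra. -/
theorem exists_nbhd_of_finset {R : Type u} [CommRing R] (p : Ideal R) [p.IsPrime] (Rh : Type u)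
    [CommRing Rh] [IsLocalRing Rh] [Algebra (Localization.AtPrime p) Rh]
    [IsLocalHom (algebraMap (Localization.AtPrime p) Rh)]
    [Hensel.IsHenselization (Localization.AtPrime p) Rh] [Algebra R Rh]
    [IsScalarTower R (Localization.AtPrime p) Rh] (T : Finset Rh) :
    ∃ (S : Type u) (_ : CommRing S) (_ : Algebra R S) (_ : Algebra.Etale R S)
      (θ : S →ₐ[R] Rh), ∀ x ∈ T, ∃ s : S, θ s = x := by
  classical
  induction T using Finset.induction_on with
  | empty =>
    exact ⟨R, inferInstance, inferInstance, inferInstance, Algebra.ofId R Rh,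
      fun x hx => absurd hx (Finset.notMem_empty x)⟩
  | insert x T _ ih =>
    obtain ⟨S₁, _, _, _, θ₁, h₁⟩ := ih
    obtain ⟨S₂, _, _, _, θ₂, s₂, hs₂⟩ := exists_nbhd_of_mem p Rh x
    haveI : Algebra.Etale S₁ (S₁ ⊗[R] S₂) := inferInstance
    haveI : Algebra.Etale R (S₁ ⊗[R] S₂) := Algebra.Etale.comp R S₁ _
    refine ⟨S₁ ⊗[R] S₂, inferInstance, inferInstance, inferInstance,
      Algebra.TensorProduct.productMap θ₁ θ₂, fun z hz => ?_⟩
    rcases Finset.mem_insert.mp hz with rfl | hz
    · exact ⟨1 ⊗ₜ s₂, by simp [hs₂]⟩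
    · obtain ⟨s₁, hs₁⟩ := h₁ z hz
      exact ⟨s₁ ⊗ₜ 1, by simp [hs₁]⟩

theorem main_generic {A B : Type u} [CommRing A] [CommRing B] [Algebra A B]
    [Algebra.FiniteType A B]
    (N : Type u) [AddCommGroup N] [Module B N] (p : Ideal A) [p.IsPrime]
    (A' B' N' : Type u) [CommRing A'] [CommRing B'] [Algebra A A'] [Algebra B B']
    [Algebra A' B'] [Algebra A B'] [IsScalarTower A B B'] [IsScalarTower A A' B']
    [AddCommGroup N'] [Module B' N'] [Module B N'] [IsScalarTower B B' N'] [Module A' N']
    [IsScalarTower A' B' N'] (f : N →ₗ[B] N') (t' t : Ideal A') [t'.IsPrime] [t.IsPrime]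
    (P : Ideal B') [P.IsPrime] (himp : FlatCA.IsImpurity A B N p A' B' N' f t' t P)
    [IsLocalRing A'] [Algebra (Localization.AtPrime p) A']
    [IsScalarTower A (Localization.AtPrime p) A']
    [IsLocalHom (algebraMap (Localization.AtPrime p) A')]
    [Hensel.IsHenselization (Localization.AtPrime p) A'] (ht : t = maximalIdeal A') :
    FlatCA.HasImpurity A B N p (fun A' _ _ t => ∃ _ : t.IsPrime, FlatCA.IsEtaleNhd A A' p t) := by
  classical
  have himp' := himp
  obtain ⟨hpush, hbc, hle, hover, hPover, hass, hcl⟩ := himp'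
  obtain ⟨s, hs, hsmem⟩ := Groth.Agent.S1296.exists_witness t P hcl
  obtain ⟨x, hx, y, hy, hxy⟩ := Submodule.mem_sup.mp hsmem
  obtain ⟨a, ha, hsum⟩ := Groth.Agent.S1296.exists_decomp hpush t y hy
  obtain ⟨S, _, _, hét, θ, hθ⟩ := exists_nbhd_of_finset p A' (insert s (a.support.image a))
  obtain ⟨s₁, hs₁⟩ := hθ s (Finset.mem_insert_self _ _)
  have hlift : ∀ b ∈ a.support, ∃ y : S, θ y = a b := fun b hb =>
    hθ _ (Finset.mem_insert_of_mem (Finset.mem_image_of_mem a hb))
  choose! c hc using hlift
  letI : Algebra S A' := θ.toRingHom.toAlgebra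
  haveI : IsScalarTower A S A' := .of_algebraMap_eq fun x => (θ.commutes x).symm
  have hpushS : Algebra.IsPushout A B S (S ⊗[A] B) := TensorProduct.isPushout'
  have hk : IsBaseChange (S ⊗[A] B) (TensorProduct.mk B (S ⊗[A] B) N 1) :=
    TensorProduct.isBaseChange B N _
  haveI : IsScalarTower S (S ⊗[A] B) ((S ⊗[A] B) ⊗[B] N) := inferInstance
  have hc' : ∀ b ∈ a.support, algebraMap S A' (c b) ∈ t := by
    intro b hb
    change θ (c b) ∈ t
    rw [hc b hb]
    exact ha b
  have hx' : algebraMap A' B' (algebraMap S A' s₁) -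
      ∑ b ∈ a.support, algebraMap A' B' (algebraMap S A' (c b)) * algebraMap B B' b ∈ P := by
    have h1 : ∑ b ∈ a.support, algebraMap A' B' (algebraMap S A' (c b)) * algebraMap B B' b
        = y := by
      rw [← hsum, Finsupp.sum]
      apply Finset.sum_congr rfl
      intro b hb
      change algebraMap A' B' (θ (c b)) * _ = _
      rw [hc b hb]
    have h2 : algebraMap S A' s₁ = s := hs₁
    rw [h1, h2, ← hxy, add_sub_cancel_right]
    exact hx
  have hs₁' : algebraMap S A' s₁ ∉ t := by
    change θ s₁ ∉ t
    rw [hs₁]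
    exact hs
  obtain ⟨P'', hP'', himp₁⟩ := Groth.Agent.S1296.pushdown_limit N p S (S ⊗[A] B)
    ((S ⊗[A] B) ⊗[B] N) hpushS _ hk A' B' N' f t' t P himp s₁ hs₁' a.support c hc' hx'
  refine ⟨S, S ⊗[A] B, (S ⊗[A] B) ⊗[B] N, inferInstance, inferInstance, inferInstance,
    inferInstance, inferInstance, inferInstance, inferInstance, inferInstance, inferInstance,
    inferInstance, inferInstance, inferInstance, inferInstance, inferInstance, _, t'.under S,
    t.under S, inferInstance, inferInstance, P'', hP'', himp₁, inferInstance, hét, ?_⟩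
  subst ht
  have h1 := comap_comap_eq p A' θ
  have h2 := residueField_map_bijective p A' θ
  exact ⟨⟨h1⟩, h2⟩

theorem main {A B : Type u} [CommRing A] [CommRing B] [Algebra A B] [Algebra.FiniteType A B]
    (N : Type u) [AddCommGroup N] [Module B N] (p : Ideal A) [p.IsPrime]
    (h : FlatCA.HasImpurity A B N p (fun A' _ _ t => ∃ (_ : IsLocalRing A')
        (_ : Algebra (Localization.AtPrime p) A')
        (_ : IsScalarTower A (Localization.AtPrime p) A')
        (_ : IsLocalHom (algebraMap (Localization.AtPrime p) A')),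
        Hensel.IsHenselization (Localization.AtPrime p) A' ∧ t = maximalIdeal A')) :
    FlatCA.HasImpurity A B N p (fun A' _ _ t => ∃ _ : t.IsPrime, FlatCA.IsEtaleNhd A A' p t) := by
  obtain ⟨A', B', N', _, _, _, _, _, _, _, _, _, _, _, _, _, _, f, t', t, _, _, P, _, himp,
    _, _, _, _, _, ht⟩ := h
  exact main_generic N p A' B' N' f t' t P himp ht

end helpers

open IsLocalRing in
/-- Ring form, X = Spec B affine: let B be a finite type A-algebra, N a finite B-module and p a prime of
A. If there is an impurity of N above p whose base change ring A' is a henselization of the local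
ring A_p (compatibly with A → A_p) and whose point t is the maximal ideal, then there is an impurity
of N above p for which (A', t) is an elementary étale ring map at p. -/
theorem result {A B : Type u} [CommRing A] [CommRing B] [Algebra A B] [Algebra.FiniteType A B]
    (N : Type u) [AddCommGroup N] [Module B N] [Module.Finite B N] (p : Ideal A) [p.IsPrime]
    (h : FlatCA.HasImpurity A B N p (fun A' _ _ t => ∃ (_ : IsLocalRing A') (_ : Algebra (Localization.AtPrime p) A')
        (_ : IsScalarTower A (Localization.AtPrime p) A') (_ : IsLocalHom (algebraMap (Localization.AtPrime p) A')),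
        Hensel.IsHenselization (Localization.AtPrime p) A' ∧ t = maximalIdeal A')) :
    FlatCA.HasImpurity A B N p (fun A' _ _ t => ∃ _ : t.IsPrime, FlatCA.IsEtaleNhd A A' p t) := by
  exact main N p h

end Groth.Agent.S1248
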