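import Groth.Statements.S12480
import Groth.Agent.Lib.H60BundleBC
import Groth.Agent.Lib.H90OXModQcqs
import Groth.Agent.Lib.H60RelTwistExists
import Groth.Agent.Lib.H60LineSym
import Groth.Agent.Lib.RelTwistInv
import Groth.Agent.Lib.RelTwistEpi
import Groth.Agent.S12143
import Groth.Agent.S12472

set_option autoImplicit false
universe u
open CategoryTheory CategoryTheory.Limits AlgebraicGeometry TopologicalSpace Opposite
open scoped HomogeneousIdeal
open EGA2

namespace Groth.Agent.S12480


/-- An invertible module is very ample relative to a quasi-compact open immersion. -/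
theorem main_openImm {X Y : Scheme.{u}} (f : X ⟶ Y) [IsOpenImmersion f] [QuasiCompact f]
    (L : X.Modules) (hL : PicF.IsInvertible L) : RelProj.IsRelVeryAmple f L := by
  have hLq : Coh.IsQCoh L := Groth.Agent.Lib.H90Invertible.isQCoh_of_isInvertible hL
  haveI : L.IsQuasicoherent := hLq
  have hE : Coh.IsQCoh ((Scheme.Modules.pushforward f).obj L) :=
    Groth.Agent.Lib.H90OXModQcqs.isQuasicoherent_pushforward_of_qcqs f L
  have eL : (Scheme.Modules.pullback f).obj ((Scheme.Modules.pushforward f).obj L) ≅ L :=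
    (Scheme.Modules.restrictFunctorIsoPullback f).symm.app _ ≪≫
      (Scheme.Modules.restrictFunctorAdjCounitIso f).app L
  have hj := Groth.Agent.Lib.H60GrSym.isGrSymAlg ((Scheme.Modules.pushforward f).obj L)
  have hP := Groth.Agent.Lib.RelProjExists.isRelProj
    (Groth.Agent.Lib.H60GrSym.grSymAlg ((Scheme.Modules.pushforward f).obj L))
  obtain ⟨O1, lam, hO1⟩ := Groth.Agent.Lib.H60RelTwistExists.exists_relTwist hP 1
  obtain ⟨hE', 𝒮', j', hj', P', p', chart', hP', O1', lam', hO1', h, hpb, ⟨eh⟩⟩ :=
    Groth.Agent.Lib.H60BundleBC.exists_baseChange f _ hE _ _ hj _ _ hP O1 lam hO1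
  have hL' : PicF.IsInvertible ((Scheme.Modules.pullback f).obj ((Scheme.Modules.pushforward f).obj L)) :=
    Groth.Agent.Lib.H90Invertible.isInvertible_of_iso eL.symm hL
  haveI : IsIso p' := Groth.Agent.S12143.result _ hL' hE' 𝒮' j' hj' p' chart' hP'
  haveI : IsOpenImmersion h :=
    MorphismProperty.of_isPullback (P := @IsOpenImmersion) hpb.flip inferInstance
  have hgen' := Groth.Agent.Lib.H60LineSym.isGenDegOne _ hE' 𝒮' j' hj'
  obtain ⟨φ, hφ⟩ := Groth.Agent.Lib.H60CanonPhi.exists_phi hP' _ j' hj' hO1'
  haveI : Epi (((Scheme.Modules.pullbackPushforwardAdjunction p').homEquiv _ O1').symm φ) :=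
    Groth.Agent.Lib.RelTwistEpi.epi_adjoint _ hE' j' hj' hO1' φ hφ
  have hiso := Groth.Agent.S12472.isIso_of_epi_of_isInvertible
    (Groth.Agent.Lib.H90Invertible.isInvertible_pullback p' hL')
    (Groth.Agent.Lib.RelTwistInv.isInvertible_relTwist_of_gen hgen' 1 hO1')
    (((Scheme.Modules.pullbackPushforwardAdjunction p').homEquiv _ O1').symm φ)
  have hi : (inv p' ≫ h) ≫ Groth.Agent.Lib.RelProjExists.relProjHom
      (Groth.Agent.Lib.H60GrSym.grSymAlg ((Scheme.Modules.pushforward f).obj L)) = f := by
    rw [Category.assoc, hpb.w, IsIso.inv_hom_id_assoc]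
  refine ⟨_, hE, _, _, hj, _, _, _, hP, O1, lam, hO1, inv p' ≫ h, inferInstance, hi, ⟨?_⟩⟩
  exact eL.symm ≪≫ (Scheme.Modules.pullbackId X).symm.app _ ≪≫
    (Scheme.Modules.pullbackCongr (IsIso.inv_hom_id p').symm).app _ ≪≫
    (Scheme.Modules.pullbackComp (inv p') p').symm.app _ ≪≫
    (Scheme.Modules.pullback (inv p')).mapIso (@asIso _ _ _ _ _ hiso) ≪≫
    (Scheme.Modules.pullback (inv p')).mapIso eh.symm ≪≫
    (Scheme.Modules.pullbackComp (inv p') h).app O1

theorem main (X : Scheme.{u}) [X.IsQuasiAffine] (L : X.Modules)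
    (hL : PicF.IsInvertible L) : RelProj.IsRelVeryAmple X.toSpecΓ L :=
  main_openImm X.toSpecΓ L hL

/-- Let X be a quasi-affine scheme and L an invertible O_X-module. Then L is very ample relative to the
canonical morphism u : X → Spec Γ(X, O_X): there are a quasi-coherent module E on that spectrum and
an immersion i of X into the projective bundle P(E), compatible with u, with L isomorphic to
i^*O_{P(E)}(1). (The published statement adds that L is then ample; that assertion is stated
separately.) -/
theorem result (X : Scheme.{u}) [X.IsQuasiAffine] (L : X.Modules)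
    (hL : PicF.IsInvertible L) : RelProj.IsRelVeryAmple X.toSpecΓ L := by
  exact main X L hL

end Groth.Agent.S12480
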