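import Groth.Statements.S12483
import Groth.Agent.Lib.H43ExtSheafHom
import Groth.Agent.Lib.H43SheafHomLocFree

set_option autoImplicit false
universe u
open CategoryTheory CategoryTheory.Limits AlgebraicGeometry
open Coherent

namespace Groth.Agent.S12483

/-- Let `X` be a scheme, `A` an `O_X`-module which is finite locally free (every point has an open
neighbourhood over which `A` is isomorphic to some `O^n`) and for which the internal Hom functor
`Hom_{O_X}(A, -)` exists (right adjoint of `A ⊗ -`), `B` any `O_X`-module and `p ≥ 0`. Then
`Ext^p_{O_X}(X; A, B)`, the Ext group computed in the category of `O_X`-modules, is isomorphic to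
`H^p(X, Hom_{O_X}(A, B))`. (Existence of an isomorphism of abelian groups only; the published
isomorphisms are canonical, the edge maps of the local-to-global spectral sequence for Ext. The
published statement is for an arbitrary ringed space; this row is the case of a scheme.) -/
theorem result (X : Scheme.{u}) [HasExt.{u} X.Modules]
    (A B : X.Modules) (hA : FlatMod.IsFinLocFree A) [DCoh.HasSheafHom A] (p : ℕ) :
    Nonempty (Abelian.Ext A B p ≃+ Coh.HH X ((DCoh.sheafHom A).obj B) p) := by
  -- `DCoh.tensorBi` is `ModSite.tensorBi X.sheaf` objectwise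
  let τ : (DCoh.tensorBi (X := X)).obj A ≅ (ModSite.tensorBi X.sheaf).obj A :=
    NatIso.ofComponents (fun N => Iso.refl _) (by
      intro N N' f
      simp only [Iso.refl_hom]
      exact (Category.comp_id _).trans (Category.id_comp _).symm)
  let adj : (ModSite.tensorBi X.sheaf).obj A ⊣ DCoh.sheafHom A :=
    (DCoh.sheafHomAdj A).ofNatIsoLeft τ
  have hS : ModSite.HasSheafHom (O := X.sheaf) A :=
    Groth.Agent.Lib.ModSiteTensor.hasSheafHom X.sheaf A
  have h1 : PreservesFiniteColimits (ModSite.sheafHom (O := X.sheaf) A) :=
    Groth.Agent.Lib.H43SheafHomLocFree.preservesFiniteColimits_sheafHom A hA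
  have h2 : PreservesFiniteColimits (DCoh.sheafHom A) :=
    @preservesFiniteColimits_of_natIso _ _ _ _ _ _
      (Groth.Agent.Lib.H43ExtSheafHom.rightAdjIso X.sheaf A adj).symm h1
  exact @Groth.Agent.Lib.H43ExtSheafHom.nonempty_ext_addEquiv_H _ _ _ X.sheaf ‹HasExt.{u} X.Modules›
    A (DCoh.sheafHom A) adj h2 B p

end Groth.Agent.S12483
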