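import Groth.Statements.S12491
import Groth.Agent.Lib.H87GlDim2
import Groth.Agent.Lib.H87Serre2
import Mathlib

set_option autoImplicit false
universe u
open VBPn

namespace Groth.Agent.S12491


open CategoryTheory

/-- Dimension shifting: the kernel of a surjection from a projective module. -/
theorem pd_ker {R : Type u} [CommRing R] {P Q : Type u} [AddCommGroup P] [Module R P]
    [AddCommGroup Q] [Module R Q] [Module.Projective R P] (f : P →ₗ[R] Q)
    (hf : Function.Surjective f) (n : ℕ)
    (h : HasProjectiveDimensionLT (ModuleCat.of R Q) (n + 2)) :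
    HasProjectiveDimensionLT (ModuleCat.of R (LinearMap.ker f)) (n + 1) := by
  have hS := LinearMap.shortExact_shortComplexKer hf
  have hP : Projective (ModuleCat.of R P) := (IsProjective.iff_projective P).mp inferInstance
  exact hS.hasProjectiveDimensionLT_X₁ (n + 1) inferInstance h

/-- Dimension shifting for a submodule of a projective module. -/
theorem pd_submodule {R : Type u} [CommRing R] {P : Type u} [AddCommGroup P] [Module R P]
    [Module.Projective R P] (X : Submodule R P) (n : ℕ)
    (h : HasProjectiveDimensionLT (ModuleCat.of R (P ⧸ X)) (n + 2)) :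
    HasProjectiveDimensionLT (ModuleCat.of R X) (n + 1) := by
  have h1 := pd_ker X.mkQ X.mkQ_surjective n h
  have e : LinearMap.ker X.mkQ ≃ₗ[R] X := LinearEquiv.ofEq _ _ X.ker_mkQ
  exact hasProjectiveDimensionLT_of_iso e.toModuleIso (n + 1)

theorem projective_of_exact {R : Type u} [CommRing R] (M : ℕ → Type u)
    [∀ i, AddCommGroup (M i)] [∀ i, Module R (M i)]
    (d : ∀ i, M i →ₗ[R] M (i + 1)) (hinj : Function.Injective (d 0)) :
    ∀ k : ℕ, (∀ i, 1 ≤ i → i ≤ k + 1 → Module.Projective R (M i)) →
      (∀ i, i + 1 < k + 1 → LinearMap.range (d i) = LinearMap.ker (d (i + 1))) →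
      HasProjectiveDimensionLT (ModuleCat.of R (M (k + 1) ⧸ LinearMap.range (d k))) (k + 2) →
      Module.Projective R (M 0) := by
  intro k
  induction k with
  | zero =>
    intro hproj _ hpd
    have := hproj 1 le_rfl le_rfl
    have h1 : HasProjectiveDimensionLT (ModuleCat.of R (LinearMap.range (d 0))) 1 :=
      pd_submodule _ 0 hpd
    have h2 : Projective (ModuleCat.of R (LinearMap.range (d 0))) := inferInstance
    have h3 : Module.Projective R (LinearMap.range (d 0)) :=
      (IsProjective.iff_projective _).mpr h2
    exact Module.Projective.of_equiv (LinearEquiv.ofInjective (d 0) hinj).symm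
  | succ k ih =>
    intro hproj hex hpd
    have := hproj (k + 2) (by omega) le_rfl
    have h1 : HasProjectiveDimensionLT (ModuleCat.of R (LinearMap.range (d (k + 1)))) (k + 2) :=
      pd_submodule _ (k + 1) hpd
    have e1 : (M (k + 1) ⧸ LinearMap.ker (d (k + 1))) ≃ₗ[R] LinearMap.range (d (k + 1)) :=
      LinearMap.quotKerEquivRange (d (k + 1))
    have e2 : (M (k + 1) ⧸ LinearMap.range (d k)) ≃ₗ[R] (M (k + 1) ⧸ LinearMap.ker (d (k + 1))) :=
      Submodule.quotEquivOfEq _ _ (hex k (by omega))
    have h2 : HasProjectiveDimensionLT (ModuleCat.of R (M (k + 1) ⧸ LinearMap.range (d k)))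
        (k + 2) :=
      hasProjectiveDimensionLT_of_iso (e2.trans e1).symm.toModuleIso (k + 2)
    exact ih (fun i h1 h2 => hproj i h1 (by omega)) (fun i hi => hex i (by omega)) h2


/-- Let A be a regular local ring, k ≥ 0, and N_0, N_1, … A-modules with N_0 finitely generated and N_1,
…, N_k finitely generated and free, with linear maps d_i : N_i → N_{i+1} such that d_0 is injective
and the sequence 0 → N_0 → N_1 → ⋯ → N_k is exact. Then for every prime ideal p of A of height at
most k the localization of N_0 at p is a free module over A_p. The published statement is for a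
coherent analytic sheaf on a complex manifold that is locally a k-th syzygy sheaf and says its set
of non-free stalks has codimension greater than k; this row is the statement at one stalk, over any
regular local ring. -/
theorem result (A : Type u) [CommRing A] [IsRegularLocalRing A]
    (k : ℕ) (N : ℕ → Type u) [∀ i, AddCommGroup (N i)] [∀ i, Module A (N i)] [Module.Finite A (N 0)]
    (hfree : ∀ i, 1 ≤ i → i ≤ k → Module.Free A (N i) ∧ Module.Finite A (N i))
    (d : ∀ i, N i →ₗ[A] N (i + 1)) (hinj : Function.Injective (d 0))
    (hex : ∀ i, i + 1 < k → LinearMap.range (d i) = LinearMap.ker (d (i + 1)))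
    (p : Ideal A) [p.IsPrime] (hp : p.height ≤ k) :
    Module.Free (Localization.AtPrime p) (LocalizedModule p.primeCompl (N 0)) := by
  have hreg : IsRegularLocalRing (Localization.AtPrime p) :=
    Groth.Agent.Lib.H87Serre2.isRegularLocalRing_localization p
  -- dimension of `A_p`
  have hdim : ringKrullDim (Localization.AtPrime p) = p.height :=
    IsLocalization.AtPrime.ringKrullDim_eq_height p _
  have hfin : p.height ≠ ⊤ := ne_top_of_le_ne_top (by simp) hp
  obtain ⟨h, hh⟩ := ENat.ne_top_iff_exists.mp hfin
  have hhk : h ≤ k := by
    rw [← hh] at hp; exact_mod_cast hp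
  have hdim' : ringKrullDim (Localization.AtPrime p) = (h : ℕ) := by
    rw [hdim, ← hh]; rfl
  have hgl : ∀ X : ModuleCat.{u} (Localization.AtPrime p), HasProjectiveDimensionLT X (k + 1) :=
    fun X => by
      have := Groth.Agent.Lib.H87GlDim2.hasProjectiveDimensionLT_of_isRegularLocalRing
        (A := Localization.AtPrime p) h hdim' X
      exact hasProjectiveDimensionLT_of_ge X (h + 1) (k + 1) (by omega)
  -- `(N 0)_p` is projective
  have hprojective : Module.Projective (Localization.AtPrime p)
      (LocalizedModule p.primeCompl (N 0)) := by
    rcases Nat.eq_zero_or_pos k with hk | hk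
    · subst hk
      have h1 := hgl (ModuleCat.of _ (LocalizedModule p.primeCompl (N 0)))
      have h2 : Projective (ModuleCat.of (Localization.AtPrime p)
          (LocalizedModule p.primeCompl (N 0))) := inferInstance
      exact (IsProjective.iff_projective _).mpr h2
    · obtain ⟨k, rfl⟩ : ∃ k', k = k' + 1 := ⟨k - 1, by omega⟩
      refine projective_of_exact (R := Localization.AtPrime p)
        (fun i => LocalizedModule p.primeCompl (N i))
        (fun i => LocalizedModule.map p.primeCompl (d i))
        (LocalizedModule.map_injective _ _ hinj) k ?_ ?_ (hgl _)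
      · intro i h1 h2
        obtain ⟨hf1, hf2⟩ := hfree i h1 h2
        have : Module.Projective A (N i) := inferInstance
        exact Module.Projective.of_equiv
          (IsLocalizedModule.isBaseChange p.primeCompl (Localization.AtPrime p)
            (LocalizedModule.mkLinearMap p.primeCompl (N i))).equiv
      · intro i hi
        have hexact : Function.Exact (d i) (d (i + 1)) :=
          LinearMap.exact_iff.mpr (hex i hi).symm
        have h3 := IsLocalizedModule.map_exact p.primeCompl
          (LocalizedModule.mkLinearMap p.primeCompl (N i))
          (LocalizedModule.mkLinearMap p.primeCompl (N (i + 1)))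
          (LocalizedModule.mkLinearMap p.primeCompl (N (i + 1 + 1))) (d i) (d (i + 1)) hexact
        have h4 : Function.Exact (LocalizedModule.map p.primeCompl (d i))
            (LocalizedModule.map p.primeCompl (d (i + 1))) := h3
        exact (LinearMap.exact_iff.mp h4).symm
  have : Module.Finite (Localization.AtPrime p) (LocalizedModule p.primeCompl (N 0)) :=
    inferInstance
  exact Module.free_of_flat_of_isLocalRing

end Groth.Agent.S12491
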