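import Groth.Statements.S12498
import Mathlib
import Groth.Agent.Lib.ArtinSocle88

set_option autoImplicit false
universe u
open Deform

namespace Groth.Agent.S12498

section helpers

open IsLocalRing

variable {A : Type*} [CommRing A] [IsLocalRing A] {B : Type*} [CommRing B] [Algebra A B]

/-- flatness: the annihilator of `t` in `B` is `𝔪 B`. -/
theorem mem_map_of_mul_eq_zero [Module.Flat A B] (t : A) (ht0 : t ≠ 0) (x : B)
    (hx : algebraMap A B t * x = 0) : x ∈ (maximalIdeal A).map (algebraMap A B) := by
  have h1 : t • x ∈ ((⊥ : Ideal A) • ⊤ : Submodule A B) := by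
    have h0 : t • x = algebraMap A B t * x := Algebra.smul_def t x
    rw [h0, hx]
    exact Submodule.zero_mem _
  have h2 := Groth.Agent.Lib.ArtinSocle88.mem_colon_smul_top_of_smul_mem ⊥ t x h1
  have h3 : LinearMap.ker ((⊥ : Ideal A).mkQ ∘ₗ LinearMap.toSpanSingleton A A t) ≤
      maximalIdeal A := by
    apply IsLocalRing.le_maximalIdeal
    intro htop
    have h5 : (1 : A) ∈ LinearMap.ker ((⊥ : Ideal A).mkQ ∘ₗ LinearMap.toSpanSingleton A A t) :=
      htop ▸ Submodule.mem_top
    rw [LinearMap.mem_ker, LinearMap.comp_apply, LinearMap.toSpanSingleton_apply, one_smul,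
      Submodule.mkQ_apply, Submodule.Quotient.mk_eq_zero, Submodule.mem_bot] at h5
    exact ht0 h5
  have h4 : x ∈ (maximalIdeal A • ⊤ : Submodule A B) := Submodule.smul_mono h3 le_rfl h2
  have := (Groth.Agent.Lib.ArtinSocle88.mem_map_smul_top_iff (S := B) (M := B)
    (maximalIdeal A) x).mpr h4
  rwa [smul_eq_mul, Ideal.mul_top] at this

theorem mul_eq_zero_of_mem_map (t : A) (htm : ∀ a ∈ maximalIdeal A, a * t = 0) (x : B)
    (hx : x ∈ (maximalIdeal A).map (algebraMap A B)) : algebraMap A B t * x = 0 := by
  have h1 : x ∈ (maximalIdeal A • ⊤ : Submodule A B) :=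
    (Groth.Agent.Lib.ArtinSocle88.mem_map_smul_top_iff (S := B) (M := B)
      (maximalIdeal A) x).mp (by rw [smul_eq_mul, Ideal.mul_top]; exact hx)
  refine Submodule.smul_induction_on h1 ?_ ?_
  · intro a ha b _
    rw [Algebra.smul_def, ← mul_assoc, ← map_mul, mul_comm t a, htm a ha, map_zero, zero_mul]
  · intro u v hu hv
    rw [mul_add, hu, hv, add_zero]

theorem mul_eq_mul_iff [Module.Flat A B] (t : A) (ht0 : t ≠ 0)
    (htm : ∀ a ∈ maximalIdeal A, a * t = 0) (x y : B) :
    algebraMap A B t * x = algebraMap A B t * y ↔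
      Ideal.Quotient.mk ((maximalIdeal A).map (algebraMap A B)) x =
        Ideal.Quotient.mk ((maximalIdeal A).map (algebraMap A B)) y := by
  rw [Ideal.Quotient.eq]
  constructor
  · intro h
    apply mem_map_of_mul_eq_zero t ht0
    rw [mul_sub, h, sub_self]
  · intro h
    have := mul_eq_zero_of_mem_map t htm _ h
    rw [mul_sub, sub_eq_zero] at this
    exact this

theorem map_mem_map (φ : B →ₗ[A] B) (x : B)
    (hx : x ∈ (maximalIdeal A).map (algebraMap A B)) :
    φ x ∈ (maximalIdeal A).map (algebraMap A B) := by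
  have h1 : x ∈ (maximalIdeal A • ⊤ : Submodule A B) :=
    (Groth.Agent.Lib.ArtinSocle88.mem_map_smul_top_iff (S := B) (M := B)
      (maximalIdeal A) x).mp (by rw [smul_eq_mul, Ideal.mul_top]; exact hx)
  have h2 : φ x ∈ (maximalIdeal A • ⊤ : Submodule A B) := by
    refine Submodule.smul_induction_on h1 ?_ ?_
    · intro a ha b _
      rw [map_smul]
      exact Submodule.smul_mem_smul ha Submodule.mem_top
    · intro u v hu hv
      rw [map_add]
      exact Submodule.add_mem _ hu hv
  have := (Groth.Agent.Lib.ArtinSocle88.mem_map_smul_top_iff (S := B) (M := B)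
    (maximalIdeal A) (φ x)).mpr h2
  rwa [smul_eq_mul, Ideal.mul_top] at this

end helpers

/-- Let k be an algebraically closed field, A a local Artinian k-algebra with residue field k, and t a
nonzero element of the maximal ideal m_A annihilated by m_A, so that A → A/tA is a small extension.
Let B be a flat A-algebra (a deformation over A of its closed fibre B_0 = B/m_A B), and σ an
A-algebra automorphism of B/tB inducing the identity on B_0. Fix an A-algebra automorphism τ of B
inducing σ (so τ induces the identity on B_0). Then the A-algebra automorphisms η of B inducing σ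
correspond bijectively to the k-derivations d of B_0 through the rule η = τ + t·d, meaning η(b) =
τ(b) + t b′ for all b ∈ B and all b′ ∈ B lifting d applied to the image of b in B_0: every such η
determines a unique d, and every d comes from some such η. (The published statement phrases the
conclusion as a free and transitive action of Der_k(B_0, B_0) on the nonempty set of lifts of σ; the
condition that σ induces the identity on B_0 is expressed here through the chosen lift τ.) -/
theorem result
    {k : Type u} [Field k] [IsAlgClosed k]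
    {A : Type u} [CommRing A] [Algebra k A] [IsLocalRing A] [IsArtinianRing A]
    (hres : ∀ a : A, ∃ c : k, a - algebraMap k A c ∈ IsLocalRing.maximalIdeal A)
    (t : A) (ht : t ∈ IsLocalRing.maximalIdeal A) (ht0 : t ≠ 0)
    (htm : ∀ a ∈ IsLocalRing.maximalIdeal A, a * t = 0)
    {B : Type u} [CommRing B] [Algebra A B] [Module.Flat A B] [Algebra k B] [IsScalarTower k A B]
    (σ : (B ⧸ Ideal.span {algebraMap A B t}) ≃ₐ[A] (B ⧸ Ideal.span {algebraMap A B t}))
    (τ : B ≃ₐ[A] B)
    (hτ : ∀ b : B, Ideal.Quotient.mk (Ideal.span {algebraMap A B t}) (τ b) =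
      σ (Ideal.Quotient.mk (Ideal.span {algebraMap A B t}) b))
    (hτ0 : ∀ b : B, τ b - b ∈ (IsLocalRing.maximalIdeal A).map (algebraMap A B)) :
    (∀ η : B ≃ₐ[A] B, (∀ b : B, Ideal.Quotient.mk (Ideal.span {algebraMap A B t}) (η b) =
        σ (Ideal.Quotient.mk (Ideal.span {algebraMap A B t}) b)) →
      ∃! d : Derivation k (B ⧸ (IsLocalRing.maximalIdeal A).map (algebraMap A B))
          (B ⧸ (IsLocalRing.maximalIdeal A).map (algebraMap A B)),
        ∀ b b' : B, Ideal.Quotient.mk ((IsLocalRing.maximalIdeal A).map (algebraMap A B)) b' =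
            d (Ideal.Quotient.mk ((IsLocalRing.maximalIdeal A).map (algebraMap A B)) b) →
          η b = τ b + algebraMap A B t * b') ∧
    (∀ d : Derivation k (B ⧸ (IsLocalRing.maximalIdeal A).map (algebraMap A B))
        (B ⧸ (IsLocalRing.maximalIdeal A).map (algebraMap A B)),
      ∃ η : B ≃ₐ[A] B, (∀ b : B, Ideal.Quotient.mk (Ideal.span {algebraMap A B t}) (η b) =
          σ (Ideal.Quotient.mk (Ideal.span {algebraMap A B t}) b)) ∧
        ∀ b b' : B, Ideal.Quotient.mk ((IsLocalRing.maximalIdeal A).map (algebraMap A B)) b' =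
            d (Ideal.Quotient.mk ((IsLocalRing.maximalIdeal A).map (algebraMap A B)) b) →
          η b = τ b + algebraMap A B t * b') := by
  classical
  -- basic facts
  have hTT : algebraMap A B t * algebraMap A B t = 0 := by
    rw [← map_mul, htm t ht, map_zero]
  have hTn : algebraMap A B t ∈ (IsLocalRing.maximalIdeal A).map (algebraMap A B) :=
    Ideal.mem_map_of_mem _ ht
  have hiff := mul_eq_mul_iff (B := B) t ht0 htm
  have hz := mul_eq_zero_of_mem_map (B := B) t htm
  have hTτ : ∀ b : B, algebraMap A B t * τ b = algebraMap A B t * b := by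
    intro b
    have := hz _ (hτ0 b)
    rw [mul_sub, sub_eq_zero] at this
    exact this
  have hsurj : Function.Surjective
      (Ideal.Quotient.mk ((IsLocalRing.maximalIdeal A).map (algebraMap A B))) :=
    Ideal.Quotient.mk_surjective
  have hkB : ∀ c : k, algebraMap k B c = algebraMap A B (algebraMap k A c) := fun c =>
    IsScalarTower.algebraMap_apply k A B c
  refine ⟨?_, ?_⟩
  · -- part 1
    intro η hη
    -- D b = η b - τ b ∈ T B
    have hD : ∀ b : B, ∃ c : B, η b - τ b = algebraMap A B t * c := by
      intro b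
      have h1 : η b - τ b ∈ Ideal.span {algebraMap A B t} := by
        rw [← Ideal.Quotient.eq, hη, hτ]
      obtain ⟨c, hc⟩ := Ideal.mem_span_singleton'.mp h1
      exact ⟨c, by rw [← hc, mul_comm]⟩
    -- D vanishes on 𝔫
    have hDn : ∀ b : B, b ∈ (IsLocalRing.maximalIdeal A).map (algebraMap A B) → η b = τ b := by
      intro b hb
      have h1 : b ∈ (IsLocalRing.maximalIdeal A • ⊤ : Submodule A B) :=
        (Groth.Agent.Lib.ArtinSocle88.mem_map_smul_top_iff (S := B) (M := B)
          (IsLocalRing.maximalIdeal A) b).mp (by rw [smul_eq_mul, Ideal.mul_top]; exact hb)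
      refine Submodule.smul_induction_on h1 ?_ ?_
      · intro a ha r _
        obtain ⟨c, hc⟩ := hD r
        rw [map_smul, map_smul, ← sub_eq_zero, ← smul_sub, hc, Algebra.smul_def, ← mul_assoc,
          ← map_mul, htm a ha, map_zero, zero_mul]
      · intro u v hu hv
        rw [map_add, map_add, hu, hv]
    -- the function d₀
    have hchoice : ∀ e : B ⧸ (IsLocalRing.maximalIdeal A).map (algebraMap A B),
        ∃ e' : B ⧸ (IsLocalRing.maximalIdeal A).map (algebraMap A B), ∀ b c : B,
          Ideal.Quotient.mk _ b = e → η b - τ b = algebraMap A B t * c →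
            Ideal.Quotient.mk _ c = e' := by
      intro e
      obtain ⟨b₀, rfl⟩ := hsurj e
      obtain ⟨c₀, hc₀⟩ := hD b₀
      refine ⟨Ideal.Quotient.mk _ c₀, fun b c hb hc => ?_⟩
      rw [← hiff, ← hc, ← hc₀]
      have h1 : b - b₀ ∈ (IsLocalRing.maximalIdeal A).map (algebraMap A B) :=
        Ideal.Quotient.eq.mp hb
      have h2 := hDn _ h1
      rw [map_sub, map_sub] at h2
      linear_combination h2
    choose d₀ hd₀ using hchoice
    have hd₀' : ∀ b c : B, η b - τ b = algebraMap A B t * c →
        d₀ (Ideal.Quotient.mk _ b) = Ideal.Quotient.mk _ c := fun b c hc =>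
      (hd₀ _ b c rfl hc).symm
    -- linear map
    have hadd : ∀ e₁ e₂, d₀ (e₁ + e₂) = d₀ e₁ + d₀ e₂ := by
      intro e₁ e₂
      obtain ⟨b₁, rfl⟩ := hsurj e₁
      obtain ⟨b₂, rfl⟩ := hsurj e₂
      obtain ⟨c₁, hc₁⟩ := hD b₁
      obtain ⟨c₂, hc₂⟩ := hD b₂
      rw [hd₀' b₁ c₁ hc₁, hd₀' b₂ c₂ hc₂, ← map_add, ← map_add]
      apply hd₀'
      rw [map_add, map_add, mul_add, ← hc₁, ← hc₂]
      ring
    have hsmul : ∀ (c : k) e, d₀ (c • e) = c • d₀ e := by
      intro c e
      obtain ⟨b, rfl⟩ := hsurj e
      obtain ⟨c₁, hc₁⟩ := hD b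
      have h1 : c • (Ideal.Quotient.mk ((IsLocalRing.maximalIdeal A).map (algebraMap A B)) b) =
          Ideal.Quotient.mk _ (algebraMap k B c * b) := by
        rw [Algebra.smul_def, map_mul]
        rfl
      have h2 : c • (Ideal.Quotient.mk ((IsLocalRing.maximalIdeal A).map (algebraMap A B)) c₁) =
          Ideal.Quotient.mk _ (algebraMap k B c * c₁) := by
        rw [Algebra.smul_def, map_mul]
        rfl
      rw [hd₀' b c₁ hc₁, h1, h2]
      apply hd₀'
      rw [map_mul, map_mul, hkB, AlgEquiv.commutes, AlgEquiv.commutes, ← mul_sub, hc₁]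
      ring
    let dl : (B ⧸ (IsLocalRing.maximalIdeal A).map (algebraMap A B)) →ₗ[k]
        (B ⧸ (IsLocalRing.maximalIdeal A).map (algebraMap A B)) :=
      { toFun := d₀
        map_add' := hadd
        map_smul' := hsmul }
    have hleib : ∀ e₁ e₂, dl (e₁ * e₂) = e₁ • dl e₂ + e₂ • dl e₁ := by
      intro e₁ e₂
      obtain ⟨b₁, rfl⟩ := hsurj e₁
      obtain ⟨b₂, rfl⟩ := hsurj e₂
      obtain ⟨c₁, hc₁⟩ := hD b₁
      obtain ⟨c₂, hc₂⟩ := hD b₂
      show d₀ _ = _ • d₀ _ + _ • d₀ _
      rw [hd₀' b₁ c₁ hc₁, hd₀' b₂ c₂ hc₂, ← map_mul, smul_eq_mul, smul_eq_mul, ← map_mul,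
        ← map_mul, ← map_add]
      apply hd₀'
      have e1 : η b₁ = τ b₁ + algebraMap A B t * c₁ := by rw [← hc₁]; ring
      have e2 : η b₂ = τ b₂ + algebraMap A B t * c₂ := by rw [← hc₂]; ring
      rw [map_mul, map_mul, e1, e2]
      have h1 := hTτ b₁
      have h2 := hTτ b₂
      linear_combination (c₁ * c₂) * hTT + c₂ * h1 + c₁ * h2
    let d : Derivation k (B ⧸ (IsLocalRing.maximalIdeal A).map (algebraMap A B))
        (B ⧸ (IsLocalRing.maximalIdeal A).map (algebraMap A B)) := Derivation.mk' dl hleib
    have hdapp : ∀ e, d e = d₀ e := fun e => rfl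
    refine ⟨d, ?_, ?_⟩
    · intro b b' hb'
      obtain ⟨c, hc⟩ := hD b
      rw [hdapp, hd₀' b c hc] at hb'
      have := (hiff b' c).mpr hb'
      rw [this, ← hc]
      ring
    · intro d' hd'
      apply Derivation.ext
      intro e
      obtain ⟨b, rfl⟩ := hsurj e
      obtain ⟨c, hc⟩ := hD b
      obtain ⟨b', hb'⟩ := hsurj (d' (Ideal.Quotient.mk _ b))
      have h1 := hd' b b' hb'
      rw [hdapp, hd₀' b c hc, ← hb', ← hiff]
      rw [h1] at hc
      linear_combination hc
  · -- part 2
    intro d
    -- section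
    let s : (B ⧸ (IsLocalRing.maximalIdeal A).map (algebraMap A B)) → B := Function.surjInv hsurj
    have hs : ∀ e, Ideal.Quotient.mk _ (s e) = e := Function.surjInv_eq hsurj
    let N : B → B := fun b => algebraMap A B t * s (d (Ideal.Quotient.mk _ b))
    have hN : ∀ b b' : B, Ideal.Quotient.mk ((IsLocalRing.maximalIdeal A).map (algebraMap A B)) b' =
        d (Ideal.Quotient.mk _ b) → N b = algebraMap A B t * b' := by
      intro b b' hb'
      show algebraMap A B t * _ = _
      rw [hiff, hs, hb']
    have hNadd : ∀ b₁ b₂, N (b₁ + b₂) = N b₁ + N b₂ := by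
      intro b₁ b₂
      rw [hN b₁ _ (hs _), hN b₂ _ (hs _), ← mul_add]
      apply hN
      rw [map_add, map_add, map_add, hs, hs]
    have hNmul : ∀ b₁ b₂, N (b₁ * b₂) = algebraMap A B t *
        (b₁ * s (d (Ideal.Quotient.mk _ b₂)) + b₂ * s (d (Ideal.Quotient.mk _ b₁))) := by
      intro b₁ b₂
      apply hN
      rw [map_add, map_mul, map_mul, hs, hs, map_mul, Derivation.leibniz, smul_eq_mul, smul_eq_mul]
    have hNn : ∀ b, b ∈ (IsLocalRing.maximalIdeal A).map (algebraMap A B) → N b = 0 := by
      intro b hb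
      rw [hN b 0, mul_zero]
      rw [Ideal.Quotient.eq_zero_iff_mem.mpr hb, map_zero, map_zero]
    have hNmem : ∀ b, N b ∈ (IsLocalRing.maximalIdeal A).map (algebraMap A B) := fun b =>
      Ideal.mul_mem_right _ _ hTn
    have hNalg : ∀ a : A, N (algebraMap A B a) = 0 := by
      intro a
      obtain ⟨c, hc⟩ := hres a
      rw [hN _ 0, mul_zero]
      have h1 : Ideal.Quotient.mk ((IsLocalRing.maximalIdeal A).map (algebraMap A B))
          (algebraMap A B a) = algebraMap k (B ⧸ (IsLocalRing.maximalIdeal A).map (algebraMap A B)) c := by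
        have h2 : algebraMap k (B ⧸ (IsLocalRing.maximalIdeal A).map (algebraMap A B)) c =
            Ideal.Quotient.mk _ (algebraMap k B c) := rfl
        rw [h2, hkB, Ideal.Quotient.eq, ← map_sub]
        exact Ideal.mem_map_of_mem _ hc
      rw [h1, Derivation.map_algebraMap, map_zero]
    have hτn : ∀ b, b ∈ (IsLocalRing.maximalIdeal A).map (algebraMap A B) →
        τ.symm b ∈ (IsLocalRing.maximalIdeal A).map (algebraMap A B) := fun b hb =>
      map_mem_map (τ.symm : B →ₐ[A] B).toLinearMap b hb
    -- the algebra hom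
    let η₀ : B →ₐ[A] B :=
      { toFun := fun b => τ b + N b
        map_one' := by
          show τ 1 + N 1 = 1
          have h1 := hNalg 1
          rw [map_one] at h1
          rw [map_one, h1, add_zero]
        map_mul' := by
          intro b₁ b₂
          show τ (b₁ * b₂) + N (b₁ * b₂) = (τ b₁ + N b₁) * (τ b₂ + N b₂)
          rw [hNmul, map_mul]
          have h1 := hTτ b₁
          have h2 := hTτ b₂
          show _ = (τ b₁ + algebraMap A B t * s (d (Ideal.Quotient.mk _ b₁))) *
            (τ b₂ + algebraMap A B t * s (d (Ideal.Quotient.mk _ b₂)))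
          linear_combination (-(s (d (Ideal.Quotient.mk _ b₁)) * s (d (Ideal.Quotient.mk _ b₂)))) * hTT
            - s (d (Ideal.Quotient.mk _ b₂)) * h1 - s (d (Ideal.Quotient.mk _ b₁)) * h2
        map_zero' := by
          show τ 0 + N 0 = 0
          rw [map_zero, hNn 0 (Submodule.zero_mem _), add_zero]
        map_add' := by
          intro b₁ b₂
          show τ (b₁ + b₂) + N (b₁ + b₂) = (τ b₁ + N b₁) + (τ b₂ + N b₂)
          rw [hNadd, map_add]
          ring
        commutes' := by
          intro a
          show τ (algebraMap A B a) + N (algebraMap A B a) = algebraMap A B a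
          rw [hNalg, add_zero, AlgEquiv.commutes] }
    have hη₀ : ∀ b, η₀ b = τ b + N b := fun b => rfl
    have hbij : Function.Bijective η₀ := by
      constructor
      · rw [injective_iff_map_eq_zero]
        intro b hb
        rw [hη₀] at hb
        have h1 : τ b = - N b := eq_neg_of_add_eq_zero_left hb
        have h2 : τ b ∈ (IsLocalRing.maximalIdeal A).map (algebraMap A B) := by
          rw [h1]
          exact Ideal.neg_mem_iff _ |>.mpr (hNmem b)
        have h3 : b ∈ (IsLocalRing.maximalIdeal A).map (algebraMap A B) := by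
          have := hτn _ h2
          rwa [AlgEquiv.symm_apply_apply] at this
        rw [hNn b h3, add_zero] at hb
        exact (map_eq_zero_iff τ τ.injective).mp hb
      · intro c
        refine ⟨τ.symm c - τ.symm (N (τ.symm c)), ?_⟩
        rw [hη₀, map_sub, AlgEquiv.apply_symm_apply, AlgEquiv.apply_symm_apply]
        have h1 : N (τ.symm c - τ.symm (N (τ.symm c))) = N (τ.symm c) := by
          have h2 : τ.symm c = (τ.symm c - τ.symm (N (τ.symm c))) + τ.symm (N (τ.symm c)) := by ring
          conv_rhs => rw [h2, hNadd, hNn _ (hτn _ (hNmem _)), add_zero]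
        rw [h1]
        ring
    let η : B ≃ₐ[A] B := AlgEquiv.ofBijective η₀ hbij
    have hη : ∀ b, η b = τ b + N b := fun b => rfl
    refine ⟨η, ?_, ?_⟩
    · intro b
      rw [hη, map_add, hτ]
      have : Ideal.Quotient.mk (Ideal.span {algebraMap A B t}) (N b) = 0 := by
        rw [Ideal.Quotient.eq_zero_iff_mem]
        exact Ideal.mul_mem_right _ _ (Ideal.mem_span_singleton_self _)
      rw [this, add_zero]
    · intro b b' hb'
      rw [hη, hN b b' hb']

end Groth.Agent.S12498
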