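import Groth.Statements.S12504
import Groth.Agent.Lib.QuotDerived31
import Groth.Agent.Lib.DerivedAdj66
import Groth.Agent.Lib.KInjMain31

set_option autoImplicit false
universe v u
open CategoryTheory CategoryTheory.Limits
attribute [local instance] HasDerivedCategory.standard
open CohDer

namespace Groth.Agent.S12504

/-- Let A and B be abelian categories with B a Grothendieck category, F : A → B an exact additive
functor with right adjoint G, and RG : D(B) → D(A) a right derived functor of G on the unbounded
derived categories, i.e. a functor equipped with a natural transformation α from the composite 'G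
termwise on cochain complexes, then localisation' to 'localisation, then RG' that makes (RG, α) a
right derived functor with respect to quasi-isomorphisms. Then the functor D(A) → D(B) induced by F
is left adjoint to RG (existence of an adjunction; the existence of RG itself is assumed, as a
binder). -/
theorem result
    {A : Type u} [Category.{v} A] [Abelian A] {B : Type u} [Category.{v} B] [Abelian B]
    [IsGrothendieckAbelian.{v} B]
    (F : A ⥤ B) (G : B ⥤ A) (adj : F ⊣ G) [F.Additive] [G.Additive]
    [PreservesFiniteLimits F] [PreservesFiniteColimits F]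
    (RG : DerivedCategory B ⥤ DerivedCategory A)
    (α : G.mapHomologicalComplex (ComplexShape.up ℤ) ⋙ DerivedCategory.Q ⟶ DerivedCategory.Q ⋙ RG)
    [RG.IsRightDerivedFunctor α (HomologicalComplex.quasiIso B (ComplexShape.up ℤ))] :
    Nonempty (F.mapDerivedCategory ⊣ RG) := by
  have hKinj : ∀ K : CochainComplex B ℤ, ∃ (I : CochainComplex B ℤ) (f : K ⟶ I),
      I.IsKInjective ∧ QuasiIso f := fun K => by
    obtain ⟨I, f, h1, h2, -, -⟩ := Groth.Agent.KInjMain31.exists_kinjective_resolution K
    exact ⟨I, f, h1, h2⟩
  have hder := Groth.Agent.QuotDerived31.isRightDerivedFunctor_unitH G RG α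
  have : (G.mapHomotopyCategory (ComplexShape.up ℤ) ⋙ DerivedCategory.Qh).HasRightDerivedFunctor
      (HomotopyCategory.quasiIso B (ComplexShape.up ℤ)) :=
    Functor.HasRightDerivedFunctor.mk' RG (Groth.Agent.QuotDerived31.unitH G RG α)
  obtain ⟨a⟩ := Groth.Agent.Lib.DerivedAdj66.nonempty_derivedAdjunction adj hKinj
  let e : Groth.Agent.Lib.DerivedAdj66.RR (R := G) ≅ RG :=
    Functor.rightDerivedUnique _ _ (Groth.Agent.Lib.DerivedAdj66.RRunit (R := G))
      (Groth.Agent.QuotDerived31.unitH G RG α) (HomotopyCategory.quasiIso B (ComplexShape.up ℤ))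
  exact ⟨a.ofNatIsoRight e⟩

end Groth.Agent.S12504
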