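import Groth.Statements.S12515
import Groth.Agent.Lib.H40SqFree
import Mathlib.FieldTheory.IntermediateField.Adjoin.Basic
import Mathlib.FieldTheory.RatFunc.Basic

set_option autoImplicit false
open FunFld

namespace Groth.Agent.S12515

/-- If `char k ≠ 2` and `K` has degree `2` over the rational function field `k(x)`, then `K = k(x)(y)`
for some `y` with `y² = f(x)`, `f` a squarefree polynomial over `k`. -/
theorem result (k K : Type*) [Field k] [Field K] (h2 : ringChar k ≠ 2)
    [Algebra (RatFunc k) K] (hdeg : Module.finrank (RatFunc k) K = 2) :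
    ∃ (y : K) (f : Polynomial k), Squarefree f ∧
      y ^ 2 = algebraMap (RatFunc k) K (algebraMap (Polynomial k) (RatFunc k) f) ∧
      IntermediateField.adjoin (RatFunc k) ({y} : Set K) = ⊤ := by
  classical
  have h2k : (2 : k) ≠ 0 := Ring.two_ne_zero h2
  have h2F : (2 : RatFunc k) ≠ 0 := by
    intro h
    have : algebraMap k (RatFunc k) 2 = 0 := by rw [map_ofNat]; exact h
    exact h2k ((map_eq_zero _).1 this)
  have h2K : (2 : K) ≠ 0 := by
    intro h
    have : algebraMap (RatFunc k) K 2 = 0 := by rw [map_ofNat]; exact h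
    exact h2F ((map_eq_zero _).1 this)
  have hfin : FiniteDimensional (RatFunc k) K := Module.finite_of_finrank_pos (by omega)
  have hprime : Nat.Prime (Module.finrank (RatFunc k) K) := by rw [hdeg]; exact Nat.prime_two
  have hsimple := IntermediateField.isSimpleOrder_of_finrank_prime (RatFunc k) K hprime
  have htop_of : ∀ u : K, u ∉ (⊥ : IntermediateField (RatFunc k) K) →
      IntermediateField.adjoin (RatFunc k) ({u} : Set K) = ⊤ := fun u hu =>
    (hsimple.eq_bot_or_eq_top _).resolve_left
      (fun h => hu (h ▸ IntermediateField.mem_adjoin_simple_self (RatFunc k) u))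
  obtain ⟨z, hz⟩ : ∃ z : K, z ∉ (⊥ : IntermediateField (RatFunc k) K) := by
    by_contra hcon
    push Not at hcon
    have h1 : (⊥ : IntermediateField (RatFunc k) K) = ⊤ := eq_top_iff.2 (fun z _ => hcon z)
    have := IntermediateField.bot_eq_top_iff_finrank_eq_one.1 h1
    omega
  have hint : IsIntegral (RatFunc k) z := IsIntegral.of_finite (RatFunc k) z
  have hmdeg : (minpoly (RatFunc k) z).natDegree = 2 := by
    rw [← IntermediateField.adjoin.finrank hint, htop_of z hz, IntermediateField.finrank_top', hdeg]
  set a := (minpoly (RatFunc k) z).coeff 1 with ha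
  set b := (minpoly (RatFunc k) z).coeff 0 with hb
  have hlead : (minpoly (RatFunc k) z).coeff 2 = 1 := by
    have := (minpoly.monic hint).coeff_natDegree
    rwa [hmdeg] at this
  have hrel : z ^ 2 + algebraMap (RatFunc k) K a * z + algebraMap (RatFunc k) K b = 0 := by
    have h1 := minpoly.aeval (RatFunc k) z
    rw [Polynomial.aeval_eq_sum_range, hmdeg] at h1
    simp only [Finset.sum_range_succ, Finset.sum_range_zero, Algebra.smul_def, hlead, map_one,
      pow_zero, pow_one, zero_add, mul_one, one_mul] at h1
    rw [← ha, ← hb] at h1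
    linear_combination h1
  set w := 2 * z + algebraMap (RatFunc k) K a with hw
  set r := a ^ 2 - 4 * b with hr
  have hw2 : w ^ 2 = algebraMap (RatFunc k) K r := by
    rw [hw, hr, map_sub, map_mul, map_pow, map_ofNat]
    linear_combination 4 * hrel
  have hwbot : w ∉ (⊥ : IntermediateField (RatFunc k) K) := by
    intro h
    apply hz
    have h1 : w - algebraMap (RatFunc k) K a ∈ (⊥ : IntermediateField (RatFunc k) K) :=
      sub_mem h (IntermediateField.algebraMap_mem _ _)
    have h3 : z = algebraMap (RatFunc k) K (2⁻¹) * (w - algebraMap (RatFunc k) K a) := by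
      rw [hw, map_inv₀, map_ofNat]
      field_simp
      ring
    rw [h3]
    exact mul_mem (IntermediateField.algebraMap_mem _ _) h1
  have hr0 : r ≠ 0 := by
    intro h0
    rw [h0, map_zero] at hw2
    have : w = 0 := by simpa using hw2
    exact hwbot (this ▸ zero_mem _)
  -- numerator and denominator
  set p := r.num with hp
  set q := r.denom with hq
  have hq0 : q ≠ 0 := RatFunc.denom_ne_zero r
  have hp0 : p ≠ 0 := RatFunc.num_ne_zero hr0
  have hrpq : r = algebraMap (Polynomial k) (RatFunc k) p / algebraMap (Polynomial k) (RatFunc k) q :=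
    (RatFunc.num_div_denom r).symm
  have hg0 : p * q ≠ 0 := mul_ne_zero hp0 hq0
  obtain ⟨s, f, hs0, hf, hsf⟩ :=
    Groth.Agent.Lib.H40SqFree.exists_sq_mul_squarefree (p * q) hg0
  have hQ0 : algebraMap (Polynomial k) (RatFunc k) q ≠ 0 :=
    (map_ne_zero_iff _ (RatFunc.algebraMap_injective k)).2 hq0
  have hS0 : algebraMap (Polynomial k) (RatFunc k) s ≠ 0 :=
    (map_ne_zero_iff _ (RatFunc.algebraMap_injective k)).2 hs0
  set c : RatFunc k := algebraMap (Polynomial k) (RatFunc k) q /
    algebraMap (Polynomial k) (RatFunc k) s with hc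
  have hc0 : c ≠ 0 := div_ne_zero hQ0 hS0
  have hcr : c ^ 2 * r = algebraMap (Polynomial k) (RatFunc k) f := by
    have h1 := congrArg (algebraMap (Polynomial k) (RatFunc k)) hsf
    rw [map_mul, map_mul, map_pow] at h1
    rw [hc, hrpq]
    field_simp
    linear_combination h1
  refine ⟨algebraMap (RatFunc k) K c * w, f, hf, ?_, ?_⟩
  · rw [mul_pow, hw2, ← map_pow, ← map_mul, hcr]
  · apply htop_of
    intro h
    apply hwbot
    have h3 : w = algebraMap (RatFunc k) K c⁻¹ * (algebraMap (RatFunc k) K c * w) := by
      rw [← mul_assoc, ← map_mul, inv_mul_cancel₀ hc0, map_one, one_mul]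
    rw [h3]
    exact mul_mem (IntermediateField.algebraMap_mem _ _) h

end Groth.Agent.S12515
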