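import Groth.Statements.S12517
import Mathlib.FieldTheory.PrimitiveElement
import Mathlib.FieldTheory.Minpoly.Field
import Mathlib.FieldTheory.RatFunc.AsPolynomial

set_option autoImplicit false
open FunFld

namespace Groth.Agent.S12517


open Polynomial IntermediateField

section General

variable {L K : Type*} [Field L] [Field K] [Algebra L K]

lemma adjoin_eq_top_of_notMem [FiniteDimensional L K] (hdeg : Module.finrank L K = 2) (w : K)
    (hw : w ∉ (algebraMap L K).range) : L⟮w⟯ = ⊤ := by
  rw [Field.primitive_element_iff_minpoly_natDegree_eq, hdeg]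
  have hint : IsIntegral L w := IsIntegral.of_finite L w
  have h1 := (minpoly.two_le_natDegree_iff hint).mpr hw
  have h2 : (minpoly L w).natDegree ≤ 2 := hdeg ▸ minpoly.natDegree_le w
  omega

lemma artinSchreier_two (h2 : (2 : L) = 0) (hdeg : Module.finrank L K = 2)
    [Algebra.IsSeparable L K] :
    ∃ (y : K) (f : L), y ^ 2 + y = algebraMap L K f ∧ L⟮y⟯ = ⊤ := by
  have : FiniteDimensional L K := Module.finite_of_finrank_pos (by rw [hdeg]; norm_num)
  -- an element outside L
  obtain ⟨z, hz⟩ : ∃ z : K, z ∉ (algebraMap L K).range := by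
    by_contra hcon
    push Not at hcon
    have : (⊥ : Subalgebra L K) = ⊤ := by
      rw [eq_top_iff]; intro x _
      obtain ⟨a, rfl⟩ := hcon x
      exact Subalgebra.algebraMap_mem _ a
    rw [Subalgebra.bot_eq_top_iff_finrank_eq_one] at this
    omega
  have hint : IsIntegral L z := IsIntegral.of_finite L z
  set p := minpoly L z with hp
  have hmonic : p.Monic := minpoly.monic hint
  have hnat : p.natDegree = 2 := by
    have h1 : 2 ≤ p.natDegree := (minpoly.two_le_natDegree_iff hint).mpr hz
    have h2 : p.natDegree ≤ Module.finrank L K := minpoly.natDegree_le z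
    rw [hdeg] at h2
    omega
  have hsum : p = X ^ 2 + (C (p.coeff 0) + C (p.coeff 1) * X) := by
    conv_lhs => rw [hmonic.as_sum, hnat]
    simp [Finset.sum_range_succ]
  set a := p.coeff 1 with ha
  set b := p.coeff 0 with hb
  have hsep : p.Separable := Algebra.IsSeparable.isSeparable L z
  have hder : derivative p = C a := by
    rw [hsum]
    simp only [derivative_add, derivative_X_pow, derivative_C, derivative_mul, derivative_X,
      Nat.cast_ofNat, zero_mul, mul_one, zero_add]
    have : (C (2:L) : L[X]) = 0 := by rw [h2, map_zero]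
    rw [this, zero_mul, zero_add]
  have ha0 : a ≠ 0 := by
    intro h0
    rw [Polynomial.Separable, hder, h0, map_zero, isCoprime_zero_right] at hsep
    have := natDegree_eq_zero_of_isUnit hsep
    omega
  have hroot : z ^ 2 + (algebraMap L K b + algebraMap L K a * z) = 0 := by
    have := minpoly.aeval L z
    rw [← hp, hsum] at this
    simpa using this
  refine ⟨(algebraMap L K a)⁻¹ * z, -(b / a ^ 2), ?_, ?_⟩
  · have ha' : algebraMap L K a ≠ 0 := by
      rwa [Ne, map_eq_zero]
    rw [map_neg, map_div₀, map_pow]
    field_simp
    linear_combination hroot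
  · apply adjoin_eq_top_of_notMem hdeg
    rintro ⟨c, hc⟩
    apply hz
    refine ⟨a * c, ?_⟩
    rw [map_mul, hc, ← mul_assoc, mul_inv_cancel₀ (by rwa [Ne, map_eq_zero]), one_mul]

end General

theorem result' (k K : Type*) [Field k] [Field K]
    (h2 : ringChar k = 2) [Algebra (RatFunc k) K] (hdeg : Module.finrank (RatFunc k) K = 2)
    [Algebra.IsSeparable (RatFunc k) K] :
    ∃ (y : K) (f : RatFunc k), y ^ 2 + y = algebraMap (RatFunc k) K f ∧
      IntermediateField.adjoin (RatFunc k) ({y} : Set K) = ⊤ := by
  have h2k : ((2 : ℕ) : k) = 0 := by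
    have := ringChar.Nat.cast_ringChar (R := k)
    rwa [h2] at this
  have h2L : (2 : RatFunc k) = 0 := by
    have := congrArg (algebraMap k (RatFunc k)) h2k
    rw [map_natCast, map_zero] at this
    exact_mod_cast this
  exact artinSchreier_two h2L hdeg


/-- If `k` is perfect of characteristic `2` and `K` is a separable extension of degree `2` of the
rational function field `k(x)`, then `K = k(x)(y)` for some `y` with `y² + y = f(x)`, `f ∈ k(x)`.
The correspondence between such extensions and cosets of `{a² + a}` in `k(x)` is not stated. -/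
theorem result (k K : Type*) [Field k] [Field K] [PerfectField k]
    (h2 : ringChar k = 2) [Algebra (RatFunc k) K] (hdeg : Module.finrank (RatFunc k) K = 2)
    [Algebra.IsSeparable (RatFunc k) K] :
    ∃ (y : K) (f : RatFunc k), y ^ 2 + y = algebraMap (RatFunc k) K f ∧
      IntermediateField.adjoin (RatFunc k) ({y} : Set K) = ⊤ := by
  exact result' k K h2 hdeg

end Groth.Agent.S12517
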