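import Groth.Statements.S12518
import Groth.Agent.S12517
import Groth.Agent.Lib.H2RatFuncPlace
import Mathlib.FieldTheory.Perfect
import Mathlib.RingTheory.AdjoinRoot

set_option autoImplicit false
open FunFld

namespace Groth.Agent.S12518

open WithZero Polynomial IsDedekindDomain HeightOneSpectrum Groth.Agent.Lib.H2RatFuncPlace

variable {k : Type*} [Field k]

local notation "L" => RatFunc k
local notation "ι" => algebraMap k[X] (RatFunc k)

lemma exists_generator (u : HeightOneSpectrum k[X]) :
    ∃ p : k[X], Irreducible p ∧ u.asIdeal = Ideal.span {p} := by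
  obtain ⟨p, hp⟩ := (IsPrincipalIdealRing.principal u.asIdeal).principal
  have hp' : u.asIdeal = Ideal.span {p} := hp
  have hp0 : p ≠ 0 := by
    rintro rfl
    apply u.ne_bot
    rw [hp']; simp
  have hprime : Prime p := by
    rw [← Ideal.span_singleton_prime hp0, ← hp']
    exact u.isPrime
  exact ⟨p, hprime.irreducible, hp'⟩

lemma exists_sq_eq [PerfectField k] [CharP k 2] (a : k) : ∃ d : k, d ^ 2 = a := by
  haveI : PerfectRing k 2 := PerfectField.toPerfectRing 2
  obtain ⟨d, hd⟩ := surjective_frobenius k 2 a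
  exact ⟨d, by rwa [frobenius_def] at hd⟩

lemma two_eq_zero_L [CharP k 2] : (2 : L) = 0 := by
  have h : (2 : k) = 0 := by
    have := CharP.cast_eq_zero k 2
    exact_mod_cast this
  have := congrArg (algebraMap k L) h
  rw [map_ofNat, map_zero] at this
  exact this

/-- Finite step: an even pole at a finite place can be lowered, making the denominator smaller. -/
lemma finite_step [PerfectField k] [CharP k 2] (f : L) (u : HeightOneSpectrum k[X])
    (h1 : 1 < u.valuation L f) (heven : Even (log (u.valuation L f))) :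
    ∃ g₀ : L, (f + g₀ ^ 2 + g₀).denom.natDegree < f.denom.natDegree := by
  obtain ⟨p, hp_irr, hup⟩ := exists_generator u
  have hp0 : p ≠ 0 := hp_irr.ne_zero
  have hvp : u.valuation L (ι p) = exp (-1 : ℤ) := by
    rw [valuation_of_algebraMap]; exact u.intValuation_singleton hp0 hup
  set num := f.num with hnum
  set den := f.denom with hdend
  have hden0 : den ≠ 0 := f.denom_ne_zero
  have hf : f = ι num / ι den := (RatFunc.num_div_denom f).symm
  obtain ⟨e, b', hb', hden⟩ := WfDvdMonoid.max_power_factor hden0 hp_irr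
  have hmem : ∀ r : k[X], r ∈ u.asIdeal ↔ p ∣ r := fun r => by
    rw [hup, Ideal.mem_span_singleton]
  have hvb' : u.valuation L (ι b') = 1 :=
    (valuation_eq_one_iff_notMem u).mpr (by rw [hmem]; exact hb')
  have hvden : u.valuation L (ι den) = exp (-(e : ℤ)) := by
    rw [hden, map_mul, map_mul, map_pow, map_pow, hvb', hvp, mul_one, ← exp_nsmul]
    simp
  have hιden0 : ι den ≠ 0 := by
    simpa using hden0
  have hpden : p ∣ den := by
    by_contra hcon
    have hvd : u.valuation L (ι den) = 1 :=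
      (valuation_eq_one_iff_notMem u).mpr (by rw [hmem]; exact hcon)
    have : u.valuation L f ≤ 1 := by
      rw [hf, map_div₀, hvd, div_one]; exact u.valuation_le_one _
    exact absurd h1 (not_lt.mpr this)
  have hpnum : ¬ p ∣ num := fun h =>
    hp_irr.not_isUnit ((RatFunc.isCoprime_num_denom f).isUnit_of_dvd' h hpden)
  have hvnum : u.valuation L (ι num) = 1 :=
    (valuation_eq_one_iff_notMem u).mpr (by rw [hmem]; exact hpnum)
  have hvf : u.valuation L f = exp (e : ℤ) := by
    rw [hf, map_div₀, hvnum, hvden, one_div, ← exp_neg, neg_neg]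
  rw [hvf, log_exp, Int.even_coe_nat] at heven
  rw [hvf, ← exp_zero, exp_lt_exp] at h1
  have h1' : 0 < e := by exact_mod_cast h1
  obtain ⟨m, hm⟩ := heven
  have hm1 : 1 ≤ m := by omega
  have hm' : e = m + m := by omega
  -- the residue field
  haveI : Fact (Irreducible p) := ⟨hp_irr⟩
  haveI : Module.Finite k (AdjoinRoot p) := (AdjoinRoot.powerBasis hp0).finite
  haveI : PerfectField (AdjoinRoot p) := Algebra.IsAlgebraic.perfectField k
  haveI : CharP (AdjoinRoot p) 2 :=
    charP_of_injective_algebraMap (algebraMap k (AdjoinRoot p)).injective 2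
  have hb'F : AdjoinRoot.mk p b' ≠ 0 := by
    rw [Ne, AdjoinRoot.mk_eq_zero]; exact hb'
  obtain ⟨cbar, hcbar⟩ := exists_sq_eq (AdjoinRoot.mk p num / AdjoinRoot.mk p b')
  obtain ⟨c, rfl⟩ := AdjoinRoot.mk_surjective cbar
  have h2F : (2 : AdjoinRoot p) = 0 := by
    have := CharP.cast_eq_zero (AdjoinRoot p) 2
    exact_mod_cast this
  have hdvd : p ∣ num + c ^ 2 * b' := by
    rw [← AdjoinRoot.mk_eq_zero, map_add, map_mul, map_pow, hcbar, div_mul_cancel₀ _ hb'F]
    linear_combination (AdjoinRoot.mk p num) * h2F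
  -- the modification
  have hm0 : m ≠ 0 := by omega
  have hdvd2 : p ∣ num + c ^ 2 * b' + c * p ^ m * b' := by
    refine dvd_add hdvd ?_
    exact Dvd.dvd.mul_right (Dvd.dvd.mul_left (dvd_pow_self p hm0) c) b'
  obtain ⟨N', hN'⟩ := hdvd2
  have hιp0 : ι p ≠ 0 := by simpa using hp0
  have hb'0 : b' ≠ 0 := by rintro rfl; exact hb' (dvd_zero p)
  have hιb'0 : ι b' ≠ 0 := by simpa using hb'0
  refine ⟨ι c / ι p ^ m, ?_⟩
  have hq0 : p ^ (m + m - 1) * b' ≠ 0 := mul_ne_zero (pow_ne_zero _ hp0) hb'0
  have key : f + (ι c / ι p ^ m) ^ 2 + ι c / ι p ^ m = ι N' / ι (p ^ (m + m - 1) * b') := by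
    have hN'' : ι num + ι c ^ 2 * ι b' + ι c * ι p ^ m * ι b' = ι p * ι N' := by
      rw [← map_pow, ← map_pow, ← map_mul, ← map_mul, ← map_mul, ← map_add, ← map_add, hN',
        map_mul]
    have hpow : ι p ^ (m + m) = ι p * ι p ^ (m + m - 1) := by
      rw [← pow_succ']; congr 1; omega
    have hpow2 : ι p * ι p ^ (m + m - 1) = ι p ^ m * ι p ^ m := by rw [← hpow, pow_add]
    have hB0 := hιb'0
    have hPm0 : ι p ^ m ≠ 0 := pow_ne_zero _ hιp0
    rw [hf, hden, hm', map_mul, map_mul, map_pow, map_pow, hpow]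
    have e1 : ι N' / (ι p ^ (m + m - 1) * ι b') =
        (ι p * ι N') / (ι p * ι p ^ (m + m - 1) * ι b') := by
      rw [mul_assoc, mul_div_mul_left _ _ hιp0]
    rw [e1, ← hN'', add_div, add_div]
    congr 1
    · congr 1
      rw [hpow2, div_pow, mul_div_mul_right _ _ hB0, sq (ι p ^ m)]
    · rw [hpow2, mul_div_mul_right _ _ hB0, mul_div_mul_right _ _ hPm0]
  rw [key]
  have hdd : (ι N' / ι (p ^ (m + m - 1) * b')).denom ∣ p ^ (m + m - 1) * b' :=
    (RatFunc.denom_dvd hq0).mpr ⟨N', rfl⟩
  have hle := Polynomial.natDegree_le_of_dvd hdd hq0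
  refine lt_of_le_of_lt hle ?_
  rw [hden, hm', natDegree_mul (pow_ne_zero _ hp0) hb'0,
    natDegree_mul (pow_ne_zero _ hp0) hb'0, natDegree_pow, natDegree_pow]
  have hpd : 0 < p.natDegree := hp_irr.natDegree_pos
  have : (m + m - 1) * p.natDegree < (m + m) * p.natDegree := by
    apply Nat.mul_lt_mul_of_pos_right _ hpd
    omega
  omega


lemma finite_part [PerfectField k] [CharP k 2] (f : L) :
    ∃ g : L, ∀ u : HeightOneSpectrum k[X], 1 < u.valuation L (f + g ^ 2 + g) →
      Odd (log (u.valuation L (f + g ^ 2 + g))) := by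
  induction h : f.denom.natDegree using Nat.strong_induction_on generalizing f with
  | _ n ih =>
  by_cases hgood : ∀ u : HeightOneSpectrum k[X], 1 < u.valuation L f →
      Odd (log (u.valuation L f))
  · exact ⟨0, by simpa using hgood⟩
  · push Not at hgood
    obtain ⟨u, hu1, hu2⟩ := hgood
    rw [Int.not_odd_iff_even] at hu2
    obtain ⟨g₀, hg₀⟩ := finite_step f u hu1 hu2
    obtain ⟨g', hg'⟩ := ih _ (h ▸ hg₀) (f + g₀ ^ 2 + g₀) rfl
    refine ⟨g₀ + g', ?_⟩
    have : f + (g₀ + g') ^ 2 + (g₀ + g') = f + g₀ ^ 2 + g₀ + g' ^ 2 + g' := by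
      linear_combination (g₀ * g') * (two_eq_zero_L (k := k))
    rw [this]; exact hg'

lemma infty_step [DecidableEq L] [PerfectField k] [CharP k 2] (f : L) (m : ℕ) (hm : 1 ≤ m)
    (hdeg : f.intDegree = 2 * m) :
    ∃ h : k[X], (f + ι h ^ 2 + ι h).intDegree < 2 * m := by
  have hf0 : f ≠ 0 := by
    rintro rfl
    simp at hdeg
    omega
  set num := f.num with hnum
  set den := f.denom with hdend
  have hden0 : den ≠ 0 := f.denom_ne_zero
  have hnum0 : num ≠ 0 := RatFunc.num_ne_zero hf0
  have hf : f = ι num / ι den := (RatFunc.num_div_denom f).symm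
  have hmonic : den.Monic := f.monic_denom
  have hnd : num.natDegree = den.natDegree + 2 * m := by
    have : (num.natDegree : ℤ) - den.natDegree = 2 * m := hdeg
    omega
  obtain ⟨d, hd⟩ := exists_sq_eq num.leadingCoeff
  set T : k[X] := C num.leadingCoeff * X ^ (2 * m) * den with hT
  have hlc0 : num.leadingCoeff ≠ 0 := leadingCoeff_ne_zero.mpr hnum0
  have hTlc : T.leadingCoeff = num.leadingCoeff := by
    rw [hT, leadingCoeff_mul, leadingCoeff_mul, leadingCoeff_C, leadingCoeff_X_pow, hmonic.leadingCoeff]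
    simp
  have hT0 : T ≠ 0 := by
    rw [← leadingCoeff_ne_zero, hTlc]; exact hlc0
  have hTdeg : T.natDegree = num.natDegree := by
    rw [hT, natDegree_mul (mul_ne_zero (C_ne_zero.mpr hlc0) (pow_ne_zero _ X_ne_zero)) hden0,
      natDegree_C_mul_X_pow _ _ hlc0, hnd]
    omega
  have hN1 : (num - T).degree < num.degree :=
    degree_sub_lt_left (by rw [degree_eq_natDegree hnum0, degree_eq_natDegree hT0, hTdeg]) hnum0
      hTlc.symm
  refine ⟨C d * X ^ m, ?_⟩
  set v := RatFunc.inftyValuation k with hv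
  have hιden0 : ι den ≠ 0 := by simpa using hden0
  have e1 : f + ι (C d * X ^ m) ^ 2 + ι (C d * X ^ m) =
      ι (num - T) / ι den + ι (C d * X ^ m) := by
    have hsq : ι (C d * X ^ m) ^ 2 = ι T / ι den := by
      rw [hT, map_mul ι _ den, mul_div_assoc, div_self hιden0, mul_one, ← map_pow]
      congr 1
      rw [mul_pow, ← C_pow, hd, ← pow_mul, mul_comm m 2]
    rw [hsq, map_sub, sub_div, ← hf]
    linear_combination (ι T / ι den) * (two_eq_zero_L (k := k))
  have hv1 : v (ι (num - T) / ι den) < exp ((2 * m : ℕ) : ℤ) := by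
    by_cases hz : num - T = 0
    · rw [hz]; simp
    · have hιz : ι (num - T) ≠ 0 := RatFunc.algebraMap_ne_zero hz
      rw [hv, RatFunc.inftyValuation_apply, RatFunc.inftyValuation_of_nonzero k (div_ne_zero hιz hιden0),
        RatFunc.intDegree_div hιz hιden0, RatFunc.intDegree_polynomial, RatFunc.intDegree_polynomial,
        exp_lt_exp]
      have := natDegree_lt_natDegree hz hN1
      push_cast
      omega
  have hv2 : v (ι (C d * X ^ m)) < exp ((2 * m : ℕ) : ℤ) := by
    by_cases hz : C d * X ^ m = 0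
    · rw [hz]; simp
    · rw [hv, RatFunc.inftyValuation_apply, RatFunc.inftyValuation.polynomial _ hz, exp_lt_exp]
      have := natDegree_C_mul_X_pow_le d m
      push_cast
      omega
  have hv3 : v (f + ι (C d * X ^ m) ^ 2 + ι (C d * X ^ m)) < exp ((2 * m : ℕ) : ℤ) := by
    rw [e1]
    exact lt_of_le_of_lt (v.map_add _ _) (max_lt hv1 hv2)
  by_cases hz : f + ι (C d * X ^ m) ^ 2 + ι (C d * X ^ m) = 0
  · rw [hz]; simp; omega
  · rw [hv, RatFunc.inftyValuation_apply, RatFunc.inftyValuation_of_nonzero k hz, exp_lt_exp] at hv3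
    exact_mod_cast hv3

lemma infty_part [PerfectField k] [CharP k 2] (f : L) :
    ∃ h : k[X], 0 < (f + ι h ^ 2 + ι h).intDegree → Odd (f + ι h ^ 2 + ι h).intDegree := by
  classical
  induction hn : f.intDegree.toNat using Nat.strong_induction_on generalizing f with
  | _ n ih =>
  by_cases hgood : 0 < f.intDegree → Odd f.intDegree
  · exact ⟨0, by simpa using hgood⟩
  · push Not at hgood
    obtain ⟨hpos, heven⟩ := hgood
    rw [Int.not_odd_iff_even] at heven
    obtain ⟨m', hm'⟩ := heven
    lift m' to ℕ using (by omega) with m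
    obtain ⟨h₀, hh₀⟩ := infty_step f m (by omega) (by omega)
    obtain ⟨h', hh'⟩ := ih _ (by omega) (f + ι h₀ ^ 2 + ι h₀) rfl
    refine ⟨h₀ + h', ?_⟩
    have : f + ι (h₀ + h') ^ 2 + ι (h₀ + h') = f + ι h₀ ^ 2 + ι h₀ + ι h' ^ 2 + ι h' := by
      rw [map_add]
      linear_combination (ι h₀ * ι h') * (two_eq_zero_L (k := k))
    rw [this]; exact hh'


theorem result' (k K : Type*) [Field k] [Field K] [PerfectField k] (h2 : ringChar k = 2)
    [Algebra k K] [Algebra (RatFunc k) K] [IsScalarTower k (RatFunc k) K]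
    (hdeg : Module.finrank (RatFunc k) K = 2) [Algebra.IsSeparable (RatFunc k) K] :
    ∃ (y : K) (f : RatFunc k), y ^ 2 + y = algebraMap (RatFunc k) K f ∧
      IntermediateField.adjoin (RatFunc k) ({y} : Set K) = ⊤ ∧
      ∀ P : FunFld.Place k (RatFunc k), P.ord f < 0 → Odd (P.ord f) := by
  classical
  haveI : CharP k 2 := by
    have := ringChar.charP k
    rwa [h2] at this
  obtain ⟨y, f, hyf, htop⟩ := Groth.Agent.S12517.result k K h2 hdeg
  obtain ⟨g, hg⟩ := finite_part f
  obtain ⟨h, hh⟩ := infty_part (f + g ^ 2 + g)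
  set f₁ := f + g ^ 2 + g with hf₁
  set f₂ := f₁ + algebraMap k[X] (RatFunc k) h ^ 2 + algebraMap k[X] (RatFunc k) h with hf₂
  have h2K : (2 : K) = 0 := by
    have := congrArg (algebraMap (RatFunc k) K) (two_eq_zero_L (k := k))
    rwa [map_ofNat, map_zero] at this
  refine ⟨y + algebraMap (RatFunc k) K (g + algebraMap k[X] (RatFunc k) h), f₂, ?_, ?_, ?_⟩
  · simp only [hf₂, hf₁, map_add, map_pow, ← hyf]
    linear_combination (y * (algebraMap (RatFunc k) K g + algebraMap (RatFunc k) K (algebraMap k[X] (RatFunc k) h)) +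
      algebraMap (RatFunc k) K g * algebraMap (RatFunc k) K (algebraMap k[X] (RatFunc k) h)) * h2K
  · rw [eq_top_iff, ← htop, IntermediateField.adjoin_simple_le_iff]
    have hmem := sub_mem (IntermediateField.mem_adjoin_simple_self (RatFunc k)
      (y + algebraMap (RatFunc k) K (g + algebraMap k[X] (RatFunc k) h)))
      (IntermediateField.algebraMap_mem _ (g + algebraMap k[X] (RatFunc k) h))
    rwa [add_sub_cancel_right] at hmem
  · intro P hP
    rcases place_cases P with ⟨_, hPinf⟩ | ⟨_, u, hPu⟩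
    · unfold Place.ord at hP ⊢
      rw [hPinf] at hP ⊢
      by_cases hz : f₂ = 0
      · rw [hz] at hP; simp at hP
      · rw [RatFunc.inftyValuation_apply, RatFunc.inftyValuation_of_nonzero k hz, log_exp] at hP ⊢
        exact (hh (by omega)).neg
    · unfold Place.ord at hP ⊢
      rw [hPu] at hP ⊢
      have hlog : 0 < log (u.valuation (RatFunc k) f₂) := by omega
      have h1 : 1 < u.valuation (RatFunc k) f₂ := by
        by_contra hcon
        push Not at hcon
        by_cases hz : u.valuation (RatFunc k) f₂ = 0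
        · rw [hz] at hlog; simp at hlog
        · have := (log_le_log hz one_ne_zero).mpr hcon
          rw [log_one] at this
          omega
      have hpoly : u.valuation (RatFunc k) (algebraMap k[X] (RatFunc k) h ^ 2 + algebraMap k[X] (RatFunc k) h) ≤ 1 := by
        rw [← map_pow, ← map_add]
        exact u.valuation_le_one _
      have heq : u.valuation (RatFunc k) f₂ = u.valuation (RatFunc k) f₁ := by
        have : f₁ = f₂ - (algebraMap k[X] (RatFunc k) h ^ 2 + algebraMap k[X] (RatFunc k) h) := by rw [hf₂]; ring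
        rw [this]
        exact (Valuation.map_sub_eq_of_lt_left _ (lt_of_le_of_lt hpoly h1)).symm
      rw [heq] at h1 ⊢
      exact (hg u h1).neg


/-- If `k` is perfect of characteristic `2` and `K` is a separable extension of degree `2` of `k(x)`,
then `K = k(x)(y)` for some `y` with `y² + y = f(x)` such that every pole of `f`, at any place of
`k(x)/k` including the infinite one, has odd order. -/
theorem result (k K : Type*) [Field k] [Field K] [PerfectField k] (h2 : ringChar k = 2)
    [Algebra k K] [Algebra (RatFunc k) K] [IsScalarTower k (RatFunc k) K]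
    (hdeg : Module.finrank (RatFunc k) K = 2) [Algebra.IsSeparable (RatFunc k) K] :
    ∃ (y : K) (f : RatFunc k), y ^ 2 + y = algebraMap (RatFunc k) K f ∧
      IntermediateField.adjoin (RatFunc k) ({y} : Set K) = ⊤ ∧
      ∀ P : FunFld.Place k (RatFunc k), P.ord f < 0 → Odd (P.ord f) := by
  exact result' k K h2 hdeg

end Groth.Agent.S12518
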