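import Groth.Statements.S12524
import Groth.Agent.Lib.PowerSeriesLift50
import Mathlib

set_option autoImplicit false
universe u v
open CAlg

namespace Groth.Agent.S12524

open IsLocalRing in
/-- Let `A` be a complete discrete valuation ring with maximal ideal `m`, containing a field `K` such
that `K → A → A/m` is bijective (a coefficient field), and let `x` be any generator of `m`. Then the
`K`-algebra map `K[X] → A`, `X ↦ x`, extends to a bijective `K`-algebra map `φ : K⟦X⟧ → A`,
characterised by `φ(∑ aᵢ Xⁱ) ≡ ∑_{i<n} aᵢ xⁱ (mod mⁿ)` for every `n`. -/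
theorem result (K : Type u) (A : Type v) [Field K]
    [CommRing A] [IsDomain A] [IsDiscreteValuationRing A] [Algebra K A]
    [IsAdicComplete (maximalIdeal A) A]
    (hK : Function.Bijective ((residue A).comp (algebraMap K A)))
    (x : A) (hx : maximalIdeal A = Ideal.span {x}) :
    ∃ φ : PowerSeries K →ₐ[K] A, φ PowerSeries.X = x ∧ Function.Bijective φ ∧
      ∀ (f : PowerSeries K) (n : ℕ),
        φ f - (Finset.range n).sum (fun i => algebraMap K A (PowerSeries.coeff i f) * x ^ i) ∈
          maximalIdeal A ^ n := by
  classical
  have hxm : x ∈ maximalIdeal A := by rw [hx]; exact Ideal.mem_span_singleton_self x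
  obtain ⟨ψ, hψX, -⟩ := Groth.Agent.Lib.PowerSeriesLift50.exists_algHom (σ := Unit) (k := K)
    (maximalIdeal A) (fun _ => x) (fun _ => hxm)
  have hX : (ψ : PowerSeries K →ₐ[K] A) PowerSeries.X = x := hψX ()
  have hx0 : x ≠ 0 := by
    intro h0
    have h1 : maximalIdeal A = ⊥ := by
      rw [hx, h0]
      exact Ideal.span_singleton_eq_bot.mpr rfl
    exact IsDiscreteValuationRing.not_a_field A h1
  refine ⟨ψ, hX, ⟨?_, ?_⟩, ?_⟩
  · -- injective
    rw [injective_iff_map_eq_zero]
    intro f hf
    by_contra hne
    have h1 := PowerSeries.X_pow_order_mul_divXPowOrder (f := f)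
    have hu : IsUnit (PowerSeries.divXPowOrder f) := by
      rw [PowerSeries.isUnit_iff_constantCoeff]
      rw [isUnit_iff_ne_zero]
      intro h0
      exact hne (PowerSeries.constantCoeff_divXPowOrder_eq_zero_iff.mp h0)
    have h2 : ψ f = x ^ f.order.toNat * ψ (PowerSeries.divXPowOrder f) := by
      conv_lhs => rw [← h1]
      rw [map_mul, map_pow, hX]
    rw [hf] at h2
    have h3 := (hu.map ψ).ne_zero
    have h4 := pow_ne_zero f.order.toNat hx0
    exact mul_ne_zero h4 h3 h2.symm
  · -- surjective
    have hmap : (Ideal.span {(PowerSeries.X : PowerSeries K)}).map ψ.toRingHom = maximalIdeal A := by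
      rw [hx, Ideal.map_span, Set.image_singleton]
      congr 2
    have haus : IsHausdorff ((Ideal.span {(PowerSeries.X : PowerSeries K)}).map ψ.toRingHom) A := by
      rw [hmap]
      exact IsAdicComplete.toIsHausdorff
    have hsurj := surjective_of_mk_map_comp_surjective ψ.toRingHom
      (I := Ideal.span {(PowerSeries.X : PowerSeries K)})
      (by
        intro y
        obtain ⟨y, rfl⟩ := Ideal.Quotient.mk_surjective y
        obtain ⟨a, ha⟩ := hK.2 (residue A y)
        refine ⟨PowerSeries.C a, ?_⟩
        simp only [RingHom.comp_apply]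
        rw [Ideal.Quotient.eq, hmap]
        have h5 : ψ.toRingHom (PowerSeries.C a) = algebraMap K A a := by
          have := ψ.commutes a
          simpa [PowerSeries.algebraMap_apply] using this
        rw [h5]
        have h6 : residue A (algebraMap K A a - y) = 0 := by
          rw [map_sub]
          simp only [RingHom.comp_apply] at ha
          rw [ha, sub_self]
        exact (residue_eq_zero_iff _).mp h6)
    exact hsurj
  · intro f n
    have h1 := PowerSeries.eq_X_pow_mul_shift_add_trunc n f
    have h2 : ψ ((PowerSeries.trunc n f : Polynomial K) : PowerSeries K) =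
        (Finset.range n).sum (fun i => algebraMap K A (PowerSeries.coeff i f) * x ^ i) := by
      have hχ : ψ.comp (Polynomial.coeToPowerSeries.algHom K) = Polynomial.aeval x := by
        apply Polynomial.algHom_ext
        simp [Polynomial.coeToPowerSeries.algHom_apply, hX]
      have h3 : ψ ((PowerSeries.trunc n f : Polynomial K) : PowerSeries K) =
          Polynomial.aeval x (PowerSeries.trunc n f) := by
        rw [← hχ]
        simp [Polynomial.coeToPowerSeries.algHom_apply]
      rw [h3, PowerSeries.trunc_apply, map_sum, Nat.Ico_zero_eq_range]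
      apply Finset.sum_congr rfl
      intro i _
      rw [Polynomial.aeval_monomial]
    have h4 : ψ f = x ^ n * ψ (PowerSeries.mk fun i => PowerSeries.coeff (i + n) f) +
        (Finset.range n).sum (fun i => algebraMap K A (PowerSeries.coeff i f) * x ^ i) := by
      conv_lhs => rw [h1]
      rw [map_add, map_mul, map_pow, hX, h2]
    rw [h4, add_sub_cancel_right]
    apply Ideal.mul_mem_right
    exact Ideal.pow_mem_pow hxm n

end Groth.Agent.S12524
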