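import Groth.Statements.S12526
import Groth.Agent.Lib.H40FunFldConductor

set_option autoImplicit false
universe u v
open FunFld

namespace Groth.Agent.S12526

/-- Let `K/k` be a geometric function field of one variable, `P` a place of `K`, `k'/k` finite and `K' =
k' ⊗_k K`; let `R` be the integral closure of `O_P` in `K'` and `R̃ = k' ⊗_k O_P = O_P[k']`. Then
`R/R̃` is finite-dimensional over `k`, and `R̃` contains a nonzero ideal of `R`. -/
theorem result (k k' : Type u) (K K' : Type v) [Field k] [Field k'] [Field K] [Field K']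
    [Algebra k k'] [FiniteDimensional k k'] [Algebra k K] [Algebra K K'] [Algebra k' K'] [Algebra k K']
    [IsScalarTower k k' K'] [IsScalarTower k K K']
    (h : Function.Bijective (Algebra.TensorProduct.productMap
      (IsScalarTower.toAlgHom k k' K') (IsScalarTower.toAlgHom k K K')))
    (hK : FunFld.IsFunctionField k K) (hg : FunFld.IsGeometric k K)
    (P : FunFld.Place k K) [Algebra P.O K'] [IsScalarTower P.O K K'] :
    (∃ V : Submodule k K', FiniteDimensional k V ∧ ∀ r ∈ integralClosure P.O K',
        ∃ s ∈ Algebra.adjoin P.O (Set.range (algebraMap k' K')), r - s ∈ V) ∧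
    (∃ c ∈ integralClosure P.O K', c ≠ 0 ∧ ∀ r ∈ integralClosure P.O K',
        c * r ∈ Algebra.adjoin P.O (Set.range (algebraMap k' K'))) := by
  classical
  let β := Module.finBasis k k'
  let ω : Fin (Module.finrank k k') → K' := fun j => algebraMap k' K' (β j)
  have hspan : ∀ y : K', ∃ a : Fin (Module.finrank k k') → K,
      y = ∑ j, algebraMap K K' (a j) * ω j := by
    intro y
    obtain ⟨z, rfl⟩ := h.2 y
    induction z using TensorProduct.induction_on with
    | zero => exact ⟨0, by simp⟩
    | tmul x a =>
      refine ⟨fun j => algebraMap k K (β.repr x j) * a, ?_⟩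
      rw [Algebra.TensorProduct.productMap_apply_tmul]
      conv_lhs => rw [← β.sum_repr x]
      simp only [IsScalarTower.coe_toAlgHom', map_sum, Finset.sum_mul]
      refine Finset.sum_congr rfl fun j _ => ?_
      rw [Algebra.smul_def, map_mul, ← IsScalarTower.algebraMap_apply k k' K', map_mul,
        ← IsScalarTower.algebraMap_apply k K K']
      ring
    | add z₁ z₂ h₁ h₂ =>
      obtain ⟨a₁, h₁⟩ := h₁
      obtain ⟨a₂, h₂⟩ := h₂
      refine ⟨a₁ + a₂, ?_⟩
      rw [map_add, h₁, h₂, ← Finset.sum_add_distrib]
      refine Finset.sum_congr rfl fun j _ => ?_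
      rw [Pi.add_apply, map_add]; ring
  exact Groth.Agent.Lib.H40FunFld.conductor_aux P hK ω hspan
    (Algebra.adjoin P.O (Set.range (algebraMap k' K')))
    (fun j => Algebra.subset_adjoin ⟨β j, rfl⟩)

end Groth.Agent.S12526
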