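import Groth.Statements.S9241
import Groth.Agent.S9239
import Groth.Agent.S9243
import Groth.Agent.S7651
import Groth.Agent.S0540
import Groth.Agent.Lib.CompletionBranches98
import Groth.Agent.Lib.H14AdicLocal
import Groth.Agent.Lib.StrictHenselizationMax
import Groth.Agent.Lib.HenselizationLiftFlat

set_option autoImplicit false
universe u
open Brnch

namespace Groth.Agent.S9241

open IsLocalRing

set_option maxHeartbeats 400000

theorem card_minimalPrimes_le (A : Type u) [CommRing A] [IsLocalRing A] [IsNoetherianRing A]
    (hdim : ringKrullDim A = 1)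
    (S T : Type u) [CommRing S] [HenselianLocalRing S] [Algebra A S]
    (hmS : (maximalIdeal A).map (algebraMap A S) = maximalIdeal S)
    [CommRing T] [IsLocalRing T] [IsNoetherianRing T] [Algebra S T] [Module.Flat S T]
    [IsLocalHom (algebraMap S T)]
    (hs : ∀ t : T, ∃ d : S, t - algebraMap S T d ∈ (maximalIdeal S).map (algebraMap S T)) :
    ENat.card (minimalPrimes T) ≤ ENat.card (minimalPrimes S) := by
  obtain ⟨f, hfm, hfav⟩ := Groth.Agent.S7651.exists_avoid hdim
  have hrad : maximalIdeal A = (Ideal.span {f}).radical :=
    (Groth.Agent.S7651.rad_iff hdim f hfm).mpr hfav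
  obtain ⟨k, hk⟩ := Ideal.exists_radical_pow_le_of_fg (Ideal.span {f})
    (IsNoetherian.noetherian _)
  rw [← hrad] at hk
  have hk' : maximalIdeal S ^ k ≤ Ideal.span {algebraMap A S f} := by
    rw [← hmS, ← Ideal.map_pow]
    have := Ideal.map_mono (f := algebraMap A S) hk
    rwa [Ideal.map_span, Set.image_singleton] at this
  have hf₀ : algebraMap A S f ∈ maximalIdeal S := hmS ▸ Ideal.mem_map_of_mem _ hfm
  have hinj := Groth.Agent.Lib.CompletionBranches98.injOn_comap_minimalPrimes hs _ hf₀ k hk'
  refine ENat.card_le_card_of_injective
    (f := fun P : minimalPrimes T => (⟨P.1.comap (algebraMap S T),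
      Groth.Agent.S9243.comap_mem_minimalPrimes P.2⟩ : minimalPrimes S)) ?_
  intro P P' h
  exact Subtype.ext (hinj P.2 P'.2 (congrArg Subtype.val h))

theorem card_minimalPrimes_strict_ge (A B S T : Type u) [CommRing A] [IsLocalRing A]
    [IsNoetherianRing A] (hdim : ringKrullDim A = 1) [CommRing B]
    [IsLocalRing B] [Algebra A B] [IsLocalHom (algebraMap A B)] [Module.Flat A B]
    (hmB : (maximalIdeal A).map (algebraMap A B) = maximalIdeal B)
    (hres : ∀ b : B, ∃ a : A, b - algebraMap A B a ∈ maximalIdeal B)
    [CommRing S] [IsLocalRing S] [Algebra A S] [IsLocalHom (algebraMap A S)]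
    [Hensel.IsStrictHenselization A S]
    [CommRing T] [IsLocalRing T] [IsNoetherianRing T] [Algebra B T]
    [IsLocalHom (algebraMap B T)] [Hensel.IsStrictHenselization B T] :
    ENat.card (minimalPrimes T) ≤ ENat.card (minimalPrimes S) := by
  have hT : HenselianLocalRing T := Hensel.IsStrictHenselization.henselian (R := B)
  have hSh : HenselianLocalRing S := Hensel.IsStrictHenselization.henselian (R := A)
  have hscT : IsSepClosure (ResidueField B) (ResidueField T) :=
    Hensel.IsStrictHenselization.isSepClosure
  have hscS : IsSepClosure (ResidueField A) (ResidueField S) :=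
    Hensel.IsStrictHenselization.isSepClosure
  let f : A →+* T := (algebraMap B T).comp (algebraMap A B)
  letI algAT : Algebra A T := f.toAlgebra
  have htowerABT : IsScalarTower A B T := IsScalarTower.of_algebraMap_eq (fun _ => rfl)
  have hlocf : IsLocalHom (algebraMap A T) :=
    RingHom.isLocalHom_comp (algebraMap B T) (algebraMap A B)
  have hsepclosedT : IsSepClosed (ResidueField T) := IsSepClosure.sep_closed (ResidueField B)
  have hsepclosedS : IsSepClosed (ResidueField S) := IsSepClosure.sep_closed (ResidueField A)
  have hsepS : Algebra.IsSeparable (ResidueField A) (ResidueField S) := IsSepClosure.separable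
  let τ₀ : ResidueField S →ₐ[ResidueField A] ResidueField T := IsSepClosed.lift
  have hτ : (τ₀ : ResidueField S →+* ResidueField T).comp
      (ResidueField.map (algebraMap A S)) = ResidueField.map (algebraMap A T) := by
    refine RingHom.ext fun x => ?_
    obtain ⟨a, rfl⟩ := residue_surjective x
    rw [RingHom.comp_apply, ResidueField.map_residue, ResidueField.map_residue,
      ← ResidueField.algebraMap_residue]
    exact τ₀.commutes (residue A a)
  obtain ⟨g, ⟨hg1, hg2⟩, -⟩ := Hensel.IsStrictHenselization.universal (R := A) (S := S) T
    (algebraMap A T) (τ₀ : ResidueField S →+* ResidueField T) hτ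
  have hlocg : IsLocalHom g := by
    constructor
    intro x hx
    by_contra hnx
    have h1 : residue S x = 0 := (residue_eq_zero_iff x).mpr hnx
    have h2 : residue T (g x) = 0 := by rw [hg2, h1, map_zero]
    have h3 : g x ∈ maximalIdeal T := (residue_eq_zero_iff (g x)).mp h2
    exact h3 hx
  letI algST : Algebra S T := g.toAlgebra
  have htowerAST : IsScalarTower A S T :=
    IsScalarTower.of_algebraMap_eq (fun a => (RingHom.congr_fun hg1 a).symm)
  have hffBT : Module.FaithfullyFlat B T :=
    Groth.Agent.Lib.StrictHenselization.faithfullyFlat_of_isStrictHenselization B T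
  have hflatBT : Module.Flat B T := inferInstance
  have hflatAT : Module.Flat A T := Module.Flat.trans A B T
  have hwe : Algebra.WeaklyEtale A S :=
    Groth.Agent.Lib.HznWeaklyEtale96.weaklyEtale_of_isStrictHenselization A S
  have hflatST : Module.Flat S T :=
    Groth.Agent.Lib.DiagFlat.flat_of_flat_lmul' (Algebra.WeaklyEtale.flat_lmul' A S) T
  have hlocg' : IsLocalHom (algebraMap S T) := hlocg
  -- maximal ideals
  have hmS : (maximalIdeal A).map (algebraMap A S) = maximalIdeal S :=
    Groth.Agent.Lib.StrictHenselizationMax.map_maximalIdeal_eq A S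
  have hmT : (maximalIdeal B).map (algebraMap B T) = maximalIdeal T :=
    Groth.Agent.Lib.StrictHenselizationMax.map_maximalIdeal_eq B T
  have hcomp : (algebraMap S T).comp (algebraMap A S) = (algebraMap B T).comp (algebraMap A B) :=
    hg1
  have hmST : (maximalIdeal S).map (algebraMap S T) = maximalIdeal T := by
    rw [← hmS, Ideal.map_map, hcomp, ← Ideal.map_map, hmB, hmT]
  -- residue fields
  have hsurjAB : Function.Surjective (algebraMap (ResidueField A) (ResidueField B)) := by
    intro x
    obtain ⟨b, rfl⟩ := residue_surjective x
    obtain ⟨a, ha⟩ := hres b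
    refine ⟨residue A a, ?_⟩
    rw [ResidueField.algebraMap_residue]
    symm
    rw [← sub_eq_zero, ← map_sub, residue_eq_zero_iff]
    exact ha
  let E : ResidueField A ≃+* ResidueField B :=
    RingEquiv.ofBijective (algebraMap (ResidueField A) (ResidueField B))
      ⟨(algebraMap (ResidueField A) (ResidueField B)).injective, hsurjAB⟩
  have hsepBT : Algebra.IsSeparable (ResidueField B) (ResidueField T) := IsSepClosure.separable
  have hsepAT : Algebra.IsSeparable (ResidueField A) (ResidueField T) :=
    Algebra.IsSeparable.of_equiv_equiv E.symm (RingEquiv.refl (ResidueField T)) (by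
      refine RingHom.ext fun x => ?_
      have hx : algebraMap (ResidueField A) (ResidueField B) (E.symm x) = x :=
        E.apply_symm_apply x
      show algebraMap (ResidueField A) (ResidueField T) (E.symm x)
        = algebraMap (ResidueField B) (ResidueField T) x
      rw [IsScalarTower.algebraMap_apply (ResidueField A) (ResidueField B) (ResidueField T), hx])
  have hsepST : Algebra.IsSeparable (ResidueField S) (ResidueField T) :=
    Algebra.isSeparable_tower_top_of_isSeparable (ResidueField A) (ResidueField S)
      (ResidueField T)
  have hsurjST : Function.Surjective (algebraMap (ResidueField S) (ResidueField T)) :=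
    IsSepClosed.algebraMap_surjective (ResidueField S) (ResidueField T)
  have hs : ∀ t : T, ∃ d : S,
      t - algebraMap S T d ∈ (maximalIdeal S).map (algebraMap S T) := by
    intro t
    obtain ⟨y, hy⟩ := hsurjST (residue T t)
    obtain ⟨d, rfl⟩ := residue_surjective y
    refine ⟨d, ?_⟩
    rw [hmST, ← residue_eq_zero_iff, map_sub, ← hy, ResidueField.algebraMap_residue, sub_self]
  exact card_minimalPrimes_le A hdim S T hmS hs


/-- For a Noetherian local ring A of dimension 1, A and its completion A^ have the same number of
branches and the same number of geometric branches. -/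
theorem result (A : Type u) [CommRing A] [IsLocalRing A]
    [IsNoetherianRing A] (hA : ringKrullDim A = 1) :
    Brnch.numBranches (AdicCompletion (IsLocalRing.maximalIdeal A) A) = Brnch.numBranches A ∧
      Brnch.numGeomBranches (AdicCompletion (IsLocalRing.maximalIdeal A) A) =
        Brnch.numGeomBranches A := by
  classical
  have hN : IsNoetherianRing (AdicCompletion (maximalIdeal A) A) :=
    Groth.Agent.Lib.AdicNoeth.isNoetherianRing_adicCompletion _
  have hH : HenselianLocalRing (AdicCompletion (maximalIdeal A) A) :=
    Groth.Agent.Lib.HenselizationNoeth.henselianLocalRing_of_henselianRing _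
  have hflat : Module.Flat A (AdicCompletion (maximalIdeal A) A) :=
    AdicCompletion.flat_of_isNoetherian (maximalIdeal A)
  have h := Groth.Agent.S9239.result A
  have hmC : (maximalIdeal A).map (algebraMap A (AdicCompletion (maximalIdeal A) A))
      = maximalIdeal (AdicCompletion (maximalIdeal A) A) :=
    AdicCompletion.maximalIdeal_eq_map.symm
  have hresC : ∀ b : AdicCompletion (maximalIdeal A) A, ∃ a : A,
      b - algebraMap A (AdicCompletion (maximalIdeal A) A) a
        ∈ maximalIdeal (AdicCompletion (maximalIdeal A) A) := by
    intro b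
    obtain ⟨a, ha⟩ := Groth.Agent.Lib.H14AdicLocal.exists_sub_mem_map A (maximalIdeal A)
      (IsNoetherian.noetherian _) b
    exact ⟨a, hmC ▸ ha⟩
  refine ⟨le_antisymm ?_ h.1, le_antisymm ?_ h.2⟩
  · have hfl : (algebraMap A (AdicCompletion (maximalIdeal A) A)).Flat :=
      RingHom.flat_algebraMap_iff.mpr hflat
    letI algHA : Algebra (Groth.Agent.Lib.HenselizationConstr.Hzn A)
        (AdicCompletion (maximalIdeal A) A) :=
      (Groth.Agent.Lib.HenselizationConstr.liftHzn
        (algebraMap A (AdicCompletion (maximalIdeal A) A))).toAlgebra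
    have hff : Module.FaithfullyFlat (Groth.Agent.Lib.HenselizationConstr.Hzn A)
        (AdicCompletion (maximalIdeal A) A) :=
      Groth.Agent.Lib.HenselizationNoeth.faithfullyFlat_liftHzn A
        (algebraMap A (AdicCompletion (maximalIdeal A) A)) hfl
    have hflat' : Module.Flat (Groth.Agent.Lib.HenselizationConstr.Hzn A)
        (AdicCompletion (maximalIdeal A) A) := inferInstance
    have hloc : IsLocalHom (algebraMap (Groth.Agent.Lib.HenselizationConstr.Hzn A)
        (AdicCompletion (maximalIdeal A) A)) :=
      Groth.Agent.Lib.HenselizationLiftFlat.isLocalHom_liftHzn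
        (algebraMap A (AdicCompletion (maximalIdeal A) A))
    haveI hid : IsLocalHom (algebraMap (AdicCompletion (maximalIdeal A) A)
        (AdicCompletion (maximalIdeal A) A)) := ⟨fun a h => h⟩
    haveI hself : Hensel.IsHenselization (AdicCompletion (maximalIdeal A) A)
        (AdicCompletion (maximalIdeal A) A) := Groth.Agent.S9239.isHenselization_self _
    rw [← Groth.Agent.S9237.result A (Groth.Agent.Lib.HenselizationConstr.Hzn A),
      ← Groth.Agent.S9237.result (AdicCompletion (maximalIdeal A) A)
        (AdicCompletion (maximalIdeal A) A)]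
    have hmS : (maximalIdeal A).map (algebraMap A (Groth.Agent.Lib.HenselizationConstr.Hzn A))
        = maximalIdeal (Groth.Agent.Lib.HenselizationConstr.Hzn A) :=
      Groth.Agent.Lib.HenselizationUP.map_maximalIdeal_eq A
        (Groth.Agent.Lib.HenselizationConstr.Hzn A)
    have hcomp : (algebraMap (Groth.Agent.Lib.HenselizationConstr.Hzn A)
        (AdicCompletion (maximalIdeal A) A)).comp
          (algebraMap A (Groth.Agent.Lib.HenselizationConstr.Hzn A))
        = algebraMap A (AdicCompletion (maximalIdeal A) A) :=
      Groth.Agent.Lib.HenselizationConstr.liftHzn_comp_algebraMap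
        (algebraMap A (AdicCompletion (maximalIdeal A) A))
    have hs : ∀ t : AdicCompletion (maximalIdeal A) A,
        ∃ d : Groth.Agent.Lib.HenselizationConstr.Hzn A,
          t - algebraMap (Groth.Agent.Lib.HenselizationConstr.Hzn A)
            (AdicCompletion (maximalIdeal A) A) d ∈
          (maximalIdeal (Groth.Agent.Lib.HenselizationConstr.Hzn A)).map
            (algebraMap (Groth.Agent.Lib.HenselizationConstr.Hzn A)
              (AdicCompletion (maximalIdeal A) A)) := by
      intro t
      obtain ⟨a, ha⟩ := hresC t
      refine ⟨algebraMap A (Groth.Agent.Lib.HenselizationConstr.Hzn A) a, ?_⟩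
      have h1 : algebraMap (Groth.Agent.Lib.HenselizationConstr.Hzn A)
          (AdicCompletion (maximalIdeal A) A)
            (algebraMap A (Groth.Agent.Lib.HenselizationConstr.Hzn A) a)
          = algebraMap A (AdicCompletion (maximalIdeal A) A) a := RingHom.congr_fun hcomp a
      rw [h1, ← hmS, Ideal.map_map, hcomp, hmC]
      exact ha
    exact card_minimalPrimes_le A hA (Groth.Agent.Lib.HenselizationConstr.Hzn A)
      (AdicCompletion (maximalIdeal A) A) hmS hs
  · haveI hNT : IsNoetherianRing
        (Groth.Agent.Lib.StrictHenselization.Sh (AdicCompletion (maximalIdeal A) A)) :=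
      (Groth.Agent.S0540.result (AdicCompletion (maximalIdeal A) A)
        (Groth.Agent.Lib.StrictHenselization.Sh (AdicCompletion (maximalIdeal A) A))).mp hN
    rw [← Groth.Agent.S9238.result A (Groth.Agent.Lib.StrictHenselization.Sh A),
      ← Groth.Agent.S9238.result (AdicCompletion (maximalIdeal A) A)
        (Groth.Agent.Lib.StrictHenselization.Sh (AdicCompletion (maximalIdeal A) A))]
    exact card_minimalPrimes_strict_ge A (AdicCompletion (maximalIdeal A) A)
      (Groth.Agent.Lib.StrictHenselization.Sh A)
      (Groth.Agent.Lib.StrictHenselization.Sh (AdicCompletion (maximalIdeal A) A)) hA hmC hresC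

end Groth.Agent.S9241
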