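import Groth.Statements.S12545
import Groth.Agent.Lib.IsMu38

set_option autoImplicit false
universe u
open TensorProduct LaurentPolynomial
open GIT

namespace Groth.Agent.S12545

/-- Let a commutative bialgebra A over a field k coact linearly on affine ι-space, let λ be a
one-parameter subgroup (a bialgebra map to the Laurent polynomial ring) and v ≠ 0 a vector; write
μ(v, λ) = m when t^m · (v moved by λ(t)) extends to the affine line with non-zero value at t = 0.
Then v moved by λ(t) has no limit as t → 0 exactly when μ(v, λ) > 0, has a limit different from the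
origin exactly when μ(v, λ) = 0, and tends to the origin exactly when μ(v, λ) < 0. -/
theorem result (k : Type u) [Field k] (A : Type u) [CommRing A] [Bialgebra k A]
    (ι : Type u) [Fintype ι] [HopfRep.Comod k A (MvPolynomial ι k)] [GLin.IsCoactAlg k A (MvPolynomial ι k)]
    (hlin : GLin.IsLinear k A ι) (lam : A →ₐc[k] k[T;T⁻¹]) (v : ι → k) (hv : v ≠ 0) :
    (¬ GLin.HasLimit k A lam (GLin.vecPt k ι v) ↔ ∃ m : ℤ, GLin.IsMu k A lam v m ∧ 0 < m) ∧
      ((GLin.HasLimit k A lam (GLin.vecPt k ι v) ∧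
          ¬ GLin.IsLimit k A lam (GLin.vecPt k ι v) (GLin.vecPt k ι (fun _ => (0 : k)))) ↔
        GLin.IsMu k A lam v 0) ∧
      (GLin.IsLimit k A lam (GLin.vecPt k ι v) (GLin.vecPt k ι (fun _ => (0 : k))) ↔
        ∃ m : ℤ, GLin.IsMu k A lam v m ∧ m < 0) := by
  have hne := Groth.Agent.Lib.IsMu38.exists_coord_ne_zero lam v hv
  have hS := Groth.Agent.Lib.IsMu38.supp_nonempty _ hne
  have hmu : ∀ m : ℤ, GLin.IsMu k A lam v m ↔
      -m = (Groth.Agent.Lib.IsMu38.supp (Groth.Agent.Lib.IsMu38.coord lam v)).min' hS :=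
    fun m => Groth.Agent.Lib.IsMu38.isMu_iff_min lam v hv m
  set a := (Groth.Agent.Lib.IsMu38.supp (Groth.Agent.Lib.IsMu38.coord lam v)).min' hS with ha
  have h1 : GLin.HasLimit k A lam (GLin.vecPt k ι v) ↔ 0 ≤ a := by
    rw [Groth.Agent.Lib.IsMu38.hasLimit_iff, ha, Finset.le_min'_iff]
    constructor
    · intro h n hn
      by_contra hlt
      obtain ⟨i, hi⟩ := (Groth.Agent.Lib.IsMu38.mem_supp _ n).1 hn
      exact hi (h i n (not_le.1 hlt))
    · intro h i n hn
      by_contra hne
      have := h n ((Groth.Agent.Lib.IsMu38.mem_supp _ n).2 ⟨i, hne⟩)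
      omega
  have h3 : GLin.IsLimit k A lam (GLin.vecPt k ι v) (GLin.vecPt k ι (fun _ => (0 : k))) ↔ 0 < a := by
    rw [Groth.Agent.Lib.IsMu38.isLimit_iff, ha, Finset.lt_min'_iff]
    constructor
    · rintro ⟨h, h0⟩ n hn
      by_contra hlt
      obtain ⟨i, hi⟩ := (Groth.Agent.Lib.IsMu38.mem_supp _ n).1 hn
      rcases lt_or_eq_of_le (not_lt.1 hlt) with hlt' | heq
      · exact hi (h i n hlt')
      · rw [heq] at hi
        exact hi (h0 i)
    · intro h
      refine ⟨fun i n hn => ?_, fun i => ?_⟩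
      · by_contra hne
        have := h n ((Groth.Agent.Lib.IsMu38.mem_supp _ n).2 ⟨i, hne⟩)
        omega
      · by_contra hne
        have := h 0 ((Groth.Agent.Lib.IsMu38.mem_supp _ 0).2 ⟨i, hne⟩)
        omega
  refine ⟨?_, ?_, ?_⟩
  · rw [h1]
    constructor
    · intro h
      exact ⟨-a, (hmu _).2 (by ring), by omega⟩
    · rintro ⟨m, hm, hpos⟩
      have := (hmu m).1 hm
      omega
  · rw [h1, h3, hmu 0]
    constructor
    · rintro ⟨h, h'⟩; omega
    · intro h; constructor <;> omega
  · rw [h3]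
    constructor
    · intro h
      exact ⟨-a, (hmu _).2 (by ring), by omega⟩
    · rintro ⟨m, hm, hneg⟩
      have := (hmu m).1 hm
      omega

end Groth.Agent.S12545
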