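import Groth.Statements.S12546
import Groth.Agent.Lib.FormsLin38

set_option autoImplicit false
universe u
open TensorProduct LaurentPolynomial
open GIT

namespace Groth.Agent.S12546

open MvPolynomial CoordGrp Groth.Agent.Lib.FormsAct38 Groth.Agent.Lib.FormsPoly38
  Groth.Agent.Lib.FormsLin38 Groth.Agent.Lib.SLnForms38 in
theorem aux (k : Type u) [Field k] [IsAlgClosed k] [CharZero k] (d : ℕ) (b : FormIdx 2 d → k) :
    @GLin.IsStableVec k _ (SLn 2 k) _ _ (FormIdx 2 d) (fC k 2 d) (fCA k 2 d) b ↔
      ∀ ℓ : MvPolynomial (Fin 2) k, ℓ.IsHomogeneous 1 → ℓ ≠ 0 →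
        ∀ m : ℕ, ℓ ^ m ∣ formPoly b → 2 * m < d := by
  classical
  let _ := fC k 2 d
  have := fCA k 2 d
  set F := formPoly b with hF
  have hFhom : F.IsHomogeneous d := formPoly_isHomogeneous b
  rw [← not_iff_not, not_isStableVec_iff_poly (Nat.cast_ne_zero.2 (Nat.factorial_ne_zero d))]
  constructor
  · rintro ⟨M, r, hM, hr, hr0, hwt⟩
    rw [Fin.sum_univ_two] at hr
    have hGhom := sub_isHomogeneous M hFhom
    have hdeg : ∀ s, coeff s (sub M F) ≠ 0 → s 0 + s 1 = d := by
      intro s hs
      have h2 : s.degree = d := by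
        by_contra hne
        exact hs (hGhom.coeff_eq_zero hne)
      rwa [Finsupp.degree_eq_sum, Fin.sum_univ_two] at h2
    have hwt' : ∀ s, coeff s (sub M F) ≠ 0 → 0 ≤ ((s 0 : ℤ) - s 1) * r 0 := by
      intro s hs
      have := hwt s hs
      rw [wtF, Fin.sum_univ_two] at this
      have hr1 : r 1 = - r 0 := by omega
      rw [hr1] at this
      linarith
    intro hall
    rcases lt_trichotomy (r 0) 0 with hneg | hzero | hpos
    · have hdvd : X 1 ^ ((d + 1) / 2) ∣ sub M F := by
        rw [X_pow_dvd_iff]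
        intro s hs
        have h1 := hwt' s hs
        have h2 := hdeg s hs
        have h3 : (s 0 : ℤ) - s 1 ≤ 0 := by
          by_contra hge
          have : ((s 0 : ℤ) - s 1) * r 0 < 0 := mul_neg_of_pos_of_neg (by linarith) hneg
          linarith
        omega
      obtain ⟨ℓ, hℓ, hℓM, hℓd⟩ := exists_linear_pow_dvd M hM 1 _ F hdvd
      have hℓ0 : ℓ ≠ 0 := by
        intro h0
        rw [h0, map_zero] at hℓM
        exact X_ne_zero (R := k) (1 : Fin 2) hℓM.symm
      have := hall ℓ hℓ hℓ0 _ hℓd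
      omega
    · apply hr0
      funext i
      fin_cases i
      · exact hzero
      · show r 1 = 0
        omega
    · have hdvd : X 0 ^ ((d + 1) / 2) ∣ sub M F := by
        rw [X_pow_dvd_iff]
        intro s hs
        have h1 := hwt' s hs
        have h2 := hdeg s hs
        have h3 : 0 ≤ (s 0 : ℤ) - s 1 := by
          by_contra hge
          have : ((s 0 : ℤ) - s 1) * r 0 < 0 := mul_neg_of_neg_of_pos (by linarith) hpos
          linarith
        omega
      obtain ⟨ℓ, hℓ, hℓM, hℓd⟩ := exists_linear_pow_dvd M hM 0 _ F hdvd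
      have hℓ0 : ℓ ≠ 0 := by
        intro h0
        rw [h0, map_zero] at hℓM
        exact X_ne_zero (R := k) (0 : Fin 2) hℓM.symm
      have := hall ℓ hℓ hℓ0 _ hℓd
      omega
  · intro hns
    rw [not_forall] at hns
    obtain ⟨ℓ, hns⟩ := hns
    rw [Classical.not_imp] at hns
    obtain ⟨hℓ, hns⟩ := hns
    rw [Classical.not_imp] at hns
    obtain ⟨hℓ0, hns⟩ := hns
    rw [not_forall] at hns
    obtain ⟨m, hns⟩ := hns
    rw [Classical.not_imp] at hns
    obtain ⟨hm, hlt⟩ := hns
    obtain ⟨M, hM, hMℓ⟩ := exists_sub_eq_X_zero hℓ hℓ0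
    refine ⟨M, ![1, -1], hM, by simp, ?_, ?_⟩
    · intro h
      have := congrFun h 0
      simp at this
    have hdvd : X 0 ^ m ∣ sub M F := by
      have := map_dvd (sub M) hm
      rwa [map_pow, hMℓ] at this
    rw [X_pow_dvd_iff] at hdvd
    intro s hs
    have h1 := hdvd s hs
    have h2 : s.degree = d := by
      by_contra hne
      exact hs ((sub_isHomogeneous M hFhom).coeff_eq_zero hne)
    rw [Finsupp.degree_eq_sum, Fin.sum_univ_two] at h2
    rw [wtF, Fin.sum_univ_two]
    simp only [Matrix.cons_val_zero, Matrix.cons_val_one]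
    omega


/-- Let k be an algebraically closed field of characteristic zero and let SL_2 act by substitution on
binary forms of degree d, a form being the point a = (a_0, …, a_d) with F = Σ_i (d choose i) a_i
x^(d−i) y^i. For a ≠ 0: a is stable (closed orbit, finite stabiliser) if and only if every non-zero
linear form ℓ and every m with ℓ^m dividing F satisfy 2m < d, i.e. F has no root on the projective
line of multiplicity d/2 or more. -/
theorem result (k : Type u) [Field k] [IsAlgClosed k] [CharZero k]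
    (d : ℕ) (a : Fin (d + 1) → k) (ha : a ≠ 0) :
    @GLin.IsStableVec k _ (CoordGrp.SLn 2 k) _ _ (CoordGrp.FormIdx 2 d) (GLin.comodAlong ((CoordGrp.SLn.mkHom 2 k).comp (CoordGrp.Mat.toGLn 2 k)) (CoordGrp.formsCoact k 2 d))
      (GLin.isCoactAlg_comodAlong ((CoordGrp.SLn.mkHom 2 k).comp (CoordGrp.Mat.toGLn 2 k)) (CoordGrp.formsCoact k 2 d)
        (CoordGrp.formsCoact_isCoactAlg k 2 d))
      (CoordGrp.binVec d a) ↔
      ∀ ℓ : MvPolynomial (Fin 2) k, ℓ.IsHomogeneous 1 → ℓ ≠ 0 →
        ∀ m : ℕ, ℓ ^ m ∣ CoordGrp.formPoly (CoordGrp.binVec d a) → 2 * m < d := by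
  exact Groth.Agent.S12546.aux k d (CoordGrp.binVec d a)

end Groth.Agent.S12546
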