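import Groth.Statements.S12547
import Groth.Agent.Lib.FormsLin38

set_option autoImplicit false
universe u
open TensorProduct LaurentPolynomial
open GIT

namespace Groth.Agent.S12547

open MvPolynomial CoordGrp Groth.Agent.Lib.FormsAct38 Groth.Agent.Lib.FormsPoly38
  Groth.Agent.Lib.FormsLin38 Groth.Agent.Lib.SLnForms38 in
theorem aux (k : Type u) [Field k] [IsAlgClosed k] [CharZero k] (d : ℕ) (b : FormIdx 2 d → k)
    (hF0 : formPoly b ≠ 0) :
    @GLin.IsSemistableVec k _ (SLn 2 k) _ _ (FormIdx 2 d) (fC k 2 d) (fCA k 2 d) b ↔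
      ∀ ℓ : MvPolynomial (Fin 2) k, ℓ.IsHomogeneous 1 → ℓ ≠ 0 →
        ∀ m : ℕ, ℓ ^ m ∣ formPoly b → 2 * m ≤ d := by
  classical
  let _ := fC k 2 d
  have := fCA k 2 d
  set F := formPoly b with hF
  have hFhom : F.IsHomogeneous d := formPoly_isHomogeneous b
  show ¬ GLin.IsNullform k (SLn 2 k) b ↔ _
  rw [isNullform_iff_poly]
  constructor
  · intro hns ℓ hℓ hℓ0 m hm
    by_contra hlt
    apply hns
    obtain ⟨M, hM, hMℓ⟩ := exists_sub_eq_X_zero hℓ hℓ0
    refine ⟨M, ![1, -1], hM, by simp, ?_⟩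
    have hdvd : X 0 ^ m ∣ sub M F := by
      have := map_dvd (sub M) hm
      rwa [map_pow, hMℓ] at this
    rw [X_pow_dvd_iff] at hdvd
    intro s hs
    have h1 := hdvd s hs
    have h2 : s.degree = d := by
      by_contra hne
      exact hs ((sub_isHomogeneous M hFhom).coeff_eq_zero hne)
    rw [Finsupp.degree_eq_sum, Fin.sum_univ_two] at h2
    rw [wtF, Fin.sum_univ_two]
    simp only [Matrix.cons_val_zero, Matrix.cons_val_one]
    omega
  · intro hall
    rintro ⟨M, r, hM, hr, hwt⟩
    rw [Fin.sum_univ_two] at hr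
    have hG0 : sub M F ≠ 0 := by
      intro h0
      apply hF0
      apply sub_injective M (by rw [hM]; exact isUnit_one)
      rw [h0, map_zero]
    have hGhom := sub_isHomogeneous M hFhom
    have hdeg : ∀ s, coeff s (sub M F) ≠ 0 → s 0 + s 1 = d := by
      intro s hs
      have h2 : s.degree = d := by
        by_contra hne
        exact hs (hGhom.coeff_eq_zero hne)
      rwa [Finsupp.degree_eq_sum, Fin.sum_univ_two] at h2
    have hwt' : ∀ s, coeff s (sub M F) ≠ 0 → 1 ≤ ((s 0 : ℤ) - s 1) * r 0 := by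
      intro s hs
      have := hwt s hs
      rw [wtF, Fin.sum_univ_two] at this
      have hr1 : r 1 = - r 0 := by omega
      rw [hr1] at this
      linarith
    obtain ⟨s₀, hs₀⟩ := MvPolynomial.ne_zero_iff.1 hG0
    rcases lt_trichotomy (r 0) 0 with hneg | hzero | hpos
    · -- all monomials have s 1 > s 0
      have hdvd : X 1 ^ (d / 2 + 1) ∣ sub M F := by
        rw [X_pow_dvd_iff]
        intro s hs
        have h1 := hwt' s hs
        have h2 := hdeg s hs
        have h3 : (s 0 : ℤ) - s 1 < 0 := by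
          by_contra hge
          have : ((s 0 : ℤ) - s 1) * r 0 ≤ 0 := mul_nonpos_of_nonneg_of_nonpos (by linarith) hneg.le
          linarith
        omega
      obtain ⟨ℓ, hℓ, hℓM, hℓd⟩ := exists_linear_pow_dvd M hM 1 _ F hdvd
      have hℓ0 : ℓ ≠ 0 := by
        intro h0
        rw [h0, map_zero] at hℓM
        exact X_ne_zero (R := k) (1 : Fin 2) hℓM.symm
      have := hall ℓ hℓ hℓ0 _ hℓd
      omega
    · have := hwt' s₀ hs₀
      rw [hzero, mul_zero] at this
      omega
    · have hdvd : X 0 ^ (d / 2 + 1) ∣ sub M F := by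
        rw [X_pow_dvd_iff]
        intro s hs
        have h1 := hwt' s hs
        have h2 := hdeg s hs
        have h3 : 0 < (s 0 : ℤ) - s 1 := by
          by_contra hge
          have : ((s 0 : ℤ) - s 1) * r 0 ≤ 0 := mul_nonpos_of_nonpos_of_nonneg (by linarith) hpos.le
          linarith
        omega
      obtain ⟨ℓ, hℓ, hℓM, hℓd⟩ := exists_linear_pow_dvd M hM 0 _ F hdvd
      have hℓ0 : ℓ ≠ 0 := by
        intro h0
        rw [h0, map_zero] at hℓM
        exact X_ne_zero (R := k) (0 : Fin 2) hℓM.symm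
      have := hall ℓ hℓ hℓ0 _ hℓd
      omega


/-- Let k be an algebraically closed field of characteristic zero and let SL_2 act by substitution on
binary forms of degree d, a form being the point a = (a_0, …, a_d) with F = Σ_i (d choose i) a_i
x^(d−i) y^i. For a ≠ 0: a is semistable (some invariant homogeneous polynomial of positive degree in
the coefficients is non-zero at a) if and only if every non-zero linear form ℓ and every m with ℓ^m
dividing F satisfy 2m ≤ d, i.e. F has no root on the projective line of multiplicity more than d/2. -/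
theorem result (k : Type u) [Field k] [IsAlgClosed k] [CharZero k]
    (d : ℕ) (a : Fin (d + 1) → k) (ha : a ≠ 0) :
    @GLin.IsSemistableVec k _ (CoordGrp.SLn 2 k) _ _ (CoordGrp.FormIdx 2 d) (GLin.comodAlong ((CoordGrp.SLn.mkHom 2 k).comp (CoordGrp.Mat.toGLn 2 k)) (CoordGrp.formsCoact k 2 d))
      (GLin.isCoactAlg_comodAlong ((CoordGrp.SLn.mkHom 2 k).comp (CoordGrp.Mat.toGLn 2 k)) (CoordGrp.formsCoact k 2 d)
        (CoordGrp.formsCoact_isCoactAlg k 2 d))
      (CoordGrp.binVec d a) ↔
      ∀ ℓ : MvPolynomial (Fin 2) k, ℓ.IsHomogeneous 1 → ℓ ≠ 0 →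
        ∀ m : ℕ, ℓ ^ m ∣ CoordGrp.formPoly (CoordGrp.binVec d a) → 2 * m ≤ d := by
  classical
  have hF0 : CoordGrp.formPoly (CoordGrp.binVec d a) ≠ 0 := by
    intro h0
    apply ha
    funext i
    have h1 := CoordGrp.coeff_formPoly (CoordGrp.binVec d a) (CoordGrp.binIdx d i)
    rw [h0, MvPolynomial.coeff_zero, CoordGrp.binVec_binIdx] at h1
    have h2 := Groth.Agent.Lib.HMForms38.multinomial_ne_zero (k := k)
      (Nat.cast_ne_zero.2 (Nat.factorial_ne_zero d)) (CoordGrp.binIdx d i)
    rcases mul_eq_zero.1 h1.symm with h3 | h3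
    · exact absurd h3 h2
    · exact h3
  exact Groth.Agent.S12547.aux k d (CoordGrp.binVec d a) hF0

end Groth.Agent.S12547
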