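import Groth.Statements.S12549
import Mathlib

set_option autoImplicit false
universe u
open GIT

namespace Groth.Agent.S12549
open Finset

noncomputable section

/-- partial sums -/
def SP (P : ℕ → ℝ) (c : ℕ) : ℝ := ∑ i ∈ range c, P i

def HH (P : ℕ → ℝ) (θ : ℝ) (c : ℕ) : ℝ := θ * ((c:ℝ) * P c - SP P c) - (P c)^2 / 2

def AA (R : ℕ → ℝ) (c : ℕ) : ℝ := SP R c - (c:ℝ) * R c

def cost (P R : ℕ → ℝ) (μ : ℕ) (c : ℕ → ℕ) : ℝ :=
  ∑ j ∈ range μ, (P (c (j+1)) - P (c j)) * (R (c (j+1)) + R (c j))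

def consN (b : ℕ) (c : ℕ → ℕ) : ℕ → ℕ
  | 0 => b
  | (j+1) => c j

@[simp] lemma consN_zero (b : ℕ) (c : ℕ → ℕ) : consN b c 0 = b := rfl
@[simp] lemma consN_succ (b : ℕ) (c : ℕ → ℕ) (j : ℕ) : consN b c (j+1) = c j := rfl

lemma cost_cons (P R : ℕ → ℝ) (μ b : ℕ) (c : ℕ → ℕ) :
    cost P R (μ+1) (consN b c) = (P (c 0) - P b) * (R (c 0) + R b) + cost P R μ c := by
  unfold cost
  rw [Finset.sum_range_succ']
  simp only [consN_succ, consN_zero, zero_add]
  ring

lemma sum_range_sub_le {f h : ℕ → ℝ} {b b' : ℕ} (hbb' : b ≤ b')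
    (hfh : ∀ i, b ≤ i → i < b' → f i ≤ h i) :
    (∑ i ∈ range b', f i) - (∑ i ∈ range b, f i) ≤ (∑ i ∈ range b', h i) - ∑ i ∈ range b, h i := by
  rw [← Finset.sum_Ico_eq_sub f hbb', ← Finset.sum_Ico_eq_sub h hbb']
  apply Finset.sum_le_sum
  intro i hi
  rw [Finset.mem_Ico] at hi
  exact hfh i hi.1 hi.2

lemma AA_sub_ge (P R : ℕ → ℝ) (b b' : ℕ) (hbb' : b < b') (s : ℝ)
    (hs : R b' = R b + s * (P b' - P b))
    (hline : ∀ i, b < i → i < b' → R b + s * (P i - P b) ≤ R i) :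
    (-s) * (((b':ℝ) * P b' - SP P b') - ((b:ℝ) * P b - SP P b)) ≤ AA R b' - AA R b := by
  have key := sum_range_sub_le (f := fun i => (R b - s * P b) + s * P i) (h := R) hbb'.le (by
    intro i hbi hib'
    rcases hbi.eq_or_lt with rfl | hlt
    · show R b - s * P b + s * P b ≤ R b
      linarith
    · have := hline i hlt hib'
      show R b - s * P b + s * P i ≤ R i
      linarith)
  have hf : ∀ c, ∑ i ∈ range c, ((R b - s * P b) + s * P i)
      = (c:ℝ) * (R b - s * P b) + s * SP P c := by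
    intro c
    rw [Finset.sum_add_distrib, Finset.sum_const, Finset.card_range, nsmul_eq_mul, ← Finset.mul_sum]
    rfl
  simp only [hf] at key
  unfold AA
  rw [hs]
  unfold SP at *
  nlinarith [key]


theorem tail (P R : ℕ → ℝ) (hP : StrictMono P) (hR : Antitone R) (θ : ℝ) (hθ : 0 ≤ θ) (n : ℕ)
    (hH0 : ∀ c, c ≤ n → 0 ≤ HH P θ c) (hHpos : ∀ c, 1 ≤ c → c ≤ n → 0 < HH P θ c) :
    ∀ (k b : ℕ), b + k = n → ∀ σ : ℝ, σ ≤ 0 →
      (∀ c, b < c → c ≤ n → R b + σ * (P c - P b) ≤ R c) →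
      ∃ (μ : ℕ) (c : ℕ → ℕ), StrictMono c ∧ c 0 = b ∧ c μ = n ∧
        σ * HH P θ b ≤ θ * (AA R n - AA R b) - (cost P R μ c / 2 - P n * R n + P b * R b) ∧
        (σ < 0 → (1 ≤ b ∨ R n < R b) →
          σ * HH P θ b < θ * (AA R n - AA R b) - (cost P R μ c / 2 - P n * R n + P b * R b)) := by
  intro k
  induction k using Nat.strong_induction_on with
  | _ k ih =>
    intro b hbk σ hσ hline
    rcases Nat.eq_zero_or_pos k with rfl | hkpos
    · -- b = n
      have hbn : b = n := by omega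
      subst hbn
      refine ⟨0, fun j => b + j, ?_, by simp, by simp, ?_, ?_⟩
      · intro i j hij
        simpa using hij
      · have := hH0 b le_rfl
        simp only [cost, Finset.range_zero, Finset.sum_empty]
        nlinarith
      · intro hσ' hor
        simp only [cost, Finset.range_zero, Finset.sum_empty]
        rcases hor with h1 | h2
        · have := hHpos b h1 le_rfl
          nlinarith
        · exact absurd h2 (lt_irrefl _)
    · -- b < n
      have hbn : b < n := by omega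
      obtain ⟨b', hb'mem, hb'min⟩ := Finset.exists_min_image (Finset.Ioc b n)
        (fun c => (R c - R b) / (P c - P b)) ⟨n, Finset.mem_Ioc.mpr ⟨hbn, le_rfl⟩⟩
      rw [Finset.mem_Ioc] at hb'mem
      obtain ⟨hbb', hb'n⟩ := hb'mem
      have hPpos : ∀ c, b < c → 0 < P c - P b := fun c hc => sub_pos.mpr (hP hc)
      obtain ⟨s, hs_def⟩ : ∃ s, s = (R b' - R b) / (P b' - P b) := ⟨_, rfl⟩
      have hs_eq : R b' = R b + s * (P b' - P b) := by
        rw [hs_def, div_mul_cancel₀ _ (hPpos b' hbb').ne']; ring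
      have hs_le : ∀ c, b < c → c ≤ n → R b + s * (P c - P b) ≤ R c := by
        intro c hbc hcn
        have h1 : (R b' - R b) / (P b' - P b) ≤ (R c - R b) / (P c - P b) :=
          hb'min c (Finset.mem_Ioc.mpr ⟨hbc, hcn⟩)
        have h2 := mul_le_mul_of_nonneg_right h1 (hPpos c hbc).le
        rw [div_mul_cancel₀ _ (hPpos c hbc).ne', ← hs_def] at h2
        linarith
      have hs_nonpos : s ≤ 0 := by
        rw [hs_def]
        exact div_nonpos_of_nonpos_of_nonneg (sub_nonpos.mpr (hR hbb'.le)) (hPpos b' hbb').le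
      have hσs : σ ≤ s := by
        rw [hs_def, le_div_iff₀ (hPpos b' hbb')]
        have := hline b' hbb' hb'n
        linarith
      have hline' : ∀ c, b' < c → c ≤ n → R b' + s * (P c - P b') ≤ R c := by
        intro c hb'c hcn
        have := hs_le c (hbb'.trans hb'c) hcn
        rw [hs_eq]; linarith
      obtain ⟨μ, c, hc, hc0, hcμ, hle, hlt⟩ :=
        ih (n - b') (by omega) b' (by omega) s hs_nonpos hline'
      have hA := AA_sub_ge P R b b' hbb' s hs_eq (fun i hi hi' => hs_le i hi (hi'.le.trans hb'n))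
      have hHb := hH0 b hbn.le
      have hθA := mul_le_mul_of_nonneg_left hA hθ
      refine ⟨μ + 1, consN b c, ?_, rfl, by simpa using hcμ, ?_, ?_⟩
      · apply strictMono_nat_of_lt_succ
        intro j
        cases j with
        | zero => simpa [hc0] using hbb'
        | succ j => simpa using hc (Nat.lt_succ_self j)
      · rw [cost_cons, hc0]
        have h3 := mul_nonneg (sub_nonneg.mpr hσs) hHb
        unfold HH at *
        rw [hs_eq] at hle ⊢
        nlinarith [hle, hθA, h3]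
      · intro hσ' hor
        rw [cost_cons, hc0]
        by_cases hs0 : s < 0
        · have hlt' := hlt hs0 (Or.inl (by omega))
          have h3 := mul_nonneg (sub_nonneg.mpr hσs) hHb
          unfold HH at *
          rw [hs_eq] at hlt' ⊢
          nlinarith [hlt', hθA, h3]
        · have hs0' : s = 0 := le_antisymm hs_nonpos (not_lt.mp hs0)
          rcases hor with h1 | h2
          · have hpos := hHpos b h1 hbn.le
            have h3 : 0 < (s - σ) * HH P θ b := mul_pos (by linarith) hpos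
            unfold HH at *
            rw [hs_eq] at hle ⊢
            nlinarith [hle, hθA, h3]
          · exfalso
            have := hs_le n hbn le_rfl
            rw [hs0'] at this
            linarith


def PP (m g : ℕ) (i : ℕ) : ℝ := if i ≤ m then (i:ℝ) else (i:ℝ) + g

lemma PP_of_le {m g i : ℕ} (h : i ≤ m) : PP m g i = i := by
  unfold PP; rw [if_pos h]

lemma PP_of_gt {m g i : ℕ} (h : m < i) : PP m g i = (i:ℝ) + g := by
  unfold PP; rw [if_neg (by omega)]

lemma PP_strictMono (m g : ℕ) : StrictMono (PP m g) := by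
  apply strictMono_nat_of_lt_succ
  intro i
  have hg0 : (0:ℝ) ≤ g := Nat.cast_nonneg g
  rcases Nat.lt_or_ge i m with h | h
  · rw [PP_of_le h.le, PP_of_le (show i + 1 ≤ m by omega)]; push_cast; linarith
  · rcases h.eq_or_lt with h' | h'
    · rw [PP_of_le (show i ≤ m by omega), PP_of_gt (show m < i + 1 by omega)]; push_cast; linarith
    · rw [PP_of_gt h', PP_of_gt (show m < i + 1 by omega)]; push_cast; linarith

lemma SP_PP_le (m g : ℕ) : ∀ c, c ≤ m + 1 → SP (PP m g) c = (c:ℝ) * ((c:ℝ) - 1) / 2 := by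
  intro c
  induction c with
  | zero => intro _; simp [SP]
  | succ c ih =>
    intro hc
    have h1 := ih (by omega)
    unfold SP at *
    rw [Finset.sum_range_succ, h1, PP_of_le (show c ≤ m by omega)]
    push_cast; ring

lemma SP_PP_ge (m g : ℕ) : ∀ t, SP (PP m g) (m + 1 + t)
    = ((m:ℝ) + 1 + t) * ((m:ℝ) + t) / 2 + g * t := by
  intro t
  induction t with
  | zero => rw [SP_PP_le m g (m+1) le_rfl]; push_cast; ring
  | succ t ih =>
    have h2 : m + 1 + (t + 1) = (m + 1 + t) + 1 := by ring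
    rw [h2]
    unfold SP at *
    rw [Finset.sum_range_succ, ih, PP_of_gt (show m < m + 1 + t by omega)]
    push_cast; ring

lemma HH_PP_le (m g : ℕ) (c : ℕ) (hc : c ≤ m) :
    HH (PP m g) (((m:ℝ) + 2 * g) / ((m:ℝ) + g + 1)) c
      = (c:ℝ) * ((m:ℝ) + 2 * g + ((g:ℝ) - 1) * c) / (2 * ((m:ℝ) + g + 1)) := by
  unfold HH
  rw [SP_PP_le m g c (by omega), PP_of_le hc]
  have : (0:ℝ) < (m:ℝ) + g + 1 := by positivity
  field_simp
  ring

lemma HH_PP_gt (m t t' : ℕ) :
    HH (PP m (t + 1 + t')) (((m:ℝ) + 2 * ((t + 1 + t' : ℕ):ℝ)) / ((m:ℝ) + ((t + 1 + t' : ℕ):ℝ) + 1)) (m + 1 + t)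
      = (((m:ℝ) + 2 * ((t:ℝ) + 1 + t')) * ((t:ℝ) + 1 + t') * ((m:ℝ) + 1 - ((t:ℝ) + 1 + t'))
          + (t':ℝ) * ((m:ℝ) + 2 * ((t:ℝ) + 1 + t') + ((t:ℝ) + t') * t'))
        / (2 * ((m:ℝ) + ((t:ℝ) + 1 + t') + 1)) := by
  unfold HH
  rw [SP_PP_ge, PP_of_gt (show m < m + 1 + t by omega)]
  have : (0:ℝ) < (m:ℝ) + ((t:ℝ) + 1 + t') + 1 := by positivity
  push_cast
  field_simp
  ring


lemma PP_ge (m g i : ℕ) : (i:ℝ) ≤ PP m g i := by
  have hg0 : (0:ℝ) ≤ g := Nat.cast_nonneg g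
  rcases Nat.lt_or_ge m i with h | h
  · rw [PP_of_gt h]; linarith
  · rw [PP_of_le h]

lemma HH_PP_nonneg (m g : ℕ) (hg : 1 ≤ g) (hmg : g ≤ m) (c : ℕ) (hc : c ≤ m + g) :
    0 ≤ HH (PP m g) (((m:ℝ) + 2 * g) / ((m:ℝ) + g + 1)) c ∧
      (1 ≤ c → 0 < HH (PP m g) (((m:ℝ) + 2 * g) / ((m:ℝ) + g + 1)) c) := by
  have hg1 : (1:ℝ) ≤ g := by exact_mod_cast hg
  have hm0 : (0:ℝ) ≤ m := Nat.cast_nonneg m
  rcases Nat.lt_or_ge m c with h | h
  · obtain ⟨t, rfl⟩ : ∃ t, c = m + 1 + t := ⟨c - m - 1, by omega⟩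
    obtain ⟨t', rfl⟩ : ∃ t', g = t + 1 + t' := ⟨g - t - 1, by omega⟩
    rw [HH_PP_gt]
    have ht0 : (0:ℝ) ≤ t := Nat.cast_nonneg t
    have ht'0 : (0:ℝ) ≤ t' := Nat.cast_nonneg t'
    have hmg' : (t:ℝ) + 1 + t' ≤ m := by exact_mod_cast hmg
    have hpos : 0 < (((m:ℝ) + 2 * ((t:ℝ) + 1 + t')) * ((t:ℝ) + 1 + t') * ((m:ℝ) + 1 - ((t:ℝ) + 1 + t'))
          + (t':ℝ) * ((m:ℝ) + 2 * ((t:ℝ) + 1 + t') + ((t:ℝ) + t') * t'))
        / (2 * ((m:ℝ) + ((t:ℝ) + 1 + t') + 1)) := by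
      apply div_pos
      · apply add_pos_of_pos_of_nonneg
        · apply mul_pos (mul_pos _ _) _ <;> linarith
        · positivity
      · positivity
    exact ⟨hpos.le, fun _ => hpos⟩
  · rw [HH_PP_le m g c h]
    have hc0 : (0:ℝ) ≤ c := Nat.cast_nonneg c
    have h1 : 0 ≤ ((g:ℝ) - 1) * c := mul_nonneg (by linarith) hc0
    constructor
    · apply div_nonneg (mul_nonneg hc0 (by linarith)) (by positivity)
    · intro hc1
      have hc1' : (1:ℝ) ≤ c := by exact_mod_cast hc1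
      apply div_pos (mul_pos (by linarith) (by linarith)) (by positivity)

lemma abel (D ρ : ℕ → ℝ) (hD : ∀ j, 0 ≤ D j) (hρ : Antitone ρ) : ∀ μ,
    D (μ+1) * (ρ (μ+1) + ρ μ) - D 0 * (ρ 1 + ρ 0)
      ≤ ∑ j ∈ range (μ+1), (D (j+1) - D j) * (ρ (j+1) + ρ j) := by
  intro μ
  induction μ with
  | zero => simp; linarith
  | succ μ ih =>
    rw [Finset.sum_range_succ]
    have h1 := hD (μ+1)
    have h2 : ρ (μ+1+1) ≤ ρ μ := hρ (by omega)
    nlinarith [mul_nonneg h1 (sub_nonneg.mpr h2)]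


theorem result' (n g : ℕ) (hg : 1 ≤ g) (hn : 2 * g ≤ n)
    (e : Fin (n + 1) → ℕ) (he0 : e 0 = 0) (hen : e (Fin.last n) = n + g)
    (hle : ∀ i : Fin (n + 1), (i : ℕ) ≤ n - g → e i ≤ (i : ℕ)) (hle' : ∀ i : Fin (n + 1), e i ≤ (i : ℕ) + g)
    (r : Fin (n + 1) → ℝ) (hanti : Antitone r) (hsum : ∑ i, r i = 0) (hr : r ≠ 0) :
    ∃ (μ : ℕ) (c : Fin (μ + 1) → Fin (n + 1)), StrictMono c ∧ c 0 = 0 ∧ c (Fin.last μ) = Fin.last n ∧
      ∑ j : Fin μ, ((e (c j.succ) : ℝ) - (e (c j.castSucc) : ℝ)) * (r (c j.succ) + r (c j.castSucc)) < 0 := by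
  obtain ⟨m, hm⟩ : ∃ m, n = m + g := ⟨n - g, by omega⟩
  have hmg : g ≤ m := by omega
  have hmin : ∀ i : ℕ, min i n < n + 1 := fun i => by omega
  let R : ℕ → ℝ := fun i => r ⟨min i n, hmin i⟩
  let E : ℕ → ℝ := fun i => (e ⟨min i n, hmin i⟩ : ℝ)
  have hRfin : ∀ (i : ℕ) (h : i < n + 1), R i = r ⟨i, h⟩ := by
    intro i h
    show r ⟨min i n, hmin i⟩ = r ⟨i, h⟩
    congr 2
    omega
  have hEfin : ∀ (i : ℕ) (h : i < n + 1), E i = (e ⟨i, h⟩ : ℝ) := by
    intro i h
    show (e ⟨min i n, hmin i⟩ : ℝ) = (e ⟨i, h⟩ : ℝ)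
    congr 3
    omega
  have hR : Antitone R := fun i j hij => hanti (Fin.mk_le_mk.mpr (min_le_min_right _ hij))
  have hR0 : R 0 = r 0 := hRfin 0 (by omega)
  have hRn : R n = r (Fin.last n) := hRfin n (by omega)
  -- R n < R 0
  have hlt0 : R n < R 0 := by
    by_contra hcon
    have hcon' : R 0 ≤ R n := not_lt.mp hcon
    have hall : ∀ i : Fin (n + 1), r i = r 0 := by
      intro i
      apply le_antisymm (hanti (Fin.zero_le i))
      calc r 0 = R 0 := hR0.symm
        _ ≤ R n := hcon'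
        _ = r (Fin.last n) := hRn
        _ ≤ r i := hanti (Fin.le_last i)
    have h0 : r 0 = 0 := by
      have : ∑ i : Fin (n + 1), r i = ((n:ℝ) + 1) * r 0 := by
        rw [Finset.sum_congr rfl (fun i _ => hall i)]
        simp
      rw [this] at hsum
      have hn1 : ((n:ℝ) + 1) ≠ 0 := by positivity
      exact (mul_eq_zero.mp hsum).resolve_left hn1
    apply hr
    funext i
    rw [hall i, h0]; rfl
  set θ : ℝ := ((m:ℝ) + 2 * g) / ((m:ℝ) + g + 1) with hθdef
  have hθ : 0 ≤ θ := by positivity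
  have hθmul : θ * ((m:ℝ) + g + 1) = (m:ℝ) + 2 * g := by
    rw [hθdef]; exact div_mul_cancel₀ _ (by positivity)
  have hH := fun c (hc : c ≤ n) => HH_PP_nonneg m g hg hmg c (by omega)
  have hP0 : PP m g 0 = 0 := by rw [PP_of_le (Nat.zero_le m)]; simp
  have hPn : PP m g n = (m:ℝ) + 2 * g := by
    rw [PP_of_gt (show m < n by omega), hm]; push_cast; ring
  obtain ⟨μ, c, hc, hc0, hcμ, -, hlt⟩ := tail (PP m g) R (PP_strictMono m g) hR θ hθ n
    (fun c hc => (hH c hc).1) (fun c h1 hc => (hH c hc).2 h1) n 0 (by omega) (R n - R 0)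
    (by linarith) (by
      intro c hc1 hcn
      have h1 : (1:ℝ) ≤ PP m g c := le_trans (by exact_mod_cast hc1) (PP_ge m g c)
      have h2 : R n ≤ R c := hR hcn
      rw [hP0]
      nlinarith)
  have hmain := hlt (by linarith) (Or.inr hlt0)
  -- evaluate
  have hSR : SP R (n + 1) = 0 := by
    unfold SP
    rw [← Fin.sum_univ_eq_sum_range (fun i => R i) (n + 1), ← hsum]
    apply Finset.sum_congr rfl
    intro i _
    exact hRfin i i.2
  have hSRn : SP R n = - R n := by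
    have : SP R (n + 1) = SP R n + R n := by unfold SP; rw [Finset.sum_range_succ]
    linarith
  have hcostP : cost (PP m g) R μ c < 0 := by
    have hn' : (n:ℝ) = (m:ℝ) + g := by rw [hm]; push_cast; ring
    have e1 : HH (PP m g) θ 0 = 0 := by simp [HH, SP, hP0]
    have e2 : AA R 0 = 0 := by simp [AA, SP]
    have e3 : AA R n = - ((n:ℝ) + 1) * R n := by unfold AA; rw [hSRn]; ring
    rw [e1, e2, e3, hPn, hP0, hn'] at hmain
    have h5 : θ * ((m:ℝ) + g + 1) * R n = ((m:ℝ) + 2 * g) * R n := by rw [hθmul]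
    nlinarith [hmain, h5]
  -- compare with e
  have hEP : ∀ i, E i ≤ PP m g i := by
    intro i
    have h1 : E i ≤ PP m g (min i n) := by
      show (e ⟨min i n, hmin i⟩ : ℝ) ≤ PP m g (min i n)
      rcases Nat.lt_or_ge m (min i n) with h | h
      · rw [PP_of_gt h]
        have := hle' ⟨min i n, hmin i⟩
        exact_mod_cast this
      · rw [PP_of_le h]
        have := hle ⟨min i n, hmin i⟩ (by simp only; omega)
        exact_mod_cast this
    exact h1.trans ((PP_strictMono m g).monotone (min_le_left i n))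
  have hE0 : E 0 = 0 := by
    rw [hEfin 0 (by omega)]
    have : (⟨0, by omega⟩ : Fin (n + 1)) = 0 := rfl
    rw [this, he0]; simp
  have hEn : E n = (m:ℝ) + 2 * g := by
    rw [hEfin n (by omega)]
    have : (⟨n, by omega⟩ : Fin (n + 1)) = Fin.last n := rfl
    rw [this, hen, hm]; push_cast; ring
  have hcostE : cost E R μ c ≤ cost (PP m g) R μ c := by
    rcases Nat.eq_zero_or_pos μ with rfl | hμ
    · simp [cost]
    · obtain ⟨ν, rfl⟩ : ∃ ν, μ = ν + 1 := ⟨μ - 1, by omega⟩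
      have hab := abel (fun j => PP m g (c j) - E (c j)) (fun j => R (c j))
        (fun j => sub_nonneg.mpr (hEP (c j))) (hR.comp_monotone hc.monotone) ν
      simp only [hc0, hcμ, hP0, hE0, hPn, hEn] at hab
      have hsub : cost (PP m g) R (ν + 1) c - cost E R (ν + 1) c
          = ∑ j ∈ range (ν + 1), ((PP m g (c (j + 1)) - E (c (j + 1))) - (PP m g (c j) - E (c j)))
              * (R (c (j + 1)) + R (c j)) := by
        unfold cost
        rw [← Finset.sum_sub_distrib]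
        apply Finset.sum_congr rfl
        intro j _
        ring
      rw [← hsub] at hab
      linarith
  have hcn : ∀ j : ℕ, j ≤ μ → c j < n + 1 := by
    intro j hj
    have := hc.monotone hj
    omega
  refine ⟨μ, fun j => ⟨c j, hcn j (Nat.lt_succ_iff.mp j.2)⟩, ?_, ?_, ?_, ?_⟩
  · intro i j hij
    exact Fin.mk_lt_mk.mpr (hc hij)
  · apply Fin.ext
    simp [hc0]
  · apply Fin.ext
    simp [hcμ]
  · have hconv : ∑ j : Fin μ, ((e ⟨c (j.succ : Fin (μ + 1)), hcn _ (Nat.lt_succ_iff.mp (j.succ).2)⟩ : ℝ)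
          - (e ⟨c (j.castSucc : Fin (μ + 1)), hcn _ (Nat.lt_succ_iff.mp (j.castSucc).2)⟩ : ℝ))
          * (r ⟨c (j.succ : Fin (μ + 1)), hcn _ (Nat.lt_succ_iff.mp (j.succ).2)⟩
            + r ⟨c (j.castSucc : Fin (μ + 1)), hcn _ (Nat.lt_succ_iff.mp (j.castSucc).2)⟩)
        = cost E R μ c := by
      unfold cost
      rw [← Fin.sum_univ_eq_sum_range (fun j => (E (c (j + 1)) - E (c j)) * (R (c (j + 1)) + R (c j))) μ]
      apply Finset.sum_congr rfl
      intro j _
      rw [hEfin (c (j + 1)) (hcn _ (by have := j.2; omega)), hEfin (c j) (hcn _ (by have := j.2; omega)),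
        hRfin (c (j + 1)) (hcn _ (by have := j.2; omega)), hRfin (c j) (hcn _ (by have := j.2; omega))]
      rfl
    rw [hconv]
    linarith

end


/-- Let g ≥ 1 and n ≥ 2g, and let e_0, …, e_n be natural numbers with e_0 = 0, e_n = n + g, e_0 ≤ … ≤
e_n, e_i ≤ i for i ≤ n − g and e_i ≤ i + g for all i. Then for all real r_0 ≥ r_1 ≥ … ≥ r_n with Σ
r_i = 0, not all zero, some chain 0 = c_0 < c_1 < … < c_μ = n has Σ_j (e_(c_(j+1)) − e_(c_j)) ·
(r_(c_(j+1)) + r_(c_j)) < 0. -/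
theorem result (n g : ℕ) (hg : 1 ≤ g) (hn : 2 * g ≤ n)
    (e : Fin (n + 1) → ℕ) (he0 : e 0 = 0) (hen : e (Fin.last n) = n + g) (hmono : Monotone e)
    (hle : ∀ i : Fin (n + 1), (i : ℕ) ≤ n - g → e i ≤ (i : ℕ)) (hle' : ∀ i : Fin (n + 1), e i ≤ (i : ℕ) + g)
    (r : Fin (n + 1) → ℝ) (hanti : Antitone r) (hsum : ∑ i, r i = 0) (hr : r ≠ 0) :
    ∃ (μ : ℕ) (c : Fin (μ + 1) → Fin (n + 1)), StrictMono c ∧ c 0 = 0 ∧ c (Fin.last μ) = Fin.last n ∧
      ∑ j : Fin μ, ((e (c j.succ) : ℝ) - (e (c j.castSucc) : ℝ)) * (r (c j.succ) + r (c j.castSucc)) < 0 := by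
  exact result' n g hg hn e he0 hen hle hle' r hanti hsum hr

end Groth.Agent.S12549
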