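import Groth.Statements.S12550
import Mathlib.LinearAlgebra.FiniteDimensional.Lemmas

set_option autoImplicit false
universe u
open GIT

namespace Groth.Agent.S12550

theorem result (K : Type u) [Field K]
    (V : Type u) [AddCommGroup V] [Module K V] [FiniteDimensional K V]
    (m : ℕ) (x : Fin (m + 1) → V) (hx : ∀ i, x i ≠ 0)
    (hst : ∀ L : Submodule K V, L ≠ ⊥ → L ≠ ⊤ →
      Set.ncard {i : Fin (m + 1) | x i ∈ L} * Module.finrank K V < Module.finrank K L * (m + 1)) :
    ¬ ∃ L' L'' : Submodule K V, L' ≠ ⊤ ∧ L'' ≠ ⊤ ∧ Disjoint L' L'' ∧ ∀ i, x i ∈ L' ∨ x i ∈ L'' := by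
  rintro ⟨L', L'', h', h'', hd, hc⟩
  -- key: all in L (proper) is impossible
  have key : ∀ L : Submodule K V, L ≠ ⊤ → (∀ i, x i ∈ L) → False := by
    intro L hL hall
    have hbot : L ≠ ⊥ := by
      rintro rfl
      exact hx 0 (by simpa using hall 0)
    have h := hst L hbot hL
    have hset : {i : Fin (m + 1) | x i ∈ L} = Set.univ := by
      ext i; simp [hall i]
    rw [hset, Set.ncard_univ, Nat.card_eq_fintype_card, Fintype.card_fin] at h
    have hle : Module.finrank K L ≤ Module.finrank K V := Submodule.finrank_le L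
    nlinarith
  by_cases hb' : L' = ⊥
  · subst hb'
    refine key L'' h'' (fun i => ?_)
    rcases hc i with h | h
    · exact absurd (by simpa using h) (hx i)
    · exact h
  by_cases hb'' : L'' = ⊥
  · subst hb''
    refine key L' h' (fun i => ?_)
    rcases hc i with h | h
    · exact h
    · exact absurd (by simpa using h) (hx i)
  have h1 := hst L' hb' h'
  have h2 := hst L'' hb'' h''
  have hcard : (m + 1) ≤ Set.ncard {i : Fin (m + 1) | x i ∈ L'} + Set.ncard {i : Fin (m + 1) | x i ∈ L''} := by
    have hu : {i : Fin (m + 1) | x i ∈ L'} ∪ {i : Fin (m + 1) | x i ∈ L''} = Set.univ := by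
      ext i; simpa using hc i
    have := Set.ncard_union_le {i : Fin (m + 1) | x i ∈ L'} {i : Fin (m + 1) | x i ∈ L''}
    rw [hu, Set.ncard_univ, Nat.card_eq_fintype_card, Fintype.card_fin] at this
    exact this
  have hdim : Module.finrank K L' + Module.finrank K L'' ≤ Module.finrank K V := by
    have := Submodule.finrank_add_finrank_le_of_disjoint hd
    exact this
  nlinarith
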