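import Groth.Statements.S12551
import Groth.Agent.Lib.SortWt38

set_option autoImplicit false
universe u
open TensorProduct LaurentPolynomial
open GIT

namespace Groth.Agent.S12551

open MvPolynomial CoordGrp Groth.Agent.Lib.FormsAct38 Groth.Agent.Lib.FormsPoly38
  Groth.Agent.Lib.FormsLin38 Groth.Agent.Lib.SLnForms38 Groth.Agent.Lib.SortWt38 in
theorem aux (k : Type u) [Field k] [IsAlgClosed k] [CharZero k] (a : FormIdx 3 4 → k) :
    ¬ @GLin.IsStableVec k _ (SLn 3 k) _ _ (FormIdx 3 4) (fC k 3 4) (fCA k 3 4) a ↔
      ∃ M : Matrix (Fin 3) (Fin 3) k, M.det = 1 ∧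
        ∃ F' : MvPolynomial (Fin 3) k,
          F' = MvPolynomial.aeval (fun i : Fin 3 => ∑ j : Fin 3, MvPolynomial.C (M i j) * MvPolynomial.X j)
              (formPoly a) ∧
          (∀ ij : ℕ × ℕ, ij ∈ ({(0, 0), (1, 0), (0, 1), (2, 0), (1, 1)} : Finset (ℕ × ℕ)) →
            F'.coeff (Finsupp.single 0 (4 - ij.1 - ij.2) + Finsupp.single 1 ij.1 + Finsupp.single 2 ij.2) = 0) ∧
          (F'.coeff (Finsupp.single 0 2 + Finsupp.single 2 2) = 0 ∨
            F'.coeff (Finsupp.single 0 1 + Finsupp.single 1 3) = 0) := by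
  classical
  let _ := fC k 3 4
  have := fCA k 3 4
  set F := formPoly a with hF
  have hFhom : F.IsHomogeneous 4 := formPoly_isHomogeneous a
  have hsubdef : ∀ M : Matrix (Fin 3) (Fin 3) k,
      MvPolynomial.aeval (fun i : Fin 3 => ∑ j : Fin 3, MvPolynomial.C (M i j) * MvPolynomial.X j) F
        = sub M F := fun M => rfl
  have hwt3 : ∀ (r : Fin 3 → ℤ) (x y z : ℕ),
      wtF r (Finsupp.single 0 x + Finsupp.single 1 y + Finsupp.single 2 z) =
        x * r 0 + y * r 1 + z * r 2 := by
    intro r x y z
    rw [wtF_add, wtF_add, wtF_single, wtF_single, wtF_single]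
  rw [not_isStableVec_iff_poly (Nat.cast_ne_zero.2 (Nat.factorial_ne_zero 4))]
  constructor
  · rintro ⟨M₀, r₀, hM₀, hr₀, hr₀0, hwt₀⟩
    obtain ⟨M, r, hM, hr, hr0, hmono, hwt⟩ := exists_sorted F 0 M₀ r₀ hM₀ hr₀ hr₀0 hwt₀
    rw [Fin.sum_univ_three] at hr
    have h01 : r 0 ≤ r 1 := hmono (by decide)
    have h12 : r 1 ≤ r 2 := hmono (by decide)
    have hne : ¬ (r 0 = 0 ∧ r 1 = 0 ∧ r 2 = 0) := by
      rintro ⟨h0, h1, h2⟩
      apply hr0
      funext i
      fin_cases i
      · exact h0
      · exact h1
      · exact h2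
    have hvanish : ∀ x y z : ℕ, (x : ℤ) * r 0 + y * r 1 + z * r 2 < 0 →
        (sub M F).coeff (Finsupp.single 0 x + Finsupp.single 1 y + Finsupp.single 2 z) = 0 := by
      intro x y z hlt
      by_contra hne'
      have := hwt _ hne'
      rw [hwt3] at this
      omega
    refine ⟨M, hM, sub M F, (hsubdef M).symm, ?_, ?_⟩
    · intro ij hij
      simp only [Finset.mem_insert, Finset.mem_singleton] at hij
      rcases hij with rfl | rfl | rfl | rfl | rfl
      · apply hvanish
        push_cast
        omega
      · apply hvanish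
        push_cast
        omega
      · apply hvanish
        push_cast
        omega
      · apply hvanish
        push_cast
        omega
      · apply hvanish
        push_cast
        omega
    · by_contra hcon
      rw [not_or] at hcon
      have h1 := hwt _ hcon.1
      have h2 := hwt _ hcon.2
      have e1 : (Finsupp.single 0 2 + Finsupp.single 2 2 : Fin 3 →₀ ℕ) =
          Finsupp.single 0 2 + Finsupp.single 1 0 + Finsupp.single 2 2 := by simp
      have e2 : (Finsupp.single 0 1 + Finsupp.single 1 3 : Fin 3 →₀ ℕ) =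
          Finsupp.single 0 1 + Finsupp.single 1 3 + Finsupp.single 2 0 := by simp
      rw [e1, hwt3] at h1
      rw [e2, hwt3] at h2
      push_cast at h1 h2
      omega
  · rintro ⟨M, hM, F', hF', h5, h2⟩
    rw [hsubdef] at hF'
    subst hF'
    have hGhom := sub_isHomogeneous M hFhom
    have hdecomp : ∀ s : Fin 3 →₀ ℕ, s =
        Finsupp.single 0 (s 0) + Finsupp.single 1 (s 1) + Finsupp.single 2 (s 2) := by
      intro s
      ext i
      fin_cases i <;> simp
    have hdeg : ∀ s : Fin 3 →₀ ℕ, coeff s (sub M F) ≠ 0 → s 0 + s 1 + s 2 = 4 := by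
      intro s hs
      have h2 : s.degree = 4 := by
        by_contra hne
        exact hs (hGhom.coeff_eq_zero hne)
      rwa [Finsupp.degree_eq_sum, Fin.sum_univ_three] at h2
    have h5' : ∀ (s : Fin 3 →₀ ℕ) (i j : ℕ), s 0 + s 1 + s 2 = 4 → s 1 = i → s 2 = j →
        (i, j) ∈ ({(0, 0), (1, 0), (0, 1), (2, 0), (1, 1)} : Finset (ℕ × ℕ)) →
        coeff s (sub M F) = 0 := by
      intro s i j hs hi hj hij
      have := h5 (i, j) hij
      rw [hdecomp s, hi, hj]
      have e : s 0 = 4 - i - j := by omega
      rw [e]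
      exact this
    rcases h2 with h02 | h30
    · refine ⟨M, ![-2, 1, 1], hM, by simp [Fin.sum_univ_three], ?_, ?_⟩
      · intro h
        have := congrFun h 0
        simp at this
      · intro s hs
        have hd := hdeg s hs
        rw [wtF, Fin.sum_univ_three]
        simp only [Matrix.cons_val_zero, Matrix.cons_val_one, Matrix.cons_val_two,
          Matrix.head_cons, Matrix.tail_cons]
        by_contra hlt
        have hs0 : 2 ≤ s 0 := by
          by_contra hlt0
          apply hlt
          have : s 0 ≤ 1 := by omega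
          push_cast
          omega
        apply hs
        have h1 : s 1 ≤ 2 := by omega
        have h2 : s 2 ≤ 2 := by omega
        obtain ⟨i, hi⟩ : ∃ i, s 1 = i := ⟨_, rfl⟩
        obtain ⟨j, hj⟩ : ∃ j, s 2 = j := ⟨_, rfl⟩
        rw [hi] at h1
        rw [hj] at h2
        by_cases h02' : i = 0 ∧ j = 2
        · rw [hdecomp s, hi, hj, h02'.1, h02'.2]
          have e : s 0 = 2 := by omega
          rw [e]
          simpa using h02
        · apply h5' s i j hd hi hj
          simp only [Finset.mem_insert, Finset.mem_singleton, Prod.mk.injEq]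
          omega
    · refine ⟨M, ![-1, 0, 1], hM, by simp [Fin.sum_univ_three], ?_, ?_⟩
      · intro h
        have := congrFun h 0
        simp at this
      · intro s hs
        have hd := hdeg s hs
        rw [wtF, Fin.sum_univ_three]
        simp only [Matrix.cons_val_zero, Matrix.cons_val_one, Matrix.cons_val_two,
          Matrix.head_cons, Matrix.tail_cons]
        by_contra hlt
        have hs0 : s 2 < s 0 := by
          by_contra hge
          apply hlt
          push_cast
          omega
        apply hs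
        obtain ⟨i, hi⟩ : ∃ i, s 1 = i := ⟨_, rfl⟩
        obtain ⟨j, hj⟩ : ∃ j, s 2 = j := ⟨_, rfl⟩
        have h1 : i ≤ 3 := by omega
        have h2 : j ≤ 1 := by omega
        by_cases h30' : i = 3 ∧ j = 0
        · rw [hdecomp s, hi, hj, h30'.1, h30'.2]
          have e : s 0 = 1 := by omega
          rw [e]
          simpa using h30
        · apply h5' s i j hd hi hj
          simp only [Finset.mem_insert, Finset.mem_singleton, Prod.mk.injEq]
          omega


/-- Let k be an algebraically closed field of characteristic zero and let SL_3 act by substitution on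
ternary quartic forms, the point a having the form F = Σ_e (4; e) a_e x^e. Then a fails to be stable
(closed orbit and finite stabiliser) if and only if there is a matrix M of determinant 1 such that
the form F'(x) = F(Mx) = Σ b_ij x_0^(4−i−j) x_1^i x_2^j has b_00 = b_10 = b_01 = b_20 = b_11 = 0 and
in addition b_02 = 0 or b_30 = 0: in suitable coordinates the quartic curve has a triple point at
(1:0:0), or a tacnode there with tangent line x_2 = 0. -/
theorem result (k : Type u) [Field k] [IsAlgClosed k] [CharZero k]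
    (a : CoordGrp.FormIdx 3 4 → k) :
    ¬ @GLin.IsStableVec k _ (CoordGrp.SLn 3 k) _ _ (CoordGrp.FormIdx 3 4) (GLin.comodAlong ((CoordGrp.SLn.mkHom 3 k).comp (CoordGrp.Mat.toGLn 3 k)) (CoordGrp.formsCoact k 3 4))
      (GLin.isCoactAlg_comodAlong ((CoordGrp.SLn.mkHom 3 k).comp (CoordGrp.Mat.toGLn 3 k)) (CoordGrp.formsCoact k 3 4)
        (CoordGrp.formsCoact_isCoactAlg k 3 4))
      a ↔
      ∃ M : Matrix (Fin 3) (Fin 3) k, M.det = 1 ∧
        ∃ F' : MvPolynomial (Fin 3) k,
          F' = MvPolynomial.aeval (fun i : Fin 3 => ∑ j : Fin 3, MvPolynomial.C (M i j) * MvPolynomial.X j)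
              (CoordGrp.formPoly a) ∧
          (∀ ij : ℕ × ℕ, ij ∈ ({(0, 0), (1, 0), (0, 1), (2, 0), (1, 1)} : Finset (ℕ × ℕ)) →
            F'.coeff (Finsupp.single 0 (4 - ij.1 - ij.2) + Finsupp.single 1 ij.1 + Finsupp.single 2 ij.2) = 0) ∧
          (F'.coeff (Finsupp.single 0 2 + Finsupp.single 2 2) = 0 ∨
            F'.coeff (Finsupp.single 0 1 + Finsupp.single 1 3) = 0) := by
  exact Groth.Agent.S12551.aux k a

end Groth.Agent.S12551
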