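import Groth.Statements.S12552
import Groth.Agent.Lib.Rado38

set_option autoImplicit false
universe u
open GIT

namespace Groth.Agent.S12552

/-- Let V be a finite-dimensional vector space over a field K and x_0, …, x_m non-zero vectors, a
configuration of m + 1 points of P(V); a set S of dim V indices with (x_j)_(j ∈ S) linearly
independent is a determinant section non-zero at the configuration. Then the configuration is stable
(for every subspace L with 0 ≠ L ≠ V, the number of i with x_i ∈ L times dim V is less than dim L ·
(m + 1)) if and only if there are integers N ≥ N_0 > 0 such that for each index i some non-empty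
finite multiset of such sets S contains every index j ≠ i exactly N times and the index i exactly N
− N_0 times (a monomial in the determinant sections, non-zero at the configuration, of multidegree
(N, …, N − N_0, …, N) with the N − N_0 in place i). -/
theorem result (K : Type u) [Field K]
    (V : Type u) [AddCommGroup V] [Module K V] [FiniteDimensional K V]
    (m : ℕ) (x : Fin (m + 1) → V) (hx : ∀ i, x i ≠ 0) :
    (∀ L : Submodule K V, L ≠ ⊥ → L ≠ ⊤ →
        Set.ncard {i : Fin (m + 1) | x i ∈ L} * Module.finrank K V < Module.finrank K L * (m + 1)) ↔
      ∃ N N₀ : ℕ, 0 < N₀ ∧ N₀ ≤ N ∧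
        ∀ i : Fin (m + 1), ∃ P : Multiset (Finset (Fin (m + 1))), P ≠ 0 ∧
          (∀ S ∈ P, S.card = Module.finrank K V ∧ LinearIndependent K (fun j : S => x j)) ∧
          ∀ j : Fin (m + 1),
            Multiset.card (P.filter (fun S => j ∈ S)) = if j = i then N - N₀ else N := by
  classical
  have hnc : ∀ L : Submodule K V, Set.ncard {i : Fin (m + 1) | x i ∈ L} =
      (Finset.univ.filter (fun i => x i ∈ L)).card := by
    intro L
    rw [← Set.ncard_coe_finset]
    congr 1
    ext i
    simp
  constructor
  · intro hstab
    set r := Module.finrank K V with hr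
    have hr0 : 0 < r := Module.finrank_pos_iff_exists_ne_zero.mpr ⟨x 0, hx 0⟩
    have hrN : r ≤ 2 * r * r := by nlinarith
    refine ⟨2 * r * r, r, hr0, hrN, fun i => ?_⟩
    set N := 2 * r * r with hN
    set c : Fin (m + 1) → ℕ := fun j => if j = i then N - r else N with hc
    set t := 2 * r * (m + 1) - 1 with ht
    have ht1 : t + 1 = 2 * r * (m + 1) := by
      have : 0 < 2 * r * (m + 1) := by positivity
      omega
    have hsum : (∑ j, c j) + r = (m + 1) * N :=
      Groth.Agent.Lib.Rado38.sum_ite_eq_sub i N r hrN
    have htot : ∑ j, c j = r * t := by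
      have h1 : r * t + r = (m + 1) * N := by
        have : r * t + r = r * (t + 1) := by ring
        rw [this, ht1, hN]
        ring
      omega
    have hcN : ∀ j, c j ≤ N := by
      intro j
      simp only [hc]
      split_ifs
      · exact Nat.sub_le _ _
      · exact le_rfl
    have H : ∀ L : Submodule K V,
        ∑ j ∈ Finset.univ.filter (fun j => x j ∈ L), c j ≤ t * Module.finrank K L := by
      intro L
      by_cases hL0 : L = ⊥
      · subst hL0
        have : Finset.univ.filter (fun j => x j ∈ (⊥ : Submodule K V)) = ∅ := by
          rw [Finset.filter_eq_empty_iff]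
          intro j _ hj
          exact hx j ((Submodule.mem_bot K).mp hj)
        rw [this, Finset.sum_empty]
        exact Nat.zero_le _
      by_cases hL1 : L = ⊤
      · subst hL1
        rw [finrank_top, ← hr, mul_comm, ← htot]
        exact Finset.sum_le_sum_of_subset (Finset.subset_univ _)
      · have h1 := hstab L hL0 hL1
        rw [hnc L] at h1
        set J := Finset.univ.filter (fun j => x j ∈ L) with hJ
        set d := Module.finrank K L with hd
        have hdr : d ≤ r := Submodule.finrank_le L
        have h2 : ∑ j ∈ J, c j ≤ J.card * N := by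
          rw [← smul_eq_mul, ← Finset.sum_const]
          exact Finset.sum_le_sum (fun j _ => hcN j)
        have h3 : J.card * N = 2 * r * (J.card * r) := by
          rw [hN]
          ring
        have h4 : 2 * r * (J.card * r) + 2 * r ≤ 2 * r * (d * (m + 1)) := by
          have : 2 * r * (J.card * r) + 2 * r = 2 * r * (J.card * r + 1) := by ring
          rw [this]
          exact Nat.mul_le_mul_left _ h1
        have h5 : t * d + d = 2 * r * (d * (m + 1)) := by
          have : t * d + d = (t + 1) * d := by ring
          rw [this, ht1]
          ring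
        omega
    obtain ⟨P, hPc, hPS, hPj⟩ := Groth.Agent.Lib.Rado38.exists_cover K x c t htot H
    refine ⟨P, ?_, hPS, hPj⟩
    intro hP0
    rw [hP0, Multiset.card_zero] at hPc
    have h1 : 1 ≤ r * (m + 1) := Nat.mul_pos hr0 (Nat.succ_pos m)
    have h2 : 2 * r * (m + 1) = 2 * (r * (m + 1)) := by ring
    omega
  · rintro ⟨N, N₀, hN₀, hle, hP⟩ L hL0 hL1
    rw [hnc L]
    exact Groth.Agent.Lib.Rado38.stable_of_cover K x N N₀ hN₀ hle hP L hL0 hL1

end Groth.Agent.S12552
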