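import Groth.Statements.S12553
import Groth.Agent.Lib.IsMu38
import Groth.Agent.Lib.ComodDiag
import Mathlib.LinearAlgebra.Dual.Lemmas

set_option autoImplicit false
universe u
open TensorProduct LaurentPolynomial
open GIT

namespace Groth.Agent.S12553

section helpers

open Groth.Agent.Lib.Comod Groth.Agent.Lib.IsMu38

/-- The eigenvalue of a nonzero eigenvector of a comodule is group-like. -/
theorem isGroupLikeElem_of_coact_eq_tmul {k : Type*} [Field k] {A : Type*} [CommRing A] [Bialgebra k A]
    {V : Type*} [AddCommGroup V] [Module k V] [HopfRep.Comod k A V] {v : V} (hv : v ≠ 0) {a : A}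
    (h : HopfRep.Comod.coact (k := k) (A := A) v = v ⊗ₜ[k] a) : IsGroupLikeElem k a := by
  obtain ⟨φ, hφ⟩ : ∃ φ : Module.Dual k V, φ v ≠ 0 := by
    by_contra hc
    simp only [not_exists, not_not] at hc
    exact hv ((Module.forall_dual_apply_eq_zero_iff k v).1 hc)
  constructor
  · have h1 := LinearMap.congr_fun (HopfRep.Comod.counit_comp (k := k) (A := A) (V := V)) v
    simp only [LinearMap.coe_comp, Function.comp_apply, LinearMap.flip_apply,
      TensorProduct.mk_apply, h, LinearMap.lTensor_tmul] at h1
    have h2 := congrArg (TensorProduct.rid k V) h1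
    simp only [TensorProduct.rid_tmul, one_smul] at h2
    have h3 : (Coalgebra.counit (R := k) a - 1) • v = 0 := by rw [sub_smul, h2, one_smul, sub_self]
    rcases smul_eq_zero.1 h3 with h4 | h4
    · exact sub_eq_zero.1 h4
    · exact absurd h4 hv
  · have h1 := LinearMap.congr_fun (HopfRep.Comod.coassoc (k := k) (A := A) (V := V)) v
    simp only [LinearMap.coe_comp, LinearEquiv.coe_coe, Function.comp_apply, h,
      LinearMap.rTensor_tmul, TensorProduct.assoc_tmul, LinearMap.lTensor_tmul] at h1
    have h2 := congrArg (fun t => TensorProduct.lid k (A ⊗[k] A) (φ.rTensor (A ⊗[k] A) t)) h1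
    simp only [LinearMap.rTensor_tmul, TensorProduct.lid_tmul] at h2
    have h3 : φ v • (Coalgebra.comul (R := k) a - a ⊗ₜ[k] a) = 0 := by
      rw [smul_sub, ← h2, sub_self]
    rcases smul_eq_zero.1 h3 with h4 | h4
    · exact absurd h4 hφ
    · exact sub_eq_zero.1 h4

theorem span_coeff_eq_zero_iff {k : Type*} [Field k] (G : Set k[T;T⁻¹]) (n : ℤ) :
    (∀ f ∈ Submodule.span k G, f.coeff n = 0) ↔ ∀ f ∈ G, f.coeff n = 0 := by
  constructor
  · intro h f hf
    exact h f (Submodule.subset_span hf)
  · intro h f hf
    induction hf using Submodule.span_induction with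
    | mem x hx => exact h x hx
    | zero => rfl
    | add x y _ _ hx hy =>
      rw [AddMonoidAlgebra.coeff_add, Finsupp.add_apply, hx, hy, add_zero]
    | smul a x _ hx =>
      rw [AddMonoidAlgebra.coeff_smul, Finsupp.smul_apply, hx, smul_zero]

theorem coeff_smul_T {k : Type*} [Field k] (c : k) (j n : ℤ) :
    (c • (T j : k[T;T⁻¹])).coeff n = if j = n then c else 0 := by
  rw [AddMonoidAlgebra.coeff_smul, Finsupp.smul_apply, T, AddMonoidAlgebra.coeff_single,
    Finsupp.single_apply]
  split_ifs <;> simp

end helpers


/-- Let k be a field and T = Spec A a diagonalizable affine group (A a commutative Hopf algebra spanned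
by its group-like elements, e.g. a torus) acting linearly on affine ι-space. Then there are finitely
many characters χ_1, …, χ_N of T (group-like elements of A) such that every vector v ≠ 0 has a
non-empty set I of indices for which, for every one-parameter subgroup λ of T with λ(χ_j) = t^(e_j),
the numerical function μ(v, λ) (the m for which t^m · (v moved by λ(t)) tends to a non-zero vector)
equals the maximum of −e_j over j ∈ I: μ is the maximum of finitely many linear functionals on
one-parameter subgroups. (The published proposition concerns a maximal torus of a reductive group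
acting on a proper scheme with an ample linearised invertible sheaf; this row is the case of
projective space with the hyperplane bundle, for any diagonalizable group acting linearly, stated on
the affine cone.) -/
theorem result (k : Type u) [Field k]
    (A : Type u) [CommRing A] [HopfAlgebra k A] (hdiag : HopfRep.IsDiagonalizable k A)
    (ι : Type u) [Fintype ι] [HopfRep.Comod k A (MvPolynomial ι k)] [GLin.IsCoactAlg k A (MvPolynomial ι k)]
    (hlin : GLin.IsLinear k A ι) :
    ∃ (N : ℕ) (χ : Fin N → A), (∀ j, IsGroupLikeElem k (χ j)) ∧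
      ∀ v : ι → k, v ≠ 0 → ∃ I : Finset (Fin N), I.Nonempty ∧
        ∀ (lam : A →ₐc[k] k[T;T⁻¹]) (e : Fin N → ℤ), (∀ j, lam (χ j) = LaurentPolynomial.T (e j)) →
          ∀ m : ℤ, GLin.IsMu k A lam v m ↔ ((∀ j ∈ I, -e j ≤ m) ∧ ∃ j ∈ I, m = -e j) := by
  classical
  let c : HopfRep.Comod k A (MvPolynomial ι k) := inferInstance
  set ρ := HopfRep.Comod.coact (k := k) (A := A) (V := MvPolynomial ι k) with hρ
  let L : Submodule k (MvPolynomial ι k) :=
    Submodule.span k (Set.range (MvPolynomial.X : ι → MvPolynomial ι k))
  have hL : HopfRep.IsSubcomod (k := k) (A := A) L := by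
    apply Groth.Agent.Lib.Comod.isSubcomod_span
    rintro _ ⟨i, rfl⟩
    obtain ⟨m, hm⟩ := hlin i
    rw [hm]
    refine Submodule.sum_mem _ fun j _ => ?_
    exact ⟨(⟨MvPolynomial.X j, Submodule.subset_span ⟨j, rfl⟩⟩ : L) ⊗ₜ[k] m j, by simp⟩
  let E : Set (MvPolynomial ι k) := {ℓ | ℓ ∈ L ∧ ℓ ≠ 0 ∧ ∃ a : A, ρ ℓ = ℓ ⊗ₜ[k] a}
  have hEL : Submodule.span k E ≤ L := Submodule.span_le.2 fun ℓ hℓ => hℓ.1
  have hLE : L ≤ Submodule.span k E := by
    have h41 := Groth.Agent.Lib.Comod.span_eigenvectors_eq_top_of_span_groupLike hdiag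
      (ComodSub.Comod.restr c L hL)
    intro x hx
    have hx' : (⟨x, hx⟩ : L) ∈ Submodule.span k {y : L | ∃ a : A,
        (ComodSub.Comod.restr c L hL).coact y = y ⊗ₜ[k] a} := by rw [h41]; trivial
    have h2 := Submodule.apply_mem_span_image_of_mem_span L.subtype hx'
    rw [← Submodule.span_insert_zero]
    refine Submodule.span_mono ?_ h2
    rintro _ ⟨y, ⟨a, hy⟩, rfl⟩
    by_cases hy0 : (y : MvPolynomial ι k) = 0
    · exact Or.inl hy0
    · refine Or.inr ⟨y.2, hy0, a, ?_⟩
      have := ComodSub.restr_coact_coe c L hL y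
      rw [hy, LinearMap.rTensor_tmul] at this
      exact this.symm
  have hspanE : Submodule.span k E = L := le_antisymm hEL hLE
  have hfg : (Submodule.span k E).FG := by
    rw [hspanE]
    exact Submodule.fg_span (Set.finite_range _)
  obtain ⟨s, hsE, hs⟩ := (Submodule.fg_span_iff_fg_span_finset_subset E).1 hfg
  let en : Fin s.card ≃ s := s.equivFin.symm
  let ℓ : Fin s.card → MvPolynomial ι k := fun b => ((en b : s) : MvPolynomial ι k)
  have hℓ : ∀ b, ℓ b ∈ L ∧ ℓ b ≠ 0 ∧ ∃ a : A, ρ (ℓ b) = ℓ b ⊗ₜ[k] a := fun b => hsE (en b).2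
  choose hℓL hℓ0 χ hχ using hℓ
  have hrange : Set.range ℓ = (s : Set (MvPolynomial ι k)) := by
    ext x
    constructor
    · rintro ⟨b, rfl⟩; exact (en b).2
    · intro hx; exact ⟨en.symm ⟨x, hx⟩, by simp [ℓ]⟩
  have hspanℓ : Submodule.span k (Set.range ℓ) = L := by rw [hrange, ← hs, hspanE]
  refine ⟨s.card, χ, fun b => isGroupLikeElem_of_coact_eq_tmul (hℓ0 b) (hχ b), ?_⟩
  intro v hv
  let x : MvPolynomial ι k →ₐ[k] k := GLin.vecPt k ι v
  let I : Finset (Fin s.card) := Finset.univ.filter fun b => x (ℓ b) ≠ 0
  have hI : ∀ b, b ∈ I ↔ x (ℓ b) ≠ 0 := fun b => by simp [I]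
  refine ⟨I, ?_, ?_⟩
  · by_contra hne
    rw [Finset.not_nonempty_iff_eq_empty] at hne
    have h0 : ∀ b, x (ℓ b) = 0 := by
      intro b
      by_contra hb
      have : b ∈ I := (hI b).2 hb
      rw [hne] at this
      exact absurd this (Finset.notMem_empty b)
    have hLx : ∀ f ∈ L, x f = 0 := by
      intro f hf
      rw [← hspanℓ] at hf
      induction hf using Submodule.span_induction with
      | mem y hy => obtain ⟨b, rfl⟩ := hy; exact h0 b
      | zero => exact map_zero x
      | add y z _ _ hy hz => rw [map_add, hy, hz, add_zero]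
      | smul a y _ hy => rw [map_smul, hy, smul_zero]
    apply hv
    funext i
    have := hLx (MvPolynomial.X i) (Submodule.subset_span ⟨i, rfl⟩)
    simpa [x] using this
  · intro lam e he m
    rw [Groth.Agent.Lib.IsMu38.isMu_iff]
    set F : MvPolynomial ι k →ₐ[k] k[T;T⁻¹] := GLin.lamOrbit k A lam x with hF
    have hFℓ : ∀ b, F (ℓ b) = x (ℓ b) • (T (e b) : k[T;T⁻¹]) := by
      intro b
      have h1 : GLin.orbitHom k A x (ℓ b) = x (ℓ b) • χ b := by
        show (Algebra.TensorProduct.lid k A) ((Algebra.TensorProduct.map x (AlgHom.id k A))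
          (GLin.coactAlgHom k A (MvPolynomial ι k) (ℓ b))) = _
        rw [GLin.coactAlgHom_apply, hχ b]
        simp
      show lam (GLin.orbitHom k A x (ℓ b)) = _
      rw [h1, map_smul, he]
    have hM : Submodule.span k (Set.range (Groth.Agent.Lib.IsMu38.coord lam v)) =
        Submodule.span k (Set.range fun b => F (ℓ b)) := by
      have h1 : Submodule.span k (Set.range (Groth.Agent.Lib.IsMu38.coord lam v)) =
          L.map F.toLinearMap := by
        rw [Submodule.map_span, ← Set.range_comp]
        rfl
      have h2 : Submodule.span k (Set.range fun b => F (ℓ b)) = L.map F.toLinearMap := by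
        rw [← hspanℓ, Submodule.map_span, ← Set.range_comp]
        rfl
      rw [h1, h2]
    have key : ∀ n : ℤ, (∀ i, (Groth.Agent.Lib.IsMu38.coord lam v i).coeff n = 0) ↔
        ∀ b, (F (ℓ b)).coeff n = 0 := by
      intro n
      have e1 := span_coeff_eq_zero_iff (Set.range (Groth.Agent.Lib.IsMu38.coord lam v)) n
      have e2 := span_coeff_eq_zero_iff (Set.range fun b => F (ℓ b)) n
      rw [hM] at e1
      rw [Set.forall_mem_range] at e1 e2
      exact e1.symm.trans e2
    have keyb : ∀ (n : ℤ) b, (F (ℓ b)).coeff n = if e b = n then x (ℓ b) else 0 := by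
      intro n b
      rw [hFℓ b, coeff_smul_T]
    constructor
    · rintro ⟨h1, h2⟩
      refine ⟨fun b hb => ?_, ?_⟩
      · by_contra hlt
        have hlt' : e b < -m := by omega
        have := (key (e b)).1 (fun i => h1 i (e b) hlt') b
        rw [keyb, if_pos rfl] at this
        exact (hI b).1 hb this
      · by_contra hcon
        simp only [not_exists, not_and] at hcon
        apply not_forall.2 h2
        rw [key (-m)]
        intro b
        rw [keyb]
        split_ifs with hb
        · by_contra hxb
          exact hcon b ((hI b).2 hxb) (by omega)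
        · rfl
    · rintro ⟨h1, b, hb, hbm⟩
      refine ⟨fun i n hn => ?_, ?_⟩
      · have : ∀ b', (F (ℓ b')).coeff n = 0 := by
          intro b'
          rw [keyb]
          split_ifs with hb'
          · by_contra hxb
            have := h1 b' ((hI b').2 hxb)
            omega
          · rfl
        exact (key n).2 this i
      · by_contra hcon
        simp only [not_exists, not_not] at hcon
        have := (key (-m)).1 hcon b
        rw [keyb, if_pos (by omega)] at this
        exact (hI b).1 hb this

end Groth.Agent.S12553
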