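import Groth.Statements.S12580
import Groth.Agent.S10970
import Mathlib.RingTheory.LaurentSeries

set_option autoImplicit false
universe u v w
open FunFld

namespace Groth.Agent.S12580

theorem resExp_eq_zero_of_le_one {k : Type u} {K : Type v} {F : Type w} [Field k] [Field K] [Field F]
    [Algebra k K] [Algebra k F] (w : Valuation K (WithZero (Multiplicative ℤ)))
    (φ : K →ₐ[k] LaurentSeries F) (hφ : LocRes.IsExpansionAt w φ) (u v : K)
    (hu : w u ≤ 1) (hv : w v ≤ 1) : LocRes.resExp φ u v = 0 := by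
  have hu' : Valued.v (φ u) ≤ (1 : WithZero (Multiplicative ℤ)) := by rw [hφ.1]; exact hu
  have hv' : Valued.v (φ v) ≤ (1 : WithZero (Multiplicative ℤ)) := by rw [hφ.1]; exact hv
  obtain ⟨U, hU⟩ := (LaurentSeries.val_le_one_iff_eq_coe F (φ u)).1 hu'
  obtain ⟨V, hV⟩ := (LaurentSeries.val_le_one_iff_eq_coe F (φ v)).1 hv'
  unfold LocRes.resExp
  rw [← hU, ← hV, LocRes.D_coe, ← PowerSeries.coe_mul, LocRes.res_apply, PowerSeries.coeff_coe]
  simp

/-- conditional form: assuming finiteness of zeros and poles. -/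
theorem result_of_finite (k : Type u) (K : Type v) [Field k] [Field K] [Algebra k K]
    (hfin : ∀ x : K, (Function.support fun P : FunFld.Place k K => P.ord x).Finite)
    (F : FunFld.Place k K → Type w) [∀ P, Field (F P)] [∀ P, Algebra k (F P)]
    (φ : ∀ P, K →ₐ[k] LaurentSeries (F P)) (hφ : ∀ P, LocRes.IsExpansionAt P.1 (φ P)) :
    (∀ (P : FunFld.Place k K) (u v : K), P.1 u ≤ 1 → P.1 v ≤ 1 → LocRes.resExp (φ P) u v = 0) ∧
    ∀ (a : FunFld.Place k K → K), a ∈ FunFld.adele k K → ∀ v : K,
      {P : FunFld.Place k K | LocRes.resExp (φ P) (a P) v ≠ 0}.Finite := by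
  refine ⟨fun P u v hu hv => resExp_eq_zero_of_le_one P.1 (φ P) (hφ P) u v hu hv, ?_⟩
  intro a ha v
  have ha' : {P : FunFld.Place k K | ¬ P.1 (a P) ≤ 1}.Finite := ha
  refine (ha'.union (hfin v)).subset ?_
  intro P hP
  by_contra hcon
  simp only [Set.mem_union, Set.mem_ofPred_eq, Function.mem_support, not_or, not_not] at hcon
  apply hP
  refine resExp_eq_zero_of_le_one P.1 (φ P) (hφ P) _ _ hcon.1 ?_
  have h0 : P.ord v = 0 := hcon.2
  unfold FunFld.Place.ord at h0
  by_cases hv0 : P.1 v = 0
  · rw [hv0]; exact zero_le_one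
  · have : WithZero.log (P.1 v) = 0 := by simpa using h0
    have h1 : P.1 v = 1 := by
      have := WithZero.exp_log hv0
      rw [‹WithZero.log (P.1 v) = 0›] at this
      simpa using this.symm
    exact h1.le

/-- In a function field of one variable `K/k`, `Res_P(u dv) = 0` when `u, v ∈ O_P` (already before the
trace), and for a repartition `α` and `v ∈ K`, `Res_P(α_P dv) = 0` for almost all `P`; residues read
through Laurent expansions over `k` at every place. -/
theorem result (k : Type u) (K : Type v) [Field k] [Field K] [Algebra k K] (hK : FunFld.IsFunctionField k K)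
    (F : FunFld.Place k K → Type w) [∀ P, Field (F P)] [∀ P, Algebra k (F P)] [∀ P, FiniteDimensional k (F P)]
    (φ : ∀ P, K →ₐ[k] LaurentSeries (F P)) (hφ : ∀ P, LocRes.IsExpansionAt P.1 (φ P)) :
    (∀ (P : FunFld.Place k K) (u v : K), P.1 u ≤ 1 → P.1 v ≤ 1 → LocRes.resExp (φ P) u v = 0) ∧
    ∀ (a : FunFld.Place k K → K), a ∈ FunFld.adele k K → ∀ v : K,
      {P : FunFld.Place k K | LocRes.resExp (φ P) (a P) v ≠ 0}.Finite :=
  result_of_finite k K (fun x => Groth.Agent.S10970.result k K hK x) F φ hφ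

end Groth.Agent.S12580
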