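import Groth.Statements.S12612
import Mathlib
set_option autoImplicit false
open FunFld

namespace Groth.Agent.S12612

open MvPolynomial

/-- chain rule for a derivation applied to a polynomial expression -/
theorem deriv_aeval {k R M σ : Type*} [CommRing k] [CommRing R] [Algebra k R] [AddCommGroup M]
    [Module k M] [Module R M] [IsScalarTower k R M] [Fintype σ]
    (δ : Derivation k R M) (v : σ → R) (f : MvPolynomial σ k) :
    δ (aeval v f) = ∑ i, aeval v (pderiv i f) • δ (v i) := by
  classical
  induction f using MvPolynomial.induction_on with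
  | C a => simp
  | add p q hp hq => simp [hp, hq, add_smul, Finset.sum_add_distrib]
  | mul_X p j hp =>
    have key : ∀ i, aeval v (pderiv i (p * X j))
        = aeval v (pderiv i p) * v j + aeval v p * (if j = i then 1 else 0) := by
      intro i
      rw [pderiv_mul, map_add, map_mul, map_mul, aeval_X, pderiv_X]
      congr 2
      by_cases h : j = i
      · subst h; simp
      · rw [if_neg h, Pi.single_eq_of_ne h, map_zero]
    rw [map_mul, aeval_X, Derivation.leibniz, hp]
    simp_rw [key, add_smul, Finset.sum_add_distrib]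
    rw [add_comm]
    congr 1
    · rw [Finset.smul_sum]
      refine Finset.sum_congr rfl fun i _ => ?_
      rw [smul_smul, mul_comm]
    · rw [Finset.sum_eq_single j]
      · simp
      · intro b _ hb
        simp [hb.symm]
      · simp

theorem aeval_smul_homog {k K : Type*} [Field k] [Field K] [Algebra k K] {σ : Type*}
    (g : MvPolynomial σ k) (d : ℕ) (hg : g.IsHomogeneous d) (c : K) (x : σ → K) :
    MvPolynomial.aeval (fun i => c * x i) g = c ^ d * MvPolynomial.aeval x g := by
  rw [MvPolynomial.aeval_def, MvPolynomial.aeval_def, MvPolynomial.eval₂_eq, MvPolynomial.eval₂_eq,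
    Finset.mul_sum]
  refine Finset.sum_congr rfl ?_
  intro m hm
  have hdeg : m.degree = d := by
    by_contra hne
    exact (MvPolynomial.mem_support_iff.1 hm) (hg.coeff_eq_zero hne)
  have : ∏ i ∈ m.support, (c * x i) ^ m i = c ^ d * ∏ i ∈ m.support, x i ^ m i := by
    simp_rw [mul_pow]
    rw [Finset.prod_mul_distrib, Finset.prod_pow_eq_pow_sum]
    congr 2
  rw [this]
  ring



/-- For a plane curve given by a homogeneous `f` of degree `e` with `f(1, x, y) = 0` and a change of
projective coordinates `X = AX'` (`A` invertible over `k`), with new affine coordinates `x' =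
u₁/u₀`, `y' = u₂/u₀`, `z = 1/u₀ = X₀/X₀'` where `u = A⁻¹(1, x, y)ᵗ`, and `f'(X') = f(AX')`, the
differentials satisfy `dx/f̂_y = det(A) z^(e-3) dx'/f̂'_{y'}`, where `f̂_y = (∂f/∂X₂)(1, x, y)` and
`f̂'_{y'} = (∂f'/∂X₂')(1, x', y')` are assumed nonzero. (Stated for any field `K` over `k`
containing such `x`, `y`; the published setting is a plane model of a function field over an
algebraically closed field, and the computation uses only the relation `f(1, x, y) = 0`.) -/
theorem result
    (k K : Type*) [Field k] [Field K] [Algebra k K]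
    (f : MvPolynomial (Fin 3) k) (e : ℕ) (hf : f.IsHomogeneous e)
    (x y : K) (hfxy : MvPolynomial.aeval ![(1 : K), x, y] f = 0)
    (A : Matrix (Fin 3) (Fin 3) k) (hA : A.det ≠ 0)
    (u : Fin 3 → K) (hu : ∀ i, ∑ j, algebraMap k K (A i j) * u j = ![(1 : K), x, y] i)
    (hu0 : u 0 ≠ 0)
    (hfy : MvPolynomial.aeval ![(1 : K), x, y] (MvPolynomial.pderiv 2 f) ≠ 0)
    (hfy' : MvPolynomial.aeval ![(1 : K), u 1 / u 0, u 2 / u 0]
      (MvPolynomial.pderiv 2
        (MvPolynomial.aeval (fun i : Fin 3 => ∑ j, MvPolynomial.C (A i j) * MvPolynomial.X j) f)) ≠ 0) :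
    (MvPolynomial.aeval ![(1 : K), x, y] (MvPolynomial.pderiv 2 f))⁻¹ • KaehlerDifferential.D k K x =
      (algebraMap k K A.det * (u 0)⁻¹ ^ ((e : ℤ) - 3) *
        (MvPolynomial.aeval ![(1 : K), u 1 / u 0, u 2 / u 0]
          (MvPolynomial.pderiv 2
            (MvPolynomial.aeval (fun i : Fin 3 => ∑ j, MvPolynomial.C (A i j) * MvPolynomial.X j) f)))⁻¹) •
        KaehlerDifferential.D k K (u 1 / u 0) := by
  classical
  set P : Fin 3 → K := ![(1 : K), x, y] with hP
  set L : Fin 3 → MvPolynomial (Fin 3) k :=
    fun i => ∑ j, MvPolynomial.C (A i j) * MvPolynomial.X j with hL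
  set z : K := (u 0)⁻¹ with hz
  set P' : Fin 3 → K := ![(1 : K), u 1 / u 0, u 2 / u 0] with hP'
  set g : Fin 3 → K := fun i => MvPolynomial.aeval P (MvPolynomial.pderiv i f) with hg
  have hg2 : g 2 ≠ 0 := hfy
  -- `e ≥ 1`
  have he : 1 ≤ e := by
    by_contra h
    have h0 : e = 0 := by omega
    subst h0
    rw [← totalDegree_zero_iff_isHomogeneous, totalDegree_eq_zero_iff_eq_C] at hf
    apply hfy
    rw [hf, pderiv_C, map_zero]
  -- Euler
  have hE : g 0 + x * g 1 + y * g 2 = 0 := by
    have h := congrArg (MvPolynomial.aeval P) hf.sum_X_mul_pderiv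
    rw [map_sum, map_nsmul, hfxy, nsmul_zero, Fin.sum_univ_three] at h
    simpa [hP, hg] using h
  -- differentiate `f(1,x,y) = 0`
  have hR1 : g 1 • KaehlerDifferential.D k K x + g 2 • KaehlerDifferential.D k K y = 0 := by
    have h := deriv_aeval (KaehlerDifferential.D k K) P f
    rw [hfxy, map_zero, Fin.sum_univ_three] at h
    simpa [hP, hg] using h.symm
  -- chain rule for `f' = f ∘ A`
  have hchain : MvPolynomial.pderiv 2 (MvPolynomial.aeval L f)
      = ∑ i, MvPolynomial.aeval L (MvPolynomial.pderiv i f) * MvPolynomial.C (A i 2) := by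
    have h := deriv_aeval (MvPolynomial.pderiv (2 : Fin 3) :
      Derivation k (MvPolynomial (Fin 3) k) (MvPolynomial (Fin 3) k)) L f
    rw [h]
    refine Finset.sum_congr rfl fun i _ => ?_
    rw [smul_eq_mul]
    congr 1
    simp only [hL, Fin.sum_univ_three]
    rw [map_add, map_add, pderiv_C_mul, pderiv_C_mul, pderiv_C_mul,
      pderiv_X_of_ne (show (0 : Fin 3) ≠ 2 by decide),
      pderiv_X_of_ne (show (1 : Fin 3) ≠ 2 by decide), pderiv_X_self]
    simp
  have hPL : ∀ l, MvPolynomial.aeval P' (L l) = z * P l := by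
    intro l
    simp only [hL, map_sum, map_mul, aeval_C, aeval_X]
    rw [← hu l, Finset.mul_sum]
    refine Finset.sum_congr rfl fun j _ => ?_
    have : P' j = z * u j := by
      fin_cases j <;> simp [hP', hz, div_eq_inv_mul, hu0]
    rw [this]; ring
  set S : K := ∑ i, g i * algebraMap k K (A i 2) with hS
  have hg' : MvPolynomial.aeval P' (MvPolynomial.pderiv 2 (MvPolynomial.aeval L f))
      = z ^ (e - 1) * S := by
    rw [hchain, map_sum, hS, Finset.mul_sum]
    refine Finset.sum_congr rfl fun i _ => ?_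
    rw [map_mul, aeval_C, ← AlgHom.comp_apply, comp_aeval]
    simp_rw [hPL]
    rw [aeval_smul_homog _ (e - 1) hf.pderiv z P]
    ring
  have hz0 : z ≠ 0 := inv_ne_zero hu0
  have hS0 : S ≠ 0 := by
    intro h0
    apply hfy'
    rw [hg', h0, mul_zero]
  -- differentials of `u`
  have hD : ∀ i, ∑ j, algebraMap k K (A i j) • KaehlerDifferential.D k K (u j)
      = KaehlerDifferential.D k K (P i) := by
    intro i
    rw [← hu i, map_sum]
    refine Finset.sum_congr rfl fun j _ => ?_
    rw [Derivation.leibniz, Derivation.map_algebraMap, smul_zero, add_zero]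
  have hD0 := hD 0
  have hD1 := hD 1
  have hD2 := hD 2
  have hu0' := hu 0
  have hu1' := hu 1
  have hu2' := hu 2
  simp only [Fin.sum_univ_three, hP, Matrix.cons_val_zero, Matrix.cons_val_one,
    Matrix.cons_val_two, Matrix.head_cons, Matrix.tail_cons, Derivation.map_one_eq_zero]
    at hD0 hD1 hD2 hu0' hu1' hu2'
  have hdet : algebraMap k K A.det
      = algebraMap k K (A 0 0) * algebraMap k K (A 1 1) * algebraMap k K (A 2 2)
        - algebraMap k K (A 0 0) * algebraMap k K (A 1 2) * algebraMap k K (A 2 1)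
        - algebraMap k K (A 0 1) * algebraMap k K (A 1 0) * algebraMap k K (A 2 2)
        + algebraMap k K (A 0 1) * algebraMap k K (A 1 2) * algebraMap k K (A 2 0)
        + algebraMap k K (A 0 2) * algebraMap k K (A 1 0) * algebraMap k K (A 2 1)
        - algebraMap k K (A 0 2) * algebraMap k K (A 1 1) * algebraMap k K (A 2 0) := by
    rw [Matrix.det_fin_three]
    simp only [map_sub, map_add, map_mul]
  have hS' : S = g 0 * algebraMap k K (A 0 2) + g 1 * algebraMap k K (A 1 2)
      + g 2 * algebraMap k K (A 2 2) := by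
    rw [hS, Fin.sum_univ_three]
  -- the key identity
  have key : S • KaehlerDifferential.D k K x = (algebraMap k K A.det * g 2) •
      (u 0 • KaehlerDifferential.D k K (u 1) - u 1 • KaehlerDifferential.D k K (u 0)) := by
    rw [hS', hdet]
    generalize algebraMap k K (A 0 0) = a00 at *
    generalize algebraMap k K (A 0 1) = a01 at *
    generalize algebraMap k K (A 0 2) = a02 at *
    generalize algebraMap k K (A 1 0) = a10 at *
    generalize algebraMap k K (A 1 1) = a11 at *
    generalize algebraMap k K (A 1 2) = a12 at *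
    generalize algebraMap k K (A 2 0) = a20 at *
    generalize algebraMap k K (A 2 1) = a21 at *
    generalize algebraMap k K (A 2 2) = a22 at *
    generalize KaehlerDifferential.D k K (u 0) = du0 at *
    generalize KaehlerDifferential.D k K (u 1) = du1 at *
    generalize KaehlerDifferential.D k K (u 2) = du2 at *
    generalize KaehlerDifferential.D k K x = dx at *
    generalize KaehlerDifferential.D k K y = dy at *
    generalize g 0 = g0 at *
    generalize g 1 = g1 at *
    generalize g 2 = g2 at *
    generalize u 0 = u0 at *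
    generalize u 1 = u1 at *
    generalize u 2 = u2 at *
    have stepc : (g0 * a02 + g1 * a12 + g2 * a22) • dx
        = g2 • (a02 • (x • dy - y • dx) - a12 • dy + a22 • dx) := by
      linear_combination (norm := module) hE • (a02 • dx) - (a02 * x) • hR1 + a12 • hR1
    have stepb : a02 • (x • dy - y • dx) - a12 • dy + a22 • dx
        = (a00 * a11 * a22 - a00 * a12 * a21 - a01 * a10 * a22 + a01 * a12 * a20
            + a02 * a10 * a21 - a02 * a11 * a20) • (u0 • du1 - u1 • du0) := by
      rw [← hu1', ← hu2', ← hD1, ← hD2]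
      linear_combination (norm := module)
        hu0' • (-(a22 • (a10 • du0 + a11 • du1 + a12 • du2)
          - a12 • (a20 • du0 + a21 • du1 + a22 • du2)))
        - (a12 * (a20 * u0 + a21 * u1 + a22 * u2) - a22 * (a10 * u0 + a11 * u1 + a12 * u2)) • hD0
    rw [stepc, stepb, smul_smul, mul_comm]
  -- the differential of `u₁/u₀`
  have hDq : KaehlerDifferential.D k K (u 1 / u 0)
      = z • (KaehlerDifferential.D k K (u 1) - (u 1 * z) • KaehlerDifferential.D k K (u 0)) := by
    have h : KaehlerDifferential.D k K (u 1) = KaehlerDifferential.D k K (u 1 / u 0 * u 0) := by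
      rw [div_mul_cancel₀ _ hu0]
    rw [Derivation.leibniz] at h
    have h1 : u 0 • KaehlerDifferential.D k K (u 1 / u 0)
        = KaehlerDifferential.D k K (u 1) - (u 1 * z) • KaehlerDifferential.D k K (u 0) := by
      rw [h, hz, div_eq_mul_inv]
      abel
    rw [← h1, smul_smul, hz, inv_mul_cancel₀ hu0, one_smul]
  have hzpow : z ^ ((e : ℤ) - 3) * (z ^ (e - 1))⁻¹ = u 0 ^ 2 := by
    obtain ⟨e', rfl⟩ : ∃ e', e = e' + 1 := ⟨e - 1, by omega⟩
    rw [Nat.add_sub_cancel, show ((e' + 1 : ℕ) : ℤ) - 3 = (e' : ℤ) + (-2) by push_cast; ring,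
      zpow_add₀ hz0, zpow_natCast]
    have h2 : z ^ (-2 : ℤ) = u 0 ^ 2 := by
      rw [hz, inv_zpow', neg_neg]
      norm_cast
    rw [h2]
    have : z ^ e' ≠ 0 := pow_ne_zero _ hz0
    field_simp
  have hdx : KaehlerDifferential.D k K x = (S⁻¹ * (algebraMap k K A.det * g 2)) •
      (u 0 • KaehlerDifferential.D k K (u 1) - u 1 • KaehlerDifferential.D k K (u 0)) := by
    rw [mul_smul, ← key, smul_smul, inv_mul_cancel₀ hS0, one_smul]
  change (g 2)⁻¹ • KaehlerDifferential.D k K x = _
  rw [hdx, hDq, hg', smul_smul, smul_smul, mul_inv, 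
    show algebraMap k K A.det * z ^ ((e : ℤ) - 3) * ((z ^ (e - 1))⁻¹ * S⁻¹) * z
      = algebraMap k K A.det * (z ^ ((e : ℤ) - 3) * (z ^ (e - 1))⁻¹) * S⁻¹ * z by ring, hzpow]
  have hzu : z * u 0 = 1 := inv_mul_cancel₀ hu0
  match_scalars
  · rw [hz]; field_simp
  · rw [hz]; field_simp

end Groth.Agent.S12612
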