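import Groth.Statements.S12620

set_option autoImplicit false
universe u v w
open LocRes

namespace Groth.Agent.S12620

section Helpers

open HahnSeries

/-- The `X`-adic valuation of a nonzero Laurent series is `exp (-order)`. -/
theorem log_valuation_eq (F : Type w) [Field F] (g : LaurentSeries F) (hg : g ≠ 0) :
    WithZero.log (Valued.v g : WithZero (Multiplicative ℤ)) = -g.order := by
  have hv : (Valued.v g : WithZero (Multiplicative ℤ)) ≠ 0 := (Valuation.ne_zero_iff _).mpr hg
  have h1 : (Valued.v g : WithZero (Multiplicative ℤ)) ≤ WithZero.exp (-g.order) := by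
    rw [LaurentSeries.valuation_le_iff_coeff_lt_eq_zero]
    intro n hn
    exact coeff_eq_zero_of_lt_order hn
  have h2 : ¬ (Valued.v g : WithZero (Multiplicative ℤ)) ≤ WithZero.exp (-(g.order + 1)) := by
    rw [LaurentSeries.valuation_le_iff_coeff_lt_eq_zero]
    intro h
    exact hg (coeff_order_eq_zero.mp (h g.order (by omega)))
  rw [← WithZero.exp_log hv, WithZero.exp_le_exp] at h1 h2
  omega

/-- Logarithmic derivative of a nonzero Laurent series has residue its order. -/
theorem res_inv_mul_D (F : Type w) [Field F] (g : LaurentSeries F) (hg : g ≠ 0) :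
    LocRes.res F (g⁻¹ * LocRes.D F g) = ((g.order : ℤ) : F) := by
  set m := g.order with hm
  set P := g.powerSeriesPart with hP
  have hgP : (single m 1 : LaurentSeries F) * (P : LaurentSeries F) = g :=
    g.single_order_mul_powerSeriesPart
  have hc : PowerSeries.constantCoeff P ≠ 0 := by
    rw [← PowerSeries.coeff_zero_eq_constantCoeff_apply, hP, LaurentSeries.powerSeriesPart_coeff]
    simp only [Nat.cast_zero, add_zero]
    exact fun h => hg (coeff_order_eq_zero.mp h)
  have key : g⁻¹ * LocRes.D F g =
      single (-1) ((m : ℤ) : F) + ((P⁻¹ * PowerSeries.derivative F P : PowerSeries F) :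
        LaurentSeries F) := by
    rw [inv_mul_eq_iff_eq_mul₀ hg]
    conv_lhs => rw [← hgP]
    rw [LocRes.D_apply, LocRes.derivative_single_mul, ← LocRes.D_apply, LocRes.D_coe]
    conv_rhs => rw [← hgP]
    rw [mul_add, PowerSeries.coe_mul]
    have h1 : (single m 1 : LaurentSeries F) * (P : LaurentSeries F) *
        ((P⁻¹ : PowerSeries F) : LaurentSeries F) = single m 1 := by
      rw [mul_assoc, ← PowerSeries.coe_mul, PowerSeries.mul_inv_cancel P hc, PowerSeries.coe_one,
        mul_one]
    have h2 : (single m 1 : LaurentSeries F) * (P : LaurentSeries F) * single (-1) ((m : ℤ) : F) =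
        single (m - 1) (m • (1 : F)) * (P : LaurentSeries F) := by
      rw [mul_right_comm, single_mul_single]
      congr 2
      · ring
    rw [h2, ← mul_assoc, h1]
    ring
  rw [key, map_add, LocRes.res_apply, LocRes.res_apply, PowerSeries.coeff_coe]
  simp

end Helpers

/-- Let `K` be a field with a valuation `w` into `ℤ ∪ {0}` and `φ : K → F((X))` a `k`-algebra expansion
at `w` in a local parameter (valuation-compatible, valuation ring onto the coefficient field `F`,
`w` normalised). Then for every nonzero `f` the residue of the logarithmic differential `f⁻¹ df`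
read through `φ` — the `X⁻¹`-coefficient of `φ(f)⁻¹ · (φ f)′` — is the order of `f` at `w` (the
integer `n` with `w f = exp (-n)`), viewed in `F`. (The published statement is for a complete field
with a perfect coefficient field and its intrinsic residue; read through an expansion neither
completeness nor perfectness plays a role.) -/
theorem result {k : Type u} {K : Type v} {F : Type w} [CommRing k] [Field K] [Field F]
    [Algebra k K] [Algebra k F]
    (w : Valuation K (WithZero (Multiplicative ℤ))) (φ : K →ₐ[k] LaurentSeries F)
    (hφ : LocRes.IsExpansionAt w φ) (f : K) (hf : f ≠ 0) :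
    LocRes.resExp φ f⁻¹ f = ((-WithZero.log (w f) : ℤ) : F) := by
  have hg : φ f ≠ 0 := (map_ne_zero φ).mpr hf
  unfold LocRes.resExp
  rw [map_inv₀, res_inv_mul_D F (φ f) hg, ← hφ.1 f, log_valuation_eq F (φ f) hg, neg_neg]

end Groth.Agent.S12620
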