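import Groth.Statements.S12621
import Mathlib

set_option autoImplicit false
universe u v w
open LocRes

namespace Groth.Agent.S12621
set_option linter.style.haveILetI false

open LaurentSeries HahnSeries

section Helpers

/-- coefficientwise map of Laurent series along a ring hom, as a ring hom -/
noncomputable def mapL {A B : Type*} [CommRing A] [CommRing B] (π : A →+* B) : A⸨X⸩ →+* B⸨X⸩ where
  toFun x := x.map π
  map_one' := by
    show (1 : A⸨X⸩).map π = 1
    ext k
    rw [HahnSeries.map_coeff, HahnSeries.coeff_one, HahnSeries.coeff_one]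
    split_ifs <;> simp
  map_mul' x y := HahnSeries.map_mul (π : A →ₙ+* B)
  map_zero' := HahnSeries.map_zero (π : ZeroHom A B)
  map_add' x y := HahnSeries.map_add (π : A →+ B)

lemma mapL_coeff {A B : Type*} [CommRing A] [CommRing B] (π : A →+* B) (x : A⸨X⸩) (k : ℤ) :
    (mapL π x).coeff k = π (x.coeff k) := rfl

lemma mapL_D {A B : Type*} [CommRing A] [CommRing B] (π : A →+* B) (x : A⸨X⸩) :
    mapL π (D A x) = D B (mapL π x) := by
  ext k
  rw [mapL_coeff, D_coeff, D_coeff, mapL_coeff, map_zsmul]

lemma res_D {A : Type*} [CommRing A] (x : A⸨X⸩) : res A (D A x) = 0 := by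
  rw [res_apply, D_coeff]
  simp

lemma key_nat {F : Type*} [Field F] (g : F⸨X⸩) (n : ℕ) (hn : n ≠ 0) :
    res F (g ^ (n - 1) * D F g) = 0 := by
  classical
  let Z := MvPolynomial F ℤ
  let π : Z →+* F := MvPolynomial.eval₂Hom (Int.castRingHom F) id
  let σ : ZeroHom F Z := ⟨fun x => if x = 0 then 0 else MvPolynomial.X x, by simp⟩
  have hπσ : ∀ x, π (σ x) = x := by
    intro x
    show π (if x = 0 then 0 else MvPolynomial.X x) = x
    split_ifs with h
    · rw [map_zero, h]
    · show MvPolynomial.eval₂ (Int.castRingHom F) id (MvPolynomial.X x) = x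
      rw [MvPolynomial.eval₂_X]; rfl
  let G : Z⸨X⸩ := g.map σ
  have hG : mapL π G = g := by
    ext k
    rw [mapL_coeff]
    show π (σ (g.coeff k)) = g.coeff k
    exact hπσ _
  have h1 : (n : ℤ) • res Z (G ^ (n - 1) * D Z G) = 0 := by
    have := res_D (A := Z) (G ^ n)
    rw [Derivation.leibniz_pow, smul_eq_mul, map_nsmul] at this
    rw [natCast_zsmul]
    exact this
  have h2 : res Z (G ^ (n - 1) * D Z G) = 0 := by
    rcases smul_eq_zero.mp h1 with h | h
    · exact absurd (by exact_mod_cast h) hn
    · exact h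
  have h3 : res F (mapL π (G ^ (n - 1) * D Z G)) = π (res Z (G ^ (n - 1) * D Z G)) := rfl
  rw [map_mul, map_pow, mapL_D, hG, h2, map_zero] at h3
  exact h3

lemma key_int {F : Type*} [Field F] (g : F⸨X⸩) (n : ℤ) (hn : n ≠ 0) :
    res F (g ^ (n - 1) * D F g) = 0 := by
  by_cases hg : g = 0
  · subst hg
    rw [map_zero, mul_zero, map_zero]
  rcases lt_or_gt_of_ne hn with hneg | hpos
  · -- negative exponent: pass to the inverse
    obtain ⟨m, rfl⟩ : ∃ m : ℕ, n = -(m : ℤ) := ⟨n.natAbs, by omega⟩
    have hm : m ≠ 0 := by rintro rfl; simp at hn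
    have key := key_nat g⁻¹ m hm
    have e : g ^ (-(m : ℤ) - 1) * D F g = -(g⁻¹ ^ (m - 1) * D F g⁻¹) := by
      rw [Derivation.leibniz_inv, smul_eq_mul]
      have h1 : g ^ (-(m : ℤ) - 1) = g⁻¹ ^ (m - 1) * g⁻¹ ^ 2 := by
        rw [← _root_.pow_add, show (-(m : ℤ) - 1) = -((m - 1 + 2 : ℕ) : ℤ) by omega, zpow_neg,
          zpow_natCast, inv_pow]
      rw [h1]
      ring
    rw [e, map_neg, key, neg_zero]
  · obtain ⟨m, rfl⟩ : ∃ m : ℕ, n = (m : ℤ) := ⟨n.natAbs, by omega⟩
    have hm : m ≠ 0 := by rintro rfl; simp at hn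
    have key := key_nat g m hm
    have e : g ^ ((m : ℤ) - 1) = g ^ (m - 1) := by
      rw [show ((m : ℤ) - 1) = ((m - 1 : ℕ) : ℤ) by omega, zpow_natCast]
    rw [e]
    exact key

end Helpers


/-- For a `k`-algebra homomorphism `φ : K → F((X))` from a field into formal Laurent series over a
field, an element `f` of `K` and a nonzero integer `n`, the residue of `f^(n-1) df` read through `φ`
— the `X⁻¹`-coefficient of `φ(f)^(n-1) · (φ f)′` — vanishes, in every characteristic (also when the
characteristic divides `n`). (The published statement is for the intrinsic residue of a complete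
field with a perfect coefficient field; read through an expansion it is this identity of Laurent
series, and no property of `φ` is needed.) -/
theorem result {k : Type u} {K : Type v} {F : Type w} [CommRing k] [Field K] [Field F]
    [Algebra k K] [Algebra k F]
    (φ : K →ₐ[k] LaurentSeries F) (f : K) (n : ℤ) (hn : n ≠ 0) :
    LocRes.resExp φ (f ^ (n - 1)) f = 0 := by
  unfold LocRes.resExp
  rw [map_zpow₀]
  exact key_int (φ f) n hn

end Groth.Agent.S12621
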