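import Groth.Statements.S1267
import Groth.Agent.Lib.FlatQcOpen88

set_option autoImplicit false
universe u
open FlatMor

namespace Groth.Agent.S1267

/-- Let A be a local ring, I an ideal, U a quasi-compact open subset of Spec A and M an A-module such
that M/IM is flat over A/I and M_p is flat over A for all p in U. Let I₂ be the kernel of I → Γ(U,
I/I²), that is the set of x ∈ I such that for every p ∈ U some s outside p has s·x ∈ I². Then M/I₂M
is flat over A/I₂. -/
theorem result {A : Type u} [CommRing A] [IsLocalRing A] (I : Ideal A)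
    (U : Set (PrimeSpectrum A)) (hU : IsOpen U) (hUc : IsCompact U)
    (M : Type u) [AddCommGroup M] [Module A M]
    [Module.Flat (A ⧸ I) (M ⧸ (I • ⊤ : Submodule A M))]
    (hflat : ∀ p ∈ U, Module.Flat A (LocalizedModule p.asIdeal.primeCompl M))
    (I₂ : Ideal A) (hI₂ : ∀ x : A, x ∈ I₂ ↔ x ∈ I ∧ ∀ p ∈ U, ∃ s : A, s ∉ p.asIdeal ∧ s * x ∈ I ^ 2) :
    Module.Flat (A ⧸ I₂) (M ⧸ (I₂ • ⊤ : Submodule A M)) := by
  have hI : Module.Flat (A ⧸ I) (TensorProduct A (A ⧸ I) M) :=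
    Module.Flat.of_linearEquiv
      ((TensorProduct.quotTensorEquivQuotSMul M I).extendScalarsOfSurjective
        Ideal.Quotient.mk_surjective)
  obtain ⟨t, ht⟩ := PrimeSpectrum.isCompact_isOpen_iff.mp ⟨hUc, hU⟩
  have hmemU : ∀ p : PrimeSpectrum A, p ∈ U ↔ ∃ g ∈ t, g ∉ p.asIdeal := by
    intro p
    rw [← ht, Set.mem_compl_iff, PrimeSpectrum.mem_zeroLocus, Set.not_subset]
    simp
  have hflat' : ∀ p : Ideal A, ∀ _ : p.IsPrime, (∃ g ∈ t, g ∉ p) →
      Module.Flat A (TensorProduct A (Localization p.primeCompl) M) := by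
    intro p hp hg
    have := hflat ⟨p, hp⟩ ((hmemU ⟨p, hp⟩).mpr hg)
    exact Module.Flat.of_linearEquiv
      ((IsLocalizedModule.isBaseChange p.primeCompl (Localization p.primeCompl)
        (LocalizedModule.mkLinearMap p.primeCompl M)).equiv.restrictScalars A)
  have hI₂' : ∀ x, x ∈ I₂ ↔ x ∈ I ∧ ∀ g ∈ t, ∃ k : ℕ, g ^ k * x ∈ I ^ 2 := by
    intro x
    rw [hI₂]
    refine and_congr Iff.rfl ⟨fun h g hg => ?_, fun h p hp => ?_⟩
    · let J : Ideal A := LinearMap.ker ((I ^ 2).mkQ ∘ₗ LinearMap.toSpanSingleton A A x)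
      have hJ : ∀ s : A, s ∈ J ↔ s * x ∈ I ^ 2 := fun s => by
        rw [LinearMap.mem_ker, LinearMap.comp_apply, LinearMap.toSpanSingleton_apply,
          Submodule.mkQ_apply, Submodule.Quotient.mk_eq_zero, smul_eq_mul]
      have hgJ : g ∈ J.radical := by
        rw [Ideal.radical_eq_sInf, Ideal.mem_sInf]
        rintro p ⟨hJp, hp⟩
        by_contra hgp
        obtain ⟨s, hs, hsx⟩ := h ⟨p, hp⟩ ((hmemU ⟨p, hp⟩).mpr ⟨g, hg, hgp⟩)
        exact hs (hJp ((hJ s).mpr hsx))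
      obtain ⟨k, hk⟩ := hgJ
      exact ⟨k, (hJ _).mp hk⟩
    · obtain ⟨g, hg, hgp⟩ := (hmemU p).mp hp
      obtain ⟨k, hk⟩ := h g hg
      exact ⟨g ^ k, fun hmem => hgp (p.isPrime.mem_of_pow_mem k hmem), hk⟩
  have key := Groth.Agent.Lib.FlatQcOpen88.flat_quotient_of_flat_on_basicOpens M I t hflat' I₂ hI₂'
  exact Module.Flat.of_linearEquiv
    ((TensorProduct.quotTensorEquivQuotSMul M I₂).extendScalarsOfSurjective
      Ideal.Quotient.mk_surjective).symm

end Groth.Agent.S1267
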