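import Groth.Statements.S12691
import Groth.Agent.Lib.H60ProjQTwist2
import Groth.Agent.Lib.H60RelTwistExists
import Groth.Agent.Lib.H60LineSym
import Groth.Agent.Lib.RelTwistInv
import Groth.Agent.Lib.RelTwistEpi
import Groth.Agent.Lib.RelTildeFT
import Groth.Agent.S12143
import Groth.Agent.S12472
import Groth.Agent.S12485

set_option autoImplicit false
universe u
open CategoryTheory CategoryTheory.Limits AlgebraicGeometry TopologicalSpace Opposite
open scoped HomogeneousIdeal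
noncomputable section
open Mor

namespace Groth.Agent.S12691


set_option maxHeartbeats 1000000 in
theorem main {X Y P PL : Scheme.{u}} (f : X ⟶ Y)
    (L : X.Modules) (hL : PicF.IsInvertible L) (hLq : Coh.IsQCoh L)
    (𝒮L : RelProj.QCGrAlg X) (jL : L ⟶ 𝒮L.toModule) (hjL : RelProj.IsGrSymAlg L 𝒮L jL)
    (pL : PL ⟶ X) (chartL : ∀ (U : X.Opens) (hU : IsAffineOpen U), (((pL ⁻¹ᵁ U : PL.Opens) : Scheme.{u}) ≅ Proj (𝒮L.deg U hU)))
    (hPL : RelProj.IsRelProj 𝒮L pL chartL)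
    (𝒜 : RelProj.QCGrAlg Y) (h1 : 𝒜.IsGenDegOne)
    (u : RelProj.QGrHom f 𝒜 𝒮L)
    (hsurj : ∀ x : X, ∃ (U : Y.Opens) (hU : IsAffineOpen U) (e : 𝒜.presheaf.obj (op U)) (_ : e ∈ 𝒜.deg U hU 1)
        (V : X.Opens) (hV : IsAffineOpen V) (hVU : V ≤ f ⁻¹ᵁ U), x ∈ V ∧
          ((𝒮L.deg V hV 1 : AddSubgroup (𝒮L.presheaf.obj (op V))) : Set (𝒮L.presheaf.obj (op V))) ⊆
            (Ideal.span {(u.appLE U V hVU).hom e} : Set (𝒮L.presheaf.obj (op V))))
    (p : P ⟶ Y) (chart : ∀ (U : Y.Opens) (hU : IsAffineOpen U), (((p ⁻¹ᵁ U : P.Opens) : Scheme.{u}) ≅ Proj (𝒜.deg U hU)))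
    (hP : RelProj.IsRelProj 𝒜 p chart)
    (r : ((RelProj.domQ u pL chartL : PL.Opens) : Scheme.{u}) ⟶ P)
    (hr : RelProj.IsProjQMapOn u p chart pL chartL (RelProj.domQ u pL chartL) r)
    (himm : IsImmersion r) :
    RelProj.IsRelVeryAmple f L := by
  have hgenL := Groth.Agent.Lib.H60LineSym.isGenDegOne L hLq 𝒮L jL hjL
  -- good pairs cover
  have hcov : ∀ z : PL, ∃ (U : Y.Opens) (hU : IsAffineOpen U) (U' : X.Opens) (hU' : IsAffineOpen U')
      (hle : U' ≤ f ⁻¹ᵁ U), pL.base z ∈ U' ∧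
        (𝒮L.deg U' hU')₊ ≤ ((𝒜.deg U hU)₊).map (u.gradedAt U hU U' hU' hle) := by
    intro z
    obtain ⟨U, hU, e, he, V, hV, hVU, hxV, hsub⟩ := hsurj (pL.base z)
    refine ⟨U, hU, V, hV, hVU, hxV, ?_⟩
    change ((𝒮L.deg V hV)₊).toIdeal ≤ Ideal.map (u.gradedAt U hU V hV hVU) ((𝒜.deg U hU)₊).toIdeal
    rw [Groth.Agent.Lib.RelTildeFT.irrelevant_eq_span_of_closure (hgenL V hV), Ideal.span_le]
    intro a ha
    refine (Ideal.span_le.mpr ?_) (hsub ha)
    rintro _ rfl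
    exact Ideal.mem_map_of_mem _ (HomogeneousIdeal.mem_irrelevant_of_mem _ one_pos he)
  have hdom : RelProj.domQ u pL chartL = ⊤ :=
    Groth.Agent.Lib.H60ProjQTwist2.domQ_eq_top u hcov
  have hsrange : Set.range (𝟙 PL : PL ⟶ PL).base ⊆ Set.range (RelProj.domQ u pL chartL).ι.base := by
    rw [Scheme.Opens.range_ι, hdom]
    exact fun _ _ => trivial
  obtain ⟨s, hs⟩ : ∃ s : PL ⟶ ((RelProj.domQ u pL chartL : PL.Opens) : Scheme.{u}),
      s ≫ (RelProj.domQ u pL chartL).ι = 𝟙 PL :=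
    ⟨IsOpenImmersion.lift (RelProj.domQ u pL chartL).ι (𝟙 PL) hsrange, IsOpenImmersion.lift_fac _ _ _⟩
  have hs' : (RelProj.domQ u pL chartL).ι ≫ s = 𝟙 _ := by
    rw [← cancel_mono (RelProj.domQ u pL chartL).ι, Category.assoc, hs, Category.comp_id, Category.id_comp]
  haveI : IsIso s := ⟨(RelProj.domQ u pL chartL).ι, hs, hs'⟩
  haveI := himm
  have hemb := fun U hU U' hU' hle hg =>
    Groth.Agent.Lib.H60ProjQTwist2.emb_comp_of_isProjQMapOn u (RelProj.domQ u pL chartL) r hr s hs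
      U hU U' hU' hle hg
  have hover : (s ≫ r) ≫ p = pL ≫ f :=
    Groth.Agent.Lib.H60ProjQTwist2.hom_over u (s ≫ r) hemb hcov hP hPL
  haveI : IsIso pL := Groth.Agent.S12143.result L hL hLq 𝒮L jL hjL pL chartL hPL
  obtain ⟨O1, lam, hO1⟩ := Groth.Agent.Lib.H60RelTwistExists.exists_relTwist hP 1
  obtain ⟨O1L, lamL, hO1L⟩ := Groth.Agent.Lib.H60RelTwistExists.exists_relTwist hPL 1
  obtain ⟨eh⟩ := Groth.Agent.Lib.H60ProjQTwist2.nonempty_pullback_iso (s ≫ r) hemb hcov h1 hP hPL hO1 hO1L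
  obtain ⟨φ, hφ⟩ := Groth.Agent.Lib.H60CanonPhi.exists_phi hPL L jL hjL hO1L
  haveI : Epi (((Scheme.Modules.pullbackPushforwardAdjunction pL).homEquiv L O1L).symm φ) :=
    Groth.Agent.Lib.RelTwistEpi.epi_adjoint L hLq jL hjL hO1L φ hφ
  have hiso := Groth.Agent.S12472.isIso_of_epi_of_isInvertible
    (Groth.Agent.Lib.H90Invertible.isInvertible_pullback pL hL)
    (Groth.Agent.Lib.RelTwistInv.isInvertible_relTwist_of_gen hgenL 1 hO1L)
    (((Scheme.Modules.pullbackPushforwardAdjunction pL).homEquiv L O1L).symm φ)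
  have hi : (inv pL ≫ s ≫ r) ≫ p = f := by
    rw [Category.assoc, hover, IsIso.inv_hom_id_assoc]
  refine Groth.Agent.S12485.result f L hL 𝒜 h1 p chart hP O1 lam hO1 (inv pL ≫ s ≫ r) hi ?_
  exact (Scheme.Modules.pullbackId X).symm.app L ≪≫
    (Scheme.Modules.pullbackCongr (IsIso.inv_hom_id pL).symm).app L ≪≫
    (Scheme.Modules.pullbackComp (inv pL) pL).symm.app L ≪≫
    (Scheme.Modules.pullback (inv pL)).mapIso (@asIso _ _ _ _ _ hiso) ≪≫
    (Scheme.Modules.pullback (inv pL)).mapIso eh.symm ≪≫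
    (Scheme.Modules.pullbackComp (inv pL) (s ≫ r)).app O1

/-- Let f : X → Y be a quasi-compact morphism, L an invertible O_X-module with graded symmetric algebra
𝒮L = ⊕_{n≥0} L^{⊗n} (whose relative Proj PL, given with its charts, is identified with X by its
structure morphism), 𝒜 a quasi-coherent graded O_Y-algebra generated in degree one over O_Y (its
degree-zero part is the image of O_Y and degrees zero and one generate it), u : 𝒜 → f_*𝒮L a graded
f-morphism (adjoint to a homomorphism of graded algebras ψ : f^*𝒜 → ⊕ L^{⊗n}) whose degree-one part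
f^*𝒜_1 → L is surjective — every point of X has an affine neighbourhood V over which the image of a
single degree-one section of 𝒜 generates L — P = Proj(𝒜) → Y with its charts, and r = r_{L,ψ} : U(ψ)
→ P the induced morphism on its open of definition U(ψ) ⊆ PL. If r is an immersion, then L is very
ample relative to f (isomorphic to the inverse image of O(1) along a Y-immersion into the projective
bundle of a quasi-coherent O_Y-module). -/
theorem result {X Y P PL : Scheme.{u}} (f : X ⟶ Y) [QuasiCompact f]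
    (L : X.Modules) (hL : PicF.IsInvertible L) (hLq : Coh.IsQCoh L)
    (𝒮L : RelProj.QCGrAlg X) (jL : L ⟶ 𝒮L.toModule) (hjL : RelProj.IsGrSymAlg L 𝒮L jL)
    (pL : PL ⟶ X) (chartL : ∀ (U : X.Opens) (hU : IsAffineOpen U), (((pL ⁻¹ᵁ U : PL.Opens) : Scheme.{u}) ≅ Proj (𝒮L.deg U hU)))
    (hPL : RelProj.IsRelProj 𝒮L pL chartL)
    (𝒜 : RelProj.QCGrAlg Y) (h1 : 𝒜.IsGenDegOne)
    (h0 : ∀ (U : Y.Opens) (hU : IsAffineOpen U),
      ((𝒜.deg U hU 0 : AddSubgroup (𝒜.presheaf.obj (op U))) : Set (𝒜.presheaf.obj (op U))) = Set.range (𝒜.str.app (op U)).hom)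
    (u : RelProj.QGrHom f 𝒜 𝒮L)
    (hsurj : ∀ x : X, ∃ (U : Y.Opens) (hU : IsAffineOpen U) (e : 𝒜.presheaf.obj (op U)) (_ : e ∈ 𝒜.deg U hU 1)
        (V : X.Opens) (hV : IsAffineOpen V) (hVU : V ≤ f ⁻¹ᵁ U), x ∈ V ∧
          ((𝒮L.deg V hV 1 : AddSubgroup (𝒮L.presheaf.obj (op V))) : Set (𝒮L.presheaf.obj (op V))) ⊆
            (Ideal.span {(u.appLE U V hVU).hom e} : Set (𝒮L.presheaf.obj (op V))))
    (p : P ⟶ Y) (chart : ∀ (U : Y.Opens) (hU : IsAffineOpen U), (((p ⁻¹ᵁ U : P.Opens) : Scheme.{u}) ≅ Proj (𝒜.deg U hU)))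
    (hP : RelProj.IsRelProj 𝒜 p chart)
    (r : ((RelProj.domQ u pL chartL : PL.Opens) : Scheme.{u}) ⟶ P)
    (hr : RelProj.IsProjQMapOn u p chart pL chartL (RelProj.domQ u pL chartL) r)
    (himm : IsImmersion r) :
    RelProj.IsRelVeryAmple f L := by
  exact main f L hL hLq 𝒮L jL hjL pL chartL hPL 𝒜 h1 u hsurj p chart hP r hr himm

end Groth.Agent.S12691
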