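import Groth.Statements.S12692
import Groth.Agent.S12146
import Groth.Agent.S12143
import Groth.Agent.S8259

set_option autoImplicit false
universe u
open CategoryTheory CategoryTheory.Limits AlgebraicGeometry TopologicalSpace Opposite
open scoped HomogeneousIdeal
noncomputable section
open Coh

namespace Groth.Agent.S12692


/-- A section of a sheaf of rings which vanishes on the members of an open cover vanishes. -/
theorem eq_zero_of_cover {X : TopCat.{u}} (F : TopCat.Presheaf CommRingCat.{u} X) (hF : F.IsSheaf)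
    {ι : Type u} (V : ι → Opens X) (W : Opens X) (hV : ∀ i, V i ≤ W) (hcov : W ≤ ⨆ i, V i)
    (t : F.obj (op W)) (h : ∀ i, (F.map (homOfLE (hV i)).op).hom t = 0) : t = 0 := by
  refine TopCat.Sheaf.eq_of_locally_eq' (⟨F, hF⟩ : TopCat.Sheaf CommRingCat X) V W
    (fun i => homOfLE (hV i)) hcov t 0 (fun i => ?_)
  rw [map_zero]
  exact h i

theorem main {X Y P PL : Scheme.{u}} [CompactSpace X]
    (f : X ⟶ Y) (hY : IsAffineOpen (⊤ : Y.Opens))
    (L : X.Modules) (hL : PicF.IsInvertible L) (hLq : Coh.IsQCoh L)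
    (𝒮L : RelProj.QCGrAlg X) (jL : L ⟶ 𝒮L.toModule) (hjL : RelProj.IsGrSymAlg L 𝒮L jL)
    (pL : PL ⟶ X) (chartL : ∀ (U : X.Opens) (hU : IsAffineOpen U), (((pL ⁻¹ᵁ U : PL.Opens) : Scheme.{u}) ≅ Proj (𝒮L.deg U hU)))
    (hPL : RelProj.IsRelProj 𝒮L pL chartL)
    (𝒜 : RelProj.QCGrAlg Y) (u : RelProj.QGrHom f 𝒜 𝒮L)
    (p : P ⟶ Y) (chart : ∀ (U : Y.Opens) (hU : IsAffineOpen U), (((p ⁻¹ᵁ U : P.Opens) : Scheme.{u}) ≅ Proj (𝒜.deg U hU)))
    (hP : RelProj.IsRelProj 𝒜 p chart)
    (r : ((RelProj.domQ u pL chartL : PL.Opens) : Scheme.{u}) ⟶ P)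
    (hr : RelProj.IsProjQMapOn u p chart pL chartL (RelProj.domQ u pL chartL) r)
    (hu : Function.Bijective (u.app ⊤).hom)
    (htop : RelProj.domQ u pL chartL = ⊤) :
    QuasiCompact r ∧ IsDominant r := by
  constructor
  · -- source compact, target quasi-separated
    haveI hiso : IsIso pL := Groth.Agent.S12143.result L hL hLq 𝒮L jL hjL pL chartL hPL
    haveI : CompactSpace PL := (asIso pL).hom.homeomorph.symm.compactSpace
    haveI : CompactSpace ((RelProj.domQ u pL chartL : PL.Opens) : Scheme.{u}) := by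
      have hc : IsCompact ((RelProj.domQ u pL chartL : PL.Opens) : Set PL) := by
        rw [htop]; exact isCompact_univ
      exact isCompact_iff_compactSpace.mp hc
    haveI : QuasiSeparatedSpace P := by
      haveI : IsAffine ((⊤ : Y.Opens) : Scheme.{u}) := hY
      haveI : IsAffine Y := .of_isIso (Scheme.topIso Y).inv
      haveI : IsSeparated p := Groth.Agent.S8259.result 𝒜 p chart hP
      exact quasiSeparatedSpace_of_quasiSeparated p
    infer_instance
  · rw [Groth.Agent.S12146.result f L hL hLq 𝒜 𝒮L jL hjL u p chart hP pL chartL hPL r hr hY]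
    intro n hn s hs hloc
    choose V hV hxV hnil using hloc
    choose k hk using hnil
    obtain ⟨T, hT⟩ := isCompact_univ.elim_finite_subcover (fun x : X => ((V x : X.Opens) : Set X))
      (fun x => (V x).isOpen) (fun x _ => Set.mem_iUnion.2 ⟨x, hxV x⟩)
    have hle : ∀ x : X, V x ≤ f ⁻¹ᵁ (⊤ : Y.Opens) := fun x => le_top.trans (Scheme.Hom.preimage_top f).ge
    have ht : ((u.app ⊤).hom s) ^ (T.sup k) = 0 := by
      refine eq_zero_of_cover 𝒮L.presheaf 𝒮L.isSheaf (fun x : T => V x.1) (f ⁻¹ᵁ (⊤ : Y.Opens))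
        (fun x => hle x.1) ?_ _ (fun x => ?_)
      · intro z _
        have hz : z ∈ ⋃ i ∈ T, ((V i : X.Opens) : Set X) := hT (Set.mem_univ z)
        simp only [Set.mem_iUnion] at hz
        obtain ⟨i, hiT, hzi⟩ := hz
        exact Opens.mem_iSup.2 ⟨⟨i, hiT⟩, hzi⟩
      · rw [map_pow]
        have h1 : (𝒮L.presheaf.map (homOfLE (hle x.1)).op).hom ((u.app ⊤).hom s) =
            (u.appLE ⊤ (V x.1) (hle x.1)).hom s := rfl
        rw [h1]
        have h2 : T.sup k = k x.1 + (T.sup k - k x.1) :=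
          (Nat.add_sub_cancel' (Finset.le_sup (f := k) x.2)).symm
        rw [h2, pow_add, hk x.1, zero_mul]
    refine ⟨T.sup k, ?_⟩
    apply hu.1
    rw [map_pow, ht, map_zero]

/-- Let X be a quasi-compact scheme, L an invertible O_X-module with graded symmetric algebra 𝒮L =
⊕_{d≥0} L^{⊗d} (whose relative Proj PL, given with its charts, is identified with X by its structure
morphism), f : X → Y a quasi-compact morphism to an AFFINE scheme Y, 𝒜 a quasi-coherent graded
O_Y-algebra given with a graded f-morphism u : 𝒜 → f_*𝒮L which is bijective on global sections — so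
that Γ(Y, 𝒜) is the graded ring S = ⊕_d Γ(X, L^{⊗d}) and P = Proj(𝒜) (given with its charts) is
Proj(S) — and r : G(u) → P the canonical morphism on its open of definition G(u) ⊆ PL. If G(u) is
all of PL (that is, every point of X lies in an open X_s for some homogeneous s ∈ S_+), then r is
quasi-compact and has dense image. (The published statement forms the homogeneous spectrum of the
graded ring S itself, with no base scheme; any affine Y under X gives the same graded ring, the same
homogeneous spectrum and the same morphism.) -/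
theorem result {X Y P PL : Scheme.{u}} [CompactSpace X]
    (f : X ⟶ Y) [QuasiCompact f] (hY : IsAffineOpen (⊤ : Y.Opens))
    (L : X.Modules) (hL : PicF.IsInvertible L) (hLq : Coh.IsQCoh L)
    (𝒮L : RelProj.QCGrAlg X) (jL : L ⟶ 𝒮L.toModule) (hjL : RelProj.IsGrSymAlg L 𝒮L jL)
    (pL : PL ⟶ X) (chartL : ∀ (U : X.Opens) (hU : IsAffineOpen U), (((pL ⁻¹ᵁ U : PL.Opens) : Scheme.{u}) ≅ Proj (𝒮L.deg U hU)))
    (hPL : RelProj.IsRelProj 𝒮L pL chartL)
    (𝒜 : RelProj.QCGrAlg Y) (u : RelProj.QGrHom f 𝒜 𝒮L)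
    (p : P ⟶ Y) (chart : ∀ (U : Y.Opens) (hU : IsAffineOpen U), (((p ⁻¹ᵁ U : P.Opens) : Scheme.{u}) ≅ Proj (𝒜.deg U hU)))
    (hP : RelProj.IsRelProj 𝒜 p chart)
    (r : ((RelProj.domQ u pL chartL : PL.Opens) : Scheme.{u}) ⟶ P)
    (hr : RelProj.IsProjQMapOn u p chart pL chartL (RelProj.domQ u pL chartL) r)
    (hu : Function.Bijective (u.app ⊤).hom)
    (htop : RelProj.domQ u pL chartL = ⊤) :
    QuasiCompact r ∧ IsDominant r := by
  exact main f hY L hL hLq 𝒮L jL hjL pL chartL hPL 𝒜 u p chart hP r hr hu htop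

end Groth.Agent.S12692
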