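import Groth.Statements.S12707
import Mathlib.RingTheory.Artinian.Ring
import Mathlib.RingTheory.HopkinsLevitzki

set_option autoImplicit false
universe u v
open CategoryTheory
open ArtFun ArtFun.Art

namespace Groth.Agent.S12707

section Aux

variable {Λ : Type u} {k : Type u} [CommRing Λ] [Field k] [Algebra Λ k]

lemma quot_isLocalRing (B : Art Λ k) (K : Ideal B) (hK : ∀ a ∈ K, B.res a = 0) :
    IsLocalRing (B ⧸ K) := by
  have hne : K ≠ ⊤ := by
    intro h
    have h1 := hK 1 (h ▸ Submodule.mem_top)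
    rw [map_one] at h1
    exact one_ne_zero h1
  have _i1 : Nontrivial (B ⧸ K) := Ideal.Quotient.nontrivial_iff.2 hne
  exact IsLocalRing.of_surjective' (Ideal.Quotient.mk K) Ideal.Quotient.mk_surjective

/-- The quotient of an object by an ideal contained in the kernel of the augmentation. -/
noncomputable abbrev quot (B : Art Λ k) (K : Ideal B) (hK : ∀ a ∈ K, B.res a = 0) : Art Λ k :=
  { carrier := B ⧸ K
    isLocalRing := quot_isLocalRing B K hK
    res := Ideal.Quotient.liftₐ K B.res hK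
    res_surjective := fun c => by
      obtain ⟨b, hb⟩ := B.res_surjective c
      exact ⟨Ideal.Quotient.mk K b, hb⟩ }

noncomputable def proj (B : Art Λ k) (K : Ideal B) (hK : ∀ a ∈ K, B.res a = 0) :
    B ⟶ quot B K hK :=
  Art.homMk (Ideal.Quotient.mkₐ Λ K) (AlgHom.ext fun _ => rfl)

noncomputable def fac (B : Art Λ k) {K K' : Ideal B} (h : K ≤ K') (hK' : ∀ a ∈ K', B.res a = 0) :
    quot B K (fun a ha => hK' a (h ha)) ⟶ quot B K' hK' :=
  Art.homMk (Ideal.Quotient.factorₐ Λ h) (Ideal.Quotient.algHom_ext _ (AlgHom.ext fun _ => rfl))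

lemma res_eq_zero_of_le_ker {A B : Art Λ k} (f : B ⟶ A) {K : Ideal B}
    (hK : K ≤ RingHom.ker f.toAlgHom) : ∀ a ∈ K, B.res a = 0 := by
  intro a ha
  have h1 : f a = 0 := hK ha
  rw [← Art.res_app f a, h1, map_zero]

noncomputable def desc {A B : Art Λ k} (f : B ⟶ A) (K : Ideal B)
    (hK : K ≤ RingHom.ker f.toAlgHom) : quot B K (res_eq_zero_of_le_ker f hK) ⟶ A :=
  Art.homMk (Ideal.Quotient.liftₐ K f.toAlgHom (fun _ ha => hK ha))
    (Ideal.Quotient.algHom_ext _ (AlgHom.ext fun b => Art.res_app f b))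

lemma isIso_of_bijective {A B : Art Λ k} (e : B ⟶ A) (he : Function.Bijective e) : IsIso e := by
  let E : B ≃ₐ[Λ] A := AlgEquiv.ofBijective e.toAlgHom he
  have hE : ∀ b, E b = e b := fun b => rfl
  refine ⟨⟨Art.homMk (E.symm : A →ₐ[Λ] B) (AlgHom.ext fun a => ?_), ?_, ?_⟩⟩
  · change B.res (E.symm a) = A.res a
    rw [← Art.res_app e (E.symm a), ← hE, AlgEquiv.apply_symm_apply]
  · apply Art.hom_ext
    apply AlgHom.ext
    intro b
    change E.symm (e b) = b
    rw [← hE, AlgEquiv.symm_apply_apply]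
  · apply Art.hom_ext
    apply AlgHom.ext
    intro a
    change e (E.symm a) = a
    rw [← hE, AlgEquiv.apply_symm_apply]

lemma exists_socle (B : Art Λ k) {K I : Ideal B} (hKI : K < I) :
    ∃ t ∈ I, t ∉ K ∧ ∀ b ∈ IsLocalRing.maximalIdeal B, b * t ∈ K := by
  by_contra hcon
  push Not at hcon
  set m := IsLocalRing.maximalIdeal B with hm
  have hnil : ∃ n : ℕ, m ^ n = ⊥ := by
    have h1 := IsArtinianRing.isNilpotent_jacobson_bot (R := B)
    rw [IsLocalRing.jacobson_eq_maximalIdeal ⊥ bot_ne_top] at h1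
    obtain ⟨n, hn⟩ := h1
    exact ⟨n, hn⟩
  obtain ⟨n, hn⟩ := hnil
  have key : ∀ j : ℕ, m ^ j * I ≤ K → I ≤ K := by
    intro j
    induction j with
    | zero =>
      intro h
      simpa using h
    | succ j ih =>
      intro h
      apply ih
      intro t ht
      have htI : t ∈ I := Ideal.mul_le_right ht
      by_contra htK
      obtain ⟨b, hb, hbt⟩ := hcon t htI htK
      apply hbt
      apply h
      rw [pow_succ', mul_assoc]
      exact Ideal.mul_mem_mul hb ht
  have : I ≤ K := key n (by rw [hn]; simp)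
  exact (not_le_of_gt hKI) this

lemma isSmallExt_fac (B : Art Λ k) {K : Ideal B} (t : B) (htK : t ∉ K)
    (hmt : ∀ b ∈ IsLocalRing.maximalIdeal B, b * t ∈ K)
    (hK' : ∀ a ∈ K ⊔ Ideal.span {t}, B.res a = 0) :
    Art.IsSmallExt (fac B (le_sup_left : K ≤ K ⊔ Ideal.span {t}) hK') := by
  have hker : RingHom.ker (fac B (le_sup_left : K ≤ K ⊔ Ideal.span {t}) hK').toAlgHom =
      Ideal.span {Ideal.Quotient.mk K t} := by
    apply le_antisymm
    · intro x hx
      obtain ⟨b, rfl⟩ := Ideal.Quotient.mk_surjective x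
      have h1 : Ideal.Quotient.mk (K ⊔ Ideal.span {t}) b = 0 := hx
      rw [Ideal.Quotient.eq_zero_iff_mem, Submodule.mem_sup] at h1
      obtain ⟨y, hy, z, hz, rfl⟩ := h1
      obtain ⟨c, rfl⟩ := Ideal.mem_span_singleton'.1 hz
      rw [map_add, Ideal.Quotient.eq_zero_iff_mem.2 hy, zero_add, map_mul]
      exact Ideal.mul_mem_left _ _ (Ideal.subset_span rfl)
    · rw [Ideal.span_le, Set.singleton_subset_iff]
      change Ideal.Quotient.mk (K ⊔ Ideal.span {t}) t = 0
      rw [Ideal.Quotient.eq_zero_iff_mem]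
      exact Ideal.mem_sup_right (Ideal.subset_span rfl)
  refine ⟨?_, ?_, ?_, ?_⟩
  · intro x
    obtain ⟨b, rfl⟩ := Ideal.Quotient.mk_surjective x
    exact ⟨Ideal.Quotient.mk K b, rfl⟩
  · rw [hker]
    intro h
    rw [Ideal.span_singleton_eq_bot, Ideal.Quotient.eq_zero_iff_mem] at h
    exact htK h
  · rw [hker]
    exact ⟨⟨_, rfl⟩⟩
  · rw [hker, eq_bot_iff, Ideal.mul_le]
    intro x hx y hy
    obtain ⟨b, rfl⟩ := Ideal.Quotient.mk_surjective x
    obtain ⟨c, rfl⟩ := Ideal.mem_span_singleton'.1 hy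
    have hb : b ∈ IsLocalRing.maximalIdeal B := by
      rw [Art.mem_maximalIdeal_iff] at hx ⊢
      exact hx
    rw [Ideal.mem_bot, mul_left_comm, ← map_mul, Ideal.Quotient.eq_zero_iff_mem.2 (hmt b hb),
      mul_zero]

theorem main (P : ∀ ⦃A B : ArtFun.Art Λ k⦄, (B ⟶ A) → Prop)
    (hiso : ∀ ⦃A B : ArtFun.Art Λ k⦄ (e : B ⟶ A), IsIso e → P e)
    (hsmall : ∀ ⦃A B : ArtFun.Art Λ k⦄ (p : B ⟶ A), ArtFun.Art.IsSmallExt p → P p)
    (hcomp : ∀ ⦃A B C : ArtFun.Art Λ k⦄ (p : C ⟶ B) (q : B ⟶ A), P p → P q → P (p ≫ q))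
    {A B : ArtFun.Art Λ k} (f : B ⟶ A) (hf : Function.Surjective f) (K : Ideal B) :
    ∀ hK : K ≤ RingHom.ker f.toAlgHom, P (desc f K hK) := by
  induction K using WellFoundedGT.induction with
  | ind K ih =>
    intro hK
    by_cases hKI : K = RingHom.ker f.toAlgHom
    · apply hiso
      apply isIso_of_bijective
      constructor
      · rw [injective_iff_map_eq_zero]
        intro x hx
        obtain ⟨b, rfl⟩ := Ideal.Quotient.mk_surjective x
        have h1 : f b = 0 := hx
        rw [Ideal.Quotient.eq_zero_iff_mem, hKI]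
        exact h1
      · intro a
        obtain ⟨b, rfl⟩ := hf a
        exact ⟨Ideal.Quotient.mk K b, rfl⟩
    · have hlt : K < RingHom.ker f.toAlgHom := lt_of_le_of_ne hK hKI
      obtain ⟨t, htI, htK, hmt⟩ := exists_socle B hlt
      have hK'I : K ⊔ Ideal.span {t} ≤ RingHom.ker f.toAlgHom :=
        sup_le hK ((Ideal.span_singleton_le_iff_mem _).2 htI)
      have hKK' : K < K ⊔ Ideal.span {t} := by
        refine lt_of_le_of_ne le_sup_left ?_
        intro h
        apply htK
        rw [h]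
        exact Ideal.mem_sup_right (Ideal.subset_span rfl)
      have h1 := ih _ hKK' hK'I
      have h2 := hsmall _ (isSmallExt_fac B t htK hmt (res_eq_zero_of_le_ker f hK'I))
      have hfac : desc f K hK =
          fac B (le_sup_left : K ≤ K ⊔ Ideal.span {t}) (res_eq_zero_of_le_ker f hK'I) ≫
            desc f _ hK'I := by
        apply Art.hom_ext
        apply Ideal.Quotient.algHom_ext
        apply AlgHom.ext
        intro b
        rfl
      rw [hfac]
      exact hcomp _ _ h2 h1

end Aux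


/-- In the category of Artinian local Λ-algebras with residue field k (Λ Noetherian, Λ → k finite),
every surjective morphism is a composite of small extensions. Stated as the equivalent induction
principle: a property of morphisms that holds for isomorphisms and for small extensions and is
stable under composition holds for every surjective morphism. -/
theorem result {Λ : Type u} {k : Type u} [CommRing Λ] [Field k] [Algebra Λ k]
    [IsNoetherianRing Λ] [Module.Finite Λ k]
    (P : ∀ ⦃A B : ArtFun.Art Λ k⦄, (B ⟶ A) → Prop)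
    (hiso : ∀ ⦃A B : ArtFun.Art Λ k⦄ (e : B ⟶ A), IsIso e → P e)
    (hsmall : ∀ ⦃A B : ArtFun.Art Λ k⦄ (p : B ⟶ A), ArtFun.Art.IsSmallExt p → P p)
    (hcomp : ∀ ⦃A B C : ArtFun.Art Λ k⦄ (p : C ⟶ B) (q : B ⟶ A), P p → P q → P (p ≫ q))
    ⦃A B : ArtFun.Art Λ k⦄ (f : B ⟶ A) (hf : Function.Surjective f) : P f := by
  have h0 : (⊥ : Ideal B) ≤ RingHom.ker f.toAlgHom := bot_le
  have h1 := main P hiso hsmall hcomp f hf ⊥ h0
  have h2 : P (proj B ⊥ (res_eq_zero_of_le_ker f h0)) := by
    apply hiso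
    apply isIso_of_bijective
    constructor
    · rw [injective_iff_map_eq_zero]
      intro b hb
      have h3 : Ideal.Quotient.mk (⊥ : Ideal B) b = 0 := hb
      rw [Ideal.Quotient.eq_zero_iff_mem] at h3
      exact h3
    · intro x
      obtain ⟨b, rfl⟩ := Ideal.Quotient.mk_surjective x
      exact ⟨b, rfl⟩
  have hfac : f = proj B ⊥ (res_eq_zero_of_le_ker f h0) ≫ desc f ⊥ h0 := by
    apply Art.hom_ext
    apply AlgHom.ext
    intro b
    rfl
  rw [hfac]
  exact hcomp _ _ h2 h1

end Groth.Agent.S12707
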