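import Groth.Statements.S12708
-- import your own Groth.Agent.* helpers here

set_option autoImplicit false
universe u v
open CategoryTheory
open ArtFun

namespace Groth.Agent.S12708

theorem aux {Λ : Type u} {k : Type u} [CommRing Λ] [Field k] [Algebra Λ k]
    (A : Type u) [CommRing A] [Algebra Λ A] [IsLocalRing A] [Algebra A k] [IsScalarTower Λ A k]
    (hres : Function.Surjective (algebraMap A k))
    (M : Type v) [AddCommGroup M] [Module A M] (h : IsFiniteLength A M) :
    ∀ [Module Λ M] [IsScalarTower Λ A M],
      Module.length Λ k * Module.length A M = Module.length Λ M := by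
  induction h with
  | @of_subsingleton M _ _ _ =>
    intro _ _
    have h1 : Module.length A M = 0 := Module.length_eq_zero
    have h2 : Module.length Λ M = 0 := Module.length_eq_zero
    rw [h1, h2, mul_zero]
  | @of_simple_quotient M _ _ N hs hN ih =>
    intro _ _
    have e1 : Module.length A M = Module.length A N + Module.length A (M ⧸ N) :=
      Module.length_eq_add_of_exact N.subtype N.mkQ (Submodule.injective_subtype N)
        (Submodule.mkQ_surjective N) (LinearMap.exact_subtype_mkQ N)
    have e2 : Module.length Λ M = Module.length Λ N + Module.length Λ (M ⧸ N) :=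
      Module.length_eq_add_of_exact (N.subtype.restrictScalars Λ) (N.mkQ.restrictScalars Λ)
        (Submodule.injective_subtype N) (Submodule.mkQ_surjective N)
        (LinearMap.exact_subtype_mkQ N)
    have e3 : Module.length A (M ⧸ N) = 1 := Module.length_eq_one A (M ⧸ N)
    have e4 : Module.length Λ (M ⧸ N) = Module.length Λ k := by
      obtain ⟨I, hI, ⟨e⟩⟩ := isSimpleModule_iff_quot_maximal.1 hs
      have hker : Ideal.IsMaximal (LinearMap.ker (Algebra.linearMap A k)) := by
        have h0 : LinearMap.ker (Algebra.linearMap A k) = RingHom.ker (algebraMap A k) := by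
          ext x
          rw [LinearMap.mem_ker, RingHom.mem_ker, Algebra.linearMap_apply]
        rw [h0]
        exact RingHom.ker_isMaximal_of_surjective (algebraMap A k) hres
      have hI' : I = LinearMap.ker (Algebra.linearMap A k) := by
        rw [IsLocalRing.eq_maximalIdeal hI, IsLocalRing.eq_maximalIdeal hker]
      let e' : (M ⧸ N) ≃ₗ[A] k :=
        (e.trans (Submodule.quotEquivOfEq _ _ hI')).trans
          (LinearMap.quotKerEquivOfSurjective (Algebra.linearMap A k) hres)
      exact LinearEquiv.length_eq (e'.restrictScalars Λ)
    rw [e1, e2, e3, e4, mul_add, mul_one, ih]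


/-- For Λ Noetherian with a finite map to a field k, A a local Λ-algebra whose residue field is k
(through a surjective Λ-algebra map A → k) and M an A-module, the length of M over Λ equals the
degree of k over the image of Λ times the length of M over A. The degree is written as the length of
k as a Λ-module, which is the same number; lengths are in ℕ∞. -/
theorem result {Λ : Type u} {k : Type u} [CommRing Λ] [Field k] [Algebra Λ k]
    [IsNoetherianRing Λ] [Module.Finite Λ k]
    (A : Type u) [CommRing A] [Algebra Λ A] [IsLocalRing A] [Algebra A k] [IsScalarTower Λ A k]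
    (hres : Function.Surjective (algebraMap A k))
    (M : Type v) [AddCommGroup M] [Module A M] [Module Λ M] [IsScalarTower Λ A M] :
    Module.length Λ k * Module.length A M = Module.length Λ M := by
  have hk0 : Module.length Λ k ≠ 0 := by
    rw [Ne, Module.length_eq_zero_iff]
    exact not_subsingleton k
  by_cases hfin : IsFiniteLength A M
  · exact aux A hres M hfin
  · have h1 : Module.length A M = ⊤ := by
      by_contra h
      exact hfin (Module.length_ne_top_iff.1 h)
    have h2 : Module.length Λ M = ⊤ := by
      by_contra h
      have hΛ := Module.length_ne_top_iff.1 h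
      rw [isFiniteLength_iff_isNoetherian_isArtinian] at hΛ
      obtain ⟨hN, hA⟩ := hΛ
      exact hfin (isFiniteLength_iff_isNoetherian_isArtinian.2
        ⟨isNoetherian_of_tower Λ hN, isArtinian_of_tower Λ hA⟩)
    rw [h1, h2, ENat.mul_top hk0]

end Groth.Agent.S12708
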