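import Groth.Statements.S1291
import Groth.Agent.Lib.DiagIdem75
import Groth.Agent.Lib.FitSum97
import Groth.Agent.Lib.Fitting82E

set_option autoImplicit false
universe u
open FlatMor

namespace Groth.Agent.S1291

open Groth.Agent.Lib.DiagIdem75 Groth.Agent.Lib.Fitting82 Groth.Agent.Lib.FitSum97 TensorProduct

theorem fittingZero_eq {R : Type u} [CommRing R] (M : Type u) [AddCommGroup M] [Module R M] :
    FlatCA.fittingZero R M = Fitt.ideal R M 0 := by
  unfold FlatCA.fittingZero Fitt.ideal
  congr 1
  ext d
  constructor
  · rintro ⟨n, x, a, hx, ha, rfl⟩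
    exact ⟨n, x, a, hx, fun i _ => ha i, rfl⟩
  · rintro ⟨n, x, a, hx, ha, rfl⟩
    exact ⟨n, x, a, hx, fun i => ha i (by simp), rfl⟩

/-- The statement without the (unused) rank hypothesis. -/
theorem core {A C : Type u} [CommRing A] [CommRing C] [Algebra A C] [Module.Finite A C] [Module.Projective A C]
    (h : C) [Algebra.Etale A (Localization.Away h)] (J : Ideal C) :
    ∃ J' : Ideal (Localization.Away h),
      (FlatCA.fittingZero A (C ⧸ J)).map (algebraMap A (Localization.Away h)) = J.map (algebraMap C (Localization.Away h)) * J' ∧
      (J.FG → (FlatCA.fittingZero A (C ⧸ J)).FG ∧ J'.FG) := by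
  set L := Localization.Away h with hL
  obtain ⟨σ, hσ⟩ := exists_section (A := A) (L := L) J h
  let E := splitEquiv (pp A L J) σ hσ
  have : Module.Finite L (LinearMap.ker (pp A L J)) :=
    Module.Finite.of_surjective
      ((LinearMap.snd L (L ⧸ J.map (algebraMap C L)) (LinearMap.ker (pp A L J))) ∘ₗ E.toLinearMap)
      (fun k => ⟨E.symm (0, k), by simp⟩)
  refine ⟨Fitt.ideal L (LinearMap.ker (pp A L J)) 0, ?_, ?_⟩
  · rw [fittingZero_eq, ← ideal_baseChange L 0, ideal_congr (M' := (L ⧸ J.map (algebraMap C L)) × LinearMap.ker (pp A L J)) E 0, ideal_prod 0]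
    simp [ideal_zero_quotient]
    rfl
  · intro hJ
    have : Module.FinitePresentation A C := Module.finitePresentation_of_projective A C
    have hJA : (J.restrictScalars A).FG := by
      have : Module.Finite C J := Module.Finite.iff_fg.mpr hJ
      have : Module.Finite A J := Module.Finite.trans C J
      exact Module.Finite.iff_fg.mp (inferInstanceAs (Module.Finite A J))
    have : Module.FinitePresentation A (C ⧸ J) := by
      refine Module.finitePresentation_of_surjective (Ideal.Quotient.mkₐ A J).toLinearMap
        (Ideal.Quotient.mkₐ_surjective A J) ?_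
      have hker : LinearMap.ker (Ideal.Quotient.mkₐ A J).toLinearMap = J.restrictScalars A := by
        ext x
        simp [Ideal.Quotient.eq_zero_iff_mem]
      rw [hker]
      exact hJA
    constructor
    · rw [fittingZero_eq]
      exact ideal_fg_of_finitePresentation 0
    · have : Module.FinitePresentation L (LinearMap.ker (pp A L J)) := by
        refine Module.finitePresentation_of_surjective
          ((LinearMap.snd L (L ⧸ J.map (algebraMap C L)) (LinearMap.ker (pp A L J))) ∘ₗ
            E.toLinearMap) (fun k => ⟨E.symm (0, k), by simp⟩) ?_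
        rw [ker_snd_splitEquiv, LinearMap.range_eq_map]
        exact (Module.Finite.fg_top).map σ
      exact ideal_fg_of_finitePresentation 0

/-- Let A → C be finite locally free of rank d (C a finite projective A-module of constant rank d), h ∈
C such that C_h is étale over A, and J an ideal of C. Let I be the zeroth Fitting ideal of C/J
regarded as a finite A-module. Then the extension of I to C_h equals J·J' for some ideal J' of C_h
(J extended to C_h); and if J is finitely generated then so are I and J'. -/
theorem result {A C : Type u} [CommRing A] [CommRing C] [Algebra A C] [Module.Finite A C] [Module.Projective A C]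
    (d : ℕ) (hd : ∀ p : PrimeSpectrum A, Module.rankAtStalk (R := A) C p = d)
    (h : C) [Algebra.Etale A (Localization.Away h)] (J : Ideal C) :
    ∃ J' : Ideal (Localization.Away h),
      (FlatCA.fittingZero A (C ⧸ J)).map (algebraMap A (Localization.Away h)) = J.map (algebraMap C (Localization.Away h)) * J' ∧
      (J.FG → (FlatCA.fittingZero A (C ⧸ J)).FG ∧ J'.FG) := by
  exact core h J

end Groth.Agent.S1291
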