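import Groth.Statements.S1271
import Groth.Agent.S1291

set_option autoImplicit false
universe u
open FlatMor

namespace Groth.Agent.S1271

open Groth.Agent.Lib.Fitting82

/-- f.g. ideals of an `Away`-localization descend, with a prescribed extra element. -/
lemma exists_fg_map_eq {C L : Type*} [CommRing C] [CommRing L] [Algebra C L] (h : C)
    [IsLocalization.Away h L] (J₁ : Ideal L) (hJ₁ : J₁.FG) (c₀ : C)
    (hc₀ : algebraMap C L c₀ ∈ J₁) :
    ∃ JC : Ideal C, JC.FG ∧ c₀ ∈ JC ∧ JC.map (algebraMap C L) = J₁ := by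
  classical
  obtain ⟨S, rfl⟩ := hJ₁
  have hsurj : ∀ s : L, ∃ c : C, ∃ k : ℕ, s * algebraMap C L (h ^ k) = algebraMap C L c := by
    intro s
    obtain ⟨⟨c, t⟩, hct⟩ := IsLocalization.surj (Submonoid.powers h) s
    obtain ⟨k, hk⟩ := t.2
    have hk' : (t : C) = h ^ k := hk.symm
    exact ⟨c, k, by rw [← hk']; exact hct⟩
  choose cf kf hcf using hsurj
  refine ⟨Ideal.span (insert c₀ (S.image cf : Set C)), ?_,
    Ideal.subset_span (Set.mem_insert _ _), ?_⟩
  · refine ⟨insert c₀ (S.image cf), ?_⟩
    simp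
  · rw [Ideal.map_span]
    apply le_antisymm
    · rw [Ideal.span_le]
      rintro _ ⟨c, hc, rfl⟩
      rcases hc with rfl | hc
      · exact hc₀
      · obtain ⟨s, hs, rfl⟩ := Finset.mem_image.mp (Finset.mem_coe.mp hc)
        rw [← hcf]
        exact Ideal.mul_mem_right _ _ (Ideal.subset_span hs)
    · rw [Ideal.span_le]
      intro s hs
      have hu : IsUnit (algebraMap C L (h ^ kf s)) := by
        rw [map_pow]; exact (IsLocalization.Away.algebraMap_isUnit h).pow _
      have : s * algebraMap C L (h ^ kf s) ∈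
          Ideal.span (algebraMap C L '' insert c₀ ↑(S.image cf)) := by
        rw [hcf]
        exact Ideal.subset_span ⟨cf s, Set.mem_insert_of_mem _
          (Finset.mem_coe.mpr (Finset.mem_image_of_mem _ hs)), rfl⟩
      exact (Ideal.mul_unit_mem_iff_mem _ hu).mp this

/-- An element killing a finite module lies in the radical of its zeroth Fitting ideal. -/
lemma mem_radical_fitt {R : Type u} {M : Type u} [CommRing R] [AddCommGroup M] [Module R M]
    [Module.Finite R M] (a : R) (ha : ∀ m : M, a • m = 0) :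
    a ∈ (Fitt.ideal R M 0).radical := by
  classical
  obtain ⟨n, x, hx⟩ := Module.Finite.exists_fin (R := R) (M := M)
  refine ⟨n, Ideal.subset_span ⟨n, x, a • (1 : Matrix (Fin n) (Fin n) R), hx, ?_, ?_⟩⟩
  · intro i _
    simp [Matrix.smul_apply, Matrix.one_apply, ha]
  · simp [Matrix.det_smul]

/-- Let A → B be an étale ring map, a ∈ A a nonzerodivisor and J a finitely generated ideal of B with
V(J) ⊆ V(aB), i.e. a lies in the radical of J. Then for every prime q of B there exist a finitely
generated ideal I of A with V(I) ⊆ V(a), an element g of B outside q, and a finitely generated ideal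
J' of the localization B_g such that the extension of I to B_g equals the product of the extension
of J with J'. -/
theorem result {A B : Type u} [CommRing A] [CommRing B] [Algebra A B] [Algebra.Etale A B]
    (a : A) (ha : a ∈ nonZeroDivisors A) (J : Ideal B) (hJ : J.FG) (hJa : algebraMap A B a ∈ J.radical)
    (q : Ideal B) [q.IsPrime] :
    ∃ (I : Ideal A) (g : B) (J' : Ideal (Localization.Away g)), I.FG ∧ a ∈ I.radical ∧ g ∉ q ∧ J'.FG ∧
      I.map (algebraMap A (Localization.Away g)) = J.map (algebraMap B (Localization.Away g)) * J' := by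
  classical
  haveI : Algebra.IsEtaleAt A q := inferInstance
  obtain ⟨g, hgq, hg⟩ := Algebra.IsEtaleAt.exists_isStandardEtale (R := A) q
  obtain ⟨P⟩ := hg.nonempty_standardEtalePresentation
  -- the finite free algebra `C` and `h ∈ C`
  let C := AdjoinRoot P.f
  let h : C := AdjoinRoot.mk P.f P.g
  haveI : Module.Finite A C := P.monic_f.finite_adjoinRoot
  haveI : Module.Free A C := P.monic_f.free_adjoinRoot
  let L₁ := Localization.Away h
  let L₂ := Localization.Away g
  let φ : L₁ ≃ₐ[A] L₂ := (P.equivRing.trans P.P.equivAwayAdjoinRoot).symm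
  haveI : Algebra.Etale A (Localization.Away h) :=
    Algebra.Etale.of_equiv P.P.equivAwayAdjoinRoot
  obtain ⟨m, hm⟩ := hJa
  -- the ideal of `L₁` corresponding to `J`
  set J₁ : Ideal L₁ := (J.map (algebraMap B L₂)).map (φ.symm : L₂ →+* L₁) with hJ₁def
  have hJ₁fg : J₁.FG := (hJ.map _).map _
  have hc₀ : algebraMap C L₁ (algebraMap A C (a ^ m)) ∈ J₁ := by
    rw [← IsScalarTower.algebraMap_apply A C L₁]
    have h1 : algebraMap A L₁ (a ^ m) = (φ.symm : L₂ →+* L₁) (algebraMap A L₂ (a ^ m)) := by
      simp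
    rw [h1]
    apply Ideal.mem_map_of_mem
    rw [IsScalarTower.algebraMap_apply A B L₂, map_pow]
    exact Ideal.mem_map_of_mem _ hm
  obtain ⟨JC, hJCfg, hJCa, hJCmap⟩ := exists_fg_map_eq h J₁ hJ₁fg _ hc₀
  obtain ⟨J'', heq, hfg⟩ := Groth.Agent.S1291.core (A := A) (C := C) h JC
  obtain ⟨hIfg, hJ''fg⟩ := hfg hJCfg
  refine ⟨FlatCA.fittingZero A (C ⧸ JC), g, J''.map (φ : L₁ →+* L₂), hIfg, ?_, hgq,
    hJ''fg.map _, ?_⟩
  · rw [Groth.Agent.S1291.fittingZero_eq]
    have hrad : a ^ m ∈ (Fitt.ideal A (C ⧸ JC) 0).radical := by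
      apply mem_radical_fitt
      intro x
      obtain ⟨c, rfl⟩ := Ideal.Quotient.mk_surjective x
      rw [Algebra.smul_def, IsScalarTower.algebraMap_apply A C (C ⧸ JC),
        Ideal.Quotient.algebraMap_eq, ← map_mul, Ideal.Quotient.eq_zero_iff_mem]
      exact JC.mul_mem_right _ hJCa
    have : a ∈ ((Fitt.ideal A (C ⧸ JC) 0).radical).radical := ⟨m, hrad⟩
    rwa [Ideal.radical_idem] at this
  · have e1 : ((FlatCA.fittingZero A (C ⧸ JC)).map (algebraMap A L₁)).map (φ : L₁ →+* L₂) =
        (FlatCA.fittingZero A (C ⧸ JC)).map (algebraMap A L₂) := by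
      rw [Ideal.map_map]
      congr 1
      ext x
      simp
    have e2 : J₁.map (φ : L₁ →+* L₂) = J.map (algebraMap B L₂) := by
      rw [hJ₁def, Ideal.map_map]
      have : ((φ : L₁ →+* L₂).comp (φ.symm : L₂ →+* L₁)) = RingHom.id L₂ := by
        ext x
        simp
      rw [this, Ideal.map_id]
    change (FlatCA.fittingZero A (C ⧸ JC)).map (algebraMap A L₂) = _
    rw [← e1, heq, Ideal.map_mul, hJCmap, e2]

end Groth.Agent.S1271
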