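import Groth.Statements.S12713
-- import your own Groth.Agent.* helpers here

set_option autoImplicit false
universe u v
open CategoryTheory
open ArtFun ArtFun.Art

namespace Groth.Agent.S12713

theorem mul_eq_zero_of_mem {Λ : Type u} {k : Type u} [CommRing Λ] [Field k] [Algebra Λ k]
    {A B : ArtFun.Art Λ k} (f : B ⟶ A)
    (hm : IsLocalRing.maximalIdeal B * RingHom.ker f.toAlgHom = ⊥)
    {m x : B} (hmx : m ∈ IsLocalRing.maximalIdeal B) (hx : f x = 0) : m * x = 0 := by
  have : m * x ∈ IsLocalRing.maximalIdeal B * RingHom.ker f.toAlgHom :=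
    Ideal.mul_mem_mul hmx (by rw [RingHom.mem_ker]; exact hx)
  rw [hm] at this
  exact this

theorem mul_eq_mul_of_res_eq {Λ : Type u} {k : Type u} [CommRing Λ] [Field k] [Algebra Λ k]
    {A B : ArtFun.Art Λ k} (f : B ⟶ A)
    (hm : IsLocalRing.maximalIdeal B * RingHom.ker f.toAlgHom = ⊥)
    {b b' x : B} (hb : B.res b = B.res b') (hx : f x = 0) : b * x = b' * x := by
  have h1 : (b - b') ∈ IsLocalRing.maximalIdeal B := by
    rw [Art.mem_maximalIdeal_iff, map_sub, hb, sub_self]
  have := mul_eq_zero_of_mem f hm h1 hx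
  rw [sub_mul, sub_eq_zero] at this
  exact this

theorem key {Λ : Type u} {k : Type u} [CommRing Λ] [Field k] [Algebra Λ k]
    {A B C : ArtFun.Art Λ k} (f : B ⟶ A) (hf : ArtFun.Art.IsSmallExt f)
    (g : C ⟶ B) (hgf : Function.Surjective (g ≫ f)) (hg : ¬ Function.Surjective g)
    (c : C) (hc : f (g c) = 0) : g c = 0 := by
  obtain ⟨hfs, hne, ⟨t, ht⟩, hm⟩ := hf
  by_contra hne0
  apply hg
  have htker : f t = 0 := by
    have : t ∈ RingHom.ker f.toAlgHom := by rw [ht]; exact Ideal.mem_span_singleton_self t
    exact this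
  have hxmem : g c ∈ RingHom.ker f.toAlgHom := hc
  rw [ht] at hxmem
  obtain ⟨b, hb⟩ := Ideal.mem_span_singleton'.1 hxmem
  -- hb : b * t = g c
  have hbunit : IsUnit b := by
    by_contra hnu
    have hbm : b ∈ IsLocalRing.maximalIdeal B := (IsLocalRing.mem_maximalIdeal b).2 hnu
    exact hne0 (by rw [← hb]; exact mul_eq_zero_of_mem f hm hbm htker)
  obtain ⟨u, rfl⟩ := hbunit
  -- t = u⁻¹ * g c
  have ht' : t = (↑u⁻¹ : B) * g c := by rw [← hb, ← mul_assoc, Units.inv_mul, one_mul]
  obtain ⟨c', hc'⟩ := C.res_surjective (B.res (↑u⁻¹ : B))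
  have ht'' : t = g (c' * c) := by
    rw [map_mul, ht']
    apply mul_eq_mul_of_res_eq f hm _ hc
    rw [Art.res_app, hc']
  intro b
  obtain ⟨c₁, hc₁⟩ := hgf (f b)
  have hc₁' : f (g c₁) = f b := hc₁
  have hmem : b - g c₁ ∈ RingHom.ker f.toAlgHom := by
    rw [RingHom.mem_ker]
    change f (b - g c₁) = 0
    rw [map_sub, hc₁', sub_self]
  rw [ht] at hmem
  obtain ⟨b₂, hb₂⟩ := Ideal.mem_span_singleton'.1 hmem
  obtain ⟨c₂, hc₂⟩ := C.res_surjective (B.res b₂)
  refine ⟨c₁ + c₂ * (c' * c), ?_⟩
  have h3 : b₂ * t = g c₂ * t := by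
    apply mul_eq_mul_of_res_eq f hm _ htker
    rw [Art.res_app, hc₂]
  change g (c₁ + c₂ * (c' * c)) = b
  rw [map_add, map_mul, ← ht'', ← h3, hb₂]
  ring

/-- A small extension f : B → A in the category of Artinian local Λ-algebras with residue field k is not
an essential surjection (some morphism g : C → B is non-surjective although the composite C → A is
surjective) if and only if f has a section A → B in the category. -/
theorem result {Λ : Type u} {k : Type u} [CommRing Λ] [Field k] [Algebra Λ k]
    [IsNoetherianRing Λ] [Module.Finite Λ k]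
    {A B : ArtFun.Art Λ k} (f : B ⟶ A) (hf : ArtFun.Art.IsSmallExt f) :
    (∃ (C : ArtFun.Art Λ k) (g : C ⟶ B), Function.Surjective (g ≫ f) ∧ ¬ Function.Surjective g) ↔
      ∃ s : A ⟶ B, s ≫ f = 𝟙 A := by
  constructor
  · rintro ⟨C, g, hgf, hg⟩
    have hkey := key f hf g hgf hg
    choose σ hσ using hgf
    have hσ' : ∀ a, f (g (σ a)) = a := hσ
    have huniq : ∀ c c' : C, f (g c) = f (g c') → g c = g c' := by
      intro c c' h
      have := hkey (c - c') (by rw [map_sub, map_sub, h, sub_self])
      rw [map_sub, sub_eq_zero] at this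
      exact this
    let s : A →ₐ[Λ] B :=
      { toFun := fun a => g (σ a)
        map_one' := by
          have : g (σ 1) = g 1 := huniq _ _ (by rw [hσ', map_one, map_one])
          rw [this, map_one]
        map_mul' := fun a b => by
          have : g (σ (a * b)) = g (σ a * σ b) :=
            huniq _ _ (by rw [hσ', map_mul, map_mul, hσ', hσ'])
          rw [this, map_mul]
        map_zero' := by
          have : g (σ 0) = g 0 := huniq _ _ (by rw [hσ', map_zero, map_zero])
          rw [this, map_zero]
        map_add' := fun a b => by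
          have : g (σ (a + b)) = g (σ a + σ b) :=
            huniq _ _ (by rw [hσ', map_add, map_add, hσ', hσ'])
          rw [this, map_add]
        commutes' := fun r => by
          have : g (σ (algebraMap Λ A r)) = g (algebraMap Λ C r) :=
            huniq _ _ (by
              rw [hσ']
              change _ = f.toAlgHom (g.toAlgHom (algebraMap Λ C r))
              rw [AlgHom.commutes, AlgHom.commutes])
          rw [this]
          exact g.toAlgHom.commutes r }
    have hs : B.res.comp s = A.res := by
      ext a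
      change B.res (g (σ a)) = A.res a
      rw [← Art.res_app f, hσ']
    refine ⟨Art.homMk s hs, ?_⟩
    apply Art.hom_ext
    ext a
    exact hσ' a
  · rintro ⟨s, hs⟩
    refine ⟨A, s, ?_, ?_⟩
    · rw [hs]; exact fun a => ⟨a, rfl⟩
    · intro hsurj
      apply hf.2.1
      rw [eq_bot_iff]
      intro x hx
      obtain ⟨a, rfl⟩ := hsurj x
      have h1 : f (s a) = a := by
        change (s ≫ f) a = a
        rw [hs]; rfl
      have h2 : f (s a) = 0 := hx
      rw [h1] at h2
      rw [h2]
      simp

end Groth.Agent.S12713
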