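import Groth.Statements.S12717
import Groth.Agent.Lib.ArtFunFactor

set_option autoImplicit false
universe u v
open CategoryTheory
open ArtFun

namespace Groth.Agent.S12717

/-- For functors, a morphism η : F → G of functors on the category of Artinian local Λ-algebras with
residue field k is smooth (F(B) → F(A) ×_{G(A)} G(B) surjective for every surjection B → A) as soon
as this lifting condition holds for all small extensions B → A. -/
theorem result {Λ : Type u} {k : Type u} [CommRing Λ] [Field k] [Algebra Λ k]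
    [IsNoetherianRing Λ] [Module.Finite Λ k]
    {F G : ArtFun.Art Λ k ⥤ Type v} (η : F ⟶ G)
    (h : ∀ ⦃B A : ArtFun.Art Λ k⦄ (μ : B ⟶ A), ArtFun.Art.IsSmallExt μ →
      Function.Surjective (ArtFun.relCmp η μ)) :
    ArtFun.IsSmooth η := by
  intro B A μ hμ
  refine Groth.Agent.Lib.ArtFunFactor.surjection_induction
    (P := fun {B A} μ => Function.Surjective (ArtFun.relCmp η μ)) ?_ ?_ ?_ μ hμ
  · intro B A μ hbij t
    obtain ⟨ν, h1, h2⟩ := Groth.Agent.Lib.ArtFunFactor.exists_inv_of_bijective μ hbij
    refine ⟨F.map ν t.1.1, ?_⟩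
    apply Subtype.ext
    apply Prod.ext
    · change F.map μ (F.map ν t.1.1) = t.1.1
      rw [← Functor.map_comp_apply, h2, Functor.map_id_apply]
    · change η.app B (F.map ν t.1.1) = t.1.2
      rw [NatTrans.naturality_apply, t.2, ← Functor.map_comp_apply, h1,
        Functor.map_id_apply]
  · intro B A μ hs
    exact h μ hs
  · intro C B A ν μ hν hμ' t
    have hcond : η.app A t.1.1 = G.map μ (G.map ν t.1.2) := by
      rw [t.2, Functor.map_comp_apply]
    obtain ⟨z', hz'⟩ := hμ' ⟨(t.1.1, G.map ν t.1.2), hcond⟩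
    have hz'1 : F.map μ z' = t.1.1 := congrArg (fun s => s.1.1) hz'
    have hz'2 : η.app B z' = G.map ν t.1.2 := congrArg (fun s => s.1.2) hz'
    obtain ⟨z, hz⟩ := hν ⟨(z', t.1.2), hz'2⟩
    have hz1 : F.map ν z = z' := congrArg (fun s => s.1.1) hz
    have hz2 : η.app C z = t.1.2 := congrArg (fun s => s.1.2) hz
    refine ⟨z, ?_⟩
    apply Subtype.ext
    apply Prod.ext
    · change F.map (ν ≫ μ) z = t.1.1
      rw [Functor.map_comp_apply, hz1, hz'1]
    · exact hz2

end Groth.Agent.S12717
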