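import Groth.Statements.S12727
import Groth.Agent.Lib.ArtFunBasic

set_option autoImplicit false
universe u v
open CategoryTheory
open ArtFun

namespace Groth.Agent.S12727

/-- For functors, a functor on Artinian local Λ-algebras with residue field k with F(k) a point which
admits a versal family (over a complete local Noetherian ring with residue field k) satisfies
condition (S1). -/
theorem result {Λ : Type u} {k : Type u} [CommRing Λ] [Field k] [Algebra Λ k]
    [IsNoetherianRing Λ] [Module.Finite Λ k]
    (F : ArtFun.Art Λ k ⥤ Type v) (h0 : ArtFun.H0 F) (hv : ArtFun.HasVersal F) :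
    ArtFun.S1 F := by
  obtain ⟨V⟩ := hv
  have hsurj : ∀ A : ArtFun.Art Λ k, Function.Surjective (V.family.app A) := by
    intro A y
    obtain ⟨ψ, -, hψ⟩ := V.versal (ArtFun.Art.toBase A) A.res_surjective
      (Groth.Agent.Lib.ArtFunBasic.homSetBase _ _) y (h0.2.elim _ _)
    exact ⟨ψ, hψ⟩
  exact Groth.Agent.Lib.ArtFunBasic.s1_of_isVersal V.family V.versal hsurj

end Groth.Agent.S12727
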