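import Groth.Statements.S12729
import Groth.Agent.Lib.ArtFunFactor

set_option autoImplicit false
universe u v
open CategoryTheory
open ArtFun

namespace Groth.Agent.S12729

open ArtFun.Art IsLocalRing Groth.Agent.Lib.ArtFunFactor

section Aux

variable {Λ : Type u} {k : Type u} [CommRing Λ] [Field k] [Algebra Λ k]

/-- enlarge `J₂` inside `I` (killed by the maximal ideal) to a complement of `J₁` modulo `J₁ ⊓ J₂`. -/
theorem exists_enlarge {B : Art Λ k} (I J₁ J₂ : Ideal B) (hI : maximalIdeal B * I = ⊥)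
    (h₂ : J₂ ≤ I) (h₁ : J₁ ≤ I) :
    ∃ J₂' : Ideal B, J₂ ≤ J₂' ∧ J₂' ≤ I ∧ J₁ ⊓ J₂' = J₁ ⊓ J₂ ∧ J₁ ⊔ J₂' = I := by
  have hN : IsNoetherian B B := inferInstance
  obtain ⟨K, ⟨hK1, hK2, hK3⟩, hmax⟩ := set_has_maximal_iff_noetherian.mpr hN
    {K : Ideal B | J₂ ≤ K ∧ K ≤ I ∧ J₁ ⊓ K = J₁ ⊓ J₂} ⟨J₂, le_rfl, h₂, rfl⟩
  refine ⟨K, hK1, hK2, hK3, le_antisymm (sup_le h₁ hK2) ?_⟩
  intro v hv
  by_contra hvn
  have hvK : v ∉ K := fun h => hvn (Ideal.mem_sup_right h)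
  have hlt : K < K ⊔ Ideal.span {v} := by
    refine lt_of_le_of_ne le_sup_left fun h => hvK ?_
    rw [h]
    exact Ideal.mem_sup_right (Ideal.subset_span rfl)
  refine hmax (K ⊔ Ideal.span {v}) ⟨hK1.trans le_sup_left,
    sup_le hK2 ((Ideal.span_singleton_le_iff_mem _).2 hv), ?_⟩ hlt
  rw [← hK3]
  apply le_antisymm
  · intro u hu
    obtain ⟨hu1, hu2⟩ := hu
    refine ⟨hu1, ?_⟩
    rw [SetLike.mem_coe, Submodule.mem_sup] at hu2
    obtain ⟨w, hw, z, hz, hsum⟩ := hu2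
    rw [Ideal.mem_span_singleton'] at hz
    obtain ⟨c, rfl⟩ := hz
    by_cases hc : IsUnit c
    · exfalso
      apply hvn
      have : v = ↑hc.unit⁻¹ * (u - w) := by
        rw [← hsum, add_sub_cancel_left, ← mul_assoc, IsUnit.val_inv_mul, one_mul]
      rw [this]
      exact Ideal.mul_mem_left _ _ (Ideal.sub_mem _ (Ideal.mem_sup_left hu1) (Ideal.mem_sup_right hw))
    · have hcm : c ∈ maximalIdeal B := (mem_maximalIdeal _).2 hc
      have : c * v = 0 := by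
        have h0 : c * v ∈ maximalIdeal B * I := Ideal.mul_mem_mul hcm hv
        rw [hI] at h0
        exact (Submodule.mem_bot _).1 h0
      rw [this, add_zero] at hsum
      rw [← hsum]
      exact hw
  · exact inf_le_inf_left _ le_sup_left

end Aux

/-- For functors, let F satisfy (S1), let p : B → A be a surjection in the category of Artinian local
Λ-algebras with residue field k whose kernel I is annihilated by m_B, and let x ∈ F(A). Then the set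
of ideals J ⊆ I for which x lifts to F(B/J) along B/J → A has a least element. -/
theorem result {Λ : Type u} {k : Type u} [CommRing Λ] [Field k] [Algebra Λ k]
    [IsNoetherianRing Λ] [Module.Finite Λ k]
    {F : ArtFun.Art Λ k ⥤ Type v} (h1 : ArtFun.S1 F)
    {B A : ArtFun.Art Λ k} (p : B ⟶ A) (hp : ArtFun.Art.IsSemismallExt p) (x : F.obj A) :
    ∃ (J₀ : Ideal B) (hJ₀ : J₀ ≤ RingHom.ker p.toAlgHom) (hJ₀' : J₀ ≤ IsLocalRing.maximalIdeal B),
      (∃ y : F.obj (ArtFun.Art.quot B J₀ hJ₀'), F.map (ArtFun.Art.quotFactor hJ₀' p hJ₀) y = x) ∧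
      ∀ (J : Ideal B) (hJ : J ≤ RingHom.ker p.toAlgHom) (hJ' : J ≤ IsLocalRing.maximalIdeal B),
        (∃ y : F.obj (ArtFun.Art.quot B J hJ'), F.map (ArtFun.Art.quotFactor hJ' p hJ) y = x) → J₀ ≤ J := by
  classical
  set I : Ideal B := RingHom.ker p.toAlgHom with hIdef
  have hIm : I ≤ maximalIdeal B := ker_le_maximalIdeal p
  let Lifts : Ideal B → Prop := fun J => ∃ (hJ : J ≤ I) (hJ' : J ≤ maximalIdeal B),
    ∃ y : F.obj (quot B J hJ'), F.map (quotFactor hJ' p hJ) y = x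
  -- (1) the kernel itself lifts
  have hI_lifts : Lifts I := by
    refine ⟨le_rfl, hIm, ?_⟩
    have hbij : Function.Bijective (quotFactor hIm p (le_refl I)) := by
      constructor
      · intro y₁ y₂ h
        obtain ⟨b₁, rfl⟩ := quotMk_surjective B I hIm y₁
        obtain ⟨b₂, rfl⟩ := quotMk_surjective B I hIm y₂
        rw [quotMk_eq_iff]
        change p b₁ = p b₂ at h
        change p.toAlgHom (b₁ - b₂) = 0
        rw [map_sub, sub_eq_zero]
        exact h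
      · intro a
        obtain ⟨b, rfl⟩ := hp.1 a
        exact ⟨quotMk B I hIm b, rfl⟩
    obtain ⟨ν, _, hν⟩ := exists_inv_of_bijective _ hbij
    refine ⟨F.map ν x, ?_⟩
    rw [← Functor.map_comp_apply, hν, Functor.map_id_apply]
  -- (4) monotone
  have hmono : ∀ J J' : Ideal B, J ≤ J' → J' ≤ I → Lifts J → Lifts J' := by
    rintro J J' hJJ' hJ'I ⟨hJ, hJ', y, hy⟩
    refine ⟨hJ'I, hJ'I.trans hIm, F.map (quotQuot B J J' (hJ'I.trans hIm) hJJ') y, ?_⟩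
    rw [← Functor.map_comp_apply]
    have := quotQuot_comp p J J' hJJ' hJ'I
    rw [this]
    exact hy
  -- (3) intersections of complementary pairs
  have hinf : ∀ J₁ J₂ : Ideal B, J₁ ⊔ J₂ = I → Lifts J₁ → Lifts J₂ → Lifts (J₁ ⊓ J₂) := by
    rintro J₁ J₂ hsup ⟨hJ₁, hJ₁', y₁, hy₁⟩ ⟨hJ₂, hJ₂', y₂, hy₂⟩
    have h12 : J₁ ⊓ J₂ ≤ I := inf_le_left.trans hJ₁
    have h12' : J₁ ⊓ J₂ ≤ maximalIdeal B := h12.trans hIm
    have hfp : IsFibreProd (quotQuot B (J₁ ⊓ J₂) J₁ hJ₁' inf_le_left)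
        (quotQuot B (J₁ ⊓ J₂) J₂ hJ₂' inf_le_right) (quotFactor hJ₁' p hJ₁) (quotFactor hJ₂' p hJ₂) := by
      refine ⟨?_, ?_, ?_⟩
      · rw [quotQuot_comp p (J₁ ⊓ J₂) J₁ inf_le_left hJ₁, quotQuot_comp p (J₁ ⊓ J₂) J₂ inf_le_right hJ₂]
      · intro b₁ b₂ e₁ e₂
        obtain ⟨c₁, rfl⟩ := quotMk_surjective B _ h12' b₁
        obtain ⟨c₂, rfl⟩ := quotMk_surjective B _ h12' b₂
        rw [quotQuot_quotMk, quotQuot_quotMk, quotMk_eq_iff] at e₁ e₂
        rw [quotMk_eq_iff]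
        exact ⟨e₁, e₂⟩
      · intro a' a'' e
        obtain ⟨b', rfl⟩ := quotMk_surjective B _ hJ₁' a'
        obtain ⟨b'', rfl⟩ := quotMk_surjective B _ hJ₂' a''
        have hmem : b' - b'' ∈ J₁ ⊔ J₂ := by
          rw [hsup]
          change p.toAlgHom (b' - b'') = 0
          rw [map_sub, sub_eq_zero]
          exact e
        rw [Submodule.mem_sup] at hmem
        obtain ⟨j₁, hj₁, j₂, hj₂, hsum⟩ := hmem
        refine ⟨quotMk B _ h12' (b' - j₁), ?_, ?_⟩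
        · rw [quotQuot_quotMk, quotMk_eq_iff]
          have : b' - j₁ - b' = -j₁ := by ring
          rw [this]
          exact J₁.neg_mem hj₁
        · rw [quotQuot_quotMk, quotMk_eq_iff]
          have : b' - j₁ - b'' = j₂ := by
            have h3 : b' - j₁ - b'' = (b' - b'') - j₁ := by ring
            rw [h3, ← hsum]; ring
          rw [this]
          exact hj₂
    have hsurj₂ : Function.Surjective (quotFactor hJ₂' p hJ₂) := by
      intro a
      obtain ⟨b, rfl⟩ := hp.1 a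
      exact ⟨quotMk B J₂ hJ₂' b, rfl⟩
    obtain ⟨z, hz⟩ := h1 _ _ _ _ hfp hsurj₂ ⟨(y₁, y₂), hy₁.trans hy₂.symm⟩
    have hz₁ : F.map (quotQuot B (J₁ ⊓ J₂) J₁ hJ₁' inf_le_left) z = y₁ :=
      congrArg (fun w => w.1.1) hz
    refine ⟨h12, h12', z, ?_⟩
    rw [← quotQuot_comp p (J₁ ⊓ J₂) J₁ inf_le_left hJ₁, Functor.map_comp_apply, hz₁]
    exact hy₁
  -- (2) a minimal element
  obtain ⟨J₀, hJ₀L, hmin⟩ := IsArtinian.set_has_minimal {J : Ideal B | Lifts J} ⟨I, hI_lifts⟩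
  obtain ⟨hJ₀, hJ₀', y₀, hy₀⟩ := hJ₀L
  refine ⟨J₀, hJ₀, hJ₀', ⟨y₀, hy₀⟩, ?_⟩
  intro J hJ hJ' hJL
  have hJL' : Lifts J := ⟨hJ, hJ', hJL⟩
  obtain ⟨J₂', hJ2a, hJ2b, hJ2c, hJ2d⟩ := exists_enlarge I J₀ J hp.2 hJ hJ₀
  have hL2 : Lifts J₂' := hmono J J₂' hJ2a hJ2b hJL'
  have hL3 : Lifts (J₀ ⊓ J₂') := hinf J₀ J₂' hJ2d ⟨hJ₀, hJ₀', y₀, hy₀⟩ hL2
  have hnlt : ¬ J₀ ⊓ J₂' < J₀ := hmin _ hL3
  have heq : J₀ ⊓ J₂' = J₀ := by
    by_contra hne
    exact hnlt (lt_of_le_of_ne inf_le_left hne)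
  rw [hJ2c] at heq
  rw [← heq]
  exact inf_le_right

end Groth.Agent.S12729
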