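import Groth.Statements.S12733
import Groth.Agent.Lib.H59ArtFunTorsor

set_option autoImplicit false
universe u v
open CategoryTheory
open ArtFun

namespace Groth.Agent.S12733

/-- Let F, G be deformation functors on Artinian local Λ-algebras with residue field k (value at k a
point, and condition (RS): the comparison map for A₁ ×_A A₂ is bijective whenever A₂ → A is
surjective). A smooth morphism φ : F → G inducing a bijection on tangent spaces is an isomorphism:
every φ_A is bijective. -/
theorem result {Λ : Type u} {k : Type u} [CommRing Λ] [Field k] [Algebra Λ k]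
    [IsNoetherianRing Λ] [Module.Finite Λ k]
    {F G : ArtFun.Art Λ k ⥤ Type v}
    (hF0 : ArtFun.H0 F) (hF : (∀ ⦃B A A' A'' : ArtFun.Art Λ k⦄ (p' : B ⟶ A') (p'' : B ⟶ A'') (f' : A' ⟶ A) (f'' : A'' ⟶ A)
        (h : ArtFun.Art.IsFibreProd p' p'' f' f''), Function.Surjective f'' → Function.Bijective (ArtFun.cmp F h)))
    (hG0 : ArtFun.H0 G) (hG : (∀ ⦃B A A' A'' : ArtFun.Art Λ k⦄ (p' : B ⟶ A') (p'' : B ⟶ A'') (f' : A' ⟶ A) (f'' : A'' ⟶ A)
        (h : ArtFun.Art.IsFibreProd p' p'' f' f''), Function.Surjective f'' → Function.Bijective (ArtFun.cmp G h)))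
    (φ : F ⟶ G) (hφ : ArtFun.IsSmooth φ) (hd : Function.Bijective (ArtFun.TangentSpace.map φ))
    (A : ArtFun.Art Λ k) : Function.Bijective (φ.app A) := by
  constructor
  · -- injectivity, by induction along the surjection `A → k`
    have key : ∀ {B A : ArtFun.Art Λ k} (μ : B ⟶ A), Function.Surjective μ →
        (Function.Injective (φ.app A) → Function.Injective (φ.app B)) := by
      intro B A μ hμ
      refine Groth.Agent.Lib.ArtFunFactor.surjection_induction
        (P := fun {B A} _ => Function.Injective (φ.app A) → Function.Injective (φ.app B))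
        ?_ ?_ ?_ μ hμ
      · intro B A μ hbij hA x x' hxx'
        obtain ⟨ν, h1, h2⟩ := Groth.Agent.Lib.ArtFunFactor.exists_inv_of_bijective μ hbij
        have : F.map μ x = F.map μ x' := by
          apply hA
          rw [NatTrans.naturality_apply, NatTrans.naturality_apply, hxx']
        have h3 := congrArg (F.map ν) this
        rw [← Functor.map_comp_apply, ← Functor.map_comp_apply, h1, Functor.map_id_apply,
          Functor.map_id_apply] at h3
        exact h3
      · intro B A μ hμ hA x x' hxx'
        have hx : F.map μ x = F.map μ x' := by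
          apply hA
          rw [NatTrans.naturality_apply, NatTrans.naturality_apply, hxx']
        exact Groth.Agent.Lib.H59ArtFunTorsor.eq_of_tangent_injective (F := F) (G := G)
          (fun A => φ.app A) (fun g x => NatTrans.naturality_apply φ g x)
          (fun B A A' A'' p' p'' f' f'' h hs => (hF p' p'' f' f'' h hs.1).2)
          (fun P B p q h => (hF p q _ _ h (ArtFun.Art.dual Λ k).res_surjective).1)
          (fun P B A p₁ p₂ μ h hs => (hG p₁ p₂ μ μ h hs.1).1)
          hd.1 μ hμ x x' hx hxx'
      · intro C B A ν μ hν hμ hA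
        exact hν (hμ hA)
    refine key (ArtFun.Art.toBase A) A.res_surjective ?_
    intro x x' _
    have : Subsingleton (F.obj (ArtFun.Art.base Λ k)) := hF0.2
    exact Subsingleton.elim _ _
  · intro y
    obtain ⟨x₀⟩ := hF0.1
    have hG0s : Subsingleton (G.obj (ArtFun.Art.base Λ k)) := hG0.2
    obtain ⟨z, hz⟩ := hφ (ArtFun.Art.toBase A) A.res_surjective
      ⟨(x₀, y), Subsingleton.elim _ _⟩
    exact ⟨z, congrArg (fun t => t.1.2) hz⟩

end Groth.Agent.S12733
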