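import Groth.Statements.S12735
import Groth.Agent.Lib.H59ArtFunDer
import Groth.Agent.Lib.H71ArtFunProRep
import Groth.Agent.S12716

set_option autoImplicit false
universe u v
open CategoryTheory
open ArtFun

namespace Groth.Agent.S12735

/-- a surjective endomorphism of a Noetherian ring is injective. -/
theorem injective_of_surjective_endo {R : Type*} [CommRing R] [IsNoetherianRing R] (f : R →+* R)
    (hf : Function.Surjective f) : Function.Injective f := by
  let K : ℕ →o Ideal R :=
    { toFun := fun n => RingHom.ker (f ^ n)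
      monotone' := by
        apply monotone_nat_of_le_succ
        intro n x hx
        rw [RingHom.mem_ker] at hx ⊢
        rw [pow_succ', RingHom.mul_def, RingHom.comp_apply, hx, map_zero] }
  obtain ⟨n, hn⟩ := monotone_stabilizes_iff_noetherian.mpr inferInstance K
  rw [injective_iff_map_eq_zero]
  intro x hx
  have hsurj : Function.Surjective (f ^ n) := by
    rw [RingHom.coe_pow]
    exact hf.iterate n
  obtain ⟨y, rfl⟩ := hsurj x
  have hy : y ∈ K (n + 1) := by
    change y ∈ RingHom.ker (f ^ (n + 1))
    rw [RingHom.mem_ker, pow_succ', RingHom.mul_def, RingHom.comp_apply, hx]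
  rw [← hn (n + 1) (Nat.le_succ n)] at hy
  exact hy

open ArtFun.Art Groth.Agent.Lib.H59ArtFunDer in
/-- Let U be a prorepresentable functor on Artinian local Λ-algebras with residue field k and φ : U → U
an endomorphism of functors which is bijective on the tangent space U(k[ε]). Then φ is an
isomorphism: every component is bijective. -/
theorem result {Λ : Type u} {k : Type u} [CommRing Λ] [Field k] [Algebra Λ k]
    [IsNoetherianRing Λ] [Module.Finite Λ k]
    {U : ArtFun.Art Λ k ⥤ Type v} (hU : ArtFun.IsProrepresentable U)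
    (φ : U ⟶ U) (hd : Function.Bijective (ArtFun.TangentSpace.map φ)) (A : ArtFun.Art Λ k) :
    Function.Bijective (φ.app A) := by
  obtain ⟨⟨R, ξ, hξ⟩⟩ := hU
  obtain ⟨f, hf, hfξ⟩ := Groth.Agent.Lib.H71ArtFunProRep.along_surjective (S := R) ξ hξ (ξ.push φ)
  have key : ∀ (A : ArtFun.Art Λ k) (ψ : ArtFun.HomSet R.carrier R.res A),
      ξ.app A ⟨ψ.1.comp f, by rw [← AlgHom.comp_assoc, ψ.2, hf]⟩ = φ.app A (ξ.app A ψ) :=
    fun A ψ => congrArg (fun ζ : ArtFun.Family R.carrier R.res U => ζ.app A ψ) hfξ
  -- `f` is surjective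
  let _ : Algebra R.carrier k := R.res.toRingHom.toAlgebra
  have hst : IsScalarTower Λ R.carrier k :=
    IsScalarTower.of_algebraMap_eq (fun c => (R.res.commutes c).symm)
  have hac : IsAdicComplete (IsLocalRing.maximalIdeal R.carrier) R.carrier := R.isAdicComplete
  have hres : Function.Surjective (algebraMap R.carrier k) := R.res_surjective
  have hsmul : ∀ (a : R.carrier) (y : k), a • y = R.res a * y := fun a y => rfl
  have hfs : Function.Surjective f := by
    refine Groth.Agent.S12716.result R R.carrier hres f ?_ ?_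
    · apply AlgHom.ext
      intro x
      exact DFunLike.congr_fun hf x
    · intro D₁ D₂ h12
      let ψ : Derivation Λ R.carrier k → ArtFun.HomSet R.carrier R.res (dual Λ k) := fun D =>
        ⟨toTsze (M := k) R.res D (fun x y => map_add D x y)
          (fun x y => by rw [Derivation.leibniz, hsmul, hsmul, smul_eq_mul, smul_eq_mul])
          (fun c => D.map_algebraMap c), AlgHom.ext fun _ => rfl⟩
      have h1 : (⟨(ψ D₁).1.comp f, by rw [← AlgHom.comp_assoc, (ψ D₁).2, hf]⟩ :
          ArtFun.HomSet R.carrier R.res (dual Λ k)) =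
          ⟨(ψ D₂).1.comp f, by rw [← AlgHom.comp_assoc, (ψ D₂).2, hf]⟩ := by
        apply Subtype.ext
        apply AlgHom.ext
        intro x
        exact TrivSqZeroExt.ext rfl (h12 x)
      have h2 : φ.app (dual Λ k) (ξ.app (dual Λ k) (ψ D₁)) =
          φ.app (dual Λ k) (ξ.app (dual Λ k) (ψ D₂)) := by
        rw [← key, ← key, h1]
      have h3 : ψ D₁ = ψ D₂ := (hξ (dual Λ k)).1 (hd.1 h2)
      ext x
      have h4 := congrArg (fun θ : ArtFun.HomSet R.carrier R.res (dual Λ k) =>
        (show TrivSqZeroExt k k from θ.1 x).snd) h3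
      exact h4
  have hfi : Function.Injective f := injective_of_surjective_endo (f : R.carrier →+* R.carrier) hfs
  let e : R.carrier ≃ₐ[Λ] R.carrier := AlgEquiv.ofBijective f ⟨hfi, hfs⟩
  have hef : ∀ x, f (e.symm x) = x := fun x => e.apply_symm_apply x
  have hg : R.res.comp (e.symm : R.carrier →ₐ[Λ] R.carrier) = R.res := by
    apply AlgHom.ext
    intro x
    change R.res (e.symm x) = R.res x
    rw [← DFunLike.congr_fun hf (e.symm x)]
    change R.res (f (e.symm x)) = R.res x
    rw [hef]
  constructor
  · intro x y hxy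
    obtain ⟨ψ₁, rfl⟩ := (hξ A).2 x
    obtain ⟨ψ₂, rfl⟩ := (hξ A).2 y
    rw [← key, ← key] at hxy
    have h1 := (hξ A).1 hxy
    congr 1
    apply Subtype.ext
    apply AlgHom.ext
    intro r
    obtain ⟨r', rfl⟩ := hfs r
    exact DFunLike.congr_fun (congrArg Subtype.val h1) r'
  · intro y
    obtain ⟨ψ, rfl⟩ := (hξ A).2 y
    refine ⟨ξ.app A ⟨ψ.1.comp (e.symm : R.carrier →ₐ[Λ] R.carrier),
      by rw [← AlgHom.comp_assoc, ψ.2, hg]⟩, ?_⟩
    rw [← key]
    congr 1
    apply Subtype.ext
    apply AlgHom.ext
    intro r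
    change ψ.1 (e.symm (f r)) = ψ.1 r
    rw [show e.symm (f r) = r from e.symm_apply_apply r]

end Groth.Agent.S12735
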