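import Groth.Statements.S12738
import Groth.Agent.Lib.H59ArtFunTorsor

set_option autoImplicit false
universe u v
open CategoryTheory
open ArtFun

namespace Groth.Agent.S12738

/-- For functors, condition (RS) on a functor F on Artinian local Λ-algebras with residue field k
(bijectivity of F(A₁ ×_A A₂) → F(A₁) ×_{F(A)} F(A₂) for A₂ → A surjective) follows from the same
condition for small extensions A₂ → A. -/
theorem result {Λ : Type u} {k : Type u} [CommRing Λ] [Field k] [Algebra Λ k]
    [IsNoetherianRing Λ] [Module.Finite Λ k]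
    (F : ArtFun.Art Λ k ⥤ Type v)
    (h : ∀ ⦃B A A' A'' : ArtFun.Art Λ k⦄ (p' : B ⟶ A') (p'' : B ⟶ A'') (f' : A' ⟶ A) (f'' : A'' ⟶ A)
        (h : ArtFun.Art.IsFibreProd p' p'' f' f''), ArtFun.Art.IsSmallExt f'' → Function.Bijective (ArtFun.cmp F h)) :
    (∀ ⦃B A A' A'' : ArtFun.Art Λ k⦄ (p' : B ⟶ A') (p'' : B ⟶ A'') (f' : A' ⟶ A) (f'' : A'' ⟶ A)
        (h : ArtFun.Art.IsFibreProd p' p'' f' f''), Function.Surjective f'' → Function.Bijective (ArtFun.cmp F h)) := by
  intro B A A' A'' p' p'' f' f'' hB hf''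
  have key := Groth.Agent.Lib.ArtFunFactor.surjection_induction
    (P := fun {A'' A} f'' => Function.Surjective f'' ∧
      ∀ ⦃B A' : ArtFun.Art Λ k⦄ (p' : B ⟶ A') (p'' : B ⟶ A'') (f' : A' ⟶ A)
        (h : ArtFun.Art.IsFibreProd p' p'' f' f''), Function.Bijective (ArtFun.cmp F h))
    ?_ ?_ ?_ f'' hf''
  · exact key.2 p' p'' f' hB
  · -- bijective maps
    intro A'' A f'' hbij
    refine ⟨hbij.2, ?_⟩
    intro B A' p' p'' f' hB
    have hp' : Function.Bijective p' := by
      constructor
      · intro b₁ b₂ h12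
        apply hB.inj _ _ h12
        apply hbij.1
        rw [← hB.w_apply, ← hB.w_apply, h12]
      · exact Groth.Agent.Lib.ArtFunBasic.surjective_fst_of_isFibreProd hB hbij.2
    obtain ⟨ν, hν1, hν2⟩ := Groth.Agent.Lib.ArtFunFactor.exists_inv_of_bijective p' hp'
    obtain ⟨ν'', hν''1, hν''2⟩ := Groth.Agent.Lib.ArtFunFactor.exists_inv_of_bijective f'' hbij
    constructor
    · intro z₁ z₂ h12
      have h1 : F.map p' z₁ = F.map p' z₂ := congrArg (fun t => t.1.1) h12
      have h2 := congrArg (F.map ν) h1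
      rw [← Functor.map_comp_apply, ← Functor.map_comp_apply, hν1, Functor.map_id_apply,
        Functor.map_id_apply] at h2
      exact h2
    · intro x
      refine ⟨F.map ν x.1.1, ?_⟩
      have e1 : F.map p' (F.map ν x.1.1) = x.1.1 := by
        rw [← Functor.map_comp_apply, hν2, Functor.map_id_apply]
      apply ArtFun.FibProd.ext
      · exact e1
      · change F.map p'' (F.map ν x.1.1) = x.1.2
        have e2 : F.map f'' (F.map p'' (F.map ν x.1.1)) = F.map f'' x.1.2 := by
          rw [← Functor.map_comp_apply, ← hB.w, Functor.map_comp_apply, e1, x.2]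
        have inj : ∀ a b : F.obj A'', F.map f'' a = F.map f'' b → a = b := by
          intro a b hab
          have e3 := congrArg (F.map ν'') hab
          rw [← Functor.map_comp_apply, ← Functor.map_comp_apply, hν''1, Functor.map_id_apply,
            Functor.map_id_apply] at e3
          exact e3
        exact inj _ _ e2
  · -- small extensions
    intro A'' A f'' hs
    exact ⟨hs.1, fun B A' p' p'' f' hB => h p' p'' f' f'' hB hs⟩
  · -- compositions
    intro A'' A₁ A ν μ hν hμ
    refine ⟨hμ.1.comp hν.1, ?_⟩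
    intro B A' p' p'' f' hB
    obtain ⟨B₁, q', q₁, hB₁⟩ :=
      Groth.Agent.Lib.ArtFunFibre.exists_isFibreProd_of_surjective f' μ hμ.1
    obtain ⟨β, hβ1, hβ2⟩ := Groth.Agent.Lib.H59ArtFunTorsor.exists_hom_of_isFibreProd hB₁
      p' (p'' ≫ ν) (by rw [hB.w, Category.assoc])
    have hβ1' : ∀ b, q' (β b) = p' b := fun b => by rw [← hβ1]; rfl
    have hβ2' : ∀ b, q₁ (β b) = ν (p'' b) := fun b => by
      change (β ≫ q₁) b = (p'' ≫ ν) b
      rw [hβ2]
    have hB' : ArtFun.Art.IsFibreProd β p'' q₁ ν := by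
      refine ⟨hβ2, ?_, ?_⟩
      · intro b₁ b₂ h1 h2
        apply hB.inj _ _ _ h2
        rw [← hβ1', ← hβ1', h1]
      · intro b₁ a'' h12
        obtain ⟨b, hb1, hb2⟩ := hB.surj (q' b₁) a'' (by
          rw [hB₁.w_apply, h12]; rfl)
        refine ⟨b, ?_, hb2⟩
        apply hB₁.inj
        · rw [hβ1', hb1]
        · rw [hβ2', hb2, h12]
    constructor
    · intro z₁ z₂ h12
      have h1 : F.map p' z₁ = F.map p' z₂ := congrArg (fun t => t.1.1) h12
      have h2 : F.map p'' z₁ = F.map p'' z₂ := congrArg (fun t => t.1.2) h12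
      have h3 : F.map β z₁ = F.map β z₂ := by
        apply (hμ.2 q' q₁ f' hB₁).1
        apply ArtFun.FibProd.ext
        · change F.map q' (F.map β z₁) = F.map q' (F.map β z₂)
          rw [← Functor.map_comp_apply, ← Functor.map_comp_apply, hβ1, h1]
        · change F.map q₁ (F.map β z₁) = F.map q₁ (F.map β z₂)
          rw [← Functor.map_comp_apply, ← Functor.map_comp_apply, hβ2, Functor.map_comp_apply,
            Functor.map_comp_apply, h2]
      apply (hν.2 β p'' q₁ hB').1
      apply ArtFun.FibProd.ext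
      · exact h3
      · exact h2
    · intro x
      obtain ⟨w, hw⟩ := (hμ.2 q' q₁ f' hB₁).2 ⟨(x.1.1, F.map ν x.1.2), by
        rw [x.2, Functor.map_comp_apply]⟩
      have hw1 : F.map q' w = x.1.1 := congrArg (fun t => t.1.1) hw
      have hw2 : F.map q₁ w = F.map ν x.1.2 := congrArg (fun t => t.1.2) hw
      obtain ⟨z, hz⟩ := (hν.2 β p'' q₁ hB').2 ⟨(w, x.1.2), hw2⟩
      have hz1 : F.map β z = w := congrArg (fun t => t.1.1) hz
      have hz2 : F.map p'' z = x.1.2 := congrArg (fun t => t.1.2) hz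
      refine ⟨z, ?_⟩
      apply ArtFun.FibProd.ext
      · change F.map p' z = x.1.1
        rw [← hβ1, Functor.map_comp_apply, hz1, hw1]
      · exact hz2

end Groth.Agent.S12738
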