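import Groth.Statements.S12739
import Groth.Agent.Lib.H59LimTower
import Groth.Agent.Lib.H59SchlessSmooth3
import Groth.Agent.Lib.H59SchlessVersal
import Groth.Agent.Lib.H59SchlessCRingQuot
import Groth.Agent.Lib.H59SchlessChevalley
import Groth.Agent.Lib.ArtFunSurj

set_option autoImplicit false
universe u v
open CategoryTheory
open ArtFun

namespace Groth.Agent.S12739

/-- Let … → A₃ → A₂ → A₁ be surjective morphisms of Artinian local Λ-algebras with residue field k (Λ
Noetherian, Λ → k finite) with dim_k m_{A_n}/m_{A_n}² bounded. Then lim A_n is a complete local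
Noetherian Λ-algebra with residue field k: some such S carries compatible surjective
augmentation-preserving maps S → A_n identifying S with the set of compatible sequences, and the
kernels of S → A_n define the m_S-adic topology on S. -/
theorem result {Λ : Type u} {k : Type u} [CommRing Λ] [Field k] [Algebra Λ k]
    [IsNoetherianRing Λ] [Module.Finite Λ k]
    (A : ℕ → ArtFun.Art Λ k) (f : ∀ n, A (n + 1) ⟶ A n) (hf : ∀ n, Function.Surjective (f n))
    (d : ℕ) (hd : ∀ n, Module.finrank (IsLocalRing.ResidueField (A n)) (IsLocalRing.CotangentSpace (A n)) ≤ d) :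
    ∃ (S : ArtFun.CRing Λ k) (π : ∀ n, ArtFun.HomSet S.carrier S.res (A n)),
      (∀ n, ArtFun.HomSet.map (f n) (π (n + 1)) = π n) ∧
      (∀ n, Function.Surjective (π n).1) ∧
      (∀ a : ∀ n, A n, (∀ n, f n (a (n + 1)) = a n) → ∃! s : S.carrier, ∀ n, (π n).1 s = a n) ∧
      (∀ n, ∃ N, RingHom.ker (π N).1 ≤ IsLocalRing.maximalIdeal S.carrier ^ n) ∧
      (∀ n, ∃ N, IsLocalRing.maximalIdeal S.carrier ^ N ≤ RingHom.ker (π n).1) := by
  classical
  obtain ⟨G, hG⟩ := (Module.Finite.fg_top : (⊤ : Submodule Λ k).FG)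
  obtain ⟨r, x, hxc, hxm, hgen⟩ := Groth.Agent.Lib.H59LimTower.exists_gens hf d hd
  -- compatible lifts of the generators of `k`
  have hlift : ∀ g : ↥G, ∃ a : ∀ n, A n, (∀ n, f n (a (n + 1)) = a n) ∧ (A 0).res (a 0) = g := by
    intro g
    obtain ⟨y, hy⟩ := (A 0).res_surjective g
    obtain ⟨a, hac, ha0⟩ := Groth.Agent.Lib.H59LimTower.tower_exists 0 (A := fun i => (A i : Type u))
      (fun i => (f i : A (i + 1) → A i)) hf y
    exact ⟨a, hac, by rw [ha0, hy]⟩
  choose gl hglc hgl0 using hlift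
  let fι : (↥G ⊕ Fin r) → k := Sum.elim (fun g => (g : k)) (fun _ => 0)
  have hπ : Function.Surjective (MvPolynomial.aeval fι : MvPolynomial (↥G ⊕ Fin r) Λ →ₐ[Λ] k) := by
    intro c
    have hc : c ∈ Submodule.span Λ (G : Set k) := by rw [hG]; trivial
    induction hc using Submodule.span_induction with
    | mem g hg => exact ⟨MvPolynomial.X (Sum.inl ⟨g, hg⟩), MvPolynomial.aeval_X _ _⟩
    | zero => exact ⟨0, map_zero _⟩
    | add a b _ _ ha hb =>
      obtain ⟨pa, rfl⟩ := ha
      obtain ⟨pb, rfl⟩ := hb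
      exact ⟨pa + pb, map_add _ _ _⟩
    | smul r a _ ha =>
      obtain ⟨pa, rfl⟩ := ha
      exact ⟨r • pa, map_smul _ _ _⟩
  obtain ⟨S₀, X, hS₀, hX, huniv, huniq⟩ :=
    Groth.Agent.Lib.H59SchlessSmooth.exists_smooth_free (↥G ⊕ Fin r) fι hπ
  have hcompl := S₀.isAdicComplete
  let img : ∀ n, (↥G ⊕ Fin r) → A n := fun n => Sum.elim (fun g => gl g n) (fun i => x i n)
  have himg : ∀ n i, (A n).res (img n i) = fι i := by
    intro n i
    rcases i with g | i
    · change (A n).res (gl g n) = g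
      rw [Groth.Agent.Lib.H59LimTower.res_eq_of_compat A f (gl g) (hglc g) n, hgl0]
    · exact (ArtFun.Art.mem_maximalIdeal_iff _ _).1 (hxm i n)
  choose σ hσ using fun n => huniv (A n) (img n) (himg n)
  have hcompat : ∀ n, ArtFun.HomSet.map (f n) (σ (n + 1)) = σ n := by
    intro n
    apply huniq
    intro i
    rw [hσ n i]
    change f n ((σ (n + 1)).1 (X i)) = img n i
    rw [hσ (n + 1) i]
    rcases i with g | i
    · exact hglc g n
    · exact hxc i n
  have hcompat' : ∀ n t, f n ((σ (n + 1)).1 t) = (σ n).1 t := fun n t =>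
    congrArg (fun φ : ArtFun.HomSet S₀.carrier S₀.res (A n) => φ.1 t) (hcompat n)
  have hσsurj : ∀ n, Function.Surjective (σ n).1 := by
    intro n
    apply ((Groth.Agent.Lib.ArtFunSurj.tfae_surjective S₀.res (A n).res S₀.res_surjective
      (A n).res_surjective (σ n).1 (σ n).2).out 1 0).1
    apply le_antisymm
    · exact sup_le (Groth.Agent.Lib.ArtFunFormal.map_maximalIdeal_le S₀ (A n) (σ n))
        (Ideal.pow_le_self two_ne_zero)
    · refine (hgen n).trans (sup_le_sup_right ?_ _)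
      rw [Ideal.span_le]
      rintro _ ⟨i, rfl⟩
      change x i n ∈ _
      have : x i n = (σ n).1 (X (Sum.inr i)) := (hσ n (Sum.inr i)).symm
      rw [this]
      refine Ideal.mem_map_of_mem _ ?_
      rw [ArtFun.CRing.mem_maximalIdeal_iff]
      exact hX (Sum.inr i)
  -- the kernels
  let J : ℕ → Ideal S₀.carrier := fun n => RingHom.ker (σ n).1
  have hJsucc : ∀ n, J (n + 1) ≤ J n := by
    intro n t ht
    have h0 : (σ (n + 1)).1 t = 0 := ht
    change (σ n).1 t = 0
    rw [← hcompat', h0]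
    exact map_zero _
  have hanti : Antitone J := antitone_nat_of_succ_le hJsucc
  have hJle : (⨅ n, J n) ≤ IsLocalRing.maximalIdeal S₀.carrier :=
    (iInf_le _ 0).trans (Groth.Agent.Lib.H59SchlessQuot.ker_le_maximalIdeal (σ 0))
  have hchev := Groth.Agent.Lib.H59SchlessChevalley.exists_le_iInf_sup_pow S₀ J hanti
  let S : ArtFun.CRing Λ k := Groth.Agent.Lib.H59SchlessCRingQuot.quot S₀ _ hJle
  let ρ : S₀.carrier →ₐ[Λ] S.carrier := Groth.Agent.Lib.H59SchlessCRingQuot.quotMk S₀ _ hJle
  have hρ : Function.Surjective ρ := Groth.Agent.Lib.H59SchlessCRingQuot.quotMk_surjective S₀ _ hJle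
  have hρres : S.res.comp ρ = S₀.res := Groth.Agent.Lib.H59SchlessCRingQuot.res_comp_quotMk S₀ _ hJle
  have hρker : RingHom.ker ρ = ⨅ n, J n := Groth.Agent.Lib.H59SchlessCRingQuot.ker_quotMk S₀ _ hJle
  have hdesc : ∀ n, ∃ φ : ArtFun.HomSet S.carrier S.res (A n),
      Groth.Agent.Lib.H59SchlessVersal.pull S ρ hρres φ = σ n := by
    intro n
    apply Groth.Agent.Lib.H59SchlessVersal.exists_descend S ρ hρ hρres (σ n)
    rw [hρker]
    exact iInf_le _ n
  choose π hπ' using hdesc
  have hπρ : ∀ n t, (π n).1 (ρ t) = (σ n).1 t := fun n t =>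
    congrArg (fun φ : ArtFun.HomSet S₀.carrier S₀.res (A n) => φ.1 t) (hπ' n)
  have hρm : ∀ j, (IsLocalRing.maximalIdeal S₀.carrier ^ j).map (ρ : S₀.carrier →+* S.carrier) ≤
      IsLocalRing.maximalIdeal S.carrier ^ j := by
    intro j
    rw [Ideal.map_pow]
    apply Ideal.pow_right_mono
    rw [Ideal.map_le_iff_le_comap]
    intro t ht
    rw [Ideal.mem_comap, ArtFun.CRing.mem_maximalIdeal_iff]
    have : S.res (ρ t) = S₀.res t := DFunLike.congr_fun hρres t
    exact this.trans ((ArtFun.CRing.mem_maximalIdeal_iff S₀ t).1 ht)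
  -- elements of `J N` map into `m_S^j` when `J N ≤ ⨅ J ⊔ m^j`
  have hJmap : ∀ j N, J N ≤ (⨅ i, J i) ⊔ IsLocalRing.maximalIdeal S₀.carrier ^ j →
      ∀ t ∈ J N, ρ t ∈ IsLocalRing.maximalIdeal S.carrier ^ j := by
    intro j N hN t ht
    obtain ⟨t₁, ht₁, t₂, ht₂, rfl⟩ := Submodule.mem_sup.1 (hN ht)
    have h1 : ρ t₁ = 0 := by
      have : t₁ ∈ RingHom.ker ρ := by rw [hρker]; exact ht₁
      exact this
    rw [map_add, h1, zero_add]
    exact hρm j (Ideal.mem_map_of_mem _ ht₂)
  have hpowker : ∀ n, ∃ N, IsLocalRing.maximalIdeal S.carrier ^ N ≤ RingHom.ker (π n).1 :=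
    fun n => Groth.Agent.Lib.H59SchlessQuot.exists_pow_le_ker (π n)
  refine ⟨S, π, ?_, ?_, ?_, ?_, hpowker⟩
  · intro n
    apply Groth.Agent.Lib.H59SchlessVersal.pull_injective S ρ hρ hρres
    rw [Groth.Agent.Lib.H59SchlessVersal.pull_map, hπ', hπ', hcompat]
  · intro n a
    obtain ⟨t, rfl⟩ := hσsurj n a
    exact ⟨ρ t, hπρ n t⟩
  · intro a ha
    -- transitions
    have htrans : ∀ m m', m ≤ m' → ∀ t, (σ m').1 t = a m' → (σ m).1 t = a m := by
      intro m m' hmm'
      induction m', hmm' using Nat.le_induction with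
      | base => exact fun t h => h
      | succ m' _ ih =>
        intro t ht
        apply ih
        rw [← hcompat', ht, ha]
    choose tt htt using fun n => hσsurj n (a n)
    choose N hN using hchev
    let M : ℕ → ℕ := fun j => (Finset.range (j + 1)).sup N + j
    have hMmono : Monotone M := by
      intro i j hij
      exact add_le_add (Finset.sup_mono (Finset.range_mono (Nat.succ_le_succ hij))) hij
    have hMN : ∀ j, N j ≤ M j := fun j =>
      (Finset.le_sup (f := N) (Finset.self_mem_range_succ j)).trans (Nat.le_add_right _ _)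
    have hMj : ∀ j, j ≤ M j := fun j => Nat.le_add_left _ _
    have hdiff : ∀ m m', m ≤ m' → tt m' - tt m ∈ J m := by
      intro m m' hmm'
      change (σ m).1 (tt m' - tt m) = 0
      rw [map_sub, htrans m m' hmm' (tt m') (htt m'), htt m, sub_self]
    have hprec := S.isAdicComplete.toIsPrecomplete
    obtain ⟨L, hL⟩ := IsPrecomplete.prec hprec (f := fun j => ρ (tt (M j))) (by
      intro m n hmn
      rw [SModEq.sub_mem, smul_eq_mul, Ideal.mul_top]
      have h1 : tt (M n) - tt (M m) ∈ J (M m) := hdiff _ _ (hMmono hmn)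
      have h2 : J (M m) ≤ (⨅ i, J i) ⊔ IsLocalRing.maximalIdeal S₀.carrier ^ m :=
        (hanti (hMN m)).trans (hN m)
      have h3 := hJmap m (M m) h2 _ h1
      rw [map_sub] at h3
      have h4 : ρ (tt (M m)) - ρ (tt (M n)) = -(ρ (tt (M n)) - ρ (tt (M m))) := by ring
      rw [h4]
      exact neg_mem h3)
    have hL' : ∀ j, ρ (tt (M j)) - L ∈ IsLocalRing.maximalIdeal S.carrier ^ j := by
      intro j
      have := hL j
      rw [SModEq.sub_mem, smul_eq_mul, Ideal.mul_top] at this
      exact this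
    refine ⟨L, ?_, ?_⟩
    · intro n
      obtain ⟨j₀, hj₀⟩ := hpowker n
      have h1 : ρ (tt (M (max j₀ n))) - L ∈ RingHom.ker (π n).1 :=
        hj₀ (Ideal.pow_le_pow_right (le_max_left j₀ n) (hL' _))
      rw [RingHom.mem_ker, map_sub, sub_eq_zero, hπρ] at h1
      rw [← h1]
      exact htrans n (M (max j₀ n)) ((le_max_right j₀ n).trans (hMj _)) _ (htt _)
    · intro s' hs'
      obtain ⟨t, rfl⟩ := hρ L
      obtain ⟨t', rfl⟩ := hρ s'
      have : t' - t ∈ RingHom.ker ρ := by
        rw [hρker, Submodule.mem_iInf]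
        intro n
        change (σ n).1 (t' - t) = 0
        rw [map_sub, ← hπρ, ← hπρ, hs' n, sub_eq_zero]
        obtain ⟨j₀, hj₀⟩ := hpowker n
        have h1 : ρ (tt (M (max j₀ n))) - ρ t ∈ RingHom.ker (π n).1 :=
          hj₀ (Ideal.pow_le_pow_right (le_max_left j₀ n) (hL' _))
        rw [RingHom.mem_ker, map_sub, sub_eq_zero, hπρ] at h1
        rw [← h1]
        exact (htrans n (M (max j₀ n)) ((le_max_right j₀ n).trans (hMj _)) _ (htt _)).symm
      rw [RingHom.mem_ker, map_sub, sub_eq_zero] at this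
      exact this
  · intro n
    obtain ⟨N, hN⟩ := hchev n
    refine ⟨N, ?_⟩
    intro s hs
    obtain ⟨t, rfl⟩ := hρ s
    apply hJmap n N hN
    change (σ N).1 t = 0
    rw [← hπρ]
    exact hs

end Groth.Agent.S12739
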