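import Groth.Statements.S12743
import Groth.Agent.Lib.H59ArtFunTorsor
import Groth.Agent.S12717

set_option autoImplicit false
universe u v
open CategoryTheory
open ArtFun

namespace Groth.Agent.S12743

/-- For functors, let φ : F → G and ψ : G → H be morphisms of functors on Artinian local Λ-algebras with
residue field k, with F and G deformation functors (values at k a point, condition (RS)). If φ is
surjective on tangent spaces and the composite F → H is smooth, then φ is smooth. -/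
theorem result {Λ : Type u} {k : Type u} [CommRing Λ] [Field k] [Algebra Λ k]
    [IsNoetherianRing Λ] [Module.Finite Λ k]
    {F G H : ArtFun.Art Λ k ⥤ Type v}
    (hF0 : ArtFun.H0 F) (hF : (∀ ⦃B A A' A'' : ArtFun.Art Λ k⦄ (p' : B ⟶ A') (p'' : B ⟶ A'') (f' : A' ⟶ A) (f'' : A'' ⟶ A)
        (h : ArtFun.Art.IsFibreProd p' p'' f' f''), Function.Surjective f'' → Function.Bijective (ArtFun.cmp F h)))
    (hG0 : ArtFun.H0 G) (hG : (∀ ⦃B A A' A'' : ArtFun.Art Λ k⦄ (p' : B ⟶ A') (p'' : B ⟶ A'') (f' : A' ⟶ A) (f'' : A'' ⟶ A)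
        (h : ArtFun.Art.IsFibreProd p' p'' f' f''), Function.Surjective f'' → Function.Bijective (ArtFun.cmp G h)))
    (φ : F ⟶ G) (ψ : G ⟶ H) (hd : Function.Surjective (ArtFun.TangentSpace.map φ))
    (hs : ArtFun.IsSmooth (φ ≫ ψ)) : ArtFun.IsSmooth φ := by
  apply Groth.Agent.S12717.result
  intro B A μ hμ t
  -- lift `t.1.1` to `F(B)` using smoothness of the composite
  have hc : (φ ≫ ψ).app A t.1.1 = H.map μ (ψ.app B t.1.2) := by
    change ψ.app A (φ.app A t.1.1) = H.map μ (ψ.app B t.1.2)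
    rw [t.2, NatTrans.naturality_apply]
  obtain ⟨x', hx'⟩ := hs μ hμ.1 ⟨(t.1.1, ψ.app B t.1.2), hc⟩
  have hx'1 : F.map μ x' = t.1.1 := congrArg (fun t => t.1.1) hx'
  have hFk : Subsingleton (F.obj (ArtFun.Art.base Λ k)) := hF0.2
  obtain ⟨z, hz1, hz2⟩ := Groth.Agent.Lib.H59ArtFunTorsor.exists_adjust (F := F) (G := G)
    (fun A => φ.app A) (fun g x => NatTrans.naturality_apply φ g x) hFk
    (fun P B p q h => (hF p q _ _ h (ArtFun.Art.dual Λ k).res_surjective).2)
    (fun B A A' A'' p' p'' f' f'' h hs => (hG p' p'' f' f'' h hs.1).2)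
    (fun P B p q h => (hG p q _ _ h (ArtFun.Art.dual Λ k).res_surjective).1)
    hd μ hμ x' t.1.2 (by
      rw [← NatTrans.naturality_apply, hx'1, t.2])
  refine ⟨z, ?_⟩
  apply Subtype.ext
  apply Prod.ext
  · change F.map μ z = t.1.1
    rw [hz1, hx'1]
  · exact hz2

end Groth.Agent.S12743
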