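import Groth.Statements.S12746
import Mathlib.CategoryTheory.Limits.Types.Pullbacks
import Mathlib.CategoryTheory.Limits.Shapes.Pullback.IsPullback.Basic
import Mathlib.CategoryTheory.Limits.FunctorCategory.Basic
-- import your own Groth.Agent.* helpers here

set_option autoImplicit false
universe u v
open CategoryTheory
open ArtFun

namespace Groth.Agent.S12746

section Helpers
open CategoryTheory.Limits

variable {Λ : Type u} {k : Type u} [CommRing Λ] [Field k] [Algebra Λ k]
  {F G H : ArtFun.Art Λ k ⥤ Type v} (f : H ⟶ F) (g : G ⟶ F)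

theorem isPullback_app (A : ArtFun.Art Λ k) :
    IsPullback ((pullback.fst f g).app A) ((pullback.snd f g).app A) (f.app A) (g.app A) :=
  (IsPullback.of_hasPullback f g).map ((evaluation (ArtFun.Art Λ k) (Type v)).obj A)

theorem pb_ext (A : ArtFun.Art Λ k) {x y : (pullback f g).obj A}
    (h₁ : (pullback.fst f g).app A x = (pullback.fst f g).app A y)
    (h₂ : (pullback.snd f g).app A x = (pullback.snd f g).app A y) : x = y :=
  Types.ext_of_isPullback (isPullback_app f g A) h₁ h₂

theorem pb_exists (A : ArtFun.Art Λ k) (a : H.obj A) (b : G.obj A) (hab : f.app A a = g.app A b) :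
    ∃ x : (pullback f g).obj A, (pullback.fst f g).app A x = a ∧ (pullback.snd f g).app A x = b :=
  Types.exists_of_isPullback (isPullback_app f g A) a b hab

theorem pb_w (A : ArtFun.Art Λ k) (x : (pullback f g).obj A) :
    f.app A ((pullback.fst f g).app A x) = g.app A ((pullback.snd f g).app A x) := by
  have := (isPullback_app f g A).w
  exact congrFun (congrArg (fun t => (ConcreteCategory.hom t : _ → _)) this) x

end Helpers


/-- For functors, if F, G, H are functors on Artinian local Λ-algebras with residue field k satisfying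
(RS) and f : H → F, g : G → F are morphisms, then the fibre product functor H ×_F G satisfies (RS). -/
theorem result {Λ : Type u} {k : Type u} [CommRing Λ] [Field k] [Algebra Λ k]
    [IsNoetherianRing Λ] [Module.Finite Λ k]
    {F G H : ArtFun.Art Λ k ⥤ Type v} (f : H ⟶ F) (g : G ⟶ F)
    (hF : (∀ ⦃B A A' A'' : ArtFun.Art Λ k⦄ (p' : B ⟶ A') (p'' : B ⟶ A'') (f' : A' ⟶ A) (f'' : A'' ⟶ A)
        (h : ArtFun.Art.IsFibreProd p' p'' f' f''), Function.Surjective f'' → Function.Bijective (ArtFun.cmp F h))) (hG : (∀ ⦃B A A' A'' : ArtFun.Art Λ k⦄ (p' : B ⟶ A') (p'' : B ⟶ A'') (f' : A' ⟶ A) (f'' : A'' ⟶ A)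
        (h : ArtFun.Art.IsFibreProd p' p'' f' f''), Function.Surjective f'' → Function.Bijective (ArtFun.cmp G h))) (hH : (∀ ⦃B A A' A'' : ArtFun.Art Λ k⦄ (p' : B ⟶ A') (p'' : B ⟶ A'') (f' : A' ⟶ A) (f'' : A'' ⟶ A)
        (h : ArtFun.Art.IsFibreProd p' p'' f' f''), Function.Surjective f'' → Function.Bijective (ArtFun.cmp H h))) :
    (∀ ⦃B A A' A'' : ArtFun.Art Λ k⦄ (p' : B ⟶ A') (p'' : B ⟶ A'') (f' : A' ⟶ A) (f'' : A'' ⟶ A)
        (h : ArtFun.Art.IsFibreProd p' p'' f' f''), Function.Surjective f'' → Function.Bijective (ArtFun.cmp (CategoryTheory.Limits.pullback f g) h)) := by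
  intro B A A' A'' p' p'' f' f'' h hs
  have nat₁ : ∀ {X Y : ArtFun.Art Λ k} (m : X ⟶ Y) (x : (Limits.pullback f g).obj X),
      (Limits.pullback.fst f g).app Y ((Limits.pullback f g).map m x) =
        H.map m ((Limits.pullback.fst f g).app X x) :=
    fun m x => NatTrans.naturality_apply (Limits.pullback.fst f g) m x
  have nat₂ : ∀ {X Y : ArtFun.Art Λ k} (m : X ⟶ Y) (x : (Limits.pullback f g).obj X),
      (Limits.pullback.snd f g).app Y ((Limits.pullback f g).map m x) =
        G.map m ((Limits.pullback.snd f g).app X x) :=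
    fun m x => NatTrans.naturality_apply (Limits.pullback.snd f g) m x
  constructor
  · intro x y hxy
    have h1 : (Limits.pullback f g).map p' x = (Limits.pullback f g).map p' y :=
      congrArg (fun t => t.1.1) hxy
    have h2 : (Limits.pullback f g).map p'' x = (Limits.pullback f g).map p'' y :=
      congrArg (fun t => t.1.2) hxy
    apply pb_ext f g B
    · apply (hH p' p'' f' f'' h hs).1
      apply ArtFun.FibProd.ext
      · change H.map p' _ = H.map p' _
        rw [← nat₁, ← nat₁, h1]
      · change H.map p'' _ = H.map p'' _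
        rw [← nat₁, ← nat₁, h2]
    · apply (hG p' p'' f' f'' h hs).1
      apply ArtFun.FibProd.ext
      · change G.map p' _ = G.map p' _
        rw [← nat₂, ← nat₂, h1]
      · change G.map p'' _ = G.map p'' _
        rw [← nat₂, ← nat₂, h2]
  · rintro ⟨⟨x', x''⟩, hx⟩
    have hx' : (Limits.pullback f g).map f' x' = (Limits.pullback f g).map f'' x'' := hx
    obtain ⟨hB, hhB⟩ := (hH p' p'' f' f'' h hs).2
      ⟨((Limits.pullback.fst f g).app A' x', (Limits.pullback.fst f g).app A'' x''), by
        change H.map f' _ = H.map f'' _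
        rw [← nat₁, ← nat₁, hx']⟩
    have hhB1 : H.map p' hB = (Limits.pullback.fst f g).app A' x' := congrArg (fun t => t.1.1) hhB
    have hhB2 : H.map p'' hB = (Limits.pullback.fst f g).app A'' x'' := congrArg (fun t => t.1.2) hhB
    obtain ⟨gB, hgB⟩ := (hG p' p'' f' f'' h hs).2
      ⟨((Limits.pullback.snd f g).app A' x', (Limits.pullback.snd f g).app A'' x''), by
        change G.map f' _ = G.map f'' _
        rw [← nat₂, ← nat₂, hx']⟩
    have hgB1 : G.map p' gB = (Limits.pullback.snd f g).app A' x' := congrArg (fun t => t.1.1) hgB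
    have hgB2 : G.map p'' gB = (Limits.pullback.snd f g).app A'' x'' := congrArg (fun t => t.1.2) hgB
    have hfg : f.app B hB = g.app B gB := by
      apply (hF p' p'' f' f'' h hs).1
      apply ArtFun.FibProd.ext
      · change F.map p' _ = F.map p' _
        rw [← NatTrans.naturality_apply f, ← NatTrans.naturality_apply g, hhB1, hgB1]
        exact pb_w f g A' x'
      · change F.map p'' _ = F.map p'' _
        rw [← NatTrans.naturality_apply f, ← NatTrans.naturality_apply g, hhB2, hgB2]
        exact pb_w f g A'' x''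
    obtain ⟨x, hx1, hx2⟩ := pb_exists f g B hB gB hfg
    refine ⟨x, ?_⟩
    apply ArtFun.FibProd.ext
    · change (Limits.pullback f g).map p' x = x'
      apply pb_ext f g A'
      · rw [nat₁, hx1, hhB1]
      · rw [nat₂, hx2, hgB1]
    · change (Limits.pullback f g).map p'' x = x''
      apply pb_ext f g A''
      · rw [nat₁, hx1, hhB2]
      · rw [nat₂, hx2, hgB2]

end Groth.Agent.S12746
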