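import Groth.Statements.S12747
import Groth.Agent.Lib.H59ArtFunTorsor
import Groth.Agent.S12717
import Mathlib.CategoryTheory.Limits.Types.Pullbacks
import Mathlib.CategoryTheory.Limits.FunctorCategory.Shapes.Pullbacks
import Mathlib.CategoryTheory.Limits.Shapes.Pullback.IsPullback.Basic

set_option autoImplicit false
universe u v
open CategoryTheory
open ArtFun

namespace Groth.Agent.S12747

/-- For functors, let H₁ → G, H₂ → G and q : G → F be morphisms of functors on Artinian local Λ-algebras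
with residue field k where F and G are deformation functors (value at k a point, condition (RS)) and
q is injective on tangent spaces. Then the induced morphism H₁ ×_G H₂ → H₁ ×_F H₂ is smooth. (The
published statement also assumes that infinitesimal automorphisms of G map onto those of F; for
functors that condition is empty.) -/
theorem result {Λ : Type u} {k : Type u} [CommRing Λ] [Field k] [Algebra Λ k]
    [IsNoetherianRing Λ] [Module.Finite Λ k]
    {F G H₁ H₂ : ArtFun.Art Λ k ⥤ Type v} (p₁ : H₁ ⟶ G) (p₂ : H₂ ⟶ G) (q : G ⟶ F)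
    (hF0 : ArtFun.H0 F) (hF : (∀ ⦃B A A' A'' : ArtFun.Art Λ k⦄ (p' : B ⟶ A') (p'' : B ⟶ A'') (f' : A' ⟶ A) (f'' : A'' ⟶ A)
        (h : ArtFun.Art.IsFibreProd p' p'' f' f''), Function.Surjective f'' → Function.Bijective (ArtFun.cmp F h)))
    (hG0 : ArtFun.H0 G) (hG : (∀ ⦃B A A' A'' : ArtFun.Art Λ k⦄ (p' : B ⟶ A') (p'' : B ⟶ A'') (f' : A' ⟶ A) (f'' : A'' ⟶ A)
        (h : ArtFun.Art.IsFibreProd p' p'' f' f''), Function.Surjective f'' → Function.Bijective (ArtFun.cmp G h)))
    (hq : Function.Injective (ArtFun.TangentSpace.map q)) :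
    ArtFun.IsSmooth (CategoryTheory.Limits.pullback.map p₁ p₂ (p₁ ≫ q) (p₂ ≫ q) (𝟙 H₁) (𝟙 H₂) q
      (CategoryTheory.Category.id_comp _).symm (CategoryTheory.Category.id_comp _).symm) := by
  set m := CategoryTheory.Limits.pullback.map p₁ p₂ (p₁ ≫ q) (p₂ ≫ q) (𝟙 H₁) (𝟙 H₂) q
      (CategoryTheory.Category.id_comp _).symm (CategoryTheory.Category.id_comp _).symm with hm
  have hPg := IsPullback.of_hasPullback p₁ p₂
  have hPf := IsPullback.of_hasPullback (p₁ ≫ q) (p₂ ≫ q)
  have hPgA : ∀ A : ArtFun.Art Λ k, IsPullback ((Limits.pullback.fst p₁ p₂).app A)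
      ((Limits.pullback.snd p₁ p₂).app A) (p₁.app A) (p₂.app A) := fun A =>
    Functor.map_isPullback ((evaluation _ _).obj A) hPg
  have hPfA : ∀ A : ArtFun.Art Λ k, IsPullback ((Limits.pullback.fst (p₁ ≫ q) (p₂ ≫ q)).app A)
      ((Limits.pullback.snd (p₁ ≫ q) (p₂ ≫ q)).app A) ((p₁ ≫ q).app A) ((p₂ ≫ q).app A) := fun A =>
    Functor.map_isPullback ((evaluation _ _).obj A) hPf
  have hm1 : ∀ (A : ArtFun.Art Λ k) (x : (Limits.pullback p₁ p₂).obj A),
      (Limits.pullback.fst (p₁ ≫ q) (p₂ ≫ q)).app A (m.app A x) =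
        (Limits.pullback.fst p₁ p₂).app A x := by
    intro A x
    have h : m ≫ Limits.pullback.fst (p₁ ≫ q) (p₂ ≫ q) = Limits.pullback.fst p₁ p₂ := by
      rw [hm, Limits.pullback.lift_fst, Category.comp_id]
    have := congrArg (fun α => α.app A x) h
    simpa using this
  have hm2 : ∀ (A : ArtFun.Art Λ k) (x : (Limits.pullback p₁ p₂).obj A),
      (Limits.pullback.snd (p₁ ≫ q) (p₂ ≫ q)).app A (m.app A x) =
        (Limits.pullback.snd p₁ p₂).app A x := by
    intro A x
    have h : m ≫ Limits.pullback.snd (p₁ ≫ q) (p₂ ≫ q) = Limits.pullback.snd p₁ p₂ := by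
      rw [hm, Limits.pullback.lift_snd, Category.comp_id]
    have := congrArg (fun α => α.app A x) h
    simpa using this
  apply Groth.Agent.S12717.result
  intro B A μ hμ t
  obtain ⟨⟨x, y⟩, hxy⟩ := t
  have hxy' : m.app A x = (Limits.pullback (p₁ ≫ q) (p₂ ≫ q)).map μ y := hxy
  -- the two elements of `G(B)`
  have hg : p₁.app B ((Limits.pullback.fst (p₁ ≫ q) (p₂ ≫ q)).app B y) =
      p₂.app B ((Limits.pullback.snd (p₁ ≫ q) (p₂ ≫ q)).app B y) := by
    apply Groth.Agent.Lib.H59ArtFunTorsor.eq_of_tangent_injective (F := G) (G := F)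
      (fun A => q.app A) (fun g x => NatTrans.naturality_apply q g x)
      (fun B A A' A'' p' p'' f' f'' h hs => (hG p' p'' f' f'' h hs.1).2)
      (fun P B p q' h => (hG p q' _ _ h (ArtFun.Art.dual Λ k).res_surjective).1)
      (fun P B A p₁ p₂ μ h hs => (hF p₁ p₂ μ μ h hs.1).1)
      hq μ hμ
    · rw [← NatTrans.naturality_apply, ← NatTrans.naturality_apply,
        ← NatTrans.naturality_apply, ← NatTrans.naturality_apply, ← hxy', hm1, hm2]
      have := congrArg (fun α => α x) (hPgA A).w
      simpa using this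
    · have := congrArg (fun α => α y) (hPfA B).w
      simpa using this
  obtain ⟨z, hz1, hz2⟩ := Limits.Types.exists_of_isPullback (hPgA B) _ _ hg
  refine ⟨z, ?_⟩
  apply Subtype.ext
  apply Prod.ext
  · change (Limits.pullback p₁ p₂).map μ z = x
    apply Limits.Types.ext_of_isPullback (hPgA A)
    · rw [NatTrans.naturality_apply, hz1, ← NatTrans.naturality_apply, ← hxy', hm1]
    · rw [NatTrans.naturality_apply, hz2, ← NatTrans.naturality_apply, ← hxy', hm2]
  · change m.app B z = y
    apply Limits.Types.ext_of_isPullback (hPfA B)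
    · rw [hm1, hz1]
    · rw [hm2, hz2]

end Groth.Agent.S12747
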