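import Groth.Statements.S12748
import Mathlib

set_option autoImplicit false
universe u v
open CategoryTheory
open ArtFun ArtFun.CRing

namespace Groth.Agent.S12748

/-- Let R' → R be a morphism of complete local Noetherian Λ-algebras with residue field k with an
R'-algebra retraction ρ : R → R', so that R = R' ⊕ I for the ideal I = ker ρ; let x₁, …, x_r ∈ I map
to a basis of I/m_R I and let φ : R'[[X₁, …, X_r]] → R be an R'-algebra map sending X_i to x_i. If
for all large n the induced map R'[[X]]/m^n → R/m_R^n has a left inverse — a Λ-algebra map g_n : R →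
R'[[X]]/m^n with g_n ∘ φ equal to the quotient map — then φ is an isomorphism. -/
theorem result {Λ : Type u} {k : Type u} [CommRing Λ] [Field k] [Algebra Λ k]
    [IsNoetherianRing Λ] [Module.Finite Λ k]
    (R' R : ArtFun.CRing Λ k) [Algebra R'.carrier R.carrier] [IsScalarTower Λ R'.carrier R.carrier]
    (hc : R.res.comp (IsScalarTower.toAlgHom Λ R'.carrier R.carrier) = R'.res)
    (ρ : R.carrier →ₐ[R'.carrier] R'.carrier)
    (r : ℕ) (x : Fin r → R.carrier) (hxI : ∀ i, ρ (x i) = 0)
    (hspan : Ideal.span (Set.range x) ⊔ IsLocalRing.maximalIdeal R.carrier * RingHom.ker ρ = RingHom.ker ρ)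
    (hli : ∀ c : Fin r → R.carrier, (∑ i, c i * x i) ∈ IsLocalRing.maximalIdeal R.carrier * RingHom.ker ρ →
      ∀ i, c i ∈ IsLocalRing.maximalIdeal R.carrier)
    (φ : MvPowerSeries (Fin r) R'.carrier →ₐ[R'.carrier] R.carrier) (hφ : ∀ i, φ (MvPowerSeries.X i) = x i)
    (hinv : ∃ N : ℕ, ∀ n, N ≤ n →
      ∃ g : R.carrier →ₐ[Λ] (MvPowerSeries (Fin r) R'.carrier ⧸
          IsLocalRing.maximalIdeal (MvPowerSeries (Fin r) R'.carrier) ^ n),
        ∀ s, g (φ s) = Ideal.Quotient.mk _ s) :
    Function.Bijective φ := by
  classical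
  obtain ⟨N, hN⟩ := hinv
  have hker : RingHom.ker ρ = Ideal.span (Set.range x) := by
    apply le_antisymm
    · apply Submodule.le_of_le_smul_of_le_jacobson_bot (I := IsLocalRing.maximalIdeal R.carrier)
      · exact IsNoetherian.noetherian _
      · exact IsLocalRing.maximalIdeal_le_jacobson _
      · rw [Ideal.smul_eq_mul]; exact hspan.ge
    · rw [Ideal.span_le]; rintro _ ⟨i, rfl⟩; exact hxI i
  constructor
  · -- injective
    rw [injective_iff_map_eq_zero]
    intro s hs
    have hmem : ∀ n, s ∈ IsLocalRing.maximalIdeal (MvPowerSeries (Fin r) R'.carrier) ^ n := by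
      intro n
      have h1 : s ∈ IsLocalRing.maximalIdeal (MvPowerSeries (Fin r) R'.carrier) ^ (max n N) := by
        obtain ⟨g, hg⟩ := hN (max n N) (le_max_right _ _)
        have h2 := hg s
        rw [hs, map_zero] at h2
        exact Ideal.Quotient.eq_zero_iff_mem.mp h2.symm
      exact Ideal.pow_le_pow_right (le_max_left _ _) h1
    have h3 := Ideal.iInf_pow_eq_bot_of_isLocalRing
      (IsLocalRing.maximalIdeal (MvPowerSeries (Fin r) R'.carrier))
      (IsLocalRing.maximalIdeal.isMaximal _).ne_top
    have h4 : s ∈ (⨅ n, IsLocalRing.maximalIdeal (MvPowerSeries (Fin r) R'.carrier) ^ n) := by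
      rw [Ideal.mem_iInf]; exact hmem
    rw [h3] at h4
    exact h4
  · -- surjective
    have hmap : (Ideal.span (Set.range (MvPowerSeries.X : Fin r → MvPowerSeries (Fin r) R'.carrier))).map
        φ.toRingHom = RingHom.ker ρ := by
      rw [hker, Ideal.map_span, ← Set.range_comp]
      congr 2
      ext i
      simp [hφ]
    have hle : RingHom.ker ρ ≤ IsLocalRing.maximalIdeal R.carrier := by
      apply IsLocalRing.le_maximalIdeal
      exact RingHom.ker_ne_top _
    have hH : IsHausdorff (IsLocalRing.maximalIdeal R.carrier) R.carrier :=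
      R.isAdicComplete.toIsHausdorff
    have haus : IsHausdorff ((Ideal.span (Set.range (MvPowerSeries.X :
        Fin r → MvPowerSeries (Fin r) R'.carrier))).map φ.toRingHom) R.carrier := by
      rw [hmap]
      exact IsHausdorff.of_isLocalRing _ _ (RingHom.ker_ne_top _)
    have hsurj := surjective_of_mk_map_comp_surjective φ.toRingHom
      (I := Ideal.span (Set.range (MvPowerSeries.X : Fin r → MvPowerSeries (Fin r) R'.carrier)))
      (by
        intro y
        obtain ⟨y, rfl⟩ := Ideal.Quotient.mk_surjective y
        refine ⟨MvPowerSeries.C (ρ y), ?_⟩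
        simp only [RingHom.comp_apply]
        rw [Ideal.Quotient.eq, hmap, RingHom.mem_ker]
        have : φ.toRingHom (MvPowerSeries.C (ρ y)) = algebraMap R'.carrier R.carrier (ρ y) := by
          have := φ.commutes (ρ y)
          simpa [MvPowerSeries.algebraMap_apply] using this
        rw [this, map_sub, ρ.commutes]
        simp)
    exact hsurj

end Groth.Agent.S12748
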