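import Groth.Statements.S12749
import Groth.Agent.Lib.H59SchlessHull2
import Groth.Agent.Lib.H59ArtFunMinimal
import Groth.Agent.S12720

set_option autoImplicit false
universe u v
open CategoryTheory
open ArtFun

namespace Groth.Agent.S12749

/-- For functors, suppose k admits no nonzero Λ-derivation into itself (that is, k is separable over the
image of Λ in k). Let F be a functor on Artinian local Λ-algebras with residue field k with F(k) a
point which satisfies (S2), and let ξ be a minimal versal family of F over a complete local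
Noetherian R with residue field k: ξ is versal, and every morphism of such coefficient rings R' → R
along which some formal element of F over R' pushes forward to the formal element of ξ is
surjective. Then ξ is a hull of F: it is moreover bijective on tangent spaces. (The published
statement, for arbitrary k, concludes that the tangent map of the minimal versal family is bijective
on orbits under the Λ-derivations of k; when k has no nonzero Λ-derivation into itself the orbits
are points and this is plain bijectivity, which is the case stated here.) -/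
theorem result {Λ : Type u} {k : Type u} [CommRing Λ] [Field k] [Algebra Λ k]
    [IsNoetherianRing Λ] [Module.Finite Λ k]
    (hk : Subsingleton (Derivation Λ k k))
    {F : ArtFun.Art Λ k ⥤ Type v} (h0 : ArtFun.H0 F) (h2 : ArtFun.Heps F)
    {R : ArtFun.CRing Λ k} (ξ : ArtFun.Family R.carrier R.res F) (hξ : ξ.IsMinimalVersal) :
    ArtFun.IsMiniversal ξ := by
  classical
  open Groth.Agent.Lib.H59SchlessHull Groth.Agent.Lib.H59SchlessCRingQuot in
  refine ⟨hξ.1, ?_, Groth.Agent.Lib.H71ArtFunHull.surjective_app_of_isVersal ξ hξ.1 h0 _⟩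
  have heps : ∀ ⦃P B : ArtFun.Art Λ k⦄ (p : P ⟶ B) (q : P ⟶ ArtFun.Art.dual Λ k)
      (h : ArtFun.Art.IsFibreProd p q (ArtFun.Art.toBase B) (ArtFun.Art.toBase (ArtFun.Art.dual Λ k))),
      Function.Injective (ArtFun.cmp F h) := fun P B p q h => (h2 p q h).1
  intro ψ₁ ψ₂ he
  by_contra hne
  obtain ⟨D, hD, hDder⟩ := Groth.Agent.Lib.H59SchlessHull.exists_diff_of_heps ξ heps ψ₁ ψ₂ he
  have hex : ∃ r₀, Groth.Agent.Lib.H59SchlessHull.der D r₀ ≠ 0 := by
    by_contra hall
    push Not at hall
    apply hne
    apply Groth.Agent.Lib.H59SchlessHull.dual_ext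
    intro r
    have := hall r
    rw [hDder, sub_eq_zero] at this
    exact this
  obtain ⟨r₀, hr₀⟩ := hex
  obtain ⟨x, hxm, hx0, hgood⟩ := Groth.Agent.Lib.H59SchlessHull.exists_good_sup hk ξ heps
    (Groth.Agent.Lib.H59SchlessHull.good_bot ξ hξ.1) D hD (fun i hi => by
      rw [(Submodule.mem_bot _).1 hi]
      exact Groth.Agent.Lib.H59SchlessHull.der_eq_zero_of_apply_eq_zero D 0 (map_zero _)) r₀ hr₀
  have hversal := Groth.Agent.Lib.H59SchlessHull.isVersal_along_of_good ξ hgood
  obtain ⟨g, hg, hgξ⟩ := Groth.Agent.S12720.result h0 _ _ hversal R ξ.toFormalElt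
  have hgs : Function.Surjective g := by
    apply hξ.2 _ _ g hg
    rw [← Groth.Agent.Lib.H59ArtFunMinimal.toFormalElt_along, hgξ]
  have hcomp : Function.Injective ((g.comp (Groth.Agent.Lib.H59SchlessCRingQuot.quotMk R _ hgood.1) :
      R.carrier →ₐ[Λ] R.carrier) : R.carrier →+* R.carrier) :=
    Groth.Agent.Lib.H59ArtFunMinimal.injective_of_surjective_endo _
      (hgs.comp (Groth.Agent.Lib.H59SchlessCRingQuot.quotMk_surjective R _ hgood.1))
  apply hx0
  have hx0' : x = 0 := by
    apply hcomp
    change g (Groth.Agent.Lib.H59SchlessCRingQuot.quotMk R _ hgood.1 x) =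
      g (Groth.Agent.Lib.H59SchlessCRingQuot.quotMk R _ hgood.1 0)
    have hxk : x ∈ RingHom.ker (Groth.Agent.Lib.H59SchlessCRingQuot.quotMk R _ hgood.1) := by
      rw [Groth.Agent.Lib.H59SchlessCRingQuot.ker_quotMk]
      exact Ideal.mem_sup_right (Ideal.subset_span rfl)
    rw [(RingHom.mem_ker.1 hxk), map_zero, map_zero]
    exact (map_zero g).symm
  rw [hx0']
  exact Submodule.zero_mem _

end Groth.Agent.S12749
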