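import Groth.Statements.S1275
import Groth.Agent.Lib.QDomSelf68

set_option autoImplicit false
universe u
open FlatMor

namespace Groth.Agent.S1275

open AlgebraicGeometry CategoryTheory Limits in
/-- Let S be a quasi-compact quasi-separated scheme, U ⊆ W ⊆ S quasi-compact opens, f : X → W a proper
morphism and s : U → X a morphism with f ∘ s the inclusion of U in W. Then there are a U-admissible
blow-up b : S' → S and a morphism s' : b⁻¹(W) → X with f ∘ s' equal to the restriction of b,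
extending s in the sense that on b⁻¹(U) it agrees with s composed with the restriction of b. -/
theorem result {X S : Scheme.{u}} [CompactSpace S] [QuasiSeparatedSpace S]
    (U W : S.Opens) (hUW : U ≤ W) (hU : IsCompact (U : Set S)) (hW : IsCompact (W : Set S))
    (f : X ⟶ (W : Scheme.{u})) [IsProper f] (s : (U : Scheme.{u}) ⟶ X) (hs : s ≫ f = S.homOfLE hUW) :
    ∃ (𝓘 : S.IdealSheafData) (S' : Scheme.{u}) (b : S' ⟶ S), BlowUp.IsBlowUp b 𝓘 ∧ BlowUp.IsAdmissibleFor U 𝓘 ∧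
      ∃ s' : ((b ⁻¹ᵁ W : S'.Opens) : Scheme.{u}) ⟶ X, s' ≫ f = b ∣_ W ∧
        S'.homOfLE (show b ⁻¹ᵁ U ≤ b ⁻¹ᵁ W from fun _ hx => hUW hx) ≫ s' = (b ∣_ U) ≫ s := by
  have : CompactSpace (W : Scheme.{u}) := isCompact_iff_compactSpace.mp hW
  have : CompactSpace X := QuasiCompact.compactSpace_of_compactSpace f
  have : QuasiSeparatedSpace X := quasiSeparatedSpace_of_quasiSeparated (f ≫ W.ι)
  have hf : U.ι ≫ 𝟙 S = s ≫ f ≫ W.ι := by
    rw [Category.comp_id, ← Category.assoc, hs, Scheme.homOfLE_ι]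
  obtain ⟨𝓘, S', b, hb, hadm, W', hle, ft, hft, hWd, hext, hclosed⟩ :=
    Groth.Agent.Lib.QDomSelf68.main_self (𝟙 S) (f ≫ W.ι) U hU s hf
  have hft' : W'.ι ≫ b = ft ≫ f ≫ W.ι := by
    rw [← hft, Category.comp_id]
  have hclosed' : IsClosed (Set.range (pullback.lift W'.ι ft hft')) :=
    Groth.Agent.Lib.QDomMain68.isClosed_range_lift_congr (f ≫ W.ι) _ _ (Category.comp_id b) W'.ι ft
      hft hft' hclosed
  have hW'B : W' ≤ b ⁻¹ᵁ W := by
    intro w hw
    change b w ∈ W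
    have h1 : b w = (ft ≫ f ≫ W.ι) ⟨w, hw⟩ := by
      rw [← hft']
      rfl
    rw [h1, Scheme.Hom.comp_apply, Scheme.Hom.comp_apply]
    exact (f (ft ⟨w, hw⟩)).2
  -- the fibre product over `b⁻¹ W`
  have hbig : IsPullback (pullback.fst (b ∣_ W) f ≫ (b ⁻¹ᵁ W).ι) (pullback.snd (b ∣_ W) f) b
      (f ≫ W.ι) :=
    (IsPullback.of_hasPullback (b ∣_ W) f).paste_horiz (isPullback_morphismRestrict b W).flip
  let e := hbig.isoPullback
  have hcond : S'.homOfLE hW'B ≫ (b ∣_ W) = ft ≫ f := by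
    rw [← cancel_mono W.ι, Category.assoc, morphismRestrict_ι, Scheme.homOfLE_ι_assoc, hft',
      Category.assoc]
  let ΓB : (W' : Scheme.{u}) ⟶ pullback (b ∣_ W) f := pullback.lift (S'.homOfLE hW'B) ft hcond
  have hΓ : ΓB ≫ e.hom = pullback.lift W'.ι ft hft' := by
    apply pullback.hom_ext
    · rw [Category.assoc, hbig.isoPullback_hom_fst, pullback.lift_fst_assoc, pullback.lift_fst,
        Scheme.homOfLE_ι]
    · rw [Category.assoc, hbig.isoPullback_hom_snd, pullback.lift_snd, pullback.lift_snd]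
  have hΓ' : ΓB = pullback.lift W'.ι ft hft' ≫ e.inv := by
    rw [← hΓ, Category.assoc, e.hom_inv_id, Category.comp_id]
  have hΓBclosed : IsClosed (Set.range ΓB) := by
    rw [hΓ', Scheme.Hom.comp_base, TopCat.coe_comp, Set.range_comp]
    exact e.inv.isClosedEmbedding.isClosedMap _ hclosed'
  have himage : (pullback.fst (b ∣_ W) f) '' Set.range ΓB = (b ⁻¹ᵁ W).ι ⁻¹' (W' : Set S') := by
    ext x
    constructor
    · rintro ⟨_, ⟨w, rfl⟩, rfl⟩
      change ((b ⁻¹ᵁ W).ι (pullback.fst (b ∣_ W) f (ΓB w))) ∈ W'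
      rw [← Scheme.Hom.comp_apply, ← Scheme.Hom.comp_apply, pullback.lift_fst_assoc,
        Scheme.homOfLE_ι]
      exact w.2
    · intro hx
      refine ⟨_, ⟨⟨x.1, hx⟩, rfl⟩, ?_⟩
      apply Subtype.ext
      change ((b ⁻¹ᵁ W).ι (pullback.fst (b ∣_ W) f (ΓB ⟨x.1, hx⟩))) = x.1
      rw [← Scheme.Hom.comp_apply, ← Scheme.Hom.comp_apply, pullback.lift_fst_assoc,
        Scheme.homOfLE_ι]
      rfl
  have hC : IsClosed ((b ⁻¹ᵁ W).ι ⁻¹' (W' : Set S')) := by
    rw [← himage]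
    exact (pullback.fst (b ∣_ W) f).isClosedMap _ hΓBclosed
  have hD : Dense ((b ⁻¹ᵁ W).ι ⁻¹' (W' : Set S')) :=
    hWd.preimage (b ⁻¹ᵁ W).ι.isOpenEmbedding.isOpenMap
  have huniv : (b ⁻¹ᵁ W).ι ⁻¹' (W' : Set S') = Set.univ := by
    rw [← hC.closure_eq]
    exact hD.closure_eq
  have hW' : W' = b ⁻¹ᵁ W := by
    apply le_antisymm hW'B
    intro x hx
    have h1 : (⟨x, hx⟩ : (b ⁻¹ᵁ W : S'.Opens)) ∈ (b ⁻¹ᵁ W).ι ⁻¹' (W' : Set S') := by
      rw [huniv]
      trivial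
    exact h1
  subst hW'
  refine ⟨𝓘, S', b, hb, hadm, ft, ?_, hext⟩
  rw [← cancel_mono W.ι, Category.assoc, ← hft', morphismRestrict_ι]

end Groth.Agent.S1275
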