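import Groth.Statements.S12750
import Groth.Agent.Lib.ArtFunFibre
import Mathlib.Tactic
import Mathlib.RingTheory.Nakayama
import Mathlib.RingTheory.Artinian.Ring
import Mathlib.RingTheory.HopkinsLevitzki
-- import your own Groth.Agent.* helpers here

set_option autoImplicit false
universe u v
open CategoryTheory
open ArtFun ArtFun.Art

namespace Groth.Agent.S12750

section Helpers

open IsLocalRing

variable {Λ : Type u} {k : Type u} [CommRing Λ] [Field k] [Algebra Λ k]

theorem maxIdeal_nilpotent (A : ArtFun.Art Λ k) : ∃ n : ℕ, maximalIdeal A ^ n = ⊥ := by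
  have h := IsArtinianRing.isNilpotent_jacobson_bot (R := A)
  rw [IsLocalRing.jacobson_eq_maximalIdeal ⊥ bot_ne_top] at h
  exact h

/-- a morphism which is surjective modulo `m_B A + m_A²` is surjective. -/
theorem surj_of_approx {A B : ArtFun.Art Λ k} (f : B ⟶ A)
    (h : ∀ a : A, ∃ b : B, a - f b ∈
      Ideal.map (f.toAlgHom : B →+* A) (maximalIdeal B) ⊔ maximalIdeal A ^ 2) :
    Function.Surjective f := by
  set IB : Ideal A := Ideal.map (f.toAlgHom : B →+* A) (maximalIdeal B) with hIB
  have hfIB : ∀ b : B, b ∈ maximalIdeal B → (f b : A) ∈ IB := by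
    intro b hb
    exact Ideal.mem_map_of_mem _ hb
  have hIBle : IB ≤ maximalIdeal A := by
    rw [hIB, Ideal.map_le_iff_le_comap]
    intro b hb
    rw [Ideal.mem_comap, ArtFun.Art.mem_maximalIdeal_iff]
    have := ArtFun.Art.res_app f b
    rw [(ArtFun.Art.mem_maximalIdeal_iff B b).mp hb] at this
    exact this
  have hJle' : IB ⊔ maximalIdeal A ^ 2 ≤ maximalIdeal A :=
    sup_le hIBle (Ideal.pow_le_self two_ne_zero)
  -- N1: m_A ≤ IB
  have hN1 : maximalIdeal A ≤ IB := by
    apply Submodule.le_of_le_smul_of_le_jacobson_bot (I := maximalIdeal A)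
      (IsNoetherian.noetherian _) (by rw [jacobson_eq_maximalIdeal ⊥ bot_ne_top])
    intro a ha
    obtain ⟨b, hab⟩ := h a
    have hfb : (f b : A) ∈ maximalIdeal A := by
      have e : (f b : A) = a - (a - f b) := by ring
      rw [e]
      exact Ideal.sub_mem _ ha (hJle' hab)
    have hbm : b ∈ maximalIdeal B := by
      rw [ArtFun.Art.mem_maximalIdeal_iff, ← ArtFun.Art.res_app f b]
      exact (ArtFun.Art.mem_maximalIdeal_iff A _).mp hfb
    have e : a = f b + (a - f b) := by ring
    rw [e]
    refine Submodule.add_mem _ (Submodule.mem_sup_left (hfIB b hbm)) ?_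
    rw [smul_eq_mul, ← pow_two]
    exact hab
  have hJle : IB ⊔ maximalIdeal A ^ 2 ≤ IB :=
    sup_le le_rfl ((Ideal.pow_le_self two_ne_zero).trans hN1)
  have hP : ∀ n : ℕ, ∀ a : A, ∃ b : B, a - f b ∈ IB ^ n := by
    intro n
    induction n with
    | zero => intro a; exact ⟨0, by simp⟩
    | succ n ih =>
      have hclaim : ∀ x ∈ IB, ∃ b : B, b ∈ maximalIdeal B ∧ x - f b ∈ IB ^ (n + 1) := by
        intro x hx
        induction hx using Submodule.span_induction with
        | mem x hx =>
          obtain ⟨β, hβ, rfl⟩ := hx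
          exact ⟨β, hβ, by
            have : (f.toAlgHom : B →+* A) β - f β = 0 := sub_self _
            rw [this]; exact Ideal.zero_mem _⟩
        | zero => exact ⟨0, Ideal.zero_mem _, by simp⟩
        | add x y _ _ hx hy =>
          obtain ⟨b₁, hb₁, h₁⟩ := hx
          obtain ⟨b₂, hb₂, h₂⟩ := hy
          refine ⟨b₁ + b₂, Ideal.add_mem _ hb₁ hb₂, ?_⟩
          have e : x + y - f (b₁ + b₂) = (x - f b₁) + (y - f b₂) := by
            rw [map_add]; ring
          rw [e]
          exact Ideal.add_mem _ h₁ h₂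
        | smul a' x _ hx =>
          obtain ⟨b', hb', h'⟩ := hx
          obtain ⟨b'', h''⟩ := ih a'
          refine ⟨b'' * b', Ideal.mul_mem_left _ _ hb', ?_⟩
          have e : a' • x - f (b'' * b') = a' * (x - f b') + (a' - f b'') * f b' := by
            rw [map_mul, smul_eq_mul]; ring
          rw [e]
          refine Ideal.add_mem _ (Ideal.mul_mem_left _ _ h') ?_
          rw [pow_succ]
          exact Ideal.mul_mem_mul h'' (hfIB b' hb')
      intro a
      obtain ⟨b₀, hab⟩ := h a
      obtain ⟨b, -, hb⟩ := hclaim _ (hJle hab)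
      refine ⟨b₀ + b, ?_⟩
      have e : a - f (b₀ + b) = a - f b₀ - f b := by
        rw [map_add]; ring
      rw [e]
      exact hb
  obtain ⟨n, hn⟩ := maxIdeal_nilpotent B
  have hIBn : IB ^ n = ⊥ := by
    rw [hIB, ← Ideal.map_pow, hn, Ideal.map_bot]
  intro a
  obtain ⟨b, hb⟩ := hP n a
  rw [hIBn, Ideal.mem_bot, sub_eq_zero] at hb
  exact ⟨b, hb.symm⟩

/-- surjectivity can be tested after the quotient by `m_Λ B + m_B²`. -/
theorem surj_of_comp_quot {C B B' : ArtFun.Art Λ k} (g : C ⟶ B) (qB : B ⟶ B')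
    (hkB : RingHom.ker qB.toAlgHom = Ideal.map (algebraMap Λ B) (RingHom.ker (algebraMap Λ k)) ⊔
      IsLocalRing.maximalIdeal B ^ 2)
    (h : Function.Surjective (g ≫ qB)) : Function.Surjective g := by
  apply surj_of_approx
  intro b
  obtain ⟨c, hc⟩ := h (qB b)
  refine ⟨c, ?_⟩
  have hmem : b - g c ∈ RingHom.ker qB.toAlgHom := by
    rw [RingHom.mem_ker, map_sub, sub_eq_zero]
    exact hc.symm
  rw [hkB] at hmem
  have hL : Ideal.map (algebraMap Λ B) (RingHom.ker (algebraMap Λ k)) ≤
      Ideal.map (g.toAlgHom : C →+* B) (maximalIdeal C) := by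
    rw [Ideal.map_le_iff_le_comap]
    intro l hl
    rw [Ideal.mem_comap]
    have e : algebraMap Λ B l = (g.toAlgHom : C →+* B) (algebraMap Λ C l) :=
      (g.toAlgHom.commutes l).symm
    rw [e]
    apply Ideal.mem_map_of_mem
    rw [ArtFun.Art.mem_maximalIdeal_iff, AlgHom.commutes]
    exact hl
  exact sup_le_sup_right hL _ hmem

end Helpers

/-- (1) ⇔ (3): let f : B → A be a morphism in the category of Artinian local Λ-algebras with residue
field k, and let q_B : B → B', q_A : A → A' be the quotients by m_Λ B + m_B² and m_Λ A + m_A² (m_Λ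
the kernel of Λ → k), realised as surjective morphisms with these kernels, with f' : B' → A' the
induced morphism. Then f is an essential surjection — surjective, and every morphism g into B whose
composite with f is surjective is itself surjective — if and only if f' is. (The intermediate
equivalence with the map B/m_B² → A/m_A² is the special case Λ-structure trivialised and follows by
applying this one twice.) -/
theorem result {Λ : Type u} {k : Type u} [CommRing Λ] [Field k] [Algebra Λ k]
    [IsNoetherianRing Λ] [Module.Finite Λ k]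
    {A B A' B' : ArtFun.Art Λ k} (f : B ⟶ A)
    (qB : B ⟶ B') (hqB : Function.Surjective qB)
    (hkB : RingHom.ker qB.toAlgHom = Ideal.map (algebraMap Λ B) (RingHom.ker (algebraMap Λ k)) ⊔ IsLocalRing.maximalIdeal B ^ 2)
    (qA : A ⟶ A') (hqA : Function.Surjective qA)
    (hkA : RingHom.ker qA.toAlgHom = Ideal.map (algebraMap Λ A) (RingHom.ker (algebraMap Λ k)) ⊔ IsLocalRing.maximalIdeal A ^ 2)
    (f' : B' ⟶ A') (hf' : qB ≫ f' = f ≫ qA) :
    (Function.Surjective f ∧ ∀ (C : ArtFun.Art Λ k) (g : C ⟶ B), Function.Surjective (g ≫ f) → Function.Surjective g) ↔ (Function.Surjective f' ∧ ∀ (C : ArtFun.Art Λ k) (g : C ⟶ B'), Function.Surjective (g ≫ f') → Function.Surjective g) := by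
  constructor
  · rintro ⟨hfs, hess⟩
    refine ⟨?_, ?_⟩
    · -- f' surjective
      intro a'
      obtain ⟨a, rfl⟩ := hqA a'
      obtain ⟨b, rfl⟩ := hfs a
      refine ⟨qB b, ?_⟩
      have := congrArg (fun h : B ⟶ A' => h b) hf'
      exact this
    · intro C g hg
      obtain ⟨C', p₁, p₂, hfp⟩ :=
        Groth.Agent.Lib.ArtFunFibre.exists_isFibreProd_of_surjective g qB hqB
      have hp₂f : Function.Surjective (p₂ ≫ f) := by
        apply surj_of_comp_quot (p₂ ≫ f) qA hkA
        intro a'
        obtain ⟨c, hc⟩ := hg a'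
        obtain ⟨b, hb⟩ := hqB (g c)
        obtain ⟨c', hc'₁, hc'₂⟩ := hfp.surj c b hb.symm
        refine ⟨c', ?_⟩
        have h1 := congrArg (fun h : B ⟶ A' => h b) hf'
        simp only [ArtFun.Art.comp_apply] at h1 hc ⊢
        rw [hc'₂, ← h1, hb]
        exact hc
      have hp₂ : Function.Surjective p₂ := hess C' p₂ hp₂f
      intro b'
      obtain ⟨b, rfl⟩ := hqB b'
      obtain ⟨c', rfl⟩ := hp₂ b
      exact ⟨p₁ c', hfp.w_apply c'⟩
  · rintro ⟨hfs, hess⟩
    refine ⟨?_, ?_⟩
    · apply surj_of_comp_quot f qA hkA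
      rw [← hf']
      intro a'
      obtain ⟨b', hb'⟩ := hfs a'
      obtain ⟨b, rfl⟩ := hqB b'
      exact ⟨b, hb'⟩
    · intro C g hg
      apply surj_of_comp_quot g qB hkB
      apply hess C (g ≫ qB)
      rw [Category.assoc, hf', ← Category.assoc]
      intro a'
      obtain ⟨a, rfl⟩ := hqA a'
      obtain ⟨c, hc⟩ := hg a
      refine ⟨c, ?_⟩
      simp only [ArtFun.Art.comp_apply] at hc ⊢
      rw [hc]

end Groth.Agent.S12750
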