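import Groth.Statements.S12751
import Mathlib.Tactic
import Mathlib.LinearAlgebra.TensorProduct.Quotient
import Mathlib.RingTheory.Nakayama
import Mathlib.RingTheory.Artinian.Ring
import Mathlib.RingTheory.HopkinsLevitzki
-- import your own Groth.Agent.* helpers here

set_option autoImplicit false
universe u v
open CategoryTheory
open scoped TensorProduct
open ArtFun ArtFun.Art

namespace Groth.Agent.S12751

section Helpers

open IsLocalRing

variable {Λ : Type u} {k : Type u} [CommRing Λ] [Field k] [Algebra Λ k]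

theorem maxIdeal_nilpotent (A : ArtFun.Art Λ k) : ∃ n : ℕ, maximalIdeal A ^ n = ⊥ := by
  have h := IsArtinianRing.isNilpotent_jacobson_bot (R := A)
  rw [IsLocalRing.jacobson_eq_maximalIdeal ⊥ bot_ne_top] at h
  exact h

/-- the derivation `A → A/(m_B A + m_A²)`. -/
theorem key_aux {A B : ArtFun.Art Λ k} (f : B ⟶ A) [Algebra B A] [Algebra A k]
    (hBA : ∀ b : B, algebraMap B A b = f b) (hAk : ∀ a : A, algebraMap A k a = A.res a)
    (hsub : Subsingleton (k ⊗[A] Ω[A⁄B])) (a : A) :
    ∃ b : B, B.res b = A.res a ∧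
      a - f b ∈ Ideal.map (algebraMap B A) (maximalIdeal B) ⊔ maximalIdeal A ^ 2 := by
  classical
  set J : Ideal A := Ideal.map (algebraMap B A) (maximalIdeal B) ⊔ maximalIdeal A ^ 2 with hJ
  let lift : A → B := fun a => Classical.choose (B.res_surjective (A.res a))
  have hlift : ∀ a, B.res (lift a) = A.res a := fun a =>
    Classical.choose_spec (B.res_surjective (A.res a))
  -- well-definedness
  have hWD : ∀ (a : A) (b : B), B.res b = A.res a →
      Ideal.Quotient.mk J (f b) = Ideal.Quotient.mk J (f (lift a)) := by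
    intro a b hb
    rw [Ideal.Quotient.eq]
    have h1 : b - lift a ∈ maximalIdeal B := by
      rw [ArtFun.Art.mem_maximalIdeal_iff, map_sub, hb, hlift, sub_self]
    have h2 : f b - f (lift a) = algebraMap B A (b - lift a) := by
      rw [hBA, map_sub]
    rw [h2]
    exact Ideal.mem_sup_left (Ideal.mem_map_of_mem _ h1)
  have hfA : ∀ b : B, A.res (f b) = B.res b := fun b => ArtFun.Art.res_app f b
  -- the difference lies in the maximal ideal
  have hdiff : ∀ a : A, a - f (lift a) ∈ maximalIdeal A := by
    intro a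
    rw [ArtFun.Art.mem_maximalIdeal_iff, map_sub, hfA, hlift, sub_self]
  have hsq : ∀ x y : A, x ∈ maximalIdeal A → y ∈ maximalIdeal A →
      Ideal.Quotient.mk J (x * y) = 0 := by
    intro x y hx hy
    rw [Ideal.Quotient.eq_zero_iff_mem]
    apply Ideal.mem_sup_right
    rw [pow_two]
    exact Ideal.mul_mem_mul hx hy
  have halg : ∀ b : B, algebraMap B (A ⧸ J) b = Ideal.Quotient.mk J (f b) := by
    intro b
    rw [IsScalarTower.algebraMap_apply B A (A ⧸ J), hBA]
    rfl
  let D0 : A →ₗ[B] A ⧸ J :=
    { toFun := fun a => Ideal.Quotient.mk J a - Ideal.Quotient.mk J (f (lift a))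
      map_add' := by
        intro a a'
        have h := hWD (a + a') (lift a + lift a') (by rw [map_add, map_add, hlift, hlift])
        rw [← h]
        simp only [map_add]
        abel
      map_smul' := by
        intro b a
        have h := hWD (b • a) (b * lift a) (by
          rw [map_mul, hlift, Algebra.smul_def, map_mul, hBA, hfA])
        rw [← h]
        simp only [RingHom.id_apply, Algebra.smul_def, map_mul, hBA, halg, mul_sub] }
  have hD0 : ∀ a, D0 a = Ideal.Quotient.mk J a - Ideal.Quotient.mk J (f (lift a)) := fun a => rfl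
  have hleib : ∀ a a' : A, D0 (a * a') = a • D0 a' + a' • D0 a := by
    intro a a'
    have h := hWD (a * a') (lift a * lift a') (by rw [map_mul, map_mul, hlift, hlift])
    have hz := hsq _ _ (hdiff a) (hdiff a')
    rw [hD0, hD0, hD0, ← h]
    have e1 : ∀ (x : A) (y : A ⧸ J), x • y = Ideal.Quotient.mk J x * y := fun x y => rfl
    rw [e1, e1]
    simp only [map_mul, map_sub] at hz ⊢
    linear_combination (-1 : A ⧸ J) * hz
  let D : Derivation B A (A ⧸ J) := Derivation.mk' D0 hleib
  let φ : Ω[A⁄B] →ₗ[A] A ⧸ J := D.liftKaehlerDifferential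
  have hφ : ∀ a, φ (KaehlerDifferential.D B A a) = D0 a := fun a =>
    D.liftKaehlerDifferential_comp_D a
  set I : Ideal A := LinearMap.ker (Algebra.linearMap A k) with hI
  have hIm : I = maximalIdeal A := by
    ext x
    rw [ArtFun.Art.mem_maximalIdeal_iff, ← hAk]
    exact LinearMap.mem_ker
  have hsurj : Function.Surjective (Algebra.linearMap A k) := fun c => by
    obtain ⟨a, ha⟩ := A.res_surjective c
    exact ⟨a, by rw [Algebra.linearMap_apply, hAk, ha]⟩
  let e : (A ⧸ I) ≃ₗ[A] k := (Algebra.linearMap A k).quotKerEquivOfSurjective hsurj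
  let T : k ⊗[A] Ω[A⁄B] ≃ₗ[A] Ω[A⁄B] ⧸ (I • (⊤ : Submodule A Ω[A⁄B])) :=
    (TensorProduct.congr e.symm (LinearEquiv.refl A _)).trans
      (TensorProduct.quotTensorEquivQuotSMul _ I)
  have hss : Subsingleton (Ω[A⁄B] ⧸ (I • (⊤ : Submodule A Ω[A⁄B]))) :=
    T.symm.toEquiv.subsingleton
  have htop : I • (⊤ : Submodule A Ω[A⁄B]) = ⊤ :=
    Submodule.Quotient.subsingleton_iff.mp hss
  let V : Submodule A (A ⧸ J) := Submodule.map (Submodule.mkQ J) (maximalIdeal A)
  have hrange : Submodule.map φ ⊤ ≤ V := by
    rw [← KaehlerDifferential.span_range_derivation B A, Submodule.map_span, Submodule.span_le]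
    rintro _ ⟨_, ⟨a, rfl⟩, rfl⟩
    rw [hφ, hD0, ← map_sub]
    exact ⟨_, hdiff a, rfl⟩
  have hIV : I • V = ⊥ := by
    rw [eq_bot_iff, Submodule.smul_le]
    rintro x hx _ ⟨y, hy, rfl⟩
    rw [hIm] at hx
    rw [Submodule.mem_bot]
    exact hsq x y hx hy
  have hφ0 : ∀ ω, φ ω = 0 := by
    intro ω
    have h1 : φ ω ∈ Submodule.map φ (I • ⊤) := ⟨ω, by rw [htop]; trivial, rfl⟩
    rw [Submodule.map_smul''] at h1
    have h2 := smul_mono_right I hrange h1
    rw [hIV] at h2
    exact h2
  refine ⟨lift a, hlift a, ?_⟩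
  have h3 := hφ0 (KaehlerDifferential.D B A a)
  rw [hφ, hD0, ← map_sub, Ideal.Quotient.eq_zero_iff_mem] at h3
  exact h3

theorem key {A B : ArtFun.Art Λ k} (f : B ⟶ A) [Algebra B A] [Algebra A k]
    (hBA : ∀ b : B, algebraMap B A b = f b) (hAk : ∀ a : A, algebraMap A k a = A.res a) :
    Function.Surjective f ↔ Subsingleton (k ⊗[A] Ω[A⁄B]) := by
  constructor
  · intro hf
    have hs : Function.Surjective (algebraMap B A) := fun a => by
      obtain ⟨b, hb⟩ := hf a
      exact ⟨b, (hBA b).trans hb⟩
    have := KaehlerDifferential.subsingleton_of_surjective B A hs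
    infer_instance
  · intro hsub
    set IB : Ideal A := Ideal.map (algebraMap B A) (maximalIdeal B) with hIB
    have hfIB : ∀ b : B, b ∈ maximalIdeal B → (f b : A) ∈ IB := by
      intro b hb
      rw [← hBA]
      exact Ideal.mem_map_of_mem _ hb
    -- N1: m_A ≤ IB
    have hN1 : maximalIdeal A ≤ IB := by
      apply Submodule.le_of_le_smul_of_le_jacobson_bot (I := maximalIdeal A)
        (IsNoetherian.noetherian _) (by rw [jacobson_eq_maximalIdeal ⊥ bot_ne_top])
      intro a ha
      obtain ⟨b, hb, hab⟩ := key_aux f hBA hAk hsub a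
      have hbm : b ∈ maximalIdeal B := by
        rw [ArtFun.Art.mem_maximalIdeal_iff, hb]
        exact (ArtFun.Art.mem_maximalIdeal_iff A a).mp ha
      have e : a = f b + (a - f b) := by ring
      rw [e]
      refine Submodule.add_mem _ (Submodule.mem_sup_left (hfIB b hbm)) ?_
      rw [smul_eq_mul, ← pow_two]
      exact hab
    have hJle : IB ⊔ maximalIdeal A ^ 2 ≤ IB :=
      sup_le le_rfl ((Ideal.pow_le_self two_ne_zero).trans hN1)
    -- induction
    have hP : ∀ n : ℕ, ∀ a : A, ∃ b : B, a - f b ∈ IB ^ n := by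
      intro n
      induction n with
      | zero => intro a; exact ⟨0, by simp⟩
      | succ n ih =>
        have hclaim : ∀ x ∈ IB, ∃ b : B, b ∈ maximalIdeal B ∧ x - f b ∈ IB ^ (n + 1) := by
          intro x hx
          induction hx using Submodule.span_induction with
          | mem x hx =>
            obtain ⟨β, hβ, rfl⟩ := hx
            exact ⟨β, hβ, by rw [hBA, sub_self]; exact Ideal.zero_mem _⟩
          | zero => exact ⟨0, Ideal.zero_mem _, by simp⟩
          | add x y _ _ hx hy =>
            obtain ⟨b₁, hb₁, h₁⟩ := hx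
            obtain ⟨b₂, hb₂, h₂⟩ := hy
            refine ⟨b₁ + b₂, Ideal.add_mem _ hb₁ hb₂, ?_⟩
            have e : x + y - f (b₁ + b₂) = (x - f b₁) + (y - f b₂) := by
              rw [map_add]; ring
            rw [e]
            exact Ideal.add_mem _ h₁ h₂
          | smul a' x _ hx =>
            obtain ⟨b', hb', h'⟩ := hx
            obtain ⟨b'', h''⟩ := ih a'
            refine ⟨b'' * b', Ideal.mul_mem_left _ _ hb', ?_⟩
            have e : a' • x - f (b'' * b') = a' * (x - f b') + (a' - f b'') * f b' := by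
              rw [map_mul, smul_eq_mul]; ring
            rw [e]
            refine Ideal.add_mem _ (Ideal.mul_mem_left _ _ h') ?_
            rw [pow_succ]
            exact Ideal.mul_mem_mul h'' (hfIB b' hb')
        intro a
        obtain ⟨b₀, -, hab⟩ := key_aux f hBA hAk hsub a
        obtain ⟨b, -, hb⟩ := hclaim _ (hJle hab)
        refine ⟨b₀ + b, ?_⟩
        have e : a - f (b₀ + b) = a - f b₀ - f b := by
          rw [map_add]; ring
        rw [e]
        exact hb
    obtain ⟨n, hn⟩ := maxIdeal_nilpotent B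
    have hIBn : IB ^ n = ⊥ := by
      rw [hIB, ← Ideal.map_pow, hn, Ideal.map_bot]
    intro a
    obtain ⟨b, hb⟩ := hP n a
    rw [hIBn, Ideal.mem_bot, sub_eq_zero] at hb
    exact ⟨b, hb.symm⟩

end Helpers

/-- A morphism f : B → A in the category of Artinian local Λ-algebras with residue field k is surjective
if and only if Ω_{B/Λ} ⊗_B k → Ω_{A/Λ} ⊗_A k is surjective; by right exactness of the sequence
Ω_{B/Λ} ⊗_B A → Ω_{A/Λ} → Ω_{A/B} → 0 this surjectivity is the vanishing of Ω_{A/B} ⊗_A k, which is
how it is written here (A a B-algebra through f, k an A-module through the augmentation). -/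
theorem result {Λ : Type u} {k : Type u} [CommRing Λ] [Field k] [Algebra Λ k]
    [IsNoetherianRing Λ] [Module.Finite Λ k]
    {A B : ArtFun.Art Λ k} (f : B ⟶ A) :
    letI : Algebra B A := f.toAlgHom.toRingHom.toAlgebra
    letI : Algebra A k := A.res.toRingHom.toAlgebra
    Function.Surjective f ↔ Subsingleton (k ⊗[A] Ω[A⁄B]) := by
  letI : Algebra B A := f.toAlgHom.toRingHom.toAlgebra
  letI : Algebra A k := A.res.toRingHom.toAlgebra
  exact key f (fun _ => rfl) (fun _ => rfl)

end Groth.Agent.S12751
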