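import Groth.Statements.S12752
import Groth.Agent.S12751
import Groth.Agent.Lib.H59ArtFunDer
import Groth.Agent.Lib.H59ArtFunFibreSep
import Groth.Agent.Lib.ArtFunFibre
import Mathlib.Tactic
import Mathlib.LinearAlgebra.Dual.Lemmas
import Mathlib.RingTheory.Kaehler.Basic
import Mathlib.LinearAlgebra.FiniteDimensional.Lemmas

set_option autoImplicit false
universe u v
open CategoryTheory
open scoped TensorProduct
open ArtFun ArtFun.Art

namespace Groth.Agent.S12752

section Helpers

open IsLocalRing Function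

variable {Λ : Type u} {k : Type u} [CommRing Λ] [Field k] [Algebra Λ k]

/-- the sub-object `ker D` of `B` for a derivation `D : B → k` that does not vanish on `m_B`. -/
theorem exists_kerDer [IsNoetherianRing Λ] [Module.Finite Λ k] (B : Art Λ k) (D : B → k)
    (hadd : ∀ x y, D (x + y) = D x + D y)
    (hmul : ∀ x y, D (x * y) = B.res x • D y + B.res y • D x)
    (hΛ : ∀ c : Λ, D (algebraMap Λ B c) = 0)
    (n₀ : B) (hn₀ : B.res n₀ = 0) (hD : D n₀ ≠ 0) :
    ∃ (C : Art Λ k) (g : C ⟶ B), ∀ b : B, (∃ c : C, g c = b) ↔ D b = 0 := by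
  let φ : B ⟶ Art.dual Λ k :=
    homMk (Groth.Agent.Lib.H59ArtFunDer.toTsze B.res D hadd hmul hΛ) (AlgHom.ext fun _ => rfl)
  have hφ : ∀ b : B, (φ b : DualNumber k) = ((B.res b, D b) : TrivSqZeroExt k k) := fun b => rfl
  have hbase : ∀ x : Art.base Λ k, ((Art.baseToDual (Λ := Λ) (k := k)) x : DualNumber k) =
      TrivSqZeroExt.inl (x : k) := fun x => rfl
  -- adjusting an element into `ker D`
  have hadj : ∀ b : B, ∃ b' : B, D b' = 0 ∧ B.res b' = B.res b ∧ ∃ β : B, b' = b - β * n₀ := by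
    intro b
    obtain ⟨β, hβ⟩ := B.res_surjective (D b / D n₀)
    refine ⟨b - β * n₀, ?_, ?_, β, rfl⟩
    · have h1 : D (b - β * n₀) + D (β * n₀) = D b := by
        rw [← hadd, sub_add_cancel]
      have h2 : D (β * n₀) = D b := by
        rw [hmul, hn₀, zero_smul, add_zero, hβ, smul_eq_mul, div_mul_cancel₀ _ hD]
      rw [h2] at h1
      exact add_eq_right.mp h1
    · rw [map_sub, map_mul, hn₀, mul_zero, sub_zero]
  have hres : ∀ c : k, ∃ (b : B) (x : Art.base Λ k), φ b = Art.baseToDual x ∧ B.res b = c := by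
    intro c
    obtain ⟨b₀, hb₀⟩ := B.res_surjective c
    obtain ⟨b', hDb', hrb', -⟩ := hadj b₀
    refine ⟨b', (c : k), ?_, hrb'.trans hb₀⟩
    rw [hφ, hbase, hDb', hrb', hb₀]
    rfl
  obtain ⟨C, p₁, p₂, hfp⟩ :=
    Groth.Agent.Lib.H59ArtFunFibreSep.exists_isFibreProd_of_res φ Art.baseToDual hres
  refine ⟨C, p₁, fun b => ⟨?_, ?_⟩⟩
  · rintro ⟨c, rfl⟩
    have h := hfp.w_apply c
    rw [hφ, hbase] at h
    have h2 := congrArg TrivSqZeroExt.snd h
    exact h2.trans (TrivSqZeroExt.snd_inl k _)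
  · intro hb
    have h : φ b = Art.baseToDual (B.res b : Art.base Λ k) := by
      rw [hφ, hbase, hb]
      rfl
    obtain ⟨c, hc, -⟩ := hfp.surj b _ h
    exact ⟨c, hc⟩

/-- (B): an essential surjection kills `1 ⊗ dn`, `n ∈ ker f`. -/
theorem tmul_D_eq_zero_of_essential [IsNoetherianRing Λ] [Module.Finite Λ k] {A B : Art Λ k}
    (f : B ⟶ A) [Algebra B k] (hBk : ∀ b : B, algebraMap B k b = B.res b)
    (hf : Surjective f)
    (hess : ∀ (C : Art Λ k) (g : C ⟶ B), Surjective (g ≫ f) → Surjective g)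
    (n : B) (hn : f n = 0) : (1 : k) ⊗ₜ[B] KaehlerDifferential.D Λ B n = 0 := by
  by_contra hne
  obtain ⟨ℓ, hℓ⟩ : ∃ ℓ : Module.Dual k (k ⊗[B] Ω[B⁄Λ]),
      ℓ ((1 : k) ⊗ₜ[B] KaehlerDifferential.D Λ B n) ≠ 0 := by
    by_contra h
    push Not at h
    exact hne ((Module.forall_dual_apply_eq_zero_iff k _).mp h)
  let Dk : B → k := fun b => ℓ ((1 : k) ⊗ₜ[B] KaehlerDifferential.D Λ B b)
  have hadd : ∀ x y, Dk (x + y) = Dk x + Dk y := by
    intro x y
    simp only [Dk, map_add, TensorProduct.tmul_add]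
  have hmul : ∀ x y, Dk (x * y) = B.res x • Dk y + B.res y • Dk x := by
    intro x y
    have h1 : ∀ (z : B) (ω : Ω[B⁄Λ]), (1 : k) ⊗ₜ[B] (z • ω) = B.res z • ((1 : k) ⊗ₜ[B] ω) := by
      intro z ω
      rw [TensorProduct.tmul_smul, TensorProduct.smul_tmul', TensorProduct.smul_tmul',
        Algebra.smul_def, hBk, mul_one, smul_eq_mul, mul_one]
    simp only [Dk, Derivation.leibniz, TensorProduct.tmul_add, map_add, h1, map_smul]
  have hΛ : ∀ c : Λ, Dk (algebraMap Λ B c) = 0 := by
    intro c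
    simp only [Dk, Derivation.map_algebraMap, TensorProduct.tmul_zero, map_zero]
  have hn₀ : B.res n = 0 := by
    rw [← res_app f, hn, map_zero]
  obtain ⟨C, g, hg⟩ := exists_kerDer B Dk hadd hmul hΛ n hn₀ hℓ
  have hsurj : Surjective (g ≫ f) := by
    intro a
    obtain ⟨b, hb⟩ := hf a
    obtain ⟨β, hβ⟩ := B.res_surjective (Dk b / Dk n)
    have h0 : Dk (b - β * n) = 0 := by
      have h1 : Dk (b - β * n) + Dk (β * n) = Dk b := by
        rw [← hadd, sub_add_cancel]
      have h2 : Dk (β * n) = Dk b := by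
        rw [hmul, hn₀, zero_smul, add_zero, hβ, smul_eq_mul, div_mul_cancel₀ _ hℓ]
      rw [h2] at h1
      exact add_eq_right.mp h1
    obtain ⟨c, hc⟩ := (hg _).mpr h0
    refine ⟨c, ?_⟩
    rw [Art.comp_apply, hc, map_sub, map_mul, hn, mul_zero, sub_zero, hb]
  obtain ⟨c, hc⟩ := hess C g hsurj n
  exact hℓ ((hg n).mp ⟨c, hc⟩)

/-- (C): if `1 ⊗ dn = 0` for all `n ∈ ker f`, then `f` has the essential property. -/
theorem essential_of_tmul_D_eq_zero [IsNoetherianRing Λ] [Module.Finite Λ k] {A B : Art Λ k}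
    (f : B ⟶ A) [Algebra B k] (hBk : ∀ b : B, algebraMap B k b = B.res b)
    (hP : ∀ n : B, f n = 0 → (1 : k) ⊗ₜ[B] KaehlerDifferential.D Λ B n = 0)
    (C : Art Λ k) (g : C ⟶ B) (hgf : Surjective (g ≫ f)) : Surjective g := by
  letI : Algebra C B := g.toAlgHom.toRingHom.toAlgebra
  have : IsScalarTower Λ C B := IsScalarTower.of_algebraMap_eq fun x => (g.toAlgHom.commutes x).symm
  apply (Groth.Agent.S12751.key g (fun _ => rfl) hBk).mpr
  have h1 : ∀ b : B, (1 : k) ⊗ₜ[B] KaehlerDifferential.D C B b = 0 := by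
    intro b
    obtain ⟨c, hc⟩ := hgf (f b)
    have hn : f (b - g c) = 0 := by
      rw [map_sub, sub_eq_zero]
      exact hc.symm
    have h2 := hP _ hn
    have h3 := congrArg ((KaehlerDifferential.map Λ C B B).lTensor k) h2
    rw [LinearMap.lTensor_tmul, KaehlerDifferential.map_D, map_zero] at h3
    have h4 : KaehlerDifferential.D C B (g c) = 0 :=
      (KaehlerDifferential.D C B).map_algebraMap c
    rw [Algebra.algebraMap_self, RingHom.id_apply, map_sub, h4, sub_zero] at h3
    exact h3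
  refine subsingleton_of_forall_eq 0 fun z => ?_
  induction z using TensorProduct.induction_on with
  | zero => rfl
  | tmul x ω =>
    have hω : ω ∈ Submodule.span B (Set.range (KaehlerDifferential.D C B)) := by
      rw [KaehlerDifferential.span_range_derivation]
      trivial
    induction hω using Submodule.span_induction with
    | mem ω hω =>
      obtain ⟨b, rfl⟩ := hω
      have : x ⊗ₜ[B] KaehlerDifferential.D C B b = x • ((1 : k) ⊗ₜ[B] KaehlerDifferential.D C B b) := by
        rw [TensorProduct.smul_tmul', smul_eq_mul, mul_one]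
      rw [this, h1, smul_zero]
    | zero => rw [TensorProduct.tmul_zero]
    | add ω₁ ω₂ _ _ h₁ h₂ => rw [TensorProduct.tmul_add, h₁, h₂, add_zero]
    | smul b ω _ h => rw [TensorProduct.tmul_smul, h, smul_zero]
  | add z₁ z₂ h₁ h₂ => rw [h₁, h₂, add_zero]

/-- abstract form of right exactness: a map out of `X ⊗ M` killing all `c ⊗ w` with `μ w = 0` kills the
kernel of `X ⊗ μ`. -/
theorem eq_zero_of_lTensor_eq_zero {R : Type*} [CommRing R] {M N X Y : Type*}
    [AddCommGroup M] [Module R M] [AddCommGroup N] [Module R N] [AddCommGroup X] [Module R X]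
    [AddCommGroup Y] (μ : M →ₗ[R] N) (hμ : Surjective μ) (e : X ⊗[R] M →+ Y)
    (he : ∀ (c : X) (w : M), μ w = 0 → e (c ⊗ₜ[R] w) = 0) (x : X ⊗[R] M)
    (hx : μ.lTensor X x = 0) : e x = 0 := by
  have hex : Exact (LinearMap.ker μ).subtype μ := LinearMap.exact_subtype_ker_map μ
  have hexk : Exact ((LinearMap.ker μ).subtype.lTensor X) (μ.lTensor X) :=
    lTensor_exact X hex hμ
  obtain ⟨y, rfl⟩ := (hexk x).mp hx
  clear hx
  induction y using TensorProduct.induction_on with
  | zero => rw [map_zero, map_zero]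
  | tmul c w =>
    rw [LinearMap.lTensor_tmul, Submodule.subtype_apply]
    exact he c w.1 (LinearMap.mem_ker.mp w.2)
  | add y₁ y₂ h₁ h₂ => rw [map_add, map_add, h₁, h₂, add_zero]

/-- finiteness of `k ⊗ Ω`. -/
theorem finite_tensor_kaehler [IsNoetherianRing Λ] [Module.Finite Λ k] (B : Art Λ k)
    [Algebra B k] : Module.Finite k (k ⊗[B] Ω[B⁄Λ]) := by
  have : Module.Finite Λ B := Groth.Agent.Lib.ArtFunFibre.finite_carrier B
  have : Algebra.FiniteType Λ B := inferInstance
  infer_instance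

/-- (A): for surjective `f`, equality of the dimensions is the vanishing of `1 ⊗ dn`, `n ∈ ker f`. -/
theorem finrank_eq_iff [IsNoetherianRing Λ] [Module.Finite Λ k] {A B : Art Λ k}
    (f : B ⟶ A) [Algebra B A] [Algebra A k] [Algebra B k] [IsScalarTower B A k]
    [IsScalarTower Λ B A]
    (hBA : ∀ b : B, algebraMap B A b = f b)
    (hf : Surjective f) :
    Module.finrank k (k ⊗[B] Ω[B⁄Λ]) = Module.finrank k (k ⊗[A] Ω[A⁄Λ]) ↔
      ∀ n : B, f n = 0 → (1 : k) ⊗ₜ[B] KaehlerDifferential.D Λ B n = 0 := by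
  have hs : Surjective (algebraMap B A) := fun a => by
    obtain ⟨b, hb⟩ := hf a
    exact ⟨b, (hBA b).trans hb⟩
  let μ := KaehlerDifferential.mapBaseChange Λ B A
  have hμs : Surjective μ := KaehlerDifferential.mapBaseChange_surjective Λ B A hs
  let ψ : k ⊗[A] (A ⊗[B] Ω[B⁄Λ]) →ₗ[k] k ⊗[A] Ω[A⁄Λ] := μ.baseChange k
  have hψs : Surjective ψ := LinearMap.lTensor_surjective k hμs
  let e : k ⊗[A] (A ⊗[B] Ω[B⁄Λ]) ≃ₗ[k] k ⊗[B] Ω[B⁄Λ] :=
    TensorProduct.AlgebraTensorModule.cancelBaseChange B A k k Ω[B⁄Λ]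
  have hfinB : Module.Finite k (k ⊗[B] Ω[B⁄Λ]) := finite_tensor_kaehler B
  have hfinA : Module.Finite k (k ⊗[A] Ω[A⁄Λ]) := finite_tensor_kaehler A
  have hfinM : Module.Finite k (k ⊗[A] (A ⊗[B] Ω[B⁄Λ])) := Module.Finite.equiv e.symm
  have hψ_apply : ∀ (c : k) (n : B), ψ (c ⊗ₜ[A] ((1 : A) ⊗ₜ[B] KaehlerDifferential.D Λ B n)) =
      c ⊗ₜ[A] KaehlerDifferential.D Λ A (f n) := by
    intro c n
    simp only [ψ, μ, LinearMap.baseChange_tmul, KaehlerDifferential.mapBaseChange_tmul, one_smul,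
      KaehlerDifferential.map_D, hBA]
  have he_apply : ∀ (c : k) (n : B), e (c ⊗ₜ[A] ((1 : A) ⊗ₜ[B] KaehlerDifferential.D Λ B n)) =
      c ⊗ₜ[B] KaehlerDifferential.D Λ B n := by
    intro c n
    simp only [e, TensorProduct.AlgebraTensorModule.cancelBaseChange_tmul, one_smul]
  constructor
  · intro hfr n hn
    have hfr' : Module.finrank k (k ⊗[A] (A ⊗[B] Ω[B⁄Λ])) = Module.finrank k (k ⊗[A] Ω[A⁄Λ]) := by
      rw [e.finrank_eq, hfr]
    have hψi : Injective ψ := (LinearMap.injective_iff_surjective_of_finrank_eq_finrank hfr').mpr hψs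
    have h1 : ψ ((1 : k) ⊗ₜ[A] ((1 : A) ⊗ₜ[B] KaehlerDifferential.D Λ B n)) = ψ 0 := by
      rw [hψ_apply, hn, map_zero, TensorProduct.tmul_zero, map_zero]
    have h2 := hψi h1
    have h3 := congrArg e h2
    rw [he_apply, map_zero] at h3
    exact h3
  · intro hP
    have hψi : Injective ψ := by
      rw [injective_iff_map_eq_zero]
      intro x hx
      have hx' : μ.lTensor k x = 0 := hx
      have h0 := eq_zero_of_lTensor_eq_zero μ hμs e.toLinearMap.toAddMonoidHom ?_ x hx'
      · exact e.injective (h0.trans (map_zero e).symm)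
      · intro c w hw
        obtain ⟨z, rfl⟩ :=
          (KaehlerDifferential.exact_kerCotangentToTensor_mapBaseChange Λ B A hs w).mp hw
        obtain ⟨n, rfl⟩ := Ideal.toCotangent_surjective _ z
        rw [KaehlerDifferential.kerCotangentToTensor_toCotangent]
        change e (c ⊗ₜ[A] ((1 : A) ⊗ₜ[B] KaehlerDifferential.D Λ B n.1)) = 0
        rw [he_apply]
        have hn : f n.1 = 0 := by
          rw [← hBA]
          exact RingHom.mem_ker.mp n.2
        have : c ⊗ₜ[B] KaehlerDifferential.D Λ B n.1 =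
            c • ((1 : k) ⊗ₜ[B] KaehlerDifferential.D Λ B n.1) := by
          rw [TensorProduct.smul_tmul', smul_eq_mul, mul_one]
        rw [this, hP _ hn, smul_zero]
    have hb : Bijective ψ := ⟨hψi, hψs⟩
    rw [← e.finrank_eq, (LinearEquiv.ofBijective ψ hb).finrank_eq]


end Helpers

/-- (a) ⇔ (c): a morphism f : B → A in the category of Artinian local Λ-algebras with residue field k is
an essential surjection (surjective, and any morphism g into B with g followed by f surjective is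
surjective) if and only if the map Ω_{B/Λ} ⊗_B k → Ω_{A/Λ} ⊗_A k is an isomorphism of k-vector
spaces. These spaces are finite-dimensional, so the isomorphism condition is written as: the map is
surjective (that is, Ω_{A/B} ⊗_A k = 0) and the two spaces have equal dimension. -/
theorem result {Λ : Type u} {k : Type u} [CommRing Λ] [Field k] [Algebra Λ k]
    [IsNoetherianRing Λ] [Module.Finite Λ k]
    {A B : ArtFun.Art Λ k} (f : B ⟶ A) :
    letI : Algebra B A := f.toAlgHom.toRingHom.toAlgebra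
    letI : Algebra A k := A.res.toRingHom.toAlgebra
    letI : Algebra B k := B.res.toRingHom.toAlgebra
    (Function.Surjective f ∧ ∀ (C : ArtFun.Art Λ k) (g : C ⟶ B), Function.Surjective (g ≫ f) → Function.Surjective g) ↔
      (Subsingleton (k ⊗[A] Ω[A⁄B]) ∧
        Module.finrank k (k ⊗[B] Ω[B⁄Λ]) = Module.finrank k (k ⊗[A] Ω[A⁄Λ])) := by
  letI : Algebra B A := f.toAlgHom.toRingHom.toAlgebra
  letI : Algebra A k := A.res.toRingHom.toAlgebra
  letI : Algebra B k := B.res.toRingHom.toAlgebra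
  have : IsScalarTower B A k := IsScalarTower.of_algebraMap_eq fun b => (res_app f b).symm
  have : IsScalarTower Λ B A :=
    IsScalarTower.of_algebraMap_eq fun x => (f.toAlgHom.commutes x).symm
  constructor
  · rintro ⟨hf, hess⟩
    refine ⟨(Groth.Agent.S12751.key f (fun _ => rfl) (fun _ => rfl)).mp hf, ?_⟩
    exact (finrank_eq_iff f (fun _ => rfl) hf).mpr
      (fun n hn => tmul_D_eq_zero_of_essential f (fun _ => rfl) hf hess n hn)
  · rintro ⟨hsub, hfr⟩
    have hf := (Groth.Agent.S12751.key f (fun _ => rfl) (fun _ => rfl)).mpr hsub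
    refine ⟨hf, fun C g hgf => ?_⟩
    exact essential_of_tmul_D_eq_zero f (fun _ => rfl)
      ((finrank_eq_iff f (fun _ => rfl) hf).mp hfr) C g hgf

end Groth.Agent.S12752
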