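import Groth.Statements.S12753
import Groth.Agent.S12750
import Groth.Agent.S12752
import Mathlib.RingTheory.Etale.Field
import Mathlib.RingTheory.Smooth.Basic
import Mathlib.LinearAlgebra.Dual.Lemmas
import Mathlib.Tactic

set_option autoImplicit false
universe u v
open CategoryTheory
open ArtFun ArtFun.Art

namespace Groth.Agent.S12753

section Helpers

open IsLocalRing Function

/-- abstract lemma: for a square-zero thickening `π : P → k` of a separable extension `k / K`, every non-zero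
element of `ker π` is detected by a `K`-derivation `P → k`. -/
theorem exists_der_abstract {K k P : Type u} [Field K] [Field k] [Algebra K k]
    [Algebra.IsSeparable K k] [CommRing P] [Algebra K P] (π : P →ₐ[K] k) (hπ : Surjective π)
    (hsq : ∀ u v : P, π u = 0 → π v = 0 → u * v = 0) (p₀ : P) (hp₀ : p₀ ≠ 0) (hπp₀ : π p₀ = 0) :
    ∃ δ : P → k, (∀ x y, δ (x + y) = δ x + δ y) ∧
      (∀ x y, δ (x * y) = π x • δ y + π y • δ x) ∧ (∀ c : K, δ (algebraMap K P c) = 0) ∧
      δ p₀ ≠ 0 := by
  have : Algebra.FormallyEtale K k := Algebra.FormallyEtale.of_isSeparable K k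
  have hnil : IsNilpotent (RingHom.ker (π : P →+* k)) := by
    refine ⟨2, ?_⟩
    rw [Ideal.zero_eq_bot, eq_bot_iff, pow_two, Ideal.mul_le]
    intro u hu v hv
    rw [Ideal.mem_bot]
    exact hsq u v hu hv
  let σ : k →ₐ[K] P := Algebra.FormallySmooth.liftOfSurjective (AlgHom.id K k) π hπ hnil
  have hσ : ∀ c : k, π (σ c) = c := fun c =>
    Algebra.FormallySmooth.liftOfSurjective_apply (AlgHom.id K k) π hπ hnil c
  let _ : Module k P := Module.compHom P σ.toRingHom
  have hsmul : ∀ (c : k) (v : P), c • v = σ c * v := fun c v => rfl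
  obtain ⟨ℓ, hℓ⟩ : ∃ ℓ : Module.Dual k P, ℓ p₀ ≠ 0 := by
    by_contra h
    push Not at h
    exact hp₀ ((Module.forall_dual_apply_eq_zero_iff k _).mp h)
  have hker : ∀ u : P, π (u - σ (π u)) = 0 := by
    intro u
    rw [map_sub, hσ, sub_self]
  refine ⟨fun u => ℓ (u - σ (π u)), ?_, ?_, ?_, ?_⟩
  · intro x y
    show ℓ _ = ℓ _ + ℓ _
    rw [← map_add]
    congr 1
    rw [map_add, map_add]
    ring
  · intro x y
    have e : x * y - σ (π (x * y)) = π x • (y - σ (π y)) + π y • (x - σ (π x)) := by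
      have h0 := hsq _ _ (hker x) (hker y)
      rw [hsmul, hsmul, map_mul, map_mul]
      linear_combination h0
    show ℓ _ = _
    rw [e, map_add, map_smul, map_smul]
  · intro c
    show ℓ _ = _
    rw [AlgHom.commutes, AlgHom.commutes, sub_self, map_zero]
  · show ℓ _ ≠ 0
    rw [hπp₀, map_zero, sub_zero]
    exact hℓ

variable {Λ : Type u} {k : Type u} [CommRing Λ] [Field k] [Algebra Λ k]

/-- Lemma Sep: in the separable case, an element of `m_B` outside `m_Λ B + m_B²` is detected by a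
`Λ`-derivation `B → k`. -/
theorem exists_der [IsNoetherianRing Λ] [Module.Finite Λ k]
    [Algebra.IsSeparable (↥(algebraMap Λ k).range) k] (B : Art Λ k) (b : B) (hb : B.res b = 0)
    (hbW : b ∉ Ideal.map (algebraMap Λ B) (RingHom.ker (algebraMap Λ k)) ⊔ maximalIdeal B ^ 2) :
    ∃ D : B → k, (∀ x y, D (x + y) = D x + D y) ∧
      (∀ x y, D (x * y) = B.res x • D y + B.res y • D x) ∧
      (∀ c : Λ, D (algebraMap Λ B c) = 0) ∧ D b ≠ 0 := by
  set 𝔭 : Ideal Λ := RingHom.ker (algebraMap Λ k) with h𝔭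
  set W : Ideal B := Ideal.map (algebraMap Λ B) 𝔭 ⊔ maximalIdeal B ^ 2 with hW
  have hint : Algebra.IsIntegral Λ k := inferInstance
  have hmax : 𝔭.IsMaximal := by
    have := Ideal.isMaximal_comap_of_isIntegral_of_isMaximal (R := Λ) (S := k) ⊥
    rwa [← RingHom.ker_eq_comap_bot] at this
  letI : Field (Λ ⧸ 𝔭) := Ideal.Quotient.field 𝔭
  letI : Algebra (Λ ⧸ 𝔭) k := (RingHom.kerLift (algebraMap Λ k)).toAlgebra
  have halgk : ∀ c : Λ, algebraMap (Λ ⧸ 𝔭) k (Ideal.Quotient.mk 𝔭 c) = algebraMap Λ k c :=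
    fun c => rfl
  -- separability over `Λ ⧸ 𝔭`
  have hsep : Algebra.IsSeparable (Λ ⧸ 𝔭) k := by
    refine ⟨fun x => ?_⟩
    set k₀ := (algebraMap Λ k).range with hk₀
    have hsepx : (minpoly ↥k₀ x).Separable := Algebra.IsSeparable.isSeparable ↥k₀ x
    let e : ↥k₀ →+* Λ ⧸ 𝔭 := (RingHom.quotientKerEquivRange (algebraMap Λ k)).symm.toRingHom
    have he : (algebraMap (Λ ⧸ 𝔭) k).comp e = algebraMap ↥k₀ k := by
      ext y
      obtain ⟨z, rfl⟩ := (RingHom.quotientKerEquivRange (algebraMap Λ k)).surjective y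
      show algebraMap (Λ ⧸ 𝔭) k ((RingHom.quotientKerEquivRange (algebraMap Λ k)).symm
        ((RingHom.quotientKerEquivRange (algebraMap Λ k)) z)) = _
      rw [RingEquiv.symm_apply_apply]
      obtain ⟨c, rfl⟩ := Ideal.Quotient.mk_surjective z
      rfl
    have h0 : Polynomial.aeval x ((minpoly ↥k₀ x).map e) = 0 := by
      rw [Polynomial.aeval_def, Polynomial.eval₂_map, he, ← Polynomial.aeval_def, minpoly.aeval]
    have hdvd : minpoly (Λ ⧸ 𝔭) x ∣ (minpoly ↥k₀ x).map e := minpoly.dvd _ _ h0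
    exact (hsepx.map (f := e)).of_dvd hdvd
  -- the square-zero thickening `P = B ⧸ W`
  have hWres : ∀ w ∈ W, B.res w = 0 := by
    intro w hw
    rw [← Art.mem_maximalIdeal_iff]
    have hle : W ≤ maximalIdeal B := by
      refine sup_le ?_ (Ideal.pow_le_self two_ne_zero)
      rw [Ideal.map_le_iff_le_comap]
      intro c hc
      rw [Ideal.mem_comap, Art.mem_maximalIdeal_iff, AlgHom.commutes]
      exact hc
    exact hle hw
  have hΛW : ∀ c ∈ 𝔭, algebraMap Λ (B ⧸ W) c = 0 := by
    intro c hc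
    have h1 : algebraMap Λ (B ⧸ W) c = Ideal.Quotient.mk W (algebraMap Λ B c) := rfl
    rw [h1, Ideal.Quotient.eq_zero_iff_mem]
    exact Submodule.mem_sup_left (Ideal.mem_map_of_mem _ hc)
  letI : Algebra (Λ ⧸ 𝔭) (B ⧸ W) := (Ideal.Quotient.lift 𝔭 (algebraMap Λ (B ⧸ W)) hΛW).toAlgebra
  have halgP : ∀ c : Λ, algebraMap (Λ ⧸ 𝔭) (B ⧸ W) (Ideal.Quotient.mk 𝔭 c) =
      Ideal.Quotient.mk W (algebraMap Λ B c) := fun c => rfl
  let π₀ : B ⧸ W →+* k := Ideal.Quotient.lift W (B.res : B →+* k) hWres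
  have hπ₀ : ∀ x : B, π₀ (Ideal.Quotient.mk W x) = B.res x := fun x => rfl
  let π : B ⧸ W →ₐ[Λ ⧸ 𝔭] k :=
    { π₀ with
      commutes' := by
        intro r
        obtain ⟨c, rfl⟩ := Ideal.Quotient.mk_surjective r
        show π₀ _ = _
        rw [halgP, hπ₀, halgk, AlgHom.commutes] }
  have hπ : ∀ x : B, π (Ideal.Quotient.mk W x) = B.res x := fun x => rfl
  have hπs : Surjective π := by
    intro c
    obtain ⟨x, hx⟩ := B.res_surjective c
    exact ⟨Ideal.Quotient.mk W x, hx⟩
  have hsq : ∀ u v : B ⧸ W, π u = 0 → π v = 0 → u * v = 0 := by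
    intro u v hu hv
    obtain ⟨x, rfl⟩ := Ideal.Quotient.mk_surjective u
    obtain ⟨y, rfl⟩ := Ideal.Quotient.mk_surjective v
    rw [hπ, ← Art.mem_maximalIdeal_iff] at hu hv
    rw [← map_mul, Ideal.Quotient.eq_zero_iff_mem]
    refine Submodule.mem_sup_right ?_
    rw [pow_two]
    exact Ideal.mul_mem_mul hu hv
  have hp₀ : Ideal.Quotient.mk W b ≠ 0 := by
    rw [Ne, Ideal.Quotient.eq_zero_iff_mem]
    exact hbW
  obtain ⟨δ, hadd, hmul, hK, hδ⟩ :=
    exists_der_abstract π hπs hsq (Ideal.Quotient.mk W b) hp₀ (by rw [hπ, hb])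
  refine ⟨fun x => δ (Ideal.Quotient.mk W x), ?_, ?_, ?_, hδ⟩
  · intro x y
    show δ _ = _
    rw [map_add, hadd]
  · intro x y
    show δ _ = _
    rw [map_mul, hmul, hπ, hπ]
  · intro c
    show δ _ = _
    rw [← halgP, hK]

/-- `m_Λ A` is contained in the extension of the maximal ideal along any morphism. -/
theorem mΛ_le_map {A C : Art Λ k} (h : C ⟶ A) :
    Ideal.map (algebraMap Λ A) (RingHom.ker (algebraMap Λ k)) ≤
      Ideal.map (h.toAlgHom : C →+* A) (maximalIdeal C) := by
  rw [Ideal.map_le_iff_le_comap]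
  intro l hl
  rw [Ideal.mem_comap]
  have e : algebraMap Λ A l = (h.toAlgHom : C →+* A) (algebraMap Λ C l) :=
    (h.toAlgHom.commutes l).symm
  rw [e]
  apply Ideal.mem_map_of_mem
  rw [Art.mem_maximalIdeal_iff, AlgHom.commutes]
  exact hl

end Helpers

/-- Suppose k is separable over the image of Λ → k. A morphism f : B → A in the category of Artinian
local Λ-algebras with residue field k is an essential surjection (surjective, and any morphism g
into B with g followed by f surjective is surjective) if and only if the map of cotangent spaces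
relative to Λ, m_B/(m_Λ B + m_B²) → m_A/(m_Λ A + m_A²), is an isomorphism; surjectivity and
injectivity are written out in terms of ideals, m_Λ being the kernel of Λ → k. -/
theorem result {Λ : Type u} {k : Type u} [CommRing Λ] [Field k] [Algebra Λ k]
    [IsNoetherianRing Λ] [Module.Finite Λ k]
    [Algebra.IsSeparable (↥(algebraMap Λ k).range) k]
    {A B : ArtFun.Art Λ k} (f : B ⟶ A) :
    (Function.Surjective f ∧ ∀ (C : ArtFun.Art Λ k) (g : C ⟶ B), Function.Surjective (g ≫ f) → Function.Surjective g) ↔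
      (Ideal.map (algebraMap Λ A) (RingHom.ker (algebraMap Λ k)) ⊔ Ideal.map f.toAlgHom (IsLocalRing.maximalIdeal B) ⊔ IsLocalRing.maximalIdeal A ^ 2 =
          IsLocalRing.maximalIdeal A ∧
        ∀ b ∈ IsLocalRing.maximalIdeal B, f b ∈ Ideal.map (algebraMap Λ A) (RingHom.ker (algebraMap Λ k)) ⊔ IsLocalRing.maximalIdeal A ^ 2 →
          b ∈ Ideal.map (algebraMap Λ B) (RingHom.ker (algebraMap Λ k)) ⊔ IsLocalRing.maximalIdeal B ^ 2) := by
  have hmapf : Ideal.map f.toAlgHom (IsLocalRing.maximalIdeal B) ≤ IsLocalRing.maximalIdeal A := by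
    rw [Ideal.map_le_iff_le_comap]
    intro b hb
    rw [Ideal.mem_comap, Art.mem_maximalIdeal_iff]
    have := Art.res_app f b
    rw [(Art.mem_maximalIdeal_iff B b).mp hb] at this
    exact this
  have hΛA : Ideal.map (algebraMap Λ A) (RingHom.ker (algebraMap Λ k)) ≤
      Ideal.map f.toAlgHom (IsLocalRing.maximalIdeal B) := mΛ_le_map f
  constructor
  · rintro ⟨hfs, hess⟩
    refine ⟨le_antisymm ?_ ?_, ?_⟩
    · exact sup_le (sup_le (hΛA.trans hmapf) hmapf) (Ideal.pow_le_self two_ne_zero)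
    · intro a ha
      obtain ⟨b, rfl⟩ := hfs a
      refine Submodule.mem_sup_left (Submodule.mem_sup_right ?_)
      apply Ideal.mem_map_of_mem
      rw [Art.mem_maximalIdeal_iff, ← Art.res_app f b]
      exact (Art.mem_maximalIdeal_iff A _).mp ha
    · intro b hb hfb
      by_contra hbW
      have hb0 : B.res b = 0 := (Art.mem_maximalIdeal_iff B b).mp hb
      obtain ⟨D, hadd, hmul, hΛ, hD⟩ := exists_der B b hb0 hbW
      obtain ⟨C, g, hg⟩ := Groth.Agent.S12752.exists_kerDer B D hadd hmul hΛ b hb0 hD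
      have hsurj : Function.Surjective (g ≫ f) := by
        apply Groth.Agent.S12750.surj_of_approx
        intro a
        obtain ⟨b', hb'⟩ := hfs a
        obtain ⟨β, hβ⟩ := B.res_surjective (D b' / D b)
        have h0 : D (b' - β * b) = 0 := by
          have h1 : D (b' - β * b) + D (β * b) = D b' := by
            rw [← hadd, sub_add_cancel]
          have h2 : D (β * b) = D b' := by
            rw [hmul, hb0, zero_smul, add_zero, hβ, smul_eq_mul, div_mul_cancel₀ _ hD]
          rw [h2] at h1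
          exact add_eq_right.mp h1
        obtain ⟨c, hc⟩ := (hg _).mpr h0
        refine ⟨c, ?_⟩
        have e : a - (g ≫ f) c = f β * f b := by
          rw [Art.comp_apply, hc, map_sub, map_mul, hb']
          ring
        rw [e]
        have h3 : f β * f b ∈ Ideal.map (algebraMap Λ A) (RingHom.ker (algebraMap Λ k)) ⊔
            IsLocalRing.maximalIdeal A ^ 2 := Ideal.mul_mem_left _ _ hfb
        exact sup_le_sup_right (mΛ_le_map (g ≫ f)) _ h3
      obtain ⟨c, hc⟩ := hess C g hsurj b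
      exact hD ((hg b).mp ⟨c, hc⟩)
  · rintro ⟨h1, h2⟩
    refine ⟨?_, ?_⟩
    · apply Groth.Agent.S12750.surj_of_approx
      intro a
      obtain ⟨b₀, hb₀⟩ := B.res_surjective (A.res a)
      refine ⟨b₀, ?_⟩
      have hmem : a - f b₀ ∈ IsLocalRing.maximalIdeal A := by
        rw [Art.mem_maximalIdeal_iff, map_sub, Art.res_app, hb₀, sub_self]
      rw [← h1] at hmem
      exact (sup_le_sup_right (sup_le hΛA le_rfl) _) hmem
    · intro C g hgf
      apply Groth.Agent.S12750.surj_of_approx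
      intro b
      obtain ⟨c₀, hc₀⟩ := hgf (f b)
      refine ⟨c₀, ?_⟩
      have hf0 : f (b - g c₀) = 0 := by
        rw [map_sub, sub_eq_zero]
        exact hc₀.symm
      have hm : b - g c₀ ∈ IsLocalRing.maximalIdeal B := by
        rw [Art.mem_maximalIdeal_iff, ← Art.res_app f, hf0, map_zero]
      have h3 := h2 _ hm (by rw [hf0]; exact Ideal.zero_mem _)
      exact sup_le_sup_right (mΛ_le_map g) _ h3

end Groth.Agent.S12753
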