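import Groth.Statements.S12754
import Mathlib.Tactic
import Mathlib.LinearAlgebra.FiniteDimensional.Defs
import Mathlib.LinearAlgebra.Basis.VectorSpace
import Mathlib.LinearAlgebra.FreeModule.Finite.Basic

set_option autoImplicit false
universe u
open CategoryTheory
open ArtFun
open scoped TensorProduct

namespace Groth.Agent.S12754

section Helpers

variable {K : Type u} [Field K]

/-- a linear map as a morphism of `FGModuleCat`. -/
def mk {V W : FGModuleCat.{u} K} (g : V →ₗ[K] W) : V ⟶ W :=
  ObjectProperty.homMk (ModuleCat.ofHom g)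

theorem mk_add {V W : FGModuleCat.{u} K} (g h : V →ₗ[K] W) : mk (g + h) = mk g + mk h := rfl

theorem mk_smul {V W : FGModuleCat.{u} K} (c : K) (g : V →ₗ[K] W) : mk (c • g) = c • mk g := rfl

theorem mk_comp {U V W : FGModuleCat.{u} K} (g : V →ₗ[K] W) (h : U →ₗ[K] V) :
    mk (g ∘ₗ h) = mk h ≫ mk g := rfl

theorem mk_id (V : FGModuleCat.{u} K) : mk (LinearMap.id : V →ₗ[K] V) = 𝟙 V := rfl

theorem mk_hom {V W : FGModuleCat.{u} K} (g : V ⟶ W) : mk g.hom.hom = g := rfl

variable (L : FGModuleCat.{u} K ⥤ ModuleCat.{u} K) [L.Additive] [Functor.Linear K L]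

/-- the action of `L` on linear maps. -/
def Lmap {V W : FGModuleCat.{u} K} : (V →ₗ[K] W) →ₗ[K] (L.obj V →ₗ[K] L.obj W) where
  toFun g := (L.map (mk g)).hom
  map_add' g h := by
    rw [mk_add, Functor.map_add]
    rfl
  map_smul' c g := by
    rw [mk_smul, Functor.map_smul]
    rfl

theorem Lmap_apply {V W : FGModuleCat.{u} K} (g : V →ₗ[K] W) : Lmap L g = (L.map (mk g)).hom := rfl

theorem Lmap_comp {U V W : FGModuleCat.{u} K} (g : V →ₗ[K] W) (h : U →ₗ[K] V) :
    Lmap L (g ∘ₗ h) = Lmap L g ∘ₗ Lmap L h := by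
  rw [Lmap_apply, mk_comp, L.map_comp]
  rfl

theorem Lmap_id (V : FGModuleCat.{u} K) : Lmap L (LinearMap.id : V →ₗ[K] V) = LinearMap.id := by
  rw [Lmap_apply, mk_id, L.map_id]
  rfl

theorem Lmap_hom {V W : FGModuleCat.{u} K} (g : V ⟶ W) : Lmap L g.hom.hom = (L.map g).hom := rfl

/-- `f_v : K → V`, `1 ↦ v`. -/
def fv (V : FGModuleCat.{u} K) : V →ₗ[K] (FGModuleCat.of K K →ₗ[K] V) :=
  (LinearMap.ringLmapEquivSelf K K V).symm.toLinearMap

theorem fv_apply (V : FGModuleCat.{u} K) (v : V) (c : K) : fv V v c = c • v := rfl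

/-- the comparison map `L(K) ⊗ V → L(V)`, `x ⊗ v ↦ L(f_v) x`. -/
noncomputable def eta (V : FGModuleCat.{u} K) : L.obj (FGModuleCat.of K K) ⊗[K] V →ₗ[K] L.obj V :=
  TensorProduct.lift ((Lmap L ∘ₗ fv V).flip)

theorem eta_tmul (V : FGModuleCat.{u} K) (x : L.obj (FGModuleCat.of K K)) (v : V) :
    eta L V (x ⊗ₜ[K] v) = Lmap L (fv V v) x := rfl

/-- the coordinate functionals of the chosen basis, as maps to the object `K`. -/
noncomputable def coordK (V : FGModuleCat.{u} K) (i : Fin (Module.finrank K V)) :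
    V →ₗ[K] (FGModuleCat.of K K : FGModuleCat.{u} K) :=
  (Module.finBasis K V).coord i

theorem coordK_apply (V : FGModuleCat.{u} K) (i : Fin (Module.finrank K V)) (v : V) :
    coordK V i v = (Module.finBasis K V).repr v i := rfl

/-- the inverse of `eta`, in terms of a basis. -/
noncomputable def zeta (V : FGModuleCat.{u} K) : L.obj V →ₗ[K] L.obj (FGModuleCat.of K K) ⊗[K] V :=
  ∑ i, ((TensorProduct.mk K (L.obj (FGModuleCat.of K K)) V).flip (Module.finBasis K V i)) ∘ₗ
    Lmap L (coordK V i)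

theorem zeta_apply (V : FGModuleCat.{u} K) (y : L.obj V) :
    zeta L V y = ∑ i, (Lmap L (coordK V i) y) ⊗ₜ[K] (Module.finBasis K V i) := by
  simp only [zeta, LinearMap.sum_apply]
  rfl

theorem eta_zeta (V : FGModuleCat.{u} K) (y : L.obj V) : eta L V (zeta L V y) = y := by
  rw [zeta_apply, map_sum]
  simp only [eta_tmul]
  have h1 : ∀ i, Lmap L (fv V (Module.finBasis K V i)) (Lmap L (coordK V i) y) =
      Lmap L ((fv V (Module.finBasis K V i)) ∘ₗ (coordK V i)) y := by
    intro i
    rw [Lmap_comp]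
    rfl
  simp only [h1]
  rw [← LinearMap.sum_apply, ← map_sum]
  have h2 : (∑ i, (fv V (Module.finBasis K V i)) ∘ₗ (coordK V i)) = LinearMap.id := by
    ext x
    simp only [LinearMap.sum_apply, LinearMap.comp_apply, fv_apply, LinearMap.id_apply,
      coordK_apply]
    exact (Module.finBasis K V).sum_repr x
  rw [h2, Lmap_id]
  rfl

theorem zeta_eta (V : FGModuleCat.{u} K) (z : L.obj (FGModuleCat.of K K) ⊗[K] V) :
    zeta L V (eta L V z) = z := by
  induction z using TensorProduct.induction_on with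
  | zero => rw [map_zero, map_zero]
  | add z₁ z₂ h₁ h₂ => rw [map_add, map_add, h₁, h₂]
  | tmul x v =>
    rw [eta_tmul, zeta_apply]
    have h1 : ∀ i, Lmap L (coordK V i) (Lmap L (fv V v) x) =
        (Module.finBasis K V).repr v i • x := by
      intro i
      have h2 : (coordK V i) ∘ₗ fv V v = (Module.finBasis K V).repr v i • (LinearMap.id :
            (FGModuleCat.of K K : FGModuleCat.{u} K) →ₗ[K] (FGModuleCat.of K K : FGModuleCat.{u} K)) := by
        apply LinearMap.ext
        intro c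
        rw [LinearMap.comp_apply, fv_apply, map_smul, coordK_apply, LinearMap.smul_apply,
          LinearMap.id_apply, smul_eq_mul, smul_eq_mul, mul_comm]
      have h3 := congrArg (fun g => g x) (Lmap_comp L (coordK V i) (fv V v))
      simp only [LinearMap.comp_apply] at h3
      rw [← h3, h2, map_smul, Lmap_id]
      rfl
    simp only [h1]
    simp only [TensorProduct.smul_tmul]
    rw [← TensorProduct.tmul_sum]
    congr 1
    exact (Module.finBasis K V).sum_repr v

/-- the comparison map as a linear equivalence. -/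
noncomputable def etaEquiv (V : FGModuleCat.{u} K) :
    (L.obj (FGModuleCat.of K K) ⊗[K] V) ≃ₗ[K] L.obj V :=
  { eta L V with
    invFun := zeta L V
    left_inv := zeta_eta L V
    right_inv := eta_zeta L V }

theorem etaEquiv_apply (V : FGModuleCat.{u} K) (z : L.obj (FGModuleCat.of K K) ⊗[K] V) :
    etaEquiv L V z = eta L V z := rfl

end Helpers

/-- A K-linear functor L from finite-dimensional K-vector spaces to K-vector spaces (K a field) is
isomorphic to the functor V ↦ L(K) ⊗_K V. (Existence of an isomorphism of functors, which is how the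
published statement reads; the natural choice sends x ⊗ v to L(f_v)(x) with f_v : K → V, 1 ↦ v.) -/
theorem result (K : Type u) [Field K]
    (L : FGModuleCat.{u} K ⥤ ModuleCat.{u} K) [L.Additive] [Functor.Linear K L] :
    Nonempty (L ≅ (ModuleCat.isFG.{u} K).ι ⋙ MonoidalCategory.tensorLeft (L.obj (FGModuleCat.of K K))) := by
  let F := (ModuleCat.isFG.{u} K).ι ⋙ MonoidalCategory.tensorLeft (L.obj (FGModuleCat.of K K))
  let i : ∀ V : FGModuleCat.{u} K, F.obj V ≅ L.obj V := fun V => (etaEquiv L V).toModuleIso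
  have hi : ∀ (V : FGModuleCat.{u} K) (z : L.obj (FGModuleCat.of K K) ⊗[K] V),
      (i V).hom.hom z = eta L V z := fun V z => rfl
  refine ⟨(NatIso.ofComponents i ?_).symm⟩
  intro V W g
  apply ModuleCat.hom_ext
  apply TensorProduct.ext'
  intro x v
  show (i W).hom.hom (x ⊗ₜ[K] g.hom.hom v) = (L.map g).hom ((i V).hom.hom (x ⊗ₜ[K] v))
  have e1 : eta L W (x ⊗ₜ[K] g.hom.hom v) = Lmap L (fv W (g.hom.hom v)) x := rfl
  have e2 : eta L V (x ⊗ₜ[K] v) = Lmap L (fv V v) x := rfl
  have e3 : fv W (g.hom.hom v) = g.hom.hom ∘ₗ fv V v := by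
    apply LinearMap.ext
    intro c
    rw [LinearMap.comp_apply, fv_apply, fv_apply, map_smul]
  rw [hi, hi, e1, e2, e3, Lmap_comp]
  rfl

end Groth.Agent.S12754
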