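import Mathlib
import Groth.Statements.S12759
import Groth.Agent.Lib.MinVersalC
import Groth.Agent.Lib.MinVersalD

set_option autoImplicit false
universe u v
open CategoryTheory
open ArtFun

namespace Groth.Agent.S12759

/-- For functors, any versal family (R, ξ) of a functor F on Artinian local Λ-algebras with residue
field k with F(k) a point is the pushforward of a minimal versal family (R', ξ') along a power
series extension: there are g : R' → R compatible with the augmentations and an isomorphism R ≅
R'[[X₁, …, Xₙ]] over Λ carrying g to the constants, and the formal element of ξ is that of ξ' pushed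
forward along g. -/
theorem result {Λ : Type u} {k : Type u} [CommRing Λ] [Field k] [Algebra Λ k]
    [IsNoetherianRing Λ] [Module.Finite Λ k]
    {F : ArtFun.Art Λ k ⥤ Type v} (h0 : ArtFun.H0 F) (V : ArtFun.VersalPair F) :
    ∃ (R' : ArtFun.CRing Λ k) (ξ' : ArtFun.Family R'.carrier R'.res F), ξ'.IsMinimalVersal ∧
      ∃ (g : R'.carrier →ₐ[Λ] V.ring.carrier) (hg : V.ring.res.comp g = R'.res)
        (n : ℕ) (e : V.ring.carrier ≃ₐ[Λ] MvPowerSeries (Fin n) R'.carrier),
        (∀ a : R'.carrier, e (g a) = algebraMap R'.carrier (MvPowerSeries (Fin n) R'.carrier) a) ∧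
        (ξ'.along g hg).toFormalElt = V.family.toFormalElt := by
  obtain ⟨R', ξ', f, hf, p, hp, hpf, hmin, hξ'f, hξp⟩ :=
    Groth.Agent.Lib.MinVersalC.exists_minimal_retract h0 V.ring V.family V.versal
  have hpf' : ∀ y, p (f y) = y := fun y => DFunLike.congr_fun hpf y
  have hfp : V.ring.res.comp (f.comp p) = V.ring.res := by
    rw [← AlgHom.comp_assoc, hf, hp]
  have hξe : V.family.along (f.comp p) hfp = V.family := by
    calc V.family.along (f.comp p) hfp = (V.family.along p hp).along f hf :=
          Groth.Agent.Lib.H71ArtFunProRep.family_ext' fun _ _ => rfl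
      _ = V.family := by rw [hξp, hξ'f]
  obtain ⟨n, E, hE⟩ := Groth.Agent.Lib.MinVersalD.powerSeries_of_retract R' V.ring f hf p hp hpf'
    V.family V.versal hfp hξe
  refine ⟨R', ξ', hmin, f, hf, n, E, hE, ?_⟩
  rw [hξ'f]

end Groth.Agent.S12759
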