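import Groth.Statements.S1276
import Groth.Agent.Lib.SupportBaseChange
import Mathlib.RingTheory.FiniteStability

set_option autoImplicit false
universe u
open FlatMor

namespace Groth.Agent.S1276

open TensorProduct

attribute [local instance] Algebra.TensorProduct.rightAlgebra

/-- An extended ideal which is finitely generated is the extension of a finitely generated
subideal. -/
theorem exists_fg_le_map_eq {R S : Type*} [CommRing R] [CommRing S] (f : R →+* S) (I : Ideal R)
    (h : (I.map f).FG) : ∃ J : Ideal R, J.FG ∧ J ≤ I ∧ J.map f = I.map f := by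
  classical
  have h' : (Submodule.span S (f '' (I : Set R))).FG := h
  rw [Submodule.fg_span_iff_fg_span_finset_subset] at h'
  obtain ⟨t', ht', hspan⟩ := h'
  obtain ⟨t, ht, rfl⟩ := Finset.subset_set_image_iff.mp ht'
  refine ⟨Ideal.span (t : Set R), ⟨t, rfl⟩, Ideal.span_le.mpr ht, ?_⟩
  rw [Ideal.map_span]
  change _ = Submodule.span S (f '' (I : Set R))
  rw [hspan, Finset.coe_image]

/-- Let B be a finite type A-algebra, N a finite B-module and p a prime of A. Then there is a finitely
generated ideal J of B annihilating N (so N is a module on the finitely presented closed subscheme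
V(J) of Spec B) such that a point of the fibre Spec(κ(p) ⊗ B) lies in V(J) if and only if it lies in
the support of the fibre module of N. -/
theorem result {A B : Type u} [CommRing A] [CommRing B] [Algebra A B] [Algebra.FiniteType A B]
    (N : Type u) [AddCommGroup N] [Module B N] [Module A N] [IsScalarTower A B N] [Module.Finite B N] (p : Ideal A) [p.IsPrime] :
    ∃ J : Ideal B, J.FG ∧ J ≤ Module.annihilator B N ∧
      ∀ x : PrimeSpectrum (p.Fiber B), FlatCA.fiberIdeal p J ≤ x.asIdeal ↔ x ∈ Module.support (p.Fiber B) (FlatCA.fiberMod p B N) := by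
  have hnoeth : IsNoetherianRing (p.Fiber B) :=
    Algebra.FiniteType.isNoetherianRing p.ResidueField (p.Fiber B)
  obtain ⟨J, hJfg, hJle, hJmap⟩ := exists_fg_le_map_eq
    (Algebra.TensorProduct.includeRight (R := A) (A := p.ResidueField) (B := B)).toRingHom
    (Module.annihilator B N) (IsNoetherian.noetherian _)
  refine ⟨J, hJfg, hJle, fun x ↦ ?_⟩
  unfold FlatCA.fiberIdeal
  rw [hJmap]
  change _ ↔ x ∈ Module.support (p.Fiber B) ((p.Fiber B) ⊗[B] N)
  rw [Groth.Agent.Lib.SupportBaseChange.mem_support_baseChange_iff, Module.mem_support_iff_of_finite,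
    Ideal.map_le_iff_le_comap]
  rfl

end Groth.Agent.S1276
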