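import Groth.Statements.S12784
import Groth.Agent.Lib.FpEquiv

set_option autoImplicit false
open CategoryTheory CategoryTheory.Limits
universe v u
open FibCat

namespace Groth.Agent.S12784

/-- Consider a 2-commutative square of functors over `C` with vertical arrows `f' : 𝒳' ⟶ 𝒴'`, `f : 𝒳 ⟶
𝒴` and horizontal arrows equivalences over `C`. Then `f` is a representable 1-morphism if and only
if `f'` is. (The published statement is for categories fibred in groupoids over schemes over a base;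
this row is stated for categories over any base category.) -/
theorem result {C : Type u} [Category.{v} C] {𝒳 𝒴 𝒳' 𝒴' : BasedCategory.{v, max u v} C}
    (f : 𝒳 ⥤ᵇ 𝒴) (f' : 𝒳' ⥤ᵇ 𝒴') (a : 𝒳' ⥤ᵇ 𝒳) (b : 𝒴' ⥤ᵇ 𝒴)
    (ha : FibCat.IsEquivOver a) (hb : FibCat.IsEquivOver b) (e : BasedFunctor.comp f' b ≅ BasedFunctor.comp a f) :
    FibCat.IsRepresentable1 f ↔ FibCat.IsRepresentable1 f' := by
  obtain ⟨hb1, hb2, -⟩ := Groth.Agent.Lib.FpEquiv.ff_ess_of_isEquivOver b hb
  have key : ∀ (U : C) (G' : FibCat.overCat U ⥤ᵇ 𝒴'),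
      FibCat.IsRepresentable (FibCat.fp G' f') ↔
        FibCat.IsRepresentable (FibCat.fp (BasedFunctor.comp G' b) f) := by
    intro U G'
    exact Groth.Agent.Lib.FpEquiv.isRepresentable_iff_of_isEquivOver
      (Groth.Agent.Lib.FpEquiv.fpMap_isEquivOver (BasedFunctor.id (FibCat.overCat U)) a b
        (Groth.Agent.Lib.FpEquiv.idCompIso (BasedFunctor.comp G' b)).symm e
        Groth.Agent.Lib.FpEquiv.isEquivOver_id ha)
  constructor
  · intro hf U G'
    exact (key U G').2 (hf U (BasedFunctor.comp G' b))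
  · intro hf' U G
    obtain ⟨b', ⟨η⟩, ⟨ε⟩⟩ := hb
    have h1 := (key U (BasedFunctor.comp G b')).1 (hf' U (BasedFunctor.comp G b'))
    let γ : BasedFunctor.comp (BasedFunctor.comp G b') b ≅ G :=
      eqToIso (BasedFunctor.comp_assoc G b' b) ≪≫
        Groth.Agent.Lib.FpEquiv.whiskerLeftIso G ε ≪≫ Groth.Agent.Lib.FpEquiv.compIdIso G
    exact (Groth.Agent.Lib.FpEquiv.isRepresentable_fp_congr_left γ f).1 h1

end Groth.Agent.S12784
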