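import Groth.Statements.S12787
import Groth.Agent.Lib.StkEquiv

set_option autoImplicit false
open CategoryTheory AlgebraicGeometry
universe u
open AlgSt

namespace Groth.Agent.S12787

section Aux

universe w v' u'

variable {C : Type u'} [Category.{v'} C] (P : Cᵒᵖ ⥤ Type w)

/-- The category over `C` of a presheaf of sets is fibred in setoids. -/
theorem isFibSetoid_ofPsh : FibCat.IsFibSetoid (Stk.ofPsh P).p := by
  refine ⟨Stk.isFibGrpd_ofPsh P, fun U a b => ⟨fun φ ψ => ?_⟩⟩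
  apply Functor.Fiber.hom_ext
  apply Stk.EltObj.hom_ext
  have hφ : (Stk.ofPsh P).p.IsHomLift (𝟙 U) φ.1 := φ.2
  have hψ : (Stk.ofPsh P).p.IsHomLift (𝟙 U) ψ.1 := ψ.2
  have e1 := IsHomLift.fac' (Stk.ofPsh P).p (𝟙 U) φ.1
  have e2 := IsHomLift.fac' (Stk.ofPsh P).p (𝟙 U) ψ.1
  exact e1.trans e2.symm

end Aux

/-- A category fibred in groupoids over `(Sch/S)` which is representable by an algebraic space is fibred
in setoids. -/
theorem result {S : Scheme.{u}} {𝒳 : AlgSt.Cat S}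
    (h𝒳 : FibCat.IsFibGrpd 𝒳.p) (hr : AlgSt.RepByAlgSp 𝒳) :
    FibCat.IsFibSetoid 𝒳.p := by
  obtain ⟨F, e, he⟩ := hr
  exact (Groth.Agent.Lib.StkEquiv.isFibSetoid_iff_of_isEquivOver e he).1 (isFibSetoid_ofPsh _)

end Groth.Agent.S12787
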