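import Groth.Statements.S12788
import Groth.Agent.Lib.AlgStBoot

set_option autoImplicit false
open CategoryTheory AlgebraicGeometry
universe u
open AlgSt

namespace Groth.Agent.S12788

/-- (3) ⇔ (7): for `𝒳` fibred in groupoids over `(Sch/S)`, every 1-morphism `(Sch/U) ⟶ 𝒳` from a scheme
is representable by algebraic spaces if and only if every 1-morphism `𝒰 ⟶ 𝒳` from a category fibred
in groupoids representable by an algebraic space is representable by algebraic spaces. (The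
categories `𝒰` range over categories over `(Sch/S)` with objects and morphisms in the universes of
the slice categories `(Sch/U)`.) -/
theorem result {S : Scheme.{u}} {𝒳 : AlgSt.Cat S} (h𝒳 : FibCat.IsFibGrpd 𝒳.p) :
    (∀ (U : Over S) (x : FibCat.overCat U ⥤ᵇ 𝒳), AlgSt.RepByAlgSp1 x) ↔
      ∀ (𝒰 : AlgSt.Cat S), FibCat.IsFibGrpd 𝒰.p → AlgSt.RepByAlgSp 𝒰 → ∀ (x : 𝒰 ⥤ᵇ 𝒳), AlgSt.RepByAlgSp1 x := by
  haveI := h𝒳
  constructor
  · intro hyp 𝒰 h𝒰 hU x V y
    haveI : FibCat.IsFibGrpd (FibCat.overCat V).p := Groth.Agent.Lib.FibGrpd.overCat_isFibGrpd V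
    have h1 : AlgSt.RepByAlgSp (FibCat.fp x y) :=
      Groth.Agent.Lib.AlgStBoot.repByAlgSp_fp_of_repByAlgSp1 y x (hyp V y) hU
    exact Groth.Agent.Lib.AlgStFp.repByAlgSp_of_equivOver
      ⟨_, Groth.Agent.Lib.AlgStRepC.fpSwap_isEquivOver x y⟩ h1
  · intro hyp U x
    exact hyp (FibCat.overCat U) (Groth.Agent.Lib.FibGrpd.overCat_isFibGrpd U)
      (Groth.Agent.Lib.AlgStFp.repByAlgSp_overCat U) x

end Groth.Agent.S12788
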