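import Groth.Statements.S1279
import Groth.Agent.Lib.NagataSep68
import Groth.Agent.Lib.IdealExt68
import Groth.Agent.Lib.BlowUpGlue68
import Groth.Agent.Lib.LimConstructible

set_option autoImplicit false
universe u
open FlatMor

namespace Groth.Agent.S1279

open AlgebraicGeometry CategoryTheory Limits Topology in
/-- Let X be a quasi-compact and quasi-separated scheme, U ⊆ X a quasi-compact open, and T₁, T₂ ⊆ U
disjoint subsets which are closed and constructible in U. Then there is a U-admissible blow-up b :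
X' → X such that the closures in X' of the preimages of T₁ and T₂ are disjoint. (Part (1), about
strict transforms of closed subschemes, is not stated.) -/
theorem result {X : Scheme.{u}} [CompactSpace X] [QuasiSeparatedSpace X]
    (U : X.Opens) (hU : IsCompact (U : Set X)) (T₁ T₂ : Set U)
    (h₁ : IsClosed T₁) (h₂ : IsClosed T₂) (c₁ : IsConstructible T₁) (c₂ : IsConstructible T₂) (hd : Disjoint T₁ T₂) :
    ∃ (𝓘 : X.IdealSheafData) (X' : Scheme.{u}) (b : X' ⟶ X), BlowUp.IsBlowUp b 𝓘 ∧ BlowUp.IsAdmissibleFor U 𝓘 ∧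
      Disjoint (closure (b.base ⁻¹' (Subtype.val '' T₁))) (closure (b.base ⁻¹' (Subtype.val '' T₂))) := by
  classical
  have hUc : CompactSpace U := isCompact_iff_compactSpace.mp hU
  -- finite type ideals cutting out `T i` on `U`
  have hJex : ∀ T : Set U, IsClosed T → IsConstructible T →
      ∃ 𝓙 : X.IdealSheafData, BlowUp.IsFiniteTypeIdeal 𝓙 ∧
        (𝓙.support : Set X) = (Subtype.val '' Tᶜ)ᶜ := by
    intro T hT hTc
    have hopen : IsOpen (Subtype.val '' Tᶜ : Set X) :=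
      U.2.isOpenEmbedding_subtypeVal.isOpenMap _ hT.isOpen_compl
    have hcomp : IsCompact (Subtype.val '' Tᶜ : Set X) :=
      (Groth.Agent.Lib.LimConstructible.isCompact_of_isConstructible hTc.compl).image
        continuous_subtype_val
    exact Groth.Agent.Lib.IdealExt68.exists_finiteType_support_eq (⟨_, hopen⟩ : X.Opens) hcomp
  obtain ⟨𝓙₁, h𝓙₁fg, h𝓙₁⟩ := hJex T₁ h₁ c₁
  obtain ⟨𝓙₂, h𝓙₂fg, h𝓙₂⟩ := hJex T₂ h₂ c₂
  have hT𝓙 : ∀ (T : Set U) (𝓙 : X.IdealSheafData), (𝓙.support : Set X) = (Subtype.val '' Tᶜ)ᶜ →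
      Subtype.val '' T ⊆ (𝓙.support : Set X) := by
    rintro T 𝓙 h𝓙 _ ⟨x, hx, rfl⟩
    rw [h𝓙]
    rintro ⟨x', hx', hxx'⟩
    exact hx' (Subtype.val_injective hxx' ▸ hx)
  have h𝓙U : ∀ (T : Set U) (𝓙 : X.IdealSheafData), (𝓙.support : Set X) = (Subtype.val '' Tᶜ)ᶜ →
      ∀ x : U, (x : X) ∈ (𝓙.support : Set X) → x ∈ T := by
    intro T 𝓙 h𝓙 x hx
    rw [h𝓙] at hx
    by_contra hxT
    exact hx ⟨x, hxT, rfl⟩
  -- the centre
  have hsupp : Disjoint ((𝓙₁ ⊔ 𝓙₂ ^ (0 + 1)).support : Set X) (U : Set X) := by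
    rw [Set.disjoint_left]
    intro x hx hxU
    rw [Scheme.IdealSheafData.support_sup, Scheme.IdealSheafData.support_pow_succ] at hx
    have hx1 := h𝓙U T₁ 𝓙₁ h𝓙₁ ⟨x, hxU⟩ hx.1
    have hx2 := h𝓙U T₂ 𝓙₂ h𝓙₂ ⟨x, hxU⟩ hx.2
    exact Set.disjoint_left.1 hd hx1 hx2
  obtain ⟨X', b, hb⟩ := Groth.Agent.Lib.BlowUpGlue68.exists_isBlowUp X (𝓙₁ ⊔ 𝓙₂ ^ (0 + 1))
  refine ⟨𝓙₁ ⊔ 𝓙₂ ^ (0 + 1), X', b, hb, ⟨?_, hsupp⟩, ?_⟩
  · intro W
    rw [Scheme.IdealSheafData.ideal_sup, Pi.sup_apply, Scheme.IdealSheafData.ideal_pow,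
      Pi.pow_apply]
    exact Submodule.FG.sup (h𝓙₁fg W) (Ideal.FG.pow (h𝓙₂fg W))
  rw [Set.disjoint_left]
  intro y' hy1 hy2
  obtain ⟨W, t, hy'W, hE, hZ, -⟩ := Groth.Agent.Lib.NagataSep68.exists_local_chart b 𝓙₁ 𝓙₂ 0 hb.1
    (U : Set X) hsupp (Subtype.val '' T₁) (by rintro _ ⟨x, -, rfl⟩; exact x.2) (hT𝓙 T₁ 𝓙₁ h𝓙₁) y' hy1
  rw [zero_add, pow_one] at hZ
  obtain ⟨y'', hy''W, hy''T⟩ := mem_closure_iff.1 hy2 _ W.1.2 hy'W
  have h1 : y'' ∈ (𝓙₂.comap b).support := by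
    rw [Scheme.IdealSheafData.support_comap]
    exact hT𝓙 T₂ 𝓙₂ h𝓙₂ hy''T
  have h2 := Groth.Agent.Lib.BlowUpSeparate68.ideal_le_P_of_mem_support (𝓙₂.comap b) W y'' hy''W h1
  have h3 : t ∈ Groth.Agent.Lib.BlowUpSeparate68.P W y'' hy''W :=
    h2 (hZ ▸ Ideal.mem_span_singleton_self t)
  have h4 := Groth.Agent.Lib.BlowUpSeparate68.mem_support_of_span_singleton _ W t hE y'' hy''W h3
  rw [Scheme.IdealSheafData.support_comap] at h4
  obtain ⟨x, -, hx⟩ := hy''T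
  exact Set.disjoint_left.1 hsupp h4 (hx ▸ x.2)

end Groth.Agent.S1279
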