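import Groth.Statements.S12794
import Groth.Agent.Lib.H43StkDescent

set_option autoImplicit false
set_option backward.isDefEq.respectTransparency false
set_option backward.isDefEq.respectTransparency.types false
open CategoryTheory
universe w v u
open Stk
open Groth.Agent.Lib.FibGrpd Groth.Agent.Lib.FpEquiv Groth.Agent.Lib.FibYoneda Groth.Agent.Lib.H43StkDescent

namespace Groth.Agent.S12794

/-- Let `𝒳`, `𝒴` be stacks in groupoids over `C` for the topology `J` and `F : 𝒳 ⟶ 𝒴` a functor over `C`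
whose underlying functor is fully faithful. Then `F` is an equivalence over `C` if and only if every
object `y` of `𝒴` is locally in the essential image: there is a covering sieve `R` of the object
under `y` such that for every arrow `f` of `R` some object `x` of `𝒳` has a morphism `F x ⟶ y` lying
over `f` (equivalently, the pullback of `y` along `f` is isomorphic in its fibre to an object in the
image of `F`). (The published statement is for stacks over the site, not necessarily in groupoids,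
and 1-morphisms of stacks; this row treats stacks in groupoids.) -/
theorem result {C : Type u} [Category.{v} C] (J : GrothendieckTopology C) {𝒳 𝒴 : BasedCategory.{v, max u v} C}
    (h𝒳 : Stk.IsStack J 𝒳) (h𝒴 : Stk.IsStack J 𝒴) (F : 𝒳 ⥤ᵇ 𝒴) [F.toFunctor.Full] [F.toFunctor.Faithful] :
    FibCat.IsEquivOver F ↔
      ∀ y : 𝒴.obj, ∃ R ∈ J (𝒴.p.obj y), ∀ ⦃V : C⦄ (f : V ⟶ 𝒴.p.obj y), R f →
        ∃ (x : 𝒳.obj) (φ : F.obj x ⟶ y), 𝒴.p.IsHomLift f φ := by
  haveI := h𝒳.1
  haveI := h𝒴.1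
  haveI := isFibered 𝒴.p
  constructor
  · intro hF y
    obtain ⟨_, _, hess⟩ := ff_ess_of_isEquivOver F hF
    refine ⟨⊤, J.top_mem _, fun V f _ => ?_⟩
    obtain ⟨y', ψ, hψ⟩ := FibCat.IsFibGrpd.exists_lift (p := 𝒴.p) f
    obtain ⟨x, e, he⟩ := hess y'
    have hy' : 𝒴.p.obj y' = V := IsHomLift.domain_eq 𝒴.p f ψ
    rw [hy'] at he
    refine ⟨x, e.hom ≫ ψ, ?_⟩
    have : 𝒴.p.IsHomLift (𝟙 V ≫ f) (e.hom ≫ ψ) := inferInstance
    simpa using this
  · intro h
    apply isEquivOver_of_ff_of_ess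
    intro y
    obtain ⟨R, hR, hloc⟩ := h y
    let yF : 𝒴.p.Fiber (𝒴.p.obj y) := ⟨y, rfl⟩
    let Y := pbFunctor yF
    let E := BasedFunctor.comp (Stk.sieveIncl R) Y
    obtain ⟨D, ⟨θ⟩⟩ := exists_lift_of_ff F E (fun a => by
      obtain ⟨x, φ, hφ⟩ := hloc a.obj.hom a.property
      haveI : 𝒴.p.IsHomLift a.obj.hom (pbMap yF a.obj) :=
        (pbMap_isStronglyCartesian yF a.obj).toIsHomLift
      obtain ⟨e, he, _⟩ := exists_iso_of_isHomLift a.obj.hom (pbMap yF a.obj) φ
      exact ⟨x, e, he⟩)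
    have hst : (Stk.resSieve R 𝒳).IsEquivalence := h𝒳.2 R hR
    have hst' : (Stk.resSieve R 𝒴).IsEquivalence := h𝒴.2 R hR
    let H := (Stk.resSieve R 𝒳).objPreimage D
    let η : (Stk.resSieve R 𝒳).obj H ≅ D := (Stk.resSieve R 𝒳).objObjPreimageIso D
    let ζ : (Stk.resSieve R 𝒴).obj (BasedFunctor.comp H F) ≅ (Stk.resSieve R 𝒴).obj Y :=
      Groth.Agent.Lib.FpEquiv.whiskerRightIso η F ≪≫ θ
    let ζ' : BasedFunctor.comp H F ≅ Y := (Stk.resSieve R 𝒴).preimageIso ζ
    haveI h1 : 𝒴.p.IsHomLift (𝟙 (𝒴.p.obj y)) (appIso ζ' (overTop _)).hom :=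
      appIso_isHomLift ζ' rfl
    haveI h2 : 𝒴.p.IsHomLift (𝟙 (𝒴.p.obj y)) (pbMap yF (overTop _)) := pbMap_top_isHomLift yF
    refine ⟨H.obj (overTop _), appIso ζ' (overTop _) ≪≫ asIso (pbMap yF (overTop _)), ?_⟩
    have : 𝒴.p.IsHomLift (𝟙 (𝒴.p.obj y) ≫ 𝟙 (𝒴.p.obj y))
        ((appIso ζ' (overTop _)).hom ≫ pbMap yF (overTop _)) := inferInstance
    simpa using this

end Groth.Agent.S12794
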