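import Groth.Statements.S12797
import Groth.Agent.S12796
import Groth.Agent.Lib.StkEquiv
import Groth.Agent.Lib.FpEquiv

set_option autoImplicit false
open CategoryTheory
universe w v u
open Stk

namespace Groth.Agent.S12797

section Aux

open Opposite

variable {C : Type u} [Category.{v} C]

/-- The slice `C/U` as the category over `C` of the representable presheaf `h_U`. -/
def toPsh (U : C) : FibCat.overCat U ⥤ᵇ Stk.ofPsh (yoneda.obj U) where
  toFunctor :=
    { obj := fun a => ⟨a.left, a.hom⟩
      map := fun {a b} f => ⟨f.left, Over.w f⟩ }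
  w := rfl

theorem toPsh_isEquivOver (U : C) : FibCat.IsEquivOver (toPsh U) := by
  have : (toPsh U).toFunctor.Faithful := by
    refine ⟨fun {a b} f g h => ?_⟩
    apply Over.OverMorphism.ext
    exact congrArg (fun m : (toPsh U).obj a ⟶ (toPsh U).obj b => m.hom) h
  have : (toPsh U).toFunctor.Full := by
    refine ⟨fun {a b} m => ⟨Over.homMk m.hom m.map_sec, ?_⟩⟩
    apply Stk.EltObj.hom_ext
    rfl
  apply Groth.Agent.Lib.FpEquiv.isEquivOver_of_ff_of_ess
  intro η
  refine ⟨Over.mk η.sec, Iso.refl _, ?_⟩
  exact IsHomLift.id rfl

end Aux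

/-- For an object `U` of `C`, the slice category `C/U` with its forgetful functor to `C` is a stack in
groupoids for the topology `J` if and only if the representable presheaf `h_U` is a sheaf for `J`. -/
theorem result {C : Type u} [Category.{v} C] (J : GrothendieckTopology C) (U : C) :
    Stk.IsStack J (FibCat.overCat U) ↔ Presieve.IsSheaf J (yoneda.obj U) := by
  rw [Groth.Agent.Lib.StkEquiv.isStack_iff_of_isEquivOver (toPsh U) (toPsh_isEquivOver U) J]
  exact Groth.Agent.S12796.result J (yoneda.obj U)

end Groth.Agent.S12797
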