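import Groth.Statements.S12798
import Groth.Agent.Lib.H43StkDescent2

set_option autoImplicit false
set_option backward.isDefEq.respectTransparency false
set_option backward.isDefEq.respectTransparency.types false
open CategoryTheory
universe w v u
open Stk
open CategoryTheory.Functor
set_option linter.style.haveILetI false
open Groth.Agent.Lib.FibGrpd Groth.Agent.Lib.FpEquiv Groth.Agent.Lib.FibYoneda Groth.Agent.Lib.H43StkDescent

namespace Groth.Agent.S12798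


section Helpers

variable {C : Type u} [Category.{v} C] {𝒮₁ 𝒮₂ 𝒯₁ : BasedCategory.{v, max u v} C}

theorem isPrestack_of_isStack {J : GrothendieckTopology C} {𝒳 : BasedCategory.{v, max u v} C}
    (h : Stk.IsStack J 𝒳) : Stk.IsPrestack J 𝒳 := by
  refine ⟨h.1, fun U R hR => ?_⟩
  have he : (Stk.resSieve R 𝒳).IsEquivalence := h.2 R hR
  exact ⟨inferInstance, inferInstance⟩

/-- An automorphism over the identity killed by `G` is trivial, if objects of `𝒮₁` are locally in the essential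
image of `F` and the first projection of the 2-fibre product is faithful. -/
theorem aut_eq_id (J : GrothendieckTopology C) [FibCat.IsFibGrpd 𝒮₁.p] [FibCat.IsFibGrpd 𝒯₁.p]
    (h₃ : Stk.IsPrestack J 𝒯₁) (F : 𝒮₂ ⥤ᵇ 𝒮₁) (G : 𝒯₁ ⥤ᵇ 𝒮₁)
    (hG' : (FibCat.fpFst F G).toFunctor.Faithful)
    (t : 𝒯₁.obj) (U : C) (c : t ⟶ t) [hc : 𝒯₁.p.IsHomLift (𝟙 U) c] (hGc : G.map c = 𝟙 _)
    (R : Sieve U) (hR : R ∈ J U)
    (hloc : ∀ ⦃V : C⦄ (f : V ⟶ U), R f →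
      ∃ (x : 𝒮₂.obj) (φ : F.obj x ⟶ G.obj t), 𝒮₁.p.IsHomLift f φ) : c = 𝟙 t := by
  have ht : 𝒯₁.p.obj t = U := IsHomLift.domain_eq 𝒯₁.p (𝟙 U) c
  haveI : 𝒯₁.p.IsHomLift (𝟙 U) (𝟙 t) := IsHomLift.id ht
  apply hom_ext_of_isPrestack h₃ R hR c (𝟙 t)
  intro V f hf z l hl
  rw [Category.comp_id]
  obtain ⟨x, φ, hφ⟩ := hloc f hf
  haveI hGl : 𝒮₁.p.IsHomLift f (G.map l) := inferInstance
  obtain ⟨e, he, hefac⟩ := exists_iso_of_isHomLift f (G.map l) φ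
  have hxV : 𝒮₂.p.obj x = V := by
    rw [← F.w_obj x]; exact IsHomLift.domain_eq 𝒮₁.p f φ
  -- the object of the 2-fibre product
  let P : (FibCat.fp F G).obj := ⟨⟨x, z, e⟩, by
    change 𝒮₁.p.IsHomLift (𝟙 (𝒮₂.p.obj x)) e.hom
    rw [hxV]; exact he⟩
  -- the pulled back automorphism
  haveI hlc : 𝒯₁.p.IsHomLift (𝟙 V ≫ f) (l ≫ c) := by
    have : 𝒯₁.p.IsHomLift (f ≫ 𝟙 U) (l ≫ c) := inferInstance
    simpa using this
  haveI hcart : 𝒯₁.p.IsStronglyCartesian f l := isStronglyCartesian_of_isHomLift 𝒯₁.p f l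
  let cz : z ⟶ z := IsStronglyCartesian.map 𝒯₁.p f l (g := 𝟙 V) (f' := 𝟙 V ≫ f) rfl (l ≫ c)
  haveI hcz : 𝒯₁.p.IsHomLift (𝟙 V) cz :=
    IsStronglyCartesian.map_isHomLift 𝒯₁.p f l (g := 𝟙 V) (f' := 𝟙 V ≫ f) rfl (l ≫ c)
  have hczfac : cz ≫ l = l ≫ c :=
    IsStronglyCartesian.fac 𝒯₁.p f l (g := 𝟙 V) (f' := 𝟙 V ≫ f) rfl (l ≫ c)
  have hGcz : G.map cz = 𝟙 _ := by
    haveI : 𝒮₁.p.IsStronglyCartesian f (G.map l) := isStronglyCartesian_of_isHomLift 𝒮₁.p f _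
    haveI : 𝒮₁.p.IsHomLift (𝟙 V) (G.map cz) := inferInstance
    have hz : 𝒮₁.p.obj (G.obj z) = V := IsHomLift.domain_eq 𝒮₁.p f (G.map l)
    haveI : 𝒮₁.p.IsHomLift (𝟙 V) (𝟙 (G.obj z)) := IsHomLift.id hz
    apply IsStronglyCartesian.ext 𝒮₁.p f (G.map l) (𝟙 V)
    rw [← G.map_comp, hczfac, G.map_comp, hGc, Category.comp_id, Category.id_comp]
  let m : P ⟶ P := fpHomMk (𝟙 x) cz (by
    change F.map (𝟙 x) ≫ e.hom = e.hom ≫ G.map cz
    rw [hGcz, F.map_id, Category.id_comp, Category.comp_id])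
  have hm : m = 𝟙 P := by
    apply hG'.map_injective
    change (𝟙 x : x ⟶ x) = 𝟙 x
    rfl
  have hcz1 : cz = 𝟙 z := congrArg (fun n : P ⟶ P => n.hom.snd) hm
  rw [← hczfac, hcz1, Category.id_comp]

end Helpers

/-- Let `𝒮₁`, `𝒮₂`, `𝒯₁` be stacks in groupoids over `C` for the topology `J`, and `F : 𝒮₂ ⟶ 𝒮₁`, `G :
𝒯₁ ⟶ 𝒮₁` functors over `C` such that every object of `𝒮₁` is locally in the essential image of `F`.
If the first projection `𝒮₂ ×_{𝒮₁} 𝒯₁ ⟶ 𝒮₂` of the 2-fibre product over `C` is faithful, then `G` is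
faithful. (The published statement is for any 2-cartesian square of stacks in groupoids; this row is
the case of the explicit 2-fibre product, to which the general case reduces because faithfulness is
invariant under equivalence.) -/
theorem result {C : Type u} [Category.{v} C] (J : GrothendieckTopology C) {𝒮₁ 𝒮₂ 𝒯₁ : BasedCategory.{v, max u v} C}
    (h₁ : Stk.IsStack J 𝒮₁) (h₂ : Stk.IsStack J 𝒮₂) (h₃ : Stk.IsStack J 𝒯₁) (F : 𝒮₂ ⥤ᵇ 𝒮₁) (G : 𝒯₁ ⥤ᵇ 𝒮₁)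
    (hF : ∀ y : 𝒮₁.obj, ∃ R ∈ J (𝒮₁.p.obj y), ∀ ⦃V : C⦄ (f : V ⟶ 𝒮₁.p.obj y), R f →
      ∃ (x : 𝒮₂.obj) (φ : F.obj x ⟶ y), 𝒮₁.p.IsHomLift f φ)
    (hG' : (FibCat.fpFst F G).toFunctor.Faithful) : G.toFunctor.Faithful := by
  haveI := h₁.1
  haveI := h₃.1
  refine ⟨fun {t t'} a b hab => ?_⟩
  -- both lie over the same arrow
  let g := 𝒯₁.p.map a
  haveI ha : 𝒯₁.p.IsHomLift g a := inferInstance
  haveI hb : 𝒯₁.p.IsHomLift g b := by
    haveI : 𝒮₁.p.IsHomLift g (G.map b) := by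
      have : 𝒮₁.p.IsHomLift g (G.map a) := inferInstance
      rw [show G.map a = G.map b from hab] at this
      exact this
    exact BasedFunctor.isHomLift_map G g b
  haveI hbc : 𝒯₁.p.IsStronglyCartesian g b := isStronglyCartesian_of_isHomLift 𝒯₁.p g b
  let U := 𝒯₁.p.obj t
  haveI ha' : 𝒯₁.p.IsHomLift (𝟙 U ≫ g) a := by
    rw [Category.id_comp]; exact ha
  let c : t ⟶ t := IsStronglyCartesian.map 𝒯₁.p g b (g := 𝟙 U) (f' := 𝟙 U ≫ g) rfl a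
  haveI hc : 𝒯₁.p.IsHomLift (𝟙 U) c :=
    IsStronglyCartesian.map_isHomLift 𝒯₁.p g b (g := 𝟙 U) (f' := 𝟙 U ≫ g) rfl a
  have hcfac : c ≫ b = a :=
    IsStronglyCartesian.fac 𝒯₁.p g b (g := 𝟙 U) (f' := 𝟙 U ≫ g) rfl a
  have hGc : G.map c = 𝟙 _ := by
    haveI : 𝒮₁.p.IsStronglyCartesian g (G.map b) := isStronglyCartesian_of_isHomLift 𝒮₁.p g _
    haveI : 𝒮₁.p.IsHomLift (𝟙 U) (G.map c) := inferInstance
    have hz : 𝒮₁.p.obj (G.obj t) = U := G.w_obj t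
    haveI : 𝒮₁.p.IsHomLift (𝟙 U) (𝟙 (G.obj t)) := IsHomLift.id hz
    apply IsStronglyCartesian.ext 𝒮₁.p g (G.map b) (𝟙 U)
    rw [← G.map_comp, hcfac, Category.id_comp]
    exact hab
  obtain ⟨R, hR, hloc⟩ := hF (G.obj t)
  have hU : 𝒮₁.p.obj (G.obj t) = U := G.w_obj t
  have key : ∀ (U' : C) (hU' : U' = U) (R : Sieve U'), R ∈ J U' →
      (∀ ⦃V : C⦄ (f : V ⟶ U'), R f →
        ∃ (x : 𝒮₂.obj) (φ : F.obj x ⟶ G.obj t), 𝒮₁.p.IsHomLift f φ) → c = 𝟙 t := by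
    intro U' hU' R hR hloc
    subst hU'
    exact aut_eq_id J (isPrestack_of_isStack h₃) F G hG' t _ c hGc R hR hloc
  have hc1 : c = 𝟙 t := key _ hU R hR hloc
  rw [← hcfac, hc1, Category.id_comp]

end Groth.Agent.S12798
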