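import Groth.Statements.S12799
import Groth.Agent.Lib.H43StkDescent2
import Groth.Agent.S12798

set_option autoImplicit false
set_option backward.isDefEq.respectTransparency false
set_option backward.isDefEq.respectTransparency.types false
open CategoryTheory
universe w v u
open Stk
open CategoryTheory.Functor
set_option linter.style.haveILetI false
open Groth.Agent.Lib.FibGrpd Groth.Agent.Lib.FpEquiv Groth.Agent.Lib.FibYoneda Groth.Agent.Lib.H43StkDescent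

namespace Groth.Agent.S12799


section Helpers

variable {C : Type u} [Category.{v} C] {𝒮₁ 𝒮₂ 𝒯₁ : BasedCategory.{v, max u v} C}

/-- An automorphism over the identity is trivial, if objects of `𝒮₁` are locally in the essential
image of the full functor `F` and the fibres of the 2-fibre product are thin. -/
theorem aut_eq_id (J : GrothendieckTopology C) [FibCat.IsFibGrpd 𝒮₁.p] [FibCat.IsFibGrpd 𝒯₁.p]
    (h₃ : Stk.IsPrestack J 𝒯₁) (F : 𝒮₂ ⥤ᵇ 𝒮₁) [F.toFunctor.Full] (G : 𝒯₁ ⥤ᵇ 𝒮₁)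
    (hthin : ∀ V : C, Quiver.IsThin ((FibCat.fp F G).p.Fiber V))
    (t : 𝒯₁.obj) (U : C) (c : t ⟶ t) [hc : 𝒯₁.p.IsHomLift (𝟙 U) c]
    (R : Sieve U) (hR : R ∈ J U)
    (hloc : ∀ ⦃V : C⦄ (f : V ⟶ U), R f →
      ∃ (x : 𝒮₂.obj) (φ : F.obj x ⟶ G.obj t), 𝒮₁.p.IsHomLift f φ) : c = 𝟙 t := by
  have ht : 𝒯₁.p.obj t = U := IsHomLift.domain_eq 𝒯₁.p (𝟙 U) c
  haveI : 𝒯₁.p.IsHomLift (𝟙 U) (𝟙 t) := IsHomLift.id ht
  apply hom_ext_of_isPrestack h₃ R hR c (𝟙 t)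
  intro V f hf z l hl
  rw [Category.comp_id]
  obtain ⟨x, φ, hφ⟩ := hloc f hf
  haveI hGl : 𝒮₁.p.IsHomLift f (G.map l) := inferInstance
  obtain ⟨e, he, hefac⟩ := exists_iso_of_isHomLift f (G.map l) φ
  haveI := he
  have hxV : 𝒮₂.p.obj x = V := by
    rw [← F.w_obj x]; exact IsHomLift.domain_eq 𝒮₁.p f φ
  -- the object of the 2-fibre product
  let P : (FibCat.fp F G).obj := ⟨⟨x, z, e⟩, by
    change 𝒮₁.p.IsHomLift (𝟙 (𝒮₂.p.obj x)) e.hom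
    rw [hxV]; exact he⟩
  -- the pulled back automorphism
  haveI hlc : 𝒯₁.p.IsHomLift (𝟙 V ≫ f) (l ≫ c) := by
    have : 𝒯₁.p.IsHomLift (f ≫ 𝟙 U) (l ≫ c) := inferInstance
    simpa using this
  haveI hcart : 𝒯₁.p.IsStronglyCartesian f l := isStronglyCartesian_of_isHomLift 𝒯₁.p f l
  let cz : z ⟶ z := IsStronglyCartesian.map 𝒯₁.p f l (g := 𝟙 V) (f' := 𝟙 V ≫ f) rfl (l ≫ c)
  haveI hcz : 𝒯₁.p.IsHomLift (𝟙 V) cz :=
    IsStronglyCartesian.map_isHomLift 𝒯₁.p f l (g := 𝟙 V) (f' := 𝟙 V ≫ f) rfl (l ≫ c)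
  have hczfac : cz ≫ l = l ≫ c :=
    IsStronglyCartesian.fac 𝒯₁.p f l (g := 𝟙 V) (f' := 𝟙 V ≫ f) rfl (l ≫ c)
  haveI hGcz : 𝒮₁.p.IsHomLift (𝟙 V) (G.map cz) := inferInstance
  haveI heinv : 𝒮₁.p.IsHomLift (𝟙 V) e.inv := IsHomLift.lift_id_inv 𝒮₁.p V e
  let m₁ : x ⟶ x := F.toFunctor.preimage (e.hom ≫ G.map cz ≫ e.inv)
  have hm₁ : 𝒮₂.p.IsHomLift (𝟙 V) m₁ := by
    haveI : 𝒮₁.p.IsHomLift (𝟙 V) (F.map m₁) := by
      change 𝒮₁.p.IsHomLift (𝟙 V) (F.toFunctor.map (F.toFunctor.preimage _))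
      rw [Functor.map_preimage]
      have : 𝒮₁.p.IsHomLift (𝟙 V ≫ 𝟙 V ≫ 𝟙 V) (e.hom ≫ G.map cz ≫ e.inv) := inferInstance
      simpa using this
    exact BasedFunctor.isHomLift_map F (𝟙 V) m₁
  let m : P ⟶ P := fpHomMk m₁ cz (by
    change F.toFunctor.map (F.toFunctor.preimage _) ≫ e.hom = e.hom ≫ G.map cz
    rw [Functor.map_preimage, Category.assoc, Category.assoc, Iso.inv_hom_id, Category.comp_id])
  have hmlift : (FibCat.fp F G).p.IsHomLift (𝟙 V) m := (fp_isHomLift_iff F G (𝟙 V) m).2 hm₁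
  have hPV : (FibCat.fp F G).p.obj P = V := hxV
  let PF : (FibCat.fp F G).p.Fiber V := ⟨P, hPV⟩
  let mF : PF ⟶ PF := ⟨m, hmlift⟩
  let iF : PF ⟶ PF := ⟨𝟙 P, IsHomLift.id hPV⟩
  haveI := hthin V PF PF
  have hm : m = 𝟙 P := congrArg Subtype.val (Subsingleton.elim mF iF)
  have hcz1 : cz = 𝟙 z := congrArg (fun n : P ⟶ P => n.hom.snd) hm
  rw [← hczfac, hcz1, Category.id_comp]

end Helpers

/-- Let `𝒮₁`, `𝒮₂`, `𝒯₁` be stacks in groupoids over `C` for the topology `J`, `F : 𝒮₂ ⟶ 𝒮₁` a functor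
over `C` whose underlying functor is fully faithful and such that every object of `𝒮₁` is locally in
the essential image of `F`, and `G : 𝒯₁ ⟶ 𝒮₁` a functor over `C`. If the 2-fibre product `𝒮₂ ×_{𝒮₁}
𝒯₁` over `C` is fibred in setoids, then `𝒯₁` is fibred in setoids, hence a stack in setoids. (The
published statement is for any 2-cartesian square of stacks in groupoids; this row is the case of
the explicit 2-fibre product, to which the general case reduces because being fibred in setoids is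
invariant under equivalence over `C`.) -/
theorem result {C : Type u} [Category.{v} C] (J : GrothendieckTopology C) {𝒮₁ 𝒮₂ 𝒯₁ : BasedCategory.{v, max u v} C}
    (h₁ : Stk.IsStack J 𝒮₁) (h₂ : Stk.IsStack J 𝒮₂) (h₃ : Stk.IsStack J 𝒯₁) (F : 𝒮₂ ⥤ᵇ 𝒮₁) [F.toFunctor.Full] [F.toFunctor.Faithful]
    (hF : ∀ y : 𝒮₁.obj, ∃ R ∈ J (𝒮₁.p.obj y), ∀ ⦃V : C⦄ (f : V ⟶ 𝒮₁.p.obj y), R f →
      ∃ (x : 𝒮₂.obj) (φ : F.obj x ⟶ y), 𝒮₁.p.IsHomLift f φ)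
    (G : 𝒯₁ ⥤ᵇ 𝒮₁) (h : FibCat.IsFibSetoid (FibCat.fp F G).p) : FibCat.IsFibSetoid 𝒯₁.p := by
  haveI := h₁.1
  haveI := h₃.1
  refine ⟨h₃.1, fun U A B => ⟨fun a b => ?_⟩⟩
  apply Subtype.ext
  haveI ha : 𝒯₁.p.IsHomLift (𝟙 U) a.1 := a.2
  haveI hb : 𝒯₁.p.IsHomLift (𝟙 U) b.1 := b.2
  haveI hbc : 𝒯₁.p.IsStronglyCartesian (𝟙 U) b.1 := isStronglyCartesian_of_isHomLift 𝒯₁.p _ b.1
  haveI ha' : 𝒯₁.p.IsHomLift (𝟙 U ≫ 𝟙 U) a.1 := by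
    rw [Category.id_comp]; exact ha
  let c : A.1 ⟶ A.1 := IsStronglyCartesian.map 𝒯₁.p (𝟙 U) b.1 (g := 𝟙 U) (f' := 𝟙 U ≫ 𝟙 U) rfl a.1
  haveI hc : 𝒯₁.p.IsHomLift (𝟙 U) c :=
    IsStronglyCartesian.map_isHomLift 𝒯₁.p (𝟙 U) b.1 (g := 𝟙 U) (f' := 𝟙 U ≫ 𝟙 U) rfl a.1
  have hcfac : c ≫ b.1 = a.1 :=
    IsStronglyCartesian.fac 𝒯₁.p (𝟙 U) b.1 (g := 𝟙 U) (f' := 𝟙 U ≫ 𝟙 U) rfl a.1
  obtain ⟨R, hR, hloc⟩ := hF (G.obj A.1)
  have hU : 𝒮₁.p.obj (G.obj A.1) = U := (G.w_obj A.1).trans A.2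
  have key : ∀ (U' : C) (hU' : U' = U) (R : Sieve U'), R ∈ J U' →
      (∀ ⦃V : C⦄ (f : V ⟶ U'), R f →
        ∃ (x : 𝒮₂.obj) (φ : F.obj x ⟶ G.obj A.1), 𝒮₁.p.IsHomLift f φ) → c = 𝟙 A.1 := by
    intro U' hU' R' hR' hloc'
    subst hU'
    exact aut_eq_id J (Groth.Agent.S12798.isPrestack_of_isStack h₃) F G h.2 A.1 _ c R' hR' hloc'
  have hc1 : c = 𝟙 A.1 := key _ hU R hR hloc
  rw [← hcfac, hc1, Category.id_comp]

end Groth.Agent.S12799
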