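import Groth.Statements.S12801


set_option autoImplicit false
open CategoryTheory
universe v₂ u₂ v u
open Stk

namespace Groth.Agent.S12801

/-- Let `p : 𝒳 ⥤ C` make `𝒳` fibred in groupoids over `C` and let `J` be a Grothendieck topology on `C`.
A sieve `S` on an object `x` of `𝒳` belongs to the topology on `𝒳` generated by the sieves whose
image under `p` generates a covering sieve if and only if the image of `S` under `p` generates a
covering sieve of `p x`: the sieves whose image covers already satisfy the axioms of a topology (the
topology on `𝒳` inherited from `C`). (The published statement is for a fibred category, with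
coverings the families of strongly cartesian morphisms `{x_i ⟶ x}` such that `{p x_i ⟶ p x}` is a
covering; this row is the case of a category fibred in groupoids, where every morphism is strongly
cartesian, in sieve form.) -/
theorem result {C : Type u} [Category.{v} C] {𝒳 : Type u₂} [Category.{v₂} 𝒳] (p : 𝒳 ⥤ C)
    (hp : FibCat.IsFibGrpd p) (J : GrothendieckTopology C) {x : 𝒳} (S : Sieve x) :
    S ∈ p.restrictedTopology J x ↔ S.functorPushforward p ∈ J (p.obj x) := by
  refine ⟨fun hS => ?_, Functor.mem_restrictedTopology_of_functorPushforward_mem⟩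
  rw [Functor.restrictedTopology] at hS
  induction hS with
  | of X S hS => rwa [← Sieve.generate_map_eq_functorPushforward]
  | top X => simp
  | pullback X S _ Y f ih =>
    refine J.superset_covering ?_ (J.pullback_stable (p.map f) ih)
    rintro V g ⟨z, h, k, hh, hk⟩
    obtain ⟨z', ψ, hψ⟩ := hp.exists_lift k
    have hV : p.obj z' = V := IsHomLift.domain_eq p k ψ
    subst hV
    have hcart : p.IsStronglyCartesian (p.map f) f := hp.isStronglyCartesian f
    have hlift : p.IsHomLift (k ≫ p.map h) (ψ ≫ h) := inferInstance
    let χ : z' ⟶ Y := Functor.IsStronglyCartesian.map p (p.map f) f hk.symm (ψ ≫ h)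
    have hχl : p.IsHomLift g χ := Functor.IsStronglyCartesian.map_isHomLift p (p.map f) f hk.symm (ψ ≫ h)
    have hχ : χ ≫ f = ψ ≫ h := Functor.IsStronglyCartesian.fac p (p.map f) f hk.symm (ψ ≫ h)
    refine ⟨z', χ, 𝟙 _, ?_, ?_⟩
    · show S (χ ≫ f)
      rw [hχ]
      exact S.downward_closed hh ψ
    · rw [Category.id_comp]
      exact IsHomLift.eq_of_isHomLift p g χ
  | transitive X S R _ _ hS H' =>
    apply J.transitive hS
    rintro V _ ⟨z, h, k, hh, rfl⟩
    rw [Sieve.pullback_comp]
    apply J.pullback_stable
    refine J.superset_covering ?_ (H' hh)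
    rintro W _ ⟨z', n, l, hn, rfl⟩
    exact ⟨z', n ≫ h, l, hn, by simp⟩

end Groth.Agent.S12801
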