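import Groth.Statements.S12802
import Groth.Agent.S12801
import Groth.Agent.Lib.FibGrpd

set_option autoImplicit false
open CategoryTheory
universe v u
open Stk

namespace Groth.Agent.S12802

section Aux

universe w v₂ u₂ v₃ u₃

open Groth.Agent.Lib.FibGrpd

variable {C : Type u} [Category.{v} C] {𝒳 : Type u₂} [Category.{v₂} 𝒳] {𝒴 : Type u₃}
  [Category.{v₃} 𝒴] (G : 𝒳 ⥤ 𝒴) (q : 𝒴 ⥤ C) (J : GrothendieckTopology C)

theorem coverPreserving_aux (h𝒳 : FibCat.IsFibGrpd (G ⋙ q)) (h𝒴 : FibCat.IsFibGrpd q) :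
    CoverPreserving ((G ⋙ q).restrictedTopology J) (q.restrictedTopology J) G where
  cover_preserve {x S} hS := by
    rw [Groth.Agent.S12801.result q h𝒴 J, ← Sieve.functorPushforward_comp]
    exact (Groth.Agent.S12801.result (G ⋙ q) h𝒳 J S).1 hS

theorem isCocontinuous_aux (h𝒳 : FibCat.IsFibGrpd (G ⋙ q)) (h𝒴 : FibCat.IsFibGrpd q) :
    G.IsCocontinuous ((G ⋙ q).restrictedTopology J) (q.restrictedTopology J) where
  cover_lift {x S} hS := by
    rw [Groth.Agent.S12801.result (G ⋙ q) h𝒳 J]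
    have hS' := (Groth.Agent.S12801.result q h𝒴 J S).1 hS
    refine J.superset_covering ?_ hS'
    rintro V g ⟨z, h, k, hh, hk⟩
    obtain ⟨x', χ, hχ⟩ := h𝒳.exists_lift (x := x) g
    have hV : (G ⋙ q).obj x' = V := IsHomLift.domain_eq (G ⋙ q) g χ
    subst hV
    have hχ' : q.IsHomLift g (G.map χ) := (isHomLift_comp_iff G q g χ).1 hχ
    have hcart : q.IsStronglyCartesian (q.map h) h := h𝒴.isStronglyCartesian h
    let m := Functor.IsStronglyCartesian.map q (q.map h) h hk (G.map χ)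
    have hm : m ≫ h = G.map χ := Functor.IsStronglyCartesian.fac q (q.map h) h hk (G.map χ)
    refine ⟨x', χ, 𝟙 _, ?_, ?_⟩
    · show S (G.map χ)
      rw [← hm]
      exact S.downward_closed hh m
    · rw [Category.id_comp]
      exact IsHomLift.eq_of_isHomLift (G ⋙ q) g χ

theorem compatiblePreserving_aux (h𝒳 : FibCat.IsFibGrpd (G ⋙ q)) (h𝒴 : FibCat.IsFibGrpd q) :
    CompatiblePreserving.{w} (q.restrictedTopology J) G where
  compatible ℱ {Z T x} hx {Y₁ Y₂ X} f₁ f₂ {g₁ g₂} hg₁ hg₂ e := by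
    have := h𝒳
    have := h𝒴
    -- lifts of `q f₁`, `q f₂` to `𝒳`
    obtain ⟨W₁, h₁, hh₁⟩ := h𝒳.exists_lift (x := Y₁) (q.map f₁)
    obtain ⟨W₂, h₂, hh₂⟩ := h𝒳.exists_lift (x := Y₂) (q.map f₂)
    have hh₁' : q.IsHomLift (q.map f₁) (G.map h₁) := (isHomLift_comp_iff G q _ h₁).1 hh₁
    have hh₂' : q.IsHomLift (q.map f₂) (G.map h₂) := (isHomLift_comp_iff G q _ h₂).1 hh₂
    have hc₁ : q.IsStronglyCartesian (q.map f₁) (G.map h₁) :=
      isStronglyCartesian_of_isHomLift q _ _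
    have hc₂ : q.IsStronglyCartesian (q.map f₂) (G.map h₂) :=
      isStronglyCartesian_of_isHomLift q _ _
    have hf₁ : q.IsHomLift (q.map f₁) f₁ := IsHomLift.map q f₁
    have hf₂ : q.IsHomLift (q.map f₂) f₂ := IsHomLift.map q f₂
    let ι₁ : X ⟶ G.obj W₁ := Functor.IsStronglyCartesian.map q (q.map f₁) (G.map h₁)
      (g := 𝟙 (q.obj X)) (Category.id_comp _).symm f₁
    let ι₂ : X ⟶ G.obj W₂ := Functor.IsStronglyCartesian.map q (q.map f₂) (G.map h₂)
      (g := 𝟙 (q.obj X)) (Category.id_comp _).symm f₂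
    have hι₁l : q.IsHomLift (𝟙 (q.obj X)) ι₁ :=
      Functor.IsStronglyCartesian.map_isHomLift q (q.map f₁) (G.map h₁) _ f₁
    have hι₂l : q.IsHomLift (𝟙 (q.obj X)) ι₂ :=
      Functor.IsStronglyCartesian.map_isHomLift q (q.map f₂) (G.map h₂) _ f₂
    have hι₁ : ι₁ ≫ G.map h₁ = f₁ := Functor.IsStronglyCartesian.fac q (q.map f₁) (G.map h₁) _ f₁
    have hι₂ : ι₂ ≫ G.map h₂ = f₂ := Functor.IsStronglyCartesian.fac q (q.map f₂) (G.map h₂) _ f₂
    -- the common base morphism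
    let r : q.obj X ⟶ (G ⋙ q).obj Z := q.map (f₂ ≫ G.map g₂)
    have hr₂ : (G ⋙ q).IsHomLift r (h₂ ≫ g₂) := by
      have : r = q.map f₂ ≫ (G ⋙ q).map g₂ := by simp [r]
      rw [this]
      infer_instance
    have hr₁ : (G ⋙ q).IsHomLift r (h₁ ≫ g₁) := by
      have : r = q.map f₁ ≫ (G ⋙ q).map g₁ := by
        show q.map (f₂ ≫ G.map g₂) = q.map f₁ ≫ q.map (G.map g₁)
        rw [← e, q.map_comp]
      rw [this]
      infer_instance
    have hcr : (G ⋙ q).IsStronglyCartesian r (h₂ ≫ g₂) :=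
      isStronglyCartesian_of_isHomLift (G ⋙ q) _ _
    let θ : W₁ ⟶ W₂ := Functor.IsStronglyCartesian.map (G ⋙ q) r (h₂ ≫ g₂)
      (g := 𝟙 (q.obj X)) (Category.id_comp _).symm (h₁ ≫ g₁)
    have hθl : (G ⋙ q).IsHomLift (𝟙 (q.obj X)) θ :=
      Functor.IsStronglyCartesian.map_isHomLift (G ⋙ q) r (h₂ ≫ g₂) _ (h₁ ≫ g₁)
    have hθ : θ ≫ h₂ ≫ g₂ = h₁ ≫ g₁ :=
      Functor.IsStronglyCartesian.fac (G ⋙ q) r (h₂ ≫ g₂) _ (h₁ ≫ g₁)
    have hθl' : q.IsHomLift (𝟙 (q.obj X)) (G.map θ) := (isHomLift_comp_iff G q _ θ).1 hθl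
    -- compatibility of the family
    have hcomp := hx h₁ (θ ≫ h₂) hg₁ hg₂ (by rw [Category.assoc, hθ])
    -- `ι₁ ≫ G θ = ι₂`
    have hcr' : q.IsStronglyCartesian r (G.map (h₂ ≫ g₂)) := by
      have : q.IsHomLift r (G.map (h₂ ≫ g₂)) := (isHomLift_comp_iff G q _ _).1 hr₂
      exact isStronglyCartesian_of_isHomLift q _ _
    have hl1 : q.IsHomLift (𝟙 (q.obj X)) (ι₁ ≫ G.map θ) := inferInstance
    have hι : ι₁ ≫ G.map θ = ι₂ := by
      apply Functor.IsStronglyCartesian.ext q r (G.map (h₂ ≫ g₂)) (𝟙 (q.obj X))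
      rw [Category.assoc, ← G.map_comp, hθ, G.map_comp, ← Category.assoc, hι₁, G.map_comp,
        ← Category.assoc, hι₂, e]
    have e1 : f₁ = ι₁ ≫ G.map h₁ := hι₁.symm
    have e2 : f₂ = ι₁ ≫ G.map (θ ≫ h₂) := by
      rw [G.map_comp, ← Category.assoc, hι, hι₂]
    rw [e1, e2, op_comp, op_comp, Functor.map_comp, Functor.map_comp]
    simp only [types_comp_apply]
    exact congrArg _ hcomp

end Aux

/-- Let `F : 𝒳 ⟶ 𝒴` be a functor over `C` between categories fibred in groupoids over `C` and endow `𝒳`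
and `𝒴` with the topologies inherited from the topology `J` on `C` (generated by the sieves whose
image in `C` covers). Then `F` maps covering sieves to families generating covering sieves, lifts
coverings (it is cocontinuous), and precomposition with `F` sends sheaves of types on `𝒴` to sheaves
on `𝒳` (it is continuous). (The published statement is for a 1-morphism of fibred categories with
the inherited topologies; this row is the case of categories fibred in groupoids, and the published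
statement phrases continuity through the fibre products of covering families and deduces a morphism
of topoi whose inverse image is precomposition with `F`, which is not stated here.) -/
theorem result {C : Type u} [Category.{v} C] (J : GrothendieckTopology C) {𝒳 𝒴 : BasedCategory.{v, max u v} C}
    (h𝒳 : FibCat.IsFibGrpd 𝒳.p) (h𝒴 : FibCat.IsFibGrpd 𝒴.p) (F : 𝒳 ⥤ᵇ 𝒴) :
    CoverPreserving (𝒳.p.restrictedTopology J) (𝒴.p.restrictedTopology J) F.toFunctor ∧
      F.toFunctor.IsCocontinuous (𝒳.p.restrictedTopology J) (𝒴.p.restrictedTopology J) ∧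
      F.toFunctor.IsContinuous (𝒳.p.restrictedTopology J) (𝒴.p.restrictedTopology J) := by
  have hw := F.w
  rw [← hw] at h𝒳 ⊢
  exact ⟨coverPreserving_aux F.toFunctor 𝒴.p J h𝒳 h𝒴, isCocontinuous_aux F.toFunctor 𝒴.p J h𝒳 h𝒴,
    Functor.isContinuous_of_coverPreserving (compatiblePreserving_aux F.toFunctor 𝒴.p J h𝒳 h𝒴)
      (coverPreserving_aux F.toFunctor 𝒴.p J h𝒳 h𝒴)⟩

end Groth.Agent.S12802
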