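import Groth.Statements.S12803
import Groth.Agent.S12801

set_option autoImplicit false
open CategoryTheory
universe v₂ u₂ v u
open Stk

namespace Groth.Agent.S12803

/-- Let `p : 𝒳 ⥤ C` make `𝒳` fibred in groupoids over `C`, let `J` be a topology on `C` and `x` an
object of `𝒳`. The functor `𝒳/x ⥤ C/p(x)` induced by `p` is an equivalence of categories, and it
identifies the localisation at `x` of the topology on `𝒳` inherited from `J` with the localisation
of `J` at `p x`: a sieve on an object of `𝒳/x` covers if and only if its image covers. -/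
theorem result {C : Type u} [Category.{v} C] {𝒳 : Type u₂} [Category.{v₂} 𝒳] (p : 𝒳 ⥤ C)
    (hp : FibCat.IsFibGrpd p) (J : GrothendieckTopology C) (x : 𝒳) :
    (Over.post p : Over x ⥤ Over (p.obj x)).IsEquivalence ∧
      ∀ (a : Over x) (S : Sieve a), S ∈ (p.restrictedTopology J).over x a ↔
        S.functorPushforward (Over.post p) ∈ (J.over (p.obj x)) ((Over.post p).obj a) := by
  refine ⟨?_, fun a S => ?_⟩
  · have hfaith : (Over.post p : Over x ⥤ Over (p.obj x)).Faithful := by
      refine ⟨fun {a b} f g hfg => ?_⟩
      have h1 : p.map f.left = p.map g.left := congrArg CommaMorphism.left hfg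
      have hcart : p.IsStronglyCartesian (p.map b.hom) b.hom := hp.isStronglyCartesian b.hom
      have hf : f.left ≫ b.hom = a.hom := Over.w f
      have hg : g.left ≫ b.hom = a.hom := Over.w g
      have hl1 : p.IsHomLift (p.map f.left) f.left := IsHomLift.map p f.left
      have hl2 : p.IsHomLift (p.map f.left) g.left := by rw [h1]; exact IsHomLift.map p g.left
      have hl3 : p.IsHomLift (p.map f.left ≫ p.map b.hom) a.hom := by
        rw [← p.map_comp, hf]; exact IsHomLift.map p a.hom
      ext
      have e1 := Functor.IsStronglyCartesian.map_uniq p (p.map b.hom) b.hom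
        (f' := p.map f.left ≫ p.map b.hom) rfl a.hom f.left hf
      have e2 := Functor.IsStronglyCartesian.map_uniq p (p.map b.hom) b.hom
        (f' := p.map f.left ≫ p.map b.hom) rfl a.hom g.left hg
      exact e1.trans e2.symm
    have hfull : (Over.post p : Over x ⥤ Over (p.obj x)).Full := by
      refine ⟨fun {a b} m => ?_⟩
      have hcart : p.IsStronglyCartesian (p.map b.hom) b.hom := hp.isStronglyCartesian b.hom
      let g₀ : p.obj a.left ⟶ p.obj b.left := m.left
      have hm : g₀ ≫ p.map b.hom = p.map a.hom := Over.w m
      have hl3 : p.IsHomLift (p.map a.hom) a.hom := IsHomLift.map p a.hom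
      let χ : a.left ⟶ b.left :=
        Functor.IsStronglyCartesian.map p (p.map b.hom) b.hom (g := g₀) hm.symm a.hom
      have hχl : p.IsHomLift g₀ χ :=
        Functor.IsStronglyCartesian.map_isHomLift p (p.map b.hom) b.hom hm.symm a.hom
      have hχ : χ ≫ b.hom = a.hom :=
        Functor.IsStronglyCartesian.fac p (p.map b.hom) b.hom hm.symm a.hom
      refine ⟨Over.homMk χ hχ, ?_⟩
      ext
      exact (IsHomLift.eq_of_isHomLift p g₀ χ).symm
    have hess : (Over.post p : Over x ⥤ Over (p.obj x)).EssSurj := by
      refine ⟨fun b => ?_⟩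
      obtain ⟨y, φ, hφ⟩ := hp.exists_lift b.hom
      have hy : p.obj y = b.left := IsHomLift.domain_eq p b.hom φ
      refine ⟨Over.mk φ, ⟨Over.isoMk (eqToIso hy) ?_⟩⟩
      have := IsHomLift.fac' p b.hom φ
      show eqToHom hy ≫ b.hom = p.map φ
      rw [this]
      simp
    exact { }
  · rw [GrothendieckTopology.mem_over_iff, GrothendieckTopology.mem_over_iff,
      Sieve.overEquiv_functorPushforward_post, Groth.Agent.S12801.result p hp J]
    rfl

end Groth.Agent.S12803
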