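import Groth.Statements.S12811
import Groth.Agent.S12792
import Groth.Agent.Lib.FibGrpd

set_option autoImplicit false
open CategoryTheory
universe v u
open Stk

namespace Groth.Agent.S12811


open Groth.Agent.Lib.FibGrpd in
/-- If the fibres of `𝒳` and `𝒴` are thin, the fibres of `𝒳 ×_𝒮 𝒴` are thin. -/
theorem fp_isThin_fiber' {C : Type u} [Category.{v} C] {𝒳 𝒴 𝒮 : BasedCategory.{v, max u v} C}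
    (F : 𝒳 ⥤ᵇ 𝒮) (G : 𝒴 ⥤ᵇ 𝒮) (h𝒳 : ∀ U : C, Quiver.IsThin (𝒳.p.Fiber U))
    (h : ∀ U : C, Quiver.IsThin (𝒴.p.Fiber U)) (U : C) :
    Quiver.IsThin ((FibCat.fp F G).p.Fiber U) := by
  intro X Y
  refine ⟨fun Φ Ψ => ?_⟩
  have hΦ : (FibCat.fp F G).p.IsHomLift (𝟙 U) Φ.1 := Φ.2
  have hΨ : (FibCat.fp F G).p.IsHomLift (𝟙 U) Ψ.1 := Ψ.2
  have hΦ2 : 𝒴.p.IsHomLift (𝟙 U) Φ.1.hom.snd := fp_isHomLift_snd' F G _ _ hΦ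
  have hΨ2 : 𝒴.p.IsHomLift (𝟙 U) Ψ.1.hom.snd := fp_isHomLift_snd' F G _ _ hΨ
  have hΦ1 : 𝒳.p.IsHomLift (𝟙 U) Φ.1.hom.fst := by
    have : 𝒳.p.IsHomLift (𝟙 U) ((FibCat.fpFst F G).map Φ.1) := inferInstance
    exact this
  have hΨ1 : 𝒳.p.IsHomLift (𝟙 U) Ψ.1.hom.fst := by
    have : 𝒳.p.IsHomLift (𝟙 U) ((FibCat.fpFst F G).map Ψ.1) := inferInstance
    exact this
  have hsnd : Φ.1.hom.snd = Ψ.1.hom.snd := by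
    let A : 𝒴.p.Fiber U := ⟨X.1.obj.snd, IsHomLift.domain_eq 𝒴.p (𝟙 U) Φ.1.hom.snd⟩
    let B : 𝒴.p.Fiber U := ⟨Y.1.obj.snd, IsHomLift.codomain_eq 𝒴.p (𝟙 U) Φ.1.hom.snd⟩
    let φ' : A ⟶ B := ⟨Φ.1.hom.snd, hΦ2⟩
    let ψ' : A ⟶ B := ⟨Ψ.1.hom.snd, hΨ2⟩
    haveI := h U A B
    exact congrArg Subtype.val (Subsingleton.elim φ' ψ')
  have hfst : Φ.1.hom.fst = Ψ.1.hom.fst := by
    let A : 𝒳.p.Fiber U := ⟨X.1.obj.fst, IsHomLift.domain_eq 𝒳.p (𝟙 U) Φ.1.hom.fst⟩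
    let B : 𝒳.p.Fiber U := ⟨Y.1.obj.fst, IsHomLift.codomain_eq 𝒳.p (𝟙 U) Φ.1.hom.fst⟩
    let φ' : A ⟶ B := ⟨Φ.1.hom.fst, hΦ1⟩
    let ψ' : A ⟶ B := ⟨Ψ.1.hom.fst, hΨ1⟩
    haveI := h𝒳 U A B
    exact congrArg Subtype.val (Subsingleton.elim φ' ψ')
  apply Subtype.ext
  apply ObjectProperty.hom_ext
  exact Limits.CategoricalPullback.hom_ext hfst hsnd

/-- For stacks in setoids `𝒳`, `𝒴`, `𝒮` over `C` for the topology `J` (stacks in groupoids that are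
fibred in setoids) and functors `F : 𝒳 ⟶ 𝒮`, `G : 𝒴 ⟶ 𝒮` over `C`, the 2-fibre product `𝒳 ×_𝒮 𝒴`
over `C` is again a stack in setoids for `J`. -/
theorem result {C : Type u} [Category.{v} C] (J : GrothendieckTopology C) {𝒳 𝒴 𝒮 : BasedCategory.{v, max u v} C}
    (F : 𝒳 ⥤ᵇ 𝒮) (G : 𝒴 ⥤ᵇ 𝒮) (h𝒳 : Stk.IsStack J 𝒳 ∧ FibCat.IsFibSetoid 𝒳.p) (h𝒴 : Stk.IsStack J 𝒴 ∧ FibCat.IsFibSetoid 𝒴.p)
    (h𝒮 : Stk.IsStack J 𝒮 ∧ FibCat.IsFibSetoid 𝒮.p) :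
    Stk.IsStack J (FibCat.fp F G) ∧ FibCat.IsFibSetoid (FibCat.fp F G).p := by
  haveI := h𝒳.2.1
  haveI := h𝒴.2.1
  haveI := h𝒮.2.1
  have hpre : Stk.IsPrestack J 𝒮 := by
    refine ⟨h𝒮.1.1, fun U R hR => ?_⟩
    have he : (Stk.resSieve R 𝒮).IsEquivalence := h𝒮.1.2 R hR
    exact ⟨inferInstance, inferInstance⟩
  exact ⟨Groth.Agent.S12792.result J F G h𝒳.1 h𝒴.1 hpre,
    Groth.Agent.Lib.FibGrpd.fp_isFibGrpd F G, fp_isThin_fiber' F G h𝒳.2.2 h𝒴.2.2⟩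

end Groth.Agent.S12811
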