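import Groth.Statements.S12816
import Groth.Agent.Lib.StkEquiv
import Groth.Agent.Lib.FibYoneda

set_option autoImplicit false
set_option backward.isDefEq.respectTransparency false
set_option backward.isDefEq.respectTransparency.types false
set_option linter.style.haveILetI false
open CategoryTheory
universe v u
open Stk

namespace Groth.Agent.S12816


section Helpers

open Groth.Agent.Lib.FibGrpd Groth.Agent.Lib.StkEquiv Groth.Agent.Lib.FibYoneda

variable {C : Type u} [Category.{v} C] {𝒳 𝒴 : BasedCategory.{v, max u v} C}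

/-- The 2-Yoneda square: evaluation at the identity intertwines postcomposition and the fibre functor. -/
def evalSquare (F : 𝒳 ⥤ᵇ 𝒴) (U : C) :
    postcomp (FibCat.overCat U) F ⋙ FibCat.evalAtId 𝒴 U ≅
      FibCat.evalAtId 𝒳 U ⋙ FibCat.fiberFunctor F U :=
  NatIso.ofComponents (fun H => Iso.refl _) (fun {H H'} α => by
    apply Subtype.ext
    change F.map (α.toNatTrans.app _) ≫ 𝟙 _ = 𝟙 _ ≫ F.map (α.toNatTrans.app _)
    rw [Category.comp_id, Category.id_comp])

theorem postcomp_ff_iff [FibCat.IsFibGrpd 𝒳.p] [FibCat.IsFibGrpd 𝒴.p] (F : 𝒳 ⥤ᵇ 𝒴) (U : C) :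
    ((postcomp (FibCat.overCat U) F).Full ↔ (FibCat.fiberFunctor F U).Full) ∧
      ((postcomp (FibCat.overCat U) F).Faithful ↔ (FibCat.fiberFunctor F U).Faithful) := by
  haveI : (FibCat.evalAtId 𝒳 U).IsEquivalence := evalAtId_isEquivalence_of_isFibGrpd
  haveI : (FibCat.evalAtId 𝒴 U).IsEquivalence := evalAtId_isEquivalence_of_isFibGrpd
  exact ⟨full_iff_of_square _ _ _ _ (evalSquare F U), faithful_iff_of_square _ _ _ _ (evalSquare F U)⟩

end Helpers

/-- Let `𝒳`, `𝒴` be fibred in groupoids over `C` and `F : 𝒳 ⟶ 𝒴` a functor over `C`. Then the underlying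
functor of `F` is fully faithful if and only if, for every object `U` of `C`, postcomposition with
`F` is a fully faithful functor from the category of functors `C/U ⟶ 𝒳` over `C` to that of functors
`C/U ⟶ 𝒴` over `C`; under the 2-Yoneda lemma the latter says that `F` induces bijections between
morphisms of pullbacks `x|_V ⟶ y|_V` and `F(x)|_V ⟶ F(y)|_V` for all objects `x, y` over `U` and all
`V ⟶ U`, that is, isomorphisms of the presheaves of morphisms. (The published statement is for
stacks over a site, not necessarily in groupoids; the stack property plays no role and is not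
assumed here, and this row treats categories fibred in groupoids.) -/
theorem result {C : Type u} [Category.{v} C] {𝒳 𝒴 : BasedCategory.{v, max u v} C}
    (h𝒳 : FibCat.IsFibGrpd 𝒳.p) (h𝒴 : FibCat.IsFibGrpd 𝒴.p) (F : 𝒳 ⟶ 𝒴) :
    (F.toFunctor.Full ∧ F.toFunctor.Faithful) ↔
      ∀ U : C, (Bicategory.postcomp (FibCat.overCat U) F).Full ∧ (Bicategory.postcomp (FibCat.overCat U) F).Faithful := by
  haveI := h𝒳
  haveI := h𝒴
  have hpc : ∀ U : C, Bicategory.postcomp (FibCat.overCat U) F =
      Groth.Agent.Lib.StkEquiv.postcomp (FibCat.overCat U) F := fun U => rfl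
  constructor
  · rintro ⟨hfull, hfaith⟩ U
    rw [hpc U]
    exact ⟨Groth.Agent.Lib.StkEquiv.postcomp_full _ F, Groth.Agent.Lib.StkEquiv.postcomp_faithful _ F⟩
  · intro h
    refine ⟨Groth.Agent.Lib.FibGrpd.full_of_fiberFunctor F (fun U => ?_),
      Groth.Agent.Lib.FibGrpd.faithful_of_fiberFunctor F (fun U => ?_)⟩
    · have := (h U).1
      rw [hpc U] at this
      exact (postcomp_ff_iff F U).1.1 this
    · have := (h U).2
      rw [hpc U] at this
      exact (postcomp_ff_iff F U).2.1 this

end Groth.Agent.S12816
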