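import Groth.Statements.S1283
import Groth.Agent.Lib.QDomSelf68
import Groth.Agent.Lib.StrictGraph68

set_option autoImplicit false
universe u
open FlatMor

namespace Groth.Agent.S1283

open AlgebraicGeometry CategoryTheory Limits in
/-- Let φ : X → S be separated and of finite type with S quasi-compact and quasi-separated, and U ⊆ S a
quasi-compact open over which φ is an isomorphism. Then there is a U-admissible blow-up b : S' → S
such that the strict transform X'' of X (the closed subscheme of X ×_S S' cut out by the functions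
locally killed by a power of the pulled-back exceptional ideal) maps to S' by an open immersion. -/
theorem result {X S : Scheme.{u}} [CompactSpace S] [QuasiSeparatedSpace S]
    (φ : X ⟶ S) [IsSeparated φ] [LocallyOfFiniteType φ] [QuasiCompact φ] (U : S.Opens) (hU : IsCompact (U : Set S)) [IsIso (φ ∣_ U)] :
    ∃ (𝓘 : S.IdealSheafData) (S' : Scheme.{u}) (b : S' ⟶ S), BlowUp.IsBlowUp b 𝓘 ∧ BlowUp.IsAdmissibleFor U 𝓘 ∧
      ∀ (X' : Scheme.{u}) (p₁ : X' ⟶ X) (p₂ : X' ⟶ S'), IsPullback p₁ p₂ φ b →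
      ∀ (𝒥 : X'.IdealSheafData),
        (∀ (W : X'.affineOpens) (a : Γ(X', W.1)), a ∈ 𝒥.ideal W ↔
          BlowUp.KilledByPowerNear ((𝓘.comap φ).comap p₁) (Coh.structureModule X') W a) →
        IsOpenImmersion (𝒥.subschemeι ≫ p₂) := by
  have : CompactSpace X := QuasiCompact.compactSpace_of_compactSpace φ
  have : QuasiSeparatedSpace X := quasiSeparatedSpace_of_quasiSeparated φ
  let s : (U : Scheme.{u}) ⟶ X := inv (φ ∣_ U) ≫ (φ ⁻¹ᵁ U).ι
  have hs : s ≫ φ = U.ι := by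
    rw [Category.assoc, ← morphismRestrict_ι, IsIso.inv_hom_id_assoc]
  have hf : U.ι ≫ 𝟙 S = s ≫ φ := by
    rw [Category.comp_id, hs]
  obtain ⟨𝓘, S', b, hb, hadm, hsupp, W, hle, ft, hft, hWd, hext, hclosed⟩ :=
    Groth.Agent.Lib.QDomSelf68.main_self_support (𝟙 S) φ U hU s hf
  refine ⟨𝓘, S', b, hb, hadm, ?_⟩
  intro X' p₁ p₂ hpb 𝒥 h𝒥
  have hft' : W.ι ≫ b = ft ≫ φ := by
    rw [← hft, Category.comp_id]
  -- the graph
  let Γ : (W : Scheme.{u}) ⟶ X' := hpb.lift ft W.ι hft'.symm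
  have hΓ1 : Γ ≫ p₁ = ft := hpb.lift_fst _ _ _
  have hΓ2 : Γ ≫ p₂ = W.ι := hpb.lift_snd _ _ _
  have hΓcl : IsClosedImmersion Γ := by
    have himm : IsImmersion Γ := by
      have : IsImmersion (Γ ≫ p₂) := by
        rw [hΓ2]
        infer_instance
      exact IsImmersion.of_comp Γ p₂
    apply IsClosedImmersion.of_isPreimmersion
    let e := hpb.flip.isoPullback
    have hclosed' : IsClosed (Set.range (pullback.lift W.ι ft hft')) :=
      Groth.Agent.Lib.QDomMain68.isClosed_range_lift_congr φ _ _ (Category.comp_id b) W.ι ft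
        hft hft' hclosed
    have hΓe : Γ = pullback.lift W.ι ft hft' ≫ e.inv := by
      apply hpb.hom_ext
      · rw [hΓ1, Category.assoc, hpb.flip.isoPullback_inv_snd, pullback.lift_snd]
      · rw [hΓ2, Category.assoc, hpb.flip.isoPullback_inv_fst, pullback.lift_fst]
    rw [hΓe, Scheme.Hom.comp_base, TopCat.coe_comp, Set.range_comp]
    exact e.inv.isClosedEmbedding.isClosedMap _ hclosed'
  -- the exceptional ideal
  have h𝓔eq : (𝓘.comap φ).comap p₁ = (𝓘.comap b).comap p₂ := by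
    rw [← Scheme.IdealSheafData.comap_comp, ← Scheme.IdealSheafData.comap_comp, hpb.w]
  have h𝓔ft : BlowUp.IsFiniteTypeIdeal ((𝓘.comap φ).comap p₁) :=
    Groth.Agent.Lib.BlowUpAdm68.isFiniteTypeIdeal_comap _ _
      (Groth.Agent.Lib.BlowUpAdm68.isFiniteTypeIdeal_comap _ _ hadm.1)
  have hcart : BlowUp.IsEffCartierIdeal (((𝓘.comap φ).comap p₁).comap Γ) := by
    rw [h𝓔eq, ← Scheme.IdealSheafData.comap_comp, hΓ2]
    exact Groth.Agent.Lib.EffCartier96.isEffCartierIdeal_comap_of_flat _ hb.1 W.ι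
  -- the interior
  let D₀ : X'.Opens := p₂ ⁻¹ᵁ (b ⁻¹ᵁ U)
  have hD₀ : ∀ x : X', x ∉ ((𝓘.comap φ).comap p₁).support → x ∈ D₀ := by
    intro x hx
    rw [h𝓔eq, Scheme.IdealSheafData.support_comap, Scheme.IdealSheafData.support_comap] at hx
    by_contra h
    apply hx
    change b (p₂ x) ∈ (𝓘.support : Set S)
    rw [hsupp]
    exact h
  let ρ : (D₀ : Scheme.{u}) ⟶ W := (p₂ ∣_ (b ⁻¹ᵁ U)) ≫ S'.homOfLE hle
  have hρW : ρ ≫ W.ι = D₀.ι ≫ p₂ := by
    rw [Category.assoc, Scheme.homOfLE_ι, morphismRestrict_ι]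
  have hD₀φ : Set.range (D₀.ι ≫ p₁) ⊆ Set.range (φ ⁻¹ᵁ U).ι := by
    rintro _ ⟨z, rfl⟩
    rw [Scheme.Opens.range_ι]
    change φ ((D₀.ι ≫ p₁) z) ∈ U
    rw [← Scheme.Hom.comp_apply, Category.assoc, hpb.w, Scheme.Hom.comp_apply, Scheme.Hom.comp_apply]
    exact z.2
  let g' : (D₀ : Scheme.{u}) ⟶ (φ ⁻¹ᵁ U : X.Opens) := IsOpenImmersion.lift (φ ⁻¹ᵁ U).ι (D₀.ι ≫ p₁) hD₀φ
  have hg' : g' ≫ (φ ⁻¹ᵁ U).ι = D₀.ι ≫ p₁ := IsOpenImmersion.lift_fac _ _ _
  have hg'φ : g' ≫ (φ ∣_ U) = (p₂ ∣_ (b ⁻¹ᵁ U)) ≫ (b ∣_ U) := by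
    rw [← cancel_mono U.ι, Category.assoc, Category.assoc, morphismRestrict_ι, reassoc_of% hg',
      morphismRestrict_ι, morphismRestrict_ι_assoc, hpb.w]
  have hρ : ρ ≫ Γ = D₀.ι := by
    apply hpb.hom_ext
    · rw [Category.assoc, hΓ1, Category.assoc, hext, ← hg', ← Category.assoc (p₂ ∣_ (b ⁻¹ᵁ U)),
        ← hg'φ, Category.assoc, IsIso.hom_inv_id_assoc]
    · rw [Category.assoc, hΓ2, hρW]
  have h𝒥eq : 𝒥 = Γ.ker :=
    Groth.Agent.Lib.StrictGraph68.eq_ker_of_graph _ h𝓔ft Γ hcart D₀ hD₀ ρ hρ 𝒥 h𝒥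
  subst h𝒥eq
  have h1 : Γ.ker.subschemeι ≫ p₂ = inv Γ.toImage ≫ W.ι := by
    rw [IsIso.eq_inv_comp, ← Category.assoc, Γ.toImage_imageι, hΓ2]
  rw [h1]
  infer_instance

end Groth.Agent.S1283
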