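import Groth.Statements.S9867
import Groth.Agent.Lib.FpqcDescent
import Mathlib.RingTheory.Flat.FaithfullyFlat.Algebra
import Mathlib.RingTheory.RingHom.Flat
import Mathlib.RingTheory.RingHom.FaithfullyFlat
import Mathlib.AlgebraicGeometry.Morphisms.LocalFlatDescent
-- import your own Groth.Agent.* helpers here

set_option autoImplicit false
open CategoryTheory CategoryTheory.Limits AlgebraicGeometry Opposite
universe u
open Desc

namespace Groth.Agent.S9867

open TensorProduct in
/-- If `T` is faithfully flat over `S` and flat over `R`, then `S` is flat over `R`. -/
theorem flat_of_flat_comp_faithfullyFlat (R S T : Type*) [CommRing R] [CommRing S] [CommRing T]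
    [Algebra R S] [Algebra S T] [Algebra R T] [IsScalarTower R S T]
    [Module.Flat R T] [Module.FaithfullyFlat S T] : Module.Flat R S := by
  rw [Module.Flat.iff_lTensor_preserves_injective_linearMap]
  intro N P _ _ _ _ f hf
  have h1 : Function.Injective (f.lTensor T) :=
    Module.Flat.lTensor_preserves_injective_linearMap f hf
  have h2 : Function.Injective (f.baseChange S) := by
    rw [← Module.FaithfullyFlat.lTensor_injective_iff_injective S T]
    have key : ∀ x, (AlgebraTensorModule.cancelBaseChange R S S T P) ((f.baseChange S).lTensor T x)
        = f.lTensor T ((AlgebraTensorModule.cancelBaseChange R S S T N) x) := by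
      intro x
      induction x using TensorProduct.induction_on with
      | zero => simp
      | tmul t y =>
        induction y using TensorProduct.induction_on with
        | zero => simp
        | tmul s n => simp
        | add a b ha hb =>
          simp only [LinearMap.lTensor_tmul] at ha hb
          simp [tmul_add, ha, hb]
      | add a b ha hb => simp [ha, hb]
    intro a b hab
    apply (AlgebraTensorModule.cancelBaseChange R S S T N).injective
    apply h1
    rw [← key, ← key, hab]
  exact h2

open TensorProduct in
/-- Flatness of ring maps codescends along faithfully flat ring maps. -/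
theorem flat_codescendsAlong_faithfullyFlat :
    RingHom.CodescendsAlong RingHom.Flat RingHom.FaithfullyFlat := by
  refine .mk _ RingHom.Flat.respectsIso fun R S T _ _ _ _ _ h h' ↦ ?_
  rw [RingHom.flat_algebraMap_iff] at h' ⊢
  rw [RingHom.faithfullyFlat_algebraMap_iff] at h
  have h1 : Module.Flat R (S ⊗[R] T) := Module.Flat.trans R S (S ⊗[R] T)
  let _ : Algebra T (S ⊗[R] T) := Algebra.TensorProduct.rightAlgebra
  have h2 : Module.FaithfullyFlat T (S ⊗[R] T) :=
    .of_linearEquiv _ _ (Algebra.TensorProduct.commRight R T S).symm.toLinearEquiv
  exact flat_of_flat_comp_faithfullyFlat R T (S ⊗[R] T)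

/-- Flatness satisfies fpqc descent. -/
theorem descendsAlong_flat :
    MorphismProperty.DescendsAlong @Flat
      (@Surjective ⊓ @Flat ⊓ @QuasiCompact : MorphismProperty Scheme.{u}) :=
  HasRingHomProperty.descendsAlong_flat flat_codescendsAlong_faithfullyFlat

/-- Being finite locally free (finite, flat and locally of finite presentation), and being finite
locally free of a given degree d, are fpqc local on the base; the descent directions, stated as
descent along surjective flat quasi-compact morphisms: if the base change of f along such a morphism
is finite locally free then so is f, and if moreover that base change has constant rank d (Mathlib's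
rank function of a finite flat morphism) then f has constant rank d. (With Zariski-locality on the
target these give the statements for arbitrary fpqc coverings; stability under base change is the
other direction.) -/
theorem result :
    MorphismProperty.DescendsAlong (fun _ _ f => Mor2.IsFinLocFree f : MorphismProperty Scheme.{u})
      (@Surjective ⊓ @Flat ⊓ @QuasiCompact : MorphismProperty Scheme.{u}) ∧
    ∀ d : ℕ, MorphismProperty.DescendsAlong (fun _ _ f => Mor2.IsFinLocFreeOfDeg d f : MorphismProperty Scheme.{u})
      (@Surjective ⊓ @Flat ⊓ @QuasiCompact : MorphismProperty Scheme.{u}) := by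
  have key : ∀ {A X Y Z : Scheme.{u}} {fst : A ⟶ X} {snd : A ⟶ Y} {f : X ⟶ Z} {g : Y ⟶ Z},
      IsPullback fst snd f g →
      (@Surjective ⊓ @Flat ⊓ @QuasiCompact : MorphismProperty Scheme.{u}) f →
      Mor2.IsFinLocFree fst → Mor2.IsFinLocFree g := by
    intro A X Y Z fst snd f g h hf hfst
    refine ⟨?_, ?_, ?_⟩
    · exact (Groth.Agent.Lib.FpqcDescent.descendsAlong_isFinite).of_isPullback h hf hfst.1
    · exact descendsAlong_flat.of_isPullback h hf hfst.2.1
    · exact MorphismProperty.of_isPullback_of_descendsAlong
        (P := @LocallyOfFinitePresentation) h hf hfst.2.2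
  refine ⟨⟨fun h hf hfst => key h hf hfst⟩, fun d => ⟨fun {A X Y Z fst snd f g} h hf hfst => ?_⟩⟩
  have hg := key h hf hfst.1
  refine ⟨hg, fun z => ?_⟩
  have : Surjective f := hf.1.1
  obtain ⟨x, rfl⟩ := f.surjective z
  have : IsFinite g := hg.1
  have : Flat g := hg.2.1
  rw [← Scheme.Hom.finrank_of_isPullback snd fst g f h.flip x]
  exact hfst.2 x

end Groth.Agent.S9867
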