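import Groth.Statements.S12838
-- import your own Groth.Agent.* helpers here
import Groth.Agent.Lib.QuotStTriv91b

set_option autoImplicit false
universe u
open CategoryTheory AlgebraicGeometry
open AlgSt

namespace Groth.Agent.S12838

open MonoidalCategory CartesianMonoidalCategory MonObj GrpObj in
/-- Let `G` be a group scheme over `S` acting on an `S`-scheme `X`, `f : T ⟶ T'` a morphism of
`S`-schemes, `x` a `T`-point and `x'` a `T'`-point of `X`. In the quotient category `[X/G]` (scheme
torsors for the fppf topology with an equivariant morphism to `X`) the canonical functor `X ⟶ [X/G]`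
sends `x` to the trivial torsor `G ×_S T ⟶ T`, with `G` acting by left multiplication on the first
factor and the equivariant morphism `(h, t) ↦ h · x(t)`, and likewise for `x'`. The morphisms from
the image of `x` to the image of `x'` lying over `f` are exactly the maps `(h, t) ↦ (h · g(t),
f(t))` for those `T`-points `g` of `G` with `g · (x' ∘ f) = x`: every morphism over `f` is of this
form, and every such `g` defines one. -/
theorem result (S : Scheme.{u}) (G : Over S) [GrpObj G] (X : Over S)
    (aX : AlgGrp.Action G X) (T T' : Over S) (f : T ⟶ T') (x : T ⟶ X) (x' : T' ⟶ X) :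
    (∀ h : (AlgSt.quotMap Scheme.fppfPrecoverage G aX).obj ((AlgSt.ofOverCat X).obj (Over.mk x)) ⟶ (AlgSt.quotMap Scheme.fppfPrecoverage G aX).obj ((AlgSt.ofOverCat X).obj (Over.mk x')),
        h.base = f → ∃ g : T ⟶ G, lift g (f ≫ x') ≫ aX.act = x ∧
          h.top = lift (fst G T * (snd G T ≫ g)) (snd G T ≫ f)) ∧
    (∀ g : T ⟶ G, lift g (f ≫ x') ≫ aX.act = x →
        ∃ h : (AlgSt.quotMap Scheme.fppfPrecoverage G aX).obj ((AlgSt.ofOverCat X).obj (Over.mk x)) ⟶ (AlgSt.quotMap Scheme.fppfPrecoverage G aX).obj ((AlgSt.ofOverCat X).obj (Over.mk x')),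
          h.base = f ∧ h.top = lift (fst G T * (snd G T ≫ g)) (snd G T ≫ f)) := by
  have key : ∀ g : T ⟶ G, lift g (f ≫ x') ≫ aX.act = lift g f ≫ (G ◁ x') ≫ aX.act := by
    intro g
    rw [← Category.assoc]
    congr 1
    apply CartesianMonoidalCategory.hom_ext
    · simp only [lift_fst, Category.assoc, whiskerLeft_fst]
    · simp only [lift_snd, Category.assoc, whiskerLeft_snd, lift_snd_assoc]
  refine ⟨fun h hb => ?_, fun g hg => ?_⟩
  · obtain ⟨σ, b, t, hb', ht, h1, h2, h3⟩ := Groth.Agent.Lib.QuotStTriv91.exists_section_of_hom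
      ((AlgSt.ofOverCat X).obj (Over.mk x))
      ((AlgSt.quotMap Scheme.fppfPrecoverage G aX).obj ((AlgSt.ofOverCat X).obj (Over.mk x'))) h
    rw [← ht]
    have hbf : f = b := (hb'.trans hb).symm
    subst hbf
    change T ⟶ G ⊗ T' at σ
    have h1' : σ ≫ (G ◁ x') ≫ aX.act = x := h1
    have h2' : σ ≫ snd G T' = f := h2
    have hσ : σ = lift (σ ≫ fst G T') f := by
      apply CartesianMonoidalCategory.hom_ext
      · rw [lift_fst]
      · rw [lift_snd, h2']
    refine ⟨σ ≫ fst G T', ?_, ?_⟩
    · rw [key, ← hσ, h1']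
    · rw [h3]
      have := Groth.Agent.Lib.QuotStTriv91.whiskerLeft_lift_leftMul (G := G) (σ ≫ fst G T') f
      rw [← hσ] at this
      exact this
  · obtain ⟨h, hb, ht⟩ := Groth.Agent.Lib.QuotStTriv91.exists_hom_of_section
      ((AlgSt.quotMap Scheme.fppfPrecoverage G aX).obj ((AlgSt.ofOverCat X).obj (Over.mk x')))
      ((AlgSt.ofOverCat X).obj (Over.mk x)) (lift g f) ((key g).symm.trans hg)
    refine ⟨h, ?_, ?_⟩
    · rw [hb]
      exact lift_snd _ _
    · rw [ht]
      exact Groth.Agent.Lib.QuotStTriv91.whiskerLeft_lift_leftMul g f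

end Groth.Agent.S12838
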