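import Groth.Statements.S12839
-- import your own Groth.Agent.* helpers here
import Groth.Agent.Lib.QuotStTriv91

set_option autoImplicit false
universe u
open CategoryTheory AlgebraicGeometry
open AlgSt

namespace Groth.Agent.S12839

/-- Let `G` be a group scheme over `S` acting on an `S`-scheme `X` and let `A` be an object of the
quotient category `[X/G]` over the `S`-scheme `T` — a `G`-torsor `P ⟶ T` for the fppf topology which
is a scheme, with an equivariant `P ⟶ X`. Then there is an fppf covering family of `T` such that for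
every member `f : T' ⟶ T` there are a `T'`-point `x` of `X` and a morphism of `[X/G]` lying over `f`
from the image of `x` under the canonical functor `X ⟶ [X/G]` (the trivial torsor `G ×_S T'` with
`(h, t) ↦ h · x(t)`) to `A`: every object is, fppf-locally on its base, isomorphic to a trivial one. -/
theorem result (S : Scheme.{u}) (G : Over S) [GrpObj G] (X : Over S)
    (aX : AlgGrp.Action G X) (A : AlgSt.QuotObj Scheme.fppfPrecoverage G aX) :
    ∃ (R : Presieve A.base.left) (_ : R ∈ Scheme.fppfPrecoverage A.base.left),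
      ∀ ⦃T' : Scheme.{u}⦄ (f : T' ⟶ A.base.left), R f →
        ∃ (x : Over.mk (f ≫ A.base.hom) ⟶ X)
          (h : (AlgSt.quotMap Scheme.fppfPrecoverage G aX).obj ((AlgSt.ofOverCat X).obj (Over.mk x)) ⟶ A),
          h.base = Over.homMk f rfl := by
  obtain ⟨R, hR, hsec⟩ := A.loc
  refine ⟨R, hR, fun T' f hf => ?_⟩
  obtain ⟨s, hs⟩ := hsec f hf
  have hs' : s ≫ A.π.left = f := hs
  have hw : s ≫ A.P.hom = f ≫ A.base.hom := by
    rw [← hs', Category.assoc, Over.w A.π]
  obtain ⟨σ, hσ⟩ : ∃ σ : Over.mk (f ≫ A.base.hom) ⟶ A.P, σ.left = s := ⟨Over.homMk s hw, rfl⟩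
  refine ⟨σ ≫ A.φ, ?_⟩
  obtain ⟨h, hb, -⟩ := Groth.Agent.Lib.QuotStTriv91.exists_hom_of_section A
    ((AlgSt.ofOverCat X).obj (Over.mk (σ ≫ A.φ))) σ rfl
  refine ⟨h, ?_⟩
  rw [hb]
  apply Over.OverMorphism.ext
  rw [Over.comp_left, hσ]
  exact hs'

end Groth.Agent.S12839
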