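import Groth.Statements.S12856
import Groth.Agent.Lib.AlgStQC

set_option autoImplicit false
open CategoryTheory AlgebraicGeometry
universe u
open AlgSt

namespace Groth.Agent.S12856

/-- (2) ⇔ (4): an algebraic stack `𝒳` over `S` admits a surjective smooth morphism from an affine scheme
if and only if it admits a surjective smooth morphism from a quasi-compact algebraic space. -/
theorem result {S : Scheme.{u}} {𝒳 : AlgSt.Cat S}
    (h𝒳 : AlgSt.IsAlgStack Scheme.fppfPrecoverage 𝒳) :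
    AlgSt.IsQuasiCompact 𝒳 ↔
      ∃ (U : AlgSp.Space S) (x : AlgSt.ofSp U.obj ⥤ᵇ 𝒳), AlgSp.IsQuasiCompactSp U.obj ∧
        AlgSt.RepByAlgSpWith (AlgSp.LocP @Smooth) x ∧ AlgSt.RepByAlgSpWith AlgSp.IsSurjectiveMor x := by
  constructor
  · rintro ⟨U, x, hU, hx, hxs⟩
    haveI : IsAffine U.left := hU
    refine ⟨⟨(AlgSp.yon S).obj U, AlgSp.IsAlgSpace.yon_obj U⟩,
      BasedFunctor.comp (AlgSt.toOverCat U) x,
      (Groth.Agent.Lib.AlgSpQC.isQuasiCompactSp_yon_iff U).2 inferInstance, ?_, ?_⟩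
    · exact (Groth.Agent.Lib.AlgStEquiv.repByAlgSpWith_equiv_comp_iff _ (AlgSt.toOverCat U)
        (Groth.Agent.Lib.AlgStFp.toOverCat_isEquivOver U) x).1 hx
    · exact (Groth.Agent.Lib.AlgStEquiv.repByAlgSpWith_equiv_comp_iff _ (AlgSt.toOverCat U)
        (Groth.Agent.Lib.AlgStFp.toOverCat_isEquivOver U) x).1 hxs
  · rintro ⟨U, x, hU, hx, hxs⟩
    haveI : FibCat.IsFibGrpd (AlgSt.ofSp U.obj).p := Stk.isFibGrpd_ofPsh U.obj.obj
    exact Groth.Agent.Lib.AlgStQC.isQuasiCompact_of_smooth_surjective x hx hxs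
      ((Groth.Agent.Lib.AlgStQC.isQuasiCompact_ofSp_iff U).2 hU)

end Groth.Agent.S12856
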