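import Groth.Statements.S12872
import Groth.Agent.Lib.AlgStSpTest2

set_option autoImplicit false
open CategoryTheory AlgebraicGeometry
universe u
open AlgSt

namespace Groth.Agent.S12872

/-- The composite of two closed immersions `f : 𝒳 ⟶ 𝒴`, `g : 𝒴 ⟶ 𝒵` of algebraic stacks over `S` is
again one. -/
theorem result {S : Scheme.{u}} {𝒳 𝒴 𝒵 : AlgSt.Cat S}
    (h𝒳 : AlgSt.IsAlgStack Scheme.fppfPrecoverage 𝒳) (h𝒴 : AlgSt.IsAlgStack Scheme.fppfPrecoverage 𝒴) (h𝒵 : AlgSt.IsAlgStack Scheme.fppfPrecoverage 𝒵)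
    (f : 𝒳 ⥤ᵇ 𝒴) (g : 𝒴 ⥤ᵇ 𝒵) (hf : AlgSt.IsClosedImm f) (hg : AlgSt.IsClosedImm g) :
    AlgSt.IsClosedImm (BasedFunctor.comp f g) := by
  haveI := h𝒳.isStack.1
  haveI := h𝒴.isStack.1
  exact Groth.Agent.Lib.AlgStSpTest.repByAlgSpWith_comp' _
    (Groth.Agent.Lib.AlgStSpTest.isoInv_of_respectsIso _)
    (Groth.Agent.Lib.AlgStSpTest.schemeLocal_repWith @IsClosedImmersion)
    (fun _ _ _ _ _ _ a b ha hb => MorphismProperty.comp_mem _ a b ha hb) f g hf hg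

end Groth.Agent.S12872
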