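import Groth.Statements.S12877
import Groth.Agent.Lib.AlgStLargest4

set_option autoImplicit false
open CategoryTheory AlgebraicGeometry
universe u
open AlgSt

namespace Groth.Agent.S12877

/-- Let `P`, `Q`, `R` be properties of morphisms of algebraic spaces over `S`, each stable under base
change and fppf local on the base, such that smooth morphisms have `R`, every morphism `f : X ⟶ Y`
of algebraic spaces with `Q` admits a largest open subspace `W ⊂ X` on which `f` has `P`, and for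
such `f` and every `g : Y' ⟶ Y` with `R` the inverse image of `W` in `X ×_Y Y'` is the largest open
subspace on which the base change of `f` has `P`. Then for every 1-morphism `f : 𝒳 ⟶ 𝒴` of algebraic
stacks over `S` which is representable by algebraic spaces and has `Q` there is a largest open
substack `𝒳' ⊂ 𝒳` such that the restriction of `f` to `𝒳'` has `P`. (Stability under base change is
asked for every pullback square of fppf sheaves whose four corners are algebraic spaces. The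
published statement also describes the largest open substack of a base change along a morphism with
`R`; this row does not include that part.) -/
theorem result {S : Scheme.{u}} {𝒳 𝒴 : AlgSt.Cat S}
    (h𝒳 : AlgSt.IsAlgStack Scheme.fppfPrecoverage 𝒳) (h𝒴 : AlgSt.IsAlgStack Scheme.fppfPrecoverage 𝒴)
    (P Q R : MorphismProperty (AlgSp.Sp S))
    (hPb : ∀ ⦃X₁ Y₁ X₂ Y₂ : AlgSp.Sp S⦄, AlgSp.IsAlgSpace X₁ → AlgSp.IsAlgSpace Y₁ → AlgSp.IsAlgSpace X₂ →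
      AlgSp.IsAlgSpace Y₂ → ∀ (a : X₁ ⟶ Y₁) (b : Y₂ ⟶ Y₁) (a' : X₂ ⟶ Y₂) (b' : X₂ ⟶ X₁),
      IsPullback b' a' a b → P a → P a')
    (hQb : ∀ ⦃X₁ Y₁ X₂ Y₂ : AlgSp.Sp S⦄, AlgSp.IsAlgSpace X₁ → AlgSp.IsAlgSpace Y₁ → AlgSp.IsAlgSpace X₂ →
      AlgSp.IsAlgSpace Y₂ → ∀ (a : X₁ ⟶ Y₁) (b : Y₂ ⟶ Y₁) (a' : X₂ ⟶ Y₂) (b' : X₂ ⟶ X₁),
      IsPullback b' a' a b → Q a → Q a')
    (hRb : ∀ ⦃X₁ Y₁ X₂ Y₂ : AlgSp.Sp S⦄, AlgSp.IsAlgSpace X₁ → AlgSp.IsAlgSpace Y₁ → AlgSp.IsAlgSpace X₂ →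
      AlgSp.IsAlgSpace Y₂ → ∀ (a : X₁ ⟶ Y₁) (b : Y₂ ⟶ Y₁) (a' : X₂ ⟶ Y₂) (b' : X₂ ⟶ X₁),
      IsPullback b' a' a b → R a → R a')
    (hP : AlgSp.IsLocalOnBase AlgSp.IsFppfCover P) (hQ : AlgSp.IsLocalOnBase AlgSp.IsFppfCover Q)
    (hR : AlgSp.IsLocalOnBase AlgSp.IsFppfCover R)
    (h₂ : ∀ (X Y : AlgSp.Space S) (g : X ⟶ Y), AlgSp.LocP @Smooth g.hom → R g.hom)
    (h₃ : ∀ (X Y : AlgSp.Space S) (f : X ⟶ Y), Q f.hom →
      ∃ (W : AlgSp.Space S) (w : W ⟶ X), (AlgSp.RepWith @IsOpenImmersion w.hom ∧ P (w ≫ f).hom ∧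
          ∀ (W₁ : AlgSp.Space S) (w₁ : W₁ ⟶ X), AlgSp.RepWith @IsOpenImmersion w₁.hom → P (w₁ ≫ f).hom →
            ∃ k : W₁ ⟶ W, k ≫ w = w₁))
    (h₄ : ∀ (X Y X' Y' : AlgSp.Space S) (f : X ⟶ Y) (g : Y' ⟶ Y) (f' : X' ⟶ Y') (g' : X' ⟶ X),
      IsPullback g'.hom f'.hom f.hom g.hom → Q f.hom → R g.hom →
      ∀ (W : AlgSp.Space S) (w : W ⟶ X), (AlgSp.RepWith @IsOpenImmersion w.hom ∧ P (w ≫ f).hom ∧
          ∀ (W₁ : AlgSp.Space S) (w₁ : W₁ ⟶ X), AlgSp.RepWith @IsOpenImmersion w₁.hom → P (w₁ ≫ f).hom →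
            ∃ k : W₁ ⟶ W, k ≫ w = w₁) →
        ∀ (W' : AlgSp.Space S) (w' : W' ⟶ X') (k : W' ⟶ W), IsPullback k.hom w'.hom w.hom g'.hom →
          (AlgSp.RepWith @IsOpenImmersion w'.hom ∧ P (w' ≫ f').hom ∧
          ∀ (W₁ : AlgSp.Space S) (w₁ : W₁ ⟶ X'), AlgSp.RepWith @IsOpenImmersion w₁.hom → P (w₁ ≫ f').hom →
            ∃ k : W₁ ⟶ W', k ≫ w' = w₁))
    (f : 𝒳 ⥤ᵇ 𝒴) (hf : AlgSt.RepByAlgSpWith Q f) :
    ∃ Q₀ : 𝒳.obj → Prop, AlgSt.IsOpenSubstack 𝒳 Q₀ Scheme.fppfPrecoverage ∧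
      AlgSt.RepByAlgSpWith P (BasedFunctor.comp (AlgSt.subIncl 𝒳 Q₀) f) ∧
        ∀ Q₁ : 𝒳.obj → Prop, AlgSt.IsOpenSubstack 𝒳 Q₁ Scheme.fppfPrecoverage →
          AlgSt.RepByAlgSpWith P (BasedFunctor.comp (AlgSt.subIncl 𝒳 Q₁) f) → ∀ y, Q₁ y → Q₀ y := by
  haveI := h𝒳.isStack.1
  haveI := h𝒴.isStack.1
  obtain ⟨V, v, hv, hvs⟩ := h𝒴.atlas
  haveI : FibCat.IsFibGrpd (FibCat.overCat V).p := Groth.Agent.Lib.FibGrpd.overCat_isFibGrpd V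
  have hℬ : RepByAlgSp (FibCat.overCat V) := Groth.Agent.Lib.AlgStFp.repByAlgSp_overCat V
  have hf1 : RepByAlgSp1 f := Groth.Agent.Lib.AlgStPtsQC.repByAlgSp1_of_repByAlgSpWith _ hf
  have h𝒜 : RepByAlgSp (FibCat.fp v f) :=
    Groth.Agent.Lib.AlgStBoot.repByAlgSp_fp_of_repByAlgSp1 f v hf1 hℬ
  have hg : RepByAlgSpWith Q (FibCat.fpFst v f) :=
    Groth.Agent.Lib.AlgStRep.repByAlgSpWith_fpFst Q f v hf
  obtain ⟨E, hE⟩ := Groth.Agent.Lib.AlgStLargest.exists_isLargest P Q hPb hQb hP hQ h₃ h𝒜 hℬ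
    (FibCat.fpFst v f) hg
  have hvR : RepByAlgSpWith R v :=
    Groth.Agent.Lib.AlgStDiagDict2.repByAlgSpWith_mono v (fun F T hF α hα =>
      h₂ ⟨F, hF⟩ ⟨(AlgSp.yon S).obj T, AlgSp.IsAlgSpace.yon_obj T⟩ (ObjectProperty.homMk α) hα) hv
  have hℛ : RepByAlgSp (FibCat.fp v v) :=
    Groth.Agent.Lib.AlgStBoot.repByAlgSp_fp_of_repByAlgSp1 v v
      (Groth.Agent.Lib.AlgStPtsQC.repByAlgSp1_of_repByAlgSpWith _ hv) hℬ
  have hq₁ : RepByAlgSpWith R (FibCat.fpFst v v) :=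
    Groth.Agent.Lib.AlgStRep.repByAlgSpWith_fpFst R v v hvR
  have hq₂ : RepByAlgSpWith R (FibCat.fpSnd v v) :=
    Groth.Agent.Lib.AlgStRepC.repByAlgSpWith_fpSnd R v v hvR
  have L₁ := Groth.Agent.Lib.AlgStLargest.isLargest_fpFst P Q R hPb hQb hRb hP hQ hR h₄ h𝒜 hℬ hℛ
    (FibCat.fpFst v f) hg (FibCat.fpFst v v) hq₁ hE
  have L₂ := Groth.Agent.Lib.AlgStLargest.isLargest_fpFst P Q R hPb hQb hRb hP hQ hR h₄ h𝒜 hℬ hℛ
    (FibCat.fpFst v f) hg (FibCat.fpSnd v v) hq₂ hE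
  have hsat := Groth.Agent.Lib.AlgStLargest.sat_obj v f P L₁ L₂
  obtain ⟨hL, -⟩ := Groth.Agent.Lib.AlgStLargest.isLargest_desc P hPb hP h𝒳 h𝒴 hℬ v hv hvs f hf1
    hE hsat
  refine ⟨_, Groth.Agent.Lib.AlgStLargest.isOpenSubstack_of_isOpenImm h𝒳 hL.1 hL.2.1,
    hL.2.2.1, ?_⟩
  intro Q₁ hQ₁ hQ₁P y hy
  exact hL.2.2.2 Q₁ (Groth.Agent.Lib.AlgStOpenSub.pbStable_of_isOpenSubstack hQ₁) hQ₁.2.2 hQ₁P y hy

end Groth.Agent.S12877
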