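import Groth.Statements.S12889
import Groth.Agent.Lib.SuppHZ21
import Groth.Agent.Lib.ModSiteExtSS21
import Mathlib.Algebra.Homology.DerivedCategory.Ext.EnoughInjectives

set_option autoImplicit false
universe u
open CategoryTheory CategoryTheory.Limits
open ModSite

namespace Groth.Agent.S12889

/-- On a small ringed site (C, J, O) with O commutative, let U be an object with Z the closed complement
of the open it generates, and M an O-module. There is an E₂ spectral sequence of abelian groups with
E₂^{p,q} ≅ H^p(C, ℋ^q_Z(M)) for p, q ≥ 0 (and 0 otherwise), bounded, abutting with finite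
filtrations to H^n_Z(M) (n ≥ 0; 0 for n < 0); here ℋ^q_Z are the right derived functors of sections
with support on O-modules, H^p(C, -) is the cohomology of the site with values in the underlying
abelian sheaf, and H^n_Z(M) are the Ext groups out of ℤ/ℤ_U into the underlying abelian sheaf.
(Existence only: the E₂ identifications and the abutment are some isomorphisms. The direct image
along the localisation at U and injective resolutions of O-modules are the stated instance
hypotheses, both true.) -/
theorem result {C : Type u} [SmallCategory C] {J : GrothendieckTopology C}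
    (O : Sheaf J CommRingCat.{u}) (U : C) (M : ModSite.Mod O)
    [ModSite.HasPushOver O U] [HasInjectiveResolutions (ModSite.Mod O)] :
    ∃ (E : E₂CohomologicalSpectralSequence AddCommGrpCat.{u})
      (a : SpSeq.Abutment E (fun n : ℤ =>
        if 0 ≤ n then AddCommGrpCat.of (ModSite.HZ U M n.toNat) else AddCommGrpCat.of PUnit.{u + 1})),
      (∀ n : ℤ, a.IsFinite n) ∧ SpSeq.IsBounded E ∧
      ∀ p q : ℤ, Nonempty ((E.page 2 le_rfl).X (p, q) ≅
        (if 0 ≤ p ∧ 0 ≤ q then AddCommGrpCat.of (ModSite.HC O ((ModSite.HZsh O U q.toNat).obj M) p.toNat)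
          else AddCommGrpCat.of PUnit.{u + 1})) := by
  have : EnoughInjectives (ModSite.Mod O) :=
    Groth.Agent.Lib.GrothSS21.enoughInjectives_of_hasInjectiveResolutions
  have : HasExt.{u} (ModSite.Mod O) := hasExt_of_enoughInjectives.{u} _
  let T : ModSite.Mod O ⥤ ModSite.Mod O := ModSite.sectOn O U
  let S : ModSite.Mod O ⥤ AddCommGrpCat.{u} :=
    preadditiveCoyoneda.obj (Opposite.op (ModSite.unit O))
  have : T.Additive := inferInstanceAs (ModSite.sectOn O U).Additive
  have : PreservesFiniteLimits S :=
    (preservesLimits_preadditiveCoyoneda_obj (Opposite.op (ModSite.unit O))).preservesFiniteLimits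
  have key : ∀ (p : ℕ) (G : ModSite.Mod O),
      Nonempty ((S.rightDerived p).obj G ≅ AddCommGrpCat.of (ModSite.HC O G p)) :=
    Groth.Agent.Lib.ModSiteExtSS21.nonempty_rightDerived_unit_iso_HC O
  have hZ₀ : IsZero (AddCommGrpCat.of PUnit.{u + 1}) := by
    rw [IsZero.iff_id_eq_zero]
    ext x
  refine Groth.Agent.Lib.GrothSS21.exists_grothendieck_spectralSequence_gen T S
    (fun Q hQ q hq => ?_) M (AddCommGrpCat.of PUnit.{u + 1}) hZ₀
    (fun n => AddCommGrpCat.of (ModSite.HZ U M n)) (fun n => ?_)
    (fun p q => AddCommGrpCat.of (ModSite.HC O ((ModSite.HZsh O U q).obj M) p)) (fun p q => ?_)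
  · have : Injective Q := hQ
    have : Injective (T.obj Q) := Groth.Agent.Lib.SuppAdj21.injective_sectOn O U Q
    obtain ⟨k, rfl⟩ : ∃ k, q = k + 1 := ⟨q - 1, by lia⟩
    exact Functor.isZero_rightDerived_obj_injective_succ S k (T.obj Q)
  · obtain ⟨e⟩ := Groth.Agent.Lib.ExtDerived21.nonempty_rightDerived_obj_iso_ext
      ((ModSite.quotOn O U).obj (ModSite.unit O)) (T ⋙ S)
      (Groth.Agent.Lib.GrothSS21.compCoyonedaIso (Groth.Agent.Lib.SuppAdj21.adj O U)
        (ModSite.unit O)) n M
    obtain ⟨e'⟩ := Groth.Agent.Lib.SuppHZ21.nonempty_ext_quotOn_unit_addEquiv_HZ O U M n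
    exact ⟨e ≪≫ e'.toAddCommGrpIso⟩
  · exact key p _

end Groth.Agent.S12889
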