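import Groth.Statements.S12895
import Groth.Agent.Lib.GrothSSAdj21
import Groth.Agent.Lib.ModUnitH
import Groth.Agent.Lib.ModSiteHomAcyc
import Groth.Agent.Lib.ModSiteFlat

set_option autoImplicit false
universe u
open CategoryTheory CategoryTheory.Limits
open ModSite

namespace Groth.Agent.S12895

/-- The local-to-global Ext sequence: on a small ringed site (C, J, O) with O commutative, for O-modules
M and N there is an E₂ spectral sequence of abelian groups with E₂^{p,q} ≅ H^p(C, ℰxt^q_O(M, N)) for
p, q ≥ 0 (and 0 otherwise), bounded, abutting with finite filtrations to Ext^n_O(M, N) (n ≥ 0; 0 for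
n < 0); here ℰxt^q_O(M, -) are the right derived functors of the internal Hom ℋom_O(M, -), H^p(C, -)
is the cohomology of the site with values in the underlying abelian sheaf, and Ext^n_O is computed
in the category of O-modules. (Existence only: the E₂ identifications and the abutment are some
isomorphisms. The internal Hom of M, injective resolutions of O-modules and smallness of the Ext
groups of O-modules are the stated instance hypotheses, all true.) -/
theorem result {C : Type u} [SmallCategory C] {J : GrothendieckTopology C}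
    (O : Sheaf J CommRingCat.{u}) (M N : ModSite.Mod O)
    [ModSite.HasSheafHom M] [HasInjectiveResolutions (ModSite.Mod O)] [HasExt.{u} (ModSite.Mod O)] :
    ∃ (E : E₂CohomologicalSpectralSequence AddCommGrpCat.{u})
      (a : SpSeq.Abutment E (fun n : ℤ =>
        if 0 ≤ n then AddCommGrpCat.of (Abelian.Ext.{u} M N n.toNat) else AddCommGrpCat.of PUnit.{u + 1})),
      (∀ n : ℤ, a.IsFinite n) ∧ SpSeq.IsBounded E ∧
      ∀ p q : ℤ, Nonempty ((E.page 2 le_rfl).X (p, q) ≅
        (if 0 ≤ p ∧ 0 ≤ q then AddCommGrpCat.of (ModSite.HC O ((ModSite.extSh M q.toNat).obj N) p.toNat)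
          else AddCommGrpCat.of PUnit.{u + 1})) := by
  let T : ModSite.Mod O ⥤ ModSite.Mod O := ModSite.sheafHom M
  let S : ModSite.Mod O ⥤ AddCommGrpCat.{u} :=
    preadditiveCoyoneda.obj (Opposite.op (ModSite.unit O))
  haveI : T.Additive := inferInstanceAs (ModSite.sheafHom M).Additive
  haveI : PreservesFiniteLimits S :=
    (preservesLimits_preadditiveCoyoneda_obj (Opposite.op (ModSite.unit O))).preservesFiniteLimits
  haveI : EnoughInjectives (ModSite.Mod O) :=
    Groth.Agent.Lib.GrothSS21.enoughInjectives_of_hasInjectiveResolutions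
  -- `R^pS ≅ H^p(C, -)`
  have key : ∀ (p : ℕ) (G : ModSite.Mod O),
      Nonempty ((S.rightDerived p).obj G ≅ AddCommGrpCat.of (ModSite.HC O G p)) := fun p G => by
    obtain ⟨e⟩ := Groth.Agent.Lib.ExtDerived21.nonempty_rightDerived_obj_iso_ext
      (ModSite.unit O) S (Iso.refl _) p G
    obtain ⟨e'⟩ := Groth.Agent.Lib.ModUnitH.nonempty_ext_unit_addEquiv_H (ModSite.ringSh O) G p
    exact ⟨e ≪≫ e'.toAddCommGrpIso⟩
  refine Groth.Agent.Lib.GrothSS21.exists_grothendieck_spectralSequence_gen T S
    (fun Q hQ q hq => ?_) N (AddCommGrpCat.of PUnit.{u + 1}) ?_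
    (fun n => AddCommGrpCat.of (Abelian.Ext.{u} M N n)) (fun n => ?_)
    (fun p q => AddCommGrpCat.of (ModSite.HC O ((ModSite.extSh M q).obj N) p)) (fun p q => ?_)
  · haveI : Injective Q := hQ
    obtain ⟨k, rfl⟩ : ∃ k, q = k + 1 := ⟨q - 1, by lia⟩
    obtain ⟨e⟩ := key (k + 1) (T.obj Q)
    have hacyc := Groth.Agent.Lib.ModSiteHomAcyc.isTotallyAcyclic_sheafHom_injective O M Q
    have hsub : Subsingleton (ModSite.HC O (T.obj Q) (k + 1)) :=
      Groth.Agent.Lib.ModUnitH.subsingleton_ext_Zc_of_isTotallyAcyclic _ hacyc k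
    refine IsZero.of_iso ?_ e
    rw [IsZero.iff_id_eq_zero]
    ext x
    exact Subsingleton.elim _ _
  · rw [IsZero.iff_id_eq_zero]
    ext x
  · obtain ⟨e⟩ := Groth.Agent.Lib.ExtDerived21.nonempty_rightDerived_obj_iso_ext
      (((ModSite.tensorBi O).flip.obj M).obj (ModSite.unit O)) (T ⋙ S)
      (Groth.Agent.Lib.GrothSS21.compCoyonedaIso (ModSite.sheafHomAdj M) (ModSite.unit O)) n N
    obtain ⟨e'⟩ := Groth.Agent.Lib.GrothSS21.nonempty_ext_iso_of_iso_left
      ((Groth.Agent.Lib.ModSiteFlat.unitTensIso O).app M) N n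
    exact ⟨e ≪≫ e'⟩
  · exact key p _

end Groth.Agent.S12895
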