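import Groth.Statements.S12900

set_option autoImplicit false
set_option linter.unusedSectionVars false
universe v₁ v₂ u₁ u₂
open CategoryTheory
open FibCat

namespace Groth.Agent.S12900


open Functor Pseudofunctor Opposite

section StrictInverse

variable {A : Type*} [Category A] {B : Type*} [Category B]

/-- A fully faithful functor which is bijective on objects has a strict inverse. -/
theorem exists_strict_inverse (Ψ : A ⥤ B) [Ψ.Full] [Ψ.Faithful] (φ₀ : B → A)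
    (h₁ : ∀ b, Ψ.obj (φ₀ b) = b) (h₂ : ∀ a, φ₀ (Ψ.obj a) = a) :
    ∃ Φ : B ⥤ A, Φ ⋙ Ψ = 𝟭 B ∧ Ψ ⋙ Φ = 𝟭 A := by
  let Φ : B ⥤ A :=
    { obj := φ₀
      map := fun {b b'} g => Ψ.preimage (eqToHom (h₁ b) ≫ g ≫ eqToHom (h₁ b').symm)
      map_id := fun b => by
        apply Ψ.map_injective
        simp
      map_comp := fun g g' => by
        apply Ψ.map_injective
        simp }
  refine ⟨Φ, ?_, ?_⟩
  · refine Functor.ext h₁ (fun b b' g => ?_)
    simp [Φ]
  · refine Functor.ext (fun a => h₂ a) (fun a a' f => ?_)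
    apply Ψ.map_injective
    simp [Φ, eqToHom_map]

end StrictInverse

variable {𝒮 : Type u₁} [Category.{v₁} 𝒮] {𝒳 : Type u₂} [Category.{v₂} 𝒳]
    {p : 𝒳 ⥤ 𝒮} [p.IsFibered] (K : FibCat.Cleavage p)

theorem conj_eqToHom_comp {x x' y y' : 𝒳} (hx : x' = x) (hy : y' = y) (φ : x ⟶ y) :
    (eqToHom hx ≫ φ ≫ eqToHom hy.symm) ≫ eqToHom hy = eqToHom hx ≫ φ := by
  subst hx hy; simp

theorem conj_comp_lift {x x' y y' z w : 𝒳} (hx : x = x') (hy : y = y') (M : x' ⟶ y') (ly : y ⟶ z)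
    (ly' : y' ⟶ z) (lx : x ⟶ w) (lx' : x' ⟶ w) (φ : w ⟶ z) (hly : ly' = eqToHom hy.symm ≫ ly)
    (hlx : lx' = eqToHom hx.symm ≫ lx) (hM : M ≫ ly' = lx' ≫ φ) :
    (eqToHom hx ≫ M ≫ eqToHom hy.symm) ≫ ly = lx ≫ φ := by
  subst hx hy
  simp only [eqToHom_refl, Category.id_comp, Category.comp_id] at hly hlx ⊢
  rw [← hly, hM, hlx]

theorem lift_eqToHom {R S : 𝒮} {a : 𝒳} (ha : p.obj a = S) {f f' : R ⟶ S} (e : f = f') :
    eqToHom (by rw [e]) ≫ K.lift ha f' = K.lift ha f := by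
  subst e; simp

theorem inverseImage_id (hK : K.IsSplitting) (S : 𝒮) : K.inverseImage (𝟙 S) = 𝟭 (p.Fiber S) := by
  have hobj : ∀ a : p.Fiber S, (K.inverseImage (𝟙 S)).obj a = a := fun a => by
    obtain ⟨h, -⟩ := hK.1 a.2
    exact Subtype.ext h
  refine Functor.ext hobj (fun a b φ => ?_)
  apply Fiber.hom_ext
  rw [Cleavage.inverseImage_map]
  obtain ⟨ha, hla⟩ := hK.1 a.2
  obtain ⟨hb, hlb⟩ := hK.1 b.2
  obtain ⟨ψ, hψ⟩ : ∃ ψ : K.obj a.2 (𝟙 S) ⟶ K.obj b.2 (𝟙 S), ψ = Fiber.fiberInclusion.map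
      (eqToHom (hobj a) ≫ (𝟭 (p.Fiber S)).map φ ≫ eqToHom (hobj b).symm) := ⟨_, rfl⟩
  have : p.IsHomLift (𝟙 S) ψ := by
    rw [hψ]
    exact (inferInstance : p.IsHomLift (𝟙 S) (Fiber.fiberInclusion.map
      (eqToHom (hobj a) ≫ (𝟭 (p.Fiber S)).map φ ≫ eqToHom (hobj b).symm)))
  rw [← hψ]
  refine (IsCartesian.map_uniq p (𝟙 S) (K.lift b.2 (𝟙 S))
    (K.lift a.2 (𝟙 S) ≫ Fiber.fiberInclusion.map φ) ψ ?_).symm
  rw [hψ]
  simp only [Functor.map_comp, eqToHom_map, Functor.id_map]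
  rw [hla, hlb]
  exact conj_eqToHom_comp ha hb _

theorem inverseImage_comp (hK : K.IsSplitting) {S T U : 𝒮} (f : T ⟶ S) (g : U ⟶ T) :
    K.inverseImage (g ≫ f) = K.inverseImage f ⋙ K.inverseImage g := by
  have hobj : ∀ a : p.Fiber S,
      (K.inverseImage (g ≫ f)).obj a = (K.inverseImage f ⋙ K.inverseImage g).obj a := fun a => by
    obtain ⟨h, -⟩ := hK.2 f g a.2
    exact Subtype.ext h.symm
  refine Functor.ext hobj (fun a b φ => ?_)
  apply Fiber.hom_ext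
  rw [Cleavage.inverseImage_map]
  obtain ⟨ha, hla⟩ := hK.2 f g a.2
  obtain ⟨hb, hlb⟩ := hK.2 f g b.2
  obtain ⟨ψ, hψ⟩ : ∃ ψ : K.obj a.2 (g ≫ f) ⟶ K.obj b.2 (g ≫ f), ψ = Fiber.fiberInclusion.map
      (eqToHom (hobj a) ≫ (K.inverseImage f ⋙ K.inverseImage g).map φ ≫ eqToHom (hobj b).symm) :=
    ⟨_, rfl⟩
  have : p.IsHomLift (𝟙 U) ψ := by
    rw [hψ]
    exact (inferInstance : p.IsHomLift (𝟙 U) (Fiber.fiberInclusion.map
      (eqToHom (hobj a) ≫ (K.inverseImage f ⋙ K.inverseImage g).map φ ≫ eqToHom (hobj b).symm)))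
  rw [← hψ]
  refine (IsCartesian.map_uniq p (g ≫ f) (K.lift b.2 (g ≫ f))
    (K.lift a.2 (g ≫ f) ≫ Fiber.fiberInclusion.map φ) ψ ?_).symm
  rw [hψ]
  simp only [Functor.map_comp, eqToHom_map, Functor.comp_map, Cleavage.inverseImage_map]
  refine conj_comp_lift ha.symm hb.symm _ _ _ _ _ _ hlb hla ?_
  erw [IsCartesian.fac_assoc, Category.assoc, IsCartesian.fac, Category.assoc]
  rfl

/-- The strict functor of fibres of a split fibred category. -/
noncomputable def Ffun (hK : K.IsSplitting) : 𝒮ᵒᵖ ⥤ Cat.{v₂, u₂} where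
  obj S := Cat.of (p.Fiber S.unop)
  map f := (K.inverseImage f.unop).toCatHom
  map_id S := by
    change (K.inverseImage (𝟙 S.unop)).toCatHom = _
    rw [inverseImage_id K hK]
    rfl
  map_comp f g := by
    change (K.inverseImage (g.unop ≫ f.unop)).toCatHom = _
    rw [inverseImage_comp K hK]
    rfl

/-- The total category. -/
abbrev Tot (hK : K.IsSplitting) := CoGrothendieck (Ffun K hK).toPseudofunctor'

variable {K} {hK : K.IsSplitting}

/-- The fibre object underlying an object of the total category. -/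
def Tot.fo (Y : Tot K hK) : p.Fiber Y.base := Y.fiber

/-- The fibre component of a morphism of the total category. -/
def Tot.ff {Y Z : Tot K hK} (φ : Y ⟶ Z) : Y.fo ⟶ (K.inverseImage φ.base).obj Z.fo := φ.fiber

theorem Tot.id_ff (Y : Tot K hK) :
    Fiber.fiberInclusion.map (Tot.ff (𝟙 Y)) =
      eqToHom (congrArg Subtype.val (congrFun (congrArg Functor.obj
        (inverseImage_id K hK Y.base)) Y.fo).symm) := by
  unfold Tot.ff
  simp only [CoGrothendieck.categoryStruct_id_fiber, Functor.toPseudofunctor'_mapId,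
    eqToIso.inv]
  erw [Cat.eqToHom_app]
  exact eqToHom_map _ _

theorem Tot.comp_ff {Y Z W : Tot K hK} (φ : Y ⟶ Z) (ψ : Z ⟶ W) :
    Fiber.fiberInclusion.map (Tot.ff (φ ≫ ψ)) =
      Fiber.fiberInclusion.map (Tot.ff φ) ≫
        Fiber.fiberInclusion.map ((K.inverseImage φ.base).map (Tot.ff ψ)) ≫
          eqToHom (congrArg Subtype.val (congrFun (congrArg Functor.obj
            (inverseImage_comp K hK ψ.base φ.base)) W.fo).symm) := by
  unfold Tot.ff
  simp only [CoGrothendieck.categoryStruct_comp_fiber, Functor.toPseudofunctor'_mapComp,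
    eqToIso.inv]
  erw [Cat.eqToHom_app]
  erw [Functor.map_comp, Functor.map_comp, eqToHom_map]
  rfl

theorem eqToHom_comp_self {x y : 𝒳} (h : y = x) (h' : x = y) : eqToHom h' ≫ eqToHom h = 𝟙 x := by
  subst h; simp

theorem psi_comp_aux {x y y' y'' z z' w : 𝒳} (a : x ⟶ y) (M : y ⟶ y') (h : y' = y'')
    (L : y'' ⟶ w) (l₁ : y ⟶ z) (b : z ⟶ z') (l₂ : z' ⟶ w) (l₁' : y' ⟶ z')
    (hl : l₁' ≫ l₂ = eqToHom h ≫ L) (fac : M ≫ l₁' = l₁ ≫ b) :
    (a ≫ M ≫ eqToHom h) ≫ L = (a ≫ l₁) ≫ b ≫ l₂ := by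
  subst h
  simp only [eqToHom_refl, Category.id_comp, Category.comp_id, Category.assoc] at hl ⊢
  rw [← hl, reassoc_of% fac]

/-- The comparison functor from the total category to `𝒳`. -/
noncomputable def Psi : Tot K hK ⥤ 𝒳 where
  obj Y := Y.fo.1
  map {Y Z} φ := Fiber.fiberInclusion.map (Tot.ff φ) ≫ K.lift Z.fo.2 φ.base
  map_id Y := by
    rw [Tot.id_ff]
    obtain ⟨h, hl⟩ := hK.1 Y.fo.2
    change eqToHom _ ≫ K.lift Y.fo.2 (𝟙 Y.base) = _
    rw [hl]
    exact eqToHom_comp_self _ _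
  map_comp {Y Z W} φ ψ := by
    rw [Tot.comp_ff]
    obtain ⟨h, hl⟩ := hK.2 ψ.base φ.base W.fo.2
    change (_ ≫ _ ≫ eqToHom _) ≫ K.lift W.fo.2 (φ.base ≫ ψ.base) = _
    have fac : Fiber.fiberInclusion.map ((K.inverseImage φ.base).map (Tot.ff ψ)) ≫
        K.lift (K.obj_proj W.fo.2 ψ.base) φ.base =
        K.lift Z.fo.2 φ.base ≫ Fiber.fiberInclusion.map (Tot.ff ψ) := by
      rw [Cleavage.inverseImage_map]
      have hh : p.IsHomLift φ.base (K.lift Z.fo.2 φ.base ≫ Fiber.fiberInclusion.map (Tot.ff ψ)) :=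
        Cleavage.isHomLift_lift_comp_map K φ.base (Tot.ff ψ)
      exact @IsCartesian.fac _ _ _ _ p _ _ _ _ φ.base (K.lift (K.obj_proj W.fo.2 ψ.base) φ.base)
        _ _ (K.lift Z.fo.2 φ.base ≫ Fiber.fiberInclusion.map (Tot.ff ψ)) hh
    exact psi_comp_aux _ _ h _ _ _ _ _ hl fac

theorem Psi_map_mk {Y Z : Tot K hK} (b : Y.base ⟶ Z.base)
    (α : Y.fo ⟶ (K.inverseImage b).obj Z.fo) :
    (Psi (hK := hK)).map (⟨b, α⟩ : Y ⟶ Z) = Fiber.fiberInclusion.map α ≫ K.lift Z.fo.2 b := rfl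

omit [p.IsFibered] in
theorem exists_base {a c : 𝒳} {R S : 𝒮} (ha : p.obj a = R) (hc : p.obj c = S) (g : a ⟶ c) :
    ∃ b : R ⟶ S, p.IsHomLift b g := by
  subst ha hc
  exact ⟨p.map g, inferInstance⟩

omit [p.IsFibered] in
theorem comp_lift' {R S : 𝒮} (f : R ⟶ S) {a b c : 𝒳} (α : a ⟶ b) (l : b ⟶ c)
    (hα : p.IsHomLift (𝟙 R) α) (hl : p.IsHomLift f l) : p.IsHomLift f (α ≫ l) := inferInstance

omit [p.IsFibered] in
theorem cart_ext' {R S : 𝒮} (f : R ⟶ S) {a b a' : 𝒳} (l : a ⟶ b) (hl : p.IsCartesian f l)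
    (ψ ψ' : a' ⟶ a) (h1 : p.IsHomLift (𝟙 R) ψ) (h2 : p.IsHomLift (𝟙 R) ψ')
    (h : ψ ≫ l = ψ' ≫ l) : ψ = ψ' := IsCartesian.ext p f l ψ ψ' h

instance Psi_isHomLift {Y Z : Tot K hK} (φ : Y ⟶ Z) :
    p.IsHomLift φ.base ((Psi (hK := hK)).map φ) :=
  comp_lift' φ.base _ _
    (inferInstance : p.IsHomLift (𝟙 Y.base) (Fiber.fiberInclusion.map (Tot.ff φ)))
    (inferInstance : p.IsHomLift φ.base (K.lift Z.fo.2 φ.base))

instance : (Psi (K := K) (hK := hK)).Faithful where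
  map_injective {Y Z} φ ψ h := by
    have h1 : φ.base = ψ.base := by
      have e1 := IsHomLift.fac p φ.base (Psi.map φ)
      have e2 := IsHomLift.fac p ψ.base (Psi.map ψ)
      rw [e1, e2]
      simp only [h]
    obtain ⟨b, f⟩ := φ
    obtain ⟨b', f'⟩ := ψ
    change b = b' at h1
    subst h1
    obtain ⟨f₁, hf₁⟩ : ∃ f₁ : Y.fo ⟶ (K.inverseImage b).obj Z.fo, f₁ = f := ⟨f, rfl⟩
    obtain ⟨f₂, hf₂⟩ : ∃ f₂ : Y.fo ⟶ (K.inverseImage b).obj Z.fo, f₂ = f' := ⟨f', rfl⟩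
    have h2 : Fiber.fiberInclusion.map f₁ ≫ K.lift Z.fo.2 b =
        Fiber.fiberInclusion.map f₂ ≫ K.lift Z.fo.2 b := by
      subst hf₁ hf₂; exact h
    have h3 : f₁ = f₂ := by
      apply Fiber.hom_ext
      exact cart_ext' b (K.lift Z.fo.2 b) inferInstance _ _
        (inferInstance : p.IsHomLift (𝟙 Y.base) (Fiber.fiberInclusion.map f₁))
        (inferInstance : p.IsHomLift (𝟙 Y.base) (Fiber.fiberInclusion.map f₂)) h2
    subst hf₁ hf₂
    change (⟨b, f₁⟩ : CoGrothendieck.Hom Y Z) = ⟨b, f₂⟩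
    rw [h3]

instance : (Psi (K := K) (hK := hK)).Full where
  map_surjective {Y Z} g := by
    obtain ⟨g', hg'⟩ : ∃ g' : Y.fo.1 ⟶ Z.fo.1, g' = g := ⟨g, rfl⟩
    obtain ⟨b, hg⟩ := exists_base Y.fo.2 Z.fo.2 g'
    have hm : p.IsHomLift (𝟙 Y.base) (IsCartesian.map p b (K.lift Z.fo.2 b) g') := inferInstance
    let α : Y.fo ⟶ (K.inverseImage b).obj Z.fo :=
      ⟨IsCartesian.map p b (K.lift Z.fo.2 b) g', hm⟩
    refine ⟨(⟨b, α⟩ : CoGrothendieck.Hom Y Z), ?_⟩
    rw [Psi_map_mk, ← hg']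
    exact IsCartesian.fac p b (K.lift Z.fo.2 b) g'

theorem Psi_comp_p : Psi (K := K) (hK := hK) ⋙ p = CoGrothendieck.forget _ := by
  refine Functor.ext (fun Y => Y.fo.2) (fun Y Z φ => ?_)
  exact IsHomLift.fac' p φ.base (Psi.map φ)


/-- Let p : 𝒳 → 𝒮 be a fibred category and K a cleavage of p which is a splitting (the chosen transport
morphism over each identity is the identity, and the composite of two chosen transport morphisms is
the chosen transport morphism of the composite). Then 𝒳 is split: there are a strict functor F : 𝒮ᵒᵖ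
→ Cat and an isomorphism of categories over 𝒮 between 𝒳 and the category of pairs (U, x) with x an
object of F(U) built from F, i.e. functors Φ and Ψ inverse to each other on the nose with Φ followed
by the projection equal to p. (The published statement is an equivalence whose if-half assumes only
that, for some choice of pullbacks, the pullback functors (f ∘ g)^* and g^* ∘ f^* are equal; that
half fails: for the functor between one-object categories induced by reduction modulo 2 from the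
integers to ℤ/2, a fibred category whose only fibre is the one-object category of the even integers,
every choice of pullbacks has all pullback functors equal to the identity functor, yet the category
is not split, since an isomorphism with the category of a strict functor would give a homomorphic
section of ℤ → ℤ/2. This row assumes instead that the chosen transport morphisms are normalised and
closed under composition, and states only that implication.) -/
theorem result {𝒮 : Type u₁} [Category.{v₁} 𝒮] {𝒳 : Type u₂} [Category.{v₂} 𝒳]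
    (p : 𝒳 ⥤ 𝒮) [p.IsFibered] (K : FibCat.Cleavage p) (hK : K.IsSplitting) :
    ∃ (F : 𝒮ᵒᵖ ⥤ Cat.{v₂, u₂})
      (Φ : 𝒳 ⥤ Pseudofunctor.CoGrothendieck F.toPseudofunctor')
      (Ψ : Pseudofunctor.CoGrothendieck F.toPseudofunctor' ⥤ 𝒳),
      Φ ⋙ Ψ = 𝟭 𝒳 ∧ Ψ ⋙ Φ = 𝟭 _ ∧ Φ ⋙ Pseudofunctor.CoGrothendieck.forget F.toPseudofunctor' = p := by
  let φ₀ : 𝒳 → Tot K hK := fun a => ⟨p.obj a, (⟨a, rfl⟩ : p.Fiber (p.obj a))⟩
  have h₁ : ∀ a, (Psi (hK := hK)).obj (φ₀ a) = a := fun a => rfl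
  have h₂ : ∀ Y, φ₀ ((Psi (hK := hK)).obj Y) = Y := by
    rintro ⟨S, ⟨a, ha⟩⟩
    cases ha
    rfl
  obtain ⟨Φ, hΦ1, hΦ2⟩ := exists_strict_inverse (Psi (hK := hK)) φ₀ h₁ h₂
  refine ⟨Ffun K hK, Φ, Psi, hΦ1, hΦ2, ?_⟩
  rw [← Psi_comp_p, ← Functor.assoc, hΦ1, Functor.id_comp]

end Groth.Agent.S12900
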