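import Groth.Statements.S12903
import Groth.Agent.Lib.IdealMod
import Groth.Agent.Lib.QCohStalk

set_option autoImplicit false
universe u
open CategoryTheory CategoryTheory.Limits AlgebraicGeometry Opposite
open Coherent

namespace Groth.Agent.S12903

/-- Let X be a scheme, j : U → X a quasi-compact open immersion with closed complement Z, F a
quasi-coherent O_X-module, V an affine open of X and I a finitely generated ideal of Γ(V, O_X)
cutting out Z ∩ V (a point of V lies outside U if and only if it lies in no basic open X_f with f ∈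
I). Then a section s of F over V belongs to the subsheaf Γ_Z(F) of sections supported in Z (the
kernel of F → j_*(F|_U)) if and only if I^n s = 0 for some n. -/
theorem result {U X : Scheme.{u}} (j : U ⟶ X) [IsOpenImmersion j] [QuasiCompact j]
    (F : X.Modules) (hF : Coh.IsQCoh F) (V : X.Opens) (hV : IsAffineOpen V)
    (I : Ideal (X.ringCatSheaf.obj.obj (op V))) (hI : I.FG)
    (hZ : ∀ x : X, x ∈ V → (x ∉ Set.range j.base ↔ ∀ f ∈ I, x ∉ X.basicOpen (f : Γ(X, V))))
    (s : F.val.obj (op V)) :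
    s ∈ Set.range ((((CxOX.gammaZι j).app F).val.app (op V)).hom) ↔ ∃ n : ℕ, ∀ a ∈ I ^ n, a • s = 0 := by
  have : F.IsQuasicoherent := hF
  -- the open `W = j(U) ∩ V`
  have hWV : j ''ᵁ (j ⁻¹ᵁ V) ≤ V := j.image_preimage_le V
  have hW : ∀ x : X, x ∈ j ''ᵁ (j ⁻¹ᵁ V) ↔ x ∈ Set.range j.base ∧ x ∈ V := by
    intro x
    rw [Scheme.Hom.image_preimage_eq_opensRange_inf]
    rfl
  -- step 0: membership in the range is vanishing of the restriction to `W`
  have h0 : s ∈ Set.range ((((CxOX.gammaZι j).app F).val.app (op V)).hom) ↔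
      Groth.Agent.Lib.QCohStalk.res F hWV s = 0 := by
    obtain ⟨-, hker⟩ := Groth.Agent.Lib.IdealMod.kernel_sections
      ((Scheme.Modules.restrictAdjunction j).unit.app F) V
    constructor
    · rintro ⟨t, rfl⟩
      exact (hker _).2 ⟨t, rfl⟩
    · intro h
      obtain ⟨t, ht⟩ := (hker s).1 h
      exact ⟨t, ht⟩
  rw [h0]
  have hbo : ∀ f : Γ(X, V), f ∈ I → X.basicOpen f ≤ j ''ᵁ (j ⁻¹ᵁ V) := by
    intro f hf x hx
    have hxV : x ∈ V := X.basicOpen_le f hx
    rw [hW]
    refine ⟨?_, hxV⟩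
    by_contra hr
    exact (hZ x hxV).1 hr f hf hx
  constructor
  · intro hs
    -- every `f ∈ I` has a power killing `s`
    have hpow : ∀ f : Γ(X, V), f ∈ I → ∃ n : ℕ, f ^ n • s = 0 := by
      intro f hf
      apply Groth.Agent.Lib.QCohStalk.exists_pow_smul_eq_zero F hV f s
      rw [← Groth.Agent.Lib.QCohStalk.res_res F (hbo f hf) hWV, hs,
        Groth.Agent.Lib.QCohStalk.res_zero]
    let I' : Ideal Γ(X, V) := I
    have hle : I' ≤ (Ideal.torsionOf Γ(X, V) Γ(F, V) s).radical := by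
      intro f hf
      obtain ⟨n, hn⟩ := hpow f hf
      exact ⟨n, (Ideal.mem_torsionOf_iff _ _).2 hn⟩
    obtain ⟨k, hk⟩ := Ideal.exists_pow_le_of_le_radical_of_fg hle hI
    exact ⟨k, fun a ha => (Ideal.mem_torsionOf_iff _ _).1 (hk ha)⟩
  · rintro ⟨n, hn⟩
    have hloc : ∀ f : Γ(X, V), ∀ hf : f ∈ I,
        Groth.Agent.Lib.QCohStalk.res F (hbo f hf) (Groth.Agent.Lib.QCohStalk.res F hWV s) = 0 := by
      intro f hf
      rw [Groth.Agent.Lib.QCohStalk.res_res]
      have h1 : (f ^ n : Γ(X, V)) • (show Γ(F, V) from s) = 0 := hn _ (Ideal.pow_mem_pow hf n)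
      have h2 := congrArg (Groth.Agent.Lib.QCohStalk.res F ((hbo f hf).trans hWV)) h1
      rw [Groth.Agent.Lib.QCohStalk.res_smul, Groth.Agent.Lib.QCohStalk.res_zero,
        Groth.Agent.Lib.QCohStalk.resO_pow] at h2
      have hu : IsUnit (Groth.Agent.Lib.QCohStalk.resO X ((hbo f hf).trans hWV) f) :=
        RingedSpace.isUnit_res_basicOpen X.toRingedSpace f
      exact ((hu.pow n).smul_eq_zero).1 h2
    have key := TopCat.Sheaf.eq_of_locally_eq' (Coh.toAb F)
      (fun f : I => X.basicOpen (f.1 : Γ(X, V))) (j ''ᵁ (j ⁻¹ᵁ V))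
      (fun f => homOfLE (hbo f.1 f.2)) ?_
      (Groth.Agent.Lib.QCohStalk.res F hWV s) 0 ?_
    · exact key
    · intro x hx
      rw [TopologicalSpace.Opens.mem_iSup]
      obtain ⟨hxr, hxV⟩ := (hW x).1 hx
      by_contra hne
      push Not at hne
      exact ((hZ x hxV).2 (fun f hf => hne ⟨f, hf⟩)) hxr
    · intro f
      rw [map_zero]
      exact hloc f.1 f.2

end Groth.Agent.S12903
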