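import Groth.Statements.S12905
import Groth.Agent.Lib.RegPn49

set_option autoImplicit false
universe u
open CategoryTheory CategoryTheory.Limits AlgebraicGeometry
open Variety

namespace Groth.Agent.S12905

/-- Let k be a field and φ : F' → F a monomorphism of coherent modules on P^n_k whose cokernel has
support of Krull dimension at most zero (a finite set of closed points, possibly empty). If F' is
m-regular then F is m-regular. (The published statement is the case of an ideal sheaf contained in
the ideal sheaf of a curve with quotient supported at finitely many points, phrased as an inequality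
of regularities; the argument gives the form stated here.) -/
theorem result (k : Type u) [Field k] (n : ℕ)
    (F' F : (CohB1.ProjSpace n k).Modules) (hF' : Coh.IsCoh F') (hF : Coh.IsCoh F) (φ : F' ⟶ F) [Mono φ]
    (hsupp : topologicalKrullDim (CohB1.support (cokernel φ)) ≤ 0) (m : ℤ)
    (h : Curv2.IsMRegular k n F' m) : Curv2.IsMRegular k n F m := by
  intro i hi1 hin
  have hFq : F'.IsQuasicoherent := hF'.1
  have hC : Coh.IsCoh (cokernel φ) := Groth.Agent.Lib.H90OXModExact.isCoh_cokernel φ hF
  let S : ShortComplex (CohB1.ProjSpace n k).Modules :=
    ShortComplex.mk φ (cokernel.π φ) (cokernel.condition φ)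
  have hS : S.ShortExact :=
    ShortComplex.ShortExact.mk' (S.exact_of_g_is_cokernel (cokernelIsCokernel φ))
      (inferInstanceAs (Mono φ)) (inferInstanceAs (Epi (cokernel.π φ)))
  have hT := Groth.Agent.Lib.RegPn49.shortExact_twist n k (m - i) hS
  have h1 : Subsingleton (Coh.HH (CohB1.ProjSpace n k)
      (S.map (Groth.Agent.Lib.TwistEquiv.tensorRightFunctor
        (Twist.twistProjSpace n k (m - i)))).X₁ i) := h i hi1 hin
  have h3 : Subsingleton (Coh.HH (CohB1.ProjSpace n k)
      (S.map (Groth.Agent.Lib.TwistEquiv.tensorRightFunctor
        (Twist.twistProjSpace n k (m - i)))).X₃ i) :=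
    Groth.Agent.Lib.RegPn49.subsingleton_HH_twist_of_support n k (cokernel φ) hC 0
      (by simpa using hsupp) (m - i) i (by omega)
  exact Groth.Agent.Lib.CohLES.subsingleton_mid hT i

end Groth.Agent.S12905
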