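import Groth.Statements.S12909
import Groth.Agent.Lib.H87Vasc
import Mathlib.Tactic

set_option autoImplicit false
universe u
open CAlgX

namespace Groth.Agent.S12909

section Vasc

open CategoryTheory Abelian IsLocalRing Pointwise Groth.Agent.Lib.H87Vasc

variable {R : Type u} [CommRing R] [IsNoetherianRing R]

/-- non-local variant of `H87Vasc.eq_bot_or_exists_nonZeroDivisor`, with constancy of rank as a
hypothesis (same proof). -/
theorem eq_bot_or_exists_nonZeroDivisor' (I : Ideal R) (n : ℕ)
    (hpd : HasProjectiveDimensionLT (ModuleCat.of R I) n)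
    (hrk : ∀ (p q : Ideal R) [p.IsPrime] [q.IsPrime],
      LocCoh.depth (Localization.AtPrime p) (Localization.AtPrime p) = 0 →
      LocCoh.depth (Localization.AtPrime q) (Localization.AtPrime q) = 0 → rk p I = rk q I) :
    I = ⊥ ∨ ∃ x ∈ I, x ∈ nonZeroDivisors R := by
  by_contra hcon
  push Not at hcon
  obtain ⟨hI, hzd⟩ := hcon
  have hpd' : HasProjectiveDimensionLT (ModuleCat.of R I) (n + 1) :=
    hasProjectiveDimensionLT_of_ge _ n (n + 1) (by omega)
  have hsub : (I : Set R) ⊆ ⋃ p ∈ associatedPrimes R R, (p : Set R) := by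
    intro x hx
    rw [biUnion_associatedPrimes_eq_compl_nonZeroDivisors]
    exact hzd x hx
  obtain ⟨p0, hp0, hle⟩ := (Ideal.subset_union_prime_finite (associatedPrimes.finite R R)
    (f := id) ⊥ ⊥ (fun I hI _ _ => hI.isPrime)).mp hsub
  have hp0prime : p0.IsPrime := hp0.isPrime
  have hp0' := hp0
  rw [AssociatedPrimes.mem_iff, isAssociatedPrime_iff] at hp0'
  obtain ⟨-, z, hz⟩ := hp0'
  have key : ∀ r : R, r ∈ p0 ↔ r * z = 0 := by
    intro r
    rw [hz, Submodule.mem_colon_singleton]
    simp
  -- the rank at `p0` vanishes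
  have hd0 := depth_localization_eq_zero p0 hp0
  have hfree0 := free_localizedModule p0 hd0 I n hpd
  have hz1 : algebraMap R (Localization.AtPrime p0) z ≠ 0 := by
    intro h0
    rw [IsLocalization.map_eq_zero_iff p0.primeCompl] at h0
    obtain ⟨s, hs⟩ := h0
    apply s.2
    change (s : R) ∈ p0
    rw [key]
    simpa using hs
  have hkill : ∀ y : LocalizedModule p0.primeCompl I,
      algebraMap R (Localization.AtPrime p0) z • y = 0 := by
    intro y
    induction y with
    | h a s =>
      rw [algebraMap_smul, LocalizedModule.smul'_mk]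
      have : z • a = 0 := by
        ext
        have ha : (a : R) ∈ p0 := hle a.2
        rw [key] at ha
        simpa [mul_comm] using ha
      rw [this, LocalizedModule.zero_mk]
  have hsub0 := subsingleton_of_free_of_smul_eq_zero (A := Localization.AtPrime p0)
    (N := LocalizedModule p0.primeCompl I) _ hz1 hkill
  have hrk0 : rk p0 I = 0 := by
    unfold rk
    exact (Module.finrank_eq_zero_iff_of_free _ _).mpr hsub0
  -- conclude
  apply hI
  rw [eq_bot_iff]
  intro x hx
  by_contra hx0
  rw [Submodule.mem_bot] at hx0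
  obtain ⟨q, hq, hxq⟩ := exists_le_isAssociatedPrime_of_isNoetherianRing R x hx0
  have hqprime : q.IsPrime := hq.isPrime
  have hdq := depth_localization_eq_zero q hq
  have hfreeq := free_localizedModule q hdq I n hpd
  have hrkq : rk q I = 0 := by
    rw [hrk q p0 hdq hd0, hrk0]
  have hsubq : Subsingleton (LocalizedModule q.primeCompl I) := by
    unfold rk at hrkq
    exact (Module.finrank_eq_zero_iff_of_free _ _).mp hrkq
  have h0 : LocalizedModule.mk (⟨x, hx⟩ : I) (1 : q.primeCompl) = 0 := Subsingleton.elim _ _
  rw [← LocalizedModule.zero_mk (1 : q.primeCompl), LocalizedModule.mk_eq] at h0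
  obtain ⟨s, hs⟩ := h0
  apply s.2
  apply hxq
  rw [Submodule.mem_colon_singleton]
  have := congrArg Subtype.val hs
  simpa [Submonoid.smul_def] using this


end Vasc

section Resolution

open CategoryTheory Abelian IsLocalRing Pointwise Groth.Agent.Lib.H87Vasc

variable {R : Type u} [CommRing R] [IsNoetherianRing R]

/-- finite projective dimension and constant rank at depth-zero primes -/
def QT (R : Type u) [CommRing R] (X : Type u) [AddCommGroup X] [Module R X] : Prop :=
  (∃ n : ℕ, HasProjectiveDimensionLT (ModuleCat.of R X) n) ∧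
  ∃ c : ℕ, ∀ (p : Ideal R) [p.IsPrime],
    LocCoh.depth (Localization.AtPrime p) (Localization.AtPrime p) = 0 → rk p X = c

lemma QT_of_subsingleton (X : Type u) [AddCommGroup X] [Module R X] [Subsingleton X] :
    QT R X := by
  refine ⟨⟨0, (ModuleCat.isZero_of_subsingleton _).hasProjectiveDimensionLT_zero⟩, 0, ?_⟩
  intro p _ _
  unfold rk
  have : Subsingleton (LocalizedModule p.primeCompl X) := inferInstance
  exact Module.finrank_zero_of_subsingleton

lemma QT_step [Nontrivial R] {m : ℕ} {M : Type u} [AddCommGroup M] [Module R M]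
    (f : (Fin m → R) →ₗ[R] M) (hf : Function.Surjective f) (hK : QT R (LinearMap.ker f)) :
    QT R M := by
  obtain ⟨⟨nK, hKpd⟩, cK, hKrk⟩ := hK
  have hMfin : Module.Finite R M := Module.Finite.of_surjective f hf
  have hS : f.shortComplexKer.ShortExact := LinearMap.shortExact_shortComplexKer hf
  have hFproj : Projective f.shortComplexKer.X₂ :=
    ModuleCat.projective_of_free (Pi.basisFun R (Fin m))
  have hX2 : HasProjectiveDimensionLT f.shortComplexKer.X₂ (nK + 1) :=
    hasProjectiveDimensionLT_of_ge _ 1 (nK + 1) (by omega)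
  have hMpd : HasProjectiveDimensionLT (ModuleCat.of R M) (nK + 1) :=
    hS.hasProjectiveDimensionLT_X₃ nK hKpd hX2
  refine ⟨⟨nK + 1, hMpd⟩, m - cK, ?_⟩
  intro p _ hp
  have h2 := rk_add p hp (LinearMap.ker f).subtype f (Submodule.injective_subtype _)
    (LinearMap.exact_subtype_ker_map f) hf _ _ hKpd hMpd
  rw [rk_of_free, hKrk p hp] at h2
  have h3 : Module.finrank R (Fin m → R) = m := Module.finrank_fin_fun R
  omega

end Resolution

/-- Let R be a Noetherian ring and I a nonzero ideal with a finite free resolution 0 → R^{n_e} → … →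
R^{n_1} → R^{n_0} → I → 0 with e ≥ 1: the map R^{n_{i+1}} → R^{n_i} is the matrix A_i, the map π :
R^{n_0} → R is linear with image I, the kernel of π is the image of A_0, the kernel of A_i is the
image of A_{i+1} for 0 ≤ i ≤ e - 2, and A_{e-1} is injective. Then I contains a non-zero-divisor of
R. (The hypothesis that I is nonzero is implicit in the published statement: the zero ideal of a
domain has a finite free resolution and contains no non-zero-divisor.) -/
theorem result {R : Type u} [CommRing R] [IsNoetherianRing R]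
    (e : ℕ) (he : 1 ≤ e) (n : ℕ → ℕ) (A : (i : ℕ) → Matrix (Fin (n i)) (Fin (n (i + 1))) R)
    (π : (Fin (n 0) → R) →ₗ[R] R) (hI : LinearMap.range π ≠ ⊥)
    (h0 : LinearMap.ker π = LinearMap.range (A 0).mulVecLin)
    (hA : ∀ i, i + 2 ≤ e → LinearMap.ker (A i).mulVecLin = LinearMap.range (A (i + 1)).mulVecLin)
    (hlast : LinearMap.ker (A (e - 1)).mulVecLin = ⊥) :
    ∃ x : R, x ∈ LinearMap.range π ∧ x ∈ nonZeroDivisors R := by
  have hnt : Nontrivial R := by
    by_contra h
    rw [not_nontrivial_iff_subsingleton] at h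
    exact hI (Subsingleton.elim _ _)
  have hT : ∀ k i, i + k + 1 = e → QT R (LinearMap.range (A i).mulVecLin) := by
    intro k
    induction k with
    | zero =>
      intro i hi
      obtain rfl : i = e - 1 := by omega
      refine QT_step ((A (e - 1)).mulVecLin.rangeRestrict)
        (LinearMap.surjective_rangeRestrict _) ?_
      rw [LinearMap.ker_rangeRestrict, hlast]
      exact QT_of_subsingleton _
    | succ k ih =>
      intro i hi
      have ih' := ih (i + 1) (by omega)
      refine QT_step ((A i).mulVecLin.rangeRestrict)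
        (LinearMap.surjective_rangeRestrict _) ?_
      rw [LinearMap.ker_rangeRestrict, hA i (by omega)]
      exact ih'
  have hT0 := hT (e - 1) 0 (by omega)
  have hQ : QT R (LinearMap.range π) := by
    refine QT_step (π.rangeRestrict) (LinearMap.surjective_rangeRestrict _) ?_
    rw [LinearMap.ker_rangeRestrict, h0]
    exact hT0
  obtain ⟨⟨nI, hpd⟩, c, hc⟩ := hQ
  have key := eq_bot_or_exists_nonZeroDivisor' (LinearMap.range π : Ideal R) nI hpd
    (fun p q _ _ hp hq => by rw [hc p hp, hc q hq])
  rcases key with h | ⟨x, hx, hx'⟩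
  · exact absurd h hI
  · exact ⟨x, hx, hx'⟩

end Groth.Agent.S12909
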