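import Groth.Statements.S12910
import Groth.Agent.Lib.RegCx49

set_option autoImplicit false
universe u
open CategoryTheory CategoryTheory.Limits AlgebraicGeometry
open Variety

namespace Groth.Agent.S12910

/-- Let k be a field, d an integer, and E a bounded chain complex ⋯ → E_2 → E_1 → E_0 of coherent
modules on P^n_k (E_s = 0 for s large) such that E_s is (d + s)-regular for every s and, for every i
> 0, the homology sheaf H_i(E) has support of Krull dimension at most 1. Then the cokernel of E_1 →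
E_0 is d-regular and the image of E_1 → E_0 is (d + 1)-regular. -/
theorem result (k : Type u) [Field k] (n : ℕ)
    (E : ChainComplex ((CohB1.ProjSpace n k).Modules) ℕ) (t : ℕ) (hbdd : ∀ s : ℕ, t < s → IsZero (E.X s))
    (hcoh : ∀ s : ℕ, Coh.IsCoh (E.X s)) (d : ℤ)
    (hreg : ∀ s : ℕ, Curv2.IsMRegular k n (E.X s) (d + s))
    (hsupp : ∀ i : ℕ, 0 < i → topologicalKrullDim (CohB1.support (E.homology i)) ≤ 1) :
    Curv2.IsMRegular k n (cokernel (E.d 1 0)) d ∧
      Curv2.IsMRegular k n (Abelian.image (E.d 1 0)) (d + 1) := by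
  have hP := Groth.Agent.Lib.RegCx49.sRegFrom_image_of_complex E t hbdd hcoh d hreg hsupp 0
  have hI : Groth.Agent.Lib.RegCx49.SRegFrom n k 1 (Abelian.image (E.d 1 0)) (d + 1) :=
    hP.congr (by push_cast; ring)
  have q0 : (E.X 0).IsQuasicoherent := (hcoh 0).1
  have h0 : Groth.Agent.Lib.RegCx49.SRegFrom n k 1 (E.X 0) d :=
    (Groth.Agent.Lib.RegCx49.sRegFrom_of_isMRegular (hreg 0)).congr (by push_cast; ring)
  exact ⟨Groth.Agent.Lib.RegCx49.isMRegular_of_sRegFrom
      (Groth.Agent.Lib.RegCx49.sRegFrom_cokernel (E.d 1 0) h0 (hI.mono (by omega))),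
    Groth.Agent.Lib.RegCx49.isMRegular_of_sRegFrom hI⟩

end Groth.Agent.S12910
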