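import Groth.Statements.S12914
import Groth.Agent.Lib.GrPoints

set_option autoImplicit false
universe u
open CAlgX

namespace Groth.Agent.S12914

/-- Let k be a field, Z a finite set of nonzero vectors in k^3, regarded as points of the projective
plane, and I the homogeneous vanishing ideal of Z in k[x_0, x_1, x_2]: a polynomial belongs to I
exactly when every one of its homogeneous components vanishes at every vector of Z. If Z lies on a
curve of degree d, that is I contains a nonzero homogeneous form of degree d, then I is generated by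
at most d + 1 elements. -/
theorem result (k : Type u) [Field k]
    (Z : Finset (Fin 3 → k)) (hZ : ∀ p ∈ Z, p ≠ 0) (I : Ideal (MvPolynomial (Fin 3) k))
    (hI : ∀ f : MvPolynomial (Fin 3) k, f ∈ I ↔
      ∀ p ∈ Z, ∀ j : ℕ, MvPolynomial.eval p (MvPolynomial.homogeneousComponent j f) = 0)
    (d : ℕ) (hf : ∃ f ∈ I, MvPolynomial.IsHomogeneous f d ∧ f ≠ 0) :
    Submodule.spanFinrank I ≤ d + 1 := by
  classical
  by_cases hZne : Z.Nonempty
  · obtain ⟨t, Ψ, g, a, b, -, -, hspan, hgmem, ha, -, hsum, he⟩ :=
      Groth.Agent.Lib.GrPoints.exists_hilbertBurch Z I hI hZ hZne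
    -- the number of generators
    have h1 : Submodule.spanFinrank I ≤ t + 1 := by
      rw [← hspan]
      have hfin : (Set.range g).Finite := Set.finite_range g
      refine le_trans (Submodule.spanFinrank_span_le_ncard_of_finite hfin) ?_
      have h2 : Set.range g = ((Finset.univ.image g : Finset _) : Set _) := by
        ext x
        simp
      rw [h2, Set.ncard_coe_finset]
      exact le_trans Finset.card_image_le (by simp)
    -- the smallest generator degree is at least `t`
    have hlast : (t : ℤ) ≤ a (Fin.last t) := by
      rw [Fin.sum_univ_castSucc] at hsum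
      have h3 : a (Fin.last t) = ∑ j : Fin t, (b j - a j.castSucc) := by
        rw [Finset.sum_sub_distrib]
        linarith
      rw [h3]
      calc (t : ℤ) = ∑ _j : Fin t, (1 : ℤ) := by simp
        _ ≤ _ := Finset.sum_le_sum fun j _ => he j
    have hall : ∀ p, (t : ℤ) ≤ a p := fun p => le_trans hlast (ha p (Fin.last t) (Fin.le_last p))
    -- the form of degree `d`
    obtain ⟨f, hfI, hfd, hf0⟩ := hf
    have htd : t ≤ d := by
      by_contra hcon
      have hdt : (d : ℤ) < t := by exact_mod_cast Nat.lt_of_not_le hcon
      apply hf0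
      have h4 : (DirectSum.decompose (GrSyz.stdGr k (Fin (2 + 1))) f (d : ℤ) :
          MvPolynomial (Fin (2 + 1)) k) = f := by
        rw [Groth.Agent.Lib.GrPoints.coe_decompose_stdGr]
        exact MvPolynomial.homogeneousComponent_eq_self hfd
      rw [← h4]
      rw [← hspan] at hfI
      obtain ⟨s, rfl⟩ := (Submodule.mem_span_range_iff_exists_fun _).mp hfI
      rw [DirectSum.decompose_sum, DFinsupp.finsetSum_apply, AddSubmonoidClass.coe_finsetSum]
      refine Finset.sum_eq_zero fun p _ => ?_
      have h5 : (d : ℤ) = ((d : ℤ) - a p) + a p := by ring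
      rw [smul_eq_mul, h5, DirectSum.coe_decompose_mul_add_of_right_mem _ (hgmem p)]
      have h6 : (DirectSum.decompose (GrSyz.stdGr k (Fin (2 + 1))) (s p) ((d : ℤ) - a p) :
          MvPolynomial (Fin (2 + 1)) k) = 0 :=
        Groth.Agent.Lib.GrSyzBasic.eq_zero_of_mem_stdGr_neg k _
          (by have := hall p; omega) (SetLike.coe_mem _)
      rw [h6, zero_mul]
    omega
  · have hZe : Z = ∅ := Finset.not_nonempty_iff_eq_empty.mp hZne
    have hItop : I = ⊤ := by
      rw [Ideal.eq_top_iff_one, hI]
      intro p hp
      rw [hZe] at hp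
      simp at hp
    rw [hItop, ← Ideal.span_singleton_one]
    refine le_trans (Submodule.spanFinrank_span_le_ncard_of_finite (Set.finite_singleton _)) ?_
    rw [Set.ncard_singleton]
    omega

end Groth.Agent.S12914
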