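import Mathlib
import Groth.Statements.S12915

set_option autoImplicit false
universe u
open CAlgX

namespace Groth.Agent.S12915

section Helpers

open MvPolynomial

theorem finrank_homog (k : Type*) [Field k] (r t : ℕ) :
    Module.finrank k (homogeneousSubmodule (Fin (r + 1)) k t) = Nat.choose (t + r) r := by
  classical
  rw [homogeneousSubmodule_eq_finsupp_supported]
  rw [LinearEquiv.finrank_eq (AddMonoidAlgebra.supportedEquivFinsupp (R := k) (S := k)
    {d : Fin (r + 1) →₀ ℕ | d.degree = t})]
  have hfin : ({d : Fin (r + 1) →₀ ℕ | d.degree = t}) =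
      ((Finset.univ : Finset (Fin (r + 1))).finsuppAntidiag t : Set _) := by
    ext d
    simp only [Set.mem_ofPred_eq, Finset.mem_coe, Finset.mem_finsuppAntidiag, Finset.subset_univ,
      and_true]
    rw [Finsupp.degree_eq_sum]
  rw [hfin]
  rw [Module.finrank_finsupp_self]
  rw [← Set.toFinset_card, Finset.toFinset_coe, Finset.card_finsuppAntidiag_nat_eq_choose]
  simp only [Finset.card_univ, Fintype.card_fin]
  have : r + 1 + t - 1 = t + r := by omega
  rw [this, Nat.choose_symm_add]

attribute [local instance] MvPolynomial.gradedAlgebra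

theorem finrank_image (k : Type u) [Field k] (r m : ℕ)
    (f : MvPolynomial (Fin (r + 1)) k) (hf : f.IsHomogeneous m) (hf0 : f ≠ 0) (t : ℕ) (ht : m ≤ t) :
    Module.finrank k
        (Submodule.map ((Ideal.Quotient.mkₐ k (Ideal.span {f})).toLinearMap)
          (MvPolynomial.homogeneousSubmodule (Fin (r + 1)) k t)) +
      Module.finrank k (homogeneousSubmodule (Fin (r + 1)) k (t - m)) =
      Module.finrank k (homogeneousSubmodule (Fin (r + 1)) k t) := by
  classical
  set φ := (Ideal.Quotient.mkₐ k (Ideal.span {f})).toLinearMap with hφ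
  set N := homogeneousSubmodule (Fin (r + 1)) k t with hN
  have : Module.Finite k N := Module.Finite.of_fg (homogeneousSubmodule_fg _ _ t)
  let g := φ.domRestrict N
  have hrange : LinearMap.range g = Submodule.map φ N := LinearMap.range_domRestrict _ _
  have hrk := LinearMap.finrank_range_add_finrank_ker g
  rw [← hrange, ← hrk]
  congr 1
  -- the equivalence H (t - m) ≃ ker g
  have hmem1 : ∀ h : homogeneousSubmodule (Fin (r + 1)) k (t - m),
      f * (h : MvPolynomial (Fin (r + 1)) k) ∈ N := by
    intro h
    have := hf.mul h.2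
    rwa [Nat.add_sub_cancel' ht] at this
  let μ0 : homogeneousSubmodule (Fin (r + 1)) k (t - m) →ₗ[k] N :=
    LinearMap.codRestrict N ((LinearMap.mulLeft k f).comp (Submodule.subtype _)) hmem1
  have hmem2 : ∀ h, μ0 h ∈ LinearMap.ker g := by
    intro h
    rw [LinearMap.mem_ker]
    show φ (f * (h : MvPolynomial (Fin (r + 1)) k)) = 0
    rw [hφ, AlgHom.toLinearMap_apply, Ideal.Quotient.mkₐ_eq_mk, Ideal.Quotient.eq_zero_iff_mem]
    exact Ideal.mul_mem_right _ _ (Ideal.mem_span_singleton_self f)
  let μ : homogeneousSubmodule (Fin (r + 1)) k (t - m) →ₗ[k] LinearMap.ker g :=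
    LinearMap.codRestrict _ μ0 hmem2
  have hinj : Function.Injective μ := by
    intro h h' hh
    have h1 : f * (h : MvPolynomial (Fin (r + 1)) k) = f * (h' : MvPolynomial (Fin (r + 1)) k) :=
      congrArg (fun z : LinearMap.ker g => ((z : N) : MvPolynomial (Fin (r + 1)) k)) hh
    exact Subtype.ext (mul_left_cancel₀ hf0 h1)
  have hsurj : Function.Surjective μ := by
    rintro ⟨⟨x, hxN⟩, hx⟩
    rw [LinearMap.mem_ker] at hx
    have hx' : φ x = 0 := hx
    rw [hφ, AlgHom.toLinearMap_apply, Ideal.Quotient.mkₐ_eq_mk, Ideal.Quotient.eq_zero_iff_mem,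
      Ideal.mem_span_singleton] at hx'
    obtain ⟨q, rfl⟩ := hx'
    have h1 : f * q = ((DirectSum.decompose (homogeneousSubmodule (Fin (r + 1)) k) (f * q) t :
        homogeneousSubmodule (Fin (r + 1)) k t) : MvPolynomial (Fin (r + 1)) k) :=
      (DirectSum.decompose_of_mem_same _ hxN).symm
    rw [DirectSum.coe_decompose_mul_of_left_mem_of_le _ hf ht] at h1
    refine ⟨DirectSum.decompose (homogeneousSubmodule (Fin (r + 1)) k) q (t - m), ?_⟩
    apply Subtype.ext
    apply Subtype.ext
    exact h1.symm
  exact LinearEquiv.finrank_eq (LinearEquiv.ofBijective μ ⟨hinj, hsurj⟩)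

end Helpers

/-- Let k be a field, S = k[x_0, …, x_r], and f a nonzero homogeneous polynomial of degree m. For every
t ≥ m the image in S/(f) of the homogeneous polynomials of degree t is a k-vector space of dimension
C(t + r, r) - C(t + r - m, r). (The published clause states that the hypersurface f = 0 in P^r has
degree m; its proof computes exactly this Hilbert function, whose polynomial has leading term m
t^(r-1)/(r-1)!, and that computation is what is stated here.) -/
theorem result (k : Type u) [Field k] (r m : ℕ)
    (f : MvPolynomial (Fin (r + 1)) k) (hf : f.IsHomogeneous m) (hf0 : f ≠ 0) (t : ℕ) (ht : m ≤ t) :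
    Module.finrank k
        (Submodule.map ((Ideal.Quotient.mkₐ k (Ideal.span {f})).toLinearMap)
          (MvPolynomial.homogeneousSubmodule (Fin (r + 1)) k t)) =
      Nat.choose (t + r) r - Nat.choose (t + r - m) r := by
  have h := finrank_image k r m f hf hf0 t ht
  rw [finrank_homog, finrank_homog] at h
  have h2 : t - m + r = t + r - m := by omega
  rw [h2] at h
  omega

end Groth.Agent.S12915
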