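import Groth.Statements.S12916
import Groth.Agent.Lib.H14FinLenSupp

set_option autoImplicit false
universe u
open CAlgX
open MvPolynomial Groth.Agent.Lib.H14FinLenSupp

namespace Groth.Agent.S12916

/-- Let k be an infinite field, S = k[x_0, …, x_r], M a finitely generated S-module and d a natural
number. Then some nonzero homogeneous polynomial f of degree d is quasi-regular on M: the submodule
(0 :_M f) of elements of M annihilated by f has finite length. (The published statement assumes M
graded; this row assumes only that M is finitely generated.) -/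
theorem result (k : Type u) [Field k] [Infinite k] (r d : ℕ)
    (M : Type u) [AddCommGroup M] [Module (MvPolynomial (Fin (r + 1)) k) M] [Module.Finite (MvPolynomial (Fin (r + 1)) k) M] :
    ∃ f : MvPolynomial (Fin (r + 1)) k, f.IsHomogeneous d ∧ f ≠ 0 ∧
      IsFiniteLength (MvPolynomial (Fin (r + 1)) k) ↥(Submodule.torsionBy (MvPolynomial (Fin (r + 1)) k) M f) := by
  classical
  set S := MvPolynomial (Fin (r + 1)) k with hS
  have hfin : (associatedPrimes S M).Finite := associatedPrimes.finite S M
  let T : Set (Ideal S) := {P | P ∈ associatedPrimes S M ∧ ¬ P.IsMaximal}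
  have hT : T.Finite := hfin.subset (fun P hP => hP.1)
  let V : Submodule k S := homogeneousSubmodule (Fin (r + 1)) k d
  let W : Ideal S → Subspace k V := fun P => (P.restrictScalars k).comap V.subtype
  let s : Finset (Subspace k V) := insert ⊥ (hT.toFinset.image W)
  have hXmem : ∀ i, (X i : S) ^ d ∈ V := by
    intro i
    rw [mem_homogeneousSubmodule]
    have := (isHomogeneous_X k i).pow d
    rwa [one_mul] at this
  have hs : ⊤ ∉ s := by
    simp only [s, Finset.mem_insert, Finset.mem_image, Set.Finite.mem_toFinset, not_or, not_exists,
      not_and]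
    refine ⟨?_, ?_⟩
    · intro htop
      have h1 : (⟨(X 0 : S) ^ d, hXmem 0⟩ : V) ∈ (⊤ : Subspace k V) := Submodule.mem_top
      rw [htop, Submodule.mem_bot] at h1
      have h2 := congrArg Subtype.val h1
      simp only [Submodule.coe_zero] at h2
      exact pow_ne_zero d (X_ne_zero 0) h2
    · intro P hP hW
      have hprime : P.IsPrime := hP.1.isPrime
      apply hP.2
      apply isMaximal_of_X_pow_mem d P
      intro i
      have h1 : (⟨(X i : S) ^ d, hXmem i⟩ : V) ∈ W P := by rw [hW]; exact Submodule.mem_top
      exact h1
  have hne := Subspace.biUnion_ne_univ_of_top_notMem hs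
  obtain ⟨v, hv⟩ : ∃ v : V, v ∉ ⋃ p ∈ s, (p : Set V) := by
    by_contra hcon
    push Not at hcon
    exact hne (Set.eq_univ_of_forall hcon)
  simp only [Set.mem_iUnion, not_exists] at hv
  refine ⟨v.1, v.2, ?_, ?_⟩
  · intro h0
    apply hv ⊥ (by simp [s])
    simp only [SetLike.mem_coe, Submodule.mem_bot]
    exact Subtype.ext h0
  · have hvT : ∀ P ∈ T, v.1 ∉ P := by
      intro P hP hmem
      apply hv (W P) (by simp only [s, Finset.mem_insert, Finset.mem_image, Set.Finite.mem_toFinset]; exact Or.inr ⟨P, hP, rfl⟩)
      exact hmem
    set f : S := v.1 with hf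
    set N := Submodule.torsionBy S M f with hN
    have hNfin : Module.Finite S N := inferInstance
    apply isFiniteLength_of_support_maximal hNfin
    intro p hp
    rw [Module.support_eq_zeroLocus] at hp
    have hann : Module.annihilator S N ≤ p.asIdeal := hp
    obtain ⟨q, hq, hqp⟩ := Ideal.exists_minimalPrimes_le hann
    have hqass : q ∈ associatedPrimes S N := Module.associatedPrimes.minimalPrimes_annihilator_subset_associatedPrimes S N hq
    have hqM : q ∈ associatedPrimes S M :=
      associatedPrimes.subset_of_injective (f := N.subtype) N.injective_subtype hqass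
    have hfq : f ∈ q := by
      apply hq.1.2
      rw [Module.mem_annihilator]
      intro n
      apply Subtype.ext
      simp [(Submodule.mem_torsionBy_iff _ _).mp n.2]
    have hqmax : q.IsMaximal := by
      by_contra hnot
      exact hvT q ⟨hqM, hnot⟩ hfq
    have : q = p.asIdeal := hqmax.eq_of_le p.2.ne_top hqp
    rw [← this]; exact hqmax

end Groth.Agent.S12916
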