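import Groth.Statements.S12917
import Groth.Agent.Lib.GrPoints

set_option autoImplicit false
universe u
open CAlgX

namespace Groth.Agent.S12917

/-- Let k be a field, Z a finite set of nonzero vectors in k^3, regarded as points of the projective
plane, and I the homogeneous vanishing ideal of Z in S = k[x_0, x_1, x_2]: a polynomial belongs to I
exactly when each of its homogeneous components vanishes at every vector of Z. Then I has a free
resolution of length one: for some t there are a (t+1) × t matrix Ψ over S, injective as a map S^t →
S^{t+1}, and an S-linear map π : S^{t+1} → S with ker π = im Ψ and im π = I. (The published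
statement speaks of the minimal free resolution of I having length 1; stated here as the existence
of such a resolution.) -/
theorem result (k : Type u) [Field k]
    (Z : Finset (Fin 3 → k)) (hZ : ∀ p ∈ Z, p ≠ 0) (I : Ideal (MvPolynomial (Fin 3) k))
    (hI : ∀ f : MvPolynomial (Fin 3) k, f ∈ I ↔
      ∀ p ∈ Z, ∀ j : ℕ, MvPolynomial.eval p (MvPolynomial.homogeneousComponent j f) = 0) :
    ∃ (t : ℕ) (Ψ : Matrix (Fin (t + 1)) (Fin t) (MvPolynomial (Fin 3) k)) (π : (Fin (t + 1) → MvPolynomial (Fin 3) k) →ₗ[MvPolynomial (Fin 3) k] MvPolynomial (Fin 3) k),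
      LinearMap.ker Ψ.mulVecLin = ⊥ ∧ LinearMap.ker π = LinearMap.range Ψ.mulVecLin ∧ LinearMap.range π = I := by
  classical
  by_cases hZne : Z.Nonempty
  · obtain ⟨t, Ψ, g, a, b, hinj, hex, hspan, -, -, -, -, -⟩ :=
      Groth.Agent.Lib.GrPoints.exists_hilbertBurch Z I hI hZ hZne
    refine ⟨t, Ψ, Fintype.linearCombination (MvPolynomial (Fin 3) k) g, ?_, ?_, ?_⟩
    · rw [LinearMap.ker_eq_bot']
      intro v hv
      exact hinj v hv
    · ext v
      rw [LinearMap.mem_ker, Fintype.linearCombination_apply, LinearMap.mem_range]
      have := hex v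
      simp only [smul_eq_mul] at this ⊢
      rw [this]
      rfl
    · rw [Fintype.range_linearCombination]
      exact hspan
  · have hZe : Z = ∅ := Finset.not_nonempty_iff_eq_empty.mp hZne
    have hItop : I = ⊤ := by
      rw [Ideal.eq_top_iff_one, hI]
      intro p hp
      rw [hZe] at hp
      simp at hp
    refine ⟨0, 0, LinearMap.proj 0, ?_, ?_, ?_⟩
    · rw [LinearMap.ker_eq_bot']
      intro v _
      funext q
      exact Fin.elim0 q
    · ext v
      rw [LinearMap.mem_ker, LinearMap.mem_range]
      constructor
      · intro hv
        refine ⟨0, ?_⟩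
        rw [map_zero]
        funext q
        have hq : q = 0 := Fin.ext (by have := q.2; omega)
        rw [hq]
        exact hv.symm
      · rintro ⟨w, rfl⟩
        simp
    · rw [hItop, LinearMap.range_eq_top]
      intro s
      exact ⟨fun _ => s, rfl⟩

end Groth.Agent.S12917
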