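import Groth.Statements.S12918
import Groth.Agent.Lib.TameAct41c

set_option autoImplicit false
universe u v w
open HopfRep

namespace Groth.Agent.S12918

open TensorProduct

/-- Let `k` be a commutative ring, `A` a commutative Hopf algebra over `k`, flat as a `k`-module and `B`
a commutative `k`-algebra with a coaction `ρ : B → B ⊗ A` that is an algebra map (an action of the
affine group scheme `Spec A` on `Spec B`). Then the action admits a total integral — a comodule map
`α : A → B`, for the regular coaction on `A`, with `α 1 = 1` — if and only if `ρ` has a left inverse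
`B ⊗ A → B` which is a comodule map for the coaction `id ⊗ Δ` on `B ⊗ A`. -/
theorem result
    (k : Type u) [CommRing k] (A : Type v) [CommRing A] [HopfAlgebra k A] [Module.Flat k A]
    (B : Type w) [CommRing B] [Algebra k B] [HopfRep.Comod k A B] [GLin.IsCoactAlg k A B] :
    (∃ α : A →ₗ[k] B, Hoch.IsComodHom A α ∧ α 1 = 1) ↔
      ∃ lam : Hoch.Ind k A B →ₗ[k] B, Hoch.IsComodHom A lam ∧ lam ∘ₗ Hoch.toInd k A B = LinearMap.id := by
  constructor
  · rintro ⟨α, hα, hα1⟩
    exact ⟨Groth.Agent.Lib.TameAct41.lamOf α, Groth.Agent.Lib.TameAct41.isComodHom_lamOf α hα,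
      Groth.Agent.Lib.TameAct41.lamOf_comp_toInd α hα1⟩
  · rintro ⟨lam, hlam, hlam1⟩
    let ι : A →ₗ[k] Hoch.Ind k A B :=
      (Hoch.Ind.equiv k A B).toLinearMap ∘ₗ TensorProduct.mk k B A 1
    have hι : Hoch.IsComodHom A ι := by
      unfold Hoch.IsComodHom
      apply LinearMap.ext
      intro a
      have key : ∀ t : A ⊗[k] A, (TensorProduct.assoc k B A A).symm ((1 : B) ⊗ₜ[k] t) =
          (TensorProduct.mk k B A 1).rTensor A t := by
        intro t
        induction t with
        | zero => simp
        | add x y hx hy => rw [TensorProduct.tmul_add, map_add, map_add, hx, hy]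
        | tmul x y => rfl
      exact key (Coalgebra.comul (R := k) a)
    refine ⟨lam ∘ₗ ι, Groth.Agent.Lib.Comod.isComodHom_comp' hι hlam, ?_⟩
    have h1 : ι 1 = Hoch.toInd k A B 1 := by
      show (Hoch.Ind.equiv k A B) ((1 : B) ⊗ₜ[k] (1 : A)) =
        (Hoch.Ind.equiv k A B) (HopfRep.Comod.coact (k := k) (A := A) (1 : B))
      rw [GLin.IsCoactAlg.coact_one, Algebra.TensorProduct.one_def]
    rw [LinearMap.comp_apply, h1]
    exact LinearMap.congr_fun hlam1 1

end Groth.Agent.S12918
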