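import Groth.Statements.S12923
import Groth.Agent.Lib.TameAct41b

set_option autoImplicit false
universe u v w
open HopfRep

namespace Groth.Agent.S12923

/-- Let `k` be a commutative ring, `A` a commutative Hopf algebra over `k`, flat as a `k`-module, `B` a
commutative `k`-algebra with a coaction of `A` that is an algebra map and admits a total integral (a
comodule map `α : A → B` with `α 1 = 1`), `C = B^A`, and `b` an ideal of `B` which is a subcomodule
(a closed subscheme of `Spec B` stable under the action). Then the image of `V(b)` under `Spec B →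
Spec C` is the closed set `V(b ∩ C)`. (The published statement assumes only that taking invariants
is exact on `(B, A)`-modules; a total integral, assumed here, gives that exactness.) -/
theorem result
    (k : Type u) [CommRing k] (A : Type v) [CommRing A] [HopfAlgebra k A] [Module.Flat k A]
    (B : Type w) [CommRing B] [Algebra k B] [HopfRep.Comod k A B] [GLin.IsCoactAlg k A B]
    (htame : ∃ α : A →ₗ[k] B, Hoch.IsComodHom A α ∧ α 1 = 1)
    (b : Ideal B) (hb : HopfRep.IsSubcomod (k := k) (A := A) (b.restrictScalars k)) :
    PrimeSpectrum.comap (algebraMap (GLin.invariants k A B) B) '' PrimeSpectrum.zeroLocus (b : Set B) =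
      PrimeSpectrum.zeroLocus ((b.comap (algebraMap (GLin.invariants k A B) B) : Ideal (GLin.invariants k A B)) : Set (GLin.invariants k A B)) := by
  obtain ⟨α, hα, hα1⟩ := htame
  apply Set.eq_of_subset_of_subset
  · rintro _ ⟨q, hq, rfl⟩
    rw [PrimeSpectrum.mem_zeroLocus] at hq ⊢
    intro x hx
    have hx' : algebraMap (GLin.invariants k A B) B x ∈ b := hx
    exact hq hx'
  · intro p hp
    rw [PrimeSpectrum.mem_zeroLocus] at hp
    have := p.2
    obtain ⟨q, hq, hbq, hqp⟩ := Groth.Agent.Lib.TameAct41.exists_prime_over α hα hα1 b hb p.asIdeal hp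
    refine ⟨⟨q, hq⟩, ?_, ?_⟩
    · rw [PrimeSpectrum.mem_zeroLocus]
      exact hbq
    · apply PrimeSpectrum.ext
      exact hqp

end Groth.Agent.S12923
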