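import Groth.Statements.S12924
import Groth.Agent.Lib.CatQuot24
import Groth.Agent.Lib.CatQuot24b
import Groth.Agent.S12922

set_option autoImplicit false
universe u
open CategoryTheory AlgebraicGeometry
open HopfRep

namespace Groth.Agent.S12924

open Groth.Agent.Lib.CatQuot24 Groth.Agent.Lib.TameAct41 in
/-- Let `k` be a commutative ring, `A` a commutative Hopf algebra over `k`, flat as a `k`-module, `B` a
commutative `k`-algebra with a coaction `ρ : B → B ⊗ A` that is an algebra map and admits a total
integral (a comodule map `α : A → B` with `α 1 = 1`), and `C = B^A`. Then `Spec B → Spec C` is a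
categorical quotient of the action in the category of schemes: for every scheme `Z` and every
morphism `ψ : Spec B → Z` which is invariant, i.e. has the same composite with `Spec (B ⊗ A) → Spec
B` induced by `ρ` and by `b ↦ b ⊗ 1`, there is exactly one morphism `Spec C → Z` through which `ψ`
factors. (The published statement assumes only that taking invariants is exact on `(B, A)`-modules;
a total integral, assumed here, gives that exactness.) -/
theorem result
    (k : Type u) [CommRing k] (A : Type u) [CommRing A] [HopfAlgebra k A] [Module.Flat k A]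
    (B : Type u) [CommRing B] [Algebra k B] [HopfRep.Comod k A B] [GLin.IsCoactAlg k A B]
    (htame : ∃ α : A →ₗ[k] B, Hoch.IsComodHom A α ∧ α 1 = 1)
    (Z : Scheme.{u}) (ψ : Spec (CommRingCat.of B) ⟶ Z)
    (hψ : Spec.map (CommRingCat.ofHom (GLin.coactAlgHom k A B).toRingHom) ≫ ψ =
      Spec.map (CommRingCat.ofHom
        (Algebra.TensorProduct.includeLeftRingHom : B →+* TensorProduct k B A)) ≫ ψ) :
    ∃! χ : Spec (CommRingCat.of (GLin.invariants k A B)) ⟶ Z,
      Spec.map (CommRingCat.ofHom (algebraMap (GLin.invariants k A B) B)) ≫ χ = ψ := by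
  obtain ⟨α, hα, hα1⟩ := htame
  have hsurj := Groth.Agent.S12922.result k A B ⟨α, hα, hα1⟩
  refine existsUnique_desc (algebraMap (GLin.invariants k A B) B)
    (GLin.coactAlgHom k A B).toRingHom Algebra.TensorProduct.includeLeftRingHom
    Subtype.val_injective ?_ ?_ hsurj (fun b => reyC α hα b) (fun x y => map_add _ x y) ?_ ?_ ψ hψ
  · intro b hb
    exact ⟨⟨b, hb⟩, rfl⟩
  · intro c
    exact c.2
  · have := reyC_algebraMap α hα hα1 (1 : GLin.invariants k A B)
    rwa [map_one] at this
  · intro b hb
    refine ⟨sat k A b, sat_le b, le_radical_sat b hb, ?_⟩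
    intro f hf
    exact reynolds_mem_of_isSubcomod α (sat k A b) (isSubcomod_sat b) hf

end Groth.Agent.S12924
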