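import Groth.Statements.S12926
import Mathlib

set_option autoImplicit false
universe u v
open HopfRep

namespace Groth.Agent.S12926

/-- Let `k` be a commutative ring and `A` a commutative bialgebra over `k`, flat as a `k`-module. If the
submodule `k · 1` of the regular comodule `A` has a complement `H` which is a subcomodule — the case
used when `A` is cosemisimple, i.e. every subcomodule of every comodule is a direct summand as a
comodule — then the trivial action of `Spec A` on `Spec k` is tame: there is a comodule map `α : A →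
k`, for the regular coaction on `A` and the trivial coaction `r ↦ r ⊗ 1` on `k`, with `α 1 = 1`. -/
theorem result
    (k : Type u) [CommRing k] (A : Type v) [CommRing A] [Bialgebra k A] [Module.Flat k A]
    (H : Submodule k A) (hH : HopfRep.IsSubcomod (k := k) (A := A) H)
    (hc : IsCompl (Submodule.span k {(1 : A)}) H) :
    ∃ α : A →ₗ[k] k, @Hoch.IsComodHom k _ A _ _ _ A _ _ _ k _ _ (HopfRep.Comod.trivial k A k) α ∧ α 1 = 1 := by
  classical
  let proj := Submodule.projectionOnto (Submodule.span k {(1 : A)}) H hc
  let α : A →ₗ[k] k := Coalgebra.counit (R := k) (A := A) ∘ₗ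
    (Submodule.span k {(1 : A)}).subtype ∘ₗ proj
  have h1mem : (1 : A) ∈ Submodule.span k {(1 : A)} := Submodule.mem_span_singleton_self 1
  have hα1 : α 1 = 1 := by
    simp only [α, LinearMap.comp_apply, proj]
    rw [Submodule.projectionOnto_apply_of_mem_left hc h1mem]
    simp
  have hαH : α ∘ₗ H.subtype = 0 := by
    apply LinearMap.ext
    intro h
    simp only [α, LinearMap.comp_apply, proj, Submodule.subtype_apply, LinearMap.zero_apply]
    rw [Submodule.projectionOnto_apply_of_mem_right hc h.2]
    simp
  refine ⟨α, ?_, hα1⟩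
  unfold Hoch.IsComodHom
  apply LinearMap.ext
  intro a
  have hmem : a ∈ Submodule.span k {(1 : A)} ⊔ H := by rw [hc.sup_eq_top]; trivial
  obtain ⟨x, hx, h, hh, rfl⟩ := Submodule.mem_sup.mp hmem
  obtain ⟨c, rfl⟩ := Submodule.mem_span_singleton.mp hx
  simp only [LinearMap.comp_apply, map_add, map_smul]
  congr 1
  · congr 1
    change (α 1) ⊗ₜ[k] (1 : A) = α.rTensor A (Coalgebra.comul (R := k) (1 : A))
    rw [Bialgebra.comul_one, Algebra.TensorProduct.one_def, LinearMap.rTensor_tmul]
  · change (α h) ⊗ₜ[k] (1 : A) = α.rTensor A (Coalgebra.comul (R := k) h)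
    have hαh : α h = 0 := LinearMap.congr_fun hαH ⟨h, hh⟩
    obtain ⟨t, ht⟩ := hH h hh
    change (H.subtype.rTensor A) t = Coalgebra.comul (R := k) h at ht
    rw [hαh, TensorProduct.zero_tmul, ← ht, ← LinearMap.comp_apply, ← LinearMap.rTensor_comp, hαH]
    simp

end Groth.Agent.S12926
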