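import Groth.Statements.S12929
import Mathlib

set_option autoImplicit false
universe u v w w'
open HopfRep
open scoped TensorProduct

namespace Groth.Agent.S12929


section helpers

variable {k : Type u} [CommRing k] {A : Type v} [CommRing A] [HopfAlgebra k A]
  {M : Type w} [AddCommGroup M] [Module k M]
  {N : Type w'} [AddCommGroup N] [Module k N]

lemma L1 (h : M →ₗ[k] N) (m : M) (u : A ⊗[k] A) :
    (h.rTensor A).rTensor A ((TensorProduct.assoc k M A A).symm (m ⊗ₜ[k] u)) =
      (TensorProduct.assoc k N A A).symm (h m ⊗ₜ[k] u) := by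
  induction u using TensorProduct.induction_on with
  | zero => simp
  | tmul x y => simp
  | add x y hx hy => simp only [TensorProduct.tmul_add, map_add, hx, hy]

lemma L1' (h : M →ₗ[k] N) (t : M ⊗[k] A) :
    (h.rTensor A).rTensor A ((TensorProduct.assoc k M A A).symm
        ((Coalgebra.comul (R := k) (A := A)).lTensor M t)) =
      (TensorProduct.assoc k N A A).symm
        ((Coalgebra.comul (R := k) (A := A)).lTensor N (h.rTensor A t)) := by
  induction t using TensorProduct.induction_on with
  | zero => simp
  | tmul m a => simp only [LinearMap.lTensor_tmul, LinearMap.rTensor_tmul, L1]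
  | add x y hx hy => simp only [map_add, hx, hy]

variable (k A N) in
/-- `id ⊗ ε` on the plain tensor product -/
noncomputable def cN : N ⊗[k] A →ₗ[k] N :=
  (TensorProduct.rid k N).toLinearMap ∘ₗ (Coalgebra.counit (R := k) (A := A)).lTensor N

lemma cN_tmul (n : N) (a : A) : cN k A N (n ⊗ₜ[k] a) = Coalgebra.counit (R := k) a • n := by
  simp [cN]

lemma L2aux (n : N) (u : A ⊗[k] A) :
    (cN k A N).rTensor A ((TensorProduct.assoc k N A A).symm (n ⊗ₜ[k] u)) =
      n ⊗ₜ[k] (TensorProduct.lid k A ((Coalgebra.counit (R := k) (A := A)).rTensor A u)) := by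
  induction u using TensorProduct.induction_on with
  | zero => simp
  | tmul x y =>
    simp only [TensorProduct.assoc_symm_tmul, LinearMap.rTensor_tmul, TensorProduct.lid_tmul,
      cN_tmul]
    rw [TensorProduct.smul_tmul]
  | add x y hx hy => simp only [TensorProduct.tmul_add, map_add, hx, hy]

lemma L2 (y : N ⊗[k] A) :
    (cN k A N).rTensor A ((TensorProduct.assoc k N A A).symm
      ((Coalgebra.comul (R := k) (A := A)).lTensor N y)) = y := by
  induction y using TensorProduct.induction_on with
  | zero => simp
  | tmul n a =>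
    rw [LinearMap.lTensor_tmul, L2aux, Coalgebra.rTensor_counit_comul]
    simp
  | add x y hx hy => simp only [map_add, hx, hy]

end helpers

/-- Let `k` be a commutative ring, `A` a commutative Hopf algebra over `k`, `M` a right `A`-comodule and
`N` a `k`-module; give `N ⊗ A` the coaction `id ⊗ Δ`. Then for every `k`-linear map `h : M → N` the
composite `(h ⊗ id_A) ∘ ρ_M : M → N ⊗ A` is a comodule map, and every comodule map `f : M → N ⊗ A`
is of this form for exactly one `h` (which is `(id_N ⊗ ε) ∘ f`): comodule maps `M → N ⊗ A`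
correspond bijectively to linear maps `M → N`. -/
theorem result
    (k : Type u) [CommRing k] (A : Type v) [CommRing A] [HopfAlgebra k A]
    (M : Type w) [AddCommGroup M] [Module k M] [HopfRep.Comod k A M]
    (N : Type w') [AddCommGroup N] [Module k N] :
    (∀ h : M →ₗ[k] N, Hoch.IsComodHom A
        ((Hoch.Ind.equiv k A N).toLinearMap ∘ₗ h.rTensor A ∘ₗ HopfRep.Comod.coact (k := k) (A := A))) ∧
      ∀ f : M →ₗ[k] Hoch.Ind k A N, Hoch.IsComodHom A f →
        ∃! h : M →ₗ[k] N,
          f = (Hoch.Ind.equiv k A N).toLinearMap ∘ₗ h.rTensor A ∘ₗ HopfRep.Comod.coact (k := k) (A := A) := by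
  have hco' : ∀ m : M, (HopfRep.Comod.coact (k := k) (A := A) (V := M)).rTensor A
      (HopfRep.Comod.coact (k := k) (A := A) m) =
      (TensorProduct.assoc k M A A).symm ((Coalgebra.comul (R := k) (A := A)).lTensor M
        (HopfRep.Comod.coact (k := k) (A := A) m)) := by
    intro m
    have hco := LinearMap.congr_fun (HopfRep.Comod.coassoc (k := k) (A := A) (V := M)) m
    simp only [LinearMap.comp_apply, LinearEquiv.coe_coe] at hco
    rw [← hco, LinearEquiv.symm_apply_apply]
  constructor
  · intro h
    unfold Hoch.IsComodHom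
    apply LinearMap.ext
    intro m
    change (TensorProduct.assoc k N A A).symm ((Coalgebra.comul (R := k) (A := A)).lTensor N
        (h.rTensor A (HopfRep.Comod.coact (k := k) (A := A) m))) =
      ((h.rTensor A ∘ₗ HopfRep.Comod.coact (k := k) (A := A)).rTensor A)
        (HopfRep.Comod.coact (k := k) (A := A) m)
    rw [LinearMap.rTensor_comp, LinearMap.comp_apply, hco', L1']
  · intro f hf
    unfold Hoch.IsComodHom at hf
    let f' : M →ₗ[k] N ⊗[k] A := f
    have hf' : ∀ m, (TensorProduct.assoc k N A A).symm
        ((Coalgebra.comul (R := k) (A := A)).lTensor N (f' m)) =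
        f'.rTensor A (HopfRep.Comod.coact (k := k) (A := A) m) := fun m =>
      LinearMap.congr_fun hf m
    have hcu : ∀ m : M, (Coalgebra.counit (R := k) (A := A)).lTensor M
        (HopfRep.Comod.coact (k := k) (A := A) m) = m ⊗ₜ[k] (1 : k) := by
      intro m
      have := LinearMap.congr_fun (HopfRep.Comod.counit_comp (k := k) (A := A) (V := M)) m
      simpa using this
    refine ⟨cN k A N ∘ₗ f', ?_, ?_⟩
    · apply LinearMap.ext
      intro m
      change f' m = ((cN k A N ∘ₗ f').rTensor A) (HopfRep.Comod.coact (k := k) (A := A) m)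
      rw [LinearMap.rTensor_comp, LinearMap.comp_apply, ← hf', L2]
    · intro h' hh'
      apply LinearMap.ext
      intro m
      have hfm : f' m = h'.rTensor A (HopfRep.Comod.coact (k := k) (A := A) m) := by
        have := LinearMap.congr_fun hh' m
        exact this
      simp only [LinearMap.comp_apply, hfm, cN, LinearEquiv.coe_coe]
      rw [← LinearMap.comp_apply ((Coalgebra.counit (R := k) (A := A)).lTensor N),
        LinearMap.lTensor_comp_rTensor, ← LinearMap.rTensor_comp_lTensor,
        LinearMap.comp_apply, hcu]
      simp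

end Groth.Agent.S12929
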