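import Groth.Statements.S12932
import Mathlib.RingTheory.Invariant.Basic
import Mathlib.LinearAlgebra.LinearIndependent.Basic
import Mathlib.RingTheory.Ideal.GoingUp
-- import your own Groth.Agent.* helpers here

set_option autoImplicit false
set_option maxHeartbeats 400000
universe u v
open scoped BigOperators
open InvTh

namespace Groth.Agent.S12932

section
variable {B : Type u} [CommRing B] {Γ : Type v} [Group Γ] [Fintype Γ] [MulSemiringAction Γ B]

/-- The monoid hom `x ↦ [γ • x] : B →* B ⧸ P`. -/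
noncomputable def Φ (P : Ideal B) (γ : Γ) : B →* B ⧸ P :=
  (((Ideal.Quotient.mk P).comp (MulSemiringAction.toRingHom Γ B γ) : B →+* B ⧸ P) : B →* B ⧸ P)

lemma Φ_apply (P : Ideal B) (γ : Γ) (x : B) : Φ P γ x = Ideal.Quotient.mk P (γ • x) := rfl

lemma Φ_eq_iff (P : Ideal B) (γ γ' : Γ) : Φ P γ = Φ P γ' ↔ γ * γ'⁻¹ ∈ P.inertia Γ := by
  constructor
  · intro h
    show ∀ y : B, (γ * γ'⁻¹) • y - y ∈ P
    intro y
    have := DFunLike.congr_fun h (γ'⁻¹ • y)
    simp only [Φ_apply, smul_inv_smul] at this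
    rw [mul_smul]
    exact Ideal.Quotient.eq.mp this
  · intro h
    have h' : ∀ y : B, (γ * γ'⁻¹) • y - y ∈ P := h
    refine MonoidHom.ext (fun x => ?_)
    have := h' (γ' • x)
    rw [mul_smul, inv_smul_smul] at this
    exact Ideal.Quotient.eq.mpr this

lemma card_fiber (P : Ideal B) [DecidableEq (B →* B ⧸ P)] (γ' : Γ) :
    (Finset.univ.filter (fun γ : Γ => Φ P γ = Φ P γ')).card = Nat.card (P.inertia Γ) := by
  symm
  have e : (Finset.univ.filter (fun γ : Γ => Φ P γ = Φ P γ')).card
      = (Finset.univ.filter (fun γ : Γ => Φ P γ = Φ P (1 : Γ))).card :=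
    Finset.card_equiv (Equiv.mulRight γ'⁻¹) (fun γ => by
      simp only [Finset.mem_filter, Finset.mem_univ, true_and, Equiv.coe_mulRight, Φ_eq_iff,
        inv_one, mul_one])
  rw [e]
  exact Nat.subtype_card _ (fun γ => by
    simp only [Finset.mem_filter, Finset.mem_univ, true_and, Φ_eq_iff, inv_one, mul_one])

lemma mk_trace (P : Ideal B) [DecidableEq (B →* B ⧸ P)] (b : B) :
    Ideal.Quotient.mk P (∑ γ : Γ, γ • b) =
      ∑ φ ∈ Finset.univ.image (Φ (Γ := Γ) P),
        (Finset.univ.filter (fun γ : Γ => Φ P γ = φ)).card • φ b := by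
  rw [map_sum]
  exact Finset.sum_comp (fun φ : B →* B ⧸ P => φ b) (Φ P)

lemma exists_trace_notMem (P : Ideal B) [P.IsPrime]
    (h : ((Nat.card (P.inertia Γ) : ℕ) : B ⧸ P) ≠ 0) :
    ∃ b : B, ∑ γ : Γ, γ • b ∉ P := by
  classical
  by_contra hcon
  push Not at hcon
  have hli := linearIndependent_monoidHom B (B ⧸ P)
  rw [linearIndependent_iff'] at hli
  have key : (((Finset.univ.filter (fun γ : Γ => Φ P γ = Φ P (1 : Γ))).card : ℕ) : B ⧸ P) = 0 := by
    refine hli (Finset.univ.image (Φ (Γ := Γ) P))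
      (fun φ => (((Finset.univ.filter (fun γ : Γ => Φ P γ = φ)).card : ℕ) : B ⧸ P)) ?_ (Φ P (1 : Γ))
      (Finset.mem_image_of_mem _ (Finset.mem_univ _))
    funext b
    rw [Finset.sum_apply]
    simp only [Pi.smul_apply, smul_eq_mul, Pi.zero_apply]
    have h1 := mk_trace (Γ := Γ) P b
    rw [Ideal.Quotient.eq_zero_iff_mem.mpr (hcon b)] at h1
    rw [h1]
    exact Finset.sum_congr rfl (fun φ _ => (nsmul_eq_mul _ _).symm)
  rw [card_fiber P] at key
  exact h key

end

/-- Let `B` be a commutative ring with an action of a finite group `Γ` by ring automorphisms, and call a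
prime ideal `P` of `B` tame when the order of its inertia group `{γ | γ • x - x ∈ P for all x}` is
not divisible by the characteristic of `B/P` (its ramification group is trivial). Then every prime
of `B` is tame if and only if the trace `b ↦ Σ_γ γ • b`, which takes values in the invariant ring
`B^Γ` and is `B^Γ`-linear, is onto `B^Γ` — equivalently, some element of `B` has trace `1`. -/
theorem result
    (B : Type u) [CommRing B] (Γ : Type v) [Group Γ] [Fintype Γ] [MulSemiringAction Γ B] :
    (∃ b : B, ∑ γ : Γ, γ • b = 1) ↔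
      ∀ P : Ideal B, P.IsPrime → ((Nat.card (P.inertia Γ) : ℕ) : B ⧸ P) ≠ 0 := by
  constructor
  · rintro ⟨b, hb⟩ P hP h0
    classical
    have h1 := mk_trace (Γ := Γ) P b
    rw [hb, map_one] at h1
    have h2 : ∑ φ ∈ Finset.univ.image (Φ (Γ := Γ) P),
        (Finset.univ.filter (fun γ : Γ => Φ P γ = φ)).card • φ b = 0 := by
      refine Finset.sum_eq_zero (fun φ hφ => ?_)
      obtain ⟨γ', -, rfl⟩ := Finset.mem_image.mp hφ
      rw [card_fiber P, nsmul_eq_mul, h0, zero_mul]
    rw [h2] at h1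
    have h3 : (1 : B) ∈ P := Ideal.Quotient.eq_zero_iff_mem.mp (by rw [map_one]; exact h1)
    exact hP.ne_top ((Ideal.eq_top_iff_one P).mpr h3)
  · intro h
    by_contra hcon
    push Not at hcon
    let A := FixedPoints.subring B Γ
    haveI : Algebra.IsInvariant A B Γ := ⟨fun b hb => ⟨⟨b, hb⟩, rfl⟩⟩
    haveI : Algebra.IsIntegral A B := Algebra.IsInvariant.isIntegral A B Γ
    have hfix : ∀ b : B, ∑ γ : Γ, γ • b ∈ A := by
      intro b
      show ∀ g : Γ, g • (∑ γ : Γ, γ • b) = ∑ γ : Γ, γ • b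
      intro g
      rw [Finset.smul_sum]
      simp_rw [smul_smul]
      exact Fintype.sum_equiv (Equiv.mulLeft g) _ _ (fun _ => rfl)
    let T : Ideal A :=
      { carrier := {a | ∃ b : B, ∑ γ : Γ, γ • b = (a : B)}
        zero_mem' := ⟨0, by simp⟩
        add_mem' := by
          rintro a a' ⟨b, hb⟩ ⟨b', hb'⟩
          exact ⟨b + b', by simp [smul_add, Finset.sum_add_distrib, hb, hb']⟩
        smul_mem' := by
          rintro c a ⟨b, hb⟩
          refine ⟨(c : B) * b, ?_⟩
          have hc : ∀ g : Γ, g • (c : B) = c := c.2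
          have : ∀ γ : Γ, γ • ((c : B) * b) = (c : B) * γ • b := fun γ => by
            rw [smul_mul', hc γ]
          simp only [this, ← Finset.mul_sum, hb, smul_eq_mul, Subring.coe_mul] }
    have hT : T ≠ ⊤ := by
      intro hT
      have h1 : (1 : A) ∈ T := hT ▸ Submodule.mem_top
      obtain ⟨b, hb⟩ := h1
      exact hcon b (by simpa using hb)
    obtain ⟨m, hm, hTm⟩ := Ideal.exists_le_maximal T hT
    obtain ⟨P, hP, hPm⟩ := Ideal.exists_ideal_over_maximal_of_isIntegral (S := B) m (by
      rw [(RingHom.injective_iff_ker_eq_bot _).mp (Subtype.val_injective : Function.Injective (algebraMap A B))]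
      exact bot_le)
    haveI := hP.isPrime
    obtain ⟨b, hb⟩ := exists_trace_notMem (Γ := Γ) P (h P hP.isPrime)
    apply hb
    have h1 : (⟨∑ γ : Γ, γ • b, hfix b⟩ : A) ∈ m := hTm ⟨b, rfl⟩
    rw [← hPm] at h1
    exact h1

end Groth.Agent.S12932
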