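import Groth.Statements.S12933
import Mathlib.RingTheory.Flat.Basic
import Mathlib.LinearAlgebra.TensorProduct.Pi
import Mathlib.Tactic.Abel

set_option autoImplicit false
universe u v w w'
open TensorProduct
open InvTh

namespace Groth.Agent.S12933

/-- Let `R` be a commutative ring, `B` a commutative `R`-algebra with an action of a finite group `Γ` by
`R`-algebra automorphisms, and `R'` a flat commutative `R`-algebra; let `Γ` act on `R' ⊗_R B`
through the factor `B`. Then an element of `R' ⊗_R B` is fixed by every element of `Γ` if and only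
if it lies in the `R'`-submodule spanned by the tensors `1 ⊗ b` with `b ∈ B^Γ`: taking invariants
commutes with flat base change (the map `R' ⊗_R B^Γ → R' ⊗_R B` being moreover injective by
flatness). -/
theorem result
    (R : Type u) [CommRing R] (B : Type v) [CommRing B] [Algebra R B]
    (Γ : Type w) [Group Γ] [Finite Γ] [MulSemiringAction Γ B] [SMulCommClass Γ R B]
    (R' : Type w') [CommRing R'] [Algebra R R'] [Module.Flat R R']
    (x : R' ⊗[R] B) :
    (∀ γ : Γ, Algebra.TensorProduct.map (AlgHom.id R R') (MulSemiringAction.toAlgHom R B γ) x = x) ↔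
      x ∈ Submodule.span R' ((fun b : B => (1 : R') ⊗ₜ[R] b) '' {b : B | ∀ γ : Γ, γ • b = b}) := by
  classical
  have : Fintype Γ := Fintype.ofFinite Γ
  let φγ : Γ → (B →ₗ[R] B) := fun γ =>
    (MulSemiringAction.toAlgHom R B γ).toLinearMap - LinearMap.id
  let φ : B →ₗ[R] (Γ → B) := LinearMap.pi φγ
  have hker : ∀ b : B, b ∈ LinearMap.ker φ ↔ ∀ γ : Γ, γ • b = b := by
    intro b
    rw [LinearMap.mem_ker]
    constructor
    · intro h γ
      have := congrFun h γ
      simpa [φ, φγ, sub_eq_zero] using this
    · intro h
      funext γ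
      simp [φ, φγ, h γ]
  have hexact : Function.Exact (LinearMap.lTensor R' (LinearMap.ker φ).subtype)
      (LinearMap.lTensor R' φ) :=
    Module.Flat.lTensor_exact R' (LinearMap.exact_subtype_ker_map φ)
  have key : ∀ (y : R' ⊗[R] B) (γ : Γ),
      TensorProduct.piRightHom R R R' (fun _ : Γ => B) (LinearMap.lTensor R' φ y) γ =
        Algebra.TensorProduct.map (AlgHom.id R R') (MulSemiringAction.toAlgHom R B γ) y - y := by
    intro y γ
    induction y using TensorProduct.induction_on with
    | zero => simp
    | tmul r b => simp [φ, φγ, TensorProduct.tmul_sub]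
    | add a b ha hb =>
      simp only [map_add, Pi.add_apply, ha, hb]
      abel
  have h1 : (∀ γ : Γ, Algebra.TensorProduct.map (AlgHom.id R R')
      (MulSemiringAction.toAlgHom R B γ) x = x) ↔ LinearMap.lTensor R' φ x = 0 := by
    rw [← (TensorProduct.piRight R R R' (fun _ : Γ => B)).map_eq_zero_iff,
      TensorProduct.piRight_apply, funext_iff]
    refine forall_congr' fun γ => ?_
    rw [key x γ, Pi.zero_apply, sub_eq_zero]
  rw [h1, hexact x]
  clear h1
  have hsmul : ∀ (r : R') (y : R' ⊗[R] ↥(LinearMap.ker φ)),
      LinearMap.lTensor R' (LinearMap.ker φ).subtype (r • y) =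
        r • LinearMap.lTensor R' (LinearMap.ker φ).subtype y := by
    intro r y
    induction y using TensorProduct.induction_on with
    | zero => simp
    | tmul s b => simp [TensorProduct.smul_tmul']
    | add a b ha hb => simp only [smul_add, map_add, ha, hb]
  constructor
  · rintro ⟨y, rfl⟩
    induction y using TensorProduct.induction_on with
    | zero => simp
    | tmul r b =>
      rw [LinearMap.lTensor_tmul, Submodule.subtype_apply]
      have : r ⊗ₜ[R] (b : B) = r • ((1 : R') ⊗ₜ[R] (b : B)) := by
        rw [TensorProduct.smul_tmul', smul_eq_mul, mul_one]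
      rw [this]
      exact Submodule.smul_mem _ _ (Submodule.subset_span ⟨b, (hker b).1 b.2, rfl⟩)
    | add a b ha hb =>
      rw [map_add]
      exact Submodule.add_mem _ ha hb
  · intro hx
    induction hx using Submodule.span_induction with
    | mem y hy =>
      obtain ⟨b, hb, rfl⟩ := hy
      exact ⟨(1 : R') ⊗ₜ[R] (⟨b, (hker b).2 hb⟩ : ↥(LinearMap.ker φ)), by simp⟩
    | zero => exact ⟨0, by simp⟩
    | add y z _ _ hy hz =>
      obtain ⟨y', rfl⟩ := hy
      obtain ⟨z', rfl⟩ := hz
      exact ⟨y' + z', by simp⟩
    | smul r y _ hy =>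
      obtain ⟨y', rfl⟩ := hy
      exact ⟨r • y', hsmul r y'⟩

end Groth.Agent.S12933
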