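import Groth.Statements.S12934
import Mathlib
-- import your own Groth.Agent.* helpers here

set_option autoImplicit false
universe u v
open InvTh

namespace Groth.Agent.S12934

section
variable {B : Type u} [CommRing B] [IsLocalRing B] {Γ : Type v} [Group Γ] [MulSemiringAction Γ B]

open IsLocalRing

theorem res_smul (hin : ∀ (γ : Γ) (b : B), γ • b - b ∈ maximalIdeal B) (γ : Γ) (b : B) :
    residue B (γ • b) = residue B b := by
  rw [← sub_eq_zero, ← map_sub, residue_eq_zero_iff]
  exact hin γ b

theorem res_eq_of_mul_eq {b u u' : B} (hb : b ≠ 0) (h : b * u = b * u') :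
    residue B u = residue B u' := by
  rw [← sub_eq_zero, ← map_sub, residue_eq_zero_iff]
  by_contra hne
  have hunit : IsUnit (u - u') := by
    by_contra h'
    exact hne ((mem_maximalIdeal _).2 h')
  apply hb
  have h0 : b * (u - u') = 0 := by rw [mul_sub, h, sub_self]
  exact (hunit.mul_left_eq_zero).1 h0

/-- The character `γ ↦ (γ b / b mod m)`. -/
noncomputable def theta (hst : ∀ (γ : Γ) (b : B), ∃ u : B, γ • b = b * u) (γ : Γ) (b : B) :
    ResidueField B :=
  open Classical in if b = 0 then 1 else residue B (Classical.choose (hst γ b))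

variable (hst : ∀ (γ : Γ) (b : B), ∃ u : B, γ • b = b * u)

theorem theta_spec {γ : Γ} {b u : B} (hb : b ≠ 0) (h : γ • b = b * u) :
    theta hst γ b = residue B u := by
  rw [theta, if_neg hb]
  exact res_eq_of_mul_eq hb ((Classical.choose_spec (hst γ b)).symm.trans h)

theorem theta_zero (γ : Γ) : theta hst γ 0 = 1 := if_pos rfl

theorem theta_one (b : B) : theta hst 1 b = 1 := by
  by_cases hb : b = 0
  · subst hb; exact theta_zero hst 1
  · rw [theta_spec hst hb (u := 1) (by simp), map_one]

variable (hin : ∀ (γ : Γ) (b : B), γ • b - b ∈ maximalIdeal B)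

include hin in
theorem theta_mul (γ δ : Γ) (b : B) :
    theta hst (γ * δ) b = theta hst γ b * theta hst δ b := by
  by_cases hb : b = 0
  · subst hb; simp [theta_zero]
  · obtain ⟨u, hu⟩ := hst γ b
    obtain ⟨v, hv⟩ := hst δ b
    rw [theta_spec hst hb hu, theta_spec hst hb hv,
      theta_spec hst hb (u := u * γ • v) (by rw [mul_smul, hv, smul_mul', hu, mul_assoc]),
      map_mul, res_smul hin]

/-- The family of all characters, as a monoid homomorphism. -/
noncomputable def Theta : Γ →* (B → ResidueField B) where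
  toFun := theta hst
  map_one' := funext (theta_one hst)
  map_mul' γ δ := funext (theta_mul hst hin γ δ)

theorem Theta_apply (γ : Γ) (b : B) : Theta hst hin γ b = theta hst γ b := rfl

theorem mem_S_iff (γ : Γ) :
    (∀ b : B, ∃ x ∈ maximalIdeal B, γ • b = b + b * x) ↔ Theta hst hin γ = 1 := by
  constructor
  · intro h
    funext b
    show theta hst γ b = 1
    by_cases hb : b = 0
    · subst hb; exact theta_zero hst γ
    · obtain ⟨x, hx, hbx⟩ := h b
      rw [theta_spec hst hb (u := 1 + x) (by rw [hbx]; ring), map_add, map_one,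
        (residue_eq_zero_iff x).2 hx, add_zero]
  · intro h b
    by_cases hb : b = 0
    · subst hb; exact ⟨0, zero_mem _, by simp⟩
    · obtain ⟨u, hu⟩ := hst γ b
      have h1 : residue B u = 1 := by
        rw [← theta_spec hst hb hu]; exact congrFun h b
      refine ⟨u - 1, ?_, by rw [hu]; ring⟩
      rw [← residue_eq_zero_iff, map_sub, h1, map_one, sub_self]

theorem fixes_of_torsion (γ : Γ) (hγ : Theta hst hin γ = 1) (n : ℕ) (hn : γ ^ n = 1)
    (hnk : (n : ResidueField B) ≠ 0) (b : B) : γ • b = b := by
  obtain ⟨x, hx, hbx⟩ := (mem_S_iff hst hin γ).2 hγ b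
  have hpow : ∀ i : ℕ, ∃ y ∈ maximalIdeal B, γ ^ i • b = b * (1 + x * (i + y)) := by
    intro i
    induction i with
    | zero => exact ⟨0, zero_mem _, by simp⟩
    | succ i ih =>
      obtain ⟨y, hy, hiy⟩ := ih
      have hγi : Theta hst hin (γ ^ i) = 1 := by rw [map_pow, hγ, one_pow]
      obtain ⟨xi, hxi, hxix⟩ := (mem_S_iff hst hin (γ ^ i)).2 hγi x
      refine ⟨y + xi + x * ((i : B) + y) * (1 + xi), ?_, ?_⟩
      · exact (maximalIdeal B).add_mem ((maximalIdeal B).add_mem hy hxi)
          ((maximalIdeal B).mul_mem_right _ ((maximalIdeal B).mul_mem_right _ hx))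
      · rw [pow_succ, mul_smul, hbx, smul_add, smul_mul', hiy, hxix]
        push_cast; ring
  obtain ⟨y, hy, hny⟩ := hpow n
  rw [hn, one_smul] at hny
  have hunit : IsUnit ((n : B) + y) := by
    by_contra h'
    have hmem : (n : B) + y ∈ maximalIdeal B := (mem_maximalIdeal _).2 h'
    apply hnk
    have h2 : (n : B) ∈ maximalIdeal B := by
      have := (maximalIdeal B).sub_mem hmem hy
      simpa using this
    rw [← map_natCast (residue B)]; exact (residue_eq_zero_iff _).2 h2
  have h0 : b * x * ((n : B) + y) = 0 := by linear_combination (-1 : B) * hny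
  have h1 : b * x = 0 := (hunit.mul_left_eq_zero).1 h0
  rw [hbx, h1, add_zero]

end

/-- Let `B` be a local commutative ring with maximal ideal `m` and residue field `k`, and `Γ` a finite
group acting faithfully on `B` by ring automorphisms, such that every element of `Γ` acts trivially
modulo `m` (the whole group is inertia) and maps each principal ideal of `B` into itself (every
ideal is stable). Let `S ⊆ Γ` be the set of `γ` with `γ b ∈ b + b m` for all `b`. Then: if `k` has
characteristic `0`, `S = {1}`; if `k` has characteristic `p > 0`, `S` is (the underlying set of) a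
Sylow `p`-subgroup; every commutator of `Γ` lies in `S`, so `Γ/S` is abelian; and whenever the class
of `γ` in `Γ/S` has order `n` (`γ^n ∈ S`, no smaller positive power in `S`), `k` contains a
primitive `n`-th root of unity. (The published statement also bounds the number of generators of
`Γ/S` by the number of generators of the monoid of principal ideals; that clause is not included.) -/
theorem result
    (B : Type u) [CommRing B] [IsLocalRing B]
    (Γ : Type v) [Group Γ] [Finite Γ] [MulSemiringAction Γ B] [FaithfulSMul Γ B]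
    (hin : ∀ (γ : Γ) (b : B), γ • b - b ∈ IsLocalRing.maximalIdeal B)
    (hst : ∀ (γ : Γ) (b : B), ∃ u : B, γ • b = b * u)
    (S : Set Γ)
    (hS : ∀ γ : Γ, γ ∈ S ↔ ∀ b : B, ∃ x ∈ IsLocalRing.maximalIdeal B, γ • b = b + b * x) :
    (ringChar (IsLocalRing.ResidueField B) = 0 → S = {1}) ∧
      (∀ (p : ℕ) [Fact p.Prime], ringChar (IsLocalRing.ResidueField B) = p →
        ∃ Q : Sylow p Γ, (Q : Set Γ) = S) ∧
      (∀ γ δ : Γ, γ * δ * γ⁻¹ * δ⁻¹ ∈ S) ∧
      (∀ (γ : Γ) (n : ℕ), 0 < n → γ ^ n ∈ S → (∀ i : ℕ, 0 < i → i < n → γ ^ i ∉ S) →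
        ∃ ζ : IsLocalRing.ResidueField B, IsPrimitiveRoot ζ n) := by
  classical
  open IsLocalRing in
  have hSiff : ∀ γ : Γ, γ ∈ S ↔ Theta hst hin γ = 1 := fun γ => (hS γ).trans (mem_S_iff hst hin γ)
  refine ⟨?_, ?_, ?_, ?_⟩
  · -- characteristic zero
    intro hchar
    ext γ
    simp only [Set.mem_singleton_iff]
    constructor
    · intro hγ
      have hγ' := (hSiff γ).1 hγ
      have hpos : 0 < orderOf γ := orderOf_pos γ
      have hnk : ((orderOf γ : ℕ) : IsLocalRing.ResidueField B) ≠ 0 := by
        rw [Ne, ringChar.spec, hchar, zero_dvd_iff]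
        exact hpos.ne'
      apply eq_of_smul_eq_smul (α := B)
      intro b
      rw [fixes_of_torsion hst hin γ hγ' (orderOf γ) (pow_orderOf_eq_one γ) hnk b, one_smul]
    · rintro rfl
      rw [hSiff, map_one]
  · -- characteristic p
    intro p hp hchar
    have hcharP : CharP (IsLocalRing.ResidueField B) p := ringChar.of_eq hchar
    set N : Subgroup Γ := (Theta hst hin).toHomUnits.ker with hN
    have hNiff : ∀ γ : Γ, γ ∈ N ↔ Theta hst hin γ = 1 := by
      intro γ
      rw [hN, MonoidHom.mem_ker, Units.ext_iff, MonoidHom.coe_toHomUnits, Units.val_one]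
    have hpgroup : IsPGroup p N := by
      intro g
      have hpos : orderOf (g : Γ) ≠ 0 := (orderOf_pos (g : Γ)).ne'
      obtain ⟨e, n', hn', hen⟩ := Nat.exists_eq_pow_mul_and_not_dvd hpos p hp.out.ne_one
      refine ⟨e, Subtype.ext ?_⟩
      rw [Subgroup.coe_pow, Subgroup.coe_one]
      have hγ' : Theta hst hin ((g : Γ) ^ p ^ e) = 1 := by
        rw [map_pow, (hNiff g).1 g.2, one_pow]
      have hpow : ((g : Γ) ^ p ^ e) ^ n' = 1 := by
        rw [← pow_mul, ← hen, pow_orderOf_eq_one]
      have hnk : ((n' : ℕ) : IsLocalRing.ResidueField B) ≠ 0 := by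
        rw [Ne, ringChar.spec, hchar]; exact hn'
      apply eq_of_smul_eq_smul (α := B)
      intro b
      rw [fixes_of_torsion hst hin _ hγ' n' hpow hnk b, one_smul]
    have hindex : ¬ p ∣ N.index := by
      intro hdvd
      rw [Subgroup.index] at hdvd
      obtain ⟨q, hq⟩ := exists_prime_orderOf_dvd_card' p hdvd
      obtain ⟨γ, rfl⟩ := QuotientGroup.mk_surjective q
      have h1 : ((γ : Γ ⧸ N)) ^ p = 1 := by rw [← hq]; exact pow_orderOf_eq_one _
      rw [← QuotientGroup.mk_pow, QuotientGroup.eq_one_iff, hNiff, map_pow] at h1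
      have h2 : Theta hst hin γ = 1 := by
        funext b
        have h3 : (Theta hst hin γ b) ^ p = 1 := by
          have := congrFun h1 b
          simpa using this
        have h4 : (Theta hst hin γ b) ^ p = 1 ^ p := by rw [h3, one_pow]
        exact frobenius_inj (IsLocalRing.ResidueField B) p h4
      have h5 : ((γ : Γ ⧸ N)) = 1 := (QuotientGroup.eq_one_iff γ).2 ((hNiff γ).2 h2)
      rw [h5, orderOf_one] at hq
      exact hp.out.ne_one hq.symm
    refine ⟨hpgroup.toSylow hindex, ?_⟩
    ext γ
    rw [SetLike.mem_coe, IsPGroup.mem_toSylow, hNiff, hSiff]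
  · -- commutators
    intro γ δ
    rw [hSiff]
    calc Theta hst hin (γ * δ * γ⁻¹ * δ⁻¹)
        = Theta hst hin γ * Theta hst hin δ * Theta hst hin γ⁻¹ * Theta hst hin δ⁻¹ := by
          simp only [map_mul]
      _ = (Theta hst hin γ * Theta hst hin γ⁻¹) * (Theta hst hin δ * Theta hst hin δ⁻¹) := by
          ring
      _ = Theta hst hin (γ * γ⁻¹) * Theta hst hin (δ * δ⁻¹) := by simp only [map_mul]
      _ = 1 := by simp
  · -- roots of unity
    intro γ n hn hγn hmin
    have : NeZero n := ⟨hn.ne'⟩
    rw [← card_rootsOfUnity_eq_iff_exists_isPrimitiveRoot]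
    set d := Nat.card (rootsOfUnity n (IsLocalRing.ResidueField B)) with hd
    have hdle : d ≤ n := card_rootsOfUnity _ n
    have hdpos : 0 < d := Nat.card_pos
    have hγd : γ ^ d ∈ S := by
      rw [hSiff, map_pow]
      funext b
      set t := Theta hst hin γ b with ht
      have htn : t ^ n = 1 := by
        have h1 := (hSiff _).1 hγn
        rw [map_pow] at h1
        have := congrFun h1 b
        simpa using this
      have ht0 : t ≠ 0 := by
        intro h0
        rw [h0, zero_pow hn.ne'] at htn
        exact zero_ne_one htn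
      have hmem : Units.mk0 t ht0 ∈ rootsOfUnity n (IsLocalRing.ResidueField B) := by
        rw [mem_rootsOfUnity]
        exact Units.ext (by simpa using htn)
      have h2 : (⟨Units.mk0 t ht0, hmem⟩ : rootsOfUnity n (IsLocalRing.ResidueField B)) ^ d = 1 :=
        pow_card_eq_one'
      have h3 := congrArg (fun z : rootsOfUnity n (IsLocalRing.ResidueField B) =>
        ((z : (IsLocalRing.ResidueField B)ˣ) : IsLocalRing.ResidueField B)) h2
      simpa using h3
    rcases lt_or_eq_of_le hdle with hlt | heq
    · exact absurd hγd (hmin d hdpos hlt)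
    · exact heq

end Groth.Agent.S12934
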