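import Groth.Statements.S12935
import Mathlib
-- import your own Groth.Agent.* helpers here

set_option autoImplicit false
universe u v
open InvTh

namespace Groth.Agent.S12935

open scoped Pointwise

section
variable {B : Type u} [CommRing B] {Γ : Type v} [Group Γ] [Finite Γ] [MulSemiringAction Γ B]
  (Ω : Subgroup Γ)

instance smulComm : SMulCommClass Ω (FixedPoints.subring B Ω) B where
  smul_comm ω a b := by
    show ω • ((a : B) * b) = (a : B) * ω • b
    rw [smul_mul', a.2 ω]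

instance isInv : Algebra.IsInvariant (FixedPoints.subring B Ω) B Ω where
  isInvariant b hb := ⟨⟨b, fun ω => hb ω⟩, rfl⟩

theorem key1 (P : Ideal B) [P.IsPrime] (γ : Γ)
    (h : ∀ x : B, (∀ ω ∈ Ω, ω • x = x) → (x ∈ P ↔ γ • x ∈ P)) :
    ∃ ω ∈ Ω, ∀ x : B, x ∈ P ↔ (γ * ω) • x ∈ P := by
  set A : Subring B := FixedPoints.subring B Ω with hA
  set P' : Ideal B := P.comap (MulSemiringAction.toRingHom Γ B γ) with hP'
  have hP'prime : P'.IsPrime := Ideal.comap_isPrime _ _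
  have hund : P.under A = P'.under A := by
    ext a
    simp only [Ideal.under_def, Ideal.mem_comap, hP']
    exact h a.1 (fun ω hω => a.2 ⟨ω, hω⟩)
  obtain ⟨ω, hω⟩ := Algebra.IsInvariant.exists_smul_of_under_eq A B Ω P P' hund
  refine ⟨ω.1, ω.2, fun x => ?_⟩
  rw [mul_smul]
  have h1 : (ω : Γ) • x ∈ P' ↔ γ • (ω : Γ) • x ∈ P := Ideal.mem_comap
  rw [← h1, hω]
  exact (Ideal.smul_mem_pointwise_smul_iff (a := ω) (S := P) (x := x)).symm

theorem key2 (P : Ideal B) [P.IsPrime] (γ : Γ)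
    (hstab : ∀ x : B, x ∈ P ↔ γ • x ∈ P)
    (h : ∀ x : B, (∀ ω ∈ Ω, ω • x = x) → γ • x - x ∈ P) :
    ∃ ω ∈ Ω, ∀ x : B, (γ * ω) • x - x ∈ P := by
  set A : Subring B := FixedPoints.subring B Ω with hA
  set p : Ideal A := P.under A with hp
  have hlies : P.LiesOver p := ⟨rfl⟩
  let e : B ≃+* B := MulSemiringAction.toRingEquiv Γ B γ
  have hPe : P = P.map (e : B →+* B) := by
    rw [Ideal.map_comap_of_equiv]
    ext x
    rw [Ideal.mem_comap]
    have h1 := hstab (γ⁻¹ • x)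
    rw [smul_inv_smul] at h1
    exact h1.symm
  let σ₀ : (B ⧸ P) ≃+* (B ⧸ P) := Ideal.quotientEquiv P P e hPe
  have hσ₀ : ∀ b : B, σ₀ (Ideal.Quotient.mk P b) = Ideal.Quotient.mk P (γ • b) := fun b => rfl
  let σ : (B ⧸ P) ≃ₐ[A ⧸ p] (B ⧸ P) := AlgEquiv.ofRingEquiv (f := σ₀) (by
    intro r
    obtain ⟨a, rfl⟩ := Ideal.Quotient.mk_surjective r
    rw [Ideal.Quotient.algebraMap_mk_of_liesOver, hσ₀, Ideal.Quotient.eq]
    exact h a.1 (fun ω hω => a.2 ⟨ω, hω⟩))
  obtain ⟨g, hg⟩ := Ideal.Quotient.stabilizerHom_surjective Ω p P σ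
  refine ⟨((g.1⁻¹ : Ω) : Γ), (g.1⁻¹).2, fun x => ?_⟩
  have h2 := congrArg (fun τ => τ (Ideal.Quotient.mk P (((g.1⁻¹ : Ω) : Γ) • x))) hg
  simp only [Ideal.Quotient.stabilizerHom_apply] at h2
  have h3 : σ (Ideal.Quotient.mk P (((g.1⁻¹ : Ω) : Γ) • x))
      = Ideal.Quotient.mk P (γ • (((g.1⁻¹ : Ω) : Γ) • x)) := rfl
  rw [h3] at h2
  rw [mul_smul, ← Ideal.Quotient.eq, ← h2]
  congr 1
  show (g.1 : Γ) • (((g.1⁻¹ : Ω) : Γ) • x) = x
  rw [Subgroup.coe_inv, smul_inv_smul]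

end

/-- Let `B` be a commutative ring with an action of a finite group `Γ` by ring automorphisms, `Ω` a
normal subgroup of `Γ`, `B^Ω` the subring of `Ω`-invariants (stable under `Γ`, with the induced
action of `Γ/Ω`), and `P` a prime ideal of `B`. Then (decomposition groups) an element `γ` maps `P ∩
B^Ω` onto itself if and only if `γω` maps `P` onto itself for some `ω ∈ Ω`; and (inertia groups) `γ`
fixes `B^Ω` modulo `P ∩ B^Ω` if and only if `γω` fixes `B` modulo `P` for some `ω ∈ Ω`. In other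
words the decomposition and inertia groups of `P ∩ B^Ω` under `Γ/Ω` are the images of those of `P`.
(The published statement also asserts the same for the ramification groups, the Sylow subgroups of
the inertia groups at the residue characteristic; that clause is not included here.) -/
theorem result
    (B : Type u) [CommRing B] (Γ : Type v) [Group Γ] [Finite Γ] [MulSemiringAction Γ B]
    (Ω : Subgroup Γ) [Ω.Normal] (P : Ideal B) [P.IsPrime] (γ : Γ) :
    ((∀ x : B, (∀ ω ∈ Ω, ω • x = x) → (x ∈ P ↔ γ • x ∈ P)) ↔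
        ∃ ω ∈ Ω, ∀ x : B, x ∈ P ↔ (γ * ω) • x ∈ P) ∧
      ((∀ x : B, (∀ ω ∈ Ω, ω • x = x) → γ • x - x ∈ P) ↔
        ∃ ω ∈ Ω, ∀ x : B, (γ * ω) • x - x ∈ P) := by
  refine ⟨⟨key1 Ω P γ, ?_⟩, ?_, ?_⟩
  · rintro ⟨ω, hω, h⟩ x hx
    have := h x
    rwa [mul_smul, hx ω hω] at this
  · intro h
    have h0 : ∀ x : B, (∀ ω ∈ Ω, ω • x = x) → (x ∈ P ↔ γ • x ∈ P) := by
      intro x hx
      have h1 := h x hx
      constructor
      · intro hxP
        have : γ • x = (γ • x - x) + x := by ring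
        rw [this]; exact P.add_mem h1 hxP
      · intro hxP
        have : x = γ • x - (γ • x - x) := by ring
        rw [this]; exact P.sub_mem hxP h1
    obtain ⟨ω₁, hω₁, hst⟩ := key1 Ω P γ h0
    obtain ⟨ω₂, hω₂, hfin⟩ := key2 Ω P (γ * ω₁) hst (by
      intro x hx
      rw [mul_smul, hx ω₁ hω₁]
      exact h x hx)
    refine ⟨ω₁ * ω₂, Ω.mul_mem hω₁ hω₂, fun x => ?_⟩
    rw [← mul_assoc]
    exact hfin x
  · rintro ⟨ω, hω, h⟩ x hx
    have := h x
    rwa [mul_smul, hx ω hω] at this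

end Groth.Agent.S12935
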