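import Groth.Statements.S12936
import Mathlib
-- import your own Groth.Agent.* helpers here

set_option autoImplicit false
universe u v
open InvTh

namespace Groth.Agent.S12936

section
variable {B : Type u} [CommRing B] {Γ : Type v} [Group Γ] [MulSemiringAction Γ B]

/-- The decomposition group of an ideal. -/
def decomp (P : Ideal B) : Subgroup Γ where
  carrier := {γ | ∀ y : B, y ∈ P ↔ γ • y ∈ P}
  one_mem' := by intro y; simp
  mul_mem' := by
    intro a b ha hb y
    rw [mul_smul]; exact (hb y).trans (ha _)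
  inv_mem' := by
    intro a ha y
    have := ha (a⁻¹ • y)
    rw [smul_inv_smul] at this
    exact this.symm

theorem mem_decomp (P : Ideal B) (γ : Γ) :
    γ ∈ decomp (Γ := Γ) P ↔ ∀ y : B, y ∈ P ↔ γ • y ∈ P := Iff.rfl

/-- An element congruent to `1` modulo `P` all of whose translates by elements outside the
decomposition group lie in `P`. -/
theorem exists_u [Finite Γ] (P : Ideal B) [hP : P.IsMaximal] :
    ∃ u : B, u - 1 ∈ P ∧ ∀ σ : Γ, σ ∉ decomp (Γ := Γ) P → σ • u ∈ P := by
  classical
  have key : ∀ σ : Γ, σ ∉ decomp (Γ := Γ) P → ∃ t : B, σ • t ∈ P ∧ t ∉ P := by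
    intro σ hσ
    by_contra hcon
    push Not at hcon
    apply hσ
    have hmax : (P.comap (MulSemiringAction.toRingHom Γ B σ)).IsMaximal :=
      Ideal.comap_isMaximal_of_surjective _ (fun y => ⟨σ⁻¹ • y, by simp⟩)
    have hle : P.comap (MulSemiringAction.toRingHom Γ B σ) ≤ P := fun t ht => hcon t ht
    have heq := hmax.eq_of_le hP.ne_top hle
    intro y
    have h1 : y ∈ P.comap (MulSemiringAction.toRingHom Γ B σ) ↔ y ∈ P := by rw [heq]
    exact h1.symm.trans Ideal.mem_comap
  choose! t ht1 ht2 using key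
  have := Fintype.ofFinite Γ
  set T : B := ∏ σ ∈ Finset.univ.filter (fun σ : Γ => σ ∉ decomp (Γ := Γ) P), t σ with hT
  have hTP : T ∉ P := by
    rw [hT, Ideal.IsPrime.prod_mem_iff]
    rintro ⟨σ, hσ, hσ'⟩
    exact ht2 σ (Finset.mem_filter.1 hσ).2 hσ'
  have hTσ : ∀ σ : Γ, σ ∉ decomp (Γ := Γ) P → σ • T ∈ P := by
    intro σ hσ
    have : T ∈ P.comap (MulSemiringAction.toRingHom Γ B σ) :=
      Ideal.prod_mem _ (i := σ) (Finset.mem_filter.2 ⟨Finset.mem_univ _, hσ⟩)
        (by rw [Ideal.mem_comap]; exact ht1 σ hσ)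
    exact this
  obtain ⟨s, i, hi, hsi⟩ := hP.exists_inv hTP
  refine ⟨s * T, ?_, ?_⟩
  · have : s * T - 1 = -i := by rw [← hsi]; ring
    rw [this]; exact P.neg_mem hi
  · intro σ hσ
    rw [smul_mul']
    exact P.mul_mem_left _ (hTσ σ hσ)

/-- The function on left cosets of `D` defined by a `D`-invariant element. -/
def cosetFun (D : Subgroup Γ) (w : B) (hw : ∀ δ ∈ D, δ • w = w) : Γ ⧸ D → B :=
  fun q => Quotient.liftOn' q (fun σ => σ • w) (by
    intro a b hab
    rw [QuotientGroup.leftRel_apply] at hab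
    have : b • w = a • ((a⁻¹ * b) • w) := by rw [← mul_smul, mul_inv_cancel_left]
    show a • w = b • w
    rw [this, hw _ hab])

theorem cosetFun_mk (D : Subgroup Γ) (w : B) (hw : ∀ δ ∈ D, δ • w = w) (σ : Γ) :
    cosetFun D w hw (QuotientGroup.mk σ) = σ • w := rfl

theorem smul_cosetFun (D : Subgroup Γ) (w : B) (hw : ∀ δ ∈ D, δ • w = w) (γ : Γ) (q : Γ ⧸ D) :
    γ • cosetFun D w hw q = cosetFun D w hw (γ • q) := by
  induction q using Quotient.inductionOn' with
  | h σ =>
    show γ • cosetFun D w hw (QuotientGroup.mk σ) = cosetFun D w hw (γ • (QuotientGroup.mk σ : Γ ⧸ D))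
    rw [MulAction.Quotient.smul_mk, cosetFun_mk, cosetFun_mk, smul_eq_mul, mul_smul]

end

/-- Let `B` be a commutative ring with an action of a finite group `Γ` by ring automorphisms and `P` a
maximal ideal of `B`, with decomposition group `D_P = {γ | γP = P}` and decomposition ring `D =
B^{D_P}`. Then `D = B^Γ + (P ∩ D)`: every element of `B` fixed by `D_P` is congruent modulo `P` to a
`Γ`-invariant element. Hence the residue field of `D` at `P ∩ D` is that of `B^Γ` at `P ∩ B^Γ`; for
an arbitrary prime `P` the same equality of residue fields follows by localising at `P ∩ B^Γ`. (The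
published statement prints this residue field as `k(P)`; the proof establishes the equality with the
residue field of `B^Γ` stated here.) -/
theorem result
    (B : Type u) [CommRing B] (Γ : Type v) [Group Γ] [Finite Γ] [MulSemiringAction Γ B]
    (P : Ideal B) [P.IsMaximal] (x : B)
    (hx : ∀ γ : Γ, (∀ y : B, y ∈ P ↔ γ • y ∈ P) → γ • x = x) :
    ∃ c : B, (∀ γ : Γ, γ • c = c) ∧ x - c ∈ P := by
  classical
  set D : Subgroup Γ := decomp (Γ := Γ) P with hD
  obtain ⟨u, hu1, hu2⟩ := exists_u (Γ := Γ) P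
  have := Fintype.ofFinite Γ
  have := Fintype.ofFinite D
  have := Fintype.ofFinite (Γ ⧸ D)
  -- the `D`-invariant idempotent-like element
  set e : B := ∏ δ : D, (δ : Γ) • u with he
  have heD : ∀ δ ∈ D, δ • e = e := by
    intro δ hδ
    rw [he, Finset.smul_prod']
    refine Fintype.prod_equiv (Equiv.mulLeft (⟨δ, hδ⟩ : D)) _ _ ?_
    intro δ'
    simp [mul_smul]
  have he1 : e - 1 ∈ P := by
    rw [← Ideal.Quotient.eq, map_one, he, map_prod]
    refine Finset.prod_eq_one ?_
    intro δ _
    rw [← map_one (Ideal.Quotient.mk P), Ideal.Quotient.eq]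
    have : (δ : Γ) • u - 1 = (δ : Γ) • (u - 1) := by rw [smul_sub, smul_one]
    rw [this]
    exact (δ.2 _).1 hu1
  have heσ : ∀ σ : Γ, σ ∉ D → σ • e ∈ P := by
    intro σ hσ
    rw [he, Finset.smul_prod']
    refine Ideal.prod_mem _ (i := (1 : D)) (Finset.mem_univ _) ?_
    simpa using hu2 σ hσ
  set w : B := e * x with hw
  have hwD : ∀ δ ∈ D, δ • w = w := by
    intro δ hδ
    rw [hw, smul_mul', heD δ hδ, hx δ hδ]
  have hwx : w - x ∈ P := by
    have : w - x = (e - 1) * x := by rw [hw]; ring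
    rw [this]; exact P.mul_mem_right _ he1
  have hwσ : ∀ σ : Γ, σ ∉ D → σ • w ∈ P := by
    intro σ hσ
    rw [hw, smul_mul']
    exact P.mul_mem_right _ (heσ σ hσ)
  refine ⟨∑ q : Γ ⧸ D, cosetFun D w hwD q, ?_, ?_⟩
  · intro γ
    rw [Finset.smul_sum]
    simp_rw [smul_cosetFun]
    exact Fintype.sum_equiv (MulAction.toPerm γ) _ _ (fun q => rfl)
  · have hsum : (∑ q : Γ ⧸ D, cosetFun D w hwD q) - w ∈ P := by
      rw [← Ideal.Quotient.eq, map_sum]
      rw [Finset.sum_eq_single (QuotientGroup.mk 1 : Γ ⧸ D)]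
      · rw [cosetFun_mk, one_smul]
      · intro q _ hq
        induction q using Quotient.inductionOn' with
        | h σ =>
          show Ideal.Quotient.mk P (cosetFun D w hwD (QuotientGroup.mk σ)) = 0
          rw [cosetFun_mk, Ideal.Quotient.eq_zero_iff_mem]
          apply hwσ
          intro hσ
          apply hq
          show (QuotientGroup.mk σ : Γ ⧸ D) = QuotientGroup.mk 1
          rw [QuotientGroup.eq]
          simpa using D.inv_mem hσ
      · intro h; exact absurd (Finset.mem_univ _) h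
    have : x - ∑ q : Γ ⧸ D, cosetFun D w hwD q
        = -((∑ q : Γ ⧸ D, cosetFun D w hwD q) - w) - (w - x) := by ring
    rw [this]
    exact P.sub_mem (P.neg_mem hsum) hwx

end Groth.Agent.S12936
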