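import Groth.Statements.S12937
import Groth.Agent.S12935
import Groth.Agent.S12936
-- import your own Groth.Agent.* helpers here

set_option autoImplicit false
universe u v
open InvTh

namespace Groth.Agent.S12937

open Polynomial
open scoped Pointwise
open Groth.Agent.S12936 (decomp cosetFun cosetFun_mk smul_cosetFun)

section
variable {B : Type u} [CommRing B] {Γ : Type v} [Group Γ] [Finite Γ] [MulSemiringAction Γ B]

attribute [local instance] Groth.Agent.S12935.smulComm Groth.Agent.S12935.isInv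

/-- Separable over the invariants implies congruent to an inertia-invariant element. -/
theorem backward (P : Ideal B) [hP : P.IsMaximal] (x : B)
    (g : Polynomial B) (hg : ∀ (i : ℕ) (γ : Γ), γ • g.coeff i = g.coeff i)
    (hsep : (g.map (Ideal.Quotient.mk P)).Separable) (hroot : Polynomial.aeval x g ∈ P) :
    ∃ y : B, (∀ γ : Γ, γ ∈ P.inertia Γ → γ • y = y) ∧ x - y ∈ P := by
  classical
  set T : Subgroup Γ := P.inertia Γ with hT
  set A : Subring B := FixedPoints.subring B T with hA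
  have hint : Algebra.IsIntegral A B := Algebra.IsInvariant.isIntegral A B T
  set p : Ideal A := P.under A with hp
  have hpmax : p.IsMaximal := Ideal.isMaximal_comap_of_isIntegral_of_isMaximal P
  have hlies : P.LiesOver p := ⟨rfl⟩
  let _ : Field (A ⧸ p) := Ideal.Quotient.field p
  let _ : Field (B ⧸ P) := Ideal.Quotient.field P
  set xb : B ⧸ P := Ideal.Quotient.mk P x with hxb
  have hcomp : (algebraMap (A ⧸ p) (B ⧸ P)).comp (Ideal.Quotient.mk p)
      = (Ideal.Quotient.mk P).comp (algebraMap A B) := rfl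
  have := Fintype.ofFinite T
  obtain ⟨c₀, hc₀, -, hc₀monic⟩ := Polynomial.lifts_and_natDegree_eq_and_monic
    (Algebra.IsInvariant.charpoly_mem_lifts A B T x) (MulSemiringAction.monic_charpoly T x)
  have hc₁ : (c₀.map (Ideal.Quotient.mk p)).map (algebraMap (A ⧸ p) (B ⧸ P))
      = (X - C xb) ^ (Fintype.card T) := by
    rw [Polynomial.map_map, hcomp, ← Polynomial.map_map, hc₀, MulSemiringAction.charpoly_eq,
      Polynomial.map_prod]
    rw [Finset.prod_eq_pow_card (b := X - C xb)]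
    · rfl
    · intro τ _
      rw [Polynomial.map_sub, Polynomial.map_X, Polynomial.map_C]
      congr 2
      exact Ideal.Quotient.eq.2 (τ.2 x)
  obtain ⟨g₁, hg₁⟩ : g ∈ Polynomial.lifts (algebraMap A B) := by
    rw [Polynomial.lifts_iff_coeff_lifts]
    intro n
    exact ⟨⟨g.coeff n, fun τ => hg n τ⟩, rfl⟩
  replace hg₁ : g₁.map (algebraMap A B) = g := hg₁
  have hg₂ : (g₁.map (Ideal.Quotient.mk p)).map (algebraMap (A ⧸ p) (B ⧸ P))
      = g.map (Ideal.Quotient.mk P) := by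
    rw [Polynomial.map_map, hcomp, ← Polynomial.map_map, hg₁]
  have hsep₁ : (g₁.map (Ideal.Quotient.mk p)).Separable := by
    rw [← Polynomial.separable_map (algebraMap (A ⧸ p) (B ⧸ P)), hg₂]; exact hsep
  have hroot₁ : Polynomial.aeval xb (g₁.map (Ideal.Quotient.mk p)) = 0 := by
    rw [Polynomial.aeval_def, Polynomial.eval₂_eq_eval_map, hg₂, hxb, Polynomial.eval_map,
      Polynomial.eval₂_hom]
    exact Ideal.Quotient.eq_zero_iff_mem.2 (by simpa [Polynomial.aeval_def] using hroot)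
  have hcard : Fintype.card T ≠ 0 := Fintype.card_ne_zero
  have hroot₂ : Polynomial.aeval xb (c₀.map (Ideal.Quotient.mk p)) = 0 := by
    rw [Polynomial.aeval_def, Polynomial.eval₂_eq_eval_map, hc₁]
    simp [hcard]
  have hintx : IsIntegral (A ⧸ p) xb := ⟨_, hc₀monic.map _, hroot₂⟩
  set m := minpoly (A ⧸ p) xb with hm
  have hm1 : m ∣ g₁.map (Ideal.Quotient.mk p) := minpoly.dvd _ _ hroot₁
  have hm2 : m ∣ c₀.map (Ideal.Quotient.mk p) := minpoly.dvd _ _ hroot₂
  have hmsep : (m.map (algebraMap (A ⧸ p) (B ⧸ P))).Separable := (hsep₁.of_dvd hm1).map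
  have hmdvd : m.map (algebraMap (A ⧸ p) (B ⧸ P)) ∣ (X - C xb) ^ (Fintype.card T) := by
    rw [← hc₁]; exact Polynomial.map_dvd _ hm2
  have hmmonic : (m.map (algebraMap (A ⧸ p) (B ⧸ P))).Monic := (minpoly.monic hintx).map _
  obtain ⟨i, -, hi⟩ := (dvd_prime_pow (Polynomial.prime_X_sub_C xb) _).1 hmdvd
  have hmeq : m.map (algebraMap (A ⧸ p) (B ⧸ P)) = (X - C xb) ^ i :=
    Polynomial.eq_of_monic_of_associated hmmonic ((Polynomial.monic_X_sub_C xb).pow i) hi
  have hdeg : (m.map (algebraMap (A ⧸ p) (B ⧸ P))).natDegree = m.natDegree :=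
    Polynomial.natDegree_map _
  have hi0 : i ≠ 0 := by
    rintro rfl
    rw [pow_zero] at hmeq
    rw [hmeq, Polynomial.natDegree_one] at hdeg
    exact (minpoly.natDegree_pos hintx).ne hdeg
  have hi1 : i = 1 := by
    rw [hmeq] at hmsep
    exact (Polynomial.Separable.of_pow (Polynomial.not_isUnit_X_sub_C xb) hi0 hmsep).2
  have hdeg1 : m.natDegree = 1 := by
    rw [← hdeg, hmeq, hi1, pow_one, Polynomial.natDegree_X_sub_C]
  obtain ⟨k, hk⟩ := (minpoly.natDegree_eq_one_iff).1 hdeg1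
  obtain ⟨a, rfl⟩ := Ideal.Quotient.mk_surjective k
  refine ⟨a.1, fun γ hγ => a.2 ⟨γ, hγ⟩, ?_⟩
  rw [← Ideal.Quotient.eq]
  exact hk.symm

end

section forward
variable {B : Type u} [CommRing B] {Γ : Type v} [Group Γ] [Finite Γ] [MulSemiringAction Γ B]
variable (P : Ideal B)

attribute [local instance] Groth.Agent.S12935.smulComm Groth.Agent.S12935.isInv

/-- decomposition group -/
abbrev Dg : Subgroup Γ := decomp (Γ := Γ) P

/-- inertia group inside the decomposition group -/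
abbrev Tg : Subgroup (Dg (Γ := Γ) P) := P.inertia (Dg (Γ := Γ) P)

theorem mem_Tg (τ : Dg (Γ := Γ) P) : τ ∈ Tg (Γ := Γ) P ↔ ∀ x : B, (τ : Γ) • x - x ∈ P := Iff.rfl

theorem Dg_mem (δ : Dg (Γ := Γ) P) (x : B) : x ∈ P ↔ (δ : Γ) • x ∈ P := δ.2 x

instance Tg_normal : (Tg (Γ := Γ) P).Normal := ⟨fun τ hτ δ => by
  rw [mem_Tg] at hτ ⊢
  intro x
  have h1 := hτ ((δ⁻¹ : Dg (Γ := Γ) P) • x)
  have h2 := (Dg_mem P δ _).1 h1
  have : (δ : Γ) • ((τ : Γ) • (δ⁻¹ : Dg (Γ := Γ) P) • x - (δ⁻¹ : Dg (Γ := Γ) P) • x)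
      = ((δ * τ * δ⁻¹ : Dg (Γ := Γ) P) : Γ) • x - x := by
    rw [smul_sub]
    simp only [Subgroup.smul_def, Subgroup.coe_mul, Subgroup.coe_inv, mul_smul, smul_inv_smul]
  rw [← this]
  exact h2⟩

variable [hP : P.IsMaximal]

theorem trivial_inertia (δ : Dg (Γ := Γ) P)
    (h : ∀ x : B, (∀ ω ∈ Tg (Γ := Γ) P, ω • x = x) → δ • x - x ∈ P) : δ ∈ Tg (Γ := Γ) P := by
  obtain ⟨ω, hω, h'⟩ := (Groth.Agent.S12935.result B (Dg (Γ := Γ) P) (Tg (Γ := Γ) P) P δ).2.1 h
  have h1 : δ * ω ∈ Tg (Γ := Γ) P := (mem_Tg P _).2 (fun x => h' x)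
  have : δ = (δ * ω) * ω⁻¹ := by group
  rw [this]
  exact (Tg (Γ := Γ) P).mul_mem h1 ((Tg (Γ := Γ) P).inv_mem hω)

/-- The ring of inertia invariants (inside the decomposition group). -/
abbrev Bt : Subring B := FixedPoints.subring B (Tg (Γ := Γ) P)

theorem Bt_inv (b : Bt (Γ := Γ) P) : ∀ τ ∈ Tg (Γ := Γ) P, τ • (b : B) = b :=
  fun τ hτ => b.2 ⟨τ, hτ⟩

/-- The characters `B^T → B/P` indexed by the cosets of `T` in `D`. -/
noncomputable def chi (q : Dg (Γ := Γ) P ⧸ Tg (Γ := Γ) P) : Bt (Γ := Γ) P →* (B ⧸ P) where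
  toFun b := Ideal.Quotient.mk P (cosetFun (Tg (Γ := Γ) P) (b : B) (Bt_inv P b) q)
  map_one' := by
    induction q using Quotient.inductionOn' with
    | h δ =>
      show Ideal.Quotient.mk P (cosetFun (Tg (Γ := Γ) P) _ _ (QuotientGroup.mk δ)) = 1
      rw [cosetFun_mk]
      simp
  map_mul' b b' := by
    induction q using Quotient.inductionOn' with
    | h δ =>
      show Ideal.Quotient.mk P (cosetFun (Tg (Γ := Γ) P) _ _ (QuotientGroup.mk δ))
        = Ideal.Quotient.mk P (cosetFun (Tg (Γ := Γ) P) _ _ (QuotientGroup.mk δ))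
          * Ideal.Quotient.mk P (cosetFun (Tg (Γ := Γ) P) _ _ (QuotientGroup.mk δ))
      rw [cosetFun_mk, cosetFun_mk, cosetFun_mk, ← map_mul]
      simp [smul_mul']

theorem chi_mk (δ : Dg (Γ := Γ) P) (b : Bt (Γ := Γ) P) :
    chi P (QuotientGroup.mk δ) b = Ideal.Quotient.mk P (δ • (b : B)) := rfl

theorem chi_injective : Function.Injective (chi (Γ := Γ) P) := by
  intro q q' h
  induction q using Quotient.inductionOn' with
  | h δ =>
  induction q' using Quotient.inductionOn' with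
  | h δ' =>
    show (QuotientGroup.mk δ : Dg (Γ := Γ) P ⧸ Tg (Γ := Γ) P) = QuotientGroup.mk δ'
    rw [QuotientGroup.eq]
    apply trivial_inertia
    intro x hx
    have h1 := DFunLike.congr_fun h (⟨x, fun τ => hx τ.1 τ.2⟩ : Bt (Γ := Γ) P)
    change chi P (QuotientGroup.mk δ) _ = chi P (QuotientGroup.mk δ') _ at h1
    rw [chi_mk, chi_mk, Ideal.Quotient.eq] at h1
    have h2 : δ' • x - δ • x ∈ P := by
      have := P.neg_mem h1
      rwa [neg_sub] at this
    have h3 := (Dg_mem P (δ⁻¹) _).1 h2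
    have : ((δ⁻¹ : Dg (Γ := Γ) P) : Γ) • (δ' • x - δ • x) = (δ⁻¹ * δ') • x - x := by
      rw [smul_sub]
      simp only [Subgroup.smul_def, Subgroup.coe_inv, mul_smul, inv_smul_smul]
    rw [← this]
    exact h3

/-- Dedekind: some element of `B^T` has nonzero "trace" modulo `P`. -/
theorem exists_trace_ne_zero :
    ∃ a : Bt (Γ := Γ) P, ∀ [Fintype (Dg (Γ := Γ) P ⧸ Tg (Γ := Γ) P)],
      ∑ q : Dg (Γ := Γ) P ⧸ Tg (Γ := Γ) P, chi P q a ≠ 0 := by
  classical
  have := Fintype.ofFinite (Dg (Γ := Γ) P ⧸ Tg (Γ := Γ) P)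
  let _ : Field (B ⧸ P) := Ideal.Quotient.field P
  by_contra hcon
  push Not at hcon
  have hli : LinearIndependent (B ⧸ P)
      (fun q : Dg (Γ := Γ) P ⧸ Tg (Γ := Γ) P => (chi P q : Bt (Γ := Γ) P → B ⧸ P)) :=
    (linearIndependent_monoidHom (Bt (Γ := Γ) P) (B ⧸ P)).comp _ (chi_injective (Γ := Γ) P)
  have h0 : ∑ q : Dg (Γ := Γ) P ⧸ Tg (Γ := Γ) P,
      (fun _ => (1 : B ⧸ P)) q • (chi P q : Bt (Γ := Γ) P → B ⧸ P) = 0 := by
    funext a
    obtain ⟨inst, ha⟩ := hcon a
    rw [Finset.sum_apply]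
    simp only [one_smul, Pi.zero_apply]
    convert ha
  have := Fintype.linearIndependent_iff.1 hli (fun _ => 1) h0 (QuotientGroup.mk 1)
  exact one_ne_zero this

/-- Lemma A: an inertia-invariant element fixed modulo `P` by the decomposition group is congruent
to a `Γ`-invariant element. -/
theorem lemmaA (z : B) (hz : ∀ τ ∈ Tg (Γ := Γ) P, τ • z = z)
    (hzD : ∀ δ : Dg (Γ := Γ) P, δ • z - z ∈ P) :
    ∃ c : B, (∀ γ : Γ, γ • c = c) ∧ z - c ∈ P := by
  classical
  have := Fintype.ofFinite (Dg (Γ := Γ) P ⧸ Tg (Γ := Γ) P)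
  obtain ⟨a, ha⟩ := exists_trace_ne_zero (Γ := Γ) P
  have ha' := @ha this
  set s : B := ∑ q, cosetFun (Tg (Γ := Γ) P) (a : B) (Bt_inv P a) q with hs
  have hsD : ∀ δ : Dg (Γ := Γ) P, δ • s = s := by
    intro δ
    rw [hs, Finset.smul_sum]
    simp_rw [smul_cosetFun]
    exact Fintype.sum_equiv (MulAction.toPerm δ) _ _ (fun q => rfl)
  have hsP : s ∉ P := by
    intro hsP
    apply ha'
    rw [← Ideal.Quotient.eq_zero_iff_mem, hs, map_sum] at hsP
    exact hsP
  set A : Subring B := FixedPoints.subring B (Dg (Γ := Γ) P) with hA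
  have hint : Algebra.IsIntegral A B := Algebra.IsInvariant.isIntegral A B (Dg (Γ := Γ) P)
  have hpmax : (P.under A).IsMaximal := Ideal.isMaximal_comap_of_isIntegral_of_isMaximal P
  have hsA : (⟨s, hsD⟩ : A) ∉ P.under A := fun h => hsP h
  obtain ⟨s', i, hi, hsi⟩ := hpmax.exists_inv hsA
  have hsi' : (s' : B) * s - 1 ∈ P := by
    have h1 : (s' : B) * s + (i : B) = 1 := congrArg Subtype.val hsi
    have h2 : (s' : B) * s - 1 = -(i : B) := by rw [← h1]; ring
    rw [h2]; exact P.neg_mem hi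
  have haz : ∀ τ ∈ Tg (Γ := Γ) P, τ • ((a : B) * z) = (a : B) * z := by
    intro τ hτ; rw [smul_mul', Bt_inv P a τ hτ, hz τ hτ]
  set w : B := (s' : B) * ∑ q, cosetFun (Tg (Γ := Γ) P) ((a : B) * z) haz q with hw
  have hwD : ∀ δ : Dg (Γ := Γ) P, δ • w = w := by
    intro δ
    rw [hw, smul_mul', s'.2 δ, Finset.smul_sum]
    simp_rw [smul_cosetFun]
    congr 1
    exact Fintype.sum_equiv (MulAction.toPerm δ) _ _ (fun q => rfl)
  have hwz : w - z ∈ P := by
    rw [← Ideal.Quotient.eq, hw, map_mul, map_sum]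
    have key : ∀ q, Ideal.Quotient.mk P (cosetFun (Tg (Γ := Γ) P) ((a : B) * z) haz q)
        = Ideal.Quotient.mk P (cosetFun (Tg (Γ := Γ) P) (a : B) (Bt_inv P a) q)
          * Ideal.Quotient.mk P z := by
      intro q
      induction q using Quotient.inductionOn' with
      | h δ =>
        show Ideal.Quotient.mk P (cosetFun _ _ _ (QuotientGroup.mk δ))
          = Ideal.Quotient.mk P (cosetFun _ _ _ (QuotientGroup.mk δ)) * _
        rw [cosetFun_mk, cosetFun_mk, smul_mul', map_mul]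
        congr 1
        exact Ideal.Quotient.eq.2 (hzD δ)
    simp_rw [key]
    rw [← Finset.sum_mul, ← map_sum, ← hs, ← mul_assoc, ← map_mul]
    have h1 : Ideal.Quotient.mk P ((s' : B) * s) = 1 := by
      rw [← map_one (Ideal.Quotient.mk P), Ideal.Quotient.eq]; exact hsi'
    rw [h1, one_mul]
  obtain ⟨c, hc, hwc⟩ := Groth.Agent.S12936.result B Γ P w (fun γ hγ => hwD ⟨γ, hγ⟩)
  refine ⟨c, hc, ?_⟩
  have h3 : z - c = (w - c) - (w - z) := by ring
  rw [h3]; exact P.sub_mem hwc hwz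

theorem smul_cosetFun_of_mem (w : B) (hw : ∀ τ ∈ Tg (Γ := Γ) P, τ • w = w)
    (q : Dg (Γ := Γ) P ⧸ Tg (Γ := Γ) P) (τ : Dg (Γ := Γ) P) (hτ : τ ∈ Tg (Γ := Γ) P) :
    τ • cosetFun (Tg (Γ := Γ) P) w hw q = cosetFun (Tg (Γ := Γ) P) w hw q := by
  rw [smul_cosetFun]
  congr 1
  induction q using Quotient.inductionOn' with
  | h δ =>
    show τ • (QuotientGroup.mk δ : Dg (Γ := Γ) P ⧸ Tg (Γ := Γ) P) = QuotientGroup.mk δ
    rw [MulAction.Quotient.smul_mk, QuotientGroup.eq, smul_eq_mul, mul_inv_rev, mul_assoc]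
    have := (Tg_normal (Γ := Γ) P).conj_mem τ⁻¹ ((Tg (Γ := Γ) P).inv_mem hτ) δ⁻¹
    simpa [mul_assoc] using this

/-- The automorphism of `B ⧸ P` induced by an element of the decomposition group. -/
noncomputable def dbar (δ : Dg (Γ := Γ) P) : B ⧸ P →+* B ⧸ P :=
  Ideal.quotientMap P (MulSemiringAction.toRingHom (Dg (Γ := Γ) P) B δ)
    (fun b hb => (Dg_mem P δ b).1 hb)

theorem dbar_mk (δ : Dg (Γ := Γ) P) (b : B) :
    dbar P δ (Ideal.Quotient.mk P b) = Ideal.Quotient.mk P (δ • b) := by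
  rw [dbar, Ideal.quotientMap_mk]; rfl

theorem forward (x y : B) (hy : ∀ γ : Γ, γ ∈ P.inertia Γ → γ • y = y) (hxy : x - y ∈ P) :
    ∃ g : Polynomial B, (∀ (i : ℕ) (γ : Γ), γ • g.coeff i = g.coeff i) ∧
        (g.map (Ideal.Quotient.mk P)).Separable ∧ Polynomial.aeval x g ∈ P := by
  classical
  have := Fintype.ofFinite (Dg (Γ := Γ) P ⧸ Tg (Γ := Γ) P)
  let _ : Field (B ⧸ P) := Ideal.Quotient.field P
  have hy' : ∀ τ ∈ Tg (Γ := Γ) P, τ • y = y := fun τ hτ => hy τ (Ideal.coe_mem_inertia.2 hτ)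
  set f : Dg (Γ := Γ) P ⧸ Tg (Γ := Γ) P → B ⧸ P :=
    fun q => Ideal.Quotient.mk P (cosetFun (Tg (Γ := Γ) P) y hy' q) with hf
  set E : Finset (B ⧸ P) := Finset.univ.image f with hE
  set h : (B ⧸ P)[X] := ∏ r ∈ E, (X - C r) with hh
  have hsep : h.Separable := separable_prod_X_sub_C_iff'.2 (fun x _ y _ hxy => hxy)
  have hroot : h.eval (Ideal.Quotient.mk P y) = 0 := by
    rw [hh, eval_prod]
    apply Finset.prod_eq_zero (i := Ideal.Quotient.mk P y)
    · rw [hE, Finset.mem_image]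
      refine ⟨QuotientGroup.mk 1, Finset.mem_univ _, ?_⟩
      rw [hf]
      show Ideal.Quotient.mk P (cosetFun _ _ _ (QuotientGroup.mk 1)) = _
      rw [cosetFun_mk, one_smul]
    · simp
  -- lifting to B^T
  let ψ : Bt (Γ := Γ) P →+* B ⧸ P := (Ideal.Quotient.mk P).comp (Bt (Γ := Γ) P).subtype
  have hlift : h ∈ Polynomial.lifts ψ := by
    rw [hh]
    refine Subsemiring.prod_mem _ ?_
    intro r hr
    rw [hE, Finset.mem_image] at hr
    obtain ⟨q, -, rfl⟩ := hr
    rw [Polynomial.mem_lifts]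
    have hmem : cosetFun (Tg (Γ := Γ) P) y hy' q ∈ Bt (Γ := Γ) P := by
      intro τ
      exact smul_cosetFun_of_mem P y hy' q τ.1 τ.2
    refine ⟨X - C ⟨cosetFun (Tg (Γ := Γ) P) y hy' q, hmem⟩, ?_⟩
    simp [ψ, hf]
  obtain ⟨H, hH⟩ := (Polynomial.mem_lifts _).1 hlift
  have hinv : ∀ δ : Dg (Γ := Γ) P, h.map (dbar P δ) = h := by
    intro δ
    rw [hh, Polynomial.map_prod]
    simp only [Polynomial.map_sub, map_X, map_C]
    have hinj : Function.Injective (dbar P δ) := RingHom.injective _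
    rw [← Finset.prod_image (s := E) (g := dbar P δ) (f := fun r => X - C r)
      (fun a _ b _ hab => hinj hab)]
    congr 1
    rw [hE, Finset.image_image]
    have hcomp : (dbar P δ) ∘ f = f ∘ (fun q => δ • q) := by
      funext q
      simp only [Function.comp, hf]
      rw [dbar_mk, smul_cosetFun]
    rw [hcomp, ← Finset.image_image, Finset.image_univ_of_surjective (MulAction.surjective δ)]
  -- coefficients descend to invariants
  have hcoeff : ∀ i : ℕ, ∃ c : B, (∀ γ : Γ, γ • c = c) ∧ Ideal.Quotient.mk P c = h.coeff i := by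
    intro i
    have hz : Ideal.Quotient.mk P (H.coeff i : B) = h.coeff i := by
      rw [← hH, Polynomial.coeff_map]; rfl
    obtain ⟨c, hc, hzc⟩ := lemmaA P (H.coeff i : B) (Bt_inv P (H.coeff i)) (by
      intro δ
      rw [← Ideal.Quotient.eq, ← dbar_mk, hz, ← Polynomial.coeff_map, hinv δ])
    refine ⟨c, hc, ?_⟩
    rw [← hz]
    exact (Ideal.Quotient.eq.2 hzc).symm
  set A : Subring B := FixedPoints.subring B Γ with hA
  let φ : A →+* B ⧸ P := (Ideal.Quotient.mk P).comp A.subtype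
  have hlift2 : h ∈ Polynomial.lifts φ := by
    rw [Polynomial.lifts_iff_coeff_lifts]
    intro n
    obtain ⟨c, hc, hcn⟩ := hcoeff n
    exact ⟨⟨c, fun γ => hc γ⟩, hcn⟩
  obtain ⟨g₀, hg₀⟩ := (Polynomial.mem_lifts _).1 hlift2
  refine ⟨g₀.map A.subtype, ?_, ?_, ?_⟩
  · intro i γ
    rw [Polynomial.coeff_map]
    exact (g₀.coeff i).2 γ
  · rw [Polynomial.map_map]
    change (g₀.map φ).Separable
    rw [hg₀]; exact hsep
  · rw [← Ideal.Quotient.eq_zero_iff_mem, Polynomial.aeval_def, Polynomial.hom_eval₂,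
      ← Polynomial.eval_map, Polynomial.map_map]
    change (g₀.map φ).eval _ = 0
    rw [hg₀]
    have : (Ideal.Quotient.mk P) x = Ideal.Quotient.mk P y := Ideal.Quotient.eq.2 hxy
    rw [this]; exact hroot

end forward

/-- Let `B` be a commutative ring with an action of a finite group `Γ` by ring automorphisms, `P` a
maximal ideal of `B`, `T = {γ | γ x - x ∈ P for all x}` its inertia group, `B^T` the inertia ring
and `B^Γ` the ring of invariants, so that `k(P ∩ B^Γ) ⊆ k(P ∩ B^T) ⊆ k(P) = B/P`. Then `k(P ∩ B^T)`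
is the largest separable extension of `k(P ∩ B^Γ)` inside `k(P)`: an element `x` of `B` is congruent
modulo `P` to a `T`-invariant element if and only if `x mod P` is a root of some polynomial with
`Γ`-invariant coefficients whose reduction modulo `P` is separable. (The published statement is for
every prime ideal `P`, as an equality of residue fields; this row takes `P` maximal, the case to
which the published proof reduces by localising at `P ∩ B^Γ`.) -/
theorem result
    (B : Type u) [CommRing B] (Γ : Type v) [Group Γ] [Finite Γ] [MulSemiringAction Γ B]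
    (P : Ideal B) [P.IsMaximal] (x : B) :
    (∃ y : B, (∀ γ : Γ, γ ∈ P.inertia Γ → γ • y = y) ∧ x - y ∈ P) ↔
      ∃ g : Polynomial B, (∀ (i : ℕ) (γ : Γ), γ • g.coeff i = g.coeff i) ∧
        (g.map (Ideal.Quotient.mk P)).Separable ∧ Polynomial.aeval x g ∈ P := by
  constructor
  · rintro ⟨y, hy, hxy⟩
    exact forward P x y hy hxy
  · rintro ⟨g, hg, hsep, hroot⟩
    exact backward P x g hg hsep hroot

end Groth.Agent.S12937
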