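import Groth.Statements.S12946
import Mathlib.RingTheory.Unramified.LocalStructure
-- import your own Groth.Agent.* helpers here

set_option autoImplicit false
universe u
open CategoryTheory AlgebraicGeometry
open AlgSt

namespace Groth.Agent.S12946

/-- A morphism of schemes that is locally of finite type and formally unramified is locally quasi-finite. -/
theorem locallyQuasiFinite_of_unramified {X Y : Scheme.{u}} (f : X ⟶ Y)
    (h1 : LocallyOfFiniteType f) (h2 : FormallyUnramified f) : LocallyQuasiFinite f := by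
  refine ⟨fun {U} hU {V} hV e => ?_⟩
  have hft : (f.appLE U V e).hom.FiniteType := h1.finiteType_appLE hU hV e
  have hfu : (f.appLE U V e).hom.FormallyUnramified := h2.formallyUnramified_appLE hU hV e
  algebraize [(f.appLE U V e).hom]
  have : Algebra.EssFiniteType Γ(Y, U) Γ(X, V) := inferInstance
  show Algebra.QuasiFinite Γ(Y, U) Γ(X, V)
  infer_instance

/-- A DM morphism of algebraic stacks is quasi-DM (an unramified morphism of algebraic spaces being
locally quasi-finite). -/
theorem result
    (S : Scheme.{u}) (𝒳 : AlgSt.Cat S) (𝒴 : AlgSt.Cat S)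
    (h𝒳 : AlgSt.IsAlgStack Scheme.fppfPrecoverage 𝒳)
    (h𝒴 : AlgSt.IsAlgStack Scheme.fppfPrecoverage 𝒴)
    (f : 𝒳 ⥤ᵇ 𝒴) :
    AlgSt.IsDMMor f → AlgSt.IsQuasiDMMor f := by
  intro h U y
  obtain ⟨F, e, he, hP⟩ := h U y
  refine ⟨F, e, he, ?_⟩
  intro U' V' a b g ha hb hab
  have := hP a b g ha hb hab
  exact ⟨locallyQuasiFinite_of_unramified _ this.1 this.2, this.1⟩

end Groth.Agent.S12946
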