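-- S1297: helper5: Stein factorization finiteness from S0002
import Groth.Statements.S1297
import Groth.Agent.Lib.SteinFin5
import Groth.Agent.S0002

set_option autoImplicit false
universe u
open FlatMor

namespace Groth.Agent.S1297

open AlgebraicGeometry CategoryTheory Limits in
/-- Stein factorization, Noetherian case: let f : X → S be a proper morphism with S locally Noetherian.
Then the normalization of S in X is finite over S (so that the Stein factorization of f is a proper
morphism with geometrically connected fibres followed by a finite morphism). -/
theorem result {X S : Scheme.{u}} (f : X ⟶ S) [IsProper f] [IsLocallyNoetherian S] :
    IsFinite f.fromNormalization := by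
  exact Groth.Agent.Lib.SteinFin5.isFinite_fromNormalization_of_hyp
    (fun A _ _ X _ _ M hM n => Groth.Agent.S0002.result A X M hM n) f

end Groth.Agent.S1297
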