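import Groth.Statements.S13002
import Groth.Agent.Lib.AlgStLocQ4
import Groth.Agent.Lib.AlgSpSmLocalST

set_option autoImplicit false
universe u
open CategoryTheory AlgebraicGeometry
open AlgSt

namespace Groth.Agent.S13002

/-- If f : 𝒳 → 𝒴 and g : 𝒴 → 𝒵 are morphisms of algebraic stacks whose composite is locally of finite
type, then f itself is locally of finite type. -/
theorem result
    (S : Scheme.{u}) (𝒳 : AlgSt.Cat S) (𝒴 : AlgSt.Cat S) (𝒵 : AlgSt.Cat S)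
    (h𝒳 : AlgSt.IsAlgStack Scheme.fppfPrecoverage 𝒳)
    (h𝒴 : AlgSt.IsAlgStack Scheme.fppfPrecoverage 𝒴)
    (h𝒵 : AlgSt.IsAlgStack Scheme.fppfPrecoverage 𝒵)
    (f : 𝒳 ⥤ᵇ 𝒴) (g : 𝒴 ⥤ᵇ 𝒵) :
    AlgSt.LocQ (AlgSp.LocP @LocallyOfFiniteType) (BasedFunctor.comp f g) → AlgSt.LocQ (AlgSp.LocP @LocallyOfFiniteType) f := by
  intro hfg
  have : FibCat.IsFibGrpd 𝒳.p := h𝒳.isStack.1
  have : FibCat.IsFibGrpd 𝒴.p := h𝒴.isStack.1
  have : FibCat.IsFibGrpd 𝒵.p := h𝒵.isStack.1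
  obtain ⟨U, V, W, x, y, z, hUV, hVW, αf, αg, αfg, hx, hy, hz, hLf, hLg, hLfg⟩ :=
    Groth.Agent.Lib.AlgStLocQ.exists_tower h𝒳 h𝒴 h𝒵 f g
  have h1 : AlgSp.LocP @LocallyOfFiniteType ((AlgSp.yon S).map (hUV ≫ hVW)) :=
    Groth.Agent.Lib.AlgStLocQ.prop_of_locQ_of_square
      Groth.Agent.Lib.AlgSpSmLocalST.isSmoothLocalST_locP_lft (BasedFunctor.comp f g) hfg x z
      (hUV ≫ hVW) αfg hz.1 hLfg.1
  have h2 : LocallyOfFiniteType (hUV ≫ hVW).left :=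
    (Groth.Agent.Lib.AlgStLocQ.locP_yon_map_iff Groth.Agent.Lib.AlgSpLocP.etLocalClass_lft _).1 h1
  have h3 : LocallyOfFiniteType (hUV.left ≫ hVW.left) := h2
  have h4 : LocallyOfFiniteType hUV.left := locallyOfFiniteType_of_comp hUV.left hVW.left
  exact ⟨U, V, x, y, hUV, αf, hx.1, hx.2, hy.1,
    (Groth.Agent.Lib.AlgStLocQ.locP_yon_map_iff Groth.Agent.Lib.AlgSpLocP.etLocalClass_lft _).2 h4⟩

end Groth.Agent.S13002
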