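import Groth.Statements.S13004
import Groth.Agent.Lib.AlgStLocQ5

set_option autoImplicit false
universe u
open CategoryTheory AlgebraicGeometry
open AlgSt

namespace Groth.Agent.S13004

/-- Let 𝒳 → 𝒴 → 𝒵 be morphisms of algebraic stacks with 𝒳 → 𝒵 flat and 𝒳 → 𝒴 surjective and flat. Then 𝒴
→ 𝒵 is flat. -/
theorem result
    (S : Scheme.{u}) (𝒳 : AlgSt.Cat S) (𝒴 : AlgSt.Cat S) (𝒵 : AlgSt.Cat S)
    (h𝒳 : AlgSt.IsAlgStack Scheme.fppfPrecoverage 𝒳)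
    (h𝒴 : AlgSt.IsAlgStack Scheme.fppfPrecoverage 𝒴)
    (h𝒵 : AlgSt.IsAlgStack Scheme.fppfPrecoverage 𝒵)
    (f : 𝒳 ⥤ᵇ 𝒴) (g : 𝒴 ⥤ᵇ 𝒵)
    (hf₁ : AlgSt.LocQ (AlgSp.LocP @Flat) f) (hf₂ : AlgSt.IsSurjective f) :
    AlgSt.LocQ (AlgSp.LocP @Flat) (BasedFunctor.comp f g) → AlgSt.LocQ (AlgSp.LocP @Flat) g := by
  intro hfg
  have : FibCat.IsFibGrpd 𝒳.p := h𝒳.isStack.1
  have : FibCat.IsFibGrpd 𝒴.p := h𝒴.isStack.1
  have : FibCat.IsFibGrpd 𝒵.p := h𝒵.isStack.1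
  obtain ⟨U, V, W, x, y, z, hUV, hVW, αf, αg, αfg, hx, hy, hz, hLf, hLg, hLfg⟩ :=
    Groth.Agent.Lib.AlgStLocQ.exists_tower h𝒳 h𝒴 h𝒵 f g
  have h1 : AlgSp.LocP @Flat ((AlgSp.yon S).map hUV) :=
    Groth.Agent.Lib.AlgStLocQ.prop_of_locQ_of_square
      Groth.Agent.Lib.AlgSpSmLocalST.isSmoothLocalST_locP_flat f hf₁ x y hUV αf hy.1 hLf.1
  have h2 : AlgSp.LocP @Flat ((AlgSp.yon S).map (hUV ≫ hVW)) :=
    Groth.Agent.Lib.AlgStLocQ.prop_of_locQ_of_square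
      Groth.Agent.Lib.AlgSpSmLocalST.isSmoothLocalST_locP_flat (BasedFunctor.comp f g) hfg x z
      (hUV ≫ hVW) αfg hz.1 hLfg.1
  have h1' : Flat hUV.left :=
    (Groth.Agent.Lib.AlgStLocQ.locP_yon_map_iff Groth.Agent.Lib.AlgSpLocP.etLocalClass_flat _).1 h1
  have h2' : Flat (hUV.left ≫ hVW.left) :=
    (Groth.Agent.Lib.AlgStLocQ.locP_yon_map_iff Groth.Agent.Lib.AlgSpLocP.etLocalClass_flat _).1 h2
  have hs : Function.Surjective hUV.left :=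
    Groth.Agent.Lib.AlgStLocQ.surjective_of_square f hf₂ x y hUV αf hLf.2
  have h3 : Flat hVW.left :=
    Groth.Agent.Lib.AlgSpSrcCover.of_single (P := @Flat) (Q := @Flat) hUV.left h1' ⟨hs⟩ hVW.left h2'
  exact ⟨V, W, y, z, hVW, αg, hy.1, hy.2, hz.1,
    (Groth.Agent.Lib.AlgStLocQ.locP_yon_map_iff Groth.Agent.Lib.AlgSpLocP.etLocalClass_flat _).2 h3⟩

end Groth.Agent.S13004
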