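import Groth.Statements.S13005
import Groth.Agent.Lib.AlgStLocQ4
import Groth.Agent.Lib.AlgSpSmLocalST2
import Groth.Agent.Lib.SchLfpCancel

set_option autoImplicit false
universe u
open CategoryTheory AlgebraicGeometry
open AlgSt

namespace Groth.Agent.S13005

/-- Take morphisms of algebraic stacks f : 𝒳 → 𝒴 and g : 𝒴 → 𝒵. Suppose g is locally of finite type
while the composite 𝒳 → 𝒵 is locally of finite presentation; it follows that f is also locally of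
finite presentation. -/
theorem result
    (S : Scheme.{u}) (𝒳 : AlgSt.Cat S) (𝒴 : AlgSt.Cat S) (𝒵 : AlgSt.Cat S)
    (h𝒳 : AlgSt.IsAlgStack Scheme.fppfPrecoverage 𝒳)
    (h𝒴 : AlgSt.IsAlgStack Scheme.fppfPrecoverage 𝒴)
    (h𝒵 : AlgSt.IsAlgStack Scheme.fppfPrecoverage 𝒵)
    (f : 𝒳 ⥤ᵇ 𝒴) (g : 𝒴 ⥤ᵇ 𝒵) :
    AlgSt.LocQ (AlgSp.LocP @LocallyOfFinitePresentation) (BasedFunctor.comp f g) → AlgSt.LocQ (AlgSp.LocP @LocallyOfFiniteType) g →
      AlgSt.LocQ (AlgSp.LocP @LocallyOfFinitePresentation) f := by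
  intro hfg hg
  have : FibCat.IsFibGrpd 𝒳.p := h𝒳.isStack.1
  have : FibCat.IsFibGrpd 𝒴.p := h𝒴.isStack.1
  have : FibCat.IsFibGrpd 𝒵.p := h𝒵.isStack.1
  obtain ⟨U, V, W, x, y, z, hUV, hVW, αf, αg, αfg, hx, hy, hz, hLf, hLg, hLfg⟩ :=
    Groth.Agent.Lib.AlgStLocQ.exists_tower h𝒳 h𝒴 h𝒵 f g
  have h1 : AlgSp.LocP @LocallyOfFinitePresentation ((AlgSp.yon S).map (hUV ≫ hVW)) :=
    Groth.Agent.Lib.AlgStLocQ.prop_of_locQ_of_square
      Groth.Agent.Lib.AlgSpSmLocalST.isSmoothLocalST_locP_lfp (BasedFunctor.comp f g) hfg x z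
      (hUV ≫ hVW) αfg hz.1 hLfg.1
  have h1' : AlgSp.LocP @LocallyOfFiniteType ((AlgSp.yon S).map hVW) :=
    Groth.Agent.Lib.AlgStLocQ.prop_of_locQ_of_square
      Groth.Agent.Lib.AlgSpSmLocalST.isSmoothLocalST_locP_lft g hg y z hVW αg hz.1 hLg.1
  have h2 : LocallyOfFinitePresentation (hUV ≫ hVW).left :=
    (Groth.Agent.Lib.AlgStLocQ.locP_yon_map_iff Groth.Agent.Lib.AlgSpLocP.etLocalClass_lfp _).1 h1
  have h2' : LocallyOfFiniteType hVW.left :=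
    (Groth.Agent.Lib.AlgStLocQ.locP_yon_map_iff Groth.Agent.Lib.AlgSpLocP.etLocalClass_lft _).1 h1'
  have h3 : LocallyOfFinitePresentation (hUV.left ≫ hVW.left) := h2
  have h4 : LocallyOfFinitePresentation hUV.left :=
    Groth.Agent.Lib.SchLfpCancel.lfp_of_comp_of_lft h3 h2'
  exact ⟨U, V, x, y, hUV, αf, hx.1, hx.2, hy.1,
    (Groth.Agent.Lib.AlgStLocQ.locP_yon_map_iff Groth.Agent.Lib.AlgSpLocP.etLocalClass_lfp _).2 h4⟩

end Groth.Agent.S13005
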