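import Groth.Statements.S13006
import Groth.Agent.Lib.AlgStLocQ9
import Groth.Agent.S13005

set_option autoImplicit false
universe u
open CategoryTheory AlgebraicGeometry
open AlgSt

namespace Groth.Agent.S13006

/-- If a morphism f of algebraic stacks is locally of finite type then its diagonal is locally of finite
presentation. (The second assertion adds the quasi-compactness clauses on both sides.) -/
theorem result
    (S : Scheme.{u}) (𝒳 : AlgSt.Cat S) (𝒴 : AlgSt.Cat S)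
    (h𝒳 : AlgSt.IsAlgStack Scheme.fppfPrecoverage 𝒳)
    (h𝒴 : AlgSt.IsAlgStack Scheme.fppfPrecoverage 𝒴)
    (f : 𝒳 ⥤ᵇ 𝒴) :
    AlgSt.LocQ (AlgSp.LocP @LocallyOfFiniteType) f → AlgSt.LocQ (AlgSp.LocP @LocallyOfFinitePresentation) (FibCat.diag f) := by
  intro hf
  have : FibCat.IsFibGrpd 𝒳.p := h𝒳.isStack.1
  have : FibCat.IsFibGrpd 𝒴.p := h𝒴.isStack.1
  have hfp : AlgSt.IsAlgStack Scheme.fppfPrecoverage (FibCat.fp f f) :=
    Groth.Agent.Lib.AlgStFpStack.isAlgStack_fp_of _ h𝒴.isStack h𝒴.diag h𝒳 h𝒳 f f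
  have h1 : AlgSt.LocQ (AlgSp.LocP @LocallyOfFiniteType) (FibCat.fpFst f f) :=
    Groth.Agent.Lib.AlgStLocQ.locQ_fpFst
      Groth.Agent.Lib.AlgSpSmLocalST.isSmoothLocalST_locP_lft
      (Groth.Agent.Lib.AlgStLocQ.baseChangeStable_locP
        Groth.Agent.Lib.AlgSpLocP.etLocalClass_lft) h𝒳 h𝒴 h𝒳 f f hf
  have h2 : AlgSt.LocQ (AlgSp.LocP @LocallyOfFinitePresentation)
      (BasedFunctor.comp (FibCat.diag f) (FibCat.fpFst f f)) := by
    obtain ⟨U, x, hx, hxs⟩ := h𝒳.atlas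
    let e : BasedFunctor.comp (FibCat.diag f) (FibCat.fpFst f f) ≅ BasedFunctor.id 𝒳 := Iso.refl _
    have e0 : Groth.Agent.Lib.SliceFp.overMapB
        (Groth.Agent.Lib.SliceFp.overYonedaMor (BasedFunctor.id (FibCat.overCat U))) =
        AlgSt.overMap (𝟙 U) := by
      rw [Groth.Agent.Lib.SliceFp.overYonedaMor_id]
      rfl
    let idIso : BasedFunctor.id (FibCat.overCat U) ≅ AlgSt.overMap (𝟙 U) :=
      Groth.Agent.Lib.SliceFp.overYonedaIso (BasedFunctor.id (FibCat.overCat U)) ≪≫ eqToIso e0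
    let α : BasedFunctor.comp x (BasedFunctor.comp (FibCat.diag f) (FibCat.fpFst f f)) ≅
        BasedFunctor.comp (AlgSt.overMap (𝟙 U)) x :=
      Groth.Agent.Lib.FpEquiv.whiskerLeftIso x e ≪≫ Groth.Agent.Lib.FpEquiv.compIdIso x ≪≫
        (Groth.Agent.Lib.FpEquiv.idCompIso x).symm ≪≫
        Groth.Agent.Lib.FpEquiv.whiskerRightIso idIso x
    refine ⟨U, U, x, x, 𝟙 U, α, hx, hxs, hx, ?_⟩
    exact (Groth.Agent.Lib.AlgStLocQ.locP_yon_map_iff
      Groth.Agent.Lib.AlgSpLocP.etLocalClass_lfp _).2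
      (inferInstance : LocallyOfFinitePresentation (𝟙 U.left))
  exact Groth.Agent.S13005.result S 𝒳 (FibCat.fp f f) 𝒳 h𝒳 hfp h𝒳 (FibCat.diag f)
    (FibCat.fpFst f f) h2 h1

end Groth.Agent.S13006
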