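import Groth.Statements.S1301
import Groth.Agent.Lib.H77GeomRedCons

set_option autoImplicit false
universe u
open FlatMor

namespace Groth.Agent.S1301

open AlgebraicGeometry CategoryTheory Limits in
/-- For a quasi-compact morphism locally of finite presentation, the set of points of the target whose
fibre is geometrically reduced is locally constructible. -/
theorem result {X Y : Scheme.{u}} (f : X ⟶ Y) [QuasiCompact f] [LocallyOfFinitePresentation f] :
    Topology.IsLocallyConstructible {y : ↑Y | GeometricallyReduced (f.fiberToSpecResidueField y)} :=
  Groth.Agent.Lib.H77GeomRedCons.isLocallyConstructible_geomRedFiber f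

end Groth.Agent.S1301
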