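import Groth.Statements.S13011
import Groth.Agent.Lib.AlgStSpTest2

set_option autoImplicit false
universe u
open CategoryTheory AlgebraicGeometry
open AlgSt

namespace Groth.Agent.S13011

/-- The composition of two affine morphisms of algebraic stacks is affine (affine: representable by
algebraic spaces, and every base change to an affine scheme is an affine scheme). -/
theorem result
    (S : Scheme.{u}) (𝒳 : AlgSt.Cat S) (𝒴 : AlgSt.Cat S) (𝒵 : AlgSt.Cat S)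
    (h𝒳 : AlgSt.IsAlgStack Scheme.fppfPrecoverage 𝒳)
    (h𝒴 : AlgSt.IsAlgStack Scheme.fppfPrecoverage 𝒴)
    (h𝒵 : AlgSt.IsAlgStack Scheme.fppfPrecoverage 𝒵)
    (f : 𝒳 ⥤ᵇ 𝒴) (g : 𝒴 ⥤ᵇ 𝒵) :
    AlgSt.RepByAlgSpWith AlgSp.IsAffineMor f → AlgSt.RepByAlgSpWith AlgSp.IsAffineMor g → AlgSt.RepByAlgSpWith AlgSp.IsAffineMor (BasedFunctor.comp f g) := by
  intro hf hg
  haveI := h𝒳.isStack.1
  haveI := h𝒴.isStack.1
  rw [Groth.Agent.Lib.AlgStSpTest.isAffineMor_eq] at hf hg ⊢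
  exact Groth.Agent.Lib.AlgStSpTest.repByAlgSpWith_comp' _
    (Groth.Agent.Lib.AlgStSpTest.isoInv_affMor ⊤)
    (Groth.Agent.Lib.AlgStSpTest.schemeLocal_affMor ⊤)
    (fun _ _ _ _ _ _ a b ha hb => Groth.Agent.Lib.AlgStSpTest.affMor_comp ⊤ ha hb) f g hf hg

end Groth.Agent.S13011
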