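import Groth.Statements.S13016
import Groth.Agent.Lib.AlgStCancel

set_option autoImplicit false
universe u
open CategoryTheory AlgebraicGeometry
open AlgSt

namespace Groth.Agent.S13016

/-- In a 2-commutative triangle of algebraic stacks f : 𝒳 → 𝒴, a : 𝒳 → 𝒵, b : 𝒴 → 𝒵 with b ∘ f
2-isomorphic to a, if a is affine and the diagonal of b is affine then f is affine. -/
theorem result
    (S : Scheme.{u}) (𝒳 : AlgSt.Cat S) (𝒴 : AlgSt.Cat S) (𝒵 : AlgSt.Cat S)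
    (h𝒳 : AlgSt.IsAlgStack Scheme.fppfPrecoverage 𝒳)
    (h𝒴 : AlgSt.IsAlgStack Scheme.fppfPrecoverage 𝒴)
    (h𝒵 : AlgSt.IsAlgStack Scheme.fppfPrecoverage 𝒵)
    (f : 𝒳 ⥤ᵇ 𝒴) (a : 𝒳 ⥤ᵇ 𝒵) (b : 𝒴 ⥤ᵇ 𝒵) (e : BasedFunctor.comp f b ≅ a) :
    AlgSt.RepByAlgSpWith AlgSp.IsAffineMor a → AlgSt.RepByAlgSpWith AlgSp.IsAffineMor (FibCat.diag b) → AlgSt.RepByAlgSpWith AlgSp.IsAffineMor f := by
  intro ha hΔ
  haveI : FibCat.IsFibGrpd 𝒴.p := h𝒴.isStack.1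
  haveI : FibCat.IsFibGrpd 𝒵.p := h𝒵.isStack.1
  rw [Groth.Agent.Lib.AlgStSpTest.isAffineMor_eq] at ha hΔ ⊢
  have hfb : AlgSt.RepByAlgSpWith
      (Groth.Agent.Lib.AlgStSpTest.AffMor (S := S) (⊤ : MorphismProperty Scheme.{u}))
      (BasedFunctor.comp f b) :=
    (Groth.Agent.Lib.AlgStRep.repByAlgSpWith_iff_of_square _ a (BasedFunctor.comp f b)
      (BasedFunctor.id 𝒳) (BasedFunctor.id 𝒵) Groth.Agent.Lib.FpEquiv.isEquivOver_id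
      Groth.Agent.Lib.FpEquiv.isEquivOver_id
      (Groth.Agent.Lib.FpEquiv.compIdIso _ ≪≫ e ≪≫ (Groth.Agent.Lib.FpEquiv.idCompIso a).symm)).1 ha
  exact Groth.Agent.Lib.AlgStCancel.repByAlgSpWith_of_comp_of_diag _
    (Groth.Agent.Lib.AlgStSpTest.isoInv_affMor ⊤) (Groth.Agent.Lib.AlgStSpTest.schemeLocal_affMor ⊤)
    (fun _ _ _ _ _ _ _ _ h1 h2 => Groth.Agent.Lib.AlgStSpTest.affMor_comp ⊤ h1 h2) f b hfb hΔ

end Groth.Agent.S13016
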