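import Groth.Statements.S13038
import Groth.Agent.Lib.AlgStLocQ4

set_option autoImplicit false
universe u
open CategoryTheory AlgebraicGeometry
open AlgSt

namespace Groth.Agent.S13038

/-- Suppose P, a property of morphisms between algebraic spaces, is local on source and target for the
smooth topology and is preserved by composition of algebraic spaces. Then the induced property of
morphisms of algebraic stacks, read on one square of smooth charts, is stable under composition. -/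
theorem result
    (S : Scheme.{u}) (P : MorphismProperty (AlgSp.Sp S)) (hP : AlgSp.IsSmoothLocalST P)
    (hPc : ∀ ⦃X₁ Y₁ Z₁ : AlgSp.Sp S⦄, AlgSp.IsAlgSpace X₁ → AlgSp.IsAlgSpace Y₁ → AlgSp.IsAlgSpace Z₁ →
      ∀ (a : X₁ ⟶ Y₁) (b : Y₁ ⟶ Z₁), P a → P b → P (a ≫ b))
    (𝒳 : AlgSt.Cat S) (𝒴 : AlgSt.Cat S) (𝒵 : AlgSt.Cat S)
    (h𝒳 : AlgSt.IsAlgStack Scheme.fppfPrecoverage 𝒳)
    (h𝒴 : AlgSt.IsAlgStack Scheme.fppfPrecoverage 𝒴)
    (h𝒵 : AlgSt.IsAlgStack Scheme.fppfPrecoverage 𝒵)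
    (f : 𝒳 ⥤ᵇ 𝒴) (g : 𝒴 ⥤ᵇ 𝒵) :
    AlgSt.LocQ P f → AlgSt.LocQ P g → AlgSt.LocQ P (BasedFunctor.comp f g) := by
  intro hf hg
  have : FibCat.IsFibGrpd 𝒳.p := h𝒳.isStack.1
  have : FibCat.IsFibGrpd 𝒴.p := h𝒴.isStack.1
  have : FibCat.IsFibGrpd 𝒵.p := h𝒵.isStack.1
  obtain ⟨U, V, W, x, y, z, hUV, hVW, αf, αg, αfg, hx, hy, hz, hLf, hLg, hLfg⟩ :=
    Groth.Agent.Lib.AlgStLocQ.exists_tower h𝒳 h𝒴 h𝒵 f g
  have h1 : P ((AlgSp.yon S).map hUV) :=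
    Groth.Agent.Lib.AlgStLocQ.prop_of_locQ_of_square hP f hf x y hUV αf hy.1 hLf.1
  have h2 : P ((AlgSp.yon S).map hVW) :=
    Groth.Agent.Lib.AlgStLocQ.prop_of_locQ_of_square hP g hg y z hVW αg hz.1 hLg.1
  refine ⟨U, W, x, z, hUV ≫ hVW, αfg, hx.1, hx.2, hz.1, ?_⟩
  rw [Functor.map_comp]
  exact hPc (AlgSp.IsAlgSpace.yon_obj U) (AlgSp.IsAlgSpace.yon_obj V) (AlgSp.IsAlgSpace.yon_obj W)
    _ _ h1 h2

end Groth.Agent.S13038
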