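import Groth.Statements.S13041
-- import your own Groth.Agent.* helpers here

set_option autoImplicit false
universe u
open MaxMod
open scoped TensorProduct

namespace Groth.Agent.S13041

/-- Let R be a domain with fraction field K, let A → B be a homomorphism of commutative R-algebras that
are flat over R, with B module-finite over A, such that the induced map K ⊗_R A → K ⊗_R B is
bijective. If the A-linear map Hom_A(B, A) → A evaluating at 1 is surjective, then A → B is
bijective. (The published statement concerns a finite morphism of flat schemes over a discrete
valuation ring, with locally free relative dualizing sheaves, that is an isomorphism over a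
schematically dense open and whose trace map on dualizing sheaves is surjective; this row is the
statement about rings to which the printed proof reduces it and which that proof establishes, and
the argument uses only that R is a domain.) -/
theorem result
    (R K A B : Type u) [CommRing R] [IsDomain R] [Field K] [Algebra R K] [IsFractionRing R K]
    [CommRing A] [CommRing B] [Algebra R A] [Algebra R B] [Algebra A B] [IsScalarTower R A B]
    [Module.Flat R A] [Module.Flat R B] [Module.Finite A B]
    (hK : Function.Bijective
      (Algebra.TensorProduct.map (AlgHom.id R K) (IsScalarTower.toAlgHom R A B)))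
    (htr : Function.Surjective (fun u : B →ₗ[A] A => u 1)) :
    Function.Bijective (algebraMap A B) := by
  classical
  obtain ⟨u, hu⟩ := htr 1
  have hu1 : u 1 = 1 := hu
  -- `u` is a retraction of `A → B`
  have huφ : ∀ a : A, u (algebraMap A B a) = a := by
    intro a
    rw [Algebra.algebraMap_eq_smul_one, map_smul, hu1, smul_eq_mul, mul_one]
  let uR : B →ₗ[R] A := u.restrictScalars R
  let φR : A →ₗ[R] B := (IsScalarTower.toAlgHom R A B).toLinearMap
  have hcomp : uR ∘ₗ φR = LinearMap.id := by
    ext a
    exact huφ a
  -- injectivity of `B → K ⊗ B`
  have hinjK : Function.Injective (LinearMap.rTensor B (Algebra.linearMap R K)) :=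
    Module.Flat.rTensor_preserves_injective_linearMap (Algebra.linearMap R K)
      (IsFractionRing.injective R K)
  have hB0 : ∀ b : B, (1 : K) ⊗ₜ[R] b = 0 → b = 0 := by
    intro b hb
    have h1 : LinearMap.rTensor B (Algebra.linearMap R K) ((1 : R) ⊗ₜ[R] b) = 0 := by
      rw [LinearMap.rTensor_tmul, Algebra.linearMap_apply, map_one, hb]
    have h2 : (1 : R) ⊗ₜ[R] b = 0 := hinjK (by rw [h1, map_zero])
    have h3 := congrArg (TensorProduct.lid R B) h2
    rwa [TensorProduct.lid_tmul, one_smul, map_zero] at h3
  -- `u` is injective
  have hmapeq : ∀ z : TensorProduct R K A,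
      Algebra.TensorProduct.map (AlgHom.id R K) (IsScalarTower.toAlgHom R A B) z =
        LinearMap.lTensor K φR z := by
    intro z
    induction z using TensorProduct.induction_on with
    | zero => simp
    | tmul x y => rfl
    | add x y hx hy => rw [map_add, map_add, hx, hy]
  have huinj : ∀ b : B, u b = 0 → b = 0 := by
    intro b hb
    apply hB0
    obtain ⟨z, hz⟩ := hK.2 ((1 : K) ⊗ₜ[R] b)
    have h1 : LinearMap.lTensor K uR ((1 : K) ⊗ₜ[R] b) = 0 := by
      rw [LinearMap.lTensor_tmul]
      change (1 : K) ⊗ₜ[R] u b = 0
      rw [hb, TensorProduct.tmul_zero]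
    have h2 : LinearMap.lTensor K uR (LinearMap.lTensor K φR z) = z := by
      rw [← LinearMap.comp_apply, ← LinearMap.lTensor_comp, hcomp, LinearMap.lTensor_id,
        LinearMap.id_apply]
    rw [← hz, hmapeq] at h1 ⊢
    rw [h2] at h1
    rw [h1, map_zero]
  constructor
  · intro a a' h
    rw [← huφ a, ← huφ a', h]
  · intro b
    refine ⟨u b, ?_⟩
    have : u (algebraMap A B (u b) - b) = 0 := by rw [map_sub, huφ, sub_self]
    exact sub_eq_zero.1 (huinj _ this)

end Groth.Agent.S13041
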