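import Groth.Statements.S13042
import Mathlib.RingTheory.MvPolynomial.Basic
import Mathlib.RingTheory.LocalRing.Basic
import Mathlib.Algebra.CharP.Lemmas
import Mathlib.RingTheory.Ideal.Quotient.Operations
-- import your own Groth.Agent.* helpers here

set_option autoImplicit false
universe u
open MaxMod

namespace Groth.Agent.S13042

section Helpers

open MvPolynomial

variable (p : ℕ) [Fact p.Prime] {R : Type u} [CommRing R] [CharP R p] (lam f : R)

/-- `1 + λ W` -/
noncomputable def Tp : MvPolynomial (Fin 2) R := 1 + C lam * X 1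

theorem Tp_pow : Tp lam ^ p = 1 + C (lam ^ p) * X 1 ^ p := by
  unfold Tp
  rw [add_pow_char, one_pow, mul_pow, ← map_pow]

/-- the ideal `(W₁^p - f, W₂^p - f)` -/
noncomputable abbrev I1 : Ideal (MvPolynomial (Fin 2) R) :=
  Ideal.span {(X 0 ^ p - C f : MvPolynomial (Fin 2) R), X 1 ^ p - C f}

/-- the ideal `(x^p, W^p - f)` -/
noncomputable abbrev I2 : Ideal (MvPolynomial (Fin 2) R) :=
  Ideal.span {(X 0 ^ p : MvPolynomial (Fin 2) R), X 1 ^ p - C f}

theorem gen1_mem_I1 : (X 0 ^ p - C f : MvPolynomial (Fin 2) R) ∈ I1 p f :=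
  Ideal.subset_span (Set.mem_insert _ _)
theorem gen2_mem_I1 : (X 1 ^ p - C f : MvPolynomial (Fin 2) R) ∈ I1 p f :=
  Ideal.subset_span (Set.mem_insert_of_mem _ rfl)
theorem gen1_mem_I2 : (X 0 ^ p : MvPolynomial (Fin 2) R) ∈ I2 p f :=
  Ideal.subset_span (Set.mem_insert _ _)
theorem gen2_mem_I2 : (X 1 ^ p - C f : MvPolynomial (Fin 2) R) ∈ I2 p f :=
  Ideal.subset_span (Set.mem_insert_of_mem _ rfl)

variable (c' : R)

/-- the inverse of `1 + λ W` modulo `W^p - f` -/
noncomputable def Vp : MvPolynomial (Fin 2) R := Tp lam ^ (p - 1) * C c'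

/-- `T V - 1` is a multiple of `W^p - f`. -/
theorem TV_sub_one (hc : (1 + lam ^ p * f) * c' = 1) :
    Tp lam * Vp p lam c' - 1 = C (lam ^ p * c') * (X 1 ^ p - C f) := by
  have hp : p - 1 + 1 = p := Nat.sub_add_cancel (Fact.out : p.Prime).one_le
  have h1 : Tp lam * Vp p lam c' = Tp lam ^ p * C c' := by
    unfold Vp
    rw [← mul_assoc, ← pow_succ', hp]
  have h2 : Tp lam ^ p * C c' - 1 = Tp lam ^ p * C c' - C ((1 + lam ^ p * f) * c') := by
    rw [hc, map_one]
  rw [h1, h2, Tp_pow]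
  simp only [map_mul, map_add, map_one, map_pow]
  ring

/-- the forward map on polynomial rings -/
noncomputable def phi0 : MvPolynomial (Fin 2) R →ₐ[R] MvPolynomial (Fin 2) R :=
  aeval ![X 0 * Tp lam + X 1, X 1]

/-- the backward map on polynomial rings -/
noncomputable def psi0 : MvPolynomial (Fin 2) R →ₐ[R] MvPolynomial (Fin 2) R :=
  aeval ![(X 0 - X 1) * Vp p lam c', X 1]

@[simp] theorem phi0_X0 : phi0 lam (X 0) = X 0 * Tp lam + X 1 := by simp [phi0]
@[simp] theorem phi0_X1 : phi0 lam (X 1 : MvPolynomial (Fin 2) R) = X 1 := by simp [phi0]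
@[simp] theorem psi0_X0 : psi0 p lam c' (X 0) = (X 0 - X 1) * Vp p lam c' := by simp [psi0]
@[simp] theorem psi0_X1 : psi0 p lam c' (X 1 : MvPolynomial (Fin 2) R) = X 1 := by simp [psi0]

@[simp] theorem phi0_Tp : phi0 lam (Tp lam) = Tp lam := by simp [Tp]
@[simp] theorem psi0_Tp : psi0 p lam c' (Tp lam) = Tp lam := by simp [Tp]
@[simp] theorem phi0_Vp : phi0 lam (Vp p lam c') = Vp p lam c' := by simp [Vp]
@[simp] theorem psi0_Vp : psi0 p lam c' (Vp p lam c') = Vp p lam c' := by simp [Vp]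

theorem phi0_mem (a : MvPolynomial (Fin 2) R) (ha : a ∈ I1 p f) : phi0 lam a ∈ I2 p f := by
  have hle : I1 p f ≤ Ideal.comap (phi0 lam) (I2 p f) := by
    rw [Ideal.span_le]
    rintro x (rfl | rfl)
    · rw [SetLike.mem_coe, Ideal.mem_comap]
      have : phi0 lam (X 0 ^ p - C f) = X 0 ^ p * Tp lam ^ p + (X 1 ^ p - C f) := by
        rw [map_sub, map_pow, phi0_X0, add_pow_char, mul_pow, algHom_C, MvPolynomial.algebraMap_eq]
        ring
      rw [this]
      exact Ideal.add_mem _ (Ideal.mul_mem_right _ _ (gen1_mem_I2 p f)) (gen2_mem_I2 p f)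
    · rw [SetLike.mem_coe, Ideal.mem_comap]
      have : phi0 lam (X 1 ^ p - C f) = X 1 ^ p - C f := by
        rw [map_sub, map_pow, phi0_X1, algHom_C, MvPolynomial.algebraMap_eq]
      rw [this]
      exact gen2_mem_I2 p f
  exact hle ha

theorem psi0_mem (a : MvPolynomial (Fin 2) R) (ha : a ∈ I2 p f) : psi0 p lam c' a ∈ I1 p f := by
  have hle : I2 p f ≤ Ideal.comap (psi0 p lam c') (I1 p f) := by
    rw [Ideal.span_le]
    rintro x (rfl | rfl)
    · rw [SetLike.mem_coe, Ideal.mem_comap]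
      have : psi0 p lam c' (X 0 ^ p) =
          ((X 0 ^ p - C f) - (X 1 ^ p - C f)) * Vp p lam c' ^ p := by
        rw [map_pow, psi0_X0, mul_pow, sub_pow_char]
        ring
      rw [this]
      exact Ideal.mul_mem_right _ _ (Ideal.sub_mem _ (gen1_mem_I1 p f) (gen2_mem_I1 p f))
    · rw [SetLike.mem_coe, Ideal.mem_comap]
      have : psi0 p lam c' (X 1 ^ p - C f) = X 1 ^ p - C f := by
        rw [map_sub, map_pow, psi0_X1, algHom_C, MvPolynomial.algebraMap_eq]
      rw [this]
      exact gen2_mem_I1 p f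
  exact hle ha

end Helpers

open MvPolynomial in
/-- Let p be a prime, R a local ring of characteristic p, λ an element of the maximal ideal of R and f ∈
R. Then there is an isomorphism of R-algebras R[W₁, W₂]/(W₁^p − f, W₂^p − f) ≅ R[x, W]/(x^p, W^p −
f) with W₁ ↦ x + W + λ·x·W and W₂ ↦ W; that is, Spec R[W]/(W^p − f) with the action w ↦ x + w + λxw
is a torsor under the group scheme Spec R[x]/(x^p) with law x₁ ∘ x₂ = x₁ + x₂ + λx₁x₂. (The
published statement is over a complete discrete valuation ring of characteristic p with λ a nonzero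
nonunit, and also asserts that for f in the fraction field with negative valuation v(f) > −p·v(λ)
the torsor W^p = f extends to a torsor over R, using the coordinate 1/W; that second case fails: for
p = 2, λ = π a uniformizer and f = 1/π, every model is Spec R[π^a t] with t² = π, and none of these
is a torsor since the coaction sends t to t − π(1 + t)x. Only the case f ∈ R is stated, and the
argument there uses only that R is local of characteristic p.) -/
theorem result
    (p : ℕ) [Fact p.Prime] (R : Type u) [CommRing R] [IsLocalRing R] [CharP R p]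
    (lam f : R) (hlam : lam ∈ IsLocalRing.maximalIdeal R) :
    ∃ e : (MvPolynomial (Fin 2) R ⧸ Ideal.span {(X 0 ^ p - C f : MvPolynomial (Fin 2) R), X 1 ^ p - C f}) ≃ₐ[R]
        (MvPolynomial (Fin 2) R ⧸ Ideal.span {(X 0 ^ p : MvPolynomial (Fin 2) R), X 1 ^ p - C f}),
      e (Ideal.Quotient.mk _ (X 0)) = Ideal.Quotient.mk _ (X 0 + X 1 + C lam * X 0 * X 1) ∧
      e (Ideal.Quotient.mk _ (X 1)) = Ideal.Quotient.mk _ (X 1) := by
  -- the unit `1 + λ^p f`
  have hmem : -(lam ^ p * f) ∈ nonunits R := by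
    rw [← IsLocalRing.mem_maximalIdeal]
    exact neg_mem (Ideal.mul_mem_right _ _
      (Ideal.pow_mem_of_mem _ hlam p (Fact.out : p.Prime).pos))
  have hunit : IsUnit (1 + lam ^ p * f) := by
    have := IsLocalRing.isUnit_one_sub_self_of_mem_nonunits _ hmem
    rwa [sub_neg_eq_add] at this
  obtain ⟨c', hc⟩ := hunit.exists_right_inv
  -- the two maps on quotients
  let φ : (MvPolynomial (Fin 2) R ⧸ I1 p f) →ₐ[R] (MvPolynomial (Fin 2) R ⧸ I2 p f) :=
    Ideal.Quotient.liftₐ (I1 p f) ((Ideal.Quotient.mkₐ R (I2 p f)).comp (phi0 lam))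
      (fun a ha => by
        rw [AlgHom.comp_apply, Ideal.Quotient.mkₐ_eq_mk, Ideal.Quotient.eq_zero_iff_mem]
        exact phi0_mem p lam f a ha)
  let ψ : (MvPolynomial (Fin 2) R ⧸ I2 p f) →ₐ[R] (MvPolynomial (Fin 2) R ⧸ I1 p f) :=
    Ideal.Quotient.liftₐ (I2 p f) ((Ideal.Quotient.mkₐ R (I1 p f)).comp (psi0 p lam c'))
      (fun a ha => by
        rw [AlgHom.comp_apply, Ideal.Quotient.mkₐ_eq_mk, Ideal.Quotient.eq_zero_iff_mem]
        exact psi0_mem p lam f c' a ha)
  have hφ : ∀ a, φ (Ideal.Quotient.mk _ a) = Ideal.Quotient.mk _ (phi0 lam a) := fun a => rfl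
  have hψ : ∀ a, ψ (Ideal.Quotient.mk _ a) = Ideal.Quotient.mk _ (psi0 p lam c' a) := fun a => rfl
  have hTV1 : Tp lam * Vp p lam c' - 1 ∈ I1 p f := by
    rw [TV_sub_one p lam f c' hc]
    exact Ideal.mul_mem_left _ _ (gen2_mem_I1 p f)
  have hTV2 : Tp lam * Vp p lam c' - 1 ∈ I2 p f := by
    rw [TV_sub_one p lam f c' hc]
    exact Ideal.mul_mem_left _ _ (gen2_mem_I2 p f)
  have h1 : φ.comp ψ = AlgHom.id R _ := by
    apply Ideal.Quotient.algHom_ext
    apply MvPolynomial.algHom_ext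
    intro i
    simp only [AlgHom.comp_apply, Ideal.Quotient.mkₐ_eq_mk, AlgHom.id_apply]
    rw [hψ, hφ, Ideal.Quotient.eq]
    fin_cases i
    · have : phi0 lam (psi0 p lam c' (X 0)) - X 0 = X 0 * (Tp lam * Vp p lam c' - 1) := by
        rw [psi0_X0, map_mul, map_sub, phi0_X0, phi0_X1, phi0_Vp]
        ring
      change phi0 lam (psi0 p lam c' (X 0)) - X 0 ∈ I2 p f
      rw [this]
      exact Ideal.mul_mem_left _ _ hTV2
    · change phi0 lam (psi0 p lam c' (X 1)) - X 1 ∈ I2 p f
      rw [psi0_X1, phi0_X1, sub_self]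
      exact Ideal.zero_mem _
  have h2 : ψ.comp φ = AlgHom.id R _ := by
    apply Ideal.Quotient.algHom_ext
    apply MvPolynomial.algHom_ext
    intro i
    simp only [AlgHom.comp_apply, Ideal.Quotient.mkₐ_eq_mk, AlgHom.id_apply]
    rw [hφ, hψ, Ideal.Quotient.eq]
    fin_cases i
    · have : psi0 p lam c' (phi0 lam (X 0)) - X 0 = (X 0 - X 1) * (Tp lam * Vp p lam c' - 1) := by
        rw [phi0_X0, map_add, map_mul, psi0_X0, psi0_X1, psi0_Tp]
        ring
      change psi0 p lam c' (phi0 lam (X 0)) - X 0 ∈ I1 p f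
      rw [this]
      exact Ideal.mul_mem_left _ _ hTV1
    · change psi0 p lam c' (phi0 lam (X 1)) - X 1 ∈ I1 p f
      rw [phi0_X1, psi0_X1, sub_self]
      exact Ideal.zero_mem _
  refine ⟨AlgEquiv.ofAlgHom φ ψ h1 h2, ?_, ?_⟩
  · change φ (Ideal.Quotient.mk _ (X 0)) = _
    rw [hφ, phi0_X0]
    congr 1
    unfold Tp
    ring
  · change φ (Ideal.Quotient.mk _ (X 1)) = _
    rw [hφ, phi0_X1]

end Groth.Agent.S13042
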