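import Groth.Statements.S13043
import Groth.Agent.S2851
import Groth.Agent.Lib.AffineComplDim9

set_option autoImplicit false
universe u
open CoPerf

namespace Groth.Agent.S13043

open AlgebraicGeometry CategoryTheory TopologicalSpace

/-- In a Noetherian quasi-sober T0 space, every point of a closed set has a generization in that set
which is maximal (under generization) among the points of the closed set. -/
theorem exists_maximal_generization {X : Type*} [TopologicalSpace X] [NoetherianSpace X]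
    [QuasiSober X] [T0Space X] {Z : Set X} (hZ : IsClosed Z) {x : X} (hx : x ∈ Z) :
    ∃ ξ ∈ Z, ξ ⤳ x ∧ ∀ η ∈ Z, η ⤳ ξ → η = ξ := by
  obtain ⟨F, hFfin, hFcl, hFirr, hZF⟩ := NoetherianSpace.exists_finite_set_isClosed_irreducible hZ
  have hx' : x ∈ ⋃₀ F := hZF ▸ hx
  obtain ⟨C, hCF, hxC⟩ := hx'
  have hfin' : {C ∈ F | x ∈ C}.Finite := hFfin.subset (fun _ h => h.1)
  obtain ⟨C₀, hC₀, hmax⟩ := hfin'.exists_maximal ⟨C, hCF, hxC⟩
  obtain ⟨ξ, hξ⟩ := QuasiSober.sober (hFirr C₀ hC₀.1) (hFcl C₀ hC₀.1)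
  have hC₀Z : C₀ ⊆ Z := by
    rw [hZF]; exact Set.subset_sUnion_of_mem hC₀.1
  refine ⟨ξ, hC₀Z hξ.mem, hξ.specializes hC₀.2, fun η hη hηξ => ?_⟩
  have hη' : η ∈ ⋃₀ F := hZF ▸ hη
  obtain ⟨C', hC'F, hηC'⟩ := hη'
  have hsub : C₀ ⊆ C' := by
    rw [← hξ.def]
    refine (closure_minimal ?_ (hFcl C' hC'F))
    rintro _ rfl
    exact hηξ.mem_closed (hFcl C' hC'F) hηC'
  have hxC' : x ∈ C' := hsub hC₀.2
  have hle : C' ≤ C₀ := hmax ⟨hC'F, hxC'⟩ hsub
  exact (hηξ.antisymm (hξ.specializes (hle hηC'))).eq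

/-- In a Noetherian quasi-sober space, a closed set has finitely many maximal points. -/
theorem finite_maximal_points {X : Type*} [TopologicalSpace X] [NoetherianSpace X]
    [QuasiSober X] [T0Space X] {Z : Set X} (hZ : IsClosed Z) :
    {ξ | ξ ∈ Z ∧ ∀ η ∈ Z, η ⤳ ξ → η = ξ}.Finite := by
  classical
  obtain ⟨F, hFfin, hFcl, hFirr, hZF⟩ := NoetherianSpace.exists_finite_set_isClosed_irreducible hZ
  choose g hg using fun C : F => QuasiSober.sober (hFirr C.1 C.2) (hFcl C.1 C.2)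
  haveI : Finite F := hFfin.to_subtype
  refine (Set.finite_range g).subset ?_
  rintro ξ ⟨hξZ, hξ⟩
  have hξ' : ξ ∈ ⋃₀ F := hZF ▸ hξZ
  obtain ⟨C, hCF, hξC⟩ := hξ'
  refine ⟨⟨C, hCF⟩, ?_⟩
  have hCZ : C ⊆ Z := by
    rw [hZF]; exact Set.subset_sUnion_of_mem hCF
  exact hξ (g ⟨C, hCF⟩) (hCZ (hg ⟨C, hCF⟩).mem) ((hg ⟨C, hCF⟩).specializes hξC)


/-- A proper generization of a point whose local ring has dimension `≤ 1` has a local ring of
dimension `0`. -/
theorem stalk_dim_eq_zero_of_specializes (X : Scheme.{u}) {η ξ : X} (h : η ⤳ ξ) (hne : η ≠ ξ)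
    (hdim : ringKrullDim (X.presheaf.stalk ξ) ≤ 1) : ringKrullDim (X.presheaf.stalk η) = 0 := by
  obtain ⟨_, ⟨W, hW, rfl⟩, hξW, -⟩ :=
    X.isBasis_affineOpens.exists_subset_of_mem_open (Set.mem_univ ξ) isOpen_univ
  have hηW : η ∈ W := h.mem_open W.2 hξW
  let p : PrimeSpectrum Γ(X, W) := hW.primeIdealOf ⟨ξ, hξW⟩
  have hp : hW.fromSpec p = ξ := hW.fromSpec_primeIdealOf ⟨ξ, hξW⟩
  let q : PrimeSpectrum Γ(X, W) := hW.primeIdealOf ⟨η, hηW⟩
  have hq : hW.fromSpec q = η := hW.fromSpec_primeIdealOf ⟨η, hηW⟩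
  have hqp : q ⤳ p := by
    have h' : hW.fromSpec q ⤳ hW.fromSpec p := by rw [hp, hq]; exact h
    exact hW.fromSpec.isOpenEmbedding.isInducing.specializes_iff.mp h'
  have hle : q.asIdeal ≤ p.asIdeal := (PrimeSpectrum.le_iff_specializes q p).mpr hqp
  have hlt : q.asIdeal < p.asIdeal := by
    refine lt_of_le_of_ne hle (fun he => hne ?_)
    rw [← hp, ← hq]
    congr 1
    exact PrimeSpectrum.ext he
  letI : Algebra Γ(X, W) (X.presheaf.stalk ξ) :=
    TopCat.Presheaf.algebra_section_stalk X.presheaf ⟨ξ, hξW⟩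
  haveI : IsLocalization.AtPrime (X.presheaf.stalk ξ) p.asIdeal :=
    hW.isLocalization_stalk ⟨ξ, hξW⟩
  letI : Algebra Γ(X, W) (X.presheaf.stalk η) :=
    TopCat.Presheaf.algebra_section_stalk X.presheaf ⟨η, hηW⟩
  haveI : IsLocalization.AtPrime (X.presheaf.stalk η) q.asIdeal :=
    hW.isLocalization_stalk ⟨η, hηW⟩
  rw [IsLocalization.AtPrime.ringKrullDim_eq_height p.asIdeal (X.presheaf.stalk ξ)] at hdim
  rw [IsLocalization.AtPrime.ringKrullDim_eq_height q.asIdeal (X.presheaf.stalk η)]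
  have h1 : p.asIdeal.height ≤ 1 := by exact_mod_cast hdim
  have h2 := Ideal.height_add_one_le_of_lt_of_isPrime hlt
  have h3 : q.asIdeal.height + 1 ≤ 1 := h2.trans h1
  have hne_top : q.asIdeal.height ≠ ⊤ :=
    ne_top_of_le_ne_top (by simp : (1 : ℕ∞) ≠ ⊤) (le_self_add.trans h3)
  have h4 : q.asIdeal.height = 0 :=
    Order.lt_one_iff.mp ((ENat.add_one_le_iff hne_top).mp h3)
  rw [h4]; rfl

/-- `V.ι` is affine iff the intersection of `V` with every affine open is affine. -/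
theorem isAffineHom_ι_iff {X : Scheme.{u}} (V : X.Opens) :
    IsAffineHom V.ι ↔ ∀ W : X.Opens, IsAffineOpen W → IsAffineOpen (V ⊓ W) := by
  rw [isAffineHom_iff]
  refine forall₂_congr fun W hW => ?_
  rw [← V.ι.isAffineOpen_iff_of_isOpenImmersion, V.ι.image_preimage_eq_opensRange_inf,
    Scheme.Opens.opensRange_ι]

theorem isAffineHom_ι_inf {X : Scheme.{u}} (V₁ V₂ : X.Opens) (h₁ : IsAffineHom V₁.ι)
    (h₂ : IsAffineHom V₂.ι) : IsAffineHom (V₁ ⊓ V₂).ι := by
  rw [isAffineHom_ι_iff] at h₁ h₂ ⊢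
  intro W hW
  rw [inf_assoc]
  exact h₁ _ (h₂ W hW)

/-- Key: if `U` is a dense open, `U ≤ V`, `V.ι` affine, then a maximal point of the complement of
`V` is a maximal point of the complement of `U`. -/
theorem maximal_compl_of_maximal_compl (S : Scheme.{u}) [IsLocallyNoetherian S] (U V : S.Opens)
    (hUV : U ≤ V) (hU : Dense (U : Set S)) [IsAffineHom V.ι] (ξ : S) (hξ : ξ ∉ V)
    (hmax : ∀ η : S, η ∉ V → η ⤳ ξ → η = ξ) :
    ξ ∉ U ∧ ∀ η : S, η ∉ U → η ⤳ ξ → η = ξ := by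
  refine ⟨fun h => hξ (hUV h), fun η hη hηξ => ?_⟩
  by_contra hne
  have hdim : ringKrullDim (S.presheaf.stalk ξ) ≤ 1 := Groth.Agent.S2851.result S V ξ hξ hmax
  have h0 := stalk_dim_eq_zero_of_specializes S hηξ hne hdim
  exact Groth.Agent.Lib.AffineComplDim9.ringKrullDim_stalk_ne_zero_of_dense S U η hη hU h0


open AlgebraicGeometry in
/-- For a Noetherian scheme S that is separated, and a dense open subset U ⊆ S that is not empty, only
finitely many open subsets V ⊇ U have an affine inclusion morphism V → S, and among them there is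
one contained in all the others (a least element for inclusion). -/
theorem result
    (S : Scheme.{u}) [IsNoetherian S] [S.IsSeparated] (U : S.Opens)
    (hne : (U : Set S).Nonempty) (hU : Dense (U : Set S)) :
    Set.Finite {V : S.Opens | U ≤ V ∧ IsAffineHom V.ι} ∧
      ∃ V₀ : S.Opens, (U ≤ V₀ ∧ IsAffineHom V₀.ι) ∧
        ∀ V : S.Opens, U ≤ V → IsAffineHom V.ι → V₀ ≤ V := by
  classical
  have hfin : Set.Finite {V : S.Opens | U ≤ V ∧ IsAffineHom V.ι} := by
    set T : Set S := {ξ | ξ ∈ (U : Set S)ᶜ ∧ ∀ η ∈ (U : Set S)ᶜ, η ⤳ ξ → η = ξ} with hT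
    have hTfin : T.Finite := finite_maximal_points U.2.isClosed_compl
    have key : ∀ V : S.Opens, U ≤ V → IsAffineHom V.ι →
        (V : Set S)ᶜ = {x | ∃ ξ ∈ T ∩ (V : Set S)ᶜ, ξ ⤳ x} := by
      intro V hUV hV
      ext x
      constructor
      · intro hx
        obtain ⟨ξ, hξV, hξx, hmax⟩ := exists_maximal_generization V.2.isClosed_compl hx
        have := maximal_compl_of_maximal_compl S U V hUV hU ξ hξV hmax
        exact ⟨ξ, ⟨⟨this.1, this.2⟩, hξV⟩, hξx⟩
      · rintro ⟨ξ, ⟨-, hξV⟩, hξx⟩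
        exact hξx.mem_closed V.2.isClosed_compl hξV
    refine Set.Finite.of_injOn (f := fun V : S.Opens => T ∩ (V : Set S)ᶜ) (t := {b | b ⊆ T})
      ?_ ?_ hTfin.finite_subsets
    · intro V _
      exact Set.inter_subset_left
    · intro V₁ h₁ V₂ h₂ he
      have he' : T ∩ (V₁ : Set S)ᶜ = T ∩ (V₂ : Set S)ᶜ := he
      have h12 : (V₁ : Set S)ᶜ = (V₂ : Set S)ᶜ := by
        rw [key V₁ h₁.1 h₁.2, key V₂ h₂.1 h₂.2, he']
      exact TopologicalSpace.Opens.ext (compl_injective h12)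
  refine ⟨hfin, hfin.toFinset.inf id, ?_, ?_⟩
  · refine Finset.inf_induction (p := fun V : S.Opens => U ≤ V ∧ IsAffineHom V.ι) ?_ ?_ ?_
    · exact ⟨le_top, (isAffineHom_ι_iff ⊤).mpr (fun W hW => by rwa [top_inf_eq])⟩
    · intro V₁ h₁ V₂ h₂
      exact ⟨le_inf h₁.1 h₂.1, isAffineHom_ι_inf V₁ V₂ h₁.2 h₂.2⟩
    · intro V hV
      exact hfin.mem_toFinset.mp hV
  · intro V hUV hV
    exact Finset.inf_le (f := id) (hfin.mem_toFinset.mpr ⟨hUV, hV⟩)

end Groth.Agent.S13043
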