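import Groth.Statements.S13045
import Mathlib.LinearAlgebra.DirectSum.Finsupp
-- import your own Groth.Agent.* helpers here

set_option autoImplicit false
universe u
open FrobAlg

namespace Groth.Agent.S13045

section General

open TensorProduct

variable {R : Type*} [CommRing R] {κ : Type*} {N : κ → Type*} [∀ k, AddCommGroup (N k)]
  [∀ k, Module R (N k)]

/-- Naturality of `finsuppScalarLeft`. -/
theorem finsuppScalarLeft_lTensor {ι : Type*} [DecidableEq ι] {P Q : Type*} [AddCommGroup P]
    [Module R P] [AddCommGroup Q] [Module R Q] (g : P →ₗ[R] Q) (x : (ι →₀ R) ⊗[R] P) (i : ι) :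
    TensorProduct.finsuppScalarLeft R Q ι (LinearMap.lTensor (ι →₀ R) g x) i =
      g (TensorProduct.finsuppScalarLeft R P ι x i) := by
  induction x using TensorProduct.induction_on with
  | zero => simp
  | tmul a b =>
    rw [LinearMap.lTensor_tmul, TensorProduct.finsuppScalarLeft_apply_tmul_apply,
      TensorProduct.finsuppScalarLeft_apply_tmul_apply, map_smul]
  | add x y hx hy =>
    rw [map_add, map_add, Finsupp.add_apply, hx, hy, map_add, Finsupp.add_apply, map_add]

/-- Free case: for `F = ι →₀ R` and a submodule `P` of a product, `F ⊗ P → Π (F ⊗ N k)` is injective. -/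
theorem injective_pi_lTensor_free (ι : Type*) (P : Submodule R (Π k, N k)) :
    Function.Injective
      (LinearMap.pi fun k : κ => LinearMap.lTensor (ι →₀ R) (LinearMap.proj k ∘ₗ P.subtype) :
        (ι →₀ R) ⊗[R] P →ₗ[R] Π k, (ι →₀ R) ⊗[R] N k) := by
  classical
  rw [injective_iff_map_eq_zero]
  intro x hx
  apply (TensorProduct.finsuppScalarLeft R P ι).injective
  rw [map_zero]
  ext i : 1
  rw [Finsupp.zero_apply]
  apply Subtype.ext
  funext k
  have h1 : LinearMap.lTensor (ι →₀ R) (LinearMap.proj k ∘ₗ P.subtype) x = 0 := congrFun hx k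
  have h2 := finsuppScalarLeft_lTensor (LinearMap.proj k ∘ₗ P.subtype) x i
  rw [h1] at h2
  simpa using h2.symm

/-- For a projective module `M` and a submodule `P` of a product `Π k, N k`, the natural map
`M ⊗ P → Π k, M ⊗ N k` is injective. -/
theorem injective_pi_lTensor (M : Type*) [AddCommGroup M] [Module R M] [Module.Projective R M]
    (P : Submodule R (Π k, N k)) :
    Function.Injective
      (LinearMap.pi fun k : κ => LinearMap.lTensor M (LinearMap.proj k ∘ₗ P.subtype) :
        M ⊗[R] P →ₗ[R] Π k, M ⊗[R] N k) := by
  obtain ⟨s, hs⟩ := (Module.projective_def' (R := R) (P := M)).1 inferInstance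
  rw [injective_iff_map_eq_zero]
  intro x hx
  have h0 : LinearMap.rTensor P s x = 0 := by
    apply injective_pi_lTensor_free M P
    rw [map_zero]
    funext k
    rw [LinearMap.pi_apply, Pi.zero_apply, ← LinearMap.comp_apply, LinearMap.lTensor_comp_rTensor,
      ← LinearMap.rTensor_comp_lTensor, LinearMap.comp_apply]
    have h1 : LinearMap.lTensor M (LinearMap.proj k ∘ₗ P.subtype) x = 0 := congrFun hx k
    rw [h1, map_zero]
  have h2 : LinearMap.rTensor P (Finsupp.linearCombination R id) (LinearMap.rTensor P s x) = x := by
    rw [← LinearMap.comp_apply, ← LinearMap.rTensor_comp, hs, LinearMap.rTensor_id,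
      LinearMap.id_apply]
  rw [← h2, h0, map_zero]

end General

open TensorProduct in
/-- Let p be a prime, R a commutative ring of characteristic p and A a commutative R-algebra of
characteristic p, with Frobenius twists A^{p^i/R} = R ⊗_{F^i,R} A, relative Frobenius maps F_i :
A^{p^{i+1}/R} → A^{p^i/R} and preperfection A^{p^∞/R} = lim_i A^{p^i/R} ⊆ Π_i A^{p^i/R}. For every
projective R-module M the natural map M ⊗_R A^{p^∞/R} → Π_i (M ⊗_R A^{p^i/R}), m ⊗ x ↦ (m ⊗ x_i)_i,
is injective; in particular the base change map M ⊗_R lim_i A^{p^i/R} → lim_i (M ⊗_R A^{p^i/R}) is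
injective. (The published statement is phrased for a projective R-algebra R′ in place of M; the
printed argument is the module statement given here.) -/
theorem result
    (p : ℕ) [Fact p.Prime] (R : Type u) [CommRing R] [CharP R p]
    (A : Type u) [CommRing A] [Algebra R A] [CharP A p]
    (M : Type u) [AddCommGroup M] [Module R M] [Module.Projective R M] :
    Function.Injective
      (LinearMap.pi fun i : ℕ =>
        LinearMap.lTensor M
          (((Pi.evalAlgHom R (fun k => W4c1imperftorsors.Twist p R A k) i).comp
            (W4c1imperftorsors.prePerf p R A).val).toLinearMap) :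
        M ⊗[R] ↥(W4c1imperftorsors.prePerf p R A) →ₗ[R] (Π i : ℕ, M ⊗[R] W4c1imperftorsors.Twist p R A i)) := by
  exact injective_pi_lTensor (N := fun k => W4c1imperftorsors.Twist p R A k) M
    (Subalgebra.toSubmodule (W4c1imperftorsors.prePerf p R A))

end Groth.Agent.S13045
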