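import Groth.Statements.S13046
import Groth.Agent.S13045
import Mathlib.RingTheory.Finiteness.Projective
-- import your own Groth.Agent.* helpers here

set_option autoImplicit false
universe u
open FrobAlg

namespace Groth.Agent.S13046

section General

open TensorProduct

variable {R : Type*} [CommRing R] {N : ℕ → Type*} [∀ k, AddCommGroup (N k)]
  [∀ k, Module R (N k)] (Fr : ∀ k, N (k + 1) →ₗ[R] N k) (P : Submodule R (Π k, N k))

/-- The natural map `M ⊗ P → Π k, M ⊗ N k`. -/
noncomputable abbrev Tmap (M : Type*) [AddCommGroup M] [Module R M] :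
    M ⊗[R] P →ₗ[R] Π k, M ⊗[R] N k :=
  LinearMap.pi fun k : ℕ => LinearMap.lTensor M (LinearMap.proj k ∘ₗ P.subtype)

theorem Tmap_apply (M : Type*) [AddCommGroup M] [Module R M] (x : M ⊗[R] P) (k : ℕ) :
    Tmap P M x k = LinearMap.lTensor M (LinearMap.proj k ∘ₗ P.subtype) x := rfl

variable {Fr P}

theorem compat_of_mem_range (hP : ∀ x : Π k, N k, x ∈ P ↔ ∀ k, Fr k (x (k + 1)) = x k)
    (M : Type*) [AddCommGroup M] [Module R M] (x : M ⊗[R] P) (k : ℕ) :
    LinearMap.lTensor M (Fr k) (Tmap P M x (k + 1)) = Tmap P M x k := by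
  rw [Tmap_apply, Tmap_apply, ← LinearMap.comp_apply, ← LinearMap.lTensor_comp]
  congr 2
  ext z
  exact (hP z.1).1 z.2 k

/-- Free case. -/
theorem mem_range_free (hP : ∀ x : Π k, N k, x ∈ P ↔ ∀ k, Fr k (x (k + 1)) = x k)
    (ι : Type*) [Fintype ι] [DecidableEq ι] (y : Π k, (ι →₀ R) ⊗[R] N k)
    (hy : ∀ k, LinearMap.lTensor (ι →₀ R) (Fr k) (y (k + 1)) = y k) :
    y ∈ LinearMap.range (Tmap P (ι →₀ R)) := by
  let c : ∀ k, ι →₀ N k := fun k => TensorProduct.finsuppScalarLeft R (N k) ι (y k)
  have hc : ∀ k i, Fr k (c (k + 1) i) = c k i := by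
    intro k i
    have := Groth.Agent.S13045.finsuppScalarLeft_lTensor (Fr k) (y (k + 1)) i
    rw [hy k] at this
    exact this.symm
  let Pi' : ι → P := fun i => ⟨fun k => c k i, (hP _).2 fun k => hc k i⟩
  refine ⟨∑ i : ι, (Finsupp.single i (1 : R)) ⊗ₜ[R] Pi' i, ?_⟩
  funext k
  rw [Tmap_apply, map_sum]
  have h1 : y k = (TensorProduct.finsuppScalarLeft R (N k) ι).symm (c k) :=
    ((TensorProduct.finsuppScalarLeft R (N k) ι).symm_apply_apply (y k)).symm
  rw [h1, ← Finsupp.univ_sum_single (c k), map_sum]
  refine Finset.sum_congr rfl fun i _ => ?_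
  rw [LinearMap.lTensor_tmul, TensorProduct.finsuppScalarLeft_symm_apply_single]
  rfl

/-- For a finitely generated projective module `M`, the image of `M ⊗ P → Π k, M ⊗ N k` consists of the
compatible sequences, when `P` is the module of compatible sequences. -/
theorem mem_range_iff (hP : ∀ x : Π k, N k, x ∈ P ↔ ∀ k, Fr k (x (k + 1)) = x k)
    (M : Type*) [AddCommGroup M] [Module R M] [Module.Finite R M] [Module.Projective R M]
    (y : Π k, M ⊗[R] N k) :
    y ∈ LinearMap.range (Tmap P M) ↔ ∀ k, LinearMap.lTensor M (Fr k) (y (k + 1)) = y k := by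
  classical
  constructor
  · rintro ⟨x, rfl⟩ k
    exact compat_of_mem_range hP M x k
  · intro hy
    obtain ⟨n, f, g, -, -, hfg⟩ := Module.Finite.exists_comp_eq_id_of_projective R M
    let e := Finsupp.linearEquivFunOnFinite R R (Fin n)
    let s : M →ₗ[R] (Fin n →₀ R) := e.symm.toLinearMap ∘ₗ g
    let π : (Fin n →₀ R) →ₗ[R] M := f ∘ₗ e.toLinearMap
    have hπs : π ∘ₗ s = LinearMap.id := by
      ext m
      simp only [π, s, LinearMap.comp_apply, LinearEquiv.coe_coe, LinearEquiv.apply_symm_apply]
      exact LinearMap.congr_fun hfg m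
    let y' : Π k, (Fin n →₀ R) ⊗[R] N k := fun k => LinearMap.rTensor (N k) s (y k)
    have hy' : ∀ k, LinearMap.lTensor (Fin n →₀ R) (Fr k) (y' (k + 1)) = y' k := by
      intro k
      simp only [y']
      rw [← LinearMap.comp_apply, LinearMap.lTensor_comp_rTensor, ← LinearMap.rTensor_comp_lTensor,
        LinearMap.comp_apply, hy k]
    obtain ⟨z, hz⟩ := mem_range_free hP (Fin n) y' hy'
    refine ⟨LinearMap.rTensor P π z, ?_⟩
    funext k
    rw [Tmap_apply, ← LinearMap.comp_apply, LinearMap.lTensor_comp_rTensor,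
      ← LinearMap.rTensor_comp_lTensor, LinearMap.comp_apply]
    have hz' : LinearMap.lTensor (Fin n →₀ R) (LinearMap.proj k ∘ₗ P.subtype) z = y' k :=
      congrFun hz k
    rw [hz']
    simp only [y']
    rw [← LinearMap.comp_apply, ← LinearMap.rTensor_comp, hπs, LinearMap.rTensor_id,
      LinearMap.id_apply]

end General

open TensorProduct in
/-- Let p be a prime, R a commutative ring of characteristic p and A a commutative R-algebra of
characteristic p, with Frobenius twists A^{p^i/R} = R ⊗_{F^i,R} A, relative Frobenius maps F_i :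
A^{p^{i+1}/R} → A^{p^i/R} and preperfection A^{p^∞/R} = lim_i A^{p^i/R} ⊆ Π_i A^{p^i/R}. For every
finitely generated projective R-module M, a sequence y ∈ Π_i (M ⊗_R A^{p^i/R}) lies in the image of
the natural map M ⊗_R A^{p^∞/R} → Π_i (M ⊗_R A^{p^i/R}), m ⊗ x ↦ (m ⊗ x_i)_i, if and only if (M ⊗
F_i)(y_{i+1}) = y_i for all i: the image is exactly the module of compatible sequences. Together
with the injectivity of that map, which holds for every projective M, this says that the base change
map M ⊗_R lim_i A^{p^i/R} → lim_i (M ⊗_R A^{p^i/R}) is an isomorphism. (The published statement is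
phrased for a finite locally free R-algebra R′ in place of M and identifies the target with the
preperfection of A ⊗_R R′ over R′; the printed argument is the module statement given here, and that
identification is not part of this row; the injectivity half is stated separately for all projective
M.) -/
theorem result
    (p : ℕ) [Fact p.Prime] (R : Type u) [CommRing R] [CharP R p]
    (A : Type u) [CommRing A] [Algebra R A] [CharP A p]
    (M : Type u) [AddCommGroup M] [Module R M] [Module.Finite R M] [Module.Projective R M]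
    (y : Π i : ℕ, M ⊗[R] W4c1imperftorsors.Twist p R A i) :
    y ∈ LinearMap.range
        (LinearMap.pi fun i : ℕ =>
        LinearMap.lTensor M
          (((Pi.evalAlgHom R (fun k => W4c1imperftorsors.Twist p R A k) i).comp
            (W4c1imperftorsors.prePerf p R A).val).toLinearMap) :
        M ⊗[R] ↥(W4c1imperftorsors.prePerf p R A) →ₗ[R] (Π i : ℕ, M ⊗[R] W4c1imperftorsors.Twist p R A i)) ↔
      ∀ i : ℕ, LinearMap.lTensor M (W4c1imperftorsors.relFrob p R A i).toLinearMap (y (i + 1)) = y i := by
  have hP : ∀ x : Π k, W4c1imperftorsors.Twist p R A k,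
      x ∈ Subalgebra.toSubmodule (W4c1imperftorsors.prePerf p R A) ↔
        ∀ k, (W4c1imperftorsors.relFrob p R A k).toLinearMap (x (k + 1)) = x k := by
    intro x
    rw [Subalgebra.mem_toSubmodule, W4c1imperftorsors.prePerf, Algebra.mem_iInf]
    rfl
  exact mem_range_iff (N := fun k => W4c1imperftorsors.Twist p R A k)
    (Fr := fun k => (W4c1imperftorsors.relFrob p R A k).toLinearMap) hP M y

end Groth.Agent.S13046
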