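import Groth.Statements.S13048
-- import your own Groth.Agent.* helpers here
import Mathlib

set_option autoImplicit false
set_option linter.style.haveILetI false
universe u
open FrobAlg

namespace Groth.Agent.S13048

/-- Let k be an algebraically closed field of characteristic p > 0 and let A be a reduced finitely
generated commutative k-algebra with connected spectrum (A ≠ 0 and 0, 1 are its only idempotents).
If x ∈ A is a p^n-th power in A for every n ≥ 0, then x lies in the image of k; that is, ⋂_n A^{p^n}
= k. (The published statement is: for an artinian local ring R of characteristic p and a flat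
R-algebra A of finite type, the maps A^ét → O(π₀(A)) → A^{p^∞/R} from the largest étale subalgebra
to the preperfection are isomorphisms. This row is the case R = k algebraically closed and A reduced
with connected spectrum, where A^ét = k and the preperfection is ⋂_n A^{p^n}; the printed proof
reduces to this case and its last step proves it.) -/
theorem result
    (p : ℕ) [Fact p.Prime] (k : Type u) [Field k] [IsAlgClosed k] [CharP k p]
    (A : Type u) [CommRing A] [Algebra k A] [Algebra.FiniteType k A] [IsReduced A] [Nontrivial A]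
    (hconn : ∀ e : A, IsIdempotentElem e → e = 0 ∨ e = 1)
    (x : A) (hx : ∀ n : ℕ, ∃ a : A, a ^ p ^ n = x) :
    x ∈ (algebraMap k A).range := by
  classical
  haveI : CharP A p := charP_of_injective_algebraMap (algebraMap k A).injective p
  haveI : IsNoetherianRing A := Algebra.FiniteType.isNoetherianRing k A
  haveI : PerfectRing k p := inferInstance
  have key : ∀ (m : Ideal A), m.IsMaximal → ∃ (c : k) (s : A), s ∉ m ∧
      s * (x - algebraMap k A c) = 0 ∧ x - algebraMap k A c ∈ m := by
    intro m hm
    letI : Field (A ⧸ m) := Ideal.Quotient.field m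
    haveI : Algebra.FiniteType k (A ⧸ m) :=
      Algebra.FiniteType.of_surjective (Ideal.Quotient.mkₐ k m) Ideal.Quotient.mk_surjective
    haveI : Module.Finite k (A ⧸ m) := finite_of_finite_type_of_isJacobsonRing k (A ⧸ m)
    have hsurj : Function.Surjective (algebraMap k (A ⧸ m)) :=
      (IsAlgClosed.algebraMap_bijective_of_isIntegral (k := k)).2
    obtain ⟨c, hc⟩ := hsurj (Ideal.Quotient.mk m x)
    have hmem : x - algebraMap k A c ∈ m := by
      rw [← Ideal.Quotient.eq]
      exact hc.symm
    have hy : ∀ i : ℕ, x - algebraMap k A c ∈ m ^ i := by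
      intro i
      obtain ⟨a, ha⟩ := hx i
      obtain ⟨c', hc'⟩ := (bijective_iterateFrobenius k p i).2 c
      have h1 : x - algebraMap k A c = (a - algebraMap k A c') ^ p ^ i := by
        rw [sub_pow_char_pow, ha, ← map_pow, ← hc', iterateFrobenius_def]
      have h2 : a - algebraMap k A c' ∈ m := by
        apply (Ideal.IsMaximal.isPrime hm).mem_of_pow_mem (p ^ i)
        rw [← h1]; exact hmem
      rw [h1]
      exact Ideal.pow_le_pow_right (Nat.lt_pow_self (Fact.out : p.Prime).one_lt).le
        (Ideal.pow_mem_pow h2 _)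
    have hy' : x - algebraMap k A c ∈ (⨅ i : ℕ, m ^ i • ⊤ : Submodule A A) := by
      simp only [Submodule.mem_iInf]
      intro i
      simpa using hy i
    obtain ⟨r, hr⟩ := (Ideal.mem_iInf_smul_pow_eq_bot_iff m _).mp hy'
    refine ⟨c, 1 - r, ?_, ?_, hmem⟩
    · intro h
      have := m.add_mem h r.2
      rw [sub_add_cancel] at this
      exact hm.ne_top ((Ideal.eq_top_iff_one m).mpr this)
    · rw [sub_mul, one_mul, ← smul_eq_mul (r : A), hr, sub_self]
  obtain ⟨m₀, hm₀⟩ := Ideal.exists_maximal A
  obtain ⟨c₀, s₀, hs₀, hz₀, hmem₀⟩ := key m₀ hm₀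
  refine ⟨c₀, ?_⟩
  set y := x - algebraMap k A c₀ with hy
  suffices hy0 : y = 0 by
    rw [hy, sub_eq_zero] at hy0
    exact hy0.symm
  set Z : Set (PrimeSpectrum A) := PrimeSpectrum.zeroLocus {y} with hZ
  have hopen : IsOpen Z := by
    rw [isOpen_iff_forall_mem_open]
    intro P hP
    obtain ⟨m, hm, hPm⟩ := Ideal.exists_le_maximal P.asIdeal P.2.ne_top
    obtain ⟨c, s, hs, hz, hmem⟩ := key m hm
    have hyP : y ∈ P.asIdeal := by
      rw [hZ, PrimeSpectrum.mem_zeroLocus] at hP
      exact hP (Set.mem_singleton y)
    have hcc : c = c₀ := by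
      by_contra hne
      have h1 : algebraMap k A (c - c₀) ∈ m := by
        have := m.sub_mem (hPm hyP) hmem
        rw [hy] at this
        rw [map_sub]
        convert this using 1
        ring
      have h2 : IsUnit (algebraMap k A (c - c₀)) :=
        (IsUnit.mk0 _ (sub_ne_zero.mpr hne)).map _
      exact hm.ne_top (Ideal.eq_top_of_isUnit_mem m h1 h2)
    subst hcc
    refine ⟨PrimeSpectrum.basicOpen s, ?_, (PrimeSpectrum.basicOpen s).2, ?_⟩
    · intro Q hQ
      rw [hZ, PrimeSpectrum.mem_zeroLocus]
      intro z hz'
      rw [Set.mem_singleton_iff.mp hz']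
      have : s * y ∈ Q.asIdeal := by rw [hz]; exact Q.asIdeal.zero_mem
      rcases Q.2.mem_or_mem this with h | h
      · exact absurd h hQ
      · exact h
    · intro hsP
      exact hs (hPm hsP)
  have hclopen : IsClopen Z := ⟨PrimeSpectrum.isClosed_zeroLocus _, hopen⟩
  obtain ⟨e, he, hZe⟩ := PrimeSpectrum.isClopen_iff.mp hclopen
  have hm₀Z : (⟨m₀, hm₀.isPrime⟩ : PrimeSpectrum A) ∈ Z := by
    rw [hZ, PrimeSpectrum.mem_zeroLocus]
    intro z hz'
    rw [Set.mem_singleton_iff.mp hz']
    exact hmem₀
  rcases hconn e he with h0 | h1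
  · rw [hZe, h0] at hm₀Z
    simp at hm₀Z
  · have hall : ∀ P : PrimeSpectrum A, y ∈ P.asIdeal := by
      intro P
      have : P ∈ Z := by
        rw [hZe, h1]
        simp
      rw [hZ, PrimeSpectrum.mem_zeroLocus] at this
      exact this (Set.mem_singleton y)
    have hnil : IsNilpotent y := by
      rw [nilpotent_iff_mem_prime]
      intro J hJ
      exact hall ⟨J, hJ⟩
    exact hnil.eq_zero

end Groth.Agent.S13048
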