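import Groth.Statements.S13050
import Groth.Agent.Lib.H73ZetaPts

set_option autoImplicit false
universe u
open CategoryTheory AlgebraicGeometry
open Zeta

namespace Groth.Agent.S13050

open Groth.Agent.Lib.H30DimField in
theorem fromSpecResidueField_base (k : Type u) [Field k] (s : Spec (CommRingCat.of k)) :
    (Spec (CommRingCat.of k)).fromSpecResidueField s =
      Spec.map (CommRingCat.ofHom (baseMap k s)) := by
  rw [← Scheme.Spec.map_residueFieldIso_inv_eq_fromSpecResidueField, ← Spec.map_comp]
  congr 1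
  rw [Scheme.Spec.algebraMap_residueFieldIso_inv]
  rfl


open Groth.Agent.Lib.H30DimField in
/-- the structure map `k → κ(x)` -/
noncomputable def ρ {k : Type u} [Field k] {X : Scheme.{u}} (f : X ⟶ Spec (CommRingCat.of k))
    (x : X) : CommRingCat.of k ⟶ X.residueField x :=
  CommRingCat.ofHom (baseMap k (f.base x)) ≫ f.residueFieldMap x

theorem fromSpecResidueField_comp {k : Type u} [Field k] {X : Scheme.{u}}
    (f : X ⟶ Spec (CommRingCat.of k)) (x : X) :
    X.fromSpecResidueField x ≫ f = Spec.map (ρ f x) := by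
  rw [ρ, Spec.map_comp, ← fromSpecResidueField_base,
    Scheme.Hom.SpecMap_residueFieldMap_fromSpecResidueField]

open Groth.Agent.Lib.H30DimField in
theorem finrank_ρ {k : Type u} [Field k] {X : Scheme.{u}} (f : X ⟶ Spec (CommRingCat.of k))
    (x : X) :
    @Module.finrank k (X.residueField x) _ _ (ρ f x).hom.toAlgebra.toModule =
      EGA4loc.residueDegree f x := by
  letI a1 : Algebra k (X.residueField x) := (ρ f x).hom.toAlgebra
  letI a2 : Algebra ((Spec (CommRingCat.of k)).residueField (f.base x)) (X.residueField x) :=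
    (f.residueFieldMap x).hom.toAlgebra
  unfold EGA4loc.residueDegree
  exact Algebra.finrank_eq_of_equiv_equiv (baseEquiv k (f.base x)) (RingEquiv.refl _)
    (by ext; rfl)

/-- points of positive residue degree are closed -/
theorem isClosed_of_residueDegree_pos {k : Type u} [Field k] {X : Scheme.{u}}
    (f : X ⟶ Spec (CommRingCat.of k)) [LocallyOfFiniteType f] (x : X)
    (h : 0 < EGA4loc.residueDegree f x) : IsClosed ({x} : Set X) := by
  haveI : JacobsonSpace X := LocallyOfFiniteType.jacobsonSpace f
  rw [isClosed_singleton_iff_locallyOfFiniteType]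
  haveI : LocallyOfFiniteType (X.fromSpecResidueField x ≫ f) := by
    rw [fromSpecResidueField_comp, HasRingHomProperty.Spec_iff (P := @LocallyOfFiniteType)]
    letI a1 : Algebra k (X.residueField x) := (ρ f x).hom.toAlgebra
    haveI : Module.Finite k (X.residueField x) :=
      Module.finite_of_finrank_pos (by rw [finrank_ρ]; exact h)
    have : (algebraMap k (X.residueField x)).Finite := this
    exact RingHom.FiniteType.of_finite this
  exact locallyOfFiniteType_of_comp (X.fromSpecResidueField x) f


/-- a subtype of a sigma type as a sigma type of subtypes -/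
def sigmaSubtypeEquiv {α : Type*} {B : α → Type*} (p : ∀ a, B a → Prop) :
    {y : Σ a, B a // p y.1 y.2} ≃ Σ a, {b : B a // p a b} where
  toFun y := ⟨y.1.1, ⟨y.1.2, y.2⟩⟩
  invFun z := ⟨⟨z.1, z.2.1⟩, z.2.2⟩
  left_inv y := by rcases y with ⟨⟨a, b⟩, h⟩; rfl
  right_inv z := by rcases z with ⟨a, ⟨b, h⟩⟩; rfl

section count

variable {k : Type u} [Field k] {X : Scheme.{u}} (f : X ⟶ Spec (CommRingCat.of k))
  (k' : Type u) [Field k'] [Algebra k k']

/-- `k`-homomorphisms `κ(x) → k'` -/
def H (x : X) : Type u :=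
  {φ : X.residueField x ⟶ CommRingCat.of k' //
    ρ f x ≫ φ = CommRingCat.ofHom (algebraMap k k')}

theorem cond_iff (g : Spec (CommRingCat.of k') ⟶ X) :
    g ≫ f = Spec.map (CommRingCat.ofHom (algebraMap k k')) ↔
      ρ f (Scheme.SpecToEquivOfField k' X g).1 ≫ (Scheme.SpecToEquivOfField k' X g).2 =
        CommRingCat.ofHom (algebraMap k k') := by
  have hg : g = Spec.map ((Scheme.SpecToEquivOfField k' X g).2) ≫
      X.fromSpecResidueField (Scheme.SpecToEquivOfField k' X g).1 :=
    ((Scheme.SpecToEquivOfField k' X).symm_apply_apply g).symm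
  have hgf : g ≫ f = Spec.map (ρ f (Scheme.SpecToEquivOfField k' X g).1 ≫
      (Scheme.SpecToEquivOfField k' X g).2) := by
    conv_lhs => rw [hg]
    rw [Category.assoc, fromSpecResidueField_comp, ← Spec.map_comp]
  rw [hgf, Spec.map_inj]

/-- points as pairs -/
noncomputable def pointsEquiv :
    {g : Spec (CommRingCat.of k') ⟶ X //
      g ≫ f = Spec.map (CommRingCat.ofHom (algebraMap k k'))} ≃
    {y : (Σ x : X, X.residueField x ⟶ CommRingCat.of k') //
      ρ f y.1 ≫ y.2 = CommRingCat.ofHom (algebraMap k k')} :=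
  (Scheme.SpecToEquivOfField k' X).subtypeEquiv (cond_iff f k')

/-- pairs as a sigma type -/
def pairsEquiv :
    {y : (Σ x : X, X.residueField x ⟶ CommRingCat.of k') //
      ρ f y.1 ≫ y.2 = CommRingCat.ofHom (algebraMap k k')} ≃ Σ x : X, H f k' x where
  toFun y := ⟨y.1.1, ⟨y.1.2, y.2⟩⟩
  invFun z := ⟨⟨z.1, z.2.1⟩, z.2.2⟩
  left_inv y := by rcases y with ⟨⟨a, b⟩, h⟩; rfl
  right_inv z := by rcases z with ⟨a, ⟨b, h⟩⟩; rfl

theorem card_points :
    Nat.card {g : Spec (CommRingCat.of k') ⟶ X //
      g ≫ f = Spec.map (CommRingCat.ofHom (algebraMap k k'))} = Nat.card (Σ x : X, H f k' x) :=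
  Nat.card_congr ((pointsEquiv f k').trans (pairsEquiv f k'))

/-- `H x` as algebra homomorphisms -/
noncomputable def Hequiv (x : X) :
    H f k' x ≃ @AlgHom k (X.residueField x) k' _ _ _ (ρ f x).hom.toAlgebra _ :=
  letI a1 : Algebra k (X.residueField x) := (ρ f x).hom.toAlgebra
  { toFun := fun φ =>
      { φ.1.hom with
        commutes' := fun c => by
          have := congr($(φ.2) c)
          exact this }
    invFun := fun ψ => ⟨CommRingCat.ofHom ψ.toRingHom, by
      ext c
      exact ψ.commutes c⟩
    left_inv := fun φ => by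
      apply Subtype.ext
      rfl
    right_inv := fun ψ => by
      ext c
      rfl }

variable [Finite k']

theorem card_H_of_dvd (x : X) (h : EGA4loc.residueDegree f x ∣ Module.finrank k k') :
    Nat.card (H f k' x) = EGA4loc.residueDegree f x := by
  letI a1 : Algebra k (X.residueField x) := (ρ f x).hom.toAlgebra
  rw [Nat.card_congr (Hequiv f k' x), ← finrank_ρ f x]
  exact FiniteField.natCard_algHom_of_finrank_dvd (by rw [finrank_ρ f x]; exact h)

theorem dvd_of_H (x : X) (φ : H f k' x) :
    EGA4loc.residueDegree f x ∣ Module.finrank k k' := by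
  letI a1 : Algebra k (X.residueField x) := (ρ f x).hom.toAlgebra
  rw [← finrank_ρ f x]
  exact FiniteField.nonempty_algHom_iff_finrank_dvd.mp ⟨Hequiv f k' x φ⟩

end count


theorem main {k : Type u} [Field k] [Finite k] {X : Scheme.{u}}
    (f : X ⟶ Spec (CommRingCat.of k)) [LocallyOfFiniteType f] [QuasiCompact f]
    (k' : Type u) [Field k'] [Algebra k k'] [Finite k'] :
    SgaExt.pointCount f k' = Zeta.nPts f (Module.finrank k k') := by
  classical
  unfold SgaExt.pointCount Zeta.nPts Zeta.degCount
  rw [card_points]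
  haveI : Module.Finite k k' := Module.Finite.of_finite
  have hr0 : Module.finrank k k' ≠ 0 := Module.finrank_pos.ne'
  set r := Module.finrank k k' with hr
  let S : ℕ → Type u := fun e =>
    {x : X // IsClosed ({x} : Set X) ∧ EGA4loc.residueDegree f x = e}
  have hdvd : ∀ p : (Σ x : X, H f k' x), EGA4loc.residueDegree f p.1 ∣ r :=
    fun p => dvd_of_H f k' p.1 p.2
  let Ψ : (Σ x : X, H f k' x) ≃ Σ e : {e // e ∈ r.divisors}, Σ x : S e.1, H f k' x.1 :=
    { toFun := fun p => ⟨⟨EGA4loc.residueDegree f p.1, Nat.mem_divisors.mpr ⟨hdvd p, hr0⟩⟩,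
        ⟨⟨p.1, isClosed_of_residueDegree_pos f p.1
          (Nat.pos_of_dvd_of_pos (hdvd p) (Nat.pos_of_ne_zero hr0)), rfl⟩, p.2⟩⟩
      invFun := fun q => ⟨q.2.1.1, q.2.2⟩
      left_inv := fun p => rfl
      right_inv := fun q => by
        obtain ⟨⟨e, he⟩, ⟨x, hx⟩, φ⟩ := q
        have key : ∀ (e : ℕ) (he : e ∈ r.divisors) (hcl : IsClosed ({x} : Set X))
            (hdx : EGA4loc.residueDegree f x = e) (φ : H f k' x)
            (h1 : EGA4loc.residueDegree f x ∈ r.divisors) (h2 : IsClosed ({x} : Set X)),
            (⟨⟨EGA4loc.residueDegree f x, h1⟩, ⟨⟨x, h2, rfl⟩, φ⟩⟩ :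
              Σ e : {e // e ∈ r.divisors}, Σ x : S e.1, H f k' x.1) =
              ⟨⟨e, he⟩, ⟨⟨x, hcl, hdx⟩, φ⟩⟩ := by
          intro e he hcl hdx
          subst hdx
          intro φ h1 h2
          rfl
        have h1 : EGA4loc.residueDegree f x ∈ r.divisors := by
          have := hx.2
          simp only at this
          rw [this]
          exact he
        exact key e he hx.1 hx.2 φ h1 hx.1 }
  rw [Nat.card_congr Ψ]
  haveI hS : ∀ e : {e // e ∈ r.divisors}, Finite (S e.1) := fun e =>
    ((Groth.Agent.Lib.H73ZetaPts.finite_deg f e.1 (Nat.pos_of_mem_divisors e.2)).subset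
      (fun x hx => hx.2)).to_subtype
  letI hS' : ∀ e : {e // e ∈ r.divisors}, Fintype (S e.1) := fun e => Fintype.ofFinite _
  have hcard : ∀ (e : {e // e ∈ r.divisors}) (x : S e.1), Nat.card (H f k' x.1) = e.1 := by
    intro e x
    rw [card_H_of_dvd f k' x.1 (by rw [x.2.2]; exact Nat.dvd_of_mem_divisors e.2), x.2.2]
  haveI hH : ∀ (e : {e // e ∈ r.divisors}) (x : S e.1), Finite (H f k' x.1) := fun e x =>
    Nat.finite_of_card_ne_zero (by rw [hcard e x]; exact (Nat.pos_of_mem_divisors e.2).ne')
  rw [Nat.card_sigma, ← Finset.sum_coe_sort r.divisors]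
  refine Finset.sum_congr rfl fun e _ => ?_
  rw [Nat.card_sigma, Finset.sum_congr rfl (fun x _ => hcard e x), Finset.sum_const,
    Finset.card_univ, smul_eq_mul, Nat.card_eq_fintype_card, mul_comm]


/-- For a scheme X of finite type over a finite field k and a finite extension k'/k of degree r, the
number of k'-valued points of X over k equals ∑_{e ∣ r} e · #{closed points x of X with [κ(x) : k] =
e}. (Stated for any scheme of finite type over k; the published statement takes X reduced, which
plays no role.) -/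
theorem result {k : Type u} [Field k] [Finite k] {X : Scheme.{u}}
    (f : X ⟶ Spec (CommRingCat.of k)) [LocallyOfFiniteType f] [QuasiCompact f]
    (k' : Type u) [Field k'] [Algebra k k'] [Finite k'] :
    SgaExt.pointCount f k' = Zeta.nPts f (Module.finrank k k') := by
  exact main f k'

end Groth.Agent.S13050
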