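import Groth.Statements.S13051
import Groth.Agent.Lib.H43PSExp
import Mathlib.RingTheory.PowerSeries.Inverse
import Mathlib.Algebra.BigOperators.Field
-- import your own Groth.Agent.* helpers here

set_option autoImplicit false
universe u
open CategoryTheory AlgebraicGeometry
open Zeta

namespace Groth.Agent.S13051

section Helpers

open PowerSeries Groth.Agent.Lib.H43PSExp

/-- `∑_{k ≥ 1} X^(r k) / k`, the logarithm of `1 / (1 - X^r)`. -/
noncomputable def LamR (r : ℕ) : ℚ⟦X⟧ := (Lam (1 : ℚ)).subst (X ^ r : ℚ⟦X⟧)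

theorem coeff_LamR {r : ℕ} (hr : r ≠ 0) (m : ℕ) :
    coeff m (LamR r) = if r ∣ m then (1 : ℚ) / ((m / r : ℕ) : ℚ) else 0 := by
  unfold LamR
  rw [coeff_subst_X_pow hr]
  split_ifs with h
  · simp [Lam]
  · rfl

theorem constantCoeff_LamR {r : ℕ} (hr : r ≠ 0) : constantCoeff (LamR r) = 0 := by
  rw [← coeff_zero_eq_constantCoeff_apply, coeff_LamR hr]
  simp

theorem E_LamR_mul {r : ℕ} (hr : r ≠ 0) : E (LamR r) * (1 - X ^ r) = 1 := by
  have hX : HasSubst (X ^ r : ℚ⟦X⟧) := HasSubst.X_pow hr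
  have hL : HasSubst (Lam (1 : ℚ)) := HasSubst.of_constantCoeff_zero' (constantCoeff_Lam 1)
  have h1 : E (LamR r) = (E (Lam (1 : ℚ))).subst (X ^ r : ℚ⟦X⟧) := by
    unfold E LamR
    rw [subst_comp_subst_apply hL hX]
  have h2 := E_Lam_mul (1 : ℚ)
  rw [map_one, one_mul] at h2
  have h3 : (E (Lam (1 : ℚ)) * (1 - X)).subst (X ^ r : ℚ⟦X⟧) =
      (1 : ℚ⟦X⟧).subst (X ^ r : ℚ⟦X⟧) := by rw [h2]
  rw [subst_mul hX, subst_sub hX, subst_X hX] at h3
  have h4 : (1 : ℚ⟦X⟧).subst (X ^ r : ℚ⟦X⟧) = 1 := by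
    rw [← coe_substAlgHom hX, map_one]
  rw [h4] at h3
  rw [h1, h3]

/-- `E R ≡ 1` modulo `X^(n+1)` when `R ≡ 0` modulo `X^(n+1)`. -/
theorem E_eq_one_add {K : Type*} [Field K] [CharZero K] {n : ℕ} {Rn : K⟦X⟧}
    (h : (X : K⟦X⟧) ^ (n + 1) ∣ Rn) :
    ∃ q : K⟦X⟧, E Rn = 1 + X ^ (n + 1) * q := by
  have hR0 : constantCoeff Rn = 0 := by
    rw [← X_dvd_iff]
    exact dvd_trans (dvd_pow_self X (Nat.succ_ne_zero n)) h
  have hs : HasSubst Rn := HasSubst.of_constantCoeff_zero' hR0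
  obtain ⟨g, hg⟩ : (X : K⟦X⟧) ∣ exp K - 1 := by
    rw [X_dvd_iff]; simp
  obtain ⟨q', hq'⟩ := h
  refine ⟨q' * g.subst Rn, ?_⟩
  have h1 : exp K = 1 + X * g := by rw [← hg]; ring
  unfold E
  rw [h1, subst_add hs, subst_mul hs, subst_X hs]
  have h4 : (1 : K⟦X⟧).subst Rn = 1 := by
    rw [← coe_substAlgHom hs, map_one]
  rw [h4, ← mul_assoc, ← hq']

theorem trunc_one_add (n : ℕ) (q : ℚ⟦X⟧) : trunc (n + 1) (1 + X ^ (n + 1) * q) = 1 := by
  ext m
  rw [coeff_trunc, Polynomial.coeff_one]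
  split_ifs with h1 h2 h2
  · subst h2; simp
  · rw [map_add, coeff_one, if_neg h2, coeff_X_pow_mul', if_neg (by omega), add_zero]
  · omega
  · rfl

theorem coeff_one_add_mul (n : ℕ) (q F : ℚ⟦X⟧) :
    coeff n (F * (1 + X ^ (n + 1) * q)) = coeff n F := by
  rw [mul_add, mul_one, map_add, mul_left_comm, coeff_X_pow_mul', if_neg (by omega), add_zero]

theorem E_sum' {K : Type*} [Field K] [CharZero K] {ι : Type*} (s : Finset ι) (L : ι → K⟦X⟧)
    (h : ∀ i ∈ s, constantCoeff (L i) = 0) :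
    E (∑ i ∈ s, L i) = ∏ i ∈ s, E (L i) := by
  classical
  have h1 : ∑ i ∈ s, L i = ∑ i ∈ s, (if i ∈ s then L i else 0) :=
    Finset.sum_congr rfl fun i hi => by rw [if_pos hi]
  have h2 : ∏ i ∈ s, E (L i) = ∏ i ∈ s, E (if i ∈ s then L i else 0) :=
    Finset.prod_congr rfl fun i hi => by rw [if_pos hi]
  rw [h1, h2]
  apply E_sum
  intro i
  split_ifs with hi
  · exact h i hi
  · exact map_zero _

/-- The truncated logarithm `∑_{e = 1}^{n} a_e log (1 / (1 - X^e))`. -/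
noncomputable def Ln (a : ℕ → ℕ) (n : ℕ) : ℚ⟦X⟧ := ∑ e ∈ Finset.Icc 1 n, (a e : ℚ) • LamR e

theorem constantCoeff_Ln (a : ℕ → ℕ) (n : ℕ) : constantCoeff (Ln a n) = 0 := by
  unfold Ln
  rw [map_sum]
  refine Finset.sum_eq_zero fun e he => ?_
  have he0 : e ≠ 0 := by
    have := (Finset.mem_Icc.1 he).1
    omega
  exact constantCoeff_smul_eq_zero (constantCoeff_LamR he0) _

theorem E_Ln_mul (a : ℕ → ℕ) (n : ℕ) :
    E (Ln a n) * ∏ r ∈ Finset.Icc 1 n, (1 - X ^ r : ℚ⟦X⟧) ^ a r = 1 := by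
  unfold Ln
  rw [E_sum', ← Finset.prod_mul_distrib]
  · refine Finset.prod_eq_one fun e he => ?_
    have he0 : e ≠ 0 := by
      have := (Finset.mem_Icc.1 he).1
      omega
    rw [E_natCast_smul (constantCoeff_LamR he0), ← mul_pow, E_LamR_mul he0, one_pow]
  · intro e he
    have he0 : e ≠ 0 := by
      have := (Finset.mem_Icc.1 he).1
      omega
    exact constantCoeff_smul_eq_zero (constantCoeff_LamR he0) _

/-- Coefficient comparison: `∑_m (∑_{e ∣ m} e a_e) X^m / m` agrees with `Ln a n` up to degree `n`. -/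
theorem coeff_Ln (a : ℕ → ℕ) (n m : ℕ) (hm : m ≤ n) :
    coeff m (Ln a n) = ((∑ e ∈ m.divisors, e * a e : ℕ) : ℚ) / m := by
  unfold Ln
  rw [map_sum]
  rcases Nat.eq_zero_or_pos m with rfl | hm0
  · simp only [Nat.divisors_zero, Finset.sum_empty, Nat.cast_zero, div_zero]
    refine Finset.sum_eq_zero fun e he => ?_
    have he0 : e ≠ 0 := by
      have := (Finset.mem_Icc.1 he).1
      omega
    rw [coeff_smul, coeff_LamR he0]
    simp
  · have hfil : (Finset.Icc 1 n).filter (fun e => e ∣ m) = m.divisors := by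
      ext e
      rw [Finset.mem_filter, Finset.mem_Icc, Nat.mem_divisors]
      constructor
      · rintro ⟨_, h2⟩
        exact ⟨h2, by omega⟩
      · rintro ⟨h1, _⟩
        have := Nat.le_of_dvd hm0 h1
        have := Nat.pos_of_dvd_of_pos h1 hm0
        exact ⟨⟨by omega, by omega⟩, h1⟩
    have hstep : ∀ e ∈ Finset.Icc 1 n, coeff m ((a e : ℚ) • LamR e) =
        if e ∣ m then ((e * a e : ℕ) : ℚ) / m else 0 := by
      intro e he
      have he0 : e ≠ 0 := by
        have := (Finset.mem_Icc.1 he).1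
        omega
      rw [coeff_smul, coeff_LamR he0]
      split_ifs with h
      · have hm' : (m : ℚ) ≠ 0 := by exact_mod_cast hm0.ne'
        have he' : (e : ℚ) ≠ 0 := by exact_mod_cast he0
        rw [Nat.cast_div h he', smul_eq_mul]
        push_cast
        field_simp
      · rw [smul_zero]
    rw [Finset.sum_congr rfl hstep, ← Finset.sum_filter, hfil, Nat.cast_sum, Finset.sum_div]

/-- A power series over `ℚ` with integer coefficients. -/
def IsInt (F : ℚ⟦X⟧) : Prop := ∃ G : ℤ⟦X⟧, F = PowerSeries.map (Int.castRingHom ℚ) G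

theorem IsInt.mul {F G : ℚ⟦X⟧} (hF : IsInt F) (hG : IsInt G) : IsInt (F * G) := by
  obtain ⟨F', rfl⟩ := hF
  obtain ⟨G', rfl⟩ := hG
  exact ⟨F' * G', (map_mul _ _ _).symm⟩

theorem IsInt.one : IsInt 1 := ⟨1, (map_one _).symm⟩

theorem IsInt.pow {F : ℚ⟦X⟧} (hF : IsInt F) (k : ℕ) : IsInt (F ^ k) := by
  obtain ⟨F', rfl⟩ := hF
  exact ⟨F' ^ k, (map_pow _ _ _).symm⟩

theorem isInt_E_LamR {r : ℕ} (hr : r ≠ 0) : IsInt (E (LamR r)) := by
  have hu : IsUnit (1 - X ^ r : ℤ⟦X⟧) := by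
    rw [isUnit_iff_constantCoeff, map_sub, map_one, map_pow, constantCoeff_X, zero_pow hr, sub_zero]
    exact isUnit_one
  obtain ⟨G, hG⟩ := hu.exists_right_inv
  refine ⟨G, ?_⟩
  have h1 : (1 - X ^ r : ℚ⟦X⟧) * PowerSeries.map (Int.castRingHom ℚ) G = 1 := by
    have := congrArg (PowerSeries.map (Int.castRingHom ℚ)) hG
    rw [map_mul, map_sub, map_one, map_pow, map_X] at this
    exact this
  calc E (LamR r) = E (LamR r) * ((1 - X ^ r : ℚ⟦X⟧) * PowerSeries.map (Int.castRingHom ℚ) G) := by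
        rw [h1, mul_one]
    _ = (E (LamR r) * (1 - X ^ r)) * PowerSeries.map (Int.castRingHom ℚ) G := by ring
    _ = PowerSeries.map (Int.castRingHom ℚ) G := by rw [E_LamR_mul hr, one_mul]

theorem isInt_E_Ln (a : ℕ → ℕ) (n : ℕ) : IsInt (E (Ln a n)) := by
  unfold Ln
  rw [E_sum']
  · apply Finset.prod_induction _ IsInt (fun _ _ => IsInt.mul) IsInt.one
    intro e he
    have he0 : e ≠ 0 := by
      have := (Finset.mem_Icc.1 he).1
      omega
    rw [E_natCast_smul (constantCoeff_LamR he0)]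
    exact (isInt_E_LamR he0).pow _
  · intro e he
    have he0 : e ≠ 0 := by
      have := (Finset.mem_Icc.1 he).1
      omega
    exact constantCoeff_smul_eq_zero (constantCoeff_LamR he0) _

end Helpers

/-- For a scheme X of finite type over a finite field k, Z(X, t) = ∏ over the closed points x of (1 −
t^{deg x})^{−1}, that is ∏_{r ≥ 1} (1 − t^r)^{−a_r} with a_r the number of closed points of residue
degree r; equivalently, for every n the product Z(X, t) · ∏_{r = 1}^{n} (1 − t^r)^{a_r} is ≡ 1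
modulo t^{n+1}. In particular Z(X, t) has integer coefficients. (Stated for any scheme of finite
type over k; reducedness plays no role.) -/
theorem result {k : Type u} [Field k] [Finite k] {X : Scheme.{u}}
    (f : X ⟶ Spec (CommRingCat.of k)) [LocallyOfFiniteType f] [QuasiCompact f] :
    (∀ n : ℕ, PowerSeries.trunc (n + 1)
        (Zeta.zetaFun f * ∏ r ∈ Finset.Icc 1 n, (1 - PowerSeries.X ^ r) ^ Zeta.degCount f r) = 1) ∧
      ∀ n : ℕ, ∃ z : ℤ, PowerSeries.coeff n (Zeta.zetaFun f) = (z : ℚ) := by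
  have hz : Zeta.zetaFun f = Groth.Agent.Lib.H43PSExp.E (Zeta.logZeta f) := rfl
  have key : ∀ n : ℕ, ∃ q : PowerSeries ℚ, Zeta.zetaFun f =
      Groth.Agent.Lib.H43PSExp.E (Ln (Zeta.degCount f) n) * (1 + PowerSeries.X ^ (n + 1) * q) := by
    intro n
    have hdvd : (PowerSeries.X : PowerSeries ℚ) ^ (n + 1) ∣
        Zeta.logZeta f - Ln (Zeta.degCount f) n := by
      rw [PowerSeries.X_pow_dvd_iff]
      intro m hm
      rw [map_sub, coeff_Ln _ n m (by omega), sub_eq_zero]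
      simp only [Zeta.logZeta, PowerSeries.coeff_mk, Zeta.nPts]
    obtain ⟨q, hq⟩ := E_eq_one_add hdvd
    refine ⟨q, ?_⟩
    have hR0 : PowerSeries.constantCoeff (Zeta.logZeta f - Ln (Zeta.degCount f) n) = 0 := by
      rw [← PowerSeries.X_dvd_iff]
      exact dvd_trans (dvd_pow_self PowerSeries.X (Nat.succ_ne_zero n)) hdvd
    have hsplit : Zeta.logZeta f =
        Ln (Zeta.degCount f) n + (Zeta.logZeta f - Ln (Zeta.degCount f) n) := by ring
    rw [hz]
    conv_lhs => rw [hsplit]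
    rw [Groth.Agent.Lib.H43PSExp.E_add (constantCoeff_Ln _ n) hR0, hq]
  constructor
  · intro n
    obtain ⟨q, hq⟩ := key n
    have h1 := E_Ln_mul (Zeta.degCount f) n
    have h2 : Zeta.zetaFun f * ∏ r ∈ Finset.Icc 1 n,
        (1 - PowerSeries.X ^ r : PowerSeries ℚ) ^ Zeta.degCount f r =
        1 + PowerSeries.X ^ (n + 1) * q := by
      rw [hq, mul_right_comm, h1, one_mul]
    rw [h2, trunc_one_add]
  · intro n
    obtain ⟨q, hq⟩ := key n
    obtain ⟨G, hG⟩ := isInt_E_Ln (Zeta.degCount f) n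
    refine ⟨PowerSeries.coeff n G, ?_⟩
    rw [hq, coeff_one_add_mul, hG, PowerSeries.coeff_map]
    rfl

end Groth.Agent.S13051
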