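import Groth.Statements.S13052
import Groth.Agent.Lib.H73ZetaPts

set_option autoImplicit false
universe u
open CategoryTheory AlgebraicGeometry
open Zeta

namespace Groth.Agent.S13052

/-- the two-piece family -/
noncomputable def fam {X Y : Scheme.{u}} (U : X.Opens) : Bool → Scheme.{u}
  | true => Y
  | false => U

noncomputable def famMap {X Y : Scheme.{u}} (U : X.Opens) (i : Y ⟶ X) :
    ∀ b : Bool, fam (Y := Y) U b ⟶ X
  | true => i
  | false => U.ι

instance {X Y : Scheme.{u}} (U : X.Opens) (i : Y ⟶ X) [IsClosedImmersion i] (b : Bool) :
    IsImmersion (famMap U i b) := by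
  cases b
  · exact inferInstanceAs (IsImmersion U.ι)
  · exact inferInstanceAs (IsImmersion i)

theorem main {k : Type u} [Field k] [Finite k]
    {X Y : Scheme.{u}} (f : X ⟶ Spec (CommRingCat.of k)) [LocallyOfFiniteType f] [QuasiCompact f]
    (U : X.Opens) (i : Y ⟶ X) [IsClosedImmersion i] (hY : Set.range i.base = (U : Set X)ᶜ) :
    Zeta.zetaFun f = Zeta.zetaFun (i ≫ f) * Zeta.zetaFun (U.ι ≫ f) := by
  have hpart : ∀ x : X, IsClosed ({x} : Set X) →
      ∃! b, x ∈ Set.range (famMap U i b).base := by
    intro x _
    by_cases hx : x ∈ U
    · refine ⟨false, ?_, ?_⟩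
      · change x ∈ Set.range U.ι.base
        rw [Scheme.Opens.range_ι]
        exact hx
      · intro b hb
        cases b
        · rfl
        · exfalso
          have : x ∈ Set.range i.base := hb
          rw [hY] at this
          exact this hx
    · refine ⟨true, ?_, ?_⟩
      · change x ∈ Set.range i.base
        rw [hY]
        exact hx
      · intro b hb
        cases b
        · exfalso
          have : x ∈ Set.range U.ι.base := hb
          rw [Scheme.Opens.range_ι] at this
          exact hx this
        · rfl
  have key := Groth.Agent.Lib.H73ZetaPts.zetaFun_eq_prod f (fam (Y := Y) U) (famMap U i) hpart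
  rw [key, Fintype.prod_bool]
  rfl


/-- If X is a scheme of finite type over a finite field k, Y ↪ X a closed subscheme and U = X ∖ Y its
open complement, then Z(X, t) = Z(Y, t) · Z(U, t). Here Y is any scheme with a closed immersion into
X whose image is the complement of U (its scheme structure plays no role), and Y, U are k-schemes
through X. -/
theorem result {k : Type u} [Field k] [Finite k]
    {X Y : Scheme.{u}} (f : X ⟶ Spec (CommRingCat.of k)) [LocallyOfFiniteType f] [QuasiCompact f]
    (U : X.Opens) (i : Y ⟶ X) [IsClosedImmersion i] (hY : Set.range i.base = (U : Set X)ᶜ) :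
    Zeta.zetaFun f = Zeta.zetaFun (i ≫ f) * Zeta.zetaFun (U.ι ≫ f) := by
  exact main f U i hY

end Groth.Agent.S13052
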