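import Groth.Statements.S14455
import Groth.Agent.S13050
import Groth.Agent.Lib.H73ZetaPts

set_option autoImplicit false
universe u
open CategoryTheory AlgebraicGeometry
open Zeta

namespace Groth.Agent.S14455

open PowerSeries in
/-- exponentials commute with rescaling -/
theorem E_rescale (a : ℚ) (L : PowerSeries ℚ) (hL : constantCoeff L = 0) :
    Groth.Agent.Lib.H43PSExp.E (rescale a L) = rescale a (Groth.Agent.Lib.H43PSExp.E L) := by
  unfold Groth.Agent.Lib.H43PSExp.E
  have h1 : HasSubst L := HasSubst.of_constantCoeff_zero' hL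
  have h2 : HasSubst (a • (X : PowerSeries ℚ)) := by
    apply HasSubst.of_constantCoeff_zero'
    simp
  rw [rescale_eq_subst, rescale_eq_subst, subst_comp_subst_apply h1 h2]

/-- a finite extension of given degree of a finite field, in the same universe -/
theorem exists_extension (k : Type u) [Field k] [Finite k] (m : ℕ) (hm : 0 < m) :
    ∃ (k' : Type u) (_ : Field k') (_ : Algebra k k') (_ : Finite k'),
      Module.finrank k k' = m := by
  obtain ⟨p, hp⟩ := CharP.exists k
  haveI : Fact p.Prime := ⟨CharP.char_is_prime k p⟩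
  haveI : NeZero m := ⟨hm.ne'⟩
  refine ⟨ULift.{u} (FiniteField.Extension k p m), inferInstance, inferInstance, inferInstance, ?_⟩
  exact ((ULift.moduleEquiv (R := k) (M := FiniteField.Extension k p m)).finrank_eq).trans
    (FiniteField.finrank_extension k p m)


section pts

variable {k : Type u} [Field k] {X : Scheme.{u}} (f : X ⟶ Spec (CommRingCat.of k))
  (n : Type u) (k' : Type u) [Field k'] [Algebra k k']

/-- `k'`-points of affine space over `X` are `k'`-points of `X` together with coordinates -/
noncomputable def pointsEquiv :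
    {g : Spec (CommRingCat.of k') ⟶ 𝔸(n; X) //
      g ≫ ((𝔸(n; X) ↘ X) ≫ f) = Spec.map (CommRingCat.ofHom (algebraMap k k'))} ≃
    {h : Spec (CommRingCat.of k') ⟶ X //
      h ≫ f = Spec.map (CommRingCat.ofHom (algebraMap k k'))} ×
      (n → Γ(Spec (CommRingCat.of k'), ⊤)) where
  toFun g := (⟨g.1 ≫ (𝔸(n; X) ↘ X), by rw [Category.assoc]; exact g.2⟩,
    fun i => g.1.appTop (AffineSpace.coord X i))
  invFun hv := ⟨AffineSpace.homOfVector hv.1.1 hv.2, by
    rw [AffineSpace.homOfVector_over_assoc]; exact hv.1.2⟩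
  left_inv g := by
    apply Subtype.ext
    apply AffineSpace.hom_ext
    · exact AffineSpace.homOfVector_over _ _
    · intro i
      exact AffineSpace.homOfVector_appTop_coord _ _ i
  right_inv hv := by
    refine Prod.ext (Subtype.ext (AffineSpace.homOfVector_over _ _)) ?_
    funext i
    exact AffineSpace.homOfVector_appTop_coord _ _ i

theorem pointCount_affineLine :
    SgaExt.pointCount ((𝔸(PUnit.{u + 1}; X) ↘ X) ≫ f) k' =
      SgaExt.pointCount f k' * Nat.card k' := by
  unfold SgaExt.pointCount
  rw [Nat.card_congr (pointsEquiv f PUnit.{u + 1} k'), Nat.card_prod]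
  congr 1
  exact Nat.card_congr ((Equiv.funUnique PUnit.{u + 1} _).trans
    (Scheme.ΓSpecIso (CommRingCat.of k')).commRingCatIsoToRingEquiv.toEquiv)

end pts


theorem nPts_affineLine {k : Type u} [Field k] [Finite k] {X : Scheme.{u}}
    (f : X ⟶ Spec (CommRingCat.of k)) [LocallyOfFiniteType f] [QuasiCompact f] (m : ℕ) :
    Zeta.nPts ((𝔸(PUnit.{u + 1}; X) ↘ X) ≫ f) m = Zeta.nPts f m * Nat.card k ^ m := by
  rcases Nat.eq_zero_or_pos m with rfl | hm
  · simp [Zeta.nPts]
  obtain ⟨k', _, _, _, hk'⟩ := exists_extension k m hm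
  have h1 := Groth.Agent.S13050.main ((𝔸(PUnit.{u + 1}; X) ↘ X) ≫ f) k'
  have h2 := Groth.Agent.S13050.main f k'
  rw [hk'] at h1 h2
  rw [← h1, ← h2, pointCount_affineLine]
  congr 1
  haveI : Module.Finite k k' := Module.Finite.of_finite
  rw [Module.natCard_eq_pow_finrank (K := k) (V := k'), hk']

theorem main {k : Type u} [Field k] [Finite k] {X : Scheme.{u}}
    (f : X ⟶ Spec (CommRingCat.of k)) [LocallyOfFiniteType f] [QuasiCompact f] :
    Zeta.zetaFun ((𝔸(PUnit.{u + 1}; X) ↘ X) ≫ f) =
      PowerSeries.rescale (Nat.card k : ℚ) (Zeta.zetaFun f) := by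
  change Groth.Agent.Lib.H43PSExp.E (Zeta.logZeta _) =
    PowerSeries.rescale _ (Groth.Agent.Lib.H43PSExp.E (Zeta.logZeta f))
  rw [← E_rescale _ _ (Groth.Agent.Lib.H73ZetaPts.constantCoeff_logZeta f)]
  congr 1
  ext m
  rw [PowerSeries.coeff_rescale]
  unfold Zeta.logZeta
  simp only [PowerSeries.coeff_mk]
  rw [nPts_affineLine]
  push_cast
  ring


/-- For a scheme X of finite type over a finite field k with q elements, the zeta function of the affine
line over X (a k-scheme through X) is obtained from that of X by the substitution t ↦ qt, that is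
Z(𝔸¹_X, t) = Z(X, qt) in ℚ⟦t⟧. (The published statement is the equality ζ(𝔸¹_X, s) = ζ(X, s − 1) of
zeta functions in the variable s; under the substitution t = q^(−s), which turns ζ(Y, s) into Z(Y,
t) for every Y of finite type over k, it is the identity stated here.) -/
theorem result {k : Type u} [Field k] [Finite k] {X : Scheme.{u}}
    (f : X ⟶ Spec (CommRingCat.of k)) [LocallyOfFiniteType f] [QuasiCompact f] :
    Zeta.zetaFun ((𝔸(PUnit.{u + 1}; X) ↘ X) ≫ f) =
      PowerSeries.rescale (Nat.card k : ℚ) (Zeta.zetaFun f) := by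
  exact main f

end Groth.Agent.S14455
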