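import Groth.Statements.S13054
import Groth.Agent.S13050
import Groth.Agent.S14455
import Groth.Agent.Lib.H73ZetaPts

set_option autoImplicit false
universe u
open CategoryTheory AlgebraicGeometry Limits
open Zeta

namespace Groth.Agent.S13054

section ps

open PowerSeries Groth.Agent.Lib.H43PSExp

variable {K : Type*} [Field K] [CharZero K]

/-- exponentials commute with rescaling -/
theorem E_rescale (a : K) (L : PowerSeries K) (hL : constantCoeff L = 0) :
    E (rescale a L) = rescale a (E L) := by
  unfold E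
  have h1 : HasSubst L := HasSubst.of_constantCoeff_zero' hL
  have h2 : HasSubst (a • (X : PowerSeries K)) := by
    apply HasSubst.of_constantCoeff_zero'
    simp
  rw [rescale_eq_subst, rescale_eq_subst, subst_comp_subst_apply h1 h2]

/-- exponentials commute with `t ↦ t ^ r` -/
theorem E_subst_X_pow (r : ℕ) (hr : r ≠ 0) (L : PowerSeries K) (hL : constantCoeff L = 0) :
    E (subst ((X : PowerSeries K) ^ r) L) = subst ((X : PowerSeries K) ^ r) (E L) := by
  unfold E
  have h1 : HasSubst L := HasSubst.of_constantCoeff_zero' hL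
  rw [subst_comp_subst_apply h1 (HasSubst.X_pow hr)]

/-- exponentials commute with extension of scalars -/
theorem map_E {K' : Type*} [Field K'] [CharZero K'] (φ : K →+* K')
    (L : PowerSeries K) (hL : constantCoeff L = 0) :
    PowerSeries.map φ (E L) = E (PowerSeries.map φ L) := by
  unfold E
  have h1 : HasSubst L := HasSubst.of_constantCoeff_zero' hL
  have h2 := map_subst (h := φ) h1 (exp K)
  rw [map_exp] at h2
  exact h2

end ps


section pts

variable {k : Type u} [Field k] {X : Scheme.{u}} (f : X ⟶ Spec (CommRingCat.of k))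
  (k' : Type u) [Field k'] [Algebra k k'] (K : Type u) [Field K] [Algebra k' K] [Algebra k K]
  [IsScalarTower k k' K]

theorem specMap_tower :
    Spec.map (CommRingCat.ofHom (algebraMap k' K)) ≫
      Spec.map (CommRingCat.ofHom (algebraMap k k')) =
      Spec.map (CommRingCat.ofHom (algebraMap k K)) := by
  rw [← Spec.map_comp, ← CommRingCat.ofHom_comp, ← IsScalarTower.algebraMap_eq]

/-- `K`-points of the base change over `k'` are `K`-points of `X` over `k` -/
noncomputable def pointsEquiv :
    {g : Spec (CommRingCat.of K) ⟶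
        pullback f (Spec.map (CommRingCat.ofHom (algebraMap k k'))) //
      g ≫ pullback.snd f (Spec.map (CommRingCat.ofHom (algebraMap k k'))) =
        Spec.map (CommRingCat.ofHom (algebraMap k' K))} ≃
    {h : Spec (CommRingCat.of K) ⟶ X //
      h ≫ f = Spec.map (CommRingCat.ofHom (algebraMap k K))} where
  toFun g := ⟨g.1 ≫ pullback.fst _ _, by
    rw [Category.assoc, pullback.condition, ← Category.assoc, g.2, specMap_tower]⟩
  invFun h := ⟨pullback.lift h.1 (Spec.map (CommRingCat.ofHom (algebraMap k' K)))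
    (by rw [h.2, specMap_tower]), pullback.lift_snd _ _ _⟩
  left_inv g := by
    apply Subtype.ext
    apply pullback.hom_ext
    · exact pullback.lift_fst _ _ _
    · rw [pullback.lift_snd]
      exact g.2.symm
  right_inv h := Subtype.ext (pullback.lift_fst _ _ _)

theorem pointCount_baseChange :
    SgaExt.pointCount (pullback.snd f (Spec.map (CommRingCat.ofHom (algebraMap k k')))) K =
      SgaExt.pointCount f K :=
  Nat.card_congr (pointsEquiv f k' K)

end pts

theorem nPts_baseChange {k : Type u} [Field k] [Finite k] {X : Scheme.{u}}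
    (f : X ⟶ Spec (CommRingCat.of k)) [LocallyOfFiniteType f] [QuasiCompact f]
    (k' : Type u) [Field k'] [Algebra k k'] [Finite k'] (m : ℕ) :
    Zeta.nPts (pullback.snd f (Spec.map (CommRingCat.ofHom (algebraMap k k')))) m =
      Zeta.nPts f (Module.finrank k k' * m) := by
  rcases Nat.eq_zero_or_pos m with rfl | hm
  · simp [Zeta.nPts]
  obtain ⟨K, _, _, _, hK⟩ := Groth.Agent.S14455.exists_extension k' m hm
  letI : Algebra k K := ((algebraMap k' K).comp (algebraMap k k')).toAlgebra
  haveI : IsScalarTower k k' K := IsScalarTower.of_algebraMap_eq (fun _ => rfl)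
  have h1 := Groth.Agent.S13050.main
    (pullback.snd f (Spec.map (CommRingCat.ofHom (algebraMap k k')))) K
  have h2 := Groth.Agent.S13050.main f K
  haveI : Module.Finite k k' := Module.Finite.of_finite
  haveI : Module.Finite k' K := Module.Finite.of_finite
  rw [hK] at h1
  rw [← Module.finrank_mul_finrank k k' K, hK] at h2
  rw [← h1, ← h2, pointCount_baseChange]


/-- sum of powers of a primitive root of unity -/
theorem sum_pow_primitiveRoot (ξ : ℂ) (r : ℕ) (hr : r ≠ 0) (hξ : IsPrimitiveRoot ξ r) (n : ℕ) :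
    ∑ i ∈ Finset.range r, (ξ ^ i) ^ n = if r ∣ n then (r : ℂ) else 0 := by
  have h1 : ∀ i, (ξ ^ i) ^ n = (ξ ^ n) ^ i := fun i => by rw [← pow_mul, ← pow_mul, mul_comm]
  simp_rw [h1]
  split_ifs with h
  · rw [(hξ.pow_eq_one_iff_dvd n).mpr h]
    simp
  · have hne : ξ ^ n ≠ 1 := fun h' => h ((hξ.pow_eq_one_iff_dvd n).mp h')
    have h2 := geom_sum_mul (ξ ^ n) r
    rw [← pow_mul, mul_comm n r, pow_mul, hξ.pow_eq_one, one_pow, sub_self] at h2
    exact (mul_eq_zero.mp h2).resolve_right (sub_ne_zero.mpr hne)

open PowerSeries Groth.Agent.Lib.H43PSExp in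
theorem main {k : Type u} [Field k] [Finite k]
    {X : Scheme.{u}} (f : X ⟶ Spec (CommRingCat.of k)) [LocallyOfFiniteType f] [QuasiCompact f]
    (k' : Type u) [Field k'] [Algebra k k'] [Finite k'] (ξ : ℂ)
    (hξ : IsPrimitiveRoot ξ (Module.finrank k k')) :
    PowerSeries.subst ((PowerSeries.X : PowerSeries ℂ) ^ Module.finrank k k')
        (PowerSeries.map (algebraMap ℚ ℂ) (Zeta.zetaFun
          (pullback.snd f (Spec.map (CommRingCat.ofHom (algebraMap k k')))))) =
      ∏ i ∈ Finset.range (Module.finrank k k'),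
        PowerSeries.rescale (ξ ^ i) (PowerSeries.map (algebraMap ℚ ℂ) (Zeta.zetaFun f)) := by
  haveI : Module.Finite k k' := Module.Finite.of_finite
  have hr : Module.finrank k k' ≠ 0 := Module.finrank_pos.ne'
  have hN := nPts_baseChange f k'
  generalize Module.finrank k k' = r at hr hξ hN ⊢
  generalize pullback.snd f (Spec.map (CommRingCat.ofHom (algebraMap k k'))) = f' at hN ⊢
  have c0 : constantCoeff (Zeta.logZeta f) = 0 :=
    Groth.Agent.Lib.H73ZetaPts.constantCoeff_logZeta f
  have c0' : constantCoeff (Zeta.logZeta f') = 0 :=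
    Groth.Agent.Lib.H73ZetaPts.constantCoeff_logZeta f'
  have hmap : ∀ L : PowerSeries ℚ, constantCoeff L = 0 →
      constantCoeff (PowerSeries.map (algebraMap ℚ ℂ) L) = 0 := by
    intro L hL
    rw [← coeff_zero_eq_constantCoeff_apply, coeff_map, coeff_zero_eq_constantCoeff_apply, hL,
      map_zero]
  have hl : Zeta.zetaFun f' = E (Zeta.logZeta f') := rfl
  have hr' : Zeta.zetaFun f = E (Zeta.logZeta f) := rfl
  rw [hl, hr', map_E _ _ c0', map_E _ _ c0, ← E_subst_X_pow r hr _ (hmap _ c0')]
  rw [Finset.prod_congr rfl (fun i _ => (E_rescale (ξ ^ i) _ (hmap _ c0)).symm)]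
  rw [← E_sum (Finset.range r)
    (fun i => rescale (ξ ^ i) (PowerSeries.map (algebraMap ℚ ℂ) (Zeta.logZeta f)))
    (fun i => by
      rw [← coeff_zero_eq_constantCoeff_apply, coeff_rescale, coeff_zero_eq_constantCoeff_apply,
        hmap _ c0, mul_zero])]
  congr 1
  ext n
  rw [coeff_subst_X_pow hr, map_sum]
  simp only [coeff_rescale, coeff_map, Zeta.logZeta, coeff_mk]
  rw [← Finset.sum_mul, sum_pow_primitiveRoot ξ r hr hξ n]
  split_ifs with h
  · obtain ⟨m, rfl⟩ := h
    rw [Nat.mul_div_cancel_left m (Nat.pos_of_ne_zero hr), hN m]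
    simp only [Algebra.algebraMap_self, RingHom.id_apply, map_div₀, map_natCast, Nat.cast_mul]
    rcases Nat.eq_zero_or_pos m with rfl | hm
    · simp
    · have hm' : (m : ℂ) ≠ 0 := Nat.cast_ne_zero.mpr hm.ne'
      have hr'' : (r : ℂ) ≠ 0 := Nat.cast_ne_zero.mpr hr
      field_simp
      rw [map_mul, map_natCast, map_natCast]
      ring
  · simp


/-- Let X be a scheme of finite type over a finite field k, k'/k a finite extension of degree r and X' =
X ×_{Spec k} Spec k', a k'-scheme. Then Z(X', t^r) = ∏_{i = 1}^{r} Z(X, ξ^i t) for ξ a primitive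
r-th root of unity; stated in ℂ⟦t⟧ with the product over the exponents 0, …, r − 1. (Reducedness of
X plays no role.) -/
theorem result {k : Type u} [Field k] [Finite k]
    {X : Scheme.{u}} (f : X ⟶ Spec (CommRingCat.of k)) [LocallyOfFiniteType f] [QuasiCompact f]
    (k' : Type u) [Field k'] [Algebra k k'] [Finite k'] (ξ : ℂ)
    (hξ : IsPrimitiveRoot ξ (Module.finrank k k')) :
    PowerSeries.subst ((PowerSeries.X : PowerSeries ℂ) ^ Module.finrank k k')
        (PowerSeries.map (algebraMap ℚ ℂ) (Zeta.zetaFun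
          (pullback.snd f (Spec.map (CommRingCat.ofHom (algebraMap k k')))))) =
      ∏ i ∈ Finset.range (Module.finrank k k'),
        PowerSeries.rescale (ξ ^ i) (PowerSeries.map (algebraMap ℚ ℂ) (Zeta.zetaFun f)) := by
  exact main f k' ξ hξ

end Groth.Agent.S13054
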