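import Groth.Statements.S13055
import Groth.Agent.Lib.H43PSExp
import Mathlib.Algebra.BigOperators.Field
-- import your own Groth.Agent.* helpers here

set_option autoImplicit false
universe u
open CategoryTheory AlgebraicGeometry
open Zeta

namespace Groth.Agent.S13055

/-- Let X be a scheme of finite type over a finite field k with q elements and P = a_d y^d + ⋯ + a_0 ∈
ℤ[y] with N_m = P(q^m) for every m ≥ 1 (X is of polynomial count). Then Z(X, t) = ∏_{i = 0}^{d} (1 −
q^i t)^{−a_i}; stated cleared of denominators, with the factors of positive exponent moved to the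
left. -/
theorem result {k : Type u} [Field k] [Finite k] {X : Scheme.{u}}
    (f : X ⟶ Spec (CommRingCat.of k)) [LocallyOfFiniteType f] [QuasiCompact f] (P : Polynomial ℤ)
    (hP : ∀ m : ℕ, 1 ≤ m → (Zeta.nPts f m : ℤ) = P.eval ((Nat.card k : ℤ) ^ m)) :
    Zeta.zetaFun f * ∏ i ∈ Finset.range (P.natDegree + 1),
        (1 - PowerSeries.C ((Nat.card k : ℚ) ^ i) * PowerSeries.X) ^ (P.coeff i).toNat =
      ∏ i ∈ Finset.range (P.natDegree + 1),
        (1 - PowerSeries.C ((Nat.card k : ℚ) ^ i) * PowerSeries.X) ^ (-P.coeff i).toNat := by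
  have hlog : Zeta.logZeta f = ∑ i ∈ Finset.range (P.natDegree + 1),
      ((P.coeff i : ℤ) : ℚ) • Groth.Agent.Lib.H43PSExp.Lam ((Nat.card k : ℚ) ^ i) := by
    ext m
    rw [map_sum]
    simp only [Zeta.logZeta, PowerSeries.coeff_mk, PowerSeries.coeff_smul,
      Groth.Agent.Lib.H43PSExp.Lam, smul_eq_mul]
    rcases Nat.eq_zero_or_pos m with rfl | hm
    · simp
    · have h1 := hP m hm
      rw [Polynomial.eval_eq_sum_range] at h1
      have h2 : ((Zeta.nPts f m : ℕ) : ℚ) =
          ∑ i ∈ Finset.range (P.natDegree + 1), ((P.coeff i : ℤ) : ℚ) * (((Nat.card k : ℚ)) ^ m) ^ i := by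
        have := congrArg (fun z : ℤ => (z : ℚ)) h1
        simpa using this
      rw [h2, Finset.sum_div]
      refine Finset.sum_congr rfl fun i _ => ?_
      rw [← pow_mul, ← pow_mul, mul_comm m i, mul_div_assoc]
  have hz : Zeta.zetaFun f = Groth.Agent.Lib.H43PSExp.E (Zeta.logZeta f) := rfl
  rw [hz, hlog, Groth.Agent.Lib.H43PSExp.E_sum, ← Finset.prod_mul_distrib]
  · refine Finset.prod_congr rfl fun i _ => ?_
    exact Groth.Agent.Lib.H43PSExp.E_intCast_smul_mul
      (Groth.Agent.Lib.H43PSExp.constantCoeff_Lam _) (Groth.Agent.Lib.H43PSExp.E_Lam_mul _) (P.coeff i)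
  · intro i
    exact Groth.Agent.Lib.H43PSExp.constantCoeff_smul_eq_zero
      (Groth.Agent.Lib.H43PSExp.constantCoeff_Lam _) _

end Groth.Agent.S13055
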