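import Groth.Statements.S13057
import Mathlib.LinearAlgebra.Dual.Lemmas
import Mathlib.RingTheory.PowerSeries.Trunc
-- import your own Groth.Agent.* helpers here

set_option autoImplicit false
universe u
open Zeta

namespace Groth.Agent.S13057

/-- The polynomial `∑ c_j t^(N-j)`. -/
noncomputable def Qpoly {L : Type u} [Field L] (N : ℕ) (c : Fin (N + 1) → L) : Polynomial L :=
  ∑ j : Fin (N + 1), Polynomial.C (c j) * Polynomial.X ^ (N - (j : ℕ))

theorem coe_Qpoly {L : Type u} [Field L] (N : ℕ) (c : Fin (N + 1) → L) :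
    ((Qpoly N c : Polynomial L) : PowerSeries L) =
      ∑ j : Fin (N + 1), PowerSeries.C (c j) * PowerSeries.X ^ (N - (j : ℕ)) := by
  unfold Qpoly
  rw [← Polynomial.coeToPowerSeries.ringHom_apply, map_sum]
  refine Finset.sum_congr rfl fun j _ => ?_
  rw [Polynomial.coeToPowerSeries.ringHom_apply, Polynomial.coe_mul, Polynomial.coe_C,
    Polynomial.coe_pow, Polynomial.coe_X]

/-- Coefficients of `f * Q` in high degree are the values of the functional on the windows. -/
theorem coeff_mul_Qpoly {L : Type u} [Field L] (f : PowerSeries L) (N : ℕ) (c : Fin (N + 1) → L)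
    (i : ℕ) :
    PowerSeries.coeff (i + N) (f * (Qpoly N c : PowerSeries L)) =
      ∑ j : Fin (N + 1), c j * PowerSeries.coeff (i + (j : ℕ)) f := by
  rw [coe_Qpoly, Finset.mul_sum, map_sum]
  refine Finset.sum_congr rfl fun j _ => ?_
  have hj : (j : ℕ) ≤ N := Nat.lt_succ_iff.1 j.2
  rw [mul_left_comm, PowerSeries.coeff_C_mul, PowerSeries.coeff_mul_X_pow', if_pos (by omega)]
  have h1 : i + N - (N - (j : ℕ)) = i + (j : ℕ) := by omega
  rw [h1]

theorem coeff_Qpoly {L : Type u} [Field L] (N : ℕ) (c : Fin (N + 1) → L) (j : Fin (N + 1)) :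
    (Qpoly N c).coeff (N - (j : ℕ)) = c j := by
  unfold Qpoly
  rw [Polynomial.finsetSum_coeff, Finset.sum_eq_single j]
  · rw [Polynomial.coeff_C_mul, Polynomial.coeff_X_pow, if_pos rfl, mul_one]
  · intro k _ hk
    rw [Polynomial.coeff_C_mul, Polynomial.coeff_X_pow, if_neg, mul_zero]
    intro h
    apply hk
    have hj : (j : ℕ) ≤ N := Nat.lt_succ_iff.1 j.2
    have hk' : (k : ℕ) ≤ N := Nat.lt_succ_iff.1 k.2
    apply Fin.ext
    omega
  · intro h
    exact absurd (Finset.mem_univ j) h

/-- A power series f = ∑_{m ≥ 0} a_m t^m over a field L lies in L(t), i.e. f · Q = P for some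
polynomials P, Q with Q ≠ 0, if and only if there are natural numbers M, N such that the vectors
(a_i, a_{i+1}, …, a_{i+N}) ∈ L^{N+1}, i ≥ M, span a proper subspace. -/
theorem result {L : Type u} [Field L]
    (f : PowerSeries L) :
    (∃ P Q : Polynomial L, Q ≠ 0 ∧ f * (Q : PowerSeries L) = (P : PowerSeries L)) ↔
      ∃ M N : ℕ, Submodule.span L
          {v : Fin (N + 1) → L | ∃ i : ℕ, M ≤ i ∧ v = fun j : Fin (N + 1) => PowerSeries.coeff (i + (j : ℕ)) f} ≠ ⊤ := by
  constructor
  · rintro ⟨P, Q, hQ, hfQ⟩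
    refine ⟨P.natDegree + 1, Q.natDegree, ?_⟩
    set N := Q.natDegree with hN
    -- the functional given by the reversed coefficients of `Q`
    let c : Fin (N + 1) → L := fun j => Q.coeff (N - (j : ℕ))
    have hQc : Qpoly N c = Q := by
      apply Polynomial.ext
      intro n
      by_cases hn : n ≤ N
      · have := coeff_Qpoly N c ⟨N - n, by omega⟩
        simp only [c] at this
        have h1 : N - (N - n) = n := by omega
        rw [h1] at this
        exact this
      · push Not at hn
        rw [Polynomial.coeff_eq_zero_of_natDegree_lt hn]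
        unfold Qpoly
        rw [Polynomial.finsetSum_coeff]
        apply Finset.sum_eq_zero
        intro j _
        rw [Polynomial.coeff_C_mul, Polynomial.coeff_X_pow, if_neg (by omega), mul_zero]
    let φ : (Fin (N + 1) → L) →ₗ[L] L :=
      ∑ j : Fin (N + 1), c j • LinearMap.proj j
    have hφ : ∀ v, φ v = ∑ j : Fin (N + 1), c j * v j := by
      intro v
      simp [φ, LinearMap.sum_apply]
    intro htop
    have hle : Submodule.span L
        {v : Fin (N + 1) → L | ∃ i : ℕ, P.natDegree + 1 ≤ i ∧
          v = fun j : Fin (N + 1) => PowerSeries.coeff (i + (j : ℕ)) f} ≤ LinearMap.ker φ := by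
      rw [Submodule.span_le]
      rintro v ⟨i, hi, rfl⟩
      rw [SetLike.mem_coe, LinearMap.mem_ker, hφ, ← coeff_mul_Qpoly, hQc, hfQ, Polynomial.coeff_coe]
      apply Polynomial.coeff_eq_zero_of_natDegree_lt
      omega
    rw [htop, top_le_iff, LinearMap.ker_eq_top] at hle
    have h0 : φ (Pi.single 0 1) = 0 := by rw [hle]; rfl
    rw [hφ, Finset.sum_eq_single (0 : Fin (N + 1))] at h0
    · simp only [Pi.single_eq_same, mul_one, c, Fin.val_zero, Nat.sub_zero] at h0
      exact hQ (Polynomial.leadingCoeff_eq_zero.1 h0)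
    · intro j _ hj
      rw [Pi.single_eq_of_ne hj, mul_zero]
    · intro h
      exact absurd (Finset.mem_univ _) h
  · rintro ⟨M, N, hspan⟩
    obtain ⟨φ, hφ0, hφ⟩ := Submodule.exists_dual_map_eq_bot_of_lt_top (lt_top_iff_ne_top.2 hspan)
      inferInstance
    let c : Fin (N + 1) → L := fun j => φ (Pi.single j 1)
    have hφv : ∀ v, φ v = ∑ j : Fin (N + 1), c j * v j := by
      intro v
      have := LinearMap.pi_apply_eq_sum_univ φ v
      rw [this]
      refine Finset.sum_congr rfl fun j _ => ?_
      rw [smul_eq_mul, mul_comm]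
      congr 2
      ext k
      simp [Pi.single_apply, eq_comm]
    have hvan : ∀ i, M ≤ i → ∑ j : Fin (N + 1), c j * PowerSeries.coeff (i + (j : ℕ)) f = 0 := by
      intro i hi
      have hmem : (fun j : Fin (N + 1) => PowerSeries.coeff (i + (j : ℕ)) f) ∈ Submodule.span L
          {v : Fin (N + 1) → L | ∃ i : ℕ, M ≤ i ∧
            v = fun j : Fin (N + 1) => PowerSeries.coeff (i + (j : ℕ)) f} :=
        Submodule.subset_span ⟨i, hi, rfl⟩
      have : φ (fun j : Fin (N + 1) => PowerSeries.coeff (i + (j : ℕ)) f) ∈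
          (Submodule.span L {v : Fin (N + 1) → L | ∃ i : ℕ, M ≤ i ∧
            v = fun j : Fin (N + 1) => PowerSeries.coeff (i + (j : ℕ)) f}).map φ :=
        Submodule.mem_map_of_mem hmem
      rw [hφ, Submodule.mem_bot, hφv] at this
      exact this
    refine ⟨PowerSeries.trunc (M + N) (f * (Qpoly N c : PowerSeries L)), Qpoly N c, ?_, ?_⟩
    · intro hQ0
      apply hφ0
      apply LinearMap.ext
      intro v
      rw [hφv, LinearMap.zero_apply]
      apply Finset.sum_eq_zero
      intro j _
      rw [← coeff_Qpoly N c j, hQ0, Polynomial.coeff_zero, zero_mul]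
    · ext n
      rw [Polynomial.coeff_coe, PowerSeries.coeff_trunc]
      split_ifs with hn
      · rfl
      · push Not at hn
        obtain ⟨i, rfl⟩ : ∃ i, n = i + N := ⟨n - N, by omega⟩
        rw [coeff_mul_Qpoly]
        exact hvan i (by omega)

end Groth.Agent.S13057
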