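import Groth.Statements.S13059
import Mathlib.LinearAlgebra.Charpoly.ToMatrix

set_option autoImplicit false
universe u
open Zeta

namespace Groth.Agent.S13059

open Polynomial Matrix in
theorem mat_key {n : Type*} [Fintype n] [DecidableEq n] {K : Type*} [Field K]
    (A F : Matrix n n K) (c : K) (hc : c ≠ 0) (h : A * F = c • (1 : Matrix n n K)) :
    F.det • A.charpoly.reverse =
      ((-1) ^ Fintype.card n * c ^ Fintype.card n) • (c⁻¹ • F).charpoly := by
  have hinv : A * (c⁻¹ • F) = 1 := by
    rw [Matrix.mul_smul, h, smul_smul, inv_mul_cancel₀ hc, one_smul]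
  have hA : A⁻¹ = c⁻¹ • F := Matrix.inv_eq_right_inv hinv
  have hdet : A.det * F.det = c ^ Fintype.card n := by
    rw [← Matrix.det_mul, h, Matrix.det_smul, Matrix.det_one, mul_one]
  have hdA : A.det ≠ 0 := by
    intro h0
    rw [h0, zero_mul] at hdet
    exact pow_ne_zero _ hc hdet.symm
  have hu : IsUnit A := (Matrix.isUnit_iff_isUnit_det A).2 (isUnit_iff_ne_zero.2 hdA)
  rw [← hA, Matrix.charpoly_inv A hu, Matrix.reverse_charpoly, Ring.inverse_eq_inv']
  rw [Polynomial.smul_eq_C_mul, Polynomial.smul_eq_C_mul]
  have h1 : F.det = c ^ Fintype.card n * (A.det)⁻¹ := by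
    rw [← hdet]; field_simp
  rw [h1]
  have h2 : ((-1 : K) ^ Fintype.card n) * ((-1 : K) ^ Fintype.card n) = 1 := by
    rw [← mul_pow]; simp
  have h3 : ((-1 : K[X]) ^ Fintype.card n) * ((-1 : K[X]) ^ Fintype.card n) = 1 := by
    rw [← mul_pow]; simp
  simp only [map_mul, map_pow, map_neg, map_one]
  linear_combination (-(C c ^ Fintype.card n * C (A.det)⁻¹ * A.charpolyRev)) * h3

/-- Let B : V × W → K be a perfect pairing of finite-dimensional vector spaces over a field K, c ∈ K
nonzero, and f, g endomorphisms of V, W with B(f v, g w) = c · B(v, w) for all v, w. Then det(Id − t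
g) = (−1)^r c^r t^r det(f)^{−1} det(Id − c^{−1} t^{−1} f) with r the common dimension; stated
cleared of denominators as det(f) · det(Id − t g) = (−1)^r c^r · det(t Id − c^{−1} f) in K[t],
det(Id − t g) being the reverse of the characteristic polynomial of g. -/
theorem result (K : Type u) [Field K] (V W : Type u)
    [AddCommGroup V] [Module K V] [FiniteDimensional K V] [AddCommGroup W] [Module K W]
    [FiniteDimensional K W] (B : V →ₗ[K] W →ₗ[K] K) [B.IsPerfPair] (f : V →ₗ[K] V) (g : W →ₗ[K] W)
    (c : K) (hc : c ≠ 0) (hfg : ∀ (v : V) (w : W), B (f v) (g w) = c * B v w) :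
    LinearMap.det f • (LinearMap.charpoly g).reverse =
      ((-1) ^ Module.finrank K W * c ^ Module.finrank K W) • (c⁻¹ • f).charpoly := by
  classical
  let e : V ≃ₗ[K] Module.Dual K W := B.toPerfPair
  let bW := Module.finBasis K W
  let bD := bW.dualBasis
  let F' : Module.Dual K W →ₗ[K] Module.Dual K W := e.conj f
  let A' : Module.Dual K W →ₗ[K] Module.Dual K W := g.dualMap
  have hcomp : A' ∘ₗ F' = c • LinearMap.id := by
    apply LinearMap.ext
    intro φ
    apply LinearMap.ext
    intro w
    obtain ⟨v, rfl⟩ := e.surjective φ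
    simp only [A', F', LinearMap.comp_apply, LinearEquiv.conj_apply_apply, LinearEquiv.symm_apply_apply,
      LinearMap.dualMap_apply, LinearMap.smul_apply, LinearMap.id_apply, smul_eq_mul]
    exact hfg v w
  have hmat : LinearMap.toMatrix bD bD A' * LinearMap.toMatrix bD bD F' =
      c • (1 : Matrix (Fin (Module.finrank K W)) (Fin (Module.finrank K W)) K) := by
    rw [← LinearMap.toMatrix_comp, hcomp, map_smul, LinearMap.toMatrix_id]
  have key := mat_key _ _ c hc hmat
  rw [Fintype.card_fin] at key
  have h1 : (LinearMap.toMatrix bD bD F').det = LinearMap.det f := by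
    rw [LinearMap.det_toMatrix]
    exact LinearMap.det_conj f e
  have h2 : (LinearMap.toMatrix bD bD A').charpoly = g.charpoly := by
    have : LinearMap.toMatrix bD bD A' = Matrix.transpose (LinearMap.toMatrix bW bW g) := by
      simp only [A', bD, LinearMap.dualMap_def]
      exact LinearMap.toMatrix_transpose g
    rw [this, Matrix.charpoly_transpose, LinearMap.charpoly_toMatrix]
  have h3 : (c⁻¹ • LinearMap.toMatrix bD bD F').charpoly = (c⁻¹ • f).charpoly := by
    rw [← map_smul, LinearMap.charpoly_toMatrix]
    have : c⁻¹ • F' = e.conj (c⁻¹ • f) := by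
      simp only [F', map_smul]
    rw [this, LinearEquiv.charpoly_conj]
  rw [h1, h2, h3] at key
  exact key

end Groth.Agent.S13059
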