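import Groth.Statements.S1306
import Groth.Agent.Lib.Thickening

set_option autoImplicit false
universe u
open FlatMor

namespace Groth.Agent.S1306

open AlgebraicGeometry CategoryTheory Limits in
/-- For a morphism of thickenings, that is a commutative square whose horizontal maps are thickenings
(closed immersions that are surjective on points), the morphism between the thin schemes is
quasi-separated if and only if the morphism between the thick ones is. -/
theorem result {X X' S S' : Scheme.{u}} (iX : X ⟶ X') (iS : S ⟶ S') (f : X ⟶ S) (f' : X' ⟶ S')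
    (hX : MoreMor.IsThickening iX) (hS : MoreMor.IsThickening iS) (w : iX ≫ f' = f ≫ iS) :
    QuasiSeparated f ↔ QuasiSeparated f' := by
  have := hX.1
  have := hX.2
  have := hS.1
  have hw : ∀ x, f' (iX x) = iS (f x) := fun x => by
    rw [← Scheme.Hom.comp_apply, w, Scheme.Hom.comp_apply]
  let eX := Groth.Agent.Lib.Thickening.homeo hX
  constructor
  · intro hf
    rw [HasAffineProperty.eq_targetAffineLocally (P := @QuasiSeparated)]
    intro U
    show QuasiSeparatedSpace ↥(f' ⁻¹ᵁ U.1)
    refine (isQuasiSeparated_iff_quasiSeparatedSpace _ (f' ⁻¹ᵁ U.1).2).mp ?_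
    have hV : IsAffineOpen (iS ⁻¹ᵁ U.1) := U.2.preimage iS
    have h1 : IsQuasiSeparated (f ⁻¹ᵁ (iS ⁻¹ᵁ U.1) : Set X) :=
      f.isQuasiSeparated_preimage hV.isQuasiSeparated
    have h2 : ((f' ⁻¹ᵁ U.1 : X'.Opens) : Set X') = iX '' (f ⁻¹ᵁ (iS ⁻¹ᵁ U.1) : Set X) := by
      ext x'
      obtain ⟨x, rfl⟩ := eX.surjective x'
      simp only [Set.mem_image]
      constructor
      · intro hx
        refine ⟨x, ?_, rfl⟩
        show iS (f x) ∈ U.1
        rw [← hw]; exact hx
      · rintro ⟨y, hy, hxy⟩
        have : y = x := eX.injective hxy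
        subst this
        show f' (iX y) ∈ U.1
        rw [hw]; exact hy
    show IsQuasiSeparated ((f' ⁻¹ᵁ U.1 : X'.Opens) : Set X')
    rw [h2]
    exact h1.image_of_isEmbedding eX.isEmbedding
  · intro hf'
    have : QuasiSeparated (f ≫ iS) := by rw [← w]; infer_instance
    exact MorphismProperty.of_postcomp (W := @QuasiSeparated)
      (W' := MorphismProperty.monomorphisms Scheme) f iS
      (MorphismProperty.monomorphisms.infer_property iS) this

end Groth.Agent.S1306
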