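import Groth.Statements.S13060
-- import your own Groth.Agent.* helpers here

set_option autoImplicit false
universe u v w x
open TensorProduct
open Zeta

namespace Groth.Agent.S13060

theorem equiv_map {k : Type u} [Field k] {V : Type w} {W : Type x} [AddCommGroup V] [Module k V]
    [AddCommGroup W] [Module k W] {ι : Type x} [DecidableEq ι] (b : Module.Basis ι k W)
    (φ : V →ₗ[k] V) (t : V ⊗[k] W) (i : ι) :
    TensorProduct.equivFinsuppOfBasisRight b (TensorProduct.map φ LinearMap.id t) i =
      φ (TensorProduct.equivFinsuppOfBasisRight b t i) := by
  induction t using TensorProduct.induction_on with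
  | zero => simp
  | tmul m n => simp [TensorProduct.equivFinsuppOfBasisRight_apply_tmul_apply]
  | add a c ha hc => simp [ha, hc]

/-- Let k be a field, V and W vector spaces over k and G a group acting on V by k-linear automorphisms;
for the induced action on V ⊗_k W (trivial on W) one has (V ⊗_k W)^G = V^G ⊗_k W, i.e. the
invariants of V ⊗ W are the image of V^G ⊗ W → V ⊗ W. -/
theorem result {k : Type u} [Field k] {G : Type v} [Group G]
    {V : Type w} {W : Type x} [AddCommGroup V] [Module k V] [AddCommGroup W] [Module k W]
    (ρ : Representation k G V) :
    (ρ.tprod (Representation.trivial k G W)).invariants =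
      LinearMap.range (TensorProduct.map ρ.invariants.subtype (LinearMap.id : W →ₗ[k] W)) := by
  classical
  apply le_antisymm
  · intro t ht
    rw [Representation.mem_invariants] at ht
    let b := Module.Basis.ofVectorSpace k W
    let e := TensorProduct.equivFinsuppOfBasisRight (M := V) b
    have hinv : ∀ i, e t i ∈ ρ.invariants := by
      intro i g
      have h1 := ht g
      rw [Representation.tprod_apply] at h1
      have h2 : (Representation.trivial k G W) g = LinearMap.id := by
        ext w; simp
      rw [h2] at h1
      have := equiv_map b (ρ g) t i
      rw [h1] at this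
      exact this.symm
    have ht' : t = e.symm (e t) := (e.symm_apply_apply t).symm
    rw [ht', TensorProduct.equivFinsuppOfBasisRight_symm_apply]
    refine Submodule.sum_mem _ fun i _ => ?_
    exact ⟨(⟨e t i, hinv i⟩ : ρ.invariants) ⊗ₜ b i, by simp⟩
  · rintro _ ⟨y, rfl⟩
    rw [Representation.mem_invariants]
    intro g
    induction y using TensorProduct.induction_on with
    | zero => simp
    | tmul m n =>
      rw [Representation.tprod_apply]
      simp only [TensorProduct.map_tmul, Submodule.subtype_apply, LinearMap.id_apply,
        Representation.trivial_apply]
      rw [m.2 g]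
    | add a c ha hc => simp only [map_add, ha, hc]

end Groth.Agent.S13060
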