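import Groth.Statements.S13061
import Mathlib.GroupTheory.Sylow
import Mathlib.Algebra.BigOperators.GroupWithZero.Action
import Mathlib.Tactic.Group
import Mathlib.RingTheory.Ideal.Quotient.Operations
import Mathlib.Algebra.CharP.Lemmas

set_option autoImplicit false
universe u v w
open Zeta

namespace Groth.Agent.S13061

theorem core {k : Type u} [Field k]
    {A : Type v} [CommRing A] [Algebra k A] {G : Type w} [Group G] [Finite G]
    [MulSemiringAction G A] [SMulCommClass G k A] (I : Ideal A)
    (u : A) (hu : ∀ g : G, g • u - u ∈ I)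
    (P : Subgroup G) (hidx : (P.index : k) ≠ 0) :
    ∃ a : A, (∀ g : G, g • a = a) ∧
      Ideal.Quotient.mk I a = Ideal.Quotient.mk I u ^ Nat.card P := by
  classical
  letI : Fintype G := Fintype.ofFinite G
  letI : Fintype P := Fintype.ofFinite P
  letI : Fintype (G ⧸ P) := Fintype.ofFinite _
  have hmk : ∀ g : G, Ideal.Quotient.mk I (g • u) = Ideal.Quotient.mk I u := fun g => by
    rw [← sub_eq_zero, ← map_sub]; exact Ideal.Quotient.eq_zero_iff_mem.2 (hu g)
  let N : A := ∏ h : P, (h : G) • u
  have hN : ∀ g : G, Ideal.Quotient.mk I (g • N) = Ideal.Quotient.mk I u ^ Nat.card P := by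
    intro g
    simp only [N]
    rw [Finset.smul_prod', map_prod]
    simp only [smul_smul, hmk]
    rw [Finset.prod_const, Finset.card_univ, Nat.card_eq_fintype_card]
  have hNP : ∀ h : P, (h : G) • N = N := by
    intro h
    simp only [N]
    rw [Finset.smul_prod']
    simp only [smul_smul]
    exact Fintype.prod_equiv (Equiv.mulLeft h) _ _ (fun x => rfl)
  let φ : G ⧸ P → A := fun q => Quotient.liftOn' q (fun g => g • N) (by
    intro a b hab
    rw [QuotientGroup.leftRel_apply] at hab
    have : b = a * (a⁻¹ * b) := by group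
    show a • N = b • N
    rw [this, mul_smul]
    congr 1
    exact (hNP ⟨a⁻¹ * b, hab⟩).symm)
  have hφ : ∀ (g : G) (q : G ⧸ P), g • φ q = φ (g • q) := by
    intro g q
    induction q using QuotientGroup.induction_on with
    | H a =>
      show g • (a • N) = (g * a) • N
      rw [mul_smul]
  have hφmk : ∀ q : G ⧸ P, Ideal.Quotient.mk I (φ q) = Ideal.Quotient.mk I u ^ Nat.card P := by
    intro q
    induction q using QuotientGroup.induction_on with
    | H a => exact hN a
  let S : A := ∑ q : G ⧸ P, φ q
  have hS : ∀ g : G, g • S = S := by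
    intro g
    simp only [S]
    rw [Finset.smul_sum]
    simp only [hφ]
    exact Fintype.sum_equiv (MulAction.toPerm g) _ _ (fun x => rfl)
  have hSmk : Ideal.Quotient.mk I S = P.index • (Ideal.Quotient.mk I u ^ Nat.card P) := by
    simp only [S]
    rw [map_sum]
    simp only [hφmk]
    rw [Finset.sum_const, Finset.card_univ, Subgroup.index]
    simp only [Nat.card_eq_fintype_card]
  refine ⟨(P.index : k)⁻¹ • S, fun g => ?_, ?_⟩
  · rw [smul_comm, hS]
  · have : Ideal.Quotient.mk I ((P.index : k)⁻¹ • S) = (P.index : k)⁻¹ • Ideal.Quotient.mk I S := by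
      rw [Algebra.smul_def, Algebra.smul_def, map_mul]
      rfl
    rw [this, hSmk, ← Nat.cast_smul_eq_nsmul k, smul_smul, inv_mul_cancel₀ hidx, one_smul]

/-- Let A be a commutative algebra over a field k, G a finite group acting on A by k-algebra
automorphisms and I ⊆ A an ideal preserved by G. If p^n is the largest power of p = char(k) dividing
|G| (with p^n = 1 when char(k) = 0), then for every G-invariant b ∈ A/I the power b^{p^n} lies in
the image of A^G → (A/I)^G. (The published statement takes A finitely generated over k, which the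
proof does not use.) -/
theorem result {k : Type u} [Field k]
    {A : Type v} [CommRing A] [Algebra k A] {G : Type w} [Group G] [Finite G]
    [MulSemiringAction G A] [SMulCommClass G k A] (I : Ideal A)
    (hI : ∀ (g : G) (a : A), a ∈ I → g • a ∈ I) (u : A) (hu : ∀ g : G, g • u - u ∈ I) :
    ∃ a : A, (∀ g : G, g • a = a) ∧
      Ideal.Quotient.mk I a =
        Ideal.Quotient.mk I u ^ (ringChar k ^ (Nat.card G).factorization (ringChar k)) := by
  rcases CharP.char_is_prime_or_zero k (ringChar k) with hp | h0
  · haveI : Fact (ringChar k).Prime := ⟨hp⟩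
    obtain ⟨P⟩ : Nonempty (Sylow (ringChar k) G) := inferInstance
    have hidx : ((P : Subgroup G).index : k) ≠ 0 := by
      intro h
      rw [CharP.cast_eq_zero_iff k (ringChar k)] at h
      exact P.not_dvd_index h
    obtain ⟨a, ha1, ha2⟩ := core I u hu (P : Subgroup G) hidx
    refine ⟨a, ha1, ?_⟩
    rw [ha2, P.card_eq_multiplicity]
  · have hidx : (((⊥ : Subgroup G)).index : k) ≠ 0 := by
      intro h
      rw [CharP.cast_eq_zero_iff k (ringChar k), h0, zero_dvd_iff] at h
      exact Subgroup.index_ne_zero_of_finite h
    obtain ⟨a, ha1, ha2⟩ := core I u hu (⊥ : Subgroup G) hidx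
    refine ⟨a, ha1, ?_⟩
    rw [ha2, h0]
    simp

end Groth.Agent.S13061
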