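import Groth.Statements.S13062
import Groth.Agent.Lib.H8PointCount
import Groth.Agent.Lib.H8DenseDim

set_option autoImplicit false
universe u
open CategoryTheory AlgebraicGeometry
open Zeta

namespace Groth.Agent.S13062

open AlgebraicGeometry CategoryTheory
open Groth.Agent.Lib.H8NoetherSch Groth.Agent.Lib.H8DenseDim Groth.Agent.Lib.H8PointCount

section

variable {k : Type u} [Field k] {W : Scheme.{u}} [IsAffine W] (h : W ⟶ Spec (CommRingCat.of k))
  (k' : Type u) [Field k'] [Algebra k k']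

/-- the algebra homomorphism attached to a `k'`-point of an affine `k`-scheme -/
noncomputable def pointHom (g : Spec (CommRingCat.of k') ⟶ W)
    (hg : g ≫ h = Spec.map (CommRingCat.ofHom (algebraMap k k'))) :
    letI := (structMap k h).toAlgebra
    Γ(W, ⊤) →ₐ[k] k' :=
  letI := (structMap k h).toAlgebra
  { toRingHom := (g.appTop ≫ (Scheme.ΓSpecIso (CommRingCat.of k')).hom).hom
    commutes' := by
      intro a
      show ((g.appTop ≫ (Scheme.ΓSpecIso (CommRingCat.of k')).hom).hom)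
        ((structMap k h) a) = algebraMap k k' a
      unfold structMap
      rw [← CommRingCat.comp_apply, ← Category.assoc, Category.assoc _ h.appTop,
        ← Scheme.Hom.comp_appTop, hg, Category.assoc, Scheme.ΓSpecIso_naturality,
        Iso.inv_hom_id_assoc]
      rfl }

theorem pointHom_injective (g₁ g₂ : Spec (CommRingCat.of k') ⟶ W)
    (hg₁ : g₁ ≫ h = Spec.map (CommRingCat.ofHom (algebraMap k k')))
    (hg₂ : g₂ ≫ h = Spec.map (CommRingCat.ofHom (algebraMap k k')))
    (he : pointHom h k' g₁ hg₁ = pointHom h k' g₂ hg₂) : g₁ = g₂ := by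
  apply ext_of_isAffine
  rw [← cancel_mono (Scheme.ΓSpecIso (CommRingCat.of k')).hom]
  ext x
  letI := (structMap k h).toAlgebra
  exact congrArg (fun φ : Γ(W, ⊤) →ₐ[k] k' => φ x) he

end


/-- If X is a variety of dimension r over a finite field k with q elements, there is a constant c_X > 0
with #X(F_{q^e}) ≤ c_X q^{re} for every e ≥ 1. Stated for any scheme of finite type over k of
dimension at most r, with a natural-number constant. -/
theorem result {k : Type u} [Field k] [Finite k] {X : Scheme.{u}}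
    (f : X ⟶ Spec (CommRingCat.of k)) [LocallyOfFiniteType f] [QuasiCompact f] (r : ℕ)
    (hr : topologicalKrullDim X ≤ r) :
    ∃ c : ℕ, ∀ (k' : Type u) [Field k'] [Algebra k k'] [Finite k'],
      SgaExt.pointCount f k' ≤ c * Nat.card k ^ (r * Module.finrank k k') := by
  haveI : CompactSpace X := QuasiCompact.compactSpace_of_compactSpace f
  let 𝒰 := X.affineCover.finiteSubcover
  haveI : ∀ i, IsAffine (𝒰.X i) := fun i => by
    dsimp [𝒰, Scheme.OpenCover.finiteSubcover]
    infer_instance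
  have hfinT : ∀ (i : 𝒰.I₀) (k' : Type u) [Field k'] [Algebra k k'] [Finite k'],
      Finite {g : Spec (CommRingCat.of k') ⟶ 𝒰.X i //
        g ≫ (𝒰.f i ≫ f) = Spec.map (CommRingCat.ofHom (algebraMap k k'))} := by
    intro i k' _ _ _
    letI := (structMap k (𝒰.f i ≫ f)).toAlgebra
    haveI : Algebra.FiniteType k Γ(𝒰.X i, ⊤) := finiteType_structMap k (𝒰.f i ≫ f)
    haveI := finite_algHom k Γ(𝒰.X i, ⊤) k'
    apply Finite.of_injective (fun g => pointHom (𝒰.f i ≫ f) k' g.1 g.2)
    intro g₁ g₂ he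
    exact Subtype.ext (pointHom_injective _ k' _ _ g₁.2 g₂.2 he)
  have hc : ∀ i : 𝒰.I₀, ∃ c : ℕ, ∀ (k' : Type u) [Field k'] [Algebra k k'] [Finite k'],
      Nat.card {g : Spec (CommRingCat.of k') ⟶ 𝒰.X i //
        g ≫ (𝒰.f i ≫ f) = Spec.map (CommRingCat.ofHom (algebraMap k k'))} ≤
        c * Nat.card k' ^ r := by
    intro i
    letI := (structMap k (𝒰.f i ≫ f)).toAlgebra
    haveI : Algebra.FiniteType k Γ(𝒰.X i, ⊤) := finiteType_structMap k (𝒰.f i ≫ f)
    have hdim : ringKrullDim Γ(𝒰.X i, ⊤) ≤ (r : WithBot ℕ∞) := by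
      rw [← dim_affine]
      exact le_trans ((𝒰.f i).isOpenEmbedding.isInducing.topologicalKrullDim_le) hr
    obtain ⟨c, hc⟩ := card_algHom_le k Γ(𝒰.X i, ⊤) r hdim
    refine ⟨c, fun k' _ _ _ => le_trans ?_ (hc k')⟩
    haveI := finite_algHom k Γ(𝒰.X i, ⊤) k'
    apply Nat.card_le_card_of_injective (fun g => pointHom (𝒰.f i ≫ f) k' g.1 g.2)
    intro g₁ g₂ he
    exact Subtype.ext (pointHom_injective _ k' _ _ g₁.2 g₂.2 he)
  choose c hc using hc
  refine ⟨∑ i, c i, fun k' _ _ _ => ?_⟩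
  unfold SgaExt.pointCount
  haveI : Module.Finite k k' := Module.Finite.of_finite
  have hcard : Nat.card k' = Nat.card k ^ Module.finrank k k' := Module.natCard_eq_pow_finrank
  haveI := fun i => hfinT i k'
  let T := fun i : 𝒰.I₀ => {g : Spec (CommRingCat.of k') ⟶ 𝒰.X i //
        g ≫ (𝒰.f i ≫ f) = Spec.map (CommRingCat.ofHom (algebraMap k k'))}
  -- the unique point of `Spec k'`
  let pt : Spec (CommRingCat.of k') := (default : PrimeSpectrum k')
  have hsub : ∀ y : Spec (CommRingCat.of k'), y = pt := fun y =>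
    Subsingleton.elim (α := PrimeSpectrum k') y pt
  have hrange : ∀ g : Spec (CommRingCat.of k') ⟶ X,
      Set.range g ⊆ Set.range (𝒰.f (𝒰.idx (g pt))) := by
    intro g
    rintro _ ⟨y, rfl⟩
    rw [hsub y]
    exact 𝒰.covers (g pt)
  let F : {g : Spec (CommRingCat.of k') ⟶ X //
      g ≫ f = Spec.map (CommRingCat.ofHom (algebraMap k k'))} → Σ i, T i := fun g =>
    ⟨𝒰.idx (g.1 pt), ⟨IsOpenImmersion.lift (𝒰.f (𝒰.idx (g.1 pt))) g.1 (hrange g.1), by
      rw [← Category.assoc, IsOpenImmersion.lift_fac]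
      exact g.2⟩⟩
  let G : (Σ i, T i) → (Spec (CommRingCat.of k') ⟶ X) := fun t => t.2.1 ≫ 𝒰.f t.1
  have hGF : ∀ g, G (F g) = g.1 := fun g => IsOpenImmersion.lift_fac _ _ _
  have hFinj : Function.Injective F := by
    intro g₁ g₂ h
    apply Subtype.ext
    rw [← hGF g₁, ← hGF g₂, h]
  calc Nat.card {g : Spec (CommRingCat.of k') ⟶ X //
        g ≫ f = Spec.map (CommRingCat.ofHom (algebraMap k k'))}
      ≤ Nat.card (Σ i, T i) := Nat.card_le_card_of_injective F hFinj
    _ = ∑ i, Nat.card (T i) := Nat.card_sigma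
    _ ≤ ∑ i, c i * Nat.card k' ^ r := Finset.sum_le_sum fun i _ => hc i k'
    _ = (∑ i, c i) * Nat.card k' ^ r := (Finset.sum_mul _ _ _).symm
    _ = (∑ i, c i) * Nat.card k ^ (r * Module.finrank k k') := by
        rw [hcard, ← pow_mul, mul_comm r]

end Groth.Agent.S13062
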