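import Groth.Statements.S13065
import Mathlib.FieldTheory.ChevalleyWarning

set_option autoImplicit false
universe u
open Zeta

namespace Groth.Agent.S13065

open MvPolynomial Finset

theorem sum_pow_card_sub_one (K : Type*) [Field K] [Fintype K] :
    ∑ a : K, a ^ (Fintype.card K - 1) = -1 := by
  classical
  have h : ∀ a : K, a ^ (Fintype.card K - 1) = 1 - if a = 0 then 1 else 0 := by
    intro a
    split_ifs with ha
    · have hq : 0 < Fintype.card K - 1 := by
        rw [← Fintype.card_units, Fintype.card_pos_iff]; exact ⟨1⟩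
      rw [ha, zero_pow hq.ne', sub_self]
    · rw [FiniteField.pow_card_sub_one_eq_one a ha, sub_zero]
  simp only [h, Finset.sum_sub_distrib, Finset.sum_const, Finset.card_univ, nsmul_eq_mul, mul_one,
    Finset.sum_ite_eq', Finset.mem_univ, if_true, FiniteField.cast_card_eq_zero, zero_sub]

/-- The sum of a monomial over all points. -/
theorem sum_monomial (K : Type*) [Field K] [Fintype K] {σ : Type*} [Fintype σ] [DecidableEq σ]
    (d : σ →₀ ℕ) : ∑ x : σ → K, ∏ i, x i ^ d i = ∏ i, ∑ a : K, a ^ d i := by
  classical
  rw [Finset.prod_univ_sum, Fintype.piFinset_univ]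

theorem key (K : Type*) [Field K] [Fintype K] (m : ℕ) (g : MvPolynomial (Fin m) K)
    (hg : g.IsHomogeneous (m * (Fintype.card K - 1))) :
    ∑ x : Fin m → K, eval x g =
      (-1) ^ m * coeff (Finsupp.equivFunOnFinite.symm fun _ : Fin m => Fintype.card K - 1) g := by
  classical
  set d0 : Fin m →₀ ℕ := Finsupp.equivFunOnFinite.symm fun _ : Fin m => Fintype.card K - 1 with hd0
  calc ∑ x : Fin m → K, eval x g
      = ∑ x : Fin m → K, ∑ d ∈ g.support, g.coeff d * ∏ i, x i ^ d i := by
        simp only [eval_eq']
    _ = ∑ d ∈ g.support, ∑ x : Fin m → K, g.coeff d * ∏ i, x i ^ d i := Finset.sum_comm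
    _ = ∑ d ∈ g.support, g.coeff d * ∏ i, ∑ a : K, a ^ d i := by
        refine Finset.sum_congr rfl fun d _ => ?_
        rw [← Finset.mul_sum, sum_monomial]
    _ = g.coeff d0 * ∏ i, ∑ a : K, a ^ d0 i := by
        apply Finset.sum_eq_single d0
        · intro d hd hne
          have hdeg : d.degree = m * (Fintype.card K - 1) := by
            by_contra hdeg
            exact (MvPolynomial.mem_support_iff.1 hd) (hg.coeff_eq_zero hdeg)
          -- some d i < q - 1
          have : ∃ i, d i < Fintype.card K - 1 := by
            by_contra hcon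
            push_neg at hcon
            apply hne
            have hsum : ∑ i, d i = ∑ _i : Fin m, (Fintype.card K - 1) := by
              rw [← Finsupp.degree_eq_sum, hdeg]; simp
            ext i
            have := (Finset.sum_eq_sum_iff_of_le (s := Finset.univ) (fun i _ => hcon i)).1 hsum.symm
            simpa [hd0] using (this i (Finset.mem_univ i)).symm
          obtain ⟨i, hi⟩ := this
          rw [Finset.prod_eq_zero (Finset.mem_univ i)
            (FiniteField.sum_pow_lt_card_sub_one K (d i) hi), mul_zero]
        · intro hd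
          rw [MvPolynomial.notMem_support_iff.1 hd, zero_mul]
    _ = (-1) ^ m * coeff d0 g := by
        have : ∀ i, ∑ a : K, a ^ d0 i = -1 := fun i => by
          simp only [hd0, Finsupp.equivFunOnFinite_symm_apply_apply]
          exact sum_pow_card_sub_one K
        simp only [this, Finset.prod_const, Finset.card_univ, Fintype.card_fin]
        ring

/-- Let k be a finite field with q elements and characteristic p, n ≥ 2, and f ∈ k[x_0, …, x_n]
homogeneous of degree n + 1, defining the hypersurface Z ⊂ P^n_k. Then #Z(F_q) ≢ 1 (mod p) if and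
only if the coefficient of (x_0 ⋯ x_n)^{q−1} in f^{q−1} is nonzero. Stated through the affine count:
#Z(F_q) ≡ 1 (mod p) exactly when p divides the number of zeros of f in k^{n+1} (as (q − 1) #Z(F_q) +
1 is that number). -/
theorem result {k : Type u} [Field k] [Finite k] (p : ℕ)
    [CharP k p] (n : ℕ) (hn : 2 ≤ n) (f : MvPolynomial (Fin (n + 1)) k)
    (hf : f.IsHomogeneous (n + 1)) :
    p ∣ Nat.card {a : Fin (n + 1) → k // MvPolynomial.eval a f = 0} ↔
      MvPolynomial.coeff (Finsupp.equivFunOnFinite.symm fun _ : Fin (n + 1) => Nat.card k - 1)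
        (f ^ (Nat.card k - 1)) = 0 := by
  classical
  letI : Fintype k := Fintype.ofFinite k
  rw [Nat.card_eq_fintype_card (α := k)]
  have hq : 0 < Fintype.card k - 1 := by
    rw [← Fintype.card_units, Fintype.card_pos_iff]; exact ⟨1⟩
  have hkey := key k (n + 1) (f ^ (Fintype.card k - 1)) (hf.pow _)
  rw [← CharP.cast_eq_zero_iff k p]
  have hcount : ((Nat.card {a : Fin (n + 1) → k // MvPolynomial.eval a f = 0} : ℕ) : k) =
      ∑ x : Fin (n + 1) → k, (1 - eval x (f ^ (Fintype.card k - 1))) := by
    rw [Nat.card_eq_fintype_card, Fintype.card_subtype, Finset.card_eq_sum_ones, Nat.cast_sum,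
      Finset.sum_filter]
    refine Finset.sum_congr rfl fun x _ => ?_
    rw [map_pow]
    split_ifs with hx
    · rw [hx, zero_pow hq.ne', sub_zero, Nat.cast_one]
    · rw [FiniteField.pow_card_sub_one_eq_one _ hx, sub_self]
  rw [hcount, Finset.sum_sub_distrib, hkey]
  simp only [Finset.sum_const, Finset.card_univ, Fintype.card_pi, Finset.prod_const,
    Fintype.card_fin, nsmul_eq_mul, mul_one, Nat.cast_pow, FiniteField.cast_card_eq_zero]
  rw [zero_pow (Nat.succ_ne_zero n), zero_sub, neg_eq_zero, mul_eq_zero]
  constructor
  · rintro (h | h)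
    · exact absurd h (pow_ne_zero _ (by simp))
    · exact h
  · intro h; exact Or.inr h

end Groth.Agent.S13065
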