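import Groth.Statements.S13066
import Mathlib.RingTheory.MvPolynomial.Expand
import Mathlib.RingTheory.MvPolynomial.Homogeneous
import Mathlib.FieldTheory.Finite.Basic

set_option autoImplicit false
universe u
open Zeta

namespace Groth.Agent.S13066

open MvPolynomial Finset

/-- the constant exponent vector `(m, …, m)` -/
noncomputable def dd (n m : ℕ) : Fin (n + 1) →₀ ℕ :=
  Finsupp.equivFunOnFinite.symm fun _ : Fin (n + 1) => m

theorem step {k : Type u} [Field k] (p : ℕ) [CharP k p] (hp : p.Prime) (n : ℕ)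
    (f : MvPolynomial (Fin (n + 1)) k) (hf : f.IsHomogeneous (n + 1)) (a : ℕ) :
    coeff (dd n (p ^ (a + 1) - 1)) (f ^ (p ^ (a + 1) - 1)) =
      (coeff (dd n (p ^ a - 1)) (f ^ (p ^ a - 1))) ^ p * coeff (dd n (p - 1)) (f ^ (p - 1)) := by
  classical
  haveI : ExpChar k p := ExpChar.prime hp
  have hp1 : 1 ≤ p := hp.one_lt.le
  have hpa : 1 ≤ p ^ a := Nat.one_le_pow _ _ hp.pos
  have e1 : p ^ (a + 1) - 1 = p * (p ^ a - 1) + (p - 1) := by
    have : p ^ (a + 1) = p * p ^ a := by ring
    rw [this]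
    zify [hp1, hpa, Nat.one_le_iff_ne_zero.2 (Nat.mul_ne_zero hp.ne_zero (pow_ne_zero a hp.ne_zero))]
    ring
  set h := f ^ (p ^ a - 1) with hh
  set g := f ^ (p - 1) with hgdef
  have hg : g.IsHomogeneous ((n + 1) * (p - 1)) := hf.pow _
  have hfp : f ^ (p ^ (a + 1) - 1) = map (frobenius k p) (expand p h) * g := by
    rw [map_frobenius_expand, hh, hgdef, ← pow_mul, ← pow_add, e1, mul_comm p]
  rw [hfp, coeff_mul]
  have hmem : (p • dd n (p ^ a - 1), dd n (p - 1)) ∈ antidiagonal (dd n (p ^ (a + 1) - 1)) := by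
    rw [mem_antidiagonal]
    ext i
    simp [dd, e1]
  rw [Finset.sum_eq_single_of_mem _ hmem]
  · rw [coeff_map, coeff_expand_smul p hp.ne_zero, frobenius_def]
  · rintro ⟨x, y⟩ hxy hne
    rw [mem_antidiagonal] at hxy
    by_contra hterm
    have hx : coeff x (map (frobenius k p) (expand p h)) ≠ 0 := left_ne_zero_of_mul hterm
    have hy : coeff y g ≠ 0 := right_ne_zero_of_mul hterm
    have hx' : coeff x (expand p h) ≠ 0 := by
      intro h0; apply hx; rw [coeff_map, h0, map_zero]
    have hdvd : ∀ i, p ∣ x i := by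
      intro i
      by_contra hnd
      exact hx' (coeff_expand_of_not_dvd h hnd)
    have hdeg : y.degree = (n + 1) * (p - 1) := by
      by_contra hdeg
      exact hy (hg.coeff_eq_zero hdeg)
    have hxyi : ∀ i, x i + y i = p * (p ^ a - 1) + (p - 1) := by
      intro i
      have := congrArg (fun z => z i) hxy
      simpa [dd, e1] using this
    have hyge : ∀ i, p - 1 ≤ y i := by
      intro i
      obtain ⟨t, ht⟩ := hdvd i
      have h1 := hxyi i
      rw [ht] at h1
      have h2 : (p * t + y i) % p = (p * (p ^ a - 1) + (p - 1)) % p := by rw [h1]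
      rw [Nat.mul_add_mod, Nat.mul_add_mod, Nat.mod_eq_of_lt (Nat.sub_lt hp.pos Nat.one_pos)] at h2
      calc p - 1 = y i % p := h2.symm
        _ ≤ y i := Nat.mod_le _ _
    have hyeq : ∀ i, y i = p - 1 := by
      have hsum : ∑ i, y i = ∑ _i : Fin (n + 1), (p - 1) := by
        rw [← Finsupp.degree_eq_sum, hdeg]; simp
      intro i
      have := (Finset.sum_eq_sum_iff_of_le (s := Finset.univ) (fun i _ => hyge i)).1 hsum.symm
      exact (this i (Finset.mem_univ i)).symm
    apply hne
    have hy2 : y = dd n (p - 1) := by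
      ext i; simp [dd, hyeq i]
    have hx2 : x = p • dd n (p ^ a - 1) := by
      ext i
      have := hxyi i
      rw [hyeq i] at this
      simp only [dd, Finsupp.coe_smul, Pi.smul_apply, Finsupp.equivFunOnFinite_symm_apply_apply,
        smul_eq_mul]
      omega
    rw [hx2, hy2]

/-- Let k be a finite field with q elements and characteristic p, n ≥ 2, and f ∈ k[x_0, …, x_n]
homogeneous of degree n + 1. Then the coefficient of (x_0 ⋯ x_n)^{q−1} in f^{q−1} is nonzero if and
only if the coefficient of (x_0 ⋯ x_n)^{p−1} in f^{p−1} is nonzero. -/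
theorem result {k : Type u} [Field k] [Finite k]
    (p : ℕ) [CharP k p] (n : ℕ) (hn : 2 ≤ n) (f : MvPolynomial (Fin (n + 1)) k)
    (hf : f.IsHomogeneous (n + 1)) :
    MvPolynomial.coeff (Finsupp.equivFunOnFinite.symm fun _ : Fin (n + 1) => Nat.card k - 1)
        (f ^ (Nat.card k - 1)) ≠ 0 ↔
      MvPolynomial.coeff (Finsupp.equivFunOnFinite.symm fun _ : Fin (n + 1) => p - 1)
        (f ^ (p - 1)) ≠ 0 := by
  classical
  letI : Fintype k := Fintype.ofFinite k
  obtain ⟨a, hp, hq⟩ := FiniteField.card k p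
  rw [Nat.card_eq_fintype_card, hq]
  obtain ⟨b, hb⟩ : ∃ b : ℕ, (a : ℕ) = b + 1 := ⟨a - 1, by have := a.pos; omega⟩
  rw [hb]
  have key : ∀ b : ℕ, coeff (dd n (p ^ (b + 1) - 1)) (f ^ (p ^ (b + 1) - 1)) ≠ 0 ↔
      coeff (dd n (p - 1)) (f ^ (p - 1)) ≠ 0 := by
    intro b
    induction b with
    | zero =>
      rw [step p hp n f hf 0]
      have h0 : dd n (p ^ 0 - 1) = 0 := by ext i; simp [dd]
      rw [h0, pow_zero, Nat.sub_self, pow_zero, coeff_zero_one, one_pow, one_mul]
    | succ b ih =>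
      rw [step p hp n f hf (b + 1), mul_ne_zero_iff, ne_eq, ne_eq, pow_eq_zero_iff hp.ne_zero]
      rw [ne_eq, ne_eq] at ih
      rw [ih]
      exact and_self_iff
  exact key b

end Groth.Agent.S13066
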