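import Groth.Statements.S13067
import Mathlib


set_option autoImplicit false
universe u
open CategoryTheory AlgebraicGeometry Limits
open Zeta

namespace Groth.Agent.S13067

theorem eq_of_pow_eq_self {A : Type*} [CommRing A] (q : ℕ) (hq : (q : A) = 0)
    {u v : A} (hu : u ^ q = u) (hv : v ^ q = v) (hn : IsNilpotent (u - v)) : u = v := by
  obtain ⟨c, hc⟩ := Polynomial.powAddExpansion v (u - v) q
  rw [add_sub_cancel, hu, hv, hq, zero_mul, zero_mul, add_zero] at hc
  have h1 : (u - v) * (1 - c * (u - v)) = 0 := by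
    have : u - v = c * (u - v) ^ 2 := by rw [sub_eq_iff_eq_add']; exact hc
    ring_nf
    ring_nf at this
    linear_combination this
  have h2 : IsUnit (1 - c * (u - v)) :=
    IsNilpotent.isUnit_one_sub ((Commute.all _ _).isNilpotent_mul_left hn)
  have h3 := h2.mul_left_eq_zero.mp h1
  exact sub_eq_zero.mp h3

theorem specMap_surjective_of_sq_zero {R S : CommRingCat.{u}} (φ : R ⟶ S)
    (hφ : Function.Surjective φ) (hker : RingHom.ker φ.hom ^ 2 = ⊥) :
    Function.Surjective (Spec.map φ) := by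
  intro x
  have h1 : Set.range (PrimeSpectrum.comap φ.hom) = PrimeSpectrum.zeroLocus (RingHom.ker φ.hom) :=
    range_comap_of_surjective S φ.hom hφ
  have h2 : (show PrimeSpectrum R from x) ∈
      PrimeSpectrum.zeroLocus (RingHom.ker φ.hom : Set R) := by
    rw [PrimeSpectrum.mem_zeroLocus]
    have : RingHom.ker φ.hom ^ 2 ≤ (show PrimeSpectrum R from x).asIdeal := by
      rw [hker]; exact bot_le
    exact (show PrimeSpectrum R from x).isPrime.le_of_pow_le this
  rw [← h1] at h2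
  obtain ⟨y, hy⟩ := h2
  exact ⟨y, hy⟩

theorem appLE_congr {X Y : Scheme.{u}} {a b : X ⟶ Y} (h : a = b) (V : Y.Opens) (W : X.Opens)
    (e : W ≤ a ⁻¹ᵁ V) : a.appLE V W e = b.appLE V W (h ▸ e) := by
  subst h; rfl

theorem frob_hom_ext {X : Scheme.{u}} (FX : X ⟶ X) (q : ℕ) (hle : ∀ U : X.Opens, U ≤ FX ⁻¹ᵁ U)
    (hFapp : ∀ (U : X.Opens) (s : Γ(X, U)), (FX.appLE U U (hle U)).hom s = s ^ q)
    {R S : CommRingCat.{u}} (φ : R ⟶ S) (hφ : Function.Surjective φ)
    (hker : RingHom.ker φ.hom ^ 2 = ⊥) (hq : (q : R) = 0)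
    (a₁ a₂ : Spec R ⟶ X) (h12 : Spec.map φ ≫ a₁ = Spec.map φ ≫ a₂)
    (h1 : a₁ ≫ FX = a₁) (h2 : a₂ ≫ FX = a₂) : a₁ = a₂ := by
  have hsurj := specMap_surjective_of_sq_zero φ hφ hker
  have hbase : ∀ x, a₁ x = a₂ x := by
    intro x
    obtain ⟨y, rfl⟩ := hsurj x
    exact congr($h12 y)
  refine Scheme.hom_ext_of_forall _ _ fun x ↦ ?_
  obtain ⟨_, ⟨V, hV, rfl⟩, hxV, -⟩ :=
    X.isBasis_affineOpens.exists_subset_of_mem_open (Set.mem_univ (a₁ x)) isOpen_univ
  obtain ⟨_, ⟨W, hW, rfl⟩, hxW, hWV : W ≤ _⟩ :=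
    (Spec R).isBasis_affineOpens.exists_subset_of_mem_open
      (And.intro hxV (show a₂ x ∈ V from (hbase x) ▸ hxV)) (a₁ ⁻¹ᵁ V ⊓ a₂ ⁻¹ᵁ V).isOpen
  refine ⟨W, hxW, ?_⟩
  have e1 : W ≤ a₁ ⁻¹ᵁ V := hWV.trans inf_le_left
  have e2 : W ≤ a₂ ⁻¹ᵁ V := hWV.trans inf_le_right
  suffices h : a₁.appLE V W e1 = a₂.appLE V W e2 by
    have h3 := hV.SpecMap_appLE_fromSpec a₁ hW e1
    have h4 := hV.SpecMap_appLE_fromSpec a₂ hW e2
    rw [h] at h3
    have h5 : hW.fromSpec ≫ a₁ = hW.fromSpec ≫ a₂ := h3.symm.trans h4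
    have h6 : hW.isoSpec.hom ≫ hW.fromSpec = Scheme.Opens.ι W := by
      simp [IsAffineOpen.isoSpec_hom]
    rw [← h6, Category.assoc, Category.assoc, h5]
  -- the ring-level claim
  ext s
  set A := Γ(Spec R, W)
  have hqA : (q : A) = 0 := by
    let ρ : R →+* A :=
      ((Scheme.ΓSpecIso R).inv ≫ (Spec R).presheaf.map (homOfLE (le_top : W ≤ ⊤)).op).hom
    have := congrArg ρ hq
    rwa [map_natCast, map_zero] at this
  have hfix : ∀ (a : Spec R ⟶ X) (ha : a ≫ FX = a) (e : W ≤ a ⁻¹ᵁ V),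
      ((a.appLE V W e).hom s) ^ q = (a.appLE V W e).hom s := by
    intro a ha e
    have e' : W ≤ (a ≫ FX) ⁻¹ᵁ V := by rw [ha]; exact e
    have h3 : (a ≫ FX).appLE V W e' = a.appLE V W e := appLE_congr ha V W e'
    have h4 : (a ≫ FX).appLE V W e' = FX.appLE V V (hle V) ≫ a.appLE V W e := by
      rw [Scheme.Hom.appLE_comp_appLE]
    rw [← map_pow, ← hFapp V s]
    rw [← CommRingCat.comp_apply, ← h4, h3]
  apply eq_of_pow_eq_self q hqA (hfix a₁ h1 e1) (hfix a₂ h2 e2)
  rw [Scheme.isNilpotent_iff_basicOpen_eq_bot_of_isCompact hW.isCompact]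
  have h7 : (Spec.map φ).app W ((a₁.appLE V W e1).hom s - (a₂.appLE V W e2).hom s) = 0 := by
    rw [map_sub, sub_eq_zero]
    have e1' : (Spec.map φ) ⁻¹ᵁ W ≤ (Spec.map φ ≫ a₁) ⁻¹ᵁ V := by
      rw [Scheme.Hom.comp_preimage]; exact (Spec.map φ).preimage_mono e1
    have e2' : (Spec.map φ) ⁻¹ᵁ W ≤ (Spec.map φ ≫ a₂) ⁻¹ᵁ V := by
      rw [Scheme.Hom.comp_preimage]; exact (Spec.map φ).preimage_mono e2
    have h8 : (Spec.map φ ≫ a₁).appLE V _ e1' = a₁.appLE V W e1 ≫ (Spec.map φ).app W := by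
      rw [Scheme.Hom.app_eq_appLE, Scheme.Hom.appLE_comp_appLE]
    have h9 : (Spec.map φ ≫ a₂).appLE V _ e2' = a₂.appLE V W e2 ≫ (Spec.map φ).app W := by
      rw [Scheme.Hom.app_eq_appLE, Scheme.Hom.appLE_comp_appLE]
    have h10 : (Spec.map φ ≫ a₁).appLE V _ e1' = (Spec.map φ ≫ a₂).appLE V _ e2' :=
      appLE_congr h12 V _ e1'
    rw [h8, h9] at h10
    exact congr($h10 s)
  rw [eq_bot_iff]
  intro y hy
  obtain ⟨y', rfl⟩ := hsurj y
  have h11 : y' ∈ (Spec.map φ) ⁻¹ᵁ ((Spec R).basicOpen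
      ((a₁.appLE V W e1).hom s - (a₂.appLE V W e2).hom s)) := hy
  rw [Scheme.preimage_basicOpen, h7, Scheme.basicOpen_zero] at h11
  exact h11



/-- A scheme which is formally unramified and locally of finite type over a field is reduced. -/
theorem isReduced_of_formallyUnramified_field {K : Type u} [Field K] {Z : Scheme.{u}}
    (g : Z ⟶ Spec (CommRingCat.of K)) [FormallyUnramified g] [LocallyOfFiniteType g] :
    IsReduced Z := by
  apply +allowSynthFailures @IsReduced.of_openCover (𝒰 := Z.affineCover)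
  intro i
  set Y := Z.affineCover.X i
  let h : Y ⟶ Spec (CommRingCat.of K) := Z.affineCover.f i ≫ g
  have hFU : FormallyUnramified h :=
    IsZariskiLocalAtSource.comp (P := @FormallyUnramified) inferInstance _
  have hFT : LocallyOfFiniteType h := inferInstance
  have h1 : (h.appTop).hom.FormallyUnramified :=
    (HasRingHomProperty.iff_of_isAffine (P := @FormallyUnramified)).mp hFU
  have h2 : (h.appTop).hom.FiniteType :=
    (HasRingHomProperty.iff_of_isAffine (P := @LocallyOfFiniteType)).mp hFT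
  let ψ : K →+* Γ(Y, ⊤) := ((Scheme.ΓSpecIso (CommRingCat.of K)).inv ≫ h.appTop).hom
  have h3 : ψ.FormallyUnramified := by
    have : ψ = (h.appTop).hom.comp (Scheme.ΓSpecIso (CommRingCat.of K)).inv.hom := rfl
    rw [this]
    exact RingHom.FormallyUnramified.stableUnderComposition _ _
      (RingHom.FormallyUnramified.of_surjective
        (ConcreteCategory.bijective_of_isIso (Scheme.ΓSpecIso (CommRingCat.of K)).inv).2) h1
  have h4 : ψ.FiniteType := by
    have : ψ = (h.appTop).hom.comp (Scheme.ΓSpecIso (CommRingCat.of K)).inv.hom := rfl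
    rw [this]
    exact RingHom.FiniteType.comp h2 (RingHom.FiniteType.of_surjective _
        (ConcreteCategory.bijective_of_isIso (Scheme.ΓSpecIso (CommRingCat.of K)).inv).2)
  algebraize [ψ]
  have : _root_.IsReduced Γ(Y, ⊤) := Algebra.FormallyUnramified.isReduced_of_field K Γ(Y, ⊤)
  exact isReduced_of_isAffine_isReduced Y

/-- Let X be smooth over a finite field k = F_q, k̄ an algebraic closure, and F = Frob_{X,q} × id the
k̄-endomorphism of X̄ = X ×_k k̄ induced by the q-Frobenius of X. Then the intersection Γ_F ∩ Δ of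
the graph of F with the diagonal in X̄ ×_{k̄} X̄ is a reduced (finite) scheme. The published
statement is for the graph of F^r, r ≥ 1; that case is this one applied to X ×_k F_{q^r}, whose
q^r-Frobenius induces F^r on X̄. The q-Frobenius F_X is pinned as the endomorphism that is the
identity on points and raises sections to the q-th power, and F by F ≫ pr_1 = pr_1 ≫ F_X and F ≫
pr_2 = pr_2. -/
theorem result {k : Type u} [Field k] [Finite k]
    {X : Scheme.{u}} (f : X ⟶ Spec (CommRingCat.of k)) [Smooth f] (FX : X ⟶ X)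
    (hFb : FX.base = 𝟙 _) (hle : ∀ U : X.Opens, U ≤ FX ⁻¹ᵁ U)
    (hFapp : ∀ (U : X.Opens) (s : Γ(X, U)), (FX.appLE U U (hle U)).hom s = s ^ Nat.card k)
    (F : FinFr.ext (AlgebraicClosure k) f ⟶ FinFr.ext (AlgebraicClosure k) f)
    (hF1 : F ≫ FinFr.extπ (AlgebraicClosure k) f = FinFr.extπ (AlgebraicClosure k) f ≫ FX)
    (hF2 : F ≫ FinFr.extStr (AlgebraicClosure k) f = FinFr.extStr (AlgebraicClosure k) f) :
    IsReduced (FinFr.fixScheme (FinFr.extStr (AlgebraicClosure k) f) F hF2) := by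
  set K := AlgebraicClosure k
  set p := FinFr.extStr K f with hp
  set π := FinFr.extπ K f with hπ
  -- the fixed scheme and its projection
  let Δ : FinFr.ext K f ⟶ pullback p p := pullback.lift (𝟙 _) (𝟙 _) rfl
  let Γ' : FinFr.ext K f ⟶ pullback p p := pullback.lift (𝟙 _) F (by rw [hF2, Category.id_comp])
  let i : FinFr.fixScheme p F hF2 ⟶ FinFr.ext K f := pullback.fst Γ' Δ
  have hcond : i ≫ Γ' = pullback.snd Γ' Δ ≫ Δ := pullback.condition
  have eΓ1 : Γ' ≫ pullback.fst p p = 𝟙 _ := pullback.lift_fst _ _ _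
  have eΓ2 : Γ' ≫ pullback.snd p p = F := pullback.lift_snd _ _ _
  have eΔ1 : Δ ≫ pullback.fst p p = 𝟙 _ := pullback.lift_fst _ _ _
  have eΔ2 : Δ ≫ pullback.snd p p = 𝟙 _ := pullback.lift_snd _ _ _
  have hfs : i = pullback.snd Γ' Δ := by
    have := congr($hcond ≫ pullback.fst p p)
    rwa [Category.assoc, Category.assoc, eΓ1, eΔ1, Category.comp_id, Category.comp_id] at this
  have hiF : i ≫ F = i := by
    have := congr($hcond ≫ pullback.snd p p)
    rw [Category.assoc, Category.assoc, eΓ2, eΔ2, Category.comp_id] at this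
    rw [this, ← hfs]
  have hΔmono : Mono Δ := mono_of_mono_fac (pullback.lift_fst _ _ _ : Δ ≫ pullback.fst p p = 𝟙 _)
  have himono : Mono i := inferInstanceAs (Mono (pullback.fst Γ' Δ))
  have hΔimm : IsImmersion Δ := inferInstanceAs (IsImmersion (pullback.diagonal p))
  have hiimm : IsImmersion i := MorphismProperty.pullback_fst _ _ hΔimm
  have hplft : LocallyOfFiniteType p := MorphismProperty.pullback_snd _ _ inferInstance
  let g : FinFr.fixScheme p F hF2 ⟶ Spec (CommRingCat.of K) := i ≫ p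
  have hglft : LocallyOfFiniteType g := inferInstance
  have hq0 : ((Nat.card k : ℕ) : k) = 0 := by
    have := Fintype.ofFinite k
    rw [Nat.card_eq_fintype_card]
    exact FiniteField.cast_card_eq_zero k
  have hgFU : FormallyUnramified g := by
    refine FormallyUnramified.of_hom_ext g fun R S φ hφ hker g₁ g₂ h12 hg ↦ ?_
    rw [← cancel_mono i]
    -- a ring hom `k → R`
    have hq : ((Nat.card k : ℕ) : R) = 0 := by
      let χ : CommRingCat.of k ⟶ R := Spec.preimage (g₁ ≫ g ≫ FinFr.specι k K)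
      have := congrArg χ.hom hq0
      rwa [map_natCast, map_zero] at this
    refine pullback.hom_ext ?_ ?_
    · have key := frob_hom_ext FX (Nat.card k) hle hFapp φ hφ hker hq
        (g₁ ≫ i ≫ π) (g₂ ≫ i ≫ π) (by rw [reassoc_of% h12]) ?_ ?_
      · simpa [Category.assoc] using key
      · rw [Category.assoc, Category.assoc, ← hF1, reassoc_of% hiF]
      · rw [Category.assoc, Category.assoc, ← hF1, reassoc_of% hiF]
    · simpa [g, Category.assoc] using hg
  exact isReduced_of_formallyUnramified_field g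

end Groth.Agent.S13067
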