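import Groth.Statements.S13070
import Groth.Agent.Lib.H15ZPointCount
import Groth.Agent.Lib.H8DenseDim

set_option autoImplicit false
universe u
open CategoryTheory AlgebraicGeometry
open Zeta

namespace Groth.Agent.S13070

open Groth.Agent.Lib.H15ZPointCount Groth.Agent.Lib.H8DenseDim

set_option linter.style.haveILetI false
set_option linter.unusedSectionVars false

/-- the global sections of an affine scheme of finite type over `ℤ` form a finite type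
`ℤ`-algebra -/
theorem finiteType_int_of_isAffine (Z : Scheme.{u}) [IsAffine Z]
    (tZ : Z ⟶ Spec (.of (ULift.{u} ℤ))) [LocallyOfFiniteType tZ] :
    Algebra.FiniteType ℤ Γ(Z, ⊤) := by
  have hQ : (tZ.appTop).hom.FiniteType :=
    (HasRingHomProperty.iff_of_isAffine (P := @LocallyOfFiniteType)).mp inferInstance
  let θ : ℤ →+* Γ(Z, ⊤) :=
    (tZ.appTop.hom.comp (Scheme.ΓSpecIso (.of (ULift.{u} ℤ))).inv.hom).comp
      (ULift.ringEquiv (R := ℤ)).symm.toRingHom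
  have hθ : θ.FiniteType :=
    RingHom.FiniteType.comp (RingHom.FiniteType.comp hQ (RingHom.FiniteType.of_surjective _
      (ConcreteCategory.bijective_of_isIso (Scheme.ΓSpecIso (.of (ULift.{u} ℤ))).inv).2))
      (RingHom.FiniteType.of_surjective _ (ULift.ringEquiv (R := ℤ)).symm.surjective)
  have h1 : θ = algebraMap ℤ Γ(Z, ⊤) := RingHom.ext_int _ _
  rw [h1] at hθ
  exact RingHom.finiteType_algebraMap.mp hθ

/-- points of an affine scheme in a field inject into ring homs out of the global sections -/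
theorem card_hom_le_of_isAffine (Z : Scheme.{u}) [IsAffine Z] (F : Type u) [Field F]
    [Finite (Γ(Z, ⊤) →+* F)] :
    Finite (Spec (.of F) ⟶ Z) ∧ Nat.card (Spec (.of F) ⟶ Z) ≤ Nat.card (Γ(Z, ⊤) →+* F) := by
  have hinj : Function.Injective
      (fun g : Spec (.of F) ⟶ Z => (g.appTop ≫ (Scheme.ΓSpecIso (.of F)).hom).hom) := by
    intro g₁ g₂ h
    apply ext_of_isAffine
    have h' : g₁.appTop ≫ (Scheme.ΓSpecIso (.of F)).hom =
        g₂.appTop ≫ (Scheme.ΓSpecIso (.of F)).hom := CommRingCat.hom_ext h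
    exact (cancel_mono _).mp h'
  exact ⟨Finite.of_injective _ hinj, Nat.card_le_card_of_injective _ hinj⟩

/-- scheme-level natural number bound -/
theorem exists_nat_bound {X : Scheme.{u}}
    (f : X ⟶ Spec (CommRingCat.of (ULift.{u} ℤ))) [LocallyOfFiniteType f] [QuasiCompact f] (r : ℕ)
    (hr : topologicalKrullDim X ≤ r) :
    ∃ (C N : ℕ), N ≠ 0 ∧ ∀ (F : Type u) [Field F] [Finite F],
      Nat.card (Spec (CommRingCat.of F) ⟶ X) ≤ C * Nat.card F ^ r ∧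
      ((N : F) ≠ 0 → Nat.card (Spec (CommRingCat.of F) ⟶ X) * Nat.card F ≤ C * Nat.card F ^ r) := by
  classical
  haveI : CompactSpace X := QuasiCompact.compactSpace_of_compactSpace f
  let 𝒰 := X.affineCover.finiteSubcover
  haveI : ∀ i, IsAffine (𝒰.X i) := fun i => by
    dsimp [𝒰, Scheme.OpenCover.finiteSubcover]
    infer_instance
  haveI hft : ∀ i, Algebra.FiniteType ℤ Γ(𝒰.X i, ⊤) := fun i =>
    finiteType_int_of_isAffine (𝒰.X i) (𝒰.f i ≫ f)
  have hdim : ∀ i, ringKrullDim Γ(𝒰.X i, ⊤) ≤ (r : WithBot ℕ∞) := by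
    intro i
    rw [← dim_affine]
    exact le_trans ((𝒰.f i).isOpenEmbedding.isInducing.topologicalKrullDim_le) hr
  have hex := fun i => exists_card_ringHom_le.{u, u} Γ(𝒰.X i, ⊤) r (hdim i)
  choose C N hN hCN using hex
  refine ⟨∑ i, C i, ∏ i, N i, Finset.prod_ne_zero_iff.mpr (fun i _ => hN i), fun F _ _ => ?_⟩
  haveI hfinA : ∀ i, Finite (Γ(𝒰.X i, ⊤) →+* F) := fun i => finite_ringHom _ F
  have hT : ∀ i, Finite (Spec (.of F) ⟶ 𝒰.X i) ∧
      Nat.card (Spec (.of F) ⟶ 𝒰.X i) ≤ Nat.card (Γ(𝒰.X i, ⊤) →+* F) := fun i =>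
    card_hom_le_of_isAffine (𝒰.X i) F
  haveI : ∀ i, Finite (Spec (.of F) ⟶ 𝒰.X i) := fun i => (hT i).1
  -- the unique point of `Spec F`
  let pt : Spec (CommRingCat.of F) := (default : PrimeSpectrum F)
  have hsub : ∀ y : Spec (CommRingCat.of F), y = pt := fun y =>
    Subsingleton.elim (α := PrimeSpectrum F) y pt
  have hrange : ∀ g : Spec (CommRingCat.of F) ⟶ X,
      Set.range g ⊆ Set.range (𝒰.f (𝒰.idx (g pt))) := by
    intro g
    rintro _ ⟨y, rfl⟩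
    rw [hsub y]
    exact 𝒰.covers (g pt)
  let Φ : (Spec (CommRingCat.of F) ⟶ X) → Σ i, (Spec (.of F) ⟶ 𝒰.X i) := fun g =>
    ⟨𝒰.idx (g pt), IsOpenImmersion.lift (𝒰.f (𝒰.idx (g pt))) g (hrange g)⟩
  let G : (Σ i, (Spec (.of F) ⟶ 𝒰.X i)) → (Spec (CommRingCat.of F) ⟶ X) := fun t => t.2 ≫ 𝒰.f t.1
  have hGΦ : ∀ g, G (Φ g) = g := fun g => IsOpenImmersion.lift_fac _ _ _
  have hΦinj : Function.Injective Φ := by
    intro g₁ g₂ h
    rw [← hGΦ g₁, ← hGΦ g₂, h]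
  have hsum : Nat.card (Spec (CommRingCat.of F) ⟶ X) ≤
      ∑ i, Nat.card (Γ(𝒰.X i, ⊤) →+* F) :=
    calc Nat.card (Spec (CommRingCat.of F) ⟶ X)
        ≤ Nat.card (Σ i, (Spec (.of F) ⟶ 𝒰.X i)) := Nat.card_le_card_of_injective Φ hΦinj
      _ = ∑ i, Nat.card (Spec (.of F) ⟶ 𝒰.X i) := Nat.card_sigma
      _ ≤ ∑ i, Nat.card (Γ(𝒰.X i, ⊤) →+* F) := Finset.sum_le_sum fun i _ => (hT i).2
  constructor
  · calc Nat.card (Spec (CommRingCat.of F) ⟶ X) ≤ ∑ i, Nat.card (Γ(𝒰.X i, ⊤) →+* F) := hsum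
      _ ≤ ∑ i, C i * Nat.card F ^ r := Finset.sum_le_sum fun i _ => (hCN i F).1
      _ = (∑ i, C i) * Nat.card F ^ r := (Finset.sum_mul _ _ _).symm
  · intro hNF
    have hNi : ∀ i, (N i : F) ≠ 0 := by
      intro i h0
      apply hNF
      rw [Nat.cast_prod]
      exact Finset.prod_eq_zero (Finset.mem_univ i) h0
    calc Nat.card (Spec (CommRingCat.of F) ⟶ X) * Nat.card F
        ≤ (∑ i, Nat.card (Γ(𝒰.X i, ⊤) →+* F)) * Nat.card F := Nat.mul_le_mul_right _ hsum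
      _ = ∑ i, Nat.card (Γ(𝒰.X i, ⊤) →+* F) * Nat.card F := Finset.sum_mul _ _ _
      _ ≤ ∑ i, C i * Nat.card F ^ r := Finset.sum_le_sum fun i _ => (hCN i F).2 (hNi i)
      _ = (∑ i, C i) * Nat.card F ^ r := (Finset.sum_mul _ _ _).symm

/-- a field with `p ^ m` elements (`m ≥ 1`) has characteristic `p` -/
theorem natCast_ne_zero_of_card {F : Type u} [Field F] [Finite F] {p m : ℕ} (hp : p.Prime)
    (hm : 1 ≤ m) (hF : Nat.card F = p ^ m) (N : ℕ) (hN : N ≠ 0) (hpN : N < p) : (N : F) ≠ 0 := by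
  letI := Fintype.ofFinite F
  haveI := ringChar.charP F
  obtain ⟨n, hq, hcard⟩ := FiniteField.card F (ringChar F)
  rw [Nat.card_eq_fintype_card, hcard] at hF
  have h1 : p ∣ ringChar F ^ (n : ℕ) := by
    rw [hF]
    exact dvd_pow_self p (by omega)
  have h2 : p = ringChar F := (Nat.prime_dvd_prime_iff_eq hp hq).mp (hp.dvd_of_dvd_pow h1)
  intro h0
  have h3 : ringChar F ∣ N := (CharP.cast_eq_zero_iff F (ringChar F) N).mp h0
  rw [← h2] at h3
  have := Nat.le_of_dvd (Nat.pos_of_ne_zero hN) h3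
  omega

/-- For an arithmetic scheme X (of finite type over ℤ) of dimension r there are c_X > 0 and p₀ such that
#X(F_{p^m}) ≤ c_X p^{m(r−1)} for all primes p ≥ p₀ and m ≥ 1, and #X(F_{p^m}) ≤ c_X p^{mr} for p <
p₀ and m ≥ 1. Here #X(F) is the number of morphisms Spec F → X, and the dimension is only assumed ≤
r. -/
theorem result {X : Scheme.{u}}
    (f : X ⟶ Spec (CommRingCat.of (ULift.{u} ℤ))) [LocallyOfFiniteType f] [QuasiCompact f] (r : ℕ)
    (hr : topologicalKrullDim X ≤ r) :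
    ∃ (c : ℝ) (p₀ : ℕ), 0 < c ∧ ∀ (p m : ℕ), p.Prime → 1 ≤ m →
      ∀ (F : Type u) [Field F], Nat.card F = p ^ m →
        (p₀ ≤ p → (Nat.card (Spec (CommRingCat.of F) ⟶ X) : ℝ) ≤
            c * (p : ℝ) ^ ((m : ℝ) * ((r : ℝ) - 1))) ∧
        (p < p₀ → (Nat.card (Spec (CommRingCat.of F) ⟶ X) : ℝ) ≤ c * (p : ℝ) ^ ((m : ℝ) * r)) := by
  obtain ⟨C, N, hN, hCN⟩ := exists_nat_bound f r hr
  refine ⟨(C : ℝ) + 1, N + 1, by positivity, fun p m hp hm F _ hF => ?_⟩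
  haveI : Finite F := Nat.finite_of_card_ne_zero (by rw [hF]; exact pow_ne_zero _ hp.ne_zero)
  obtain ⟨h1, h2⟩ := hCN F
  have hp0 : (0 : ℝ) < (p : ℝ) := by exact_mod_cast hp.pos
  have hpm : (0 : ℝ) < ((p : ℝ) ^ m) := pow_pos hp0 m
  -- `p ^ (m * r)` as a natural power
  have hpow : (p : ℝ) ^ ((m : ℝ) * (r : ℝ)) = (((p ^ m : ℕ) : ℝ)) ^ r := by
    rw [Nat.cast_pow, ← pow_mul, ← Real.rpow_natCast, Nat.cast_mul]
  constructor
  · intro hp₀
    have hNF : (N : F) ≠ 0 := natCast_ne_zero_of_card hp hm hF N hN (by omega)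
    have h3 := h2 hNF
    rw [hF] at h3
    have h4 : (Nat.card (Spec (CommRingCat.of F) ⟶ X) : ℝ) * ((p : ℝ) ^ m) ≤
        (C : ℝ) * (((p ^ m : ℕ) : ℝ)) ^ r := by
      exact_mod_cast h3
    have hpow' : (p : ℝ) ^ ((m : ℝ) * ((r : ℝ) - 1)) = (((p ^ m : ℕ) : ℝ)) ^ r / ((p : ℝ) ^ m) := by
      rw [mul_sub, mul_one, Real.rpow_sub hp0, hpow, Real.rpow_natCast]
    rw [hpow']
    have h5 : (Nat.card (Spec (CommRingCat.of F) ⟶ X) : ℝ) ≤
        (C : ℝ) * ((((p ^ m : ℕ) : ℝ)) ^ r / ((p : ℝ) ^ m)) := by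
      rw [← mul_div_assoc, le_div_iff₀ hpm]
      exact h4
    refine h5.trans ?_
    have : (0 : ℝ) ≤ (((p ^ m : ℕ) : ℝ)) ^ r / ((p : ℝ) ^ m) := by positivity
    nlinarith
  · intro _
    rw [hF] at h1
    have h4 : (Nat.card (Spec (CommRingCat.of F) ⟶ X) : ℝ) ≤
        (C : ℝ) * (((p ^ m : ℕ) : ℝ)) ^ r := by
      exact_mod_cast h1
    rw [hpow]
    refine h4.trans ?_
    have : (0 : ℝ) ≤ (((p ^ m : ℕ) : ℝ)) ^ r := by positivity
    nlinarith

end Groth.Agent.S13070
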