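import Groth.Statements.S13071
import Mathlib
import Groth.Agent.Lib.GalOrbit37

set_option autoImplicit false
universe u
open CategoryTheory AlgebraicGeometry Limits
open Zeta

namespace Groth.Agent.S13071

open TensorProduct Groth.Agent.Lib.GalOrbit37

/-- For a variety X over a perfect field k with algebraic closure k̄, the fibres of the projection π :
X_{k̄} → X are exactly the orbits of G(k̄/k) acting on X_{k̄} (σ acting as id × Spec σ). Stated for
any scheme of finite type over k; each τ_σ is pinned by τ_σ ≫ pr_1 = pr_1 and τ_σ ≫ pr_2 = pr_2 ≫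
Spec σ. -/
theorem result {k : Type u} [Field k] [PerfectField k]
    {X : Scheme.{u}} (f : X ⟶ Spec (CommRingCat.of k)) [LocallyOfFiniteType f] [QuasiCompact f]
    (τ : (AlgebraicClosure k ≃ₐ[k] AlgebraicClosure k) →
      (pullback f (Spec.map (CommRingCat.ofHom (algebraMap k (AlgebraicClosure k)))) ⟶
        pullback f (Spec.map (CommRingCat.ofHom (algebraMap k (AlgebraicClosure k))))))
    (hτ1 : ∀ σ, τ σ ≫ pullback.fst f _ = pullback.fst f _)
    (hτ2 : ∀ σ, τ σ ≫ pullback.snd f (Spec.map (CommRingCat.ofHom (algebraMap k (AlgebraicClosure k)))) =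
        pullback.snd f _ ≫ Spec.map (CommRingCat.ofHom (σ : AlgebraicClosure k →+* AlgebraicClosure k)))
    (x y : ↑(pullback f (Spec.map (CommRingCat.ofHom (algebraMap k (AlgebraicClosure k)))))) :
    (pullback.fst f (Spec.map (CommRingCat.ofHom (algebraMap k (AlgebraicClosure k))))).base x =
        (pullback.fst f (Spec.map (CommRingCat.ofHom (algebraMap k (AlgebraicClosure k))))).base y ↔
      ∃ σ, (τ σ).base x = y := by
  let K := AlgebraicClosure k
  let sι : Spec (CommRingCat.of K) ⟶ Spec (CommRingCat.of k) :=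
    Spec.map (CommRingCat.ofHom (algebraMap k (AlgebraicClosure k)))
  let π : pullback f sι ⟶ X := pullback.fst f sι
  let str : pullback f sι ⟶ Spec (CommRingCat.of K) := pullback.snd f sι
  have hτ1' : ∀ σ, τ σ ≫ π = π := hτ1
  have hτ2' : ∀ σ : K ≃ₐ[k] K, τ σ ≫ str = str ≫ Spec.map (CommRingCat.ofHom (σ : K →+* K)) := hτ2
  change π.base x = π.base y ↔ ∃ σ, (τ σ).base x = y
  constructor
  swap
  · rintro ⟨σ, rfl⟩
    change π.base x = (τ σ ≫ π).base x
    rw [hτ1']
  intro hxy
  obtain ⟨_, ⟨U, hU, rfl⟩, hxU, -⟩ :=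
    X.isBasis_affineOpens.exists_subset_of_mem_open (Set.mem_univ (π.base x)) isOpen_univ
  let j : Spec Γ(X, U) ⟶ X := hU.fromSpec
  let ψ : CommRingCat.of k ⟶ Γ(X, U) := Spec.preimage (j ≫ f)
  have hψ : Spec.map ψ = j ≫ f := Spec.map_preimage _
  algebraize [ψ.hom]
  have hψ' : Spec.map (CommRingCat.ofHom (algebraMap k Γ(X, U))) = j ≫ f := hψ
  have hft : Algebra.FiniteType k Γ(X, U) := by
    have : LocallyOfFiniteType (Spec.map ψ) := by rw [hψ]; infer_instance
    exact (HasRingHomProperty.Spec_iff (P := @LocallyOfFiniteType)).mp this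
  let T := Γ(X, U) ⊗[k] K
  let iA : Γ(X, U) ⟶ CommRingCat.of T :=
    CommRingCat.ofHom Algebra.TensorProduct.includeLeftRingHom
  let iK : CommRingCat.of K ⟶ CommRingCat.of T :=
    CommRingCat.ofHom Algebra.TensorProduct.includeRight.toRingHom
  have hpo := CommRingCat.isPushout_tensorProduct k Γ(X, U) K
  have hbig : IsPullback (Spec.map iA) (Spec.map iK)
      (Spec.map (CommRingCat.ofHom (algebraMap k Γ(X, U)))) sι :=
    isPullback_SpecMap_of_isPushout _ _ _ _ hpo
  let j' : Spec (CommRingCat.of T) ⟶ pullback f sι :=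
    pullback.lift (Spec.map iA ≫ j) (Spec.map iK) (by
      rw [Category.assoc, ← hψ']; exact hbig.w)
  have hj'1 : j' ≫ π = Spec.map iA ≫ j := pullback.lift_fst _ _ _
  have hj'2 : j' ≫ str = Spec.map iK := pullback.lift_snd _ _ _
  have hsq : IsPullback j' (Spec.map iA) π j := by
    refine IsPullback.of_right ?_ hj'1 (IsPullback.of_hasPullback f sι).flip
    rw [hj'2, ← hψ']
    exact hbig.flip
  -- lift the points
  have hxU' : π.base x ∈ Set.range j.base := by
    rw [hU.range_fromSpec]; exact hxU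
  obtain ⟨x₀, hx₀⟩ := hxU'
  obtain ⟨p, hp1, hp2⟩ := Scheme.exists_preimage_of_isPullback hsq x x₀ hx₀.symm
  obtain ⟨p', hp'1, hp'2⟩ := Scheme.exists_preimage_of_isPullback hsq y x₀ (hxy ▸ hx₀.symm)
  have hcontr : p.asIdeal.comap (algebraMap Γ(X, U) T) = p'.asIdeal.comap (algebraMap Γ(X, U) T) := by
    have := hp2.trans hp'2.symm
    exact congrArg PrimeSpectrum.asIdeal this
  have hgal : IsGalois k K := IsGalois.mk
  obtain ⟨σ, hσ⟩ := exists_comap_gal_eq k K Γ(X, U) p.asIdeal p'.asIdeal hcontr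
  refine ⟨σ, ?_⟩
  let Sg : CommRingCat.of T ⟶ CommRingCat.of T :=
    CommRingCat.ofHom (galHom k K Γ(X, U) σ).toRingHom
  have hSgA : iA ≫ Sg = iA := by
    ext a
    change galHom k K Γ(X, U) σ (a ⊗ₜ 1) = a ⊗ₜ 1
    rw [galHom_tmul, map_one]
  have hSgK : iK ≫ Sg = CommRingCat.ofHom (σ : K →+* K) ≫ iK := by
    ext c
    change galHom k K Γ(X, U) σ (1 ⊗ₜ c) = 1 ⊗ₜ σ c
    rw [galHom_tmul]
  have hcomm : Spec.map Sg ≫ j' = j' ≫ τ σ := by
    apply pullback.hom_ext
    · change (Spec.map Sg ≫ j') ≫ π = (j' ≫ τ σ) ≫ π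
      rw [Category.assoc, Category.assoc, hτ1', hj'1, ← Category.assoc, ← Spec.map_comp, hSgA]
    · change (Spec.map Sg ≫ j') ≫ str = (j' ≫ τ σ) ≫ str
      rw [Category.assoc, Category.assoc, hτ2', hj'2, ← Category.assoc j', hj'2, ← Spec.map_comp,
        ← Spec.map_comp, hSgK]
  rw [← hp1, ← hp'1]
  change (j' ≫ τ σ).base p = _
  rw [← hcomm]
  change j'.base ((Spec.map Sg).base p) = j'.base p'
  congr 1
  apply PrimeSpectrum.ext
  exact hσ.symm

end Groth.Agent.S13071
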