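import Groth.Statements.S13072
import Mathlib
import Groth.Agent.Lib.FrobOrbit37

set_option autoImplicit false
universe u
open CategoryTheory AlgebraicGeometry Limits
open Zeta

namespace Groth.Agent.S13072

open TensorProduct Groth.Agent.Lib.FrobOrbit37

/-- iterates of `Spec.map φ` on points are iterated comaps of ideals -/
theorem asIdeal_iterate_specMap {R : CommRingCat.{u}} (φ : R ⟶ R) (m : ℕ) (y : Spec R) :
    (((Spec.map φ).base)^[m] y).asIdeal = (Ideal.comap φ.hom)^[m] y.asIdeal := by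
  induction m generalizing y with
  | zero => rfl
  | succ m ih =>
    rw [Function.iterate_succ_apply, ih, Function.iterate_succ_apply]
    rfl

/-- transitivity of the iterates of `F` on the fibres of `X_{k̄} → X`. -/
theorem exists_iterate_eq {k : Type u} [Field k] [Finite k]
    {X : Scheme.{u}} (f : X ⟶ Spec (CommRingCat.of k)) [LocallyOfFiniteType f]
    (FX : X ⟶ X) (hle : ∀ U : X.Opens, U ≤ FX ⁻¹ᵁ U)
    (hFapp : ∀ (U : X.Opens) (s : Γ(X, U)), (FX.appLE U U (hle U)).hom s = s ^ Nat.card k)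
    (F : FinFr.ext (AlgebraicClosure k) f ⟶ FinFr.ext (AlgebraicClosure k) f)
    (hF1 : F ≫ FinFr.extπ (AlgebraicClosure k) f = FinFr.extπ (AlgebraicClosure k) f ≫ FX)
    (hF2 : F ≫ FinFr.extStr (AlgebraicClosure k) f = FinFr.extStr (AlgebraicClosure k) f)
    (z z' : ↑(FinFr.ext (AlgebraicClosure k) f))
    (hzz' : (FinFr.extπ (AlgebraicClosure k) f).base z = (FinFr.extπ (AlgebraicClosure k) f).base z') :
    ∃ m : ℕ, (F.base)^[m] z = z' := by
  let K := AlgebraicClosure k
  let := Fintype.ofFinite k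
  have hq : Nat.card k = Fintype.card k := Nat.card_eq_fintype_card
  set π := FinFr.extπ (AlgebraicClosure k) f with hπ
  set str := FinFr.extStr (AlgebraicClosure k) f with hstr
  obtain ⟨_, ⟨U, hU, rfl⟩, hxU, -⟩ :=
    X.isBasis_affineOpens.exists_subset_of_mem_open (Set.mem_univ (π.base z)) isOpen_univ
  let j : Spec Γ(X, U) ⟶ X := hU.fromSpec
  let ψ : CommRingCat.of k ⟶ Γ(X, U) := Spec.preimage (j ≫ f)
  have hψ : Spec.map ψ = j ≫ f := Spec.map_preimage _
  algebraize [ψ.hom]
  have hψ' : Spec.map (CommRingCat.ofHom (algebraMap k Γ(X, U))) = j ≫ f := hψ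
  have hft : Algebra.FiniteType k Γ(X, U) := by
    have : LocallyOfFiniteType (Spec.map ψ) := by rw [hψ]; infer_instance
    exact (HasRingHomProperty.Spec_iff (P := @LocallyOfFiniteType)).mp this
  let T := Γ(X, U) ⊗[k] K
  let iA : Γ(X, U) ⟶ CommRingCat.of T :=
    CommRingCat.ofHom Algebra.TensorProduct.includeLeftRingHom
  let iK : CommRingCat.of K ⟶ CommRingCat.of T :=
    CommRingCat.ofHom Algebra.TensorProduct.includeRight.toRingHom
  have hpo := CommRingCat.isPushout_tensorProduct k Γ(X, U) K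
  have hbig : IsPullback (Spec.map iA) (Spec.map iK)
      (Spec.map (CommRingCat.ofHom (algebraMap k Γ(X, U)))) (FinFr.specι k K) :=
    isPullback_SpecMap_of_isPushout _ _ _ _ hpo
  let j' : Spec (CommRingCat.of T) ⟶ FinFr.ext K f :=
    pullback.lift (Spec.map iA ≫ j) (Spec.map iK) (by
      rw [Category.assoc, ← hψ']; exact hbig.w)
  have hj'1 : j' ≫ π = Spec.map iA ≫ j := pullback.lift_fst _ _ _
  have hj'2 : j' ≫ str = Spec.map iK := pullback.lift_snd _ _ _
  have hsq : IsPullback j' (Spec.map iA) π j := by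
    refine IsPullback.of_right ?_ hj'1 (IsPullback.of_hasPullback f (FinFr.specι k K)).flip
    rw [hj'2, ← hψ']
    exact hbig.flip
  -- the Frobenius on the chart
  let frA : Γ(X, U) ⟶ Γ(X, U) :=
    CommRingCat.ofHom (FiniteField.frobeniusAlgHom k Γ(X, U)).toRingHom
  have hfrA : FX.appLE U U (hle U) = frA := by
    ext s
    rw [hFapp U s, hq]
    rfl
  have hjF : j ≫ FX = Spec.map frA ≫ j := by
    rw [← hfrA]
    exact (IsAffineOpen.SpecMap_appLE_fromSpec FX hU hU (hle U)).symm
  let Φ : CommRingCat.of T ⟶ CommRingCat.of T :=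
    CommRingCat.ofHom (phi k K Γ(X, U)).toRingHom
  have hΦA : iA ≫ Φ = frA ≫ iA := by
    ext a
    change phi k K Γ(X, U) (a ⊗ₜ 1) = (a ^ Fintype.card k) ⊗ₜ 1
    rw [phi_tmul]
  have hΦK : iK ≫ Φ = iK := by
    ext c
    change phi k K Γ(X, U) (1 ⊗ₜ c) = 1 ⊗ₜ c
    rw [phi_tmul, one_pow]
  have hcomm : Spec.map Φ ≫ j' = j' ≫ F := by
    apply pullback.hom_ext
    · change (Spec.map Φ ≫ j') ≫ π = (j' ≫ F) ≫ π
      rw [Category.assoc, Category.assoc, hF1, hj'1, ← Category.assoc j', hj'1, Category.assoc,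
        hjF, ← Category.assoc, ← Category.assoc, ← Spec.map_comp, ← Spec.map_comp, hΦA]
    · change (Spec.map Φ ≫ j') ≫ str = (j' ≫ F) ≫ str
      rw [Category.assoc, Category.assoc, hF2, hj'2, ← Spec.map_comp, hΦK]
  -- lift the points
  have hxU' : π.base z ∈ Set.range j.base := by
    rw [hU.range_fromSpec]; exact hxU
  obtain ⟨x₀, hx₀⟩ := hxU'
  obtain ⟨y, hy1, hy2⟩ := Scheme.exists_preimage_of_isPullback hsq z x₀ hx₀.symm
  obtain ⟨y', hy'1, hy'2⟩ := Scheme.exists_preimage_of_isPullback hsq z' x₀ (hzz' ▸ hx₀.symm)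
  have hcontr : y.asIdeal.comap (algebraMap Γ(X, U) T) = y'.asIdeal.comap (algebraMap Γ(X, U) T) := by
    have := hy2.trans hy'2.symm
    exact congrArg PrimeSpectrum.asIdeal this
  obtain ⟨m, hm⟩ := exists_iterate_comap_phi_eq k K Γ(X, U) y.asIdeal y'.asIdeal hcontr
  refine ⟨m, ?_⟩
  have hsemi : Function.Semiconj j'.base (Spec.map Φ).base F.base := by
    intro p
    change (Spec.map Φ ≫ j').base p = (j' ≫ F).base p
    rw [hcomm]
  have h1 := (hsemi.iterate_right m) y
  rw [← hy1, ← hy'1, ← h1]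
  congr 1
  apply PrimeSpectrum.ext
  rw [asIdeal_iterate_specMap]
  exact hm

/-- Case r = 1, to which the general case reduces by passing to X ×_k F_{q^r}. Let X be a variety over k
= F_q, k̄ an algebraic closure and F = Frob_{X,q} × id the induced endomorphism of X_{k̄}. A closed
subset W ⊆ X_{k̄} is of the form Y_{k̄} for a closed Y ⊆ X (i.e. W = π⁻¹(Y), π the projection) if
and only if F(W) ⊆ W. Stated for schemes of finite type over k; F_X is pinned as the endomorphism
that is the identity on points and the q-th power on sections, F by F ≫ pr_1 = pr_1 ≫ F_X and F ≫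
pr_2 = pr_2. -/
theorem result {k : Type u} [Field k] [Finite k]
    {X : Scheme.{u}} (f : X ⟶ Spec (CommRingCat.of k)) [LocallyOfFiniteType f] [QuasiCompact f]
    (FX : X ⟶ X) (hFb : FX.base = 𝟙 _) (hle : ∀ U : X.Opens, U ≤ FX ⁻¹ᵁ U)
    (hFapp : ∀ (U : X.Opens) (s : Γ(X, U)), (FX.appLE U U (hle U)).hom s = s ^ Nat.card k)
    (F : FinFr.ext (AlgebraicClosure k) f ⟶ FinFr.ext (AlgebraicClosure k) f)
    (hF1 : F ≫ FinFr.extπ (AlgebraicClosure k) f = FinFr.extπ (AlgebraicClosure k) f ≫ FX)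
    (hF2 : F ≫ FinFr.extStr (AlgebraicClosure k) f = FinFr.extStr (AlgebraicClosure k) f)
    (W : Set ↑(FinFr.ext (AlgebraicClosure k) f)) (hW : IsClosed W) :
    (∃ Y : Set X, IsClosed Y ∧ (FinFr.extπ (AlgebraicClosure k) f).base ⁻¹' Y = W) ↔
      F.base '' W ⊆ W := by
  have hπF : ∀ w, (FinFr.extπ (AlgebraicClosure k) f).base (F.base w) =
      (FinFr.extπ (AlgebraicClosure k) f).base w := by
    intro w
    have h1 : (F ≫ FinFr.extπ (AlgebraicClosure k) f).base w =
        (FinFr.extπ (AlgebraicClosure k) f ≫ FX).base w := by rw [hF1]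
    have h2 : (FinFr.extπ (AlgebraicClosure k) f ≫ FX).base w =
        FX.base ((FinFr.extπ (AlgebraicClosure k) f).base w) := rfl
    rw [hFb] at h2
    exact h1.trans h2
  constructor
  · rintro ⟨Y, -, rfl⟩
    rintro _ ⟨w, hw, rfl⟩
    rw [Set.mem_preimage] at hw ⊢
    rw [hπF]
    exact hw
  · intro hFW
    have hint : IsIntegralHom (FinFr.specι k (AlgebraicClosure k)) := by
      rw [IsIntegralHom.SpecMap_iff]
      exact algebraMap_isIntegral_iff.mpr inferInstance
    have hcl : IsClosedMap (FinFr.extπ (AlgebraicClosure k) f).base :=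
      (FinFr.extπ (AlgebraicClosure k) f).isClosedMap
    refine ⟨(FinFr.extπ (AlgebraicClosure k) f).base '' W, hcl _ hW, ?_⟩
    apply Set.Subset.antisymm
    · rintro z ⟨w, hw, hwz⟩
      obtain ⟨m, rfl⟩ := exists_iterate_eq f FX hle hFapp F hF1 hF2 w z hwz
      have : ∀ m, (F.base)^[m] w ∈ W := by
        intro m
        induction m with
        | zero => exact hw
        | succ m ih =>
          rw [Function.iterate_succ_apply']
          exact hFW ⟨_, ih, rfl⟩
      exact this m
    · exact Set.subset_preimage_image _ _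

end Groth.Agent.S13072
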