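import Groth.Statements.S13075
import Mathlib.RingTheory.PowerSeries.Log

set_option autoImplicit false
open Zeta

namespace Groth.Agent.S13075

open PowerSeries

/-- the series `1/(1+X)` -/
noncomputable def G : ℚ⟦X⟧ := PowerSeries.mk fun n : ℕ => ((-1 : ℚ) ^ n)

theorem L_eq : (PowerSeries.mk fun m : ℕ => if m = 0 then (0 : ℚ) else (-1) ^ (m + 1) / (m : ℚ)) =
    PowerSeries.log ℚ := by
  ext n
  simp [PowerSeries.coeff_log]

theorem deriv_L : d⁄dX ℚ (PowerSeries.log ℚ) = G := by
  rw [PowerSeries.deriv_log]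
  rfl

theorem G_mul : G * (1 + X) = 1 := by
  ext n
  rw [mul_add, mul_one, map_add]
  cases n with
  | zero => simp [G]
  | succ n =>
    rw [PowerSeries.coeff_succ_mul_X]
    simp [G, pow_succ]

theorem hc0 : PowerSeries.constantCoeff (PowerSeries.exp ℚ - 1) = 0 := by
  rw [map_sub, PowerSeries.constantCoeff_exp, map_one, sub_self]

theorem part1 : (PowerSeries.log ℚ).subst (PowerSeries.exp ℚ - 1) = X := by
  have hs : HasSubst (PowerSeries.exp ℚ - 1) := HasSubst.exp_sub_one
  apply PowerSeries.derivative.ext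
  · rw [PowerSeries.derivative_subst hs, deriv_L, PowerSeries.derivative_X]
    have h1 : (G * (1 + X)).subst (PowerSeries.exp ℚ - 1) = (1 : ℚ⟦X⟧).subst (PowerSeries.exp ℚ - 1) := by
      rw [G_mul]
    rw [PowerSeries.subst_mul hs, PowerSeries.subst_add hs, PowerSeries.subst_X hs] at h1
    have h2 : (1 : ℚ⟦X⟧).subst (PowerSeries.exp ℚ - 1) = (1 : ℚ⟦X⟧) := by
      rw [← map_one (PowerSeries.C (R := ℚ)), PowerSeries.subst_C]; rfl
    rw [h2] at h1
    have h3 : d⁄dX ℚ (PowerSeries.exp ℚ - 1) = PowerSeries.exp ℚ := by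
      rw [map_sub, PowerSeries.derivative_exp, PowerSeries.derivative_one, sub_zero]
    rw [h3]
    have h4 : (1 : ℚ⟦X⟧) + (PowerSeries.exp ℚ - 1) = PowerSeries.exp ℚ := by ring
    rw [h4] at h1
    exact h1
  · rw [PowerSeries.constantCoeff_X]
    exact PowerSeries.constantCoeff_subst_eq_zero hc0 _ PowerSeries.constantCoeff_log

theorem deriv_G : d⁄dX ℚ G = - G * G := by
  have h := congrArg (d⁄dX ℚ) G_mul
  rw [Derivation.leibniz, PowerSeries.derivative_one, map_add, PowerSeries.derivative_one,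
    PowerSeries.derivative_X, zero_add, smul_eq_mul, smul_eq_mul, mul_one] at h
  -- h : G + (1+X) * G' = 0
  have h2 : d⁄dX ℚ G = d⁄dX ℚ G * (G * (1 + X)) := by rw [G_mul, mul_one]
  rw [h2]
  linear_combination G * h

theorem part2 : (PowerSeries.exp ℚ).subst (PowerSeries.log ℚ) = 1 + X := by
  have hl : HasSubst (PowerSeries.log ℚ) := HasSubst.log
  set F := (PowerSeries.exp ℚ).subst (PowerSeries.log ℚ) with hF
  have hdF : d⁄dX ℚ F = F * G := by
    rw [hF, PowerSeries.derivative_subst hl, PowerSeries.derivative_exp, deriv_L]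
  have hcF : PowerSeries.constantCoeff F = 1 := by
    have : PowerSeries.exp ℚ = 1 + (PowerSeries.exp ℚ - 1) := by ring
    rw [hF, this, PowerSeries.subst_add hl, map_add]
    have h2 : (1 : ℚ⟦X⟧).subst (PowerSeries.log ℚ) = (1 : ℚ⟦X⟧) := by
      rw [← map_one (PowerSeries.C (R := ℚ)), PowerSeries.subst_C]; rfl
    rw [h2, map_one]
    have := PowerSeries.constantCoeff_subst_eq_zero (a := PowerSeries.log ℚ)
      PowerSeries.constantCoeff_log (PowerSeries.exp ℚ - 1) hc0
    erw [this]
    simp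
  have hH : F * G = 1 := by
    apply PowerSeries.derivative.ext
    · rw [Derivation.leibniz, hdF, deriv_G, PowerSeries.derivative_one, smul_eq_mul, smul_eq_mul]
      ring
    · rw [map_mul, hcF, map_one]
      simp [G]
  calc F = F * (G * (1 + X)) := by rw [G_mul, mul_one]
    _ = (F * G) * (1 + X) := by ring
    _ = 1 + X := by rw [hH, one_mul]

/-- For the formal power series exp(t) = ∑_{m ≥ 0} t^m / m! and log(1 + t) = ∑_{m ≥ 1} (−1)^{m+1} t^m /
m over ℚ, log(exp(u)) = u and exp(log(1 + u)) = 1 + u for every u ∈ tℚ⟦t⟧; stated for u = t (the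
general case is obtained by substitution): substituting exp(t) − 1 into log(1 + ·) gives t, and
substituting log(1 + t) into exp gives 1 + t. -/
theorem result :
    PowerSeries.subst (PowerSeries.exp ℚ - 1)
        (PowerSeries.mk fun m : ℕ => if m = 0 then (0 : ℚ) else (-1) ^ (m + 1) / (m : ℚ)) =
      PowerSeries.X ∧
    PowerSeries.subst (PowerSeries.mk fun m : ℕ => if m = 0 then (0 : ℚ) else (-1) ^ (m + 1) / (m : ℚ))
        (PowerSeries.exp ℚ) = 1 + PowerSeries.X := by
  rw [L_eq]
  exact ⟨part1, part2⟩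

end Groth.Agent.S13075
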