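import Groth.Statements.S13079
import Mathlib
import Groth.Agent.Lib.IsQuotFlat37
import Groth.Agent.Lib.IsQuotComp37

set_option autoImplicit false
universe u
open CategoryTheory AlgebraicGeometry Limits
open Zeta

namespace Groth.Agent.S13079

open Groth.Agent.Lib

section
variable {C : Type*} [Category C] {W X Y Z S T : C} (f₁ : W ⟶ S) (f₂ : X ⟶ S) [HasPullback f₁ f₂]
  (g₁ : Y ⟶ T) (g₂ : Z ⟶ T) [HasPullback g₁ g₂] (i₁ : W ⟶ Y) (i₂ : X ⟶ Z) (i₃ : S ⟶ T)
  (eq₁ : f₁ ≫ i₃ = i₁ ≫ g₁) (eq₂ : f₂ ≫ i₃ = i₂ ≫ g₂)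

@[reassoc]
lemma map_fst' : pullback.map f₁ f₂ g₁ g₂ i₁ i₂ i₃ eq₁ eq₂ ≫ pullback.fst g₁ g₂ =
    pullback.fst f₁ f₂ ≫ i₁ := pullback.lift_fst _ _ _

@[reassoc]
lemma map_snd' : pullback.map f₁ f₂ g₁ g₂ i₁ i₂ i₃ eq₁ eq₂ ≫ pullback.snd g₁ g₂ =
    pullback.snd f₁ f₂ ≫ i₂ := pullback.lift_snd _ _ _

end

section act
variable {S : Scheme.{u}} {H : Type u} [Group H] {Y XG : Scheme.{u}}
  (fY : Y ⟶ S) (gX : XG ⟶ S) (σ : H →* Aut Y) (hσ : ∀ h, (σ h).hom ≫ fY = fY)

/-- `id × σ h` on `XG ×_S Y` -/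
noncomputable def actHom (h : H) : pullback gX fY ⟶ pullback gX fY :=
  pullback.map gX fY gX fY (𝟙 _) (σ h).hom (𝟙 _) (by simp) (by simp [hσ h])

@[reassoc]
lemma actHom_fst (h : H) : actHom fY gX σ hσ h ≫ pullback.fst gX fY = pullback.fst gX fY := by
  unfold actHom
  exact (pullback.lift_fst _ _ _).trans (Category.comp_id _)

@[reassoc]
lemma actHom_snd (h : H) :
    actHom fY gX σ hσ h ≫ pullback.snd gX fY = pullback.snd gX fY ≫ (σ h).hom := by
  unfold actHom
  exact pullback.lift_snd _ _ _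

lemma actHom_one : actHom fY gX σ hσ 1 = 𝟙 _ := by
  have e : (σ 1).hom = 𝟙 Y := by rw [map_one]; rfl
  apply pullback.hom_ext
  · rw [actHom_fst, Category.id_comp]
  · rw [actHom_snd, e, Category.comp_id, Category.id_comp]

lemma actHom_mul (h h' : H) :
    actHom fY gX σ hσ (h * h') = actHom fY gX σ hσ h' ≫ actHom fY gX σ hσ h := by
  have e : (σ (h * h')).hom = (σ h').hom ≫ (σ h).hom := by rw [map_mul]; rfl
  apply pullback.hom_ext
  · rw [Category.assoc, actHom_fst, actHom_fst, actHom_fst]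
  · rw [Category.assoc, actHom_snd fY gX σ hσ (h * h'), actHom_snd fY gX σ hσ h,
      actHom_snd_assoc, e]

/-- the action of `H` on `XG ×_S Y` through the second factor -/
noncomputable def actM : H →* Aut (pullback gX fY) where
  toFun h :=
    { hom := actHom fY gX σ hσ h
      inv := actHom fY gX σ hσ h⁻¹
      hom_inv_id := by rw [← actHom_mul, inv_mul_cancel, actHom_one]
      inv_hom_id := by rw [← actHom_mul, mul_inv_cancel, actHom_one] }
  map_one' := Aut.ext (actHom_one fY gX σ hσ)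
  map_mul' h h' := Aut.ext (actHom_mul fY gX σ hσ h h')

lemma actM_hom (h : H) : ((actM fY gX σ hσ) h).hom = actHom fY gX σ hσ h := rfl

end act

/-- Suppose the finite groups G and H act by algebraic k-automorphisms on schemes X and Y of finite type
over k, both admitting quotients X → X/G and Y → Y/H (equivalently, covered by invariant affine
opens). Then X × Y has the same property for the product action of G × H and (X × Y)/(G × H) ≅ X/G ×
Y/H: the morphism X ×_k Y → X/G ×_k Y/H with components the two quotient maps is a quotient for the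
product action. The product action θ and that morphism π are pinned by their composites with the
projections. -/
theorem result {k : Type u} [Field k] {G H : Type u} [Group G] [Finite G] [Group H]
    [Finite H] {X Y XG YH : Scheme.{u}} (fX : X ⟶ Spec (CommRingCat.of k))
    (fY : Y ⟶ Spec (CommRingCat.of k)) [LocallyOfFiniteType fX] [QuasiCompact fX]
    [LocallyOfFiniteType fY] [QuasiCompact fY] (gX : XG ⟶ Spec (CommRingCat.of k))
    (gY : YH ⟶ Spec (CommRingCat.of k)) (ρ : G →* Aut X) (σ : H →* Aut Y)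
    (hρ : ∀ g, (ρ g).hom ≫ fX = fX) (hσ : ∀ h, (σ h).hom ≫ fY = fY)
    (p : X ⟶ XG) (hp : p ≫ gX = fX) (q : Y ⟶ YH) (hq : q ≫ gY = fY)
    (hP : SGA1.IsQuot ρ p) (hQ : SGA1.IsQuot σ q)
    (θ : G × H →* Aut (pullback fX fY))
    (hθ1 : ∀ gh : G × H, (θ gh).hom ≫ pullback.fst fX fY = pullback.fst fX fY ≫ (ρ gh.1).hom)
    (hθ2 : ∀ gh : G × H, (θ gh).hom ≫ pullback.snd fX fY = pullback.snd fX fY ≫ (σ gh.2).hom)
    (π : pullback fX fY ⟶ pullback gX gY) (hπ1 : π ≫ pullback.fst gX gY = pullback.fst fX fY ≫ p)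
    (hπ2 : π ≫ pullback.snd gX gY = pullback.snd fX fY ≫ q) :
    SGA1.IsQuot θ π := by
  haveI : Flat fY := inferInstance
  haveI : Flat gX := inferInstance
  let π₁ : pullback fX fY ⟶ pullback gX fY :=
    pullback.map fX fY gX fY p (𝟙 Y) (𝟙 _) (by rw [Category.comp_id, hp]) (by simp)
  let π₂ : pullback gX fY ⟶ pullback gX gY :=
    pullback.map gX fY gX gY (𝟙 XG) q (𝟙 _) (by simp) (by rw [Category.comp_id, hq])
  have a1 : π₁ ≫ pullback.fst gX fY = pullback.fst fX fY ≫ p := map_fst' ..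
  have a2 : π₁ ≫ pullback.snd gX fY = pullback.snd fX fY :=
    (map_snd' ..).trans (Category.comp_id _)
  have b1 : π₂ ≫ pullback.fst gX gY = pullback.fst gX fY :=
    (map_fst' ..).trans (Category.comp_id _)
  have b2 : π₂ ≫ pullback.snd gX gY = pullback.snd gX fY ≫ q := map_snd' ..
  have hπ : π = π₁ ≫ π₂ := by
    apply pullback.hom_ext
    · rw [hπ1, Category.assoc, b1, a1]
    · rw [hπ2, Category.assoc, b2, reassoc_of% a2]
  have c1 : ∀ h : H, ((actM fY gX σ hσ) h).hom ≫ pullback.fst gX fY = pullback.fst gX fY := by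
    intro h
    exact actHom_fst fY gX σ hσ h
  have c2 : ∀ h : H, ((actM fY gX σ hσ) h).hom ≫ pullback.snd gX fY =
      pullback.snd gX fY ≫ (σ h).hom := by
    intro h
    exact actHom_snd fY gX σ hσ h
  have hX1 : IsPullback (pullback.fst fX fY) π₁ p (pullback.fst gX fY) := by
    have s : IsPullback (π₁ ≫ pullback.snd gX fY) (pullback.fst fX fY) fY (p ≫ gX) := by
      rw [a2, hp]
      exact (IsPullback.of_hasPullback fX fY).flip
    exact (IsPullback.of_right s a1 (IsPullback.of_hasPullback gX fY).flip).flip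
  haveI : Flat (pullback.fst gX fY) := inferInstance
  have e1 : (σ 1).hom = 𝟙 Y := by rw [map_one]; rfl
  have e2 : (ρ 1).hom = 𝟙 X := by rw [map_one]; rfl
  have h1 : SGA1.IsQuot (θ.comp (MonoidHom.inl G H)) π₁ := by
    refine IsQuotFlat37.isQuot_baseChange_of_flat ρ p hP (pullback.fst gX fY)
      (pullback.fst fX fY) π₁ hX1 _ ?_ ?_
    · intro g
      exact hθ1 (g, 1)
    · intro g
      show (θ (g, 1)).hom ≫ π₁ = π₁
      apply pullback.hom_ext
      · have := hθ1 (g, 1)
        rw [Category.assoc, a1, reassoc_of% this, hP.inv g]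
      · have := hθ2 (g, 1)
        rw [Category.assoc, a2, this, e1, Category.comp_id]
  have hX2 : IsPullback (pullback.snd gX fY) π₂ q (pullback.snd gX gY) := by
    have s : IsPullback (π₂ ≫ pullback.fst gX gY) (pullback.snd gX fY) gX (q ≫ gY) := by
      rw [b1, hq]
      exact IsPullback.of_hasPullback gX fY
    exact (IsPullback.of_right s b2 (IsPullback.of_hasPullback gX gY)).flip
  haveI : Flat (pullback.snd gX gY) := inferInstance
  have h2 : SGA1.IsQuot (actM fY gX σ hσ) π₂ := by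
    refine IsQuotFlat37.isQuot_baseChange_of_flat σ q hQ (pullback.snd gX gY)
      (pullback.snd gX fY) π₂ hX2 (actM fY gX σ hσ) c2 ?_
    intro h
    apply pullback.hom_ext
    · rw [Category.assoc, b1, c1 h]
    · rw [Category.assoc, b2, reassoc_of% (c2 h), hQ.inv h]
  have hc : ∀ h : H, (θ (1, h)).hom ≫ π₁ = π₁ ≫ ((actM fY gX σ hσ) h).hom := by
    intro h
    apply pullback.hom_ext
    · have := hθ1 (1, h)
      rw [Category.assoc, Category.assoc, a1, c1 h, a1, reassoc_of% this, e2, Category.id_comp]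
    · have := hθ2 (1, h)
      rw [Category.assoc, Category.assoc, a2, c2 h, reassoc_of% a2, this]
  rw [hπ]
  exact IsQuotComp37.isQuot_comp θ π₁ π₂ (actM fY gX σ hσ) h1 h2 hc

end Groth.Agent.S13079
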