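import Groth.Statements.S1308
import Groth.Agent.Lib.Thickening

set_option autoImplicit false
universe u
open FlatMor

namespace Groth.Agent.S1308

open AlgebraicGeometry CategoryTheory Limits in
lemma universallyOpen_of_comp_surjective {X Y Z : Scheme.{u}} (f : X ⟶ Y) (g : Y ⟶ Z)
    [UniversallyOpen (f ≫ g)] [Surjective f] : UniversallyOpen g := by
  constructor
  intro X' Y' i₁ i₂ f' H
  have h1 := UniversallyOpen.universally_isOpenMap _ _ _
    ((IsPullback.of_hasPullback i₁ f).paste_horiz H)
  have h2 : Function.Surjective (pullback.fst i₁ f) :=
    (MorphismProperty.pullback_fst (P := @Surjective) _ _ ‹_›).1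
  have h3 : IsOpenMap (f' ∘ pullback.fst i₁ f) := h1
  exact IsOpenMap.of_comp (Scheme.Hom.continuous _) h2 h3

open AlgebraicGeometry CategoryTheory Limits in
lemma universallyOpen_of_isThickening {X X' : Scheme.{u}} {i : X ⟶ X'}
    (h : MoreMor.IsThickening i) : UniversallyOpen i := by
  constructor
  intro Y Y' i₁ i₂ f' H
  have := h.1
  have := h.2
  have h1 : IsClosedImmersion f' := MorphismProperty.of_isPullback H.flip inferInstance
  have h2 : Surjective f' := MorphismProperty.of_isPullback H.flip inferInstance
  exact (Groth.Agent.Lib.Thickening.homeo ⟨h1, h2⟩).isOpenMap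

open AlgebraicGeometry CategoryTheory Limits in
/-- For a morphism of thickenings, that is a commutative square whose horizontal maps are thickenings
(closed immersions that are surjective on points), the morphism between the thin schemes is
universally open if and only if the morphism between the thick ones is. -/
theorem result {X X' S S' : Scheme.{u}} (iX : X ⟶ X') (iS : S ⟶ S') (f : X ⟶ S) (f' : X' ⟶ S')
    (hX : MoreMor.IsThickening iX) (hS : MoreMor.IsThickening iS) (w : iX ≫ f' = f ≫ iS) :
    UniversallyOpen f ↔ UniversallyOpen f' := by
  have := hX.1
  have := hX.2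
  have := hS.1
  have := universallyOpen_of_isThickening hX
  have := universallyOpen_of_isThickening hS
  constructor
  · intro hf
    have : UniversallyOpen (iX ≫ f') := by
      rw [w]; infer_instance
    exact universallyOpen_of_comp_surjective iX f'
  · intro hf'
    have : UniversallyOpen (f ≫ iS) := by
      rw [← w]; infer_instance
    exact MorphismProperty.of_postcomp (W := @UniversallyOpen)
      (W' := MorphismProperty.monomorphisms Scheme) f iS
      (MorphismProperty.monomorphisms.infer_property iS) this

end Groth.Agent.S1308
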