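import Groth.Statements.S2913

set_option autoImplicit false
open CategoryTheory CategoryTheory.Limits AlgebraicGeometry Opposite
universe u
open SGA1

namespace Groth.Agent.S2913

/-- Let g : S' ⟶ S be a surjective morphism of schemes such that for every open U of S the map O_S(U) →
O_{S'}(g⁻¹U) is injective. Then g is an epimorphism in the category of schemes. -/
theorem result {S' S : Scheme.{u}} (g : S' ⟶ S) [Surjective g]
    (hinj : ∀ U : S.Opens, Function.Injective (g.app U).hom) : Epi g := by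
  constructor
  intro T a b h
  have hbase : a.base = b.base := by
    have h1 : g.base ≫ a.base = g.base ≫ b.base := by
      rw [← Scheme.Hom.comp_base, ← Scheme.Hom.comp_base, h]
    have : Epi g.base := (TopCat.epi_iff_surjective _).mpr g.surjective
    exact (cancel_epi g.base).mp h1
  refine Scheme.Hom.ext hbase ?_
  intro U
  have hmono : ∀ {R : CommRingCat.{u}} (x y : R ⟶ Γ(S, b ⁻¹ᵁ U)),
      x ≫ g.app (b ⁻¹ᵁ U) = y ≫ g.app (b ⁻¹ᵁ U) → x = y := by
    intro R x y hxy
    ext r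
    apply hinj (b ⁻¹ᵁ U)
    exact congr($(hxy).hom r)
  apply hmono
  have hU : g ⁻¹ᵁ (a ⁻¹ᵁ U) = g ⁻¹ᵁ (b ⁻¹ᵁ U) := by
    change (g ≫ a) ⁻¹ᵁ U = (g ≫ b) ⁻¹ᵁ U
    rw [h]
  have key : a.app U ≫ g.app (a ⁻¹ᵁ U) =
      (b.app U ≫ g.app (b ⁻¹ᵁ U)) ≫ S'.presheaf.map (eqToHom hU).op :=
    Scheme.Hom.congr_app h U
  rw [Category.assoc, Scheme.Hom.naturality, reassoc_of% key, ← Functor.map_comp]
  have hid : ∀ (V : S'.Opens) (i : op V ⟶ op V), S'.presheaf.map i = 𝟙 _ := by
    intro V i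
    rw [Subsingleton.elim i (𝟙 _), S'.presheaf.map_id]
  rw [hid, Category.comp_id]

end Groth.Agent.S2913
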