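import Groth.Statements.S13081
import Mathlib
import Groth.Agent.Lib.QuotAffine37
import Groth.Agent.S2913

set_option autoImplicit false
universe u
open CategoryTheory AlgebraicGeometry Limits
open Zeta

namespace Groth.Agent.S13081

open Groth.Agent.Lib Groth.Agent.Lib.IsQuot45

/-- Let G be a finite group acting by algebraic automorphisms over k on a scheme X of finite type over k
admitting a quotient X → X/G, and H a normal subgroup of G. Then X/H carries an induced action of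
G/H and its quotient by this action is X/G: the induced morphism r : X/H → X/G is a quotient of X/H
by G/H. The induced action ρ̄ is pinned by p_H ≫ ρ̄(ḡ) = ρ(g) ≫ p_H and r by p_H ≫ r = p. -/
theorem result {k : Type u} [Field k] {G : Type u} [Group G]
    [Finite G] {X XG XH : Scheme.{u}} (fX : X ⟶ Spec (CommRingCat.of k)) [LocallyOfFiniteType fX]
    [QuasiCompact fX] (ρ : G →* Aut X) (hρ : ∀ g, (ρ g).hom ≫ fX = fX) (p : X ⟶ XG)
    (hP : SGA1.IsQuot ρ p) (H : Subgroup G) [H.Normal] (pH : X ⟶ XH)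
    (hPH : SGA1.IsQuot (ρ.comp H.subtype) pH) (ρbar : G ⧸ H →* Aut XH)
    (hρbar : ∀ g : G, pH ≫ (ρbar (QuotientGroup.mk g)).hom = (ρ g).hom ≫ pH)
    (r : XH ⟶ XG) (hr : pH ≫ r = p) :
    SGA1.IsQuot ρbar r := by
  subst hr
  have hPa := hP.affine
  have hsurj : Surjective pH := ⟨IsQuot45.surjective hPH⟩
  have hepi : Epi pH := Groth.Agent.S2913.result pH hPH.injective
  have haff : IsAffineHom r := QuotAffine37.isAffineHom_of_comp hPH r
  have hinv : ∀ gb : G ⧸ H, (ρbar gb).hom ≫ r = r := by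
    intro gb
    induction gb using QuotientGroup.induction_on with
    | H g =>
      rw [← cancel_epi pH, ← Category.assoc, hρbar g, Category.assoc, hP.inv g]
  have hinj : ∀ U : XG.Opens, Function.Injective (r.app U).hom := by
    intro U
    have h1 := hP.injective U
    rw [Scheme.Hom.comp_app] at h1
    have h2 : Function.Injective ((pH.app (r ⁻¹ᵁ U)).hom ∘ (r.app U).hom) := h1
    exact Function.Injective.of_comp h2
  have key : ∀ (U : XG.Opens) (g : G)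
      (e1 : pH ⁻¹ᵁ (r ⁻¹ᵁ U) ≤ (ρ g).hom ⁻¹ᵁ (pH ⁻¹ᵁ (r ⁻¹ᵁ U)))
      (e2 : r ⁻¹ᵁ U ≤ (ρbar (QuotientGroup.mk g)).hom ⁻¹ᵁ (r ⁻¹ᵁ U)),
      pH.appLE (r ⁻¹ᵁ U) (pH ⁻¹ᵁ (r ⁻¹ᵁ U)) le_rfl ≫
        (ρ g).hom.appLE (pH ⁻¹ᵁ (r ⁻¹ᵁ U)) (pH ⁻¹ᵁ (r ⁻¹ᵁ U)) e1 =
      (ρbar (QuotientGroup.mk g)).hom.appLE (r ⁻¹ᵁ U) (r ⁻¹ᵁ U) e2 ≫
        pH.appLE (r ⁻¹ᵁ U) (pH ⁻¹ᵁ (r ⁻¹ᵁ U)) le_rfl := by
    intro U g e1 e2
    rw [Scheme.Hom.appLE_comp_appLE, Scheme.Hom.appLE_comp_appLE]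
    exact (appLE_congr_hom (hρbar g) _ _ _).symm
  refine ⟨haff, hinv, hinj, ?_⟩
  intro U s
  constructor
  · rintro ⟨a, rfl⟩ gb
    have h1 : r.app U ≫ (ρbar gb).hom.appLE (r ⁻¹ᵁ U) (r ⁻¹ᵁ U)
        (SGA1.preimage_le_of_inv ρbar r hinv gb U) = r.app U := by
      rw [← Scheme.Hom.comp_appLE, appLE_congr_hom (hinv gb), Scheme.Hom.appLE_eq_app]
    exact congrArg (fun φ => φ.hom a) h1
  · intro hs
    have ht : ∀ g : G, ((ρ g).hom.appLE ((pH ≫ r) ⁻¹ᵁ U) ((pH ≫ r) ⁻¹ᵁ U)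
        (SGA1.preimage_le_of_inv ρ (pH ≫ r) hP.inv g U)).hom ((pH.app (r ⁻¹ᵁ U)).hom s) =
        (pH.app (r ⁻¹ᵁ U)).hom s := by
      intro g
      have h2 := key U g (SGA1.preimage_le_of_inv ρ (pH ≫ r) hP.inv g U)
        (SGA1.preimage_le_of_inv ρbar r hinv _ U)
      rw [Scheme.Hom.appLE_eq_app] at h2
      have h3 := congrArg (fun φ => φ.hom s) h2
      simp only [CommRingCat.hom_comp, RingHom.comp_apply] at h3
      refine h3.trans ?_
      rw [hs]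
    obtain ⟨a, ha⟩ := (hP.range_iff U _).mpr ht
    refine ⟨a, hPH.injective (r ⁻¹ᵁ U) ?_⟩
    rw [← ha]
    rfl

end Groth.Agent.S13081
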