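import Groth.Statements.S13082
import Mathlib
import Groth.Agent.Lib.QuotGeomPts37

set_option autoImplicit false
universe u
open CategoryTheory AlgebraicGeometry Limits
open Zeta

namespace Groth.Agent.S13082

/-- Let X be a scheme of finite type over k with an action of a finite group G by algebraic
automorphisms over k admitting a quotient π : X → X/G, and W a locally closed subscheme of X on
which G induces an action. Then the canonical morphism W/G → π(W) is radicial and surjective: the
induced morphism φ : W/G → X/G is universally injective with set-theoretic image π(W). The action on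
W is pinned along the immersion j : W → X, φ by p_W ≫ φ = j ≫ π for a quotient p_W : W → W/G. -/
theorem result {k : Type u} [Field k] {G : Type u}
    [Group G] [Finite G] {X XG W WG : Scheme.{u}} (fX : X ⟶ Spec (CommRingCat.of k))
    [LocallyOfFiniteType fX] [QuasiCompact fX] (ρ : G →* Aut X) (hρ : ∀ g, (ρ g).hom ≫ fX = fX)
    (p : X ⟶ XG) (hP : SGA1.IsQuot ρ p) (j : W ⟶ X) [IsImmersion j] (ρW : G →* Aut W)
    (hρW : ∀ g, (ρW g).hom ≫ j = j ≫ (ρ g).hom) (pW : W ⟶ WG) (hPW : SGA1.IsQuot ρW pW)
    (φ : WG ⟶ XG) (hφ : pW ≫ φ = j ≫ p) :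
    UniversallyInjective φ ∧ Set.range φ.base = p.base '' Set.range j.base := by
  refine ⟨Groth.Agent.Lib.QuotGeomPts37.universallyInjective_of_isQuot hP j hρW hPW φ hφ, ?_⟩
  have hsurj := Groth.Agent.Lib.IsQuot45.surjective hPW
  have hpt : ∀ w, φ.base (pW.base w) = p.base (j.base w) := fun w => by
    have := congrArg (fun f => f.base w) hφ
    simpa using this
  ext y
  constructor
  · rintro ⟨wg, rfl⟩
    obtain ⟨w, rfl⟩ := hsurj wg
    exact ⟨j.base w, ⟨w, rfl⟩, (hpt w).symm⟩
  · rintro ⟨_, ⟨w, rfl⟩, rfl⟩
    exact ⟨pW.base w, hpt w⟩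

end Groth.Agent.S13082
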