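import Groth.Statements.S13096
import Mathlib

set_option autoImplicit false
universe u v
open CAlg

namespace Groth.Agent.S13096
open MvPolynomial

/-- A surjective ring endomorphism of a Noetherian ring is injective. -/
theorem ringHom_injective_of_surjective {A : Type*} [CommRing A] [IsNoetherianRing A]
    (α : A →+* A) (hα : Function.Surjective α) : Function.Injective α := by
  let K : ℕ →o Ideal A := ⟨fun k => RingHom.ker (α ^ k), by
    apply monotone_nat_of_le_succ
    intro k x hx
    rw [RingHom.mem_ker] at hx ⊢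
    rw [pow_succ', RingHom.mul_def, RingHom.comp_apply, hx, map_zero]⟩
  obtain ⟨n, hn⟩ := monotone_stabilizes_iff_noetherian.mpr (inferInstance : IsNoetherian A A) K
  rw [injective_iff_map_eq_zero]
  intro z hz
  have hsurj : Function.Surjective (α ^ n) := by
    rw [RingHom.coe_pow]; exact hα.iterate n
  obtain ⟨w, rfl⟩ := hsurj z
  have h1 : w ∈ K (n + 1) := by
    show w ∈ RingHom.ker (α ^ (n + 1))
    rw [RingHom.mem_ker, pow_succ', RingHom.mul_def, RingHom.comp_apply, hz]
  rw [← hn (n + 1) (Nat.le_succ n)] at h1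
  exact h1

set_option maxHeartbeats 1600000 in

/-- Let R be a commutative ring and R' a commutative R-algebra of finite presentation. Then every
surjective R-algebra endomorphism α : R' → R' is bijective (an automorphism). -/
theorem result (R : Type u) [CommRing R]
    (R' : Type v) [CommRing R'] [Algebra R R'] [Algebra.FinitePresentation R R']
    (α : R' →ₐ[R] R') (hα : Function.Surjective α) : Function.Bijective α := by
  refine ⟨?_, hα⟩
  classical
  obtain ⟨n, f, hf, G, hG⟩ := Algebra.FinitePresentation.out (R := R) (A := R')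
  rw [injective_iff_map_eq_zero]
  intro z hz
  obtain ⟨s, rfl⟩ := hf z
  choose p hp using fun i => hf (α (f (X i)))
  have hq' : ∀ i, ∃ q, α (f q) = f (X i) := fun i => by
    obtain ⟨y, hy⟩ := hα (f (X i))
    obtain ⟨q, rfl⟩ := hf y
    exact ⟨q, hy⟩
  choose q hq using hq'
  let P : MvPolynomial (Fin n) R →ₐ[R] MvPolynomial (Fin n) R := bind₁ p
  have hP : ∀ u, f (P u) = α (f u) := by
    intro u
    have : f.comp P = α.comp f := by
      apply MvPolynomial.algHom_ext
      intro i
      simp [P, hp]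
    exact AlgHom.congr_fun this u
  have hmemI : ∀ u, f u = 0 → u ∈ Ideal.span (G : Set (MvPolynomial (Fin n) R)) := by
    intro u hu
    rw [hG]; exact hu
  have hGker : ∀ g ∈ G, f g = 0 := by
    intro g hg
    have := Ideal.subset_span (Finset.mem_coe.mpr hg)
    rw [hG] at this; exact this
  have m1 : ∀ i, X i - P (q i) ∈ Ideal.span (G : Set (MvPolynomial (Fin n) R)) :=
    fun i => hmemI _ (by rw [map_sub, hP, hq, sub_self])
  have m2 : ∀ g ∈ G, P g ∈ Ideal.span (G : Set (MvPolynomial (Fin n) R)) :=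
    fun g hg => hmemI _ (by rw [hP, hGker g hg, map_zero])
  have m3 : P s ∈ Ideal.span (G : Set (MvPolynomial (Fin n) R)) := hmemI _ (by rw [hP, hz])
  have hspan : ∀ u ∈ Ideal.span (G : Set (MvPolynomial (Fin n) R)),
      ∃ c : MvPolynomial (Fin n) R → MvPolynomial (Fin n) R, ∑ g ∈ G, c g * g = u := by
    intro u hu
    obtain ⟨c, -, hc⟩ := Submodule.mem_span_finset.mp hu
    exact ⟨c, hc⟩
  choose h hh using fun i => hspan _ (m1 i)
  choose! e he using fun g (hg : g ∈ G) => hspan _ (m2 g hg)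
  obtain ⟨t, ht⟩ := hspan _ m3
  let PP : Finset (MvPolynomial (Fin n) R) := G ∪ (Finset.univ.image p ∪ (Finset.univ.image q ∪
    ({s} ∪ ((Finset.univ ×ˢ G).image (fun x => h x.1 x.2) ∪
      ((G ×ˢ G).image (fun x => e x.1 x.2) ∪ G.image t)))))
  let T : Finset R := PP.biUnion (fun u => u.coeffs)
  let R₀ : Subalgebra ℤ R := Algebra.adjoin ℤ (T : Set R)
  haveI : Algebra.FiniteType ℤ R₀ :=
    (Subalgebra.fg_iff_finiteType _).mp (Subalgebra.fg_adjoin_finset T)
  haveI : IsNoetherianRing R₀ := Algebra.FiniteType.isNoetherianRing ℤ R₀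
  let ι : MvPolynomial (Fin n) R₀ →+* MvPolynomial (Fin n) R :=
    MvPolynomial.map (algebraMap R₀ R)
  have hι : Function.Injective ι := MvPolynomial.map_injective _ Subtype.val_injective
  have hlift : ∀ u ∈ PP, ∃ u₀, ι u₀ = u := by
    intro u hu
    have : u ∈ Set.range (MvPolynomial.map (algebraMap R₀ R) (σ := Fin n)) := by
      rw [MvPolynomial.mem_range_map_iff_coeffs_subset]
      intro a ha
      have haT : a ∈ (T : Set R) := by
        rw [Finset.mem_coe, Finset.mem_biUnion]
        exact ⟨u, hu, ha⟩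
      exact ⟨⟨a, Algebra.subset_adjoin haT⟩, rfl⟩
    exact this
  choose! L hL using hlift
  have hGP : ∀ g ∈ G, g ∈ PP := fun g hg => Finset.mem_union_left _ hg
  have hpP : ∀ i, p i ∈ PP := fun i => Finset.mem_union_right _ (Finset.mem_union_left _
    (Finset.mem_image_of_mem p (Finset.mem_univ i)))
  have hqP : ∀ i, q i ∈ PP := fun i => Finset.mem_union_right _ (Finset.mem_union_right _
    (Finset.mem_union_left _ (Finset.mem_image_of_mem q (Finset.mem_univ i))))
  have hsP : s ∈ PP := Finset.mem_union_right _ (Finset.mem_union_right _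
    (Finset.mem_union_right _ (Finset.mem_union_left _ (Finset.mem_singleton_self s))))
  have hhP : ∀ i, ∀ g ∈ G, h i g ∈ PP := fun i g hg =>
    Finset.mem_union_right _ (Finset.mem_union_right _
    (Finset.mem_union_right _ (Finset.mem_union_right _ (Finset.mem_union_left _
      (Finset.mem_image.mpr ⟨(i, g), Finset.mem_product.mpr ⟨Finset.mem_univ _, hg⟩, rfl⟩)))))
  have heP : ∀ g ∈ G, ∀ g' ∈ G, e g g' ∈ PP := fun g hg g' hg' =>
    Finset.mem_union_right _ (Finset.mem_union_right _
    (Finset.mem_union_right _ (Finset.mem_union_right _ (Finset.mem_union_right _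
      (Finset.mem_union_left _
      (Finset.mem_image.mpr ⟨(g, g'), Finset.mem_product.mpr ⟨hg, hg'⟩, rfl⟩))))))
  have htP : ∀ g ∈ G, t g ∈ PP := fun g hg =>
    Finset.mem_union_right _ (Finset.mem_union_right _
    (Finset.mem_union_right _ (Finset.mem_union_right _ (Finset.mem_union_right _
      (Finset.mem_union_right _ (Finset.mem_image_of_mem t hg))))))
  let P₀ : MvPolynomial (Fin n) R₀ →ₐ[R₀] MvPolynomial (Fin n) R₀ := bind₁ (fun i => L (p i))
  have hιP : ∀ u₀, ι (P₀ u₀) = P (ι u₀) := by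
    intro u₀
    show MvPolynomial.map (algebraMap R₀ R) (bind₁ (fun i => L (p i)) u₀) = bind₁ p (ι u₀)
    rw [MvPolynomial.map_bind₁]
    have : (fun i => MvPolynomial.map (algebraMap R₀ R) (L (p i))) = p :=
      funext fun i => hL _ (hpP i)
    rw [this]
  let G₀ : Finset (MvPolynomial (Fin n) R₀) := G.image L
  let I₀ : Ideal (MvPolynomial (Fin n) R₀) := Ideal.span (G₀ : Set (MvPolynomial (Fin n) R₀))
  have hLG : ∀ g ∈ G, L g ∈ I₀ := fun g hg =>
    Ideal.subset_span (Finset.mem_coe.mpr (Finset.mem_image_of_mem L hg))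
  have id1 : ∀ i, X i - P₀ (L (q i)) ∈ I₀ := by
    intro i
    have : X i - P₀ (L (q i)) = ∑ g ∈ G, L (h i g) * L g := by
      apply hι
      rw [map_sub, hιP, map_sum, hL _ (hqP i)]
      have hX : ι (X i) = X i := MvPolynomial.map_X _ i
      rw [hX, ← hh i]
      apply Finset.sum_congr rfl
      intro g hg
      rw [map_mul, hL _ (hhP i g hg), hL _ (hGP g hg)]
    rw [this]
    exact Ideal.sum_mem _ fun g hg => Ideal.mul_mem_left _ _ (hLG g hg)
  have id2 : ∀ g ∈ G, P₀ (L g) ∈ I₀ := by
    intro g hg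
    have : P₀ (L g) = ∑ g' ∈ G, L (e g g') * L g' := by
      apply hι
      rw [hιP, map_sum, hL _ (hGP g hg), ← he g hg]
      apply Finset.sum_congr rfl
      intro g' hg'
      rw [map_mul, hL _ (heP g hg g' hg'), hL _ (hGP g' hg')]
    rw [this]
    exact Ideal.sum_mem _ fun g hg => Ideal.mul_mem_left _ _ (hLG g hg)
  have id3 : P₀ (L s) ∈ I₀ := by
    have : P₀ (L s) = ∑ g ∈ G, L (t g) * L g := by
      apply hι
      rw [hιP, map_sum, hL _ hsP, ← ht]
      apply Finset.sum_congr rfl
      intro g hg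
      rw [map_mul, hL _ (htP g hg), hL _ (hGP g hg)]
    rw [this]
    exact Ideal.sum_mem _ fun g hg => Ideal.mul_mem_left _ _ (hLG g hg)
  have hle : I₀ ≤ Ideal.comap P₀.toRingHom I₀ := by
    rw [Ideal.span_le]
    intro u hu
    obtain ⟨g, hg, rfl⟩ := Finset.mem_image.mp (Finset.mem_coe.mp hu)
    exact id2 g hg
  let α₀ : (MvPolynomial (Fin n) R₀ ⧸ I₀) →+* (MvPolynomial (Fin n) R₀ ⧸ I₀) :=
    Ideal.quotientMap I₀ P₀.toRingHom hle
  have hα₀mk : ∀ u, α₀ (Ideal.Quotient.mk I₀ u) = Ideal.Quotient.mk I₀ (P₀ u) :=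
    fun u => Ideal.quotientMap_mk
  have hα₀surj : Function.Surjective α₀ := by
    intro y
    obtain ⟨u, rfl⟩ := Ideal.Quotient.mk_surjective y
    induction u using MvPolynomial.induction_on with
    | C a =>
      refine ⟨Ideal.Quotient.mk I₀ (C a), ?_⟩
      rw [hα₀mk]
      congr 1
      exact bind₁_C_right _ a
    | add u v hu hv =>
      obtain ⟨a, ha⟩ := hu
      obtain ⟨b, hb⟩ := hv
      exact ⟨a + b, by rw [map_add, ha, hb, map_add]⟩
    | mul_X u i hu =>
      obtain ⟨a, ha⟩ := hu
      refine ⟨a * Ideal.Quotient.mk I₀ (L (q i)), ?_⟩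
      rw [map_mul, ha, hα₀mk, map_mul]
      congr 1
      rw [Ideal.Quotient.eq]
      have := I₀.neg_mem (id1 i)
      rwa [neg_sub] at this
  haveI : IsNoetherianRing (MvPolynomial (Fin n) R₀ ⧸ I₀) := inferInstance
  have hα₀inj : Function.Injective α₀ :=
    ringHom_injective_of_surjective (A := MvPolynomial (Fin n) R₀ ⧸ I₀) α₀ hα₀surj
  have hs₀ : L s ∈ I₀ := by
    rw [← Ideal.Quotient.eq_zero_iff_mem]
    apply hα₀inj
    rw [hα₀mk, map_zero, Ideal.Quotient.eq_zero_iff_mem]
    exact id3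
  have hsI : s ∈ Ideal.span (G : Set (MvPolynomial (Fin n) R)) := by
    have h1 := Ideal.mem_map_of_mem ι hs₀
    rw [hL _ hsP, Ideal.map_span] at h1
    refine Ideal.span_mono ?_ h1
    rintro _ ⟨u, hu, rfl⟩
    obtain ⟨g, hg, rfl⟩ := Finset.mem_image.mp (Finset.mem_coe.mp hu)
    rw [hL _ (hGP g hg)]
    exact hg
  rw [hG] at hsI
  exact hsI

end Groth.Agent.S13096
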