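import Groth.Statements.S13097
import Groth.Agent.Lib.UnivHomeo

set_option autoImplicit false
universe u
open FlatMor

namespace Groth.Agent.S13097

open CategoryTheory AlgebraicGeometry in
/-- Let f : X → S be a quasi-compact, separated morphism of schemes with a section e : S → X (e followed
by f is the identity of S), and U ⊆ S an open subscheme such that f⁻¹(U) is schematically dense in X
(for every open V of X, restriction of functions from V to V ∩ f⁻¹(U) is injective) and such that
the restriction f⁻¹(U) → U of f is a homeomorphism of underlying spaces. Then f is universally a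
homeomorphism (every base change of f is a homeomorphism), and f is finite as soon as it is locally
of finite type. (The published statement also lists surjectivity of f, which a section forces, and
offers as an alternative to the section the hypothesis that f be flat, still with f⁻¹(U) → U only a
homeomorphism; that flat alternative fails: the spectrum of a separable quadratic field extension
over the spectrum of the ground field, with U the whole base, is flat, surjective, quasi-compact,
separated and a homeomorphism over U, yet not universally injective. Only the case of a section,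
whose published proof is complete, is stated here.) -/
theorem result {X S : Scheme.{u}} (f : X ⟶ S)
    [QuasiCompact f] [IsSeparated f] (U : S.Opens)
    (hdense : CInt.IsSchematicallyDense (f ⁻¹ᵁ U)) (hU : IsHomeomorph (f ∣_ U).base)
    (e : S ⟶ X) (he : e ≫ f = 𝟙 S) :
    FlatMor.IsUnivHomeo f ∧ (LocallyOfFiniteType f → IsFinite f) := by
  have hid : IsClosedImmersion (e ≫ f) := by rw [he]; infer_instance
  have hce : IsClosedImmersion e := IsClosedImmersion.of_comp e f
  have hfe : ∀ s : S, f (e s) = s := by
    intro s
    have := congrArg (fun g : S ⟶ S => g s) he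
    simpa using this
  -- `f⁻¹U ⊆ range e`
  have hsub : ((f ⁻¹ᵁ U : X.Opens) : Set X) ⊆ Set.range e := by
    intro x hx
    refine ⟨f x, ?_⟩
    have hx' : e (f x) ∈ f ⁻¹ᵁ U := by
      change f (e (f x)) ∈ U
      rw [hfe]; exact hx
    have hinj : Function.Injective (f ∣_ U) := hU.injective
    have := @hinj ⟨e (f x), hx'⟩ ⟨x, hx⟩ (Subtype.ext (by
      rw [morphismRestrict_base_coe, morphismRestrict_base_coe]
      exact hfe _))
    exact congrArg Subtype.val this
  -- `f⁻¹U` is dense
  have hd : Dense ((f ⁻¹ᵁ U : X.Opens) : Set X) := by
    rw [dense_iff_inter_open]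
    intro V hV hne
    by_contra hcon
    rw [Set.not_nonempty_iff_eq_empty] at hcon
    let V' : X.Opens := ⟨V, hV⟩
    have hbot : V' ⊓ (f ⁻¹ᵁ U) = ⊥ := by
      ext x
      simp only [TopologicalSpace.Opens.coe_inf, TopologicalSpace.Opens.coe_bot]
      exact Set.ext_iff.mp hcon x
    have hinj := hdense V'
    have h10 : (1 : Γ(X, V')) = 0 := by
      apply hinj
      have : Subsingleton Γ(X, V' ⊓ (f ⁻¹ᵁ U)) := by rw [hbot]; infer_instance
      exact Subsingleton.elim _ _
    have hV' : V' = ⊥ := by
      rw [← X.basicOpen_of_isUnit (U := V') (f := 1) isUnit_one, h10, Scheme.basicOpen_zero]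
    obtain ⟨x, hx⟩ := hne
    have : x ∈ (⊥ : X.Opens) := hV' ▸ (show x ∈ V' from hx)
    exact this
  have hsurj : Surjective e := by
    constructor
    rw [← Set.range_eq_univ]
    have hcl : IsClosed (Set.range e) := e.isClosedEmbedding.isClosed_range
    exact Set.eq_univ_of_univ_subset (by
      rw [← hd.closure_eq]
      exact hcl.closure_subset_iff.mpr hsub)
  have heU : FlatMor.IsUnivHomeo e := Groth.Agent.Lib.UnivHomeo.of_isImmersion_of_surjective e
  have hfU : FlatMor.IsUnivHomeo f := by
    refine Groth.Agent.Lib.UnivHomeo.of_comp_left (g := e) (h := f) ?_ heU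
    rw [he]
    exact Groth.Agent.Lib.UnivHomeo.of_isIso _
  refine ⟨hfU, fun hlft => ?_⟩
  have := Groth.Agent.Lib.UnivHomeo.isIntegralHom hfU
  exact (IsFinite.iff_isIntegralHom_and_locallyOfFiniteType f).mpr ⟨this, hlft⟩

end Groth.Agent.S13097
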