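import Groth.Statements.S13098
import Mathlib.Tactic.LinearCombination
import Mathlib.Tactic.Ring
import Mathlib.Tactic.FinCases
import Mathlib.Tactic.Module
import Mathlib.Tactic.Abel
import Mathlib.LinearAlgebra.Basis.Basic

set_option autoImplicit false
universe u v
open Lie3Mod

namespace Groth.Agent.S13098

/-- Let R be a commutative ring, M an R-module with a basis x = bs 0, y = bs 1, z = bs 2 indexed by Fin
3, and B an R-bilinear alternating map on M (B m m = 0) with B x y = a x + b y + c z, B x z = d x +
e y + f z and B y z = g x + h y + i z. Then B satisfies the Jacobi identity for all triples if and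
only if the three Jacobi polynomials vanish: ah + di − fg − bg = 0, ie + bd − fh − ae = 0 and hc +
dc − af − bi = 0. (This is the statement that Lie brackets on a based free module of rank 3 are the
points of the closed subscheme of affine 9-space defined by these three equations.) -/
theorem result (R : Type u) [CommRing R] (M : Type v) [AddCommGroup M] [Module R M]
    (bs : Module.Basis (Fin 3) R M) (B : M →ₗ[R] M →ₗ[R] M) (halt : ∀ m : M, B m m = 0)
    (a b c d e f g h i : R)
    (hxy : B (bs 0) (bs 1) = a • bs 0 + b • bs 1 + c • bs 2)
    (hxz : B (bs 0) (bs 2) = d • bs 0 + e • bs 1 + f • bs 2)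
    (hyz : B (bs 1) (bs 2) = g • bs 0 + h • bs 1 + i • bs 2) :
    (∀ u v w : M, B u (B v w) + B v (B w u) + B w (B u v) = 0) ↔
      (a * h + d * i - f * g - b * g = 0 ∧ i * e + b * d - f * h - a * e = 0 ∧
        h * c + d * c - a * f - b * i = 0) := by
  classical
  -- antisymmetry
  have hanti : ∀ u v : M, B u v = -B v u := by
    intro u v
    have h := halt (u + v)
    simp only [map_add, LinearMap.add_apply, halt, zero_add, add_zero] at h
    exact eq_neg_of_add_eq_zero_right h
  set J : M → M → M → M := fun u v w => B u (B v w) + B v (B w u) + B w (B u v) with hJ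
  have hcyc : ∀ u v w, J u v w = J v w u := by
    intro u v w; simp only [hJ]; abel
  have hswap : ∀ u v w, J v u w = -J u v w := by
    intro u v w
    simp only [hJ]
    rw [hanti u w, hanti w v, hanti v u]
    simp only [map_neg]
    abel
  have hrep : ∀ u w, J u u w = 0 := by
    intro u w
    simp only [hJ]
    rw [halt u, map_zero, hanti w u, map_neg]
    abel
  -- the linear map in the first variable
  have hlin : ∀ v w : M, ∃ L : M →ₗ[R] M, ∀ u, L u = J u v w := by
    intro v w
    refine ⟨B.flip (B v w) + (B v).comp (B w) + (B w).comp (B.flip v), ?_⟩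
    intro u
    simp [hJ, LinearMap.flip_apply]
  have hext : ∀ v w : M, (∀ i, J (bs i) v w = 0) → ∀ u, J u v w = 0 := by
    intro v w h u
    obtain ⟨L, hL⟩ := hlin v w
    have : L = 0 := by
      apply bs.ext
      intro i
      rw [hL, h, LinearMap.zero_apply]
    rw [← hL, this, LinearMap.zero_apply]
  -- value on the basis triple
  have hval : J (bs 0) (bs 1) (bs 2) =
      (a * h + d * i - f * g - b * g) • bs 0 + (i * e + b * d - f * h - a * e) • bs 1 +
        (h * c + d * c - a * f - b * i) • bs 2 := by
    have hzx : B (bs 2) (bs 0) = -(d • bs 0 + e • bs 1 + f • bs 2) := by rw [hanti, hxz]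
    have hyx : B (bs 1) (bs 0) = -(a • bs 0 + b • bs 1 + c • bs 2) := by rw [hanti, hxy]
    have hzy : B (bs 2) (bs 1) = -(g • bs 0 + h • bs 1 + i • bs 2) := by rw [hanti, hyz]
    simp only [hJ, hyz, hzx, hxy, map_add, map_neg, map_smul, halt, hxz, hyx, hzy, smul_zero,
      zero_add, add_zero]
    module
  constructor
  · intro hall
    have h0 := hall (bs 0) (bs 1) (bs 2)
    have h0' : J (bs 0) (bs 1) (bs 2) = 0 := h0
    rw [hval] at h0'
    have hli := bs.linearIndependent
    rw [Fintype.linearIndependent_iff] at hli
    have := hli (![a * h + d * i - f * g - b * g, i * e + b * d - f * h - a * e,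
      h * c + d * c - a * f - b * i]) (by
        rw [Fin.sum_univ_three]
        simpa using h0')
    exact ⟨by simpa using this 0, by simpa using this 1, by simpa using this 2⟩
  · rintro ⟨h1, h2, h3⟩
    have hxyz : J (bs 0) (bs 1) (bs 2) = 0 := by
      rw [hval, h1, h2, h3]; simp
    -- all basis triples
    have hA : ∀ i j k : Fin 3, J (bs i) (bs j) (bs k) = 0 := by
      have h012 := hxyz
      have h120 : J (bs 1) (bs 2) (bs 0) = 0 := by rw [← hcyc]; exact h012
      have h201 : J (bs 2) (bs 0) (bs 1) = 0 := by rw [← hcyc]; exact h120
      have h102 : J (bs 1) (bs 0) (bs 2) = 0 := by rw [hswap, h012, neg_zero]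
      have h021 : J (bs 0) (bs 2) (bs 1) = 0 := by rw [← hcyc]; exact h102
      have h210 : J (bs 2) (bs 1) (bs 0) = 0 := by rw [← hcyc]; exact h021
      have hr1 : ∀ u w, J u w u = 0 := by
        intro u w; rw [← hcyc]; exact hrep u w
      have hr2 : ∀ u w, J w u u = 0 := by
        intro u w; rw [← hcyc]; exact hr1 u w
      intro i j k
      fin_cases i <;> fin_cases j <;> fin_cases k <;>
        first
        | exact hrep _ _
        | exact hr1 _ _
        | exact hr2 _ _
        | exact h012
        | exact h120
        | exact h201
        | exact h102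
        | exact h021
        | exact h210
    have hB : ∀ u (j k : Fin 3), J u (bs j) (bs k) = 0 := by
      intro u j k
      exact hext _ _ (fun i => hA i j k) u
    have hC : ∀ u v (k : Fin 3), J u v (bs k) = 0 := by
      intro u v k
      rw [hcyc]
      apply hext
      intro j
      rw [hcyc, hcyc]
      exact hB u j k
    intro u v w
    have : J u v w = 0 := by
      rw [hcyc, hcyc]
      apply hext
      intro k
      rw [hcyc]
      exact hC u v k
    exact this

end Groth.Agent.S13098
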