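import Groth.Statements.S13099
import Groth.Agent.Lib.FormalCharP

set_option autoImplicit false
universe u
open GrpSch

namespace Groth.Agent.S13099

section Aux

open Polynomial

variable {A : Type u} [CommRing A]

theorem coeff_aeval_X (q : A[X]) (s : Fin 2) (e : Fin 2 →₀ ℕ) :
    MvPolynomial.coeff e (Polynomial.aeval (MvPolynomial.X s : MvPolynomial (Fin 2) A) q) =
      if e = Finsupp.single s (e s) then q.coeff (e s) else 0 := by
  rw [← MvPolynomial.coeff_coe, Groth.Agent.Lib.FormalChar.coe_aeval]
  · rw [MvPolynomial.coe_X, PowerSeries.coeff_subst_single, Polynomial.coeff_coe]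
  · rw [MvPolynomial.coe_X]; exact PowerSeries.HasSubst.X s

/-- the coefficient of the additivity defect. -/
theorem coeff_defect (q : A[X]) (i j : ℕ) (hi : 0 < i) (hj : 0 < j) :
    MvPolynomial.coeff (Finsupp.single 0 i + Finsupp.single 1 j)
      (Polynomial.aeval (MvPolynomial.X 0 + MvPolynomial.X 1 : MvPolynomial (Fin 2) A) q -
        Polynomial.aeval (MvPolynomial.X 0 : MvPolynomial (Fin 2) A) q -
        Polynomial.aeval (MvPolynomial.X 1 : MvPolynomial (Fin 2) A) q) =
      ((i + j).choose i : A) * q.coeff (i + j) := by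
  have h0 : (Finsupp.single (0 : Fin 2) i + Finsupp.single 1 j : Fin 2 →₀ ℕ) 0 = i := by simp
  have h1 : (Finsupp.single (0 : Fin 2) i + Finsupp.single 1 j : Fin 2 →₀ ℕ) 1 = j := by simp
  rw [MvPolynomial.coeff_sub, MvPolynomial.coeff_sub, Groth.Agent.Lib.FormalChar.coeff_aeval_add,
    coeff_aeval_X, coeff_aeval_X, h0, h1, if_neg, if_neg, sub_zero, sub_zero]
  · intro h
    have := congrArg (fun f => f 0) h
    simp at this
    omega
  · intro h
    have := congrArg (fun f => f 1) h
    simp at this
    omega

theorem coeff_mem_span_eq_zero (N : ℕ) (g : MvPolynomial (Fin 2) A)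
    (hg : g ∈ Ideal.span ({MvPolynomial.X 0 ^ N, MvPolynomial.X 1 ^ N} :
      Set (MvPolynomial (Fin 2) A))) (e : Fin 2 →₀ ℕ) (h0 : e 0 < N) (h1 : e 1 < N) :
    MvPolynomial.coeff e g = 0 := by
  classical
  rw [Ideal.mem_span_pair] at hg
  obtain ⟨u, v, rfl⟩ := hg
  rw [MvPolynomial.coeff_add, MvPolynomial.X_pow_eq_monomial, MvPolynomial.X_pow_eq_monomial,
    MvPolynomial.coeff_mul_monomial', MvPolynomial.coeff_mul_monomial', if_neg, if_neg, add_zero]
  · intro hle
    have := hle 1
    simp at this
    omega
  · intro hle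
    have := hle 0
    simp at this
    omega


theorem mk_eq_aeval (I : Ideal A[X]) (g : A[X]) :
    Ideal.Quotient.mk I g = Polynomial.aeval (Ideal.Quotient.mk I Polynomial.X) g := by
  have := Polynomial.aeval_algHom_apply (Ideal.Quotient.mkₐ A I) Polynomial.X g
  rw [Polynomial.aeval_X_left_apply] at this
  exact this.symm

theorem phi_mk (I : Ideal A[X]) (φ : (A[X] ⧸ I) →ₐ[A] (A[X] ⧸ I)) (r g : A[X])
    (hφ : φ (Ideal.Quotient.mk I Polynomial.X) = Ideal.Quotient.mk I r) :
    φ (Ideal.Quotient.mk I g) = Ideal.Quotient.mk I (g.comp r) := by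
  rw [mk_eq_aeval I g, ← Polynomial.aeval_algHom_apply, hφ]
  have := Polynomial.aeval_algHom_apply (Ideal.Quotient.mkₐ A I) r g
  rw [Ideal.Quotient.mkₐ_eq_mk] at this
  rw [this, Polynomial.comp_eq_aeval]

theorem comp_inverse (p : ℕ) [Fact p.Prime] [CharP A p] (a₁ ap u : A) (hu : u * a₁ = 1) :
    (Polynomial.C u * (Polynomial.X - Polynomial.C (ap * u ^ p) * Polynomial.X ^ p)).comp
        (Polynomial.C a₁ * Polynomial.X + Polynomial.C ap * Polynomial.X ^ p) =
      Polynomial.X - Polynomial.C (u * ap * u ^ p * ap ^ p) * Polynomial.X ^ p ^ 2 := by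
  have h : (Polynomial.C u : A[X]) * Polynomial.C a₁ = 1 := by
    rw [← Polynomial.C_mul, hu, Polynomial.C_1]
  have h' : (Polynomial.C u : A[X]) ^ p * Polynomial.C a₁ ^ p = 1 := by
    rw [← mul_pow, h, one_pow]
  simp only [Polynomial.mul_comp, Polynomial.C_comp, Polynomial.sub_comp, Polynomial.X_comp,
    Polynomial.pow_comp, Polynomial.C_mul, Polynomial.C_pow]
  rw [add_pow_char, mul_pow, mul_pow, ← pow_mul, ← pow_two]
  linear_combination (Polynomial.X : A[X]) * h -
    (Polynomial.C u * Polynomial.C ap * Polynomial.X ^ p : A[X]) * h'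

end Aux

open Polynomial in
/-- Let p be a prime and A a commutative ring of characteristic p, and consider the infinitesimal group
scheme Spec A[X]/(X^{p²}) with the additive group law. In coordinates: (1) a polynomial q ∈ A[X] of
degree less than p² satisfies q(Y + Z) − q(Y) − q(Z) ∈ (Y^{p²}, Z^{p²}) in A[Y, Z] (that is, X ↦ q
respects the comultiplication) if and only if q = a₁ X + a_p X^p for some a₁, a_p ∈ A; (2) an
A-algebra endomorphism of A[X]/(X^{p²}) that sends the class of X to the class of a₁ X + a_p X^p is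
bijective if and only if a₁ is a unit of A. (The printed statement is that the automorphism group
scheme of this group scheme is the semidirect product of the additive group by the multiplicative
group, v acting on u by v^{p−1}u; this row records the two computations it consists of, in
coordinates.) -/
theorem result (p : ℕ) [Fact p.Prime] (A : Type u) [CommRing A] [CharP A p] :
    (∀ q : A[X], q.natDegree < p ^ 2 →
      (Polynomial.aeval (MvPolynomial.X 0 + MvPolynomial.X 1 : MvPolynomial (Fin 2) A) q -
            Polynomial.aeval (MvPolynomial.X 0 : MvPolynomial (Fin 2) A) q -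
            Polynomial.aeval (MvPolynomial.X 1 : MvPolynomial (Fin 2) A) q ∈
          Ideal.span ({MvPolynomial.X 0 ^ p ^ 2, MvPolynomial.X 1 ^ p ^ 2} : Set (MvPolynomial (Fin 2) A)) ↔
        ∃ a₁ ap : A, q = Polynomial.C a₁ * X + Polynomial.C ap * X ^ p)) ∧
    (∀ (a₁ ap : A) (φ : (A[X] ⧸ Ideal.span ({X ^ p ^ 2} : Set A[X])) →ₐ[A] (A[X] ⧸ Ideal.span ({X ^ p ^ 2} : Set A[X]))),
      φ (Ideal.Quotient.mk (Ideal.span ({X ^ p ^ 2} : Set A[X])) X) =
          Ideal.Quotient.mk (Ideal.span ({X ^ p ^ 2} : Set A[X])) (Polynomial.C a₁ * X + Polynomial.C ap * X ^ p) →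
        (Function.Bijective φ ↔ IsUnit a₁)) := by
  have hp : p.Prime := Fact.out
  have hp2 : 2 ≤ p := hp.two_le
  refine ⟨fun q hq => ⟨fun h => ?_, ?_⟩, fun a₁ ap φ hφ => ⟨fun hb => ?_, fun hu => ?_⟩⟩
  · -- additive mod the ideal implies the normal form
    have hcoef : ∀ i j, 0 < i → 0 < j → i < p ^ 2 → j < p ^ 2 →
        ((i + j).choose i : A) * q.coeff (i + j) = 0 := by
      intro i j hi hj hi' hj'
      rw [← coeff_defect q i j hi hj]
      exact coeff_mem_span_eq_zero (p ^ 2) _ h _ (by simpa using hi') (by simpa using hj')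
    have h00 := coeff_mem_span_eq_zero (p ^ 2) _ h 0 (by simp [hp.pos]) (by simp [hp.pos])
    rw [MvPolynomial.coeff_sub, MvPolynomial.coeff_sub,
      Groth.Agent.Lib.FormalChar.coeff_aeval_add, coeff_aeval_X, coeff_aeval_X] at h00
    simp at h00
    have hzero : ∀ n, 2 ≤ n → n ≠ p → q.coeff n = 0 := by
      intro n hn hnp
      by_cases hlt : n < p ^ 2
      · by_cases hdvd : p ∣ n
        · obtain ⟨m, rfl⟩ := hdvd
          have hm2 : 2 ≤ m := by
            rcases m with _ | _ | m
            · omega
            · exact absurd (mul_one p) hnp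
            · omega
          have hmp : m < p := by
            by_contra hge
            push Not at hge
            have : p ^ 2 ≤ p * m := by rw [pow_two]; exact Nat.mul_le_mul_left p hge
            omega
          have hunit : IsUnit ((m : ℕ) : A) :=
            Groth.Agent.Lib.FormalCharP.isUnit_natCast_of_not_dvd (p := p) m
              (fun hd => by have := Nat.le_of_dvd (by omega) hd; omega)
          have hpm : p + (p * m - p) = p * m := by
            have : p ≤ p * m := Nat.le_mul_of_pos_right p (by omega)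
            omega
          have h1 := hcoef p (p * m - p) hp.pos
            (by have : p * 2 ≤ p * m := Nat.mul_le_mul_left p hm2; omega)
            (by nlinarith) (by omega)
          rw [hpm] at h1
          have hmod := Choose.choose_mul_mul_modEq_choose_nat (p := p) (a := m) (b := 1)
          rw [mul_one, Nat.choose_one_right] at hmod
          rw [(CharP.natCast_eq_natCast A p).mpr hmod] at h1
          exact (hunit.mul_right_eq_zero).mp h1
        · have hunit : IsUnit ((n : ℕ) : A) :=
            Groth.Agent.Lib.FormalCharP.isUnit_natCast_of_not_dvd (p := p) n hdvd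
          have h1 := hcoef 1 (n - 1) one_pos (by omega) (by nlinarith) (by omega)
          have e : 1 + (n - 1) = n := by omega
          rw [e, Nat.choose_one_right] at h1
          exact (hunit.mul_right_eq_zero).mp h1
      · exact Polynomial.coeff_eq_zero_of_natDegree_lt (by omega)
    refine ⟨q.coeff 1, q.coeff p, ?_⟩
    ext n
    rw [Polynomial.coeff_add, Polynomial.coeff_C_mul, Polynomial.coeff_C_mul, Polynomial.coeff_X,
      Polynomial.coeff_X_pow]
    rcases n with _ | _ | n
    · rw [if_neg (by omega), if_neg (by omega)]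
      simpa using h00
    · rw [if_pos rfl, if_neg (by omega)]
      simp
    · by_cases hnp : n + 1 + 1 = p
      · rw [if_neg (by omega), if_pos hnp, hnp]
        simp
      · rw [if_neg (by omega), if_neg hnp, hzero _ (by omega) hnp]
        simp
  · -- the normal form is additive
    rintro ⟨a₁, ap, rfl⟩
    have : Polynomial.aeval (MvPolynomial.X 0 + MvPolynomial.X 1 : MvPolynomial (Fin 2) A)
          (Polynomial.C a₁ * Polynomial.X + Polynomial.C ap * Polynomial.X ^ p) -
        Polynomial.aeval (MvPolynomial.X 0 : MvPolynomial (Fin 2) A)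
          (Polynomial.C a₁ * Polynomial.X + Polynomial.C ap * Polynomial.X ^ p) -
        Polynomial.aeval (MvPolynomial.X 1 : MvPolynomial (Fin 2) A)
          (Polynomial.C a₁ * Polynomial.X + Polynomial.C ap * Polynomial.X ^ p) = 0 := by
      simp only [map_add, map_mul, Polynomial.aeval_C, Polynomial.aeval_X, map_pow]
      rw [add_pow_char]
      ring
    rw [this]
    exact Ideal.zero_mem _
  · -- bijective implies `a₁` is a unit
    obtain ⟨w, hw⟩ := hb.2 (Ideal.Quotient.mk _ Polynomial.X)
    obtain ⟨g, rfl⟩ := Ideal.Quotient.mk_surjective w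
    rw [phi_mk _ φ _ g hφ, Ideal.Quotient.eq, Ideal.mem_span_singleton] at hw
    obtain ⟨c, hc⟩ := hw
    have h2 := congrArg (fun f => Polynomial.coeff f 1) hc
    simp only [Polynomial.coeff_sub, Polynomial.coeff_X_one] at h2
    have h3 : (Polynomial.X ^ p ^ 2 * c).coeff 1 = 0 := by
      rw [Polynomial.coeff_X_pow_mul', if_neg]
      have : 4 ≤ p ^ 2 := by nlinarith
      omega
    rw [h3] at h2
    have h4 : (g.comp (Polynomial.C a₁ * Polynomial.X + Polynomial.C ap * Polynomial.X ^ p)).coeff 1
        = (Polynomial.derivative g).eval 0 * a₁ := by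
      have e1 : ∀ f : Polynomial A, f.coeff 1 = (Polynomial.derivative f).eval 0 := by
        intro f
        rw [← Polynomial.coeff_zero_eq_eval_zero, Polynomial.coeff_derivative]
        simp
      have e2 : (Polynomial.C a₁ * Polynomial.X + Polynomial.C ap * Polynomial.X ^ p).eval 0 = 0 := by
        simp [hp.ne_zero]
      have e3 : (Polynomial.derivative
          (Polynomial.C a₁ * Polynomial.X + Polynomial.C ap * Polynomial.X ^ p)).eval 0 = a₁ := by
        have hp1 : p - 1 ≠ 0 := by omega
        simp [Polynomial.derivative_X_pow]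
      rw [e1, Polynomial.derivative_comp, Polynomial.eval_mul, Polynomial.eval_comp, e2, e3,
        mul_comm]
    rw [h4] at h2
    have h5 : a₁ * (Polynomial.derivative g).eval 0 = 1 := by
      rw [mul_comm]
      exact (sub_eq_zero.mp h2).symm.symm ▸ rfl
    exact IsUnit.of_mul_eq_one _ h5
  · -- `a₁` a unit implies bijective
    obtain ⟨u, hu'⟩ := hu.exists_left_inv
    have hsurj : Function.Surjective φ := by
      intro z
      obtain ⟨h, rfl⟩ := Ideal.Quotient.mk_surjective z
      have hx : φ (Ideal.Quotient.mk _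
          (Polynomial.C u * (Polynomial.X - Polynomial.C (ap * u ^ p) * Polynomial.X ^ p))) =
          Ideal.Quotient.mk _ Polynomial.X := by
        rw [phi_mk _ φ _ _ hφ, comp_inverse p a₁ ap u hu', Ideal.Quotient.eq, sub_sub_cancel_left]
        exact Ideal.neg_mem_iff _ |>.mpr
          (Ideal.mul_mem_left _ _ (Ideal.subset_span rfl))
      refine ⟨Polynomial.aeval (Ideal.Quotient.mk _
          (Polynomial.C u * (Polynomial.X - Polynomial.C (ap * u ^ p) * Polynomial.X ^ p))) h, ?_⟩
      rw [← Polynomial.aeval_algHom_apply, hx, ← mk_eq_aeval]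
    have hfin : Module.Finite A (Polynomial A ⧸ Ideal.span ({Polynomial.X ^ p ^ 2} : Set (Polynomial A))) :=
      (Polynomial.monic_X_pow (p ^ 2)).finite_adjoinRoot
    exact ⟨OrzechProperty.injective_of_surjective_endomorphism φ.toLinearMap hsurj, hsurj⟩

end Groth.Agent.S13099
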