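import Groth.Statements.S1310
import Groth.Agent.Lib.ThickeningBC
import Mathlib.RingTheory.Kaehler.TensorProduct
import Mathlib.RingTheory.RingHom.Unramified
import Mathlib.LinearAlgebra.TensorProduct.Quotient
import Mathlib.Algebra.Category.Ring.Constructions

set_option autoImplicit false
universe u
open FlatMor

namespace Groth.Agent.S1310

open Groth.Agent.Lib.ThickeningBC

open TensorProduct in
lemma top_le_smul_of_subsingleton_tensor {R A M : Type*} [CommRing R] [CommRing A] [Algebra R A]
    [AddCommGroup M] [Module R M] (hsurj : Function.Surjective (algebraMap R A))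
    [Subsingleton (A ⊗[R] M)] :
    (⊤ : Submodule R M) ≤ (RingHom.ker (algebraMap R A)) • (⊤ : Submodule R M) := by
  set I := RingHom.ker (algebraMap R A)
  have hsurj' : Function.Surjective (Algebra.ofId R A) := hsurj
  let e0 : (R ⧸ RingHom.ker (Algebra.ofId R A)) ≃ₐ[R] A :=
    Ideal.quotientKerAlgEquivOfSurjective hsurj'
  let e1 : (R ⧸ RingHom.ker (Algebra.ofId R A)) ⊗[R] M ≃ₗ[R] A ⊗[R] M :=
    TensorProduct.congr e0.toLinearEquiv (LinearEquiv.refl R M)
  let e2 := TensorProduct.quotTensorEquivQuotSMul M (RingHom.ker (Algebra.ofId R A))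
  have : Subsingleton (M ⧸ (RingHom.ker (Algebra.ofId R A)) • (⊤ : Submodule R M)) :=
    (e2.symm.trans e1).toEquiv.subsingleton
  rw [Submodule.Quotient.subsingleton_iff] at this
  exact this.ge

open CategoryTheory Limits in
lemma formallyUnramified_of_isPushout {A' A B' B : CommRingCat.{u}} {α : A' ⟶ B'} {φ : A' ⟶ A}
    {ψ : B' ⟶ B} {β : A ⟶ B} (h : IsPushout α φ ψ β) (hφ : Function.Surjective φ.hom)
    (hI : IsNilpotent (RingHom.ker φ.hom))
    (hβ : β.hom.FormallyUnramified) : α.hom.FormallyUnramified := by
  letI := α.hom.toAlgebra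
  letI := φ.hom.toAlgebra
  letI := β.hom.toAlgebra
  letI := ψ.hom.toAlgebra
  letI := (ψ.hom.comp α.hom).toAlgebra
  have : IsScalarTower A' B' B := IsScalarTower.of_algebraMap_eq' rfl
  have : IsScalarTower A' A B := IsScalarTower.of_algebraMap_eq' (by
    show ψ.hom.comp α.hom = β.hom.comp φ.hom
    rw [← CommRingCat.hom_comp, ← CommRingCat.hom_comp, h.w])
  have hP : Algebra.IsPushout A' B' A B := CommRingCat.isPushout_iff_isPushout.mp h
  have hP' : Algebra.IsPushout A' A B' B := hP.symm
  have hβ' : Algebra.FormallyUnramified A B := hβ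
  show Algebra.FormallyUnramified A' B'
  have e := KaehlerDifferential.tensorKaehlerEquivBase A' A B' B
  have : Subsingleton (TensorProduct A' A (Ω[B'⁄A'])) := e.toEquiv.subsingleton
  have hle := top_le_smul_of_subsingleton_tensor (R := A') (A := A) (M := Ω[B'⁄A']) hφ
  exact ⟨subsingleton_of_top_le_smul _ hI hle⟩

open AlgebraicGeometry CategoryTheory Limits in
/-- Let S ⟶ S' be a finite order thickening and let X be the base change of a scheme X' over S' to S (so
X ⟶ X' is again a thickening). Then X ⟶ S is formally unramified if and only if X' ⟶ S' is. (The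
source states this as the vanishing of the sheaf of relative differentials; formal unramifiedness is
the equivalent phrasing available here.) -/
theorem result {X X' S S' : Scheme.{u}} (iX : X ⟶ X') (iS : S ⟶ S') (f : X ⟶ S) (f' : X' ⟶ S')
    (hS : MoreMor.IsFiniteOrderThickening iS) (hc : IsPullback iX f f' iS) :
    FormallyUnramified f ↔ FormallyUnramified f' := by
  have := hS.1.1
  constructor
  · intro hf
    exact of_isPullback_of_isNilpotent (P := @FormallyUnramified)
      (fun h h1 _ h3 h4 => formallyUnramified_of_isPushout h h1 h3 h4) hc hS.2 hf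
  · intro hf'
    exact MorphismProperty.of_isPullback hc hf'

end Groth.Agent.S1310
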