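import Groth.Statements.S13100
import Mathlib
-- import your own Groth.Agent.* helpers here

set_option autoImplicit false
universe u
open GrpSch

namespace Groth.Agent.S13100

open Polynomial in
/-- square roots of power series with nonzero square constant coefficient, char ≠ 2. -/
lemma exists_sqrt (k : Type u) [Field k] (h2 : (2 : k) ≠ 0) (u : PowerSeries k) (d : k)
    (hd0 : d ≠ 0) (hd : d * d = PowerSeries.constantCoeff u) :
    ∃ w : PowerSeries k, w * w = u := by
  have hH : HenselianRing (PowerSeries k) (Ideal.span {PowerSeries.X}) := inferInstance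
  have := hH.is_henselian (X ^ 2 - C u) (monic_X_pow_sub_C u (by norm_num)) (PowerSeries.C d) ?_ ?_
  · obtain ⟨a, ha, -⟩ := this
    refine ⟨a, ?_⟩
    simp only [IsRoot.def, eval_sub, eval_pow, eval_X, eval_C] at ha
    rw [← pow_two]
    exact sub_eq_zero.1 ha
  · simp only [eval_sub, eval_pow, eval_X, eval_C]
    rw [Ideal.mem_span_singleton, PowerSeries.X_dvd_iff]
    simp [pow_two, hd]
  · simp only [derivative_sub, derivative_X_pow, derivative_C, sub_zero, eval_mul, eval_C, eval_pow,
      eval_X, Nat.cast_ofNat]
    apply IsUnit.map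
    rw [PowerSeries.isUnit_iff_constantCoeff]
    simp only [map_mul, map_pow, PowerSeries.constantCoeff_C, Nat.add_one_sub_one, pow_one]
    have : PowerSeries.constantCoeff (2 : PowerSeries k) = 2 := by
      rw [← map_ofNat (PowerSeries.C (R := k)) 2, PowerSeries.constantCoeff_C]
    rw [this]
    exact isUnit_iff_ne_zero.2 (mul_ne_zero h2 hd0)


/-- Let k be an algebraically closed field of characteristic different from 2 and K = k((t)) the field
of Laurent series over k. Then a non-zero Laurent series f is a square in K if and only if its order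
in t is even; consequently the group Kˣ/Kˣ² of non-zero elements modulo squares has exactly two
elements, represented by 1 and t. -/
theorem result (k : Type u) [Field k] [IsAlgClosed k] (h2 : (2 : k) ≠ 0)
    (f : LaurentSeries k) (hf : f ≠ 0) : IsSquare f ↔ Even f.order := by
  constructor
  · rintro ⟨g, rfl⟩
    have hg : g ≠ 0 := by rintro rfl; simp at hf
    rw [HahnSeries.order_mul hg hg]
    exact ⟨_, rfl⟩
  · rintro ⟨n, hn⟩
    obtain ⟨u, hu⟩ : ∃ u, u = f.powerSeriesPart := ⟨_, rfl⟩
    have hc0 : PowerSeries.constantCoeff u ≠ 0 := by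
      rw [hu, ← PowerSeries.coeff_zero_eq_constantCoeff_apply, LaurentSeries.powerSeriesPart_coeff]
      simp only [Nat.cast_zero, add_zero]
      exact fun h => hf (HahnSeries.coeff_order_eq_zero.1 h)
    obtain ⟨d, hd⟩ := IsAlgClosed.exists_eq_mul_self (PowerSeries.constantCoeff u)
    have hd0 : d ≠ 0 := by rintro rfl; simp at hd; exact hc0 hd
    obtain ⟨w, hw⟩ := exists_sqrt k h2 u d hd0 hd.symm
    refine ⟨HahnSeries.single n 1 * (HahnSeries.ofPowerSeries ℤ k w), ?_⟩
    have h1 := LaurentSeries.single_order_mul_powerSeriesPart f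
    rw [← hu, ← hw, hn] at h1
    have h3 : (HahnSeries.single (n + n) (1 : k) : LaurentSeries k) =
        HahnSeries.single n 1 * HahnSeries.single n 1 := by
      rw [HahnSeries.single_mul_single, one_mul]
    rw [← h1, map_mul, h3]
    ring

end Groth.Agent.S13100
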