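import Groth.Statements.S13101
import Mathlib
-- import your own Groth.Agent.* helpers here

set_option autoImplicit false
universe u v
open GrpSch

namespace Groth.Agent.S13101

section
variable {A : Type u} [CommRing A] {L : Type v} [LieRing L] [LieAlgebra A L]
  (bs : Module.Basis (Fin 3) A L)

/-- expansion in the basis. -/
lemma expand (w : L) : w = bs.repr w 0 • bs 0 + bs.repr w 1 • bs 1 + bs.repr w 2 • bs 2 := by
  conv_lhs => rw [← bs.sum_repr w]
  rw [Fin.sum_univ_three]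

lemma repr_comb (a b c : A) (j : Fin 3) :
    bs.repr (a • bs 0 + b • bs 1 + c • bs 2) j = if j = 0 then a else if j = 1 then b else c := by
  simp only [map_add, map_smul, Module.Basis.repr_self, Finsupp.smul_single, smul_eq_mul, mul_one,
    Finsupp.add_apply, Finsupp.single_apply]
  fin_cases j <;> simp

variable (hxy : ⁅bs 0, bs 1⁆ = bs 1) (hxz : ⁅bs 0, bs 2⁆ = bs 1 + bs 2) (hyz : ⁅bs 1, bs 2⁆ = 0)
include hxy hxz hyz

lemma bracket (u1 u2 u3 v1 v2 v3 : A) :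
    ⁅u1 • bs 0 + u2 • bs 1 + u3 • bs 2, v1 • bs 0 + v2 • bs 1 + v3 • bs 2⁆ =
      (0 : A) • bs 0 + ((u1 * v2 - u2 * v1) + (u1 * v3 - u3 * v1)) • bs 1 +
        (u1 * v3 - u3 * v1) • bs 2 := by
  have hyx : ⁅bs 1, bs 0⁆ = -bs 1 := by rw [← lie_skew, hxy]
  have hzx : ⁅bs 2, bs 0⁆ = -(bs 1 + bs 2) := by rw [← lie_skew, hxz]
  have hzy : ⁅bs 2, bs 1⁆ = 0 := by rw [← lie_skew, hyz, neg_zero]
  simp only [lie_add, add_lie, lie_smul, smul_lie, lie_self, hxy, hxz, hyz, hyx, hzx, hzy]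
  module

/-- coordinates of a bracket. -/
lemma bracket_repr (u v : L) (j : Fin 3) :
    bs.repr ⁅u, v⁆ j =
      if j = 0 then 0 else if j = 1 then
        (bs.repr u 0 * bs.repr v 1 - bs.repr u 1 * bs.repr v 0) +
          (bs.repr u 0 * bs.repr v 2 - bs.repr u 2 * bs.repr v 0)
      else bs.repr u 0 * bs.repr v 2 - bs.repr u 2 * bs.repr v 0 := by
  conv_lhs => rw [expand bs u, expand bs v]
  rw [bracket bs hxy hxz hyz, repr_comb]

/-- a Lie endomorphism sends `y`, `z` into the span of `y`, `z`. -/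
lemma x_coord_zero (θ : L →ₗ⁅A⁆ L) :
    bs.repr (θ (bs 1)) 0 = 0 ∧ bs.repr (θ (bs 2)) 0 = 0 := by
  have h1 : bs.repr (θ (bs 1)) 0 = 0 := by
    have : θ (bs 1) = ⁅θ (bs 0), θ (bs 1)⁆ := by rw [← LieHom.map_lie, hxy]
    rw [this, bracket_repr bs hxy hxz hyz]; simp
  refine ⟨h1, ?_⟩
  have : θ (bs 1) + θ (bs 2) = ⁅θ (bs 0), θ (bs 2)⁆ := by rw [← LieHom.map_lie, hxz, map_add]
  have h2 := congrArg (fun w => bs.repr w 0) this
  simp only [map_add, Finsupp.add_apply, h1, zero_add] at h2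
  rw [h2, bracket_repr bs hxy hxz hyz]; simp

end


/-- Let A be a commutative ring in which 2 is a unit, and L a Lie algebra over A, free as a module with
basis x = bs 0, y = bs 1, z = bs 2 and brackets [x,y] = y, [x,z] = y + z, [y,z] = 0. Then for every
Lie algebra automorphism φ of L over A there are b, c, h ∈ A and a unit i of A with φ(x) = x + b y +
c z, φ(y) = i y and φ(z) = h y + i z. Only the form of an automorphism is stated, not that every map
of this form is one. (The published statement identifies the automorphism group scheme with a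
semidirect product of two additive groups by the product of the multiplicative and additive group,
for algebras over a field of Laurent series of characteristic not 2, and deduces the vanishing of
its first cohomology; this row records the determination of the automorphisms, over any base ring
with 2 invertible; the cohomological consequence is not restated.) -/
theorem result (A : Type u) [CommRing A] (h2 : IsUnit (2 : A))
    (L : Type v) [LieRing L] [LieAlgebra A L] (bs : Module.Basis (Fin 3) A L)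
    (hxy : ⁅bs 0, bs 1⁆ = bs 1) (hxz : ⁅bs 0, bs 2⁆ = bs 1 + bs 2) (hyz : ⁅bs 1, bs 2⁆ = 0)
    (φ : L ≃ₗ⁅A⁆ L) :
    ∃ b c h i : A, IsUnit i ∧ φ (bs 0) = bs 0 + b • bs 1 + c • bs 2 ∧ φ (bs 1) = i • bs 1 ∧
      φ (bs 2) = h • bs 1 + i • bs 2 := by
  obtain ⟨hY0, hZ0⟩ := x_coord_zero bs hxy hxz hyz (φ : L →ₗ⁅A⁆ L)
  obtain ⟨hY0', hZ0'⟩ := x_coord_zero bs hxy hxz hyz (φ.symm : L →ₗ⁅A⁆ L)
  simp only [LieEquiv.coe_toLieHom] at hY0 hZ0 hY0' hZ0'
  -- names for the coordinates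
  obtain ⟨a1, ha1⟩ : ∃ a, a = bs.repr (φ (bs 0)) 0 := ⟨_, rfl⟩
  obtain ⟨b, hb⟩ : ∃ a, a = bs.repr (φ (bs 0)) 1 := ⟨_, rfl⟩
  obtain ⟨c, hc⟩ : ∃ a, a = bs.repr (φ (bs 0)) 2 := ⟨_, rfl⟩
  obtain ⟨e, he⟩ : ∃ a, a = bs.repr (φ (bs 1)) 1 := ⟨_, rfl⟩
  obtain ⟨f, hf⟩ : ∃ a, a = bs.repr (φ (bs 1)) 2 := ⟨_, rfl⟩
  obtain ⟨h, hh⟩ : ∃ a, a = bs.repr (φ (bs 2)) 1 := ⟨_, rfl⟩
  obtain ⟨i, hi⟩ : ∃ a, a = bs.repr (φ (bs 2)) 2 := ⟨_, rfl⟩
  have hX : φ (bs 0) = a1 • bs 0 + b • bs 1 + c • bs 2 := by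
    rw [ha1, hb, hc]; exact expand bs _
  have hY : φ (bs 1) = (0 : A) • bs 0 + e • bs 1 + f • bs 2 := by
    rw [he, hf, ← hY0]; exact expand bs _
  have hZ : φ (bs 2) = (0 : A) • bs 0 + h • bs 1 + i • bs 2 := by
    rw [hh, hi, ← hZ0]; exact expand bs _
  -- equations from the bracket relations
  have hc1 : φ (bs 1) = ⁅φ (bs 0), φ (bs 1)⁆ := by rw [← LieEquiv.map_lie, hxy]
  have hc3 : φ (bs 1) + φ (bs 2) = ⁅φ (bs 0), φ (bs 2)⁆ := by
    rw [← LieEquiv.map_lie, hxz, map_add]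
  rw [hX, hY, bracket bs hxy hxz hyz] at hc1
  rw [hX, hY, hZ, bracket bs hxy hxz hyz] at hc3
  have E1 := congrArg (fun w => bs.repr w 1) hc1
  have E2 := congrArg (fun w => bs.repr w 2) hc1
  have E3 := congrArg (fun w => bs.repr w 1) hc3
  have E4 := congrArg (fun w => bs.repr w 2) hc3
  simp only [repr_comb, map_add, Finsupp.add_apply] at E1 E2 E3 E4
  simp at E1 E2 E3 E4
  -- the inverse
  have hX' := expand bs (φ.symm (bs 0))
  have hZ' := expand bs (φ.symm (bs 2))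
  rw [hZ0'] at hZ'
  have hu1 : bs.repr (φ (φ.symm (bs 0))) 0 = 1 := by rw [φ.apply_symm_apply]; simp
  have hu2 : bs.repr (φ (φ.symm (bs 2))) 2 = 1 := by rw [φ.apply_symm_apply]; simp
  rw [hX'] at hu1
  rw [hZ'] at hu2
  simp only [map_add, map_smul, hX, hY, hZ, repr_comb, Finsupp.add_apply, Finsupp.smul_apply,
    smul_eq_mul] at hu1 hu2
  simp at hu1 hu2
  obtain ⟨a1', ha1'⟩ : ∃ a, a = bs.repr (φ.symm (bs 0)) 0 := ⟨_, rfl⟩
  obtain ⟨h', hh'⟩ : ∃ a, a = bs.repr (φ.symm (bs 2)) 1 := ⟨_, rfl⟩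
  obtain ⟨i', hi'⟩ : ∃ a, a = bs.repr (φ.symm (bs 2)) 2 := ⟨_, rfl⟩
  rw [← ha1'] at hu1
  rw [← hh', ← hi'] at hu2
  obtain ⟨t, ht⟩ := h2.exists_right_inv
  have hf' : f = (a1 - 1) * i := by linear_combination E4
  have hδf : (a1 - 1) * f = 0 := by linear_combination -E2
  have hii : i * (h' * (a1 - 1) + i') = 1 := by linear_combination hu2 - h' * hf'
  have hδ2i : (a1 - 1) ^ 2 * i = 0 := by rw [pow_two, mul_assoc, ← hf', hδf]
  have hδ2 : (a1 - 1) ^ 2 = 0 := by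
    calc (a1 - 1) ^ 2 = ((a1 - 1) ^ 2 * i) * (h' * (a1 - 1) + i') := by
          rw [mul_assoc, hii, mul_one]
      _ = 0 := by rw [hδ2i, zero_mul]
  have he' : e = (a1 - 1) * h + a1 * i := by linear_combination E3
  have h3 : 2 * a1 * i * (a1 - 1) + (a1 - 1) ^ 2 * h = 0 := by
    linear_combination (-1) * E1 + (1 - a1) * he' + (-a1) * hf'
  rw [hδ2, zero_mul, add_zero] at h3
  have hδ : a1 - 1 = 0 := by
    calc a1 - 1 = (2 * a1 * i * (a1 - 1)) * (t * a1' * (h' * (a1 - 1) + i')) := by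
          have : (2 * t) * (a1' * a1) * (i * (h' * (a1 - 1) + i')) = 1 := by
            rw [ht, hu1, hii]; ring
          calc a1 - 1 = (a1 - 1) * ((2 * t) * (a1' * a1) * (i * (h' * (a1 - 1) + i'))) := by
                rw [this, mul_one]
            _ = _ := by ring
      _ = 0 := by rw [h3, zero_mul]
  have ha11 : a1 = 1 := sub_eq_zero.1 hδ
  have hf0 : f = 0 := by rw [hf', hδ, zero_mul]
  have hei : e = i := by rw [he', hδ, zero_mul, zero_add, ha11, one_mul]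
  refine ⟨b, c, h, i, isUnit_iff_exists_inv.2 ⟨_, hii⟩, ?_, ?_, ?_⟩
  · rw [hX, ha11, one_smul]
  · rw [hY, hf0, hei]; simp
  · rw [hZ]; simp

end Groth.Agent.S13101
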