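import Groth.Statements.S13102
import Mathlib
-- import your own Groth.Agent.* helpers here

set_option autoImplicit false
universe u v w
open GrpSch

namespace Groth.Agent.S13102

section
variable {A : Type v} [CommRing A] {L : Type w} [LieRing L] [LieAlgebra A L]
  (bs : Module.Basis (Fin 3) A L)

/-- expansion in the basis. -/
lemma expand (w : L) : w = bs.repr w 0 • bs 0 + bs.repr w 1 • bs 1 + bs.repr w 2 • bs 2 := by
  conv_lhs => rw [← bs.sum_repr w]
  rw [Fin.sum_univ_three]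

lemma repr_comb (a b c : A) (j : Fin 3) :
    bs.repr (a • bs 0 + b • bs 1 + c • bs 2) j = if j = 0 then a else if j = 1 then b else c := by
  simp only [map_add, map_smul, Module.Basis.repr_self, Finsupp.smul_single, smul_eq_mul, mul_one,
    Finsupp.add_apply, Finsupp.single_apply]
  fin_cases j <;> simp

variable (α : A)
variable (hxy : ⁅bs 0, bs 1⁆ = bs 1) (hxz : ⁅bs 0, bs 2⁆ = α • bs 2) (hyz : ⁅bs 1, bs 2⁆ = 0)
include hxy hxz hyz

lemma bracket (u1 u2 u3 v1 v2 v3 : A) :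
    ⁅u1 • bs 0 + u2 • bs 1 + u3 • bs 2, v1 • bs 0 + v2 • bs 1 + v3 • bs 2⁆ =
      (0 : A) • bs 0 + (u1 * v2 - u2 * v1) • bs 1 + (α * (u1 * v3 - u3 * v1)) • bs 2 := by
  have hyx : ⁅bs 1, bs 0⁆ = -bs 1 := by rw [← lie_skew, hxy]
  have hzx : ⁅bs 2, bs 0⁆ = -(α • bs 2) := by rw [← lie_skew, hxz]
  have hzy : ⁅bs 2, bs 1⁆ = 0 := by rw [← lie_skew, hyz, neg_zero]
  simp only [lie_add, add_lie, lie_smul, smul_lie, lie_self, hxy, hxz, hyz, hyx, hzx, hzy]
  module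

/-- coordinates of a bracket. -/
lemma bracket_repr (u v : L) (j : Fin 3) :
    bs.repr ⁅u, v⁆ j =
      if j = 0 then 0 else if j = 1 then
        bs.repr u 0 * bs.repr v 1 - bs.repr u 1 * bs.repr v 0
      else α * (bs.repr u 0 * bs.repr v 2 - bs.repr u 2 * bs.repr v 0) := by
  conv_lhs => rw [expand bs u, expand bs v]
  rw [bracket bs α hxy hxz hyz, repr_comb]

/-- an automorphism sends `y`, `z` into the span of `y`, `z`. -/
lemma x_coord_zero (θ : L ≃ₗ⁅A⁆ L) :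
    bs.repr (θ (bs 1)) 0 = 0 ∧ bs.repr (θ (bs 2)) 0 = 0 := by
  have key : ∀ η : L ≃ₗ⁅A⁆ L, bs.repr (η (bs 1)) 0 = 0 := by
    intro η
    have : η (bs 1) = ⁅η (bs 0), η (bs 1)⁆ := by rw [← LieEquiv.map_lie, hxy]
    rw [this, bracket_repr bs α hxy hxz hyz]; simp
  have h1 := key θ
  refine ⟨h1, ?_⟩
  have h1' := key θ.symm
  -- a3 * e = 0
  have hzy : ⁅θ (bs 2), θ (bs 1)⁆ = 0 := by
    rw [← LieEquiv.map_lie, ← lie_skew, hyz, neg_zero, map_zero]
  have h3 := congrArg (fun w => bs.repr w 1) hzy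
  simp only [bracket_repr bs α hxy hxz hyz, map_zero, Finsupp.zero_apply] at h3
  simp [h1] at h3
  -- θ (θ.symm y) = y
  have hy := expand bs (θ.symm (bs 1))
  rw [h1'] at hy
  have hu0 : bs.repr (θ (θ.symm (bs 1))) 0 = 0 := by rw [θ.apply_symm_apply]; simp
  have hu1 : bs.repr (θ (θ.symm (bs 1))) 1 = 1 := by rw [θ.apply_symm_apply]; simp
  rw [hy] at hu0 hu1
  simp only [map_add, map_smul, Finsupp.add_apply, Finsupp.smul_apply, smul_eq_mul, h1] at hu0 hu1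
  simp at hu0 hu1
  calc bs.repr (θ (bs 2)) 0 = bs.repr (θ (bs 2)) 0 * 1 := (mul_one _).symm
    _ = 0 := by rw [← hu1]; linear_combination (bs.repr (θ.symm (bs 1)) 1) * h3 + (bs.repr (θ (bs 2)) 1) * hu0

/-- the common part: all relations between the coordinates. -/
lemma relations (φ : L ≃ₗ⁅A⁆ L) :
    ∃ a1 b c e f h i a1' e' f' h' i' : A,
      φ (bs 0) = a1 • bs 0 + b • bs 1 + c • bs 2 ∧
      φ (bs 1) = (0 : A) • bs 0 + e • bs 1 + f • bs 2 ∧
      φ (bs 2) = (0 : A) • bs 0 + h • bs 1 + i • bs 2 ∧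
      a1' * a1 = 1 ∧ e = a1 * e ∧ f = α * (a1 * f) ∧ α * h = a1 * h ∧ α * i = α * (a1 * i) ∧
      e' * e + f' * h = 1 ∧ e' * f + f' * i = 0 ∧ h' * e + i' * h = 0 ∧ h' * f + i' * i = 1 := by
  obtain ⟨hY0, hZ0⟩ := x_coord_zero bs α hxy hxz hyz φ
  obtain ⟨hY0', hZ0'⟩ := x_coord_zero bs α hxy hxz hyz φ.symm
  obtain ⟨a1, ha1⟩ : ∃ a, a = bs.repr (φ (bs 0)) 0 := ⟨_, rfl⟩
  obtain ⟨b, hb⟩ : ∃ a, a = bs.repr (φ (bs 0)) 1 := ⟨_, rfl⟩
  obtain ⟨c, hc⟩ : ∃ a, a = bs.repr (φ (bs 0)) 2 := ⟨_, rfl⟩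
  obtain ⟨e, he⟩ : ∃ a, a = bs.repr (φ (bs 1)) 1 := ⟨_, rfl⟩
  obtain ⟨f, hf⟩ : ∃ a, a = bs.repr (φ (bs 1)) 2 := ⟨_, rfl⟩
  obtain ⟨h, hh⟩ : ∃ a, a = bs.repr (φ (bs 2)) 1 := ⟨_, rfl⟩
  obtain ⟨i, hi⟩ : ∃ a, a = bs.repr (φ (bs 2)) 2 := ⟨_, rfl⟩
  have hX : φ (bs 0) = a1 • bs 0 + b • bs 1 + c • bs 2 := by
    rw [ha1, hb, hc]; exact expand bs _
  have hY : φ (bs 1) = (0 : A) • bs 0 + e • bs 1 + f • bs 2 := by
    rw [he, hf, ← hY0]; exact expand bs _
  have hZ : φ (bs 2) = (0 : A) • bs 0 + h • bs 1 + i • bs 2 := by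
    rw [hh, hi, ← hZ0]; exact expand bs _
  have hc1 : φ (bs 1) = ⁅φ (bs 0), φ (bs 1)⁆ := by rw [← LieEquiv.map_lie, hxy]
  have hc3 : α • φ (bs 2) = ⁅φ (bs 0), φ (bs 2)⁆ := by
    rw [← LieEquiv.map_lie, hxz, map_smul]
  rw [hX, hY, bracket bs α hxy hxz hyz] at hc1
  rw [hX, hZ, bracket bs α hxy hxz hyz] at hc3
  have E1 := congrArg (fun w => bs.repr w 1) hc1
  have E2 := congrArg (fun w => bs.repr w 2) hc1
  have E3 := congrArg (fun w => bs.repr w 1) hc3
  have E4 := congrArg (fun w => bs.repr w 2) hc3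
  simp only [map_add, map_smul, Finsupp.add_apply, Finsupp.smul_apply] at E1 E2 E3 E4
  simp at E1 E2 E3 E4
  have hX' := expand bs (φ.symm (bs 0))
  have hY' := expand bs (φ.symm (bs 1))
  have hZ' := expand bs (φ.symm (bs 2))
  rw [hY0'] at hY'
  rw [hZ0'] at hZ'
  have hu1 : bs.repr (φ (φ.symm (bs 0))) 0 = 1 := by rw [φ.apply_symm_apply]; simp
  have hv1 : bs.repr (φ (φ.symm (bs 1))) 1 = 1 := by rw [φ.apply_symm_apply]; simp
  have hv2 : bs.repr (φ (φ.symm (bs 1))) 2 = 0 := by rw [φ.apply_symm_apply]; simp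
  have hw1 : bs.repr (φ (φ.symm (bs 2))) 1 = 0 := by rw [φ.apply_symm_apply]; simp
  have hw2 : bs.repr (φ (φ.symm (bs 2))) 2 = 1 := by rw [φ.apply_symm_apply]; simp
  rw [hX'] at hu1
  rw [hY'] at hv1 hv2
  rw [hZ'] at hw1 hw2
  simp only [map_add, map_smul, hX, hY, hZ, Finsupp.add_apply, Finsupp.smul_apply,
    smul_eq_mul] at hu1 hv1 hv2 hw1 hw2
  simp at hu1 hv1 hv2 hw1 hw2
  exact ⟨a1, b, c, e, f, h, i, _, _, _, _, _, hX, hY, hZ, hu1, E1, E2, E3, E4, hv1, hv2, hw1, hw2⟩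

end


/-- Let K be a field, α ∈ K, A a commutative K-algebra and L a Lie algebra over A which is free as an
A-module with basis x = bs 0, y = bs 1, z = bs 2 and brackets [x,y] = y, [x,z] = α z, [y,z] = 0. If
α² ≠ 1 then every Lie algebra automorphism φ of L over A satisfies φ(x) = x + b y + c z, φ(y) = e y,
φ(z) = i z for some b, c ∈ A and units e, i of A. If α = 1 then every such φ satisfies φ(x) = x + b
y + c z, φ(y) = e y + f z, φ(z) = h y + i z with e i − f h a unit of A. (The printed statement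
identifies the automorphism group schemes with the corresponding semidirect products, treats also α
= −1 in characteristic not 2, and computes first cohomology over a field of Laurent series; those
clauses are not restated here.) -/
theorem result (K : Type u) [Field K] (α : K) (A : Type v) [CommRing A] [Algebra K A]
    (L : Type w) [LieRing L] [LieAlgebra A L] (bs : Module.Basis (Fin 3) A L)
    (hxy : ⁅bs 0, bs 1⁆ = bs 1) (hxz : ⁅bs 0, bs 2⁆ = algebraMap K A α • bs 2) (hyz : ⁅bs 1, bs 2⁆ = 0)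
    (φ : L ≃ₗ⁅A⁆ L) :
    (α ^ 2 ≠ 1 → ∃ b c e i : A, IsUnit e ∧ IsUnit i ∧ φ (bs 0) = bs 0 + b • bs 1 + c • bs 2 ∧
        φ (bs 1) = e • bs 1 ∧ φ (bs 2) = i • bs 2) ∧
    (α = 1 → ∃ b c e f h i : A, IsUnit (e * i - f * h) ∧ φ (bs 0) = bs 0 + b • bs 1 + c • bs 2 ∧
        φ (bs 1) = e • bs 1 + f • bs 2 ∧ φ (bs 2) = h • bs 1 + i • bs 2) := by
  obtain ⟨a1, b, c, e, f, h, i, a1', e', f', h', i', hX, hY, hZ, hu1, E1, E2, E3, E4, V1, V2,
    W1, W2⟩ := relations bs (algebraMap K A α) hxy hxz hyz φ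
  obtain ⟨β, hβ⟩ : ∃ β, β = algebraMap K A α := ⟨_, rfl⟩
  rw [← hβ] at E2 E3 E4
  constructor
  · intro hα
    have hα1 : α ≠ 1 := by rintro rfl; simp at hα
    obtain ⟨s, hs⟩ : ∃ s : A, (β ^ 2 - 1) * s = 1 :=
      ⟨algebraMap K A (α ^ 2 - 1)⁻¹, by
        rw [hβ, ← map_pow, ← map_one (algebraMap K A), ← map_sub, ← map_mul,
          mul_inv_cancel₀ (sub_ne_zero.2 hα), map_one]⟩
    obtain ⟨r, hr⟩ : ∃ r : A, (1 - β) * r = 1 :=
      ⟨algebraMap K A (1 - α)⁻¹, by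
        rw [hβ, ← map_one (algebraMap K A), ← map_sub, ← map_mul,
          mul_inv_cancel₀ (sub_ne_zero.2 (Ne.symm hα1)), map_one]⟩
    have h1 : (a1 - 1) * (a1 - β) = 0 := by
      calc (a1 - 1) * (a1 - β) = (a1 - 1) * (a1 - β) * (e' * e + f' * h) := by rw [V1, mul_one]
        _ = 0 := by linear_combination (-(a1 - β) * e') * E1 + (-(a1 - 1) * f') * E3
    have h2 : β * (β * a1 - 1) * (a1 - 1) = 0 := by
      calc β * (β * a1 - 1) * (a1 - 1) = β * (β * a1 - 1) * (a1 - 1) * (h' * f + i' * i) := by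
            rw [W2, mul_one]
        _ = 0 := by linear_combination (-(β * (a1 - 1) * h')) * E2 + (-((β * a1 - 1) * i')) * E4
    have h3' : β * (a1 - 1) * (β ^ 2 - 1) = 0 := by linear_combination h2 - β ^ 2 * h1
    have h3 : β * (a1 - 1) = 0 := by
      calc β * (a1 - 1) = β * (a1 - 1) * (β ^ 2 - 1) * s := by rw [mul_assoc, hs, mul_one]
        _ = 0 := by rw [h3', zero_mul]
    have h4 : (a1 - 1) * a1 = 0 := by linear_combination h1 + h3
    have h5 : a1 - 1 = 0 := by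
      calc a1 - 1 = (a1 - 1) * a1 * a1' := by rw [mul_assoc, mul_comm a1 a1', hu1, mul_one]
        _ = 0 := by rw [h4, zero_mul]
    have ha11 : a1 = 1 := sub_eq_zero.1 h5
    rw [ha11] at E2 E3 hX
    have hh0 : h = 0 := by
      calc h = (1 - β) * h * r := by rw [mul_comm _ h, mul_assoc, hr, mul_one]
        _ = 0 := by
            have : (1 - β) * h = 0 := by linear_combination -E3
            rw [this, zero_mul]
    have hf0 : f = 0 := by
      calc f = (1 - β) * f * r := by rw [mul_comm _ f, mul_assoc, hr, mul_one]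
        _ = 0 := by
            have : (1 - β) * f = 0 := by linear_combination E2
            rw [this, zero_mul]
    rw [hh0, mul_zero, add_zero] at V1
    rw [hf0, mul_zero, zero_add] at W2
    refine ⟨b, c, e, i, isUnit_iff_exists_inv'.2 ⟨_, V1⟩, isUnit_iff_exists_inv'.2 ⟨_, W2⟩, ?_, ?_, ?_⟩
    · rw [hX, one_smul]
    · rw [hY, hf0]; simp
    · rw [hZ, hh0]; simp
  · intro hα
    have hβ1 : β = 1 := by rw [hβ, hα, map_one]
    rw [hβ1] at E3
    have h5 : a1 - 1 = 0 := by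
      calc a1 - 1 = (a1 - 1) * (e' * e + f' * h) := by rw [V1, mul_one]
        _ = 0 := by linear_combination (-e') * E1 + (-f') * E3
    have ha11 : a1 = 1 := sub_eq_zero.1 h5
    rw [ha11] at hX
    have hdet : (e' * i' - f' * h') * (e * i - f * h) = 1 := by
      linear_combination (h' * f + i' * i) * V1 + W2 - (h' * e + i' * h) * V2
    refine ⟨b, c, e, f, h, i, isUnit_iff_exists_inv'.2 ⟨_, hdet⟩, ?_, ?_, ?_⟩
    · rw [hX, one_smul]
    · rw [hY]; simp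
    · rw [hZ]; simp

end Groth.Agent.S13102
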