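import Groth.Statements.S13104
import Groth.Agent.Lib.LieSEpi

set_option autoImplicit false
universe u
open GrpSch

namespace Groth.Agent.S13104

open CategoryTheory AlgebraicGeometry in
/-- Let B be a commutative ring, B[ε] the ring of dual numbers (ε² = 0) and B[α, β]/(α², β²) the double
dual numbers, realised as dual numbers over the dual numbers with α the inner and β the outer
generator, and let ψ : B[ε] → B[α, β]/(α², β²) be the B-algebra homomorphism with ψ(ε) = αβ. Then
for every scheme G the map u ↦ Spec(ψ) ≫ u from morphisms Spec B[ε] → G to morphisms Spec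
B[α,β]/(α²,β²) → G is injective. (The printed statement is its consequence for a group scheme G: the
map Lie(G)(B) → G(B[α,β]/(α²,β²)), x ↦ exp(αβ x), is injective; the injectivity on all B[ε]-points
stated here is what the printed argument establishes.) -/
theorem result (B : Type u) [CommRing B]
    (ψ : DualNumber B →+* DualNumber (DualNumber B))
    (hψB : ∀ b : B, ψ (algebraMap B (DualNumber B) b) = algebraMap B (DualNumber (DualNumber B)) b)
    (hψ : ψ DualNumber.eps = algebraMap (DualNumber B) (DualNumber (DualNumber B)) DualNumber.eps * DualNumber.eps)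
    (G : Scheme.{u}) :
    Function.Injective (fun u : Spec (CommRingCat.of (DualNumber B)) ⟶ G =>
      Spec.map (CommRingCat.ofHom (R := DualNumber B) (S := DualNumber (DualNumber B)) ψ) ≫ u) := by
  have e1 : ∀ b : B, algebraMap B (DualNumber (DualNumber B)) b =
      TrivSqZeroExt.inl (TrivSqZeroExt.inl b) := by
    intro b
    rw [IsScalarTower.algebraMap_apply B (DualNumber B) (DualNumber (DualNumber B))]
    rfl
  have hform : ∀ x : DualNumber B, ψ x =
      TrivSqZeroExt.inl (TrivSqZeroExt.inl x.fst) + TrivSqZeroExt.inr (TrivSqZeroExt.inr x.snd) := by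
    intro x
    have hx : x = algebraMap B (DualNumber B) x.fst +
        algebraMap B (DualNumber B) x.snd * DualNumber.eps := by
      apply TrivSqZeroExt.ext
      · simp only [TrivSqZeroExt.algebraMap_eq_inl, TrivSqZeroExt.fst_add, TrivSqZeroExt.fst_mul,
          TrivSqZeroExt.fst_inl, DualNumber.fst_eps, mul_zero, add_zero]
      · simp only [TrivSqZeroExt.algebraMap_eq_inl, TrivSqZeroExt.snd_add, TrivSqZeroExt.snd_mul,
          TrivSqZeroExt.fst_inl, TrivSqZeroExt.snd_inl, DualNumber.snd_eps, DualNumber.fst_eps]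
        simp
    conv_lhs => rw [hx]
    rw [map_add, map_mul, hψB, hψB, hψ, e1, e1, TrivSqZeroExt.algebraMap_eq_inl]
    set_option linter.unusedSimpArgs false in
    apply TrivSqZeroExt.ext
    · apply TrivSqZeroExt.ext
      · simp only [TrivSqZeroExt.fst_add, TrivSqZeroExt.fst_mul, TrivSqZeroExt.fst_inl,
          TrivSqZeroExt.fst_inr, DualNumber.fst_eps, mul_zero, add_zero]
      · simp only [TrivSqZeroExt.fst_add, TrivSqZeroExt.fst_mul, TrivSqZeroExt.fst_inl,
          TrivSqZeroExt.fst_inr, DualNumber.fst_eps, mul_zero, add_zero]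
    · apply TrivSqZeroExt.ext
      · simp only [TrivSqZeroExt.snd_add, TrivSqZeroExt.snd_mul, TrivSqZeroExt.fst_mul,
          TrivSqZeroExt.fst_inl, TrivSqZeroExt.snd_inl, TrivSqZeroExt.fst_inr,
          TrivSqZeroExt.snd_inr, DualNumber.fst_eps, DualNumber.snd_eps, mul_zero, add_zero,
          TrivSqZeroExt.fst_add, smul_eq_mul, zero_add, TrivSqZeroExt.fst_smul,
          TrivSqZeroExt.fst_zero, MulOpposite.smul_eq_mul_unop, MulOpposite.unop_op, mul_one]
      · simp only [TrivSqZeroExt.snd_add, TrivSqZeroExt.snd_mul, TrivSqZeroExt.fst_mul,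
          TrivSqZeroExt.fst_inl, TrivSqZeroExt.snd_inl, TrivSqZeroExt.fst_inr,
          TrivSqZeroExt.snd_inr, DualNumber.fst_eps, DualNumber.snd_eps, mul_zero, add_zero,
          TrivSqZeroExt.fst_add, smul_eq_mul, zero_add, TrivSqZeroExt.snd_smul,
          MulOpposite.smul_eq_mul_unop, MulOpposite.unop_op, mul_one]
  have hinj : Function.Injective ψ := by
    intro x y hxy
    rw [hform, hform] at hxy
    have h1 := congrArg (fun t => t.fst.fst) hxy
    have h2 := congrArg (fun t => t.snd.snd) hxy
    simp only [TrivSqZeroExt.fst_add, TrivSqZeroExt.fst_inl, TrivSqZeroExt.fst_inr, add_zero,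
      TrivSqZeroExt.snd_add, TrivSqZeroExt.snd_inl, TrivSqZeroExt.snd_inr, zero_add] at h1 h2
    exact TrivSqZeroExt.ext h1 h2
  let τ : DualNumber (DualNumber B) →+* B :=
    (TrivSqZeroExt.fstHom B B B).toRingHom.comp
      (TrivSqZeroExt.fstHom (DualNumber B) (DualNumber B) (DualNumber B)).toRingHom
  have hτψ : ∀ x, τ (ψ x) = x.fst := by
    intro x
    rw [hform]
    change (TrivSqZeroExt.inl (TrivSqZeroExt.inl x.fst) +
      TrivSqZeroExt.inr (TrivSqZeroExt.inr x.snd) : DualNumber (DualNumber B)).fst.fst = x.fst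
    simp only [TrivSqZeroExt.fst_add, TrivSqZeroExt.fst_inl, TrivSqZeroExt.fst_inr, add_zero]
  have hepi : Epi (Spec.map (CommRingCat.ofHom (R := DualNumber B)
      (S := DualNumber (DualNumber B)) ψ)) := by
    refine Groth.Agent.Lib.LieSEpi.epi_specMap (D := DualNumber B)
      (C := DualNumber (DualNumber B)) (B₀ := B) ψ hinj τ ?_ ?_
    · intro b
      refine ⟨TrivSqZeroExt.inl b, ?_⟩
      change τ (ψ _) = b
      rw [hτψ]
      rfl
    · intro x hx
      rw [hτψ] at hx
      apply TrivSqZeroExt.ext
      · simp only [TrivSqZeroExt.fst_mul, hx, mul_zero, TrivSqZeroExt.fst_zero]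
      · simp only [TrivSqZeroExt.snd_mul, hx, TrivSqZeroExt.snd_zero]
        simp
  intro u v huv
  exact (cancel_epi _).mp huv

end Groth.Agent.S13104
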