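import Groth.Statements.S13107
import Mathlib
-- import your own Groth.Agent.* helpers here

set_option autoImplicit false
universe u v w
open GrpSch

namespace Groth.Agent.S13107

section
variable {A : Type*} [CommRing A] {L : Type*} [LieRing L] [LieAlgebra A L]
  (bs : Module.Basis (Fin 3) A L)

/-- expansion in the basis. -/
lemma expand (w : L) : w = bs.repr w 0 • bs 0 + bs.repr w 1 • bs 1 + bs.repr w 2 • bs 2 := by
  conv_lhs => rw [← bs.sum_repr w]
  rw [Fin.sum_univ_three]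

lemma repr_comb (a b c : A) (j : Fin 3) :
    bs.repr (a • bs 0 + b • bs 1 + c • bs 2) j = if j = 0 then a else if j = 1 then b else c := by
  simp only [map_add, map_smul, Module.Basis.repr_self, Finsupp.smul_single, smul_eq_mul, mul_one,
    Finsupp.add_apply, Finsupp.single_apply]
  fin_cases j <;> simp

variable (τ : A)
variable (hxy : ⁅bs 0, bs 1⁆ = bs 2) (hxz : ⁅bs 0, bs 2⁆ = τ • bs 1) (hyz : ⁅bs 1, bs 2⁆ = 0)
include hxy hxz hyz

lemma bracket (u1 u2 u3 v1 v2 v3 : A) :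
    ⁅u1 • bs 0 + u2 • bs 1 + u3 • bs 2, v1 • bs 0 + v2 • bs 1 + v3 • bs 2⁆ =
      (0 : A) • bs 0 + (τ * (u1 * v3 - u3 * v1)) • bs 1 + (u1 * v2 - u2 * v1) • bs 2 := by
  have hyx : ⁅bs 1, bs 0⁆ = -bs 2 := by rw [← lie_skew, hxy]
  have hzx : ⁅bs 2, bs 0⁆ = -(τ • bs 1) := by rw [← lie_skew, hxz]
  have hzy : ⁅bs 2, bs 1⁆ = 0 := by rw [← lie_skew, hyz, neg_zero]
  simp only [lie_add, add_lie, lie_smul, smul_lie, lie_self, hxy, hxz, hyz, hyx, hzx, hzy]
  module

end


/-- Let k be a field, K = k((t)) the field of Laurent series over k, F a Lie algebra over K with a basis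
x' = bF 0, y' = bF 1, z' = bF 2 and brackets [x',y'] = z', [x',z'] = t y', [y',z'] = 0, and L a Lie
algebra over K with a basis x = bL 0, y = bL 1, z = bL 2 and brackets [x,y] = y, [x,z] = −z, [y,z] =
0. Then there is no K-linear isomorphism of Lie algebras between L and F: F is a non-trivial form of
L over K. (The published result is the classification of three-dimensional Lie algebras over k((t))
for k algebraically closed of characteristic not 2, with F its only non-split entry; this row states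
the non-isomorphism of F and L over k((t)) for every field k.) -/
theorem result (k : Type u) [Field k]
    (F : Type v) [LieRing F] [LieAlgebra (LaurentSeries k) F] (bF : Module.Basis (Fin 3) (LaurentSeries k) F)
    (hF01 : ⁅bF 0, bF 1⁆ = bF 2) (hF02 : ⁅bF 0, bF 2⁆ = (HahnSeries.single 1 (1 : k) : LaurentSeries k) • bF 1)
    (hF12 : ⁅bF 1, bF 2⁆ = 0)
    (L : Type w) [LieRing L] [LieAlgebra (LaurentSeries k) L] (bL : Module.Basis (Fin 3) (LaurentSeries k) L)
    (hL01 : ⁅bL 0, bL 1⁆ = bL 1) (hL02 : ⁅bL 0, bL 2⁆ = -bL 2) (hL12 : ⁅bL 1, bL 2⁆ = 0) :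
    IsEmpty (L ≃ₗ⁅LaurentSeries k⁆ F) := by
  refine ⟨fun φ => ?_⟩
  obtain ⟨τ, hτ⟩ : ∃ τ : LaurentSeries k, τ = HahnSeries.single 1 (1 : k) := ⟨_, rfl⟩
  rw [← hτ] at hF02
  have hX := expand bF (φ (bL 0))
  have hY := expand bF (φ (bL 1))
  obtain ⟨a1, ha1⟩ : ∃ a, a = bF.repr (φ (bL 0)) 0 := ⟨_, rfl⟩
  obtain ⟨b, hb⟩ : ∃ a, a = bF.repr (φ (bL 0)) 1 := ⟨_, rfl⟩
  obtain ⟨c, hc⟩ : ∃ a, a = bF.repr (φ (bL 0)) 2 := ⟨_, rfl⟩
  obtain ⟨a2, ha2⟩ : ∃ a, a = bF.repr (φ (bL 1)) 0 := ⟨_, rfl⟩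
  obtain ⟨e, he⟩ : ∃ a, a = bF.repr (φ (bL 1)) 1 := ⟨_, rfl⟩
  obtain ⟨f, hf⟩ : ∃ a, a = bF.repr (φ (bL 1)) 2 := ⟨_, rfl⟩
  rw [← ha1, ← hb, ← hc] at hX
  rw [← ha2, ← he, ← hf] at hY
  have hc1 : φ (bL 1) = ⁅φ (bL 0), φ (bL 1)⁆ := by rw [← LieEquiv.map_lie, hL01]
  rw [hX, hY, bracket bF τ hF01 hF02 hF12] at hc1
  have E0 := congrArg (fun w => bF.repr w 0) hc1
  have E1 := congrArg (fun w => bF.repr w 1) hc1
  have E2 := congrArg (fun w => bF.repr w 2) hc1
  simp only [map_add, map_smul, Finsupp.add_apply, Finsupp.smul_apply] at E0 E1 E2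
  simp at E0 E1 E2
  rw [E0] at E1 E2
  simp only [mul_zero, sub_zero] at E1 E2
  -- (e, f) ≠ 0
  have hne : e ≠ 0 ∨ f ≠ 0 := by
    by_contra hcon
    push Not at hcon
    have : φ (bL 1) = 0 := by rw [hY, E0, hcon.1, hcon.2]; simp
    have h0 : bL 1 = 0 := by
      have := congrArg φ.symm this
      rwa [φ.symm_apply_apply, map_zero] at this
    exact bL.ne_zero 1 h0
  -- τ * a1^2 = 1
  have hsq : τ * a1 ^ 2 = 1 := by
    rcases hne with h | h
    · have : e * (τ * a1 ^ 2) = e * 1 := by rw [mul_one]; nth_rw 2 [E1]; rw [E2]; ring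
      exact mul_left_cancel₀ h this
    · have : f * (τ * a1 ^ 2) = f * 1 := by rw [mul_one]; nth_rw 2 [E2]; rw [E1]; ring
      exact mul_left_cancel₀ h this
  have ha10 : a1 ≠ 0 := by rintro rfl; simp at hsq
  have hτ0 : τ ≠ 0 := by rintro rfl; simp at hsq
  have hord := congrArg HahnSeries.order hsq
  rw [HahnSeries.order_mul hτ0 (pow_ne_zero 2 ha10), pow_two, HahnSeries.order_mul ha10 ha10,
    HahnSeries.order_one, hτ, HahnSeries.order_single one_ne_zero] at hord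
  omega

end Groth.Agent.S13107
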