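import Groth.Statements.S13108
import Mathlib
-- import your own Groth.Agent.* helpers here

set_option autoImplicit false
universe u v w
open GrpSch

namespace Groth.Agent.S13108

section
variable {A : Type*} [CommRing A] {L : Type*} [LieRing L] [LieAlgebra A L]

/-- expansion in the basis. -/
lemma expand (bs : Module.Basis (Fin 3) A L) (w : L) :
    w = bs.repr w 0 • bs 0 + bs.repr w 1 • bs 1 + bs.repr w 2 • bs 2 := by
  conv_lhs => rw [← bs.sum_repr w]
  rw [Fin.sum_univ_three]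

lemma repr_comb (bs : Module.Basis (Fin 3) A L) (a b c : A) (j : Fin 3) :
    bs.repr (a • bs 0 + b • bs 1 + c • bs 2) j = if j = 0 then a else if j = 1 then b else c := by
  simp only [map_add, map_smul, Module.Basis.repr_self, Finsupp.smul_single, smul_eq_mul, mul_one,
    Finsupp.add_apply, Finsupp.single_apply]
  fin_cases j <;> simp

lemma bracket (X Y Z : L) (τ : A) (hxy : ⁅X, Y⁆ = Y) (hxz : ⁅X, Z⁆ = τ • Z) (hyz : ⁅Y, Z⁆ = 0)
    (u1 u2 u3 v1 v2 v3 : A) :
    ⁅u1 • X + u2 • Y + u3 • Z, v1 • X + v2 • Y + v3 • Z⁆ =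
      (0 : A) • X + (u1 * v2 - u2 * v1) • Y + (τ * (u1 * v3 - u3 * v1)) • Z := by
  have hyx : ⁅Y, X⁆ = -Y := by rw [← lie_skew, hxy]
  have hzx : ⁅Z, X⁆ = -(τ • Z) := by rw [← lie_skew, hxz]
  have hzy : ⁅Z, Y⁆ = 0 := by rw [← lie_skew, hyz, neg_zero]
  simp only [lie_add, add_lie, lie_smul, smul_lie, lie_self, hxy, hxz, hyz, hyx, hzx, hzy]
  module

variable {M : Type*} [LieRing M] [LieAlgebra A M]

/-- the linear map defined on a basis satisfying the relations, with images satisfying the same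
relations, is a Lie homomorphism. -/
lemma constr_lie (b : Module.Basis (Fin 3) A L) (τ : A)
    (h01 : ⁅b 0, b 1⁆ = b 1) (h02 : ⁅b 0, b 2⁆ = τ • b 2) (h12 : ⁅b 1, b 2⁆ = 0)
    (X Y Z : M) (hxy : ⁅X, Y⁆ = Y) (hxz : ⁅X, Z⁆ = τ • Z) (hyz : ⁅Y, Z⁆ = 0) (u v : L) :
    (b.constr A ![X, Y, Z]) ⁅u, v⁆ = ⁅b.constr A ![X, Y, Z] u, b.constr A ![X, Y, Z] v⁆ := by
  obtain ⟨f, hf⟩ : ∃ f, f = b.constr A ![X, Y, Z] := ⟨_, rfl⟩
  rw [← hf]
  have hf0 : f (b 0) = X := by rw [hf, Module.Basis.constr_basis]; rfl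
  have hf1 : f (b 1) = Y := by rw [hf, Module.Basis.constr_basis]; rfl
  have hf2 : f (b 2) = Z := by rw [hf, Module.Basis.constr_basis]; rfl
  conv_lhs => rw [expand b u, expand b v, bracket (b 0) (b 1) (b 2) τ h01 h02 h12]
  conv_rhs => rw [expand b u, expand b v]
  simp only [map_add, map_smul, hf0, hf1, hf2]
  rw [bracket X Y Z τ hxy hxz hyz]

/-- building a Lie equivalence from mutually inverse basis assignments. -/
lemma mkEquiv (b : Module.Basis (Fin 3) A L) (τ : A)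
    (h01 : ⁅b 0, b 1⁆ = b 1) (h02 : ⁅b 0, b 2⁆ = τ • b 2) (h12 : ⁅b 1, b 2⁆ = 0)
    (b' : Module.Basis (Fin 3) A M) (τ' : A)
    (h01' : ⁅b' 0, b' 1⁆ = b' 1) (h02' : ⁅b' 0, b' 2⁆ = τ' • b' 2) (h12' : ⁅b' 1, b' 2⁆ = 0)
    (X Y Z : M) (hxy : ⁅X, Y⁆ = Y) (hxz : ⁅X, Z⁆ = τ • Z) (hyz : ⁅Y, Z⁆ = 0)
    (X' Y' Z' : L) (hxy' : ⁅X', Y'⁆ = Y') (hxz' : ⁅X', Z'⁆ = τ' • Z') (hyz' : ⁅Y', Z'⁆ = 0)
    (hgf : ∀ i, b'.constr A ![X', Y', Z'] (b.constr A ![X, Y, Z] (b i)) = b i)
    (hfg : ∀ i, b.constr A ![X, Y, Z] (b'.constr A ![X', Y', Z'] (b' i)) = b' i) :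
    Nonempty (L ≃ₗ⁅A⁆ M) := by
  have h1 : (b'.constr A ![X', Y', Z']) ∘ₗ (b.constr A ![X, Y, Z]) = LinearMap.id :=
    b.ext fun i => by simpa using hgf i
  have h2 : (b.constr A ![X, Y, Z]) ∘ₗ (b'.constr A ![X', Y', Z']) = LinearMap.id :=
    b'.ext fun i => by simpa using hfg i
  exact ⟨{ toLinearMap := b.constr A ![X, Y, Z]
           map_lie' := fun {u v} => constr_lie b τ h01 h02 h12 X Y Z hxy hxz hyz u v
           invFun := b'.constr A ![X', Y', Z']
           left_inv := fun u => LinearMap.congr_fun h1 u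
           right_inv := fun u => LinearMap.congr_fun h2 u }⟩

end


/-- Let k be a field and t, t' ∈ k both non-zero; let L be a Lie algebra over k with a basis x = b 0, y
= b 1, z = b 2 and brackets [x,y] = y, [x,z] = t z, [y,z] = 0, and L' a Lie algebra over k with a
basis x' = b' 0, y' = b' 1, z' = b' 2 and brackets [x',y'] = y', [x',z'] = t' z', [y',z'] = 0. Then
L and L' are isomorphic Lie algebras over k if and only if t' = t or t' = t⁻¹. -/
theorem result (k : Type u) [Field k] (t t' : k) (ht : t ≠ 0) (ht' : t' ≠ 0)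
    (L : Type v) [LieRing L] [LieAlgebra k L] (b : Module.Basis (Fin 3) k L)
    (h01 : ⁅b 0, b 1⁆ = b 1) (h02 : ⁅b 0, b 2⁆ = t • b 2) (h12 : ⁅b 1, b 2⁆ = 0)
    (L' : Type w) [LieRing L'] [LieAlgebra k L'] (b' : Module.Basis (Fin 3) k L')
    (h01' : ⁅b' 0, b' 1⁆ = b' 1) (h02' : ⁅b' 0, b' 2⁆ = t' • b' 2) (h12' : ⁅b' 1, b' 2⁆ = 0) :
    Nonempty (L ≃ₗ⁅k⁆ L') ↔ (t' = t ∨ t' = t⁻¹) := by
  constructor
  · rintro ⟨φ⟩
    have hX := expand b' (φ (b 0))
    have hY := expand b' (φ (b 1))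
    have hZ := expand b' (φ (b 2))
    obtain ⟨a1, ha1⟩ : ∃ a, a = b'.repr (φ (b 0)) 0 := ⟨_, rfl⟩
    obtain ⟨bb, hbb⟩ : ∃ a, a = b'.repr (φ (b 0)) 1 := ⟨_, rfl⟩
    obtain ⟨c, hc⟩ : ∃ a, a = b'.repr (φ (b 0)) 2 := ⟨_, rfl⟩
    obtain ⟨a2, ha2⟩ : ∃ a, a = b'.repr (φ (b 1)) 0 := ⟨_, rfl⟩
    obtain ⟨e, he⟩ : ∃ a, a = b'.repr (φ (b 1)) 1 := ⟨_, rfl⟩
    obtain ⟨f, hf⟩ : ∃ a, a = b'.repr (φ (b 1)) 2 := ⟨_, rfl⟩
    obtain ⟨a3, ha3⟩ : ∃ a, a = b'.repr (φ (b 2)) 0 := ⟨_, rfl⟩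
    obtain ⟨h, hh⟩ : ∃ a, a = b'.repr (φ (b 2)) 1 := ⟨_, rfl⟩
    obtain ⟨i, hi⟩ : ∃ a, a = b'.repr (φ (b 2)) 2 := ⟨_, rfl⟩
    rw [← ha1, ← hbb, ← hc] at hX
    rw [← ha2, ← he, ← hf] at hY
    rw [← ha3, ← hh, ← hi] at hZ
    have hc1 : φ (b 1) = ⁅φ (b 0), φ (b 1)⁆ := by rw [← LieEquiv.map_lie, h01]
    have hc3 : t • φ (b 2) = ⁅φ (b 0), φ (b 2)⁆ := by rw [← LieEquiv.map_lie, h02, map_smul]
    rw [hX, hY, bracket (b' 0) (b' 1) (b' 2) t' h01' h02' h12'] at hc1
    rw [hX, hZ, bracket (b' 0) (b' 1) (b' 2) t' h01' h02' h12'] at hc3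
    have E0 := congrArg (fun w => b'.repr w 0) hc1
    have E1 := congrArg (fun w => b'.repr w 1) hc1
    have E2 := congrArg (fun w => b'.repr w 2) hc1
    have G0 := congrArg (fun w => b'.repr w 0) hc3
    have G1 := congrArg (fun w => b'.repr w 1) hc3
    have G2 := congrArg (fun w => b'.repr w 2) hc3
    simp only [map_add, map_smul, Finsupp.add_apply, Finsupp.smul_apply] at E0 E1 E2 G0 G1 G2
    simp at E0 E1 E2 G0 G1 G2
    have ha30 : a3 = 0 := by rcases G0 with h | h; exact absurd h ht; exact h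
    rw [E0] at E1 E2
    rw [ha30] at G1 G2
    simp only [mul_zero, sub_zero] at E1 E2 G1 G2
    -- the block (e f; h i) is nondegenerate
    have hdet : e * i - f * h ≠ 0 := by
      intro hd
      have hinj : ∀ w : L, φ w = 0 → w = 0 := fun w hw => by
        have := congrArg φ.symm hw
        rwa [φ.symm_apply_apply, map_zero] at this
      have k1 : i • b 1 - f • b 2 = 0 := by
        apply hinj
        rw [map_sub, map_smul, map_smul, hY, hZ, E0, ha30]
        have : i • ((0 : k) • b' 0 + e • b' 1 + f • b' 2) - f • ((0 : k) • b' 0 + h • b' 1 + i • b' 2) =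
            (e * i - f * h) • b' 1 := by module
        rw [this, hd, zero_smul]
      have k2 : h • b 1 - e • b 2 = 0 := by
        apply hinj
        rw [map_sub, map_smul, map_smul, hY, hZ, E0, ha30]
        have : h • ((0 : k) • b' 0 + e • b' 1 + f • b' 2) - e • ((0 : k) • b' 0 + h • b' 1 + i • b' 2) =
            (-(e * i - f * h)) • b' 2 := by module
        rw [this, hd, neg_zero, zero_smul]
      have r1 := congrArg (fun w => b.repr w 2) k1
      have r2 := congrArg (fun w => b.repr w 2) k2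
      simp at r1 r2
      have : φ (b 1) = 0 := by rw [hY, E0, r1, r2]; simp
      exact b.ne_zero 1 (hinj _ this)
    by_cases he0 : e = 0
    · have hfh : f * h ≠ 0 := by
        intro hfh; apply hdet; rw [he0, hfh]; ring
      have hf0 : f ≠ 0 := left_ne_zero_of_mul hfh
      have hh0 : h ≠ 0 := right_ne_zero_of_mul hfh
      have h1 : t' * a1 = 1 := by
        have : f * (t' * a1) = f * 1 := by rw [mul_one]; nth_rw 2 [E2]; ring
        exact mul_left_cancel₀ hf0 this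
      have h2 : a1 = t := by
        have : h * a1 = h * t := by rw [mul_comm h t, G1]; ring
        exact mul_left_cancel₀ hh0 this
      right
      rw [h2] at h1
      exact eq_inv_of_mul_eq_one_left h1
    · have ha11 : a1 = 1 := by
        have : e * a1 = e * 1 := by rw [mul_one]; nth_rw 2 [E1]; ring
        exact mul_left_cancel₀ he0 this
      rw [ha11, one_mul] at E2 G1 G2
      left
      by_cases hi0 : i = 0
      · have hfh : f * h ≠ 0 := by
          intro hfh; apply hdet; rw [hi0, hfh]; ring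
        have hf0 : f ≠ 0 := left_ne_zero_of_mul hfh
        have hh0 : h ≠ 0 := right_ne_zero_of_mul hfh
        have h1 : t' = 1 := by
          have : f * t' = f * 1 := by rw [mul_one]; nth_rw 2 [E2]; ring
          exact mul_left_cancel₀ hf0 this
        have h2 : t = 1 := by
          have : h * t = h * 1 := by rw [mul_one, mul_comm, G1]
          exact mul_left_cancel₀ hh0 this
        rw [h1, h2]
      · have : i * t' = i * t := by rw [mul_comm i t, G2]; ring
        exact mul_left_cancel₀ hi0 this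
  · rintro (rfl | rfl)
    · refine mkEquiv b t' h01 h02 h12 b' t' h01' h02' h12' (b' 0) (b' 1) (b' 2) h01' h02' h12'
        (b 0) (b 1) (b 2) h01 h02 h12 (fun i => ?_) (fun i => ?_)
      · fin_cases i <;> simp [Module.Basis.constr_basis]
      · fin_cases i <;> simp [Module.Basis.constr_basis]
    · have htt : t * t⁻¹ = 1 := mul_inv_cancel₀ ht
      have h21 : ⁅b 2, b 1⁆ = 0 := by rw [← lie_skew, h12, neg_zero]
      have h21' : ⁅b' 2, b' 1⁆ = 0 := by rw [← lie_skew, h12', neg_zero]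
      refine mkEquiv b t h01 h02 h12 b' t⁻¹ h01' h02' h12' (t • b' 0) (b' 2) (b' 1) ?_ ?_ h21'
        (t⁻¹ • b 0) (b 2) (b 1) ?_ ?_ h21 (fun i => ?_) (fun i => ?_)
      · rw [smul_lie, h02', smul_smul, htt, one_smul]
      · rw [smul_lie, h01']
      · rw [smul_lie, h02, smul_smul, inv_mul_cancel₀ ht, one_smul]
      · rw [smul_lie, h01]
      · fin_cases i <;> simp [Module.Basis.constr_basis, smul_smul, htt]
      · fin_cases i <;> simp [Module.Basis.constr_basis, smul_smul, inv_mul_cancel₀ ht]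

end Groth.Agent.S13108
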