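import Groth.Statements.S1311
import Groth.Agent.Lib.Thickening
import Groth.Agent.Lib.ThickeningBC
import Groth.Agent.S1307
import Mathlib.Algebra.Category.Ring.Epi
import Mathlib.Algebra.Category.Ring.Constructions
import Mathlib.AlgebraicGeometry.Morphisms.UniversallyInjective

set_option autoImplicit false
universe u
open FlatMor

namespace Groth.Agent.S1311

open Groth.Agent.Lib.ThickeningBC

open CategoryTheory Limits TensorProduct in
lemma epi_of_isPushout {A' A B' B : CommRingCat.{u}} {α : A' ⟶ B'} {φ : A' ⟶ A}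
    {ψ : B' ⟶ B} {β : A ⟶ B} (h : IsPushout α φ ψ β) (hφ : Function.Surjective φ.hom)
    (hI : IsNilpotent (RingHom.ker φ.hom)) [Epi β] : Epi α := by
  letI := α.hom.toAlgebra
  set I := RingHom.ker φ.hom with hIdef
  let M := B' ⊗[A'] B'
  let J : Ideal M := I.map (algebraMap A' M)
  let i₁ : B' →+* M := Algebra.TensorProduct.includeLeftRingHom
  let i₂ : B' →+* M := (Algebra.TensorProduct.includeRight (R := A') (A := B') (B := B')).toRingHom
  let q : M →+* M ⧸ J := Ideal.Quotient.mk J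
  let R : CommRingCat.{u} := CommRingCat.of (M ⧸ J)
  let g₁ : B' ⟶ R := CommRingCat.ofHom (q.comp i₁)
  let g₂ : B' ⟶ R := CommRingCat.ofHom (q.comp i₂)
  have hle : RingHom.ker φ.hom ≤ RingHom.ker (q.comp (algebraMap A' M)) := by
    intro x hx
    rw [RingHom.mem_ker, RingHom.comp_apply, Ideal.Quotient.eq_zero_iff_mem]
    exact Ideal.mem_map_of_mem _ hx
  let r : A ⟶ R :=
    CommRingCat.ofHom (RingHom.liftOfSurjective φ.hom hφ ⟨q.comp (algebraMap A' M), hle⟩)
  have hr : ∀ x : A', r.hom (φ.hom x) = q (algebraMap A' M x) := fun x =>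
    RingHom.liftOfRightInverse_comp_apply φ.hom _ (Function.surjInv_eq hφ)
      ⟨q.comp (algebraMap A' M), hle⟩ x
  have w₁ : α ≫ g₁ = φ ≫ r := by
    ext x
    simp only [g₁, CommRingCat.hom_comp, CommRingCat.hom_ofHom, RingHom.comp_apply]
    rw [hr]
    congr 1
  have w₂ : α ≫ g₂ = φ ≫ r := by
    ext x
    simp only [g₂, CommRingCat.hom_comp, CommRingCat.hom_ofHom, RingHom.comp_apply]
    rw [hr]
    congr 1
    show (1 : B') ⊗ₜ[A'] (algebraMap A' B' x) = algebraMap A' M x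
    rw [Algebra.TensorProduct.algebraMap_apply, Algebra.algebraMap_eq_smul_one,
      TensorProduct.smul_tmul]
  have hd : h.desc g₁ r w₁ = h.desc g₂ r w₂ := by
    rw [← cancel_epi β, h.inr_desc, h.inr_desc]
  have hg : g₁ = g₂ := by
    rw [← h.inl_desc g₁ r w₁, ← h.inl_desc g₂ r w₂, hd]
  have hJ : ∀ b : B', i₂ b - i₁ b ∈ J := by
    intro b
    have := congrArg (fun g => g.hom b) hg
    simp only [g₁, g₂, CommRingCat.hom_ofHom, RingHom.comp_apply] at this
    rw [← Ideal.Quotient.eq_zero_iff_mem, map_sub, sub_eq_zero]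
    exact this.symm
  let iL : B' →ₐ[A'] M := Algebra.TensorProduct.includeLeft
  let N : Submodule A' M := LinearMap.range iL.toLinearMap
  have hJ' : (I • ⊤ : Submodule A' M) = J.restrictScalars A' := Ideal.smul_top_eq_map I
  have hN : (⊤ : Submodule A' M) ≤ N ⊔ I • ⊤ := by
    intro x hxtop
    clear hxtop
    induction x using TensorProduct.induction_on with
    | zero => exact zero_mem _
    | tmul b₁ b₂ =>
      have e : b₁ ⊗ₜ[A'] b₂ = iL (b₁ * b₂) + (i₁ b₁) * (i₂ b₂ - i₁ b₂) := by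
        show b₁ ⊗ₜ[A'] b₂ = (b₁ * b₂) ⊗ₜ[A'] (1 : B') +
          (b₁ ⊗ₜ[A'] (1 : B')) * ((1 : B') ⊗ₜ[A'] b₂ - b₂ ⊗ₜ[A'] (1 : B'))
        rw [mul_sub, Algebra.TensorProduct.tmul_mul_tmul, Algebra.TensorProduct.tmul_mul_tmul]
        simp
      rw [e]
      refine Submodule.add_mem_sup ⟨_, rfl⟩ ?_
      rw [hJ']
      exact J.mul_mem_left _ (hJ b₂)
    | add x y hx hy => exact add_mem hx hy
  have hNtop : N = ⊤ := eq_top_of_top_le_sup_smul I hI N hN
  have key : ∀ b : B', (1 : B') ⊗ₜ[A'] b = b ⊗ₜ[A'] 1 := by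
    intro b
    have hb : (1 : B') ⊗ₜ[A'] b ∈ N := by rw [hNtop]; trivial
    obtain ⟨c, hc⟩ := hb
    have hc' : c ⊗ₜ[A'] (1 : B') = (1 : B') ⊗ₜ[A'] b := hc
    have h2 := congrArg (Algebra.TensorProduct.lmul' A' (S := B')) hc'
    simp only [Algebra.TensorProduct.lmul'_apply_tmul, mul_one, one_mul] at h2
    rw [← hc', h2]
  have hepi : Algebra.IsEpi A' B' := (Algebra.isEpi_iff_forall_one_tmul_eq A' B').mpr key
  exact CommRingCat.epi_iff_epi.mpr hepi

open AlgebraicGeometry CategoryTheory Limits MorphismProperty in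
lemma mono_iff_epi_appTop {Y T : Scheme.{u}} [IsAffine Y] [IsAffine T] (g : Y ⟶ T) :
    Mono g ↔ Epi g.appTop := by
  have h1 : Mono (Spec.map g.appTop) ↔ Mono g :=
    arrow_mk_iso_iff (monomorphisms _) (arrowIsoSpecΓOfIsAffine g).symm
  have h2 : Mono (Spec.map g.appTop) ↔ Mono (g.appTop).op :=
    Functor.mono_map_iff_mono Scheme.Spec _
  have h3 : Mono (g.appTop).op ↔ Epi g.appTop :=
    ⟨fun h ↦ show Epi (g.appTop).op.unop by infer_instance, fun h ↦ inferInstance⟩
  exact h1.symm.trans (h2.trans h3)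

open AlgebraicGeometry CategoryTheory Limits in
lemma epi_appLE_iff_mono_resLE {Y T : Scheme.{u}} (g : Y ⟶ T) (U : T.Opens) (V : Y.Opens)
    (hU : IsAffineOpen U) (hV : IsAffineOpen V) (e : V ≤ g ⁻¹ᵁ U) :
    Epi (g.appLE U V e) ↔ Mono (g.resLE U V e) := by
  have : IsAffine (U : Scheme) := hU
  have : IsAffine (V : Scheme) := hV
  rw [mono_iff_epi_appTop]
  have hcomm := resLE_appTop_comm g U V e
  constructor
  · intro h
    have h1 : (g.resLE U V e).appTop = U.topIso.hom ≫ g.appLE U V e ≫ V.topIso.inv := by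
      rw [← Category.assoc, ← hcomm, Category.assoc, Iso.hom_inv_id, Category.comp_id]
    rw [h1]
    infer_instance
  · intro h
    have h1 : g.appLE U V e = U.topIso.inv ≫ (g.resLE U V e).appTop ≫ V.topIso.hom := by
      rw [hcomm, Iso.inv_hom_id_assoc]
    rw [h1]
    infer_instance

open AlgebraicGeometry CategoryTheory Limits in
/-- Let S ⟶ S' be a finite order thickening and let X be the base change of a scheme X' over S' to S (so
X ⟶ X' is again a thickening). Then X ⟶ S is a monomorphism if and only if X' ⟶ S' is. -/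
theorem result {X X' S S' : Scheme.{u}} (iX : X ⟶ X') (iS : S ⟶ S') (f : X ⟶ S) (f' : X' ⟶ S')
    (hS : MoreMor.IsFiniteOrderThickening iS) (hc : IsPullback iX f f' iS) :
    Mono f ↔ Mono f' := by
  have hiS := hS.1.1
  have hiSs := hS.1.2
  have hiX : IsClosedImmersion iX := MorphismProperty.of_isPullback hc.flip inferInstance
  have hiXs : Surjective iX := MorphismProperty.of_isPullback hc.flip inferInstance
  constructor
  · intro hf
    -- points
    have hUI : UniversallyInjective f' :=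
      (Groth.Agent.S1307.result iX iS f f' ⟨hiX, hiXs⟩ hS.1 hc.w).mp inferInstance
    -- local epi
    have hepi : ∀ (V' : S'.Opens) (U' : X'.Opens) (hV' : IsAffineOpen V') (hU' : IsAffineOpen U')
        (e : U' ≤ f' ⁻¹ᵁ V'), Mono (f'.resLE V' U' e) := by
      intro V' U' hV' hU' e
      rw [← epi_appLE_iff_mono_resLE f' V' U' hV' hU' e]
      have hm : Mono (f.resLE (iS ⁻¹ᵁ V') (iX ⁻¹ᵁ U') (preimage_le hc e)) := by
        have : Mono (f.resLE (iS ⁻¹ᵁ V') (iX ⁻¹ᵁ U') (preimage_le hc e) ≫ (iS ⁻¹ᵁ V').ι) := by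
          rw [Scheme.Hom.resLE_comp_ι]
          infer_instance
        exact mono_of_mono _ (iS ⁻¹ᵁ V').ι
      rw [← epi_appLE_iff_mono_resLE f _ _ (hV'.preimage iS) (hU'.preimage iX)] at hm
      exact epi_of_isPushout (isPushout_appLE hc hV' hU' e) (iS.app_surjective _ hV')
        (isNilpotent_ker_app hS.2 hV')
    constructor
    intro T g₁ g₂ hg
    have hpts : ∀ t : T, g₁ t = g₂ t := by
      intro t
      apply f'.injective
      rw [← Scheme.Hom.comp_apply, ← Scheme.Hom.comp_apply, hg]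
    -- choose affine neighbourhoods
    have hex : ∀ t : T, ∃ (V' : S'.Opens) (U' : X'.Opens), IsAffineOpen V' ∧ IsAffineOpen U' ∧
        U' ≤ f' ⁻¹ᵁ V' ∧ g₁ t ∈ U' := by
      intro t
      obtain ⟨_, ⟨V', hV', rfl⟩, hxV', -⟩ :=
        S'.isBasis_affineOpens.exists_subset_of_mem_open (Set.mem_univ (f' (g₁ t))) isOpen_univ
      obtain ⟨_, ⟨U', hU', rfl⟩, hxU', hU'V'⟩ :=
        X'.isBasis_affineOpens.exists_subset_of_mem_open (show g₁ t ∈ f' ⁻¹ᵁ V' from hxV')
          (f' ⁻¹ᵁ V').isOpen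
      exact ⟨V', U', hV', hU', hU'V', hxU'⟩
    choose V' U' hV' hU' hle hmem using hex
    let W : T → T.Opens := fun t => g₁ ⁻¹ᵁ (U' t)
    have hW : TopologicalSpace.IsOpenCover W := by
      rw [TopologicalSpace.IsOpenCover, eq_top_iff]
      intro t _
      exact TopologicalSpace.Opens.mem_iSup.mpr ⟨t, hmem t⟩
    refine (T.openCoverOfIsOpenCover W hW).hom_ext _ _ fun t => ?_
    show (W t).ι ≫ g₁ = (W t).ι ≫ g₂
    have e₁ : W t ≤ g₁ ⁻¹ᵁ (U' t) := le_rfl
    have e₂ : W t ≤ g₂ ⁻¹ᵁ (U' t) := by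
      intro s hs
      show g₂ s ∈ U' t
      rw [← hpts]; exact hs
    have := hepi (V' t) (U' t) (hV' t) (hU' t) (hle t)
    have key : g₁.resLE (U' t) (W t) e₁ = g₂.resLE (U' t) (W t) e₂ := by
      rw [← cancel_mono (f'.resLE (V' t) (U' t) (hle t)), ← cancel_mono (V' t).ι]
      simp only [Category.assoc, Scheme.Hom.resLE_comp_ι, Scheme.Hom.resLE_comp_ι_assoc, hg]
    rw [← Scheme.Hom.resLE_comp_ι g₁ e₁, ← Scheme.Hom.resLE_comp_ι g₂ e₂, key]
  · intro hf'
    exact hc.mono_snd_of_mono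

end Groth.Agent.S1311
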