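import Groth.Statements.S13110
import Groth.Agent.Lib.PtFunNormal51

set_option autoImplicit false
universe u
open CategoryTheory AlgebraicGeometry
open W4c1hilbchowinc

namespace Groth.Agent.S13110

open Groth.Agent.Lib.PtFunNormal51

section Ev

variable (A : Type u) [CommRing A]

/-- Evaluation of an element of `A` at a point of `Spec A`. -/
noncomputable def ev (x : Spec (CommRingCat.of A)) :
    A →+* (Spec (CommRingCat.of A)).residueField x :=
  ((Spec (CommRingCat.of A)).Γevaluation x).hom.comp
    (Scheme.ΓSpecIso (CommRingCat.of A)).inv.hom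

theorem ev_apply (x : Spec (CommRingCat.of A)) (a : A) :
    ev A x a = (Spec (CommRingCat.of A)).Γevaluation x
      ((Scheme.ΓSpecIso (CommRingCat.of A)).inv a) := rfl

theorem ev_eq (x : Spec (CommRingCat.of A)) (a : A) :
    ev A x a = (Scheme.Spec.residueFieldIso (CommRingCat.of A) x).inv
      (algebraMap A x.asIdeal.ResidueField a) := by
  have h := Scheme.Spec.algebraMap_residueFieldIso_inv (CommRingCat.of A) x
  have h2 := congrArg (fun φ => φ.hom a) h
  exact h2.symm

theorem ev_eq_zero_iff (x : Spec (CommRingCat.of A)) (a : A) :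
    ev A x a = 0 ↔ a ∈ x.asIdeal := by
  rw [ev_eq]
  have hinj : Function.Injective
      (Scheme.Spec.residueFieldIso (CommRingCat.of A) x).inv.hom :=
    (Scheme.Spec.residueFieldIso (CommRingCat.of A) x).symm.commRingCatIsoToRingEquiv.injective
  constructor
  · intro h
    have h0 : algebraMap A x.asIdeal.ResidueField a = 0 := by
      apply hinj
      rw [map_zero]
      exact h
    exact Ideal.algebraMap_residueField_eq_zero.mp h0
  · intro h
    have h0 : algebraMap A x.asIdeal.ResidueField a = 0 :=
      Ideal.algebraMap_residueField_eq_zero.mpr h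
    rw [h0]
    exact map_zero _

/-- Every element of the residue field at `x` is a fraction of evaluations. -/
theorem exists_frac (x : Spec (CommRingCat.of A))
    (z : (Spec (CommRingCat.of A)).residueField x) :
    ∃ b s : A, s ∉ x.asIdeal ∧ z * ev A x s = ev A x b := by
  set e := Scheme.Spec.residueFieldIso (CommRingCat.of A) x with he
  obtain ⟨n, d, hd, hz⟩ := IsFractionRing.div_surjective (A := A ⧸ x.asIdeal) (e.hom z)
  obtain ⟨b, rfl⟩ := Ideal.Quotient.mk_surjective n
  obtain ⟨s, rfl⟩ := Ideal.Quotient.mk_surjective d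
  have hs : s ∉ x.asIdeal := by
    intro h
    have : Ideal.Quotient.mk x.asIdeal s = 0 := Ideal.Quotient.eq_zero_iff_mem.mpr h
    rw [this] at hd
    exact zero_notMem_nonZeroDivisors hd
  refine ⟨b, s, hs, ?_⟩
  have hs0 : algebraMap (A ⧸ x.asIdeal) x.asIdeal.ResidueField (Ideal.Quotient.mk x.asIdeal s) ≠ 0 :=
    IsFractionRing.to_map_ne_zero_of_mem_nonZeroDivisors hd
  have h1 : e.hom z * algebraMap A x.asIdeal.ResidueField s =
      algebraMap A x.asIdeal.ResidueField b := by
    rw [← hz]
    have e1 : ∀ y : A, algebraMap A x.asIdeal.ResidueField y =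
        algebraMap (A ⧸ x.asIdeal) x.asIdeal.ResidueField (Ideal.Quotient.mk x.asIdeal y) :=
      fun y => rfl
    rw [e1, e1]
    exact div_mul_cancel₀ _ hs0
  have h2 := congrArg e.inv.hom h1
  rw [map_mul] at h2
  have h3 : e.inv.hom (e.hom z) = z := by
    have := congrArg (fun φ => φ.hom z) e.hom_inv_id
    exact this
  rw [ev_eq, ev_eq]
  rw [h3] at h2
  exact h2

end Ev

section Nat

variable {A R : Type u} [CommRing A] [CommRing R] (φ : A →+* R)

/-- Naturality of evaluation along `Spec R → Spec A`. -/
theorem residueFieldMap_ev (y : Spec (CommRingCat.of R)) (a : A) :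
    (Spec.map (CommRingCat.ofHom φ)).residueFieldMap y
      (ev A ((Spec.map (CommRingCat.ofHom φ)) y) a) = ev R y (φ a) := by
  rw [ev_apply, ev_apply, Scheme.Γevaluation_naturality_apply]
  congr 1
  have h := Scheme.ΓSpecIso_inv_naturality (CommRingCat.ofHom φ)
  exact (congrArg (fun ψ => ψ.hom a) h).symm

end Nat

/-- Let A be a reduced Noetherian ring, integrally closed inside its total ring of fractions
(equivalently, a finite product of integrally closed Noetherian domains). Then a pointwise function
on Spec A — one element of the residue field κ(y) for every point y — which varies algebraically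
along discrete valuation rings (for every discrete valuation ring R and every morphism Spec R → Spec
A there is an element of R whose values at the two points of Spec R are the images of the chosen
values) is the family of values of exactly one global section. Reducedness is part of the meaning of
integrally closed here; test rings range over the universe of A. -/
theorem result
    (A : Type u) [CommRing A] [IsReduced A] [IsNoetherianRing A] [IsIntegrallyClosed A]
    (f : PtFun (Spec (CommRingCat.of A))) (hf : f.VariesAlongDVR) :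
    ∃! a : Γ(Spec (CommRingCat.of A), ⊤), PtFun.ofSection (Spec (CommRingCat.of A)) a = f := by
  classical
  choose b s hs hbs using fun x => exists_frac A x (f x)
  have H : DVRCond b s := by
    intro R _ _ _ φ q₁ q₀ h₁ h₀
    let g : Spec (CommRingCat.of R) ⟶ Spec (CommRingCat.of A) := Spec.map (CommRingCat.ofHom φ)
    obtain ⟨s', hs'⟩ := hf R g
    let r : R := (Scheme.ΓSpecIso (CommRingCat.of R)).hom s'
    have hinv : (Scheme.ΓSpecIso (CommRingCat.of R)).inv r = s' := by
      have := congrArg (fun ψ => ψ.hom s') (Scheme.ΓSpecIso (CommRingCat.of R)).hom_inv_id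
      exact this
    have hr : ∀ y, ev R y r = g.residueFieldMap y (f (g y)) := by
      intro y
      rw [ev_apply, hinv]
      exact congrFun hs' y
    let y₁ : Spec (CommRingCat.of R) := ⟨⊥, Ideal.isPrime_bot⟩
    let y₀ : Spec (CommRingCat.of R) := IsLocalRing.closedPoint R
    have hg₁ : g y₁ = q₁ := PrimeSpectrum.ext (by rw [h₁]; rfl)
    have hg₀ : g y₀ = q₀ := PrimeSpectrum.ext (by rw [h₀]; rfl)
    have key : ∀ y, ev R y (r * φ (s (g y)) - φ (b (g y))) = 0 := by
      intro y
      rw [map_sub, map_mul, hr, ← residueFieldMap_ev, ← residueFieldMap_ev, ← map_mul, hbs,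
        sub_self]
    refine ⟨r, ?_, ?_⟩
    · have h := (ev_eq_zero_iff R y₁ _).mp (key y₁)
      rw [hg₁] at h
      exact sub_eq_zero.mp (Ideal.mem_bot.mp h)
    · have h := (ev_eq_zero_iff R y₀ _).mp (key y₀)
      rw [hg₀] at h
      exact h
  obtain ⟨a, ha⟩ := exists_section b s hs H
  have hval : ∀ (a' : Γ(Spec (CommRingCat.of A), ⊤)) x,
      PtFun.ofSection (Spec (CommRingCat.of A)) a' x =
        ev A x ((Scheme.ΓSpecIso (CommRingCat.of A)).hom a') := by
    intro a' x
    rw [ev_apply]
    have := congrArg (fun ψ => ψ.hom a') (Scheme.ΓSpecIso (CommRingCat.of A)).hom_inv_id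
    change (Scheme.ΓSpecIso (CommRingCat.of A)).inv ((Scheme.ΓSpecIso (CommRingCat.of A)).hom a')
      = a' at this
    rw [this]
    rfl
  have hfa : ∀ x, ev A x a = f x := by
    intro x
    have h1 : ev A x (s x) ≠ 0 := fun h => hs x ((ev_eq_zero_iff A x _).mp h)
    have h2 : ev A x a * ev A x (s x) = ev A x (b x) := by
      rw [← map_mul, ← sub_eq_zero, ← map_sub, ev_eq_zero_iff]
      exact ha x
    exact mul_right_cancel₀ h1 (h2.trans (hbs x).symm)
  refine ⟨(Scheme.ΓSpecIso (CommRingCat.of A)).inv a, ?_, ?_⟩
  · funext x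
    rw [hval]
    have := congrArg (fun ψ => ψ.hom a) (Scheme.ΓSpecIso (CommRingCat.of A)).inv_hom_id
    change (Scheme.ΓSpecIso (CommRingCat.of A)).hom ((Scheme.ΓSpecIso (CommRingCat.of A)).inv a)
      = a at this
    rw [this]
    exact hfa x
  · intro a' ha'
    have hd : (Scheme.ΓSpecIso (CommRingCat.of A)).hom a' - a = 0 := by
      apply IsReduced.eq_zero
      rw [← mem_nilradical, nilradical_eq_sInf, Ideal.mem_sInf]
      intro p hp
      haveI : p.IsPrime := hp
      have := (ev_eq_zero_iff A ⟨p, hp⟩ ((Scheme.ΓSpecIso (CommRingCat.of A)).hom a' - a))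
      apply this.mp
      rw [map_sub, ← hval, ha', hfa, sub_self]
    have h3 : (Scheme.ΓSpecIso (CommRingCat.of A)).hom a' = a := sub_eq_zero.mp hd
    rw [← h3]
    have := congrArg (fun ψ => ψ.hom a') (Scheme.ΓSpecIso (CommRingCat.of A)).hom_inv_id
    exact this.symm

end Groth.Agent.S13110
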