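import Groth.Statements.S13111
import Groth.Agent.Lib.Seminormal
import Mathlib.AlgebraicGeometry.Properties
import Mathlib.RingTheory.IntegralClosure.IntegrallyClosed
import Mathlib.RingTheory.DedekindDomain.Dvr

set_option autoImplicit false
universe u
open HTop

namespace Groth.Agent.S13111

open AlgebraicGeometry W4c1hilbchowinc CategoryTheory

/-- In a field, `x^3 = y^2` implies `(y/x)^2 = x` and `(y/x)^3 = y`. -/
lemma field_aux {K : Type*} [Field K] {x y : K} (h : x ^ 3 = y ^ 2) :
    (y / x) ^ 2 = x ∧ (y / x) ^ 3 = y := by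
  by_cases hx : x = 0
  · subst hx
    have hy : y = 0 := by
      have : y ^ 2 = 0 := by rw [← h]; ring
      exact pow_eq_zero_iff (by norm_num) |>.mp this
    subst hy
    simp
  · have hy : y ≠ 0 := by
      rintro rfl
      apply hx
      have : x ^ 3 = 0 := by rw [h]; ring
      exact pow_eq_zero_iff (by norm_num) |>.mp this
    constructor
    · rw [div_pow, div_eq_iff (pow_ne_zero 2 hx)]
      linear_combination -h
    · rw [div_pow, div_eq_iff (pow_ne_zero 3 hx), h]
      ring

/-- In an integrally closed domain, `x^3 = y^2` has a solution `r^2 = x`, `r^3 = y`. -/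
lemma normal_aux {R : Type*} [CommRing R] [IsDomain R] [IsIntegrallyClosed R] {x y : R}
    (h : x ^ 3 = y ^ 2) : ∃ r : R, r ^ 2 = x ∧ r ^ 3 = y := by
  let K := FractionRing R
  have hK : (algebraMap R K x) ^ 3 = (algebraMap R K y) ^ 2 := by
    rw [← map_pow, ← map_pow, h]
  obtain ⟨h2, h3⟩ := field_aux hK
  have hint : IsIntegral R (algebraMap R K y / algebraMap R K x) := by
    refine ⟨Polynomial.X ^ 2 - Polynomial.C x, Polynomial.monic_X_pow_sub_C x (by norm_num), ?_⟩
    simp [h2]
  obtain ⟨r, hr⟩ := IsIntegrallyClosed.isIntegral_iff.mp hint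
  refine ⟨r, ?_, ?_⟩
  · apply IsFractionRing.injective R K
    rw [map_pow, hr, h2]
  · apply IsFractionRing.injective R K
    rw [map_pow, hr, h3]

open Groth.Agent.Lib.Seminormal in
/-- Let A be a reduced Noetherian ring whose integral closure in its total ring of fractions is a finite
A-module. Suppose that any pointwise function on Spec A that is algebraic along every discrete
valuation ring (for every discrete valuation ring R and every morphism Spec R → Spec A there is an
element of R whose values at the two points of Spec R are the images of the chosen values) is the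
family of values of exactly one global section. Then A is seminormal: whenever x^3 = y^2 there is
exactly one a with x = a^2 and y = a^3. Test rings range over the universe of A. -/
theorem result
    (A : Type u) [CommRing A] [IsReduced A] [IsNoetherianRing A]
    (hfin : Module.Finite A (integralClosure A (FractionRing A)))
    (h : ∀ f : PtFun (Spec (CommRingCat.of A)), f.VariesAlongDVR →
      ∃! a : Γ(Spec (CommRingCat.of A), ⊤), PtFun.ofSection (Spec (CommRingCat.of A)) a = f) :
    HTop.IsSeminormalRing A := by
  let e : A ≃+* Γ(Spec (CommRingCat.of A), ⊤) :=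
    (Scheme.ΓSpecIso (CommRingCat.of A)).symm.commRingCatIsoToRingEquiv
  have hred : IsReduced Γ(Spec (CommRingCat.of A), ⊤) :=
    isReduced_of_injective e.symm.toRingHom e.symm.injective
  suffices hG : IsSeminormalRing Γ(Spec (CommRingCat.of A), ⊤) from
    isSeminormalRing_of_ringEquiv e.symm hG
  apply isSeminormalRing_of_exists
  intro x y hxy
  let f : PtFun (Spec (CommRingCat.of A)) := fun p =>
    (Spec (CommRingCat.of A)).Γevaluation p y / (Spec (CommRingCat.of A)).Γevaluation p x
  have hf : ∀ p, (f p) ^ 2 = (Spec (CommRingCat.of A)).Γevaluation p x ∧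
      (f p) ^ 3 = (Spec (CommRingCat.of A)).Γevaluation p y := fun p =>
    field_aux (by rw [← map_pow, ← map_pow, hxy])
  have hvar : f.VariesAlongDVR := by
    intro R _ _ _ g
    let eR : R ≃+* Γ(Spec (CommRingCat.of R), ⊤) :=
      (Scheme.ΓSpecIso (CommRingCat.of R)).symm.commRingCatIsoToRingEquiv
    have hR : (eR.symm (g.appTop x)) ^ 3 = (eR.symm (g.appTop y)) ^ 2 := by
      rw [← map_pow, ← map_pow, ← map_pow, ← map_pow, hxy]
    obtain ⟨r, hr2, hr3⟩ := normal_aux hR
    have h2 : eR r ^ 2 = g.appTop x := by rw [← map_pow, hr2, RingEquiv.apply_symm_apply]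
    have h3 : eR r ^ 3 = g.appTop y := by rw [← map_pow, hr3, RingEquiv.apply_symm_apply]
    refine ⟨eR r, ?_⟩
    funext q
    apply eq_of_sq_cube
    · change ((Spec (CommRingCat.of R)).Γevaluation q (eR r)) ^ 2 =
        (g.residueFieldMap q (f (g q))) ^ 2
      rw [← map_pow, h2, ← map_pow, (hf _).1, Scheme.Γevaluation_naturality_apply]
    · change ((Spec (CommRingCat.of R)).Γevaluation q (eR r)) ^ 3 =
        (g.residueFieldMap q (f (g q))) ^ 3
      rw [← map_pow, h3, ← map_pow, (hf _).2, Scheme.Γevaluation_naturality_apply]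
  obtain ⟨a, ha, -⟩ := h f hvar
  have hev : ∀ p, (Spec (CommRingCat.of A)).Γevaluation p a = f p := fun p => congrFun ha p
  refine ⟨a, ?_, ?_⟩
  · have hb : (Spec (CommRingCat.of A)).basicOpen (x - a ^ 2) = ⊥ := by
      rw [Scheme.basicOpen_eq_bot_iff_forall_evaluation_eq_zero]
      intro p
      change (Spec (CommRingCat.of A)).Γevaluation p.1 (x - a ^ 2) = 0
      rw [map_sub, map_pow, hev, (hf p.1).1, sub_self]
    exact sub_eq_zero.mp ((basicOpen_eq_bot_iff _).mp hb)
  · have hb : (Spec (CommRingCat.of A)).basicOpen (y - a ^ 3) = ⊥ := by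
      rw [Scheme.basicOpen_eq_bot_iff_forall_evaluation_eq_zero]
      intro p
      change (Spec (CommRingCat.of A)).Γevaluation p.1 (y - a ^ 3) = 0
      rw [map_sub, map_pow, hev, (hf p.1).2, sub_self]
    exact sub_eq_zero.mp ((basicOpen_eq_bot_iff _).mp hb)

end Groth.Agent.S13111
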