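import Groth.Statements.S13112
-- import your own Groth.Agent.* helpers here
import Groth.Agent.Lib.UHSnSchemeH52

set_option autoImplicit false
universe u
open HTop

namespace Groth.Agent.S13112

open CategoryTheory AlgebraicGeometry in
/-- Let k be a field, T a seminormal scheme of finite type over k, and f : X → Y a proper universally
injective k-morphism of schemes locally of finite type over k. If a morphism of schemes g : T → Y
lifts through f at every point of T, i.e. for every t the composite Spec κ(t) → T → Y factors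
through f, then g itself factors through f. -/
theorem result
    {k : Type u} [Field k] {T X Y : Scheme.{u}}
    (sT : T ⟶ Spec (CommRingCat.of k)) (sX : X ⟶ Spec (CommRingCat.of k)) (sY : Y ⟶ Spec (CommRingCat.of k))
    [LocallyOfFiniteType sT] [QuasiCompact sT] [LocallyOfFiniteType sX] [LocallyOfFiniteType sY]
    (hT : HTop.IsSeminormal T)
    (f : X ⟶ Y) (hf : f ≫ sY = sX) [IsProper f] [UniversallyInjective f]
    (g : T ⟶ Y)
    (hlift : ∀ t : T, ∃ l : Spec (T.residueField t) ⟶ X, l ≫ f = T.fromSpecResidueField t ≫ g) :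
    ∃ h : T ⟶ X, h ≫ f = g := by
  have hL : Groth.Agent.Lib.UHSnSchemeH52.LiftsPts (Limits.pullback.snd f g) := by
    intro t
    obtain ⟨l, hl⟩ := hlift t
    exact ⟨Limits.pullback.lift l (T.fromSpecResidueField t) hl, Limits.pullback.lift_snd _ _ _⟩
  have hsurj : Surjective (Limits.pullback.snd f g) := by
    refine ⟨fun t => ?_⟩
    obtain ⟨m, hm⟩ := hL t
    refine ⟨m (IsLocalRing.closedPoint (T.residueField t)), ?_⟩
    have := congrArg (fun k : Spec (T.residueField t) ⟶ T =>
      k (IsLocalRing.closedPoint (T.residueField t))) hm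
    simp only [Scheme.Hom.comp_apply, Scheme.fromSpecResidueField_apply] at this
    exact this
  have hinj : UniversallyInjective (Limits.pullback.snd f g) :=
    MorphismProperty.pullback_snd (P := @UniversallyInjective) f g inferInstance
  have hcl : UniversallyClosed (Limits.pullback.snd f g) :=
    MorphismProperty.pullback_snd (P := @UniversallyClosed) f g inferInstance
  have hUH : FlatMor.IsUnivHomeo (Limits.pullback.snd f g) :=
    (Groth.Agent.Lib.UnivHomeo.iff_universallyInjective_surjective_universallyClosed _).mpr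
      ⟨hinj, hsurj, hcl⟩
  have hres : HTop.ResidueFieldsIso (Limits.pullback.snd f g) :=
    Groth.Agent.Lib.UHSnSchemeH52.resIso_of_liftsPts
      (Groth.Agent.Lib.UnivHomeo.isHomeomorph hUH).injective hL
  obtain ⟨Z, i, hZ, hi, hs⟩ := Groth.Agent.Lib.UHAwnSchemeH52.exists_reduced (Limits.pullback f g)
  have h2 : FlatMor.IsUnivHomeo i := Groth.Agent.Lib.UnivHomeo.of_isImmersion_of_surjective i
  have h3 : FlatMor.IsUnivHomeo (i ≫ Limits.pullback.snd f g) := Groth.Agent.Lib.UnivHomeo.comp h2 hUH
  have h3' : HTop.ResidueFieldsIso (i ≫ Limits.pullback.snd f g) :=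
    Groth.Agent.Lib.UHSnSchemeH52.resIso_comp
      (Groth.Agent.Lib.UHSnSchemeH52.resIso_of_surjectiveOnStalks i) hres
  have h4 : IsIso (i ≫ Limits.pullback.snd f g) :=
    Groth.Agent.Lib.UHSnSchemeH52.isIso_of_isSeminormal hT _ h3 h3'
  refine ⟨inv (i ≫ Limits.pullback.snd f g) ≫ i ≫ Limits.pullback.fst f g, ?_⟩
  rw [Category.assoc, Category.assoc, Limits.pullback.condition, ← Category.assoc i,
    IsIso.inv_hom_id_assoc]

end Groth.Agent.S13112
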