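import Groth.Statements.S13114
import Mathlib.LinearAlgebra.Eigenspace.Zero
import Mathlib.RingTheory.Artinian.Ring
import Mathlib.RingTheory.Norm.Basic

set_option autoImplicit false
universe u
open HilbChow

namespace Groth.Agent.S13114

section aux

variable {k A : Type u} [Field k] [CommRing A] [Algebra k A] [Module.Finite k A]

/-- If `f - c` is nilpotent then the norm of `f` is `c ^ dim A`. -/
theorem norm_eq_pow_of_isNilpotent_sub (f : A) (c : k) (h : IsNilpotent (f - algebraMap k A c)) :
    Algebra.norm k f = c ^ Module.finrank k A := by
  have hN : IsNilpotent (-(Algebra.lmul k A (f - algebraMap k A c)) : Module.End k A) := by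
    have h1 : IsNilpotent (Algebra.lmul k A (f - algebraMap k A c)) := h.map (Algebra.lmul k A)
    exact h1.neg
  have hcp := IsNilpotent.charpoly_eq_X_pow_finrank hN
  have hev := LinearMap.eval_charpoly (-(Algebra.lmul k A (f - algebraMap k A c))) c
  rw [hcp, Polynomial.eval_pow, Polynomial.eval_X] at hev
  rw [Algebra.norm_apply, hev]
  congr 1
  ext x
  simp [Algebra.algebraMap_eq_smul_one]

variable [IsAlgClosed k] [IsLocalRing A]

/-- Over an algebraically closed field, every element of a finite local algebra is a scalar plus a
nilpotent. -/
theorem exists_scalar_sub_nilpotent (f : A) :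
    ∃ c : k, algebraMap k (IsLocalRing.ResidueField A) c = IsLocalRing.residue A f ∧
      IsNilpotent (f - algebraMap k A c) := by
  have : IsArtinianRing A := IsArtinianRing.of_finite k A
  have hint : Algebra.IsIntegral k (IsLocalRing.ResidueField A) := inferInstance
  obtain ⟨c, hc⟩ := (IsAlgClosed.algebraMap_bijective_of_isIntegral
    (k := k) (K := IsLocalRing.ResidueField A)).2 (IsLocalRing.residue A f)
  refine ⟨c, hc, ?_⟩
  have hmem : f - algebraMap k A c ∈ IsLocalRing.maximalIdeal A := by
    rw [← IsLocalRing.residue_eq_zero_iff, map_sub, ← hc]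
    rw [sub_eq_zero]
    rfl
  have hnil : IsNilpotent (IsLocalRing.maximalIdeal A) := by
    rw [← IsLocalRing.jacobson_eq_maximalIdeal (⊥ : Ideal A) bot_ne_top]
    exact IsArtinianRing.isNilpotent_jacobson_bot
  obtain ⟨n, hn⟩ := hnil
  refine ⟨n, ?_⟩
  have : (f - algebraMap k A c) ^ n ∈ IsLocalRing.maximalIdeal A ^ n := Ideal.pow_mem_pow hmem n
  rw [hn] at this
  exact this

theorem norm_eq_of_local (f : A) :
    algebraMap k (IsLocalRing.ResidueField A) (Algebra.norm k f) =
      IsLocalRing.residue A f ^ Module.finrank k A := by
  obtain ⟨c, hc, hnil⟩ := exists_scalar_sub_nilpotent (k := k) f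
  rw [norm_eq_pow_of_isNilpotent_sub f c hnil, map_pow, hc]

end aux

/-- Let k be an algebraically closed field, A a commutative local k-algebra of finite dimension n over k
and u a unit of A. Then the determinant of multiplication by u on the k-vector space A, mapped to
the residue field of A, equals the n-th power of the residue class of u. -/
theorem result
    (k A : Type u) [Field k] [IsAlgClosed k] [CommRing A] [Algebra k A] [IsLocalRing A]
    [Module.Finite k A] (u : Aˣ) :
    algebraMap k (IsLocalRing.ResidueField A) (Algebra.norm k (u : A)) =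
      IsLocalRing.residue A (u : A) ^ Module.finrank k A := by
  exact norm_eq_of_local (u : A)

end Groth.Agent.S13114
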