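import Groth.Statements.S13115
import Groth.Agent.Lib.SymTensorType

set_option autoImplicit false
universe u
open scoped TensorProduct
open HilbChow

namespace Groth.Agent.S13115

/-- Let k be an infinite field, V a k-vector space and m a natural number. Then every symmetric tensor
in the m-fold tensor power of V — one fixed by every permutation of the factors — is a k-linear
combination of pure powers v ⊗ ⋯ ⊗ v with v in V. (The published statement concerns the ring of
functions of an affine scheme over an infinite field, where it gives the uniqueness of the algebra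
map defining the Hilbert-to-Chow morphism for zero-cycles; this row states it for any vector space.) -/
theorem result
    (k V : Type u) [Field k] [Infinite k] [AddCommGroup V] [Module k V] (m : ℕ)
    (x : ⨂[k] _ : Fin m, V)
    (hx : ∀ σ : Equiv.Perm (Fin m), PiTensorProduct.reindex k (fun _ : Fin m => V) σ x = x) :
    x ∈ Submodule.span k (Set.range fun v : V => PiTensorProduct.tprod k (fun _ : Fin m => v)) := by
  classical
  have hx' : x ∈ Groth.Agent.Lib.SymTensorFlat.TS k V m :=
    Groth.Agent.Lib.SymTensorFlat.mem_TS.2 hx
  have h1 := Groth.Agent.Lib.SymTensorGen.mem_span_Ssum_of_flat k V x hx'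
  refine (Submodule.span_le.2 ?_) h1
  rintro t ⟨r, a, P, hP, rfl⟩
  set S := Submodule.span k (Set.range fun v : V => PiTensorProduct.tprod k (fun _ : Fin m => v))
    with hS
  rw [SetLike.mem_coe, ← Submodule.Quotient.mk_eq_zero S,
    ← Module.forall_dual_apply_eq_zero_iff k]
  intro ψ
  let φ : (⨂[k] _ : Fin m, V) →ₗ[k] k := ψ ∘ₗ S.mkQ
  have hφS : ∀ v : V, φ (PiTensorProduct.tprod k (fun _ : Fin m => v)) = 0 := by
    intro v
    have : S.mkQ (PiTensorProduct.tprod k (fun _ : Fin m => v)) = 0 := by
      rw [Submodule.mkQ_apply, Submodule.Quotient.mk_eq_zero]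
      exact Submodule.subset_span ⟨v, rfl⟩
    show ψ (S.mkQ _) = 0
    rw [this, map_zero]
  show φ (Groth.Agent.Lib.SymTensorGen.Ssum a P) = 0
  unfold Groth.Agent.Lib.SymTensorGen.Ssum
  rw [map_sum]
  have key := Groth.Agent.Lib.SymTensorType.sum_mem_of_class_sums (⊥ : AddSubmonoid k)
    (fun c => φ (PiTensorProduct.tprod k (fun k' => a (c k')))) P hP ?_
  · exact AddSubmonoid.mem_bot.1 key
  intro ν
  rw [AddSubmonoid.mem_bot, ← Groth.Agent.Lib.SymTensorType.coeff_sum_C_mul_prod_X]
  have hF : (∑ c : Fin m → Fin r, MvPolynomial.C (φ (PiTensorProduct.tprod k (fun k' => a (c k')))) *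
      ∏ k', MvPolynomial.X (c k') : MvPolynomial (Fin r) k) = 0 := by
    apply MvPolynomial.funext
    intro t
    simp only [map_sum, map_mul, MvPolynomial.eval_C, map_prod, MvPolynomial.eval_X, map_zero]
    have h2 : PiTensorProduct.tprod k (fun _ : Fin m => ∑ i, t i • a i) =
        ∑ c : Fin m → Fin r, (∏ k', t (c k')) • PiTensorProduct.tprod k (fun k' => a (c k')) := by
      rw [MultilinearMap.map_sum]
      apply Finset.sum_congr rfl
      intro c _
      rw [MultilinearMap.map_smul_univ]
    have h3 := hφS (∑ i, t i • a i)
    rw [h2, map_sum] at h3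
    simp only [map_smul, smul_eq_mul] at h3
    rw [← h3]
    apply Finset.sum_congr rfl
    intro c _
    ring
  rw [hF, MvPolynomial.coeff_zero]

end Groth.Agent.S13115
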