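import Groth.Statements.S13117
import Groth.Agent.S13114
import Mathlib.LinearAlgebra.Matrix.Block
import Mathlib.RingTheory.Norm.Basic
import Mathlib.LinearAlgebra.StdBasis
import Mathlib.LinearAlgebra.Pi
import Mathlib.RingTheory.Spectrum.Prime.Topology
import Mathlib.RingTheory.Spectrum.Prime.Noetherian
import Mathlib.RingTheory.Artinian.Module

set_option autoImplicit false
universe u
open HilbChow

namespace Groth.Agent.S13117


open Matrix

theorem det_blockDiagonal' {ι : Type*} [Fintype ι] [DecidableEq ι] {m' : ι → Type*}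
    [∀ i, Fintype (m' i)] [∀ i, DecidableEq (m' i)] {R : Type*} [CommRing R]
    (d : ∀ i, Matrix (m' i) (m' i) R) :
    (Matrix.blockDiagonal' d).det = ∏ i, (d i).det := by
  classical
  let _ : LinearOrder ι := LinearOrder.lift' (Fintype.equivFin ι) (Fintype.equivFin ι).injective
  rw [(Matrix.blockTriangular_blockDiagonal' d).det_fintype]
  refine Finset.prod_congr rfl fun k _ => ?_
  rw [← Matrix.det_submatrix_equiv_self (Equiv.sigmaSubtype k).symm]
  congr 1
  ext a b
  simp [Matrix.toSquareBlock_def, Equiv.sigmaSubtype, Matrix.blockDiagonal'_apply_eq]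


open Module in
theorem norm_pi {k : Type*} [Field k] {ι : Type*} [Fintype ι] [DecidableEq ι] (B : ι → Type*)
    [∀ i, CommRing (B i)] [∀ i, Algebra k (B i)] [∀ i, Module.Finite k (B i)] (x : ∀ i, B i) :
    Algebra.norm k x = ∏ i, Algebra.norm k (x i) := by
  classical
  let b : ∀ i, Basis (Module.Free.ChooseBasisIndex k (B i)) k (B i) :=
    fun i => Module.Free.chooseBasis k (B i)
  rw [Algebra.norm_eq_matrix_det (Pi.basis b)]
  have hM : Algebra.leftMulMatrix (Pi.basis b) x =
      Matrix.blockDiagonal' fun i => Algebra.leftMulMatrix (b i) (x i) := by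
    ext ⟨i, a⟩ ⟨j, c⟩
    rw [Algebra.leftMulMatrix_eq_repr_mul, Pi.basis_repr, Pi.basis_apply, Matrix.blockDiagonal'_apply]
    by_cases hij : i = j
    · subst hij
      simp [Algebra.leftMulMatrix_eq_repr_mul]
    · simp [hij]
  rw [hM, det_blockDiagonal']
  refine Finset.prod_congr rfl fun i _ => ?_
  rw [Algebra.norm_eq_matrix_det (b i)]


section main

variable {k A : Type u} [Field k] [IsAlgClosed k] [CommRing A] [Algebra k A] [Module.Finite k A]

theorem comap_bot_isMaximal (φ : A →ₐ[k] k) : (Ideal.comap φ (⊥ : Ideal k)).IsMaximal := by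
  have hsurj : Function.Surjective φ := fun c => ⟨algebraMap k A c, by simp⟩
  exact Ideal.comap_isMaximal_of_surjective φ hsurj

/-- The point of the maximal spectrum attached to a `k`-point. -/
def toMax (φ : A →ₐ[k] k) : MaximalSpectrum A := ⟨Ideal.comap φ ⊥, comap_bot_isMaximal φ⟩

theorem toMax_injective : Function.Injective (toMax (k := k) (A := A)) := by
  intro φ ψ h
  have h' : Ideal.comap φ (⊥ : Ideal k) = Ideal.comap ψ ⊥ := congrArg MaximalSpectrum.asIdeal h
  ext a
  have hmem : a - algebraMap k A (φ a) ∈ Ideal.comap φ (⊥ : Ideal k) := by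
    simp [Ideal.mem_comap]
  rw [h'] at hmem
  have : ψ (a - algebraMap k A (φ a)) = 0 := by simpa [Ideal.mem_comap] using hmem
  rw [map_sub, AlgHom.commutes, sub_eq_zero] at this
  exact this.symm

theorem toMax_surjective : Function.Surjective (toMax (k := k) (A := A)) := by
  intro m
  have := m.isMaximal
  let F := A ⧸ m.asIdeal
  let _ : Field F := Ideal.Quotient.field m.asIdeal
  have hbij : Function.Bijective (algebraMap k F) :=
    IsAlgClosed.algebraMap_bijective_of_isIntegral
  let σ : k ≃ₐ[k] F := AlgEquiv.ofBijective (Algebra.ofId k F) hbij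
  let φ : A →ₐ[k] k := (σ.symm : F →ₐ[k] k).comp (Ideal.Quotient.mkₐ k m.asIdeal)
  refine ⟨φ, ?_⟩
  apply MaximalSpectrum.ext
  ext a
  show a ∈ Ideal.comap φ ⊥ ↔ a ∈ m.asIdeal
  rw [Ideal.mem_comap, Ideal.mem_bot]
  show σ.symm (Ideal.Quotient.mk m.asIdeal a) = 0 ↔ _
  rw [map_eq_zero_iff _ σ.symm.injective, Ideal.Quotient.eq_zero_iff_mem]

end main

/-- Let k be an algebraically closed field, A a finite-dimensional commutative k-algebra (the coordinate
ring of a zero-dimensional subscheme Z of length dim_k A) and f ∈ A. Then the determinant of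
multiplication by f on A is the product over the points x of Z — the k-algebra homomorphisms A → k —
of the value f(x) raised to the length of the local ring of Z at x, that length being the
k-dimension of the localisation of A at the corresponding maximal ideal. This is the formula by
which the Hilbert-to-Chow morphism for zero-cycles sends Z to its fundamental cycle Σ ℓ(O_{Z,x})[x]. -/
theorem result
    (k A : Type u) [Field k] [IsAlgClosed k] [CommRing A] [Algebra k A] [Module.Finite k A] (f : A) :
    Algebra.norm k f =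
      ∏ᶠ φ : A →ₐ[k] k, φ f ^ Module.finrank k (Localization.AtPrime (Ideal.comap φ ⊥)) := by
  classical
  have hart : IsArtinianRing A := IsArtinianRing.of_finite k A
  have : Fintype (MaximalSpectrum A) := Fintype.ofFinite _
  let B : MaximalSpectrum A → Type u := fun m => Localization.AtPrime m.asIdeal
  let e : A ≃ₐ[k] (∀ m, B m) := (MaximalSpectrum.toPiLocalizationEquiv A).restrictScalars k
  have hfin : ∀ m, Module.Finite k (B m) := fun m =>
    Module.Finite.of_surjective ((LinearMap.proj m : (∀ m, B m) →ₗ[k] B m).comp e.toLinearMap)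
      (Function.Surjective.comp (g := (LinearMap.proj m : (∀ m, B m) →ₗ[k] B m))
        (LinearMap.proj_surjective m) e.surjective)
  have he : ∀ m, e f m = algebraMap A (B m) f := fun m => rfl
  rw [← Algebra.norm_eq_of_algEquiv e, norm_pi B, ← finprod_eq_prod_of_fintype]
  symm
  apply finprod_eq_of_bijective toMax ⟨toMax_injective, toMax_surjective⟩
  intro φ
  rw [he]
  have hart' : IsArtinianRing (B (toMax φ)) := IsArtinianRing.of_finite k _
  have hmem : f - algebraMap k A (φ f) ∈ (toMax φ).asIdeal := by
    show f - algebraMap k A (φ f) ∈ Ideal.comap φ ⊥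
    simp [Ideal.mem_comap]
  have hmem' : algebraMap A (B (toMax φ)) (f - algebraMap k A (φ f)) ∈
      IsLocalRing.maximalIdeal (B (toMax φ)) :=
    (IsLocalization.AtPrime.to_map_mem_maximal_iff (B (toMax φ)) (toMax φ).asIdeal _).mpr hmem
  have hnil : IsNilpotent (algebraMap A (B (toMax φ)) f - algebraMap k (B (toMax φ)) (φ f)) := by
    rw [IsScalarTower.algebraMap_apply k A (B (toMax φ)), ← map_sub]
    have hN : IsNilpotent (IsLocalRing.maximalIdeal (B (toMax φ))) := by
      rw [← IsLocalRing.jacobson_eq_maximalIdeal (⊥ : Ideal (B (toMax φ))) bot_ne_top]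
      exact IsArtinianRing.isNilpotent_jacobson_bot
    obtain ⟨n, hn⟩ := hN
    refine ⟨n, ?_⟩
    have := Ideal.pow_mem_pow hmem' n
    rw [hn] at this
    exact this
  exact (Groth.Agent.S13114.norm_eq_pow_of_isNilpotent_sub _ (φ f) hnil).symm

end Groth.Agent.S13117
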