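import Groth.Statements.S13120
import Groth.Agent.Lib.Parity2

set_option autoImplicit false
universe u
open KumFam

namespace Groth.Agent.S13120

open MvPolynomial in
/-- Let R be a commutative ring of characteristic 2 and l0, l2, l4, s0, s2, s4, τ ∈ R with τ a unit.
Inside R[u, v] (u = X 0, v = X 1) let A = R[u², u³, v², v³] be the coordinate ring of the product of
two cuspidal curves, and let D be the R-derivation of R[u, v] with D(u) = v²(l0 u⁴ + τ u³ + l2 u² +
l4) and D(v) = u²(s0 v⁴ + τ v³ + s2 v² + s4); D is u²v² times the rational vector field (l0 u² + τ u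
+ l2 + l4 u⁻²) ∂_u + (s0 v² + τ v + s2 + s4 v⁻²) ∂_v, which maps A into itself, and u²v² is a
non-zero-divisor, so the kernel of that vector field on A is the set of a ∈ A with D(a) = 0. Then
for a ∈ A: D(a) = 0 if and only if a ∈ R[u², v², g], where g = (s0 v⁴ + s2 v² + s4) u³ + (l0 u⁴ + l2
u² + l4) v³ + τ u³ v³. (The published statement identifies this kernel with the ring of invariants
of the corresponding action of the group scheme of square roots of unity; this row states the kernel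
computation that is actually carried out.) -/
theorem result (R : Type u) [CommRing R] [CharP R 2]
    (l0 l2 l4 s0 s2 s4 τ : R) (hτ : IsUnit τ) (a : MvPolynomial (Fin 2) R)
    (ha : a ∈ Algebra.adjoin R
      ({X 0 ^ 2, X 0 ^ 3, X 1 ^ 2, X 1 ^ 3} : Set (MvPolynomial (Fin 2) R))) :
    MvPolynomial.mkDerivation R
        (![X 1 ^ 2 * (C l0 * X 0 ^ 4 + C τ * X 0 ^ 3 + C l2 * X 0 ^ 2 + C l4),
          X 0 ^ 2 * (C s0 * X 1 ^ 4 + C τ * X 1 ^ 3 + C s2 * X 1 ^ 2 + C s4)] :
          Fin 2 → MvPolynomial (Fin 2) R) a = 0 ↔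
      a ∈ Algebra.adjoin R
        ({X 0 ^ 2, X 1 ^ 2,
          (C s0 * X 1 ^ 4 + C s2 * X 1 ^ 2 + C s4) * X 0 ^ 3 +
            (C l0 * X 0 ^ 4 + C l2 * X 0 ^ 2 + C l4) * X 1 ^ 3 +
            C τ * X 0 ^ 3 * X 1 ^ 3} : Set (MvPolynomial (Fin 2) R)) := by
  classical
  obtain ⟨t, rfl⟩ := hτ
  set S0 : MvPolynomial (Fin 2) R := C s0 * X 1 ^ 2 + C s2 * X 1 + C s4 with hS0
  set L0 : MvPolynomial (Fin 2) R := C l0 * X 0 ^ 2 + C l2 * X 0 + C l4 with hL0
  set T : MvPolynomial (Fin 2) R := C (t : R) with hT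
  set Ti : MvPolynomial (Fin 2) R := C ((t⁻¹ : Rˣ) : R) with hTi
  have hinv : Ti * T = 1 := by
    rw [hTi, hT, ← C_mul, Units.inv_mul, C_1]
  set gg : MvPolynomial (Fin 2) R := (C s0 * X 1 ^ 4 + C s2 * X 1 ^ 2 + C s4) * X 0 ^ 3 +
      (C l0 * X 0 ^ 4 + C l2 * X 0 ^ 2 + C l4) * X 1 ^ 3 + C (t : R) * X 0 ^ 3 * X 1 ^ 3 with hgg
  have hgE : gg = Groth.Agent.Lib.Parity2.E 0 (S0 * X 0) (L0 * X 1) (T * X 0 * X 1) := by
    simp only [hgg, Groth.Agent.Lib.Parity2.E, hS0, hL0, hT, map_add, map_mul, map_pow, expand_C, expand_X, map_zero]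
    ring
  set D := MvPolynomial.mkDerivation R
      (![X 1 ^ 2 * (C l0 * X 0 ^ 4 + C (t : R) * X 0 ^ 3 + C l2 * X 0 ^ 2 + C l4),
        X 0 ^ 2 * (C s0 * X 1 ^ 4 + C (t : R) * X 1 ^ 3 + C s2 * X 1 ^ 2 + C s4)] :
        Fin 2 → MvPolynomial (Fin 2) R) with hD
  have hx : D (X 0) = Groth.Agent.Lib.Parity2.sq (X 1 * L0) + Groth.Agent.Lib.Parity2.sq (T * X 0 * X 1) * X 0 := by
    rw [hD, mkDerivation_X]
    simp only [Matrix.cons_val_zero, hL0, hT, map_add, map_mul, map_pow, expand_C, expand_X]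
    ring
  have hy : D (X 1) = Groth.Agent.Lib.Parity2.sq (X 0 * S0) + Groth.Agent.Lib.Parity2.sq (T * X 0 * X 1) * X 1 := by
    rw [hD, mkDerivation_X]
    simp only [Matrix.cons_val_one, Matrix.cons_val_zero, hS0, hT, map_add, map_mul, map_pow,
      expand_C, expand_X]
    ring
  have h2 := Groth.Agent.Lib.Parity2.two_eq_zero (R := R) (Fin 2)
  have hDg : D gg = 0 := by
    rw [hgE, Groth.Agent.Lib.Parity2.D_E D (X 1 * L0) (T * X 0 * X 1) (X 0 * S0) (T * X 0 * X 1) hx hy]
    have e1 : S0 * X 0 * (X 1 * L0) + L0 * X 1 * (X 0 * S0) = 0 := by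
      linear_combination (S0 * X 0 * (X 1 * L0)) * h2
    have e2 : S0 * X 0 * (T * X 0 * X 1) + T * X 0 * X 1 * (X 0 * S0) = 0 := by
      linear_combination (S0 * X 0 * (T * X 0 * X 1)) * h2
    have e3 : L0 * X 1 * (T * X 0 * X 1) + T * X 0 * X 1 * (X 1 * L0) = 0 := by
      linear_combination (L0 * X 1 * (T * X 0 * X 1)) * h2
    have e4 : T * X 0 * X 1 * (T * X 0 * X 1 + T * X 0 * X 1) = 0 := by
      rw [Groth.Agent.Lib.Parity2.add_self_eq_zero', mul_zero]
    rw [e1, e2, e3, e4, Groth.Agent.Lib.Parity2.E_zero]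
  constructor
  · intro hDa
    obtain ⟨a0, a1, a2, a3, rfl⟩ := Groth.Agent.Lib.Parity2.cusp_of_mem_adjoin a ha
    rw [Groth.Agent.Lib.Parity2.D_E D (X 1 * L0) (T * X 0 * X 1) (X 0 * S0) (T * X 0 * X 1) hx hy] at hDa
    obtain ⟨-, e1, e2, -⟩ := Groth.Agent.Lib.Parity2.E_eq_zero hDa
    have hX0 := (isRegular_X (R := R) (n := (0 : Fin 2))).right
    have hX1 := (isRegular_X (R := R) (n := (1 : Fin 2))).right
    have e1' : T * a1 + a3 * S0 = 0 := by
      have : (T * a1 + a3 * S0) * X 1 * X 0 * X 0 = 0 := by linear_combination e1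
      have := hX0 (by simpa using this)
      have := hX0 (by simpa using this)
      exact hX1 (by simpa using this)
    have e2' : T * a2 + a3 * L0 = 0 := by
      have : (T * a2 + a3 * L0) * X 1 * X 1 * X 0 = 0 := by linear_combination e2
      have := hX0 (by simpa using this)
      have := hX1 (by simpa using this)
      exact hX1 (by simpa using this)
    have ha1 : a1 = Ti * a3 * S0 := by
      have : a1 = -(Ti * a3 * S0) := by linear_combination Ti * e1' - a1 * hinv
      rw [this, Groth.Agent.Lib.Parity2.neg_eq']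
    have ha2 : a2 = Ti * a3 * L0 := by
      have : a2 = -(Ti * a3 * L0) := by linear_combination Ti * e2' - a2 * hinv
      rw [this, Groth.Agent.Lib.Parity2.neg_eq']
    have hsT : Groth.Agent.Lib.Parity2.sq Ti * Groth.Agent.Lib.Parity2.sq T = 1 := by rw [← map_mul, hinv, map_one]
    have hsTi : Groth.Agent.Lib.Parity2.sq Ti = Ti := by rw [hTi]; exact expand_C _ _
    have key : Groth.Agent.Lib.Parity2.E a0 (X 0 * a1) (X 1 * a2) (X 0 * X 1 * a3) =
        Groth.Agent.Lib.Parity2.sq a0 + Ti * Groth.Agent.Lib.Parity2.sq a3 * gg := by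
      rw [hgE, ha1, ha2]
      simp only [Groth.Agent.Lib.Parity2.E, map_mul, map_zero]
      rw [hsTi] at hsT ⊢
      linear_combination (-(Groth.Agent.Lib.Parity2.sq (X 0) * Groth.Agent.Lib.Parity2.sq (X 1) * Groth.Agent.Lib.Parity2.sq a3 * (X 0 * X 1))) * hsT
    rw [key]
    have hS : ∀ b, Groth.Agent.Lib.Parity2.sq b ∈ Algebra.adjoin R
        ({X 0 ^ 2, X 1 ^ 2, gg} : Set (MvPolynomial (Fin 2) R)) :=
      Groth.Agent.Lib.Parity2.sq_mem_adjoin _ (by simp) (by simp)
    refine Subalgebra.add_mem _ (hS a0) (Subalgebra.mul_mem _ (Subalgebra.mul_mem _ ?_ (hS a3)) ?_)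
    · rw [hTi]; exact Subalgebra.algebraMap_mem _ _
    · exact Algebra.subset_adjoin (by simp)
  · intro hmem
    clear ha
    induction hmem using Algebra.adjoin_induction with
    | mem x hx' =>
      simp only [Set.mem_insert_iff, Set.mem_singleton_iff] at hx'
      rcases hx' with rfl | rfl | rfl
      · rw [← Groth.Agent.Lib.Parity2.sq_X0]; exact Groth.Agent.Lib.Parity2.D_sq D _
      · rw [← Groth.Agent.Lib.Parity2.sq_X1]; exact Groth.Agent.Lib.Parity2.D_sq D _
      · exact hDg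
    | algebraMap r => exact D.map_algebraMap r
    | add x y _ _ hx' hy' => rw [map_add, hx', hy', add_zero]
    | mul x y _ _ hx' hy' => rw [Derivation.leibniz, hx', hy', smul_zero, smul_zero, add_zero]

end Groth.Agent.S13120
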