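import Groth.Statements.S13121
import Groth.Agent.Lib.Parity2

set_option autoImplicit false
universe u
open KumFam

namespace Groth.Agent.S13121

open MvPolynomial in
/-- Let R be a commutative ring of characteristic 2 and l0, l2, l4, s0, s2, s4, τ ∈ R with τ a unit. In
R[u, v] (u = X 0, v = X 1) put g = (s0 v⁴ + s2 v² + s4) u³ + (l0 u⁴ + l2 u² + l4) v³ + τ u³ v³. Then
the kernel of the R-algebra homomorphism R[a, b, c] → R[u, v] (a = X 0, b = X 1, c = X 2) with a ↦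
u², b ↦ v², c ↦ g is the ideal generated by c² + s0² a³ b⁴ + s2² a³ b² + s4² a³ + l0² a⁴ b³ + l2² a²
b³ + l4² b³ + τ² a³ b³; its image is the subalgebra R[u², v², g], which is therefore presented by
this one equation. -/
theorem result (R : Type u) [CommRing R] [CharP R 2]
    (l0 l2 l4 s0 s2 s4 τ : R) (hτ : IsUnit τ) :
    RingHom.ker (MvPolynomial.aeval (R := R) (S₁ := MvPolynomial (Fin 2) R)
        ![X 0 ^ 2, X 1 ^ 2,
          (C s0 * X 1 ^ 4 + C s2 * X 1 ^ 2 + C s4) * X 0 ^ 3 +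
            (C l0 * X 0 ^ 4 + C l2 * X 0 ^ 2 + C l4) * X 1 ^ 3 +
            C τ * X 0 ^ 3 * X 1 ^ 3]) =
      Ideal.span {(X 2 ^ 2 + C (s0 ^ 2) * X 0 ^ 3 * X 1 ^ 4 + C (s2 ^ 2) * X 0 ^ 3 * X 1 ^ 2 +
        C (s4 ^ 2) * X 0 ^ 3 + C (l0 ^ 2) * X 0 ^ 4 * X 1 ^ 3 + C (l2 ^ 2) * X 0 ^ 2 * X 1 ^ 3 +
        C (l4 ^ 2) * X 1 ^ 3 + C (τ ^ 2) * X 0 ^ 3 * X 1 ^ 3 : MvPolynomial (Fin 3) R)} := by
  classical
  obtain ⟨t, rfl⟩ := hτ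
  set S0 : MvPolynomial (Fin 2) R := C s0 * X 1 ^ 2 + C s2 * X 1 + C s4 with hS0
  set L0 : MvPolynomial (Fin 2) R := C l0 * X 0 ^ 2 + C l2 * X 0 + C l4 with hL0
  set T : MvPolynomial (Fin 2) R := C (t : R) with hT
  set Ti : MvPolynomial (Fin 2) R := C ((t⁻¹ : Rˣ) : R) with hTi
  have hinv : Ti * T = 1 := by
    rw [hTi, hT, ← C_mul, Units.inv_mul, C_1]
  set gg : MvPolynomial (Fin 2) R := (C s0 * X 1 ^ 4 + C s2 * X 1 ^ 2 + C s4) * X 0 ^ 3 +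
      (C l0 * X 0 ^ 4 + C l2 * X 0 ^ 2 + C l4) * X 1 ^ 3 + C (t : R) * X 0 ^ 3 * X 1 ^ 3 with hgg
  have hgE : gg = Groth.Agent.Lib.Parity2.E 0 (S0 * X 0) (L0 * X 1) (T * X 0 * X 1) := by
    simp only [hgg, Groth.Agent.Lib.Parity2.E, hS0, hL0, hT, map_add, map_mul, map_pow, expand_C, expand_X, map_zero]
    ring
  have hPhi : (MvPolynomial.aeval (R := R) (S₁ := MvPolynomial (Fin 2) R)
      ![X 0 ^ 2, X 1 ^ 2, gg]) = Groth.Agent.Lib.Parity2.Phi gg := rfl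
  rw [hPhi]
  set G' : MvPolynomial (Fin 2) R := C (s0 ^ 2) * X 0 ^ 3 * X 1 ^ 4 + C (s2 ^ 2) * X 0 ^ 3 * X 1 ^ 2 +
      C (s4 ^ 2) * X 0 ^ 3 + C (l0 ^ 2) * X 0 ^ 4 * X 1 ^ 3 + C (l2 ^ 2) * X 0 ^ 2 * X 1 ^ 3 +
      C (l4 ^ 2) * X 1 ^ 3 + C ((t : R) ^ 2) * X 0 ^ 3 * X 1 ^ 3 with hG'
  have hFeq : (X 2 ^ 2 + C (s0 ^ 2) * X 0 ^ 3 * X 1 ^ 4 + C (s2 ^ 2) * X 0 ^ 3 * X 1 ^ 2 +
        C (s4 ^ 2) * X 0 ^ 3 + C (l0 ^ 2) * X 0 ^ 4 * X 1 ^ 3 + C (l2 ^ 2) * X 0 ^ 2 * X 1 ^ 3 +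
        C (l4 ^ 2) * X 1 ^ 3 + C ((t : R) ^ 2) * X 0 ^ 3 * X 1 ^ 3 : MvPolynomial (Fin 3) R) =
      X 2 ^ 2 + Groth.Agent.Lib.Parity2.emb G' := by
    simp only [hG', map_add, map_mul, map_pow, Groth.Agent.Lib.Parity2.emb_X0, Groth.Agent.Lib.Parity2.emb_X1, Groth.Agent.Lib.Parity2.emb_C]
    ring
  rw [hFeq]
  apply Groth.Agent.Lib.Parity2.ker_Phi gg (S0 * X 0) (L0 * X 1) (T * X 0 * X 1) G' hgE
  · intro r hr
    have h1 : r * X 0 * X 1 = 0 := by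
      have : r * X 0 * X 1 = (r * (T * X 0 * X 1)) * Ti := by
        have : r * X 0 * X 1 = r * X 0 * X 1 * (Ti * T) := by rw [hinv, mul_one]
        rw [this]; ring
      rw [this, hr, zero_mul]
    have h2 : r * X 0 = 0 :=
      (isRegular_X (R := R) (n := (1 : Fin 2))).right (by simpa using h1)
    exact (isRegular_X (R := R) (n := (0 : Fin 2))).right (by simpa using h2)
  · rw [map_add, map_pow, Groth.Agent.Lib.Parity2.Phi_X2, Groth.Agent.Lib.Parity2.Phi_emb, hgE, pow_two, Groth.Agent.Lib.Parity2.E_mul]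
    have e1 : L0 * X 1 * (T * X 0 * X 1) + T * X 0 * X 1 * (L0 * X 1) = 0 := by
      rw [mul_comm (T * X 0 * X 1) (L0 * X 1)]; exact Groth.Agent.Lib.Parity2.add_self_eq_zero' _
    have e2 : S0 * X 0 * (T * X 0 * X 1) + T * X 0 * X 1 * (S0 * X 0) = 0 := by
      rw [mul_comm (T * X 0 * X 1) (S0 * X 0)]; exact Groth.Agent.Lib.Parity2.add_self_eq_zero' _
    have e3 : S0 * X 0 * (L0 * X 1) + L0 * X 1 * (S0 * X 0) = 0 := by
      rw [mul_comm (L0 * X 1) (S0 * X 0)]; exact Groth.Agent.Lib.Parity2.add_self_eq_zero' _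
    simp only [zero_mul, mul_zero, zero_add, e1, e2, e3, add_zero]
    have h2 := Groth.Agent.Lib.Parity2.two_eq_zero (R := R) (Fin 2)
    have hN : X 0 * (S0 * X 0 * (S0 * X 0)) + X 1 * (L0 * X 1 * (L0 * X 1)) +
        X 0 * X 1 * (T * X 0 * X 1 * (T * X 0 * X 1)) + G' = 0 := by
      simp only [hG', hS0, hL0, hT, map_pow]
      linear_combination (X 0 ^ 3 * ((C s0) ^ 2 * X 1 ^ 4 + (C s2) ^ 2 * X 1 ^ 2 + (C s4) ^ 2 +
        (C s0 * C s2 * X 1 ^ 3 + C s0 * C s4 * X 1 ^ 2 + C s2 * C s4 * X 1)) +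
        X 1 ^ 3 * ((C l0) ^ 2 * X 0 ^ 4 + (C l2) ^ 2 * X 0 ^ 2 + (C l4) ^ 2 +
        (C l0 * C l2 * X 0 ^ 3 + C l0 * C l4 * X 0 ^ 2 + C l2 * C l4 * X 0)) +
        X 0 ^ 3 * X 1 ^ 3 * (C (t : R)) ^ 2) * h2
    have : Groth.Agent.Lib.Parity2.E (X 0 * (S0 * X 0 * (S0 * X 0)) + X 1 * (L0 * X 1 * (L0 * X 1)) +
        X 0 * X 1 * (T * X 0 * X 1 * (T * X 0 * X 1))) 0 0 0 + Groth.Agent.Lib.Parity2.sq G' =
        Groth.Agent.Lib.Parity2.sq (X 0 * (S0 * X 0 * (S0 * X 0)) + X 1 * (L0 * X 1 * (L0 * X 1)) +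
        X 0 * X 1 * (T * X 0 * X 1 * (T * X 0 * X 1)) + G') := by
      simp only [Groth.Agent.Lib.Parity2.E, map_add, map_zero]; ring
    rw [this, hN, map_zero]

end Groth.Agent.S13121
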