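import Groth.Statements.S13122
import Groth.Agent.Lib.Parity2

set_option autoImplicit false
universe u
open KumFam

namespace Groth.Agent.S13122

open MvPolynomial in
/-- Let R be a commutative ring of characteristic 2 and l0, l2, l4, s0, s2, s4, τ ∈ R with τ a unit. On
R[x, y] (x = X 0, y = X 1; the coordinates u⁻¹, v⁻¹ of the smooth chart of the product of two
cuspidal curves) let D be the R-derivation with D(x) = l4 x⁴ + l2 x² + τ x + l0 and D(y) = s4 y⁴ +
s2 y² + τ y + s0, and put h = (s4 y⁴ + s2 y² + s0) x + (l4 x⁴ + l2 x² + l0) y + τ x y. Then: (1) for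
p ∈ R[x, y], D(p) = 0 if and only if p lies in the image of the R-algebra homomorphism R[a, b, c] →
R[x, y] (a = X 0, b = X 1, c = X 2) with a ↦ x², b ↦ y², c ↦ h; (2) the kernel of that homomorphism
is the ideal generated by c² + τ² a b + (s4² b⁴ + s2² b² + s0²) a + (l4² a⁴ + l2² a² + l0²) b. (The
published statement asserts that the ring of invariants of the action of the group scheme of square
roots of unity given by this vector field is R[a, b, c] modulo this equation, by the same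
computation as on the other chart; this row pins the generator h and states the kernel computation.) -/
theorem result (R : Type u) [CommRing R]
    [CharP R 2] (l0 l2 l4 s0 s2 s4 τ : R) (hτ : IsUnit τ) :
    (∀ p : MvPolynomial (Fin 2) R,
      MvPolynomial.mkDerivation R
          (![C l4 * X 0 ^ 4 + C l2 * X 0 ^ 2 + C τ * X 0 + C l0,
            C s4 * X 1 ^ 4 + C s2 * X 1 ^ 2 + C τ * X 1 + C s0] :
            Fin 2 → MvPolynomial (Fin 2) R) p = 0 ↔
        p ∈ (MvPolynomial.aeval (R := R) (S₁ := MvPolynomial (Fin 2) R)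
          ![X 0 ^ 2, X 1 ^ 2,
            (C s4 * X 1 ^ 4 + C s2 * X 1 ^ 2 + C s0) * X 0 +
              (C l4 * X 0 ^ 4 + C l2 * X 0 ^ 2 + C l0) * X 1 + C τ * X 0 * X 1]).range) ∧
    RingHom.ker (MvPolynomial.aeval (R := R) (S₁ := MvPolynomial (Fin 2) R)
        ![X 0 ^ 2, X 1 ^ 2,
          (C s4 * X 1 ^ 4 + C s2 * X 1 ^ 2 + C s0) * X 0 +
            (C l4 * X 0 ^ 4 + C l2 * X 0 ^ 2 + C l0) * X 1 + C τ * X 0 * X 1]) =
      Ideal.span {(X 2 ^ 2 + C (τ ^ 2) * X 0 * X 1 +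
        (C (s4 ^ 2) * X 1 ^ 4 + C (s2 ^ 2) * X 1 ^ 2 + C (s0 ^ 2)) * X 0 +
        (C (l4 ^ 2) * X 0 ^ 4 + C (l2 ^ 2) * X 0 ^ 2 + C (l0 ^ 2)) * X 1 : MvPolynomial (Fin 3) R)} := by
  classical
  obtain ⟨t, rfl⟩ := hτ
  set P0 : MvPolynomial (Fin 2) R := C l4 * X 0 ^ 2 + C l2 * X 0 + C l0 with hP0
  set Q0 : MvPolynomial (Fin 2) R := C s4 * X 1 ^ 2 + C s2 * X 1 + C s0 with hQ0
  set T : MvPolynomial (Fin 2) R := C (t : R) with hT
  set Ti : MvPolynomial (Fin 2) R := C ((t⁻¹ : Rˣ) : R) with hTi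
  have hinv : Ti * T = 1 := by
    rw [hTi, hT, ← C_mul, Units.inv_mul, C_1]
  set hh : MvPolynomial (Fin 2) R := (C s4 * X 1 ^ 4 + C s2 * X 1 ^ 2 + C s0) * X 0 +
      (C l4 * X 0 ^ 4 + C l2 * X 0 ^ 2 + C l0) * X 1 + C (t : R) * X 0 * X 1 with hhh
  set D := MvPolynomial.mkDerivation R
      (![C l4 * X 0 ^ 4 + C l2 * X 0 ^ 2 + C (t : R) * X 0 + C l0,
        C s4 * X 1 ^ 4 + C s2 * X 1 ^ 2 + C (t : R) * X 1 + C s0] :
        Fin 2 → MvPolynomial (Fin 2) R) with hD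
  have hx : D (X 0) = Groth.Agent.Lib.Parity2.sq P0 + Groth.Agent.Lib.Parity2.sq T * X 0 := by
    rw [hD, mkDerivation_X]
    simp only [Matrix.cons_val_zero, hP0, hT, map_add, map_mul, map_pow, expand_C, expand_X]
    ring
  have hy : D (X 1) = Groth.Agent.Lib.Parity2.sq Q0 + Groth.Agent.Lib.Parity2.sq T * X 1 := by
    rw [hD, mkDerivation_X]
    simp only [Matrix.cons_val_one, Matrix.cons_val_zero, hQ0, hT, map_add, map_mul, map_pow,
      expand_C, expand_X]
    ring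
  have hhE : hh = Groth.Agent.Lib.Parity2.E 0 Q0 P0 T := by
    simp only [hhh, Groth.Agent.Lib.Parity2.E, hP0, hQ0, hT, map_add, map_mul, map_pow, expand_C, expand_X, map_zero]
    ring
  have hDh : D hh = 0 := by
    rw [hhE, Groth.Agent.Lib.Parity2.D_E D P0 T Q0 T hx hy]
    have e1 : Q0 * P0 + P0 * Q0 = 0 := by rw [mul_comm P0 Q0]; exact Groth.Agent.Lib.Parity2.add_self_eq_zero' _
    have e2 : Q0 * T + T * Q0 = 0 := by rw [mul_comm T Q0]; exact Groth.Agent.Lib.Parity2.add_self_eq_zero' _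
    have e3 : P0 * T + T * P0 = 0 := by rw [mul_comm T P0]; exact Groth.Agent.Lib.Parity2.add_self_eq_zero' _
    have e4 : T * (T + T) = 0 := by rw [Groth.Agent.Lib.Parity2.add_self_eq_zero', mul_zero]
    rw [e1, e2, e3, e4, Groth.Agent.Lib.Parity2.E_zero]
  have hPhi : (MvPolynomial.aeval (R := R) (S₁ := MvPolynomial (Fin 2) R)
      ![X 0 ^ 2, X 1 ^ 2, hh]) = Groth.Agent.Lib.Parity2.Phi hh := rfl
  rw [hPhi]
  refine ⟨?_, ?_⟩
  · intro p
    constructor
    · intro hp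
      obtain ⟨a0, a1, a2, a3, rfl⟩ := Groth.Agent.Lib.Parity2.exists_E p
      rw [Groth.Agent.Lib.Parity2.D_E D P0 T Q0 T hx hy] at hp
      obtain ⟨-, e1, e2, -⟩ := Groth.Agent.Lib.Parity2.E_eq_zero hp
      have ha1 : a1 = Ti * a3 * Q0 := by
        have : a1 = -(Ti * a3 * Q0) := by linear_combination Ti * e1 - a1 * hinv
        rw [this, Groth.Agent.Lib.Parity2.neg_eq']
      have ha2 : a2 = Ti * a3 * P0 := by
        have : a2 = -(Ti * a3 * P0) := by linear_combination Ti * e2 - a2 * hinv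
        rw [this, Groth.Agent.Lib.Parity2.neg_eq']
      refine ⟨Groth.Agent.Lib.Parity2.emb a0 + C ((t⁻¹ : Rˣ) : R) * Groth.Agent.Lib.Parity2.emb a3 * X 2, ?_⟩
      change Groth.Agent.Lib.Parity2.Phi hh (Groth.Agent.Lib.Parity2.emb a0 +
        C ((t⁻¹ : Rˣ) : R) * Groth.Agent.Lib.Parity2.emb a3 * X 2) = _
      rw [map_add, map_mul, map_mul, Groth.Agent.Lib.Parity2.Phi_emb,
        Groth.Agent.Lib.Parity2.Phi_emb, Groth.Agent.Lib.Parity2.Phi_X2]
      have hC : Groth.Agent.Lib.Parity2.Phi hh (C ((t⁻¹ : Rˣ) : R)) = Ti := by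
        rw [hTi]; simp [Groth.Agent.Lib.Parity2.Phi]
      rw [hC, hhE, ha1, ha2]
      have hsT : Groth.Agent.Lib.Parity2.sq Ti * Groth.Agent.Lib.Parity2.sq T = 1 := by rw [← map_mul, hinv, map_one]
      have hsTi : Groth.Agent.Lib.Parity2.sq Ti = Ti := by rw [hTi]; exact expand_C _ _
      simp only [Groth.Agent.Lib.Parity2.E, map_mul, map_zero]
      rw [hsTi] at hsT ⊢
      linear_combination (Groth.Agent.Lib.Parity2.sq a3 * (X 0 * X 1)) * hsT
    · rintro ⟨q, rfl⟩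
      change D (Groth.Agent.Lib.Parity2.Phi hh q) = 0
      induction q using MvPolynomial.induction_on with
      | C r =>
        have : Groth.Agent.Lib.Parity2.Phi hh (C r) = algebraMap R _ r := by simp [Groth.Agent.Lib.Parity2.Phi]
        rw [this]
        exact D.map_algebraMap r
      | add p q hp hq => rw [map_add, map_add, hp, hq, add_zero]
      | mul_X q i hq =>
        rw [map_mul, Derivation.leibniz, hq, smul_zero, add_zero]
        have : D (Groth.Agent.Lib.Parity2.Phi hh (X i)) = 0 := by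
          fin_cases i
          · have : Groth.Agent.Lib.Parity2.Phi hh (X 0) = Groth.Agent.Lib.Parity2.sq (X 0) := by simp [Groth.Agent.Lib.Parity2.Phi]
            simp only [Fin.zero_eta]
            rw [this]; exact Groth.Agent.Lib.Parity2.D_sq D _
          · have : Groth.Agent.Lib.Parity2.Phi hh (X 1) = Groth.Agent.Lib.Parity2.sq (X 1) := by simp [Groth.Agent.Lib.Parity2.Phi]
            simp only [Fin.mk_one]
            rw [this]; exact Groth.Agent.Lib.Parity2.D_sq D _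
          · simp only [Fin.reduceFinMk]
            rw [Groth.Agent.Lib.Parity2.Phi_X2]; exact hDh
        rw [this, smul_zero]
  · set G' : MvPolynomial (Fin 2) R := C (((t : R)) ^ 2) * X 0 * X 1 +
      (C (s4 ^ 2) * X 1 ^ 4 + C (s2 ^ 2) * X 1 ^ 2 + C (s0 ^ 2)) * X 0 +
      (C (l4 ^ 2) * X 0 ^ 4 + C (l2 ^ 2) * X 0 ^ 2 + C (l0 ^ 2)) * X 1 with hG'
    have hFeq : (X 2 ^ 2 + C ((t : R) ^ 2) * X 0 * X 1 +
        (C (s4 ^ 2) * X 1 ^ 4 + C (s2 ^ 2) * X 1 ^ 2 + C (s0 ^ 2)) * X 0 +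
        (C (l4 ^ 2) * X 0 ^ 4 + C (l2 ^ 2) * X 0 ^ 2 + C (l0 ^ 2)) * X 1 :
          MvPolynomial (Fin 3) R) = X 2 ^ 2 + Groth.Agent.Lib.Parity2.emb G' := by
      simp only [hG', map_add, map_mul, map_pow, Groth.Agent.Lib.Parity2.emb_X0, Groth.Agent.Lib.Parity2.emb_X1, Groth.Agent.Lib.Parity2.emb_C]
      ring
    rw [hFeq]
    apply Groth.Agent.Lib.Parity2.ker_Phi hh Q0 P0 T G' hhE
    · intro r hr
      have : r = r * T * Ti := by rw [mul_assoc, mul_comm T Ti, hinv, mul_one]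
      rw [this, hr, zero_mul]
    · rw [map_add, map_pow, Groth.Agent.Lib.Parity2.Phi_X2, Groth.Agent.Lib.Parity2.Phi_emb, hhE, pow_two, Groth.Agent.Lib.Parity2.E_mul]
      have e1 : P0 * T + T * P0 = 0 := by rw [mul_comm T P0]; exact Groth.Agent.Lib.Parity2.add_self_eq_zero' _
      have e2 : Q0 * T + T * Q0 = 0 := by rw [mul_comm T Q0]; exact Groth.Agent.Lib.Parity2.add_self_eq_zero' _
      have e3 : Q0 * P0 + P0 * Q0 = 0 := by rw [mul_comm P0 Q0]; exact Groth.Agent.Lib.Parity2.add_self_eq_zero' _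
      simp only [zero_mul, mul_zero, zero_add, e1, e2, e3, add_zero]
      have h2 := Groth.Agent.Lib.Parity2.two_eq_zero (R := R) (Fin 2)
      have hN : X 0 * (Q0 * Q0) + X 1 * (P0 * P0) + X 0 * X 1 * (T * T) + G' = 0 := by
        simp only [hG', hP0, hQ0, hT, map_pow]
        linear_combination (X 0 * ((C s4) ^ 2 * X 1 ^ 4 + (C s2) ^ 2 * X 1 ^ 2 + (C s0) ^ 2 +
          (C s4 * C s2 * X 1 ^ 3 + C s4 * C s0 * X 1 ^ 2 + C s2 * C s0 * X 1)) +
          X 1 * ((C l4) ^ 2 * X 0 ^ 4 + (C l2) ^ 2 * X 0 ^ 2 + (C l0) ^ 2 +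
          (C l4 * C l2 * X 0 ^ 3 + C l4 * C l0 * X 0 ^ 2 + C l2 * C l0 * X 0)) +
          X 0 * X 1 * (C (t : R)) ^ 2) * h2
      have : Groth.Agent.Lib.Parity2.E (X 0 * (Q0 * Q0) + X 1 * (P0 * P0) + X 0 * X 1 * (T * T)) 0 0 0 + Groth.Agent.Lib.Parity2.sq G' =
          Groth.Agent.Lib.Parity2.sq (X 0 * (Q0 * Q0) + X 1 * (P0 * P0) + X 0 * X 1 * (T * T) + G') := by
        simp only [Groth.Agent.Lib.Parity2.E, map_add, map_zero]; ring
      rw [this, hN, map_zero]

end Groth.Agent.S13122
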