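import Groth.Statements.S13124
import Mathlib.RingTheory.Localization.FractionRing
import Mathlib.RingTheory.IntegralClosure.IsIntegralClosure.Basic

set_option autoImplicit false
universe u v w
open KumFam

namespace Groth.Agent.S13124

open TensorProduct

section aux

variable {k : Type u} [CommRing k] {A : Type v} [CommRing A] [Algebra k A] [Module.Flat k A]
  {R : Type w} [CommRing R] [Algebra k R] [IsDomain R]

/-- Multiplication by `b ⊗ 1` is injective on `R ⊗ A` for `b ≠ 0` and `A` flat. -/
theorem mul_tmul_one_injective (b : R) (hb : b ≠ 0) (z : R ⊗[k] A)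
    (hz : z * (b ⊗ₜ[k] (1 : A)) = 0) : z = 0 := by
  have hinj : Function.Injective (LinearMap.mulLeft k b) := by
    intro x y hxy
    exact mul_left_cancel₀ hb hxy
  have h2 := Module.Flat.rTensor_preserves_injective_linearMap (M := A) (LinearMap.mulLeft k b) hinj
  have h3 : ∀ w : R ⊗[k] A, (LinearMap.mulLeft k b).rTensor A w = w * (b ⊗ₜ[k] (1 : A)) := by
    intro w
    induction w using TensorProduct.induction_on with
    | zero => simp
    | tmul r a =>
      simp only [LinearMap.rTensor_tmul, LinearMap.mulLeft_apply,
        Algebra.TensorProduct.tmul_mul_tmul, mul_one]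
      rw [mul_comm]
    | add x y hx hy => rw [map_add, hx, hy, add_mul]
  apply h2
  rw [h3, hz, map_zero]

end aux

/-- Let k be a commutative ring, A a commutative k-bialgebra that is flat over k, and R a commutative
k-algebra which is an integrally closed domain, with a coaction R → R ⊗ A that is an algebra
homomorphism. Then the ring of invariants (the elements f with coaction f ⊗ 1) is an integrally
closed domain. (The published statement is for a finite group scheme acting on a normal scheme whose
quotient is, locally, the spectrum of the ring of invariants; this row is the affine integral case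
and allows any commutative bialgebra flat over k, flatness being automatic over a field.) -/
theorem result (k : Type u) [CommRing k]
    (A : Type v) [CommRing A] [Bialgebra k A] [Module.Flat k A]
    (R : Type w) [CommRing R] [Algebra k R] [IsDomain R] [IsIntegrallyClosed R]
    [HopfRep.Comod k A R] [GLin.IsCoactAlg k A R] :
    IsIntegrallyClosed (GLin.invariants k A R) := by
  set S := GLin.invariants k A R with hS
  let K := FractionRing S
  let L := FractionRing R
  let g : S →+* L := (algebraMap R L).comp S.val.toRingHom
  have hg : Function.Injective g :=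
    (IsFractionRing.injective R L).comp Subtype.val_injective
  let φ : K →+* L := IsFractionRing.lift hg
  have hφ : ∀ s : S, φ (algebraMap S K s) = algebraMap R L (s : R) := fun s =>
    IsFractionRing.lift_algebraMap hg s
  rw [isIntegrallyClosed_iff K]
  intro x hx
  have hcomp : (algebraMap R L).comp (S.val.toRingHom : S →+* R) = φ.comp (algebraMap S K) := by
    ext s
    exact (hφ s).symm
  have hint : IsIntegral R (φ x) := hx.map_of_comp_eq (S.val.toRingHom : S →+* R) φ hcomp
  obtain ⟨y, hy⟩ := IsIntegrallyClosed.algebraMap_eq_of_integral hint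
  obtain ⟨a, b, hb, hab⟩ := IsFractionRing.div_surjective (A := S) x
  have hb0 : (b : R) ≠ 0 := by
    intro h0
    have : b = 0 := Subtype.ext h0
    exact (nonZeroDivisors.ne_zero hb) this
  have hbK : algebraMap S K b ≠ 0 := by
    intro h0
    exact (nonZeroDivisors.ne_zero hb) ((IsFractionRing.injective S K) (by rw [h0, map_zero]))
  have hxb : x * algebraMap S K b = algebraMap S K a := by
    rw [← hab, div_mul_cancel₀ _ hbK]
  have hyb : y * (b : R) = (a : R) := by
    apply IsFractionRing.injective R L
    rw [map_mul, hy, ← hφ b, ← hφ a, ← map_mul, hxb]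
  -- `y` is invariant
  have hyS : y ∈ S := by
    rw [hS, GLin.mem_invariants_iff]
    have ha := (GLin.mem_invariants_iff (k := k) (A := A) (R := R) (a : R)).mp a.2
    have hb' := (GLin.mem_invariants_iff (k := k) (A := A) (R := R) (b : R)).mp b.2
    have h1 : HopfRep.Comod.coact (k := k) (A := A) (y * (b : R)) =
        HopfRep.Comod.coact (k := k) (A := A) y * ((b : R) ⊗ₜ[k] (1 : A)) := by
      rw [GLin.IsCoactAlg.coact_mul, hb']
    have h2 : (y * (b : R)) ⊗ₜ[k] (1 : A) = (y ⊗ₜ[k] (1 : A)) * ((b : R) ⊗ₜ[k] (1 : A)) := by
      rw [Algebra.TensorProduct.tmul_mul_tmul, mul_one]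
    have h3 : (HopfRep.Comod.coact (k := k) (A := A) y - y ⊗ₜ[k] (1 : A)) *
        ((b : R) ⊗ₜ[k] (1 : A)) = 0 := by
      rw [sub_mul, ← h1, ← h2, hyb, ha, sub_self]
    exact sub_eq_zero.mp (mul_tmul_one_injective (b : R) hb0 _ h3)
  refine ⟨⟨y, hyS⟩, ?_⟩
  apply φ.injective
  rw [hφ, hy]

end Groth.Agent.S13124
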