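import Groth.Statements.S13125
import Mathlib.Algebra.Group.Subgroup.Map
import Mathlib.GroupTheory.QuotientGroup.Defs

set_option autoImplicit false
universe u v
open KumFam

namespace Groth.Agent.S13125

open DirectSum

section aux

variable {ι : Type u} [DecidableEq ι] [AddMonoid ι]
  {A : Type v} [CommRing A] (𝒜 : ι → AddSubgroup A) [GradedRing 𝒜] (I : Ideal A)

/-- The quotient map as an additive map. -/
def mkA : A →+ A ⧸ I := (Ideal.Quotient.mk I : A →+* A ⧸ I).toAddMonoidHom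

theorem mkA_apply (a : A) : mkA I a = Ideal.Quotient.mk I a := rfl

variable (ℬ : ι → AddSubgroup (A ⧸ I)) (h : ∀ i : ι, (𝒜 i).map (mkA I) ≤ ℬ i)

/-- The componentwise quotient maps. -/
def comp (i : ι) : 𝒜 i →+ ℬ i where
  toFun x := ⟨mkA I x, h i (AddSubgroup.mem_map_of_mem _ x.2)⟩
  map_zero' := by ext; simp
  map_add' x y := by ext; simp

theorem comp_coe (i : ι) (x : 𝒜 i) : ((comp 𝒜 I ℬ h i x : ℬ i) : A ⧸ I) = mkA I x := rfl

theorem coe_map (y : ⨁ i, 𝒜 i) :
    DirectSum.coeAddMonoidHom ℬ (DirectSum.map (comp 𝒜 I ℬ h) y) =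
      mkA I (DirectSum.coeAddMonoidHom 𝒜 y) := by
  have : (DirectSum.coeAddMonoidHom ℬ).comp (DirectSum.map (comp 𝒜 I ℬ h)) =
      (mkA I).comp (DirectSum.coeAddMonoidHom 𝒜) := by
    apply DirectSum.addHom_ext
    intro i x
    simp only [AddMonoidHom.comp_apply, DirectSum.map_of, DirectSum.coeAddMonoidHom_of]
    rfl
  exact DFunLike.congr_fun this y

end aux

section forward

variable {ι : Type u} [DecidableEq ι] [AddMonoid ι]
  {A : Type v} [CommRing A] (𝒜 : ι → AddSubgroup A) [GradedRing 𝒜] (I : Ideal A)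

/-- The image grading. -/
def imgGr (i : ι) : AddSubgroup (A ⧸ I) := (𝒜 i).map (mkA I)

theorem imgGr_le (i : ι) : (𝒜 i).map (mkA I) ≤ imgGr 𝒜 I i := le_refl _

instance : SetLike.GradedMonoid (imgGr 𝒜 I) where
  one_mem := ⟨1, SetLike.GradedOne.one_mem, rfl⟩
  mul_mem := by
    rintro i j _ _ ⟨a, ha, rfl⟩ ⟨b, hb, rfl⟩
    exact ⟨a * b, SetLike.GradedMul.mul_mem ha hb, by simp [mkA_apply]⟩

/-- The additive map `A → ⨁ ℬ i`. -/
def phi : A →+ ⨁ i, imgGr 𝒜 I i :=
  (DirectSum.map (comp 𝒜 I (imgGr 𝒜 I) (imgGr_le 𝒜 I))).comp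
    (DirectSum.decomposeAddEquiv 𝒜).toAddMonoidHom

theorem phi_apply (a : A) :
    phi 𝒜 I a = DirectSum.map (comp 𝒜 I (imgGr 𝒜 I) (imgGr_le 𝒜 I)) (DirectSum.decompose 𝒜 a) := rfl

theorem phi_eq_zero (hI : I.IsHomogeneous 𝒜) (a : A) (ha : a ∈ I) : phi 𝒜 I a = 0 := by
  rw [phi_apply]
  ext i
  rw [DirectSum.map_apply, comp_coe, mkA_apply]
  simp only [DirectSum.zero_apply, ZeroMemClass.coe_zero]
  exact Ideal.Quotient.eq_zero_iff_mem.mpr (hI i ha)

/-- The decomposition map on the quotient. -/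
def dec (hI : I.IsHomogeneous 𝒜) : A ⧸ I →+ ⨁ i, imgGr 𝒜 I i :=
  QuotientAddGroup.lift I.toAddSubgroup (phi 𝒜 I) (fun a ha => phi_eq_zero 𝒜 I hI a ha)

theorem dec_mk (hI : I.IsHomogeneous 𝒜) (a : A) :
    dec 𝒜 I hI (Ideal.Quotient.mk I a) = phi 𝒜 I a := rfl

theorem graded (hI : I.IsHomogeneous 𝒜) : Nonempty (GradedRing (imgGr 𝒜 I)) := by
  suffices hdec : DirectSum.Decomposition (imgGr 𝒜 I) from
    ⟨{ toGradedMonoid := inferInstance, toDecomposition := hdec }⟩
  refine DirectSum.Decomposition.ofAddHom (imgGr 𝒜 I) (dec 𝒜 I hI) ?_ ?_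
  · ext x
    obtain ⟨a, rfl⟩ := Ideal.Quotient.mk_surjective x
    simp only [AddMonoidHom.comp_apply, AddMonoidHom.id_apply]
    rw [dec_mk, phi_apply, coe_map, mkA_apply]
    congr 1
    exact (DirectSum.decompose 𝒜).left_inv a
  · apply DirectSum.addHom_ext
    rintro i ⟨_, a, ha, rfl⟩
    simp only [AddMonoidHom.comp_apply, AddMonoidHom.id_apply, DirectSum.coeAddMonoidHom_of]
    change phi 𝒜 I a = _
    rw [phi_apply, DirectSum.decompose_of_mem 𝒜 ha, DirectSum.map_of]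
    rfl

end forward

/-- Let A be a commutative ring graded by an additive monoid ι (an abelian group in the published
statement) through additive subgroups 𝒜 i, and I an ideal of A. Then I is a homogeneous ideal if and
only if A/I carries a structure of ι-graded ring ℬ for which the quotient map sends 𝒜 i into ℬ i for
all i. -/
theorem result (ι : Type u) [DecidableEq ι] [AddMonoid ι]
    (A : Type v) [CommRing A] (𝒜 : ι → AddSubgroup A) [GradedRing 𝒜] (I : Ideal A) :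
    I.IsHomogeneous 𝒜 ↔
      ∃ ℬ : ι → AddSubgroup (A ⧸ I), Nonempty (GradedRing ℬ) ∧
        ∀ i : ι, (𝒜 i).map (Ideal.Quotient.mk I : A →+ A ⧸ I) ≤ ℬ i := by
  constructor
  · intro hI
    exact ⟨imgGr 𝒜 I, graded 𝒜 I hI, fun i => le_refl _⟩
  · rintro ⟨ℬ, ⟨hℬ⟩, h⟩
    intro i r hr
    have h' : ∀ i : ι, (𝒜 i).map (mkA I) ≤ ℬ i := h
    have h0 : DirectSum.coeAddMonoidHom ℬ (DirectSum.map (comp 𝒜 I ℬ h') (DirectSum.decompose 𝒜 r))
        = 0 := by
      rw [coe_map, mkA_apply]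
      have : DirectSum.coeAddMonoidHom 𝒜 (DirectSum.decompose 𝒜 r) = r :=
        (DirectSum.decompose 𝒜).left_inv r
      rw [this]
      exact Ideal.Quotient.eq_zero_iff_mem.mpr hr
    have hinj : Function.Injective (DirectSum.coeAddMonoidHom ℬ) :=
      (DirectSum.Decomposition.isInternal ℬ).1
    have h1 : DirectSum.map (comp 𝒜 I ℬ h') (DirectSum.decompose 𝒜 r) = 0 :=
      hinj (by rw [h0, map_zero])
    have h2 := congrArg (fun y : ⨁ i, ℬ i => ((y i : ℬ i) : A ⧸ I)) h1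
    simp only [DirectSum.map_apply, comp_coe, mkA_apply, DirectSum.zero_apply,
      ZeroMemClass.coe_zero] at h2
    exact Ideal.Quotient.eq_zero_iff_mem.mp h2

end Groth.Agent.S13125
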