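import Groth.Statements.S13126
import Mathlib.RingTheory.Ideal.Quotient.Operations
import Mathlib.Algebra.Polynomial.BigOperators
import Mathlib.Algebra.Polynomial.Div
import Mathlib.Tactic.LinearCombination

set_option autoImplicit false
universe u
open KumFam

namespace Groth.Agent.S13126

open Polynomial in
/-- Let R be a commutative ring, n a natural number which is a unit in R, and ζ ∈ R with ζ^n = 1 and 1 −
ζ^i a unit for 0 < i < n (a primitive n-th root of unity in the fibrewise sense: the powers ζ^0, …,
ζ^(n−1) are roots of X^n − 1 with pairwise unit differences; over an integral domain in which n is a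
unit this is the same as ζ having multiplicative order n). Then the R-algebra homomorphism R[X] →
(Fin n → R) sending a polynomial to its values at ζ^0, …, ζ^(n−1) is surjective and its kernel is
the ideal generated by X^n − 1; hence R[X]/(X^n − 1) ≅ R^n as R-algebras, i.e. the scheme of n-th
roots of unity over Spec R is the disjoint union of n copies of Spec R. (The published statement
asks that R contain a primitive n-th root of unity without defining the term; its Chinese-remainder
argument uses that the ideals (X − ζ^i), i < n, are pairwise comaximal, which is the unit-difference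
condition taken as the hypothesis here, whereas under the reading 'ζ has multiplicative order n'
alone the surjectivity fails over a product of two fields. The published statement also asserts that
the isomorphism respects the group-scheme structures of the n-th roots of unity and of the constant
group ℤ/n; this row does not state that.) -/
theorem result (R : Type u) [CommRing R]
    (n : ℕ) (hn : IsUnit (n : R)) (ζ : R) (hζ : ζ ^ n = 1)
    (hprim : ∀ i : ℕ, 0 < i → i < n → IsUnit (1 - ζ ^ i)) :
    Function.Surjective (AlgHom.pi (fun i : Fin n => Polynomial.aeval (R := R) (ζ ^ (i : ℕ)))) ∧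
      RingHom.ker (AlgHom.pi (fun i : Fin n => Polynomial.aeval (R := R) (ζ ^ (i : ℕ)))) =
        Ideal.span {(X ^ n - 1 : R[X])} := by
  classical
  rcases subsingleton_or_nontrivial R with hsub | hnt
  · constructor
    · intro y
      exact ⟨0, Subsingleton.elim _ _⟩
    · ext p
      have h1 : p = 0 := Subsingleton.elim _ _
      subst h1
      simp
  have hn0 : n ≠ 0 := by
    rintro rfl
    simp at hn
  have hζu : IsUnit ζ := IsUnit.of_pow_eq_one hζ hn0
  -- unit differences
  have hlt : ∀ a b : ℕ, a < b → b < n → IsUnit (ζ ^ a - ζ ^ b) := by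
    intro a b hab hb
    have e : ζ ^ a - ζ ^ b = ζ ^ a * (1 - ζ ^ (b - a)) := by
      rw [mul_sub, mul_one, ← pow_add, Nat.add_sub_cancel' hab.le]
    rw [e]
    exact (hζu.pow a).mul (hprim (b - a) (Nat.sub_pos_of_lt hab) (lt_of_le_of_lt (Nat.sub_le _ _) hb))
  have hdiff : ∀ i j : Fin n, i ≠ j → IsUnit (ζ ^ (i : ℕ) - ζ ^ (j : ℕ)) := by
    intro i j hij
    rcases lt_or_gt_of_ne (fun h => hij (Fin.ext h) : (i : ℕ) ≠ (j : ℕ)) with h | h
    · exact hlt _ _ h j.2
    · have := (hlt _ _ h i.2).neg
      rwa [neg_sub] at this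
  have hcop : ∀ i j : Fin n, i ≠ j →
      IsCoprime (X - C (ζ ^ (i : ℕ)) : R[X]) (X - C (ζ ^ (j : ℕ))) := by
    intro i j hij
    obtain ⟨u, hu⟩ := hdiff i j hij
    have hv : (↑u⁻¹ : R) * (ζ ^ (i : ℕ) - ζ ^ (j : ℕ)) = 1 := by
      rw [← hu, Units.inv_mul]
    have hv' := congrArg (C : R → R[X]) hv
    simp only [map_mul, map_sub, map_one] at hv'
    refine ⟨-C (↑u⁻¹ : R), C (↑u⁻¹ : R), ?_⟩
    linear_combination hv'
  have hroot : ∀ (p : R[X]) (i : Fin n),
      AlgHom.pi (fun i : Fin n => Polynomial.aeval (R := R) (ζ ^ (i : ℕ))) p i =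
        p.eval (ζ ^ (i : ℕ)) := by
    intro p i
    simp [Polynomial.aeval_def, Polynomial.eval₂_eq_eval_map]
  have hker : RingHom.ker (AlgHom.pi (fun i : Fin n => Polynomial.aeval (R := R) (ζ ^ (i : ℕ)))) =
      ⨅ i : Fin n, Ideal.span {(X - C (ζ ^ (i : ℕ)) : R[X])} := by
    ext p
    simp only [RingHom.mem_ker, Ideal.mem_iInf, Ideal.mem_span_singleton, dvd_iff_isRoot, IsRoot]
    constructor
    · intro h i
      rw [← hroot, h]
      rfl
    · intro h
      funext i
      rw [hroot, h i]
      rfl
  have hprod : (X ^ n - 1 : R[X]) = ∏ i : Fin n, (X - C (ζ ^ (i : ℕ))) := by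
    have hm1 : (∏ i : Fin n, (X - C (ζ ^ (i : ℕ)) : R[X])).Monic :=
      monic_prod_of_monic _ _ (fun i _ => monic_X_sub_C _)
    have hm2 : (X ^ n - 1 : R[X]).Monic := by
      rw [← C_1]; exact monic_X_pow_sub_C (1 : R) hn0
    apply eq_of_monic_of_dvd_of_natDegree_le hm1 hm2
    · have : (X ^ n - 1 : R[X]) ∈ ⨅ i : Fin n, Ideal.span {(X - C (ζ ^ (i : ℕ)) : R[X])} := by
        simp only [Ideal.mem_iInf, Ideal.mem_span_singleton, dvd_iff_isRoot, IsRoot]
        intro i
        rw [eval_sub, eval_pow, eval_X, eval_one, ← pow_mul, mul_comm, pow_mul, hζ, one_pow, sub_self]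
      rw [Ideal.iInf_span_singleton hcop, Ideal.mem_span_singleton] at this
      exact this
    · rw [natDegree_prod_of_monic _ _ (fun i _ => monic_X_sub_C _)]
      have : (X ^ n - 1 : R[X]).natDegree = n := by
        rw [← C_1]; exact natDegree_X_pow_sub_C
      rw [this]
      have h1 : ∀ x : Fin n, (X - C (ζ ^ (x : ℕ)) : R[X]).natDegree = 1 :=
        fun x => natDegree_X_sub_C _
      simp only [h1, Finset.sum_const, Finset.card_univ, Fintype.card_fin, smul_eq_mul, mul_one,
        le_refl]
  constructor
  · intro y
    have hI : Pairwise (Function.onFun IsCoprime fun i : Fin n => Ideal.span {(X - C (ζ ^ (i : ℕ)) : R[X])}) := by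
      intro i j hij
      exact (Ideal.isCoprime_span_singleton_iff _ _).mpr (hcop i j hij)
    obtain ⟨p, hp⟩ := Ideal.exists_forall_sub_mem_ideal hI (fun i => C (y i))
    refine ⟨p, funext fun i => ?_⟩
    have := hp i
    rw [Ideal.mem_span_singleton, dvd_iff_isRoot, IsRoot, eval_sub, eval_C, sub_eq_zero] at this
    rw [hroot, this]
  · rw [hker, Ideal.iInf_span_singleton hcop, hprod]

end Groth.Agent.S13126
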