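import Groth.Statements.S13127
import Mathlib
import Groth.Agent.Lib.FormalInverse50

set_option autoImplicit false
universe u
open KumFam

namespace Groth.Agent.S13127

section helpers
open MvPowerSeries

variable {R : Type*} [CommRing R]

theorem exists_algEquiv_of_subst {σ : Type*} [Fintype σ] [DecidableEq σ]
    (y : σ → MvPowerSeries σ R) (h0 : ∀ i, constantCoeff (y i) = 0)
    (hJ : IsUnit (Matrix.det (Matrix.of fun i j : σ => coeff (Finsupp.single j 1) (y i)))) :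
    ∃ φ : MvPowerSeries σ R ≃ₐ[R] MvPowerSeries σ R,
      ∀ f : MvPowerSeries σ R, φ (subst y f) = f := by
  have hy : HasSubst y := hasSubst_of_constantCoeff_zero h0
  have hbij : Function.Bijective (substAlgHom (R := R) hy) := by
    rw [coe_substAlgHom]
    exact Groth.Agent.Lib.FormalInverse50.subst_bijective_of_isUnit_det y h0 hJ
  refine ⟨(AlgEquiv.ofBijective (substAlgHom (R := R) hy) hbij).symm, fun f => ?_⟩
  rw [← substAlgHom_apply hy]
  exact (AlgEquiv.ofBijective (substAlgHom (R := R) hy) hbij).symm_apply_apply f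

/-- degree one coefficient of `f * X s` -/
theorem coeff_single_mul_X {σ : Type*} [DecidableEq σ] (f : MvPowerSeries σ R) (s k : σ) :
    coeff (Finsupp.single k 1) (f * X s) = if k = s then constantCoeff f else 0 := by
  rw [Groth.Agent.Lib.FormalInverse50.coeff_single_mul f (X s) (constantCoeff_X s) k,
    coeff_index_single_X]
  split_ifs <;> simp

/-- cube roots of `1 + ε` in characteristic 2 -/
theorem exists_cube_root {σ : Type*} [Finite σ] [CharP R 2] (ε : MvPowerSeries σ R)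
    (hε : ε ∈ (Ideal.span (Set.range X) : Ideal (MvPowerSeries σ R))) :
    ∃ ρ : MvPowerSeries σ R, ρ ^ 3 = 1 + ε ∧ constantCoeff ρ = 1 := by
  have h2R : (2 : R) = 0 := by
    have := CharP.cast_eq_zero R 2
    exact_mod_cast this
  have h2 : (2 : MvPowerSeries σ R) = 0 := by
    have := congrArg (C (σ := σ) (R := R)) h2R
    rw [map_ofNat, map_zero] at this
    exact this
  have h3 : (3 : MvPowerSeries σ R) = 1 := by linear_combination h2
  set I : Ideal (MvPowerSeries σ R) := Ideal.span (Set.range X) with hI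
  have hH : HenselianRing (MvPowerSeries σ R) I := inferInstance
  obtain ⟨a, ha, haI⟩ := hH.is_henselian (Polynomial.X ^ 3 - Polynomial.C (1 + ε))
    (Polynomial.monic_X_pow_sub_C _ (by norm_num)) 1
    (by
      simp only [Polynomial.eval_sub, Polynomial.eval_pow, Polynomial.eval_X, Polynomial.eval_C,
        one_pow]
      have : (1 : MvPowerSeries σ R) - (1 + ε) = -ε := by ring
      rw [this]
      exact I.neg_mem hε)
    (by
      simp only [Polynomial.derivative_sub, Polynomial.derivative_X_pow, Polynomial.derivative_C,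
        sub_zero, Polynomial.eval_mul, Polynomial.eval_pow, Polynomial.eval_X, one_pow, mul_one]
      have : (Polynomial.eval (1 : MvPowerSeries σ R) (Polynomial.C ((3 : ℕ) : MvPowerSeries σ R))) = 1 := by
        rw [Polynomial.eval_C]
        exact_mod_cast h3
      simp only [Nat.cast_ofNat] at this ⊢
      rw [this, map_one]
      exact isUnit_one)
  refine ⟨a, ?_, ?_⟩
  · have := ha
    rw [Polynomial.IsRoot.def] at this
    simp only [Polynomial.eval_sub, Polynomial.eval_pow, Polynomial.eval_X, Polynomial.eval_C] at this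
    exact sub_eq_zero.1 this
  · have hker : I ≤ RingHom.ker (constantCoeff (σ := σ) (R := R)) := by
      rw [hI, Ideal.span_le]
      rintro _ ⟨s, rfl⟩
      exact constantCoeff_X s
    have := hker haI
    rw [RingHom.mem_ker, map_sub, map_one, sub_eq_zero] at this
    exact this

end helpers

open MvPowerSeries in
/-- Let R be a commutative ring of characteristic 2 and l0, l2, l4, s0, s2, s4, τ, lam, sig ∈ R with l4,
s4, lam, sig units, and let κ₁, κ₂ ∈ R satisfy s4² κ₁³ = sig² and l4² κ₂³ = lam² (cube roots of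
sig²/s4² and lam²/l4²). In the power series ring R[[a, b, c]] (a = X 0, b = X 1, c = X 2) put F = c²
+ s0² a³ b⁴ + s2² a³ b² + s4² a³ + l0² a⁴ b³ + l2² a² b³ + l4² b³ + τ² a³ b³ and F₀ = c² + sig² a³ +
lam² b³. Then some R-algebra automorphism of R[[a, b, c]] maps F to F₀; consequently R[[a, b,
c]]/(F) ≅ R[[a, b, c]]/(F₀). (In the published statement lam, sig are the representatives in the
ground field of the residues of l4, s4 at a rational point, so that F₀ is the equation of the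
special fibre made constant; this row takes them to be arbitrary units.) -/
theorem result (R : Type u) [CommRing R] [CharP R 2]
    (l0 l2 l4 s0 s2 s4 τ lam sig κ₁ κ₂ : R) (hl4 : IsUnit l4) (hs4 : IsUnit s4) (hlam : IsUnit lam)
    (hsig : IsUnit sig) (h₁ : s4 ^ 2 * κ₁ ^ 3 = sig ^ 2) (h₂ : l4 ^ 2 * κ₂ ^ 3 = lam ^ 2) :
    ∃ φ : MvPowerSeries (Fin 3) R ≃ₐ[R] MvPowerSeries (Fin 3) R,
      φ ((X 2 ^ 2 + C (s0 ^ 2) * X 0 ^ 3 * X 1 ^ 4 + C (s2 ^ 2) * X 0 ^ 3 * X 1 ^ 2 +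
          C (s4 ^ 2) * X 0 ^ 3 + C (l0 ^ 2) * X 0 ^ 4 * X 1 ^ 3 + C (l2 ^ 2) * X 0 ^ 2 * X 1 ^ 3 +
          C (l4 ^ 2) * X 1 ^ 3 + C (τ ^ 2) * X 0 ^ 3 * X 1 ^ 3 : MvPowerSeries (Fin 3) R)) =
        (X 2 ^ 2 + C (sig ^ 2) * X 0 ^ 3 + C (lam ^ 2) * X 1 ^ 3 : MvPowerSeries (Fin 3) R) := by
  classical
  -- inverses
  have hκ₁ : IsUnit κ₁ := by
    have : IsUnit (s4 ^ 2 * κ₁ ^ 3) := by rw [h₁]; exact hsig.pow 2
    exact (isUnit_pow_iff (by norm_num : (3 : ℕ) ≠ 0)).1 (isUnit_of_mul_isUnit_right this)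
  have hκ₂ : IsUnit κ₂ := by
    have : IsUnit (l4 ^ 2 * κ₂ ^ 3) := by rw [h₂]; exact hlam.pow 2
    exact (isUnit_pow_iff (by norm_num : (3 : ℕ) ≠ 0)).1 (isUnit_of_mul_isUnit_right this)
  obtain ⟨k1i, hk1i⟩ := hκ₁.exists_right_inv
  obtain ⟨k2i, hk2i⟩ := hκ₂.exists_right_inv
  obtain ⟨s4i, hs4i⟩ := hs4.exists_right_inv
  obtain ⟨l4i, hl4i⟩ := hl4.exists_right_inv
  -- cube roots
  obtain ⟨ρA, hρA, hρA0⟩ := exists_cube_root (R := R) (σ := Fin 3)
    (X 1 * (C (s4i ^ 2) * (C (s2 ^ 2) * X 1 + C (s0 ^ 2) * X 1 ^ 3 + C (τ ^ 2) * X 1 ^ 2)))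
    (Ideal.mul_mem_right _ _ (Ideal.subset_span ⟨1, rfl⟩))
  obtain ⟨ρB, hρB, hρB0⟩ := exists_cube_root (R := R) (σ := Fin 3)
    (X 0 * (C (l4i ^ 2) * (C (l2 ^ 2) * X 0 + C (l0 ^ 2) * X 0 ^ 3)))
    (Ideal.mul_mem_right _ _ (Ideal.subset_span ⟨0, rfl⟩))
  set y : Fin 3 → MvPowerSeries (Fin 3) R := ![(C k1i * ρA) * X 0, (C k2i * ρB) * X 1, 1 * X 2] with hy
  have hy0 : y 0 = (C k1i * ρA) * X 0 := rfl
  have hy1 : y 1 = (C k2i * ρB) * X 1 := rfl
  have hy2 : y 2 = 1 * X 2 := rfl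
  have h0 : ∀ i, constantCoeff (y i) = 0 := by
    intro i
    fin_cases i
    · simp [hy0]
    · simp [hy1]
    · simp [hy2]
  have hdet : Matrix.det (Matrix.of fun i j : Fin 3 => coeff (Finsupp.single j 1) (y i)) = k1i * k2i := by
    rw [Matrix.det_fin_three]
    simp only [Matrix.of_apply, hy0, hy1, hy2, coeff_single_mul_X, map_mul, hρA0, hρB0, constantCoeff_C,
      map_one]
    simp
  have hJ : IsUnit (Matrix.det (Matrix.of fun i j : Fin 3 => coeff (Finsupp.single j 1) (y i))) := by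
    rw [hdet]
    have u1 : IsUnit k1i := IsUnit.of_mul_eq_one_right κ₁ hk1i
    have u2 : IsUnit k2i := IsUnit.of_mul_eq_one_right κ₂ hk2i
    exact u1.mul u2
  obtain ⟨φ, hφ⟩ := exists_algEquiv_of_subst y h0 hJ
  have hys : HasSubst y := hasSubst_of_constantCoeff_zero h0
  have key : subst y (X 2 ^ 2 + C (sig ^ 2) * X 0 ^ 3 + C (lam ^ 2) * X 1 ^ 3 : MvPowerSeries (Fin 3) R) =
      (X 2 ^ 2 + C (s0 ^ 2) * X 0 ^ 3 * X 1 ^ 4 + C (s2 ^ 2) * X 0 ^ 3 * X 1 ^ 2 +
          C (s4 ^ 2) * X 0 ^ 3 + C (l0 ^ 2) * X 0 ^ 4 * X 1 ^ 3 + C (l2 ^ 2) * X 0 ^ 2 * X 1 ^ 3 +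
          C (l4 ^ 2) * X 1 ^ 3 + C (τ ^ 2) * X 0 ^ 3 * X 1 ^ 3 : MvPowerSeries (Fin 3) R) := by
    rw [← substAlgHom_apply (R := R) hys]
    have hC : ∀ r : R, substAlgHom (R := R) hys (C r) = C r := by
      intro r
      have : (C r : MvPowerSeries (Fin 3) R) = algebraMap R _ r := rfl
      rw [this, AlgHom.commutes]
    simp only [map_add, map_mul, map_pow, substAlgHom_X, hC]
    rw [hy0, hy1, hy2]
    have e1 := congrArg (C (σ := Fin 3) (R := R)) h₁
    have e2 := congrArg (C (σ := Fin 3) (R := R)) h₂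
    have e3 := congrArg (C (σ := Fin 3) (R := R)) hk1i
    have e4 := congrArg (C (σ := Fin 3) (R := R)) hk2i
    have e5 := congrArg (C (σ := Fin 3) (R := R)) hs4i
    have e6 := congrArg (C (σ := Fin 3) (R := R)) hl4i
    simp only [map_mul, map_pow, map_one] at e1 e2 e3 e4 e5 e6 hρA hρB
    generalize (C κ₁ : MvPowerSeries (Fin 3) R) = K1 at *
    generalize (C κ₂ : MvPowerSeries (Fin 3) R) = K2 at *
    generalize (C k1i : MvPowerSeries (Fin 3) R) = K1i at *
    generalize (C k2i : MvPowerSeries (Fin 3) R) = K2i at *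
    generalize (C s4i : MvPowerSeries (Fin 3) R) = S4i at *
    generalize (C l4i : MvPowerSeries (Fin 3) R) = L4i at *
    generalize (C sig : MvPowerSeries (Fin 3) R) = SIG at *
    generalize (C lam : MvPowerSeries (Fin 3) R) = LAM at *
    generalize (C l4 : MvPowerSeries (Fin 3) R) = L4 at *
    generalize (C l2 : MvPowerSeries (Fin 3) R) = L2 at *
    generalize (C l0 : MvPowerSeries (Fin 3) R) = L0 at *
    generalize (C s4 : MvPowerSeries (Fin 3) R) = S4 at *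
    generalize (C s2 : MvPowerSeries (Fin 3) R) = S2 at *
    generalize (C s0 : MvPowerSeries (Fin 3) R) = S0 at *
    generalize (C τ : MvPowerSeries (Fin 3) R) = T at *
    generalize (X 0 : MvPowerSeries (Fin 3) R) = a at *
    generalize (X 1 : MvPowerSeries (Fin 3) R) = b at *
    generalize (X 2 : MvPowerSeries (Fin 3) R) = c at *
    linear_combination (-(K1i ^ 3 * ρA ^ 3 * a ^ 3)) * e1 +
      (S4 ^ 2 * ρA ^ 3 * a ^ 3 * ((K1 * K1i) ^ 2 + K1 * K1i + 1)) * e3 +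
      (S4 ^ 2 * a ^ 3) * hρA +
      ((S4 * S4i + 1) * (S2 ^ 2 * b ^ 2 + S0 ^ 2 * b ^ 4 + T ^ 2 * b ^ 3) * a ^ 3) * e5 +
      (-(K2i ^ 3 * ρB ^ 3 * b ^ 3)) * e2 +
      (L4 ^ 2 * ρB ^ 3 * b ^ 3 * ((K2 * K2i) ^ 2 + K2 * K2i + 1)) * e4 +
      (L4 ^ 2 * b ^ 3) * hρB +
      ((L4 * L4i + 1) * (L2 ^ 2 * a ^ 2 + L0 ^ 2 * a ^ 4) * b ^ 3) * e6
  refine ⟨φ, ?_⟩
  rw [← key]
  exact hφ _

end Groth.Agent.S13127
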