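import Groth.Statements.S13128
import Mathlib
import Groth.Agent.Lib.FormalInverse50

set_option autoImplicit false
universe u
open KumFam

namespace Groth.Agent.S13128

section helpers
open MvPowerSeries

variable {R : Type*} [CommRing R]

theorem exists_algEquiv_of_subst {σ : Type*} [Fintype σ] [DecidableEq σ]
    (y : σ → MvPowerSeries σ R) (h0 : ∀ i, constantCoeff (y i) = 0)
    (hJ : IsUnit (Matrix.det (Matrix.of fun i j : σ => coeff (Finsupp.single j 1) (y i)))) :
    ∃ φ : MvPowerSeries σ R ≃ₐ[R] MvPowerSeries σ R,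
      ∀ f : MvPowerSeries σ R, φ (subst y f) = f := by
  have hy : HasSubst y := hasSubst_of_constantCoeff_zero h0
  have hbij : Function.Bijective (substAlgHom (R := R) hy) := by
    rw [coe_substAlgHom]
    exact Groth.Agent.Lib.FormalInverse50.subst_bijective_of_isUnit_det y h0 hJ
  refine ⟨(AlgEquiv.ofBijective (substAlgHom (R := R) hy) hbij).symm, fun f => ?_⟩
  rw [← substAlgHom_apply hy]
  exact (AlgEquiv.ofBijective (substAlgHom (R := R) hy) hbij).symm_apply_apply f

/-- degree one coefficient of `f * X s` -/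
theorem coeff_single_mul_X {σ : Type*} [DecidableEq σ] (f : MvPowerSeries σ R) (s k : σ) :
    coeff (Finsupp.single k 1) (f * X s) = if k = s then constantCoeff f else 0 := by
  rw [Groth.Agent.Lib.FormalInverse50.coeff_single_mul f (X s) (constantCoeff_X s) k,
    coeff_index_single_X]
  split_ifs <;> simp

end helpers

open MvPowerSeries in
/-- Let R be a commutative ring of characteristic 2, l0, l2, l4, s0, s2, s4, τ ∈ R with τ a unit, and α,
β ∈ R with l4² α⁴ + l2² α² + τ² α + l0² = 0 and s4² β⁴ + s2² β² + τ² β + s0² = 0. In characteristic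
2 these relations give τ² α = (l4 α² + l2 α + l0)² and τ² β = (s4 β² + s2 β + s0)², so α = α′² and β
= β′² with α′ = (l4 α² + l2 α + l0)/τ and β′ = (s4 β² + s2 β + s0)/τ. In R[[a, b, c]] (a = X 0, b =
X 1, c = X 2) put h = c² + τ² a b + (s4² b⁴ + s2² b²) a + (l4² a⁴ + l2² a²) b + l4² β a⁴ + l2² β a²
+ s4² α b⁴ + s2² α b²; this is the chart equation c² + τ² a b + (s4² b⁴ + s2² b² + s0²) a + (l4² a⁴
+ l2² a² + l0²) b after the substitution a ↦ a + α, b ↦ b + β, c ↦ c + τ α′ β′, which moves the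
point (α, β, τ α′ β′) of that surface, where all partial derivatives vanish, to the origin. Then
some R-algebra automorphism of R[[a, b, c]] maps h to c² + a b; consequently R[[a, b, c]]/(h) ≅
R[[a, b, c]]/(c² + a b), the completed local ring of an ordinary double point, constant over R. (The
published statement translates only a and b, so that its h carries the additional constant term τ² α
β; with that term h is a unit of R[[a, b, c]] whenever τ α β is a unit, for instance c² + a b + 1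
over the field with two elements with l0 = s0 = τ = α = β = 1 and l2 = l4 = s2 = s4 = 0, and no ring
automorphism carries a unit to c² + a b. The published proof begins by shifting c by a polynomial in
a, b whose constant term is τ α′ β′, a substitution of the polynomial ring which removes the term τ²
α β, and the rest of its argument takes place in R[[a, b, c]]; this row states the result for the
fully translated equation, which is what that argument proves.) -/
theorem result (R : Type u) [CommRing R] [CharP R 2]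
    (l0 l2 l4 s0 s2 s4 τ α β : R) (hτ : IsUnit τ)
    (hα : l4 ^ 2 * α ^ 4 + l2 ^ 2 * α ^ 2 + τ ^ 2 * α + l0 ^ 2 = 0)
    (hβ : s4 ^ 2 * β ^ 4 + s2 ^ 2 * β ^ 2 + τ ^ 2 * β + s0 ^ 2 = 0) :
    ∃ φ : MvPowerSeries (Fin 3) R ≃ₐ[R] MvPowerSeries (Fin 3) R,
      φ ((X 2 ^ 2 + C (τ ^ 2) * X 0 * X 1 + (C (s4 ^ 2) * X 1 ^ 4 + C (s2 ^ 2) * X 1 ^ 2) * X 0 +
          (C (l4 ^ 2) * X 0 ^ 4 + C (l2 ^ 2) * X 0 ^ 2) * X 1 + C (l4 ^ 2 * β) * X 0 ^ 4 +
          C (l2 ^ 2 * β) * X 0 ^ 2 + C (s4 ^ 2 * α) * X 1 ^ 4 + C (s2 ^ 2 * α) * X 1 ^ 2 :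
          MvPowerSeries (Fin 3) R)) =
        (X 2 ^ 2 + X 0 * X 1 : MvPowerSeries (Fin 3) R) := by
  classical
  obtain ⟨τi, hτi⟩ : ∃ τi, τ * τi = 1 := hτ.exists_right_inv
  have h2R : (2 : R) = 0 := by
    have := CharP.cast_eq_zero R 2
    exact_mod_cast this
  obtain ⟨α', hαeq⟩ : ∃ α', α = α' ^ 2 := by
    refine ⟨τi * (l4 * α ^ 2 + l2 * α + l0), ?_⟩
    linear_combination (-τi ^ 2) * hα + (α * (τ * τi + 1)) * hτi +
      (α - τi ^ 2 * (l4 * l2 * α ^ 3 + l4 * l0 * α ^ 2 + l2 * l0 * α)) * h2R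
  obtain ⟨β', hβeq⟩ : ∃ β', β = β' ^ 2 := by
    refine ⟨τi * (s4 * β ^ 2 + s2 * β + s0), ?_⟩
    linear_combination (-τi ^ 2) * hβ + (β * (τ * τi + 1)) * hτi +
      (β - τi ^ 2 * (s4 * s2 * β ^ 3 + s4 * s0 * β ^ 2 + s2 * s0 * β)) * h2R
  have h2 : (2 : MvPowerSeries (Fin 3) R) = 0 := by
    have := congrArg (C (σ := Fin 3) (R := R)) h2R
    rw [map_ofNat, map_zero] at this
    exact this
  set u : MvPowerSeries (Fin 3) R :=
    C (τ ^ 2) + C (s4 ^ 2) * X 1 ^ 3 + C (s2 ^ 2) * X 1 + C (l4 ^ 2) * X 0 ^ 3 + C (l2 ^ 2) * X 0 with hu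
  set Q0 : MvPowerSeries (Fin 3) R := C β' * (C l4 * X 0 + C l2) with hQ0
  set Q1 : MvPowerSeries (Fin 3) R := C α' * (C s4 * X 1 + C s2) with hQ1
  set y : Fin 3 → MvPowerSeries (Fin 3) R := ![u * X 0, X 1, X 2 + Q0 * X 0 + Q1 * X 1] with hy
  have hy0 : y 0 = u * X 0 := rfl
  have hy1 : y 1 = X 1 := rfl
  have hy2 : y 2 = X 2 + Q0 * X 0 + Q1 * X 1 := rfl
  have h0 : ∀ i, constantCoeff (y i) = 0 := by
    intro i
    fin_cases i
    · simp [hy0]
    · simp [hy1]
    · simp [hy2]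
  have hcu : constantCoeff u = τ ^ 2 := by simp [hu]
  have hdet : Matrix.det (Matrix.of fun i j : Fin 3 => coeff (Finsupp.single j 1) (y i)) = τ ^ 2 := by
    rw [Matrix.det_fin_three]
    simp only [Matrix.of_apply, hy0, hy1, hy2, map_add, coeff_single_mul_X, coeff_index_single_X, hcu]
    simp
  have hJ : IsUnit (Matrix.det (Matrix.of fun i j : Fin 3 => coeff (Finsupp.single j 1) (y i))) := by
    rw [hdet]
    exact hτ.pow 2
  obtain ⟨φ, hφ⟩ := exists_algEquiv_of_subst y h0 hJ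
  have hys : HasSubst y := hasSubst_of_constantCoeff_zero h0
  have key : subst y (X 2 ^ 2 + X 0 * X 1 : MvPowerSeries (Fin 3) R) =
      (X 2 ^ 2 + C (τ ^ 2) * X 0 * X 1 + (C (s4 ^ 2) * X 1 ^ 4 + C (s2 ^ 2) * X 1 ^ 2) * X 0 +
          (C (l4 ^ 2) * X 0 ^ 4 + C (l2 ^ 2) * X 0 ^ 2) * X 1 + C (l4 ^ 2 * β) * X 0 ^ 4 +
          C (l2 ^ 2 * β) * X 0 ^ 2 + C (s4 ^ 2 * α) * X 1 ^ 4 + C (s2 ^ 2 * α) * X 1 ^ 2 :
          MvPowerSeries (Fin 3) R) := by
    rw [← substAlgHom_apply (R := R) hys]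
    simp only [map_add, map_mul, map_pow, substAlgHom_X]
    rw [hy0, hy1, hy2, hu, hQ0, hQ1, hαeq, hβeq]
    simp only [map_mul, map_pow]
    generalize (C α' : MvPowerSeries (Fin 3) R) = A
    generalize (C β' : MvPowerSeries (Fin 3) R) = B
    generalize (C l4 : MvPowerSeries (Fin 3) R) = L4
    generalize (C l2 : MvPowerSeries (Fin 3) R) = L2
    generalize (C s4 : MvPowerSeries (Fin 3) R) = S4
    generalize (C s2 : MvPowerSeries (Fin 3) R) = S2
    generalize (C τ : MvPowerSeries (Fin 3) R) = T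
    generalize (X 0 : MvPowerSeries (Fin 3) R) = a
    generalize (X 1 : MvPowerSeries (Fin 3) R) = b
    generalize (X 2 : MvPowerSeries (Fin 3) R) = c
    linear_combination (c * (B * (L4 * a + L2) * a) + c * (A * (S4 * b + S2) * b) +
      (B * (L4 * a + L2) * a) * (A * (S4 * b + S2) * b) + B ^ 2 * L4 * L2 * a ^ 3 +
      A ^ 2 * S4 * S2 * b ^ 3) * h2
  refine ⟨φ, ?_⟩
  rw [← key]
  exact hφ _

end Groth.Agent.S13128
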