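import Groth.Statements.S13130
import Mathlib.RingTheory.IntegralClosure.IsIntegralClosure.Basic
import Mathlib.GroupTheory.OrderOfElement

set_option autoImplicit false
universe u v
open KumFam

namespace Groth.Agent.S13130

/-- Let R be a nontrivial commutative ring and M a commutative group, with group algebra R[M], the
coordinate ring of the diagonalizable group scheme D(M) over Spec R. Then D(M) is integral over Spec
R, i.e. R[M] is an integral R-algebra, if and only if M is a torsion group. (The published statement
is over an arbitrary base scheme; the question is local and this row is the affine form, with R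
nontrivial so that the elements of M are R-linearly independent.) -/
theorem result (R : Type u) [CommRing R] [Nontrivial R]
    (M : Type v) [CommGroup M] :
    Algebra.IsIntegral R (MonoidAlgebra R M) ↔ IsMulTorsion M := by
  constructor
  · intro h g
    by_contra hg
    have hinj : Function.Injective (fun n : ℕ => g ^ n) := injective_pow_iff_not_isOfFinOrder.mpr hg
    obtain ⟨P, hmonic, hP⟩ := (Algebra.IsIntegral.isIntegral (R := R) (MonoidAlgebra.of R M g))
    rw [Polynomial.eval₂_eq_sum_range] at hP
    have h1 := congrArg (fun f : MonoidAlgebra R M => f.coeff (g ^ P.natDegree)) hP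
    have h0 : ∀ i : ℕ, algebraMap R (MonoidAlgebra R M) (P.coeff i) * (MonoidAlgebra.of R M) g ^ i =
        MonoidAlgebra.single (g ^ i) (P.coeff i) := by
      intro i
      rw [← map_pow, MonoidAlgebra.of_apply, MonoidAlgebra.coe_algebraMap, Function.comp_apply,
        MonoidAlgebra.single_mul_single, one_mul, mul_one]
      rfl
    simp only [h0, MonoidAlgebra.coeff_sum, Finsupp.coe_finsetSum, Finset.sum_apply,
      MonoidAlgebra.coeff_zero, Finsupp.coe_zero, Pi.zero_apply, MonoidAlgebra.coeff_single] at h1
    have h2 : ∀ i ∈ Finset.range (P.natDegree + 1),
        (Finsupp.single (g ^ i) (P.coeff i) : M →₀ R) (g ^ P.natDegree) =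
          if i = P.natDegree then P.coeff i else 0 := by
      intro i _
      classical
      rw [Finsupp.single_apply]
      by_cases hi : i = P.natDegree
      · subst hi; simp
      · have : g ^ i ≠ g ^ P.natDegree := fun e => hi (hinj e)
        simp [hi, this]
    rw [Finset.sum_congr rfl h2, Finset.sum_ite_eq'] at h1
    simp only [Finset.mem_range, Nat.lt_succ_self, if_true] at h1
    rw [Polynomial.coeff_natDegree, hmonic.leadingCoeff] at h1
    exact one_ne_zero h1
  · intro h
    refine ⟨fun x => ?_⟩
    induction x using MonoidAlgebra.induction_on with
    | of g =>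
      obtain ⟨n, hn, hgn⟩ := isOfFinOrder_iff_pow_eq_one.mp (h g)
      apply IsIntegral.of_pow hn
      rw [← map_pow, hgn, map_one]
      exact isIntegral_one
    | add f g hf hg => exact hf.add hg
    | smul r f hf => exact hf.smul r

end Groth.Agent.S13130
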