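import Groth.Statements.S13131
import Mathlib.AlgebraicGeometry.Gluing
import Mathlib.AlgebraicGeometry.Restrict

set_option autoImplicit false
universe u
open CategoryTheory CategoryTheory.Limits AlgebraicGeometry
open KumFam

namespace Groth.Agent.S13131

variable (S : Scheme.{u}) (M : Type u)

/-- The index of the copy of `S` containing a point of `∐_M S`. -/
noncomputable def idx (c : (∐ (fun _ : M => S) : Scheme.{u})) : M :=
  ((sigmaMk (fun _ : M => S)).symm c).1

lemma idx_ι (m : M) (s : S) : idx S M (Sigma.ι (fun _ : M => S) m s) = m := by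
  unfold idx
  rw [← sigmaMk_mk, Homeomorph.symm_apply_apply]

lemma mem_opensRange_iff (m : M) (c : (∐ (fun _ : M => S) : Scheme.{u})) :
    c ∈ (Sigma.ι (fun _ : M => S) m).opensRange ↔ idx S M c = m := by
  constructor
  · rintro ⟨s, rfl⟩
    exact idx_ι S M m s
  · intro h
    obtain ⟨⟨m', s⟩, rfl⟩ := (sigmaMk (fun _ : M => S)).surjective c
    rw [sigmaMk_mk] at h ⊢
    rw [idx_ι] at h
    subst h
    exact ⟨s, rfl⟩

lemma isLocallyConstant_idx : IsLocallyConstant (idx S M) := by
  have h : IsLocallyConstant (Sigma.fst : (Σ _ : M, S) → M) := by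
    intro s
    rw [isOpen_sigma_iff]
    intro m
    by_cases hm : m ∈ s
    · convert isOpen_univ
      ext x; simpa using hm
    · convert isOpen_empty
      ext x; simpa using hm
  exact h.comp_continuous (sigmaMk (fun _ : M => S)).symm.continuous

variable {S M}

/-- Key lemma: on an open of `T` mapping into the `m`-th copy, a morphism over `S` is `p ≫ ι m`. -/
lemma key {T : Scheme.{u}} (p : T ⟶ S) (f : T ⟶ ∐ (fun _ : M => S))
    (hf : f ≫ Sigma.desc (fun _ : M => 𝟙 S) = p) (m : M) (U : T.Opens)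
    (hU : U ≤ f ⁻¹ᵁ (Sigma.ι (fun _ : M => S) m).opensRange) :
    U.ι ≫ f = U.ι ≫ p ≫ Sigma.ι (fun _ : M => S) m := by
  have hr : Set.range (U.ι ≫ f) ⊆ Set.range (Sigma.ι (fun _ : M => S) m) := by
    rintro _ ⟨x, rfl⟩
    exact hU x.2
  have h1 := IsOpenImmersion.lift_fac (Sigma.ι (fun _ : M => S) m) (U.ι ≫ f) hr
  have h2 : IsOpenImmersion.lift (Sigma.ι (fun _ : M => S) m) (U.ι ≫ f) hr = U.ι ≫ p := by
    calc IsOpenImmersion.lift (Sigma.ι (fun _ : M => S) m) (U.ι ≫ f) hr
        = IsOpenImmersion.lift (Sigma.ι (fun _ : M => S) m) (U.ι ≫ f) hr ≫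
            (Sigma.ι (fun _ : M => S) m ≫ Sigma.desc (fun _ : M => 𝟙 S)) := by
          rw [Sigma.ι_desc, Category.comp_id]
      _ = (U.ι ≫ f) ≫ Sigma.desc (fun _ : M => 𝟙 S) := by
          rw [← Category.assoc, h1]
      _ = U.ι ≫ p := by rw [Category.assoc, hf]
  rw [← h1, h2, Category.assoc]

/-- Let S be a scheme, M a set and p : T → S a scheme over S. The S-morphisms T → ∐_{m ∈ M} S (the
constant S-scheme on M, with its structure map the codiagonal) are in bijection with the locally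
constant maps T → M, a morphism f corresponding to the function sending t to the index of the copy
of S containing f(t). (In the published statement M is a group and ∐_M S the constant group scheme;
the group structures play no role in this description of T-points.) -/
theorem result (S : Scheme.{u}) (M : Type u)
    (T : Scheme.{u}) (p : T ⟶ S) :
    ∃ e : {f : T ⟶ ∐ (fun _ : M => S) // f ≫ Sigma.desc (fun _ : M => 𝟙 S) = p} ≃
        LocallyConstant T M,
      ∀ (f : {f : T ⟶ ∐ (fun _ : M => S) // f ≫ Sigma.desc (fun _ : M => 𝟙 S) = p}) (t : T),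
        e f t = ((sigmaMk (fun _ : M => S)).symm (f.1.base t)).1 := by
  let F : {f : T ⟶ ∐ (fun _ : M => S) // f ≫ Sigma.desc (fun _ : M => 𝟙 S) = p} →
      LocallyConstant T M := fun f =>
    ⟨fun t => idx S M (f.1 t), (isLocallyConstant_idx S M).comp_continuous f.1.continuous⟩
  have hinj : Function.Injective F := by
    rintro ⟨f₁, h₁⟩ ⟨f₂, h₂⟩ h
    have hpt : ∀ t, idx S M (f₁ t) = idx S M (f₂ t) := fun t => congr($h t)
    apply Subtype.ext
    apply Scheme.hom_ext_of_forall
    intro t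
    refine ⟨f₁ ⁻¹ᵁ (Sigma.ι (fun _ : M => S) (idx S M (f₁ t))).opensRange, ?_, ?_⟩
    · exact (mem_opensRange_iff S M _ _).mpr rfl
    · rw [key p f₁ h₁ _ _ le_rfl, key p f₂ h₂ (idx S M (f₁ t)) _ ?_]
      intro t' ht'
      have := (mem_opensRange_iff S M _ _).mp ht'
      exact (mem_opensRange_iff S M _ _).mpr ((hpt t').symm.trans this)
  have hsurj : Function.Surjective F := by
    intro ℓ
    let U : M → T.Opens := fun m => ⟨ℓ ⁻¹' {m}, ℓ.isLocallyConstant.isOpen_fiber m⟩
    have hU : TopologicalSpace.IsOpenCover U := by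
      rw [TopologicalSpace.IsOpenCover, eq_top_iff]
      intro t _
      exact TopologicalSpace.Opens.mem_iSup.mpr ⟨ℓ t, rfl⟩
    let 𝒰 : T.OpenCover := T.openCoverOfIsOpenCover U hU
    let g : ∀ m, 𝒰.X m ⟶ ∐ (fun _ : M => S) := fun m =>
      (U m).ι ≫ p ≫ Sigma.ι (fun _ : M => S) m
    have hg : ∀ m m', pullback.fst (𝒰.f m) (𝒰.f m') ≫ g m = pullback.snd _ _ ≫ g m' := by
      intro m m'
      by_cases hmm : m = m'
      · subst hmm
        have : pullback.fst (𝒰.f m) (𝒰.f m) = pullback.snd (𝒰.f m) (𝒰.f m) := by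
          rw [← cancel_mono (𝒰.f m)]
          exact pullback.condition
        rw [this]
      · have : IsEmpty ↑(pullback (𝒰.f m) (𝒰.f m')) := by
          refine ⟨fun z => hmm ?_⟩
          have h1 : ℓ ((pullback.fst (𝒰.f m) (𝒰.f m') ≫ 𝒰.f m) z) = m :=
            ((pullback.fst (𝒰.f m) (𝒰.f m')) z).2
          have h2 : ℓ ((pullback.snd (𝒰.f m) (𝒰.f m') ≫ 𝒰.f m') z) = m' :=
            ((pullback.snd (𝒰.f m) (𝒰.f m')) z).2
          rw [pullback.condition] at h1
          exact h1.symm.trans h2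
        exact isInitialOfIsEmpty.hom_ext _ _
    let f : T ⟶ ∐ (fun _ : M => S) := 𝒰.glueMorphisms g hg
    have hfg : ∀ m, (U m).ι ≫ f = g m := fun m => 𝒰.ι_glueMorphisms g hg m
    have hfp : f ≫ Sigma.desc (fun _ : M => 𝟙 S) = p := by
      apply 𝒰.hom_ext
      intro m
      change (U m).ι ≫ f ≫ _ = (U m).ι ≫ p
      rw [← Category.assoc, hfg m]
      change ((U m).ι ≫ p ≫ Sigma.ι (fun _ : M => S) m) ≫ _ = _
      rw [Category.assoc, Category.assoc, Sigma.ι_desc, Category.comp_id]
    refine ⟨⟨f, hfp⟩, ?_⟩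
    ext t
    change idx S M (f t) = ℓ t
    have ht : t ∈ U (ℓ t) := rfl
    have : f t = ((U (ℓ t)).ι ≫ f) ⟨t, ht⟩ := rfl
    rw [this, hfg]
    change idx S M (Sigma.ι (fun _ : M => S) (ℓ t) _) = _
    rw [idx_ι]
  exact ⟨Equiv.ofBijective F ⟨hinj, hsurj⟩, fun f t => rfl⟩

end Groth.Agent.S13131
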