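import Groth.Statements.S13138
import Mathlib
import Groth.Agent.Lib.W2Flat88

set_option autoImplicit false
universe u
open scoped BigOperators
open FrobAlg

namespace Groth.Agent.S13138

section helpers

open MvPolynomial

variable (p : ℕ) [Fact p.Prime] (k : Type u) [Field k] [CharP k p] [PerfectRing k p] {n : ℕ}

local notation "W" => FrobAlg.W2 p k
local notation "R'" => MvPolynomial (Fin n) (FrobAlg.W2 p k)
local notation "Rk" => MvPolynomial (Fin n) k

theorem p_mul_p : (p : R') * (p : R') = 0 := by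
  have := Groth.Agent.Lib.W2Flat88.p_sq_W2 p k
  have h2 := congrArg (C : W →+* R') this
  rw [map_pow, map_natCast, map_zero, pow_two] at h2
  exact h2

theorem p_mul_add_pow (a b : R') : (p : R') * (a + b) ^ p = p * a ^ p + p * b ^ p := by
  obtain ⟨r, hr⟩ := exists_add_pow_prime_eq (Fact.out : p.Prime) a b
  rw [hr]
  have := p_mul_p p k (n := n)
  linear_combination (a * b * r) * this

theorem res_sigma (c : W) : FrobAlg.res p k (FrobAlg.sigma p k c) = FrobAlg.res p k c ^ p := by
  rw [FrobAlg.res_apply, FrobAlg.res_apply, FrobAlg.sigma, WittGrp.coeff_frob]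

theorem ker_res : RingHom.ker (FrobAlg.res p k) = Ideal.span {(p : W)} := by
  have h1 : FrobAlg.res p k = Groth.Agent.Lib.SigmaLin.c0 p k 1 := by
    ext x
    rw [FrobAlg.res_apply]; rfl
  rw [h1, Groth.Agent.Lib.SigmaLin.ker_c0]

theorem ker_mapres : RingHom.ker (MvPolynomial.map (σ := Fin n) (FrobAlg.res p k)) =
    Ideal.span {(p : R')} := by
  rw [MvPolynomial.ker_map, ker_res, Ideal.map_span, Set.image_singleton, map_natCast]

/-- the semilinear endomorphism `x_j ↦ x_j^p - p h_j` -/
noncomputable def Phit (h : Fin n → R') : R' →+* R' :=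
  MvPolynomial.eval₂Hom (MvPolynomial.C.comp (FrobAlg.sigma p k)) fun j => X j ^ p - (p : R') * h j

theorem Phit_C (h : Fin n → R') (c : W) :
    Phit p k h (C c) = C (FrobAlg.sigma p k c) := by
  simp only [Phit, coe_eval₂Hom, eval₂_C, RingHom.comp_apply]

theorem Phit_X (h : Fin n → R') (j : Fin n) :
    Phit p k h (X j) = X j ^ p - (p : R') * h j := by
  simp only [Phit, coe_eval₂Hom, eval₂_X]

theorem Phit_zero : Phit p k (fun _ => (0 : R')) = FrobAlg.polyFrob p k (Fin n) := by
  unfold Phit FrobAlg.polyFrob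
  congr 1
  funext j
  rw [mul_zero, sub_zero]

theorem mapres_Phit (h : Fin n → R') (g : R') :
    MvPolynomial.map (FrobAlg.res p k) (Phit p k h g) = (MvPolynomial.map (FrobAlg.res p k) g) ^ p := by
  have : (MvPolynomial.map (FrobAlg.res p k)).comp (Phit p k h) =
      (frobenius Rk p).comp (MvPolynomial.map (FrobAlg.res p k)) := by
    apply MvPolynomial.ringHom_ext
    · intro c
      simp only [RingHom.comp_apply, Phit, coe_eval₂Hom, eval₂_C, map_C, frobenius_def]
      rw [res_sigma, map_pow]
    · intro j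
      simp only [RingHom.comp_apply, Phit, coe_eval₂Hom, eval₂_X, map_X, frobenius_def, map_sub,
        map_mul, map_pow, map_natCast]
      rw [CharP.cast_eq_zero, zero_mul, sub_zero]
  have := congrArg (fun f => f g) this
  simpa [frobenius_def] using this

theorem polyFrob_sub_pow_mem (g : R') :
    FrobAlg.polyFrob p k (Fin n) g - g ^ p ∈ Ideal.span {(p : R')} := by
  rw [← ker_mapres, RingHom.mem_ker, map_sub, ← Phit_zero, mapres_Phit, map_pow, sub_self]

theorem p_mul_polyFrob (g : R') : (p : R') * FrobAlg.polyFrob p k (Fin n) g = p * g ^ p := by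
  have := polyFrob_sub_pow_mem p k g
  rw [Ideal.mem_span_singleton'] at this
  obtain ⟨w, hw⟩ := this
  have h2 := p_mul_p p k (n := n)
  linear_combination w * h2 - (p : R') * hw

theorem p_mul_D_mul_X (h : Fin n → R') (g : R') (i : Fin n) :
    (p : R') * ∑ j, pderiv j (g * X i) ^ p * h j =
      (p : R') * (X i ^ p * ∑ j, pderiv j g ^ p * h j) + (p : R') * (g ^ p * h i) := by
  classical
  have hp0 : p ≠ 0 := (Fact.out : p.Prime).ne_zero
  have key : ∀ j, (p : R') * (pderiv j (g * X i) ^ p * h j) =
      (p : R') * (X i ^ p * (pderiv j g ^ p * h j)) +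
        (p : R') * ((g * Pi.single (M := fun _ => R') j 1 i) ^ p * h j) := by
    intro j
    rw [pderiv_mul, pderiv_X, ← mul_assoc, p_mul_add_pow, mul_pow]
    ring
  rw [Finset.mul_sum, Finset.sum_congr rfl (fun j _ => key j), Finset.sum_add_distrib,
    ← Finset.mul_sum, ← Finset.mul_sum, ← Finset.mul_sum]
  congr 2
  rw [Finset.sum_eq_single i]
  · rw [Pi.single_eq_same, mul_one]
  · intro j _ hj
    rw [Pi.single_eq_of_ne (Ne.symm hj), mul_zero, zero_pow hp0, zero_mul]
  · intro hi
    exact absurd (Finset.mem_univ i) hi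

/-- Taylor expansion modulo `p²` -/
theorem Phit_eq (h : Fin n → R') (g : R') :
    Phit p k h g = FrobAlg.polyFrob p k (Fin n) g - (p : R') * ∑ j, pderiv j g ^ p * h j := by
  have hp0 : p ≠ 0 := (Fact.out : p.Prime).ne_zero
  induction g using MvPolynomial.induction_on with
  | C c =>
    simp only [Phit, FrobAlg.polyFrob, coe_eval₂Hom, eval₂_C, pderiv_C, zero_pow hp0, zero_mul,
      Finset.sum_const_zero, mul_zero, sub_zero]
  | add a b ha hb =>
    rw [map_add, map_add, ha, hb]
    have : (p : R') * ∑ j, pderiv j (a + b) ^ p * h j =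
        (p : R') * ∑ j, pderiv j a ^ p * h j + (p : R') * ∑ j, pderiv j b ^ p * h j := by
      rw [Finset.mul_sum, Finset.mul_sum, Finset.mul_sum, ← Finset.sum_add_distrib]
      apply Finset.sum_congr rfl
      intro j _
      rw [map_add, ← mul_assoc, p_mul_add_pow]
      ring
    rw [this]; ring
  | mul_X g i hg =>
    rw [map_mul, map_mul, hg, p_mul_D_mul_X]
    have hX : Phit p k h (X i) = X i ^ p - (p : R') * h i := by
      simp only [Phit, coe_eval₂Hom, eval₂_X]
    have hFX : FrobAlg.polyFrob p k (Fin n) (X i) = X i ^ p := by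
      simp only [FrobAlg.polyFrob, coe_eval₂Hom, eval₂_X]
    rw [hX, hFX]
    have h1 := p_mul_polyFrob p k g
    have h2 := p_mul_p p k (n := n)
    linear_combination (-(h i)) * h1 + ((∑ j, pderiv j g ^ p * h j) * h i) * h2

end helpers

/-- Let k be a perfect field of characteristic p, R' = W₂(k)[x_1, …, x_n], f'_1, …, f'_m ∈ R' with
reductions f_1, …, f_m ∈ R = k[x_1, …, x_n], J' = (f'_1, …, f'_m), J = (f_1, …, f_m), and assume B'
= R'/J' is flat over W₂(k), so that it is a flat lifting of B = R/J. The Frobenius of B lifts to B'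
— there is a ring endomorphism of B' semilinear for the Witt-vector Frobenius σ₂ of W₂(k) and
reducing to the p-th power map of B — if and only if there are h_1, …, h_n ∈ R' with F'(f'_i) −
f'_i^p − p·Σ_j (∂f'_i/∂x_j)^p h_j ∈ pJ' for every i, where F' is the standard Frobenius lift of R'
(σ₂ on coefficients, x_j ↦ x_j^p). Since multiplication by p identifies R with pR', this is the
congruence P(f'_i) ≡ Σ_j (∂f_i/∂x_j)^p h_j modulo J for the Frobenius residues P(f'_i) = (F'(f'_i) −
f'_i^p)/p. -/
theorem result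
    (p : ℕ) [Fact p.Prime] (k : Type u) [Field k] [CharP k p] [PerfectRing k p]
    {n m : ℕ} (f' : Fin m → MvPolynomial (Fin n) (FrobAlg.W2 p k))
    (hflat : ((Ideal.Quotient.mk (Ideal.span (Set.range f'))).comp
      (MvPolynomial.C : FrobAlg.W2 p k →+* MvPolynomial (Fin n) (FrobAlg.W2 p k))).Flat) :
    (∃ Φ : (MvPolynomial (Fin n) (FrobAlg.W2 p k) ⧸ Ideal.span (Set.range f')) →+*
        (MvPolynomial (Fin n) (FrobAlg.W2 p k) ⧸ Ideal.span (Set.range f')),
      Φ.comp ((Ideal.Quotient.mk (Ideal.span (Set.range f'))).comp MvPolynomial.C) =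
        ((Ideal.Quotient.mk (Ideal.span (Set.range f'))).comp MvPolynomial.C).comp (FrobAlg.sigma p k) ∧
      ∀ b, Ideal.quotientMap ((Ideal.span (Set.range f')).map (MvPolynomial.map (FrobAlg.res p k)))
          (MvPolynomial.map (FrobAlg.res p k)) Ideal.le_comap_map (Φ b) =
        (Ideal.quotientMap ((Ideal.span (Set.range f')).map (MvPolynomial.map (FrobAlg.res p k)))
          (MvPolynomial.map (FrobAlg.res p k)) Ideal.le_comap_map b) ^ p) ↔
    ∃ h : Fin n → MvPolynomial (Fin n) (FrobAlg.W2 p k), ∀ i,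
      FrobAlg.polyFrob p k (Fin n) (f' i) - f' i ^ p
        - (p : MvPolynomial (Fin n) (FrobAlg.W2 p k)) * ∑ j, MvPolynomial.pderiv j (f' i) ^ p * h j
        ∈ Ideal.span {(p : MvPolynomial (Fin n) (FrobAlg.W2 p k))} * Ideal.span (Set.range f') := by
  classical
  have hρ : ∀ g : MvPolynomial (Fin n) (FrobAlg.W2 p k),
      Ideal.quotientMap ((Ideal.span (Set.range f')).map (MvPolynomial.map (FrobAlg.res p k)))
          (MvPolynomial.map (FrobAlg.res p k)) Ideal.le_comap_map
          (Ideal.Quotient.mk (Ideal.span (Set.range f')) g) =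
        Ideal.Quotient.mk _ (MvPolynomial.map (FrobAlg.res p k) g) := fun g =>
    Ideal.quotientMap_mk
  have hfmem : ∀ i, f' i ∈ Ideal.span (Set.range f') := fun i => Ideal.subset_span ⟨i, rfl⟩
  constructor
  · rintro ⟨Φ, h1, h2⟩
    -- choose lifts of Φ (x_j)
    have hex : ∀ j : Fin n, ∃ w : MvPolynomial (Fin n) (FrobAlg.W2 p k),
        Φ (Ideal.Quotient.mk _ (MvPolynomial.X j)) =
          Ideal.Quotient.mk (Ideal.span (Set.range f'))
            (MvPolynomial.X j ^ p + (p : MvPolynomial (Fin n) (FrobAlg.W2 p k)) * w) := by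
      intro j
      obtain ⟨g, hg⟩ := Ideal.Quotient.mk_surjective (Φ (Ideal.Quotient.mk _ (MvPolynomial.X j)))
      have h3 := h2 (Ideal.Quotient.mk _ (MvPolynomial.X j))
      rw [← hg, hρ, hρ, ← map_pow, Ideal.Quotient.eq, MvPolynomial.map_X] at h3
      rw [Ideal.mem_map_iff_of_surjective _
        (MvPolynomial.map_surjective _ (fun a => ⟨WittVector.truncate 2 (WittVector.teichmuller p a), by
          rw [FrobAlg.res_truncate]; exact WittVector.teichmuller_coeff_zero p a⟩))] at h3
      obtain ⟨u, hu, hu'⟩ := h3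
      have h4 : g - MvPolynomial.X j ^ p - u ∈ RingHom.ker
          (MvPolynomial.map (σ := Fin n) (FrobAlg.res p k)) := by
        rw [RingHom.mem_ker, map_sub, hu', map_sub, map_pow, MvPolynomial.map_X, sub_self]
      rw [ker_mapres, Ideal.mem_span_singleton'] at h4
      obtain ⟨w, hw⟩ := h4
      refine ⟨w, ?_⟩
      rw [← hg, Ideal.Quotient.eq]
      have : g - (MvPolynomial.X j ^ p + (p : MvPolynomial (Fin n) (FrobAlg.W2 p k)) * w) = u := by
        linear_combination -hw
      rw [this]; exact hu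
    choose w hw using hex
    obtain ⟨h, hh⟩ : ∃ h : Fin n → MvPolynomial (Fin n) (FrobAlg.W2 p k), ∀ j, h j = - w j :=
      ⟨fun j => - w j, fun j => rfl⟩
    refine ⟨h, fun i => ?_⟩
    have hcomm : (Ideal.Quotient.mk (Ideal.span (Set.range f'))).comp (Phit p k h) =
        Φ.comp (Ideal.Quotient.mk (Ideal.span (Set.range f'))) := by
      apply MvPolynomial.ringHom_ext
      · intro c
        have := congrArg (fun f => f c) h1
        simp only [RingHom.comp_apply] at this
        rw [RingHom.comp_apply, RingHom.comp_apply, Phit_C]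
        exact this.symm
      · intro j
        rw [RingHom.comp_apply, RingHom.comp_apply, Phit_X, hw j, hh j]
        have : MvPolynomial.X j ^ p - (p : MvPolynomial (Fin n) (FrobAlg.W2 p k)) * - w j =
            MvPolynomial.X j ^ p + (p : MvPolynomial (Fin n) (FrobAlg.W2 p k)) * w j := by ring
        rw [this]
    have hΦf : Phit p k h (f' i) ∈ Ideal.span (Set.range f') := by
      rw [← Ideal.Quotient.eq_zero_iff_mem]
      have := congrArg (fun f => f (f' i)) hcomm
      rw [RingHom.comp_apply, RingHom.comp_apply] at this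
      rw [this, Ideal.Quotient.eq_zero_iff_mem.2 (hfmem i), map_zero]
    have hE : FrobAlg.polyFrob p k (Fin n) (f' i) - f' i ^ p
        - (p : MvPolynomial (Fin n) (FrobAlg.W2 p k)) *
          ∑ j, MvPolynomial.pderiv j (f' i) ^ p * h j =
        Phit p k h (f' i) - f' i ^ p := by
      rw [Phit_eq]; ring
    rw [hE]
    -- membership in span{p} and in J'
    have hEp : Phit p k h (f' i) - f' i ^ p ∈
        Ideal.span {(p : MvPolynomial (Fin n) (FrobAlg.W2 p k))} := by
      rw [← hE]
      apply Ideal.sub_mem _ (polyFrob_sub_pow_mem p k (f' i))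
      exact Ideal.mul_mem_right _ _ (Ideal.subset_span rfl)
    have hEJ : Phit p k h (f' i) - f' i ^ p ∈ Ideal.span (Set.range f') :=
      Ideal.sub_mem _ hΦf (Ideal.pow_mem_of_mem _ (hfmem i) p (Fact.out : p.Prime).pos)
    rw [Ideal.mem_span_singleton'] at hEp
    obtain ⟨e, he⟩ := hEp
    -- flatness: p • q(e) = 0 ⇒ q(e) = p • q(e')
    have hflatuse : ∃ e' : MvPolynomial (Fin n) (FrobAlg.W2 p k),
        e - (p : MvPolynomial (Fin n) (FrobAlg.W2 p k)) * e' ∈ Ideal.span (Set.range f') := by
      have hfl : @Module.Flat (TruncatedWittVector p 2 k)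
          (MvPolynomial (Fin n) (FrobAlg.W2 p k) ⧸ Ideal.span (Set.range f')) _ _
          (((Ideal.Quotient.mk (Ideal.span (Set.range f'))).comp
        (MvPolynomial.C : FrobAlg.W2 p k →+* MvPolynomial (Fin n) (FrobAlg.W2 p k))).toAlgebra.toModule) :=
        hflat
      have key := (@Groth.Agent.Lib.W2Flat88.flat_W2_iff p _ k _ _ _
          (MvPolynomial (Fin n) (FrobAlg.W2 p k) ⧸ Ideal.span (Set.range f')) _
          (((Ideal.Quotient.mk (Ideal.span (Set.range f'))).comp
        (MvPolynomial.C : FrobAlg.W2 p k →+* MvPolynomial (Fin n) (FrobAlg.W2 p k))).toAlgebra.toModule)).1 hfl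
      have hsm : ∀ y : MvPolynomial (Fin n) (FrobAlg.W2 p k),
          @HSMul.hSMul _ _ _ (@instHSMul _ _ (((Ideal.Quotient.mk (Ideal.span (Set.range f'))).comp
        (MvPolynomial.C : FrobAlg.W2 p k →+* MvPolynomial (Fin n) (FrobAlg.W2 p k))).toAlgebra.toModule.toSMul))
            (p : TruncatedWittVector p 2 k)
          (Ideal.Quotient.mk (Ideal.span (Set.range f')) y) =
          Ideal.Quotient.mk (Ideal.span (Set.range f'))
            ((p : MvPolynomial (Fin n) (FrobAlg.W2 p k)) * y) := by
        intro y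
        show ((Ideal.Quotient.mk (Ideal.span (Set.range f'))).comp MvPolynomial.C)
          (p : TruncatedWittVector p 2 k) * _ = _
        rw [map_natCast, map_mul, map_natCast]
      obtain ⟨m', hm'⟩ := key
        (Ideal.Quotient.mk (Ideal.span (Set.range f')) e) (by
          rw [hsm, Ideal.Quotient.eq_zero_iff_mem, mul_comm, he]
          exact hEJ)
      obtain ⟨e', rfl⟩ := Ideal.Quotient.mk_surjective m'
      rw [hsm, Ideal.Quotient.eq] at hm'
      exact ⟨e', hm'⟩
    obtain ⟨e', he'⟩ := hflatuse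
    have hfin : Phit p k h (f' i) - f' i ^ p =
        (p : MvPolynomial (Fin n) (FrobAlg.W2 p k)) *
          (e - (p : MvPolynomial (Fin n) (FrobAlg.W2 p k)) * e') := by
      have h2 := p_mul_p p k (n := n)
      linear_combination -he + e' * h2
    rw [hfin]
    exact Ideal.mul_mem_mul (Ideal.subset_span rfl) he'
  · rintro ⟨h, hh⟩
    have hΦJ : Ideal.span (Set.range f') ≤ Ideal.comap (Phit p k h) (Ideal.span (Set.range f')) := by
      rw [Ideal.span_le]
      rintro _ ⟨i, rfl⟩
      show Phit p k h (f' i) ∈ Ideal.span (Set.range f')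
      have : Phit p k h (f' i) = (FrobAlg.polyFrob p k (Fin n) (f' i) - f' i ^ p
        - (p : MvPolynomial (Fin n) (FrobAlg.W2 p k)) *
          ∑ j, MvPolynomial.pderiv j (f' i) ^ p * h j) + f' i ^ p := by
        rw [Phit_eq]; ring
      rw [this]
      exact Ideal.add_mem _ (Ideal.mul_le_right (hh i))
        (Ideal.pow_mem_of_mem _ (hfmem i) p (Fact.out : p.Prime).pos)
    refine ⟨Ideal.quotientMap _ (Phit p k h) hΦJ, ?_, ?_⟩
    · ext c
      simp only [RingHom.comp_apply]
      rw [Ideal.quotientMap_mk, Phit_C]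
    · intro b
      obtain ⟨g, rfl⟩ := Ideal.Quotient.mk_surjective b
      rw [Ideal.quotientMap_mk, hρ, hρ, mapres_Phit, map_pow]

end Groth.Agent.S13138
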