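import Groth.Statements.S13139
import Mathlib
import Groth.Agent.S13138
import Groth.Agent.Lib.W2Flat88
import Groth.Agent.Lib.ArtinSocle88

set_option autoImplicit false
universe u
open scoped BigOperators
open FrobAlg

namespace Groth.Agent.S13139

section helpers

open MvPolynomial

variable (p : ℕ) [Fact p.Prime] (k : Type u) [Field k] [CharP k p] [PerfectRing k p] {n m : ℕ}

local notation "W" => FrobAlg.W2 p k
local notation "R'" => MvPolynomial (Fin n) (FrobAlg.W2 p k)
local notation "Rk" => MvPolynomial (Fin n) k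

theorem hnil : IsNilpotent (IsLocalRing.maximalIdeal (TruncatedWittVector p 2 k)) := by
  refine ⟨2, ?_⟩
  rw [Groth.Agent.Lib.W2Flat88.maximalIdeal_W2, Ideal.span_singleton_pow,
    Groth.Agent.Lib.W2Flat88.p_sq_W2, Ideal.span_singleton_zero]
  rfl

theorem res_surj : Function.Surjective (FrobAlg.res p k) := fun a =>
  ⟨WittVector.truncate 2 (WittVector.teichmuller p a), by
    rw [FrobAlg.res_truncate]; exact WittVector.teichmuller_coeff_zero p a⟩

theorem mapres_surj : Function.Surjective (MvPolynomial.map (σ := Fin n) (FrobAlg.res p k)) :=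
  MvPolynomial.map_surjective _ (res_surj p k)

theorem regular_lift (f' : Fin m → R')
    (hreg : RingTheory.Sequence.IsRegular Rk
      (List.ofFn fun i => MvPolynomial.map (FrobAlg.res p k) (f' i))) :
    RingTheory.Sequence.IsRegular R' (List.ofFn f') := by
  have hker : RingHom.ker (MvPolynomial.map (σ := Fin n) (FrobAlg.res p k)) =
      (IsLocalRing.maximalIdeal (TruncatedWittVector p 2 k)).map
        (algebraMap (TruncatedWittVector p 2 k) R') := by
    rw [Groth.Agent.S13138.ker_mapres, Groth.Agent.Lib.W2Flat88.maximalIdeal_W2, Ideal.map_span,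
      Set.image_singleton, map_natCast]
  refine (Groth.Agent.Lib.ArtinSocle88.isRegular_iff_of_surjective (hnil p k)
    (IsLocalRing.maximalIdeal (TruncatedWittVector p 2 k)) (Ideal.IsPrime.ne_top inferInstance)
    (MvPolynomial.map (σ := Fin n) (FrobAlg.res p k)) (mapres_surj p k) hker (List.ofFn f')).2 ?_
  rw [List.map_ofFn]
  exact hreg

theorem flat_lift (f' : Fin m → R')
    (hreg : RingTheory.Sequence.IsRegular Rk
      (List.ofFn fun i => MvPolynomial.map (FrobAlg.res p k) (f' i))) :
    ((Ideal.Quotient.mk (Ideal.span (Set.range f'))).comp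
      (MvPolynomial.C : FrobAlg.W2 p k →+* R')).Flat := by
  have h1 := regular_lift p k f' hreg
  have h2 : Module.Flat (TruncatedWittVector p 2 k) (R' ⧸ Ideal.span (Set.range f')) :=
    Groth.Agent.Lib.ArtinSocle88.flat_quotient_span_range (hnil p k) f' h1.toIsWeaklyRegular
  have h3 : ((Ideal.Quotient.mk (Ideal.span (Set.range f'))).comp
      (MvPolynomial.C : FrobAlg.W2 p k →+* R')) =
      algebraMap (TruncatedWittVector p 2 k) (R' ⧸ Ideal.span (Set.range f')) := rfl
  rw [h3, RingHom.flat_algebraMap_iff]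
  exact h2

theorem flat_use {B : Type u} [CommRing B] (ι : FrobAlg.W2 p k →+* B) (hfl : ι.Flat) (y : B)
    (hy : (p : B) * y = 0) : ∃ y', y = (p : B) * y' := by
  have hfl' : @Module.Flat (TruncatedWittVector p 2 k) B _ _ ι.toAlgebra.toModule := hfl
  have key := (@Groth.Agent.Lib.W2Flat88.flat_W2_iff p _ k _ _ _ B _ ι.toAlgebra.toModule).1 hfl'
  have hsm : ∀ z : B, @HSMul.hSMul _ _ _ (@instHSMul _ _ ι.toAlgebra.toModule.toSMul)
      (p : TruncatedWittVector p 2 k) z = (p : B) * z := by
    intro z
    show ι (p : TruncatedWittVector p 2 k) * z = _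
    rw [map_natCast]
  obtain ⟨y', hy'⟩ := key y (by rw [hsm]; exact hy)
  exact ⟨y', by rw [hy', hsm]⟩

theorem map_span_range (f' : Fin m → R') (f : Fin m → Rk)
    (hres : ∀ i, MvPolynomial.map (FrobAlg.res p k) (f' i) = f i) :
    (Ideal.span (Set.range f')).map (MvPolynomial.map (FrobAlg.res p k)) =
      Ideal.span (Set.range f) := by
  rw [Ideal.map_span, ← Set.range_comp]
  congr 2
  funext i
  exact hres i

theorem ker_rho (f' : Fin m → R') :
    RingHom.ker (Ideal.quotientMap
      ((Ideal.span (Set.range f')).map (MvPolynomial.map (FrobAlg.res p k)))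
      (MvPolynomial.map (FrobAlg.res p k)) Ideal.le_comap_map) =
      Ideal.span {(p : R' ⧸ Ideal.span (Set.range f'))} := by
  apply le_antisymm
  · intro x hx
    obtain ⟨y, rfl⟩ := Ideal.Quotient.mk_surjective x
    rw [RingHom.mem_ker, Ideal.quotientMap_mk, Ideal.Quotient.eq_zero_iff_mem,
      Ideal.mem_map_iff_of_surjective _ (mapres_surj p k)] at hx
    obtain ⟨j, hj, hjy⟩ := hx
    have h4 : y - j ∈ RingHom.ker (MvPolynomial.map (σ := Fin n) (FrobAlg.res p k)) := by
      rw [RingHom.mem_ker, map_sub, hjy, sub_self]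
    rw [Groth.Agent.S13138.ker_mapres, Ideal.mem_span_singleton'] at h4
    obtain ⟨w, hw⟩ := h4
    rw [Ideal.mem_span_singleton']
    refine ⟨Ideal.Quotient.mk _ w, ?_⟩
    have : y = w * (p : R') + j := by linear_combination -hw
    rw [this, map_add, map_mul, map_natCast, Ideal.Quotient.eq_zero_iff_mem.2 hj, add_zero]
  · rw [Ideal.span_le, Set.singleton_subset_iff, SetLike.mem_coe, RingHom.mem_ker, map_natCast]
    have h0 : ((p : ℕ) : k) = 0 := CharP.cast_eq_zero k p
    have h2 := congrArg (algebraMap k (Rk ⧸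
      (Ideal.span (Set.range f')).map (MvPolynomial.map (FrobAlg.res p k)))) h0
    rwa [map_natCast, map_zero] at h2

end helpers

/-- Let k be a perfect field of characteristic p and f_1, …, f_m a regular sequence in R = k[x_1, …,
x_n]. The complete intersection A = R/(f_1, …, f_m) lifts to W₂(k) compatibly with Frobenius if and
only if for some lifts f'_1, …, f'_m ∈ R' = W₂(k)[x_1, …, x_n] of the f_i and some h_1, …, h_n ∈ R'
one has F'(f'_i) − f'_i^p − p·Σ_j (∂f'_i/∂x_j)^p h_j ∈ p·(f'_1, …, f'_m) for every i, F' being the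
standard Frobenius lift of R'. In terms of Frobenius residues P(f') = (F'(f') − f'^p)/p ∈ R, which
change by g^p when f' changes by pg, this is the congruence P_{f_i} + g_i^p ≡ Σ_j (∂f_i/∂x_j)^p h_j
modulo (f_1, …, f_m) for some g_i, h_j. -/
theorem result
    (p : ℕ) [Fact p.Prime] (k : Type u) [Field k] [CharP k p] [PerfectRing k p]
    {n m : ℕ} (f : Fin m → MvPolynomial (Fin n) k)
    (hreg : RingTheory.Sequence.IsRegular (MvPolynomial (Fin n) k) (List.ofFn f)) :
    FrobAlg.IsFLiftable p k (MvPolynomial (Fin n) k ⧸ Ideal.span (Set.range f)) ↔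
    ∃ (f' : Fin m → MvPolynomial (Fin n) (FrobAlg.W2 p k)) (h : Fin n → MvPolynomial (Fin n) (FrobAlg.W2 p k)),
      (∀ i, MvPolynomial.map (FrobAlg.res p k) (f' i) = f i) ∧
      ∀ i, FrobAlg.polyFrob p k (Fin n) (f' i) - f' i ^ p
        - (p : MvPolynomial (Fin n) (FrobAlg.W2 p k)) * ∑ j, MvPolynomial.pderiv j (f' i) ^ p * h j
        ∈ Ideal.span {(p : MvPolynomial (Fin n) (FrobAlg.W2 p k))} * Ideal.span (Set.range f') := by
  classical
  constructor
  · rintro ⟨B, _, ι, π, Φ, hF⟩
    have hpB : (p : B) * (p : B) = 0 := by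
      have := Groth.Agent.Lib.W2Flat88.p_sq_W2 p k
      have h2 := congrArg ι this
      rw [map_pow, map_natCast, map_zero, pow_two] at h2
      exact h2
    have hkerπ : RingHom.ker π = Ideal.span {(p : B)} := by
      rw [hF.ker_eq, Groth.Agent.S13138.ker_res, Ideal.map_span, Set.image_singleton, map_natCast]
    have hb : ∀ j : Fin n, ∃ b : B, π b =
        Ideal.Quotient.mk (Ideal.span (Set.range f)) (MvPolynomial.X j) := fun j => hF.surj _
    choose b hb using hb
    obtain ⟨ψ, hψC, hψX⟩ : ∃ ψ : MvPolynomial (Fin n) (FrobAlg.W2 p k) →+* B,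
        (∀ c, ψ (MvPolynomial.C c) = ι c) ∧ ∀ j, ψ (MvPolynomial.X j) = b j :=
      ⟨MvPolynomial.eval₂Hom ι b, fun c => MvPolynomial.eval₂Hom_C _ _ _,
        fun j => MvPolynomial.eval₂Hom_X' _ _ _⟩
    have hψp : ψ (p : MvPolynomial (Fin n) (FrobAlg.W2 p k)) = (p : B) := map_natCast ψ p
    have hπψ : π.comp ψ = (Ideal.Quotient.mk (Ideal.span (Set.range f))).comp
        (MvPolynomial.map (FrobAlg.res p k)) := by
      apply MvPolynomial.ringHom_ext
      · intro c
        rw [RingHom.comp_apply, RingHom.comp_apply, hψC, MvPolynomial.map_C]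
        have := congrArg (fun g => g c) hF.comm
        simp only [RingHom.comp_apply] at this
        rw [this]; rfl
      · intro j
        rw [RingHom.comp_apply, RingHom.comp_apply, hψX, MvPolynomial.map_X, hb]
    have hπψ' : ∀ x, π (ψ x) = Ideal.Quotient.mk (Ideal.span (Set.range f))
        (MvPolynomial.map (FrobAlg.res p k) x) := fun x => by
      have := congrArg (fun g => g x) hπψ
      simpa only [RingHom.comp_apply] using this
    have hdec : ∀ y : B, ∃ g : MvPolynomial (Fin n) (FrobAlg.W2 p k), ∃ z : B,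
        y = ψ g + (p : B) * z := by
      intro y
      obtain ⟨g0, hg0⟩ := Ideal.Quotient.mk_surjective (π y)
      obtain ⟨g, rfl⟩ := mapres_surj p k g0
      have : y - ψ g ∈ RingHom.ker π := by
        rw [RingHom.mem_ker, map_sub, hπψ', hg0, sub_self]
      rw [hkerπ, Ideal.mem_span_singleton'] at this
      obtain ⟨z, hz⟩ := this
      exact ⟨g, z, by linear_combination -hz⟩
    have hsurj : Function.Surjective ψ := by
      intro y
      obtain ⟨g, z, rfl⟩ := hdec y
      obtain ⟨g', z', rfl⟩ := hdec z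
      refine ⟨g + (p : MvPolynomial (Fin n) (FrobAlg.W2 p k)) * g', ?_⟩
      rw [map_add, map_mul, hψp]
      linear_combination (-z') * hpB
    have hf' : ∀ i, ∃ F : MvPolynomial (Fin n) (FrobAlg.W2 p k),
        MvPolynomial.map (FrobAlg.res p k) F = f i ∧ ψ F = 0 := by
      intro i
      obtain ⟨F, hF0⟩ := mapres_surj p k (f i)
      have : ψ F ∈ RingHom.ker π := by
        rw [RingHom.mem_ker, hπψ', hF0, Ideal.Quotient.eq_zero_iff_mem]
        exact Ideal.subset_span ⟨i, rfl⟩
      rw [hkerπ, Ideal.mem_span_singleton'] at this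
      obtain ⟨z, hz⟩ := this
      obtain ⟨g, rfl⟩ := hsurj z
      refine ⟨F - (p : MvPolynomial (Fin n) (FrobAlg.W2 p k)) * g, ?_, ?_⟩
      · rw [map_sub, map_mul, hF0, map_natCast]
        have : ((p : ℕ) : MvPolynomial (Fin n) k) = 0 := by
          have h0 : ((p : ℕ) : k) = 0 := CharP.cast_eq_zero k p
          have h2 := congrArg (MvPolynomial.C (σ := Fin n)) h0
          rwa [map_natCast, map_zero] at h2
        rw [this, zero_mul, sub_zero]
      · rw [map_sub, map_mul, hψp]
        linear_combination -hz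
    choose f' hf'res hf'ψ using hf'
    have hJ := map_span_range p k f' f hf'res
    have hJ'le : Ideal.span (Set.range f') ≤ RingHom.ker ψ := by
      rw [Ideal.span_le]
      rintro _ ⟨i, rfl⟩
      exact hf'ψ i
    have hA : ∀ x ∈ RingHom.ker ψ, ∃ j ∈ Ideal.span (Set.range f'),
        ∃ y : MvPolynomial (Fin n) (FrobAlg.W2 p k),
          x = j + (p : MvPolynomial (Fin n) (FrobAlg.W2 p k)) * y := by
      intro x hx
      have h0 : MvPolynomial.map (FrobAlg.res p k) x ∈
          (Ideal.span (Set.range f')).map (MvPolynomial.map (FrobAlg.res p k)) := by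
        rw [hJ, ← Ideal.Quotient.eq_zero_iff_mem, ← hπψ', RingHom.mem_ker.1 hx, map_zero]
      rw [Ideal.mem_map_iff_of_surjective _ (mapres_surj p k)] at h0
      obtain ⟨j, hj, hjx⟩ := h0
      have h4 : x - j ∈ RingHom.ker (MvPolynomial.map (σ := Fin n) (FrobAlg.res p k)) := by
        rw [RingHom.mem_ker, map_sub, hjx, sub_self]
      rw [Groth.Agent.S13138.ker_mapres, Ideal.mem_span_singleton'] at h4
      obtain ⟨w, hw⟩ := h4
      exact ⟨j, hj, w, by linear_combination -hw⟩
    have hB : ∀ y : MvPolynomial (Fin n) (FrobAlg.W2 p k), (p : B) * ψ y = 0 →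
        (p : MvPolynomial (Fin n) (FrobAlg.W2 p k)) * y ∈ Ideal.span (Set.range f') := by
      intro y hy
      obtain ⟨y'', hy''⟩ := flat_use p k ι hF.flat (ψ y) hy
      obtain ⟨y', rfl⟩ := hsurj y''
      have hmem : y - (p : MvPolynomial (Fin n) (FrobAlg.W2 p k)) * y' ∈ RingHom.ker ψ := by
        rw [RingHom.mem_ker, map_sub, map_mul, hψp, hy'', sub_self]
      obtain ⟨j, hj, t, ht⟩ := hA _ hmem
      have h2 := Groth.Agent.S13138.p_mul_p p k (n := n)
      have : (p : MvPolynomial (Fin n) (FrobAlg.W2 p k)) * y =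
          (p : MvPolynomial (Fin n) (FrobAlg.W2 p k)) * j := by
        linear_combination (p : MvPolynomial (Fin n) (FrobAlg.W2 p k)) * ht + (y' + t) * h2
      rw [this]
      exact Ideal.mul_mem_left _ _ hj
    have hker : RingHom.ker ψ = Ideal.span (Set.range f') := by
      apply le_antisymm _ hJ'le
      intro x hx
      obtain ⟨j, hj, y, rfl⟩ := hA x hx
      have : (p : B) * ψ y = 0 := by
        have h0 := RingHom.mem_ker.1 hx
        rw [map_add, RingHom.mem_ker.1 (hJ'le hj), zero_add, map_mul, hψp] at h0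
        exact h0
      exact Ideal.add_mem _ hj (hB y this)
    obtain ⟨ψb, hψb⟩ : ∃ ψb : (MvPolynomial (Fin n) (FrobAlg.W2 p k) ⧸ Ideal.span (Set.range f')) →+* B,
        ∀ x, ψb (Ideal.Quotient.mk _ x) = ψ x :=
      ⟨Ideal.Quotient.lift _ ψ (fun x hx => hJ'le hx), fun x => Ideal.Quotient.lift_mk _ _ _⟩
    have hbij : Function.Bijective ψb := by
      constructor
      · rw [injective_iff_map_eq_zero]
        intro x hx
        obtain ⟨y, rfl⟩ := Ideal.Quotient.mk_surjective x
        rw [hψb] at hx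
        rw [Ideal.Quotient.eq_zero_iff_mem, ← hker]
        exact hx
      · intro y
        obtain ⟨x, rfl⟩ := hsurj y
        exact ⟨Ideal.Quotient.mk _ x, hψb x⟩
    obtain ⟨E, hE⟩ : ∃ E : (MvPolynomial (Fin n) (FrobAlg.W2 p k) ⧸ Ideal.span (Set.range f')) ≃+* B,
        ∀ x, E x = ψb x := ⟨RingEquiv.ofBijective ψb hbij, fun x => rfl⟩
    obtain ⟨Φ', hΦ'⟩ : ∃ Φ' : (MvPolynomial (Fin n) (FrobAlg.W2 p k) ⧸ Ideal.span (Set.range f')) →+*
        (MvPolynomial (Fin n) (FrobAlg.W2 p k) ⧸ Ideal.span (Set.range f')),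
        ∀ x, E (Φ' x) = Φ (E x) :=
      ⟨E.symm.toRingHom.comp (Φ.comp E.toRingHom), fun x => E.apply_symm_apply _⟩
    have hreg' : RingTheory.Sequence.IsRegular (MvPolynomial (Fin n) k)
        (List.ofFn fun i => MvPolynomial.map (FrobAlg.res p k) (f' i)) := by
      have : (fun i => MvPolynomial.map (FrobAlg.res p k) (f' i)) = f := funext hf'res
      rw [this]; exact hreg
    have hflat := flat_lift p k f' hreg'
    have hρ : ∀ x, (Ideal.quotEquivOfEq hJ) (Ideal.quotientMap
        ((Ideal.span (Set.range f')).map (MvPolynomial.map (FrobAlg.res p k)))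
        (MvPolynomial.map (FrobAlg.res p k)) Ideal.le_comap_map x) = π (E x) := by
      intro x
      obtain ⟨y, rfl⟩ := Ideal.Quotient.mk_surjective x
      rw [Ideal.quotientMap_mk, Ideal.quotEquivOfEq_mk, hE, hψb, hπψ']
    obtain ⟨h, hh⟩ := (Groth.Agent.S13138.result p k f' hflat).1 ⟨Φ', by
      refine RingHom.ext (fun c => ?_)
      apply E.injective
      simp only [RingHom.comp_apply]
      rw [hΦ', hE, hE, hψb, hψb, hψC, hψC]
      have := congrArg (fun g => g c) hF.semi
      simpa only [RingHom.comp_apply] using this, by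
      intro b0
      apply (Ideal.quotEquivOfEq hJ).injective
      rw [hρ, hΦ', hF.red, map_pow, hρ]⟩
    exact ⟨f', h, hf'res, hh⟩
  · rintro ⟨f', h, hres, hcong⟩
    have hreg' : RingTheory.Sequence.IsRegular (MvPolynomial (Fin n) k)
        (List.ofFn fun i => MvPolynomial.map (FrobAlg.res p k) (f' i)) := by
      have : (fun i => MvPolynomial.map (FrobAlg.res p k) (f' i)) = f := funext hres
      rw [this]; exact hreg
    have hflat := flat_lift p k f' hreg'
    obtain ⟨Φ, h1, h2⟩ := (Groth.Agent.S13138.result p k f' hflat).2 ⟨h, hcong⟩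
    have hJ := map_span_range p k f' f hres
    refine ⟨MvPolynomial (Fin n) (FrobAlg.W2 p k) ⧸ Ideal.span (Set.range f'), inferInstance,
      (Ideal.Quotient.mk (Ideal.span (Set.range f'))).comp MvPolynomial.C,
      (Ideal.quotEquivOfEq hJ).toRingHom.comp
        (Ideal.quotientMap ((Ideal.span (Set.range f')).map (MvPolynomial.map (FrobAlg.res p k)))
          (MvPolynomial.map (FrobAlg.res p k)) Ideal.le_comap_map), Φ, ?_⟩
    refine { flat := hflat, surj := ?_, ker_eq := ?_, comm := ?_, semi := h1, red := ?_ }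
    · exact (Ideal.quotEquivOfEq hJ).surjective.comp
        (Ideal.quotientMap_surjective (mapres_surj p k))
    · rw [RingHom.ker_comp_of_injective _ (Ideal.quotEquivOfEq hJ).injective, ker_rho,
        Groth.Agent.S13138.ker_res, Ideal.map_span, Set.image_singleton, map_natCast]
    · ext c
      simp only [RingHom.comp_apply]
      rw [Ideal.quotientMap_mk, MvPolynomial.map_C]
      rfl
    · intro b
      simp only [RingHom.comp_apply]
      rw [h2 b, map_pow]

end Groth.Agent.S13139
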