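import Groth.Statements.S13140
import Mathlib.RepresentationTheory.Maschke

set_option autoImplicit false
universe u v w
open GrpAlg

namespace Groth.Agent.S13140

open MonoidAlgebra in
/-- Let G be a finite group, R a commutative ring in which |G| is a unit, and M a module over the group
algebra R[G] whose underlying R-module is projective. Then M is a projective R[G]-module. -/
theorem result
    (R : Type u) [CommRing R] (G : Type v) [Group G] [Finite G] (hG : IsUnit ((Nat.card G : ℕ) : R))
    (M : Type w) [AddCommGroup M] [Module R M] [Module (MonoidAlgebra R G) M]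
    [IsScalarTower R (MonoidAlgebra R G) M] [Module.Projective R M] :
    Module.Projective (MonoidAlgebra R G) M := by
  classical
  have := Fintype.ofFinite G
  let F := M →₀ MonoidAlgebra R G
  let f : F →ₗ[MonoidAlgebra R G] M := Finsupp.linearCombination (MonoidAlgebra R G) id
  have hf : Function.Surjective f := Finsupp.linearCombination_id_surjective _ _
  obtain ⟨s, hs⟩ := Module.projective_lifting_property (f.restrictScalars R) LinearMap.id hf
  let s' : M →ₗ[MonoidAlgebra R G] F := s.equivariantProjection G
  refine Module.Projective.of_split s' f ?_
  ext m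
  have hfs : ∀ x : M, f (s x) = x := fun x => LinearMap.congr_fun hs x
  rw [LinearMap.comp_apply, LinearMap.equivariantProjection_apply, LinearMap.id_apply]
  have h1 : f (Ring.inverse ((Nat.card G : ℕ) : R) • ∑ g : G, s.conjugate g m) =
      Ring.inverse ((Nat.card G : ℕ) : R) • f (∑ g : G, s.conjugate g m) := by
    have := (f.restrictScalars R).map_smul (Ring.inverse ((Nat.card G : ℕ) : R))
      (∑ g : G, s.conjugate g m)
    exact this
  rw [h1, map_sum]
  have h2 : ∀ g : G, f (s.conjugate g m) = m := by
    intro g
    rw [LinearMap.conjugate_apply, map_smul, hfs, ← mul_smul, MonoidAlgebra.single_mul_single,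
      mul_one, inv_mul_cancel, ← MonoidAlgebra.one_def, one_smul]
  simp only [h2]
  rw [Finset.sum_const, Finset.card_univ, ← Nat.cast_smul_eq_nsmul R, smul_smul,
    Fintype.card_eq_nat_card, Ring.inverse_mul_cancel _ hG, one_smul]

end Groth.Agent.S13140
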