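import Groth.Statements.S13141

set_option autoImplicit false
universe u v w w'
open scoped TensorProduct
open GrpAlg

namespace Groth.Agent.S13141

/-- Let G be a finite group, R a commutative ring with |G| invertible in R, M a projective R-module with
an R-linear G-action and S an R-algebra. The natural map M^G ⊗_R S → M ⊗_R S is injective and its
image is the submodule of G-invariants of M ⊗_R S (G acting on the first factor); that is, M^G ⊗_R S
→ (M ⊗_R S)^G is bijective. -/
theorem result
    (R : Type u) [CommRing R] (G : Type v) [Group G] [Finite G] (hG : IsUnit ((Nat.card G : ℕ) : R))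
    (M : Type w) [AddCommGroup M] [Module R M] [Module.Projective R M] (ρ : Representation R G M)
    (S : Type w') [CommRing S] [Algebra R S] :
    Function.Injective (TensorProduct.map ρ.invariants.subtype (LinearMap.id : S →ₗ[R] S)) ∧
    LinearMap.range (TensorProduct.map ρ.invariants.subtype (LinearMap.id : S →ₗ[R] S)) =
      ⨅ g : G, LinearMap.eqLocus (LinearMap.rTensor S (ρ g)) LinearMap.id := by
  classical
  have := Fintype.ofFinite G
  let c : R := Ring.inverse ((Nat.card G : ℕ) : R)
  let e : M →ₗ[R] M := c • ∑ g : G, ρ g
  have he_apply : ∀ x, e x = c • ∑ g : G, ρ g x := by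
    intro x
    simp [e, LinearMap.sum_apply]
  have he : ∀ x, e x ∈ ρ.invariants := by
    intro x h
    rw [he_apply, map_smul, map_sum]
    congr 1
    refine Fintype.sum_bijective (fun g => h * g) (Group.mulLeft_bijective h) _ _ fun g => ?_
    rw [map_mul]
    rfl
  let r : M →ₗ[R] ρ.invariants := e.codRestrict ρ.invariants he
  let ι : ρ.invariants →ₗ[R] M := ρ.invariants.subtype
  have hcard : c * ((Nat.card G : ℕ) : R) = 1 := Ring.inverse_mul_cancel _ hG
  have hrι : r ∘ₗ ι = LinearMap.id := by
    refine LinearMap.ext fun ⟨x, hx⟩ => ?_
    apply Subtype.ext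
    change e x = x
    rw [he_apply]
    have hx' : ∀ g, ρ g x = x := hx
    simp only [hx']
    rw [Finset.sum_const, Finset.card_univ, ← Nat.cast_smul_eq_nsmul R, smul_smul,
      Fintype.card_eq_nat_card, hcard, one_smul]
  have hιr : ι ∘ₗ r = e := by
    ext x
    rfl
  constructor
  · have hleft : (TensorProduct.map r (LinearMap.id : S →ₗ[R] S)) ∘ₗ
        (TensorProduct.map ι (LinearMap.id : S →ₗ[R] S)) = LinearMap.id := by
      rw [← TensorProduct.map_comp, hrι, LinearMap.id_comp, TensorProduct.map_id]
    exact Function.LeftInverse.injective (g := TensorProduct.map r (LinearMap.id : S →ₗ[R] S))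
      fun z => LinearMap.congr_fun hleft z
  · apply le_antisymm
    · rintro _ ⟨y, rfl⟩
      rw [Submodule.mem_iInf]
      intro g
      change LinearMap.rTensor S (ρ g) (TensorProduct.map ι LinearMap.id y) =
        TensorProduct.map ι LinearMap.id y
      have : (LinearMap.rTensor S (ρ g)) ∘ₗ (TensorProduct.map ι (LinearMap.id : S →ₗ[R] S)) =
          TensorProduct.map ι (LinearMap.id : S →ₗ[R] S) := by
        rw [LinearMap.rTensor, ← TensorProduct.map_comp, LinearMap.id_comp]
        congr 1
        refine LinearMap.ext fun ⟨x, hx⟩ => ?_
        exact hx g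
      exact LinearMap.congr_fun this y
    · intro z hz
      rw [Submodule.mem_iInf] at hz
      have hz' : ∀ g : G, LinearMap.rTensor S (ρ g) z = z := fun g => hz g
      have h1 : LinearMap.rTensor S e z = z := by
        have : LinearMap.rTensor S e = c • ∑ g : G, LinearMap.rTensor S (ρ g) := by
          change LinearMap.rTensorHom S (c • ∑ g : G, ρ g) = _
          rw [map_smul, map_sum]
          rfl
        rw [this, LinearMap.smul_apply, LinearMap.sum_apply]
        simp only [hz']
        rw [Finset.sum_const, Finset.card_univ, ← Nat.cast_smul_eq_nsmul R, smul_smul,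
          Fintype.card_eq_nat_card, hcard, one_smul]
      refine ⟨LinearMap.rTensor S r z, ?_⟩
      have h2 : LinearMap.rTensor S e z =
          TensorProduct.map ι (LinearMap.id : S →ₗ[R] S) (LinearMap.rTensor S r z) := by
        rw [← hιr, LinearMap.rTensor_comp]
        rfl
      rw [← h2, h1]

end Groth.Agent.S13141
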