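import Groth.Statements.S13142
import Mathlib.RingTheory.Flat.Basic

set_option autoImplicit false
universe u v
open GrpAlg

namespace Groth.Agent.S13142

/-- Let G be a finite group and R a commutative ring with |G| invertible in R, acting on R[x_1, …, x_n]
by R-algebra automorphisms. The invariant subring R[x_1, …, x_n]^G is a flat R-module (so the
quotient of affine n-space over R by G is flat over R). -/
theorem result
    (R : Type u) [CommRing R] (G : Type v) [Group G] [Finite G] (hG : IsUnit ((Nat.card G : ℕ) : R))
    (n : ℕ) (ρ : G →* (MvPolynomial (Fin n) R ≃ₐ[R] MvPolynomial (Fin n) R)) :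
    Module.Flat R ↥(⨅ g : G, LinearMap.eqLocus (ρ g).toLinearMap (LinearMap.id : MvPolynomial (Fin n) R →ₗ[R] MvPolynomial (Fin n) R)) := by
  classical
  have := Fintype.ofFinite G
  set P := MvPolynomial (Fin n) R with hP
  set N : Submodule R P := ⨅ g : G, LinearMap.eqLocus (ρ g).toLinearMap
    (LinearMap.id : P →ₗ[R] P) with hN
  have hmem : ∀ x : P, x ∈ N ↔ ∀ g : G, ρ g x = x := by
    intro x
    rw [hN, Submodule.mem_iInf]
    exact Iff.rfl
  let c : R := Ring.inverse ((Nat.card G : ℕ) : R)
  let e : P →ₗ[R] P := c • ∑ g : G, (ρ g).toLinearMap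
  have he_apply : ∀ x, e x = c • ∑ g : G, ρ g x := by
    intro x
    simp [e, LinearMap.sum_apply]
  have he : ∀ x, e x ∈ N := by
    intro x
    rw [hmem]
    intro h
    rw [he_apply, map_smul, map_sum]
    congr 1
    refine Fintype.sum_bijective (fun g => h * g) (Group.mulLeft_bijective h) _ _ fun g => ?_
    rw [map_mul]
    rfl
  let r : P →ₗ[R] N := e.codRestrict N he
  apply Module.Flat.of_retract N.subtype r
  refine LinearMap.ext fun ⟨x, hx⟩ => ?_
  apply Subtype.ext
  change e x = x
  rw [he_apply]
  have hx' := (hmem x).mp hx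
  simp only [hx']
  rw [Finset.sum_const, Finset.card_univ, ← Nat.cast_smul_eq_nsmul R, smul_smul,
    Fintype.card_eq_nat_card, Ring.inverse_mul_cancel _ hG, one_smul]

end Groth.Agent.S13142
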