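import Groth.Statements.S13147
import Mathlib
import Groth.Agent.Lib.W2Flat88

set_option autoImplicit false
universe u
open FrobAlg

namespace Groth.Agent.S13147

section helpers

open WittVector

variable (p : ℕ) [Fact p.Prime] (A : Type u) [CommRing A]

local notation "T" => (WittVector.truncate (p := p) (R := A) 2)

theorem coeff_T (X : WittVector p A) (i : Fin 2) : (T X).coeff i = X.coeff i :=
  WittVector.coeff_truncate X i

/-- an element of `W₂(A)` with zero residue is `T (V Y)` with `Y₀ = x₁`. -/
theorem exists_eq_T_V (x : FrobAlg.W2 p A) (hx : x.coeff 0 = 0) :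
    ∃ Y : WittVector p A, x = T (verschiebung Y) ∧ Y.coeff 0 = x.coeff 1 := by
  refine ⟨teichmuller p (x.coeff 1), ?_, teichmuller_coeff_zero p _⟩
  apply TruncatedWittVector.ext
  intro i
  rw [coeff_T]
  fin_cases i
  · show x.coeff 0 = (verschiebung _).coeff 0
    rw [verschiebung_coeff_zero, hx]
  · show x.coeff 1 = (verschiebung _).coeff 1
    have := verschiebung_coeff_succ (teichmuller p (x.coeff 1)) 0
    rw [teichmuller_coeff_zero] at this
    exact this.symm

theorem coeff_T_V_zero (Y : WittVector p A) : (T (verschiebung Y)).coeff 0 = 0 := by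
  rw [coeff_T]; exact verschiebung_coeff_zero Y

theorem coeff_T_V_one (Y : WittVector p A) : (T (verschiebung Y)).coeff 1 = Y.coeff 0 := by
  rw [coeff_T]; exact verschiebung_coeff_succ Y 0

variable [CharP A p]

/-- `p * x = T (V (F X))` -/
theorem p_mul_T (X : WittVector p A) :
    (p : FrobAlg.W2 p A) * T X = T (verschiebung (frobenius X)) := by
  rw [verschiebung_frobenius, map_mul, map_natCast, mul_comm]

theorem coeff_p_mul_zero (x : FrobAlg.W2 p A) : ((p : FrobAlg.W2 p A) * x).coeff 0 = 0 := by
  obtain ⟨X, rfl⟩ := WittVector.truncate_surjective p 2 A x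
  rw [p_mul_T, coeff_T_V_zero]

theorem coeff_p_mul_one (x : FrobAlg.W2 p A) :
    ((p : FrobAlg.W2 p A) * x).coeff 1 = x.coeff 0 ^ p := by
  obtain ⟨X, rfl⟩ := WittVector.truncate_surjective p 2 A x
  rw [p_mul_T, coeff_T_V_one, coeff_frobenius_charP, coeff_T]
  rfl

variable (φ : A →+ A) (hφ : ∀ a b : A, φ (a ^ p * b) = a * φ b) (hφ1 : φ 1 = 1)

include hφ in
theorem mem_splitIdeal_iff (y : FrobAlg.W2 p A) :
    y ∈ FrobAlg.splitIdeal p A φ ↔ y.coeff 0 = 0 ∧ φ (y.coeff 1) = 0 := by
  constructor
  · intro hy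
    unfold FrobAlg.splitIdeal at hy
    induction hy using Submodule.span_induction with
    | mem y hy => simpa using hy
    | zero => simp
    | add y z _ _ hy hz =>
      obtain ⟨Y, hY, hY0⟩ := exists_eq_T_V p A y hy.1
      obtain ⟨Z, hZ, hZ0⟩ := exists_eq_T_V p A z hz.1
      have : y + z = T (verschiebung (Y + Z)) := by rw [hY, hZ, map_add, map_add]
      rw [this, coeff_T_V_zero, coeff_T_V_one, add_coeff_zero, hY0, hZ0, map_add, hy.2, hz.2,
        add_zero]
      exact ⟨rfl, rfl⟩
    | smul a y _ hy =>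
      obtain ⟨Y, hY, hY0⟩ := exists_eq_T_V p A y hy.1
      obtain ⟨A', rfl⟩ := WittVector.truncate_surjective p 2 A a
      have : T A' • y = T (verschiebung (Y * frobenius A')) := by
        rw [smul_eq_mul, hY, verschiebung_mul_frobenius, map_mul, mul_comm]
      rw [this, coeff_T_V_zero, coeff_T_V_one, mul_coeff_zero, coeff_frobenius_charP, hY0,
        mul_comm, hφ, hy.2, mul_zero]
      exact ⟨rfl, rfl⟩
  · intro hy
    apply Ideal.subset_span
    simpa using hy

include hφ hφ1 in
theorem phi_pow (a : A) : φ (a ^ p) = a := by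
  have := hφ a 1
  rwa [mul_one, hφ1, mul_one] at this

include hφ hφ1 in
theorem p_mul_mem_iff (x : FrobAlg.W2 p A) :
    (p : FrobAlg.W2 p A) * x ∈ FrobAlg.splitIdeal p A φ ↔ x.coeff 0 = 0 := by
  rw [mem_splitIdeal_iff p A φ hφ, coeff_p_mul_zero, coeff_p_mul_one, phi_pow p A φ hφ hφ1]
  simp

include hφ hφ1 in
theorem exists_sub_p_mul_mem (x : FrobAlg.W2 p A) (hx : x.coeff 0 = 0) :
    ∃ x' : FrobAlg.W2 p A, x - (p : FrobAlg.W2 p A) * x' ∈ FrobAlg.splitIdeal p A φ := by
  obtain ⟨Y, hY, hY0⟩ := exists_eq_T_V p A x hx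
  have key : ∀ c : A, Y.coeff 0 = c →
      x - (p : FrobAlg.W2 p A) * T (teichmuller p (φ c)) ∈ FrobAlg.splitIdeal p A φ := by
    intro c hc
    rw [p_mul_T, hY, ← map_sub, ← map_sub, mem_splitIdeal_iff p A φ hφ, coeff_T_V_zero,
      coeff_T_V_one]
    refine ⟨rfl, ?_⟩
    have h1 : Y.coeff 0 = (Y - frobenius (teichmuller p (φ c))).coeff 0 +
        (frobenius (teichmuller p (φ c))).coeff 0 := by
      rw [← add_coeff_zero, sub_add_cancel]
    rw [coeff_frobenius_charP, teichmuller_coeff_zero, hc] at h1
    have h2 : (Y - frobenius (teichmuller p (φ c))).coeff 0 = c - φ c ^ p :=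
      eq_sub_of_add_eq h1.symm
    rw [h2, map_sub, phi_pow p A φ hφ hφ1, sub_self]
  exact ⟨_, key _ rfl⟩

end helpers

/-- Let k be a perfect field of characteristic p and (A, φ) a k-algebra with a Frobenius splitting (φ
additive, φ(a^p b) = a φ(b), φ(1) = 1). The quotient of W₂(A) by the ideal generated by the Witt
vectors (0, a) with φ(a) = 0 — the ring of twisted Witt vectors of (A, φ) — is a flat lifting of A
over W₂(k): flat over W₂(k), with reduction map onto A induced by (a₀, a₁) ↦ a₀ whose kernel is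
generated by the maximal ideal of W₂(k). (The published statement also asserts that a morphism of
algebras with Frobenius splittings compatible with the splittings induces a ring map between these
quotients; that part is not stated here.) -/
theorem result
    (p : ℕ) [Fact p.Prime] (k : Type u) [Field k] [CharP k p] [PerfectRing k p]
    (A : Type u) [CommRing A] [Algebra k A] (φ : A →+ A)
    (hφ : ∀ a b : A, φ (a ^ p * b) = a * φ b) (hφ1 : φ 1 = 1) :
    FrobAlg.IsLift p k A (FrobAlg.W2 p A ⧸ FrobAlg.splitIdeal p A φ)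
      ((Ideal.Quotient.mk (FrobAlg.splitIdeal p A φ)).comp (WittGrp.truncMap p 2 (algebraMap k A)))
      (FrobAlg.splitRes p A φ) := by
  have hπmk : ∀ x : FrobAlg.W2 p A, FrobAlg.splitRes p A φ
      (Ideal.Quotient.mk (FrobAlg.splitIdeal p A φ) x) = x.coeff 0 := by
    intro x
    unfold FrobAlg.splitRes
    rw [Ideal.Quotient.lift_mk, FrobAlg.res_apply]
  have hcomm : (FrobAlg.splitRes p A φ).comp ((Ideal.Quotient.mk (FrobAlg.splitIdeal p A φ)).comp
      (WittGrp.truncMap p 2 (algebraMap k A))) = (algebraMap k A).comp (FrobAlg.res p k) := by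
    ext y
    simp only [RingHom.comp_apply]
    rw [hπmk, WittGrp.coeff_truncMap, FrobAlg.res_apply]
  rcases subsingleton_or_nontrivial A with hA | hA
  · -- degenerate case
    haveI : Subsingleton (FrobAlg.W2 p A) := ⟨fun x y => TruncatedWittVector.ext fun i => Subsingleton.elim _ _⟩
    haveI : Subsingleton (FrobAlg.W2 p A ⧸ FrobAlg.splitIdeal p A φ) :=
      ⟨fun x y => by
        obtain ⟨x, rfl⟩ := Ideal.Quotient.mk_surjective x
        obtain ⟨y, rfl⟩ := Ideal.Quotient.mk_surjective y
        rw [Subsingleton.elim x y]⟩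
    refine ⟨?_, fun a => ⟨0, Subsingleton.elim _ _⟩, ?_, hcomm⟩
    · letI := ((Ideal.Quotient.mk (FrobAlg.splitIdeal p A φ)).comp
        (WittGrp.truncMap p 2 (algebraMap k A))).toAlgebra
      show Module.Flat _ _
      infer_instance
    · ext m
      have h0 : m = 0 := Subsingleton.elim _ _
      rw [h0]
      simp
  · haveI : CharP A p := charP_of_injective_algebraMap (algebraMap k A).injective p
    refine ⟨?_, ?_, ?_, hcomm⟩
    · letI := ((Ideal.Quotient.mk (FrobAlg.splitIdeal p A φ)).comp
        (WittGrp.truncMap p 2 (algebraMap k A))).toAlgebra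
      show Module.Flat _ _
      rw [Groth.Agent.Lib.W2Flat88.flat_W2_iff]
      intro m hm
      obtain ⟨x, rfl⟩ := Ideal.Quotient.mk_surjective m
      have hsm : ∀ y : FrobAlg.W2 p A, (p : TruncatedWittVector p 2 k) •
          (Ideal.Quotient.mk (FrobAlg.splitIdeal p A φ) y) =
          Ideal.Quotient.mk (FrobAlg.splitIdeal p A φ) ((p : FrobAlg.W2 p A) * y) := by
        intro y
        rw [Algebra.smul_def]
        show ((Ideal.Quotient.mk (FrobAlg.splitIdeal p A φ)).comp
          (WittGrp.truncMap p 2 (algebraMap k A))) (p : TruncatedWittVector p 2 k) * _ = _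
        rw [map_natCast, map_mul, map_natCast]
      rw [hsm, Ideal.Quotient.eq_zero_iff_mem, p_mul_mem_iff p A φ hφ hφ1] at hm
      obtain ⟨x', hx'⟩ := exists_sub_p_mul_mem p A φ hφ hφ1 x hm
      refine ⟨Ideal.Quotient.mk _ x', ?_⟩
      rw [hsm, Ideal.Quotient.eq]
      exact hx'
    · intro a
      refine ⟨Ideal.Quotient.mk _ (WittVector.truncate 2 (WittVector.teichmuller p a)), ?_⟩
      rw [hπmk, coeff_T]
      exact WittVector.teichmuller_coeff_zero p a
    · apply le_antisymm
      · intro m hm
        obtain ⟨x, rfl⟩ := Ideal.Quotient.mk_surjective m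
        rw [RingHom.mem_ker, hπmk] at hm
        obtain ⟨x', hx'⟩ := exists_sub_p_mul_mem p A φ hφ hφ1 x hm
        have h1 : Ideal.Quotient.mk (FrobAlg.splitIdeal p A φ) x =
            ((Ideal.Quotient.mk (FrobAlg.splitIdeal p A φ)).comp
              (WittGrp.truncMap p 2 (algebraMap k A))) (p : FrobAlg.W2 p k) *
              Ideal.Quotient.mk (FrobAlg.splitIdeal p A φ) x' := by
          rw [map_natCast, ← map_natCast (Ideal.Quotient.mk (FrobAlg.splitIdeal p A φ)), ← map_mul,
            Ideal.Quotient.eq]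
          exact hx'
        rw [h1]
        apply Ideal.mul_mem_right
        apply Ideal.mem_map_of_mem
        rw [RingHom.mem_ker, map_natCast]
        exact CharP.cast_eq_zero k p
      · rw [Ideal.map_le_iff_le_comap]
        intro y hy
        rw [RingHom.mem_ker] at hy
        rw [Ideal.mem_comap, RingHom.mem_ker]
        have := congrArg (fun f => f y) hcomm
        simp only [RingHom.comp_apply] at this ⊢
        rw [this, hy, map_zero]

end Groth.Agent.S13147
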