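import Groth.Statements.S13150
import Mathlib
import Groth.Agent.S13147

set_option autoImplicit false
universe u
open FrobAlg

namespace Groth.Agent.S13150

section helpers

open WittVector Groth.Agent.S13147

variable (p : ℕ) [Fact p.Prime]

section W1

variable (B : Type u) [CommRing B]

/-- the first ghost component on `W₂(B)` -/
noncomputable def w1 : FrobAlg.W2 p B →+* B :=
  RingHom.liftOfSurjective (WittVector.truncate 2) (WittVector.truncate_surjective p 2 B)
    ⟨WittVector.ghostComponent 1, fun X hX => by
      rw [RingHom.mem_ker] at hX ⊢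
      have h0 := (WittVector.mem_ker_truncate 2 X).1 (RingHom.mem_ker.2 hX) 0 (by omega)
      have h1 := (WittVector.mem_ker_truncate 2 X).1 (RingHom.mem_ker.2 hX) 1 (by omega)
      rw [ghostComponent_apply, wittPolynomial_one]
      simp [h0, h1, (Fact.out : p.Prime).ne_zero]⟩

theorem w1_truncate (X : WittVector p B) :
    w1 p B (WittVector.truncate 2 X) = X.coeff 0 ^ p + (p : B) * X.coeff 1 := by
  unfold w1
  rw [RingHom.liftOfSurjective_comp_apply]
  show ghostComponent 1 X = _
  rw [ghostComponent_apply, wittPolynomial_one]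
  simp [add_comm]

theorem w1_apply (y : FrobAlg.W2 p B) :
    w1 p B y = y.coeff 0 ^ p + (p : B) * y.coeff 1 := by
  obtain ⟨X, rfl⟩ := WittVector.truncate_surjective p 2 B y
  rw [w1_truncate, coeff_T, coeff_T]
  rfl

end W1

section Pre

theorem p_sq (k : Type u) [Field k] [CharP k p] [PerfectRing k p] (B : Type u) [CommRing B]
    (ι : FrobAlg.W2 p k →+* B) : (p : B) * (p : B) = 0 := by
  have := Groth.Agent.Lib.W2Flat88.p_sq_W2 p k
  have h2 := congrArg ι this
  rw [map_pow, map_natCast, map_zero, pow_two] at h2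
  exact h2

theorem p_pow (k : Type u) [Field k] [CharP k p] [PerfectRing k p] (B : Type u) [CommRing B]
    (ι : FrobAlg.W2 p k →+* B) : (p : B) ^ p = 0 := by
  have h2 : 2 ≤ p := (Fact.out : p.Prime).two_le
  obtain ⟨m, hm⟩ := Nat.exists_eq_add_of_le h2
  have : (p : B) ^ p = (p : B) ^ (2 + m) := by rw [← hm]
  rw [this, pow_add, pow_two, p_sq p k B ι, zero_mul]

theorem pi_p (k : Type u) [Field k] [CharP k p] (A B : Type u) [CommRing A] [Algebra k A]
    [CommRing B] (π : B →+* A) : π (p : B) = 0 := by
  rw [map_natCast]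
  have : (p : A) = algebraMap k A (p : k) := (map_natCast _ _).symm
  rw [this, CharP.cast_eq_zero, map_zero]

end Pre

section Lift

variable (k : Type u) [Field k] [CharP k p] [PerfectRing k p]
  (A B : Type u) [CommRing A] [Algebra k A] [CommRing B]
  (ι : FrobAlg.W2 p k →+* B) (π : B →+* A) (hB : FrobAlg.IsLift p k A B ι π)

include hB

theorem ker_pi : RingHom.ker π = Ideal.span {(p : B)} := by
  have h1 : FrobAlg.res p k = Groth.Agent.Lib.SigmaLin.c0 p k 1 := by
    ext x
    rw [FrobAlg.res_apply]; rfl
  rw [hB.ker_eq, h1, Groth.Agent.Lib.SigmaLin.ker_c0, Ideal.map_span, Set.image_singleton,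
    map_natCast]

theorem truncMap_pi_surjective : Function.Surjective (WittGrp.truncMap p 2 π) := by
  intro x
  refine ⟨TruncatedWittVector.mk p fun i => Classical.choose (hB.surj (x.coeff i)), ?_⟩
  apply TruncatedWittVector.ext
  intro i
  rw [WittGrp.coeff_truncMap, TruncatedWittVector.coeff_mk]
  exact Classical.choose_spec (hB.surj (x.coeff i))

/-- the map `W₂(A) → B`, `(a₀, a₁) ↦ ã₀^p + p ã₁`. -/
noncomputable def what : FrobAlg.W2 p A →+* B :=
  RingHom.liftOfSurjective (WittGrp.truncMap p 2 π) (truncMap_pi_surjective p k A B ι π hB)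
    ⟨w1 p B, fun y hy => by
      rw [RingHom.mem_ker] at hy ⊢
      have h0 : y.coeff 0 ∈ RingHom.ker π := by
        rw [RingHom.mem_ker, ← WittGrp.coeff_truncMap, hy, TruncatedWittVector.coeff_zero]
      have h1 : y.coeff 1 ∈ RingHom.ker π := by
        rw [RingHom.mem_ker, ← WittGrp.coeff_truncMap, hy, TruncatedWittVector.coeff_zero]
      rw [ker_pi p k A B ι π hB, Ideal.mem_span_singleton'] at h0 h1
      obtain ⟨c0, hc0⟩ := h0
      obtain ⟨c1, hc1⟩ := h1
      rw [w1_apply, ← hc0, ← hc1, mul_pow, p_pow p k B ι, mul_zero, zero_add, mul_comm c1,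
        ← mul_assoc, p_sq p k B ι, zero_mul]⟩

theorem what_truncMap (y : FrobAlg.W2 p B) :
    what p k A B ι π hB (WittGrp.truncMap p 2 π y) = y.coeff 0 ^ p + (p : B) * y.coeff 1 := by
  unfold what
  rw [RingHom.liftOfSurjective_comp_apply]
  exact w1_apply p B y

theorem pi_what (x : FrobAlg.W2 p A) : π (what p k A B ι π hB x) = x.coeff 0 ^ p := by
  obtain ⟨y, rfl⟩ := truncMap_pi_surjective p k A B ι π hB x
  rw [what_truncMap, map_add, map_mul, pi_p p k A B π, zero_mul, add_zero, map_pow,
    WittGrp.coeff_truncMap]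

omit hB in
/-- in `W₂(k)`: `σ c = [c₀]^p + p [c₁]`. -/
theorem sigma_eq (c : FrobAlg.W2 p k) :
    FrobAlg.sigma p k c = WittVector.truncate 2 (teichmuller p (c.coeff 0)) ^ p +
      (p : FrobAlg.W2 p k) * WittVector.truncate 2 (teichmuller p (c.coeff 1)) := by
  have hX : c = WittVector.truncate 2 (teichmuller p (c.coeff 0) +
      verschiebung (teichmuller p (c.coeff 1))) := by
    apply TruncatedWittVector.ext
    intro i
    rw [coeff_T, coeff_add_of_disjoint]
    · fin_cases i
      · show c.coeff 0 = (teichmuller p (c.coeff 0)).coeff 0 + (verschiebung _).coeff 0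
        rw [teichmuller_coeff_zero, verschiebung_coeff_zero, add_zero]
      · show c.coeff 1 = (teichmuller p (c.coeff 0)).coeff 1 + (verschiebung _).coeff 1
        rw [teichmuller_coeff_pos p _ 1 one_pos, zero_add]
        have := verschiebung_coeff_succ (teichmuller p (c.coeff 1)) 0
        rw [teichmuller_coeff_zero] at this
        exact this.symm
    · intro n
      rcases Nat.eq_zero_or_pos n with rfl | hn
      · right; exact verschiebung_coeff_zero _
      · left; exact teichmuller_coeff_pos p _ n hn
  conv_lhs => rw [hX]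
  rw [FrobAlg.sigma, WittGrp.frob_truncate, map_add, frobenius_verschiebung,
    frobenius_eq_map_frobenius, map_teichmuller, map_add, map_mul, map_natCast, mul_comm]
  congr 2
  rw [← map_pow, ← map_pow]
  rfl

/-- `ŵ (W₂(k → A) c) = ι (σ c)` -/
theorem what_truncMap_algebraMap (c : FrobAlg.W2 p k) :
    what p k A B ι π hB (WittGrp.truncMap p 2 (algebraMap k A) c) = ι (FrobAlg.sigma p k c) := by
  have hπι : ∀ z : FrobAlg.W2 p k, π (ι z) = algebraMap k A (z.coeff 0) := by
    intro z
    have := congrArg (fun f => f z) hB.comm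
    simpa using this
  have h1 : WittGrp.truncMap p 2 (algebraMap k A) c = WittGrp.truncMap p 2 π
      (TruncatedWittVector.mk p fun i => ι (WittVector.truncate 2 (teichmuller p (c.coeff i)))) := by
    apply TruncatedWittVector.ext
    intro i
    rw [WittGrp.coeff_truncMap, WittGrp.coeff_truncMap, TruncatedWittVector.coeff_mk, hπι,
      coeff_T]
    congr 1
  rw [h1, what_truncMap, TruncatedWittVector.coeff_mk, TruncatedWittVector.coeff_mk, sigma_eq,
    map_add, map_pow, map_mul, map_natCast]

theorem eq_zero_of_what (x : FrobAlg.W2 p A) (h0 : FrobAlg.res p A x = 0)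
    (h1 : what p k A B ι π hB x = 0) : x = 0 := by
  obtain ⟨y, rfl⟩ := truncMap_pi_surjective p k A B ι π hB x
  rw [FrobAlg.res_apply, WittGrp.coeff_truncMap] at h0
  have hy0 : y.coeff 0 ∈ RingHom.ker π := h0
  rw [ker_pi p k A B ι π hB, Ideal.mem_span_singleton'] at hy0
  obtain ⟨c, hc⟩ := hy0
  rw [what_truncMap, ← hc, mul_pow, p_pow p k B ι, mul_zero, zero_add] at h1
  letI := ι.toAlgebra
  have hflat : Module.Flat (TruncatedWittVector p 2 k) B := hB.flat
  obtain ⟨d, hd⟩ := (Groth.Agent.Lib.W2Flat88.flat_W2_iff p k B).1 hflat (y.coeff 1) (by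
    rw [Algebra.smul_def]
    show ι (p : TruncatedWittVector p 2 k) * _ = 0
    rw [map_natCast]
    exact h1)
  have hd' : y.coeff 1 = (p : B) * d := by
    rw [hd, Algebra.smul_def]
    show ι (p : TruncatedWittVector p 2 k) * _ = _
    rw [map_natCast]
  apply TruncatedWittVector.ext
  intro i
  rw [WittGrp.coeff_truncMap, TruncatedWittVector.coeff_zero]
  fin_cases i
  · exact h0
  · show π (y.coeff 1) = 0
    rw [hd', map_mul, pi_p p k A B π, zero_mul]

theorem what_inj (x x' : FrobAlg.W2 p A) (h0 : FrobAlg.res p A x = FrobAlg.res p A x')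
    (h1 : what p k A B ι π hB x = what p k A B ι π hB x') : x = x' := by
  rw [← sub_eq_zero]
  apply eq_zero_of_what p k A B ι π hB
  · rw [map_sub, h0, sub_self]
  · rw [map_sub, h1, sub_self]

theorem exists_what_eq (b b' : B) (h : π b' = π b ^ p) :
    ∃ x : FrobAlg.W2 p A, FrobAlg.res p A x = π b ∧ what p k A B ι π hB x = b' := by
  have hmem : b' - b ^ p ∈ RingHom.ker π := by
    rw [RingHom.mem_ker, map_sub, map_pow, h, sub_self]
  rw [ker_pi p k A B ι π hB, Ideal.mem_span_singleton'] at hmem
  obtain ⟨c, hc⟩ := hmem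
  refine ⟨WittGrp.truncMap p 2 π (TruncatedWittVector.mk p fun i => if i = 0 then b else c), ?_, ?_⟩
  · rw [FrobAlg.res_apply, WittGrp.coeff_truncMap, TruncatedWittVector.coeff_mk, if_pos rfl]
  · rw [what_truncMap, TruncatedWittVector.coeff_mk, TruncatedWittVector.coeff_mk, if_pos rfl,
      if_neg (by decide), mul_comm, hc]
    ring

end Lift

end helpers

/-- Let k be a perfect field of characteristic p and (B, ι, π) a flat lifting over W₂(k) of a Noetherian
k-algebra A. The Frobenius of A lifts to B (a σ₂-semilinear ring endomorphism of B reducing to the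
p-th power map) if and only if there is a ring homomorphism θ : B → W₂(A) over A (the zeroth Witt
component of θ(b) is π(b)) with θ ∘ ι equal to the map W₂(k) → W₂(A) induced by k → A. (The
published statement is for a flat W₂(k)-extension of the structure sheaf of a scheme and says: the
push-out of that extension along the Frobenius O_X → F_*O_X is isomorphic, as an extension by F_*O_X
over W₂(k), to W₂(O_X); by the universal property of the push-out this is the existence of a
morphism of extensions to W₂(O_X), which in the affine case taken here is the map θ.) -/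
theorem result
    (p : ℕ) [Fact p.Prime] (k : Type u) [Field k] [CharP k p] [PerfectRing k p]
    (A B : Type u) [CommRing A] [Algebra k A] [IsNoetherianRing A] [CommRing B]
    (ι : FrobAlg.W2 p k →+* B) (π : B →+* A) (hB : FrobAlg.IsLift p k A B ι π) :
    (∃ Φ : B →+* B, FrobAlg.IsFrobLift p k A B ι π Φ) ↔
      ∃ θ : B →+* FrobAlg.W2 p A,
        (FrobAlg.res p A).comp θ = π ∧ θ.comp ι = WittGrp.truncMap p 2 (algebraMap k A) := by
  have hπι : ∀ z : FrobAlg.W2 p k, π (ι z) = algebraMap k A (z.coeff 0) := by
    intro z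
    have := congrArg (fun f => f z) hB.comm
    simpa using this
  constructor
  · rintro ⟨Φ, hΦ⟩
    have hex := fun b : B => exists_what_eq p k A B ι π hB b (Φ b) (hΦ.red b)
    choose θf hθ0 hθ1 using hex
    have inj := what_inj p k A B ι π hB
    let θ : B →+* FrobAlg.W2 p A :=
      { toFun := θf
        map_one' := inj _ _ (by rw [hθ0, map_one, map_one]) (by rw [hθ1, map_one, map_one])
        map_mul' := fun b b' => inj _ _ (by rw [hθ0, map_mul, map_mul, hθ0, hθ0])
          (by rw [hθ1, map_mul, map_mul, hθ1, hθ1])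
        map_zero' := inj _ _ (by rw [hθ0, map_zero, map_zero]) (by rw [hθ1, map_zero, map_zero])
        map_add' := fun b b' => inj _ _ (by rw [hθ0, map_add, map_add, hθ0, hθ0])
          (by rw [hθ1, map_add, map_add, hθ1, hθ1]) }
    refine ⟨θ, ?_, ?_⟩
    · ext b
      exact hθ0 b
    · ext1 c
      apply inj
      · show FrobAlg.res p A (θf (ι c)) = _
        rw [hθ0, hπι, FrobAlg.res_apply, WittGrp.coeff_truncMap]
      · show what p k A B ι π hB (θf (ι c)) = _
        rw [hθ1, what_truncMap_algebraMap]
        have := congrArg (fun f => f c) hΦ.semi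
        simpa using this
  · rintro ⟨θ, h1, h2⟩
    refine ⟨(what p k A B ι π hB).comp θ, { toIsLift := hB, semi := ?_, red := ?_ }⟩
    · ext1 c
      have h2c : θ (ι c) = WittGrp.truncMap p 2 (algebraMap k A) c := congrArg (fun f => f c) h2
      simp only [RingHom.comp_apply]
      rw [h2c, what_truncMap_algebraMap]
    · intro b
      have h1b : FrobAlg.res p A (θ b) = π b := congrArg (fun f => f b) h1
      simp only [RingHom.comp_apply]
      rw [pi_what, ← FrobAlg.res_apply, h1b]

end Groth.Agent.S13150
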