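import Groth.Statements.S13143
import Mathlib
import Groth.Agent.S13150

set_option autoImplicit false
universe u
open FrobAlg

namespace Groth.Agent.S13143

section helpers

variable (p : ℕ) [Fact p.Prime] (k : Type u) [Field k] [CharP k p] [PerfectRing k p]
  (A B : Type u) [CommRing A] [CommRing B] [Algebra k A] [Algebra k B]
  [Algebra A B] [IsScalarTower k A B]
  (r : B →ₗ[A] A) (hr : ∀ a : A, r (algebraMap A B a) = a)
  (B' : Type u) [CommRing B'] (ιB : FrobAlg.W2 p k →+* B') (πB : B' →+* B)
  (hB : FrobAlg.IsLift p k B B' ιB πB)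

/-- the subring `π⁻¹(φ A)` of `B'` -/
def BA : Subring B' := (algebraMap A B).range.comap πB

omit [Algebra k A] [Algebra k B] [IsScalarTower k A B] in
theorem mem_BA (x : B') : x ∈ BA A B B' πB ↔ ∃ a : A, algebraMap A B a = πB x := Iff.rfl

include hr in
omit [Algebra k A] [Algebra k B] [IsScalarTower k A B] in
theorem r_pi_mul (x y : B') (hx : x ∈ BA A B B' πB) :
    r (πB (x * y)) = r (πB x) * r (πB y) := by
  obtain ⟨a, ha⟩ := hx
  rw [map_mul, ← ha, hr, ← Algebra.smul_def, map_smul, smul_eq_mul]

/-- the ideal `N = {p b' : r (π b') = 0}` of `π⁻¹(φ A)` -/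
def N : Ideal (BA A B B' πB) where
  carrier := {x | ∃ b' : B', (x : B') = (p : B') * b' ∧ r (πB b') = 0}
  add_mem' := by
    rintro x y ⟨b, hb, hb0⟩ ⟨c, hc, hc0⟩
    exact ⟨b + c, by rw [Subring.coe_add, hb, hc, mul_add], by rw [map_add, map_add, hb0, hc0, add_zero]⟩
  zero_mem' := ⟨0, by simp, by simp⟩
  smul_mem' := by
    rintro y x ⟨b, hb, hb0⟩
    refine ⟨(y : B') * b, ?_, ?_⟩
    · rw [smul_eq_mul, Subring.coe_mul, hb]; ring
    · obtain ⟨a, ha⟩ := y.2
      rw [map_mul, ← ha, ← Algebra.smul_def, map_smul, hb0, smul_zero]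

include hr in
/-- the map `π⁻¹(φ A) → A`, `x ↦ r (π x)` (the unique `a` with `φ a = π x`). -/
noncomputable def piA0 : BA A B B' πB →+* A where
  toFun x := r (πB x)
  map_one' := by
    rw [Subring.coe_one, map_one, ← map_one (algebraMap A B), hr]
  map_mul' x y := by
    rw [Subring.coe_mul]
    exact r_pi_mul A B r hr B' πB x y x.2
  map_zero' := by rw [Subring.coe_zero, map_zero, map_zero]
  map_add' x y := by rw [Subring.coe_add, map_add, map_add]

omit [Algebra k A] [Algebra k B] [IsScalarTower k A B] in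
theorem algebraMap_piA0 (x : BA A B B' πB) :
    algebraMap A B (piA0 A B r hr B' πB x) = πB x := by
  obtain ⟨a, ha⟩ := x.2
  show algebraMap A B (r (πB x)) = πB x
  rw [← ha, hr]

omit [Algebra k A] [Algebra k B] [IsScalarTower k A B] in
theorem piA0_N (hp : πB (p : B') = 0) (x : BA A B B' πB) (hx : x ∈ N p A B r B' πB) :
    piA0 A B r hr B' πB x = 0 := by
  obtain ⟨b, hb, -⟩ := hx
  show r (πB x) = 0
  rw [hb, map_mul, hp, zero_mul, map_zero]

/-- the lifting `A' = π⁻¹(φ A) / N`. -/
abbrev A' : Type u := BA A B B' πB ⧸ N p A B r B' πB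

noncomputable def piA (hp : πB (p : B') = 0) : A' p A B r B' πB →+* A :=
  Ideal.Quotient.lift (N p A B r B' πB) (piA0 A B r hr B' πB) (piA0_N p A B r hr B' πB hp)

include hB in
theorem iotaB_mem (c : FrobAlg.W2 p k) : ιB c ∈ BA A B B' πB := by
  refine ⟨algebraMap k A (FrobAlg.res p k c), ?_⟩
  have := congrArg (fun f => f c) hB.comm
  simp only [RingHom.comp_apply] at this
  rw [this, ← IsScalarTower.algebraMap_apply]

noncomputable def iotaA : FrobAlg.W2 p k →+* A' p A B r B' πB :=
  (Ideal.Quotient.mk (N p A B r B' πB)).comp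
    (ιB.codRestrict (BA A B B' πB) (iotaB_mem p k A B B' ιB πB hB))

include hr hB in
/-- key lemma: an element of `π⁻¹(φ A)` killed by `π` is `p z` modulo `N`. -/
theorem exists_sub_mem_N (y : BA A B B' πB) (hy : πB y = 0) :
    ∃ z : BA A B B' πB, y - (p : BA A B B' πB) * z ∈ N p A B r B' πB := by
  have hy' : (y : B') ∈ RingHom.ker πB := hy
  rw [Groth.Agent.S13150.ker_pi p k B B' ιB πB hB, Ideal.mem_span_singleton'] at hy'
  obtain ⟨b, hb⟩ := hy'
  obtain ⟨z, hz⟩ := hB.surj (algebraMap A B (r (πB b)))
  refine ⟨⟨z, r (πB b), hz.symm⟩, b - z, ?_, ?_⟩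
  · push_cast
    rw [← hb]
    ring
  · rw [map_sub, map_sub, hz, hr, sub_self]

end helpers

/-- Let k be a perfect field of characteristic p and A → B a homomorphism of Noetherian k-algebras with
an A-linear retraction B → A. If B lifts flatly to W₂(k), so does A. (The published statement
phrases the descent for finite surjective morphisms of degree prime to p, via a trace splitting; the
argument uses exactly an A-linear splitting of A → B for an affine morphism, which is the hypothesis
taken here.) -/
theorem result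
    (p : ℕ) [Fact p.Prime] (k : Type u) [Field k] [CharP k p] [PerfectRing k p]
    (A B : Type u) [CommRing A] [CommRing B] [Algebra k A] [Algebra k B]
    [IsNoetherianRing A] [IsNoetherianRing B] [Algebra A B] [IsScalarTower k A B]
    (r : B →ₗ[A] A) (hr : ∀ a : A, r (algebraMap A B a) = a)
    (hB : FrobAlg.IsW2Liftable p k B) : FrobAlg.IsW2Liftable p k A := by
  obtain ⟨B', _, ιB, πB, hB⟩ := hB
  have hp : πB (p : B') = 0 := Groth.Agent.S13150.pi_p p k B B' πB
  have hinj : Function.Injective (algebraMap A B) := Function.LeftInverse.injective hr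
  have hπmk : ∀ y : BA A B B' πB, piA p A B r hr B' πB hp (Ideal.Quotient.mk _ y) = r (πB y) := by
    intro y
    unfold piA
    rw [Ideal.Quotient.lift_mk]
    rfl
  have hιp : iotaA p k A B r B' ιB πB hB (p : FrobAlg.W2 p k) = (p : A' p A B r B' πB) :=
    map_natCast _ _
  have hcomm : (piA p A B r hr B' πB hp).comp (iotaA p k A B r B' ιB πB hB) =
      (algebraMap k A).comp (FrobAlg.res p k) := by
    ext c
    simp only [RingHom.comp_apply]
    unfold iotaA
    simp only [RingHom.comp_apply]
    rw [hπmk]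
    show r (πB (ιB c)) = _
    have := congrArg (fun f => f c) hB.comm
    simp only [RingHom.comp_apply] at this
    rw [this, IsScalarTower.algebraMap_apply k A B, hr]
  -- elements of A' killed by piA are multiples of p
  have hkey : ∀ y : BA A B B' πB, r (πB y) = 0 →
      ∃ z : BA A B B' πB, Ideal.Quotient.mk (N p A B r B' πB) y =
        (p : A' p A B r B' πB) * Ideal.Quotient.mk (N p A B r B' πB) z := by
    intro y hy
    have hy0 : πB y = 0 := by
      have := algebraMap_piA0 A B r hr B' πB y
      rw [← this]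
      show algebraMap A B (r (πB y)) = 0
      rw [hy, map_zero]
    obtain ⟨z, hz⟩ := exists_sub_mem_N p k A B r hr B' ιB πB hB y hy0
    refine ⟨z, ?_⟩
    rw [← map_natCast (Ideal.Quotient.mk (N p A B r B' πB)), ← map_mul, Ideal.Quotient.eq]
    exact hz
  refine ⟨A' p A B r B' πB, inferInstance, iotaA p k A B r B' ιB πB hB, piA p A B r hr B' πB hp,
    ?_, ?_, ?_, hcomm⟩
  · -- flat
    letI := (iotaA p k A B r B' ιB πB hB).toAlgebra
    show Module.Flat _ _
    rw [Groth.Agent.Lib.W2Flat88.flat_W2_iff]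
    intro m hm
    obtain ⟨y, rfl⟩ := Ideal.Quotient.mk_surjective m
    have hsm : ∀ y : BA A B B' πB, (p : TruncatedWittVector p 2 k) •
        (Ideal.Quotient.mk (N p A B r B' πB) y) =
        Ideal.Quotient.mk (N p A B r B' πB) ((p : BA A B B' πB) * y) := by
      intro y
      rw [Algebra.smul_def]
      show iotaA p k A B r B' ιB πB hB (p : TruncatedWittVector p 2 k) * _ = _
      rw [hιp, map_mul, map_natCast]
    rw [hsm, Ideal.Quotient.eq_zero_iff_mem] at hm
    obtain ⟨b, hb, hb0⟩ := hm
    -- p (y - b) = 0 in B', so y - b ∈ p B' by flatness of B'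
    have hpyb : (p : B') * ((y : B') - b) = 0 := by
      have : (((p : BA A B B' πB) * y : BA A B B' πB) : B') = (p : B') * (y : B') := by push_cast; rfl
      rw [mul_sub, ← this, hb, sub_self]
    have hflatB : (y : B') - b ∈ Ideal.span {(p : B')} := by
      letI := ιB.toAlgebra
      have hflat : Module.Flat (TruncatedWittVector p 2 k) B' := hB.flat
      obtain ⟨d, hd⟩ := (Groth.Agent.Lib.W2Flat88.flat_W2_iff p k B').1 hflat ((y : B') - b) (by
        rw [Algebra.smul_def]
        show ιB (p : TruncatedWittVector p 2 k) * _ = 0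
        rw [map_natCast]
        exact hpyb)
      rw [Ideal.mem_span_singleton']
      refine ⟨d, ?_⟩
      rw [hd, Algebra.smul_def, mul_comm]
      show _ = ιB (p : TruncatedWittVector p 2 k) * _
      rw [map_natCast]
    rw [← Groth.Agent.S13150.ker_pi p k B B' ιB πB hB, RingHom.mem_ker, map_sub, sub_eq_zero]
      at hflatB
    have hy : r (πB y) = 0 := by rw [hflatB, hb0]
    obtain ⟨z, hz⟩ := hkey y hy
    refine ⟨Ideal.Quotient.mk _ z, ?_⟩
    rw [hsm, hz, map_mul, map_natCast]
  · -- surjective
    intro a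
    obtain ⟨b, hb⟩ := hB.surj (algebraMap A B a)
    refine ⟨Ideal.Quotient.mk _ ⟨b, a, hb.symm⟩, ?_⟩
    rw [hπmk]
    show r (πB b) = a
    rw [hb, hr]
  · -- kernel
    apply le_antisymm
    · intro m hm
      obtain ⟨y, rfl⟩ := Ideal.Quotient.mk_surjective m
      rw [RingHom.mem_ker, hπmk] at hm
      obtain ⟨z, hz⟩ := hkey y hm
      rw [hz, ← hιp]
      apply Ideal.mul_mem_right
      apply Ideal.mem_map_of_mem
      rw [RingHom.mem_ker, map_natCast]
      exact CharP.cast_eq_zero k p
    · rw [Ideal.map_le_iff_le_comap]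
      intro c hc
      rw [RingHom.mem_ker] at hc
      rw [Ideal.mem_comap, RingHom.mem_ker]
      have := congrArg (fun f => f c) hcomm
      simp only [RingHom.comp_apply] at this
      rw [this, hc, map_zero]

end Groth.Agent.S13143
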