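import Groth.Statements.S13144
import Mathlib
import Groth.Agent.S13150

set_option autoImplicit false
universe u
open FrobAlg

namespace Groth.Agent.S13144

section helpers

open WittVector Groth.Agent.S13147

variable (p : ℕ) [Fact p.Prime]

section Vm

variable {R : Type u} [CommRing R]

local notation "T" => (WittVector.truncate (p := p) (R := R) 2)

/-- `a ↦ (0, a)` -/
noncomputable def Vm (a : R) : FrobAlg.W2 p R := T (verschiebung (teichmuller p a))

theorem T_V_eq (X : WittVector p R) : T (verschiebung X) = Vm p (X.coeff 0) := by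
  apply TruncatedWittVector.ext
  intro i
  unfold Vm
  fin_cases i
  · show (T (verschiebung X)).coeff 0 = (T (verschiebung _)).coeff 0
    rw [coeff_T_V_zero, coeff_T_V_zero]
  · show (T (verschiebung X)).coeff 1 = (T (verschiebung _)).coeff 1
    rw [coeff_T_V_one, coeff_T_V_one, teichmuller_coeff_zero]

theorem Vm_add (a b : R) : Vm p (a + b) = Vm p a + Vm p b := by
  have : Vm p a + Vm p b = T (verschiebung (teichmuller p a + teichmuller p b)) := by
    unfold Vm; rw [map_add, map_add]
  rw [this, T_V_eq, add_coeff_zero, teichmuller_coeff_zero, teichmuller_coeff_zero]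

theorem Vm_zero : Vm p (0 : R) = 0 := by
  have := Vm_add p (0 : R) 0
  rw [add_zero] at this
  exact left_eq_add.mp this

theorem Vm_neg (a : R) : Vm p (-a) = - Vm p a := by
  rw [eq_neg_iff_add_eq_zero, ← Vm_add, neg_add_cancel, Vm_zero]

theorem Vm_sub (a b : R) : Vm p (a - b) = Vm p a - Vm p b := by
  rw [sub_eq_add_neg, Vm_add, Vm_neg, sub_eq_add_neg]

theorem coeff_zero_Vm (a : R) : (Vm p a).coeff 0 = 0 := coeff_T_V_zero p R _

theorem coeff_one_Vm (a : R) : (Vm p a).coeff 1 = a := by
  unfold Vm; rw [coeff_T_V_one, teichmuller_coeff_zero]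

theorem Vm_injective {a b : R} (h : Vm p a = Vm p b) : a = b := by
  rw [← coeff_one_Vm p a, h, coeff_one_Vm]

theorem eq_Vm_of_coeff_zero (x : FrobAlg.W2 p R) (hx : x.coeff 0 = 0) : x = Vm p (x.coeff 1) := by
  obtain ⟨Y, hY, hY0⟩ := exists_eq_T_V p R x hx
  rw [← hY0, ← T_V_eq]
  exact hY

theorem mul_Vm [CharP R p] (x : FrobAlg.W2 p R) (a : R) :
    x * Vm p a = Vm p (x.coeff 0 ^ p * a) := by
  obtain ⟨X, rfl⟩ := WittVector.truncate_surjective p 2 R x
  have : T X * Vm p a = T (verschiebung (teichmuller p a * frobenius X)) := by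
    unfold Vm
    rw [verschiebung_mul_frobenius, map_mul, mul_comm]
  rw [this, T_V_eq, mul_coeff_zero, teichmuller_coeff_zero, coeff_frobenius_charP, coeff_T,
    mul_comm]
  rfl

theorem truncMap_Vm {S : Type u} [CommRing S] (g : R →+* S) (a : R) :
    WittGrp.truncMap p 2 g (Vm p a) = Vm p (g a) := by
  unfold Vm
  rw [WittGrp.truncMap_truncate, map_verschiebung, map_teichmuller]

theorem coeff_zero_sub (x y : FrobAlg.W2 p R) : (x - y).coeff 0 = x.coeff 0 - y.coeff 0 := by
  rw [← FrobAlg.res_apply, map_sub, FrobAlg.res_apply, FrobAlg.res_apply]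

end Vm

section Rel

variable {A B : Type u} [CommRing A] [CommRing B] [Algebra A B] [CharP A p] [CharP B p]
  (r : B →ₗ[A] A) (hr : ∀ a : A, r (algebraMap A B a) = a)

/-- `w ∈ W₂(A)` and `x ∈ W₂(B)` are related: `W₂(φ) w - x = (0, κ)` with `r κ = 0`. -/
def Rel (w : FrobAlg.W2 p A) (x : FrobAlg.W2 p B) : Prop :=
  ∃ κ : B, r κ = 0 ∧ WittGrp.truncMap p 2 (algebraMap A B) w - x = Vm p κ

omit [CharP A p] [CharP B p] in
theorem Rel.coeff_zero {w : FrobAlg.W2 p A} {x : FrobAlg.W2 p B} (h : Rel p r w x) :
    algebraMap A B (w.coeff 0) = x.coeff 0 := by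
  obtain ⟨κ, -, hκ⟩ := h
  have := congrArg (fun y => TruncatedWittVector.coeff 0 y) hκ
  beta_reduce at this
  rw [coeff_zero_sub, coeff_zero_Vm, WittGrp.coeff_truncMap, sub_eq_zero] at this
  exact this

include hr in
omit [CharP A p] [CharP B p] in
theorem Rel.unique {w w' : FrobAlg.W2 p A} {x : FrobAlg.W2 p B} (h : Rel p r w x)
    (h' : Rel p r w' x) : w = w' := by
  have h0 := h.coeff_zero
  have h0' := h'.coeff_zero
  obtain ⟨κ, hκ0, hκ⟩ := h
  obtain ⟨κ', hκ0', hκ'⟩ := h'
  have hw0 : (w - w').coeff 0 = 0 := by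
    rw [coeff_zero_sub, ← hr (w.coeff 0), ← hr (w'.coeff 0), h0, h0', sub_self]
  have hww := eq_Vm_of_coeff_zero p (w - w') hw0
  have h1 : WittGrp.truncMap p 2 (algebraMap A B) (w - w') = Vm p (κ - κ') := by
    rw [Vm_sub, ← hκ, ← hκ', map_sub]; ring
  rw [hww, truncMap_Vm] at h1
  have h2 := Vm_injective p h1
  have h3 : (w - w').coeff 1 = 0 := by
    rw [← hr ((w - w').coeff 1), h2, map_sub, hκ0, hκ0', sub_self]
  rw [h3, Vm_zero] at hww
  exact sub_eq_zero.mp hww

include hr in
omit [CharP A p] [CharP B p] in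
theorem Rel.exists (x : FrobAlg.W2 p B) (a : A) (hx : x.coeff 0 = algebraMap A B a) :
    ∃ w, Rel p r w x := by
  have h0 : (x - WittVector.truncate 2 (teichmuller p (algebraMap A B a))).coeff 0 = 0 := by
    rw [coeff_zero_sub, hx, coeff_T, sub_eq_zero]
    exact (teichmuller_coeff_zero p _).symm
  have hz := eq_Vm_of_coeff_zero p _ h0
  set z := (x - WittVector.truncate 2 (teichmuller p (algebraMap A B a))).coeff 1 with hzdef
  refine ⟨WittVector.truncate 2 (teichmuller p a) + Vm p (r z), algebraMap A B (r z) - z, ?_, ?_⟩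
  · rw [map_sub, hr, sub_self]
  · rw [map_add, truncMap_Vm, WittGrp.truncMap_truncate, map_teichmuller, Vm_sub]
    have : x = WittVector.truncate 2 (teichmuller p (algebraMap A B a)) + Vm p z := by
      rw [← hz]; ring
    conv_lhs => rw [this]
    ring

omit [CharP A p] [CharP B p] in
theorem Rel.add {w w' : FrobAlg.W2 p A} {x x' : FrobAlg.W2 p B} (h : Rel p r w x)
    (h' : Rel p r w' x') : Rel p r (w + w') (x + x') := by
  obtain ⟨κ, hκ0, hκ⟩ := h
  obtain ⟨κ', hκ0', hκ'⟩ := h'
  refine ⟨κ + κ', by rw [map_add, hκ0, hκ0', add_zero], ?_⟩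
  rw [Vm_add, ← hκ, ← hκ', map_add]; ring

omit [CharP A p] in
theorem Rel.mul {w w' : FrobAlg.W2 p A} {x x' : FrobAlg.W2 p B} (h : Rel p r w x)
    (h' : Rel p r w' x') : Rel p r (w * w') (x * x') := by
  have h0' := h'.coeff_zero
  obtain ⟨κ, hκ0, hκ⟩ := h
  obtain ⟨κ', hκ0', hκ'⟩ := h'
  refine ⟨algebraMap A B (w.coeff 0 ^ p) * κ' + algebraMap A B (w'.coeff 0 ^ p) * κ, ?_, ?_⟩
  · rw [map_add, ← Algebra.smul_def, ← Algebra.smul_def, map_smul, map_smul, hκ0, hκ0', smul_zero,
      smul_zero, add_zero]
  · have e : WittGrp.truncMap p 2 (algebraMap A B) (w * w') - x * x' =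
        WittGrp.truncMap p 2 (algebraMap A B) w *
          (WittGrp.truncMap p 2 (algebraMap A B) w' - x') +
        x' * (WittGrp.truncMap p 2 (algebraMap A B) w - x) := by
      rw [map_mul]; ring
    rw [e, hκ, hκ', mul_Vm, mul_Vm, Vm_add, WittGrp.coeff_truncMap, ← h0', map_pow, map_pow]

omit [CharP A p] [CharP B p] in
theorem Rel.one : Rel p r (1 : FrobAlg.W2 p A) (1 : FrobAlg.W2 p B) :=
  ⟨0, map_zero _, by rw [map_one, sub_self, Vm_zero]⟩

omit [CharP A p] [CharP B p] in
theorem Rel.zero : Rel p r (0 : FrobAlg.W2 p A) (0 : FrobAlg.W2 p B) :=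
  ⟨0, map_zero _, by rw [map_zero, sub_self, Vm_zero]⟩

end Rel

end helpers

/-- Let k be a perfect field of characteristic p, A → B a homomorphism of Noetherian k-algebras with an
A-linear retraction B → A, and A' → B' a homomorphism over W₂(k) between flat liftings of A and B
which reduces to A → B. If the Frobenius of B lifts to B' (a σ₂-semilinear ring endomorphism
reducing to the p-th power map), then the Frobenius of A lifts to A'. (The published statement is
for an affine morphism whose map on structure sheaves splits linearly; the affine case with an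
A-linear splitting is taken here.) -/
theorem result
    (p : ℕ) [Fact p.Prime] (k : Type u) [Field k] [CharP k p] [PerfectRing k p]
    (A B : Type u) [CommRing A] [CommRing B] [Algebra k A] [Algebra k B]
    [IsNoetherianRing A] [IsNoetherianRing B] [Algebra A B] [IsScalarTower k A B]
    (r : B →ₗ[A] A) (hr : ∀ a : A, r (algebraMap A B a) = a)
    (A' B' : Type u) [CommRing A'] [CommRing B']
    (ιA : FrobAlg.W2 p k →+* A') (πA : A' →+* A) (hA : FrobAlg.IsLift p k A A' ιA πA)
    (ιB : FrobAlg.W2 p k →+* B') (πB : B' →+* B) (hB : FrobAlg.IsLift p k B B' ιB πB)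
    (φ' : A' →+* B') (hφι : φ'.comp ιA = ιB) (hφπ : πB.comp φ' = (algebraMap A B).comp πA)
    (ΦB : B' →+* B') (hΦB : FrobAlg.IsFrobLift p k B B' ιB πB ΦB) :
    ∃ ΦA : A' →+* A', FrobAlg.IsFrobLift p k A A' ιA πA ΦA := by
  rcases subsingleton_or_nontrivial A with hAs | hAn
  · -- degenerate case: A = 0, hence A' = 0
    have hker : RingHom.ker πA = ⊤ := by
      rw [Ideal.eq_top_iff_one, RingHom.mem_ker]; exact Subsingleton.elim _ _
    have hsp : (⊤ : Ideal A') = Ideal.span {(p : A')} := by
      rw [← hker, Groth.Agent.S13150.ker_pi p k A A' ιA πA hA]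
    have h1 : (1 : A') ∈ Ideal.span {(p : A')} := by rw [← hsp]; trivial
    rw [Ideal.mem_span_singleton'] at h1
    obtain ⟨c, hc⟩ := h1
    have h10 : (1 : A') = 0 := by
      have := Groth.Agent.S13150.p_sq p k A' ιA
      calc (1 : A') = (c * p) * (c * p) := by rw [hc, one_mul]
        _ = c * c * ((p : A') * p) := by ring
        _ = 0 := by rw [this, mul_zero]
    haveI : Subsingleton A' := subsingleton_of_zero_eq_one h10.symm
    exact ⟨RingHom.id A', { toIsLift := hA
                            semi := RingHom.ext fun x => Subsingleton.elim _ _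
                            red := fun b => Subsingleton.elim _ _ }⟩
  · have hinj : Function.Injective (algebraMap A B) :=
      Function.LeftInverse.injective hr
    haveI : Nontrivial B := hinj.nontrivial
    haveI : CharP A p := charP_of_injective_algebraMap (algebraMap k A).injective p
    haveI : CharP B p := charP_of_injective_algebraMap (algebraMap k B).injective p
    obtain ⟨θB, hθB1, hθB2⟩ := (Groth.Agent.S13150.result p k B B' ιB πB hB).1 ⟨ΦB, hΦB⟩
    rw [Groth.Agent.S13150.result p k A A' ιA πA hA]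
    have hθ0 : ∀ a' : A', (θB (φ' a')).coeff 0 = algebraMap A B (πA a') := by
      intro a'
      rw [← FrobAlg.res_apply]
      have h1 : FrobAlg.res p B (θB (φ' a')) = πB (φ' a') := congrArg (fun f => f (φ' a')) hθB1
      have h2 : πB (φ' a') = algebraMap A B (πA a') := congrArg (fun f => f a') hφπ
      rw [h1, h2]
    have hex := fun a' : A' => Rel.exists p r hr (θB (φ' a')) (πA a') (hθ0 a')
    choose θf hθf using hex
    let θ : A' →+* FrobAlg.W2 p A :=
      { toFun := θf
        map_one' := (hθf 1).unique p r hr (by rw [map_one, map_one]; exact Rel.one p r)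
        map_mul' := fun a b => (hθf (a * b)).unique p r hr
          (by rw [map_mul, map_mul]; exact (hθf a).mul p r (hθf b))
        map_zero' := (hθf 0).unique p r hr (by rw [map_zero, map_zero]; exact Rel.zero p r)
        map_add' := fun a b => (hθf (a + b)).unique p r hr
          (by rw [map_add, map_add]; exact (hθf a).add p r (hθf b)) }
    refine ⟨θ, ?_, ?_⟩
    · ext a'
      show FrobAlg.res p A (θf a') = πA a'
      rw [FrobAlg.res_apply]
      apply hinj
      rw [(hθf a').coeff_zero, hθ0]
    · ext1 c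
      show θf (ιA c) = _
      apply (hθf (ιA c)).unique p r hr
      refine ⟨0, map_zero _, ?_⟩
      have h1 : φ' (ιA c) = ιB c := congrArg (fun f => f c) hφι
      have h2 : θB (ιB c) = WittGrp.truncMap p 2 (algebraMap k B) c :=
        congrArg (fun f => f c) hθB2
      rw [h1, h2, Vm_zero, sub_eq_zero]
      have h3 : (algebraMap k B) = (algebraMap A B).comp (algebraMap k A) :=
        IsScalarTower.algebraMap_eq k A B
      rw [h3, WittGrp.truncMap_comp]
      rfl

end Groth.Agent.S13144
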