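import Groth.Statements.S13146
import Mathlib
import Groth.Agent.S13139
import Groth.Agent.Lib.W2Flat88

set_option autoImplicit false
universe u
open scoped BigOperators
open FrobAlg

namespace Groth.Agent.S13146

section helpers

open MvPolynomial

variable (p : ℕ) [Fact p.Prime] (k : Type u) [Field k] [CharP k p] [PerfectRing k p] (n : ℕ)

local notation "W" => FrobAlg.W2 p k
local notation "R'" => MvPolynomial (Fin n × Fin 2) (FrobAlg.W2 p k)
local notation "Rk" => MvPolynomial (Fin n × Fin 2) k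

theorem exists_sum_pow_prime {R : Type*} [CommRing R] {ι : Type*} (s : Finset ι) (u : ι → R) :
    ∃ r : R, (∑ i ∈ s, u i) ^ p = ∑ i ∈ s, u i ^ p + (p : R) * r := by
  classical
  induction s using Finset.induction_on with
  | empty => exact ⟨0, by simp [zero_pow (Fact.out : p.Prime).ne_zero]⟩
  | insert a s ha ih =>
    obtain ⟨r, hr⟩ := ih
    obtain ⟨r', hr'⟩ := exists_add_pow_prime_eq (Fact.out : p.Prime) (u a) (∑ i ∈ s, u i)
    refine ⟨r + u a * (∑ i ∈ s, u i) * r', ?_⟩
    rw [Finset.sum_insert ha, Finset.sum_insert ha, hr', hr]; ring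

/-- natural numbers not divisible by `p^2` are nonzero in `W₂(k)` -/
theorem natCast_ne_zero (c : ℕ) (hc : ¬ p ^ 2 ∣ c) : (c : W) ≠ 0 := by
  have hp : p.Prime := Fact.out
  have hunit : ∀ u : ℕ, ¬ p ∣ u → IsUnit (u : W) := by
    intro u hu
    by_contra hnu
    have hmem : (u : W) ∈ IsLocalRing.maximalIdeal (TruncatedWittVector p 2 k) :=
      (IsLocalRing.mem_maximalIdeal _).2 hnu
    rw [Groth.Agent.Lib.W2Flat88.maximalIdeal_W2, ← Groth.Agent.S13138.ker_res,
      RingHom.mem_ker, map_natCast] at hmem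
    exact hu ((CharP.cast_eq_zero_iff k p u).1 hmem)
  intro h0
  by_cases hpc : p ∣ c
  · obtain ⟨u, rfl⟩ := hpc
    have hu : ¬ p ∣ u := by
      intro ⟨v, hv⟩
      apply hc
      rw [hv]; exact ⟨v, by ring⟩
    rw [Nat.cast_mul] at h0
    have := (hunit u hu).mul_left_eq_zero.1 h0
    exact Groth.Agent.Lib.W2Flat88.p_ne_zero_W2 p k this
  · exact (hunit c hpc).ne_zero h0

theorem not_sq_dvd_factorial : ¬ p ^ 2 ∣ (2 * p - 1).factorial := by
  have hp : p.Prime := Fact.out
  have h2 : 2 ≤ p := hp.two_le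
  have hlog : Nat.log p (2 * p - 1) < 2 := by
    apply Nat.log_lt_of_lt_pow (by omega)
    have h3 : 2 * p ≤ p * p := Nat.mul_le_mul_right p h2
    rw [pow_two]
    generalize p * p = q at h3 ⊢
    omega
  rw [hp.pow_dvd_factorial_iff hlog]
  have : (2 * p - 1) / p = 1 := by
    apply Nat.div_eq_of_lt_le <;> omega
  simp [this]

/-- exponent vector attached to `k : Fin n → ℕ` -/
noncomputable def E (κ : Fin n → ℕ) : Fin n × Fin 2 →₀ ℕ :=
  Finsupp.equivFunOnFinite.symm fun v => κ v.1

theorem E_apply (κ : Fin n → ℕ) (v : Fin n × Fin 2) : E n κ v = κ v.1 := rfl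

theorem prod_eq_monomial (κ : Fin n → ℕ) :
    ∏ i, (X (i, (0 : Fin 2)) * X (i, (1 : Fin 2)) : R') ^ κ i = monomial (E n κ) 1 := by
  rw [monomial_eq, C_1, one_mul, Finsupp.prod_fintype _ _ (fun i => pow_zero _),
    Fintype.prod_prod_type]
  apply Finset.prod_congr rfl
  intro i _
  rw [Fin.prod_univ_two, mul_pow]
  rfl

theorem pow_not_mem (hn : 3 ≤ n) :
    (∑ i : Fin n, (X (i, (0 : Fin 2)) * X (i, (1 : Fin 2)) : R')) ^ (2 * p - 1) ∉
      Ideal.span (Set.range fun v : Fin n × Fin 2 => (X v : R') ^ p) := by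
  classical
  have hp : p.Prime := Fact.out
  have h2 : 2 ≤ p := hp.two_le
  intro hmem
  have hM : Ideal.span (Set.range fun v : Fin n × Fin 2 => (X v : R') ^ p) =
      Ideal.span ((fun s => monomial s (1 : W)) '' (Set.range fun v : Fin n × Fin 2 =>
        Finsupp.single v p)) := by
    rw [← Set.range_comp]
    congr 2
    funext v
    simp [X_pow_eq_monomial]
  rw [hM, mem_ideal_span_monomial_image] at hmem
  let a : Fin n := ⟨0, by omega⟩
  let b : Fin n := ⟨1, by omega⟩
  let c : Fin n := ⟨2, by omega⟩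
  have hab : a ≠ b := by simp [a, b, Fin.ext_iff]
  have hac : a ≠ c := by simp [a, c, Fin.ext_iff]
  have hbc : b ≠ c := by simp [b, c, Fin.ext_iff]
  let κ : Fin n → ℕ := Pi.single a (p - 1) + Pi.single b (p - 1) + Pi.single c 1
  have hκsum : ∑ i, κ i = 2 * p - 1 := by
    simp only [κ, Pi.add_apply, Finset.sum_add_distrib, Finset.sum_pi_single', Finset.mem_univ,
      if_true]
    omega
  have hκlt : ∀ i, κ i < p := by
    intro i
    simp only [κ, Pi.add_apply, Pi.single_apply]
    by_cases h1 : i = a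
    · subst h1
      simp [hab, hac]; omega
    · by_cases h2' : i = b
      · subst h2'
        simp [hab.symm, hbc]; omega
      · by_cases h3 : i = c
        · subst h3
          simp [hac.symm, hbc.symm]; omega
        · simp [h1, h2', h3]; omega
  have hcoeff : coeff (E n κ) ((∑ i : Fin n, (X (i, (0 : Fin 2)) * X (i, (1 : Fin 2)) : R')) ^
      (2 * p - 1)) = (Nat.multinomial Finset.univ κ : W) := by
    rw [Finset.sum_pow_eq_sum_piAntidiag, coeff_sum]
    rw [Finset.sum_eq_single κ]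
    · rw [prod_eq_monomial, ← map_natCast (C : W →+* R'), C_mul_monomial, coeff_monomial,
        if_pos rfl, mul_one]
    · intro κ' _ hne
      rw [prod_eq_monomial, ← map_natCast (C : W →+* R'), C_mul_monomial, coeff_monomial,
        if_neg]
      intro heq
      apply hne
      funext i
      have := DFunLike.congr_fun heq (i, 0)
      rwa [E_apply, E_apply] at this
    · intro hnot
      exfalso
      apply hnot
      rw [Finset.mem_piAntidiag]
      exact ⟨hκsum, fun i _ => Finset.mem_univ i⟩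
  have hne : (Nat.multinomial Finset.univ κ : W) ≠ 0 := by
    apply natCast_ne_zero
    intro hdvd
    apply not_sq_dvd_factorial p
    have := Nat.multinomial_spec Finset.univ κ
    rw [hκsum] at this
    rw [← this]
    exact Dvd.dvd.mul_left hdvd _
  have hsupp : E n κ ∈ ((∑ i : Fin n, (X (i, (0 : Fin 2)) * X (i, (1 : Fin 2)) : R')) ^
      (2 * p - 1)).support := by
    rw [mem_support_iff, hcoeff]
    exact hne
  obtain ⟨_, ⟨v, rfl⟩, hle⟩ := hmem _ hsupp
  have := hle v
  rw [Finsupp.single_eq_same, E_apply] at this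
  exact absurd (hκlt v.1) (not_lt.2 this)

theorem ker_mapres' : RingHom.ker (MvPolynomial.map (σ := Fin n × Fin 2) (FrobAlg.res p k)) =
    Ideal.span {(p : R')} := by
  rw [MvPolynomial.ker_map, Groth.Agent.S13138.ker_res, Ideal.map_span, Set.image_singleton,
    map_natCast]

theorem mapres_surj' : Function.Surjective (MvPolynomial.map (σ := Fin n × Fin 2) (FrobAlg.res p k)) :=
  MvPolynomial.map_surjective _ (Groth.Agent.S13139.res_surj p k)

theorem p_mul_p' : (p : R') * (p : R') = 0 := by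
  have := Groth.Agent.Lib.W2Flat88.p_sq_W2 p k
  have h2 := congrArg (C : W →+* R') this
  rw [map_pow, map_natCast, map_zero, pow_two] at h2
  exact h2

theorem natCast_p_Rk : ((p : ℕ) : Rk) = 0 := by
  have h0 : ((p : ℕ) : k) = 0 := CharP.cast_eq_zero k p
  have h2 := congrArg (MvPolynomial.C (σ := Fin n × Fin 2)) h0
  rwa [map_natCast, map_zero] at h2

end helpers

/-- In an even number of variables — for a perfect field k of characteristic p and n ≥ 3, the local
Artinian algebra k[x_1, y_1, …, x_n, y_n]/(x_1y_1 + ⋯ + x_ny_n, x_1^p, y_1^p, …, x_n^p, y_n^p)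
admits no flat lifting over W₂(k). (The published statement covers every number N ≥ 5 of variables,
using x_1x_2 + ⋯ + x_{N−2}x_{N−1} + x_N² for odd N; the printed argument is written out for even N
and the odd case is said to be analogous, so only even N = 2n ≥ 6 is taken here.) -/
theorem result
    (p : ℕ) [Fact p.Prime] (k : Type u) [Field k] [CharP k p] [PerfectRing k p]
    (n : ℕ) (hn : 3 ≤ n) :
    ¬ FrobAlg.IsW2Liftable p k
      (MvPolynomial (Fin n × Fin 2) k ⧸ Ideal.span
        (insert (∑ i : Fin n, MvPolynomial.X (i, (0 : Fin 2)) * MvPolynomial.X (i, (1 : Fin 2)))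
          (Set.range fun v : Fin n × Fin 2 => (MvPolynomial.X v : MvPolynomial (Fin n × Fin 2) k) ^ p))) := by
  classical
  have hp : p.Prime := Fact.out
  have h2p : 2 ≤ p := hp.two_le
  rintro ⟨B, _, ι, π, hL⟩
  have hpB : (p : B) * (p : B) = 0 := by
    have := Groth.Agent.Lib.W2Flat88.p_sq_W2 p k
    have h2 := congrArg ι this
    rw [map_pow, map_natCast, map_zero, pow_two] at h2
    exact h2
  have hkerπ : RingHom.ker π = Ideal.span {(p : B)} := by
    rw [hL.ker_eq, Groth.Agent.S13138.ker_res, Ideal.map_span, Set.image_singleton, map_natCast]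
  have hb : ∀ v : Fin n × Fin 2, ∃ b : B, π b = Ideal.Quotient.mk _ (MvPolynomial.X v) :=
    fun v => hL.surj _
  choose b hb using hb
  obtain ⟨ψ, hψC, hψX⟩ : ∃ ψ : MvPolynomial (Fin n × Fin 2) (FrobAlg.W2 p k) →+* B,
      (∀ c, ψ (MvPolynomial.C c) = ι c) ∧ ∀ v, ψ (MvPolynomial.X v) = b v :=
    ⟨MvPolynomial.eval₂Hom ι b, fun c => MvPolynomial.eval₂Hom_C _ _ _,
      fun v => MvPolynomial.eval₂Hom_X' _ _ _⟩
  have hψp : ψ (p : MvPolynomial (Fin n × Fin 2) (FrobAlg.W2 p k)) = (p : B) := map_natCast ψ p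
  have hπψ : π.comp ψ = (Ideal.Quotient.mk _).comp (MvPolynomial.map (FrobAlg.res p k)) := by
    apply MvPolynomial.ringHom_ext
    · intro c
      rw [RingHom.comp_apply, RingHom.comp_apply, hψC, MvPolynomial.map_C]
      have := congrArg (fun g => g c) hL.comm
      simp only [RingHom.comp_apply] at this
      rw [this]; rfl
    · intro v
      rw [RingHom.comp_apply, RingHom.comp_apply, hψX, MvPolynomial.map_X, hb]
  have hπψ' : ∀ x, π (ψ x) = Ideal.Quotient.mk _
      (MvPolynomial.map (FrobAlg.res p k) x) := fun x => by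
    have := congrArg (fun g => g x) hπψ
    simpa only [RingHom.comp_apply] using this
  -- the universal polynomial Q̃
  obtain ⟨Qt, hQt⟩ := exists_sum_pow_prime p (Finset.univ) (fun i : Fin n =>
    (MvPolynomial.X (i, (0 : Fin 2)) * MvPolynomial.X (i, (1 : Fin 2)) :
      MvPolynomial (Fin n × Fin 2) (FrobAlg.W2 p k)))
  have hmapS : MvPolynomial.map (FrobAlg.res p k) (∑ i : Fin n,
      (MvPolynomial.X (i, (0 : Fin 2)) * MvPolynomial.X (i, (1 : Fin 2)) :
      MvPolynomial (Fin n × Fin 2) (FrobAlg.W2 p k))) =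
      ∑ i : Fin n, MvPolynomial.X (i, (0 : Fin 2)) * MvPolynomial.X (i, (1 : Fin 2)) := by
    rw [map_sum]
    apply Finset.sum_congr rfl
    intro i _
    rw [map_mul, MvPolynomial.map_X, MvPolynomial.map_X]
  -- ψ s̃ ∈ pB
  have h1 : ψ (∑ i : Fin n,
      (MvPolynomial.X (i, (0 : Fin 2)) * MvPolynomial.X (i, (1 : Fin 2)) :
      MvPolynomial (Fin n × Fin 2) (FrobAlg.W2 p k))) ∈ RingHom.ker π := by
    rw [RingHom.mem_ker, hπψ', hmapS, Ideal.Quotient.eq_zero_iff_mem]
    exact Ideal.subset_span (Set.mem_insert _ _)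
  rw [hkerπ, Ideal.mem_span_singleton'] at h1
  obtain ⟨a, ha⟩ := h1
  have h2 : ∀ v : Fin n × Fin 2, ∃ β : B, β * (p : B) = ψ (MvPolynomial.X v) ^ p := by
    intro v
    have : ψ (MvPolynomial.X v) ^ p ∈ RingHom.ker π := by
      rw [← map_pow, RingHom.mem_ker, hπψ', map_pow, MvPolynomial.map_X,
        Ideal.Quotient.eq_zero_iff_mem]
      exact Ideal.subset_span (Set.mem_insert_of_mem _ ⟨v, rfl⟩)
    rw [hkerπ, Ideal.mem_span_singleton'] at this
    exact this
  choose β hβ using h2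
  have h3 : (p : B) * ψ Qt = 0 := by
    have h := congrArg ψ hQt
    rw [map_pow, map_add, map_mul, hψp] at h
    have e1 : ψ (∑ i : Fin n,
        (MvPolynomial.X (i, (0 : Fin 2)) * MvPolynomial.X (i, (1 : Fin 2)) :
        MvPolynomial (Fin n × Fin 2) (FrobAlg.W2 p k))) ^ p = 0 := by
      rw [← ha, mul_pow]
      have : (p : B) ^ p = 0 := pow_eq_zero_of_le h2p (by rw [pow_two]; exact hpB)
      rw [this, mul_zero]
    have e2 : ∑ i : Fin n, ψ ((MvPolynomial.X (i, (0 : Fin 2)) * MvPolynomial.X (i, (1 : Fin 2)) :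
        MvPolynomial (Fin n × Fin 2) (FrobAlg.W2 p k)) ^ p) = 0 := by
      apply Finset.sum_eq_zero
      intro i _
      rw [mul_pow, map_mul, map_pow, map_pow, ← hβ, ← hβ]
      linear_combination (β (i, 0) * β (i, 1)) * hpB
    rw [e1, map_sum, e2, zero_add] at h
    exact h.symm
  obtain ⟨y', hy'⟩ := Groth.Agent.S13139.flat_use p k ι hL.flat _ h3
  have hQI : MvPolynomial.map (FrobAlg.res p k) Qt ∈ Ideal.span
      (insert (∑ i : Fin n, MvPolynomial.X (i, (0 : Fin 2)) * MvPolynomial.X (i, (1 : Fin 2)))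
        (Set.range fun v : Fin n × Fin 2 =>
          (MvPolynomial.X v : MvPolynomial (Fin n × Fin 2) k) ^ p)) := by
    rw [← Ideal.Quotient.eq_zero_iff_mem, ← hπψ', ← RingHom.mem_ker, hkerπ, hy']
    exact Ideal.mul_mem_right _ _ (Ideal.subset_span rfl)
  rw [Ideal.mem_span_insert] at hQI
  obtain ⟨g, m0, hm0, hQeq⟩ := hQI
  -- q^p ∈ M
  have hqp : (∑ i : Fin n, (MvPolynomial.X (i, (0 : Fin 2)) * MvPolynomial.X (i, (1 : Fin 2)) :
      MvPolynomial (Fin n × Fin 2) k)) ^ p ∈ Ideal.span (Set.range fun v : Fin n × Fin 2 =>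
          (MvPolynomial.X v : MvPolynomial (Fin n × Fin 2) k) ^ p) := by
    have h := congrArg (MvPolynomial.map (FrobAlg.res p k)) hQt
    rw [map_pow, hmapS, map_add, map_mul, map_natCast, natCast_p_Rk, zero_mul, add_zero,
      map_sum] at h
    rw [h]
    refine Ideal.sum_mem _ (fun i _ => ?_)
    rw [map_pow, map_mul, MvPolynomial.map_X, MvPolynomial.map_X, mul_pow]
    exact Ideal.mul_mem_right _ _ (Ideal.subset_span ⟨(i, 0), rfl⟩)
  have hP2 : (∑ i : Fin n, (MvPolynomial.X (i, (0 : Fin 2)) * MvPolynomial.X (i, (1 : Fin 2)) :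
      MvPolynomial (Fin n × Fin 2) k)) ^ (p - 1) * MvPolynomial.map (FrobAlg.res p k) Qt ∈
      Ideal.span (Set.range fun v : Fin n × Fin 2 =>
          (MvPolynomial.X v : MvPolynomial (Fin n × Fin 2) k) ^ p) := by
    rw [hQeq]
    have hpp : ∀ q : MvPolynomial (Fin n × Fin 2) k, q ^ (p - 1) * q = q ^ p := fun q => by
      rw [← pow_succ, Nat.sub_add_cancel hp.one_le]
    have : ∀ q : MvPolynomial (Fin n × Fin 2) k, q ^ (p - 1) * (g * q + m0) =
        g * q ^ p + q ^ (p - 1) * m0 := fun q => by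
      rw [← hpp q]; ring
    rw [this]
    exact Ideal.add_mem _ (Ideal.mul_mem_left _ _ hqp) (Ideal.mul_mem_left _ _ hm0)
  -- lift to R'
  have hM : (Ideal.span (Set.range fun v : Fin n × Fin 2 =>
      (MvPolynomial.X v : MvPolynomial (Fin n × Fin 2) (FrobAlg.W2 p k)) ^ p)).map
      (MvPolynomial.map (FrobAlg.res p k)) = Ideal.span (Set.range fun v : Fin n × Fin 2 =>
          (MvPolynomial.X v : MvPolynomial (Fin n × Fin 2) k) ^ p) := by
    rw [Ideal.map_span, ← Set.range_comp]
    congr 2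
    funext v
    simp
  have h5 : MvPolynomial.map (FrobAlg.res p k) ((∑ i : Fin n,
      (MvPolynomial.X (i, (0 : Fin 2)) * MvPolynomial.X (i, (1 : Fin 2)) :
      MvPolynomial (Fin n × Fin 2) (FrobAlg.W2 p k))) ^ (p - 1) * Qt) ∈
      (Ideal.span (Set.range fun v : Fin n × Fin 2 =>
      (MvPolynomial.X v : MvPolynomial (Fin n × Fin 2) (FrobAlg.W2 p k)) ^ p)).map
      (MvPolynomial.map (FrobAlg.res p k)) := by
    rw [hM, map_mul, map_pow, hmapS]
    exact hP2
  rw [Ideal.mem_map_iff_of_surjective _ (mapres_surj' p k n)] at h5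
  obtain ⟨m', hm', hm'eq⟩ := h5
  have h6 : (∑ i : Fin n,
      (MvPolynomial.X (i, (0 : Fin 2)) * MvPolynomial.X (i, (1 : Fin 2)) :
      MvPolynomial (Fin n × Fin 2) (FrobAlg.W2 p k))) ^ (p - 1) * Qt - m' ∈
      RingHom.ker (MvPolynomial.map (σ := Fin n × Fin 2) (FrobAlg.res p k)) := by
    rw [RingHom.mem_ker, map_sub, hm'eq, sub_self]
  rw [ker_mapres', Ideal.mem_span_singleton'] at h6
  obtain ⟨w, hw⟩ := h6
  apply pow_not_mem p k n hn
  have e : ∀ s : MvPolynomial (Fin n × Fin 2) (FrobAlg.W2 p k),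
      s ^ (2 * p - 1) = s ^ (p - 1) * s ^ p := fun s => by
    rw [← pow_add]; congr 1; omega
  rw [e, hQt, mul_add]
  apply Ideal.add_mem
  · refine Ideal.mul_mem_left _ _ (Ideal.sum_mem _ fun i _ => ?_)
    rw [mul_pow]
    exact Ideal.mul_mem_right _ _ (Ideal.subset_span ⟨(i, 0), rfl⟩)
  · have h7 := p_mul_p' p k n
    have : (∑ i : Fin n,
      (MvPolynomial.X (i, (0 : Fin 2)) * MvPolynomial.X (i, (1 : Fin 2)) :
      MvPolynomial (Fin n × Fin 2) (FrobAlg.W2 p k))) ^ (p - 1) *
        ((p : MvPolynomial (Fin n × Fin 2) (FrobAlg.W2 p k)) * Qt) =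
        (p : MvPolynomial (Fin n × Fin 2) (FrobAlg.W2 p k)) * m' := by
      linear_combination (-(p : MvPolynomial (Fin n × Fin 2) (FrobAlg.W2 p k))) * hw + w * h7
    rw [this]
    exact Ideal.mul_mem_left _ _ hm'

end Groth.Agent.S13146
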