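import Groth.Statements.S13148
import Groth.Agent.Lib.SmoothAlgLift22h
import Groth.Agent.Lib.FLift84

set_option autoImplicit false
universe u
open FrobAlg

namespace Groth.Agent.S13148

set_option maxHeartbeats 800000
set_option linter.style.haveILetI false
open Groth.Agent.Lib.W2Flat88 Groth.Agent.Lib.SmoothAlgLift22 Groth.Agent.Lib.FLift84

/-- Over a perfect field k of characteristic p, every smooth affine scheme Spec A admits a flat lifting
over W₂(k) together with a lifting of Frobenius (not necessarily unique). -/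
theorem result
    (p : ℕ) [Fact p.Prime] (k : Type u) [Field k] [CharP k p] [PerfectRing k p]
    (A : Type u) [CommRing A] [Algebra k A] [Algebra.Smooth k A] :
    FrobAlg.IsFLiftable p k A := by
  classical
  let W := FrobAlg.W2 p k
  let I : Ideal W := RingHom.ker (FrobAlg.res p k)
  let q : W ⧸ I →+* k := Ideal.Quotient.lift I (FrobAlg.res p k) (fun x hx => hx)
  have hq : Function.Bijective q := by
    constructor
    · exact RingHom.kerLift_injective (FrobAlg.res p k)
    · intro a
      obtain ⟨w, rfl⟩ := res_surjective p k a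
      exact ⟨Ideal.Quotient.mk I w, rfl⟩
  letI algQk : Algebra (W ⧸ I) k := q.toAlgebra
  letI algQA : Algebra (W ⧸ I) A := ((algebraMap k A).comp q).toAlgebra
  haveI : IsScalarTower (W ⧸ I) k A := IsScalarTower.of_algebraMap_eq (fun _ => rfl)
  haveI : Algebra.Smooth (W ⧸ I) k :=
    Algebra.Smooth.of_equiv (AlgEquiv.ofBijective (Algebra.ofId (W ⧸ I) k) hq)
  haveI : Algebra.Smooth (W ⧸ I) A := Algebra.Smooth.comp (W ⧸ I) k A
  obtain ⟨L, instL, algL, hsm, ⟨e⟩⟩ := exists_smooth_lift (R := W) (A₀ := A) I
  let ι : W →+* L := algebraMap W L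
  let π : L →+* A := e.toRingEquiv.toRingHom.comp (Ideal.Quotient.mk (I.map ι))
  have hπsurj : Function.Surjective π :=
    e.surjective.comp Ideal.Quotient.mk_surjective
  have hkerπ : RingHom.ker π = I.map ι := by
    ext x
    rw [RingHom.mem_ker]
    show e (Ideal.Quotient.mk (I.map ι) x) = 0 ↔ _
    rw [map_eq_zero_iff e e.injective, Ideal.Quotient.eq_zero_iff_mem]
  have hcomm : ∀ w : W, π (ι w) = algebraMap k A (FrobAlg.res p k w) := by
    intro w
    have h1 : Ideal.Quotient.mk (I.map ι) (ι w) =
        algebraMap (W ⧸ I) (L ⧸ I.map ι) (Ideal.Quotient.mk I w) := rfl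
    show e (Ideal.Quotient.mk (I.map ι) (ι w)) = _
    rw [h1, e.commutes]
    rfl
  have hlift : FrobAlg.IsLift p k A L ι π :=
    { flat := by
        apply RingHom.flat_algebraMap_iff.mpr
        infer_instance
      surj := hπsurj
      ker_eq := hkerπ
      comm := RingHom.ext hcomm }
  -- the Frobenius lift
  have hker2 : RingHom.ker π ^ 2 = ⊥ := by
    rw [hkerπ, ← Ideal.map_pow, ker_res_sq, Ideal.map_bot]
  let algσ : Algebra W L := (ι.comp (FrobAlg.sigma p k)).toAlgebra
  have hpA : (p : A) = 0 := by
    rw [← map_natCast (algebraMap k A), CharP.cast_eq_zero, map_zero]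
  let F : A →+* A :=
    { toFun := fun x => x ^ p
      map_one' := one_pow _
      map_mul' := fun x y => mul_pow x y p
      map_zero' := zero_pow (Fact.out : p.Prime).ne_zero
      map_add' := fun x y => by
        obtain ⟨r, hr⟩ := exists_add_pow_prime_eq (Fact.out : p.Prime) x y
        rw [hr, hpA]; ring }
  have hF : ∀ x, F x = x ^ p := fun x => rfl
  obtain ⟨Φ, hΦ⟩ := @lift_aux W L L A _ _ _ _ algL algσ _ π hπsurj hker2
    (F.comp π) (by
      intro w
      show F (π (ι w)) = π (ι (FrobAlg.sigma p k w))
      rw [hF, hcomm, hcomm, res_sigma, map_pow])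
  refine ⟨L, instL, ι, π, (@AlgHom.toRingHom W L L _ _ _ algL algσ Φ), { hlift with semi := ?_, red := ?_ }⟩
  · ext w
    exact @AlgHom.commutes W L L _ _ _ algL algσ Φ w
  · intro b
    exact hΦ b

end Groth.Agent.S13148
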