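import Groth.Statements.S13149
import Mathlib

set_option autoImplicit false
universe u
open CAlg

namespace Groth.Agent.S13149

open Matrix

section Helpers

variable {A : Type u} [CommRing A]

/-- proportional by a unit. -/
def Sim (x y : Fin 3 → A) : Prop := ∃ u : Aˣ, x = (u : A) • y

lemma Sim.trans {x y z : Fin 3 → A} (h1 : Sim x y) (h2 : Sim y z) : Sim x z := by
  obtain ⟨u, rfl⟩ := h1
  obtain ⟨v, rfl⟩ := h2
  exact ⟨u * v, by rw [smul_smul, Units.val_mul]⟩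

lemma Sim.neg (x : Fin 3 → A) : Sim (-x) x := ⟨-1, by simp⟩

/-- unimodular vectors. -/
def Unimod (x : Fin 3 → A) : Prop := ∃ w : Fin 3 → A, w ⬝ᵥ x = 1

lemma unimod_of_isUnit {x : Fin 3 → A} (h : ∃ i, IsUnit (x i)) : Unimod x := by
  obtain ⟨i, hi⟩ := h
  obtain ⟨u, hu⟩ := hi
  refine ⟨Pi.single i (↑u⁻¹ : A), ?_⟩
  rw [single_dotProduct, ← hu, Units.inv_mul]

lemma dot_eq_zero_of_sim {n x y : Fin 3 → A} (h : Sim x y) (hn : n ⬝ᵥ x = 0) : n ⬝ᵥ y = 0 := by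
  obtain ⟨u, rfl⟩ := h
  rw [dotProduct_smul, smul_eq_mul] at hn
  exact (Units.mul_right_eq_zero u).1 hn

lemma dot_eq_zero_of_sim' {n x y : Fin 3 → A} (h : Sim x y) (hn : x ⬝ᵥ n = 0) : y ⬝ᵥ n = 0 := by
  rw [dotProduct_comm] at hn ⊢
  exact dot_eq_zero_of_sim h hn

/-- Key lemma: a unimodular vector orthogonal to `a` and `b` is a unit multiple of `a × b`,
provided `a × b` has a unit coordinate. -/
lemma key (a b n : Fin 3 → A) (hn : Unimod n) (ha : n ⬝ᵥ a = 0) (hb : n ⬝ᵥ b = 0)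
    (hc : ∃ i, IsUnit ((a ⨯₃ b) i)) : Sim n (a ⨯₃ b) := by
  set c := a ⨯₃ b with hcdef
  have h0 : c ⨯₃ n = 0 := by
    rw [hcdef, cross_cross_eq_smul_sub_smul, dotProduct_comm a n, dotProduct_comm b n, ha, hb]
    simp
  have h1 : c 1 * n 2 - c 2 * n 1 = 0 := by
    have := congrFun h0 0; rw [cross_apply] at this; simpa using this
  have h2 : c 2 * n 0 - c 0 * n 2 = 0 := by
    have := congrFun h0 1; rw [cross_apply] at this; simpa using this
  have h3 : c 0 * n 1 - c 1 * n 0 = 0 := by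
    have := congrFun h0 2; rw [cross_apply] at this; simpa using this
  have hall : ∀ i j : Fin 3, n j * c i = n i * c j := by
    intro i j
    fin_cases i <;> fin_cases j <;>
      simp only [Fin.isValue, Fin.zero_eta, Fin.mk_one, Fin.reduceFinMk]
    · linear_combination h3
    · linear_combination -h2
    · linear_combination -h3
    · linear_combination h1
    · linear_combination h2
    · linear_combination -h1
  obtain ⟨i, hi⟩ := hc
  obtain ⟨v, hv⟩ := hi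
  -- `n = (n i * v⁻¹) • c`
  have hprop : n = (n i * (↑v⁻¹ : A)) • c := by
    have hvi : (↑v⁻¹ : A) * c i = 1 := by rw [← hv, Units.inv_mul]
    funext j
    rw [Pi.smul_apply, smul_eq_mul]
    calc n j = n j * ((↑v⁻¹ : A) * c i) := by rw [hvi, mul_one]
      _ = (n j * c i) * (↑v⁻¹ : A) := by ring
      _ = (n i * c j) * (↑v⁻¹ : A) := by rw [hall i j]
      _ = n i * ↑v⁻¹ * c j := by ring
  obtain ⟨w, hw⟩ := hn
  have hunit : IsUnit (n i * (↑v⁻¹ : A)) := by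
    refine IsUnit.of_mul_eq_one (w ⬝ᵥ c) ?_
    rw [← smul_eq_mul, ← dotProduct_smul, ← hprop, hw]
  obtain ⟨u, hu⟩ := hunit
  exact ⟨u, by rw [hu]; exact hprop⟩

end Helpers

section Normalized

variable {A : Type u} [CommRing A] {p : ℕ} [Fact p.Prime]

/-- collineation hypotheses in unimodular form. -/
structure Good (ρ : (Fin 3 → ZMod p) → (Fin 3 → A)) : Prop where
  pt : ∀ v : Fin 3 → ZMod p, v ≠ 0 → Unimod (ρ v)
  col : ∀ u v w : Fin 3 → ZMod p, u ≠ 0 → v ≠ 0 → w ≠ 0 →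
    Matrix.det (Matrix.of ![u, v, w]) = 0 →
    ∃ n : Fin 3 → A, Unimod n ∧ ρ u ⬝ᵥ n = 0 ∧ ρ v ⬝ᵥ n = 0 ∧ ρ w ⬝ᵥ n = 0

lemma step {ρ : (Fin 3 → ZMod p) → (Fin 3 → A)} (hρ : Good ρ)
    (a b c d r : Fin 3 → ZMod p) (a' b' c' d' l1 l2 r' : Fin 3 → A)
    (ha : Sim (ρ a) a') (hb : Sim (ρ b) b') (hc : Sim (ρ c) c') (hd : Sim (ρ d) d')
    (ha0 : a ≠ 0) (hb0 : b ≠ 0) (hc0 : c ≠ 0) (hd0 : d ≠ 0) (hr0 : r ≠ 0)
    (h1 : Matrix.det (Matrix.of ![a, b, r]) = 0) (h2 : Matrix.det (Matrix.of ![c, d, r]) = 0)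
    (hl1 : a' ⨯₃ b' = l1) (hl2 : c' ⨯₃ d' = l2) (hr : l1 ⨯₃ l2 = r')
    (u1 : ∃ i, IsUnit (l1 i)) (u2 : ∃ i, IsUnit (l2 i)) (u3 : ∃ i, IsUnit (r' i)) :
    Sim (ρ r) r' := by
  obtain ⟨n1, hn1, e1, e2, e3⟩ := hρ.col a b r ha0 hb0 hr0 h1
  obtain ⟨n2, hn2, f1, f2, f3⟩ := hρ.col c d r hc0 hd0 hr0 h2
  have s1 : Sim n1 l1 := by
    rw [← hl1]
    refine key a' b' n1 hn1 ?_ ?_ (by rw [hl1]; exact u1)
    · rw [dotProduct_comm]; exact dot_eq_zero_of_sim' ha e1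
    · rw [dotProduct_comm]; exact dot_eq_zero_of_sim' hb e2
  have s2 : Sim n2 l2 := by
    rw [← hl2]
    refine key c' d' n2 hn2 ?_ ?_ (by rw [hl2]; exact u2)
    · rw [dotProduct_comm]; exact dot_eq_zero_of_sim' hc f1
    · rw [dotProduct_comm]; exact dot_eq_zero_of_sim' hd f2
  rw [← hr]
  exact key l1 l2 (ρ r) (hρ.pt r hr0) (dot_eq_zero_of_sim s1 e3) (dot_eq_zero_of_sim s2 f3)
    (by rw [hr]; exact u3)

lemma vec_ne_zero_of {x : Fin 3 → ZMod p} (i : Fin 3) (h : x i = 1) : x ≠ 0 := by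
  intro h0
  rw [h0, Pi.zero_apply] at h
  exact zero_ne_one h

theorem normalized {ρ : (Fin 3 → ZMod p) → (Fin 3 → A)} (hρ : Good ρ)
    (h0 : Sim (ρ ![1, 0, 0]) ![1, 0, 0]) (h1 : Sim (ρ ![0, 1, 0]) ![0, 1, 0])
    (h2 : Sim (ρ ![0, 0, 1]) ![0, 0, 1]) (h3 : Sim (ρ ![1, 1, 1]) ![1, 1, 1]) :
    (p : A) = 0 := by
  -- U = (1:1:0)
  have hU : Sim (ρ ![1, 1, 0]) ![1, 1, 0] := by
    refine (step hρ ![1, 0, 0] ![0, 1, 0] ![0, 0, 1] ![1, 1, 1] ![1, 1, 0]
      ![1, 0, 0] ![0, 1, 0] ![0, 0, 1] ![1, 1, 1] ![0, 0, 1] ![-1, 1, 0] ![-1, -1, 0]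
      h0 h1 h2 h3 (vec_ne_zero_of 0 rfl) (vec_ne_zero_of 1 rfl) (vec_ne_zero_of 2 rfl)
      (vec_ne_zero_of 0 rfl) (vec_ne_zero_of 0 rfl) ?_ ?_ ?_ ?_ ?_ ⟨2, by simp⟩ ⟨1, by simp⟩
      ⟨0, by simp⟩).trans ⟨-1, ?_⟩
    · simp [Matrix.det_fin_three]
    · simp [Matrix.det_fin_three]
    · simp [cross_apply]
    · simp [cross_apply]
    · simp [cross_apply]
    · ext i; fin_cases i <;> simp
  -- W = (1:0:1)
  have hW : Sim (ρ ![1, 0, 1]) ![1, 0, 1] := by
    refine step hρ ![1, 0, 0] ![0, 0, 1] ![0, 1, 0] ![1, 1, 1] ![1, 0, 1]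
      ![1, 0, 0] ![0, 0, 1] ![0, 1, 0] ![1, 1, 1] ![0, -1, 0] ![1, 0, -1] ![1, 0, 1]
      h0 h2 h1 h3 (vec_ne_zero_of 0 rfl) (vec_ne_zero_of 2 rfl) (vec_ne_zero_of 1 rfl)
      (vec_ne_zero_of 0 rfl) (vec_ne_zero_of 0 rfl) ?_ ?_ ?_ ?_ ?_ ⟨1, by simp⟩ ⟨0, by simp⟩
      ⟨0, by simp⟩
    · simp [Matrix.det_fin_three]
    · simp [Matrix.det_fin_three]
    · simp [cross_apply]
    · simp [cross_apply]
    · simp [cross_apply]
  -- C = (0:1:-1)
  have hC : Sim (ρ ![0, 1, -1]) ![0, 1, -1] := by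
    refine step hρ ![0, 1, 0] ![0, 0, 1] ![1, 1, 0] ![1, 0, 1] ![0, 1, -1]
      ![0, 1, 0] ![0, 0, 1] ![1, 1, 0] ![1, 0, 1] ![1, 0, 0] ![1, -1, -1] ![0, 1, -1]
      h1 h2 hU hW (vec_ne_zero_of 1 rfl) (vec_ne_zero_of 2 rfl) (vec_ne_zero_of 0 rfl)
      (vec_ne_zero_of 0 rfl) (vec_ne_zero_of 1 rfl) ?_ ?_ ?_ ?_ ?_ ⟨0, by simp⟩ ⟨0, by simp⟩
      ⟨1, by simp⟩
    · simp [Matrix.det_fin_three]
    · simp [Matrix.det_fin_three]
    · simp [cross_apply]
    · simp [cross_apply]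
    · simp [cross_apply]
  -- induction along the line z = 0
  have hQ : ∀ m : ℕ, Sim (ρ ![1, (m : ZMod p), 0]) ![1, (m : A), 0] := by
    intro m
    induction m with
    | zero => simpa using h0
    | succ m ih =>
      have hT : Sim (ρ ![1, (m : ZMod p), 1]) ![1, (m : A), 1] := by
        refine step hρ ![1, (m : ZMod p), 0] ![0, 0, 1] ![0, 1, 0] ![1, 0, 1] ![1, (m : ZMod p), 1]
          ![1, (m : A), 0] ![0, 0, 1] ![0, 1, 0] ![1, 0, 1] ![(m : A), -1, 0] ![1, 0, -1]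
          ![1, (m : A), 1]
          ih h2 h1 hW (vec_ne_zero_of 0 rfl) (vec_ne_zero_of 2 rfl) (vec_ne_zero_of 1 rfl)
          (vec_ne_zero_of 0 rfl) (vec_ne_zero_of 0 rfl) ?_ ?_ ?_ ?_ ?_ ⟨1, by simp⟩ ⟨0, by simp⟩
          ⟨0, by simp⟩
        · simp [Matrix.det_fin_three]
        · simp [Matrix.det_fin_three]
        · simp [cross_apply]
        · simp [cross_apply]
        · simp [cross_apply]
      refine step hρ ![1, (m : ZMod p), 1] ![0, 1, -1] ![1, 0, 0] ![0, 1, 0]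
        ![1, ((m + 1 : ℕ) : ZMod p), 0]
        ![1, (m : A), 1] ![0, 1, -1] ![1, 0, 0] ![0, 1, 0] ![-(m : A) - 1, 1, 1] ![0, 0, 1]
        ![1, ((m + 1 : ℕ) : A), 0]
        hT hC h0 h1 (vec_ne_zero_of 0 rfl) (vec_ne_zero_of 1 rfl) (vec_ne_zero_of 0 rfl)
        (vec_ne_zero_of 1 rfl) (vec_ne_zero_of 0 rfl) ?_ ?_ ?_ ?_ ?_ ⟨1, by simp⟩ ⟨2, by simp⟩
        ⟨0, by simp⟩
      · simp [Matrix.det_fin_three]
      · simp [Matrix.det_fin_three]
      · simp [cross_apply]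
      · simp [cross_apply]
      · simp [cross_apply, add_comm]
  -- conclude
  have hp := hQ p
  rw [ZMod.natCast_self] at hp
  obtain ⟨u, hu⟩ := h0
  obtain ⟨v, hv⟩ := hp
  have h4 := congrFun (hu.symm.trans hv) 1
  simp at h4
  exact (Units.mul_right_eq_zero v).1 h4.symm

end Normalized

section Reduction

variable {A : Type u} [CommRing A]

lemma dot_transform (M : Matrix (Fin 3) (Fin 3) A) (hM : IsUnit M.det) (x n : Fin 3 → A) :
    (M⁻¹ *ᵥ x) ⬝ᵥ (n ᵥ* M) = x ⬝ᵥ n := by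
  rw [dotProduct_comm, ← dotProduct_mulVec, mulVec_mulVec, Matrix.mul_nonsing_inv M hM,
    one_mulVec, dotProduct_comm]

lemma unimod_inv_mulVec (M : Matrix (Fin 3) (Fin 3) A) (hM : IsUnit M.det) {x : Fin 3 → A}
    (hx : Unimod x) : Unimod (M⁻¹ *ᵥ x) := by
  obtain ⟨w, hw⟩ := hx
  refine ⟨w ᵥ* M, ?_⟩
  rw [dotProduct_comm, dot_transform M hM, dotProduct_comm, hw]

lemma unimod_vecMul (M : Matrix (Fin 3) (Fin 3) A) (hM : IsUnit M.det) {n : Fin 3 → A}
    (hn : Unimod n) : Unimod (n ᵥ* M) := by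
  obtain ⟨w, hw⟩ := hn
  refine ⟨M⁻¹ *ᵥ w, ?_⟩
  rw [dot_transform M hM, hw]

end Reduction

/-- Let A be a local ring and ρ a map from the points of the projective plane over F_p to the points of
the projective plane over A (vectors with a unit coordinate, up to units) taking collinear triples
to collinear triples (three points are collinear when a vector with a unit coordinate is orthogonal
to all three). If ρ sends the standard frame (1:0:0), (0:1:0), (0:0:1), (1:1:1) to four points in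
general position, then p = 0 in A. (The published statement asks only that ρ preserve collinearity;
a constant map does so over any ring, and the published argument begins by moving the images of the
standard frame to the standard frame, which needs them in general position — that condition is made
a hypothesis here.) -/
theorem result
    (p : ℕ) [Fact p.Prime] (A : Type u) [CommRing A] [IsLocalRing A]
    (ρ : (Fin 3 → ZMod p) → (Fin 3 → A))
    (hpt : ∀ v : Fin 3 → ZMod p, v ≠ 0 → ∃ i, IsUnit (ρ v i))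
    (hcol : ∀ u v w : Fin 3 → ZMod p, u ≠ 0 → v ≠ 0 → w ≠ 0 →
      Matrix.det (Matrix.of ![u, v, w]) = 0 →
      ∃ n : Fin 3 → A, (∃ i, IsUnit (n i)) ∧
        dotProduct (ρ u) n = 0 ∧ dotProduct (ρ v) n = 0 ∧ dotProduct (ρ w) n = 0)
    (hgen : IsUnit (Matrix.det (Matrix.of ![ρ (Pi.single 0 1), ρ (Pi.single 1 1), ρ (Pi.single 2 1)])) ∧
      IsUnit (Matrix.det (Matrix.of ![ρ (Pi.single 0 1), ρ (Pi.single 1 1), ρ (fun _ => 1)])) ∧
      IsUnit (Matrix.det (Matrix.of ![ρ (Pi.single 0 1), ρ (Pi.single 2 1), ρ (fun _ => 1)])) ∧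
      IsUnit (Matrix.det (Matrix.of ![ρ (Pi.single 1 1), ρ (Pi.single 2 1), ρ (fun _ => 1)]))) :
    (p : A) = 0 := by
  obtain ⟨hD, hD2, hD1, hD0⟩ := hgen
  set P0 := ρ (Pi.single 0 1) with hP0
  set P1 := ρ (Pi.single 1 1) with hP1
  set P2 := ρ (Pi.single 2 1) with hP2
  set P := ρ (fun _ => 1) with hP
  set N : Matrix (Fin 3) (Fin 3) A := Matrix.of ![P0, P1, P2] with hN
  -- Cramer coefficients
  set a : Fin 3 → A := Matrix.cramer Nᵀ P with ha
  have ha2 : a 2 = Matrix.det (Matrix.of ![P0, P1, P]) := by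
    rw [ha, Matrix.cramer_apply, Matrix.det_fin_three, Matrix.det_fin_three]
    simp [hN]
    ring
  have ha1 : a 1 = - Matrix.det (Matrix.of ![P0, P2, P]) := by
    rw [ha, Matrix.cramer_apply, Matrix.det_fin_three, Matrix.det_fin_three]
    simp [hN]
    ring
  have ha0 : a 0 = Matrix.det (Matrix.of ![P1, P2, P]) := by
    rw [ha, Matrix.cramer_apply, Matrix.det_fin_three, Matrix.det_fin_three]
    simp [hN]
    ring
  have hau : ∀ i, IsUnit (a i) := by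
    intro i
    fin_cases i
    · show IsUnit (a 0); rw [ha0]; exact hD0
    · show IsUnit (a 1); rw [ha1]; exact hD1.neg
    · show IsUnit (a 2); rw [ha2]; exact hD2
  set M : Matrix (Fin 3) (Fin 3) A := Nᵀ * Matrix.diagonal a with hMdef
  have hM : IsUnit M.det := by
    rw [hMdef, Matrix.det_mul, Matrix.det_transpose, Matrix.det_diagonal, Fin.prod_univ_three]
    exact hD.mul (((hau 0).mul (hau 1)).mul (hau 2))
  have hMe : ∀ i : Fin 3, M *ᵥ (Pi.single i 1) = a i • (![P0, P1, P2] i) := by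
    intro i
    rw [hMdef, ← Matrix.mulVec_mulVec]
    have : Matrix.diagonal a *ᵥ (Pi.single i 1) = a i • (Pi.single i 1 : Fin 3 → A) := by
      ext j
      rw [Matrix.mulVec_single_one]
      by_cases hji : j = i
      · subst hji; simp
      · simp [hji]
    rw [this, Matrix.mulVec_smul, Matrix.mulVec_single_one]
    congr 1
  have hM1 : M *ᵥ (fun _ => 1) = N.det • P := by
    rw [hMdef, ← Matrix.mulVec_mulVec]
    have : Matrix.diagonal a *ᵥ (fun _ => (1 : A)) = a := by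
      ext j
      simp [Matrix.mulVec_diagonal]
    rw [this, ha, Matrix.mulVec_cramer, Matrix.det_transpose]
  -- the normalized map
  have hgood : Good (p := p) (fun v => M⁻¹ *ᵥ ρ v) := by
    constructor
    · intro v hv
      exact unimod_inv_mulVec M hM (unimod_of_isUnit (hpt v hv))
    · intro u v w hu hv hw hdet
      obtain ⟨n, hn, e1, e2, e3⟩ := hcol u v w hu hv hw hdet
      refine ⟨n ᵥ* M, unimod_vecMul M hM (unimod_of_isUnit hn), ?_, ?_, ?_⟩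
      · rw [dot_transform M hM, e1]
      · rw [dot_transform M hM, e2]
      · rw [dot_transform M hM, e3]
  have hinv : ∀ (x y : Fin 3 → A) (c : A), IsUnit c → M *ᵥ y = c • x → Sim (M⁻¹ *ᵥ x) y := by
    intro x y c hc hxy
    obtain ⟨u, rfl⟩ := hc
    refine ⟨u⁻¹, ?_⟩
    have h1 : M⁻¹ *ᵥ (M *ᵥ y) = y := by
      rw [Matrix.mulVec_mulVec, Matrix.nonsing_inv_mul M hM, Matrix.one_mulVec]
    rw [hxy, Matrix.mulVec_smul] at h1
    rw [← h1, smul_smul, Units.inv_mul, one_smul]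
  have e0 : (![1, 0, 0] : Fin 3 → ZMod p) = Pi.single 0 1 := by
    ext i; fin_cases i <;> simp
  have e1 : (![0, 1, 0] : Fin 3 → ZMod p) = Pi.single 1 1 := by
    ext i; fin_cases i <;> simp
  have e2 : (![0, 0, 1] : Fin 3 → ZMod p) = Pi.single 2 1 := by
    ext i; fin_cases i <;> simp
  have e3 : (![1, 1, 1] : Fin 3 → ZMod p) = fun _ => 1 := by
    ext i; fin_cases i <;> simp
  have f0 : (![1, 0, 0] : Fin 3 → A) = Pi.single 0 1 := by
    ext i; fin_cases i <;> simp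
  have f1 : (![0, 1, 0] : Fin 3 → A) = Pi.single 1 1 := by
    ext i; fin_cases i <;> simp
  have f2 : (![0, 0, 1] : Fin 3 → A) = Pi.single 2 1 := by
    ext i; fin_cases i <;> simp
  have f3 : (![1, 1, 1] : Fin 3 → A) = fun _ => 1 := by
    ext i; fin_cases i <;> simp
  refine normalized hgood ?_ ?_ ?_ ?_
  · show Sim (M⁻¹ *ᵥ ρ ![1, 0, 0]) ![1, 0, 0]
    rw [e0, f0]
    exact hinv _ _ (a 0) (hau 0) (hMe 0)
  · show Sim (M⁻¹ *ᵥ ρ ![0, 1, 0]) ![0, 1, 0]
    rw [e1, f1]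
    exact hinv _ _ (a 1) (hau 1) (hMe 1)
  · show Sim (M⁻¹ *ᵥ ρ ![0, 0, 1]) ![0, 0, 1]
    rw [e2, f2]
    exact hinv _ _ (a 2) (hau 2) (hMe 2)
  · show Sim (M⁻¹ *ᵥ ρ ![1, 1, 1]) ![1, 1, 1]
    rw [e3, f3]
    exact hinv _ _ N.det hD hM1

end Groth.Agent.S13149
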