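import Groth.Statements.S1315
import Groth.Agent.S1314
import Mathlib.AlgebraicGeometry.Morphisms.IsIso

set_option autoImplicit false
universe u
open FlatMor

namespace Groth.Agent.S1315

open AlgebraicGeometry CategoryTheory Limits in
/-- Let Y ⟶ Y' be a thickening, let X be the base change to Y of a scheme X' over Y', and assume both X
⟶ Y and X' ⟶ Y' are locally of finite type. Then X ⟶ Y is a monomorphism if and only if X' ⟶ Y' is. -/
theorem result {X X' Y Y' : Scheme.{u}} (iX : X ⟶ X') (iY : Y ⟶ Y') (f : X ⟶ Y) (f' : X' ⟶ Y')
    (hY : MoreMor.IsThickening iY) (hc : IsPullback iX f f' iY) [LocallyOfFiniteType f] [LocallyOfFiniteType f'] :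
    Mono f ↔ Mono f' := by
  constructor
  · intro hf
    have hfu : FormallyUnramified f := inferInstance
    have hfu' : FormallyUnramified f' := (Groth.Agent.S1314.result iX iY f f' hY hc).mp hfu
    have hopen : IsOpenImmersion (pullback.diagonal f') := inferInstance
    have hsX : Surjective iX := MorphismProperty.of_isPullback hc.flip hY.2
    -- the big rectangle
    have h1 : IsPullback (pullback.snd f f ≫ iX) (pullback.fst f f) f' (f ≫ iY) :=
      (IsPullback.of_hasPullback f f).flip.paste_horiz hc
    have hw : (pullback.snd f f ≫ iX) ≫ f' = (pullback.fst f f ≫ iX) ≫ f' := by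
      rw [Category.assoc, Category.assoc, hc.w, ← Category.assoc, ← Category.assoc,
        pullback.condition]
    have h2 : IsPullback (pullback.snd f' f') (pullback.fst f' f') f' f' :=
      (IsPullback.of_hasPullback f' f').flip
    let m : pullback f f ⟶ pullback f' f' := pullback.lift (pullback.fst f f ≫ iX)
      (pullback.snd f f ≫ iX) hw.symm
    have h1' : IsPullback (m ≫ pullback.snd f' f') (pullback.fst f f) f' (iX ≫ f') := by
      rw [pullback.lift_snd, hc.w]; exact h1
    have h3 : IsPullback m (pullback.fst f f) (pullback.fst f' f') iX :=
      IsPullback.of_right h1' (pullback.lift_fst _ _ _) h2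
    have hsm : Surjective m := MorphismProperty.of_isPullback h3.flip hsX
    have hcomp : pullback.diagonal f ≫ m = iX ≫ pullback.diagonal f' := by
      apply pullback.hom_ext
      · rw [Category.assoc, pullback.lift_fst, ← Category.assoc, pullback.diagonal_fst,
          Category.id_comp, Category.assoc, pullback.diagonal_fst, Category.comp_id]
      · rw [Category.assoc, pullback.lift_snd, ← Category.assoc, pullback.diagonal_snd,
          Category.id_comp, Category.assoc, pullback.diagonal_snd, Category.comp_id]
    have hsurj : Surjective (iX ≫ pullback.diagonal f') := by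
      rw [← hcomp]; infer_instance
    have hsd : Surjective (pullback.diagonal f') := Surjective.of_comp iX _
    have : IsIso (pullback.diagonal f') :=
      (isIso_iff_isOpenImmersion_and_surjective _).mpr ⟨hopen, hsd⟩
    exact (pullback.isIso_diagonal_iff f').mp this
  · intro hf'
    exact MorphismProperty.of_isPullback (P := MorphismProperty.monomorphisms Scheme) hc hf'

end Groth.Agent.S1315
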