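import Groth.Statements.S13151
import Mathlib.RingTheory.Polynomial.ScaleRoots
import Mathlib.RingTheory.IntegralClosure.IntegrallyClosed

set_option autoImplicit false
universe u
open CAlg

namespace Groth.Agent.S13151

open Polynomial in
/-- If `a ∈ A` is a multiple of `π ∈ A` in an integral extension `B ⊇ A` with `A` integrally closed,
then `π ∣ a` in `A`. -/
theorem dvd_of_algebraMap_dvd {A B : Type u} [CommRing A] [CommRing B]
    [IsDomain A] [IsDomain B] [IsIntegrallyClosed A] [Algebra A B] [Algebra.IsIntegral A B]
    (hinj : Function.Injective (algebraMap A B)) (π a : A)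
    (h : algebraMap A B π ∣ algebraMap A B a) : π ∣ a := by
  obtain ⟨b, hb⟩ := h
  by_cases hπ : π = 0
  · subst hπ
    rw [map_zero, zero_mul] at hb
    have : a = 0 := hinj (by rw [hb, map_zero])
    rw [this]
  let K := FractionRing A
  have hπK : algebraMap A K π ≠ 0 := fun h0 =>
    hπ <| (injective_iff_map_eq_zero _).1 (IsFractionRing.injective A K) _ h0
  let y : K := algebraMap A K a / algebraMap A K π
  obtain ⟨p, hp, hpb⟩ := Algebra.IsIntegral.isIntegral (R := A) b
  -- the scaled polynomial vanishes at `a` in `A`
  have h1 : eval₂ (algebraMap A B) (algebraMap A B π * b) (scaleRoots p π) = 0 :=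
    scaleRoots_eval₂_eq_zero _ hpb
  rw [← hb] at h1
  have h2 : eval a (scaleRoots p π) = 0 := by
    apply hinj
    rw [map_zero, ← h1, eval₂_at_apply]
  have hy : IsIntegral A y := by
    refine ⟨p, hp, ?_⟩
    have h3 : eval₂ (algebraMap A K) (algebraMap A K π * y) (scaleRoots p π) =
        algebraMap A K π ^ p.natDegree * eval₂ (algebraMap A K) y p :=
      scaleRoots_eval₂_mul _ _ _
    have h4 : algebraMap A K π * y = algebraMap A K a := by
      simp only [y]
      rw [mul_div_cancel₀ _ hπK]
    rw [h4, eval₂_at_apply, h2, map_zero] at h3
    rcases mul_eq_zero.mp h3.symm with h5 | h5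
    · exact absurd h5 (pow_ne_zero _ hπK)
    · exact h5
  obtain ⟨c, hc⟩ := IsIntegrallyClosed.algebraMap_eq_of_integral hy
  refine ⟨c, IsFractionRing.injective A K ?_⟩
  rw [map_mul, hc]
  simp only [y]
  rw [mul_div_cancel₀ _ hπK]

/-- Let A → B be an injective ring homomorphism of integral domains which is integral, with A integrally
closed, and let π be an element of A. Then the contraction to A of the ideal πB is πA, i.e. an
element of A which is a multiple of π in B is already a multiple of π in A; in particular if B/πB is
an integral domain then A/πA is an integral domain. (The published statement is for an integral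
dominant morphism of integral schemes flat over a discrete valuation ring, with normal target and π
a uniformizer; flatness and the valuation ring play no role, so π is an arbitrary element here.) -/
theorem result {A B : Type u} [CommRing A] [CommRing B]
    [IsDomain A] [IsDomain B] [IsIntegrallyClosed A] [Algebra A B] [Algebra.IsIntegral A B]
    (hinj : Function.Injective (algebraMap A B)) (π : A) :
    (Ideal.span {algebraMap A B π}).comap (algebraMap A B) = Ideal.span {π} ∧
      (IsDomain (B ⧸ Ideal.span {algebraMap A B π}) → IsDomain (A ⧸ Ideal.span {π})) := by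
  have h1 : (Ideal.span {algebraMap A B π}).comap (algebraMap A B) = Ideal.span {π} := by
    ext a
    rw [Ideal.mem_comap, Ideal.mem_span_singleton, Ideal.mem_span_singleton]
    exact ⟨dvd_of_algebraMap_dvd hinj π a, fun h => map_dvd _ h⟩
  refine ⟨h1, fun hdom => ?_⟩
  rw [Ideal.Quotient.isDomain_iff_prime] at hdom ⊢
  rw [← h1]
  exact Ideal.comap_isPrime _ _

end Groth.Agent.S13151
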