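import Groth.Statements.S13153
import Mathlib.RingTheory.Smooth.Field
import Mathlib.RingTheory.Etale.Kaehler
import Mathlib.RingTheory.Kaehler.Polynomial
import Mathlib.RingTheory.Flat.FaithfullyFlat.Algebra

set_option autoImplicit false
universe u
open scoped TensorProduct
open CAlg

namespace Groth.Agent.S13153

open Polynomial

/-- In characteristic zero, an element of a field extension with vanishing differential is
algebraic over the base field. -/
theorem isAlgebraic_of_D_eq_zero (K L : Type u) [Field K] [Field L] [Algebra K L] [CharZero K]
    (f : L) (hf : KaehlerDifferential.D K L f = 0) : IsAlgebraic K f := by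
  by_contra htr
  have htr' : Transcendental K f := htr
  letI algPL : Algebra K[X] L := (Polynomial.aeval f).toRingHom.toAlgebra
  have halg : ∀ p : K[X], algebraMap K[X] L p = Polynomial.aeval f p := fun p => rfl
  haveI : IsScalarTower K K[X] L := IsScalarTower.of_algebraMap_eq (fun r => by
    rw [halg, Polynomial.algebraMap_apply, Polynomial.aeval_C]
    rfl)
  have hinj : Function.Injective (algebraMap K[X] L) := transcendental_iff_injective.1 htr'
  letI algEL : Algebra (FractionRing K[X]) L := (IsFractionRing.lift hinj).toAlgebra
  haveI : IsScalarTower K[X] (FractionRing K[X]) L := IsScalarTower.of_algebraMap_eq (fun p =>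
    (IsFractionRing.lift_algebraMap hinj p).symm)
  haveI : CharZero (FractionRing K[X]) :=
    charZero_of_injective_algebraMap (FaithfulSMul.algebraMap_injective K (FractionRing K[X]))
  obtain ⟨s, hs⟩ := exists_isTranscendenceBasis (FractionRing K[X]) L
  haveI : Algebra.IsAlgebraic
      (IntermediateField.adjoin (FractionRing K[X]) (Set.range ((↑) : s → L))) L :=
    hs.isAlgebraic_field
  haveI : Algebra.FormallySmooth (FractionRing K[X]) L :=
    Algebra.FormallySmooth.of_algebraicIndependent_of_isSeparable hs.1
  haveI : Algebra.FormallyEtale K[X] (FractionRing K[X]) :=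
    Algebra.FormallyEtale.of_isLocalization (nonZeroDivisors K[X])
  haveI : Algebra.FormallySmooth K[X] L := Algebra.FormallySmooth.comp K[X] (FractionRing K[X]) L
  have hinjmap : Function.Injective (KaehlerDifferential.mapBaseChange K K[X] L) := by
    rw [injective_iff_map_eq_zero]
    intro x hx
    obtain ⟨y, rfl⟩ := (Algebra.H1Cotangent.exact_δ_mapBaseChange K K[X] L x).mp hx
    rw [Subsingleton.elim y 0, map_zero]
  have h1 : KaehlerDifferential.mapBaseChange K K[X] L
      ((1 : L) ⊗ₜ[K[X]] KaehlerDifferential.D K K[X] Polynomial.X) =
      KaehlerDifferential.D K L f := by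
    rw [KaehlerDifferential.mapBaseChange_tmul, one_smul, KaehlerDifferential.map_D, halg,
      Polynomial.aeval_X]
  have h2 : ((1 : L) ⊗ₜ[K[X]] KaehlerDifferential.D K K[X] Polynomial.X) = 0 :=
    hinjmap (by rw [h1, hf, map_zero])
  have h3 := congrArg (fun z => TensorProduct.rid K[X] L
    (LinearMap.lTensor L (KaehlerDifferential.polynomialEquiv K).toLinearMap z)) h2
  simp only [LinearMap.lTensor_tmul, LinearEquiv.coe_coe, KaehlerDifferential.polynomialEquiv_D,
    Polynomial.derivative_X, TensorProduct.rid_tmul, one_smul, map_zero] at h3
  exact one_ne_zero h3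

/-- Let R be a discrete valuation ring whose fraction field K has characteristic zero, A an integral
domain which is a faithfully flat R-algebra, with fraction field L, such that K is algebraically
closed in L (every element of L algebraic over K is in the image of K). If f ∈ A has vanishing
differential, df = 0 in Ω_{A/R}, then f is the image of an element of R. (The published statement is
the sheaf form: for a faithfully flat morphism X → Spec R with geometrically integral generic fibre,
the kernel of d : O_X → Ω¹_{X/R} is the inverse image of O_{Spec R}; for integral X, geometric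
integrality of the generic fibre in characteristic zero amounts to K being algebraically closed in
the function field, which is the form used here, and this row is the case of global sections over an
affine X = Spec A.) -/
theorem result (R : Type u) [CommRing R] [IsDomain R]
    [IsDiscreteValuationRing R] [CharZero R] (K : Type u) [Field K] [Algebra R K] [IsFractionRing R K]
    (A : Type u) [CommRing A] [IsDomain A] [Algebra R A] [Module.FaithfullyFlat R A]
    (L : Type u) [Field L] [Algebra A L] [IsFractionRing A L] [Algebra R L] [Algebra K L]
    [IsScalarTower R A L] [IsScalarTower R K L]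
    (hac : ∀ x : L, IsAlgebraic K x → x ∈ (algebraMap K L).range)
    (f : A) (hf : KaehlerDifferential.D R A f = 0) : f ∈ (algebraMap R A).range := by
  haveI : CharZero K :=
    charZero_of_injective_algebraMap (IsFractionRing.injective R K)
  have hD : KaehlerDifferential.D K L (algebraMap A L f) = 0 := by
    rw [← KaehlerDifferential.map_D R K A L, hf, map_zero]
  obtain ⟨k, hk⟩ := hac _ (isAlgebraic_of_D_eq_zero K L _ hD)
  obtain ⟨r, s, hs, rfl⟩ := IsFractionRing.div_surjective (A := R) k
  have hs0 : algebraMap R K s ≠ 0 := by
    intro h
    exact nonZeroDivisors.ne_zero hs ((IsFractionRing.injective R K) (h.trans (map_zero _).symm))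
  have hinjAL : Function.Injective (algebraMap A L) := IsFractionRing.injective A L
  -- f * s = r in A
  have h1 : f * algebraMap R A s = algebraMap R A r := by
    apply hinjAL
    rw [map_mul, ← hk, ← IsScalarTower.algebraMap_apply R A L, ← IsScalarTower.algebraMap_apply R A L,
      IsScalarTower.algebraMap_apply R K L s, IsScalarTower.algebraMap_apply R K L r, ← map_mul,
      div_mul_cancel₀ _ hs0]
  -- r ∈ (s) by faithful flatness
  have h2 : r ∈ Ideal.span ({s} : Set R) := by
    rw [← Ideal.comap_map_eq_self_of_faithfullyFlat (B := A) (Ideal.span ({s} : Set R)),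
      Ideal.mem_comap, ← h1, Ideal.map_span, Set.image_singleton]
    exact Ideal.mul_mem_left _ _ (Ideal.subset_span rfl)
  obtain ⟨r', rfl⟩ := Ideal.mem_span_singleton'.1 h2
  refine ⟨r', ?_⟩
  have hsA : algebraMap R A s ≠ 0 := by
    intro h
    exact nonZeroDivisors.ne_zero hs
      ((FaithfulSMul.algebraMap_injective R A) (h.trans (map_zero _).symm))
  rw [map_mul] at h1
  exact (mul_right_cancel₀ hsA h1).symm

end Groth.Agent.S13153
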