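import Groth.Statements.S13154
import Mathlib.RingTheory.Flat.FaithfullyFlat.Algebra
import Mathlib.RingTheory.Flat.TorsionFree
import Mathlib.RingTheory.Localization.BaseChange

set_option autoImplicit false
universe u
open scoped TensorProduct
open CAlg

namespace Groth.Agent.S13154

section aux

variable {R : Type u} [CommRing R] [IsDomain R] {K : Type u} [Field K] [Algebra R K]
  [IsFractionRing R K] {A : Type u} [CommRing A] [Algebra R A] [Module.FaithfullyFlat R A]
  {M : Type u} [CommRing M] [Algebra R M] [Module.Flat R M]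

/-- The key descent lemma: compatible elements of `K ⊗ M` and `A ⊗ M` come from `M`. -/
theorem key (xK : K ⊗[R] M) (xA : A ⊗[R] M)
    (h : Algebra.TensorProduct.map (Algebra.TensorProduct.includeLeft : K →ₐ[R] K ⊗[R] A)
          (AlgHom.id R M) xK =
        Algebra.TensorProduct.map (Algebra.TensorProduct.includeRight : A →ₐ[R] K ⊗[R] A)
          (AlgHom.id R M) xA) :
    ∃ m : M, xK = 1 ⊗ₜ m ∧ xA = 1 ⊗ₜ m := by
  -- clear denominators
  haveI : IsLocalizedModule (nonZeroDivisors R) (TensorProduct.mk R K M 1) :=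
    (isLocalizedModule_iff_isBaseChange (nonZeroDivisors R) K _).2
      (TensorProduct.isBaseChange R M K)
  obtain ⟨⟨m, s⟩, hs⟩ := IsLocalizedModule.surj (nonZeroDivisors R) (TensorProduct.mk R K M 1) xK
  have hs' : (s : R) • xK = (1 : K) ⊗ₜ[R] m := hs
  -- the map `A ⊗ M → (K ⊗ A) ⊗ M` is injective
  have hinjA : Function.Injective
      (Algebra.TensorProduct.includeRight : A →ₐ[R] K ⊗[R] A) := by
    have h1 : Function.Injective (TensorProduct.mk R K A 1) :=
      Module.Flat.tensorProduct_mk_injective (R := R) (S := K) A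
    exact h1
  have hinj : Function.Injective
      (Algebra.TensorProduct.map (Algebra.TensorProduct.includeRight : A →ₐ[R] K ⊗[R] A)
        (AlgHom.id R M)) := by
    have h1 : Function.Injective (LinearMap.rTensor M
        (Algebra.TensorProduct.includeRight : A →ₐ[R] K ⊗[R] A).toLinearMap) :=
      Module.Flat.rTensor_preserves_injective_linearMap _ hinjA
    have h2 : ∀ x, Algebra.TensorProduct.map
        (Algebra.TensorProduct.includeRight : A →ₐ[R] K ⊗[R] A) (AlgHom.id R M) x =
        LinearMap.rTensor M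
          (Algebra.TensorProduct.includeRight : A →ₐ[R] K ⊗[R] A).toLinearMap x := by
      intro x
      induction x using TensorProduct.induction_on with
      | zero => simp
      | tmul a b => simp
      | add x y hx hy => rw [map_add, map_add, hx, hy]
    intro x y hxy
    rw [h2, h2] at hxy
    exact h1 hxy
  -- so `1 ⊗ m = s • xA`
  have h3 : (1 : A) ⊗ₜ[R] m = (s : R) • xA := by
    apply hinj
    rw [map_smul, ← h, ← map_smul, hs']
    simp
  -- faithful flatness: `m ∈ s M`
  have h4 : ∃ m' : M, m = (s : R) • m' := by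
    let N : Submodule R M := LinearMap.range (LinearMap.lsmul R M (s : R))
    have h5 : (TensorProduct.mk R A (M ⧸ N) 1) (N.mkQ m) = 0 := by
      have h6 : (TensorProduct.mk R A (M ⧸ N) 1) (N.mkQ m) =
          LinearMap.lTensor A N.mkQ ((1 : A) ⊗ₜ[R] m) := by simp
      rw [h6, h3, map_smul]
      have h7 : ∀ y : A ⊗[R] (M ⧸ N), (s : R) • y = 0 := by
        intro y
        induction y using TensorProduct.induction_on with
        | zero => simp
        | tmul a n =>
          obtain ⟨n', rfl⟩ := N.mkQ_surjective n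
          rw [TensorProduct.smul_tmul', TensorProduct.smul_tmul, ← map_smul]
          have : N.mkQ ((s : R) • n') = 0 := by
            rw [Submodule.mkQ_apply, Submodule.Quotient.mk_eq_zero]
            exact ⟨n', rfl⟩
          rw [this, TensorProduct.tmul_zero]
        | add x y hx hy => rw [smul_add, hx, hy, add_zero]
      exact h7 _
    have h8 : N.mkQ m = 0 :=
      Module.FaithfullyFlat.tensorProduct_mk_injective (A := R) (B := A) (M ⧸ N)
        (h5.trans (map_zero _).symm)
    rw [Submodule.mkQ_apply, Submodule.Quotient.mk_eq_zero] at h8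
    obtain ⟨m', hm'⟩ := h8
    exact ⟨m', hm'.symm⟩
  obtain ⟨m', rfl⟩ := h4
  refine ⟨m', ?_, ?_⟩
  · -- cancel `s` in the `K`-vector space
    have hsK : IsUnit (algebraMap R K (s : R)) :=
      IsLocalization.map_units K s
    have h9 : algebraMap R K (s : R) • xK = algebraMap R K (s : R) • ((1 : K) ⊗ₜ[R] m') := by
      rw [algebraMap_smul, algebraMap_smul, hs', TensorProduct.tmul_smul]
    exact hsK.smul_left_cancel.1 h9
  · have hreg : IsSMulRegular (A ⊗[R] M) (s : R) :=
      Module.Flat.isSMulRegular_of_nonZeroDivisors s.2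
    apply hreg
    change (s : R) • xA = (s : R) • ((1 : A) ⊗ₜ[R] m')
    rw [← h3, TensorProduct.tmul_smul]

end aux

/-- Let R be a discrete valuation ring with fraction field K, A a faithfully flat R-algebra (an affine
faithfully flat base change S' → S = Spec R) and B₁, B₂ flat R-algebras (two affine S-schemes X₁ =
Spec B₁, X₂ = Spec B₂, flat over S). Suppose given a K-algebra homomorphism φ_K : K ⊗ B₂ → K ⊗ B₁ (a
morphism of the generic fibres X₁,K → X₂,K) and an A-algebra homomorphism φ_A : A ⊗ B₂ → A ⊗ B₁ (a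
morphism X₁ ×_S S' → X₂ ×_S S' over S') which coincide after base change to K ⊗ A, in the sense that
for every b ∈ B₂ the images of φ_K(1 ⊗ b) and φ_A(1 ⊗ b) in (K ⊗ A) ⊗ B₁ agree. Then there is
exactly one R-algebra homomorphism φ : B₂ → B₁ (a morphism X₁ → X₂) whose base changes to K and to A
are φ_K and φ_A. (The published statement assumes only X₂ flat over S; flatness of X₁ is also
needed: with B₂ = R[t], B₁ = R[e]/(e², πe) for a uniformizer π and A = R[x], the maps t ↦ 0 over K
and t ↦ e x over A agree over K ⊗ A = K[x] but come from no map over R.) -/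
theorem result (R : Type u) [CommRing R] [IsDomain R]
    [IsDiscreteValuationRing R] (K : Type u) [Field K] [Algebra R K] [IsFractionRing R K]
    (A : Type u) [CommRing A] [Algebra R A] [Module.FaithfullyFlat R A]
    (B₁ B₂ : Type u) [CommRing B₁] [CommRing B₂] [Algebra R B₁] [Algebra R B₂]
    [Module.Flat R B₁] [Module.Flat R B₂]
    (φK : K ⊗[R] B₂ →ₐ[K] K ⊗[R] B₁) (φA : A ⊗[R] B₂ →ₐ[A] A ⊗[R] B₁)
    (hcomp : ∀ b : B₂,
      Algebra.TensorProduct.map (Algebra.TensorProduct.includeLeft : K →ₐ[R] K ⊗[R] A) (AlgHom.id R B₁)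
          (φK (1 ⊗ₜ b)) =
        Algebra.TensorProduct.map (Algebra.TensorProduct.includeRight : A →ₐ[R] K ⊗[R] A) (AlgHom.id R B₁)
          (φA (1 ⊗ₜ b))) :
    ∃! φ : B₂ →ₐ[R] B₁, (∀ b : B₂, φK (1 ⊗ₜ b) = 1 ⊗ₜ φ b) ∧ (∀ b : B₂, φA (1 ⊗ₜ b) = 1 ⊗ₜ φ b) := by
  have hinj : Function.Injective (fun b : B₁ => ((1 : A) ⊗ₜ[R] b : A ⊗[R] B₁)) :=
    Module.FaithfullyFlat.tensorProduct_mk_injective (A := R) (B := A) B₁
  have hex : ∀ b : B₂, ∃ m : B₁, φK (1 ⊗ₜ b) = 1 ⊗ₜ m ∧ φA (1 ⊗ₜ b) = 1 ⊗ₜ m :=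
    fun b => key (φK (1 ⊗ₜ b)) (φA (1 ⊗ₜ b)) (hcomp b)
  choose f hfK hfA using hex
  have hone : f 1 = 1 := by
    apply hinj
    change (1 : A) ⊗ₜ[R] f 1 = (1 : A) ⊗ₜ[R] (1 : B₁)
    rw [← hfA 1]
    exact map_one φA
  have hmul : ∀ x y, f (x * y) = f x * f y := by
    intro x y
    apply hinj
    change (1 : A) ⊗ₜ[R] f (x * y) = (1 : A) ⊗ₜ[R] (f x * f y)
    rw [← hfA (x * y)]
    have : ((1 : A) ⊗ₜ[R] (x * y) : A ⊗[R] B₂) = (1 ⊗ₜ x) * (1 ⊗ₜ y) := by
      rw [Algebra.TensorProduct.tmul_mul_tmul, one_mul]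
    rw [this, map_mul, hfA x, hfA y, Algebra.TensorProduct.tmul_mul_tmul, one_mul]
  have hadd : ∀ x y, f (x + y) = f x + f y := by
    intro x y
    apply hinj
    change (1 : A) ⊗ₜ[R] f (x + y) = (1 : A) ⊗ₜ[R] (f x + f y)
    rw [← hfA (x + y), TensorProduct.tmul_add, map_add, hfA x, hfA y, TensorProduct.tmul_add]
  have hzero : f 0 = 0 := by
    apply hinj
    change (1 : A) ⊗ₜ[R] f 0 = (1 : A) ⊗ₜ[R] (0 : B₁)
    rw [← hfA 0, TensorProduct.tmul_zero, map_zero, TensorProduct.tmul_zero]
  have halg : ∀ r : R, f (algebraMap R B₂ r) = algebraMap R B₁ r := by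
    intro r
    apply hinj
    change (1 : A) ⊗ₜ[R] f (algebraMap R B₂ r) = (1 : A) ⊗ₜ[R] (algebraMap R B₁ r)
    rw [← hfA (algebraMap R B₂ r)]
    have h1 : ((1 : A) ⊗ₜ[R] (algebraMap R B₂ r) : A ⊗[R] B₂) =
        algebraMap A (A ⊗[R] B₂) (algebraMap R A r) := by
      rw [← Algebra.TensorProduct.algebraMap_apply' (R := R) (A := A) (B := B₂) r,
        Algebra.TensorProduct.algebraMap_apply (R := R) (S := R) (A := A) (B := B₂) r]
      rfl
    have h2 : ((1 : A) ⊗ₜ[R] (algebraMap R B₁ r) : A ⊗[R] B₁) =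
        algebraMap A (A ⊗[R] B₁) (algebraMap R A r) := by
      rw [← Algebra.TensorProduct.algebraMap_apply' (R := R) (A := A) (B := B₁) r,
        Algebra.TensorProduct.algebraMap_apply (R := R) (S := R) (A := A) (B := B₁) r]
      rfl
    rw [h1, h2, AlgHom.commutes]
  let φ : B₂ →ₐ[R] B₁ :=
    { toFun := f
      map_one' := hone
      map_mul' := hmul
      map_zero' := hzero
      map_add' := hadd
      commutes' := halg }
  refine ⟨φ, ⟨hfK, hfA⟩, ?_⟩
  rintro ψ ⟨-, hψA⟩
  ext b
  apply hinj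
  change (1 : A) ⊗ₜ[R] ψ b = (1 : A) ⊗ₜ[R] f b
  rw [← hψA b, hfA b]

end Groth.Agent.S13154
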