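import Groth.Statements.S13155
import Mathlib

set_option autoImplicit false
universe u
open CAlg

namespace Groth.Agent.S13155
open Polynomial

theorem core {A S : Type*} [CommRing A] [CommRing S] [IsDomain S] [Algebra A S] (π : A)
    (hπS : IsUnit (algebraMap A S π)) (m : ℕ) (hm : 0 < m) (a : ℕ) (u : Aˣ) (z : S)
    (hz : z ^ m = algebraMap A S (π ^ a * u))
    (hsp : (Ideal.span {algebraMap A (integralClosure A S) π}).IsPrime) : m ∣ a := by
  obtain ⟨q, r, har, hr⟩ : ∃ q r, a = m * q + r ∧ r < m :=
    ⟨a / m, a % m, (Nat.div_add_mod a m).symm, Nat.mod_lt _ hm⟩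
  by_contra hdiv
  have hr0 : 0 < r := Nat.pos_of_ne_zero fun h => hdiv ⟨q, by rw [har, h, add_zero]⟩
  obtain ⟨πS, hπS'⟩ := hπS
  have h1 : (πS : S) * ((πS⁻¹ : Sˣ) : S) = 1 := Units.mul_inv πS
  let w : S := z * ((πS⁻¹ : Sˣ) : S) ^ q
  have hw : w ^ m = algebraMap A S (π ^ r * u) := by
    have e1 : (πS : S) ^ (m * q) * (((πS⁻¹ : Sˣ) : S) ^ q) ^ m = 1 := by
      rw [← pow_mul, mul_comm q m, ← mul_pow, h1, one_pow]
    calc w ^ m = z ^ m * (((πS⁻¹ : Sˣ) : S) ^ q) ^ m := mul_pow _ _ _
      _ = ((πS : S) ^ (m * q) * (((πS⁻¹ : Sˣ) : S) ^ q) ^ m) *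
            ((πS : S) ^ r * algebraMap A S u) := by
          rw [hz, har, map_mul, map_pow, ← hπS', pow_add]; ring
      _ = algebraMap A S (π ^ r * u) := by rw [e1, one_mul, map_mul, map_pow, hπS']
  have hwint : IsIntegral A w :=
    ⟨X ^ m - C (π ^ r * u), monic_X_pow_sub_C _ hm.ne', by simp [hw]⟩
  let wB : integralClosure A S := ⟨w, hwint⟩
  set πB := algebraMap A (integralClosure A S) π with hπB
  have hwB : wB ^ m = algebraMap A (integralClosure A S) (π ^ r * u) := Subtype.ext hw
  have hmem0 : wB ^ m ∈ Ideal.span {πB} := by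
    rw [hwB, map_mul, map_pow, Ideal.mem_span_singleton]
    obtain ⟨r', rfl⟩ : ∃ r', r = r' + 1 := ⟨r - 1, by omega⟩
    exact ⟨πB ^ r' * algebraMap A _ (u : A), by rw [pow_succ]; ring⟩
  have hmem : wB ∈ Ideal.span {πB} := hsp.mem_of_pow_mem m hmem0
  obtain ⟨w1, hw1⟩ := Ideal.mem_span_singleton.1 hmem
  have hw1S : w = (πS : S) * (w1 : S) := by
    have := congrArg (Subtype.val) hw1
    rw [hπS']; exact this
  have key : πB * (πB ^ (m - r - 1) * w1 ^ m) = algebraMap A (integralClosure A S) (u : A) := by
    apply Subtype.ext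
    change algebraMap A S π * (algebraMap A S π ^ (m - r - 1) * (w1 : S) ^ m) = algebraMap A S u
    rw [← hπS']
    have h2 : (πS : S) ^ r * ((πS : S) ^ (m - r) * (w1 : S) ^ m) =
        (πS : S) ^ r * algebraMap A S u := by
      rw [← mul_assoc, ← pow_add, Nat.add_sub_cancel' hr.le, ← mul_pow, ← hw1S, hw, map_mul,
        map_pow, hπS']
    have h3 := mul_left_cancel₀ (pow_ne_zero r πS.ne_zero) h2
    rw [← h3, ← mul_assoc, ← pow_succ']
    congr 2
    omega
  have hunit : IsUnit πB :=
    isUnit_of_dvd_unit ⟨_, key.symm⟩ (u.isUnit.map (algebraMap A (integralClosure A S)))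
  exact hsp.ne_top (Ideal.span_singleton_eq_top.2 hunit)


/-- Let R be a discrete valuation ring of characteristic zero with uniformizer π, and A a Noetherian
integrally closed domain which is an R-algebra with injective structure map and in which πA is a
prime ideal (X = Spec A is normal, flat over R, with integral special fibre). Let m ≥ 1 and let f ∈
A be invertible in A[1/π] (so Z^m = f defines a μ_m-torsor over the generic fibre), such that S =
A[1/π][Z]/(Z^m − f) is an integral domain and, writing B for the integral closure of A in S (the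
normalization of X in that cover), πB is a prime ideal of B (the normalization has integral special
fibre). Then f is, up to a unit of A, an m-th power of a power of π: f = π^{mq}·u with q ≥ 0 and u ∈
A^×, so that the cover extends to the μ_m-torsor Z^m = u over all of X. (The published statement is
the existence and uniqueness of the extending μ_m-torsor over a normal faithfully flat R-scheme with
integral fibres, R containing a primitive m-th root of unity; this row is the affine computation
that carries the proof.) -/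
theorem result (R : Type u) [CommRing R]
    [IsDomain R] [IsDiscreteValuationRing R] [CharZero R] (ϖ : R) (hϖ : Irreducible ϖ)
    (A : Type u) [CommRing A] [IsDomain A] [IsNoetherianRing A] [IsIntegrallyClosed A] [Algebra R A]
    (hinj : Function.Injective (algebraMap R A)) (hprime : (Ideal.span {algebraMap R A ϖ}).IsPrime)
    (m : ℕ) (hm : 0 < m) (f : A) (hf : IsUnit (algebraMap A (Localization.Away (algebraMap R A ϖ)) f))
    [IsDomain (AdjoinRoot (Polynomial.X ^ m - Polynomial.C (algebraMap A (Localization.Away (algebraMap R A ϖ)) f)))]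
    (hsp : (Ideal.span {algebraMap A (integralClosure A
        (AdjoinRoot (Polynomial.X ^ m - Polynomial.C (algebraMap A (Localization.Away (algebraMap R A ϖ)) f))))
          (algebraMap R A ϖ)}).IsPrime) :
    ∃ (q : ℕ) (u : Aˣ), f = algebraMap R A ϖ ^ (m * q) * (u : A) := by
  set π := algebraMap R A ϖ with hπdef
  have hπ0 : π ≠ 0 := (map_ne_zero_iff _ hinj).2 hϖ.ne_zero
  have hπprime : Prime π := (Ideal.span_singleton_prime hπ0).1 hprime
  obtain ⟨g', hg'⟩ := hf.exists_right_inv
  obtain ⟨⟨g, s⟩, hgs⟩ := IsLocalization.surj (Submonoid.powers π) g'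
  obtain ⟨k, hk⟩ := s.2
  simp only at hk hgs
  have hfg : f * g = π ^ k := by
    apply IsLocalization.injective (Localization.Away π)
      (powers_le_nonZeroDivisors_of_noZeroDivisors hπ0)
    rw [map_mul, ← hgs, ← mul_assoc, hg', one_mul, ← hk]
  obtain ⟨a, -, hassoc⟩ := (dvd_prime_pow hπprime k).1 ⟨g, hfg.symm⟩
  obtain ⟨u, hu⟩ := hassoc
  have hf' : f = π ^ a * ((u⁻¹ : Aˣ) : A) := by rw [← hu]; simp [mul_assoc]
  have hπS : IsUnit (algebraMap A (AdjoinRoot (Polynomial.X ^ m -
      Polynomial.C (algebraMap A (Localization.Away π) f))) π) := by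
    rw [AdjoinRoot.algebraMap_eq' A, RingHom.comp_apply]
    exact (IsLocalization.Away.algebraMap_isUnit π).map _
  have hz : (AdjoinRoot.root (Polynomial.X ^ m -
      Polynomial.C (algebraMap A (Localization.Away π) f))) ^ m =
      algebraMap A _ (π ^ a * ((u⁻¹ : Aˣ) : A)) := by
    rw [← hf', AdjoinRoot.algebraMap_eq' A, RingHom.comp_apply]
    have := AdjoinRoot.eval₂_root (Polynomial.X ^ m -
      Polynomial.C (algebraMap A (Localization.Away π) f))
    rw [Polynomial.eval₂_sub, Polynomial.eval₂_X_pow, Polynomial.eval₂_C, sub_eq_zero] at this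
    exact this
  obtain ⟨q, rfl⟩ := core π hπS m hm a u⁻¹ _ hz hsp
  exact ⟨q, u⁻¹, hf'⟩

end Groth.Agent.S13155
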