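import Groth.Statements.S13157
import Mathlib.Tactic

set_option autoImplicit false
universe u
open scoped Polynomial
open CAlg

namespace Groth.Agent.S13157

open Polynomial in
/-- Coefficientwise form of the differential equation `a₁·F = F′·(1 + μX)`. -/
theorem key (A : Type u) [CommRing A] (μ : A) (F : A[X]) :
    F * Polynomial.C (F.coeff 1) = Polynomial.derivative F * (1 + Polynomial.C μ * Polynomial.X) ↔
      ∀ r : ℕ, F.coeff r * F.coeff 1 =
        F.coeff (r + 1) * ((r : A) + 1) + F.coeff r * (r : A) * μ := by
  rw [Polynomial.ext_iff]
  constructor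
  · intro h r
    have hr := h r
    cases r with
    | zero =>
      rw [mul_add, mul_one, coeff_add, ← mul_assoc, coeff_mul_X_zero, coeff_mul_C,
        coeff_derivative] at hr
      rw [hr]
      simp
    | succ r =>
      rw [mul_add, mul_one, coeff_add, ← mul_assoc, coeff_mul_X, coeff_mul_C, coeff_mul_C,
        coeff_derivative, coeff_derivative] at hr
      rw [hr]
      push_cast
      ring
  · intro h r
    have hr := h r
    cases r with
    | zero =>
      rw [mul_add, mul_one, coeff_add, ← mul_assoc, coeff_mul_X_zero, coeff_mul_C,
        coeff_derivative, hr]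
      simp
    | succ r =>
      rw [mul_add, mul_one, coeff_add, ← mul_assoc, coeff_mul_X, coeff_mul_C, coeff_mul_C,
        coeff_derivative, coeff_derivative, hr]
      push_cast
      ring

/-- (i) ⇔ (ii): let p be a prime number, A a commutative ring in which (p−1)! is invertible, μ ∈ A, and
F ∈ A[X] a polynomial of degree at most p − 1 with constant term a_0 = 1 and coefficients a_1, a_2,
…. Then the relations a_{r−1}·a_1 = (r − 1)μ·a_{r−1} + r·a_r for 1 ≤ r ≤ p (with a_p = 0), written
here as the single identity a_1·F = F′·(1 + μX), hold if and only if r!·a_r = ∏_{k=0}^{r−1} (a_1 −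
kμ) for every 1 ≤ r ≤ p − 1 and ∏_{k=0}^{p−1} (a_1 − kμ) = 0. (The published statement lists the
relations only for 1 ≤ r ≤ p − 1, while its proof uses and derives the relation for r = p as well,
which is needed for the vanishing of the last product; it is included here. The published setting is
the quotient of a discrete valuation ring of residue characteristic p by a nonzero non-unit; only
the invertibility of 1, …, p − 1 is used.) -/
theorem result (A : Type u) [CommRing A] (p : ℕ) [Fact p.Prime]
    (hu : IsUnit ((Nat.factorial (p - 1) : ℕ) : A)) (μ : A) (F : A[X]) (hF : F.natDegree < p)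
    (h0 : F.coeff 0 = 1) :
    F * Polynomial.C (F.coeff 1) = Polynomial.derivative F * (1 + Polynomial.C μ * Polynomial.X) ↔
      ((∀ r : ℕ, 1 ≤ r → r < p →
          (r.factorial : A) * F.coeff r = ∏ k ∈ Finset.range r, (F.coeff 1 - (k : A) * μ)) ∧
        ∏ k ∈ Finset.range p, (F.coeff 1 - (k : A) * μ) = 0) := by
  rw [key]
  have hp : 0 < p := (Fact.out : p.Prime).pos
  have hzero : ∀ r, p ≤ r → F.coeff r = 0 := fun r hr =>
    Polynomial.coeff_eq_zero_of_natDegree_lt (lt_of_lt_of_le hF hr)
  have hunit : ∀ r, r < p → IsUnit ((r.factorial : ℕ) : A) := by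
    intro r hr
    have hdvd : r.factorial ∣ (p - 1).factorial := Nat.factorial_dvd_factorial (by omega)
    exact isUnit_of_dvd_unit (Nat.cast_dvd_cast hdvd) hu
  constructor
  · intro star
    have hall : ∀ r : ℕ, (r.factorial : A) * F.coeff r =
        ∏ k ∈ Finset.range r, (F.coeff 1 - (k : A) * μ) := by
      intro r
      induction r with
      | zero => simp [h0]
      | succ r ih =>
        rw [Finset.prod_range_succ, ← ih, Nat.factorial_succ]
        push_cast
        linear_combination (-(r.factorial : A)) * star r
    refine ⟨fun r _ _ => hall r, ?_⟩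
    rw [← hall p, hzero p le_rfl, mul_zero]
  · rintro ⟨h1, h2⟩ r
    have h1' : ∀ r, r < p → (r.factorial : A) * F.coeff r =
        ∏ k ∈ Finset.range r, (F.coeff 1 - (k : A) * μ) := by
      intro r hr
      rcases Nat.eq_zero_or_pos r with rfl | hpos
      · simp [h0]
      · exact h1 r hpos hr
    suffices hs : F.coeff (r + 1) * ((r : A) + 1) = F.coeff r * (F.coeff 1 - (r : A) * μ) by
      linear_combination -hs
    rcases lt_trichotomy (r + 1) p with hlt | heq | hgt
    · have hr : r < p := by omega
      apply (hunit r hr).mul_left_cancel
      have e1 := h1' (r + 1) hlt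
      rw [Finset.prod_range_succ, ← h1' r hr, Nat.factorial_succ] at e1
      push_cast at e1
      linear_combination e1
    · have hr : r < p := by omega
      rw [hzero (r + 1) (by omega), zero_mul]
      apply (hunit r hr).mul_left_cancel
      rw [mul_zero]
      have e2 : ∏ k ∈ Finset.range (r + 1), (F.coeff 1 - (k : A) * μ) = 0 := by
        rw [heq]; exact h2
      rw [Finset.prod_range_succ, ← h1' r hr] at e2
      linear_combination -e2
    · rw [hzero (r + 1) (by omega), hzero r (by omega)]
      ring

end Groth.Agent.S13157
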