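import Groth.Statements.S13156
import Mathlib
import Groth.Agent.S13157
-- import your own Groth.Agent.* helpers here

set_option autoImplicit false
universe u
open scoped Polynomial
open CAlg

namespace Groth.Agent.S13156

section aux
open Polynomial

/-- Coefficientwise form of the differential equation `c·Φ = Φ′·(1 + mX)`. -/
theorem keyc (B : Type*) [CommRing B] (m c : B) (Φ : B[X]) :
    Φ * C c = derivative Φ * (1 + C m * X) ↔
      ∀ r : ℕ, Φ.coeff r * c =
        Φ.coeff (r + 1) * ((r : B) + 1) + Φ.coeff r * (r : B) * m := by
  rw [Polynomial.ext_iff]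
  constructor
  · intro h r
    have hr := h r
    cases r with
    | zero =>
      rw [mul_add, mul_one, coeff_add, ← mul_assoc, coeff_mul_X_zero, coeff_mul_C,
        coeff_derivative] at hr
      rw [hr]
      simp
    | succ r =>
      rw [mul_add, mul_one, coeff_add, ← mul_assoc, coeff_mul_X, coeff_mul_C, coeff_mul_C,
        coeff_derivative, coeff_derivative] at hr
      rw [hr]
      push_cast
      ring
  · intro h r
    have hr := h r
    cases r with
    | zero =>
      rw [mul_add, mul_one, coeff_add, ← mul_assoc, coeff_mul_X_zero, coeff_mul_C,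
        coeff_derivative, hr]
      simp
    | succ r =>
      rw [mul_add, mul_one, coeff_add, ← mul_assoc, coeff_mul_X, coeff_mul_C, coeff_mul_C,
        coeff_derivative, coeff_derivative, hr]
      push_cast
      ring

lemma ode_unique (B : Type*) [CommRing B] (p : ℕ)
    (hunit : ∀ r : ℕ, 1 ≤ r → r < p → IsUnit (r : B)) (m c : B) (Φ : B[X])
    (hdeg : Φ.natDegree < p) (h0 : Φ.coeff 0 = 0)
    (hode : Φ * C c = derivative Φ * (1 + C m * X)) : Φ = 0 := by
  rw [keyc] at hode
  ext r
  rw [coeff_zero]
  induction r with
  | zero => exact h0
  | succ r ih =>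
    by_cases hr : r + 1 < p
    · have h := hode r
      rw [ih] at h
      have hu := hunit (r + 1) (by omega) hr
      have h' : Φ.coeff (r + 1) * ((r + 1 : ℕ) : B) = 0 := by
        push_cast
        linear_combination -h
      exact (hu.mul_left_eq_zero).mp h'
    · exact coeff_eq_zero_of_natDegree_lt (by omega)

variable {A : Type u} [CommRing A]

/-- The ring hom `A[X][X] → A[S,T]`, inner `X ↦ S = X 0`, outer `X ↦ T = X 1`. -/
noncomputable def theta : A[X][X] →+* MvPolynomial (Fin 2) A :=
  eval₂RingHom (aeval (MvPolynomial.X 0 : MvPolynomial (Fin 2) A)).toRingHom (MvPolynomial.X 1)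

/-- The algebra hom `A[S,T] → A[X][X]`. -/
noncomputable def psi : MvPolynomial (Fin 2) A →ₐ[A] A[X][X] :=
  MvPolynomial.aeval ![C X, X]

lemma theta_C (b : A[X]) : theta (C b) = aeval (MvPolynomial.X 0 : MvPolynomial (Fin 2) A) b := by
  simp [theta]

lemma theta_X : theta (X : A[X][X]) = (MvPolynomial.X 1 : MvPolynomial (Fin 2) A) := by
  simp [theta]

lemma theta_CC (a : A) : theta (C (C a)) = (MvPolynomial.C a : MvPolynomial (Fin 2) A) := by
  rw [theta_C, aeval_C]; rfl

lemma theta_map_comp (F : A[X]) (q : A[X][X]) :
    theta ((F.map C).comp q) = aeval (theta q) F := by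
  unfold theta
  rw [coe_eval₂RingHom, eval₂_comp, eval₂_map]
  have : (aeval (MvPolynomial.X 0 : MvPolynomial (Fin 2) A)).toRingHom.comp C =
      algebraMap A (MvPolynomial (Fin 2) A) := by
    ext a
    simp
  rw [this, aeval_def]

lemma theta_map (F : A[X]) :
    theta (F.map C) = aeval (MvPolynomial.X 1 : MvPolynomial (Fin 2) A) F := by
  have := theta_map_comp F (X : A[X][X])
  rwa [comp_X, theta_X] at this

lemma psi_theta (w : A[X][X]) : psi (theta w) = w := by
  have : (psi (A := A)).toRingHom.comp theta = RingHom.id _ := by
    apply Polynomial.ringHom_ext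
    · intro b
      show psi (theta (C b)) = C b
      rw [theta_C, ← aeval_algHom_apply]
      have h1 : psi (MvPolynomial.X 0 : MvPolynomial (Fin 2) A) = C X := by simp [psi]
      rw [h1]
      have h2 : (C X : A[X][X]) = (CAlgHom : A[X] →ₐ[A] A[X][X]) X := rfl
      rw [h2, aeval_algHom_apply, aeval_X_left]
      rfl
    · show psi (theta X) = X
      rw [theta_X]
      simp [psi]
  exact congrArg (fun f => f w) this

lemma theta_injective : Function.Injective (theta (A := A)) := by
  intro w w' h
  rw [← psi_theta w, ← psi_theta w', h]

end aux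


/-- Let p be a prime number, A a commutative ring in which (p−1)! is invertible, μ an element of A, and
F ∈ A[X] a polynomial of degree at most p − 1 with coefficients a_0, a_1, …. Then the identity
F(S)·F(T) − a_0² = F(S + T + μST) − a_0 holds in the polynomial ring A[S, T] if and only if a_1·F(S)
= F′(S)·(1 + μS) holds in A[S], F′ the formal derivative. (The published statement is over the
quotient of a discrete valuation ring of residue characteristic p by a nonzero element of its
maximal ideal; only the invertibility of 1, …, p − 1 is used, so an arbitrary such ring A is allowed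
here.) -/
theorem result (A : Type u) [CommRing A] (p : ℕ) [Fact p.Prime]
    (hu : IsUnit ((Nat.factorial (p - 1) : ℕ) : A)) (μ : A) (F : A[X]) (hF : F.natDegree < p) :
    (Polynomial.aeval (MvPolynomial.X 0 : MvPolynomial (Fin 2) A) F *
          Polynomial.aeval (MvPolynomial.X 1 : MvPolynomial (Fin 2) A) F - MvPolynomial.C (F.coeff 0 ^ 2) =
        Polynomial.aeval (MvPolynomial.X 0 + MvPolynomial.X 1 +
            MvPolynomial.C μ * MvPolynomial.X 0 * MvPolynomial.X 1 : MvPolynomial (Fin 2) A) F -
          MvPolynomial.C (F.coeff 0)) ↔
      F * Polynomial.C (F.coeff 1) = Polynomial.derivative F * (1 + Polynomial.C μ * Polynomial.X) := by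
  have hp : 0 < p := (Fact.out : p.Prime).pos
  -- notation
  set a0 := F.coeff 0 with ha0
  set a1 := F.coeff 1 with ha1
  set Fh : A[X][X] := F.map Polynomial.C with hFh
  set q : A[X][X] := Polynomial.C Polynomial.X +
    Polynomial.C (1 + Polynomial.C μ * Polynomial.X) * Polynomial.X with hq
  -- Step 2: transfer to `A[X][X]`
  have hθq : theta q = (MvPolynomial.X 0 + MvPolynomial.X 1 +
      MvPolynomial.C μ * MvPolynomial.X 0 * MvPolynomial.X 1 : MvPolynomial (Fin 2) A) := by
    simp only [hq, map_add, map_mul, theta_C, theta_X, Polynomial.aeval_X, map_one,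
      Polynomial.aeval_C]
    simp only [MvPolynomial.algebraMap_eq]
    ring
  have hW : (Polynomial.aeval (MvPolynomial.X 0 : MvPolynomial (Fin 2) A) F *
          Polynomial.aeval (MvPolynomial.X 1 : MvPolynomial (Fin 2) A) F - MvPolynomial.C (a0 ^ 2) =
        Polynomial.aeval (MvPolynomial.X 0 + MvPolynomial.X 1 +
            MvPolynomial.C μ * MvPolynomial.X 0 * MvPolynomial.X 1 : MvPolynomial (Fin 2) A) F -
          MvPolynomial.C a0) ↔
      (Polynomial.C F * Fh - Polynomial.C (Polynomial.C (a0 ^ 2)) =
        Fh.comp q - Polynomial.C (Polynomial.C a0)) := by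
    rw [← theta_injective.eq_iff, map_sub, map_sub, map_mul, theta_C, theta_CC, theta_CC, hFh,
      theta_map, theta_map_comp, hθq]
  rw [hW]
  -- basic facts
  have hdFh : Polynomial.derivative Fh = (Polynomial.derivative F).map Polynomial.C := by
    rw [hFh, Polynomial.derivative_map]
  have hdq : Polynomial.derivative q = Polynomial.C (1 + Polynomial.C μ * Polynomial.X) := by
    rw [hq]
    simp
  have heval_q : Polynomial.eval 0 q = Polynomial.X := by
    rw [hq]; simp
  have heval_map : ∀ G : A[X], Polynomial.eval (Polynomial.X : A[X]) (G.map Polynomial.C) = G := by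
    intro G
    rw [Polynomial.eval_map, Polynomial.eval₂_C_X]
  constructor
  · -- (⇒) take the coefficient of `T`
    intro h
    have h1 := congrArg (fun w : A[X][X] => w.coeff 1) h
    simp only [Polynomial.coeff_sub, Polynomial.coeff_C_mul, Polynomial.coeff_C_succ, sub_zero] at h1
    rw [hFh, Polynomial.coeff_map] at h1
    rw [h1]
    have : ((F.map Polynomial.C).comp q).coeff 1 =
        Polynomial.eval 0 (Polynomial.derivative ((F.map Polynomial.C).comp q)) := by
      rw [← Polynomial.coeff_zero_eq_eval_zero, Polynomial.coeff_derivative]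
      simp
    rw [this, Polynomial.derivative_comp, Polynomial.eval_mul, Polynomial.eval_comp, heval_q, hdq,
      Polynomial.eval_C, ← hFh, hdFh, heval_map]
    ring
  · -- (⇐) uniqueness for the ODE
    intro hode
    have hcoef := (Groth.Agent.S13157.key A μ F).mp hode
    have hzero : ∀ r, p ≤ r → F.coeff r = 0 := fun r hr =>
      Polynomial.coeff_eq_zero_of_natDegree_lt (lt_of_lt_of_le hF hr)
    have hunitA : ∀ r : ℕ, 1 ≤ r → r < p → IsUnit ((r : ℕ) : A) := by
      intro r hr1 hr
      have hdvd : r ∣ (p - 1).factorial := Nat.dvd_factorial (by omega) (by omega)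
      exact isUnit_of_dvd_unit (Nat.cast_dvd_cast hdvd) hu
    have hunitB : ∀ r : ℕ, 1 ≤ r → r < p → IsUnit ((r : ℕ) : A[X]) := by
      intro r hr1 hr
      have := (hunitA r hr1 hr).map (Polynomial.C : A →+* A[X])
      simpa using this
    have h01 : a0 * a1 = a1 := by
      have := hcoef 0
      simp only [Nat.cast_zero, zero_add, mul_one, mul_zero, zero_mul, add_zero] at this
      exact this
    have h0r : ∀ r, 1 ≤ r → a0 * F.coeff r = F.coeff r := by
      intro r hr
      induction r with
      | zero => omega
      | succ r ih =>
        rcases Nat.eq_zero_or_pos r with rfl | hpos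
        · exact h01
        · by_cases hlt : r + 1 < p
          · have ih' := ih hpos
            have e := hcoef r
            have hu1 := hunitA (r + 1) (by omega) hlt
            apply hu1.mul_left_cancel
            push_cast
            have e' : F.coeff (r + 1) * ((r : A) + 1) = F.coeff r * (a1 - (r : A) * μ) := by
              rw [ha1]; linear_combination -e
            calc ((r : A) + 1) * (a0 * F.coeff (r + 1))
                = a0 * (F.coeff (r + 1) * ((r : A) + 1)) := by ring
              _ = (a0 * F.coeff r) * (a1 - (r : A) * μ) := by rw [e']; ring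
              _ = F.coeff r * (a1 - (r : A) * μ) := by rw [ih']
              _ = ((r : A) + 1) * F.coeff (r + 1) := by rw [← e']; ring
          · rw [hzero (r + 1) (by omega), mul_zero]
    -- the difference
    set Φ : A[X][X] := Polynomial.C F * Fh - Fh.comp q +
      Polynomial.C (Polynomial.C (a0 - a0 ^ 2)) with hΦ
    suffices hΦ0 : Φ = 0 by
      have : Polynomial.C F * Fh - Polynomial.C (Polynomial.C (a0 ^ 2)) -
          (Fh.comp q - Polynomial.C (Polynomial.C a0)) = Φ := by
        rw [hΦ]
        simp only [map_sub]
        ring
      rw [← sub_eq_zero, this, hΦ0]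
    apply ode_unique A[X] p hunitB (Polynomial.C μ) (Polynomial.C a1) Φ
    · -- degree
      have hd1 : Fh.natDegree ≤ p - 1 := by
        rw [hFh]
        exact le_trans (Polynomial.natDegree_map_le) (by omega)
      have hdq' : q.natDegree ≤ 1 := by
        rw [hq]
        refine le_trans (Polynomial.natDegree_add_le _ _) (max_le ?_ ?_)
        · rw [Polynomial.natDegree_C]; omega
        · have := Polynomial.natDegree_C_mul_X_pow_le (1 + Polynomial.C μ * Polynomial.X : A[X]) 1
          rwa [pow_one] at this
      have hd2 : (Polynomial.C F * Fh).natDegree ≤ p - 1 :=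
        le_trans (Polynomial.natDegree_C_mul_le _ _) hd1
      have hd3 : (Fh.comp q).natDegree ≤ p - 1 := by
        refine le_trans Polynomial.natDegree_comp_le ?_
        calc Fh.natDegree * q.natDegree ≤ (p - 1) * 1 := Nat.mul_le_mul hd1 hdq'
          _ = p - 1 := mul_one _
      have hd4 : Φ.natDegree ≤ p - 1 := by
        rw [hΦ]
        refine le_trans (Polynomial.natDegree_add_le _ _) (max_le ?_ ?_)
        · exact le_trans (Polynomial.natDegree_sub_le _ _) (max_le hd2 hd3)
        · rw [Polynomial.natDegree_C]; omega
      omega
    · -- constant term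
      rw [hΦ, Polynomial.coeff_zero_eq_eval_zero]
      simp only [Polynomial.eval_add, Polynomial.eval_sub, Polynomial.eval_mul, Polynomial.eval_C,
        Polynomial.eval_comp, heval_q]
      rw [hFh, heval_map, Polynomial.eval_map, Polynomial.eval₂_at_zero]
      ext r
      rcases Nat.eq_zero_or_pos r with rfl | hpos
      · simp only [Polynomial.coeff_add, Polynomial.coeff_sub, Polynomial.coeff_mul_C,
          Polynomial.coeff_C_zero]
        rw [← ha0]; simp; ring
      · have := h0r r hpos
        simp only [Polynomial.coeff_add, Polynomial.coeff_sub, Polynomial.coeff_mul_C,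
          Polynomial.coeff_C, if_neg (Nat.pos_iff_ne_zero.mp hpos), Polynomial.coeff_zero, add_zero]
        rw [← ha0]
        linear_combination this
    · -- the ODE for Φ
      have hodeW : Fh * Polynomial.C (Polynomial.C a1) =
          Polynomial.derivative Fh * (1 + Polynomial.C (Polynomial.C μ) * Polynomial.X) := by
        have := congrArg (Polynomial.map (Polynomial.C : A →+* A[X])) hode
        rw [Polynomial.map_mul, Polynomial.map_mul, Polynomial.map_C, Polynomial.map_add,
          Polynomial.map_mul, Polynomial.map_one, Polynomial.map_C, Polynomial.map_X] at this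
        rw [hdFh]; exact this
      have hodeQ : Fh.comp q * Polynomial.C (Polynomial.C a1) =
          (Polynomial.derivative Fh).comp q * (1 + Polynomial.C (Polynomial.C μ) * q) := by
        have := congrArg (fun w : A[X][X] => w.comp q) hodeW
        simp only [Polynomial.mul_comp, Polynomial.add_comp, Polynomial.C_comp, Polynomial.X_comp,
          Polynomial.one_comp] at this
        exact this
      have hfac : (1 + Polynomial.C (Polynomial.C μ) * q : A[X][X]) =
          Polynomial.C (1 + Polynomial.C μ * Polynomial.X) *
            (1 + Polynomial.C (Polynomial.C μ) * Polynomial.X) := by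
        rw [hq]
        simp only [map_add, map_mul, map_one]
        ring
      have hconst : (Polynomial.C (Polynomial.C (a0 - a0 ^ 2)) : A[X][X]) *
          Polynomial.C (Polynomial.C a1) = 0 := by
        rw [← Polynomial.C_mul, ← Polynomial.C_mul]
        have : (a0 - a0 ^ 2) * a1 = 0 := by linear_combination (-a0) * h01
        rw [this, map_zero, map_zero]
      have hder : Polynomial.derivative Φ = Polynomial.C F * Polynomial.derivative Fh -
          Polynomial.C (1 + Polynomial.C μ * Polynomial.X) * (Polynomial.derivative Fh).comp q := by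
        rw [hΦ]
        simp only [Polynomial.derivative_add, Polynomial.derivative_sub, Polynomial.derivative_C_mul,
          Polynomial.derivative_comp, Polynomial.derivative_C, add_zero, hdq]
      rw [hder, hΦ, add_mul, sub_mul, hconst, add_zero, mul_assoc, hodeW, hodeQ, hfac]
      ring

end Groth.Agent.S13156
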