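import Groth.Statements.S13158
import Mathlib

set_option autoImplicit false
universe u
open CAlg

namespace Groth.Agent.S13158
open Polynomial

theorem key_ineq (p n k : ℕ) (hp : p.Prime) (hn : 1 ≤ n) (hk0 : k ≠ 0) (hkn : k ≤ p ^ n) :
    p ^ n ≤ p ^ (n - 1) * (p - 1) * ((p ^ n).choose k).factorization p + k := by
  have he := Nat.factorization_choose_prime_pow_add_factorization hp hkn hk0
  have hjk : p ^ (k.factorization p) ≤ k :=
    Nat.le_of_dvd (Nat.pos_of_ne_zero hk0) (Nat.ordProj_dvd k p)
  generalize ((p ^ n).choose k).factorization p = e at he ⊢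
  generalize k.factorization p = j at he hjk
  obtain ⟨m, rfl⟩ : ∃ m, n = m + 1 := ⟨n - 1, by omega⟩
  simp only [Nat.add_sub_cancel]
  have hp2 := hp.two_le
  rcases Nat.lt_or_ge e 2 with h2 | h2
  · interval_cases e
    · have : j = m + 1 := by omega
      rw [this] at hjk; omega
    · have : j = m := by omega
      rw [this] at hjk
      have : p ^ (m + 1) = p ^ m * (p - 1) + p ^ m := by
        obtain ⟨q, rfl⟩ : ∃ q, p = q + 1 := ⟨p - 1, by omega⟩
        simp only [Nat.add_sub_cancel]; ring
      omega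
  · have h1 : p ^ m * (p - 1) * 2 ≤ p ^ m * (p - 1) * e := Nat.mul_le_mul_left _ h2
    have h3 : p ^ (m + 1) ≤ p ^ m * (p - 1) * 2 := by
      rw [pow_succ, mul_assoc]; apply Nat.mul_le_mul_left; omega
    omega

theorem dvd_choose (R : Type*) [CommRing R] (p n : ℕ) (hp : p.Prime) (hn : 1 ≤ n) (lam : R)
    (hstar : lam ^ (p ^ (n - 1) * (p - 1)) ∣ (p : R)) (k : ℕ) (hk0 : k ≠ 0) (hkn : k ≤ p ^ n) :
    lam ^ (p ^ n) ∣ lam ^ k * ((p ^ n).choose k : R) := by
  have hineq := key_ineq p n k hp hn hk0 hkn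
  obtain ⟨t, ht⟩ : (p : ℕ) ^ ((p ^ n).choose k).factorization p ∣ (p ^ n).choose k :=
    Nat.ordProj_dvd _ _
  obtain ⟨c, hc⟩ := hstar
  generalize ((p ^ n).choose k).factorization p = e at ht hineq
  have : ((p ^ n).choose k : R) = (lam ^ (p ^ (n - 1) * (p - 1))) ^ e * (c ^ e * t) := by
    rw [ht]
    push_cast
    rw [hc]; ring
  rw [this, ← pow_mul, ← mul_assoc, ← pow_add]
  exact Dvd.dvd.mul_right (pow_dvd_pow _ (by omega)) _


/-- Let R be a discrete valuation ring of characteristic zero whose maximal ideal contains the prime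
number p, let n ≥ 1, and let λ be a nonzero element of R such that λ^(p^(n−1)(p−1)) divides p (the
condition v(p) ≥ p^(n−1)(p−1)·v(λ) under which the polynomial ((1 + λT)^(p^n) − 1)/λ^(p^n) has
coefficients in R). Let A be an integrally closed integral domain which is a faithfully flat
R-algebra. Then for every unit x of A, λ^(p^n) divides x^(p^n) − 1 in A if and only if λ divides x −
1 in A. -/
theorem result (R : Type u) [CommRing R]
    [IsDomain R] [IsDiscreteValuationRing R] [CharZero R] (p n : ℕ) [Fact p.Prime] (hn : 1 ≤ n)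
    (hp : (p : R) ∈ IsLocalRing.maximalIdeal R) (lam : R) (hlam : lam ≠ 0)
    (hstar : lam ^ (p ^ (n - 1) * (p - 1)) ∣ (p : R))
    (A : Type u) [CommRing A] [IsDomain A] [IsIntegrallyClosed A] [Algebra R A] [Module.FaithfullyFlat R A]
    (x : Aˣ) :
    (algebraMap R A lam ^ p ^ n ∣ (x : A) ^ p ^ n - 1) ↔ (algebraMap R A lam ∣ (x : A) - 1) := by
  have hp' : p.Prime := Fact.out
  have hinj : Function.Injective (algebraMap R A) := FaithfulSMul.algebraMap_injective R A
  set Λ := algebraMap R A lam with hΛ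
  have hΛ0 : Λ ≠ 0 := by rw [hΛ]; exact (map_ne_zero_iff _ hinj).2 hlam
  have hstarA : Λ ^ (p ^ (n - 1) * (p - 1)) ∣ (p : A) := by
    have := map_dvd (algebraMap R A) hstar
    simpa using this
  have hdvd := fun k hk0 hkn => dvd_choose A p n hp' hn Λ hstarA k hk0 hkn
  set N := p ^ n with hN
  constructor
  · rintro ⟨a, ha⟩
    let K := FractionRing A
    let φ := algebraMap A K
    have hφinj : Function.Injective φ := IsFractionRing.injective A K
    have hφΛ : φ Λ ≠ 0 := (map_ne_zero_iff _ hφinj).2 hΛ0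
    set y : K := φ ((x : A) - 1) / φ Λ with hy
    have hxy : φ (x : A) = φ Λ * y + 1 := by
      rw [hy, mul_div_cancel₀ _ hφΛ, map_sub, map_one]; ring
    have hex : ∀ m, ∃ cm : A, m ≠ 0 → m ≤ N → Λ ^ m * (N.choose m : A) = Λ ^ N * cm := by
      intro m
      by_cases h : m ≠ 0 ∧ m ≤ N
      · obtain ⟨cm, hcm⟩ := hdvd m h.1 h.2
        exact ⟨cm, fun _ _ => hcm⟩
      · exact ⟨0, fun h1 h2 => absurd ⟨h1, h2⟩ h⟩
    choose c hc using hex
    set c' : ℕ → A := fun m => if m = 0 then -a else c m with hc'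
    have hN0 : N ≠ 0 := by rw [hN]; exact pow_ne_zero _ hp'.ne_zero
    have hcN : c' N = 1 := by
      have h1 := hc N hN0 le_rfl
      simp only [hc', if_neg hN0]
      rw [Nat.choose_self, Nat.cast_one, mul_one] at h1
      exact (mul_left_cancel₀ (pow_ne_zero N hΛ0) (by rw [← h1, mul_one])).symm
    set Q : A[X] := ∑ m ∈ Finset.range N, C (c' m) * X ^ m with hQ
    have hQdeg : Q.degree < N := by
      refine (Polynomial.degree_sum_le _ _).trans_lt ?_
      refine (Finset.sup_lt_iff (WithBot.bot_lt_coe N)).2 fun m hm => ?_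
      exact (degree_C_mul_X_pow_le m _).trans_lt (Nat.cast_lt.2 (Finset.mem_range.1 hm))
    have hmonic : (X ^ N + Q).Monic := monic_X_pow_add hQdeg
    -- evaluation
    let g : ℕ → K := fun m => (φ Λ * y) ^ m * (N.choose m : K)
    have hg : φ (x : A) ^ N = ∑ m ∈ Finset.range (N + 1), g m := by
      rw [hxy, add_pow]
      refine Finset.sum_congr rfl fun m _ => ?_
      simp only [g, one_pow, mul_one]
    have hterm : ∀ m, m ≤ N → φ Λ ^ N * (φ (c' m) * y ^ m) =
        g m - if m = 0 then φ (x : A) ^ N else 0 := by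
      intro m hm
      by_cases h0 : m = 0
      · subst h0
        simp only [hc', if_true, pow_zero, mul_one, g, Nat.choose_zero_right, Nat.cast_one]
        rw [← map_pow, ← map_mul, mul_neg, ← ha, map_neg, map_sub, map_one, map_pow]
        ring
      · simp only [hc', if_neg h0, sub_zero, g]
        rw [← mul_assoc, ← map_pow, ← map_mul, ← hc m h0 hm, map_mul, map_pow, map_natCast]
        ring
    have heval : Polynomial.eval₂ φ y (X ^ N + Q) = 0 := by
      have h1 : Polynomial.eval₂ φ y (X ^ N + Q) =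
          ∑ m ∈ Finset.range (N + 1), φ (c' m) * y ^ m := by
        rw [Finset.sum_range_succ, hcN, map_one, one_mul, add_comm, hQ, eval₂_add,
          eval₂_X_pow, eval₂_finsetSum]
        congr 1
        refine Finset.sum_congr rfl fun m _ => ?_
        rw [eval₂_mul, eval₂_C, eval₂_X_pow]
      have h2 : φ Λ ^ N * ∑ m ∈ Finset.range (N + 1), φ (c' m) * y ^ m = 0 := by
        rw [Finset.mul_sum]
        rw [Finset.sum_congr rfl fun m hm =>
          hterm m (Nat.lt_succ_iff.1 (Finset.mem_range.1 hm))]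
        rw [Finset.sum_sub_distrib, ← hg, Finset.sum_ite_eq' ]
        simp
      rw [h1]
      exact (mul_eq_zero.1 h2).resolve_left (pow_ne_zero N hφΛ)
    have hint : IsIntegral A y := ⟨X ^ N + Q, hmonic, heval⟩
    obtain ⟨z, hz⟩ := IsIntegrallyClosed.isIntegral_iff.1 hint
    refine ⟨z, hφinj ?_⟩
    change φ ((x : A) - 1) = φ (Λ * z)
    rw [map_mul]
    change _ = _ * φ z
    rw [hz, hy, mul_div_cancel₀ _ hφΛ]
  · rintro ⟨y, hy⟩
    have hx : (x : A) = Λ * y + 1 := by rw [← hy]; ring
    rw [hx, add_pow, Finset.sum_range_succ']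
    simp only [one_pow, mul_one, pow_zero, Nat.choose_zero_right, Nat.cast_one, add_sub_cancel_right]
    refine Finset.dvd_sum fun i hi => ?_
    have := hdvd (i + 1) (Nat.succ_ne_zero i) (Finset.mem_range.1 hi)
    rw [mul_pow, mul_right_comm]
    exact Dvd.dvd.mul_right this _

end Groth.Agent.S13158
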