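import Mathlib
import Groth.Agent.Lib.WittIsobaric27
import Groth.Statements.S13160

set_option autoImplicit false
universe u
open CAlg

namespace Groth.Agent.S13160

section Helpers

variable (p : ℕ) [hp : Fact p.Prime] {K : Type*} [CommRing K]

local notation "𝕎" => WittVector p

/-- decomposition `x = [x_0] + V(x')`. -/
theorem coeff_teich_add_versch (c : K) (z : 𝕎 K) :
    (WittVector.teichmuller p c + WittVector.verschiebung z).coeff 0 = c ∧
    ∀ n, (WittVector.teichmuller p c + WittVector.verschiebung z).coeff (n + 1) = z.coeff n := by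
  have hdisj : ∀ n, (WittVector.teichmuller p c).coeff n = 0 ∨
      (WittVector.verschiebung z).coeff n = 0 := by
    intro n
    rcases Nat.eq_zero_or_pos n with rfl | hn
    · right; exact WittVector.verschiebung_coeff_zero z
    · left; exact WittVector.teichmuller_coeff_pos p c n hn
  constructor
  · rw [WittVector.coeff_add_of_disjoint _ _ _ hdisj, WittVector.teichmuller_coeff_zero,
      WittVector.verschiebung_coeff_zero, add_zero]
  · intro n
    rw [WittVector.coeff_add_of_disjoint _ _ _ hdisj,
      WittVector.teichmuller_coeff_pos p c (n + 1) (Nat.succ_pos n),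
      WittVector.verschiebung_coeff_succ, zero_add]

theorem eq_teich_add_versch (x : 𝕎 K) :
    x = WittVector.teichmuller p (x.coeff 0) +
      WittVector.verschiebung (WittVector.mk p (fun i => x.coeff (i + 1))) := by
  obtain ⟨h0, hs⟩ := coeff_teich_add_versch p (x.coeff 0) (WittVector.mk p (fun i => x.coeff (i + 1)))
  ext n
  rcases n with _ | n
  · rw [h0]
  · rw [hs n, WittVector.coeff_mk]

/-- `[a] + [b] = [a + b]` when `a, b` lie in an ideal `I` with `I ^ p = ⊥`. -/
theorem teich_add (I : Ideal K) (hI : I ^ p = ⊥) (a b : K) (ha : a ∈ I) (hb : b ∈ I) :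
    WittVector.teichmuller p a + WittVector.teichmuller p b = WittVector.teichmuller p (a + b) := by
  ext n
  rcases Nat.eq_zero_or_pos n with rfl | hn
  · rw [WittVector.add_coeff_zero, WittVector.teichmuller_coeff_zero,
      WittVector.teichmuller_coeff_zero, WittVector.teichmuller_coeff_zero]
  · rw [WittVector.teichmuller_coeff_pos p _ n hn]
    let G : ℕ → AddSubgroup K := fun d => (I ^ d).toAddSubgroup
    have h1 : (1 : K) ∈ G 0 := by simp [G]
    have hmul : ∀ a b : ℕ, ∀ x ∈ G a, ∀ y ∈ G b, x * y ∈ G (a + b) := by
      intro a b x hx y hy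
      show x * y ∈ I ^ (a + b)
      rw [pow_add]
      exact Ideal.mul_mem_mul hx hy
    have hmem : ∀ c ∈ I, ∀ i, (WittVector.teichmuller p c).coeff i ∈ G (p ^ i • 1) := by
      intro c hc i
      rcases Nat.eq_zero_or_pos i with rfl | hi
      · rw [WittVector.teichmuller_coeff_zero]
        show c ∈ I ^ (p ^ 0 • 1)
        simpa using hc
      · rw [WittVector.teichmuller_coeff_pos p c i hi]
        exact zero_mem _
    have := Groth.Agent.Lib.WittIsobaric27.add_coeff_mem p G h1 hmul 1 _ _ (hmem a ha) (hmem b hb) n
    have hle : I ^ (p ^ n • 1) ≤ I ^ p := by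
      apply Ideal.pow_le_pow_right
      rw [smul_eq_mul, mul_one]
      calc p = p ^ 1 := (pow_one p).symm
        _ ≤ p ^ n := Nat.pow_le_pow_right hp.out.pos hn
    have h2 := hle this
    rw [hI] at h2
    exact h2

theorem add_coeff_of_mem (I : Ideal K) (hI : I ^ p = ⊥) (n : ℕ) :
    ∀ (x y : 𝕎 K), (∀ i, x.coeff i ∈ I) → (∀ i, y.coeff i ∈ I) →
      (x + y).coeff n = x.coeff n + y.coeff n := by
  induction n with
  | zero => intro x y _ _; exact WittVector.add_coeff_zero x y
  | succ n ih =>
    intro x y hx hy
    set x' : 𝕎 K := WittVector.mk p (fun i => x.coeff (i + 1)) with hx'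
    set y' : 𝕎 K := WittVector.mk p (fun i => y.coeff (i + 1)) with hy'
    have hsum : x + y = WittVector.teichmuller p (x.coeff 0 + y.coeff 0) +
        WittVector.verschiebung (x' + y') := by
      conv_lhs => rw [eq_teich_add_versch p x, eq_teich_add_versch p y]
      rw [← teich_add p I hI _ _ (hx 0) (hy 0), map_add]
      abel
    rw [hsum, (coeff_teich_add_versch p _ _).2 n, ih x' y' (fun i => by simpa [x'] using hx (i + 1))
      (fun i => by simpa [y'] using hy (i + 1))]
    simp [x', y']

end Helpers

/-- Let R be a discrete valuation ring, p a prime number and λ an element of R dividing p (so that R/λR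
is an 𝔽_p-algebra), and let a and b be p-typical Witt vectors with coefficients in R/λR which are
killed by the Frobenius endomorphism. Then the Witt sum a + b has components a_n + b_n for every n.
(The published statement allows an arbitrary λ ∈ R and is stated for Witt vectors with finitely many
nonzero components; this row assumes that λ divides p, so that p = 0 in R/λR, and allows all Witt
vectors.) -/
theorem result (R : Type u) [CommRing R] [IsDomain R]
    [IsDiscreteValuationRing R] (p : ℕ) [Fact p.Prime] (lam : R) (hlam : lam ∣ (p : R))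
    (a b : WittVector p (R ⧸ Ideal.span {lam})) (ha : WittVector.frobenius a = 0)
    (hb : WittVector.frobenius b = 0) (n : ℕ) : (a + b).coeff n = a.coeff n + b.coeff n := by
  have hp : p.Prime := Fact.out
  rcases subsingleton_or_nontrivial (R ⧸ Ideal.span {lam}) with hsub | hnt
  · exact Subsingleton.elim _ _
  -- characteristic p
  have hp0 : ((p : ℕ) : R ⧸ Ideal.span {lam}) = 0 := by
    rw [← map_natCast (Ideal.Quotient.mk (Ideal.span {lam})) p, Ideal.Quotient.eq_zero_iff_mem,
      Ideal.mem_span_singleton]
    exact hlam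
  have : CharP (R ⧸ Ideal.span {lam}) p := (CharP.charP_iff_prime_eq_zero hp).2 hp0
  -- the ideal J = {r | r ^ p ∈ (lam)}
  let J : Ideal R :=
    { carrier := {r | r ^ p ∈ Ideal.span {lam}}
      add_mem' := by
        intro r s hr hs
        simp only [Set.mem_ofPred_eq] at hr hs ⊢
        rcases ValuationRing.dvd_total r s with ⟨c, rfl⟩ | ⟨c, rfl⟩
        · have : (r + r * c) ^ p = r ^ p * (1 + c) ^ p := by
            rw [← mul_pow]; congr 1; ring
          rw [this]; exact Ideal.mul_mem_right _ _ hr
        · have : (s * c + s) ^ p = s ^ p * (c + 1) ^ p := by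
            rw [← mul_pow]; congr 1; ring
          rw [this]; exact Ideal.mul_mem_right _ _ hs
      zero_mem' := by
        simp only [Set.mem_ofPred_eq]
        rw [zero_pow hp.ne_zero]; exact zero_mem _
      smul_mem' := by
        intro c r hr
        simp only [Set.mem_ofPred_eq] at hr ⊢
        rw [smul_eq_mul, mul_pow]; exact Ideal.mul_mem_left _ _ hr }
  have hJp : J ^ p ≤ Ideal.span {lam} := by
    obtain ⟨g, hg⟩ := (IsPrincipalIdealRing.principal J).principal
    have hgJ : g ∈ J := by rw [hg]; exact Submodule.mem_span_singleton_self g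
    have hJ' : J = Ideal.span {g} := hg
    rw [hJ', Ideal.span_singleton_pow, Ideal.span_singleton_le_iff_mem]
    exact hgJ
  let I : Ideal (R ⧸ Ideal.span {lam}) := J.map (Ideal.Quotient.mk (Ideal.span {lam}))
  have hI : I ^ p = ⊥ := by
    rw [← Ideal.map_pow, eq_bot_iff]
    calc (J ^ p).map (Ideal.Quotient.mk (Ideal.span {lam}))
        ≤ (Ideal.span {lam}).map (Ideal.Quotient.mk (Ideal.span {lam})) := Ideal.map_mono hJp
      _ = ⊥ := Ideal.map_quotient_self _
  have hmem : ∀ x : R ⧸ Ideal.span {lam}, x ^ p = 0 → x ∈ I := by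
    intro x hx
    obtain ⟨r, rfl⟩ := Ideal.Quotient.mk_surjective x
    rw [← map_pow, Ideal.Quotient.eq_zero_iff_mem] at hx
    exact Ideal.mem_map_of_mem _ hx
  have hcoef : ∀ (x : WittVector p (R ⧸ Ideal.span {lam})), WittVector.frobenius x = 0 →
      ∀ i, x.coeff i ∈ I := by
    intro x hx i
    apply hmem
    rw [← WittVector.coeff_frobenius_charP, hx, WittVector.zero_coeff]
  exact add_coeff_of_mem p I hI n a b (hcoef a ha) (hcoef b hb)

end Groth.Agent.S13160
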