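import Groth.Statements.S13161
import Mathlib.LinearAlgebra.TensorProduct.Tower
import Mathlib.Algebra.Algebra.Bilinear

set_option autoImplicit false
universe u
open scoped TensorProduct
open CAlg

namespace Groth.Agent.S13161

section aux

set_option linter.unusedSectionVars false

variable {R : Type u} [CommRing R] [IsDomain R] {K : Type u} [Field K] [Algebra R K]
  [IsFractionRing R K] {A : Type u} [CommRing A] [Algebra R A]

variable (R K A) in
/-- `a ↦ a ⊗ 1`, `A`-linear. -/
noncomputable def iota : A →ₗ[A] A ⊗[R] K where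
  toFun a := a ⊗ₜ[R] (1 : K)
  map_add' a b := TensorProduct.add_tmul a b 1
  map_smul' c a := by
    simp only [RingHom.id_apply, smul_eq_mul]
    rw [TensorProduct.smul_tmul', smul_eq_mul]

theorem iota_apply (a : A) : iota R K A a = a ⊗ₜ[R] (1 : K) := rfl

theorem iota_injective (hA : ∀ a : A, a ≠ 0 → ∃ f : A →ₗ[R] R, f a ≠ 0) :
    Function.Injective (iota R K A) := by
  rw [← LinearMap.ker_eq_bot, LinearMap.ker_eq_bot']
  intro a ha
  by_contra hne
  obtain ⟨f, hf⟩ := hA a hne
  have h1 : (TensorProduct.lid R K) ((f.rTensor K) (iota R K A a)) = algebraMap R K (f a) := by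
    rw [iota_apply, LinearMap.rTensor_tmul, TensorProduct.lid_tmul, Algebra.smul_def, mul_one]
  rw [ha, map_zero, map_zero] at h1
  exact hf ((IsFractionRing.injective R K) (by rw [← h1, map_zero]))

/-- Clearing denominators in `A ⊗ K`. -/
theorem exists_clear (y : A ⊗[R] K) :
    ∃ s : R, s ≠ 0 ∧ ∃ a : A, (algebraMap R A s) • y = iota R K A a := by
  induction y using TensorProduct.induction_on with
  | zero => exact ⟨1, one_ne_zero, 0, by simp⟩
  | tmul a k =>
    obtain ⟨r, s, hs, rfl⟩ := IsFractionRing.div_surjective (A := R) k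
    have hs0 : s ≠ 0 := nonZeroDivisors.ne_zero hs
    have hsK : algebraMap R K s ≠ 0 := by
      intro h
      exact hs0 ((IsFractionRing.injective R K) (by rw [h, map_zero]))
    refine ⟨s, hs0, r • a, ?_⟩
    rw [iota_apply, TensorProduct.smul_tmul', smul_eq_mul, ← Algebra.smul_def,
      TensorProduct.smul_tmul, TensorProduct.smul_tmul]
    congr 1
    rw [Algebra.smul_def, Algebra.smul_def, mul_one, mul_div_cancel₀ _ hsK]
  | add y₁ y₂ h₁ h₂ =>
    obtain ⟨s₁, hs₁, a₁, e₁⟩ := h₁
    obtain ⟨s₂, hs₂, a₂, e₂⟩ := h₂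
    refine ⟨s₁ * s₂, mul_ne_zero hs₁ hs₂, algebraMap R A s₂ • a₁ + algebraMap R A s₁ • a₂, ?_⟩
    rw [smul_add, map_mul, map_add, map_smul, map_smul, ← e₁, ← e₂, smul_smul, smul_smul,
      mul_comm (algebraMap R A s₂)]

/-- Multiplication by a nonzero `s` on `A ⊗ K` is injective. -/
theorem smul_ne_zero_of_ne_zero (s : R) (hs : s ≠ 0) (y : A ⊗[R] K) (hy : y ≠ 0) :
    (algebraMap R A s) • y ≠ 0 := by
  have hsK : algebraMap R K s ≠ 0 := by
    intro h
    exact hs ((IsFractionRing.injective R K) (by rw [h, map_zero]))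
  let μ : A ⊗[R] K →ₗ[R] A ⊗[R] K := LinearMap.lTensor A (LinearMap.mulLeft R ((algebraMap R K s)⁻¹))
  have hμ : ∀ z : A ⊗[R] K, μ ((algebraMap R A s) • z) = z := by
    intro z
    induction z using TensorProduct.induction_on with
    | zero => simp
    | tmul a k =>
      rw [TensorProduct.smul_tmul', smul_eq_mul, ← Algebra.smul_def, LinearMap.lTensor_tmul,
        LinearMap.mulLeft_apply, TensorProduct.smul_tmul]
      congr 1
      rw [Algebra.smul_def, ← mul_assoc, mul_inv_cancel₀ hsK, one_mul]
    | add z₁ z₂ h₁ h₂ => rw [smul_add, map_add, h₁, h₂]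
  intro h
  apply hy
  rw [← hμ y, h, map_zero]

end aux

/-- Let R be a discrete valuation ring with fraction field K, A an R-algebra which is semireflexive as
an R-module (the map to its double dual is injective: every nonzero a ∈ A has an R-linear form f : A
→ R with f(a) ≠ 0), and B an A-algebra which is finitely generated as an A-module and flat over R.
Suppose B ⊗ K is semireflexive as a module over A ⊗ K, which for such B amounts to: every nonzero b
∈ B has an A-linear map g : B → A ⊗_R K with g(b) ≠ 0. Then B is semireflexive as an R-module: every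
nonzero b ∈ B has an R-linear form h : B → R with h(b) ≠ 0. (The published statement phrases the
hypothesis on B_K as an A_K-module; for B flat over R and finite over A this is the elementwise
condition used here.) -/
theorem result (R : Type u) [CommRing R] [IsDomain R]
    [IsDiscreteValuationRing R] (K : Type u) [Field K] [Algebra R K] [IsFractionRing R K]
    (A B : Type u) [CommRing A] [CommRing B] [Algebra R A] [Algebra R B] [Algebra A B] [IsScalarTower R A B]
    [Module.Finite A B] [Module.Flat R B]
    (hA : ∀ a : A, a ≠ 0 → ∃ f : A →ₗ[R] R, f a ≠ 0)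
    (hBK : ∀ b : B, b ≠ 0 → ∃ g : B →ₗ[A] A ⊗[R] K, g b ≠ 0) :
    ∀ b : B, b ≠ 0 → ∃ h : B →ₗ[R] R, h b ≠ 0 := by
  classical
  intro b hb
  obtain ⟨g, hg⟩ := hBK b hb
  have hι := iota_injective (R := R) (K := K) (A := A) hA
  obtain ⟨T, hT⟩ := (Module.finite_def.mp (inferInstance : Module.Finite A B))
  -- common denominator
  have hden : ∃ s : R, s ≠ 0 ∧ ∀ t ∈ T, (algebraMap R A s) • g t ∈ LinearMap.range (iota R K A) := by
    clear hT
    induction T using Finset.induction_on with
    | empty => exact ⟨1, one_ne_zero, by simp⟩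
    | insert t T ht ih =>
      obtain ⟨s, hs, hsT⟩ := ih
      obtain ⟨s', hs', a, ha⟩ := exists_clear (R := R) (K := K) (g t)
      refine ⟨s * s', mul_ne_zero hs hs', ?_⟩
      intro t' ht'
      rcases Finset.mem_insert.mp ht' with rfl | ht'
      · rw [map_mul, mul_smul, ha]
        exact ⟨algebraMap R A s • a, by rw [map_smul]⟩
      · obtain ⟨a', ha'⟩ := hsT t' ht'
        rw [map_mul, mul_comm, mul_smul, ← ha']
        exact ⟨algebraMap R A s' • a', by rw [map_smul]⟩
  obtain ⟨s, hs, hsT⟩ := hden
  have hall : ∀ b' : B, ((algebraMap R A s) • g) b' ∈ LinearMap.range (iota R K A) := by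
    intro b'
    have hb' : b' ∈ Submodule.span A (T : Set B) := by rw [hT]; trivial
    induction hb' using Submodule.span_induction with
    | mem x hx => exact hsT x hx
    | zero => simp
    | add x y _ _ hx hy =>
      rw [map_add]
      exact Submodule.add_mem _ hx hy
    | smul c x _ hx =>
      rw [map_smul]
      exact Submodule.smul_mem _ c hx
  let g₁ : B →ₗ[A] LinearMap.range (iota R K A) :=
    LinearMap.codRestrict (LinearMap.range (iota R K A)) ((algebraMap R A s) • g) hall
  let e : A ≃ₗ[A] LinearMap.range (iota R K A) := LinearEquiv.ofInjective (iota R K A) hι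
  let g' : B →ₗ[A] A := (e.symm : LinearMap.range (iota R K A) →ₗ[A] A) ∘ₗ g₁
  have hg' : iota R K A (g' b) = (algebraMap R A s) • g b := by
    have h1 : e (g' b) = g₁ b := by simp [g']
    have h2 := congrArg Subtype.val h1
    exact h2
  have hne : g' b ≠ 0 := by
    intro h0
    rw [h0, map_zero] at hg'
    exact smul_ne_zero_of_ne_zero (R := R) (K := K) s hs (g b) hg hg'.symm
  obtain ⟨f, hf⟩ := hA (g' b) hne
  exact ⟨f ∘ₗ (g'.restrictScalars R), hf⟩

end Groth.Agent.S13161
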