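import Groth.Statements.S13162
import Mathlib.RingTheory.Invariant.Basic
import Mathlib.Data.Nat.Choose.Lucas
import Mathlib.Data.Nat.Factorization.Basic

set_option autoImplicit false
universe u v
open ZeroCyc

namespace Groth.Agent.S13162

/-- `p ∤ choose (p^k * m) (p^k)` when `p ∤ m`. -/
theorem not_dvd_choose (p : ℕ) [Fact p.Prime] (k m : ℕ) (hm : ¬ p ∣ m) :
    ¬ p ∣ Nat.choose (p ^ k * m) (p ^ k) := by
  have key : ∀ k : ℕ, (Nat.choose (p ^ k * m) (p ^ k) : ℤ) ≡ (m : ℤ) [ZMOD p] := by
    intro k
    induction k with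
    | zero => simp [Int.ModEq.refl]
    | succ k ih =>
      have h1 : p ^ (k + 1) * m = p * (p ^ k * m) := by ring
      have h2 : p ^ (k + 1) = p * p ^ k := by ring
      rw [h1, h2]
      exact (Choose.choose_mul_mul_modEq_choose).trans ih
  intro hdvd
  apply hm
  have h3 : ((Nat.choose (p ^ k * m) (p ^ k) : ℕ) : ℤ) ≡ 0 [ZMOD p] := by
    rw [Int.modEq_zero_iff_dvd]
    exact_mod_cast hdvd
  have h4 : (m : ℤ) ≡ 0 [ZMOD p] := (key k).symm.trans h3
  rw [Int.modEq_zero_iff_dvd] at h4
  exact_mod_cast h4

/-- Let a finite group G act on a commutative ring A by ring automorphisms and let p be a prime such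
that every integer prime to p is a unit in A. If I is an ideal of A and f ∈ A has G-invariant class
modulo I, then f^(p^k) is congruent modulo I to a G-invariant element of A, where p^k is the exact
power of p dividing the order of G. (The published statement assumes I stable under G, so that G
acts on A/I and the claim reads: the p^k-th power of an invariant of A/I lies in the image of the
invariants of A; the form here asks only that the class of f be invariant.) -/
theorem result {A : Type u} [CommRing A] {G : Type v} [Group G] [Fintype G]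
    [MulSemiringAction G A] (p : ℕ) [Fact p.Prime]
    (hA : ∀ m : ℕ, ¬ p ∣ m → IsUnit (m : A))
    (I : Ideal A) (f : A) (hf : ∀ g : G, g • f - f ∈ I) :
    ∃ a : A, (∀ g : G, g • a = a) ∧ a - f ^ (p ^ (Fintype.card G).factorization p) ∈ I := by
  classical
  have hp : p.Prime := Fact.out
  set n := Fintype.card G with hn
  have hn0 : n ≠ 0 := Fintype.card_ne_zero
  set q := p ^ n.factorization p with hq
  set m := n / q with hm
  have hqm : q * m = n := Nat.ordProj_mul_ordCompl_eq_self n p
  have hpm : ¬ p ∣ m := Nat.not_dvd_ordCompl hp hn0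
  have hqn : q ≤ n := by
    rw [← hqm]
    exact Nat.le_mul_of_pos_right q (Nat.pos_of_ne_zero (fun h => hpm (h ▸ dvd_zero p)))
  set c := Nat.choose n q with hc
  have hpc : ¬ p ∣ c := by
    rw [hc, ← hqm]
    exact not_dvd_choose p _ m hpm
  obtain ⟨w, hw⟩ := (hA c hpc).exists_right_inv
  -- w is invariant
  have hcinv : ∀ g : G, g • (c : A) = (c : A) := fun g =>
    map_natCast (MulSemiringAction.toRingHom G A g) c
  have hwinv : ∀ g : G, g • w = w := by
    intro g
    have h1 : (c : A) * (g • w) = 1 := by
      have := congrArg (fun x => g • x) hw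
      simp only [smul_mul', smul_one, hcinv] at this
      exact this
    calc g • w = (g • w) * ((c : A) * w) := by rw [hw, mul_one]
      _ = ((c : A) * (g • w)) * w := by ring
      _ = w := by rw [h1, one_mul]
  set Q := MulSemiringAction.charpoly G f with hQ
  set e := Q.coeff (n - q) with he
  have heinv : ∀ g : G, g • e = e := fun g => MulSemiringAction.smul_coeff_charpoly f (n - q) g
  -- reduction mod I
  have hmap : Q.map (Ideal.Quotient.mk I) = (Polynomial.X + Polynomial.C (-(Ideal.Quotient.mk I f))) ^ n := by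
    rw [hQ, MulSemiringAction.charpoly_eq, Polynomial.map_prod]
    have : ∀ g : G, (Polynomial.X - Polynomial.C (g • f)).map (Ideal.Quotient.mk I)
        = Polynomial.X + Polynomial.C (-(Ideal.Quotient.mk I f)) := by
      intro g
      have hg : Ideal.Quotient.mk I (g • f) = Ideal.Quotient.mk I f :=
        Ideal.Quotient.eq.mpr (hf g)
      simp [hg, sub_eq_add_neg]
    simp only [this, Finset.prod_const, Finset.card_univ, hn]
  have hemk : Ideal.Quotient.mk I e = (-(Ideal.Quotient.mk I f)) ^ q * ((c : ℕ) : A ⧸ I) := by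
    have h1 : (Q.map (Ideal.Quotient.mk I)).coeff (n - q) = Ideal.Quotient.mk I e := by
      rw [Polynomial.coeff_map]
    rw [← h1, hmap, Polynomial.coeff_X_add_C_pow]
    have h2 : n - (n - q) = q := Nat.sub_sub_self hqn
    rw [h2, Nat.choose_symm hqn]
  refine ⟨(-1) ^ q * w * e, ?_, ?_⟩
  · intro g
    rw [smul_mul', smul_mul', heinv, hwinv, smul_pow', smul_neg, smul_one]
  · rw [← Ideal.Quotient.eq]
    have hw' : ((c : ℕ) : A ⧸ I) * Ideal.Quotient.mk I w = 1 := by
      have := congrArg (Ideal.Quotient.mk I) hw
      simpa using this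
    rw [map_mul, map_mul, hemk, map_pow, map_neg, map_one, map_pow]
    calc (-1 : A ⧸ I) ^ q * Ideal.Quotient.mk I w * ((-(Ideal.Quotient.mk I f)) ^ q * ((c : ℕ) : A ⧸ I))
        = ((-1 : A ⧸ I) ^ q * (-1) ^ q) * (Ideal.Quotient.mk I f) ^ q
            * (((c : ℕ) : A ⧸ I) * Ideal.Quotient.mk I w) := by
          rw [neg_pow (Ideal.Quotient.mk I f)]; ring
      _ = (Ideal.Quotient.mk I f) ^ q := by
          rw [hw', mul_one, ← mul_pow]; simp

end Groth.Agent.S13162
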