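import Groth.Statements.S13163
-- import your own Groth.Agent.* helpers here

set_option autoImplicit false
universe u
open ZeroCyc

namespace Groth.Agent.S13163

open Polynomial in
/-- Let P_d(T) = ∏_{0 ≤ i < j ≤ d} (T^i − T^j) − 1 ∈ ℤ[T]. Every residue field of ℤ[T]/(P_d), i.e. every
field receiving a ring homomorphism from it, has at least d + 1 elements. -/
theorem result (d : ℕ) (k : Type u) [Field k]
    (φ : (ℤ[X] ⧸ Ideal.span {(∏ j ∈ Finset.range (d + 1), ∏ i ∈ Finset.range j,
        ((X : ℤ[X]) ^ i - X ^ j)) - 1}) →+* k) :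
    ((d + 1 : ℕ) : Cardinal) ≤ Cardinal.mk k := by
  classical
  set P : ℤ[X] := (∏ j ∈ Finset.range (d + 1), ∏ i ∈ Finset.range j,
        ((X : ℤ[X]) ^ i - X ^ j)) with hP
  let ψ : ℤ[X] →+* k := φ.comp (Ideal.Quotient.mk _)
  set t : k := ψ X with ht
  have h1 : ψ (P - 1) = 0 := by
    change φ (Ideal.Quotient.mk _ (P - 1)) = 0
    rw [Ideal.Quotient.eq_zero_iff_mem.mpr (Ideal.mem_span_singleton_self _), map_zero]
  have h2 : ∏ j ∈ Finset.range (d + 1), ∏ i ∈ Finset.range j, (t ^ i - t ^ j) = 1 := by
    have : ψ P = 1 := by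
      have := h1
      rw [map_sub, map_one, sub_eq_zero] at this
      exact this
    rw [hP] at this
    simpa [map_prod, map_sub, map_pow] using this
  have hinj : Function.Injective (fun i : Fin (d + 1) => t ^ (i : ℕ)) := by
    intro a b hab
    by_contra hne
    have hne' : (a : ℕ) ≠ b := fun h => hne (Fin.ext h)
    -- one of the factors vanishes
    have hzero : ∏ j ∈ Finset.range (d + 1), ∏ i ∈ Finset.range j, (t ^ i - t ^ j) = 0 := by
      rcases lt_or_gt_of_ne hne' with hlt | hgt
      · apply Finset.prod_eq_zero (Finset.mem_range.mpr b.2)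
        apply Finset.prod_eq_zero (Finset.mem_range.mpr hlt)
        exact sub_eq_zero.mpr hab
      · apply Finset.prod_eq_zero (Finset.mem_range.mpr a.2)
        apply Finset.prod_eq_zero (Finset.mem_range.mpr hgt)
        exact sub_eq_zero.mpr hab.symm
    rw [h2] at hzero
    exact one_ne_zero hzero
  have := Cardinal.lift_mk_le_lift_mk_of_injective hinj
  simpa using this

end Groth.Agent.S13163
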