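import Groth.Statements.S13166
import Mathlib.Data.Sym.Card
import Mathlib.Algebra.Algebra.Subalgebra.Lattice
import Mathlib.SetTheory.Cardinal.Finite

set_option autoImplicit false
universe u
open ZeroCyc

namespace Groth.Agent.S13166

/-- Sharp covering lemma: `n` proper subspaces do not cover a vector space over a field with at
least `n` elements. -/
theorem exists_not_mem_of_card_le {K V ι : Type*} [Field K] [AddCommGroup V] [Module K V]
    [DecidableEq ι] (s : Finset ι) (p : ι → Submodule K V) (h₁ : ∀ i ∈ s, p i ≠ ⊤)
    (h₂ : Nonempty (Fin s.card ↪ K)) : ∃ v, ∀ i ∈ s, v ∉ p i := by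
  induction s using Finset.induction_on with
  | empty => exact ⟨0, by simp⟩
  | insert j s hj ih =>
    obtain ⟨emb⟩ := h₂
    rw [Finset.card_insert_of_notMem hj] at emb
    obtain ⟨v₀, hv₀⟩ := ih (fun i hi => h₁ i (Finset.mem_insert_of_mem hi))
      ⟨(Fin.castSuccEmb).trans emb⟩
    by_cases hvj : v₀ ∈ p j
    · -- choose y outside p j
      obtain ⟨y, hy⟩ : ∃ y, y ∉ p j := by
        by_contra hcon
        push Not at hcon
        exact h₁ j (Finset.mem_insert_self j s) (eq_top_iff.mpr fun x _ => hcon x)
      -- the points y + t • v₀
      have hwj : ∀ t : K, y + t • v₀ ∉ p j := by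
        intro t ht
        apply hy
        have := (p j).sub_mem ht ((p j).smul_mem t hvj)
        simpa using this
      by_contra hcon
      push Not at hcon
      -- every t is bad for some i ∈ s
      have hbad : ∀ t : K, ∃ i ∈ s, y + t • v₀ ∈ p i := by
        intro t
        obtain ⟨i, hi, hmem⟩ := hcon (y + t • v₀)
        rcases Finset.mem_insert.mp hi with rfl | hi
        · exact absurd hmem (hwj t)
        · exact ⟨i, hi, hmem⟩
      choose φ hφs hφ using hbad
      have hφinj : Function.Injective (fun t : K => (⟨φ t, hφs t⟩ : s)) := by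
        intro t t' htt
        have hi : φ t = φ t' := congrArg Subtype.val htt
        by_contra hne
        have h1 : y + t • v₀ ∈ p (φ t) := hφ t
        have h2 : y + t' • v₀ ∈ p (φ t) := hi ▸ hφ t'
        have h3 : (t - t') • v₀ ∈ p (φ t) := by
          have := (p (φ t)).sub_mem h1 h2
          rw [sub_smul]
          convert this using 1
          abel
        have h4 : v₀ ∈ p (φ t) := by
          have := (p (φ t)).smul_mem (t - t')⁻¹ h3
          rwa [smul_smul, inv_mul_cancel₀ (sub_ne_zero.mpr hne), one_smul] at this
        exact hv₀ (φ t) (hφs t) h4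
      have : Finite K := Finite.of_injective _ hφinj
      letI : Fintype K := Fintype.ofFinite K
      have c1 : Fintype.card (Fin (s.card + 1)) ≤ Fintype.card K :=
        Fintype.card_le_of_injective _ emb.injective
      have c2 : Fintype.card K ≤ Fintype.card s := Fintype.card_le_of_injective _ hφinj
      simp at c1 c2
      omega
    · refine ⟨v₀, fun i hi => ?_⟩
      rcases Finset.mem_insert.mp hi with rfl | hi
      · exact hvj
      · exact hv₀ i hi

/-- Let k be a field, B a k-algebra generated as an algebra by a k-subspace V, k'/k a field extension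
and x_1, …, x_d pairwise distinct k'-points of B ⊗_k k' (equivalently, distinct k-algebra
homomorphisms B → k'). If k has at least d(d − 1)/2 elements, then there is b ∈ V whose values at
x_1, …, x_d are pairwise distinct. -/
theorem result {k : Type u} [Field k] {B : Type u} [CommRing B] [Algebra k B] (V : Submodule k B)
    (hV : Algebra.adjoin k (V : Set B) = ⊤) {k' : Type u} [Field k'] [Algebra k k']
    {d : ℕ} (x : Fin d → (B →ₐ[k] k')) (hx : Function.Injective x)
    (hk : ((d.choose 2 : ℕ) : Cardinal) ≤ Cardinal.mk k) :
    ∃ b ∈ V, Function.Injective fun i => x i b := by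
  classical
  -- the subspaces of `V` where two points agree
  let H : Fin d → Fin d → Submodule k V := fun i j =>
    LinearMap.ker (((x i).toLinearMap - (x j).toLinearMap).domRestrict V)
  have hHsymm : ∀ i j, H i j = H j i := by
    intro i j
    ext v
    simp only [H, LinearMap.mem_ker, LinearMap.domRestrict_apply, LinearMap.sub_apply,
      AlgHom.toLinearMap_apply, sub_eq_zero]
    exact eq_comm
  let p : Sym2 (Fin d) → Submodule k V := Sym2.lift ⟨H, hHsymm⟩
  let s : Finset (Sym2 (Fin d)) := Finset.univ.filter (fun z => ¬ z.IsDiag)
  have hs_card : s.card = d.choose 2 := by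
    have := Sym2.card_subtype_not_diag (α := Fin d)
    rw [Fintype.card_subtype] at this
    simpa [s] using this
  have h₁ : ∀ z ∈ s, p z ≠ ⊤ := by
    intro z hz
    induction z using Sym2.ind with
    | _ i j =>
      have hij : i ≠ j := by
        simpa [s, Sym2.mk_isDiag_iff] using hz
      intro htop
      apply hij
      apply hx
      apply AlgHom.ext_of_adjoin_eq_top hV
      intro v hv
      have hmem : (⟨v, hv⟩ : V) ∈ p s(i, j) := by rw [htop]; trivial
      simp only [p, Sym2.lift_mk, H, LinearMap.mem_ker, LinearMap.domRestrict_apply,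
        LinearMap.sub_apply, AlgHom.toLinearMap_apply, sub_eq_zero] at hmem
      exact hmem
  have h₂ : Nonempty (Fin s.card ↪ k) := by
    rw [hs_card]
    apply Cardinal.lift_mk_le'.mp
    simpa using hk
  obtain ⟨v, hv⟩ := exists_not_mem_of_card_le s p h₁ h₂
  refine ⟨v.1, v.2, ?_⟩
  intro i j hij
  by_contra hne
  have hz : s(i, j) ∈ s := by
    simpa [s, Sym2.mk_isDiag_iff] using hne
  apply hv _ hz
  simp only [p, Sym2.lift_mk, H, LinearMap.mem_ker, LinearMap.domRestrict_apply,
    LinearMap.sub_apply, AlgHom.toLinearMap_apply, sub_eq_zero]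
  exact hij

end Groth.Agent.S13166
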