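import Groth.Statements.S13167
import Groth.Agent.Lib.GradedGen
import Mathlib.RingTheory.Localization.Cardinality

set_option autoImplicit false
universe u
open AlgebraicGeometry
open ZeroCyc

namespace Groth.Agent.S13167

/-- `d` elements of `R` pairwise distinct modulo `p`, when the residue field has `≥ d` elements. -/
theorem exists_distinct_mod {R : Type u} [CommRing R] (p : Ideal R) [p.IsPrime] (d : ℕ)
    (hcard : (d : Cardinal) ≤ Cardinal.mk p.ResidueField) :
    ∃ t : Fin d → R, ∀ a b, t a - t b ∈ p → a = b := by
  have h1 : Cardinal.mk p.ResidueField = Cardinal.mk (R ⧸ p) :=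
    IsFractionRing.cardinalMk (R ⧸ p) p.ResidueField
  rw [h1] at hcard
  have h2 : Nonempty (Fin d ↪ (R ⧸ p)) := by
    apply Cardinal.lift_mk_le'.mp
    simpa using hcard
  obtain ⟨emb⟩ := h2
  choose t ht using fun a => Ideal.Quotient.mk_surjective (emb a)
  refine ⟨t, fun a b hab => ?_⟩
  apply emb.injective
  rw [← ht a, ← ht b]
  exact Ideal.Quotient.eq.mpr hab

/-- Let B be a graded R-algebra generated by its degree-one part B_1, with B_1 a finitely generated
R-module, and let x_1, …, x_d be points of X = Proj B lying over one and the same prime p of R. If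
the residue field of p has at least d elements, then some f ∈ B_1 ⊆ Γ(X, O_X(1)) has all the x_i in
D_+(f). (Without the hypothesis on the residue field such an f exists in some B_n with n ≥ 1; that
first assertion is a known property of ample sheaves and is not restated here.) -/
theorem result {R A : Type u} [CommRing R] [CommRing A] [Algebra R A] (𝒜 : ℕ → Submodule R A) [GradedAlgebra 𝒜]
    (hgen : Algebra.adjoin R (𝒜 1 : Set A) = ⊤) (hfg : (𝒜 1).FG)
    (p : Ideal R) [p.IsPrime] {d : ℕ} (x : Fin d → Proj 𝒜)
    (hx : ∀ i, ((x i).asHomogeneousIdeal.toIdeal).comap (algebraMap R A) = p)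
    (hcard : (d : Cardinal) ≤ Cardinal.mk p.ResidueField) :
    ∃ g ∈ 𝒜 1, ∀ i, x i ∈ Proj.basicOpen 𝒜 g := by
  classical
  -- the irrelevant ideal is spanned by degree one
  have hgen0 : Algebra.adjoin (𝒜 0) (𝒜 1 : Set A) = ⊤ := by
    rw [eq_top_iff]
    intro a ha0
    clear ha0
    have ha : a ∈ Algebra.adjoin R (𝒜 1 : Set A) := by rw [hgen]; trivial
    induction ha using Algebra.adjoin_induction with
    | mem x hx => exact Algebra.subset_adjoin hx
    | algebraMap r =>
      have : algebraMap R A r = algebraMap (𝒜 0) A (algebraMap R (𝒜 0) r) := rfl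
      rw [this]
      exact Subalgebra.algebraMap_mem _ _
    | add x y _ _ hx hy => exact add_mem hx hy
    | mul x y _ _ hx hy => exact mul_mem hx hy
  have hirr : (HomogeneousIdeal.irrelevant 𝒜).toIdeal = Ideal.span (𝒜 1 : Set A) :=
    Groth.Agent.Lib.GradedGen.irrelevant_eq_span_of_adjoin_eq_top 𝒜 (𝒜 1 : Set A)
      (fun e he => ⟨1, Nat.one_pos, he⟩) hgen0
  -- each point misses some degree one element
  have hmiss : ∀ i, ∃ h ∈ 𝒜 1, h ∉ (x i).asHomogeneousIdeal := by
    intro i
    by_contra hcon
    push Not at hcon
    apply (x i).not_irrelevant_le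
    intro a ha
    have ha' : a ∈ (HomogeneousIdeal.irrelevant 𝒜).toIdeal := ha
    rw [hirr] at ha'
    have hle : Ideal.span (𝒜 1 : Set A) ≤ (x i).asHomogeneousIdeal.toIdeal :=
      Ideal.span_le.mpr fun b hb => hcon b hb
    exact hle ha'
  choose h hh1 hhx using hmiss
  obtain ⟨t, ht⟩ := exists_distinct_mod p d hcard
  -- main induction over finite sets of points
  have main : ∀ S : Finset (Fin d), ∃ g ∈ 𝒜 1, ∀ i ∈ S, g ∉ (x i).asHomogeneousIdeal := by
    intro S
    induction S using Finset.induction_on with
    | empty => exact ⟨0, zero_mem _, by simp⟩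
    | insert j S hj ih =>
      obtain ⟨g, hg1, hg⟩ := ih
      by_cases hgj : g ∈ (x j).asHomogeneousIdeal
      · -- candidates h j + t a • g
        have hcand1 : ∀ a : Fin d, h j + t a • g ∈ 𝒜 1 := fun a =>
          add_mem (hh1 j) (Submodule.smul_mem _ _ hg1)
        have hcandj : ∀ a : Fin d, h j + t a • g ∉ (x j).asHomogeneousIdeal := by
          intro a hmem
          apply hhx j
          have h2 : t a • g ∈ (x j).asHomogeneousIdeal.toIdeal := by
            rw [Algebra.smul_def]
            exact Ideal.mul_mem_left _ _ hgj
          have := (x j).asHomogeneousIdeal.toIdeal.sub_mem hmem h2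
          simpa using this
        by_contra hcon
        push Not at hcon
        have hbad : ∀ a : Fin d, ∃ i ∈ S, h j + t a • g ∈ (x i).asHomogeneousIdeal := by
          intro a
          obtain ⟨i, hi, hmem⟩ := hcon (h j + t a • g) (hcand1 a)
          rcases Finset.mem_insert.mp hi with rfl | hi
          · exact absurd hmem (hcandj a)
          · exact ⟨i, hi, hmem⟩
        choose φ hφS hφ using hbad
        have hφinj : Function.Injective (fun a : Fin d => (⟨φ a, hφS a⟩ : S)) := by
          intro a b hab
          have hi : φ a = φ b := congrArg Subtype.val hab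
          apply ht
          have h1 : h j + t a • g ∈ (x (φ a)).asHomogeneousIdeal.toIdeal := hφ a
          have h2 : h j + t b • g ∈ (x (φ a)).asHomogeneousIdeal.toIdeal := hi ▸ hφ b
          have h3 : algebraMap R A (t a - t b) * g ∈ (x (φ a)).asHomogeneousIdeal.toIdeal := by
            have := (x (φ a)).asHomogeneousIdeal.toIdeal.sub_mem h1 h2
            rw [← Algebra.smul_def, sub_smul]
            convert this using 1
            abel
          have hprime : (x (φ a)).asHomogeneousIdeal.toIdeal.IsPrime := (x (φ a)).isPrime
          rcases hprime.mem_or_mem h3 with h4 | h4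
          · rw [← hx (φ a)]
            exact h4
          · exact absurd h4 (hg (φ a) (hφS a))
        have c1 := Fintype.card_le_of_injective _ hφinj
        have c2 : (insert j S).card ≤ Fintype.card (Fin d) := Finset.card_le_univ _
        rw [Finset.card_insert_of_notMem hj] at c2
        simp at c1 c2
        omega
      · refine ⟨g, hg1, fun i hi => ?_⟩
        rcases Finset.mem_insert.mp hi with rfl | hi
        · exact hgj
        · exact hg i hi
  obtain ⟨g, hg1, hg⟩ := main Finset.univ
  exact ⟨g, hg1, fun i => (Proj.mem_basicOpen 𝒜 g (x i)).mpr (hg i (Finset.mem_univ i))⟩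

end Groth.Agent.S13167
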