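import Groth.Statements.S13168
import Groth.Agent.Lib.GradedMonomial
import Groth.Agent.Lib.GradedGen

set_option autoImplicit false
universe u
open AlgebraicGeometry
open ZeroCyc

namespace Groth.Agent.S13168

/-- Let B be a graded R-algebra generated by homogeneous elements f_1, …, f_s of positive degrees d_1,
…, d_s, let l be the least common multiple of the d_i and X = Proj B. For n = a l with a ≥ 1, X is
the union of the opens D_+(g), g ∈ B_n. -/
theorem result {R A : Type u} [CommRing R] [CommRing A] [Algebra R A] (𝒜 : ℕ → Submodule R A) [GradedAlgebra 𝒜]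
    {s : ℕ} (f : Fin s → A) (deg : Fin s → ℕ) (hdeg : ∀ i, 0 < deg i) (hf : ∀ i, f i ∈ 𝒜 (deg i))
    (hgen : Algebra.adjoin R (Set.range f) = ⊤) (a : ℕ) (ha : 0 < a) :
    (⨆ g : 𝒜 (a * Finset.univ.lcm deg), Proj.basicOpen 𝒜 (g : A)) = ⊤ := by
  classical
  have hgen0 : Algebra.adjoin (𝒜 0) (Set.range f) = ⊤ := by
    rw [eq_top_iff]
    intro b hb0
    clear hb0
    have hb : b ∈ Algebra.adjoin R (Set.range f) := by rw [hgen]; trivial
    induction hb using Algebra.adjoin_induction with
    | mem x hx => exact Algebra.subset_adjoin hx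
    | algebraMap r =>
      have : algebraMap R A r = algebraMap (𝒜 0) A (algebraMap R (𝒜 0) r) := rfl
      rw [this]
      exact Subalgebra.algebraMap_mem _ _
    | add x y _ _ hx hy => exact add_mem hx hy
    | mul x y _ _ hx hy => exact mul_mem hx hy
  have hirr : (HomogeneousIdeal.irrelevant 𝒜).toIdeal = Ideal.span (Set.range f) :=
    Groth.Agent.Lib.GradedGen.irrelevant_eq_span_of_adjoin_eq_top 𝒜 (Set.range f)
      (by rintro _ ⟨i, rfl⟩; exact ⟨deg i, hdeg i, hf i⟩) hgen0
  rw [eq_top_iff]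
  intro x _
  -- some generator is not in x
  obtain ⟨i, hi⟩ : ∃ i, f i ∉ x.asHomogeneousIdeal := by
    by_contra hcon
    push Not at hcon
    apply x.not_irrelevant_le
    intro b hb
    have hb' : b ∈ (HomogeneousIdeal.irrelevant 𝒜).toIdeal := hb
    rw [hirr] at hb'
    have hle : Ideal.span (Set.range f) ≤ x.asHomogeneousIdeal.toIdeal :=
      Ideal.span_le.mpr (by rintro _ ⟨j, rfl⟩; exact hcon j)
    exact hle hb'
  have hdvd : deg i ∣ Finset.univ.lcm deg := Finset.dvd_lcm (Finset.mem_univ i)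
  have hg : f i ^ (a * (Finset.univ.lcm deg / deg i)) ∈ 𝒜 (a * Finset.univ.lcm deg) := by
    have := Groth.Agent.Lib.GradedMonomial.pow_mem_graded 𝒜 hf i
      (a * (Finset.univ.lcm deg / deg i))
    rwa [mul_assoc, Nat.div_mul_cancel hdvd] at this
  rw [TopologicalSpace.Opens.mem_iSup]
  refine ⟨⟨_, hg⟩, ?_⟩
  rw [Proj.mem_basicOpen]
  intro hmem
  apply hi
  have hprime : x.asHomogeneousIdeal.toIdeal.IsPrime := x.isPrime
  exact hprime.mem_of_pow_mem _ hmem

end Groth.Agent.S13168
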