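import Groth.Statements.S13175
-- import your own Groth.Agent.* helpers here

set_option autoImplicit false
universe u v w
open scoped TensorProduct
open ZeroCyc

namespace Groth.Agent.S13175

section aux

variable {A : Type u} [CommRing A] {B : Type v} [CommRing B] [Algebra A B]

theorem rTensor_eq_map {P S : Type u} [CommRing P] [CommRing S] [Algebra A P] [Algebra A S]
    (Ψ : P →ₐ[A] S) (u : P ⊗[A] B) :
    Ψ.toLinearMap.rTensor B u = Algebra.TensorProduct.map Ψ (AlgHom.id A B) u := by
  induction u using TensorProduct.induction_on with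
  | zero => simp
  | tmul a b => simp
  | add x y hx hy => simp only [map_add, hx, hy]

theorem rTensor_mul {P S : Type u} [CommRing P] [CommRing S] [Algebra A P] [Algebra A S]
    (Ψ : P →ₐ[A] S) (u v : P ⊗[A] B) :
    Ψ.toLinearMap.rTensor B (u * v) = Ψ.toLinearMap.rTensor B u * Ψ.toLinearMap.rTensor B v := by
  simp only [rTensor_eq_map, map_mul]

theorem rTensor_one {P S : Type u} [CommRing P] [CommRing S] [Algebra A P] [Algebra A S]
    (Ψ : P →ₐ[A] S) :
    Ψ.toLinearMap.rTensor B (1 : P ⊗[A] B) = 1 := by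
  simp only [rTensor_eq_map, map_one]

theorem rTensor_comp_apply {P Q S : Type u} [CommRing P] [CommRing Q] [CommRing S] [Algebra A P]
    [Algebra A Q] [Algebra A S] (Ψ : Q →ₐ[A] S) (ι : P →ₐ[A] Q) (u : P ⊗[A] B) :
    Ψ.toLinearMap.rTensor B (ι.toLinearMap.rTensor B u) = (Ψ.comp ι).toLinearMap.rTensor B u := by
  rw [← LinearMap.comp_apply, ← LinearMap.rTensor_comp]
  rfl

end aux

/-- Let B and C be A-algebras and F : B → C a polynomial law. If the maps F over the polynomial rings
A[t_1, …, t_n], n ≥ 0, are multiplicative (send 1 to 1 and products to products), then F is a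
multiplicative law: F sends 1 to 1 and products to products over every A-algebra. -/
theorem result {A : Type u} [CommRing A] {B : Type v} [CommRing B] [Algebra A B] {C : Type w} [CommRing C] [Algebra A C]
    (F : B →ₚₗ[A] C)
    (h1 : ∀ n : ℕ, F.toFun' (MvPolynomial (Fin n) A) 1 = 1)
    (hmul : ∀ (n : ℕ) (x y : MvPolynomial (Fin n) A ⊗[A] B),
      F.toFun' (MvPolynomial (Fin n) A) (x * y) = F.toFun' (MvPolynomial (Fin n) A) x * F.toFun' (MvPolynomial (Fin n) A) y) :
    ∀ (S : Type u) [CommRing S] [Algebra A S], F.toFun' S 1 = 1 ∧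
      ∀ x y : S ⊗[A] B, F.toFun' S (x * y) = F.toFun' S x * F.toFun' S y := by
  intro S _ _
  constructor
  · let Ψ : MvPolynomial (Fin 0) A →ₐ[A] S := MvPolynomial.aeval (fun _ => (0 : S))
    have h := PolynomialLaw.isCompat_apply' (f := F) Ψ (1 : MvPolynomial (Fin 0) A ⊗[A] B)
    rw [h1 0, rTensor_one, rTensor_one] at h
    exact h.symm
  · intro x y
    obtain ⟨n, ψ, p, hp⟩ := PolynomialLaw.exists_lift (R := A) x
    obtain ⟨n', ψ', p', hp'⟩ := PolynomialLaw.exists_lift (R := A) y
    let ι₁ : MvPolynomial (Fin n) A →ₐ[A] MvPolynomial (Fin (n + n')) A :=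
      MvPolynomial.rename (Fin.castAdd n')
    let ι₂ : MvPolynomial (Fin n') A →ₐ[A] MvPolynomial (Fin (n + n')) A :=
      MvPolynomial.rename (Fin.natAdd n)
    let Ψ : MvPolynomial (Fin (n + n')) A →ₐ[A] S :=
      MvPolynomial.aeval (Fin.addCases (fun i => ψ (MvPolynomial.X i)) (fun i => ψ' (MvPolynomial.X i)))
    have hΨ₁ : Ψ.comp ι₁ = ψ := by
      apply MvPolynomial.algHom_ext
      intro i
      simp [Ψ, ι₁]
    have hΨ₂ : Ψ.comp ι₂ = ψ' := by
      apply MvPolynomial.algHom_ext
      intro i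
      simp [Ψ, ι₂]
    set x' := ι₁.toLinearMap.rTensor B p with hx'
    set y' := ι₂.toLinearMap.rTensor B p' with hy'
    have hxx : Ψ.toLinearMap.rTensor B x' = x := by
      rw [hx', rTensor_comp_apply, hΨ₁, hp]
    have hyy : Ψ.toLinearMap.rTensor B y' = y := by
      rw [hy', rTensor_comp_apply, hΨ₂, hp']
    have e1 := PolynomialLaw.isCompat_apply' (f := F) Ψ (x' * y')
    have e2 := PolynomialLaw.isCompat_apply' (f := F) Ψ x'
    have e3 := PolynomialLaw.isCompat_apply' (f := F) Ψ y'
    rw [rTensor_mul, hxx, hyy] at e1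
    rw [hxx] at e2
    rw [hyy] at e3
    rw [← e1, hmul, rTensor_mul, e2, e3]

end Groth.Agent.S13175
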