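import Groth.Statements.S13176
import Mathlib
import Groth.Agent.Lib.QuotGeomPts37
import Groth.Agent.Lib.UnivHomeo

set_option autoImplicit false
universe u
open CategoryTheory CategoryTheory.Limits AlgebraicGeometry
open ZeroCyc

namespace Groth.Agent.S13176

open Groth.Agent.Lib

/-- Let a finite group G act on a scheme X over S through ρ, let q : X → Y be a quotient of X by G over
S (affine, G-invariant, O_Y = the G-invariant sections of O_X), let S' → S be any morphism and X' =
X ×_S S' with the induced action ρ', and let r : X' → Y' be a quotient of X' by G. Then the morphism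
Y' → Y ×_S S' through which the canonical map X' → Y ×_S S' factors via r is a universal
homeomorphism. (The published statement assumes every G-orbit lies in an affine open, which is what
makes the quotients exist; here the two quotients are hypotheses.) -/
theorem result {X Y S S' Y' : Scheme.{u}} {G : Type u} [Group G] [Finite G]
    (ρ : G →* Aut X) (f : X ⟶ S) (hρ : ∀ σ : G, (ρ σ).hom ≫ f = f)
    (q : X ⟶ Y) (h : Y ⟶ S) (hq : q ≫ h = f) (hquot : SGA1.IsQuot ρ q)
    (g : S' ⟶ S)
    (ρ' : G →* Aut (pullback f g))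
    (hρ' : ∀ σ : G, (ρ' σ).hom ≫ pullback.fst f g = pullback.fst f g ≫ (ρ σ).hom ∧
      (ρ' σ).hom ≫ pullback.snd f g = pullback.snd f g)
    (r : pullback f g ⟶ Y') (hr : SGA1.IsQuot ρ' r)
    (m : Y' ⟶ pullback h g)
    (hm : r ≫ m = pullback.map f g h g q (𝟙 S') (𝟙 S)
      ((Category.comp_id f).trans hq.symm) ((Category.comp_id g).trans (Category.id_comp g).symm)) :
    FlatMor.IsUnivHomeo m := by
  have hfst : r ≫ m ≫ pullback.fst h g = pullback.fst f g ≫ q := by
    rw [← Category.assoc, hm]; exact pullback.lift_fst _ _ _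
  have hsnd : r ≫ m ≫ pullback.snd h g = pullback.snd f g := by
    rw [← Category.assoc, hm]; exact (pullback.lift_snd _ _ _).trans (Category.comp_id _)
  have hpb : IsPullback (r ≫ m) (pullback.fst f g) (pullback.fst h g) q := by
    refine IsPullback.of_right ?_ ((Category.assoc _ _ _).trans hfst)
      (IsPullback.of_hasPullback h g).flip
    rw [Category.assoc, hsnd, hq]
    exact (IsPullback.of_hasPullback f g).flip
  have hq_int : IsIntegralHom q := IsQuot45.isIntegralHom hquot
  have hq_surj : Surjective q := ⟨IsQuot45.surjective hquot⟩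
  have h1 : IsIntegralHom (r ≫ m) := MorphismProperty.of_isPullback hpb.flip hq_int
  have h2 : Surjective (r ≫ m) := MorphismProperty.of_isPullback hpb.flip hq_surj
  have hrsurj : Surjective r := ⟨IsQuot45.surjective hr⟩
  have huc : UniversallyClosed m := UniversallyClosed.of_comp_surjective r m
  have hsurj : Surjective m := Surjective.of_comp r m
  refine (UnivHomeo.iff_universallyInjective_surjective_universallyClosed m).mpr
    ⟨?_, hsurj, huc⟩
  refine ((tfae_universallyInjective m).out 0 1).mpr ?_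
  intro K _ g₁ g₂ hg
  replace hg : g₁ ≫ m = g₂ ≫ m := hg
  have := QuotGeomPts37.epi_Spec_algebraicClosure K
  rw [← cancel_epi (Spec.map (CommRingCat.ofHom (algebraMap K (AlgebraicClosure K))))]
  obtain ⟨b₁, hb₁⟩ := QuotGeomPts37.exists_lift_of_isAlgClosed hr (AlgebraicClosure K)
    (Spec.map (CommRingCat.ofHom (algebraMap K (AlgebraicClosure K))) ≫ g₁)
  obtain ⟨b₂, hb₂⟩ := QuotGeomPts37.exists_lift_of_isAlgClosed hr (AlgebraicClosure K)
    (Spec.map (CommRingCat.ofHom (algebraMap K (AlgebraicClosure K))) ≫ g₂)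
  have hbm : b₁ ≫ r ≫ m = b₂ ≫ r ≫ m := by
    rw [← Category.assoc, ← Category.assoc, hb₁, hb₂, Category.assoc, Category.assoc, hg]
  have h3 : (b₁ ≫ pullback.fst f g) ≫ q = (b₂ ≫ pullback.fst f g) ≫ q :=
    calc (b₁ ≫ pullback.fst f g) ≫ q = b₁ ≫ r ≫ m ≫ pullback.fst h g := by
          rw [Category.assoc, hfst]
      _ = b₂ ≫ r ≫ m ≫ pullback.fst h g := (reassoc_of% hbm) _
      _ = (b₂ ≫ pullback.fst f g) ≫ q := by rw [Category.assoc, hfst]
  obtain ⟨σ, hσ⟩ := QuotGeomPts37.exists_eq_comp_of_comp_eq hquot _ _ _ h3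
  have h4 : b₂ = b₁ ≫ (ρ' σ).hom := by
    apply pullback.hom_ext
    · rw [hσ, Category.assoc, Category.assoc, (hρ' σ).1]
    · calc b₂ ≫ pullback.snd f g = b₂ ≫ r ≫ m ≫ pullback.snd h g := by rw [hsnd]
        _ = b₁ ≫ r ≫ m ≫ pullback.snd h g := ((reassoc_of% hbm) _).symm
        _ = b₁ ≫ pullback.snd f g := by rw [hsnd]
        _ = (b₁ ≫ (ρ' σ).hom) ≫ pullback.snd f g := by rw [Category.assoc, (hρ' σ).2]
  rw [← hb₁, ← hb₂, h4, Category.assoc, hr.inv σ]

end Groth.Agent.S13176
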