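import Groth.Statements.S13177
import Mathlib
import Groth.Agent.Lib.QuotGeomPts37
import Groth.Agent.Lib.UnivHomeo

set_option autoImplicit false
universe u
open CategoryTheory CategoryTheory.Limits AlgebraicGeometry
open ZeroCyc

namespace Groth.Agent.S13177

open Groth.Agent.Lib

lemma universallyInjective_of_comp {X Y Z : Scheme.{u}} (f : X ⟶ Y) (g : Y ⟶ Z)
    [UniversallyInjective (f ≫ g)] : UniversallyInjective f := by
  refine ((tfae_universallyInjective f).out 0 1).mpr ?_
  intro K _ a b hab
  have h : ∀ (K : Type u) [Field K],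
      Function.Injective (fun a : Spec (.of K) ⟶ X ↦ a ≫ f ≫ g) :=
    ((tfae_universallyInjective (f ≫ g)).out 0 1).mp ‹_›
  refine h K ?_
  change a ≫ f ≫ g = b ≫ f ≫ g
  rw [← Category.assoc, ← Category.assoc]
  exact congrArg (· ≫ g) hab

lemma toImage_app_injective' {X Y : Scheme.{u}} (f : X ⟶ Y) [QuasiCompact f] (t : X ⟶ f.image)
    (ht : t = f.toImage) (U : Y.affineOpens) :
    Function.Injective (t.app (f.imageι ⁻¹ᵁ U.1)) := by
  subst ht
  exact f.toImage_app_injective U

/-- Let a finite group G act on a scheme X with quotient q : X → Y (affine, G-invariant, O_Y = the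
invariant sections), let i : Z → X be a G-stable closed subscheme with the induced action and r : Z
→ W a quotient of Z by G, and let q(Z) be the scheme-theoretic image of Z in Y. Then the morphism W
→ q(Z) through which Z → q(Z) factors via r is a schematically dominant universal homeomorphism.
(The published statement assumes the quotient of X exists; here both quotients are hypotheses.) -/
theorem result {X Y Z W : Scheme.{u}} {G : Type u} [Group G] [Finite G]
    (ρ : G →* Aut X) (q : X ⟶ Y) (hquot : SGA1.IsQuot ρ q)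
    (i : Z ⟶ X) [IsClosedImmersion i] (ρZ : G →* Aut Z) (hρZ : ∀ σ : G, (ρZ σ).hom ≫ i = i ≫ (ρ σ).hom)
    (r : Z ⟶ W) (hr : SGA1.IsQuot ρZ r)
    (m : W ⟶ (i ≫ q).ker.subscheme) (hm : r ≫ m ≫ (i ≫ q).ker.subschemeι = i ≫ q) :
    FlatMor.IsUnivHomeo m ∧ IsSchemeTheoreticallyDominant m := by
  have hq_int : IsIntegralHom q := IsQuot45.isIntegralHom hquot
  have hf_int : IsIntegralHom (i ≫ q) := MorphismProperty.comp_mem _ i q inferInstance hq_int
  have hm' : (r ≫ m) ≫ (i ≫ q).imageι = i ≫ q := by rw [Category.assoc]; exact hm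
  have ht : r ≫ m = (i ≫ q).toImage := by
    rw [← cancel_mono (i ≫ q).imageι, hm', Scheme.Hom.toImage_imageι]
  have hrsurj : Surjective r := ⟨IsQuot45.surjective hr⟩
  have hui : UniversallyInjective (m ≫ (i ≫ q).imageι) :=
    QuotGeomPts37.universallyInjective_of_isQuot hquot i hρZ hr (m ≫ (i ≫ q).imageι) hm
  have hui' : UniversallyInjective m := universallyInjective_of_comp m (i ≫ q).imageι
  have huc_t : UniversallyClosed (r ≫ m) := by rw [ht]; infer_instance
  have huc : UniversallyClosed m := UniversallyClosed.of_comp_surjective r m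
  have hsurj : Surjective m := by
    have hdom : IsDominant (r ≫ m) := by rw [ht]; infer_instance
    have hcl : IsClosedMap (r ≫ m) := (r ≫ m).isClosedMap
    have hs : Function.Surjective (r ≫ m) := by
      rw [← Set.range_eq_univ, ← hcl.isClosed_range.closure_eq]
      exact (r ≫ m).denseRange.closure_range
    refine ⟨fun y => ?_⟩
    obtain ⟨z, hz⟩ := hs y
    exact ⟨r z, by simpa using hz⟩
  refine ⟨(UnivHomeo.iff_universallyInjective_surjective_universallyClosed m).mpr
    ⟨hui', hsurj, huc⟩, ?_⟩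
  rw [isSchemeTheoreticallyDominant_iff]
  refine le_antisymm ?_ bot_le
  refine Scheme.IdealSheafData.le_of_iSup_eq_top
    (fun U : Y.affineOpens => ⟨(i ≫ q).imageι ⁻¹ᵁ U.1, U.2.preimage (i ≫ q).imageι⟩) ?_ ?_
  · change ⨆ U : Y.affineOpens, (i ≫ q).imageι ⁻¹ᵁ U.1 = ⊤
    rw [← Scheme.Hom.preimage_iSup, iSup_affineOpens_eq_top]
    rfl
  · intro U
    refine (Scheme.Hom.ideal_ker_le m _).trans ?_
    have h1 := toImage_app_injective' (i ≫ q) (r ≫ m) ht U
    rw [Scheme.Hom.comp_app] at h1
    have hinj : Function.Injective (m.app ((i ≫ q).imageι ⁻¹ᵁ U.1)).hom := by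
      have h2 : Function.Injective
          ((r.app (m ⁻¹ᵁ ((i ≫ q).imageι ⁻¹ᵁ U.1))).hom ∘ (m.app ((i ≫ q).imageι ⁻¹ᵁ U.1)).hom) := h1
      exact Function.Injective.of_comp h2
    rw [(RingHom.injective_iff_ker_eq_bot _).mp hinj]
    exact bot_le

end Groth.Agent.S13177
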