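import Groth.Statements.S13182
import Groth.Agent.Lib.TwistLcmH3
import Groth.Agent.Lib.VeryAmpleProjH3

set_option autoImplicit false
universe u
open CategoryTheory CategoryTheory.Limits AlgebraicGeometry
open ZeroCyc

namespace Groth.Agent.S13182

/-- Let B be a graded R-algebra generated by homogeneous elements f_1, …, f_s of positive degrees d_1,
…, d_s, let l be the least common multiple of the d_i and X = Proj B. For n = a l with a ≥ max(1, s
− 1) there is a closed immersion i of X into a projective space over R, over Spec R, with O_X(n) ≅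
i^*O(1); in particular O_X(n) is very ample relative to Spec R. (The published statement takes for i
the canonical morphism into P(B_n) given by the sections B_n; this row asserts only a closed
immersion into some projective space P^N over R with an isomorphism O_X(n) ≅ i^*O(1).) -/
theorem result {R A : Type u} [CommRing R] [CommRing A] [Algebra R A] (𝒜 : ℕ → Submodule R A) [GradedAlgebra 𝒜]
    {s : ℕ} (f : Fin s → A) (deg : Fin s → ℕ) (hdeg : ∀ i, 0 < deg i) (hf : ∀ i, f i ∈ 𝒜 (deg i))
    (hgen : Algebra.adjoin R (Set.range f) = ⊤) (a : ℕ) (ha : 0 < a) (has : s - 1 ≤ a) :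
    ∃ (N : ℕ) (i : Proj 𝒜 ⟶ CohB1.ProjSpaceOver N (Spec (CommRingCat.of R))), IsClosedImmersion i ∧
      i ≫ pullback.snd (CohB1.ProjSpace.toSpec N (ULift.{u} ℤ)) (specULiftZIsTerminal.from (Spec (CommRingCat.of R))) =
        Proj.toSpecZero 𝒜 ≫ Spec.map (CommRingCat.ofHom (algebraMap R (𝒜 0))) ∧
      Nonempty (Twist.twist 𝒜 ((a * Finset.univ.lcm deg : ℕ) : ℤ) ≅
        (Scheme.Modules.pullback i).obj (Twist.twistOver N (Spec (CommRingCat.of R)) 1)) := by
  obtain ⟨N, i, himm, hq, hiso⟩ :=
    Groth.Agent.Lib.TwistLcmH3.isRelVeryAmplePn_twist_lcm 𝒜 f deg hdeg hf hgen a ha has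
  refine ⟨N, i, ?_, hq, hiso⟩
  -- the structure morphism is proper
  haveI : IsScalarTower R (𝒜 0) A := ⟨fun r a x => by
    change ((r • a : 𝒜 0) : A) * x = r • ((a : A) * x)
    rw [Submodule.coe_smul, smul_mul_assoc]⟩
  haveI : Algebra.FiniteType R A := by
    classical
    exact ⟨⟨Finset.univ.image f, by rw [Finset.coe_image, Finset.coe_univ, Set.image_univ]; exact hgen⟩⟩
  haveI : Algebra.FiniteType (𝒜 0) A := Algebra.FiniteType.of_restrictScalars_finiteType R (𝒜 0) A
  have hsurj : Function.Surjective (algebraMap R (𝒜 0)) := by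
    intro a0
    obtain ⟨r, hr⟩ := Groth.Agent.Lib.TwistVeryAmpleH3.mem_range_algebraMap_of_mem_zero (𝒜 := 𝒜)
      (S := Set.range f) (by rintro _ ⟨i, rfl⟩; exact ⟨deg i, hdeg i, hf i⟩) hgen a0.2
    exact ⟨r, Subtype.ext hr⟩
  haveI : IsClosedImmersion (Spec.map (CommRingCat.ofHom (algebraMap R (𝒜 0)))) :=
    IsClosedImmersion.spec_of_surjective _ hsurj
  haveI : UniversallyClosed (i ≫ Groth.Agent.Lib.VeryAmpleH3.sndP N (Spec (CommRingCat.of R))) := by
    have : i ≫ Groth.Agent.Lib.VeryAmpleH3.sndP N (Spec (CommRingCat.of R)) =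
        Proj.toSpecZero 𝒜 ≫ Spec.map (CommRingCat.ofHom (algebraMap R (𝒜 0))) := hq
    rw [this]
    infer_instance
  haveI : UniversallyClosed i :=
    UniversallyClosed.of_comp_of_isSeparated i (Groth.Agent.Lib.VeryAmpleH3.sndP N _)
  exact IsClosedImmersion.of_isPreimmersion i i.isClosedMap.isClosed_range

end Groth.Agent.S13182
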