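import Groth.Statements.S13183
import Groth.Agent.Lib.TwistVeryAmpleH3
import Groth.Agent.Lib.VeryAmpleProjH3

set_option autoImplicit false
universe u
open CategoryTheory CategoryTheory.Limits AlgebraicGeometry
open ZeroCyc

namespace Groth.Agent.S13183

/-- Let B be a graded R-algebra of finite type, generated by elements of degrees between 1 and d, such
that X = Proj B is covered by the opens D_+(g), g ∈ B_1. For n ≥ d, n ≥ 1, there is a closed
immersion i of X into a projective space over R, over Spec R, with O_X(n) ≅ i^*O(1); in particular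
O_X(n) is very ample relative to Spec R. (The published statement assumes neither finite generation
nor that the generators have positive degree, and its target is P(B_n) with i the canonical morphism
given by B_n; a closed immersion into a projective space of finite type over R needs X proper over
R, so B is taken of finite type with generators of positive degree; existence of the isomorphism
only.) -/
theorem result {R A : Type u} [CommRing R] [CommRing A] [Algebra R A] (𝒜 : ℕ → Submodule R A) [GradedAlgebra 𝒜]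
    (d : ℕ) (hgen : Algebra.adjoin R (⋃ i ∈ Finset.Icc 1 d, (𝒜 i : Set A)) = ⊤)
    (hcov : (⨆ g : 𝒜 1, Proj.basicOpen 𝒜 (g : A)) = ⊤) [Algebra.FiniteType R A] (n : ℕ) (hn : d ≤ n) (hn1 : 0 < n) :
    ∃ (N : ℕ) (i : Proj 𝒜 ⟶ CohB1.ProjSpaceOver N (Spec (CommRingCat.of R))), IsClosedImmersion i ∧
      i ≫ pullback.snd (CohB1.ProjSpace.toSpec N (ULift.{u} ℤ)) (specULiftZIsTerminal.from (Spec (CommRingCat.of R))) =
        Proj.toSpecZero 𝒜 ≫ Spec.map (CommRingCat.ofHom (algebraMap R (𝒜 0))) ∧
      Nonempty (Twist.twist 𝒜 (n : ℤ) ≅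
        (Scheme.Modules.pullback i).obj (Twist.twistOver N (Spec (CommRingCat.of R)) 1)) := by
  have hcov' : ∀ x : ProjectiveSpectrum 𝒜, ∃ g ∈ 𝒜 1, g ∉ x.asHomogeneousIdeal := by
    intro x
    have hx : (x : Proj 𝒜) ∈ (⨆ g : 𝒜 1, Proj.basicOpen 𝒜 (g : A)) := by rw [hcov]; trivial
    obtain ⟨g, hg⟩ := TopologicalSpace.Opens.mem_iSup.1 hx
    exact ⟨g, g.2, hg⟩
  obtain ⟨N, i, himm, hq, hiso⟩ :=
    Groth.Agent.Lib.TwistVeryAmpleH3.isRelVeryAmplePn_twist 𝒜 d hgen hcov' n hn hn1
  refine ⟨N, i, ?_, hq, hiso⟩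
  -- the structure morphism is proper
  haveI : IsScalarTower R (𝒜 0) A := ⟨fun r a x => by
    change ((r • a : 𝒜 0) : A) * x = r • ((a : A) * x)
    rw [Submodule.coe_smul, smul_mul_assoc]⟩
  haveI : Algebra.FiniteType (𝒜 0) A := Algebra.FiniteType.of_restrictScalars_finiteType R (𝒜 0) A
  have hsurj : Function.Surjective (algebraMap R (𝒜 0)) := by
    intro a
    obtain ⟨r, hr⟩ := Groth.Agent.Lib.TwistVeryAmpleH3.mem_range_algebraMap_of_mem_zero (𝒜 := 𝒜)
      (S := ⋃ i ∈ Finset.Icc 1 d, (𝒜 i : Set A)) (fun x hx => by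
        simp only [Set.mem_iUnion, Finset.mem_Icc, exists_prop] at hx
        obtain ⟨i, ⟨h1, -⟩, hxi⟩ := hx
        exact ⟨i, h1, hxi⟩) hgen a.2
    exact ⟨r, Subtype.ext hr⟩
  haveI : IsClosedImmersion (Spec.map (CommRingCat.ofHom (algebraMap R (𝒜 0)))) :=
    IsClosedImmersion.spec_of_surjective _ hsurj
  haveI : UniversallyClosed (i ≫ Groth.Agent.Lib.VeryAmpleH3.sndP N (Spec (CommRingCat.of R))) := by
    have : i ≫ Groth.Agent.Lib.VeryAmpleH3.sndP N (Spec (CommRingCat.of R)) =
        Proj.toSpecZero 𝒜 ≫ Spec.map (CommRingCat.ofHom (algebraMap R (𝒜 0))) := hq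
    rw [this]
    infer_instance
  haveI : UniversallyClosed i :=
    UniversallyClosed.of_comp_of_isSeparated i (Groth.Agent.Lib.VeryAmpleH3.sndP N _)
  exact IsClosedImmersion.of_isPreimmersion i i.isClosedMap.isClosed_range

end Groth.Agent.S13183
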