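import Groth.Statements.S13186
import Groth.Agent.S11079

set_option autoImplicit false
universe u
open GalCoh

namespace Groth.Agent.S13186

/-- Let L/K be a finite Galois extension of fields, n a natural number, and B a map from the Galois
group of L over K to the invertible n × n matrices over L such that B(σ) · σ(B(τ)) = B(στ) for all
σ, τ (σ acting on matrices entrywise, στ applying τ first) and det B(σ) = 1 for every σ. Then there
is an invertible matrix A over L of determinant 1 with B(σ) = A⁻¹ · σ(A) for every σ; that is, every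
1-cocycle of the Galois group with values in SL_n(L) is the coboundary of an element of SL_n(L), so
H¹ of the Galois group with values in SL_n(L) is a point. (The published statement says that every
torsor under the special linear group over K is trivial; this row is the finite-Galois-level cocycle
form that its proof establishes.) -/
theorem result (K L : Type u) [Field K] [Field L]
    [Algebra K L] [FiniteDimensional K L] [IsGalois K L] (n : ℕ)
    (B : (L ≃ₐ[K] L) → GL (Fin n) L)
    (hB : ∀ σ τ : L ≃ₐ[K] L,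
      (B σ : Matrix (Fin n) (Fin n) L) * (B τ : Matrix (Fin n) (Fin n) L).map σ =
        (B (σ * τ) : Matrix (Fin n) (Fin n) L))
    (hdet : ∀ σ : L ≃ₐ[K] L, Matrix.det (B σ : Matrix (Fin n) (Fin n) L) = 1) :
    ∃ A : GL (Fin n) L, Matrix.det (A : Matrix (Fin n) (Fin n) L) = 1 ∧ ∀ σ : L ≃ₐ[K] L,
      (B σ : Matrix (Fin n) (Fin n) L) =
        ((A⁻¹ : GL (Fin n) L) : Matrix (Fin n) (Fin n) L) * (A : Matrix (Fin n) (Fin n) L).map σ := by
  classical
  obtain ⟨A, hA⟩ := Groth.Agent.S11079.hilbert90_GL (K := K) (L := L) (n := n) (B := B) hB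
  rcases Nat.eq_zero_or_pos n with hn | hn
  · subst hn
    exact ⟨A, Matrix.det_isEmpty, hA⟩
  set d := Matrix.det (A : Matrix (Fin n) (Fin n) L) with hd
  have hd0 : d ≠ 0 := by
    have h1 : (A : Matrix (Fin n) (Fin n) L) * ((A⁻¹ : GL (Fin n) L) : Matrix (Fin n) (Fin n) L) = 1 := by
      rw [← Units.val_mul, mul_inv_cancel, Units.val_one]
    have h2 := congrArg Matrix.det h1
    rw [Matrix.det_mul, Matrix.det_one] at h2
    exact left_ne_zero_of_mul_eq_one h2
  have hdinv : Matrix.det ((A⁻¹ : GL (Fin n) L) : Matrix (Fin n) (Fin n) L) = d⁻¹ := by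
    have h1 : (A : Matrix (Fin n) (Fin n) L) * ((A⁻¹ : GL (Fin n) L) : Matrix (Fin n) (Fin n) L) = 1 := by
      rw [← Units.val_mul, mul_inv_cancel, Units.val_one]
    have h2 := congrArg Matrix.det h1
    rw [Matrix.det_mul, Matrix.det_one] at h2
    exact eq_inv_of_mul_eq_one_right h2
  have hmapdet : ∀ (σ : L ≃ₐ[K] L) (M : Matrix (Fin n) (Fin n) L), Matrix.det (M.map σ) = σ (Matrix.det M) := by
    intro σ M
    exact (AlgEquiv.map_det σ M).symm
  have hdfix : ∀ σ : L ≃ₐ[K] L, σ d = d := by
    intro σ
    have h1 := congrArg Matrix.det (hA σ)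
    rw [hdet σ, Matrix.det_mul, hdinv, hmapdet] at h1
    field_simp at h1
    exact h1.symm
  let i0 : Fin n := ⟨0, hn⟩
  let D : Matrix (Fin n) (Fin n) L := Matrix.diagonal (fun i => if i = i0 then d⁻¹ else 1)
  have hDdet : Matrix.det D = d⁻¹ := by
    rw [Matrix.det_diagonal, Finset.prod_ite_eq']
    simp
  have hDmap : ∀ σ : L ≃ₐ[K] L, D.map σ = D := by
    intro σ
    ext i j
    simp only [D, Matrix.map_apply, Matrix.diagonal_apply]
    split_ifs <;> simp [hdfix σ]
  let Dg : GL (Fin n) L := Matrix.GeneralLinearGroup.mkOfDetNeZero D (by rw [hDdet]; exact inv_ne_zero hd0)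
  have hDg : (Dg : Matrix (Fin n) (Fin n) L) = D := rfl
  refine ⟨Dg * A, ?_, fun σ => ?_⟩
  · rw [Units.val_mul, Matrix.det_mul, hDg, hDdet, inv_mul_cancel₀ hd0]
  · rw [hA σ, mul_inv_rev, Units.val_mul, Units.val_mul, hDg, Matrix.map_mul, hDmap, ← hDg]
    simp only [mul_assoc, Units.inv_mul_cancel_left]

end Groth.Agent.S13186
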