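import Groth.Statements.S13187
import Groth.Agent.Lib.CiTrdeg

set_option autoImplicit false
universe u v
open Curves

namespace Groth.Agent.S13187

/-- If a field k has property C_m for systems of forms and the extension field K of k has a finite
transcendence basis with t elements, then K has property C_{m+t} for systems of forms. (Property C_m
is the systems version: any r forms of positive degrees d_1, …, d_r in n variables with Σ d_i^m < n
have a common non-trivial zero.) -/
theorem result (k : Type u) [Field k] (K : Type v) [Field K] [Algebra k K]
    (m t : ℕ) (x : Fin t → K) (hx : IsTranscendenceBasis k x) (hk : Curves.IsCi k m) :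
    Curves.IsCi K (m + t) := by
  let E : IntermediateField k K := ⊥
  have hE : Curves.IsCi E m :=
    Groth.Agent.Lib.CiTrdeg.isCi_of_ringEquiv
      (IntermediateField.botEquiv k K).symm.toRingEquiv m hk
  have h1 : Algebra.trdeg k K = t := by
    have h := hx.lift_cardinalMk_eq_trdeg
    simpa using h.symm
  have h0 : Algebra.trdeg k E = 0 := by
    have : Algebra.IsAlgebraic k E :=
      (IntermediateField.botEquiv k K).symm.isAlgebraic
    exact trdeg_eq_zero
  have h2 : Algebra.trdeg E K = t := by
    have h := lift_trdeg_add_eq k E K
    rw [h0, h1] at h
    simpa using h
  exact Groth.Agent.Lib.CiTrdeg.isCi_add_trdeg t m E hE K h2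

end Groth.Agent.S13187
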