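import Groth.Statements.S13188
-- import your own Groth.Agent.* helpers here

set_option autoImplicit false
universe u v w
open Brauer

namespace Groth.Agent.S13188

/-- scaling of the value of a homogeneous polynomial -/
lemma eval_smul_of_isHomogeneous {K : Type u} [Field K] {ι : Type w} [Fintype ι]
    {F : MvPolynomial ι K} {d : ℕ} (hF : F.IsHomogeneous d) (c : K) (x : ι → K) :
    MvPolynomial.eval (fun i => c * x i) F = c ^ d * MvPolynomial.eval x F := by
  rw [MvPolynomial.eval_eq', MvPolynomial.eval_eq', Finset.mul_sum]
  refine Finset.sum_congr rfl (fun s hs => ?_)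
  have h1 : ∑ i, s i = d := by
    rw [hF.degree_eq_sum_deg_support hs]
    exact (Finsupp.degree_eq_sum s).symm.trans (Finsupp.degree_apply s)
  simp only [mul_pow, Finset.prod_mul_distrib, Finset.prod_pow_eq_pow_sum, h1]
  ring

/-- Let K be a field with property C_2 for systems of forms and D a finite-dimensional central division
algebra over K with dim_K D = d². Let N : D → K be multiplicative, a reduced norm of D over K, and
given in the coordinates of a K-basis b of D by a homogeneous polynomial F of degree d, i.e. N(Σ x_i
b_i) = F(x) for every coordinate vector x (the reduced norm of a central simple algebra of dimension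
d² is such a polynomial map of degree d; these data record it). Then N : D → K is surjective. -/
theorem result (K : Type u) [Field K] (hK : Curves.IsCi K 2)
    (D : Type v) [DivisionRing D] [Algebra K D] [Algebra.IsCentral K D] [FiniteDimensional K D]
    (d : ℕ) (hd : Module.finrank K D = d ^ 2)
    (N : D →* K) (hN : CSAGal.IsRedNorm K D N)
    {ι : Type w} [Fintype ι] (b : Module.Basis ι K D)
    (F : MvPolynomial ι K) (hF : F.IsHomogeneous d)
    (hNF : ∀ x : ι → K, N (∑ i, x i • b i) = MvPolynomial.eval x F) :
    Function.Surjective N := by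
  classical
  have hcard : Fintype.card ι = d ^ 2 := by
    rw [← hd, Module.finrank_eq_card_basis b]
  have hdpos : 0 < d := by
    rcases Nat.eq_zero_or_pos d with h0 | h0
    · exfalso
      rw [h0] at hd
      have : 0 < Module.finrank K D := Module.finrank_pos
      omega
    · exact h0
  -- value of `N` at `0`
  have hN0 : N 0 = 0 := by
    have h := hNF (fun _ => 0)
    simp only [zero_smul, Finset.sum_const_zero] at h
    rw [h]
    have h2 := eval_smul_of_isHomogeneous hF (0 : K) (fun _ => 0)
    simp only [mul_zero, zero_pow hdpos.ne', zero_mul] at h2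
    exact h2
  intro a
  by_cases ha : a = 0
  · exact ⟨0, by rw [hN0, ha]⟩
  let e : ι ≃ Fin (d ^ 2) := Fintype.equivFinOfCardEq hcard
  let j : ι → Fin (d ^ 2 + 1) := fun i => Fin.castSucc (e i)
  let G : MvPolynomial (Fin (d ^ 2 + 1)) K :=
    MvPolynomial.rename j F - MvPolynomial.C a * MvPolynomial.X (Fin.last (d ^ 2)) ^ d
  have hG : G.IsHomogeneous d :=
    (MvPolynomial.IsHomogeneous.rename_isHomogeneous hF).sub
      (MvPolynomial.isHomogeneous_C_mul_X_pow a _ d)
  obtain ⟨v, hv0, hv⟩ := hK 1 (d ^ 2 + 1) (fun _ => G) (fun _ => d) (fun _ => hG)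
    (fun _ => hdpos) (by simp)
  have hv' : MvPolynomial.eval (v ∘ j) F = a * v (Fin.last (d ^ 2)) ^ d := by
    have h := hv 0
    simp only [G, map_sub, MvPolynomial.eval_rename, map_mul, MvPolynomial.eval_C, map_pow,
      MvPolynomial.eval_X] at h
    exact sub_eq_zero.mp h
  set z : D := ∑ i, (v ∘ j) i • b i with hz
  have hNz : N z = a * v (Fin.last (d ^ 2)) ^ d := by rw [hz, hNF, hv']
  by_cases hy : v (Fin.last (d ^ 2)) = 0
  · exfalso
    rw [hy, zero_pow hdpos.ne', mul_zero] at hNz
    have hz0 : z = 0 := by
      by_contra hne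
      have h1 : N z * N z⁻¹ = 1 := by rw [← map_mul, mul_inv_cancel₀ hne, map_one]
      rw [hNz, zero_mul] at h1
      exact zero_ne_one h1
    -- all coordinates vanish
    have hcoord : ∀ i, (v ∘ j) i = 0 := by
      intro i
      have h2 := congrArg (fun w => b.repr w i) hz0
      simp only [hz, map_sum, map_smul, Module.Basis.repr_self, Finsupp.coe_finsetSum,
        Finsupp.coe_smul, Finset.sum_apply, Pi.smul_apply, smul_eq_mul, map_zero,
        Finsupp.coe_zero, Pi.zero_apply] at h2
      rw [Finset.sum_eq_single i] at h2
      · simpa using h2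
      · intro i' _ hne
        simp [hne]
      · intro hni
        exact absurd (Finset.mem_univ i) hni
    apply hv0
    funext m
    refine Fin.lastCases ?_ (fun m' => ?_) m
    · exact hy
    · have h3 := hcoord (e.symm m')
      simpa [j] using h3
  · refine ⟨∑ i, ((v (Fin.last (d ^ 2)))⁻¹ * (v ∘ j) i) • b i, ?_⟩
    rw [hNF, eval_smul_of_isHomogeneous hF, hv', inv_pow]
    field_simp

end Groth.Agent.S13188
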