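import Groth.Statements.S13189
import Mathlib.FieldTheory.Finite.Polynomial
import Mathlib.FieldTheory.Finite.Basic

set_option autoImplicit false
universe u
open CAlg

namespace Groth.Agent.S13189

/-- vanishing of restricted-degree polynomials, with variables in `Fin n` (any universe for `K`) -/
lemma eq_zero_of_eval_eq_zero' (K : Type u) [Field K] [Fintype K] (n : ℕ)
    (p : MvPolynomial (Fin n) K) (h : ∀ a : Fin n → K, MvPolynomial.eval a p = 0)
    (hp : p ∈ MvPolynomial.restrictDegree (Fin n) K (Fintype.card K - 1)) : p = 0 := by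
  classical
  let ε : Fin n ≃ ULift.{u} (Fin n) := Equiv.ulift.symm
  have hP : MvPolynomial.rename ε p = 0 := by
    apply MvPolynomial.eq_zero_of_eval_eq_zero (ULift.{u} (Fin n)) K
    · intro v
      rw [MvPolynomial.eval_rename]
      exact h _
    · rw [MvPolynomial.mem_restrictDegree] at hp ⊢
      intro s hs i
      rw [MvPolynomial.support_rename_of_injective ε.injective, Finset.mem_image] at hs
      obtain ⟨s₀, hs₀, rfl⟩ := hs
      rw [Finsupp.mapDomain_equiv_apply]
      exact hp s₀ hs₀ _
  exact MvPolynomial.rename_injective ε ε.injective (hP.trans (map_zero _).symm)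

/-- For a finite field K of cardinality q and n ≥ 0, a polynomial p in n variables over K vanishes at
every point of K^n if and only if p belongs to the ideal generated by the X_i^q − X_i, i = 1, …, n;
in other words that ideal is the kernel of the evaluation homomorphism from K[X_1, …, X_n] to the
ring of K-valued functions on K^n. -/
theorem result (K : Type u) [Field K] [Fintype K]
    (n : ℕ) (p : MvPolynomial (Fin n) K) :
    (∀ a : Fin n → K, MvPolynomial.eval a p = 0) ↔
      p ∈ Ideal.span (Set.range fun i : Fin n =>
        (MvPolynomial.X i ^ Fintype.card K - MvPolynomial.X i : MvPolynomial (Fin n) K)) := by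
  classical
  set q := Fintype.card K with hq
  have hq2 : 2 ≤ q := Fintype.one_lt_card
  set I : Ideal (MvPolynomial (Fin n) K) := Ideal.span (Set.range fun i : Fin n =>
    (MvPolynomial.X i ^ q - MvPolynomial.X i : MvPolynomial (Fin n) K)) with hI
  -- elements of `I` vanish everywhere
  have hvan : ∀ f ∈ I, ∀ a : Fin n → K, MvPolynomial.eval a f = 0 := by
    intro f hf a
    have hle : I ≤ RingHom.ker (MvPolynomial.eval a) := by
      rw [hI, Ideal.span_le]
      rintro _ ⟨i, rfl⟩
      change MvPolynomial.eval a (MvPolynomial.X i ^ q - MvPolynomial.X i) = 0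
      rw [map_sub, map_pow, MvPolynomial.eval_X, hq, FiniteField.pow_card, sub_self]
    exact hle hf
  constructor
  swap
  · exact fun hp a => hvan p hp a
  intro hp
  let φ := Ideal.Quotient.mk I
  have hXq : ∀ i : Fin n, φ (MvPolynomial.X i) ^ q = φ (MvPolynomial.X i) := by
    intro i
    rw [← map_pow, ← sub_eq_zero, ← map_sub]
    exact Ideal.Quotient.eq_zero_iff_mem.mpr (Ideal.subset_span ⟨i, rfl⟩)
  -- reduction of exponents
  have hred : ∀ e : ℕ, ∃ e' : ℕ, e' ≤ q - 1 ∧ (e = 0 → e' = 0) ∧
      ∀ i : Fin n, φ (MvPolynomial.X i) ^ e = φ (MvPolynomial.X i) ^ e' := by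
    intro e
    induction e using Nat.strong_induction_on with
    | _ e ih =>
      by_cases he : e < q
      · exact ⟨e, by omega, fun h => h, fun _ => rfl⟩
      · obtain ⟨e', h1, -, h3⟩ := ih (e - (q - 1)) (by omega)
        refine ⟨e', h1, fun h => by omega, fun i => ?_⟩
        rw [← h3 i]
        have h4 : e = (e - q) + q := by omega
        have h5 : e - (q - 1) = (e - q) + 1 := by omega
        have ht := hXq i
        generalize φ (MvPolynomial.X i) = t at ht ⊢
        calc t ^ e = t ^ ((e - q) + q) := by rw [← h4]
          _ = t ^ (e - q) * t ^ q := pow_add _ _ _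
          _ = t ^ (e - q) * t := by rw [ht]
          _ = t ^ ((e - q) + 1) := (pow_succ _ _).symm
          _ = t ^ (e - (q - 1)) := by rw [h5]
  choose r hr1 hr0 hr using hred
  -- reduction of monomials
  have hmon : ∀ (s : Fin n →₀ ℕ) (c : K), φ (MvPolynomial.monomial s c) =
      φ (MvPolynomial.monomial (s.mapRange r (hr0 0 rfl)) c) := by
    intro s c
    rw [MvPolynomial.monomial_eq, MvPolynomial.monomial_eq, map_mul, map_mul,
      Finsupp.prod_fintype _ _ (fun i => pow_zero _),
      Finsupp.prod_fintype _ _ (fun i => pow_zero _), map_prod, map_prod]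
    congr 1
    refine Finset.prod_congr rfl (fun i _ => ?_)
    rw [map_pow, map_pow, Finsupp.mapRange_apply, hr]
  set p' : MvPolynomial (Fin n) K :=
    ∑ s ∈ p.support, MvPolynomial.monomial (s.mapRange r (hr0 0 rfl)) (MvPolynomial.coeff s p)
    with hp'
  have hφ : φ p = φ p' := by
    conv_lhs => rw [← p.support_sum_monomial_coeff]
    rw [hp', map_sum, map_sum]
    exact Finset.sum_congr rfl (fun s _ => hmon s _)
  have hmem : p - p' ∈ I := by
    rw [← Ideal.Quotient.eq_zero_iff_mem, map_sub, sub_eq_zero]
    exact hφ
  have hp'res : p' ∈ MvPolynomial.restrictDegree (Fin n) K (q - 1) := by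
    rw [hp']
    refine Submodule.sum_mem _ (fun s _ => ?_)
    rw [MvPolynomial.mem_restrictDegree]
    intro s' hs' i
    have h6 := MvPolynomial.support_monomial_subset hs'
    rw [Finset.mem_singleton] at h6
    rw [h6, Finsupp.mapRange_apply]
    exact hr1 _
  have hp'van : ∀ a : Fin n → K, MvPolynomial.eval a p' = 0 := by
    intro a
    have h7 := hvan _ hmem a
    rw [map_sub, hp a, zero_sub, neg_eq_zero] at h7
    exact h7
  have hp'0 : p' = 0 := eq_zero_of_eval_eq_zero' K n p' hp'van hp'res
  rw [hp'0, sub_zero] at hmem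
  exact hmem

end Groth.Agent.S13189
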