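import Groth.Statements.S13192
-- import your own Groth.Agent.* helpers here

set_option autoImplicit false
universe u v
open GalCoh

namespace Groth.Agent.S13192

/-- the action of `G` on `A` twisted by a cocycle -/
@[reducible] def twistedAction {G : Type u} {A : Type v}
    [Group G] [Group A] [MulDistribMulAction G A] (a : G → A) (ha : GpH1.IsOneCocycle a) :
    MulAction G A where
  smul g e := a g * g • e
  one_smul e := by
    have ha1 : a 1 = 1 := by
      have h := ha 1 1
      rw [one_mul, one_smul] at h
      exact (mul_eq_left.mp h.symm)
    change a 1 * (1 : G) • e = e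
    rw [ha1, one_mul, one_smul]
  mul_smul g h e := by
    change a (g * h) * (g * h) • e = a g * g • (a h * h • e)
    rw [ha g h, smul_mul', mul_smul, mul_assoc]

/-- Let a group G act by automorphisms on a group A and let a : G → A be a 1-cocycle. Then there exist a
G-equivariant right A-torsor E (a set with a simply transitive right action of A, written m ↦ m·a,
and a left action of G with g(m·a) = (gm)·(ga)) and a point m of E whose attached map is a, i.e. g·m
= m·a(g) for every g in G. (E is taken in the universe of A. The published statement is for a Galois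
group acting on discrete modules; this row takes an arbitrary group acting on a group.) -/
theorem result {G : Type u} {A : Type v}
    [Group G] [Group A] [MulDistribMulAction G A] (a : G → A) (ha : GpH1.IsOneCocycle a) :
    ∃ (E : Type v) (_ : MulAction G E) (_ : MulAction Aᵐᵒᵖ E) (m : E),
      (∀ m₁ m₂ : E, ∃! b : A, m₂ = MulOpposite.op b • m₁) ∧
      (∀ (g : G) (b : A) (e : E), g • (MulOpposite.op b • e) = MulOpposite.op (g • b) • g • e) ∧
      ∀ g : G, g • m = MulOpposite.op (a g) • m := by
  refine ⟨A, twistedAction a ha, Monoid.toOppositeMulAction, (1 : A), ?_, ?_, ?_⟩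
  · intro m₁ m₂
    refine ⟨m₁⁻¹ * m₂, ?_, ?_⟩
    · change m₂ = m₁ * (m₁⁻¹ * m₂)
      rw [mul_inv_cancel_left]
    · intro b hb
      change m₂ = m₁ * b at hb
      rw [hb, inv_mul_cancel_left]
  · intro g b e
    change a g * g • (e * b) = (a g * g • e) * g • b
    rw [smul_mul', mul_assoc]
  · intro g
    change a g * g • (1 : A) = 1 * a g
    rw [smul_one, mul_one, one_mul]

end Groth.Agent.S13192
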