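import Groth.Statements.S13195
import Groth.Agent.Lib.GalLC

set_option autoImplicit false
universe u
open GalCoh

namespace Groth.Agent.S13195

/-- Let K be a field and L a separable closure of K. Every map a from the automorphism group of L over K
to the units of L which is locally constant for the Krull topology and satisfies the 1-cocycle
identity a(στ) = a(σ) · σ(a(τ)) for all σ, τ has the form a(σ) = c⁻¹ · σ(c) for a single unit c of
L; that is, the first cohomology set of the absolute Galois group of K with continuous cochains and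
values in the multiplicative group of the separable closure is reduced to its base point. (The
finite-level statement for a finite Galois extension is the classical Hilbert 90; this row is the
statement for the absolute Galois group.) -/
theorem result (K L : Type u) [Field K] [Field L]
    [Algebra K L] [IsSepClosure K L] (a : (L ≃ₐ[K] L) → Lˣ)
    (ha : ∀ σ τ : L ≃ₐ[K] L, a (σ * τ) = a σ * σ • a τ) (hlc : IsLocallyConstant a) :
    ∃ c : Lˣ, ∀ σ : L ≃ₐ[K] L, a σ = c⁻¹ * σ • c := by
  have ha' : ∀ σ τ : L ≃ₐ[K] L, (a (σ * τ) : L) = (a σ : L) * σ (a τ : L) := by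
    intro σ τ
    rw [ha σ τ]
    rfl
  obtain ⟨c₀, hc₀, hc⟩ := Groth.Agent.Lib.GalLC.hilbert90_units a ha' hlc
  refine ⟨(Units.mk0 c₀ hc₀)⁻¹, fun σ => ?_⟩
  apply Units.ext
  have h1 : ((((Units.mk0 c₀ hc₀)⁻¹)⁻¹ * σ • (Units.mk0 c₀ hc₀)⁻¹ : Lˣ) : L) = c₀ * σ (c₀⁻¹) := by
    rw [inv_inv]
    rfl
  rw [h1, map_inv₀]
  have h2 : σ c₀ ≠ 0 := by
    intro h0
    have h3 := hc σ
    rw [h0, mul_zero] at h3
    exact hc₀ h3.symm
  have h4 : (a σ : L) = c₀ / σ c₀ := by
    rw [eq_div_iff h2]
    exact hc σ
  rw [h4, div_eq_mul_inv]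

end Groth.Agent.S13195
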