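import Groth.Statements.S13200
import Groth.Agent.Lib.CplNormalLocal51
import Groth.Agent.Lib.QuotFormalFibres98
import Groth.Agent.Lib.H87DVRJap2
import Groth.Agent.Lib.H14ComplFlat2
import Groth.Agent.Lib.HenselIntegralLocal
-- import your own Groth.Agent.* helpers here

set_option autoImplicit false
set_option linter.style.haveILetI false
universe u
open Hensel
open scoped TensorProduct

namespace Groth.Agent.S13200

/-- Let R be an excellent local ring which is strictly henselian (henselian with separably closed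
residue field), and let R^ denote its completion at the maximal ideal. An element Δ of R is a prime
element of R exactly when its image in R^ is a prime element of R^. -/
theorem result
    (R : Type u) [CommRing R] [HenselianLocalRing R] [IsSepClosed (IsLocalRing.ResidueField R)]
    (hR : EGA4.IsExcellent R) (Δ : R) :
    Prime Δ ↔ Prime (algebraMap R (AdicCompletion (IsLocalRing.maximalIdeal R) R) Δ) := by
  haveI : IsNoetherianRing R := hR.1
  haveI hflat : Module.Flat R (AdicCompletion (IsLocalRing.maximalIdeal R) R) :=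
    AdicCompletion.flat_of_isNoetherian _
  haveI hff : Module.FaithfullyFlat R (AdicCompletion (IsLocalRing.maximalIdeal R) R) :=
    Module.FaithfullyFlat.of_flat_of_isLocalHom
  have hinj : Function.Injective
      (algebraMap R (AdicCompletion (IsLocalRing.maximalIdeal R) R)) :=
    FaithfulSMul.algebraMap_injective R _
  have hGN : EGA4.HasGeomNormalFormalFibres R := by
    have h1 := Groth.Agent.Lib.H87DVRJap.isRegularHom_cpl_of_isGRing R hR.2.2.1
    have h2 := Groth.Agent.Lib.H14ComplFlat.isNormalHom_of_isRegularHom _ _ h1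
    exact fun p _ => h2.2 p
  set φ₀ := algebraMap R (AdicCompletion (IsLocalRing.maximalIdeal R) R) with hφ₀
  constructor
  · intro hΔ
    have hΔ0 : Δ ≠ 0 := hΔ.ne_zero
    haveI hIprime : (Ideal.span {Δ}).IsPrime := (Ideal.span_singleton_prime hΔ0).mpr hΔ
    haveI : IsDomain (R ⧸ Ideal.span {Δ}) := Ideal.Quotient.isDomain _
    haveI : Algebra.IsIntegral R (R ⧸ Ideal.span {Δ}) :=
      Algebra.IsIntegral.of_surjective (Ideal.Quotient.mkₐ R (Ideal.span {Δ}))
        Ideal.Quotient.mk_surjective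
    haveI : HenselianLocalRing (R ⧸ Ideal.span {Δ}) :=
      Groth.Agent.Lib.HenselIntegralLocal.henselianLocalRing_of_isIntegral R _
    have hGN' : EGA4.HasGeomNormalFormalFibres (R ⧸ Ideal.span {Δ}) :=
      Groth.Agent.Lib.QuotFormalFibres98.hasGeomNormalFormalFibres_quotient R _ hGN
    haveI hdom : IsDomain (EGA4.Cpl (R ⧸ Ideal.span {Δ})) :=
      Groth.Agent.Lib.CplNormalLocal51.isDomain_cpl_of_henselian _ hGN'
    obtain ⟨alg, tower, hpush⟩ :=
      Groth.Agent.Lib.QuotFormalFibres98.exists_pushout R (Ideal.span {Δ})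
    -- kernel of `Â → (R/Δ)^`
    have hker : ∀ x : EGA4.Cpl R, algebraMap (EGA4.Cpl R) (EGA4.Cpl (R ⧸ Ideal.span {Δ})) x = 0 →
        φ₀ Δ ∣ x := by
      intro x hx
      have h1 : (1 : R ⧸ Ideal.span {Δ}) ⊗ₜ[R] x = 0 := by
        rw [← Algebra.IsPushout.equiv_symm_algebraMap_right (R := R) (S := R ⧸ Ideal.span {Δ})
          (R' := EGA4.Cpl R) (S' := EGA4.Cpl (R ⧸ Ideal.span {Δ})) x, hx, map_zero]
      have h2 := congrArg (TensorProduct.quotTensorEquivQuotSMul (EGA4.Cpl R) (Ideal.span {Δ})) h1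
      rw [← map_one (Ideal.Quotient.mk (Ideal.span {Δ})),
        TensorProduct.quotTensorEquivQuotSMul_mk_tmul, map_zero,
        one_smul, Submodule.Quotient.mk_eq_zero] at h2
      refine Submodule.smul_induction_on h2 (fun i hi y _ => ?_) (fun a b ha hb => dvd_add ha hb)
      obtain ⟨r, rfl⟩ := Ideal.mem_span_singleton'.mp hi
      rw [Algebra.smul_def, map_mul]
      exact Dvd.dvd.mul_right (Dvd.intro_left _ rfl) _
    have hΔker : algebraMap (EGA4.Cpl R) (EGA4.Cpl (R ⧸ Ideal.span {Δ})) (φ₀ Δ) = 0 := by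
      rw [hφ₀, ← IsScalarTower.algebraMap_apply R (EGA4.Cpl R) (EGA4.Cpl (R ⧸ Ideal.span {Δ})),
        IsScalarTower.algebraMap_apply R (R ⧸ Ideal.span {Δ}) (EGA4.Cpl (R ⧸ Ideal.span {Δ}))]
      have : algebraMap R (R ⧸ Ideal.span {Δ}) Δ = 0 :=
        Ideal.Quotient.eq_zero_iff_mem.mpr (Ideal.subset_span rfl)
      rw [this, map_zero]
    refine ⟨fun h => hΔ0 (hinj (by rw [h, map_zero])), ?_, ?_⟩
    · intro hu
      have := hu.map (algebraMap (EGA4.Cpl R) (EGA4.Cpl (R ⧸ Ideal.span {Δ})))
      rw [hΔker] at this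
      exact not_isUnit_zero this
    · intro a b hab
      obtain ⟨c, hc⟩ := hab
      have h0 : algebraMap (EGA4.Cpl R) (EGA4.Cpl (R ⧸ Ideal.span {Δ})) a *
          algebraMap (EGA4.Cpl R) (EGA4.Cpl (R ⧸ Ideal.span {Δ})) b = 0 := by
        rw [← map_mul, hc, map_mul, hΔker, zero_mul]
      rcases mul_eq_zero.mp h0 with h | h
      · exact Or.inl (hker a h)
      · exact Or.inr (hker b h)
  · intro hΔ
    have hdvd : ∀ a : R, φ₀ Δ ∣ φ₀ a → Δ ∣ a := by
      intro a ha
      have h1 : a ∈ ((Ideal.span {Δ}).map φ₀).comap φ₀ := by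
        rw [Ideal.mem_comap, Ideal.map_span, Set.image_singleton]
        exact Ideal.mem_span_singleton.mpr ha
      rw [Ideal.comap_map_eq_self_of_faithfullyFlat] at h1
      exact Ideal.mem_span_singleton.mp h1
    refine ⟨fun h => hΔ.ne_zero (by rw [h, map_zero]), fun hu => hΔ.not_isUnit (hu.map φ₀), ?_⟩
    intro a b hab
    have : φ₀ Δ ∣ φ₀ a * φ₀ b := by
      rw [← map_mul]
      exact map_dvd φ₀ hab
    rcases hΔ.dvd_or_dvd this with h | h
    · exact Or.inl (hdvd a h)
    · exact Or.inr (hdvd b h)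

end Groth.Agent.S13200
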