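import Mathlib
import Groth.Statements.S13203

set_option autoImplicit false
universe u
open CategoryTheory AlgebraicGeometry
open Neron

namespace Groth.Agent.S13203

section Helpers

open CategoryTheory.Limits

variable {S S' : Scheme.{u}} (g : S' ⟶ S) (U : S.Opens) (N : Over S) (Y' : Over S')

/-- the map `Y' ×_S U ⟶ g⁻¹U`. -/
noncomputable def u' : pullback (Y'.hom ≫ g) U.ι ⟶ (g ⁻¹ᵁ U).toScheme :=
  (isPullback_morphismRestrict g U).lift (pullback.snd _ _) (pullback.fst _ _ ≫ Y'.hom)
    (by rw [← pullback.condition, Category.assoc])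

theorem u'_ι : u' g U Y' ≫ (g ⁻¹ᵁ U).ι = pullback.fst _ _ ≫ Y'.hom :=
  (isPullback_morphismRestrict g U).lift_snd _ _ _

theorem u'_res : u' g U Y' ≫ (g ∣_ U) = pullback.snd _ _ :=
  (isPullback_morphismRestrict g U).lift_fst _ _ _

/-- `θ : Y' ×_S U ⟶ Y' ×_{S'} g⁻¹U`. -/
noncomputable def θ : pullback (Y'.hom ≫ g) U.ι ⟶ pullback Y'.hom (g ⁻¹ᵁ U).ι :=
  pullback.lift (pullback.fst _ _) (u' g U Y') (u'_ι g U Y').symm

/-- `θ⁻¹`. -/
noncomputable def θinv : pullback Y'.hom (g ⁻¹ᵁ U).ι ⟶ pullback (Y'.hom ≫ g) U.ι :=
  pullback.lift (pullback.fst _ _) (pullback.snd _ _ ≫ (g ∣_ U)) (by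
    rw [Category.assoc, (isPullback_morphismRestrict g U).w, ← Category.assoc, ← Category.assoc,
      pullback.condition])

theorem θinv_θ : θinv g U Y' ≫ θ g U Y' = 𝟙 _ := by
  apply pullback.hom_ext
  · rw [Category.id_comp, Category.assoc]
    simp only [θ, pullback.lift_fst]
    simp only [θinv, pullback.lift_fst]
  · rw [Category.id_comp, Category.assoc]
    simp only [θ, pullback.lift_snd]
    rw [← cancel_mono (g ⁻¹ᵁ U).ι, Category.assoc, u'_ι, ← Category.assoc]
    simp only [θinv, pullback.lift_fst]
    exact pullback.condition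

/-- `π : (N ×_S S') ×_{S'} g⁻¹U ⟶ N ×_S U`. -/
noncomputable def π : pullback (pullback.snd N.hom g) (g ⁻¹ᵁ U).ι ⟶ pullback N.hom U.ι :=
  pullback.lift (pullback.fst _ _ ≫ pullback.fst _ _) (pullback.snd _ _ ≫ (g ∣_ U)) (by
    rw [Category.assoc, Category.assoc, pullback.condition, (isPullback_morphismRestrict g U).w,
      ← Category.assoc, ← Category.assoc, pullback.condition])

/-- the adjunct `g_! Y' ⟶ N` of `f : Y' ⟶ g^* N`. -/
noncomputable def adj (f : Y' ⟶ (Over.pullback g).obj N) : (Over.map g).obj Y' ⟶ N :=
  Over.homMk (f.left ≫ pullback.fst N.hom g) (by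
    have h := Over.w f
    change f.left ≫ pullback.snd N.hom g = Y'.hom at h
    change (f.left ≫ pullback.fst N.hom g) ≫ N.hom = Y'.hom ≫ g
    rw [Category.assoc, pullback.condition, ← Category.assoc, h])

theorem pullback_map_left_fst' {T T' : Scheme.{u}} (q : T' ⟶ T) {A B : Over T} (k : A ⟶ B) :
    ((Over.pullback q).map k).left ≫ pullback.fst B.hom q = pullback.fst A.hom q ≫ k.left := by
  dsimp only [Over.pullback]; exact pullback.lift_fst _ _ _

theorem pullback_map_left_snd' {T T' : Scheme.{u}} (q : T' ⟶ T) {A B : Over T} (k : A ⟶ B) :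
    ((Over.pullback q).map k).left ≫ pullback.snd B.hom q = pullback.snd A.hom q := by
  dsimp only [Over.pullback]; exact pullback.lift_snd _ _ _

/-- Key compatibility (★). -/
theorem star (f : Y' ⟶ (Over.pullback g).obj N) :
    ((Over.pullback U.ι).map (adj g N Y' f)).left =
      θ g U Y' ≫ ((Over.pullback (g ⁻¹ᵁ U).ι).map f).left ≫ π g U N := by
  apply pullback.hom_ext
  · rw [pullback_map_left_fst']
    simp only [Category.assoc, π, pullback.lift_fst]
    rw [← Category.assoc ((Over.pullback (g ⁻¹ᵁ U).ι).map f).left]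
    erw [pullback_map_left_fst' (g ⁻¹ᵁ U).ι f]
    simp only [Category.assoc]
    rw [← Category.assoc (θ g U Y')]
    simp only [θ, pullback.lift_fst]
    rfl
  · rw [pullback_map_left_snd']
    simp only [Category.assoc, π, pullback.lift_snd]
    rw [← Category.assoc ((Over.pullback (g ⁻¹ᵁ U).ι).map f).left]
    erw [pullback_map_left_snd' (g ⁻¹ᵁ U).ι f]
    rw [← Category.assoc (θ g U Y')]
    simp only [θ, pullback.lift_snd]
    exact (u'_res g U Y').symm

end Helpers

/-- Let S be a scheme, U ⊆ S a schematically dense open subscheme and N → S a smooth S-scheme with the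
Néron mapping property with respect to U: for every smooth S-scheme Y, sending an S-morphism Y → N
to its restriction Y ×_S U → N ×_S U is a bijection onto the U-morphisms. Then for every smooth
morphism g : S' → S the base change N ×_S S' → S' (again smooth) has the Néron mapping property with
respect to g⁻¹(U): for every smooth S'-scheme Y', restriction to g⁻¹(U) is a bijection from
S'-morphisms Y' → N ×_S S' onto g⁻¹(U)-morphisms. (The published statement is for models which are
algebraic spaces, tested against smooth algebraic spaces, and also says that separatedness is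
preserved; this row states the case of a smooth scheme model tested against smooth schemes.) -/
theorem result
    {S S' : Scheme.{u}} (g : S' ⟶ S) [Smooth g]
    (U : S.Opens) (hU : CInt.IsSchematicallyDense U) (N : Over S) [Smooth N.hom]
    (hN : ∀ Y : Over S, Smooth Y.hom →
      Function.Bijective (fun f : Y ⟶ N => (Over.pullback U.ι).map f))
    (Y' : Over S') [Smooth Y'.hom] :
    Function.Bijective (fun f : Y' ⟶ (Over.pullback g).obj N => (Over.pullback (g ⁻¹ᵁ U).ι).map f) := by
  have hsm : Smooth ((Over.map g).obj Y').hom := by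
    change Smooth (Y'.hom ≫ g); infer_instance
  constructor
  · intro f₁ f₂ h
    dsimp only at h
    have h1 : (Over.pullback U.ι).map (Groth.Agent.S13203.adj g N Y' f₁) =
        (Over.pullback U.ι).map (Groth.Agent.S13203.adj g N Y' f₂) := by
      apply Over.OverMorphism.ext
      rw [Groth.Agent.S13203.star, Groth.Agent.S13203.star, h]
    have h2 := (hN _ hsm).1 h1
    apply Over.OverMorphism.ext
    apply Limits.pullback.hom_ext
    · exact congrArg (fun m => m.left) h2
    · have w1 := Over.w f₁
      have w2 := Over.w f₂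
      exact w1.trans w2.symm
  · intro k
    have wk : k.left ≫ Limits.pullback.snd (Limits.pullback.snd N.hom g) (g ⁻¹ᵁ U).ι =
        Limits.pullback.snd Y'.hom (g ⁻¹ᵁ U).ι := Over.w k
    let hU : (Over.pullback U.ι).obj ((Over.map g).obj Y') ⟶ (Over.pullback U.ι).obj N :=
      Over.homMk (Groth.Agent.S13203.θ g U Y' ≫ k.left ≫ Groth.Agent.S13203.π g U N) (by
        change (Groth.Agent.S13203.θ g U Y' ≫ k.left ≫ Groth.Agent.S13203.π g U N) ≫
          Limits.pullback.snd _ _ = Limits.pullback.snd _ _
        simp only [Category.assoc, Groth.Agent.S13203.π, Limits.pullback.lift_snd]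
        rw [← Category.assoc k.left, wk, ← Category.assoc]
        simp only [Groth.Agent.S13203.θ, Limits.pullback.lift_snd]
        exact Groth.Agent.S13203.u'_res g U Y')
    obtain ⟨h, hh⟩ := (hN _ hsm).2 hU
    dsimp only at hh
    have wh : h.left ≫ N.hom = Y'.hom ≫ g := Over.w h
    have h3 : Limits.pullback.fst (Y'.hom ≫ g) U.ι ≫ h.left =
        Groth.Agent.S13203.θ g U Y' ≫ k.left ≫ Groth.Agent.S13203.π g U N ≫
          Limits.pullback.fst N.hom U.ι := by
      have := congrArg (fun m => m.left ≫ Limits.pullback.fst N.hom U.ι) hh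
      rw [Groth.Agent.S13203.pullback_map_left_fst'] at this
      refine this.trans ?_
      simp only [hU, Over.homMk_left, Category.assoc]
    have h4 : Limits.pullback.fst Y'.hom (g ⁻¹ᵁ U).ι ≫ h.left =
        k.left ≫ Limits.pullback.fst (Limits.pullback.snd N.hom g) (g ⁻¹ᵁ U).ι ≫
          Limits.pullback.fst N.hom g := by
      have e1 : Groth.Agent.S13203.θinv g U Y' ≫ Limits.pullback.fst (Y'.hom ≫ g) U.ι =
          Limits.pullback.fst Y'.hom (g ⁻¹ᵁ U).ι := by
        simp only [Groth.Agent.S13203.θinv, Limits.pullback.lift_fst]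
      have e2 : Groth.Agent.S13203.π g U N ≫ Limits.pullback.fst N.hom U.ι =
          Limits.pullback.fst (Limits.pullback.snd N.hom g) (g ⁻¹ᵁ U).ι ≫
            Limits.pullback.fst N.hom g := by
        simp only [Groth.Agent.S13203.π, Limits.pullback.lift_fst]
      rw [← e1, Category.assoc, h3, ← Category.assoc, Groth.Agent.S13203.θinv_θ, Category.id_comp,
        e2]
    refine ⟨Over.homMk (Limits.pullback.lift h.left Y'.hom wh) (Limits.pullback.lift_snd _ _ _), ?_⟩
    apply Over.OverMorphism.ext
    apply Limits.pullback.hom_ext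
    · rw [Groth.Agent.S13203.pullback_map_left_fst']
      apply Limits.pullback.hom_ext
      · rw [Category.assoc, Category.assoc]
        change Limits.pullback.fst Y'.hom (g ⁻¹ᵁ U).ι ≫
          Limits.pullback.lift h.left Y'.hom wh ≫ Limits.pullback.fst N.hom g = _
        rw [Limits.pullback.lift_fst]
        exact h4
      · rw [Category.assoc, Category.assoc]
        change Limits.pullback.fst Y'.hom (g ⁻¹ᵁ U).ι ≫
          Limits.pullback.lift h.left Y'.hom wh ≫ Limits.pullback.snd N.hom g = _
        rw [Limits.pullback.lift_snd]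
        have c := Limits.pullback.condition (f := Limits.pullback.snd N.hom g) (g := (g ⁻¹ᵁ U).ι)
        refine Eq.trans Limits.pullback.condition ?_
        refine Eq.trans ?_ (congrArg (fun m => k.left ≫ m) c).symm
        rw [← Category.assoc, wk]
    · rw [Groth.Agent.S13203.pullback_map_left_snd']
      exact wk.symm

end Groth.Agent.S13203
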