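import Groth.Statements.S13204
import Mathlib
import Groth.Agent.Lib.DvrDominating

set_option autoImplicit false
universe u
open Neron

namespace Groth.Agent.S13204

section helpers
open Polynomial IsLocalRing

/-- Gauss lemma consequence: a polynomial killed by `Δ₁/Δ₂` (coprime non-units) reduces to zero
modulo the maximal ideal. -/
lemma map_residue_eq_zero {R : Type*} [CommRing R] [IsDomain R] [IsLocalRing R]
    [UniqueFactorizationMonoid R] {K : Type*} [Field K] [Algebra R K] [IsFractionRing R K]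
    (Δ₁ Δ₂ : R) (h₁ : ¬ IsUnit Δ₁) (h₂ : ¬ IsUnit Δ₂) (hcop : IsRelPrime Δ₁ Δ₂) (F : R[X])
    (hF : aeval (algebraMap R K Δ₁ / algebraMap R K Δ₂) F = 0) :
    F.map (residue R) = 0 := by
  have hΔ₂ : Δ₂ ≠ 0 := by
    rintro rfl
    exact h₁ (hcop dvd_rfl (dvd_zero _))
  have hδ₂ : algebraMap R K Δ₂ ≠ 0 := by
    rwa [Ne, FaithfulSMul.algebraMap_eq_zero_iff]
  set p : R[X] := C Δ₂ * X - C Δ₁ with hp
  have hprim : p.IsPrimitive := by
    rw [isPrimitive_iff_isUnit_of_C_dvd]
    intro r hr
    have h1 : r ∣ p.coeff 1 := (C_dvd_iff_dvd_coeff r p).mp hr 1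
    have h0 : r ∣ p.coeff 0 := (C_dvd_iff_dvd_coeff r p).mp hr 0
    simp only [hp, coeff_sub, coeff_C_mul, coeff_X_one, mul_one, coeff_C_succ, sub_zero,
      coeff_X_zero, mul_zero, coeff_C_zero, zero_sub, dvd_neg] at h1 h0
    exact hcop h0 h1
  have hdvd : p.map (algebraMap R K) ∣ F.map (algebraMap R K) := by
    have h1 : p.map (algebraMap R K) =
        C (algebraMap R K Δ₂) * (X - C (algebraMap R K Δ₁ / algebraMap R K Δ₂)) := by
      simp only [hp, Polynomial.map_sub, Polynomial.map_mul, map_C, map_X, mul_sub, ← C_mul]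
      rw [mul_div_cancel₀ _ hδ₂]
    rw [h1]
    have h2 : (X - C (algebraMap R K Δ₁ / algebraMap R K Δ₂)) ∣ F.map (algebraMap R K) := by
      rw [dvd_iff_isRoot, IsRoot.def, eval_map, ← aeval_def, hF]
    exact (IsUnit.mul_left_dvd (isUnit_C.mpr hδ₂.isUnit)).mpr h2
  obtain ⟨Q, hQ⟩ := hprim.dvd_of_fraction_map_dvd_fraction_map hdvd
  rw [hQ, Polynomial.map_mul]
  have : p.map (residue R) = 0 := by
    have e1 : residue R Δ₁ = 0 := (residue_eq_zero_iff _).mpr h₁
    have e2 : residue R Δ₂ = 0 := (residue_eq_zero_iff _).mpr h₂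
    simp [hp, e1, e2]
  rw [this, zero_mul]

theorem main
    (R : Type u) [CommRing R] [IsDomain R] [IsNoetherianRing R] [UniqueFactorizationMonoid R]
    [IsLocalRing R]
    (Δ₁ Δ₂ : R) (h₁ : ¬ IsUnit Δ₁) (h₂ : ¬ IsUnit Δ₂) (hcop : IsRelPrime Δ₁ Δ₂) :
    ∃ (A : Type u) (_ : CommRing A) (_ : IsDomain A) (_ : IsDiscreteValuationRing A) (f : R →+* A),
      IsLocalHom f ∧ Function.Injective f ∧ ¬ IsUnit (f Δ₁) ∧
        ∃ u : Aˣ, (u : A) - 1 ∈ IsLocalRing.maximalIdeal A ∧ f Δ₁ = (u : A) * f Δ₂ := by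
  classical
  let K := FractionRing R
  have hΔ₂ : Δ₂ ≠ 0 := by
    rintro rfl
    exact h₁ (hcop dvd_rfl (dvd_zero _))
  have hδ₂ : algebraMap R K Δ₂ ≠ 0 := by
    rwa [Ne, FaithfulSMul.algebraMap_eq_zero_iff]
  obtain ⟨t, ht⟩ : ∃ t : K, t = algebraMap R K Δ₁ / algebraMap R K Δ₂ := ⟨_, rfl⟩
  have htδ : algebraMap R K Δ₁ = t * algebraMap R K Δ₂ := by
    rw [ht, div_mul_cancel₀ _ hδ₂]
  let ev : R[X] →+* K := (aeval t : R[X] →ₐ[R] K).toRingHom
  have hevC : ∀ r, ev (C r) = algebraMap R K r := fun r => by simp [ev]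
  have hevX : ev X = t := by simp [ev]
  let ψ : R[X] →+* ResidueField R := eval₂RingHom (residue R) 1
  have hker : ∀ F ∈ RingHom.ker ev, ψ F = 0 := by
    intro F hF
    have h0 : aeval (algebraMap R K Δ₁ / algebraMap R K Δ₂) F = 0 := by
      rw [← ht]; exact hF
    have := map_residue_eq_zero Δ₁ Δ₂ h₁ h₂ hcop F h0
    show eval₂ (residue R) 1 F = 0
    rw [← eval_map, this, eval_zero]
  let φ : (R[X] ⧸ RingHom.ker ev) →+* ResidueField R := Ideal.Quotient.lift _ ψ hker
  let ι : (R[X] ⧸ RingHom.ker ev) →+* K := RingHom.kerLift ev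
  have hι : Function.Injective ι := RingHom.kerLift_injective ev
  have : (RingHom.ker ev).IsPrime := RingHom.ker_isPrime ev
  have hφsurj : Function.Surjective φ := by
    intro y
    obtain ⟨r, rfl⟩ := residue_surjective y
    exact ⟨Ideal.Quotient.mk _ (C r), by simp [φ, ψ]⟩
  let P : Ideal (R[X] ⧸ RingHom.ker ev) := RingHom.ker φ
  have hPmax : P.IsMaximal := RingHom.ker_isMaximal_of_surjective φ hφsurj
  have : P.IsPrime := hPmax.isPrime
  let L := Localization.AtPrime P
  have hunit : ∀ y : P.primeCompl, IsUnit (ι y) := by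
    intro y
    apply IsUnit.mk0
    intro h0
    have : (y : R[X] ⧸ RingHom.ker ev) = 0 := hι (by rw [h0, map_zero])
    exact y.2 (by rw [this]; exact P.zero_mem)
  let g : L →+* K := IsLocalization.lift (M := P.primeCompl) (g := ι) hunit
  have hg : ∀ d, g (algebraMap _ L d) = ι d := fun d => IsLocalization.lift_eq hunit d
  let _ : Algebra L K := g.toAlgebra
  have halg : ∀ l : L, algebraMap L K l = g l := fun _ => rfl
  let j : R →+* L := (algebraMap _ L).comp ((Ideal.Quotient.mk (RingHom.ker ev)).comp C)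
  have hj : ∀ r, g (j r) = algebraMap R K r := by
    intro r
    simp only [j, RingHom.comp_apply, hg]
    exact hevC r
  -- essentially of finite type
  have hess : Algebra.EssFiniteType L K := by
    rw [Algebra.essFiniteType_iff]
    refine ⟨∅, fun s => ?_⟩
    obtain ⟨a, b, hb, rfl⟩ := IsFractionRing.div_surjective (A := R) s
    have hb0 : algebraMap R K b ≠ 0 := by
      rw [Ne, FaithfulSMul.algebraMap_eq_zero_iff]; exact nonZeroDivisors.ne_zero hb
    refine ⟨algebraMap R K b, ?_, hb0.isUnit, ?_⟩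
    · rw [← hj]; exact Subalgebra.algebraMap_mem _ (j b)
    · rw [div_mul_cancel₀ _ hb0, ← hj]; exact Subalgebra.algebraMap_mem _ (j a)
  have hmemP : ∀ r : R, ¬ IsUnit r → Ideal.Quotient.mk (RingHom.ker ev) (C r) ∈ P := by
    intro r hr
    show φ _ = 0
    simp only [φ, ψ, Ideal.Quotient.lift_mk, coe_eval₂RingHom, eval₂_C]
    exact (residue_eq_zero_iff _).mpr hr
  have hjmax : ∀ r : R, ¬ IsUnit r → j r ∈ maximalIdeal L := fun r hr =>
    (IsLocalization.AtPrime.to_map_mem_maximal_iff L P _).mpr (hmemP r hr)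
  have hR : ∃ x ∈ maximalIdeal L, algebraMap L K x ≠ 0 :=
    ⟨j Δ₂, hjmax _ h₂, by rw [halg, hj]; exact hδ₂⟩
  obtain ⟨V, hV, h, hloc⟩ := Groth.Agent.Lib.DvrDominating.exists_dvr_dominating L K hR
  let φL : L →+* V := (algebraMap L K).codRestrict V.toSubring h
  have hlocL : IsLocalHom φL := hloc
  let f : R →+* V := φL.comp j
  have hf : ∀ r, ((f r : V) : K) = algebraMap R K r := fun r => hj r
  have hfloc : IsLocalHom f := by
    constructor
    intro r hr
    by_contra hru
    have h1 : j r ∈ maximalIdeal L := hjmax r hru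
    have h2 : IsUnit (j r) := hlocL.map_nonunit (j r) hr
    exact h1 h2
  -- the element t
  let tL : L := algebraMap _ L (Ideal.Quotient.mk (RingHom.ker ev) X)
  have htL : g tL = t := by rw [hg]; exact hevX
  have htL1 : tL - 1 ∈ maximalIdeal L := by
    have : tL - 1 = algebraMap _ L (Ideal.Quotient.mk (RingHom.ker ev) (X - 1)) := by
      simp [tL]
    rw [this]
    refine (IsLocalization.AtPrime.to_map_mem_maximal_iff L P _).mpr ?_
    show φ _ = 0
    simp [φ, ψ]
  have htV1 : φL tL - 1 ∈ maximalIdeal V := by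
    have : φL tL - 1 = φL (tL - 1) := by rw [map_sub, map_one]
    rw [this]
    intro hu
    exact htL1 (hlocL.map_nonunit _ hu)
  have htVu : IsUnit (φL tL) := by
    by_contra hnu
    have h1 : φL tL ∈ maximalIdeal V := hnu
    have : (1 : V) ∈ maximalIdeal V := by
      have := Ideal.sub_mem _ h1 htV1
      simpa using this
    exact (Ideal.ne_top_iff_one _).mp (maximalIdeal.isMaximal V).ne_top this
  refine ⟨V, inferInstance, inferInstance, hV, f, hfloc, ?_, ?_, htVu.unit, ?_, ?_⟩
  · intro a b hab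
    have : algebraMap R K a = algebraMap R K b := by rw [← hf, ← hf, hab]
    exact FaithfulSMul.algebraMap_injective R K this
  · intro hu
    exact h₁ (hfloc.map_nonunit _ hu)
  · rw [IsUnit.unit_spec]; exact htV1
  · rw [IsUnit.unit_spec]
    apply Subtype.ext
    show ((f Δ₁ : V) : K) = ((φL tL : V) : K) * ((f Δ₂ : V) : K)
    rw [hf, hf]
    show _ = g tL * _
    rw [htL, htδ]

end helpers


/-- Let R be a strictly henselian Noetherian local unique factorization domain and Δ₁, Δ₂ two non-units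
of R with no common prime factor. Then there are a discrete valuation ring A and an injective local
homomorphism f : R → A — so that Spec A → Spec R sends the closed point to the closed point and the
generic point to the generic point, which lies in every dense open subset — such that f(Δ₁) is a
non-zero non-unit and f(Δ₁) = u · f(Δ₂) for some unit u of A congruent to 1 modulo the maximal
ideal. (The published statement asks for the images of Δ₁ and Δ₂ in A to be equal, with the generic
point of Spec A sent into a given dense open subset of Spec R; that cannot hold in general — for R =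
ℂ[[a,b]], Δ₁ = a, Δ₂ = b and the dense open D(a − b), any local map to a discrete valuation ring
identifying a and b sends the generic point into V(a − b) — so this row asks instead for f(Δ₁) = u ·
f(Δ₂) with u a unit congruent to 1 modulo the maximal ideal.) -/
theorem result
    (R : Type u) [CommRing R] [IsDomain R] [IsNoetherianRing R] [UniqueFactorizationMonoid R]
    [HenselianLocalRing R] [IsSepClosed (IsLocalRing.ResidueField R)]
    (Δ₁ Δ₂ : R) (h₁ : ¬ IsUnit Δ₁) (h₂ : ¬ IsUnit Δ₂) (hcop : IsRelPrime Δ₁ Δ₂) :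
    ∃ (A : Type u) (_ : CommRing A) (_ : IsDomain A) (_ : IsDiscreteValuationRing A) (f : R →+* A),
      IsLocalHom f ∧ Function.Injective f ∧ ¬ IsUnit (f Δ₁) ∧
        ∃ u : Aˣ, (u : A) - 1 ∈ IsLocalRing.maximalIdeal A ∧ f Δ₁ = (u : A) * f Δ₂ := by
  exact main R Δ₁ Δ₂ h₁ h₂ hcop

end Groth.Agent.S13204
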