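import Groth.Statements.S13206
-- import your own Groth.Agent.* helpers here


set_option autoImplicit false
universe u
open CategoryTheory AlgebraicGeometry
open AlgGrp

namespace Groth.Agent.S13206

open CategoryTheory.Limits

/-- Let X → S be a separated morphism of schemes and let a finite group G act on X through
S-automorphisms. Then the functor of G-fixed points is represented by a closed subscheme of X: there
are a scheme Z and a closed immersion i : Z → X with i ∘ g = i for all g ∈ G such that every
morphism x : T → X with g ∘ x = x for all g ∈ G factors uniquely through i. (The published statement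
is for an algebraic space X over S, also treats the locally separated case and notes compatibility
with base change; this row is the separated case for schemes.) -/
theorem result
    {X S : Scheme.{u}} (p : X ⟶ S) [IsSeparated p]
    (G : Type u) [Group G] [Finite G] (ρ : G →* Aut X) (hρ : ∀ g : G, (ρ g).hom ≫ p = p) :
    ∃ (Z : Scheme.{u}) (i : Z ⟶ X), IsClosedImmersion i ∧ (∀ g : G, i ≫ (ρ g).hom = i) ∧
      ∀ (T : Scheme.{u}) (x : T ⟶ X), (∀ g : G, x ≫ (ρ g).hom = x) → ∃! z : T ⟶ Z, z ≫ i = x := by
  classical
  -- the graph-type morphism `(ρ g, 𝟙) : X ⟶ X ×_S X`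
  let γ : ∀ g : G, X ⟶ pullback p p := fun g =>
    pullback.lift (ρ g).hom (𝟙 X) (by rw [hρ g, Category.id_comp])
  -- the equalizer of `ρ g` and `𝟙`, as a closed subscheme
  let j : ∀ g : G, pullback (pullback.diagonal p) (γ g) ⟶ X := fun g => pullback.snd _ _
  have hj : ∀ g, IsClosedImmersion (j g) := fun g => inferInstance
  have hfac : ∀ (g : G) (T : Scheme.{u}) (x : T ⟶ X),
      x ≫ (ρ g).hom = x ↔ ∃ z : T ⟶ pullback (pullback.diagonal p) (γ g), z ≫ j g = x := by
    intro g T x
    constructor
    · intro hx
      refine ⟨pullback.lift x x ?_, pullback.lift_snd _ _ _⟩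
      apply pullback.hom_ext
      · rw [Category.assoc, pullback.diagonal_fst, Category.comp_id, Category.assoc,
          pullback.lift_fst, hx]
      · rw [Category.assoc, pullback.diagonal_snd, Category.comp_id, Category.assoc,
          pullback.lift_snd, Category.comp_id]
    · rintro ⟨z, rfl⟩
      have h1 : j g ≫ γ g = pullback.fst _ _ ≫ pullback.diagonal p := pullback.condition.symm
      have hγ1 : γ g ≫ pullback.fst p p = (ρ g).hom := pullback.lift_fst _ _ _
      have hγ2 : γ g ≫ pullback.snd p p = 𝟙 X := pullback.lift_snd _ _ _
      have h2 : j g ≫ (ρ g).hom = pullback.fst _ _ := by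
        calc j g ≫ (ρ g).hom = (j g ≫ γ g) ≫ pullback.fst p p := by
              rw [Category.assoc, hγ1]
          _ = (pullback.fst _ _ ≫ pullback.diagonal p) ≫ pullback.fst p p := by rw [h1]
          _ = pullback.fst _ _ := by
              rw [Category.assoc, pullback.diagonal_fst, Category.comp_id]
      have h3 : j g = pullback.fst _ _ := by
        calc j g = (j g ≫ γ g) ≫ pullback.snd p p := by
              rw [Category.assoc, hγ2, Category.comp_id]
          _ = (pullback.fst _ _ ≫ pullback.diagonal p) ≫ pullback.snd p p := by rw [h1]
          _ = pullback.fst _ _ := by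
              rw [Category.assoc, pullback.diagonal_snd, Category.comp_id]
      rw [Category.assoc, h2, ← h3]
  let I : X.IdealSheafData := ⨆ g : G, (j g).ker
  refine ⟨I.subscheme, I.subschemeι, inferInstance, ?_, ?_⟩
  · intro g
    have hle : (j g).ker ≤ I.subschemeι.ker := by
      rw [Scheme.IdealSheafData.ker_subschemeι]
      exact le_iSup (fun g : G => (j g).ker) g
    exact (hfac g _ _).mpr ⟨IsClosedImmersion.lift (j g) I.subschemeι hle,
      IsClosedImmersion.lift_fac _ _ _⟩
  · intro T x hx
    have hle : I.subschemeι.ker ≤ x.ker := by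
      rw [Scheme.IdealSheafData.ker_subschemeι]
      refine iSup_le fun g => ?_
      obtain ⟨z, hz⟩ := (hfac g T x).mp (hx g)
      rw [← hz]
      exact Scheme.Hom.le_ker_comp z (j g)
    refine ⟨IsClosedImmersion.lift I.subschemeι x hle, IsClosedImmersion.lift_fac _ _ _, ?_⟩
    intro z hz
    rw [← cancel_mono I.subschemeι, hz, IsClosedImmersion.lift_fac]

end Groth.Agent.S13206
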