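import Groth.Statements.S13209
import Groth.Agent.Lib.H69AlgSpColim
import Groth.Agent.Lib.AlgSpBasic

set_option autoImplicit false
universe u
open CategoryTheory CategoryTheory.Limits AlgebraicGeometry
open Neron

namespace Groth.Agent.S13209


open AlgSp Groth.Agent.Lib.H69AlgSp Groth.Agent.Lib.H69AlgSpColim

section Abstract

variable {C : Type*} [Category C] [HasBinaryProducts C]

/-- Descent of the "restriction to `- ⨯ T` is bijective on maps to `M`" property along an effective
epimorphism `p` with a weak kernel pair `(K, k1, k2)`. -/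
theorem descend_bij {T M G' G K : C} (p : G' ⟶ G) [EffectiveEpi p]
    (hpT : Epi (prod.map p (𝟙 T)))
    (k1 k2 : K ⟶ G') (hk : k1 ≫ p = k2 ≫ p)
    (hK : ∀ {Z : C} (g1 g2 : Z ⟶ G'), g1 ≫ p = g2 ≫ p → ∃ l : Z ⟶ K, l ≫ k1 = g1 ∧ l ≫ k2 = g2)
    (hG' : Function.Bijective (fun φ : G' ⟶ M => (prod.fst : G' ⨯ T ⟶ G') ≫ φ))
    (hKinj : Function.Injective (fun φ : K ⟶ M => (prod.fst : K ⨯ T ⟶ K) ≫ φ)) :
    Function.Bijective (fun φ : G ⟶ M => (prod.fst : G ⨯ T ⟶ G) ≫ φ) := by
  haveI : Epi p := inferInstance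
  constructor
  · intro φ1 φ2 h
    dsimp only at h
    rw [← cancel_epi p]
    apply hG'.1
    dsimp only
    rw [← prod.map_fst_assoc p (𝟙 T), ← prod.map_fst_assoc p (𝟙 T), h]
  · intro ψ
    obtain ⟨a, ha⟩ := hG'.2 (prod.map p (𝟙 T) ≫ ψ)
    dsimp only at ha
    have hk12 : k1 ≫ a = k2 ≫ a := by
      apply hKinj
      dsimp only
      rw [← prod.map_fst_assoc k1 (𝟙 T), ← prod.map_fst_assoc k2 (𝟙 T), ha, ← Category.assoc,
        ← Category.assoc, prod.map_map, prod.map_map, hk]
    have hcoeq : ∀ {Z : C} (g1 g2 : Z ⟶ G'), g1 ≫ p = g2 ≫ p → g1 ≫ a = g2 ≫ a := by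
      intro Z g1 g2 h
      obtain ⟨l, rfl, rfl⟩ := hK g1 g2 h
      rw [Category.assoc, Category.assoc, hk12]
    refine ⟨EffectiveEpi.desc p a hcoeq, ?_⟩
    dsimp only
    rw [← cancel_epi (prod.map p (𝟙 T)), prod.map_fst_assoc, EffectiveEpi.fac, ha]

/-- `p ⨯ 𝟙` is the base change of `p` along the first projection. -/
theorem isPullback_prod_map {T G' G : C} (p : G' ⟶ G) :
    IsPullback (prod.fst : G' ⨯ T ⟶ G') (prod.map p (𝟙 T)) p (prod.fst : G ⨯ T ⟶ G) := by
  refine ⟨⟨(prod.map_fst p (𝟙 T)).symm⟩, ⟨PullbackCone.IsLimit.mk _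
    (fun s => prod.lift s.fst (s.snd ≫ prod.snd)) (fun s => prod.lift_fst _ _) (fun s => ?_)
    (fun s m h1 h2 => ?_)⟩⟩
  · apply Limits.prod.hom_ext
    · rw [Category.assoc, prod.map_fst, prod.lift_fst_assoc, s.condition]
    · rw [Category.assoc, prod.map_snd, Category.comp_id, prod.lift_snd]
  · apply Limits.prod.hom_ext
    · rw [prod.lift_fst, h1]
    · rw [prod.lift_snd, ← h2, Category.assoc, prod.map_snd, Category.comp_id]

end Abstract


/-- Let S be a scheme, U ⊆ S a schematically dense open subscheme and N → S a smooth S-scheme with the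
Néron mapping property for schemes with respect to U: for every smooth S-scheme Y, composition with
the projection Y ×_S U → Y is a bijection from S-morphisms Y → N onto S-morphisms Y ×_S U → N
(equivalently, onto U-morphisms Y ×_S U → N ×_S U). Then N also has the Néron mapping property with
respect to smooth algebraic spaces: for every algebraic space F over S (an fppf sheaf of sets on
S-schemes with representable diagonal and an étale surjective chart from a scheme) whose structure
map to h_S is smooth, composition with the first projection F × h_U → F is a bijection from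
morphisms of sheaves F → h_N onto morphisms F × h_U → h_N. -/
theorem result
    {S : Scheme.{u}} (U : S.Opens) (hU : CInt.IsSchematicallyDense U) (N : Over S) [Smooth N.hom]
    (hN : ∀ Y : Over S, Smooth Y.hom →
      Function.Bijective (fun g : Y ⟶ N => (Over.mapPullbackAdj U.ι).counit.app Y ≫ g))
    (F : AlgSp.Sp S) (hF : AlgSp.IsAlgSpace F)
    (sF : F ⟶ (AlgSp.yon S).obj (Over.mk (𝟙 S))) (hsm : AlgSp.LocP @Smooth sF) :
    Function.Bijective (fun φ : F ⟶ (AlgSp.yon S).obj N =>
      (Limits.prod.fst : F ⨯ (AlgSp.yon S).obj (Over.mk U.ι) ⟶ F) ≫ φ) := by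
  obtain ⟨V, p, hpe, hps⟩ := hF.atlas
  haveI : Epi p := epi_of_etale_surjective p hpe hps
  haveI : IsRegularEpi p := IsRegularEpiCategory.regularEpiOfEpi p
  haveI : EffectiveEpi p := inferInstance
  have hrep : AlgSp.Representable p := hpe.1
  have sq : IsPullback (hrep.fst p) ((AlgSp.yon S).map (hrep.snd p)) p p := hrep.isPullback p
  -- maps to the terminal sheaf agree
  have htermeq : ∀ {G : AlgSp.Sp S} (a b : G ⟶ (AlgSp.yon S).obj (Over.mk (𝟙 S))), a = b := by
    intro G a b
    apply hom_ext_yon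
    intro W x
    obtain ⟨a', ha'⟩ := (AlgSp.yon S).map_surjective (x ≫ a)
    obtain ⟨b', hb'⟩ := (AlgSp.yon S).map_surjective (x ≫ b)
    rw [← ha', ← hb', Over.mkIdTerminal.hom_ext a' b']
  have hVsm : Smooth V.hom := by
    have := hsm p (𝟙 _) (Over.homMk V.hom : V ⟶ Over.mk (𝟙 S)) hpe (AlgSp.repWith_id _ _)
      (htermeq _ _)
    exact this
  have hRet : Etale (hrep.snd p).left := hpe.property_snd p
  have hRsm : Smooth (hrep.pullback p).hom := by
    rw [← Over.w (hrep.snd p)]; infer_instance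
  -- the representable case
  have hrepr : ∀ Y : Over S, Smooth Y.hom →
      Function.Bijective (fun φ : (AlgSp.yon S).obj Y ⟶ (AlgSp.yon S).obj N =>
        (Limits.prod.fst : (AlgSp.yon S).obj Y ⨯ (AlgSp.yon S).obj (Over.mk U.ι) ⟶ _) ≫ φ) := by
    intro Y hY
    let Yu : Over S := (Over.pullback U.ι ⋙ Over.map U.ι).obj Y
    let c : Yu ⟶ Y := (Over.mapPullbackAdj U.ι).counit.app Y
    let d : Yu ⟶ Over.mk U.ι := Over.homMk (pullback.snd Y.hom U.ι) rfl
    let q : (AlgSp.yon S).obj Yu ⟶ (AlgSp.yon S).obj Y ⨯ (AlgSp.yon S).obj (Over.mk U.ι) :=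
      prod.lift ((AlgSp.yon S).map c) ((AlgSp.yon S).map d)
    have hq : ∀ {ψ1 ψ2 : (AlgSp.yon S).obj Y ⨯ (AlgSp.yon S).obj (Over.mk U.ι) ⟶
        (AlgSp.yon S).obj N}, q ≫ ψ1 = q ≫ ψ2 → ψ1 = ψ2 := by
      intro ψ1 ψ2 h
      apply hom_ext_yon
      intro W x
      obtain ⟨a, ha⟩ := (AlgSp.yon S).map_surjective (x ≫ prod.fst)
      obtain ⟨b, hb⟩ := (AlgSp.yon S).map_surjective (x ≫ prod.snd)
      have hw : a.left ≫ Y.hom = b.left ≫ U.ι := (Over.w a).trans (Over.w b).symm
      let l : W ⟶ Yu := Over.homMk (pullback.lift a.left b.left hw) (by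
        change pullback.lift a.left b.left hw ≫ (pullback.snd Y.hom U.ι ≫ U.ι) = W.hom
        rw [pullback.lift_snd_assoc]; exact Over.w b)
      have hl : (AlgSp.yon S).map l ≫ q = x := by
        apply Limits.prod.hom_ext
        · rw [Category.assoc, prod.lift_fst, ← Functor.map_comp, ← ha]
          congr 1
          ext
          simp [l, c]
          exact pullback.lift_fst _ _ _
        · rw [Category.assoc, prod.lift_snd, ← Functor.map_comp, ← hb]
          congr 1
          ext
          simp [l, d]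
          exact pullback.lift_snd _ _ _
      rw [← hl, Category.assoc, Category.assoc, h]
    constructor
    · intro φ1 φ2 h
      obtain ⟨g1, rfl⟩ := (AlgSp.yon S).map_surjective φ1
      obtain ⟨g2, rfl⟩ := (AlgSp.yon S).map_surjective φ2
      have h' := congrArg (q ≫ ·) h
      simp only [q, prod.lift_fst_assoc, ← Functor.map_comp] at h'
      have h2 := (AlgSp.yon S).map_injective h'
      rw [(hN Y hY).1 h2]
    · intro ψ
      obtain ⟨g', hg'⟩ := (AlgSp.yon S).map_surjective (q ≫ ψ)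
      obtain ⟨g, hg⟩ := (hN Y hY).2 g'
      refine ⟨(AlgSp.yon S).map g, hq ?_⟩
      dsimp only at hg ⊢
      rw [prod.lift_fst_assoc, ← Functor.map_comp, hg, hg']
  have hpT : Epi (prod.map p (𝟙 ((AlgSp.yon S).obj (Over.mk U.ι)))) := by
    have sqT := isPullback_prod_map (T := (AlgSp.yon S).obj (Over.mk U.ι)) p
    exact epi_of_etale_surjective _
      (Groth.Agent.Lib.AlgSpBasic.repWith_snd_of_isPullback _ sqT hpe)
      (Groth.Agent.Lib.AlgSpBasic.repWith_snd_of_isPullback _ sqT hps)
  exact descend_bij p hpT (hrep.fst p) ((AlgSp.yon S).map (hrep.snd p)) sq.w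
    (fun g1 g2 h => ⟨sq.lift g1 g2 h, sq.lift_fst _ _ _, sq.lift_snd _ _ _⟩)
    (hrepr V hVsm) (hrepr _ hRsm).1

end Groth.Agent.S13209
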