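import Groth.Statements.S13210
import Groth.Agent.Lib.H86Coprod

set_option autoImplicit false
universe u
open CategoryTheory CategoryTheory.Limits AlgebraicGeometry
open AlgGrp

namespace Groth.Agent.S13210


/-- Abstract fixed-point lemma: if the diagonal of `F` has a property `W` stable under base change and
composition, then the universal object of fixed points of finitely many endomorphisms of `F` maps to
`F` by a morphism with `W` (iterated pullback of the diagonal). -/
theorem fixed_of_diag {C : Type*} [Category C] [HasPullbacks C] [HasBinaryProducts C]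
    (W : MorphismProperty C) [W.IsStableUnderBaseChange] [W.IsMultiplicative]
    {F : C} (hΔ : W (Limits.diag F)) {G : Type*} [Finite G] (ρ : G → (F ⟶ F))
    {Z : C} (i : Z ⟶ F) (hi : ∀ g, i ≫ ρ g = i)
    (huniv : ∀ (T : C) (x : T ⟶ F), (∀ g, x ≫ ρ g = x) → ∃! z : T ⟶ Z, z ≫ i = x) : W i := by
  classical
  haveI := Fintype.ofFinite G
  have key : ∀ s : Finset G, ∃ (Zs : C) (is : Zs ⟶ F), W is ∧ Mono is ∧
      (∀ g ∈ s, is ≫ ρ g = is) ∧
      ∀ (T : C) (x : T ⟶ F), (∀ g ∈ s, x ≫ ρ g = x) → ∃ z : T ⟶ Zs, z ≫ is = x := by
    intro s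
    induction s using Finset.induction_on with
    | empty => exact ⟨F, 𝟙 F, W.id_mem F, inferInstance, by simp, fun T x _ => ⟨x, by simp⟩⟩
    | insert g s hg ih =>
      obtain ⟨Zs, is, hW, hmono, hfix, hlift⟩ := ih
      let φ : F ⟶ F ⨯ F := prod.lift (𝟙 F) (ρ g)
      let e : pullback (Limits.diag F) φ ⟶ F := pullback.snd _ _
      have hWe : W e := W.pullback_snd _ _ hΔ
      have hcond := pullback.condition (f := Limits.diag F) (g := φ)
      have he1 : pullback.fst (Limits.diag F) φ = e := by
        have h1 := congrArg (· ≫ prod.fst) hcond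
        simp only [Category.assoc, Limits.diag, prod.lift_fst, φ, Category.comp_id] at h1
        exact h1
      have he2 : e ≫ ρ g = e := by
        have h2 := congrArg (· ≫ prod.snd) hcond
        simp only [Category.assoc, Limits.diag, prod.lift_snd, φ, Category.comp_id] at h2
        rw [← h2, he1]
      have hemono : Mono e := ⟨fun a b hab => by
        apply pullback.hom_ext
        · rw [he1]; exact hab
        · exact hab⟩
      have helift : ∀ (T : C) (x : T ⟶ F), x ≫ ρ g = x →
          ∃ z : T ⟶ pullback (Limits.diag F) φ, z ≫ e = x := by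
        intro T x hx
        refine ⟨pullback.lift x x ?_, pullback.lift_snd _ _ _⟩
        ext <;> simp [φ, hx]
      refine ⟨pullback is e, pullback.fst is e ≫ is,
        W.comp_mem _ _ (W.pullback_fst _ _ hWe) hW, ?_, ?_, ?_⟩
      · haveI : Mono (pullback.fst is e) := inferInstance
        exact mono_comp _ _
      · intro h hh
        rcases Finset.mem_insert.1 hh with rfl | hh
        · rw [pullback.condition, Category.assoc, he2]
        · rw [Category.assoc, hfix h hh]
      · intro T x hx
        obtain ⟨z1, hz1⟩ := hlift T x (fun h hh => hx h (Finset.mem_insert_of_mem hh))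
        obtain ⟨z2, hz2⟩ := helift T x (hx g (Finset.mem_insert_self g s))
        exact ⟨pullback.lift z1 z2 (by rw [hz1, hz2]), by rw [pullback.lift_fst_assoc, hz1]⟩
  obtain ⟨Zs, is, hW, hmono, hfix, hlift⟩ := key Finset.univ
  obtain ⟨a, ha⟩ := hlift Z i (fun g _ => hi g)
  obtain ⟨b, hb, -⟩ := huniv Zs is (fun g => hfix g (Finset.mem_univ g))
  have hab : a ≫ b = 𝟙 Z := by
    obtain ⟨c, -, hc⟩ := huniv Z i hi
    rw [hc (a ≫ b) (by show (a ≫ b) ≫ i = i; rw [Category.assoc, hb, ha]),
      hc (𝟙 Z) (Category.id_comp _)]
  have hba : b ≫ a = 𝟙 Zs := by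
    rw [← cancel_mono is, Category.assoc, ha, hb, Category.id_comp]
  have hia : i = a ≫ is := ha.symm
  rw [hia]
  haveI : IsIso a := ⟨b, hab, hba⟩
  exact (W.cancel_left_of_respectsIso a is).2 hW


/-- Let S be a scheme, F an algebraic space over S which is separated over S, and G a finite group
acting on F by S-automorphisms. If i : Z → F exhibits the fppf sheaf Z as the sub-sheaf of G-fixed
points of F (i is G-invariant and every G-invariant morphism W → F factors uniquely through i), then
Z is an algebraic space and i is a closed immersion (representable by closed immersions). (The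
published statement also treats a locally separated F, whose fixed points form a subspace, and
compatibility with base change; this row states only the separated case.) -/
theorem result
    {S : Scheme.{u}} (F : AlgSp.Sp S) (hF : AlgSp.IsAlgSpace F) (hsep : AlgSp.IsSeparatedSp F)
    (G : Type u) [Group G] [Finite G] (ρ : G →* Aut F)
    (Z : AlgSp.Sp S) (i : Z ⟶ F) (hi : ∀ g : G, i ≫ (ρ g).hom = i)
    (huniv : ∀ (W : AlgSp.Sp S) (x : W ⟶ F), (∀ g : G, x ≫ (ρ g).hom = x) → ∃! z : W ⟶ Z, z ≫ i = x) :
    AlgSp.IsAlgSpace Z ∧ AlgSp.RepWith @IsClosedImmersion i := by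
  have h1 : AlgSp.RepWith @IsClosedImmersion i :=
    fixed_of_diag (AlgSp.RepWith @IsClosedImmersion) hsep (fun g => (ρ g).hom) i hi huniv
  exact ⟨Groth.Agent.Lib.H86Coprod.isAlgSpace_of_representable i h1.1 hF, h1⟩

end Groth.Agent.S13210
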