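import Groth.Statements.S1323
import Groth.Agent.Lib.DeformRing88
import Groth.Agent.S1304
import Groth.Agent.S1312
import Groth.Agent.S2306
import Mathlib.AlgebraicGeometry.ZariskisMainTheorem
import Mathlib.AlgebraicGeometry.Morphisms.FlatRank

set_option autoImplicit false
universe u
open FlatMor

namespace Groth.Agent.S1323

open AlgebraicGeometry CategoryTheory Limits in
/-- Let S ⟶ S' be a finite order thickening, let X' ⟶ Y' be a morphism of schemes over S' with X' flat
over S', and let X ⟶ Y be its base change to S. Then X ⟶ Y is finite locally free of rank d if and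
only if X' ⟶ Y' is. -/
theorem result (d : ℕ) {X X' Y Y' S S' : Scheme.{u}} (iX : X ⟶ X') (iY : Y ⟶ Y') (iS : S ⟶ S')
    (f : X ⟶ Y) (f' : X' ⟶ Y') (g : Y ⟶ S) (g' : Y' ⟶ S')
    (hS : MoreMor.IsFiniteOrderThickening iS) (hcX : IsPullback iX (f ≫ g) (f' ≫ g') iS) (hcY : IsPullback iY g g' iS)
    (w : iX ≫ f' = f ≫ iY) [Flat (f' ≫ g')] :
    Mor2.IsFinLocFreeOfDeg d f ↔ Mor2.IsFinLocFreeOfDeg d f' := by
  have hL := Groth.Agent.Lib.DeformBC88.isPullback_left hcX hcY w
  have hY := Groth.Agent.Lib.DeformBC88.isThickening_mid hS.1 hcY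
  have hiY : IsClosedImmersion iY := hY.1
  have hiYs : Surjective iY := hY.2
  have hiX : IsClosedImmersion iX := MorphismProperty.of_isPullback hL.flip hiY
  have hiXs : Surjective iX := MorphismProperty.of_isPullback hL.flip hiYs
  -- the rank functions agree once `f'` is finite flat
  have hrank : IsFinite f' → Flat f' →
      ((∀ y : Y, f.finrank y = d) ↔ ∀ y' : Y', f'.finrank y' = d) := by
    intro _ _
    constructor
    · intro h y'
      obtain ⟨y, rfl⟩ := hiYs.surj y'
      rw [← Scheme.Hom.finrank_of_isPullback iX f f' iY hL y]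
      exact h y
    · intro h y
      rw [Scheme.Hom.finrank_of_isPullback iX f f' iY hL y]
      exact h _
  constructor
  · rintro ⟨⟨hfin, hflat, hfp⟩, hd⟩
    have h1 : Flat f' := Groth.Agent.Lib.DeformBC88.of_ringAscent (P := @Flat)
      (RingHom.Flat.stableUnderComposition.stableUnderCompositionWithLocalizationAway
        RingHom.Flat.holdsForLocalizationAway).left
      Groth.Agent.Lib.DeformRing88.ringAscent_flat hS hcX hcY w hflat
    have h2 : LocallyOfFinitePresentation f' :=
      Groth.Agent.Lib.DeformBC88.of_ringAscent (P := @LocallyOfFinitePresentation)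
      (RingHom.finitePresentation_stableUnderComposition.stableUnderCompositionWithLocalizationAway
        RingHom.finitePresentation_holdsForLocalizationAway).left
      Groth.Agent.Lib.DeformRing88.ringAscent_finitePresentation hS hcX hcY w hfp
    have h3 : IsSeparated f' :=
      (Groth.Agent.S2306.result f' f iX iY w.symm).mpr inferInstance
    have h4 : UniversallyClosed f' :=
      (Groth.Agent.S1304.result iX iY f f' ⟨hiX, hiXs⟩ hY w).mp inferInstance
    have h5 : IsProper f' := { }
    have h6 : LocallyQuasiFinite f' :=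
      (Groth.Agent.S1312.result iX iY f f' hY hL).mp inferInstance
    have h7 : IsFinite f' := IsFinite.of_isProper_of_locallyQuasiFinite f'
    exact ⟨⟨h7, h1, h2⟩, (hrank h7 h1).mp hd⟩
  · rintro ⟨⟨hfin, hflat, hfp⟩, hd⟩
    exact ⟨⟨MorphismProperty.of_isPullback hL hfin, MorphismProperty.of_isPullback hL hflat,
      MorphismProperty.of_isPullback hL hfp⟩, (hrank hfin hflat).mpr hd⟩

end Groth.Agent.S1323
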