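import Groth.Statements.S1327
import Groth.Agent.Lib.H80SecOpenFP

set_option autoImplicit false
universe u
open FlatMor

namespace Groth.Agent.S1327

open AlgebraicGeometry CategoryTheory Limits in
/-- Let f be flat and of finite presentation with a section s, and let y be a point of the target whose
fibre is geometrically reduced. Then the section components of (f, s) contain an open neighbourhood
of the connected component of s y in the fibre over y. -/
theorem result {X Y : Scheme.{u}} (f : X ⟶ Y) (s : Y ⟶ X) (hs : s ≫ f = 𝟙 Y)
    [LocallyOfFinitePresentation f] [QuasiCompact f] [QuasiSeparated f] [Flat f] (y : Y)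
    (hy : GeometricallyReduced (f.fiberToSpecResidueField y)) :
    connectedComponentIn (f ⁻¹' {y}) (s y) ⊆ interior (MoreMor.sectionComponents f s) := by
  intro x hx
  rw [mem_interior_iff_mem_nhds]
  refine Groth.Agent.Lib.H80SecOpenFP.sectionComponents_mem_nhds_of_flat_fp f s hs y ?_ x hx
  intro ξ hξ
  have hfξ : f ξ = y := (connectedComponentIn_subset _ _ hξ : ξ ∈ f ⁻¹' {y})
  subst hfξ
  intro K _ _ x' _
  have hR : IsReduced (FBase.bc (f.fiberToSpecResidueField (f ξ)) K) :=
    hy.geometrically_isReduced (Spec.map (CommRingCat.ofHom (algebraMap _ K)))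
      (pullback.fst _ _) (pullback.snd _ _) (IsPullback.of_hasPullback _ _)
  exact inferInstance

end Groth.Agent.S1327
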