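import Groth.Statements.S1328
import Groth.Agent.Lib.H77GenClosure
import Groth.Agent.Lib.H77GenImageOpen
import Groth.Agent.Lib.H77IrredCompCount

set_option autoImplicit false
universe u
open FlatMor

namespace Groth.Agent.S1328

open AlgebraicGeometry CategoryTheory Limits in
/-- Let f be of finite type with irreducible target. If the generic fibre has exactly n irreducible
components, then over some nonempty open of the target every fibre has at least n irreducible
components. -/
theorem result {X Y : Scheme.{u}} (f : X ⟶ Y) [IrreducibleSpace ↑Y] [LocallyOfFiniteType f] [QuasiCompact f] (n : ℕ)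
    (h : (irreducibleComponents ↑(f.fiber (genericPoint ↑Y))).encard = n) :
    ∃ V : Y.Opens, (V : Set ↑Y).Nonempty ∧ ∀ y ∈ V, (n : ℕ∞) ≤ (irreducibleComponents ↑(f.fiber y)).encard := by
  classical
  set η := genericPoint ↑Y with hη
  obtain ⟨Z, ξ, hZcl, hZcov, hξZ, hξnot⟩ :=
    Groth.Agent.Lib.H77IrredCompCount.exists_components_genericPoints n h
  let ι := f.fiberι η
  have hιrange : Set.range ι = f ⁻¹' {η} := Scheme.Hom.range_fiberι f η
  have hιemb : Topology.IsEmbedding ι := (f.fiberι η).isEmbedding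
  let T : Fin n → Set ↑X := fun k => closure (ι '' Z k)
  have hTcl : ∀ k, IsClosed (T k) := fun k => isClosed_closure
  -- trace of `T k` on the generic fibre
  have hTη : ∀ k, T k ∩ f ⁻¹' {η} = ι '' Z k := by
    intro k
    apply Set.Subset.antisymm
    · rintro x ⟨hxT, hxη⟩
      rw [← hιrange] at hxη
      obtain ⟨z, rfl⟩ := hxη
      refine ⟨z, ?_, rfl⟩
      have := hιemb.isInducing.closure_eq_preimage_closure_image (Z k)
      rw [(hZcl k).closure_eq] at this
      rw [this]
      exact hxT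
    · rintro _ ⟨z, hz, rfl⟩
      refine ⟨subset_closure ⟨z, hz, rfl⟩, ?_⟩
      rw [← hιrange]
      exact Set.mem_range_self z
  -- (a) covering
  obtain ⟨Va, hηVa, hVa⟩ := Groth.Agent.Lib.H77GenClosure.exists_opens_preimage_subset_closure f
  have hcl : closure (f ⁻¹' {η}) = ⋃ k, T k := by
    rw [← hιrange, ← Set.image_univ, ← hZcov, Set.image_iUnion, closure_iUnion_of_finite]
  -- the open sets `U k`
  let Uset : Fin n → Set ↑X := fun k => (⋃ j ∈ {j : Fin n | j ≠ k}, T j)ᶜ
  have hUopen : ∀ k, IsOpen (Uset k) := fun k =>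
    (Set.Finite.isClosed_biUnion (Set.toFinite _) fun j _ => hTcl j).isOpen_compl
  have hfξ : ∀ k, f (ι (ξ k)) = η := fun k => by
    have : ι (ξ k) ∈ f ⁻¹' {η} := hιrange ▸ Set.mem_range_self (ξ k)
    exact this
  have hξU : ∀ k, ι (ξ k) ∈ Uset k := by
    intro k hmem
    obtain ⟨j, hj⟩ := Set.mem_iUnion.mp hmem
    obtain ⟨hjk, hj⟩ := Set.mem_iUnion.mp hj
    have h1 : ι (ξ k) ∈ ι '' Z j := hTη j ▸ ⟨hj, hfξ k⟩
    obtain ⟨z, hz, hzz⟩ := h1
    have := hιemb.injective hzz
    subst this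
    exact hξnot k j (Ne.symm hjk) hz
  -- (c) nonemptiness
  have hc : ∀ k : Fin n, ∃ V : Y.Opens, η ∈ V ∧ (V : Set Y) ⊆ f '' Uset k := by
    intro k
    exact Groth.Agent.Lib.H77GenImageOpen.exists_opens_subset_image_open f ⟨Uset k, hUopen k⟩
      ⟨ι (ξ k), hξU k, hfξ k⟩
  choose Vc hηVc hVc using hc
  -- the open set
  let Vset : Set ↑Y := (Va : Set Y) ∩ ⋂ k, (Vc k : Set Y)
  have hVopen : IsOpen Vset := Va.isOpen.inter (isOpen_iInter_of_finite fun k => (Vc k).isOpen)
  have hηVset : η ∈ Vset := ⟨hηVa, Set.mem_iInter.mpr fun k => hηVc k⟩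
  refine ⟨⟨Vset, hVopen⟩, ⟨η, hηVset⟩, fun y hy => ?_⟩
  obtain ⟨hyVa, hyVc⟩ := hy
  have hyrange : Set.range (f.fiberι y) = f ⁻¹' {y} := Scheme.Hom.range_fiberι f y
  have hfy : ∀ x' : ↑(f.fiber y), f (f.fiberι y x') = y := fun x' => by
    have : f.fiberι y x' ∈ f ⁻¹' {y} := hyrange ▸ Set.mem_range_self x'
    exact this
  apply Groth.Agent.Lib.H77IrredCompCount.le_encard_irreducibleComponents n
    (fun k => (f.fiberι y) ⁻¹' Uset k)
  · exact fun k => (hUopen k).preimage (f.fiberι y).continuous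
  · intro k
    have hyk : y ∈ (Vc k : Set Y) := Set.mem_iInter.mp hyVc k
    obtain ⟨x, hxU, hxy⟩ := hVc k hyk
    have hx : x ∈ Set.range (f.fiberι y) := by
      rw [hyrange]; exact hxy
    obtain ⟨x', rfl⟩ := hx
    exact ⟨x', hxU⟩
  · intro k l hkl
    rw [Set.disjoint_left]
    intro x' hxk hxl
    have h1 : f.fiberι y x' ∈ f ⁻¹' (Va : Set Y) := by
      rw [Set.mem_preimage, hfy]; exact hyVa
    have h2 := hVa h1
    rw [hcl] at h2
    obtain ⟨j, hj⟩ := Set.mem_iUnion.mp h2
    by_cases hjk : j = k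
    · subst hjk
      exact hxl (Set.mem_biUnion (show j ∈ {j' : Fin n | j' ≠ l} from hkl) hj)
    · exact hxk (Set.mem_biUnion (show j ∈ {j' : Fin n | j' ≠ k} from hjk) hj)

end Groth.Agent.S1328
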