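import Groth.Statements.S1329
import Groth.Agent.Lib.H77GenImageSch
import Groth.Agent.Lib.H77ConnCompCount

set_option autoImplicit false
universe u
open FlatMor

namespace Groth.Agent.S1329

open AlgebraicGeometry CategoryTheory Limits in
/-- Let f be of finite type with irreducible target. If the generic fibre has exactly n connected
components, then over some nonempty open of the target every fibre has at least n connected
components. -/
theorem result {X Y : Scheme.{u}} (f : X ⟶ Y) [IrreducibleSpace ↑Y] [LocallyOfFiniteType f] [QuasiCompact f] (n : ℕ)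
    (h : ENat.card (_root_.ConnectedComponents ↑(f.fiber (genericPoint ↑Y))) = n) :
    ∃ V : Y.Opens, (V : Set ↑Y).Nonempty ∧ ∀ y ∈ V, (n : ℕ∞) ≤ ENat.card (_root_.ConnectedComponents ↑(f.fiber y)) := by
  classical
  set η := genericPoint ↑Y with hη
  obtain ⟨C, hCcl, hCne, hCdisj, hCcov⟩ :=
    Groth.Agent.Lib.H77ConnCompCount.exists_closed_partition n h
  let ι := f.fiberι η
  have hιrange : Set.range ι = f ⁻¹' {η} := Scheme.Hom.range_fiberι f η
  have hιemb : Topology.IsEmbedding ι := (f.fiberι η).isEmbedding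
  let T : Fin n → Set ↑X := fun k => closure (ι '' C k)
  have hTcl : ∀ k, IsClosed (T k) := fun k => isClosed_closure
  -- trace of `T k` on the generic fibre
  have hTη : ∀ k, T k ∩ f ⁻¹' {η} = ι '' C k := by
    intro k
    apply Set.Subset.antisymm
    · rintro x ⟨hxT, hxη⟩
      rw [← hιrange] at hxη
      obtain ⟨z, rfl⟩ := hxη
      refine ⟨z, ?_, rfl⟩
      have := hιemb.isInducing.closure_eq_preimage_closure_image (C k)
      rw [(hCcl k).closure_eq] at this
      rw [this]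
      exact hxT
    · rintro _ ⟨z, hz, rfl⟩
      refine ⟨subset_closure ⟨z, hz, rfl⟩, ?_⟩
      rw [← hιrange]
      exact Set.mem_range_self z
  -- (a) covering
  obtain ⟨Va, hηVa, hVa⟩ := Groth.Agent.Lib.H77GenClosure.exists_opens_preimage_subset_closure f
  have hcl : closure (f ⁻¹' {η}) = ⋃ k, T k := by
    rw [← hιrange, ← Set.image_univ, ← hCcov, Set.image_iUnion, closure_iUnion_of_finite]
  -- (b) disjointness
  have hb : ∀ k l : Fin n, ∃ V : Y.Opens, η ∈ V ∧
      (k ≠ l → T k ∩ T l ∩ f ⁻¹' (V : Set Y) = ∅) := by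
    intro k l
    by_cases hkl : k = l
    · exact ⟨⊤, trivial, fun h => absurd hkl h⟩
    · obtain ⟨V, hηV, hV⟩ :=
        Groth.Agent.Lib.H77GenImageSch.exists_opens_inter_preimage_subset_closure f
          (T k ∩ T l) ((hTcl k).inter (hTcl l))
      refine ⟨V, hηV, fun _ => ?_⟩
      have h0 : T k ∩ T l ∩ f ⁻¹' {η} = ∅ := by
        rw [Set.eq_empty_iff_forall_notMem]
        rintro x ⟨⟨hxk, hxl⟩, hxη⟩
        have h1 : x ∈ ι '' C k := hTη k ▸ ⟨hxk, hxη⟩
        have h2 : x ∈ ι '' C l := hTη l ▸ ⟨hxl, hxη⟩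
        obtain ⟨z, hz, rfl⟩ := h1
        obtain ⟨z', hz', hzz'⟩ := h2
        have := hιemb.injective hzz'
        subst this
        exact Set.disjoint_left.mp (hCdisj k l hkl) hz hz'
      rw [h0, closure_empty] at hV
      exact Set.subset_empty_iff.mp hV
  choose Vb hηVb hVb using hb
  -- (c) nonemptiness
  have hc : ∀ k : Fin n, ∃ V : Y.Opens, η ∈ V ∧ (V : Set Y) ⊆ f '' T k := by
    intro k
    apply Groth.Agent.Lib.H77GenImageSch.exists_opens_subset_image f (T k) (hTcl k)
    obtain ⟨z, hz⟩ := hCne k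
    refine ⟨ι z, subset_closure ⟨z, hz, rfl⟩, ?_⟩
    have : ι z ∈ f ⁻¹' {η} := hιrange ▸ Set.mem_range_self z
    exact this
  choose Vc hηVc hVc using hc
  -- the open set
  let Vset : Set ↑Y := (Va : Set Y) ∩ (⋂ k, ⋂ l, (Vb k l : Set Y)) ∩ ⋂ k, (Vc k : Set Y)
  have hVopen : IsOpen Vset := by
    refine (Va.isOpen.inter ?_).inter ?_
    · exact isOpen_iInter_of_finite fun k => isOpen_iInter_of_finite fun l => (Vb k l).isOpen
    · exact isOpen_iInter_of_finite fun k => (Vc k).isOpen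
  have hηVset : η ∈ Vset :=
    ⟨⟨hηVa, Set.mem_iInter.mpr fun k => Set.mem_iInter.mpr fun l => hηVb k l⟩,
      Set.mem_iInter.mpr fun k => hηVc k⟩
  refine ⟨⟨Vset, hVopen⟩, ⟨η, hηVset⟩, fun y hy => ?_⟩
  obtain ⟨⟨hyVa, hyVb⟩, hyVc⟩ := hy
  have hyrange : Set.range (f.fiberι y) = f ⁻¹' {y} := Scheme.Hom.range_fiberι f y
  have hfy : ∀ x' : ↑(f.fiber y), f (f.fiberι y x') = y := fun x' => by
    have : f.fiberι y x' ∈ f ⁻¹' {y} := hyrange ▸ Set.mem_range_self x'
    exact this
  apply Groth.Agent.Lib.H77ConnCompCount.le_card_connectedComponents n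
    (fun k => (f.fiberι y) ⁻¹' T k)
  · exact fun k => (hTcl k).preimage (f.fiberι y).continuous
  · intro k
    have hyk : y ∈ (Vc k : Set Y) := Set.mem_iInter.mp hyVc k
    obtain ⟨x, hxT, hxy⟩ := hVc k hyk
    have hx : x ∈ Set.range (f.fiberι y) := by
      rw [hyrange]; exact hxy
    obtain ⟨x', rfl⟩ := hx
    exact ⟨x', hxT⟩
  · intro k l hkl
    rw [Set.disjoint_left]
    intro x' hxk hxl
    have hykl : y ∈ (Vb k l : Set Y) := Set.mem_iInter.mp (Set.mem_iInter.mp hyVb k) l
    have : f.fiberι y x' ∈ T k ∩ T l ∩ f ⁻¹' (Vb k l : Set Y) :=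
      ⟨⟨hxk, hxl⟩, by rw [Set.mem_preimage, hfy]; exact hykl⟩
    rw [hVb k l hkl] at this
    exact this
  · rw [Set.eq_univ_iff_forall]
    intro x'
    have h1 : f.fiberι y x' ∈ f ⁻¹' (Va : Set Y) := by
      rw [Set.mem_preimage, hfy]; exact hyVa
    have h2 := hVa h1
    rw [hcl] at h2
    obtain ⟨k, hk⟩ := Set.mem_iUnion.mp h2
    exact Set.mem_iUnion.mpr ⟨k, hk⟩

end Groth.Agent.S1329
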