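import Groth.Statements.S1330
import Groth.Agent.Lib.H77FibreLocal
import Groth.Agent.Lib.H77FibreRed

set_option autoImplicit false
set_option linter.style.haveILetI false
universe u
open FlatMor

namespace Groth.Agent.S1330

open AlgebraicGeometry CategoryTheory Limits Groth.Agent.Lib.H77FibreLocal in
/-- The affine base case. -/
theorem affine_base (R : CommRingCat.{u}) [IrreducibleSpace (Spec R)] {X : Scheme.{u}}
    (f : X ⟶ Spec R) [LocallyOfFiniteType f] [QuasiCompact f]
    (h : ¬ IsReduced (f.fiber (genericPoint (Spec R)))) :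
    ∃ V : (Spec R).Opens, (V : Set (Spec R)).Nonempty ∧ ∀ y ∈ V, ¬ IsReduced (f.fiber y) := by
  set η : PrimeSpectrum R := genericPoint (Spec R) with hη
  -- find an affine piece whose generic fibre is not reduced
  have h1 : ∃ i : X.affineOpenCover.openCover.I₀,
      ¬ IsReduced ((X.affineOpenCover.openCover.f i ≫ f).fiber η) := by
    by_contra hcon
    push Not at hcon
    apply h
    haveI : ∀ i, IsReduced ((fiberOpenCover f X.affineOpenCover.openCover η).X i) := hcon
    exact IsReduced.of_openCover (X := f.fiber η)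
      (fiberOpenCover f X.affineOpenCover.openCover η)
  obtain ⟨i, hi⟩ := h1
  let A : CommRingCat.{u} := X.affineOpenCover.X i
  let gi : Spec A ⟶ Spec R := X.affineOpenCover.f i ≫ f
  haveI : IsOpenImmersion (X.affineOpenCover.f i) := X.affineOpenCover.openCover.map_prop i
  haveI : LocallyOfFiniteType gi := inferInstance
  obtain ⟨φ, hφ⟩ := Spec.map_surjective gi
  have hft : φ.hom.FiniteType := by
    rw [← HasRingHomProperty.Spec_iff (P := @LocallyOfFiniteType), hφ]
    infer_instance
  letI := φ.hom.toAlgebra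
  haveI : Algebra.FiniteType R A := hft
  have hfib : ∀ y : PrimeSpectrum R, IsReduced (gi.fiber y) ↔ _root_.IsReduced (y.asIdeal.Fiber A) := by
    intro y
    rw [← affine_isReduced_iff (.of (y.asIdeal.Fiber A))]
    have e : gi.fiber y ≅ Spec (.of (y.asIdeal.Fiber A)) := by
      rw [← hφ]
      exact specFiberIso φ y
    exact ⟨fun _ => isReduced_of_isOpenImmersion e.inv, fun _ => isReduced_of_isOpenImmersion e.hom⟩
  have h2 : ¬ _root_.IsReduced (η.asIdeal.Fiber A) := fun hh => hi ((hfib η).mpr hh)
  obtain ⟨g, hg, hgq⟩ :=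
    Groth.Agent.Lib.H77FibreRed.exists_notMem_forall_not_isReduced_fiber η.asIdeal h2
  refine ⟨PrimeSpectrum.basicOpen g, ⟨η, hg⟩, fun y hy hred => ?_⟩
  obtain ⟨y', rfl⟩ : ∃ y' : PrimeSpectrum R, y' = y := ⟨y, rfl⟩
  have h3 : ¬ _root_.IsReduced (y'.asIdeal.Fiber A) :=
    hgq y'.asIdeal (genericPoint_asIdeal_le R y') hy
  apply h3
  rw [← hfib]
  have hoi := (fiberOpenCover f X.affineOpenCover.openCover y').map_prop i
  exact @isReduced_of_isOpenImmersion _ _
    ((fiberOpenCover f X.affineOpenCover.openCover y').f i) hoi hred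

open AlgebraicGeometry CategoryTheory Limits in
/-- Let f be of finite type with irreducible target. If the generic fibre is not reduced, then over some
nonempty open of the target no fibre is reduced. -/
theorem result {X Y : Scheme.{u}} (f : X ⟶ Y) [IrreducibleSpace ↑Y] [LocallyOfFiniteType f] [QuasiCompact f]
    (h : ¬ IsReduced (f.fiber (genericPoint ↑Y))) :
    ∃ V : Y.Opens, (V : Set ↑Y).Nonempty ∧ ∀ y ∈ V, ¬ IsReduced (f.fiber y) :=
  Groth.Agent.Lib.H77FibreLocal.exists_opens_of_affine_base (fun Z => ¬ IsReduced Z)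
    (fun e hZ _ => hZ (isReduced_of_isOpenImmersion e.hom))
    (fun R _ _ f _ _ h => affine_base R f h) f h

end Groth.Agent.S1330
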