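import Groth.Statements.S1333
import Groth.Agent.Lib.H77FibDimSch
import Groth.Agent.Lib.H77DimFieldExt
import Groth.Agent.Lib.ConsLocusMorMain

set_option autoImplicit false
universe u
open FlatMor

namespace Groth.Agent.S1333

open AlgebraicGeometry CategoryTheory Limits in
/-- For a morphism of finite presentation (locally of finite presentation, quasi-compact,
quasi-separated), each level set of the function sending a point of the target to the dimension of
its fibre is locally constructible. -/
theorem result {X Y : Scheme.{u}} (f : X ⟶ Y) [LocallyOfFinitePresentation f] [QuasiCompact f] [QuasiSeparated f]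
    (n : WithBot ℕ∞) :
    Topology.IsLocallyConstructible {y : ↑Y | topologicalKrullDim ↑(f.fiber y) = n} := by
  -- the relation "dim of the middle scheme is `n`" on composable pairs is a constructible property
  let P : ∀ ⦃X Y T : Scheme.{u}⦄, (X ⟶ Y) → (Y ⟶ T) → Prop :=
    fun _ Y _ _ _ => topologicalKrullDim ↥Y = n
  have hP : ConsProp.IsConsMor P := by
    refine ⟨?_, ?_⟩
    · intro X X' Y Y' T T' f g f' g' eX eY h _ _ _ _ _ _ _ _ hY _
      have := Groth.Agent.Lib.H77DimFieldExt.dim_eq_of_isPullback_field g g' eY h hY
      change topologicalKrullDim ↥Y = n ↔ topologicalKrullDim ↥Y' = n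
      rw [this]
    · intro X Y S f g _ _ _ _ _ _
      obtain ⟨V, hηV, hV⟩ :=
        Groth.Agent.Lib.H77FibDimSch.exists_opens_forall_topologicalKrullDim_fiber_eq g
      by_cases hd : topologicalKrullDim (g.fiber (genericPoint S)) = n
      · left
        refine ⟨genericPoint S, mem_interior.mpr ⟨V, ?_, V.isOpen, hηV⟩⟩
        intro s hs
        change topologicalKrullDim (g.fiber s) = n
        rw [hV s hs]
        exact hd
      · right
        refine ⟨genericPoint S, mem_interior.mpr ⟨V, ?_, V.isOpen, hηV⟩⟩
        intro s hs
        change ¬ topologicalKrullDim (g.fiber s) = n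
        rw [hV s hs]
        exact hd
  exact Groth.Agent.Lib.ConsLocusMor.isLocallyConstructible_locusMor hP (𝟙 X) f

end Groth.Agent.S1333
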