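import Groth.Statements.S13341
import Mathlib

set_option autoImplicit false
open CategoryTheory
universe u
open FCompl

namespace Groth.Agent.S13341


open AlgebraicGeometry CategoryTheory.Limits

/-- Abstract form: graphs are compatible with monomorphic transition maps (the square of graphs is
cartesian). -/
theorem isPullback_graph {C : Type*} [Category C] {X X' P P' Y Y' : C}
    (ιX : X ⟶ X') (ιP : P ⟶ P') (ιY : Y ⟶ Y') [Mono ιY]
    (g : X ⟶ P) (g' : X' ⟶ P') (π₁ : P ⟶ X) (π₁' : P' ⟶ X') (π₂ : P ⟶ Y) (π₂' : P' ⟶ Y')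
    (f : X ⟶ Y) (f' : X' ⟶ Y')
    (h1 : g ≫ π₁ = 𝟙 X) (h1' : g' ≫ π₁' = 𝟙 X') (h2 : g ≫ π₂ = f) (h2' : g' ≫ π₂' = f')
    (c1 : π₁ ≫ ιX = ιP ≫ π₁') (c2 : π₂ ≫ ιY = ιP ≫ π₂') (cf : f ≫ ιY = ιX ≫ f')
    (cg : g ≫ ιP = ιX ≫ g')
    (hext : ∀ {T : C} (a b : T ⟶ P), a ≫ π₁ = b ≫ π₁ → a ≫ π₂ = b ≫ π₂ → a = b) :
    IsPullback ιX g g' ιP := by
  refine ⟨⟨cg.symm⟩, ⟨PullbackCone.IsLimit.mk _ (fun s => s.snd ≫ π₁) ?_ ?_ ?_⟩⟩
  · intro s
    have hs := s.condition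
    calc (s.snd ≫ π₁) ≫ ιX = s.snd ≫ ιP ≫ π₁' := by rw [Category.assoc, c1]
      _ = s.fst ≫ g' ≫ π₁' := by rw [← Category.assoc, ← hs, Category.assoc]
      _ = s.fst := by rw [h1', Category.comp_id]
  · intro s
    have hs := s.condition
    apply hext
    · rw [Category.assoc, Category.assoc, h1, Category.comp_id]
    · rw [Category.assoc, Category.assoc, h2, ← cancel_mono ιY, Category.assoc, Category.assoc,
        Category.assoc, cf, c2]
      calc s.snd ≫ π₁ ≫ ιX ≫ f' = s.snd ≫ ιP ≫ π₁' ≫ f' := by rw [← Category.assoc π₁, c1, Category.assoc]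
        _ = s.fst ≫ g' ≫ π₁' ≫ f' := by rw [← Category.assoc, ← hs, Category.assoc]
        _ = s.fst ≫ g' ≫ π₂' := by rw [← Category.assoc g', h1', Category.id_comp, h2']
        _ = s.snd ≫ ιP ≫ π₂' := by rw [← Category.assoc, hs, Category.assoc]
  · intro s m hm1 hm2
    have := congrArg (· ≫ π₁) hm2
    simp only [Category.assoc] at this
    rw [h1, Category.comp_id] at this
    exact this


open AlgebraicGeometry in
/-- Formal schemes are presented as locally Noetherian adic systems of thickenings and the fibre product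
is taken levelwise (it presents the fibre product of formal schemes since one factor is adic over
the base). Let 𝔖 be a locally Noetherian formal system, 𝔛 and 𝔜 locally Noetherian formal systems
over 𝔖 such that 𝔛 or 𝔜 is of finite type over 𝔖, and 𝔜 separated over 𝔖 at level 0. Then for every
𝔖-morphism f : 𝔛 → 𝔜 the graph morphism 𝔛 → 𝔛 ×_𝔖 𝔜 is a closed immersion: adic, with level 0 a
closed immersion. -/
theorem result {𝔛 𝔜 𝔖 : FSch.Sys.{u}} (h𝔖 : 𝔖.IsLocNoethFormal) (h𝔛 : 𝔛.IsLocNoethFormal)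
    (h𝔜 : 𝔜.IsLocNoethFormal) (p : 𝔛 ⟶ 𝔖) (q : 𝔜 ⟶ 𝔖) (hpq : FSch.IsFiniteTypeHom p ∨ FSch.IsFiniteTypeHom q)
    (hq : IsSeparated ((q : FSch.Hom 𝔜 𝔖).app 0)) (f : 𝔛 ⟶ 𝔜) (w : f ≫ q = p) :
    FSch.IsClosedImmHom (FSch.graph f p q w) := by
  subst w
  refine ⟨fun n => ?_, ?_⟩
  · haveI : Mono (𝔜.ι n) := by haveI := (h𝔜.1 n).1; infer_instance
    refine isPullback_graph (𝔛.ι n) ((FSch.pullbackSys (f ≫ q) q).ι n) (𝔜.ι n)
      ((FSch.graph f (f ≫ q) q rfl : FSch.Hom _ _).app n)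
      ((FSch.graph f (f ≫ q) q rfl : FSch.Hom _ _).app (n + 1))
      ((FSch.pullbackFst (f ≫ q) q : FSch.Hom _ _).app n)
      ((FSch.pullbackFst (f ≫ q) q : FSch.Hom _ _).app (n + 1))
      ((FSch.pullbackSnd (f ≫ q) q : FSch.Hom _ _).app n)
      ((FSch.pullbackSnd (f ≫ q) q : FSch.Hom _ _).app (n + 1))
      ((f : FSch.Hom 𝔛 𝔜).app n) ((f : FSch.Hom 𝔛 𝔜).app (n + 1))
      (pullback.lift_fst _ _ _) (pullback.lift_fst _ _ _) (pullback.lift_snd _ _ _)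
      (pullback.lift_snd _ _ _)
      ((FSch.pullbackFst (f ≫ q) q : FSch.Hom _ _).comm n)
      ((FSch.pullbackSnd (f ≫ q) q : FSch.Hom _ _).comm n)
      ((f : FSch.Hom 𝔛 𝔜).comm n)
      ((FSch.graph f (f ≫ q) q rfl : FSch.Hom _ _).comm n) ?_
    intro T a b e1 e2
    exact pullback.hom_ext e1 e2
  · haveI := hq
    show IsClosedImmersion (pullback.lift (𝟙 _) ((f : FSch.Hom 𝔛 𝔜).app 0) _)
    exact inferInstanceAs (IsClosedImmersion (pullback.lift (𝟙 _) ((f : FSch.Hom 𝔛 𝔜).app 0)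
      (Category.id_comp ((f : FSch.Hom 𝔛 𝔜).app 0 ≫ (q : FSch.Hom 𝔜 𝔖).app 0))))

end Groth.Agent.S13341
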