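import Mathlib
import Groth.Agent.Lib.IdealSheafComap
import Groth.Statements.S13342

set_option autoImplicit false
open CategoryTheory CategoryTheory.Limits
universe u
open FCompl

namespace Groth.Agent.S13342

section Helpers

open AlgebraicGeometry

/-- Kernel of the restriction of a closed immersion to an open and its full preimage. -/
theorem ker_resLE {X Y : Scheme.{u}} (g : X ⟶ Y) [IsClosedImmersion g] (V : Y.Opens)
    (W : X.Opens) (hW : W = g ⁻¹ᵁ V) :
    (g.resLE V W hW.le).ker = g.ker.comap V.ι := by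
  subst hW
  rw [Scheme.Hom.resLE_eq_morphismRestrict]
  have sq := isPullback_morphismRestrict g V
  have e : g ∣_ V = sq.isoPullback.hom ≫ pullback.fst V.ι g := by simp
  rw [e, Scheme.Hom.ker_comp_of_isIso, Scheme.IdealSheafData.ker_fst_of_isClosedImmersion]

theorem isClosedImmersion_resLE {X Y : Scheme.{u}} (g : X ⟶ Y) [IsClosedImmersion g] (V : Y.Opens)
    (W : X.Opens) (hW : W = g ⁻¹ᵁ V) :
    IsClosedImmersion (g.resLE V W hW.le) := by
  subst hW
  rw [Scheme.Hom.resLE_eq_morphismRestrict]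
  infer_instance

theorem surjective_resLE {X Y : Scheme.{u}} (g : X ⟶ Y) (hg : Function.Surjective g.base)
    (V : Y.Opens) (W : X.Opens) (hW : W = g ⁻¹ᵁ V) :
    Function.Surjective (g.resLE V W hW.le).base := by
  intro y
  obtain ⟨x, hx⟩ := hg y.1
  have hxW : x ∈ W := by
    rw [hW]
    change g.base x ∈ V
    rw [hx]
    exact y.2
  refine ⟨⟨x, hxW⟩, ?_⟩
  apply Subtype.ext
  rw [← hx]
  exact Scheme.Hom.coe_resLE_apply g hW.le ⟨x, hxW⟩


theorem toX_preimage_lvU (𝔛 : FSch.Sys.{u}) (h : 𝔛.IsFormal) (n : ℕ) (U : (𝔛.X 0).Opens) :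
    (𝔛.toX n) ⁻¹ᵁ (𝔛.lvU h n U) = U := by
  change (TopologicalSpace.Opens.map ((𝔛.toX n).base ≫ 𝔛.gInv h n)).obj U = U
  rw [FSch.Sys.toX_base_gInv]
  rfl

theorem lvU_zero (𝔛 : FSch.Sys.{u}) (h : 𝔛.IsFormal) (U : (𝔛.X 0).Opens) :
    𝔛.lvU h 0 U = U := by
  have := toX_preimage_lvU 𝔛 h 0 U
  simpa [FSch.Sys.toX] using this

theorem toX_comp_app {𝔜 𝔛 : FSch.Sys.{u}} (φ : 𝔜 ⟶ 𝔛) (n : ℕ) :
    𝔜.toX n ≫ (φ : FSch.Hom 𝔜 𝔛).app n = (φ : FSch.Hom 𝔜 𝔛).app 0 ≫ 𝔛.toX n := by
  induction n with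
  | zero =>
    exact (Category.id_comp _).trans (Category.comp_id _).symm
  | succ n ih =>
    change (𝔜.toX n ≫ 𝔜.ι n) ≫ _ = _ ≫ (𝔛.toX n ≫ 𝔛.ι n)
    rw [Category.assoc, ← (φ : FSch.Hom 𝔜 𝔛).comm n, ← Category.assoc, ih, Category.assoc]

theorem toX_restrictOpen (𝔛 : FSch.Sys.{u}) (h : 𝔛.IsFormal) (U : (𝔛.X 0).Opens) (n : ℕ) :
    (𝔛.restrictOpen h U).toX n =
      (𝔛.toX n).resLE (𝔛.lvU h n U) (𝔛.lvU h 0 U)
        (by rw [toX_preimage_lvU, lvU_zero]) := by
  refine (cancel_mono (𝔛.lvU h n U).ι).mp ?_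
  refine Eq.trans ?_ (Scheme.Hom.resLE_comp_ι _ _).symm
  exact toX_comp_app (𝔛.restrictOpenι h U) n

end Helpers

open AlgebraicGeometry in
/-- The formal prescheme induced on an open subset of a formal prescheme (resp. of a locally Noetherian
formal prescheme, resp. of a Noetherian formal prescheme) is a formal prescheme (resp. a locally
Noetherian formal prescheme, resp. a Noetherian formal prescheme). In the presentation by systems of
thickenings with common underlying space: for an open U, the induced system (the open subschemes of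
the levels over U with the restricted transition maps) is again a system of thickenings; it is adic
with locally Noetherian levels when the given system is; and if moreover the common underlying space
is quasi-compact (a Noetherian formal prescheme), so is that of the induced system. -/
theorem result (𝔛 : FSch.Sys.{u}) (h : 𝔛.IsFormal) (U : (𝔛.X 0).Opens) :
    (𝔛.restrictOpen h U).IsFormal ∧ (𝔛.IsLocNoethFormal → (𝔛.restrictOpen h U).IsLocNoethFormal) ∧
      (𝔛.IsLocNoethFormal → CompactSpace (𝔛.X 0) → CompactSpace ((𝔛.restrictOpen h U).X 0)) := by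
  have hF : (𝔛.restrictOpen h U).IsFormal := by
    intro n
    have := (h n).1
    exact ⟨Groth.Agent.S13342.isClosedImmersion_resLE (𝔛.ι n) _ _ (𝔛.lvU_succ h n U).symm,
      Groth.Agent.S13342.surjective_resLE (𝔛.ι n) (h n).2 _ _ (𝔛.lvU_succ h n U).symm⟩
  refine ⟨hF, ?_, ?_⟩
  · rintro ⟨_, hadic, hnoeth⟩
    refine ⟨hF, ?_, fun n => ?_⟩
    · intro n
      have := (h n).1
      have := FSch.Sys.toX_isClosedImmersion 𝔛 h (n + 1)
      have e1 : ((𝔛.restrictOpen h U).ι n).ker =
          (𝔛.ι n).ker.comap (𝔛.lvU h (n + 1) U).ι :=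
        Groth.Agent.S13342.ker_resLE (𝔛.ι n) _ _ (𝔛.lvU_succ h n U).symm
      have e2 : ((𝔛.restrictOpen h U).toX (n + 1)).ker =
          (𝔛.toX (n + 1)).ker.comap (𝔛.lvU h (n + 1) U).ι := by
        have h2 := Groth.Agent.S13342.ker_resLE (𝔛.toX (n + 1)) (𝔛.lvU h (n + 1) U)
          (𝔛.lvU h 0 U)
          (by rw [Groth.Agent.S13342.toX_preimage_lvU, Groth.Agent.S13342.lvU_zero])
        have e := Groth.Agent.S13342.toX_restrictOpen 𝔛 h U (n + 1)
        exact (congrArg AlgebraicGeometry.Scheme.Hom.ker e).trans h2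
      have e3 : (𝔛.ι n).ker.comap (𝔛.lvU h (n + 1) U).ι =
          ((𝔛.toX (n + 1)).ker.comap (𝔛.lvU h (n + 1) U).ι) ^ (n + 1) := by
        rw [← Groth.Agent.Lib.IdealSheafComap.comap_pow, ← hadic n]
      exact e1.trans (e3.trans (congrArg (· ^ (n + 1)) e2.symm))
    · have := hnoeth n
      change AlgebraicGeometry.IsLocallyNoetherian (𝔛.lvU h n U).toScheme
      infer_instance
  · rintro ⟨_, _, hnoeth⟩ hc
    have := hnoeth 0
    have : AlgebraicGeometry.IsNoetherian (𝔛.X 0) := {}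
    change CompactSpace ↥(𝔛.lvU h 0 U)
    exact isCompact_iff_compactSpace.mp (TopologicalSpace.NoetherianSpace.isCompact _)

end Groth.Agent.S13342
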