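import Groth.Statements.S13347
import Groth.Agent.Lib.ThickAffineOpen
import Mathlib

set_option autoImplicit false
open CategoryTheory CategoryTheory.Limits
universe u
open Opposite
open FCompl

namespace Groth.Agent.S13347


namespace Tower
variable {F : ℕᵒᵖ ⥤ Type u} (hF : ∀ n, Function.Surjective (F.map (homOfLE (Nat.le_succ n)).op))

/-- Successive lifts of `a` up the tower. -/
noncomputable def pre (i : ℕ) (a : F.obj ⟨i⟩) : (n : ℕ) → F.obj ⟨i + n⟩
  | 0 => a
  | n + 1 => (hF (i + n) (pre i a n)).choose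

lemma pre_succ (i : ℕ) (a : F.obj ⟨i⟩) (n : ℕ) :
    F.map (homOfLE (Nat.le_succ (i + n))).op (pre hF i a (n + 1)) = pre hF i a n :=
  (hF (i + n) (pre hF i a n)).choose_spec

lemma map_eq {j k : ℕᵒᵖ} (f g : j ⟶ k) (x : F.obj j) : F.map f x = F.map g x := by
  rw [Subsingleton.elim f g]

lemma pre_compat (i : ℕ) (a : F.obj ⟨i⟩) {m n : ℕ} (hmn : m ≤ n) :
    F.map (homOfLE (Nat.add_le_add_left hmn i)).op (pre hF i a n) = pre hF i a m := by
  induction hmn with
  | refl =>
    have : (homOfLE (Nat.add_le_add_left (le_refl m) i)).op = 𝟙 (op (i + m) : ℕᵒᵖ) :=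
      Subsingleton.elim _ _
    rw [this, FunctorToTypes.map_id_apply]
  | @step p h ih =>
    rw [← ih, ← pre_succ hF i a p, ← FunctorToTypes.map_comp_apply]
    exact map_eq _ _ _

/-- In a tower of surjections indexed by `ℕ`, every projection from the limit is surjective. -/
theorem surjective_π (hF : ∀ n, Function.Surjective (F.map (homOfLE (Nat.le_succ n)).op))
    {c : Cone F} (hc : IsLimit c) (i : ℕ) : Function.Surjective (c.π.app ⟨i⟩) := by
  intro a
  let s : F.sections := ⟨fun j => F.map (homOfLE (Nat.le_add_left j.unop i)).op (pre hF i a j.unop), by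
    intro j k f
    have hkj : k.unop ≤ j.unop := leOfHom f.unop
    show F.map f (F.map (homOfLE (Nat.le_add_left j.unop i)).op (pre hF i a j.unop)) =
      F.map (homOfLE (Nat.le_add_left k.unop i)).op (pre hF i a k.unop)
    rw [← pre_compat hF i a hkj, ← FunctorToTypes.map_comp_apply, ← FunctorToTypes.map_comp_apply]
    exact map_eq _ _ _⟩
  refine ⟨(Types.isLimitEquivSections hc).symm s, ?_⟩
  rw [Types.isLimitEquivSections_symm_apply]
  show F.map (homOfLE (Nat.le_add_left i i)).op (pre hF i a i) = a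
  have h0 := pre_compat hF i a (Nat.zero_le i)
  have h1 : F.map (homOfLE (Nat.le_add_left i i)).op (pre hF i a i) =
      F.map (𝟙 (op i : ℕᵒᵖ)) (F.map (homOfLE (Nat.add_le_add_left (Nat.zero_le i) i)).op
        (pre hF i a i)) := by
    rw [← FunctorToTypes.map_comp_apply]
    exact map_eq _ _ _
  rw [h1, h0]
  show F.map (𝟙 (op i : ℕᵒᵖ)) a = a
  rw [FunctorToTypes.map_id_apply]
end Tower

open AlgebraicGeometry

/-- The open of level `n` over an affine open of `X 0` is affine. -/
theorem isAffineOpen_lvU (𝔛 : FSch.Sys.{u}) (h : 𝔛.IsFormal) (n : ℕ) (U : (𝔛.X 0).Opens)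
    (hU : IsAffineOpen U) : IsAffineOpen (𝔛.lvU h n U) := by
  haveI := 𝔛.toX_isClosedImmersion h n
  haveI : Surjective (𝔛.toX n) := ⟨𝔛.toX_surjective h n⟩
  apply Groth.Agent.Lib.ThickAffine.isAffineOpen_of_isAffineOpen_preimage (𝔛.toX n)
  have : (𝔛.toX n) ⁻¹ᵁ (𝔛.lvU h n U) = U := by
    change (TopologicalSpace.Opens.map ((𝔛.toX n).base ≫ 𝔛.gInv h n)).obj U = _
    rw [FSch.Sys.toX_base_gInv]
    rfl
  rw [this]
  exact hU

/-- The transition maps are surjective on sections over (the opens over) an affine open. -/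
theorem levelMap_app_surjective (𝔛 : FSch.Sys.{u}) (h : 𝔛.IsFormal) (n : ℕ) (U : (𝔛.X 0).Opens)
    (hU : IsAffineOpen U) : Function.Surjective ((𝔛.levelMap h n).hom.app (op U)) := by
  haveI := (h n).1
  rw [FSch.Sys.levelMap_app, Scheme.Hom.appLE]
  have h1 := (𝔛.ι n).app_surjective (𝔛.lvU h (n + 1) U) (isAffineOpen_lvU 𝔛 h (n + 1) U hU)
  have h2 : Function.Bijective ((𝔛.X n).presheaf.map
      (homOfLE (𝔛.lvU_le h n U)).op) := by
    have : IsIso ((𝔛.X n).presheaf.map (homOfLE (𝔛.lvU_le h n U)).op) := by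
      have : IsIso (homOfLE (𝔛.lvU_le h n U)) :=
        ⟨⟨homOfLE (𝔛.lvU_succ h n U).le, Subsingleton.elim _ _, Subsingleton.elim _ _⟩⟩
      infer_instance
    exact ConcreteCategory.bijective_of_isIso _
  intro a
  obtain ⟨b, hb⟩ := h2.2 a
  obtain ⟨c, hc⟩ := h1 b
  refine ⟨c, ?_⟩
  show ((𝔛.X n).presheaf.map (homOfLE (𝔛.lvU_le h n U)).op)
    ((𝔛.ι n).app (𝔛.lvU h (n + 1) U) c) = a
  rw [hc]
  exact hb


open AlgebraicGeometry in
/-- Let (X_i) be an inductive system of preschemes on one underlying space with surjective transition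
homomorphisms whose kernels O_{X_i} → O_{X_0} are locally nilpotent — here a system of thickenings
(closed immersions surjective on points) with the kernel ideal of X_0 → X_i nilpotent on every
affine open of X_i — and O_𝔛 = lim O_{X_i} the structure sheaf of the formal prescheme it defines.
Then the canonical homomorphisms O_𝔛 → O_{X_i} are surjective: over every affine open U of X_0 the
map on sections Γ(U, O_𝔛) → Γ(U_i, O_{X_i}) is onto. -/
theorem result (𝔛 : FSch.Sys.{u}) (h : 𝔛.IsFormal)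
    (hb : ∀ (i : ℕ) (V : (𝔛.X i).affineOpens), IsNilpotent ((𝔛.toX i).ker.ideal V))
    (i : ℕ) (U : (𝔛.X 0).Opens) (hU : IsAffineOpen U) :
    Function.Surjective ((𝔛.OshProj h i).hom.app (op U)) := by
  let Φ : Sheaf (Opens.grothendieckTopology (𝔛.X 0)) CommRingCat.{u} ⥤ Type u :=
    sheafToPresheaf _ _ ⋙ (evaluation _ _).obj (op U) ⋙ forget CommRingCat
  have hc : IsLimit (Φ.mapCone (limit.cone (𝔛.levelRing h))) :=
    isLimitOfPreserves Φ (limit.isLimit (𝔛.levelRing h))
  have hF : ∀ n, Function.Surjective ((𝔛.levelRing h ⋙ Φ).map (homOfLE (Nat.le_succ n)).op) := by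
    intro n
    have := levelMap_app_surjective 𝔛 h n U hU
    rw [← FSch.Sys.levelRing_map_succ] at this
    exact this
  intro a
  obtain ⟨x, hx⟩ := Tower.surjective_π hF hc i a
  exact ⟨x, hx⟩

end Groth.Agent.S13347
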