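import Groth.Statements.S13352
import Groth.Agent.Lib.BoschCore76L
import Groth.Agent.Lib.BoschCore76J

set_option autoImplicit false
universe u
open scoped TensorProduct
open AdicRing

namespace Groth.Agent.S13352

/-- Let R be a complete valuation ring of height one with t a nonzero element generating an ideal of
definition and K its field of fractions, A an admissible R-algebra, and f_1, ..., f_n elements of A
⊗_R K that are integral over A. Then A' = A[f_1, ..., f_n], a subalgebra of A ⊗_R K, is an
admissible R-algebra which is finite over A. (The published hypothesis is that each f_i has supremum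
seminorm at most 1 on the affinoid algebra A ⊗_R K; integrality of the f_i over A is what is derived
from it and used, and is the hypothesis taken here.) -/
theorem result
    (R : Type u) [CommRing R] [IsDomain R] [ValuationRing R] [Ring.KrullDimLE 1 R]
    (t : R) (ht : t ≠ 0) [IsAdicComplete (Ideal.span {t}) R]
    (A : Type u) [CommRing A] [Algebra R A] (hA : AdicRing.Admissible R (Ideal.span {t}) A)
    (n : ℕ) (f : Fin n → A ⊗[R] FractionRing R) (hf : ∀ i, IsIntegral A (f i)) :
    AdicRing.Admissible R (Ideal.span {t}) ↥(Algebra.adjoin A (Set.range f)) ∧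
      Module.Finite A ↥(Algebra.adjoin A (Set.range f)) := by
  have hR := Groth.Agent.Lib.BoschCore76.isBase_V R t ht
  have hfin : Module.Finite A ↥(Algebra.adjoin A (Set.range f)) := by
    have h1 := fg_adjoin_of_finite (Set.finite_range f)
      (fun x hx => by obtain ⟨i, rfl⟩ := hx; exact hf i)
    exact Module.Finite.iff_fg.mpr h1
  refine ⟨?_, hfin⟩
  have hAt : AdicRing.TopFiniteType R (Ideal.span {t}) A := by
    obtain ⟨⟨n, φ, hφ, _⟩, _⟩ := hA
    exact ⟨n, φ, hφ⟩
  apply Groth.Agent.Lib.BoschCore76.admissible_of_finite_of_noPowTorsion hR hAt
  apply Groth.Agent.Lib.BoschCore76.noPowTorsion_span_singleton_of_smul_eq_zero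
  intro x hx
  have ht' : algebraMap R (FractionRing R) t ≠ 0 := by
    intro h0
    exact ht ((IsFractionRing.injective R (FractionRing R)) (by rw [h0, map_zero]))
  have key : ∀ y : A ⊗[R] FractionRing R, t • y = 0 → y = 0 := by
    intro y hy
    have hμ : ∀ y : A ⊗[R] FractionRing R,
        LinearMap.lTensor A (LinearMap.mulLeft R (algebraMap R (FractionRing R) t)⁻¹) (t • y) = y := by
      intro y
      induction y using TensorProduct.induction_on with
      | zero => simp
      | tmul a k =>
        rw [← TensorProduct.tmul_smul, LinearMap.lTensor_tmul, LinearMap.mulLeft_apply,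
          Algebra.smul_def, inv_mul_cancel_left₀ ht']
      | add y z hy hz => rw [smul_add, map_add, hy, hz]
    rw [← hμ y, hy, map_zero]
  apply Subtype.ext
  apply key
  have := congrArg Subtype.val hx
  simpa using this

end Groth.Agent.S13352
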