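import Groth.Statements.S13353
import Groth.Agent.Lib.BoschCore76M

set_option autoImplicit false
universe u
open scoped TensorProduct
open AdicRing

namespace Groth.Agent.S13353

/-- Let R be a complete valuation ring of height one with t a nonzero element generating an ideal of
definition and K its field of fractions, A an admissible R-algebra, f_1, ..., f_n elements of A ⊗_R
K integral over A, c a nonzero element of R and g_1, ..., g_n elements of A with g_i = c f_i in A
⊗_R K; put 𝔞 = (c, g_1, ..., g_n) and A' = A[f_1, ..., f_n] ⊂ A ⊗_R K. If D is an admissible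
R-algebra and φ : A → D an R-algebra homomorphism such that the ideal 𝔞D is generated by the image
of c, or by the image of some g_i, then 𝔞D is generated by c and φ extends to exactly one R-algebra
homomorphism A' → D. (This is the universal property through which Spf A' → Spf A is identified with
the formal blowing-up of 𝔞 on Spf A; the published hypothesis on the f_i is a supremum-seminorm
bound, from which their integrality over A is derived.) -/
theorem result
    (R : Type u) [CommRing R] [IsDomain R] [ValuationRing R] [Ring.KrullDimLE 1 R]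
    (t : R) (ht : t ≠ 0) [IsAdicComplete (Ideal.span {t}) R]
    (A : Type u) [CommRing A] [Algebra R A] (hA : AdicRing.Admissible R (Ideal.span {t}) A)
    (n : ℕ) (f : Fin n → A ⊗[R] FractionRing R) (hf : ∀ i, IsIntegral A (f i))
    (c : R) (hc : c ≠ 0) (g : Fin n → A)
    (hg : ∀ i, algebraMap A (A ⊗[R] FractionRing R) (g i) = c • f i)
    (D : Type u) [CommRing D] [Algebra R D] (hD : AdicRing.Admissible R (Ideal.span {t}) D)
    (φ : A →ₐ[R] D)
    (hgen : (Ideal.span (insert (algebraMap R A c) (Set.range g))).map φ =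
          Ideal.span {algebraMap R D c} ∨
      ∃ i, (Ideal.span (insert (algebraMap R A c) (Set.range g))).map φ = Ideal.span {φ (g i)}) :
    (Ideal.span (insert (algebraMap R A c) (Set.range g))).map φ = Ideal.span {algebraMap R D c} ∧
      ∃! ψ : ↥(Algebra.adjoin A (Set.range f)) →ₐ[R] D,
        ψ.comp (IsScalarTower.toAlgHom R A ↥(Algebra.adjoin A (Set.range f))) = φ := by
  classical
  have hDtf := hD.2
  have hAtf := hA.2
  have hregc : ∀ x : D, algebraMap R D c * x = 0 → x = 0 := by
    intro x hx
    apply Groth.Agent.Lib.BoschCore76.smul_eq_zero_of_noPowTorsion_V t ht hDtf c hc x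
    rw [Algebra.smul_def]; exact hx
  have hinjA : Function.Injective (algebraMap A (A ⊗[R] FractionRing R)) :=
    Groth.Agent.Lib.BoschCore76.includeLeft_injective_of_noPowTorsion_V t ht hAtf
  have hinjD : Function.Injective (algebraMap D (D ⊗[R] FractionRing R)) :=
    Groth.Agent.Lib.BoschCore76.includeLeft_injective_of_noPowTorsion_V t ht hDtf
  have hcmem : algebraMap R D c ∈
      (Ideal.span (insert (algebraMap R A c) (Set.range g))).map φ := by
    rw [← φ.commutes c]
    exact Ideal.mem_map_of_mem _ (Ideal.subset_span (Set.mem_insert _ _))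
  -- first part
  have hfirst : (Ideal.span (insert (algebraMap R A c) (Set.range g))).map φ =
      Ideal.span {algebraMap R D c} := by
    rcases hgen with h | ⟨i, hi⟩
    · exact h
    · rw [hi]
      rw [hi, Ideal.mem_span_singleton'] at hcmem
      obtain ⟨d, hd⟩ := hcmem
      have hγ : ∀ x : D, φ (g i) * x = 0 → x = 0 := by
        intro x hx
        apply hregc
        rw [← hd, mul_assoc, hx, mul_zero]
      obtain ⟨p, hpm, hp⟩ := hf i
      have hp' : Polynomial.aeval (f i) p = 0 := by rw [Polynomial.aeval_def]; exact hp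
      have h1 := Polynomial.scaleRoots_aeval_eq_zero (r := algebraMap R A c) hp'
      have h2 : algebraMap A (A ⊗[R] FractionRing R) (algebraMap R A c) * f i =
          algebraMap A (A ⊗[R] FractionRing R) (g i) := by
        rw [hg i, ← algebraMap_smul A c (f i)]
        exact (Algebra.smul_def _ _).symm
      rw [h2, Polynomial.aeval_algebraMap_apply] at h1
      have h3 : Polynomial.aeval (g i) (p.scaleRoots (algebraMap R A c)) = 0 :=
        hinjA (by rw [h1, map_zero])
      rw [Polynomial.aeval_eq_sum_range, Polynomial.natDegree_scaleRoots] at h3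
      have h4 := congrArg φ h3
      rw [map_sum, map_zero] at h4
      have h5 : ∑ j ∈ Finset.range (p.natDegree + 1),
          φ (p.coeff j) * (algebraMap R D c) ^ (p.natDegree - j) * φ (g i) ^ j = 0 := by
        rw [← h4]
        apply Finset.sum_congr rfl
        intro j _
        rw [Polynomial.coeff_scaleRoots, smul_eq_mul, map_mul, map_mul, map_pow, map_pow,
          φ.commutes]
      have hunit := Groth.Agent.Lib.BoschCore76.isUnit_of_scaled_integral_eq (φ (g i)) d
        (algebraMap R D c) hγ hd.symm (fun j => φ (p.coeff j)) p.natDegree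
        (by rw [hpm.coeff_natDegree, map_one]) h5
      obtain ⟨v, hv⟩ := hunit
      apply le_antisymm
      · rw [Ideal.span_singleton_le_span_singleton]
        refine ⟨↑v⁻¹, ?_⟩
        rw [← hd, ← hv, mul_comm (↑v : D), mul_assoc, Units.mul_inv, mul_one]
      · rw [Ideal.span_singleton_le_span_singleton]
        exact ⟨d, by rw [← hd, mul_comm]⟩
  refine ⟨hfirst, ?_⟩
  -- the elements d_k
  have hdk : ∀ k, ∃ dk : D, dk * algebraMap R D c = φ (g k) := by
    intro k
    have : φ (g k) ∈ (Ideal.span (insert (algebraMap R A c) (Set.range g))).map φ :=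
      Ideal.mem_map_of_mem _ (Ideal.subset_span (Set.mem_insert_of_mem _ ⟨k, rfl⟩))
    rw [hfirst, Ideal.mem_span_singleton'] at this
    exact this
  choose dk hdk using hdk
  let φK : A ⊗[R] FractionRing R →ₐ[R] D ⊗[R] FractionRing R :=
    Algebra.TensorProduct.map φ (AlgHom.id R (FractionRing R))
  let ιD : D →ₐ[R] D ⊗[R] FractionRing R := Algebra.TensorProduct.includeLeft
  have hφKι : ∀ a : A, φK (algebraMap A (A ⊗[R] FractionRing R) a) = ιD (φ a) := by
    intro a
    simp [φK, ιD, Algebra.TensorProduct.algebraMap_apply]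
  have hφKf : ∀ k, φK (f k) = ιD (dk k) := by
    intro k
    rw [← sub_eq_zero]
    apply Groth.Agent.Lib.BoschCore76.smul_tensor_fractionRing_eq_zero c hc
    rw [smul_sub, ← map_smul, ← hg k, hφKι, ← map_smul, ← map_sub, Algebra.smul_def, mul_comm,
      hdk k, sub_self, map_zero]
  have hrange : ∀ x ∈ Algebra.adjoin A (Set.range f), φK x ∈ ιD.range := by
    intro x hx
    induction hx using Algebra.adjoin_induction with
    | mem x hx =>
      obtain ⟨k, rfl⟩ := hx
      exact ⟨dk k, (hφKf k).symm⟩
    | algebraMap a => exact ⟨φ a, (hφKι a).symm⟩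
    | add x y _ _ hx hy => rw [map_add]; exact ιD.range.add_mem hx hy
    | mul x y _ _ hx hy => rw [map_mul]; exact ιD.range.mul_mem hx hy
  let ψ₀ : ↥(Algebra.adjoin A (Set.range f)) →ₐ[R] ιD.range :=
    (φK.comp ((Algebra.adjoin A (Set.range f)).val.restrictScalars R)).codRestrict ιD.range
      (fun x => hrange x.1 x.2)
  let e : D ≃ₐ[R] ιD.range := AlgEquiv.ofInjective ιD hinjD
  have hcompat : ∀ (ψ' : ↥(Algebra.adjoin A (Set.range f)) →ₐ[R] D),
      ψ'.comp (IsScalarTower.toAlgHom R A ↥(Algebra.adjoin A (Set.range f))) = φ →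
      ∀ a : A, ψ' (algebraMap A ↥(Algebra.adjoin A (Set.range f)) a) = φ a := by
    intro ψ' h a
    exact DFunLike.congr_fun h a
  refine ⟨(e.symm : ιD.range →ₐ[R] D).comp ψ₀, ?_, ?_⟩
  · apply AlgHom.ext
    intro a
    show e.symm (ψ₀ (algebraMap A ↥(Algebra.adjoin A (Set.range f)) a)) = φ a
    rw [AlgEquiv.symm_apply_eq]
    apply Subtype.ext
    exact hφKι a
  · intro ψ' hψ'
    have hψ : ((e.symm : ιD.range →ₐ[R] D).comp ψ₀).comp
        (IsScalarTower.toAlgHom R A ↥(Algebra.adjoin A (Set.range f))) = φ := by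
      apply AlgHom.ext
      intro a
      show e.symm (ψ₀ (algebraMap A ↥(Algebra.adjoin A (Set.range f)) a)) = φ a
      rw [AlgEquiv.symm_apply_eq]
      apply Subtype.ext
      exact hφKι a
    have hfk : ∀ (ψ'' : ↥(Algebra.adjoin A (Set.range f)) →ₐ[R] D),
        ψ''.comp (IsScalarTower.toAlgHom R A ↥(Algebra.adjoin A (Set.range f))) = φ →
        ∀ k, algebraMap R D c * ψ'' ⟨f k, Algebra.subset_adjoin ⟨k, rfl⟩⟩ = φ (g k) := by
      intro ψ'' h k
      rw [← hcompat ψ'' h (g k), ← Algebra.smul_def, ← map_smul]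
      congr 1
      apply Subtype.ext
      exact (hg k).symm
    apply AlgHom.ext
    rintro ⟨x, hx⟩
    induction hx using Algebra.adjoin_induction with
    | mem x hx =>
      obtain ⟨k, rfl⟩ := hx
      have h1 := hfk ψ' hψ' k
      have h2 := hfk _ hψ k
      have h3 : algebraMap R D c * (ψ' ⟨f k, Algebra.subset_adjoin ⟨k, rfl⟩⟩ -
          ((e.symm : ιD.range →ₐ[R] D).comp ψ₀) ⟨f k, Algebra.subset_adjoin ⟨k, rfl⟩⟩) = 0 := by
        rw [mul_sub, h1, h2, sub_self]
      exact sub_eq_zero.mp (hregc _ h3)
    | algebraMap a =>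
      exact (hcompat ψ' hψ' a).trans (hcompat _ hψ a).symm
    | add x y hx hy ihx ihy =>
      have : (⟨x + y, Subalgebra.add_mem _ hx hy⟩ : ↥(Algebra.adjoin A (Set.range f))) =
          ⟨x, hx⟩ + ⟨y, hy⟩ := rfl
      rw [this, map_add, map_add, ihx, ihy]
    | mul x y hx hy ihx ihy =>
      have : (⟨x * y, Subalgebra.mul_mem _ hx hy⟩ : ↥(Algebra.adjoin A (Set.range f))) =
          ⟨x, hx⟩ * ⟨y, hy⟩ := rfl
      rw [this, map_mul, map_mul, ihx, ihy]

end Groth.Agent.S13353
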