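import Groth.Statements.S13354
import Groth.Agent.Lib.BoschCore76AA

set_option autoImplicit false
universe u
open AdicRing

namespace Groth.Agent.S13354

/-- Let R be a complete valuation ring of height one with t a nonzero element generating an ideal of
definition, B an admissible R-algebra which is a local integral domain of Krull dimension one (the
algebra of a rig-point), and b_1, ..., b_n elements of B, not all zero. Then there is a B-subalgebra
B' of the field of fractions of B which is finite over B, is again a local ring of Krull dimension
one, and in which the ideal generated by b_1, ..., b_n is generated by one of the b_i alone (hence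
is invertible). (This is the algebraic step by which a rig-point is lifted along the formal
blowing-up of a finitely generated open ideal; the resulting bijection between rig-points of the
blowing-up and of the base is not stated here.) -/
theorem result
    (R : Type u) [CommRing R] [IsDomain R] [ValuationRing R] [Ring.KrullDimLE 1 R]
    (t : R) (ht : t ≠ 0) [IsAdicComplete (Ideal.span {t}) R]
    (B : Type u) [CommRing B] [Algebra R B] [IsDomain B] [IsLocalRing B]
    (hB : AdicRing.Admissible R (Ideal.span {t}) B) (hdim : ringKrullDim B = 1)
    (n : ℕ) (b : Fin n → B) (hb : ∃ i, b i ≠ 0) :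
    ∃ B' : Subalgebra B (FractionRing B), Module.Finite B ↥B' ∧ IsLocalRing ↥B' ∧ ringKrullDim ↥B' = 1 ∧
      ∃ i, Ideal.span (Set.range (fun j => algebraMap B ↥B' (b j))) =
        Ideal.span {algebraMap B ↥B' (b i)} := by
  classical
  have hBt : AdicRing.TopFiniteType R (Ideal.span {t}) B := by
    obtain ⟨⟨n, φ, hφ, -⟩, -⟩ := hB
    exact ⟨n, φ, hφ⟩
  have hfin : Module.Finite R B :=
    Groth.Agent.Lib.BoschCore76.finite_of_local_dim_one t ht B hBt hB.2 hdim
  have hnt := hB.2
  have hτ0 : algebraMap R B t ≠ 0 := by
    intro h0
    have h1 : (1 : B) = 0 := by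
      apply hnt 1 1
      intro a ha
      rw [pow_one, Ideal.mem_span_singleton] at ha
      obtain ⟨c, rfl⟩ := ha
      rw [Algebra.smul_def, map_mul, h0, zero_mul, zero_mul]
    exact one_ne_zero h1
  have hinjB : Function.Injective (algebraMap R B) := by
    rw [injective_iff_map_eq_zero]
    intro r hr
    by_contra hr0
    obtain ⟨hnu, -⟩ := Groth.Agent.Lib.BoschCore76.isBase_V_unpack t ht
    obtain ⟨k, hk⟩ := Groth.Agent.Lib.BoschCore76.exists_dvd_pow' t hnu r hr0
    obtain ⟨c, hc⟩ := hk
    have h2 : algebraMap R B t ^ k = 0 := by rw [← map_pow, hc, map_mul, hr, zero_mul]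
    exact hτ0 (pow_eq_zero_iff (M₀ := B) (n := k) (by
      rintro rfl
      rw [pow_zero] at h2
      exact one_ne_zero h2) |>.mp h2)
  have hinj : Function.Injective (algebraMap R (FractionRing B)) := by
    rw [IsScalarTower.algebraMap_eq R B (FractionRing B)]
    exact (IsFractionRing.injective B (FractionRing B)).comp hinjB
  have hint : Algebra.IsIntegral R B := Algebra.IsIntegral.of_finite R B
  have halgB : Algebra.IsAlgebraic R B := inferInstance
  have htf : Module.IsTorsionFree R (FractionRing B) :=
    Module.isTorsionFree_iff_algebraMap_injective.mpr hinj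
  have halg : Algebra.IsAlgebraic R (FractionRing B) :=
    (IsFractionRing.isAlgebraic_iff' R B (FractionRing B)).mp halgB
  have hV : ValuationRing (integralClosure R (FractionRing B)) :=
    Groth.Agent.Lib.BoschCore76.valuationRing_integralClosure_V t ht (FractionRing B) hinj
  -- the elements `b j` inside the valuation ring
  let β : Fin n → integralClosure R (FractionRing B) := fun j =>
    ⟨algebraMap B (FractionRing B) (b j),
      (Algebra.IsIntegral.isIntegral (R := R) (b j)).map
        (IsScalarTower.toAlgHom R B (FractionRing B))⟩
  obtain ⟨i₀, hi₀⟩ := hb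
  obtain ⟨i, -, hi⟩ := Groth.Agent.Lib.BoschCore76.exists_dvd_of_finset β Finset.univ
    ⟨i₀, Finset.mem_univ i₀⟩
  have hdvd : ∀ j, ∃ a : integralClosure R (FractionRing B), β j = β i * a :=
    fun j => hi j (Finset.mem_univ j)
  choose a ha using hdvd
  have haL : ∀ j, algebraMap B (FractionRing B) (b j) =
      algebraMap B (FractionRing B) (b i) * (a j : FractionRing B) := fun j =>
    congrArg (fun z : integralClosure R (FractionRing B) => (z : FractionRing B)) (ha j)
  have hfinS : (Set.range fun j => (a j : FractionRing B)).Finite := Set.finite_range _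
  have hintS : ∀ x ∈ Set.range (fun j => (a j : FractionRing B)), IsIntegral B x := by
    rintro x ⟨j, rfl⟩
    exact (a j).2.tower_top
  set B' : Subalgebra B (FractionRing B) :=
    Algebra.adjoin B (Set.range fun j => (a j : FractionRing B)) with hB'
  have hfinB' : Module.Finite B B' := Algebra.finite_adjoin_of_finite_of_isIntegral hfinS hintS
  have hfinR : Module.Finite R B' := Module.Finite.trans B B'
  have hinjB' : Function.Injective (algebraMap R B') := by
    intro x y hxy
    apply hinj
    have := congrArg (fun z : B' => (z : FractionRing B)) hxy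
    exact this
  have hloc : IsLocalRing B' :=
    Groth.Agent.Lib.BoschCore76.isLocalRing_of_finite_domain t ht B' hinjB'
  have hintB' : Algebra.IsIntegral B B' := Algebra.IsIntegral.of_finite B B'
  have hinjBB' : Function.Injective (algebraMap B B') := by
    intro x y hxy
    apply IsFractionRing.injective B (FractionRing B)
    have := congrArg (fun z : B' => (z : FractionRing B)) hxy
    exact this
  have hdim' : ringKrullDim B' = 1 := by
    rw [← Groth.Agent.Lib.BoschCore76.ringKrullDim_eq_of_isIntegral_of_injective hinjBB', hdim]
  refine ⟨B', hfinB', hloc, hdim', i, ?_⟩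
  apply le_antisymm
  · rw [Ideal.span_le]
    rintro _ ⟨j, rfl⟩
    rw [SetLike.mem_coe, Ideal.mem_span_singleton']
    refine ⟨⟨a j, Algebra.subset_adjoin ⟨j, rfl⟩⟩, Subtype.ext ?_⟩
    show (a j : FractionRing B) * algebraMap B (FractionRing B) (b i) = _
    rw [mul_comm]
    exact (haL j).symm
  · rw [Ideal.span_le, Set.singleton_subset_iff]
    exact Ideal.subset_span ⟨i, rfl⟩

end Groth.Agent.S13354
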