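import Groth.Statements.S13356
import Groth.Agent.Lib.FormalChar

set_option autoImplicit false
universe u
open GaDual

namespace Groth.Agent.S13356

/-- Over a commutative algebra A over the rationals, the polynomials f with f(0) = 1 and f(X+Y) =
f(X)f(Y) (the characters of the additive group into the multiplicative group over A) are exactly the
polynomials exp(aX) with a in A nilpotent. -/
theorem result (A : Type u) [CommRing A] [Algebra ℚ A] (f : Polynomial A) :
    (f.eval 0 = 1 ∧
      Polynomial.aeval (MvPolynomial.X 0 + MvPolynomial.X 1 : MvPolynomial (Fin 2) A) f =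
        Polynomial.aeval (MvPolynomial.X 0 : MvPolynomial (Fin 2) A) f *
          Polynomial.aeval (MvPolynomial.X 1 : MvPolynomial (Fin 2) A) f) ↔
      ∃ a : A, IsNilpotent a ∧ (f : PowerSeries A) = PowerSeries.rescale a (PowerSeries.exp A) := by
  rw [Groth.Agent.Lib.FormalChar.aeval_iff_rel]
  constructor
  · rintro ⟨h0, h⟩
    have h0' : f.coeff 0 = 1 := by rw [Polynomial.coeff_zero_eq_eval_zero]; exact h0
    refine ⟨f.coeff 1, ?_, ?_⟩
    · refine ⟨f.natDegree + 1, ?_⟩
      rw [← Groth.Agent.Lib.FormalChar.factorial_mul_of_rel (fun n => f.coeff n) h0' h,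
        Polynomial.coeff_eq_zero_of_natDegree_lt (by omega), mul_zero]
    · ext n
      rw [Polynomial.coeff_coe, PowerSeries.coeff_rescale, PowerSeries.coeff_exp]
      exact Groth.Agent.Lib.FormalChar.coeff_of_rel (fun n => f.coeff n) h0' h n
  · rintro ⟨a, -, hf⟩
    have hc : ∀ n, f.coeff n =
        PowerSeries.coeff n (PowerSeries.rescale a (PowerSeries.exp A)) := fun n => by
      rw [← hf, Polynomial.coeff_coe]
    refine ⟨?_, ?_⟩
    · rw [← Polynomial.coeff_zero_eq_eval_zero, hc, PowerSeries.coeff_rescale,
        PowerSeries.coeff_exp]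
      simp
    · intro n m
      simp only [hc]
      exact Groth.Agent.Lib.FormalChar.rel_exp a n m

end Groth.Agent.S13356
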