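import Groth.Statements.S13358
import Groth.Agent.Lib.LazardCharP

set_option autoImplicit false
universe u
open GaDual

namespace Groth.Agent.S13358

open Groth.Agent.Lib.LazardCharP in
theorem aeval_pow_eq_expand {R : Type u} [CommRing R] (q : ℕ) (F : MvPolynomial (Fin 2) R) :
    MvPolynomial.aeval ![(MvPolynomial.X 0 : MvPolynomial (Fin 2) R) ^ q, MvPolynomial.X 1 ^ q] F =
      MvPolynomial.expand q F := by
  have : MvPolynomial.aeval ![(MvPolynomial.X 0 : MvPolynomial (Fin 2) R) ^ q, MvPolynomial.X 1 ^ q] =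
      MvPolynomial.expand q := by
    apply MvPolynomial.algHom_ext
    intro i
    fin_cases i <;> simp
  rw [this]

open Groth.Agent.Lib.LazardCharP in
theorem mon2_sum (i j : ℕ) : ((mon2 i j).sum fun _ e => e) = i + j := by
  rw [Finsupp.sum_fintype _ _ (by simp), Fin.sum_univ_two, mon2_zero, mon2_one]

/-- Over a commutative algebra R of prime characteristic p, a polynomial F(X,Y) is symmetric and
satisfies the two-cocycle identity F(X,Y+Z) + F(Y,Z) − F(X+Y,Z) − F(X,Y) = 0 if and only if it has
the form G(X+Y) − G(X) − G(Y) + Σ_i r_i S(X^(p^i), Y^(p^i)) with G a one-variable polynomial, r_i in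
R and S(X,Y) = Σ_{0<j<p} (C(p,j)/p) X^j Y^(p−j) the reduction mod p of ((X+Y)^p − X^p − Y^p)/p. -/
theorem result (p : ℕ) [Fact p.Prime] (R : Type u) [CommRing R] [CharP R p]
    (F : MvPolynomial (Fin 2) R) :
    (MvPolynomial.aeval ![MvPolynomial.X 1, MvPolynomial.X 0] F = F ∧
      MvPolynomial.aeval ![MvPolynomial.X 0, MvPolynomial.X 1 + MvPolynomial.X 2] F
          + MvPolynomial.aeval ![MvPolynomial.X 1, MvPolynomial.X 2] F
          - MvPolynomial.aeval ![MvPolynomial.X 0 + MvPolynomial.X 1, MvPolynomial.X 2] F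
          - MvPolynomial.aeval ![MvPolynomial.X 0, MvPolynomial.X 1] F = (0 : MvPolynomial (Fin 3) R)) ↔
      ∃ (G : Polynomial R) (N : ℕ) (r : ℕ → R),
        F = Polynomial.aeval (MvPolynomial.X 0 + MvPolynomial.X 1 : MvPolynomial (Fin 2) R) G
              - Polynomial.aeval (MvPolynomial.X 0 : MvPolynomial (Fin 2) R) G
              - Polynomial.aeval (MvPolynomial.X 1 : MvPolynomial (Fin 2) R) G
            + ∑ i ∈ Finset.range N, MvPolynomial.C (r i) *
                MvPolynomial.aeval ![MvPolynomial.X 0 ^ p ^ i, MvPolynomial.X 1 ^ p ^ i]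
                  (∑ j ∈ Finset.Ioo 0 p, MvPolynomial.C ((p.choose j / p : ℕ) : R) *
                    MvPolynomial.X 0 ^ j * MvPolynomial.X 1 ^ (p - j) : MvPolynomial (Fin 2) R) := by
  have key : ∀ (G : Polynomial R) (N : ℕ) (r : ℕ → R),
      Polynomial.aeval (MvPolynomial.X 0 + MvPolynomial.X 1 : MvPolynomial (Fin 2) R) G
              - Polynomial.aeval (MvPolynomial.X 0 : MvPolynomial (Fin 2) R) G
              - Polynomial.aeval (MvPolynomial.X 1 : MvPolynomial (Fin 2) R) G
            + ∑ i ∈ Finset.range N, MvPolynomial.C (r i) *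
                MvPolynomial.aeval ![MvPolynomial.X 0 ^ p ^ i, MvPolynomial.X 1 ^ p ^ i]
                  (∑ j ∈ Finset.Ioo 0 p, MvPolynomial.C ((p.choose j / p : ℕ) : R) *
                    MvPolynomial.X 0 ^ j * MvPolynomial.X 1 ^ (p - j) : MvPolynomial (Fin 2) R) =
      Lib.LazardCharP.dl G + ∑ t ∈ Finset.range N, MvPolynomial.C (r t) *
        MvPolynomial.expand (p ^ t) (Lib.LazardCharP.Spoly R p) := by
    intro G N r
    simp only [aeval_pow_eq_expand]
    rfl
  constructor
  · rintro ⟨hsw, hcoc⟩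
    have hD : ∀ i j, F.totalDegree + 1 ≤ i + j →
        MvPolynomial.coeff (Lib.LazardCharP.mon2 i j) F = 0 := by
      intro i j hij
      by_contra hne
      have := MvPolynomial.le_totalDegree (MvPolynomial.mem_support_iff.mpr hne)
      rw [mon2_sum] at this
      omega
    obtain ⟨G, N, r, -, -, hF⟩ := Lib.LazardCharP.lazard p (⊤ : Ideal R) (F.totalDegree + 1) F
      hsw hcoc hD (fun _ _ => Submodule.mem_top)
    exact ⟨G, N, r, by rw [key]; exact hF⟩
  · rintro ⟨G, N, r, hF⟩
    rw [key] at hF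
    constructor
    · change Lib.LazardCharP.swap F = F
      rw [hF, Lib.LazardCharP.swap_add, Lib.LazardCharP.swap_dl, Lib.LazardCharP.swap_sum]
      congr 1
      apply Finset.sum_congr rfl
      intro t _
      rw [Lib.LazardCharP.swap_C_mul, Lib.LazardCharP.swap_expand, Lib.LazardCharP.swap_Spoly]
    · change Lib.LazardCharP.coc F = 0
      rw [hF, Lib.LazardCharP.coc_add, Lib.LazardCharP.coc_dl, Lib.LazardCharP.coc_sum, zero_add]
      apply Finset.sum_eq_zero
      intro t _
      rw [Lib.LazardCharP.coc_C_mul, Lib.LazardCharP.coc_expand, Lib.LazardCharP.coc_Spoly,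
        map_zero, mul_zero]

end Groth.Agent.S13358
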