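import Groth.Statements.S13359
import Groth.Agent.Lib.H4PiLocalization
import Mathlib.RingTheory.Localization.Integral
import Mathlib.RingTheory.Polynomial.ScaleRoots
-- import your own Groth.Agent.* helpers here

set_option autoImplicit false
universe u
open UltraProd

namespace Groth.Agent.S13359

open Polynomial in
/-- In an integrally closed domain, a root of the homogenised monic polynomial gives divisibility. -/
theorem dvd_of_eval_scaleRoots_eq_zero {A : Type u} [CommRing A] [IsDomain A] [IsIntegrallyClosed A]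
    (p : A[X]) (hp : p.Monic) (a b : A) (hb : b ≠ 0) (h : (p.scaleRoots b).eval a = 0) : b ∣ a := by
  set g := algebraMap A (FractionRing A) with hg
  have hinj : Function.Injective g := IsFractionRing.injective A (FractionRing A)
  have hgb : g b ≠ 0 := fun h0 => hb (hinj (by rw [h0, map_zero]))
  have h1 := scaleRoots_eval₂_mul (p := p) g (g a / g b) b
  rw [mul_div_cancel₀ _ hgb, eval₂_at_apply, h, map_zero] at h1
  have h2 : eval₂ g (g a / g b) p = 0 := by
    rcases mul_eq_zero.mp h1.symm with h3 | h3
    · exact absurd (eq_zero_of_pow_eq_zero h3) hgb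
    · exact h3
  have hint : IsIntegral A (g a / g b) := ⟨p, hp, h2⟩
  obtain ⟨y, hy⟩ := IsIntegrallyClosed.algebraMap_eq_of_integral hint
  refine ⟨y, hinj ?_⟩
  have hy' : g y = g a / g b := hy
  rw [map_mul, hy', mul_div_cancel₀ _ hgb]


open Groth.Agent.Lib.H4PiLocalization Polynomial in
theorem main {ι : Type u} (R : ι → Type u)
    [∀ i, CommRing (R i)] [∀ i, IsDomain (R i)] [∀ i, IsIntegrallyClosed (R i)]
    (P : Ideal (∀ i, R i)) [P.IsPrime]
    (S : Type u) [CommRing S] [Algebra (∀ i, R i) S] [IsLocalization.AtPrime S P] [IsDomain S]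
    (K : Type u) [Field K] [Algebra S K] [IsFractionRing S K] (x : K) (hx : IsIntegral S x) :
    ∃ y : S, algebraMap S K y = x := by
  classical
  set algS := algebraMap (∀ i, R i) S with halgS
  set algK := algebraMap S K with halgK
  have hKinj : Function.Injective algK := IsFractionRing.injective S K
  -- Step 1: write `x` as a fraction
  obtain ⟨α, β, hβ, hxeq⟩ := IsFractionRing.div_surjective (A := S) x
  change algK α / algK β = x at hxeq
  obtain ⟨a, u, hα⟩ := exists_algebraMap_mul_unit P S α
  obtain ⟨b, v, hβ'⟩ := exists_algebraMap_mul_unit P S β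
  change α = algS a * ↑u at hα
  change β = algS b * ↑v at hβ'
  rw [hα, hβ'] at hxeq
  rw [hβ'] at hβ
  have hb0 : algS b ≠ 0 := by
    intro h0
    have := nonZeroDivisors.ne_zero hβ
    rw [h0, zero_mul] at this
    exact this rfl
  have hfb : algK (algS b) ≠ 0 := fun h0 => hb0 (hKinj (by rw [h0, map_zero]))
  -- `x₁ = f a / f b` is integral over `S`
  set x₁ : K := algK (algS a) / algK (algS b) with hx₁
  set w : Sˣ := u * v⁻¹ with hw
  have hxx₁ : algK (algS a * ↑u) / algK (algS b * ↑v) = x₁ * algK (↑w : S) := by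
    have hv : algK (↑v : S) ≠ 0 := fun h0 => v.ne_zero (hKinj (by rw [h0, map_zero]))
    have hvv : algK (↑v : S) * algK (↑v⁻¹ : S) = 1 := by rw [← map_mul, Units.mul_inv, map_one]
    have hvi : algK (↑v⁻¹ : S) = (algK (↑v : S))⁻¹ := eq_inv_of_mul_eq_one_right hvv
    rw [hx₁, hw, Units.val_mul, map_mul, map_mul, map_mul, hvi]
    field_simp
  have hx₁int : IsIntegral S x₁ := by
    have hww : algK (↑w : S) * algK (↑w⁻¹ : S) = 1 := by rw [← map_mul, Units.mul_inv, map_one]
    have : x₁ = x * algK (↑w⁻¹ : S) := by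
      rw [← hxeq, hxx₁, mul_assoc, hww, mul_one]
    rw [this]
    exact hx.mul isIntegral_algebraMap
  suffices hgoal : ∃ y : S, algK y = x₁ by
    obtain ⟨y, hy⟩ := hgoal
    exact ⟨y * ↑w, by rw [← hxeq, hxx₁, map_mul, hy]⟩
  -- Step 2: a multiple of `x₁` is integral over the product ring
  let _ : Algebra (∀ i, R i) K := (algK.comp algS).toAlgebra
  have : IsScalarTower (∀ i, R i) S K := IsScalarTower.of_algebraMap_eq (fun _ => rfl)
  obtain ⟨⟨m, hm⟩, hmx⟩ :=
    IsIntegral.exists_multiple_integral_of_isLocalization P.primeCompl x₁ hx₁int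
  obtain ⟨p, hpmonic, hp⟩ := hmx
  set f : (∀ i, R i) →+* K := algK.comp algS with hf
  have hmx₁ : (⟨m, hm⟩ : P.primeCompl) • x₁ = f m * x₁ := by
    rw [Submonoid.smul_def, Algebra.smul_def]; rfl
  have hp' : eval₂ f (f m * x₁) p = 0 := by rw [← hmx₁]; exact hp
  have h1 := scaleRoots_eval₂_eq_zero (p := p) f (s := b) hp'
  have hfb' : f b ≠ 0 := hfb
  have h2 : f b * (f m * x₁) = f (m * a) := by
    rw [hx₁, map_mul]
    show f b * (f m * (f a / f b)) = f m * f a
    field_simp
  rw [h2, eval₂_at_apply] at h1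
  set E := eval (m * a) (p.scaleRoots b) with hE
  have hE0 : algS E = 0 := hKinj (by rw [map_zero]; exact h1)
  rw [IsLocalization.map_eq_zero_iff P.primeCompl S] at hE0
  obtain ⟨⟨t, ht⟩, htE⟩ := hE0
  -- componentwise divisibility
  have hcomp : ∀ i, t i ≠ 0 → b i ≠ 0 → b i ∣ (m * a) i := by
    intro i hti hbi
    have hEi : E i = 0 := by
      have := congrFun htE i
      simp only [Pi.mul_apply, Pi.zero_apply] at this
      exact (mul_eq_zero.mp this).resolve_left hti
    have hpi : (p.map (Pi.evalRingHom R i)).Monic := hpmonic.map _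
    apply dvd_of_eval_scaleRoots_eq_zero (p.map (Pi.evalRingHom R i)) hpi _ _ hbi
    have hlc : (Pi.evalRingHom R i) p.leadingCoeff ≠ 0 := by
      rw [hpmonic.leadingCoeff, map_one]; exact one_ne_zero
    have e1 : (p.map (Pi.evalRingHom R i)).scaleRoots (b i) =
        (p.scaleRoots b).map (Pi.evalRingHom R i) := (map_scaleRoots p b _ hlc).symm
    rw [e1, eval_map]
    have e2 : eval₂ (Pi.evalRingHom R i) ((Pi.evalRingHom R i) (m * a)) (p.scaleRoots b) =
        (Pi.evalRingHom R i) (eval (m * a) (p.scaleRoots b)) := eval₂_at_apply _ _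
    exact e2.trans hEi
  -- glue the quotients
  set y : ∀ i, R i := fun i =>
    if h : t i ≠ 0 ∧ b i ≠ 0 then (hcomp i h.1 h.2).choose else 0 with hy
  have hyeq : (supp t * supp b) * (y * b) = (supp t * supp b) * (m * a) := by
    funext i
    simp only [Pi.mul_apply, supp_apply]
    by_cases hti : t i = 0
    · simp [hti]
    by_cases hbi : b i = 0
    · simp [hbi]
    have hyi : y i = (hcomp i hti hbi).choose := by
      simp only [hy]; rw [dif_pos ⟨hti, hbi⟩]
    have hspec := (hcomp i hti hbi).choose_spec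
    simp only [Pi.mul_apply] at hspec
    rw [if_neg hti, if_neg hbi, one_mul, one_mul, hyi, mul_comm, ← hspec]
    try rw [one_mul]
  have hnot : supp t * supp b ∉ P := by
    intro hmem
    rcases Ideal.IsPrime.mem_or_mem ‹_› hmem with h | h
    · exact supp_notMem_of_notMem P ht h
    · exact hb0 ((algebraMap_eq_zero_iff P S b).mpr h)
  have hSeq : algS (y * b) = algS (m * a) := algebraMap_eq_of_mul_eq P S hnot hyeq
  have hmunit : IsUnit (algS m) := IsLocalization.map_units S ⟨m, hm⟩
  have hfm : f m ≠ 0 := by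
    intro h0
    have : algS m = 0 := hKinj (by rw [map_zero]; exact h0)
    exact hmunit.ne_zero this
  refine ⟨algS y * ↑hmunit.unit⁻¹, ?_⟩
  have hmm : algK (algS m) * algK (↑hmunit.unit⁻¹ : S) = 1 := by
    rw [← map_mul]
    have : algS m * (↑hmunit.unit⁻¹ : S) = 1 := IsUnit.mul_val_inv hmunit
    rw [this, map_one]
  have hinv : algK (↑hmunit.unit⁻¹ : S) = (f m)⁻¹ := eq_inv_of_mul_eq_one_right hmm
  have hKeq : f y * f b = f m * f a := by
    have := congrArg algK hSeq
    simpa [hf, map_mul] using this
  rw [map_mul, hinv, hx₁]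
  show f y * (f m)⁻¹ = f a / f b
  field_simp
  rw [hKeq, mul_comm]

/-- If (R_i) is a nonempty family of integrally closed domains, then the localization of the product
ring ∏ R_i at any prime ideal is an integrally closed domain. -/
theorem result {ι : Type u} [Nonempty ι] (R : ι → Type u)
    [∀ i, CommRing (R i)] [∀ i, IsDomain (R i)] [∀ i, IsIntegrallyClosed (R i)]
    (P : Ideal (∀ i, R i)) [P.IsPrime] :
    IsDomain (Localization.AtPrime P) ∧ IsIntegrallyClosed (Localization.AtPrime P) := by
  open Groth.Agent.Lib.H4PiLocalization in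
  have hdom : IsDomain (Localization.AtPrime P) := isDomain_localization P _
  refine ⟨hdom, ?_⟩
  rw [isIntegrallyClosed_iff (FractionRing (Localization.AtPrime P))]
  intro x hx
  exact main R P (Localization.AtPrime P) (FractionRing (Localization.AtPrime P)) x hx

end Groth.Agent.S13359
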