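import Groth.Statements.S13360
import Groth.Agent.Lib.H4PiLocalization
-- import your own Groth.Agent.* helpers here

set_option autoImplicit false
universe u
open UltraProd

namespace Groth.Agent.S13360

/-- If (R_i) is a nonempty family of valuation rings, then the localization of the product ring ∏ R_i at
any prime ideal is a valuation ring: a domain in which, of any two elements, one divides the other. -/
theorem result {ι : Type u} [Nonempty ι] (R : ι → Type u)
    [∀ i, CommRing (R i)] [∀ i, IsDomain (R i)] [∀ i, ValuationRing (R i)]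
    (P : Ideal (∀ i, R i)) [P.IsPrime] :
    IsDomain (Localization.AtPrime P) ∧ PreValuationRing (Localization.AtPrime P) := by
  classical
  open Groth.Agent.Lib.H4PiLocalization in
  refine ⟨isDomain_localization P _, ⟨fun x y => ?_⟩⟩
  obtain ⟨a, u, rfl⟩ := exists_algebraMap_mul_unit P (Localization.AtPrime P) x
  obtain ⟨b, v, rfl⟩ := exists_algebraMap_mul_unit P (Localization.AtPrime P) y
  -- the idempotent of `J = {i | a i ∣ b i}`
  set eJ : ∀ i, R i := fun i => if a i ∣ b i then 1 else 0 with heJ
  have hsum : eJ ∈ P → (1 - eJ) ∉ P := by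
    intro h h'
    apply (Ideal.IsPrime.ne_top ‹_›)
    rw [Ideal.eq_top_iff_one]
    have := P.add_mem h' h
    rwa [sub_add_cancel] at this
  by_cases hJ : eJ ∈ P
  · -- use `1 - eJ`: off `J`, `b i ∣ a i`
    have hdiv : ∀ i, ¬ a i ∣ b i → b i ∣ a i := fun i hi =>
      (ValuationRing.dvd_total (a i) (b i)).resolve_left hi
    set c : ∀ i, R i := fun i => if h : a i ∣ b i then 0 else (hdiv i h).choose with hc
    have hkey : (1 - eJ) * (b * c) = (1 - eJ) * a := by
      funext i
      simp only [Pi.mul_apply, Pi.sub_apply, Pi.one_apply, heJ, hc]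
      by_cases h : a i ∣ b i
      · simp [h]
      · simp only [h, if_false, dite_false, sub_zero, one_mul]
        exact (hdiv i h).choose_spec.symm
    have hS := algebraMap_eq_of_mul_eq P (Localization.AtPrime P) (hsum hJ) hkey
    rw [map_mul] at hS
    refine ⟨algebraMap _ (Localization.AtPrime P) c * (↑v⁻¹ * ↑u), Or.inr ?_⟩
    calc algebraMap _ (Localization.AtPrime P) b * ↑v *
          (algebraMap _ (Localization.AtPrime P) c * (↑v⁻¹ * ↑u))
        = (algebraMap _ (Localization.AtPrime P) b * algebraMap _ (Localization.AtPrime P) c) *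
            (↑v * ↑v⁻¹) * ↑u := by ring
      _ = algebraMap _ (Localization.AtPrime P) a * ↑u := by
          rw [hS, Units.mul_inv, mul_one]
  · set c : ∀ i, R i := fun i => if h : a i ∣ b i then h.choose else 0 with hc
    have hkey : eJ * (a * c) = eJ * b := by
      funext i
      simp only [Pi.mul_apply, heJ, hc]
      by_cases h : a i ∣ b i
      · simp only [h, if_true, dite_true, one_mul]
        exact h.choose_spec.symm
      · simp [h]
    have hS := algebraMap_eq_of_mul_eq P (Localization.AtPrime P) hJ hkey
    rw [map_mul] at hS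
    refine ⟨algebraMap _ (Localization.AtPrime P) c * (↑u⁻¹ * ↑v), Or.inl ?_⟩
    calc algebraMap _ (Localization.AtPrime P) a * ↑u *
          (algebraMap _ (Localization.AtPrime P) c * (↑u⁻¹ * ↑v))
        = (algebraMap _ (Localization.AtPrime P) a * algebraMap _ (Localization.AtPrime P) c) *
            (↑u * ↑u⁻¹) * ↑v := by ring
      _ = algebraMap _ (Localization.AtPrime P) b * ↑v := by
          rw [hS, Units.mul_inv, mul_one]

end Groth.Agent.S13360
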