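import Groth.Statements.S13361
import Mathlib.GroupTheory.FiniteAbelian.Basic
-- import your own Groth.Agent.* helpers here

set_option autoImplicit false
universe u
open ProCompl

namespace Groth.Agent.S13361

/-- A finite abelian group with a nonzero element contained in every nonzero subgroup is isomorphic to a
cyclic group of prime-power order Z/p^n. -/
theorem result {A : Type u} [AddCommGroup A] [Finite A]
    (a : A) (ha : a ≠ 0) (h : ∀ B : AddSubgroup A, B ≠ ⊥ → a ∈ B) :
    ∃ p n : ℕ, p.Prime ∧ Nonempty (A ≃+ ZMod (p ^ n)) := by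
  classical
  obtain ⟨ι, _, p, hp, e, ⟨f⟩⟩ := AddCommGroup.equiv_directSum_zmod_of_finite A
  have hfa : f a ≠ 0 := fun h0 => ha (f.injective (by rw [h0, map_zero]))
  have key : ∀ i, e i ≠ 0 → ∃ z, f a = DirectSum.of (fun i => ZMod (p i ^ e i)) i z := by
    intro i hi
    let B : AddSubgroup A :=
      (AddMonoidHom.range (DirectSum.of (fun i => ZMod (p i ^ e i)) i)).comap f.toAddMonoidHom
    have hB : B ≠ ⊥ := by
      have : Fact (1 < p i ^ e i) := ⟨Nat.one_lt_pow hi (hp i).one_lt⟩
      have h1 : (1 : ZMod (p i ^ e i)) ≠ 0 := one_ne_zero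
      intro hbot
      have hm : f.symm (DirectSum.of (fun i => ZMod (p i ^ e i)) i 1) ∈ B := by
        show f (f.symm (DirectSum.of (fun i => ZMod (p i ^ e i)) i 1)) ∈
          AddMonoidHom.range (DirectSum.of (fun i => ZMod (p i ^ e i)) i)
        rw [AddEquiv.apply_symm_apply]
        exact ⟨1, rfl⟩
      rw [hbot, AddSubgroup.mem_bot] at hm
      have h2 : DirectSum.of (fun i => ZMod (p i ^ e i)) i 1 = 0 := by
        have := congrArg f hm
        rwa [AddEquiv.apply_symm_apply, map_zero] at this
      have h3 := congrArg (fun x => x i) h2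
      simp only [DirectSum.of_eq_same] at h3
      exact h1 h3
    obtain ⟨z, hz⟩ := h B hB
    exact ⟨z, hz.symm⟩
  obtain ⟨i₀, hi₀⟩ : ∃ i, e i ≠ 0 := by
    by_contra hcon
    apply hfa
    refine DFinsupp.ext fun i => ?_
    have hi : e i = 0 := by
      by_contra h'
      exact hcon ⟨i, h'⟩
    have : Subsingleton (ZMod (p i ^ e i)) := by
      rw [hi, pow_zero]; infer_instance
    exact Subsingleton.elim _ _
  have huniq : ∀ j, e j ≠ 0 → j = i₀ := by
    intro j hj
    by_contra hne
    obtain ⟨z, hz⟩ := key i₀ hi₀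
    obtain ⟨w, hw⟩ := key j hj
    apply hfa
    have h1 : (f a) j = 0 := by
      rw [hz, DirectSum.of_eq_of_ne _ _ _ hne]
    have h2 : (f a) j = w := by rw [hw, DirectSum.of_eq_same]
    rw [hw, ← h2, h1, map_zero]
  refine ⟨p i₀, e i₀, hp i₀, ⟨AddEquiv.ofBijective
    ((DFinsupp.evalAddMonoidHom i₀).comp f.toAddMonoidHom) ⟨?_, ?_⟩⟩⟩
  · rw [injective_iff_map_eq_zero]
    intro x hx
    apply f.injective
    rw [map_zero]
    refine DFinsupp.ext fun i => ?_
    by_cases hi : i = i₀
    · subst hi; exact hx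
    · have hi' : e i = 0 := by
        by_contra h'
        exact hi (huniq i h')
      have : Subsingleton (ZMod (p i ^ e i)) := by
        rw [hi', pow_zero]; infer_instance
      exact Subsingleton.elim _ _
  · intro z
    refine ⟨f.symm (DirectSum.of (fun i => ZMod (p i ^ e i)) i₀ z), ?_⟩
    show (f (f.symm _)) i₀ = z
    rw [AddEquiv.apply_symm_apply, DirectSum.of_eq_same]

end Groth.Agent.S13361
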