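import Groth.Statements.S13362
import Mathlib.GroupTheory.QuotientGroup.Finite
import Mathlib.Data.ZMod.QuotientGroup
import Mathlib.Tactic.Linarith
import Mathlib.RingTheory.Coprime.Lemmas
-- import your own Groth.Agent.* helpers here

set_option autoImplicit false
universe u
open ProCompl

namespace Groth.Agent.S13362

/-- The `q`-torsion lies in the subgroup generated by `a`. -/
theorem mem_zmultiples_of_prime_nsmul {A : Type u} [AddCommGroup A] (a : A) (ha : a ≠ 0)
    (h : ∀ B : AddSubgroup A, B ≠ ⊥ → a ∈ B) (q : ℕ) (hq : q.Prime) (x : A) (hx : q • x = 0) :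
    x ∈ AddSubgroup.zmultiples a := by
  by_cases hx0 : x = 0
  · rw [hx0]; exact zero_mem _
  have hB : AddSubgroup.zmultiples x ≠ ⊥ := by
    rw [Ne, AddSubgroup.zmultiples_eq_bot]; exact hx0
  obtain ⟨k, hk⟩ := AddSubgroup.mem_zmultiples_iff.mp (h _ hB)
  -- `q` does not divide `k`
  have hqk : ¬ ((q : ℤ) ∣ k) := by
    rintro ⟨m, rfl⟩
    apply ha
    rw [← hk, mul_comm, mul_smul, natCast_zsmul, hx, smul_zero]
  have hcop : IsCoprime k (q : ℤ) := by
    rw [Int.isCoprime_iff_gcd_eq_one, Int.gcd_comm]
    have hc : Nat.Coprime q k.natAbs :=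
      (Nat.Prime.coprime_iff_not_dvd hq).mpr (fun hd => hqk (Int.natCast_dvd.mpr hd))
    simpa [Int.gcd] using hc
  obtain ⟨u, v, huv⟩ := hcop
  refine AddSubgroup.mem_zmultiples_iff.mpr ⟨u, ?_⟩
  calc u • a = u • (k • x) + v • ((q : ℤ) • x) := by
        rw [hk, natCast_zsmul, hx, smul_zero, add_zero]
    _ = (u * k + v * q) • x := by rw [add_smul, mul_smul, mul_smul]
    _ = x := by rw [huv, one_smul]

theorem aux (N : ℕ) : ∀ (A : Type u) [AddCommGroup A], (∀ x : A, N • x = 0) → 0 < N →
    ∀ (a : A), a ≠ 0 → (∀ B : AddSubgroup A, B ≠ ⊥ → a ∈ B) → Finite A := by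
  induction N using Nat.strong_induction_on with
  | _ N ih =>
  intro A _ hN hNpos a ha h
  by_cases hN1 : N = 1
  · exfalso
    apply ha
    have := hN a
    rwa [hN1, one_smul] at this
  have hN2 : 2 ≤ N := by omega
  set q := N.minFac with hqdef
  have hq : q.Prime := Nat.minFac_prime hN1
  obtain ⟨m, hm⟩ : q ∣ N := Nat.minFac_dvd N
  have hmpos : 0 < m := by
    rcases Nat.eq_zero_or_pos m with h0 | h0
    · rw [h0, mul_zero] at hm; omega
    · exact h0
  have hmlt : m < N := by
    have := hq.two_le
    nlinarith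
  set φ : A →+ A := nsmulAddMonoidHom q with hφ
  -- finite kernel
  have haord : IsOfFinAddOrder a := isOfFinAddOrder_iff_nsmul_eq_zero.mpr ⟨N, hNpos, hN a⟩
  have hfinZ : Finite (AddSubgroup.zmultiples a) := haord.finite_zmultiples.to_subtype
  have hker : φ.ker ≤ AddSubgroup.zmultiples a := by
    intro x hx
    exact mem_zmultiples_of_prime_nsmul a ha h q hq x (by simpa [hφ] using hx)
  have hfinK : Finite φ.ker := Finite.of_injective _ (AddSubgroup.inclusion_injective hker)
  -- finite range
  have hfinR : Finite φ.range := by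
    by_cases hR : φ.range = ⊥
    · rw [hR]; infer_instance
    · have haR : a ∈ φ.range := h _ hR
      refine ih m hmlt φ.range ?_ hmpos ⟨a, haR⟩ ?_ ?_
      · rintro ⟨y, x, rfl⟩
        apply Subtype.ext
        show m • (q • x) = 0
        rw [← mul_smul, mul_comm, ← hm, hN]
      · intro h0
        exact ha (congrArg Subtype.val h0)
      · intro B' hB'
        have hB : B'.map φ.range.subtype ≠ ⊥ := by
          rw [Ne, AddSubgroup.map_eq_bot_iff_of_injective _ (AddSubgroup.subtype_injective _)]
          exact hB'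
        obtain ⟨b, hb, hba⟩ := h _ hB
        have : b = ⟨a, haR⟩ := Subtype.ext hba
        rwa [this] at hb
  have hfinQ : Finite (A ⧸ φ.ker) :=
    Finite.of_equiv _ (QuotientAddGroup.quotientKerEquivRange φ).toEquiv.symm
  exact Finite.of_addSubgroup_quotient φ.ker


/-- An abelian group of finite exponent having a nonzero element contained in every nonzero subgroup is
finite. -/
theorem result {A : Type u} [AddCommGroup A]
    (hA : AddMonoid.exponent A ≠ 0) (a : A) (ha : a ≠ 0) (h : ∀ B : AddSubgroup A, B ≠ ⊥ → a ∈ B) :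
    Finite A := by
  refine aux (AddMonoid.exponent A) A (fun x => AddMonoid.exponent_nsmul_eq_zero x)
    (Nat.pos_of_ne_zero hA) a ha h

end Groth.Agent.S13362
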