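import Groth.Statements.S13363
import Groth.Agent.S13362
import Mathlib.Topology.Algebra.OpenSubgroup
import Mathlib.Order.Zorn
-- import your own Groth.Agent.* helpers here

set_option autoImplicit false
universe u
open ProCompl

namespace Groth.Agent.S13363

/-- Let A be a topological abelian group such that the subgroup n·A is open for each n > 0, and a ∈ A.
Then A has an open subgroup of finite index not containing a if and only if a does not lie in the
subgroup of divisible elements ∩_n nA. -/
theorem result {A : Type u} [AddCommGroup A]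
    [TopologicalSpace A] [IsTopologicalAddGroup A]
    (hn : ∀ n : ℕ, 0 < n → IsOpen (Set.range (fun x : A => n • x))) (a : A) :
    (∃ B : AddSubgroup A, IsOpen (B : Set A) ∧ B.FiniteIndex ∧ a ∉ B) ↔
      ¬ (∀ n : ℕ, 0 < n → ∃ b : A, n • b = a) := by
  constructor
  · rintro ⟨B, -, hfin, haB⟩ hdiv
    have hpos : 0 < B.index := Nat.pos_of_ne_zero hfin.index_ne_zero
    obtain ⟨b, hb⟩ := hdiv B.index hpos
    apply haB
    rw [← hb]
    exact B.nsmul_index_mem b
  · intro hnd
    rw [not_forall] at hnd
    obtain ⟨n, hn'⟩ := hnd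
    rw [Classical.not_imp] at hn'
    obtain ⟨hnpos, hna⟩ := hn'
    set C : AddSubgroup A := (nsmulAddMonoidHom (α := A) n).range with hC
    have hCopen : IsOpen (C : Set A) := by
      have : (C : Set A) = Set.range (fun x : A => n • x) := by
        ext x; simp [hC]
      rw [this]; exact hn n hnpos
    have haC : a ∉ C := by
      rintro ⟨b, hb⟩
      exact hna ⟨b, hb⟩
    -- Zorn
    obtain ⟨B, hCB, hBmax⟩ := zorn_le_nonempty₀ {B : AddSubgroup A | C ≤ B ∧ a ∉ B} (by
      intro c hc hchain y hy
      refine ⟨sSup c, ⟨le_trans (hc hy).1 (le_sSup hy), ?_⟩, fun z hz => le_sSup hz⟩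
      rw [AddSubgroup.mem_sSup_of_directedOn ⟨y, hy⟩ hchain.directedOn]
      rintro ⟨s, hs, has⟩
      exact (hc hs).2 has) C ⟨le_rfl, haC⟩
    have hBs : C ≤ B ∧ a ∉ B := hBmax.prop
    refine ⟨B, AddSubgroup.isOpen_mono hBs.1 hCopen, ?_, hBs.2⟩
    -- the quotient is finite
    have hfinQ : Finite (A ⧸ B) := by
      refine Groth.Agent.S13362.result ?_ (QuotientAddGroup.mk a) ?_ ?_
      · rw [AddMonoid.exponent_ne_zero]
        refine ⟨n, hnpos, fun g => ?_⟩
        obtain ⟨x, rfl⟩ := QuotientAddGroup.mk_surjective g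
        rw [← QuotientAddGroup.mk_nsmul, QuotientAddGroup.eq_zero_iff]
        exact hBs.1 ⟨x, rfl⟩
      · rw [Ne, QuotientAddGroup.eq_zero_iff]; exact hBs.2
      · intro D hD
        by_contra haD
        have hle : B ≤ D.comap (QuotientAddGroup.mk' B) := by
          intro x hx
          show (QuotientAddGroup.mk' B) x ∈ D
          rw [QuotientAddGroup.mk'_apply, (QuotientAddGroup.eq_zero_iff x).mpr hx]
          exact zero_mem D
        have hmem : D.comap (QuotientAddGroup.mk' B) ∈ {B : AddSubgroup A | C ≤ B ∧ a ∉ B} :=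
          ⟨le_trans hBs.1 hle, haD⟩
        have hle' := hBmax.le_of_ge hmem hle
        apply hD
        rw [eq_bot_iff]
        intro d hd
        obtain ⟨x, rfl⟩ := QuotientAddGroup.mk_surjective d
        rw [AddSubgroup.mem_bot, QuotientAddGroup.eq_zero_iff]
        exact hle' hd
    exact AddSubgroup.finiteIndex_of_finite_quotient

end Groth.Agent.S13363
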