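import Groth.Statements.S13365
import Mathlib.Topology.Algebra.ClopenNhdofOne
-- import your own Groth.Agent.* helpers here

set_option autoImplicit false
universe u
open ProCompl

namespace Groth.Agent.S13365

/-- The quotient of a profinite (compact, Hausdorff, totally disconnected) abelian topological group by
a compact subgroup is profinite. -/
theorem result {A : Type u} [AddCommGroup A] [TopologicalSpace A]
    [IsTopologicalAddGroup A] [CompactSpace A] [T2Space A] [TotallyDisconnectedSpace A]
    (B : AddSubgroup A) (hB : IsCompact (B : Set A)) :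
    CompactSpace (A ⧸ B) ∧ T2Space (A ⧸ B) ∧ TotallyDisconnectedSpace (A ⧸ B) := by
  have hBc : IsClosed (B : Set A) := hB.isClosed
  have hT2 : T2Space (A ⧸ B) := inferInstance
  refine ⟨inferInstance, hT2, ?_⟩
  -- separation of nonzero points from zero by clopen subgroups
  have key : ∀ z : A ⧸ B, z ≠ 0 → ∃ U : Set (A ⧸ B), IsClopen U ∧ (0 : A ⧸ B) ∈ U ∧ z ∉ U := by
    intro z hz
    obtain ⟨x, rfl⟩ := QuotientAddGroup.mk_surjective z
    have hxB : x ∉ B := fun h => hz ((QuotientAddGroup.eq_zero_iff x).mpr h)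
    have hBeq := ProfiniteGrp.closedAddSubgroup_eq_sInf_open (G := A) ⟨B, hBc⟩
    have hBeq' : B = sInf {N : AddSubgroup A | IsOpen (N : Set A) ∧ B ≤ N} := by
      simpa using hBeq
    have : ∃ N : AddSubgroup A, IsOpen (N : Set A) ∧ B ≤ N ∧ x ∉ N := by
      by_contra hcon
      push Not at hcon
      apply hxB
      rw [hBeq', AddSubgroup.mem_sInf]
      intro N hN
      exact hcon N hN.1 hN.2
    obtain ⟨N, hNo, hBN, hxN⟩ := this
    let Nbar : AddSubgroup (A ⧸ B) := N.map (QuotientAddGroup.mk' B)
    have hNbar_open : IsOpen (Nbar : Set (A ⧸ B)) := by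
      have : (Nbar : Set (A ⧸ B)) = (QuotientAddGroup.mk : A → A ⧸ B) '' (N : Set A) := by
        ext w; simp [Nbar]
      rw [this]
      exact QuotientAddGroup.isOpenMap_coe _ hNo
    refine ⟨Nbar, ⟨AddSubgroup.isClosed_of_isOpen Nbar hNbar_open, hNbar_open⟩, Nbar.zero_mem, ?_⟩
    rintro ⟨y, hyN, hy⟩
    have hyx : (QuotientAddGroup.mk y : A ⧸ B) = QuotientAddGroup.mk x := hy
    rw [QuotientAddGroup.eq] at hyx
    have h1 : -y + x ∈ N := hBN hyx
    have h2 : x = y + (-y + x) := by abel
    rw [h2] at hxN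
    exact hxN (N.add_mem hyN h1)
  have hTS : TotallySeparatedSpace (A ⧸ B) := by
    rw [totallySeparatedSpace_iff_exists_isClopen]
    intro a b hab
    obtain ⟨U, hU, h0, hz⟩ := key (b - a) (sub_ne_zero.mpr hab.symm)
    refine ⟨(fun w => w - a) ⁻¹' U, hU.preimage (continuous_id.sub continuous_const), ?_, ?_⟩
    · simpa using h0
    · simpa using hz
  infer_instance

end Groth.Agent.S13365
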