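import Groth.Statements.S13368
-- import your own Groth.Agent.* helpers here
import Mathlib

set_option autoImplicit false
set_option linter.style.haveILetI false
universe u
open GaDual

namespace Groth.Agent.S13368

open IsDiscreteValuationRing

section val
variable {R : Type u} [CommRing R] [IsDomain R] [IsDiscreteValuationRing R]

/-- valuation of a finite sum with pairwise distinct finite valuations -/
lemma addVal_sum {ι : Type*} (s : Finset ι) (f : ι → R)
    (h : ∀ i ∈ s, ∀ j ∈ s, i ≠ j → addVal R (f i) ≠ ⊤ → addVal R (f i) ≠ addVal R (f j)) :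
    addVal R (∑ i ∈ s, f i) = s.inf (fun i => addVal R (f i)) := by
  classical
  induction s using Finset.induction_on with
  | empty => simp
  | insert a s ha ih =>
    rw [Finset.sum_insert ha, Finset.inf_insert]
    have ih' := ih (fun i hi j hj => h i (Finset.mem_insert_of_mem hi) j (Finset.mem_insert_of_mem hj))
    by_cases hta : addVal R (f a) = ⊤
    · have : f a = 0 := addVal_eq_top_iff.mp hta
      rw [this, zero_add, ih']; simp
    · have hne : addVal R (f a) ≠ addVal R (∑ i ∈ s, f i) := by
        rw [ih']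
        rcases s.eq_empty_or_nonempty with rfl | hs
        · simpa using hta
        · obtain ⟨j, hj, hjeq⟩ := Finset.exists_mem_eq_inf s hs (fun i => addVal R (f i))
          rw [hjeq]
          exact h a (Finset.mem_insert_self _ _) j (Finset.mem_insert_of_mem hj)
            (by rintro rfl; exact ha hj) hta
      rw [AddValuation.map_add_of_distinct_val _ hne, ih']

variable (p : ℕ) [Fact p.Prime] (π : R) (hπ : Irreducible π)

include hπ in
lemma addVal_term (i : ℕ) (c : R) : addVal R (π ^ i * c ^ p) = (i : ℕ∞) + p • addVal R c := by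
  rw [addVal_mul, addVal_pow, addVal_pow, addVal_uniformizer hπ]; simp

include hπ in
lemma addVal_sum_terms (c : Fin p → R) :
    addVal R (∑ i : Fin p, π ^ (i : ℕ) * c i ^ p) =
      Finset.univ.inf (fun i : Fin p => addVal R (π ^ (i : ℕ) * c i ^ p)) := by
  have hp0 : p ≠ 0 := (Fact.out : p.Prime).ne_zero
  apply addVal_sum
  intro i _ j _ hij hi heq
  rw [addVal_term p π hπ, addVal_term p π hπ] at heq
  rw [addVal_term p π hπ] at hi
  have hci : addVal R (c i) ≠ ⊤ := by
    intro h; apply hi; rw [h]; simp [hp0]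
  have hcj : addVal R (c j) ≠ ⊤ := by
    intro h; apply hi; rw [heq, h]; simp [hp0]
  obtain ⟨a, ha⟩ := ENat.ne_top_iff_exists.mp hci
  obtain ⟨b, hb⟩ := ENat.ne_top_iff_exists.mp hcj
  rw [← ha, ← hb] at heq
  simp only [nsmul_eq_mul] at heq
  norm_cast at heq
  apply hij
  have h2 := congrArg (· % p) heq
  simp only [Nat.add_mul_mod_self_left, Nat.mod_eq_of_lt i.2, Nat.mod_eq_of_lt j.2] at h2
  exact Fin.ext h2

include hπ in
lemma all_zero (c : Fin p → R) (h : ∑ i : Fin p, π ^ (i : ℕ) * c i ^ p = 0) : ∀ i, c i = 0 := by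
  have h1 := addVal_sum_terms p π hπ c
  rw [h] at h1
  have h2 : (Finset.univ.inf (fun i : Fin p => addVal R (π ^ (i : ℕ) * c i ^ p))) = ⊤ := by
    rw [← h1]; simp
  rw [Finset.inf_eq_top_iff] at h2
  intro i
  have h3 := addVal_eq_top_iff.mp (h2 i (Finset.mem_univ _))
  rcases mul_eq_zero.mp h3 with h4 | h4
  · exact absurd (eq_zero_of_pow_eq_zero h4) hπ.ne_zero
  · exact eq_zero_of_pow_eq_zero h4

include hπ in
lemma dvd_of_sum (c : Fin p → R) (s r : R) (hs : s ≠ 0)
    (h : s ^ p * r = ∑ i : Fin p, π ^ (i : ℕ) * c i ^ p) : ∀ i, s ∣ c i := by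
  intro i
  have hp : p.Prime := Fact.out
  have h1 := addVal_sum_terms p π hπ c
  rw [← h] at h1
  have h2 : addVal R (s ^ p) ≤ addVal R (π ^ (i : ℕ) * c i ^ p) := by
    calc addVal R (s ^ p) ≤ addVal R (s ^ p * r) := addVal_le_iff_dvd.mpr (dvd_mul_right _ _)
      _ = _ := h1
      _ ≤ _ := Finset.inf_le (Finset.mem_univ i)
  rw [addVal_term p π hπ, addVal_pow] at h2
  by_cases hc : c i = 0
  · rw [hc]; exact dvd_zero _
  rw [← addVal_le_iff_dvd]
  obtain ⟨a, ha⟩ := ENat.ne_top_iff_exists.mp (mt addVal_eq_top_iff.mp hs)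
  obtain ⟨b, hb⟩ := ENat.ne_top_iff_exists.mp (mt addVal_eq_top_iff.mp hc)
  rw [← ha, ← hb] at h2 ⊢
  simp only [nsmul_eq_mul] at h2
  norm_cast at h2 ⊢
  by_contra hlt
  push Not at hlt
  have h3 : p * (b + 1) ≤ p * a := Nat.mul_le_mul_left p hlt
  have h4 := i.2
  nlinarith

end val

section field
variable (p : ℕ) [Fact p.Prime] {R : Type u} [CommRing R] [IsDomain R]
  [IsDiscreteValuationRing R] [CharP R p]
  {K : Type u} [Field K] [Algebra R K] [IsFractionRing R K]
  (kp : Subfield K)
  (hkp : ∀ x : K, x ∈ kp ↔ ∃ y : K, y ^ p = x)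
  (π : R) (hπ : Irreducible π)

include hkp hπ in
lemma linInd : LinearIndependent kp (fun i : Fin p => (algebraMap R K π) ^ (i : ℕ)) := by
  rw [Fintype.linearIndependent_iff]
  intro g hg i
  have hg' : ∀ i, ∃ y : K, y ^ p = (g i : K) := fun i => (hkp _).mp (g i).2
  choose a ha using hg'
  obtain ⟨b, hb⟩ := IsLocalization.exist_integer_multiples_of_finite (nonZeroDivisors R) a
  choose r hr using hb
  have hsum : ∑ i : Fin p, π ^ (i : ℕ) * r i ^ p = 0 := by
    apply IsFractionRing.injective R K
    rw [map_sum, map_zero]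
    have : ∀ i : Fin p, algebraMap R K (π ^ (i : ℕ) * r i ^ p) =
        (algebraMap R K b) ^ p * (g i • (algebraMap R K π) ^ (i : ℕ)) := by
      intro i
      rw [map_mul, map_pow, map_pow, hr i, Algebra.smul_def, mul_pow, ha i, Subfield.smul_def,
        smul_eq_mul]
      ring
    rw [Finset.sum_congr rfl (fun i _ => this i), ← Finset.mul_sum, hg, mul_zero]
  have h0 := all_zero p π hπ r hsum i
  have h1 : a i = 0 := by
    have := hr i
    rw [h0, map_zero, Algebra.smul_def] at this
    rcases mul_eq_zero.mp this.symm with h | h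
    · exact absurd ((map_eq_zero_iff _ (IsFractionRing.injective R K)).mp h)
        (nonZeroDivisors.coe_ne_zero b)
    · exact h
  apply Subtype.ext
  rw [← ha i, h1]; simp [(Fact.out : p.Prime).ne_zero]

include hkp hπ in
lemma span_top (hdeg : Module.finrank kp K = p) :
    Submodule.span kp (Set.range (fun i : Fin p => (algebraMap R K π) ^ (i : ℕ))) = ⊤ := by
  have hp : p.Prime := Fact.out
  haveI : FiniteDimensional kp K := Module.finite_of_finrank_pos (by rw [hdeg]; exact hp.pos)
  exact (linInd p kp hkp π hπ).span_eq_top_of_card_eq_finrank'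
    (by rw [Fintype.card_fin, hdeg])

include hkp hπ in
lemma exists_repr (hdeg : Module.finrank kp K = p) (x : K) :
    ∃ a : Fin p → K, x = ∑ i : Fin p, (algebraMap R K π) ^ (i : ℕ) * a i ^ p := by
  have hx : x ∈ Submodule.span kp (Set.range (fun i : Fin p => (algebraMap R K π) ^ (i : ℕ))) := by
    rw [span_top p kp hkp π hπ hdeg]; trivial
  obtain ⟨c, hc⟩ := (Submodule.mem_span_range_iff_exists_fun kp).mp hx
  have hc' : ∀ i, ∃ y : K, y ^ p = (c i : K) := fun i => (hkp _).mp (c i).2
  choose a ha using hc'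
  refine ⟨a, ?_⟩
  rw [← hc]
  refine Finset.sum_congr rfl fun i _ => ?_
  rw [ha i, Subfield.smul_def, smul_eq_mul, mul_comm]

include hkp hπ in
lemma exists_decomp (hdeg : Module.finrank kp K = p) (r : R) :
    ∃ c : Fin p → R, r = ∑ i : Fin p, π ^ (i : ℕ) * c i ^ p := by
  obtain ⟨a, ha⟩ := exists_repr p kp hkp π hπ hdeg (algebraMap R K r)
  obtain ⟨b, hb⟩ := IsLocalization.exist_integer_multiples_of_finite (nonZeroDivisors R) a
  choose t ht using hb
  have hb0 : (b : R) ≠ 0 := nonZeroDivisors.coe_ne_zero b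
  have hsum : (b : R) ^ p * r = ∑ i : Fin p, π ^ (i : ℕ) * t i ^ p := by
    apply IsFractionRing.injective R K
    rw [map_mul, map_pow, ha, Finset.mul_sum, map_sum]
    refine Finset.sum_congr rfl fun i _ => ?_
    rw [map_mul, map_pow, map_pow, ht i, Algebra.smul_def, mul_pow]; ring
  have hdvd := dvd_of_sum p π hπ t b r hb0 hsum
  choose c hc using hdvd
  refine ⟨c, ?_⟩
  have : (b : R) ^ p * r = (b : R) ^ p * ∑ i : Fin p, π ^ (i : ℕ) * c i ^ p := by
    rw [hsum, Finset.mul_sum]
    refine Finset.sum_congr rfl fun i _ => ?_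
    rw [hc i, mul_pow]; ring
  exact mul_left_cancel₀ (pow_ne_zero _ hb0) this

include hπ in
lemma decomp_unique (c c' : Fin p → R)
    (h : ∑ i : Fin p, π ^ (i : ℕ) * c i ^ p = ∑ i : Fin p, π ^ (i : ℕ) * c' i ^ p) : c = c' := by
  have h0 : ∑ i : Fin p, π ^ (i : ℕ) * (c i - c' i) ^ p = 0 := by
    have : ∀ i : Fin p, π ^ (i : ℕ) * (c i - c' i) ^ p =
        π ^ (i : ℕ) * c i ^ p - π ^ (i : ℕ) * c' i ^ p := by
      intro i; rw [sub_pow_char]; ring
    rw [Finset.sum_congr rfl (fun i _ => this i), Finset.sum_sub_distrib, h, sub_self]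
  funext i
  exact sub_eq_zero.mp (all_zero p π hπ _ h0 i)

lemma surj (hdecomp : ∀ r : R, ∃ c : Fin p → R, r = ∑ i : Fin p, π ^ (i : ℕ) * c i ^ p) :
    Function.Surjective (fun r : R => r • KaehlerDifferential.D ℤ R π) := by
  intro ω
  have hω : ω ∈ Submodule.span R (Set.range (KaehlerDifferential.D ℤ R)) := by
    rw [KaehlerDifferential.span_range_derivation]; trivial
  have hle : Submodule.span R (Set.range (KaehlerDifferential.D ℤ R)) ≤
      Submodule.span R {KaehlerDifferential.D ℤ R π} := by
    rw [Submodule.span_le]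
    rintro _ ⟨r, rfl⟩
    obtain ⟨c, hc⟩ := hdecomp r
    rw [hc, map_sum]
    refine Submodule.sum_mem _ fun i _ => ?_
    rw [Derivation.leibniz, Derivation.leibniz_pow, Derivation.leibniz_pow]
    have hp0 : (p : R) = 0 := CharP.cast_eq_zero R p
    have hz : p • (c i ^ (p - 1) • KaehlerDifferential.D ℤ R (c i)) = 0 := by
      rw [← Nat.cast_smul_eq_nsmul R, hp0, zero_smul]
    rw [hz, smul_zero, zero_add]
    exact Submodule.smul_mem _ _ (nsmul_mem (Submodule.smul_mem _ _
      (Submodule.mem_span_singleton_self _)) _)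
  obtain ⟨r, hr⟩ := Submodule.mem_span_singleton.mp (hle hω)
  exact ⟨r, hr⟩

include hkp in
lemma not_subsingleton [CharP K p] (hdeg : Module.finrank kp K = p) :
    ¬ Subsingleton (Ω[K⁄kp]) := by
  intro hsub
  have hp : p.Prime := Fact.out
  haveI : FiniteDimensional kp K := Module.finite_of_finrank_pos (by rw [hdeg]; exact hp.pos)
  haveI : Algebra.FormallyUnramified kp K := ⟨hsub⟩
  haveI : Algebra.IsSeparable kp K := Algebra.FormallyUnramified.isSeparable kp K
  haveI : CharP kp p := RingHom.charP (algebraMap kp K) (algebraMap kp K).injective p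
  haveI : ExpChar kp p := ExpChar.prime hp
  haveI : IsPurelyInseparable kp K := by
    rw [isPurelyInseparable_iff_pow_mem kp p]
    intro x
    exact ⟨1, by rw [pow_one]; exact ⟨⟨x ^ p, (hkp _).mpr ⟨x, rfl⟩⟩, rfl⟩⟩
  have hbij := IsPurelyInseparable.bijective_algebraMap_of_isSeparable kp K
  have h1 : Module.finrank kp K = 1 := by
    rw [← (AlgEquiv.ofBijective (Algebra.ofId kp K) hbij).toLinearEquiv.finrank_eq,
      Module.finrank_self]
  rw [hdeg] at h1
  exact hp.one_lt.ne' h1

include hkp hπ in
lemma D_ne_zero (hdeg : Module.finrank kp K = p) :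
    KaehlerDifferential.D kp K (algebraMap R K π) ≠ 0 := by
  intro h0
  haveI : CharP K p := charP_of_injective_algebraMap (IsFractionRing.injective R K) p
  apply not_subsingleton p kp hkp hdeg
  have hall : ∀ x : K, KaehlerDifferential.D kp K x = 0 := by
    intro x
    have hx : x ∈ Submodule.span kp
        (Set.range (fun i : Fin p => (algebraMap R K π) ^ (i : ℕ))) := by
      rw [span_top p kp hkp π hπ hdeg]; trivial
    obtain ⟨c, hc⟩ := (Submodule.mem_span_range_iff_exists_fun kp).mp hx
    rw [← hc, map_sum]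
    refine Finset.sum_eq_zero fun i _ => ?_
    rw [Derivation.map_smul, Derivation.leibniz_pow, h0, smul_zero, smul_zero]
    exact smul_zero _
  have htop : (⊤ : Submodule K (Ω[K⁄kp])) = ⊥ := by
    rw [← KaehlerDifferential.span_range_derivation kp K, Submodule.span_eq_bot]
    rintro _ ⟨x, rfl⟩; exact hall x
  refine ⟨fun a b => ?_⟩
  have ha : a ∈ (⊤ : Submodule K (Ω[K⁄kp])) := trivial
  have hb : b ∈ (⊤ : Submodule K (Ω[K⁄kp])) := trivial
  rw [htop, Submodule.mem_bot] at ha hb
  rw [ha, hb]

include hkp hπ in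
lemma inj (hdeg : Module.finrank kp K = p) :
    Function.Injective (fun r : R => r • KaehlerDifferential.D ℤ R π) := by
  intro r r' h
  simp only at h
  have h' : (r - r') • KaehlerDifferential.D ℤ R π = 0 := by rw [sub_smul, h, sub_self]
  haveI : @IsScalarTower ℤ kp K Algebra.toSMul Algebra.toSMul Algebra.toSMul :=
    ⟨fun n a x => by simp [Algebra.smul_def, mul_assoc]⟩
  have h2 := congrArg (KaehlerDifferential.map ℤ kp R K) h'
  rw [map_smul, KaehlerDifferential.map_D, map_zero, ← algebraMap_smul K] at h2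
  rcases smul_eq_zero.mp h2 with h3 | h3
  · exact sub_eq_zero.mp ((map_eq_zero_iff _ (IsFractionRing.injective R K)).mp h3)
  · exact absurd h3 (D_ne_zero p kp hkp π hπ hdeg)

end field

/-- Let R be a discrete valuation ring of prime characteristic p whose fraction field k has degree p
over its subfield k^p of p-th powers, and π a uniformizer. Then every element of R is, in a unique
way, a sum of π^i c_i^p over 0 ≤ i < p with c_i in R, and the Kähler differentials of R (absolute,
i.e. over the integers, equivalently over the prime field) form a free module of rank one generated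
by dπ. -/
theorem result (p : ℕ) [Fact p.Prime] {R : Type u} [CommRing R]
    [IsDomain R] [IsDiscreteValuationRing R] [CharP R p]
    (kp : Subfield (FractionRing R)) (hkp : ∀ x : FractionRing R, x ∈ kp ↔ ∃ y : FractionRing R, y ^ p = x)
    (hdeg : Module.finrank kp (FractionRing R) = p)
    (π : R) (hπ : Irreducible π) :
    (∀ r : R, ∃! c : Fin p → R, r = ∑ i : Fin p, π ^ (i : ℕ) * c i ^ p) ∧
      Function.Bijective (fun r : R => r • KaehlerDifferential.D ℤ R π) := by
  have hdecomp := exists_decomp p kp hkp π hπ hdeg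
  refine ⟨fun r => ?_, inj p kp hkp π hπ hdeg, surj p π hdecomp⟩
  obtain ⟨c, hc⟩ := hdecomp r
  exact ⟨c, hc, fun c' hc' => decomp_unique p π hπ c' c (hc'.symm.trans hc)⟩

end Groth.Agent.S13368
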