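import Groth.Statements.S13369
import Groth.Agent.Lib.MacLane4H44

set_option autoImplicit false
universe u
open GaDual

namespace Groth.Agent.S13369

/-- field case: an element of a field of characteristic `p` with vanishing absolute differential
is a `p`-th power -/
theorem exists_pow_eq_of_D_eq_zero_field (p : ℕ) [Fact p.Prime] {K : Type u} [Field K] [CharP K p]
    (sK : K) (h0 : KaehlerDifferential.D ℤ K sK = 0) : ∃ c : K, c ^ p = sK := by
  classical
  let _ : Algebra (Groth.Agent.Lib.MacLane4H44.PF.{u} p) K :=
    (Groth.Agent.Lib.MacLane4H44.toField p K).toAlgebra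
  by_contra hcon
  have hnot : sK ∉ Algebra.adjoin (EGA41.pPowerSubalgebra p (Groth.Agent.Lib.MacLane4H44.PF.{u} p) K)
      (Set.range (PEmpty.elim : PEmpty.{u + 1} → K)) := by
    intro hmem
    have hrange : Set.range (PEmpty.elim : PEmpty.{u + 1} → K) = ∅ := Set.range_eq_empty _
    rw [hrange, Algebra.adjoin_empty, Algebra.mem_bot] at hmem
    obtain ⟨c, hc⟩ := hmem
    have h2 : sK ∈ EGA41.pPowerSubalgebra p (Groth.Agent.Lib.MacLane4H44.PF.{u} p) K := by
      rw [← hc]; exact c.2
    exact hcon ((Groth.Agent.Lib.MacLane2H44.mem_pPower_iff p sK).1 h2)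
  obtain ⟨d, -, hd⟩ := Groth.Agent.S2468.exists_derivation_of_notMem p
    (PEmpty.elim : PEmpty.{u + 1} → K) sK hnot
  let dZ : Derivation ℤ K K := d.restrictScalars ℤ
  have h1 : dZ.liftKaehlerDifferential (KaehlerDifferential.D ℤ K sK) = dZ sK :=
    Derivation.liftKaehlerDifferential_comp_D dZ sK
  rw [h0, map_zero] at h1
  have h2 : dZ sK = 1 := hd
  rw [h2] at h1
  exact zero_ne_one h1

theorem exists_pow_eq_aux (p : ℕ) [Fact p.Prime] {A : Type u} [CommRing A] [IsDomain A]
    [IsIntegrallyClosed A] [CharP A p] (K : Type u) [Field K] [Algebra A K] [IsFractionRing A K]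
    (s : A) (hs : KaehlerDifferential.D ℤ A s = 0) : ∃ f : A, f ^ p = s := by
  have hK : CharP K p := charP_of_injective_algebraMap (IsFractionRing.injective A K) p
  have h0 : KaehlerDifferential.D ℤ K (algebraMap A K s) = 0 := by
    rw [← KaehlerDifferential.map_D ℤ ℤ A K, hs, map_zero]
  obtain ⟨c, hc⟩ := exists_pow_eq_of_D_eq_zero_field p _ h0
  have hint : IsIntegral A c := by
    refine ⟨Polynomial.X ^ p - Polynomial.C s,
      Polynomial.monic_X_pow_sub_C s (Fact.out : p.Prime).ne_zero, ?_⟩
    simp [hc]
  obtain ⟨f, hf⟩ := (IsIntegrallyClosed.isIntegral_iff (R := A) (K := K)).1 hint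
  refine ⟨f, ?_⟩
  apply IsFractionRing.injective A K
  rw [map_pow, hf, hc]

/-- For a normal Noetherian domain A of prime characteristic p, an element whose differential vanishes
in the absolute Kähler differentials of A is a p-th power; that is, the sequence F : A → A, d : A →
Ω_A (F the Frobenius) is exact at the middle term. (The published statement is for normal locally
Noetherian schemes of characteristic p; this row is the case of the spectrum of a normal Noetherian
domain.) -/
theorem result (p : ℕ) [Fact p.Prime] {A : Type u} [CommRing A] [IsDomain A]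
    [IsNoetherianRing A] [IsIntegrallyClosed A] [CharP A p] (s : A) (hs : KaehlerDifferential.D ℤ A s = 0) :
    ∃ f : A, f ^ p = s := by
  exact exists_pow_eq_aux p (FractionRing A) s hs

end Groth.Agent.S13369
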