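import Groth.Statements.S1337
import Groth.Agent.Lib.H77GeomCountMain
import Groth.Agent.Lib.H77ClosurePoint

set_option autoImplicit false
universe u
open FlatMor

namespace Groth.Agent.S1337

open AlgebraicGeometry CategoryTheory Limits in
/-- Let f be of finite type and let y be a point of the target. Then the function counting the connected
components of the geometric fibres of f is constant on some subset of the closure of y which is open
in that closure and contains y. -/
theorem result {X Y : Scheme.{u}} (f : X ⟶ Y) [LocallyOfFiniteType f] [QuasiCompact f] (y : Y) :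
    ∃ V : Set ↑Y, V ⊆ closure {y} ∧ y ∈ V ∧ IsOpen (Subtype.val ⁻¹' V : Set ↑(closure ({y} : Set ↑Y))) ∧
      ∀ y' ∈ V, MoreMor.nGeomConnComp f y' = MoreMor.nGeomConnComp f y := by
  exact Groth.Agent.Lib.H77ClosurePoint.exists_subset_closure_of_irreducible
    (fun _ _ f y => MoreMor.nGeomConnComp f y)
    (fun _ _ _ _ _ _ _ _ hc y' => Groth.Agent.Lib.GeomFibBC13.nGeomConnComp_eq hc y')
    (fun _ _ f _ _ _ => Groth.Agent.Lib.H77GeomCountMain.exists_opens_nGeomConnComp_eq f) f y

end Groth.Agent.S1337
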