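import Groth.Statements.S13370

set_option autoImplicit false
universe u
open GaDual

namespace Groth.Agent.S13370

open AlgebraicGeometry CategoryTheory

theorem comp_appTop_apply {A B C : Scheme.{u}} (f : A ⟶ B) (g : B ⟶ C) (y : Γ(C, ⊤)) :
    (f ≫ g).appTop y = f.appTop (g.appTop y) := by
  rw [Scheme.Hom.comp_appTop]; rfl

theorem appTop_bijective_of_iso {Y Z : Scheme.{u}} (e : Y ≅ Z) :
    Function.Bijective e.hom.appTop := by
  refine Function.bijective_iff_has_inverse.mpr ⟨e.inv.appTop, fun y => ?_, fun y => ?_⟩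
  · rw [← comp_appTop_apply, e.inv_hom_id]; rfl
  · rw [← comp_appTop_apply, e.hom_inv_id]; rfl

theorem affine_case (n : Type u) (S : Scheme.{u}) [IsAffine S] [IsReduced S]
    (w : Γ(𝔸(n; S), ⊤)) (hw : IsUnit w) : ∃ r : Γ(S, ⊤), (𝔸(n; S) ↘ S).appTop r = w := by
  let E : MvPolynomial n Γ(S, ⊤) →+* Γ(𝔸(n; S), ⊤) :=
    MvPolynomial.eval₂Hom ((𝔸(n; S) ↘ S).appTop).hom (AffineSpace.coord S)
  have hE : Function.Bijective E := by
    have h2 := AffineSpace.isoOfIsAffine_hom_appTop (n := n) (S := S)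
    have h3 : CommRingCat.ofHom E =
        (Scheme.ΓSpecIso _).inv ≫ (AffineSpace.isoOfIsAffine n S).hom.appTop := by
      rw [h2, Iso.inv_hom_id_assoc]
    have h4 : Function.Bijective (CommRingCat.ofHom E) := by
      rw [h3]
      exact (appTop_bijective_of_iso (AffineSpace.isoOfIsAffine n S)).comp
        ((ConcreteCategory.isIso_iff_bijective (Scheme.ΓSpecIso _).inv).mp inferInstance)
    exact h4
  obtain ⟨p, rfl⟩ := hE.2 w
  have hp : IsUnit p := by
    have h3 : (RingEquiv.ofBijective E hE).symm (E p) = p :=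
      (RingEquiv.ofBijective E hE).symm_apply_apply p
    rw [← h3]; exact hw.map _
  obtain ⟨r, hr, rfl⟩ := MvPolynomial.isUnit_iff_eq_C_of_isReduced.mp hp
  exact ⟨r, by simp [E]⟩

theorem appTop_ext_of_openCover {P : Scheme.{u}} (𝒱 : P.OpenCover) (a b : Γ(P, ⊤))
    (h : ∀ i, (𝒱.f i).appTop a = (𝒱.f i).appTop b) : a = b := by
  have key : (AffineSpace.toSpecMvPolyIntEquiv PUnit.{u+1}).symm (fun _ => a) =
      (AffineSpace.toSpecMvPolyIntEquiv PUnit.{u+1}).symm (fun _ => b) := by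
    refine 𝒱.hom_ext _ _ (fun i => ?_)
    apply (AffineSpace.toSpecMvPolyIntEquiv PUnit.{u+1}).injective
    ext j
    rw [AffineSpace.toSpecMvPolyIntEquiv_comp, AffineSpace.toSpecMvPolyIntEquiv_comp,
      Equiv.apply_symm_apply, Equiv.apply_symm_apply]
    exact h i
  have := congrFun (congrArg (AffineSpace.toSpecMvPolyIntEquiv PUnit.{u+1}) key) PUnit.unit
  simpa using this


open AlgebraicGeometry in
/-- Over a reduced scheme X, each invertible global function on 𝔸ⁿ_X comes, by pullback along the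
projection to X, from an invertible global function on X. -/
theorem result (n : Type u) [Finite n] (X : Scheme.{u}) [IsReduced X]
    (w : Γ(𝔸(n; X), ⊤)) (hw : IsUnit w) :
    ∃ v : Γ(X, ⊤), IsUnit v ∧ (𝔸(n; X) ↘ X).appTop v = w := by
  let s : X ⟶ 𝔸(n; X) := AffineSpace.homOfVector (𝟙 X) 0
  have hs : s ≫ (𝔸(n; X) ↘ X) = 𝟙 X := AffineSpace.homOfVector_over _ _
  refine ⟨s.appTop w, hw.map _, ?_⟩
  let 𝒰 := X.affineCover
  refine appTop_ext_of_openCover (𝒰.pullback₁ (𝔸(n; X) ↘ X)) _ _ (fun (i : 𝒰.I₀) => ?_)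
  have hpb := AffineSpace.isPullback_map (n := n) (𝒰.f i)
  let e := hpb.isoPullback
  have he : e.hom ≫ ((𝒰.pullback₁ (𝔸(n; X) ↘ X)).f i) = AffineSpace.map n (𝒰.f i) :=
    hpb.isoPullback_hom_fst
  have key : ∀ y, e.hom.appTop (((𝒰.pullback₁ (𝔸(n; X) ↘ X)).f i).appTop y) =
      (AffineSpace.map n (𝒰.f i)).appTop y := fun y =>
    (comp_appTop_apply e.hom ((𝒰.pullback₁ (𝔸(n; X) ↘ X)).f i) y).symm.trans
      (congrArg (fun f => (Scheme.Hom.appTop f) y) he)
  apply (appTop_bijective_of_iso e).1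
  rw [key, key]
  -- now on 𝔸(n; U_i)
  have : IsReduced (𝒰.X i) := isReduced_of_isOpenImmersion (𝒰.f i)
  obtain ⟨r, hr⟩ := affine_case n (𝒰.X i) ((AffineSpace.map n (𝒰.f i)).appTop w) (hw.map _)
  let sᵢ : 𝒰.X i ⟶ 𝔸(n; 𝒰.X i) := AffineSpace.homOfVector (𝟙 _) 0
  have hsᵢ : sᵢ ≫ (𝔸(n; 𝒰.X i) ↘ 𝒰.X i) = 𝟙 _ := AffineSpace.homOfVector_over _ _
  have hcomm : 𝒰.f i ≫ s = sᵢ ≫ AffineSpace.map n (𝒰.f i) := by
    ext1
    · simp [s, sᵢ]
    · rw [comp_appTop_apply, comp_appTop_apply, AffineSpace.map_appTop_coord,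
        AffineSpace.homOfVector_appTop_coord, AffineSpace.homOfVector_appTop_coord]
      simp
  rw [← comp_appTop_apply, AffineSpace.map_over, comp_appTop_apply, ← comp_appTop_apply _ s,
    hcomm, comp_appTop_apply, ← hr, ← comp_appTop_apply sᵢ, hsᵢ]
  rfl

end Groth.Agent.S13370
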