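import Groth.Statements.S13371
import Groth.Prelude.Def_GmPts
import Groth.Agent.Lib.GaPts
import Groth.Agent.S13370

set_option autoImplicit false
universe u
open GaDual

namespace Groth.Agent.S13371

section Helpers
open CategoryTheory AlgebraicGeometry MonObj CartesianMonoidalCategory
open Groth.Agent.Lib.GaPts

variable (S : Scheme.{u})

noncomputable def AOver : Over S := Over.mk (𝔸(PUnit.{u+1}; S) ↘ S)

noncomputable def toA : Red.Ga S ⟶ AOver S :=
  Over.homMk (AffineSpace.homOfVector (Red.Ga S).hom (fun _ => Red.gaFn (𝟙 (Red.Ga S))))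
    (AffineSpace.homOfVector_over _ _)

noncomputable def fromA : AOver S ⟶ Red.Ga S :=
  ptOfElt (T := AOver S) (AffineSpace.coord S PUnit.unit)

theorem toA_fromA : toA S ≫ fromA S = 𝟙 (Red.Ga S) := by
  rw [← gaFn_inj, gaFn_comp]
  change (toA S).left.appTop (Red.gaFn (ptOfElt (T := AOver S) (AffineSpace.coord S PUnit.unit))) = _
  rw [gaFn_ptOfElt]
  exact AffineSpace.homOfVector_appTop_coord _ _ _

theorem exists_const {S : Scheme.{u}} [IsReduced S] (f : Γ((Red.Ga S).left, ⊤)) (hf : IsUnit f) :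
    ∃ v : Γ(S, ⊤), (Red.Ga S).hom.appTop v = f := by
  obtain ⟨v, -, hfv⟩ := Groth.Agent.S13370.result PUnit.{u+1} S ((fromA S).left.appTop f) (hf.map _)
  refine ⟨v, ?_⟩
  have h1 : (toA S).left.appTop ((fromA S).left.appTop f) = f := by
    rw [← Groth.Agent.S13370.comp_appTop_apply, ← Over.comp_left, toA_fromA]
    rfl
  rw [← h1, ← hfv]
  have h2 := Groth.Agent.S13370.comp_appTop_apply (toA S).left (AOver S).hom v
  rw [Over.w (toA S)] at h2
  exact h2

end Helpers


open CategoryTheory AlgebraicGeometry MonObj CartesianMonoidalCategory in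
/-- If S is a reduced scheme, every homomorphism of S-group schemes from the additive group to the
multiplicative group over S is the trivial homomorphism. -/
theorem result (S : Scheme.{u}) [IsReduced S] (φ : Red.Ga S ⟶ Red.Gm S)
    [IsMonHom φ] : φ = 1 := by
  apply GmPts.gmFn_injective
  change Red.gmFn φ = Red.gmFn 1
  rw [GmPts.gmFn_one]
  obtain ⟨v, hv⟩ := exists_const (Red.gmFn φ) (GmPts.isUnit_gmFn φ)
  have h2 : η[Red.Ga S] ≫ φ = η[Red.Gm S] := IsMonHom.one_hom φ
  have h3 := GmPts.gmFn_comp η[Red.Ga S] φ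
  rw [h2] at h3
  have h4 : η[Red.Gm S] = 1 := by
    rw [Hom.one_def]
    simp
  rw [h4, GmPts.gmFn_one, ← hv, ← Groth.Agent.S13370.comp_appTop_apply] at h3
  have h5 : (η[Red.Ga S]).left ≫ (Red.Ga S).hom = 𝟙 S := Over.w η[Red.Ga S]
  rw [h5] at h3
  have h6 : v = 1 := h3.symm
  rw [← hv, h6, map_one]

end Groth.Agent.S13371
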