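import Groth.Statements.S13373
import Groth.Agent.Lib.FormalCharP

set_option autoImplicit false
universe u
open GaDual

namespace Groth.Agent.S13373

/-- Over a commutative algebra A of prime characteristic p, the formal characters (power series χ with
constant term 1 and χ(X+Y) = χ(X)χ(Y)) are exactly the infinite products ∏_n exp_p(a_n X^(p^n)) with
a_n^p = 0, where exp_p(Y) = Σ_{j<p} Y^j/j!; the infinite product is expressed through its
truncations: χ mod X^(p^m) equals the finite product over n < m. -/
theorem result (p : ℕ) [Fact p.Prime] (A : Type u) [CommRing A] [CharP A p]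
    (χ : PowerSeries A) :
    (PowerSeries.constantCoeff χ = 1 ∧
      PowerSeries.subst (MvPowerSeries.X 0 + MvPowerSeries.X 1 : MvPowerSeries (Fin 2) A) χ =
        PowerSeries.subst (MvPowerSeries.X 0 : MvPowerSeries (Fin 2) A) χ *
          PowerSeries.subst (MvPowerSeries.X 1 : MvPowerSeries (Fin 2) A) χ) ↔
      ∃ a : ℕ → A, (∀ n, a n ^ p = 0) ∧ ∀ m : ℕ,
        PowerSeries.trunc (p ^ m) χ = ∏ n ∈ Finset.range m, ∑ j ∈ Finset.range p,
          Polynomial.C (Ring.inverse (j.factorial : A) * a n ^ j) * Polynomial.X ^ (j * p ^ n) := by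
  rw [Groth.Agent.Lib.FormalChar.subst_iff_rel]
  constructor
  · rintro ⟨h0, h⟩
    have h0' : PowerSeries.coeff 0 χ = 1 := by
      rw [PowerSeries.coeff_zero_eq_constantCoeff_apply]; exact h0
    refine ⟨fun i => PowerSeries.coeff (p ^ i) χ, ?_, ?_⟩
    · intro i
      exact Groth.Agent.Lib.FormalCharP.pow_p_eq_zero (fun k => PowerSeries.coeff k χ) (i + 1) h0'
        (fun a b _ _ => h a b) i (Nat.lt_succ_self i)
    · intro m
      rw [PowerSeries.trunc_apply, Nat.Ico_zero_eq_range]
      exact Groth.Agent.Lib.FormalCharP.trunc_eq_prod (p := p) (fun k => PowerSeries.coeff k χ) m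
        h0' (fun a b _ _ => h a b) m le_rfl
  · rintro ⟨a, ha, h⟩
    have hc : ∀ M k, k < p ^ M → PowerSeries.coeff k χ =
        (∏ i ∈ Finset.range M, Groth.Agent.Lib.FormalCharP.E p (a i) (p ^ i)).coeff k := by
      intro M k hk
      have := congrArg (fun q => Polynomial.coeff q k) (h M)
      simp only [PowerSeries.coeff_trunc, if_pos hk] at this
      exact this
    constructor
    · have := hc 0 0 (by simp)
      rw [← PowerSeries.coeff_zero_eq_constantCoeff_apply, this]
      simp
    · intro n m
      have hlt : n + m < p ^ (n + m) := Nat.lt_pow_self (Fact.out : p.Prime).one_lt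
      show ((n + m).choose n : A) * PowerSeries.coeff (n + m) χ =
        PowerSeries.coeff n χ * PowerSeries.coeff m χ
      rw [hc (n + m) (n + m) hlt, hc (n + m) n (by omega), hc (n + m) m (by omega)]
      exact Groth.Agent.Lib.FormalCharP.rel_prod a ha (n + m) n m

end Groth.Agent.S13373
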