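import Groth.Statements.S13374
import Groth.Agent.Lib.FormalCharP

set_option autoImplicit false
universe u
open GaDual

namespace Groth.Agent.S13374

/-- Over a commutative algebra A of prime characteristic p, every character of the kernel α_(p^n) of the
n-th Frobenius of the additive group — i.e. every polynomial f of degree < p^n with f(0) = 1 and
f(X+Y) ≡ f(X)f(Y) modulo (X^(p^n), Y^(p^n)) — is the product ∏_{i<n} exp_p(a_i X^(p^i)) for some a_i
with a_i^p = 0, exp_p(Y) = Σ_{j<p} Y^j/j!. -/
theorem result (p : ℕ) [Fact p.Prime] (A : Type u) [CommRing A] [CharP A p]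
    (n : ℕ) (f : Polynomial A) (hdeg : f.natDegree < p ^ n) (h0 : f.eval 0 = 1)
    (hmul : Ideal.Quotient.mk
        (Ideal.span {(MvPolynomial.X 0 ^ p ^ n : MvPolynomial (Fin 2) A), MvPolynomial.X 1 ^ p ^ n})
        (Polynomial.aeval (MvPolynomial.X 0 + MvPolynomial.X 1 : MvPolynomial (Fin 2) A) f) =
      Ideal.Quotient.mk
        (Ideal.span {(MvPolynomial.X 0 ^ p ^ n : MvPolynomial (Fin 2) A), MvPolynomial.X 1 ^ p ^ n})
        (Polynomial.aeval (MvPolynomial.X 0 : MvPolynomial (Fin 2) A) f *
          Polynomial.aeval (MvPolynomial.X 1 : MvPolynomial (Fin 2) A) f)) :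
    ∃ a : ℕ → A, (∀ i, a i ^ p = 0) ∧
      f = ∏ i ∈ Finset.range n, ∑ j ∈ Finset.range p,
          Polynomial.C (Ring.inverse (j.factorial : A) * a i ^ j) * Polynomial.X ^ (j * p ^ i) := by
  have h0' : f.coeff 0 = 1 := by rw [Polynomial.coeff_zero_eq_eval_zero]; exact h0
  have H : ∀ a b, a < p ^ n → b < p ^ n →
      ((a + b).choose a : A) * f.coeff (a + b) = f.coeff a * f.coeff b :=
    fun a b ha hb => Groth.Agent.Lib.FormalChar.rel_of_quotient f (p ^ n) hmul a b ha hb
  refine ⟨fun i => if i < n then f.coeff (p ^ i) else 0, ?_, ?_⟩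
  · intro i
    by_cases hi : i < n
    · simp only [if_pos hi]
      exact Groth.Agent.Lib.FormalCharP.pow_p_eq_zero (fun k => f.coeff k) n h0' H i hi
    · simp only [if_neg hi]
      exact zero_pow (Fact.out : p.Prime).ne_zero
  · have h1 := Groth.Agent.Lib.FormalCharP.trunc_eq_prod (p := p) (fun k => f.coeff k) n h0' H n
      le_rfl
    rw [← Polynomial.as_sum_range' f _ hdeg] at h1
    refine h1.trans ?_
    apply Finset.prod_congr rfl
    intro i hi
    rw [Finset.mem_range] at hi
    simp only [if_pos hi]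
    rfl

end Groth.Agent.S13374
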