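import Groth.Statements.S13375
import Mathlib

set_option autoImplicit false
universe u v
open CechDer

namespace Groth.Agent.S13375

section Helpers
open CategoryTheory CategoryTheory.Limits

variable {V : Type u} [Category.{v} V] [Abelian V]

/-- extension along an arbitrary map φ provided ψ kills the kernel of φ -/
lemma exists_ext {S T J : V} [Injective J] (φ : S ⟶ T) (ψ : S ⟶ J)
    (h : kernel.ι φ ≫ ψ = 0) : ∃ e : T ⟶ J, φ ≫ e = ψ := by
  refine ⟨Injective.factorThru (cokernel.desc (kernel.ι φ) ψ h) (Abelian.factorThruCoimage φ), ?_⟩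
  have : Abelian.coimage.π φ ≫ Abelian.factorThruCoimage φ ≫
      Injective.factorThru (cokernel.desc (kernel.ι φ) ψ h) (Abelian.factorThruCoimage φ) = ψ := by
    rw [Injective.comp_factorThru]; exact cokernel.π_desc _ _ _
  rw [← Category.assoc, Abelian.coimage.fac] at this
  exact this

/-- extension from a "sum of two subobjects" -/
lemma exists_ext₂ {A B T J : V} [Injective J] (a : A ⟶ T) (b : B ⟶ T) (α : A ⟶ J) (β : B ⟶ J)
    (h : ∀ {K : V} (x : K ⟶ A) (y : K ⟶ B), x ≫ a + y ≫ b = 0 → x ≫ α + y ≫ β = 0) :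
    ∃ e : T ⟶ J, a ≫ e = α ∧ b ≫ e = β := by
  obtain ⟨e, he⟩ := exists_ext (biprod.desc a b) (biprod.desc α β) (by
    have h1 := kernel.condition (biprod.desc a b)
    have h2 := h (kernel.ι (biprod.desc a b) ≫ biprod.fst) (kernel.ι (biprod.desc a b) ≫ biprod.snd)
      (by
        rw [Category.assoc, Category.assoc, ← Preadditive.comp_add]
        have : (biprod.fst ≫ a + biprod.snd ≫ b : A ⊞ B ⟶ T) = biprod.desc a b := by
          ext <;> simp
        rw [this, h1])
    rw [Category.assoc, Category.assoc, ← Preadditive.comp_add] at h2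
    have : (biprod.fst ≫ α + biprod.snd ≫ β : A ⊞ B ⟶ J) = biprod.desc α β := by
      ext <;> simp
    rw [this] at h2
    exact h2)
  refine ⟨e, ?_, ?_⟩
  · have := congrArg (fun t => biprod.inl ≫ t) he
    simpa using this
  · have := congrArg (fun t => biprod.inr ≫ t) he
    simpa using this

section
variable {C' C I : CochainComplex V ℕ} (j : C' ⟶ C) (f' : C' ⟶ I)

structure Stage (n : ℕ) where
  f : C.X n ⟶ I.X n
  hj : j.f n ≫ f = f'.f n
  hk : ∀ {K : V} (k : K ⟶ C.X n), k ≫ C.d n (n+1) = 0 → k ≫ f ≫ I.d n (n+1) = 0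

variable {j f'}

lemma Stage.step [∀ n, Mono (j.f n)] [∀ n, Injective (I.X n)]
    (hC : ∀ n, 0 < n → C.ExactAt n) (hC' : ∀ n, 0 < n → C'.ExactAt n)
    {n : ℕ} (s : Stage j f' n) :
    ∃ t : Stage j f' (n+1), s.f ≫ I.d n (n+1) = C.d n (n+1) ≫ t.f := by
  have exC : (C.sc' n (n+1) (n+2)).Exact :=
    (C.exactAt_iff' n (n+1) (n+2) (by simp) (by simp)).1 (hC (n+1) (Nat.succ_pos n))
  have exC' : (C'.sc' n (n+1) (n+2)).Exact :=
    (C'.exactAt_iff' n (n+1) (n+2) (by simp) (by simp)).1 (hC' (n+1) (Nat.succ_pos n))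
  obtain ⟨e, he1, he2⟩ := exists_ext₂ (C.d n (n+1)) (j.f (n+1)) (s.f ≫ I.d n (n+1)) (f'.f (n+1))
    (by
      intro K x y hxy
      have hy : y ≫ C'.d (n+1) (n+2) = 0 := by
        rw [← cancel_mono (j.f (n+2)), Category.assoc, ← j.comm, ← Category.assoc, zero_comp]
        have : y ≫ j.f (n+1) = - (x ≫ C.d n (n+1)) := by
          rw [eq_neg_iff_add_eq_zero]; exact (add_comm _ _).trans hxy
        rw [this]; simp
      obtain ⟨A', π, hπ, x', hx'⟩ := exC'.exact_up_to_refinements y hy
      change A' ⟶ C'.X n at x'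
      change π ≫ y = x' ≫ C'.d n (n+1) at hx'
      have h1 : (π ≫ x + x' ≫ j.f n) ≫ C.d n (n+1) = 0 := by
        rw [Preadditive.add_comp, Category.assoc, Category.assoc, j.comm, ← Category.assoc x',
          ← hx', Category.assoc, ← Preadditive.comp_add, hxy, comp_zero]
      have h2 := s.hk _ h1
      rw [Preadditive.add_comp, Category.assoc, Category.assoc, ← Category.assoc (j.f n),
        s.hj, f'.comm, ← Category.assoc x', ← hx', Category.assoc, ← Preadditive.comp_add] at h2
      rw [← cancel_epi π, h2, comp_zero])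
  refine ⟨⟨e, he2, ?_⟩, he1.symm⟩
  intro K k hk
  obtain ⟨A', π, hπ, x₁, hx₁⟩ := exC.exact_up_to_refinements k hk
  change A' ⟶ C.X n at x₁
  change π ≫ k = x₁ ≫ C.d n (n+1) at hx₁
  rw [← cancel_epi π, comp_zero, ← Category.assoc, hx₁, Category.assoc, ← Category.assoc _ e,
    he1, Category.assoc, I.d_comp_d, comp_zero, comp_zero]

end

section
variable {C' C I : CochainComplex V ℕ} {j : C' ⟶ C} {f' : C' ⟶ I}

lemma Stage.zero [∀ n, Mono (j.f n)] [∀ n, Injective (I.X n)]
    (g : C.homology 0 ⟶ I.homology 0)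
    (hg : HomologicalComplex.homologyMap j 0 ≫ g = HomologicalComplex.homologyMap f' 0) :
    ∃ s : Stage j f' 0,
      C.iCycles 0 ≫ s.f = C.homologyπ 0 ≫ g ≫ I.isoHomologyπ₀.inv ≫ I.iCycles 0 := by
  obtain ⟨e, he1, he2⟩ := exists_ext₂ (C.iCycles 0) (j.f 0)
    (C.homologyπ 0 ≫ g ≫ I.isoHomologyπ₀.inv ≫ I.iCycles 0) (f'.f 0)
    (by
      intro K x y hxy
      have hy : y ≫ C'.d 0 1 = 0 := by
        rw [← cancel_mono (j.f 1), Category.assoc, ← j.comm, ← Category.assoc, zero_comp]
        have : y ≫ j.f 0 = - (x ≫ C.iCycles 0) := by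
          rw [eq_neg_iff_add_eq_zero]; exact (add_comm _ _).trans hxy
        rw [this]; simp
      have hy0 := C'.liftCycles_i y 1 (by simp) hy
      set y₀ := C'.liftCycles y 1 (by simp) hy
      have hx : x = - (y₀ ≫ HomologicalComplex.cyclesMap j 0) := by
        rw [← cancel_mono (C.iCycles 0), Preadditive.neg_comp, Category.assoc,
          HomologicalComplex.cyclesMap_i, ← Category.assoc, hy0, eq_neg_iff_add_eq_zero]
        exact hxy
      rw [hx, Preadditive.neg_comp, Category.assoc, ← HomologicalComplex.homologyπ_naturality_assoc,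
        ← Category.assoc (HomologicalComplex.homologyMap j 0), hg,
        CochainComplex.isoHomologyπ₀_inv_naturality_assoc,
        HomologicalComplex.isoHomologyπ_hom_inv_id_assoc, HomologicalComplex.cyclesMap_i,
        ← Category.assoc, hy0]
      simp)
  refine ⟨⟨e, he2, ?_⟩, he1⟩
  intro K k hk
  have := C.liftCycles_i k 1 (by simp) hk
  rw [← this, Category.assoc, ← Category.assoc (C.iCycles 0), he1]
  simp

/-- **Relative lifting lemma.** -/
lemma exists_lift_rel [∀ n, Mono (j.f n)] [∀ n, Injective (I.X n)]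
    (hC : ∀ n, 0 < n → C.ExactAt n) (hC' : ∀ n, 0 < n → C'.ExactAt n)
    (g : C.homology 0 ⟶ I.homology 0)
    (hg : HomologicalComplex.homologyMap j 0 ≫ g = HomologicalComplex.homologyMap f' 0) :
    ∃ f : C ⟶ I, j ≫ f = f' ∧ HomologicalComplex.homologyMap f 0 = g := by
  obtain ⟨s0, hs0⟩ := Stage.zero (j := j) (f' := f') g hg
  let seq : ∀ n, Stage j f' n :=
    fun n => Nat.rec s0 (fun n s => Classical.choose (Stage.step hC hC' s)) n
  have hseq : ∀ n, (seq n).f ≫ I.d n (n+1) = C.d n (n+1) ≫ (seq (n+1)).f :=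
    fun n => Classical.choose_spec (Stage.step hC hC' (seq n))
  let f : C ⟶ I :=
    { f := fun n => (seq n).f
      comm' := by
        intro i k hik
        obtain rfl : i + 1 = k := hik
        exact hseq i }
  refine ⟨f, ?_, ?_⟩
  · ext n
    exact (seq n).hj
  · rw [← cancel_epi (C.homologyπ 0), ← cancel_mono (I.isoHomologyπ₀.inv ≫ I.iCycles 0),
      Category.assoc, Category.assoc, HomologicalComplex.homologyπ_naturality_assoc,
      HomologicalComplex.isoHomologyπ_hom_inv_id_assoc, HomologicalComplex.cyclesMap_i]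
    exact hs0

end

section
open ZeroObject
variable {C I : CochainComplex V ℕ}

/-- absolute lifting: the relative one applied to the zero subcomplex -/
lemma exists_lift_abs [∀ n, Injective (I.X n)]
    (hC : ∀ n, 0 < n → C.ExactAt n)
    (g : C.homology 0 ⟶ I.homology 0) :
    ∃ f : C ⟶ I, HomologicalComplex.homologyMap f 0 = g := by
  have hZ : ∀ n, IsZero ((0 : CochainComplex V ℕ).X n) := fun n =>
    (HomologicalComplex.eval V (ComplexShape.up ℕ) n).map_isZero (isZero_zero _)
  have : ∀ n, Mono ((0 : (0 : CochainComplex V ℕ) ⟶ C).f n) :=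
    fun n => ⟨fun a b _ => (hZ n).eq_of_tgt a b⟩
  obtain ⟨f, -, hf⟩ := exists_lift_rel (j := (0 : (0 : CochainComplex V ℕ) ⟶ C))
    (f' := (0 : (0 : CochainComplex V ℕ) ⟶ I)) hC
    (fun n _ => HomologicalComplex.ExactAt.of_isZero (hZ n)) g (by
      rw [HomologicalComplex.homologyMap_zero, HomologicalComplex.homologyMap_zero, zero_comp])
  exact ⟨f, hf⟩

end

end Helpers

open CategoryTheory CategoryTheory.Limits in
/-- In an abelian category, given two degreewise left exact sequences of nonnegatively graded cochain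
complexes 0 → C' → C → C'' and 0 → I' → I → I'', each complex exact in positive degrees and the I's
termwise injective, every commutative ladder of maps g', g, g'' between their degree-zero
cohomologies is induced by chain maps f' : C' → I', f : C → I, f'' : C'' → I'' commuting with the
given maps of complexes. -/
theorem result {V : Type u} [Category.{v} V]
    [Abelian V] (C' C C'' I' I I'' : CochainComplex V ℕ)
    (jC : C' ⟶ C) (πC : C ⟶ C'') (jI : I' ⟶ I) (πI : I ⟶ I'')
    (mC : ∀ n, Mono (jC.f n)) (wC : ∀ n, jC.f n ≫ πC.f n = 0)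
    (exC : ∀ n, (ShortComplex.mk (jC.f n) (πC.f n) (wC n)).Exact)
    (mI : ∀ n, Mono (jI.f n)) (wI : ∀ n, jI.f n ≫ πI.f n = 0)
    (exI : ∀ n, (ShortComplex.mk (jI.f n) (πI.f n) (wI n)).Exact)
    (hC' : ∀ n, 0 < n → C'.ExactAt n) (hC : ∀ n, 0 < n → C.ExactAt n) (hC'' : ∀ n, 0 < n → C''.ExactAt n)
    (hI' : ∀ n, 0 < n → I'.ExactAt n) (hI : ∀ n, 0 < n → I.ExactAt n) (hI'' : ∀ n, 0 < n → I''.ExactAt n)
    (injI' : ∀ n, Injective (I'.X n)) (injI : ∀ n, Injective (I.X n)) (injI'' : ∀ n, Injective (I''.X n))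
    (g' : C'.homology 0 ⟶ I'.homology 0) (g : C.homology 0 ⟶ I.homology 0)
    (g'' : C''.homology 0 ⟶ I''.homology 0)
    (hg1 : HomologicalComplex.homologyMap jC 0 ≫ g = g' ≫ HomologicalComplex.homologyMap jI 0)
    (hg2 : HomologicalComplex.homologyMap πC 0 ≫ g'' = g ≫ HomologicalComplex.homologyMap πI 0) :
    ∃ (f' : C' ⟶ I') (f : C ⟶ I) (f'' : C'' ⟶ I''),
      jC ≫ f = f' ≫ jI ∧ πC ≫ f'' = f ≫ πI ∧
      HomologicalComplex.homologyMap f' 0 = g' ∧ HomologicalComplex.homologyMap f 0 = g ∧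
      HomologicalComplex.homologyMap f'' 0 = g'' := by
  -- step 1
  obtain ⟨f', hf'⟩ := exists_lift_abs (C := C') (I := I') hC' g'
  -- step 2
  obtain ⟨f, hf1, hf2⟩ := exists_lift_rel (j := jC) (f' := f' ≫ jI) hC hC' g (by
    rw [HomologicalComplex.homologyMap_comp, hf', hg1])
  -- step 3: quotient complex
  have wCc : jC ≫ πC = 0 := by ext n; exact wC n
  have wIc : jI ≫ πI = 0 := by ext n; exact wI n
  have : Mono jC := HomologicalComplex.mono_of_mono_f _ mC
  let S : ShortComplex (CochainComplex V ℕ) := ShortComplex.mk jC (cokernel.π jC) (cokernel.condition jC)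
  have hS : S.ShortExact :=
    { exact := ShortComplex.exact_cokernel jC
      mono_f := inferInstanceAs (Mono jC)
      epi_g := inferInstanceAs (Epi (cokernel.π jC)) }
  let ι : cokernel jC ⟶ C'' := cokernel.desc jC πC wCc
  have hι : cokernel.π jC ≫ ι = πC := cokernel.π_desc _ _ _
  -- degreewise: S is short exact
  have hSn : ∀ n, (S.map (HomologicalComplex.eval V (ComplexShape.up ℕ) n)).ShortExact :=
    fun n => hS.map_of_exact _
  have mι : ∀ n, Mono (ι.f n) := by
    intro n
    rw [Preadditive.mono_iff_cancel_zero]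
    intro K k hk
    have : Epi ((cokernel.π jC).f n) := (hSn n).epi_g
    obtain ⟨A, π, hπ, k', hk'⟩ := surjective_up_to_refinements_of_epi ((cokernel.π jC).f n) k
    have h1 : k' ≫ πC.f n = 0 := by
      rw [← hι, HomologicalComplex.comp_f, ← Category.assoc, ← hk', Category.assoc, hk, comp_zero]
    obtain ⟨A', π', hπ', k'', hk''⟩ := (exC n).exact_up_to_refinements k' h1
    change A' ⟶ C'.X n at k''
    change π' ≫ k' = k'' ≫ jC.f n at hk''
    rw [← cancel_epi π, ← cancel_epi π', comp_zero, comp_zero, hk', ← Category.assoc, hk'',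
      Category.assoc, ← HomologicalComplex.comp_f, cokernel.condition, HomologicalComplex.zero_f,
      comp_zero]
  have hQ : ∀ n, 0 < n → (cokernel jC).ExactAt n := by
    intro n hn
    rw [HomologicalComplex.exactAt_iff_isZero_homology]
    refine (hS.homology_exact₃ n (n+1) rfl).isZero_X₂ ?_ ?_
    · exact ((HomologicalComplex.exactAt_iff_isZero_homology _ _).1 (hC n hn)).eq_of_src _ _
    · exact ((HomologicalComplex.exactAt_iff_isZero_homology _ _).1
        (hC' (n+1) (Nat.succ_pos n))).eq_of_tgt _ _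
  have : Epi (HomologicalComplex.homologyMap (cokernel.π jC) 0) :=
    (hS.homology_exact₃ 0 1 rfl).epi_f
      (((HomologicalComplex.exactAt_iff_isZero_homology _ _).1 (hC' 1 Nat.one_pos)).eq_of_tgt _ _)
  let fbar : cokernel jC ⟶ I'' := cokernel.desc jC (f ≫ πI) (by
    rw [← Category.assoc, hf1, Category.assoc, wIc, comp_zero])
  have hfbar : cokernel.π jC ≫ fbar = f ≫ πI := cokernel.π_desc _ _ _
  obtain ⟨f'', hf''1, hf''2⟩ := exists_lift_rel (j := ι) (f' := fbar) hC'' hQ g'' (by
    rw [← cancel_epi (HomologicalComplex.homologyMap (cokernel.π jC) 0),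
      ← HomologicalComplex.homologyMap_comp_assoc, hι, hg2, ← HomologicalComplex.homologyMap_comp,
      hfbar, HomologicalComplex.homologyMap_comp, hf2])
  refine ⟨f', f, f'', hf1, ?_, hf', hf2, hf''2⟩
  rw [← hι, Category.assoc, hf''1, hfbar]

end Groth.Agent.S13375
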