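import Groth.Statements.S13378
import Groth.Agent.Lib.H4ProCompl
import Groth.Agent.S13363
import Groth.Agent.S13364
-- import your own Groth.Agent.* helpers here

set_option autoImplicit false
universe u
open ProCompl

namespace Groth.Agent.S13378

open CategoryTheory ProfiniteGrp ProfiniteGrp.ProfiniteCompletion Groth.Agent.Lib.H4ProCompl

/-- In a commutative group without nontrivial divisible elements, every nontrivial element is
avoided by a subgroup of finite index. -/
theorem exists_avoiding {B : Type u} [CommGroup B]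
    (hB : ∀ x : B, (∀ n : ℕ, 0 < n → ∃ y : B, y ^ n = x) → x = 1) (b : B) (hb : b ≠ 1) :
    ∃ K : Subgroup B, K.FiniteIndex ∧ b ∉ K := by
  letI : TopologicalSpace (Additive B) := ⊥
  haveI : DiscreteTopology (Additive B) := ⟨rfl⟩
  have key := (Groth.Agent.S13363.result (A := Additive B)
    (fun n _ => isOpen_discrete _) (Additive.ofMul b)).mpr (by
      intro hdiv
      apply hb
      apply hB
      intro n hn
      obtain ⟨y, hy⟩ := hdiv n hn
      exact ⟨y.toMul, hy⟩)
  obtain ⟨S, -, hfin, hS⟩ := key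
  refine ⟨AddSubgroup.toSubgroup' S, ?_, fun h => hS h⟩
  exact ⟨hfin.index_ne_zero⟩

/-- An extension of a group without nontrivial divisible elements and with bounded torsion by a
finite group has no nontrivial divisible elements. -/
theorem no_div {B C : Type u} [CommGroup B] [CommGroup C] (g : B →* C)
    (hg : Function.Surjective g) (hfin : Finite g.ker)
    (hdiv : ∀ x : C, (∀ n : ℕ, 0 < n → ∃ y : C, y ^ n = x) → x = 1)
    (htors : ∃ N : ℕ, 0 < N ∧ ∀ x : C, IsOfFinOrder x → x ^ N = 1)
    (x : B) (hx : ∀ n : ℕ, 0 < n → ∃ y : B, y ^ n = x) : x = 1 := by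
  have := Groth.Agent.S13364.result (A' := Additive g.ker) (A := Additive B) (A'' := Additive C)
    (MonoidHom.toAdditive g.ker.subtype) (MonoidHom.toAdditive g)
    (fun a b h => Subtype.ext h) hg
    (by
      ext z
      constructor
      · intro hz
        exact ⟨Additive.ofMul ⟨z.toMul, hz⟩, rfl⟩
      · rintro ⟨w, rfl⟩
        exact w.toMul.2)
    (by
      intro t ht
      obtain ⟨y, hy⟩ := ht (Nat.card g.ker) Nat.card_pos
      rw [← hy]
      exact pow_card_eq_one' (G := g.ker) (x := y.toMul))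
    (by
      intro c hc
      exact hdiv c.toMul (fun n hn => by
        obtain ⟨y, hy⟩ := hc n hn
        exact ⟨y.toMul, hy⟩))
    (by
      obtain ⟨N, hN, hNt⟩ := htors
      refine ⟨N, hN, fun c hc => ?_⟩
      exact hNt c.toMul (by
        rwa [← isOfFinAddOrder_ofMul_iff]))
    (Additive.ofMul x) (fun n hn => by
      obtain ⟨y, hy⟩ := hx n hn
      exact ⟨Additive.ofMul y, hy⟩)
  exact this

/-- The key group-theoretic input: every finite-index subgroup of `A'` contains the trace on `A'`
of a finite-index subgroup of `A`. -/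
theorem exists_trace_le (A : Type u) [CommGroup A] (A' : Subgroup A)
    (hdiv : ∀ x : A ⧸ A', (∀ n : ℕ, 0 < n → ∃ y : A ⧸ A', y ^ n = x) → x = 1)
    (htors : ∃ N : ℕ, 0 < N ∧ ∀ x : A ⧸ A', IsOfFinOrder x → x ^ N = 1)
    (H' : Subgroup A') [hH' : H'.FiniteIndex] :
    ∃ K : Subgroup A, K.FiniteIndex ∧ K.comap A'.subtype ≤ H' := by
  classical
  set H : Subgroup A := H'.map A'.subtype with hH
  have hle : H ≤ A' := by
    rintro _ ⟨a, -, rfl⟩
    exact a.2
  let g : A ⧸ H →* A ⧸ A' := QuotientGroup.map H A' (MonoidHom.id A) hle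
  have hg : Function.Surjective g := by
    intro c
    obtain ⟨a, rfl⟩ := QuotientGroup.mk_surjective c
    exact ⟨(a : A ⧸ H), rfl⟩
  let φ : A' ⧸ H' →* A ⧸ H := QuotientGroup.map H' H A'.subtype (Subgroup.le_comap_map _ _)
  have hfinQ : Finite (A' ⧸ H') := Subgroup.finite_quotient_of_finiteIndex
  have hker_sub : (g.ker : Set (A ⧸ H)) ⊆ Set.range φ := by
    intro t ht
    obtain ⟨a, rfl⟩ := QuotientGroup.mk_surjective t
    have ha : a ∈ A' := by
      have h1 : g (a : A ⧸ H) = 1 := ht
      exact (QuotientGroup.eq_one_iff _).mp h1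
    exact ⟨((⟨a, ha⟩ : A') : A' ⧸ H'), rfl⟩
  have hfin : Finite g.ker := ((Set.finite_range φ).subset hker_sub).to_subtype
  have hnd := no_div g hg hfin hdiv htors
  have hav : ∀ t : {t : g.ker // t ≠ 1}, ∃ K : Subgroup (A ⧸ H), K.FiniteIndex ∧ (t.1 : A ⧸ H) ∉ K :=
    fun t => exists_avoiding hnd t.1.1 (fun h => t.2 (Subtype.ext h))
  choose Kt hKtfin hKt using hav
  let K₀ : Subgroup (A ⧸ H) := ⨅ t, Kt t
  have hK₀ : K₀.FiniteIndex := Subgroup.finiteIndex_iInf hKtfin
  refine ⟨K₀.comap (QuotientGroup.mk' H), ?_, ?_⟩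
  · exact (FiniteIndexNormalSubgroup.comap (QuotientGroup.mk' H)
      ⟨K₀, inferInstance, hK₀⟩).isFiniteIndex'
  · intro a' ha'
    have hmem : ((a' : A) : A ⧸ H) ∈ K₀ := ha'
    have hker : ((a' : A) : A ⧸ H) ∈ g.ker := by
      show g ((a' : A) : A ⧸ H) = 1
      exact (QuotientGroup.eq_one_iff _).mpr a'.2
    by_cases h1 : (⟨((a' : A) : A ⧸ H), hker⟩ : g.ker) = 1
    · have h2 : ((a' : A) : A ⧸ H) = 1 := congrArg Subtype.val h1
      have h3 : (a' : A) ∈ H := (QuotientGroup.eq_one_iff _).mp h2
      obtain ⟨b, hb, hba⟩ := h3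
      have : b = a' := Subtype.ext hba
      rwa [← this]
    · exfalso
      apply hKt ⟨⟨((a' : A) : A ⧸ H), hker⟩, h1⟩
      exact (iInf_le Kt ⟨⟨((a' : A) : A ⧸ H), hker⟩, h1⟩) hmem

/-- For an abelian group A (written multiplicatively, discrete) and a subgroup A' such that the quotient
A/A' has no nontrivial divisible element and its torsion elements are killed by one positive
integer, the map induced on profinite completions by the inclusion of A' in A is injective. (The
published statement is for topological abelian groups in which every nA is open, with completions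
formed from open subgroups of finite index; this row is the case of the discrete topology.) -/
theorem result (A : Type u) [CommGroup A] (A' : Subgroup A)
    (hdiv : ∀ x : A ⧸ A', (∀ n : ℕ, 0 < n → ∃ y : A ⧸ A', y ^ n = x) → x = 1)
    (htors : ∃ N : ℕ, 0 < N ∧ ∀ x : A ⧸ A', IsOfFinOrder x → x ^ N = 1) :
    Function.Injective (ProfiniteGrp.profiniteCompletion.map (GrpCat.ofHom A'.subtype)).hom := by
  rw [injective_iff_map_eq_one]
  intro y hy
  refine ext_proj fun H' => ?_
  refine Eq.trans ?_ (map_one (proj (GrpCat.of A') H')).symm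
  obtain ⟨K, hKfin, hK⟩ := exists_trace_le A A' hdiv htors H'.toSubgroup
  let KK : FiniteIndexNormalSubgroup (GrpCat.of A) := ⟨K, inferInstance, hKfin⟩
  have hpm := proj_map (GrpCat.ofHom A'.subtype) KK y
  have h1 : proj (GrpCat.of A) KK
      ((profiniteCompletion.map (GrpCat.ofHom A'.subtype)).hom y) = 1 :=
    (congrArg (proj (GrpCat.of A) KK) hy).trans (map_one (proj (GrpCat.of A) KK))
  have h2 := h1.symm.trans hpm
  have hle : KK.comap (GrpCat.ofHom A'.subtype).hom ≤ H' := hK
  have hc := proj_compat hle y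
  obtain ⟨a', ha'⟩ := QuotientGroup.mk_surjective
    (proj (GrpCat.of A') (KK.comap (GrpCat.ofHom A'.subtype).hom) y)
  rw [← ha'] at h2 hc
  have h3 : ((A'.subtype a' : A) : A ⧸ K) = 1 := h2.symm
  have h4 : A'.subtype a' ∈ K := (QuotientGroup.eq_one_iff _).mp h3
  have h5 : a' ∈ H'.toSubgroup := hK h4
  rw [← hc]
  show ((a' : A') : A' ⧸ H'.toSubgroup) = 1
  exact (QuotientGroup.eq_one_iff _).mpr h5

end Groth.Agent.S13378
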