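import Groth.Statements.S13379
import Groth.Agent.Lib.H4ProCompl
-- import your own Groth.Agent.* helpers here

set_option autoImplicit false
universe u
open ProCompl

namespace Groth.Agent.S13379

open CategoryTheory ProfiniteGrp ProfiniteGrp.ProfiniteCompletion Groth.Agent.Lib.H4ProCompl

/-- The image of a finite-index (normal) subgroup of an abelian group in a quotient. -/
def imageFI {A : Type u} [CommGroup A] (A' : Subgroup A)
    (H : FiniteIndexNormalSubgroup A) : FiniteIndexNormalSubgroup (A ⧸ A') where
  toSubgroup := H.toSubgroup.map (QuotientGroup.mk' A')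
  isNormal' := inferInstance
  isFiniteIndex' := by
    refine ⟨fun h0 => ?_⟩
    have hdvd := H.toSubgroup.index_map_dvd (QuotientGroup.mk'_surjective A')
    rw [h0] at hdvd
    exact H.isFiniteIndex'.index_ne_zero (Nat.eq_zero_of_zero_dvd hdvd)

theorem ker_le_range (A : Type u) [CommGroup A] (A' : Subgroup A)
    (x : completion (GrpCat.of A))
    (hx : (profiniteCompletion.map (GrpCat.ofHom (QuotientGroup.mk' A'))).hom x = 1) :
    x ∈ Set.range (profiniteCompletion.map (GrpCat.ofHom A'.subtype)).hom := by
  refine mem_of_isClosed_of_forall_proj (isClosed_range_map _) x fun H => ?_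
  obtain ⟨g, hg⟩ := QuotientGroup.mk_surjective (proj (GrpCat.of A) H x)
  have hpm0 := proj_map (GrpCat.ofHom (QuotientGroup.mk' A')) (imageFI A' H) x
  have hpm1 : proj (GrpCat.of (A ⧸ A')) (imageFI A' H)
      ((profiniteCompletion.map (GrpCat.ofHom (QuotientGroup.mk' A'))).hom x) = 1 := by
    have := congrArg (proj (GrpCat.of (A ⧸ A')) (imageFI A' H)) hx
    exact this.trans (map_one (proj (GrpCat.of (A ⧸ A')) (imageFI A' H)))
  have hpm := hpm1.symm.trans hpm0
  have hle : H ≤ (imageFI A' H).comap (GrpCat.ofHom (QuotientGroup.mk' A')).hom := by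
    intro h hh
    exact ⟨h, hh, rfl⟩
  have hcompat := proj_compat hle x
  rw [← hg] at hcompat
  rw [← hcompat] at hpm
  have hmem : (QuotientGroup.mk' A') g ∈ (imageFI A' H).toSubgroup := by
    have : ((QuotientGroup.mk' A' g : A ⧸ A') : (A ⧸ A') ⧸ (imageFI A' H).toSubgroup) = 1 :=
      hpm.symm
    exact (QuotientGroup.eq_one_iff _).mp this
  obtain ⟨h, hh, hhg⟩ := hmem
  have ha' : g * h⁻¹ ∈ A' := by
    have : (QuotientGroup.mk' A') (g * h⁻¹) = 1 := by
      rw [map_mul, map_inv, hhg, mul_inv_cancel]
    exact (QuotientGroup.eq_one_iff _).mp this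
  refine ⟨_, ⟨etaFn (GrpCat.of A') ⟨g * h⁻¹, ha'⟩, rfl⟩, ?_⟩
  rw [map_etaFn, proj_etaFn, ← hg]
  show ((g * h⁻¹ : A) : A ⧸ H.toSubgroup) = (g : A ⧸ H.toSubgroup)
  rw [QuotientGroup.eq]
  simp only [mul_inv_rev, inv_inv, mul_assoc, inv_mul_cancel, mul_one]
  exact hh

theorem range_le_ker (A : Type u) [CommGroup A] (A' : Subgroup A)
    (y : completion (GrpCat.of A')) :
    (profiniteCompletion.map (GrpCat.ofHom (QuotientGroup.mk' A'))).hom
      ((profiniteCompletion.map (GrpCat.ofHom A'.subtype)).hom y) = 1 := by
  refine ext_proj fun K => ?_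
  refine Eq.trans ?_ (map_one (proj (GrpCat.of (A ⧸ A')) K)).symm
  refine (proj_map (GrpCat.ofHom (QuotientGroup.mk' A')) K _).trans ?_
  refine (congrArg _ (proj_map (GrpCat.ofHom A'.subtype) _ y)).trans ?_
  obtain ⟨a, ha⟩ := QuotientGroup.mk_surjective
    (proj (GrpCat.of A') ((K.comap (GrpCat.ofHom (QuotientGroup.mk' A')).hom).comap
      (GrpCat.ofHom A'.subtype).hom) y)
  rw [← ha]
  show (((QuotientGroup.mk' A') (A'.subtype a) : A ⧸ A') : (A ⧸ A') ⧸ K.toSubgroup) = 1
  have : (QuotientGroup.mk' A') (A'.subtype a) = 1 :=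
    (QuotientGroup.eq_one_iff _).mpr a.2
  rw [this]
  rfl

/-- Profinite completion is right exact: for an abelian group A (written multiplicatively, discrete) and
a subgroup A', the map on profinite completions induced by A → A/A' is surjective and its kernel is
the image of the completion of A'. (The published statement is right-exactness for topological
abelian groups with completions formed from open subgroups of finite index; this row is the case of
the discrete topology.) -/
theorem result (A : Type u) [CommGroup A] (A' : Subgroup A) :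
    Function.Surjective (ProfiniteGrp.profiniteCompletion.map (GrpCat.ofHom (QuotientGroup.mk' A'))).hom ∧
      (ProfiniteGrp.profiniteCompletion.map (GrpCat.ofHom (QuotientGroup.mk' A'))).hom.toMonoidHom.ker =
        (ProfiniteGrp.profiniteCompletion.map (GrpCat.ofHom A'.subtype)).hom.toMonoidHom.range := by
  refine ⟨surjective_map _ (QuotientGroup.mk'_surjective A'), ?_⟩
  ext x
  constructor
  · intro hx
    obtain ⟨y, hy⟩ := ker_le_range A A' x hx
    exact ⟨y, hy⟩
  · rintro ⟨y, rfl⟩
    exact range_le_ker A A' y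

end Groth.Agent.S13379
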