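import Groth.Statements.S13380
import Groth.Agent.Lib.LazardCharP
import Groth.Agent.Lib.TruncExp51

set_option autoImplicit false
universe u
open GaDual

namespace Groth.Agent.S13380

open MvPolynomial Groth.Agent.Lib.LazardCharP Groth.Agent.Lib.TruncExp51

section Helpers

variable {R : Type u} [CommRing R]

/-- multiplicative cocycle condition -/
def MCoc (h : MvPolynomial (Fin 2) R) : Prop :=
  aeval ![(X 1 : MvPolynomial (Fin 3) R), X 2] h * aeval ![X 0, X 1 + X 2] h =
    aeval ![X 0 + X 1, X 2] h * aeval ![X 0, X 1] h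

/-- `f` trivializes `h` -/
def Triv (f : Polynomial R) (h : MvPolynomial (Fin 2) R) : Prop :=
  Polynomial.aeval (X 0 + X 1 : MvPolynomial (Fin 2) R) f =
    Polynomial.aeval (X 0 : MvPolynomial (Fin 2) R) f *
      Polynomial.aeval (X 1 : MvPolynomial (Fin 2) R) f * h

theorem MCoc.map {S : Type*} [CommRing S] (φ : R →+* S) {h : MvPolynomial (Fin 2) R}
    (hc : MCoc h) : MCoc (MvPolynomial.map φ h) := by
  have := congrArg (MvPolynomial.map φ) hc
  simp only [map_mul, map_aeval'] at this
  have e1 : (fun i => MvPolynomial.map φ ((![X 1, X 2] : Fin 2 → MvPolynomial (Fin 3) R) i)) =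
      ![X 1, X 2] := by funext i; fin_cases i <;> simp
  have e2 : (fun i => MvPolynomial.map φ ((![X 0, X 1 + X 2] : Fin 2 → MvPolynomial (Fin 3) R) i)) =
      ![X 0, X 1 + X 2] := by funext i; fin_cases i <;> simp
  have e3 : (fun i => MvPolynomial.map φ ((![X 0 + X 1, X 2] : Fin 2 → MvPolynomial (Fin 3) R) i)) =
      ![X 0 + X 1, X 2] := by funext i; fin_cases i <;> simp
  have e4 : (fun i => MvPolynomial.map φ ((![X 0, X 1] : Fin 2 → MvPolynomial (Fin 3) R) i)) =
      ![X 0, X 1] := by funext i; fin_cases i <;> simp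
  rw [e1, e2, e3, e4] at this
  exact this

/-- algebra homs between polynomial rings preserve the extension of an ideal of constants -/
theorem algHom_mem_map_C {A B : Type*} [CommRing A] [CommRing B] [Algebra R A] [Algebra R B]
    (φ : A →ₐ[R] B) (I : Ideal R) {x : A} (hx : x ∈ I.map (algebraMap R A)) :
    φ x ∈ I.map (algebraMap R B) := by
  have h1 : φ x ∈ (I.map (algebraMap R A)).map (φ : A →+* B) := Ideal.mem_map_of_mem _ hx
  rw [Ideal.map_map] at h1
  have h2 : (φ : A →+* B).comp (algebraMap R A) = algebraMap R B := by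
    ext r; simp
  rw [h2] at h1
  exact h1

theorem mul_eq_zero_of_mem_map {A : Type*} [CommRing A] [Algebra R A] (I : Ideal R)
    (hsq : I * I = ⊥) {x y : A} (hx : x ∈ I.map (algebraMap R A)) (hy : y ∈ I.map (algebraMap R A)) :
    x * y = 0 := by
  have : x * y ∈ I.map (algebraMap R A) * I.map (algebraMap R A) := Ideal.mul_mem_mul hx hy
  rw [← Ideal.map_mul, hsq, Ideal.map_bot] at this
  exact this

theorem prod_one_add {A : Type*} [CommRing A] {ι : Type*} (s : Finset ι) (x : ι → A)
    (hx : ∀ i ∈ s, ∀ j ∈ s, x i * x j = 0) :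
    ∏ i ∈ s, (1 + x i) = 1 + ∑ i ∈ s, x i := by
  classical
  induction s using Finset.induction_on with
  | empty => simp
  | insert a s ha ih =>
    rw [Finset.prod_insert ha, Finset.sum_insert ha,
      ih (fun i hi j hj => hx i (Finset.mem_insert_of_mem hi) j (Finset.mem_insert_of_mem hj))]
    have : x a * ∑ i ∈ s, x i = 0 := by
      rw [Finset.mul_sum]
      exact Finset.sum_eq_zero (fun i hi =>
        hx a (Finset.mem_insert_self a s) i (Finset.mem_insert_of_mem hi))
    linear_combination this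

theorem isUnit_of_map_quotient (I : Ideal R) (hsq : I * I = ⊥) (f : Polynomial R)
    (hf : IsUnit (Polynomial.map (Ideal.Quotient.mk I) f)) : IsUnit f := by
  obtain ⟨gbar, hg⟩ := hf.exists_right_inv
  obtain ⟨g, rfl⟩ := Polynomial.map_surjective (Ideal.Quotient.mk I) Ideal.Quotient.mk_surjective gbar
  have hn : f * g - 1 ∈ I.map (algebraMap R (Polynomial R)) := by
    have : f * g - 1 ∈ RingHom.ker (Polynomial.mapRingHom (Ideal.Quotient.mk I)) := by
      rw [RingHom.mem_ker]
      simp only [Polynomial.coe_mapRingHom, Polynomial.map_sub, Polynomial.map_mul,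
        Polynomial.map_one]
      rw [hg, sub_self]
    rw [Polynomial.ker_mapRingHom, Ideal.mk_ker] at this
    exact this
  have hnn : (f * g - 1) * (f * g - 1) = 0 := mul_eq_zero_of_mem_map I hsq hn hn
  have hu : IsUnit (f * g) := by
    have : IsUnit (1 + (f * g - 1)) := IsNilpotent.isUnit_one_add ⟨2, by rw [pow_two]; exact hnn⟩
    simpa using this
  exact isUnit_of_mul_isUnit_left hu

end Helpers

section Step

variable {R : Type u} [CommRing R] (p : ℕ) [hp : Fact p.Prime] [CharP R p]

omit hp [CharP R p] in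
theorem mon2_sum (i j : ℕ) : ((mon2 i j).sum fun _ e => e) = i + j := by
  rw [Finsupp.sum_fintype _ _ (by simp), Fin.sum_univ_two, mon2_zero, mon2_one]

theorem sqzero_step (I' B : Ideal R) (hsq : I' * I' = ⊥) (hI'B : I' * B = ⊥)
    (hroot : ∀ m ∈ I', ∃ b ∈ B, b ^ p = m) (h' : MvPolynomial (Fin 2) R)
    (hh' : ∀ i j, coeff (mon2 i j) (h' - 1) ∈ I') (hsw : swap h' = h') (hc : MCoc h') :
    ∃ f' : Polynomial R, IsUnit f' ∧ Triv f' h' := by
  classical
  set g := h' - 1 with hg
  have hh'g : h' = 1 + g := by rw [hg]; ring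
  have hgmem : g ∈ I'.map (algebraMap R (MvPolynomial (Fin 2) R)) := by
    rw [algebraMap_eq, MvPolynomial.mem_map_C_iff]
    intro e
    rw [eq_mon2 e]
    exact hh' _ _
  have hmem3 : ∀ v : Fin 2 → MvPolynomial (Fin 3) R,
      aeval v g ∈ I'.map (algebraMap R (MvPolynomial (Fin 3) R)) :=
    fun v => algHom_mem_map_C (aeval v) I' hgmem
  have hcoc : coc g = 0 := by
    unfold MCoc at hc
    rw [hh'g] at hc
    simp only [map_add, map_one] at hc
    have z1 := mul_eq_zero_of_mem_map I' hsq (hmem3 ![X 1, X 2]) (hmem3 ![X 0, X 1 + X 2])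
    have z2 := mul_eq_zero_of_mem_map I' hsq (hmem3 ![X 0 + X 1, X 2]) (hmem3 ![X 0, X 1])
    unfold coc
    linear_combination hc - z1 + z2
  have hswg : swap g = g := by
    rw [hg, swap_sub, hsw]
    simp [swap]
  have hD : ∀ i j, g.totalDegree + 1 ≤ i + j → coeff (mon2 i j) g = 0 := by
    intro i j hij
    by_contra hne
    have := MvPolynomial.le_totalDegree (MvPolynomial.mem_support_iff.mpr hne)
    rw [mon2_sum] at this
    omega
  obtain ⟨G, N, r, hGJ, hrJ, hgeq⟩ := lazard p I' (g.totalDegree + 1) g hswg hcoc hD hh'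
  choose b hbB hbp using fun t => hroot (r t) (hrJ t)
  have hrb : ∀ t, r t * b t = 0 := fun t => by
    have : r t * b t ∈ I' * B := Ideal.mul_mem_mul (hrJ t) (hbB t)
    rw [hI'B] at this
    exact this
  have hbnil : ∀ t, IsNilpotent (b t) := fun t => ⟨p + 1, by rw [pow_succ, hbp, hrb]⟩
  have hGmem : G ∈ I'.map (algebraMap R (Polynomial R)) := by
    rw [Polynomial.algebraMap_eq, Ideal.mem_map_C_iff]
    exact hGJ
  have hGx : ∀ x : MvPolynomial (Fin 2) R,
      Polynomial.aeval x G ∈ I'.map (algebraMap R (MvPolynomial (Fin 2) R)) :=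
    fun x => algHom_mem_map_C (Polynomial.aeval x) I' hGmem
  set Et : ℕ → Polynomial R := fun t => Polynomial.expand R (p ^ t) (E p (b t)) with hEt
  set x : ℕ → MvPolynomial (Fin 2) R := fun t => C (r t) * expand (p ^ t) (Spoly R p) with hx
  have hxmem : ∀ t, x t ∈ I'.map (algebraMap R (MvPolynomial (Fin 2) R)) := fun t =>
    Ideal.mul_mem_right _ _ (Ideal.mem_map_of_mem _ (hrJ t))
  have hEadd : ∀ t, Polynomial.aeval (X 0 + X 1 : MvPolynomial (Fin 2) R) (Et t) =
      Polynomial.aeval (X 0 : MvPolynomial (Fin 2) R) (Et t) *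
        Polynomial.aeval (X 1 : MvPolynomial (Fin 2) R) (Et t) * (1 + x t) :=
    fun t => E_add_expand p (b t) (r t) (hbp t) (hrb t) t
  refine ⟨(1 + G) * ∏ t ∈ Finset.range N, Et t, ?_, ?_⟩
  · refine IsUnit.mul ?_ ?_
    · exact IsNilpotent.isUnit_one_add ⟨2, by
        rw [pow_two]; exact mul_eq_zero_of_mem_map I' hsq hGmem hGmem⟩
    · apply Finset.prod_induction _ IsUnit (fun _ _ => IsUnit.mul) isUnit_one
      intro t _
      exact (isUnit_E p (b t) (hbnil t)).map (Polynomial.expand R (p ^ t))
  · unfold Triv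
    simp only [map_mul, map_add, map_one, map_prod]
    set α := Polynomial.aeval (X 0 : MvPolynomial (Fin 2) R) G with hα
    set β := Polynomial.aeval (X 1 : MvPolynomial (Fin 2) R) G with hβ
    set γ := Polynomial.aeval (X 0 + X 1 : MvPolynomial (Fin 2) R) G with hγ
    set s := ∑ t ∈ Finset.range N, x t with hs
    have hsmem : s ∈ I'.map (algebraMap R (MvPolynomial (Fin 2) R)) :=
      Ideal.sum_mem _ (fun t _ => hxmem t)
    have hαm := hGx (X 0)
    have hβm := hGx (X 1)
    have hγm := hGx (X 0 + X 1)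
    have hgs : g = γ - α - β + s := by rw [hgeq]; rfl
    have hprod : ∏ t ∈ Finset.range N, (1 + x t) = 1 + s :=
      prod_one_add _ _ (fun i _ j _ => mul_eq_zero_of_mem_map I' hsq (hxmem i) (hxmem j))
    rw [Finset.prod_congr rfl (fun t _ => hEadd t), Finset.prod_mul_distrib,
      Finset.prod_mul_distrib, hprod, hh'g, hgs]
    have hαα := mul_eq_zero_of_mem_map I' hsq hαm hαm
    have hαβ := mul_eq_zero_of_mem_map I' hsq hαm hβm
    have hαγ := mul_eq_zero_of_mem_map I' hsq hαm hγm
    have hαs := mul_eq_zero_of_mem_map I' hsq hαm hsmem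
    have hββ := mul_eq_zero_of_mem_map I' hsq hβm hβm
    have hβγ := mul_eq_zero_of_mem_map I' hsq hβm hγm
    have hβs := mul_eq_zero_of_mem_map I' hsq hβm hsmem
    have hγs := mul_eq_zero_of_mem_map I' hsq hγm hsmem
    have e1 : (1 + γ) * (1 + s) = 1 + γ + s := by linear_combination hγs
    have e2 : (1 + α) * (1 + β) * (1 + (γ - α - β + s)) = 1 + γ + s := by
      linear_combination hαγ - hαα - hαβ + hαs + hβγ - hββ + hβs + (γ - α - β + s) * hαβ
    set PA := ∏ t ∈ Finset.range N, Polynomial.aeval (X 0 : MvPolynomial (Fin 2) R) (Et t)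
    set PB := ∏ t ∈ Finset.range N, Polynomial.aeval (X 1 : MvPolynomial (Fin 2) R) (Et t)
    linear_combination (PA * PB) * e1 - (PA * PB) * e2

end Step

section Main

theorem main (p : ℕ) [hp : Fact p.Prime] : ∀ (K : ℕ) (R : Type u) [CommRing R] [CharP R p]
    (_ : ∀ x : R, ∃ y : R, y ^ p = x) (I B : Ideal R)
    (_ : ∀ m ∈ I, ∃ b ∈ B, b ^ p = m) (_ : I * B ^ K = ⊥)
    (h : MvPolynomial (Fin 2) R) (_ : ∀ i j, coeff (mon2 i j) (h - 1) ∈ I)
    (_ : swap h = h) (_ : MCoc h),
    ∃ f : Polynomial R, IsUnit f ∧ Triv f h := by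
  intro K
  induction K with
  | zero =>
    intro R _ _ hF I B hIB hK h hh hsw hc
    have hI : I = ⊥ := by simpa using hK
    have h1 : h = 1 := by
      have : h - 1 = 0 := by
        ext e
        rw [eq_mon2 e]
        have := hh (e 0) (e 1)
        rw [hI] at this
        simpa using this
      exact sub_eq_zero.mp this
    exact ⟨1, isUnit_one, by simp [Triv, h1]⟩
  | succ K ih =>
    intro R _ _ hF I B hIB hK h hh hsw hc
    have hp0 : 0 < p := hp.out.pos
    set I' : Ideal R := I * B ^ K with hI'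
    have hI'B : I' * B = ⊥ := by rw [hI', mul_assoc, ← pow_succ, hK]
    have hI'I : I' ≤ I := Ideal.mul_le_left
    have hIleB : I ≤ B := by
      intro m hm
      obtain ⟨b, hb, rfl⟩ := hIB m hm
      exact Ideal.pow_mem_of_mem _ hb _ hp0
    have hI'sq : I' * I' = ⊥ := by
      apply le_bot_iff.mp
      calc I' * I' ≤ I' * B := Ideal.mul_mono_right (hI'I.trans hIleB)
        _ = ⊥ := hI'B
    have hroot' : ∀ m ∈ I', ∃ b ∈ B, b ^ p = m := fun m hm => hIB m (hI'I hm)
    have : Nontrivial R := CharP.nontrivial_of_char_ne_one (R := R) (v := p) hp.out.ne_one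
    have hne : I' ≠ ⊤ := by
      intro htop
      have hB : B = ⊥ := by
        have : I' * B = B := by rw [htop, Ideal.top_mul]
        rw [← this, hI'B]
      have hI : I = ⊥ := le_bot_iff.mp (hB ▸ hIleB)
      have : (⊤ : Ideal R) = ⊥ := by rw [← htop, hI', hI, Ideal.bot_mul]
      exact top_ne_bot this
    have : CharP (R ⧸ I') p := CharP.quotient' p I' (fun x hx => by
      by_contra hx0
      have hnd : ¬ p ∣ x := fun hd => hx0 ((CharP.cast_eq_zero_iff R p x).mpr hd)
      exact hne (Ideal.eq_top_of_isUnit_mem _ hx (isUnit_natCast_of_not_dvd p x hnd)))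
    set π := Ideal.Quotient.mk I' with hπ
    have hπs : Function.Surjective π := Ideal.Quotient.mk_surjective
    have hF' : ∀ x : R ⧸ I', ∃ y, y ^ p = x := by
      intro x
      obtain ⟨x0, rfl⟩ := hπs x
      obtain ⟨y, hy⟩ := hF x0
      exact ⟨π y, by rw [← map_pow, hy]⟩
    have hIB' : ∀ m ∈ I.map π, ∃ b ∈ B.map π, b ^ p = m := by
      intro m hm
      obtain ⟨m0, hm0, rfl⟩ := (Ideal.mem_map_iff_of_surjective π hπs).mp hm
      obtain ⟨b, hb, hbp⟩ := hIB m0 hm0
      exact ⟨π b, Ideal.mem_map_of_mem π hb, by rw [← map_pow, hbp]⟩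
    have hK' : I.map π * (B.map π) ^ K = ⊥ := by
      rw [← Ideal.map_pow, ← Ideal.map_mul, ← hI', hπ, Ideal.map_quotient_self]
    have hh' : ∀ i j, coeff (mon2 i j) (MvPolynomial.map π h - 1) ∈ I.map π := by
      intro i j
      have : MvPolynomial.map π h - 1 = MvPolynomial.map π (h - 1) := by simp
      rw [this, coeff_map]
      exact Ideal.mem_map_of_mem π (hh i j)
    have hsw' : swap (MvPolynomial.map π h) = MvPolynomial.map π h := by rw [← map_swap, hsw]
    obtain ⟨fbar, hfu, hft⟩ := ih (R ⧸ I') hF' (I.map π) (B.map π) hIB' hK'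
      (MvPolynomial.map π h) hh' hsw' (hc.map π)
    obtain ⟨f0, rfl⟩ := Polynomial.map_surjective π hπs fbar
    have hf0u : IsUnit f0 := isUnit_of_map_quotient I' hI'sq f0 hfu
    set a0 := Polynomial.aeval (X 0 : MvPolynomial (Fin 2) R) f0 with ha0
    set a1 := Polynomial.aeval (X 1 : MvPolynomial (Fin 2) R) f0 with ha1
    set v := Polynomial.aeval (X 0 + X 1 : MvPolynomial (Fin 2) R) f0 with hv
    have hvu : IsUnit v := hf0u.map (Polynomial.aeval (X 0 + X 1 : MvPolynomial (Fin 2) R))
    obtain ⟨vi, hvi⟩ := hvu.exists_right_inv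
    set h' := h * (a0 * a1) * vi with hh'def
    have hrel : h' * v = h * (a0 * a1) := by
      rw [hh'def]; linear_combination (h * (a0 * a1)) * hvi
    have hmapaeval : ∀ y : MvPolynomial (Fin 2) R,
        MvPolynomial.map π (Polynomial.aeval y f0) =
          Polynomial.aeval (MvPolynomial.map π y) (Polynomial.map π f0) := by
      intro y
      exact Polynomial.map_aeval_eq_aeval_map (by ext r; simp) f0 y
    have hmap1 : MvPolynomial.map π h' = 1 := by
      have e := congrArg (MvPolynomial.map π) hrel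
      simp only [map_mul, ha0, ha1, hv, hmapaeval, map_add, map_X] at e
      unfold Triv at hft
      have hvbar : IsUnit (Polynomial.aeval (X 0 + X 1 : MvPolynomial (Fin 2) (R ⧸ I'))
          (Polynomial.map π f0)) := hfu.map (Polynomial.aeval _)
      apply hvbar.mul_left_injective
      simp only
      rw [e, one_mul, hft]; ring
    have hh'coef : ∀ i j, coeff (mon2 i j) (h' - 1) ∈ I' := by
      intro i j
      have : MvPolynomial.map π (h' - 1) = 0 := by rw [map_sub, hmap1, map_one, sub_self]
      have h2 := congrArg (coeff (mon2 i j)) this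
      rw [coeff_map, coeff_zero] at h2
      exact Ideal.Quotient.eq_zero_iff_mem.mp h2
    -- symmetry of h'
    have hswv : swap v = v := by
      rw [hv, swap, aeval_polyAeval]
      simp only [map_add, aeval_X, Matrix.cons_val_zero, Matrix.cons_val_one]
      rw [add_comm]
    have hswa : swap (a0 * a1) = a0 * a1 := by
      rw [ha0, ha1, swap, map_mul, aeval_polyAeval, aeval_polyAeval]
      simp only [aeval_X, Matrix.cons_val_zero, Matrix.cons_val_one]
      rw [mul_comm]
    have hswh' : swap h' = h' := by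
      have e := congrArg swap hrel
      simp only [swap, map_mul] at e hswv hswa hsw ⊢
      rw [hswv, hswa, hsw] at e
      apply hvu.mul_left_injective
      simp only
      rw [e, hrel]
    -- cocycle for h'
    have hch' : MCoc h' := by
      unfold MCoc at hc ⊢
      have r1 := congrArg (aeval ![(X 1 : MvPolynomial (Fin 3) R), X 2]) hrel
      have r2 := congrArg (aeval ![(X 0 : MvPolynomial (Fin 3) R), X 1 + X 2]) hrel
      have r3 := congrArg (aeval ![(X 0 + X 1 : MvPolynomial (Fin 3) R), X 2]) hrel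
      have r4 := congrArg (aeval ![(X 0 : MvPolynomial (Fin 3) R), X 1]) hrel
      simp only [map_mul, ha0, ha1, hv, aeval_polyAeval, map_add, aeval_X, Matrix.cons_val_zero,
        Matrix.cons_val_one] at r1 r2 r3 r4
      rw [add_assoc (X 0 : MvPolynomial (Fin 3) R) (X 1) (X 2)] at r3
      set q0 := Polynomial.aeval (X 0 : MvPolynomial (Fin 3) R) f0
      set q1 := Polynomial.aeval (X 1 : MvPolynomial (Fin 3) R) f0
      set q2 := Polynomial.aeval (X 2 : MvPolynomial (Fin 3) R) f0
      set q01 := Polynomial.aeval (X 0 + X 1 : MvPolynomial (Fin 3) R) f0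
      set q12 := Polynomial.aeval (X 1 + X 2 : MvPolynomial (Fin 3) R) f0
      set q012 := Polynomial.aeval (X 0 + (X 1 + X 2) : MvPolynomial (Fin 3) R) f0
      set T1h := aeval ![(X 1 : MvPolynomial (Fin 3) R), X 2] h
      set T2h := aeval ![(X 0 : MvPolynomial (Fin 3) R), X 1 + X 2] h
      set T3h := aeval ![(X 0 + X 1 : MvPolynomial (Fin 3) R), X 2] h
      set T4h := aeval ![(X 0 : MvPolynomial (Fin 3) R), X 1] h
      set T1h' := aeval ![(X 1 : MvPolynomial (Fin 3) R), X 2] h'
      set T2h' := aeval ![(X 0 : MvPolynomial (Fin 3) R), X 1 + X 2] h'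
      set T3h' := aeval ![(X 0 + X 1 : MvPolynomial (Fin 3) R), X 2] h'
      set T4h' := aeval ![(X 0 : MvPolynomial (Fin 3) R), X 1] h'
      have hU : IsUnit (q12 * q012 * q01) :=
        ((hf0u.map (Polynomial.aeval _)).mul (hf0u.map (Polynomial.aeval _))).mul
          (hf0u.map (Polynomial.aeval _))
      apply hU.mul_left_injective
      simp only
      linear_combination (T2h' * q012 * q01) * r1 + (T1h * (q1 * q2) * q01) * r2
        - (T4h' * q01 * q12) * r3 - (T3h * (q01 * q2) * q12) * r4
        + (q0 * q1 * q2 * q12 * q01) * hc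
    obtain ⟨f', hf'u, hf't⟩ := sqzero_step p I' B hI'sq hI'B hroot' h' hh'coef hswh' hch'
    refine ⟨f0 * f', hf0u.mul hf'u, ?_⟩
    unfold Triv at hf't ⊢
    simp only [map_mul]
    linear_combination v * hf't + (Polynomial.aeval (X 0 : MvPolynomial (Fin 2) R) f' *
      Polynomial.aeval (X 1 : MvPolynomial (Fin 2) R) f') * hrel

end Main

/-- Over a commutative ring R of prime characteristic p whose Frobenius is surjective, every commutative
extension of the additive group by the multiplicative group that has a scheme-theoretic section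
splits. In the coordinates given by such a section the extension is the product G_m × G_a with law
(t,x)(t',x') = (tt'h(x,x'), x+x') for an invertible polynomial h with h(X,0) = 1, h symmetric and
h(Y,Z)h(X,Y+Z) = h(X+Y,Z)h(X,Y), and a group-theoretic section is an invertible polynomial f with
f(X+Y) = f(X)f(Y)h(X,Y); the row states the existence of such f for every such h. -/
theorem result (p : ℕ) [Fact p.Prime] (R : Type u)
    [CommRing R] [CharP R p] (hF : Function.Surjective (frobenius R p))
    (h : MvPolynomial (Fin 2) R) (hu : IsUnit h)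
    (h0 : MvPolynomial.aeval ![(MvPolynomial.X 0 : MvPolynomial (Fin 2) R), 0] h = 1)
    (hsymm : MvPolynomial.aeval ![(MvPolynomial.X 1 : MvPolynomial (Fin 2) R), MvPolynomial.X 0] h = h)
    (hcoc : MvPolynomial.aeval ![(MvPolynomial.X 1 : MvPolynomial (Fin 3) R), MvPolynomial.X 2] h *
        MvPolynomial.aeval ![MvPolynomial.X 0, MvPolynomial.X 1 + MvPolynomial.X 2] h =
      MvPolynomial.aeval ![MvPolynomial.X 0 + MvPolynomial.X 1, MvPolynomial.X 2] h *
        MvPolynomial.aeval ![MvPolynomial.X 0, MvPolynomial.X 1] h) :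
    ∃ f : Polynomial R, IsUnit f ∧
      Polynomial.aeval (MvPolynomial.X 0 + MvPolynomial.X 1 : MvPolynomial (Fin 2) R) f =
        Polynomial.aeval (MvPolynomial.X 0 : MvPolynomial (Fin 2) R) f *
          Polynomial.aeval (MvPolynomial.X 1 : MvPolynomial (Fin 2) R) f * h := by
  classical
  have hp : Fact p.Prime := inferInstance
  have hp0 : 0 < p := hp.out.pos
  have hroot : ∀ x : R, ∃ y : R, y ^ p = x := fun x => by
    obtain ⟨y, hy⟩ := hF x
    exact ⟨y, by rw [← frobenius_def]; exact hy⟩
  -- constant coefficient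
  have hconst : coeff 0 h = 1 := by
    have hcomp : (constantCoeff (R := R) (σ := Fin 2)).comp
        (aeval ![(X 0 : MvPolynomial (Fin 2) R), 0] :
          MvPolynomial (Fin 2) R →ₐ[R] MvPolynomial (Fin 2) R).toRingHom =
        constantCoeff := by
      apply MvPolynomial.ringHom_ext
      · intro r; simp
      · intro i; fin_cases i <;> simp
    have := congrArg (constantCoeff (R := R) (σ := Fin 2)) h0
    have h2 := DFunLike.congr_fun hcomp h
    simp only [RingHom.coe_comp, Function.comp_apply] at h2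
    have h3 : constantCoeff h = (1 : R) := by
      rw [← h2]
      exact this.trans (by simp)
    rw [← constantCoeff_eq]
    exact h3
  have hnil : ∀ e, IsNilpotent (coeff e (h - 1)) := by
    intro e
    by_cases he : e = 0
    · rw [he, coeff_sub, hconst]; simp
    · rw [coeff_sub, coeff_one, if_neg (Ne.symm he), sub_zero]
      exact (MvPolynomial.isUnit_iff.mp hu).2 e he
  choose ρ hρ using hroot
  set S : Finset R := (h - 1).support.image (fun e => coeff e (h - 1)) with hS
  set I : Ideal R := Ideal.span (S : Set R) with hI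
  set B : Ideal R := Ideal.span ((S.image ρ : Finset R) : Set R) with hB
  have hSnil : ∀ s ∈ S, IsNilpotent s := by
    intro s hs
    rw [hS, Finset.mem_image] at hs
    obtain ⟨e, _, rfl⟩ := hs
    exact hnil e
  have hBnil : B ≤ nilradical R := by
    rw [hB, Ideal.span_le]
    intro b hb
    rw [Finset.mem_coe, Finset.mem_image] at hb
    obtain ⟨s, hs, rfl⟩ := hb
    have : IsNilpotent (ρ s ^ p) := by rw [hρ]; exact hSnil s hs
    exact this.of_pow
  have hBfg : B.FG := ⟨S.image ρ, rfl⟩
  obtain ⟨K, hK⟩ := hBfg.isNilpotent_iff_le_nilradical.mpr hBnil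
  have hIB : ∀ m ∈ I, ∃ b ∈ B, b ^ p = m := by
    intro m hm
    refine Submodule.span_induction (p := fun m _ => ∃ b ∈ B, b ^ p = m) ?_ ?_ ?_ ?_ hm
    · intro s hs
      exact ⟨ρ s, Ideal.subset_span (Finset.mem_coe.mpr (Finset.mem_image_of_mem ρ hs)), hρ s⟩
    · exact ⟨0, B.zero_mem, zero_pow hp0.ne'⟩
    · rintro x y _ _ ⟨b1, hb1, rfl⟩ ⟨b2, hb2, rfl⟩
      exact ⟨b1 + b2, B.add_mem hb1 hb2, add_pow_char b1 b2 p⟩
    · rintro a x _ ⟨b, hb, rfl⟩
      exact ⟨ρ a * b, B.mul_mem_left _ hb, by rw [mul_pow, hρ, smul_eq_mul]⟩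
  have hKI : I * B ^ K = ⊥ := by
    rw [show B ^ K = ⊥ from hK, Ideal.mul_bot]
  have hh : ∀ i j, coeff (mon2 i j) (h - 1) ∈ I := by
    intro i j
    by_cases hz : coeff (mon2 i j) (h - 1) = 0
    · rw [hz]; exact I.zero_mem
    · apply Ideal.subset_span
      rw [Finset.mem_coe, hS, Finset.mem_image]
      exact ⟨mon2 i j, mem_support_iff.mpr hz, rfl⟩
  obtain ⟨f, hfu, hft⟩ := main p K R (fun x => ⟨ρ x, hρ x⟩) I B hIB hKI h hh hsymm hcoc
  exact ⟨f, hfu, hft⟩

end Groth.Agent.S13380
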