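import Groth.Statements.S13387
import Mathlib.LinearAlgebra.Vandermonde
import Mathlib.LinearAlgebra.Matrix.Adjugate
import Mathlib.Tactic
import Mathlib.Algebra.Module.LocalizedModule.Basic
import Mathlib.RingTheory.LocalRing.ResidueField.Ideal
import Mathlib.SetTheory.Cardinal.Basic

set_option autoImplicit false
universe u
open ZeroCyc

namespace Groth.Agent.S13387


theorem smul_mem_of_matrix {A N : Type*} [CommRing A] [AddCommGroup N] [Module A N]
    (W : Submodule A N) {n : ℕ} (H : Matrix (Fin n) (Fin n) A) (c : Fin n → N) (a : Fin n → A)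
    (h : ∀ i, a i • ∑ j, H i j • c j ∈ W) (j : Fin n) : ((∏ i, a i) * H.det) • c j ∈ W := by
  classical
  have key : H.det • c j = ∑ i, H.adjugate j i • ∑ l, H i l • c l := by
    simp_rw [Finset.smul_sum, smul_smul]
    rw [Finset.sum_comm]
    simp_rw [← Finset.sum_smul, ← Matrix.mul_apply, Matrix.adjugate_mul, Matrix.smul_apply,
      Matrix.one_apply, smul_eq_mul, mul_ite, mul_one, mul_zero, ite_smul, zero_smul]
    simp
  rw [mul_smul, key, Finset.smul_sum]
  refine Submodule.sum_mem _ fun i _ => ?_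
  rw [smul_comm]
  refine Submodule.smul_mem _ _ ?_
  have : (∏ i, a i) = (∏ i' ∈ Finset.univ.erase i, a i') * a i :=
    (Finset.prod_erase_mul _ _ (Finset.mem_univ i)).symm
  rw [this, mul_smul]
  exact Submodule.smul_mem _ _ (h i)

theorem caseA {A M : Type u} [CommRing A] [AddCommGroup M] [Module A M] (d : ℕ) (p : Ideal A)
    [p.IsPrime] (U V : ℕ → A) (hUV : ∀ a b : ℕ, a < b → b ≤ d → V b * U a - V a * U b ∉ p) :
    ∀ (n : ℕ) (k : Fin n → ℕ) (m : Fin n → M) (k0 : ℕ) (m0 : M), k0 + ∑ i, k i = d →
      ∃ a : A, a ∉ p ∧ a • (DividedPowerAlgebra.dp A k0 m0 *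
        ∏ i, DividedPowerAlgebra.dp A (k i) (m i)) ∈
        Submodule.span A
          (Set.range (DividedPowerAlgebra.dp A d : M → DividedPowerAlgebra A M)) := by
  intro n
  induction n with
  | zero =>
    intro k m k0 m0 h
    simp only [Finset.univ_eq_empty, Finset.sum_empty, add_zero] at h
    simp only [Finset.univ_eq_empty, Finset.prod_empty, mul_one]
    subst h
    refine ⟨1, ?_, ?_⟩
    · exact fun h1 => (inferInstance : p.IsPrime).ne_top ((Ideal.eq_top_iff_one p).mpr h1)
    · rw [one_smul]; exact Submodule.subset_span ⟨m0, rfl⟩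
  | succ n ih =>
    intro k m k0 m0 h
    rw [Fin.sum_univ_succ] at h
    rw [Fin.prod_univ_succ]
    set Q := ∏ i : Fin n, DividedPowerAlgebra.dp A (k i.succ) (m i.succ) with hQ
    set s := k0 + k 0 with hs
    have hsd : s ≤ d := by omega
    have hIH : ∀ i : Fin (s + 1), ∃ a : A, a ∉ p ∧
        a • (DividedPowerAlgebra.dp A s (V i • m 0 + U i • m0) * Q) ∈ Submodule.span A
          (Set.range (DividedPowerAlgebra.dp A d : M → DividedPowerAlgebra A M)) :=
      fun i => ih (fun j => k j.succ) (fun j => m j.succ) s (V i • m 0 + U i • m0) (by omega)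
    choose a ha1 ha2 using hIH
    set H : Matrix (Fin (s + 1)) (Fin (s + 1)) A :=
      Matrix.projVandermonde (fun i : Fin (s + 1) => V i) (fun i : Fin (s + 1) => U i) with hH
    set c : Fin (s + 1) → DividedPowerAlgebra A M := fun b =>
      DividedPowerAlgebra.dp A (s - b) m0 * DividedPowerAlgebra.dp A b (m 0) * Q with hc
    have hexp : ∀ i : Fin (s + 1), ∑ b, H i b • c b =
        DividedPowerAlgebra.dp A s (V i • m 0 + U i • m0) * Q := by
      intro i
      rw [DividedPowerAlgebra.dp_add, Finset.Nat.sum_antidiagonal_eq_sum_range_succ_mk,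
        Finset.sum_mul, Finset.sum_range]
      refine Finset.sum_congr rfl fun b _ => ?_
      rw [DividedPowerAlgebra.dp_smul, DividedPowerAlgebra.dp_smul, hH,
        Matrix.projVandermonde_apply, hc]
      simp only [Fin.val_rev, smul_mul_assoc, mul_smul_comm, smul_smul]
      have e : s + 1 - (↑b + 1) = s - ↑b := by omega
      rw [e]
      congr 1
      · ring
      · ring
    have hmem := smul_mem_of_matrix _ H c a (fun i => by rw [hexp i]; exact ha2 i)
      ⟨k 0, by omega⟩
    refine ⟨(∏ i, a i) * H.det, ?_, ?_⟩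
    · intro hmemp
      rcases (inferInstance : p.IsPrime).mem_or_mem hmemp with h1 | h1
      · rw [Ideal.IsPrime.prod_mem_iff] at h1
        obtain ⟨i, -, hi⟩ := h1
        exact ha1 i hi
      · rw [hH, Matrix.det_projVandermonde, Ideal.IsPrime.prod_mem_iff] at h1
        obtain ⟨i, -, hi⟩ := h1
        rw [Ideal.IsPrime.prod_mem_iff] at hi
        obtain ⟨j, hj, hij⟩ := hi
        have hlt : i < j := Finset.mem_Ioi.mp hj
        exact hUV i j hlt (by have := j.isLt; omega) hij
    · have h3 : s - k 0 = k0 := by omega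
      simp only [hc, h3] at hmem
      rw [← mul_assoc]
      exact hmem

theorem exists_frac {A : Type u} [CommRing A] (p : Ideal A) [p.IsPrime] (y : p.ResidueField) :
    ∃ r t : A, t ∉ p ∧ y * algebraMap A p.ResidueField t = algebraMap A p.ResidueField r := by
  obtain ⟨x, z, hz, hxy⟩ := IsFractionRing.div_surjective (A := A ⧸ p) y
  obtain ⟨r, rfl⟩ := Ideal.Quotient.mk_surjective x
  obtain ⟨t, rfl⟩ := Ideal.Quotient.mk_surjective z
  have hz0 : algebraMap (A ⧸ p) p.ResidueField (Ideal.Quotient.mk p t) ≠ 0 :=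
    IsFractionRing.to_map_ne_zero_of_mem_nonZeroDivisors hz
  refine ⟨r, t, ?_, ?_⟩
  · intro ht
    have : Ideal.Quotient.mk p t = 0 := Ideal.Quotient.eq_zero_iff_mem.mpr ht
    rw [this, map_zero] at hz0
    exact hz0 rfl
  · rw [IsScalarTower.algebraMap_apply A (A ⧸ p) p.ResidueField t,
      IsScalarTower.algebraMap_apply A (A ⧸ p) p.ResidueField r, Ideal.Quotient.algebraMap_eq,
      ← hxy, div_mul_cancel₀ _ hz0]

theorem exists_points {A : Type u} [CommRing A] (p : Ideal A) [p.IsPrime] (d : ℕ)
    (hcard : (d : Cardinal) ≤ Cardinal.mk p.ResidueField) :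
    ∃ U V : ℕ → A, ∀ a b : ℕ, a < b → b ≤ d → V b * U a - V a * U b ∉ p := by
  classical
  obtain ⟨e⟩ : Nonempty (Fin d ↪ p.ResidueField) := by
    rw [← Cardinal.lift_mk_le']
    simpa using hcard
  choose r t ht hrt using fun j : Fin d => exists_frac p (e j)
  refine ⟨fun n => match n with
    | 0 => 0
    | j + 1 => if h : j < d then t ⟨j, h⟩ else 0,
    fun n => match n with
    | 0 => 1
    | j + 1 => if h : j < d then r ⟨j, h⟩ else 0, ?_⟩
  intro a b hab hbd
  obtain ⟨j, rfl⟩ : ∃ j, b = j + 1 := ⟨b - 1, by omega⟩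
  have hj : j < d := by omega
  cases a with
  | zero =>
    simp only [hj, dite_true, mul_zero, one_mul, zero_sub]
    intro h
    exact ht ⟨j, hj⟩ (by simpa using p.neg_mem h)
  | succ i =>
    have hi : i < d := by omega
    simp only [hj, hi, dite_true]
    intro h
    rw [← Ideal.algebraMap_residueField_eq_zero, map_sub, map_mul, map_mul, ← hrt ⟨j, hj⟩,
      ← hrt ⟨i, hi⟩] at h
    have hti : algebraMap A p.ResidueField (t ⟨i, hi⟩) ≠ 0 := by
      rw [Ne, Ideal.algebraMap_residueField_eq_zero]; exact ht _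
    have htj : algebraMap A p.ResidueField (t ⟨j, hj⟩) ≠ 0 := by
      rw [Ne, Ideal.algebraMap_residueField_eq_zero]; exact ht _
    have h2 : (e ⟨j, hj⟩ - e ⟨i, hi⟩) * (algebraMap A p.ResidueField (t ⟨j, hj⟩) *
        algebraMap A p.ResidueField (t ⟨i, hi⟩)) = 0 := by
      rw [← h]; ring
    rcases mul_eq_zero.mp h2 with h3 | h3
    · have := e.injective (sub_eq_zero.mp h3)
      simp only [Fin.mk.injEq] at this
      omega
    · rcases mul_eq_zero.mp h3 with h4 | h4
      · exact htj h4
      · exact hti h4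

theorem exists_gen {A M : Type u} [CommRing A] [AddCommGroup M] [Module A M] (p : Ideal A)
    [p.IsPrime]
    (hcyc : ∃ x : LocalizedModule p.primeCompl M,
      Submodule.span (Localization.AtPrime p) {x} = ⊤) :
    ∃ y0 : M, ∀ m : M, ∃ s a : A, s ∉ p ∧ s • m = a • y0 := by
  obtain ⟨x, hx⟩ := hcyc
  induction x using LocalizedModule.induction_on with
  | _ y0 t0 =>
    refine ⟨y0, fun m => ?_⟩
    have hm : LocalizedModule.mk m (1 : p.primeCompl) ∈
        Submodule.span (Localization.AtPrime p) {LocalizedModule.mk y0 t0} := by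
      rw [hx]; trivial
    obtain ⟨c, hc⟩ := Submodule.mem_span_singleton.mp hm
    obtain ⟨a, s, rfl⟩ : ∃ (a : A) (s : p.primeCompl), Localization.mk a s = c := by
      induction c using Localization.induction_on with
      | _ y => exact ⟨y.1, y.2, rfl⟩
    rw [LocalizedModule.mk_smul_mk, LocalizedModule.mk_eq] at hc
    obtain ⟨u, hu⟩ := hc
    refine ⟨(u : A) * (s * t0 : p.primeCompl), (u : A) * a, ?_, ?_⟩
    · exact (u * (s * t0)).2
    · simp only [Submonoid.smul_def, one_smul] at hu
      rw [mul_smul, mul_smul]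
      exact hu.symm

theorem caseB {A M : Type u} [CommRing A] [AddCommGroup M] [Module A M] (d : ℕ) (p : Ideal A)
    [p.IsPrime]
    (hcyc : ∃ x : LocalizedModule p.primeCompl M,
      Submodule.span (Localization.AtPrime p) {x} = ⊤)
    (n : ℕ) (k : Fin n → ℕ) (m : Fin n → M) (hk : ∑ i, k i = d) :
    ∃ a : A, a ∉ p ∧ a • ∏ i, DividedPowerAlgebra.dp A (k i) (m i) ∈
      Submodule.span A
        (Set.range (DividedPowerAlgebra.dp A d : M → DividedPowerAlgebra A M)) := by
  obtain ⟨y0, hy0⟩ := exists_gen p hcyc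
  choose s a hs hsa using fun i : Fin n => hy0 (m i)
  refine ⟨∏ i, s i ^ k i, ?_, ?_⟩
  · intro hmem
    rw [Ideal.IsPrime.prod_mem_iff] at hmem
    obtain ⟨i, -, hi⟩ := hmem
    exact hs i ((inferInstance : p.IsPrime).mem_of_pow_mem _ hi)
  · have h1 : (∏ i, s i ^ k i) • ∏ i, DividedPowerAlgebra.dp A (k i) (m i) =
        (∏ i, a i ^ k i) • ∏ i : Fin n, DividedPowerAlgebra.dp A (k i) y0 := by
      rw [← Finset.prod_smul, ← Finset.prod_smul]
      refine Finset.prod_congr rfl fun i _ => ?_
      rw [← DividedPowerAlgebra.dp_smul, hsa i, DividedPowerAlgebra.dp_smul]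
    rw [h1, DividedPowerAlgebra.prod_dp, hk]
    refine Submodule.smul_mem _ _ ?_
    rw [← nsmul_eq_mul]
    exact Submodule.smul_of_tower_mem _ _ (Submodule.subset_span ⟨y0, rfl⟩)


/-- Let A be a commutative ring, M an A-module and d ≥ 0. Suppose that at each prime p of A either k(p)
has d or more elements, or the localisation M_p is a cyclic A_p-module. Then the degree-d piece
Γ^d_A(M) of the divided power algebra Γ_A(M) is spanned over A by the d-th divided powers γ_d(m), m
∈ M. -/
theorem result {A M : Type u} [CommRing A] [AddCommGroup M]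
    [Module A M] (d : ℕ)
    (h : ∀ p : PrimeSpectrum A, (d : Cardinal) ≤ Cardinal.mk p.asIdeal.ResidueField ∨
      ∃ x : LocalizedModule p.asIdeal.primeCompl M, Submodule.span (Localization.AtPrime p.asIdeal) {x} = ⊤) :
    Submodule.span A (Set.range (DividedPowerAlgebra.dp A d : M → DividedPowerAlgebra A M)) =
      PolLaw.gammaPiece A M d := by
  apply le_antisymm
  · rw [Submodule.span_le]
    rintro _ ⟨m, rfl⟩
    exact Submodule.subset_span ⟨1, fun _ => d, fun _ => m, by simp, by simp⟩
  · unfold PolLaw.gammaPiece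
    rw [Submodule.span_le]
    rintro _ ⟨n, k, m, hk, rfl⟩
    set W := Submodule.span A
      (Set.range (DividedPowerAlgebra.dp A d : M → DividedPowerAlgebra A M)) with hW
    set x := ∏ i, DividedPowerAlgebra.dp A (k i) (m i) with hx
    -- the ideal of scalars pushing x into W
    let I : Ideal A :=
      { carrier := {a | a • x ∈ W}
        add_mem' := fun {a b} ha hb => by
          simp only [Set.mem_ofPred_eq] at ha hb ⊢
          rw [add_smul]; exact W.add_mem ha hb
        zero_mem' := by simp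
        smul_mem' := fun c a ha => by
          simp only [Set.mem_ofPred_eq] at ha ⊢
          rw [smul_eq_mul, mul_smul]; exact W.smul_mem _ ha }
    by_cases hI : I = ⊤
    · have h1 : (1 : A) ∈ I := by rw [hI]; trivial
      have : (1 : A) • x ∈ W := h1
      simpa using this
    · exfalso
      obtain ⟨𝔪, h𝔪, hle⟩ := Ideal.exists_le_maximal I hI
      have : 𝔪.IsPrime := h𝔪.isPrime
      have key : ∃ a : A, a ∉ 𝔪 ∧ a • x ∈ W := by
        rcases h ⟨𝔪, h𝔪.isPrime⟩ with hc | hc
        · obtain ⟨U, V, hUV⟩ := exists_points 𝔪 d hc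
          obtain ⟨a, ha, ha2⟩ := caseA d 𝔪 U V hUV n k m 0 0 (by omega)
          rw [DividedPowerAlgebra.dp_zero, one_mul] at ha2
          exact ⟨a, ha, ha2⟩
        · exact caseB d 𝔪 hc n k m hk
      obtain ⟨a, ha, ha2⟩ := key
      exact ha (hle ha2)

end Groth.Agent.S13387
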