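import Groth.Statements.S13388
import Groth.Agent.Lib.GammaSpan75

set_option autoImplicit false
universe u
open ZeroCyc

namespace Groth.Agent.S13388

/-- Let A be a commutative ring, M a finitely generated A-module and d ≥ 0. If the degree-d piece
Γ^d_A(M) of Γ_A(M) is spanned over A by the divided powers γ_d(m), m ∈ M, then at each prime p of A
either k(p) has d or more elements, or the localisation M_p is a cyclic A_p-module. -/
theorem result {A M : Type u} [CommRing A] [AddCommGroup M]
    [Module A M] [Module.Finite A M] (d : ℕ)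
    (h : Submodule.span A (Set.range (DividedPowerAlgebra.dp A d : M → DividedPowerAlgebra A M)) =
      PolLaw.gammaPiece A M d)
    (p : PrimeSpectrum A) :
    (d : Cardinal) ≤ Cardinal.mk p.asIdeal.ResidueField ∨
      ∃ x : LocalizedModule p.asIdeal.primeCompl M, Submodule.span (Localization.AtPrime p.asIdeal) {x} = ⊤ := by
  by_contra hcon
  rw [not_or] at hcon
  obtain ⟨hcard, hnc⟩ := hcon
  have hlt : Cardinal.mk p.asIdeal.ResidueField < (d : Cardinal) := not_le.mp hcard
  have : Finite p.asIdeal.ResidueField :=
    Cardinal.lt_aleph0_iff_finite.mp (lt_trans hlt (Cardinal.natCast_lt_aleph0))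
  let _ := Fintype.ofFinite p.asIdeal.ResidueField
  have hq : Fintype.card p.asIdeal.ResidueField < d := by
    rw [Cardinal.mk_fintype] at hlt
    exact_mod_cast hlt
  obtain ⟨x, y, m₁, m₂, h1, h2, h3⟩ :=
    Groth.Agent.Lib.GammaSpan75.exists_forms_of_not_cyclic p.asIdeal hnc
  exact Groth.Agent.Lib.GammaSpan75.not_span_of_forms d hq x y m₁ m₂ h1 h2 h3 h

end Groth.Agent.S13388
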