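import Groth.Statements.S13389
import Mathlib.LinearAlgebra.Vandermonde
import Mathlib.LinearAlgebra.Matrix.NonsingularInverse

set_option autoImplicit false
universe u
open ZeroCyc

namespace Groth.Agent.S13389

theorem mem_of_vandermonde {A N : Type*} [CommRing A] [AddCommGroup N] [Module A N]
    (W : Submodule A N) {n : ℕ} (v : Fin n → A) (hdet : IsUnit (Matrix.vandermonde v).det)
    (c : Fin n → N) (h : ∀ i, ∑ j : Fin n, (v i) ^ (j : ℕ) • c j ∈ W) (j : Fin n) : c j ∈ W := by
  classical
  have hinv : (Matrix.vandermonde v)⁻¹ * Matrix.vandermonde v = 1 :=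
    Matrix.nonsing_inv_mul _ hdet
  have key : c j = ∑ i, (Matrix.vandermonde v)⁻¹ j i • ∑ l, Matrix.vandermonde v i l • c l := by
    simp_rw [Finset.smul_sum, smul_smul]
    rw [Finset.sum_comm]
    simp_rw [← Finset.sum_smul, ← Matrix.mul_apply, hinv, Matrix.one_apply, ite_smul, one_smul,
      zero_smul]
    simp
  rw [key]
  exact Submodule.sum_mem _ fun i _ => Submodule.smul_mem _ _
    (by simpa [Matrix.vandermonde_apply] using h i)

theorem isUnit_det_vandermonde_pow {A : Type*} [CommRing A] (τ : A) (d s : ℕ) (hs : s ≤ d)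
    (hτ : ∀ i j : ℕ, i < j → j ≤ d → IsUnit (τ ^ i - τ ^ j)) :
    IsUnit (Matrix.vandermonde (fun i : Fin (s + 1) => τ ^ (i : ℕ))).det := by
  rw [Matrix.det_vandermonde]
  refine (IsUnit.prod_univ_iff).mpr fun i => ?_
  refine (IsUnit.prod_iff).mpr fun j hj => ?_
  have hij : i < j := Finset.mem_Ioi.mp hj
  have h1 := hτ i j hij (by have := j.isLt; omega)
  have : τ ^ (j : ℕ) - τ ^ (i : ℕ) = - (τ ^ (i : ℕ) - τ ^ (j : ℕ)) := by ring
  rw [this]
  exact h1.neg

theorem dp_mul_prod_mem {A M : Type u} [CommRing A] [AddCommGroup M] [Module A M] (d : ℕ) (τ : A)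
    (hτ : ∀ i j : ℕ, i < j → j ≤ d → IsUnit (τ ^ i - τ ^ j)) :
    ∀ (n : ℕ) (k : Fin n → ℕ) (m : Fin n → M) (k0 : ℕ) (m0 : M), k0 + ∑ i, k i = d →
      DividedPowerAlgebra.dp A k0 m0 * ∏ i, DividedPowerAlgebra.dp A (k i) (m i) ∈
        Submodule.span A
          (Set.range (DividedPowerAlgebra.dp A d : M → DividedPowerAlgebra A M)) := by
  intro n
  induction n with
  | zero =>
    intro k m k0 m0 h
    simp only [Finset.univ_eq_empty, Finset.sum_empty, add_zero] at h
    simp only [Finset.univ_eq_empty, Finset.prod_empty, mul_one]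
    subst h
    exact Submodule.subset_span ⟨m0, rfl⟩
  | succ n ih =>
    intro k m k0 m0 h
    rw [Fin.sum_univ_succ] at h
    rw [Fin.prod_univ_succ]
    set Q := ∏ i : Fin n, DividedPowerAlgebra.dp A (k i.succ) (m i.succ) with hQ
    set s := k0 + k 0 with hs
    have hsd : s ≤ d := by omega
    have hx : ∀ x : A, ∑ b : Fin (s + 1), x ^ (b : ℕ) •
        (DividedPowerAlgebra.dp A (s - b) m0 * DividedPowerAlgebra.dp A b (m 0) * Q) ∈
        Submodule.span A
          (Set.range (DividedPowerAlgebra.dp A d : M → DividedPowerAlgebra A M)) := by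
      intro x
      have h1 := ih (fun i => k i.succ) (fun i => m i.succ) s (x • m 0 + m0) (by omega)
      rw [DividedPowerAlgebra.dp_add, Finset.Nat.sum_antidiagonal_eq_sum_range_succ_mk,
        Finset.sum_mul, Finset.sum_range] at h1
      convert h1 using 2 with b
      rw [DividedPowerAlgebra.dp_smul]
      simp only [smul_mul_assoc]
      rw [mul_comm (DividedPowerAlgebra.dp A (s - b) m0)]
    have h2 := mem_of_vandermonde _ (fun i : Fin (s + 1) => τ ^ (i : ℕ))
      (isUnit_det_vandermonde_pow τ d s hsd hτ)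
      (fun b : Fin (s + 1) =>
        DividedPowerAlgebra.dp A (s - b) m0 * DividedPowerAlgebra.dp A b (m 0) * Q)
      (fun i => hx (τ ^ (i : ℕ))) ⟨k 0, by omega⟩
    have h3 : s - k 0 = k0 := by omega
    simp only [h3] at h2
    rw [← mul_assoc]
    exact h2

open Polynomial in
/-- Let P_d(T) = ∏_{0 ≤ i < j ≤ d} (T^i − T^j) − 1 ∈ ℤ[T]. If A is an algebra over ℤ[T]/(P_d), i.e.
receives a ring homomorphism from it, then for every A-module M the degree-d piece Γ^d_A(M) of the
divided power algebra Γ_A(M) is spanned over A by the d-th divided powers γ_d(m), m ∈ M. (The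
published statement adds that consequently every ring has a finite faithfully flat extension,
independent of M, over which this holds; that clause is not restated.) -/
theorem result {A M : Type u} [CommRing A] [AddCommGroup M]
    [Module A M] (d : ℕ)
    (φ : (ℤ[X] ⧸ Ideal.span {(∏ j ∈ Finset.range (d + 1), ∏ i ∈ Finset.range j,
        ((X : ℤ[X]) ^ i - X ^ j)) - 1}) →+* A) :
    Submodule.span A (Set.range (DividedPowerAlgebra.dp A d : M → DividedPowerAlgebra A M)) =
      PolLaw.gammaPiece A M d := by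
  classical
  set τ : A := φ (Ideal.Quotient.mk _ X) with hτdef
  have hprod : ∏ j ∈ Finset.range (d + 1), ∏ i ∈ Finset.range j, (τ ^ i - τ ^ j) = 1 := by
    have h0 : φ (Ideal.Quotient.mk _ ((∏ j ∈ Finset.range (d + 1), ∏ i ∈ Finset.range j,
        ((X : ℤ[X]) ^ i - X ^ j)) - 1)) = 0 := by
      rw [Ideal.Quotient.eq_zero_iff_mem.mpr (Ideal.mem_span_singleton_self _), map_zero]
    simp only [map_sub, map_prod, map_pow, map_one] at h0
    exact sub_eq_zero.mp h0
  have hτ : ∀ i j : ℕ, i < j → j ≤ d → IsUnit (τ ^ i - τ ^ j) := by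
    intro i j hij hjd
    apply isUnit_of_dvd_one
    rw [← hprod]
    exact (Finset.dvd_prod_of_mem (fun i => τ ^ i - τ ^ j) (Finset.mem_range.mpr hij)).trans
      (Finset.dvd_prod_of_mem (fun j => ∏ i ∈ Finset.range j, (τ ^ i - τ ^ j))
        (Finset.mem_range.mpr (by omega)))
  apply le_antisymm
  · rw [Submodule.span_le]
    rintro _ ⟨m, rfl⟩
    apply Submodule.subset_span
    exact ⟨1, fun _ => d, fun _ => m, by simp, by simp⟩
  · unfold PolLaw.gammaPiece
    rw [Submodule.span_le]
    rintro _ ⟨n, k, m, hk, rfl⟩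
    have h4 := dp_mul_prod_mem d τ hτ n k m 0 0 (by omega)
    rwa [DividedPowerAlgebra.dp_zero, one_mul] at h4

end Groth.Agent.S13389
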