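import Groth.Statements.S13399
import Groth.Agent.Lib.PolyCoeffT23

set_option autoImplicit false
universe u
open scoped TensorProduct
open ZeroCyc

namespace Groth.Agent.S13399

open Groth.Agent.Lib.PolLaw23 Groth.Agent.Lib.PolLawExt23 Groth.Agent.Lib.PolLawGen23
  Groth.Agent.Lib.PolLawSpan23 Groth.Agent.Lib.PolyCoeffT23

section

variable {A B Cd Ce : Type u} [CommRing A] [CommRing B] [Algebra A B]
    [CommRing Cd] [Algebra A Cd] [CommRing Ce] [Algebra A Ce] {e : ℕ}
    (γd : PolLaw.MulLaw A B Cd (e + 1)) (γe : PolLaw.MulLaw A B Ce e)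
    (ω : Cd ⊗[A] B →ₐ[A] Ce ⊗[A] B)

/-- The image of `P ⊗ ω`. -/
def R (P : Type u) [CommRing P] [Algebra A P] : Submodule A (P ⊗[A] (Ce ⊗[A] B)) :=
  LinearMap.range (ω.toLinearMap.lTensor P)

theorem mul_mem_R (P : Type u) [CommRing P] [Algebra A P] {x y : P ⊗[A] (Ce ⊗[A] B)}
    (hx : x ∈ R ω P) (hy : y ∈ R ω P) : x * y ∈ R ω P := by
  obtain ⟨u, rfl⟩ := hx
  obtain ⟨u', rfl⟩ := hy
  refine ⟨u * u', ?_⟩
  rw [PolLaw.lTensor_algHom_apply, PolLaw.lTensor_algHom_apply, PolLaw.lTensor_algHom_apply, map_mul]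

variable (hω : ∀ (S : Type u) [CommSemiring S] [Algebra A S] (x y : S ⊗[A] B),
      ω.toLinearMap.lTensor S
        ((Algebra.TensorProduct.includeLeft : Cd →ₐ[A] Cd ⊗[A] B).toLinearMap.lTensor S (γd.law.toFun' S x) *
          (Algebra.TensorProduct.includeRight : B →ₐ[A] Cd ⊗[A] B).toLinearMap.lTensor S y) =
      (Algebra.TensorProduct.includeLeft : Ce →ₐ[A] Ce ⊗[A] B).toLinearMap.lTensor S (γe.law.toFun' S x) *
        (Algebra.TensorProduct.includeRight : B →ₐ[A] Ce ⊗[A] B).toLinearMap.lTensor S (x * y))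

include hω in
theorem inr_mem_R (P : Type u) [CommRing P] [Algebra A P] (y : P ⊗[A] B) :
    (Algebra.TensorProduct.includeRight : B →ₐ[A] Ce ⊗[A] B).toLinearMap.lTensor P y ∈ R ω P := by
  have h := hω P 1 y
  rw [(γd.mult P).1, (γe.mult P).1, one_mul] at h
  rw [PolLaw.lTensor_algHom_apply (Algebra.TensorProduct.includeLeft : Cd →ₐ[A] Cd ⊗[A] B), map_one, one_mul,
    PolLaw.lTensor_algHom_apply (Algebra.TensorProduct.includeLeft : Ce →ₐ[A] Ce ⊗[A] B), map_one, one_mul] at h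
  exact ⟨_, h⟩

include hω in
theorem inl_gamma_mem_R (P : Type u) [CommRing P] [Algebra A P] (z : P ⊗[A] B) :
    (Algebra.TensorProduct.includeLeft : Ce →ₐ[A] Ce ⊗[A] B).toLinearMap.lTensor P (γe.law.toFun' P z) ∈
      R ω P := by
  set Q := Polynomial P with hQ
  set inlE := (Algebra.TensorProduct.includeLeft : Ce →ₐ[A] Ce ⊗[A] B) with hinlE
  set inrE := (Algebra.TensorProduct.includeRight : B →ₐ[A] Ce ⊗[A] B) with hinrE
  set x : Q ⊗[A] B := (Polynomial.X : Q) ⊗ₜ[A] (1 : B) + (Cm (A := A) P).toLinearMap.rTensor B z with hx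
  set U : Q ⊗[A] (Ce ⊗[A] B) := inlE.toLinearMap.lTensor Q (γe.law.toFun' Q x) with hU
  set v : P ⊗[A] (Ce ⊗[A] B) := inrE.toLinearMap.lTensor P z with hv
  have hinr : inrE.toLinearMap.lTensor Q x =
      (Polynomial.X : Q) ⊗ₜ[A] (1 : Ce ⊗[A] B) + (Cm (A := A) P).toLinearMap.rTensor _ v := by
    rw [hx, map_add, LinearMap.lTensor_tmul, hv, ← LinearMap.comp_apply, ← LinearMap.comp_apply,
      LinearMap.lTensor_comp_rTensor, LinearMap.rTensor_comp_lTensor]
    simp
  have hW : U * inrE.toLinearMap.lTensor Q x ∈ R ω Q := by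
    have h := hω Q x 1
    rw [mul_one] at h
    exact ⟨_, h⟩
  have hcoef : ∀ k, (cT (A := A) P k).rTensor _ (U * inrE.toLinearMap.lTensor Q x) ∈ R ω P := by
    intro k
    obtain ⟨w, hw⟩ := hW
    refine ⟨(cT (A := A) P k).rTensor _ w, ?_⟩
    rw [← hw, ← LinearMap.comp_apply, ← LinearMap.comp_apply, LinearMap.lTensor_comp_rTensor,
      LinearMap.rTensor_comp_lTensor]
  have hv_mem : v ∈ R ω P := inr_mem_R γd γe ω hω P z
  have hstep : ∀ k, (cT (A := A) P k).rTensor _ U + (cT (A := A) P (k + 1)).rTensor _ U * v ∈ R ω P := by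
    intro k
    have h := hcoef (k + 1)
    rw [hinr, mul_add, map_add, cT_rTensor_mul_X_succ, cT_rTensor_mul_C] at h
    exact h
  obtain ⟨N, hN⟩ := exists_bound P (Ce ⊗[A] B) U
  have hall : ∀ m k, N ≤ k + m → (cT (A := A) P k).rTensor _ U ∈ R ω P := by
    intro m
    induction m with
    | zero =>
      intro k hk
      rw [hN k (by omega)]
      exact zero_mem _
    | succ m ih =>
      intro k hk
      have h1 := ih (k + 1) (by omega)
      have h2 := hstep k
      have h3 := mul_mem_R ω P h1 hv_mem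
      have := sub_mem h2 h3
      rwa [add_sub_cancel_right] at this
  have h0 := hall N 0 (by omega)
  rw [cT_zero_eq, hU, ← LinearMap.comp_apply, LinearMap.rTensor_comp_lTensor,
    ← LinearMap.lTensor_comp_rTensor, LinearMap.comp_apply, PolynomialLaw.isCompat_apply'] at h0
  have hx0 : (ev0 (A := A) P).toLinearMap.rTensor B x = z := by
    rw [hx, map_add, LinearMap.rTensor_tmul, AlgHom.toLinearMap_apply, ev0_X, TensorProduct.zero_tmul, zero_add,
      ← rTensor_comp_apply', ev0_comp_Cm]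
    simp
  rw [hx0] at h0
  exact h0

end

/-- Let A be a commutative ring, B an A-algebra and e ≥ 0; let (C_{e+1}, γ_{e+1}) and (C_e, γ_e) be the
divided power algebras Γ^{e+1}_A(B) and Γ^e_A(B) of B with their universal multiplicative laws of
degrees e + 1 and e (every multiplicative law of that degree out of B factors uniquely through
them), and let ω : Γ^{e+1}_A(B) ⊗_A B → Γ^e_A(B) ⊗_A B be Iversen's canonical algebra homomorphism,
taken here as data characterised by ω(γ_{e+1}(x) ⊗ y) = γ_e(x) ⊗ x·y for all x, y ∈ S ⊗_A B and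
every base change A → S. Then ω is surjective. -/
theorem result {A B Cd Ce : Type u} [CommRing A] [CommRing B] [Algebra A B]
    [CommRing Cd] [Algebra A Cd] [CommRing Ce] [Algebra A Ce] (e : ℕ)
    (γd : PolLaw.MulLaw A B Cd (e + 1)) (hγd : PolLaw.IsGammaD γd)
    (γe : PolLaw.MulLaw A B Ce e) (hγe : PolLaw.IsGammaD γe)
    (ω : Cd ⊗[A] B →ₐ[A] Ce ⊗[A] B)
    (hω : ∀ (S : Type u) [CommSemiring S] [Algebra A S] (x y : S ⊗[A] B),
      ω.toLinearMap.lTensor S
        ((Algebra.TensorProduct.includeLeft : Cd →ₐ[A] Cd ⊗[A] B).toLinearMap.lTensor S (γd.law.toFun' S x) *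
          (Algebra.TensorProduct.includeRight : B →ₐ[A] Cd ⊗[A] B).toLinearMap.lTensor S y) =
      (Algebra.TensorProduct.includeLeft : Ce →ₐ[A] Ce ⊗[A] B).toLinearMap.lTensor S (γe.law.toFun' S x) *
        (Algebra.TensorProduct.includeRight : B →ₐ[A] Ce ⊗[A] B).toLinearMap.lTensor S (x * y)) :
    Function.Surjective ω := by
  have hC₀ : (ω.range.comap (Algebra.TensorProduct.includeLeft : Ce →ₐ[A] Ce ⊗[A] B)) = ⊤ := by
    apply Groth.Agent.Lib.PolLawGen23.subalgebra_eq_top_of_isGammaD γe hγe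
    intro n z
    apply Groth.Agent.Lib.PolLawSpan23.mem_range_lTensor_of_coords
    intro l
    show (Algebra.TensorProduct.includeLeft : Ce →ₐ[A] Ce ⊗[A] B)
      (Groth.Agent.Lib.PolLawSpan23.evalFun Ce l (γe.law.toFun' _ z)) ∈ ω.range
    rw [← AlgHom.toLinearMap_apply, ← Groth.Agent.Lib.PolLawSpan23.evalFun_lTensor]
    obtain ⟨w, hw⟩ := Groth.Agent.S13399.inl_gamma_mem_R γd γe ω hω (MvPolynomial (Fin n) A) z
    rw [← hw, Groth.Agent.Lib.PolLawSpan23.evalFun_lTensor]
    exact ⟨_, rfl⟩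
  have hB : ∀ y : B, (1 : Ce) ⊗ₜ[A] y ∈ ω.range := by
    intro y
    obtain ⟨w, hw⟩ := Groth.Agent.S13399.inr_mem_R γd γe ω hω A ((1 : A) ⊗ₜ[A] y)
    have h := congrArg (Groth.Agent.Lib.PolLawSpan23.evalFun _ (LinearMap.id : A →ₗ[A] A)) hw
    rw [Groth.Agent.Lib.PolLawSpan23.evalFun_lTensor, LinearMap.lTensor_tmul,
      Groth.Agent.Lib.PolLawSpan23.evalFun_tmul, LinearMap.id_apply, one_smul] at h
    exact ⟨_, h⟩
  intro t
  have ht : t ∈ ω.range := by
    induction t using TensorProduct.induction_on with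
    | zero => exact zero_mem _
    | tmul c y =>
      have h1 : c ⊗ₜ[A] (1 : B) ∈ ω.range := by
        have hc : c ∈ (ω.range.comap (Algebra.TensorProduct.includeLeft : Ce →ₐ[A] Ce ⊗[A] B)) := by
          rw [hC₀]; exact Algebra.mem_top
        exact hc
      have h2 := mul_mem h1 (hB y)
      rwa [Algebra.TensorProduct.tmul_mul_tmul, mul_one, one_mul] at h2
    | add x y hx hy => exact add_mem hx hy
  exact ht

end Groth.Agent.S13399
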