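import Groth.Statements.S1340
import Mathlib.AlgebraicGeometry.ZariskisMainTheorem
import Mathlib.Topology.Sheaves.SheafCondition.Sites

set_option autoImplicit false
universe u
open FlatMor

namespace Groth.Agent.S1340

open AlgebraicGeometry CategoryTheory Limits TopologicalSpace

/-- A morphism of schemes inducing isomorphisms on sections over a basis of opens of the target
induces isomorphisms on sections over all opens. -/
lemma isIso_app_of_isBasis {X Z : Scheme.{u}} (g : X ⟶ Z) (B : Set Z.Opens)
    (hB : Opens.IsBasis B) (h : ∀ V ∈ B, IsIso (g.app V)) (W : Z.Opens) : IsIso (g.app W) := by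
  let φ : Z.sheaf ⟶ (TopCat.Sheaf.pushforward CommRingCat g.base).obj X.sheaf := ⟨g.c⟩
  have hφ : IsIso φ := by
    refine TopCat.Sheaf.isIso_iff_isIso_basis (B := fun i : B => i.1) (by simpa using hB) ?_
    intro i
    exact h i.1 i.2
  have h2 : IsIso φ.hom :=
    ⟨⟨(inv φ).hom, congrArg (·.hom) (IsIso.hom_inv_id φ), congrArg (·.hom) (IsIso.inv_hom_id φ)⟩⟩
  have h3 : IsIso (φ.hom.app (Opposite.op W)) := inferInstance
  exact h3

/-- For a universally closed morphism, sections over the preimage of an affine open are integral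
over the sections of the affine open. -/
lemma isIntegral_app_of_universallyClosed {X Y : Scheme.{u}} (f : X ⟶ Y) [UniversallyClosed f]
    {U : Y.Opens} (hU : IsAffineOpen U) : (f.app U).hom.IsIntegral := by
  have : IsAffine U := hU
  have h := isIntegral_appTop_of_universallyClosed (f ∣_ U)
  have e1 : U.ι ''ᵁ ⊤ = U := by simp
  have e2 : f ⁻¹ᵁ U = (f ⁻¹ᵁ U).ι ''ᵁ ((f ∣_ U) ⁻¹ᵁ ⊤) := by simp
  have h' : (f.appLE (U.ι ''ᵁ ⊤) ((f ⁻¹ᵁ U).ι ''ᵁ ((f ∣_ U) ⁻¹ᵁ ⊤))
      (image_morphismRestrict_preimage f U ⊤).le).hom.IsIntegral := by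
    rw [Scheme.Hom.appTop, morphismRestrict_app'] at h
    exact h
  have e : f.app U = Y.presheaf.map (eqToHom e1).op ≫
      f.appLE (U.ι ''ᵁ ⊤) ((f ⁻¹ᵁ U).ι ''ᵁ ((f ∣_ U) ⁻¹ᵁ ⊤))
      (image_morphismRestrict_preimage f U ⊤).le ≫ X.presheaf.map (eqToHom e2).op := by
    rw [Scheme.Hom.appLE_map, Scheme.Hom.map_appLE, ← Scheme.Hom.app_eq_appLE]
  rw [e, CommRingCat.hom_comp, RingHom.isIntegral_respectsIso.cancel_left_isIso,
    CommRingCat.hom_comp, RingHom.isIntegral_respectsIso.cancel_right_isIso]
  exact h'

/-- Over the preimage of an affine open of the base, the map to the relative normalization of a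
universally closed quasi-separated morphism is an isomorphism on sections. -/
lemma isIso_app_preimage {X Y : Scheme.{u}} (f : X ⟶ Y) [UniversallyClosed f] [QuasiSeparated f]
    (U : Y.affineOpens) : IsIso (f.toNormalization.app (f.fromNormalization ⁻¹ᵁ U.1)) := by
  let := (f.app U.1).hom.toAlgebra
  have hint : integralClosure Γ(Y, U.1) Γ(X, f ⁻¹ᵁ U.1) = ⊤ := by
    rw [integralClosure_eq_top_iff, ← algebraMap_isIntegral_iff, RingHom.algebraMap_toAlgebra]
    exact isIntegral_app_of_universallyClosed f U.2
  rw [f.toNormalization_app_preimage U]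
  refine IsIso.comp_isIso' inferInstance (IsIso.comp_isIso' ?_ inferInstance)
  rw [hint]
  exact inferInstanceAs (IsIso ((Subalgebra.topEquiv
      (R := Γ(Y, U.1)) (A := ↑Γ(X, f ⁻¹ᵁ U.1))).toCommRingCatIso).hom)

/-- If a quasi-compact quasi-separated morphism is an isomorphism on sections over an affine open,
it is so over every basic open of it. -/
lemma isIso_app_basicOpen {X Z : Scheme.{u}} (g : X ⟶ Z) [QuasiCompact g] [QuasiSeparated g]
    {V : Z.Opens} (hV : IsAffineOpen V) [hiso : IsIso (g.app V)] (r : Γ(Z, V)) :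
    IsIso (g.app (Z.basicOpen r)) := by
  have i1 := hV.isLocalization_basicOpen r
  have i2 := isLocalization_basicOpen_of_qcqs (g.isCompact_preimage hV.isCompact)
    (g.isQuasiSeparated_preimage hV.isQuasiSeparated) (g.app V r)
  have e : X.basicOpen (g.app V r) = g ⁻¹ᵁ (Z.basicOpen r) := (Scheme.preimage_basicOpen ..).symm
  let φ : Γ(Z, V) ≃+* Γ(X, g ⁻¹ᵁ V) := (asIso (g.app V)).commRingCatIsoToRingEquiv
  let ψ : Γ(Z, Z.basicOpen r) ≃+* Γ(X, X.basicOpen (g.app V r)) :=
    IsLocalization.ringEquivOfRingEquiv (M := Submonoid.powers r)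
      (T := Submonoid.powers (g.app V r)) _ _ φ (by
        rw [Submonoid.map_powers]; rfl)
  have key : g.app (Z.basicOpen r) ≫ X.presheaf.map (eqToHom e).op = ψ.toCommRingCatIso.hom := by
    ext : 1
    apply IsLocalization.ringHom_ext (.powers r)
    ext x
    have h1 : (ψ.toCommRingCatIso.hom.hom) (algebraMap _ _ x) = algebraMap _ _ (φ x) :=
      IsLocalization.ringEquivOfRingEquiv_eq _ _
    have h2 : (g.app (Z.basicOpen r) ≫ X.presheaf.map (eqToHom e).op).hom (algebraMap _ _ x) =
        algebraMap _ _ (g.app V x) := by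
      simp only [RingHom.algebraMap_toAlgebra, ← CommRingCat.comp_apply]
      congr 2
      rw [Scheme.Hom.naturality_assoc, ← Functor.map_comp]
      rfl
    exact h2.trans h1.symm
  have : IsIso (g.app (Z.basicOpen r) ≫ X.presheaf.map (eqToHom e).op) := by
    rw [key]; infer_instance
  exact IsIso.of_isIso_comp_right _ (X.presheaf.map (eqToHom e).op)

open AlgebraicGeometry CategoryTheory Limits in
/-- Stein factorization, universally closed case: let f : X ⟶ S be universally closed and
quasi-separated, and let X ⟶ X' ⟶ S be its factorization through the normalization X' of S in X.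
Then the canonical morphism X ⟶ X' identifies the structure sheaf of X' with the pushforward of the
structure sheaf of X: for every open U of X' the induced map from O_{X'}(U) to the sections of O_X
over the inverse image of U is an isomorphism. (That X ⟶ X' is surjective and universally closed and
that X' ⟶ S is integral are separate facts not restated here.) -/
theorem result {X S : Scheme.{u}} (f : X ⟶ S) [UniversallyClosed f] [QuasiSeparated f]
    (U : f.normalization.Opens) : IsIso (f.toNormalization.app U) := by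
  let B : Set f.normalization.Opens :=
    {W | ∃ (V : S.affineOpens) (r : Γ(f.normalization, f.fromNormalization ⁻¹ᵁ V.1)),
      W = f.normalization.basicOpen r}
  refine isIso_app_of_isBasis f.toNormalization B ?_ ?_ U
  · rw [Opens.isBasis_iff_nbhd]
    intro W x hx
    obtain ⟨_, ⟨V, hV, rfl⟩, hxV, -⟩ := S.isBasis_affineOpens.exists_subset_of_mem_open
      (Set.mem_univ (f.fromNormalization x)) isOpen_univ
    have hV' := hV.preimage f.fromNormalization
    obtain ⟨r, hr, hxr⟩ := hV'.exists_basicOpen_le ⟨x, hx⟩ hxV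
    exact ⟨_, ⟨⟨V, hV⟩, r, rfl⟩, hxr, hr⟩
  · rintro _ ⟨V, r, rfl⟩
    have := isIso_app_preimage f V
    exact isIso_app_basicOpen _ (V.2.preimage f.fromNormalization) r

end Groth.Agent.S1340
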