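import Groth.Statements.S13400
import Groth.Agent.Lib.SplitLaw75
import Groth.Agent.Lib.UnramSplit61d

set_option autoImplicit false
set_option linter.style.haveILetI false
universe u
open scoped TensorProduct
open ZeroCyc

namespace Groth.Agent.S13400

open Groth.Agent.Lib.SplitLaw75 Groth.Agent.Lib.KerBC23

/-- Étale-local splitting of a finite étale free algebra of rank `d`, with the rank pinned down. -/
theorem exists_split {A B : Type u} [CommRing A] [CommRing B] [Algebra A B]
    [Module.Free A B] [Module.Finite A B] [Algebra.Etale A B] (d : ℕ) (hd : Module.finrank A B = d)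
    (p : Ideal A) (hp : p.IsPrime) :
    ∃ (L : Type u) (_ : CommRing L) (_ : Algebra A L),
      Module.Flat A L ∧ (∃ pL : Ideal L, pL.IsPrime ∧ pL.comap (algebraMap A L) = p) ∧
        Nonempty (L ⊗[A] B ≃ₐ[L] (Fin d → L)) := by
  obtain ⟨L, _, _, hE, pL, hpL, hlies, n, ⟨e⟩⟩ :=
    Groth.Agent.Lib.UnramSplit61d.split_finite_etale A B p
  haveI : Nontrivial L :=
    ⟨⟨0, 1, fun h => hpL.ne_top ((Ideal.eq_top_iff_one _).2 (h ▸ pL.zero_mem))⟩⟩
  haveI : Nontrivial A := (algebraMap A L).domain_nontrivial
  have h1 : Module.finrank L (L ⊗[A] B) = Module.finrank A B := Module.finrank_baseChange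
  have h2 : Module.finrank L (Fin n → L) = n := Module.finrank_fin_fun L
  have h3 := LinearEquiv.finrank_eq e.toLinearEquiv
  have hn : n = d := by rw [← h2, ← h3, h1, hd]
  subst hn
  refine ⟨L, inferInstance, inferInstance, inferInstance, ⟨pL, hpL, ?_⟩, ⟨e⟩⟩
  exact (hlies.over).symm

theorem val_N {A B : Type u} [CommRing A] [CommRing B] [Algebra A B] {d : ℕ}
    (N : PolLaw.MulLaw A B A d)
    (hN : ∀ (S : Type u) [CommRing S] [Algebra A S] (x : S ⊗[A] B),
      N.law.toFun' S x = Algebra.norm S x ⊗ₜ[A] (1 : A))
    (R : Type u) [CommRing R] [Algebra A R] (x : R ⊗[A] B) : val N R x = Algebra.norm R x := by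
  rw [val_apply, hN, TensorProduct.rid_tmul, one_smul]

/-- Let A be a commutative ring and B a finite étale A-algebra, free of rank d as an A-module, so that X
= Spec B is finite étale of constant rank d over S = Spec A, and let N : B → A be the determinant
law: the multiplicative polynomial law of degree d which on each A-algebra S is the norm of the free
S-algebra S ⊗_A B (N is taken as data characterised by this formula; it is the canonical family N_X
: S → Γ^d(X/S)). Then the kernel of N is the zero ideal, i.e. the image of N_X is X itself, and N is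
the unique multiplicative law B → A of degree d whose kernel consists of nilpotent elements, i.e.
whose support is all of X_red. (The published statement is over an arbitrary algebraic space S with
X/S finite étale of locally constant rank, phrased with morphisms to Γ^?(X/S); this row is its
content over an affine base with X free of rank d.) -/
theorem result {A B : Type u} [CommRing A] [CommRing B] [Algebra A B]
    [Module.Free A B] [Module.Finite A B] [Algebra.Etale A B] (d : ℕ) (hd : Module.finrank A B = d)
    (N : PolLaw.MulLaw A B A d)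
    (hN : ∀ (S : Type u) [CommRing S] [Algebra A S] (x : S ⊗[A] B),
      N.law.toFun' S x = Algebra.norm S x ⊗ₜ[A] (1 : A)) :
    PolLaw.ker N.law = ⊥ ∧
      ∀ F : PolLaw.MulLaw A B A d, PolLaw.ker F.law ≤ nilradical B → F = N := by
  constructor
  · rw [eq_bot_iff]
    intro b hb
    rw [Ideal.mem_bot]
    apply eq_zero_of_forall_prime (A := A) b
    intro p hp
    obtain ⟨L, _, _, hflat, hpL, ⟨e⟩⟩ := exists_split d hd p hp
    refine ⟨L, inferInstance, inferInstance, hflat, hpL, ?_⟩
    have hz : ((1 : L) ⊗ₜ[A] b : L ⊗[A] B) ∈ PolLaw.kerBC N.law L := by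
      apply map_ker_le_kerBC N.law L
      exact Ideal.mem_map_of_mem _ hb
    rw [mem_kerBC_iff] at hz
    have hz' := fun x w => hz L (AlgHom.id A L) x w
    have hbc : bc (AlgHom.id A L) ((1 : L) ⊗ₜ[A] b : L ⊗[A] B) = (1 : L) ⊗ₜ[A] b := by
      rw [bc_tmul]; rfl
    have key : ∀ j, e ((1 : L) ⊗ₜ[A] b) j = 0 := by
      intro j
      have h1 := hz' (e.symm (Function.update 1 j 0)) (e.symm (Pi.single j 1))
      rw [hbc, toFun'_eq, toFun'_eq] at h1
      have h2 : val N L (e.symm (Function.update 1 j 0) + e.symm (Pi.single j 1) * (1 : L) ⊗ₜ[A] b) =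
          val N L (e.symm (Function.update 1 j 0)) := by
        have := congrArg (TensorProduct.rid A L) h1
        simpa using this
      rw [val_N N hN, val_N N hN, norm_of_algEquiv e, norm_of_algEquiv e, map_add, map_mul,
        AlgEquiv.apply_symm_apply, AlgEquiv.apply_symm_apply] at h2
      rw [Finset.prod_eq_single j, Finset.prod_eq_single j] at h2
      · simpa using h2
      · intro k _ hk
        simp [Function.update_of_ne hk]
      · intro h; exact absurd (Finset.mem_univ j) h
      · intro k _ hk
        simp [Function.update_of_ne hk, Pi.single_eq_of_ne hk]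
      · intro h; exact absurd (Finset.mem_univ j) h
    have : e ((1 : L) ⊗ₜ[A] b) = 0 := funext key
    exact (map_eq_zero_iff e e.injective).1 this
  · intro F hF
    apply PolLaw.MulLaw.ext
    apply Groth.Agent.Lib.PolLawExt23.ext_of_poly
    intro n
    funext x
    rw [toFun'_eq F, toFun'_eq N]
    congr 1
    rw [← sub_eq_zero]
    apply eq_zero_of_forall_prime (A := A) (M := MvPolynomial (Fin n) A)
    intro p hp
    obtain ⟨L, _, _, hflat, hpL, ⟨e⟩⟩ := exists_split d hd p hp
    refine ⟨L, inferInstance, inferInstance, hflat, hpL, ?_⟩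
    let φ : L →ₐ[A] L ⊗[A] MvPolynomial (Fin n) A := Algebra.TensorProduct.includeLeft
    let ψ : MvPolynomial (Fin n) A →ₐ[A] L ⊗[A] MvPolynomial (Fin n) A :=
      Algebra.TensorProduct.includeRight
    have h1 : val F (L ⊗[A] MvPolynomial (Fin n) A) (ψ.toLinearMap.rTensor B x) =
        val N (L ⊗[A] MvPolynomial (Fin n) A) (ψ.toLinearMap.rTensor B x) := by
      rw [val_eq_prod e F hF φ, val_N N hN, norm_of_algEquiv (rho e φ)]
    rw [val_rTensor, val_rTensor] at h1
    have : ψ (val F (MvPolynomial (Fin n) A) x - val N (MvPolynomial (Fin n) A) x) = 0 := by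
      rw [map_sub, h1, sub_self]
    exact this

end Groth.Agent.S13400
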