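import Groth.Statements.S13401
import Groth.Agent.Lib.EtaleFibre41

set_option autoImplicit false
universe u
open CategoryTheory CategoryTheory.Limits MonoidalCategory CartesianMonoidalCategory MonObj GrpObj AlgebraicGeometry
open GrpSch

namespace Groth.Agent.S13401

open Groth.Agent.Lib.EtaleFibre41

/-- Let S be a scheme and G an S-group scheme whose structure morphism is finite, flat and locally of
finite presentation (a finite locally free group scheme), and suppose that at every point s of S the
rank of G → S at s is non-zero in the residue field κ(s), i.e. the order of G is invertible on the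
base. Then G → S is étale. -/
theorem result {S : Scheme.{u}} (G : Over S) [GrpObj G]
    [IsFinite G.hom] [Flat G.hom] [LocallyOfFinitePresentation G.hom]
    (h : ∀ s : S, (Scheme.Hom.finrank G.hom s : S.residueField s) ≠ 0) : Etale G.hom := by
  apply etale_of_etale_fiberToSpecResidueField
  intro s
  have hG : GrpObj (Over.mk G.hom) := ‹GrpObj G›
  have hG' : GrpObj (Over.mk (pullback.snd G.hom (S.fromSpecResidueField s))) :=
    Over.grpObjMkPullbackSnd
  have hfin : IsFinite (pullback.snd G.hom (S.fromSpecResidueField s)) := inferInstance
  refine etale_of_grpObj_of_finrank_ne_zero (K := S.residueField s)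
    (pullback.snd G.hom (S.fromSpecResidueField s)) ?_
  intro y
  rw [Scheme.Hom.finrank_pullback_snd]
  have hy : S.fromSpecResidueField s y = s := Scheme.fromSpecResidueField_apply s y
  rw [hy]
  exact h s

end Groth.Agent.S13401
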